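import Mathlib

/-! Element-level access to homology of complexes of modules. -/

universe v u
open CategoryTheory CategoryTheory.Limits HomologicalComplex

namespace Groth.Agent.H6

namespace HE

variable {R : Type u} [Ring R] {ι : Type*} {c : ComplexShape ι}
  (K : HomologicalComplex (ModuleCat.{v} R) c) (i j k : ι)

theorem iCycles_injective : Function.Injective (K.iCycles j) :=
  (ModuleCat.mono_iff_injective _).mp inferInstance

theorem homologyπ_surjective : Function.Surjective (K.homologyπ j) :=
  (ModuleCat.epi_iff_surjective _).mp inferInstance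

theorem exists_cycle (hk : c.next j = k) (z : K.X j) (hz : K.d j k z = 0) :
    ∃ y : K.cycles j, K.iCycles j y = z := by
  let S : ShortComplex (ModuleCat.{v} R) := ShortComplex.mk (K.iCycles j) (K.d j k) (by simp)
  have hS : S.Exact := ShortComplex.exact_of_f_is_kernel S (K.cyclesIsKernel j k hk)
  exact (ShortComplex.moduleCat_exact_iff S).mp hS z hz

theorem homologyπ_eq_zero_iff (hi : c.prev j = i) (y : K.cycles j) :
    K.homologyπ j y = 0 ↔ ∃ b : K.X i, K.toCycles i j b = y := by
  let S : ShortComplex (ModuleCat.{v} R) :=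
    ShortComplex.mk (K.toCycles i j) (K.homologyπ j) (by simp)
  have hS : S.Exact := ShortComplex.exact_of_g_is_cokernel S (K.homologyIsCokernel i j hi)
  constructor
  · intro h
    exact (ShortComplex.moduleCat_exact_iff S).mp hS y h
  · rintro ⟨b, rfl⟩
    exact ShortComplex.moduleCat_zero_apply S b

theorem iCycles_toCycles (b : K.X i) : K.iCycles j (K.toCycles i j b) = K.d i j b := by
  rw [← ModuleCat.comp_apply, K.toCycles_i]

/-- The cycle with given underlying element. -/
noncomputable def cycleOf (hk : c.next j = k) (z : K.X j) (hz : K.d j k z = 0) : K.cycles j :=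
  (exists_cycle K j k hk z hz).choose

@[simp] theorem iCycles_cycleOf (hk : c.next j = k) (z : K.X j) (hz : K.d j k z = 0) :
    K.iCycles j (cycleOf K j k hk z hz) = z :=
  (exists_cycle K j k hk z hz).choose_spec

theorem cycleOf_iCycles (hk : c.next j = k) (y : K.cycles j) :
    cycleOf K j k hk (K.iCycles j y) (by rw [← ModuleCat.comp_apply, K.iCycles_d]; rfl) = y :=
  iCycles_injective K j (iCycles_cycleOf K j k hk _ _)

/-- The homology class of a cycle element. -/
noncomputable def classOf (hk : c.next j = k) (z : K.X j) (hz : K.d j k z = 0) : K.homology j :=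
  K.homologyπ j (cycleOf K j k hk z hz)

theorem classOf_surjective (hk : c.next j = k) (h : K.homology j) :
    ∃ (z : K.X j) (hz : K.d j k z = 0), classOf K j k hk z hz = h := by
  obtain ⟨y, rfl⟩ := homologyπ_surjective K j h
  refine ⟨K.iCycles j y, by rw [← ModuleCat.comp_apply, K.iCycles_d]; rfl, ?_⟩
  unfold classOf
  rw [cycleOf_iCycles]

theorem classOf_add (hk : c.next j = k) (z z' : K.X j) (hz : K.d j k z = 0)
    (hz' : K.d j k z' = 0) :
    classOf K j k hk (z + z') (by rw [map_add, hz, hz', add_zero]) =
      classOf K j k hk z hz + classOf K j k hk z' hz' := by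
  unfold classOf
  refine (congrArg _ ?_).trans (map_add _ _ _)
  apply iCycles_injective K j
  refine (iCycles_cycleOf K j k hk _ _).trans ?_
  refine Eq.trans ?_ (map_add _ _ _).symm
  rw [iCycles_cycleOf, iCycles_cycleOf]

theorem classOf_smul (hk : c.next j = k) (r : R) (z : K.X j) (hz : K.d j k z = 0) :
    classOf K j k hk (r • z) (by rw [map_smul, hz, smul_zero]) =
      r • classOf K j k hk z hz := by
  unfold classOf
  refine (congrArg _ ?_).trans (map_smul _ _ _)
  apply iCycles_injective K j
  refine (iCycles_cycleOf K j k hk _ _).trans ?_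
  refine Eq.trans ?_ (map_smul _ _ _).symm
  rw [iCycles_cycleOf]

theorem classOf_eq_zero_iff (hi : c.prev j = i) (hk : c.next j = k) (z : K.X j)
    (hz : K.d j k z = 0) :
    classOf K j k hk z hz = 0 ↔ ∃ b : K.X i, K.d i j b = z := by
  unfold classOf
  rw [homologyπ_eq_zero_iff K i j hi]
  constructor
  · rintro ⟨b, hb⟩
    refine ⟨b, ?_⟩
    rw [← iCycles_toCycles, hb, iCycles_cycleOf]
  · rintro ⟨b, hb⟩
    refine ⟨b, ?_⟩
    apply iCycles_injective K j
    rw [iCycles_toCycles, hb, iCycles_cycleOf]

variable {K} in
theorem homologyMap_classOf {K' : HomologicalComplex (ModuleCat.{v} R) c} (φ : K ⟶ K')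
    (hk : c.next j = k) (z : K.X j) (hz : K.d j k z = 0) :
    homologyMap φ j (classOf K j k hk z hz) =
      classOf K' j k hk (φ.f j z) (by
        rw [← ModuleCat.comp_apply, φ.comm, ModuleCat.comp_apply, hz, map_zero]) := by
  unfold classOf
  rw [← ModuleCat.comp_apply, homologyπ_naturality, ModuleCat.comp_apply]
  congr 1
  apply iCycles_injective K' j
  rw [← ModuleCat.comp_apply, cyclesMap_i, ModuleCat.comp_apply]
  simp

end HE

end Groth.Agent.H6
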