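import Mathlib
import Groth.Prelude.Def_W4bk5brsh16IT

/-! Concrete description of the ideal transform `D_I(M) = colim_n Hom(I^n, M)`. -/

universe u
open CategoryTheory CategoryTheory.Limits Opposite

namespace Groth.Agent.H6

namespace DT

variable {R : Type u} [CommRing R]

open LocCoh

instance forgetPreservesNat (F : ℕᵒᵖᵒᵖ ⥤ ModuleCat.{u} R) :
    PreservesColimit F (forget (ModuleCat.{u} R)) := by
  have : PreservesFilteredColimitsOfSize.{0, 0} (forget (ModuleCat.{u} R)) :=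
    preservesSmallestFilteredColimits_of_preservesFilteredColimits.{u, u} _
  infer_instance

/-- The evaluated diagram `n ↦ Hom(I^n, M)`. -/
noncomputable abbrev evalDiagram (I : Ideal R) (M : ModuleCat.{u} R) : ℕᵒᵖᵒᵖ ⥤ ModuleCat.{u} R :=
  transformDiagram I ⋙ (evaluation _ _).obj M

/-- The evaluated colimit cocone. -/
noncomputable def evalCocone (I : Ideal R) (M : ModuleCat.{u} R) : Cocone (evalDiagram I M) :=
  ((evaluation _ _).obj M).mapCocone (colimit.cocone (transformDiagram I))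

noncomputable def evalIsColimit (I : Ideal R) (M : ModuleCat.{u} R) : IsColimit (evalCocone I M) :=
  isColimitOfPreserves ((evaluation _ _).obj M) (colimit.isColimit (transformDiagram I))

/-- The canonical map `Hom(I^n, M) → D_I(M)` at the level of `ModuleCat` homs. -/
noncomputable def ιHom (I : Ideal R) (M : ModuleCat.{u} R) (n : ℕ) :
    (ModuleCat.of R ↥(I ^ n) ⟶ M) →ₗ[R] (idealTransform I).obj M :=
  ((colimit.ι (transformDiagram I) (op (op n))).app M).hom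

theorem ιHom_surj (I : Ideal R) (M : ModuleCat.{u} R) (x : (idealTransform I).obj M) :
    ∃ n f, ιHom I M n f = x := by
  obtain ⟨j, y, hy⟩ := Concrete.isColimit_exists_rep (evalDiagram I M) (evalIsColimit I M) x
  exact ⟨j.unop.unop, y, hy⟩

/-- restriction `Hom(I^n, M) → Hom(I^m, M)` for `n ≤ m`. -/
noncomputable def restr (I : Ideal R) (M : ModuleCat.{u} R) {n m : ℕ} (h : n ≤ m)
    (f : ModuleCat.of R ↥(I ^ n) ⟶ M) : ModuleCat.of R ↥(I ^ m) ⟶ M :=
  ModuleCat.ofHom (Submodule.inclusion (Ideal.pow_le_pow_right h)) ≫ f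

theorem ιHom_eq_iff (I : Ideal R) (M : ModuleCat.{u} R) {n m : ℕ}
    (f : ModuleCat.of R ↥(I ^ n) ⟶ M) (g : ModuleCat.of R ↥(I ^ m) ⟶ M) :
    ιHom I M n f = ιHom I M m g ↔
      ∃ (k : ℕ) (hn : n ≤ k) (hm : m ≤ k), restr I M hn f = restr I M hm g := by
  have := Concrete.isColimit_rep_eq_iff_exists (evalDiagram I M) (evalIsColimit I M)
    (i := op (op n)) (j := op (op m)) f g
  refine this.trans ?_
  constructor
  · rintro ⟨k, a, b, hab⟩
    exact ⟨k.unop.unop, a.unop.unop.le, b.unop.unop.le, hab⟩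
  · rintro ⟨k, hn, hm, h⟩
    exact ⟨op (op k), (homOfLE hn).op.op, (homOfLE hm).op.op, h⟩

section Lin

variable (I : Ideal R) (M : Type u) [AddCommGroup M] [Module R M]

/-- The canonical map `Hom_R(I^n, M) → D_I(M)` on linear maps. -/
noncomputable def ι (n : ℕ) : (↥(I ^ n) →ₗ[R] M) →ₗ[R] DT I M :=
  ιHom I (ModuleCat.of R M) n ∘ₗ
    (ModuleCat.homLinearEquiv (S := R) (M := ModuleCat.of R ↥(I ^ n))
      (N := ModuleCat.of R M)).symm.toLinearMap

variable {I M}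

theorem ι_surj (x : DT I M) : ∃ n f, ι I M n f = x := by
  obtain ⟨n, f, hf⟩ := ιHom_surj I (ModuleCat.of R M) x
  exact ⟨n, f.hom, hf⟩

theorem ι_eq_iff {n m : ℕ} (f : ↥(I ^ n) →ₗ[R] M) (g : ↥(I ^ m) →ₗ[R] M) :
    ι I M n f = ι I M m g ↔ ∃ (k : ℕ) (hn : n ≤ k) (hm : m ≤ k),
      f ∘ₗ Submodule.inclusion (Ideal.pow_le_pow_right hn) =
        g ∘ₗ Submodule.inclusion (Ideal.pow_le_pow_right hm) := by
  refine (ιHom_eq_iff I (ModuleCat.of R M) _ _).trans ?_
  constructor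
  · rintro ⟨k, hn, hm, h⟩
    refine ⟨k, hn, hm, ?_⟩
    have := congrArg ModuleCat.Hom.hom h
    exact this
  · rintro ⟨k, hn, hm, h⟩
    refine ⟨k, hn, hm, ?_⟩
    apply ModuleCat.hom_ext
    exact h

theorem ι_restrict {n m : ℕ} (h : n ≤ m) (f : ↥(I ^ n) →ₗ[R] M) :
    ι I M m (f ∘ₗ Submodule.inclusion (Ideal.pow_le_pow_right h)) = ι I M n f := by
  rw [ι_eq_iff]
  exact ⟨m, le_rfl, h, by ext; rfl⟩

theorem ι_eq_zero_iff {n : ℕ} (f : ↥(I ^ n) →ₗ[R] M) :
    ι I M n f = 0 ↔ ∃ (k : ℕ) (hn : n ≤ k),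
      f ∘ₗ Submodule.inclusion (Ideal.pow_le_pow_right hn) = 0 := by
  rw [← (ι I M n).map_zero, ι_eq_iff]
  constructor
  · rintro ⟨k, hn, _, h⟩
    exact ⟨k, hn, by rw [h]; rfl⟩
  · rintro ⟨k, hn, h⟩
    exact ⟨k, hn, hn, by rw [h]; rfl⟩

/-- The `smul` map `m ↦ (r ↦ r • m)` restricted to `I^n`. -/
def smulMap (I : Ideal R) (M : Type u) [AddCommGroup M] [Module R M] (n : ℕ) :
    M →ₗ[R] (↥(I ^ n) →ₗ[R] M) :=
  ((LinearMap.lsmul R M).domRestrict (I ^ n)).flip

@[simp] theorem smulMap_apply (n : ℕ) (m : M) (r : ↥(I ^ n)) : smulMap I M n m r = (r : R) • m := rfl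

theorem toDT_eq (m : M) : toDT I M m = ι I M 0 (smulMap I M 0 m) := rfl

theorem toDT_eq' (n : ℕ) (m : M) : toDT I M m = ι I M n (smulMap I M n m) := by
  rw [toDT_eq, ← ι_restrict (Nat.zero_le n)]
  rfl

theorem map_ι {M' : Type u} [AddCommGroup M'] [Module R M'] (e : M →ₗ[R] M') (n : ℕ)
    (f : ↥(I ^ n) →ₗ[R] M) :
    ((idealTransform I).map (ModuleCat.ofHom e)).hom (ι I M n f) = ι I M' n (e ∘ₗ f) := by
  have h := (colimit.ι (transformDiagram I) (op (op n))).naturality (ModuleCat.ofHom e)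
  have h2 := congrArg (fun φ => φ.hom (ModuleCat.ofHom f)) h
  exact h2.symm

theorem DTmapOfLE_ι {J : Ideal R} (h : I ≤ J) (n : ℕ) (f : ↥(J ^ n) →ₗ[R] M) :
    ((DTmapOfLE h).app (ModuleCat.of R M)).hom (ι J M n f) =
      ι I M n (f ∘ₗ Submodule.inclusion (Ideal.pow_right_mono h n)) := by
  have h1 : colimit.ι (transformDiagram J) (op (op n)) ≫ DTmapOfLE h =
      (Functor.whiskerRight (NatTrans.op (Functor.whiskerRight (powLE h) idealModFunctor))
        (linearCoyoneda R (ModuleCat.{u} R))).app (op (op n)) ≫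
        colimit.ι (transformDiagram I) (op (op n)) := by
    unfold DTmapOfLE
    exact ι_colimMap _ _
  have h2 := congrArg (fun φ => (φ.app (ModuleCat.of R M)).hom (ModuleCat.ofHom f)) h1
  exact h2

end Lin

section Lift

variable {I : Ideal R} {M : Type u} [AddCommGroup M] [Module R M]

theorem ι_add_of_le {n m : ℕ} (h : n ≤ m) (f : ↥(I ^ n) →ₗ[R] M) (g : ↥(I ^ m) →ₗ[R] M) :
    ι I M n f + ι I M m g =
      ι I M m (f ∘ₗ Submodule.inclusion (Ideal.pow_le_pow_right h) + g) := by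
  rw [map_add, ι_restrict h]

/-- Define an additive map out of `D_I(M)` on representatives. -/
theorem exists_lift_addMonoidHom {A : Type*} [AddCommGroup A]
    (φ : ∀ n : ℕ, (↥(I ^ n) →ₗ[R] M) →+ A)
    (hφ : ∀ (n m : ℕ) (h : n ≤ m) (f : ↥(I ^ n) →ₗ[R] M),
      φ m (f ∘ₗ Submodule.inclusion (Ideal.pow_le_pow_right h)) = φ n f) :
    ∃ Φ : LocCoh.DT I M →+ A, ∀ n f, Φ (ι I M n f) = φ n f := by
  classical
  have wd : ∀ (n m : ℕ) (f : ↥(I ^ n) →ₗ[R] M) (g : ↥(I ^ m) →ₗ[R] M),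
      ι I M n f = ι I M m g → φ n f = φ m g := by
    intro n m f g h
    obtain ⟨k, hn, hm, hk⟩ := (ι_eq_iff f g).mp h
    rw [← hφ n k hn f, ← hφ m k hm g, hk]
  choose N F hF using fun x : LocCoh.DT I M => ι_surj x
  have key : ∀ n f, φ (N (ι I M n f)) (F (ι I M n f)) = φ n f := fun n f =>
    wd _ _ _ _ (hF (ι I M n f))
  refine ⟨⟨⟨fun x => φ (N x) (F x), ?_⟩, ?_⟩, key⟩
  · have h0 : (0 : LocCoh.DT I M) = ι I M 0 0 := (map_zero _).symm
    change φ (N 0) (F 0) = 0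
    rw [h0, key, map_zero]
  · intro x y
    obtain ⟨n, f, rfl⟩ := ι_surj x
    obtain ⟨m, g, rfl⟩ := ι_surj y
    change φ (N _) (F _) = φ (N _) (F _) + φ (N _) (F _)
    rw [key n f, key m g]
    rcases le_total n m with h | h
    · rw [ι_add_of_le h, key, map_add, hφ n m h]
    · rw [add_comm (ι I M n f), ι_add_of_le h, key, map_add, hφ m n h, add_comm]

end Lift

end DT

end Groth.Agent.H6
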