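import Mathlib
import Groth.Agent.Lib.Helper6.DTLib

/-! Algebraic lemmas (uniform torsion, Artin–Rees lifting) for ideal transforms. -/

universe u
open CategoryTheory CategoryTheory.Limits Opposite

namespace Groth.Agent.H6

namespace DT

variable {R : Type u} [CommRing R]

/-- A finitely generated submodule consisting of `I`-power-torsion elements is killed by a
single power of `I`. -/
theorem exists_pow_smul_eq_zero_of_fg (I : Ideal R) {N : Type*} [AddCommGroup N] [Module R N]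
    (T : Submodule R N) (hfg : T.FG) (h : ∀ t ∈ T, ∃ n : ℕ, ∀ a ∈ I ^ n, a • t = 0) :
    ∃ n : ℕ, ∀ t ∈ T, ∀ a ∈ I ^ n, a • t = 0 := by
  classical
  obtain ⟨s, hs⟩ := hfg
  have h' : ∀ t : s, ∃ n : ℕ, ∀ a ∈ I ^ n, a • (t : N) = 0 := fun t =>
    h t (hs ▸ Submodule.subset_span t.2)
  choose n hn using h'
  refine ⟨Finset.univ.sup n, fun t ht a ha => ?_⟩
  rw [← hs] at ht
  induction ht using Submodule.span_induction with
  | mem x hx =>
    exact hn ⟨x, hx⟩ a (Ideal.pow_le_pow_right (Finset.le_sup (f := n) (Finset.mem_univ _)) ha)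
  | zero => simp
  | add x y _ _ hx hy => rw [smul_add, hx, hy, add_zero]
  | smul r x _ hx => rw [smul_comm, hx, smul_zero]

/-- If `b ∈ I^(k+n)` then `b` is a sum of products; a linear map on `I^n` vanishing on products
`a * c` (`a ∈ I^k`, `c ∈ I^n`) vanishes on `I^(k+n)`. -/
theorem eq_zero_of_forall_mul {I : Ideal R} {M : Type*} [AddCommGroup M] [Module R M] {n k : ℕ}
    (f : ↥(I ^ n) →ₗ[R] M)
    (h : ∀ a ∈ I ^ k, ∀ c : ↥(I ^ n), a • f c = 0) :
    f ∘ₗ Submodule.inclusion (Ideal.pow_le_pow_right (Nat.le_add_left n k)) = 0 := by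
  ext ⟨b, hb⟩
  simp only [LinearMap.coe_comp, Function.comp_apply, LinearMap.zero_apply]
  have hb' : b ∈ I ^ k * I ^ n := by rwa [← pow_add]
  -- generalize to a statement about elements of `I^n`
  suffices H : ∀ (b : R) (hb1 : b ∈ I ^ k * I ^ n) (hb2 : b ∈ I ^ n), f ⟨b, hb2⟩ = 0 from
    H b hb' _
  intro b hb1
  induction hb1 using Submodule.mul_induction_on' with
  | mem_mul_mem a ha c hc =>
    intro hb2
    have : (⟨a * c, hb2⟩ : ↥(I ^ n)) = a • ⟨c, hc⟩ := rfl
    rw [this, map_smul]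
    exact h a ha _
  | add x hx y hy ihx ihy =>
    intro hb2
    have hx2 : x ∈ I ^ n := Ideal.mul_le_right hx
    have hy2 : y ∈ I ^ n := Ideal.mul_le_right hy
    have : (⟨x + y, hb2⟩ : ↥(I ^ n)) = ⟨x, hx2⟩ + ⟨y, hy2⟩ := rfl
    rw [this, map_add, ihx hx2, ihy hy2, add_zero]

/-- (L2) A linear map from `I^n` into the `I`-power-torsion elements vanishes on a higher power. -/
theorem exists_restrict_eq_zero [IsNoetherianRing R] {I : Ideal R} {M : Type*} [AddCommGroup M]
    [Module R M] {n : ℕ} (f : ↥(I ^ n) →ₗ[R] M)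
    (h : ∀ c : ↥(I ^ n), ∃ k : ℕ, ∀ a ∈ I ^ k, a • f c = 0) :
    ∃ (k : ℕ) (hk : n ≤ k), f ∘ₗ Submodule.inclusion (Ideal.pow_le_pow_right hk) = 0 := by
  have hfg : (LinearMap.range f).FG := by
    rw [LinearMap.range_eq_map]
    exact Submodule.FG.map _ (IsNoetherian.noetherian _)
  obtain ⟨k, hk⟩ := exists_pow_smul_eq_zero_of_fg I (LinearMap.range f) hfg (by
    rintro _ ⟨c, rfl⟩
    exact h c)
  exact ⟨k + n, Nat.le_add_left n k,
    eq_zero_of_forall_mul f (fun a ha c => hk _ ⟨c, rfl⟩ a ha)⟩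

/-- (L1) Artin–Rees lifting: a surjection onto a finite module with `I`-power-torsion kernel has a
section over `I^m N` for some `m`. -/
theorem exists_section [IsNoetherianRing R] (I : Ideal R) {N P : Type*} [AddCommGroup N]
    [Module R N] [Module.Finite R N] [AddCommGroup P] [Module R P] (π : P →ₗ[R] N)
    (hπ : Function.Surjective π)
    (hker : ∀ p ∈ LinearMap.ker π, ∃ n : ℕ, ∀ a ∈ I ^ n, a • p = 0) :
    ∃ (m : ℕ) (s : ↥(I ^ m • (⊤ : Submodule R N)) →ₗ[R] P), ∀ x, π (s x) = x := by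
  classical
  obtain ⟨t, ht⟩ := (Module.Finite.fg_top : (⊤ : Submodule R N).FG)
  let P' : Submodule R P := Submodule.span R ((Function.surjInv hπ) '' (t : Set N))
  have hP'fg : P'.FG := Submodule.fg_span (Set.Finite.image _ t.finite_toSet)
  have hmap : P'.map π = ⊤ := by
    rw [Submodule.map_span, ← Set.image_comp]
    have : (π ∘ Function.surjInv hπ) = id := funext (Function.surjInv_eq hπ)
    rw [this, Set.image_id, ht]
  haveI : Module.Finite R P' := Module.Finite.iff_fg.mpr hP'fg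
  let π' : P' →ₗ[R] N := π ∘ₗ P'.subtype
  have hπ' : LinearMap.range π' = ⊤ := by
    rw [LinearMap.range_comp, Submodule.range_subtype, hmap]
  let T' : Submodule R P' := LinearMap.ker π'
  obtain ⟨k, hk⟩ := exists_pow_smul_eq_zero_of_fg I T' (IsNoetherian.noetherian T') (by
    intro p hp
    obtain ⟨n, hn⟩ := hker p.1 hp
    exact ⟨n, fun a ha => Subtype.ext (hn a ha)⟩)
  obtain ⟨c, hc⟩ := Ideal.exists_pow_inf_eq_pow_smul I T'
  have hinf : I ^ (c + k) • (⊤ : Submodule R P') ⊓ T' = ⊥ := by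
    rw [hc (c + k) (Nat.le_add_right c k), eq_bot_iff, Nat.add_sub_cancel_left]
    refine Submodule.smul_le.mpr ?_
    intro a ha p hp
    rw [Submodule.mem_bot]
    exact hk p hp.2 a ha
  let Q : Submodule R P' := I ^ (c + k) • ⊤
  let φ : Q →ₗ[R] N := π' ∘ₗ Q.subtype
  have hφinj : Function.Injective φ := by
    rw [← LinearMap.ker_eq_bot, eq_bot_iff]
    intro q hq
    have : (q : P') ∈ Q ⊓ T' := ⟨q.2, hq⟩
    rw [hinf] at this
    exact Subtype.ext this
  have hφrange : LinearMap.range φ = I ^ (c + k) • ⊤ := by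
    rw [LinearMap.range_comp, Submodule.range_subtype, Submodule.map_smul'', Submodule.map_top,
      hπ']
  let e := (LinearEquiv.ofInjective φ hφinj).trans (LinearEquiv.ofEq _ _ hφrange)
  refine ⟨c + k, P'.subtype ∘ₗ Q.subtype ∘ₗ e.symm.toLinearMap, fun x => ?_⟩
  have : φ (e.symm x) = x := by
    have := e.apply_symm_apply x
    exact congrArg Subtype.val this
  exact this

theorem mem_pow_smul_top {I : Ideal R} {n m : ℕ} (b : R) (hb1 : b ∈ I ^ m * I ^ n)
    (hb2 : b ∈ I ^ n) : (⟨b, hb2⟩ : ↥(I ^ n)) ∈ I ^ m • (⊤ : Submodule R ↥(I ^ n)) := by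
  induction hb1 using Submodule.mul_induction_on' with
  | mem_mul_mem a ha c hc =>
    have : (⟨a * c, hb2⟩ : ↥(I ^ n)) = a • ⟨c, hc⟩ := rfl
    rw [this]
    exact Submodule.smul_mem_smul ha Submodule.mem_top
  | add x hx y hy ihx ihy =>
    have hx2 : x ∈ I ^ n := Ideal.mul_le_right hx
    have hy2 : y ∈ I ^ n := Ideal.mul_le_right hy
    have : (⟨x + y, hb2⟩ : ↥(I ^ n)) = ⟨x, hx2⟩ + ⟨y, hy2⟩ := rfl
    rw [this]
    exact Submodule.add_mem _ (ihx hx2) (ihy hy2)

/-- Lifting of maps from `I^n` along a map `e` with `I`-power-torsion kernel, after restricting to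
a higher power. -/
theorem exists_lift [IsNoetherianRing R] {I : Ideal R} {M M' : Type*} [AddCommGroup M]
    [Module R M] [AddCommGroup M'] [Module R M'] (e : M →ₗ[R] M')
    (hker : ∀ m ∈ LinearMap.ker e, ∃ n : ℕ, ∀ a ∈ I ^ n, a • m = 0) {n : ℕ}
    (g : ↥(I ^ n) →ₗ[R] M') (hg : LinearMap.range g ≤ LinearMap.range e) :
    ∃ (k : ℕ) (hk : n ≤ k) (h : ↥(I ^ k) →ₗ[R] M),
      e ∘ₗ h = g ∘ₗ Submodule.inclusion (Ideal.pow_le_pow_right hk) := by
  let P : Submodule R (↥(I ^ n) × M) :=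
    LinearMap.eqLocus (g ∘ₗ LinearMap.fst R ↥(I ^ n) M) (e ∘ₗ LinearMap.snd R ↥(I ^ n) M)
  let π : P →ₗ[R] ↥(I ^ n) := LinearMap.fst R ↥(I ^ n) M ∘ₗ P.subtype
  have hπ : Function.Surjective π := by
    intro a
    obtain ⟨m, hm⟩ := hg ⟨a, rfl⟩
    exact ⟨⟨(a, m), by simp [P, LinearMap.mem_eqLocus, hm]⟩, rfl⟩
  haveI : Module.Finite R ↥(I ^ n) := Module.Finite.iff_fg.mpr (IsNoetherian.noetherian _)
  obtain ⟨m, s, hs⟩ := exists_section I π hπ (by
    rintro ⟨⟨a, x⟩, hp⟩ hp0
    have ha : a = 0 := hp0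
    subst ha
    have hx : x ∈ LinearMap.ker e := by
      have := hp
      simp only [P, LinearMap.mem_eqLocus, LinearMap.coe_comp, Function.comp_apply,
        LinearMap.fst_apply, LinearMap.snd_apply, map_zero] at this
      exact this.symm
    obtain ⟨j, hj⟩ := hker x hx
    exact ⟨j, fun b hb => Subtype.ext (by simp [hj b hb])⟩)
  have hle : I ^ (m + n) ≤ I ^ n := Ideal.pow_le_pow_right (Nat.le_add_left n m)
  let j : ↥(I ^ (m + n)) →ₗ[R] ↥(I ^ m • (⊤ : Submodule R ↥(I ^ n))) :=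
    LinearMap.codRestrict _ (Submodule.inclusion hle) (fun b =>
      mem_pow_smul_top b.1 (by rw [← pow_add]; exact b.2) (hle b.2))
  refine ⟨m + n, Nat.le_add_left n m,
    LinearMap.snd R ↥(I ^ n) M ∘ₗ P.subtype ∘ₗ s ∘ₗ j, ?_⟩
  ext b
  simp only [LinearMap.coe_comp, Function.comp_apply, LinearMap.snd_apply, Submodule.coe_subtype]
  have h1 := (s (j b)).2
  simp only [P, LinearMap.mem_eqLocus, LinearMap.coe_comp, Function.comp_apply,
    LinearMap.fst_apply, LinearMap.snd_apply] at h1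
  rw [← h1]
  have h2 := hs (j b)
  have h3 : ((s (j b)) : ↥(I ^ n) × M).1 = Submodule.inclusion hle b := by
    have := congrArg Subtype.val h2
    exact Subtype.ext this
  rw [h3]

/-- Core Artin–Rees consequence: in a finite module, a submodule of `I`-power-torsion elements
meets `I^m P` trivially for some `m`. -/
theorem exists_pow_smul_top_inf_eq_bot [IsNoetherianRing R] (I : Ideal R) {P : Type*}
    [AddCommGroup P] [Module R P] [Module.Finite R P] (T : Submodule R P)
    (hT : ∀ p ∈ T, ∃ n : ℕ, ∀ a ∈ I ^ n, a • p = 0) :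
    ∃ m : ℕ, I ^ m • (⊤ : Submodule R P) ⊓ T = ⊥ := by
  obtain ⟨k, hk⟩ := exists_pow_smul_eq_zero_of_fg I T (IsNoetherian.noetherian T) hT
  obtain ⟨c, hc⟩ := Ideal.exists_pow_inf_eq_pow_smul I T
  refine ⟨c + k, ?_⟩
  rw [hc (c + k) (Nat.le_add_right c k), eq_bot_iff, Nat.add_sub_cancel_left]
  refine Submodule.smul_le.mpr ?_
  intro a ha p hp
  rw [Submodule.mem_bot]
  exact hk p hp.2 a ha

/-- Variant of the lifting lemma for a finite source: `π` is injective on `I^m P` and has a section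
over `I^m N` with values in `I^m P`. -/
theorem exists_section_of_finite [IsNoetherianRing R] (I : Ideal R) {N P : Type*} [AddCommGroup N]
    [Module R N] [AddCommGroup P] [Module R P] [Module.Finite R P] (π : P →ₗ[R] N)
    (hπ : Function.Surjective π)
    (hker : ∀ p ∈ LinearMap.ker π, ∃ n : ℕ, ∀ a ∈ I ^ n, a • p = 0) :
    ∃ m : ℕ, (∀ p ∈ I ^ m • (⊤ : Submodule R P), π p = 0 → p = 0) ∧
      ∃ s : ↥(I ^ m • (⊤ : Submodule R N)) →ₗ[R] P,
        (∀ x, π (s x) = x) ∧ ∀ x, s x ∈ I ^ m • (⊤ : Submodule R P) := by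
  obtain ⟨m, hm⟩ := exists_pow_smul_top_inf_eq_bot I (LinearMap.ker π) hker
  have hinj : ∀ p ∈ I ^ m • (⊤ : Submodule R P), π p = 0 → p = 0 := by
    intro p hp h0
    have : p ∈ I ^ m • (⊤ : Submodule R P) ⊓ LinearMap.ker π := ⟨hp, h0⟩
    rw [hm] at this
    exact this
  refine ⟨m, hinj, ?_⟩
  let Q : Submodule R P := I ^ m • ⊤
  let φ : Q →ₗ[R] N := π ∘ₗ Q.subtype
  have hφinj : Function.Injective φ := by
    rw [← LinearMap.ker_eq_bot, eq_bot_iff]
    intro q hq
    exact Subtype.ext (hinj q.1 q.2 hq)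
  have hφrange : LinearMap.range φ = I ^ m • ⊤ := by
    rw [LinearMap.range_comp, Submodule.range_subtype, Submodule.map_smul'', Submodule.map_top,
      LinearMap.range_eq_top.mpr hπ]
  let e := (LinearEquiv.ofInjective φ hφinj).trans (LinearEquiv.ofEq _ _ hφrange)
  refine ⟨Q.subtype ∘ₗ e.symm.toLinearMap, fun x => ?_, fun x => (e.symm x).2⟩
  have : φ (e.symm x) = x := by
    have := e.apply_symm_apply x
    exact congrArg Subtype.val this
  exact this

end DT

end Groth.Agent.H6
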