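import Mathlib

/-! Element-level description of `ℕ`-indexed colimits of endofunctors of `ModuleCat R`,
evaluated at a module. -/

universe u
open CategoryTheory CategoryTheory.Limits Opposite

namespace Groth.Agent.H6

namespace CN

variable {R : Type u} [Ring R]

instance forgetPreservesNat' (F : ℕᵒᵖᵒᵖ ⥤ ModuleCat.{u} R) :
    PreservesColimit F (forget (ModuleCat.{u} R)) := by
  have : PreservesFilteredColimitsOfSize.{0, 0} (forget (ModuleCat.{u} R)) :=
    preservesSmallestFilteredColimits_of_preservesFilteredColimits.{u, u} _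
  infer_instance

variable (F : ℕᵒᵖᵒᵖ ⥤ ModuleCat.{u} R ⥤ ModuleCat.{u} R)

/-- The evaluated diagram. -/
noncomputable abbrev evalDiagram (M : ModuleCat.{u} R) : ℕᵒᵖᵒᵖ ⥤ ModuleCat.{u} R :=
  F ⋙ (evaluation _ _).obj M

/-- The evaluated colimit cocone. -/
noncomputable def evalCocone (M : ModuleCat.{u} R) : Cocone (evalDiagram F M) :=
  ((evaluation _ _).obj M).mapCocone (colimit.cocone F)

noncomputable def evalIsColimit (M : ModuleCat.{u} R) : IsColimit (evalCocone F M) :=
  isColimitOfPreserves ((evaluation _ _).obj M) (colimit.isColimit F)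

/-- The canonical map from the `n`-th stage. -/
noncomputable def ι (M : ModuleCat.{u} R) (n : ℕ) :
    (F.obj (op (op n))).obj M →ₗ[R] (colimit F).obj M :=
  ((colimit.ι F (op (op n))).app M).hom

/-- The transition maps. -/
noncomputable def tr (M : ModuleCat.{u} R) {n m : ℕ} (h : n ≤ m) :
    (F.obj (op (op n))).obj M →ₗ[R] (F.obj (op (op m))).obj M :=
  ((F.map (homOfLE h).op.op).app M).hom

variable {F}

theorem ι_surj {M : ModuleCat.{u} R} (x : (colimit F).obj M) : ∃ n y, ι F M n y = x := by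
  obtain ⟨j, y, hy⟩ := Concrete.isColimit_exists_rep (evalDiagram F M) (evalIsColimit F M) x
  exact ⟨j.unop.unop, y, hy⟩

theorem ι_eq_iff {M : ModuleCat.{u} R} {n m : ℕ} (x : (F.obj (op (op n))).obj M)
    (y : (F.obj (op (op m))).obj M) :
    ι F M n x = ι F M m y ↔ ∃ (k : ℕ) (hn : n ≤ k) (hm : m ≤ k), tr F M hn x = tr F M hm y := by
  have := Concrete.isColimit_rep_eq_iff_exists (evalDiagram F M) (evalIsColimit F M)
    (i := op (op n)) (j := op (op m)) x y
  refine this.trans ?_
  constructor
  · rintro ⟨k, a, b, hab⟩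
    exact ⟨k.unop.unop, a.unop.unop.le, b.unop.unop.le, hab⟩
  · rintro ⟨k, hn, hm, h⟩
    exact ⟨op (op k), (homOfLE hn).op.op, (homOfLE hm).op.op, h⟩

theorem ι_tr {M : ModuleCat.{u} R} {n m : ℕ} (h : n ≤ m) (x : (F.obj (op (op n))).obj M) :
    ι F M m (tr F M h x) = ι F M n x := by
  have h1 := colimit.w F (homOfLE h).op.op
  have h2 := congrArg (fun φ => (φ.app M).hom x) h1
  exact h2

theorem ι_eq_zero_iff {M : ModuleCat.{u} R} {n : ℕ} (x : (F.obj (op (op n))).obj M) :
    ι F M n x = 0 ↔ ∃ (k : ℕ) (hn : n ≤ k), tr F M hn x = 0 := by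
  rw [← (ι F M n).map_zero, ι_eq_iff]
  constructor
  · rintro ⟨k, hn, hm, h⟩
    exact ⟨k, hn, by rw [h, map_zero]⟩
  · rintro ⟨k, hn, h⟩
    exact ⟨k, hn, hn, by rw [h, map_zero]⟩

theorem map_ι {M M' : ModuleCat.{u} R} (g : M ⟶ M') (n : ℕ) (x : (F.obj (op (op n))).obj M) :
    ((colimit F).map g).hom (ι F M n x) = ι F M' n (((F.obj (op (op n))).map g).hom x) := by
  have h := (colimit.ι F (op (op n))).naturality g
  have h2 := congrArg (fun φ => φ.hom x) h
  exact h2.symm

/-- Descend a compatible family of linear maps to the colimit. -/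
theorem exists_lift {M : ModuleCat.{u} R} {A : Type u} [AddCommGroup A] [Module R A]
    (φ : ∀ n : ℕ, (F.obj (op (op n))).obj M →ₗ[R] A)
    (hφ : ∀ (n m : ℕ) (h : n ≤ m) (x : (F.obj (op (op n))).obj M), φ m (tr F M h x) = φ n x) :
    ∃ Φ : (colimit F).obj M →ₗ[R] A, ∀ n x, Φ (ι F M n x) = φ n x := by
  let c : Cocone (evalDiagram F M) :=
    { pt := ModuleCat.of R A
      ι :=
        { app := fun j => ModuleCat.ofHom (φ j.unop.unop)
          naturality := by
            intro j j' f
            ext x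
            simp only [Functor.const_obj_obj, Functor.const_obj_map, Category.comp_id]
            exact hφ j.unop.unop j'.unop.unop f.unop.unop.le x } }
  refine ⟨((evalIsColimit F M).desc c).hom, fun n x => ?_⟩
  have h := (evalIsColimit F M).fac c (op (op n))
  have h2 := congrArg (fun ψ => ψ.hom x) h
  exact h2

end CN

end Groth.Agent.H6
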