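import Mathlib
import Groth.Agent.Lib.Helper6.HomologyElts

/-! Comparison of Mathlib's two `Ext`s on `ModuleCat`: the "old" one
`CategoryTheory.Ext R (ModuleCat R) n` (via left derived functors) and the "new" one
`CategoryTheory.Abelian.Ext` (via the derived category). -/

universe u
open CategoryTheory CategoryTheory.Limits Opposite HomologicalComplex

namespace Groth.Agent.H6

namespace ExtCmp

section Op
variable {V : Type*} [Category V] [Abelian V] {ι : Type*} {c : ComplexShape ι}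

/-- unop of a morphism of complexes -/
abbrev unopMap {L L' : HomologicalComplex Vᵒᵖ c} (φ : L ⟶ L') : L'.unop ⟶ L.unop :=
  (unopFunctor V c).map φ.op

lemma homologyUnop_hom_naturality {L L' : HomologicalComplex Vᵒᵖ c} (φ : L ⟶ L') (i : ι) :
    homologyMap (unopMap φ) i ≫ (L.homologyUnop i).hom =
      (L'.homologyUnop i).hom ≫ (homologyMap φ i).unop := by
  have h := homologyOp_hom_naturality ((unopFunctor V c).map φ.op) i
  have h2 := congrArg Quiver.Hom.unop h
  exact h2.symm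

lemma homologyUnop_inv_naturality {L L' : HomologicalComplex Vᵒᵖ c} (φ : L ⟶ L') (i : ι) :
    (homologyMap φ i).unop ≫ (L.homologyUnop i).inv =
      (L'.homologyUnop i).inv ≫ homologyMap (unopMap φ) i := by
  rw [← cancel_mono (L.homologyUnop i).hom, Category.assoc, Category.assoc, Iso.inv_hom_id,
    Category.comp_id, homologyUnop_hom_naturality, Iso.inv_hom_id_assoc]
end Op

variable {R : Type u} [CommRing R] {X X' Y Y' : ModuleCat.{u} R} (P : ProjectiveResolution X)
  (P' : ProjectiveResolution X') (n : ℕ)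

/-- The old Ext module. -/
noncomputable abbrev oldExt (n : ℕ) (X Y : ModuleCat.{u} R) : ModuleCat.{u} R :=
  ((Ext R (ModuleCat.{u} R) n).obj (op X)).obj Y

abbrev FY (Y : ModuleCat.{u} R) : ModuleCat.{u} R ⥤ (ModuleCat.{u} R)ᵒᵖ :=
  ((linearYoneda R (ModuleCat.{u} R)).obj Y).rightOp

abbrev αg (g : Y ⟶ Y') : FY Y' ⟶ FY Y :=
  NatTrans.rightOp ((linearYoneda R (ModuleCat.{u} R)).map g)

noncomputable abbrev LY (Y : ModuleCat.{u} R) : ChainComplex (ModuleCat.{u} R)ᵒᵖ ℕ :=
  ((FY Y).mapHomologicalComplex _).obj P.complex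

/-- The Hom complex `Hom(P_•, Y)`. -/
noncomputable abbrev KK (Y : ModuleCat.{u} R) : CochainComplex (ModuleCat.{u} R) ℕ :=
  P.complex.linearYonedaObj R Y

/-- postcomposition map of Hom complexes -/
noncomputable abbrev postMap (g : Y ⟶ Y') : KK P Y ⟶ KK P Y' :=
  unopMap ((NatTrans.mapHomologicalComplex (αg g) _).app P.complex)

/-- precomposition map of Hom complexes -/
noncomputable abbrev preMap (ℓ : P'.complex ⟶ P.complex) (Y : ModuleCat.{u} R) :
    KK P Y ⟶ KK P' Y :=
  unopMap (((FY Y).mapHomologicalComplex _).map ℓ)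

set_option backward.isDefEq.respectTransparency false in
lemma isoExt_hom_naturality_right (g : Y ⟶ Y') :
    ((Ext R (ModuleCat.{u} R) n).obj (op X)).map g ≫ (P.isoExt n Y').hom =
      (P.isoExt n Y).hom ≫ homologyMap (postMap P g) n := by
  change ((NatTrans.leftDerived (αg g) n).app X).unop ≫
      ((P.isoLeftDerivedObj (FY Y') n).inv.unop ≫ ((LY P Y').homologyUnop n).inv) =
    ((P.isoLeftDerivedObj (FY Y) n).inv.unop ≫ ((LY P Y).homologyUnop n).inv) ≫
      homologyMap (postMap P g) n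
  rw [ProjectiveResolution.leftDerived_app_eq (αg g) P n]
  have hid : (P.isoLeftDerivedObj (FY Y') n).hom.unop ≫ (P.isoLeftDerivedObj (FY Y') n).inv.unop
      = 𝟙 _ := by rw [← unop_comp, Iso.inv_hom_id, unop_id]
  simp only [unop_comp, Category.assoc]
  rw [reassoc_of% hid]
  congr 1
  exact homologyUnop_inv_naturality _ n

set_option backward.isDefEq.respectTransparency false in
lemma isoExt_hom_naturality_left (φ : X' ⟶ X) (ℓ : P'.complex ⟶ P.complex)
    (comm : ℓ.f 0 ≫ P.π.f 0 = P'.π.f 0 ≫ φ) (Y : ModuleCat.{u} R) :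
    ((Ext R (ModuleCat.{u} R) n).map φ.op).app Y ≫ (P'.isoExt n Y).hom =
      (P.isoExt n Y).hom ≫ homologyMap (preMap P P' ℓ Y) n := by
  change (((FY Y).leftDerived n).map φ).unop ≫
      ((P'.isoLeftDerivedObj (FY Y) n).inv.unop ≫ ((LY P' Y).homologyUnop n).inv) =
    ((P.isoLeftDerivedObj (FY Y) n).inv.unop ≫ ((LY P Y).homologyUnop n).inv) ≫
      homologyMap (preMap P P' ℓ Y) n
  have h := ProjectiveResolution.isoLeftDerivedObj_hom_naturality φ P' P ℓ comm (FY Y) n
  have h' : ((FY Y).leftDerived n).map φ = (P'.isoLeftDerivedObj (FY Y) n).hom ≫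
      ((FY Y).mapHomologicalComplex _ ⋙ HomologicalComplex.homologyFunctor _ _ n).map ℓ ≫
        (P.isoLeftDerivedObj (FY Y) n).inv := by
    rw [← Category.assoc, ← h, Category.assoc, Iso.hom_inv_id, Category.comp_id]
  rw [h']
  have hid : (P'.isoLeftDerivedObj (FY Y) n).hom.unop ≫ (P'.isoLeftDerivedObj (FY Y) n).inv.unop
      = 𝟙 _ := by rw [← unop_comp, Iso.inv_hom_id, unop_id]
  simp only [unop_comp, Category.assoc]
  rw [reassoc_of% hid]
  congr 1
  exact homologyUnop_inv_naturality _ n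

/-! ### Classes of cocycles in the old Ext -/

/-- The class in the old `Ext` of a cocycle `f : P_n ⟶ Y`. -/
noncomputable def oldMk (f : P.complex.X n ⟶ Y) (hf : P.complex.d (n + 1) n ≫ f = 0) :
    oldExt n X Y :=
  (P.isoExt n Y).inv (HE.classOf (KK P Y) n (n + 1) (by simp) f hf)

theorem oldMk_surjective (x : oldExt n X Y) :
    ∃ (f : P.complex.X n ⟶ Y) (hf : P.complex.d (n + 1) n ≫ f = 0), oldMk P n f hf = x := by
  obtain ⟨z, hz, h⟩ := HE.classOf_surjective (KK P Y) n (n + 1) (by simp) ((P.isoExt n Y).hom x)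
  refine ⟨z, hz, ?_⟩
  unfold oldMk
  rw [h]
  exact Iso.hom_inv_id_apply (P.isoExt n Y) x

theorem oldMk_add (f g : P.complex.X n ⟶ Y) (hf : P.complex.d (n + 1) n ≫ f = 0)
    (hg : P.complex.d (n + 1) n ≫ g = 0) :
    oldMk P n (f + g) (by rw [Preadditive.comp_add, hf, hg, add_zero]) =
      oldMk P n f hf + oldMk P n g hg := by
  unfold oldMk
  rw [← map_add]
  congr 1
  exact HE.classOf_add (KK P Y) n (n + 1) (by simp) f g hf hg

theorem oldMk_smul (r : R) (f : P.complex.X n ⟶ Y) (hf : P.complex.d (n + 1) n ≫ f = 0) :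
    oldMk P n (r • f) (by rw [Linear.comp_smul, hf, smul_zero]) = r • oldMk P n f hf := by
  unfold oldMk
  rw [← map_smul]
  congr 1
  exact HE.classOf_smul (KK P Y) n (n + 1) (by simp) r f hf

theorem oldMk_eq_zero_iff_succ (f : P.complex.X (n + 1) ⟶ Y)
    (hf : P.complex.d (n + 1 + 1) (n + 1) ≫ f = 0) :
    oldMk P (n + 1) f hf = 0 ↔ ∃ g : P.complex.X n ⟶ Y, P.complex.d (n + 1) n ≫ g = f := by
  unfold oldMk
  rw [← (P.isoExt (n + 1) Y).inv.hom.map_zero]
  constructor
  · intro h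
    have h2 := congrArg (P.isoExt (n + 1) Y).hom h
    rw [Iso.inv_hom_id_apply, Iso.inv_hom_id_apply] at h2
    exact (HE.classOf_eq_zero_iff (KK P Y) n (n + 1) (n + 1 + 1) (by simp) (by simp) f hf).mp h2
  · intro h
    congr 1
    exact (HE.classOf_eq_zero_iff (KK P Y) n (n + 1) (n + 1 + 1) (by simp) (by simp) f hf).mpr h

theorem oldMk_eq_zero_iff_zero (f : P.complex.X 0 ⟶ Y)
    (hf : P.complex.d (0 + 1) 0 ≫ f = 0) :
    oldMk P 0 f hf = 0 ↔ f = 0 := by
  unfold oldMk
  rw [← (P.isoExt 0 Y).inv.hom.map_zero]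
  have key := HE.classOf_eq_zero_iff (KK P Y) 0 0 (0 + 1) (by simp) (by simp) f hf
  have hd : (KK P Y).d 0 0 = 0 := (KK P Y).shape _ _ (by simp)
  constructor
  · intro h
    have h2 := congrArg (P.isoExt 0 Y).hom h
    rw [Iso.inv_hom_id_apply, Iso.inv_hom_id_apply] at h2
    obtain ⟨b, hb⟩ := key.mp h2
    rw [hd] at hb
    exact hb.symm
  · intro h
    congr 1
    rw [key]
    exact ⟨0, by rw [hd, h]; rfl⟩

theorem postMap_f_apply (g : Y ⟶ Y') (f : P.complex.X n ⟶ Y) :
    (postMap P g).f n (show (KK P Y).X n from f) = (show (KK P Y').X n from f ≫ g) := rfl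

theorem preMap_f_apply (ℓ : P'.complex ⟶ P.complex) (f : P.complex.X n ⟶ Y) :
    (preMap P P' ℓ Y).f n (show (KK P Y).X n from f) =
      (show (KK P' Y).X n from ℓ.f n ≫ f) := rfl

theorem map_oldMk (g : Y ⟶ Y') (f : P.complex.X n ⟶ Y)
    (hf : P.complex.d (n + 1) n ≫ f = 0) :
    ((Ext R (ModuleCat.{u} R) n).obj (op X)).map g (oldMk P n f hf) =
      oldMk P n (f ≫ g) (by rw [← Category.assoc, hf, zero_comp]) := by
  have h := isoExt_hom_naturality_right P n g
  have h2 : ((Ext R (ModuleCat.{u} R) n).obj (op X)).map g =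
      (P.isoExt n Y).hom ≫ homologyMap (postMap P g) n ≫ (P.isoExt n Y').inv := by
    rw [← Category.assoc, ← h, Category.assoc, Iso.hom_inv_id, Category.comp_id]
  rw [h2]
  unfold oldMk
  rw [ModuleCat.comp_apply, ModuleCat.comp_apply, Iso.inv_hom_id_apply,
    HE.homologyMap_classOf]
  rfl

theorem mapLeft_oldMk (φ : X' ⟶ X) (ℓ : P'.complex ⟶ P.complex)
    (comm : ℓ.f 0 ≫ P.π.f 0 = P'.π.f 0 ≫ φ) (f : P.complex.X n ⟶ Y)
    (hf : P.complex.d (n + 1) n ≫ f = 0) :
    ((Ext R (ModuleCat.{u} R) n).map φ.op).app Y (oldMk P n f hf) =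
      oldMk P' n (ℓ.f n ≫ f) (by rw [← Category.assoc, ← ℓ.comm, Category.assoc, hf, comp_zero]) := by
  have h := isoExt_hom_naturality_left P P' n φ ℓ comm Y
  have h2 : ((Ext R (ModuleCat.{u} R) n).map φ.op).app Y =
      (P.isoExt n Y).hom ≫ homologyMap (preMap P P' ℓ Y) n ≫ (P'.isoExt n Y).inv := by
    rw [← Category.assoc, ← h, Category.assoc, Iso.hom_inv_id, Category.comp_id]
  rw [h2]
  unfold oldMk
  rw [ModuleCat.comp_apply, ModuleCat.comp_apply, Iso.inv_hom_id_apply,
    HE.homologyMap_classOf]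
  rfl

/-! ### The new Ext side -/

open CategoryTheory.Abelian

theorem extMk_eq_zero_iff_zero (f : P.complex.X 0 ⟶ Y) (hf : P.complex.d (0 + 1) 0 ≫ f = 0) :
    P.extMk f (0 + 1) rfl hf = 0 ↔ f = 0 := by
  constructor
  · intro h
    rw [← P.extEquivCohomologyClass.apply_eq_iff_eq,
      ProjectiveResolution.extEquivCohomologyClass_extMk,
      ProjectiveResolution.extEquivCohomologyClass_zero,
      CochainComplex.HomComplex.CohomologyClass.mk_eq_zero_iff,
      CochainComplex.HomComplex.Cocycle.toSingleMk_mem_coboundaries_iff _ _ _ _ _ 1 (by lia)] at h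
    obtain ⟨g, hg⟩ := h
    have hz : IsZero (P.cochainComplex.X 1) :=
      CochainComplex.isZero_of_isStrictlyLE P.cochainComplex 0 1 (by lia)
    rw [hz.eq_of_src g 0, comp_zero] at hg
    rw [← cancel_epi (P.cochainComplexXIso (-(0 : ℕ)) 0 rfl).hom, ← hg, comp_zero]
  · rintro rfl
    exact P.extMk_zero (0 + 1) rfl

theorem smul_extMk (r : R) (f : P.complex.X n ⟶ Y) (hf : P.complex.d (n + 1) n ≫ f = 0) :
    r • P.extMk f (n + 1) rfl hf =
      P.extMk (r • f) (n + 1) rfl (by rw [Linear.comp_smul, hf, smul_zero]) := by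
  have h1 : r • P.extMk f (n + 1) rfl hf =
      (P.extMk f (n + 1) rfl hf).comp (Ext.mk₀ (r • 𝟙 Y)) (add_zero n) := by
    rw [Ext.mk₀_smul, Ext.comp_smul, Ext.comp_mk₀_id]
  rw [h1, ProjectiveResolution.extMk_comp_mk₀]
  congr 1

/-- The set of cocycles as a submodule. -/
def cocycles (Y : ModuleCat.{u} R) : Submodule R (P.complex.X n ⟶ Y) where
  carrier := {f | P.complex.d (n + 1) n ≫ f = 0}
  zero_mem' := comp_zero
  add_mem' := fun {f g} hf hg => by
    change _ = 0 at hf hg ⊢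
    rw [Preadditive.comp_add, hf, hg, add_zero]
  smul_mem' := fun r f hf => by
    change _ = 0 at hf ⊢
    rw [Linear.comp_smul, hf, smul_zero]

/-- cocycles to the old Ext, linear. -/
noncomputable def toOld (Y : ModuleCat.{u} R) : cocycles P n Y →ₗ[R] oldExt n X Y where
  toFun z := oldMk P n z.1 z.2
  map_add' z w := oldMk_add P n z.1 w.1 z.2 w.2
  map_smul' r z := oldMk_smul P n r z.1 z.2

/-- cocycles to the new Ext, linear. -/
noncomputable def toNew (Y : ModuleCat.{u} R) : cocycles P n Y →ₗ[R] Ext X Y n where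
  toFun z := P.extMk z.1 (n + 1) rfl z.2
  map_add' z w := (P.add_extMk z.1 w.1 (n + 1) rfl z.2 w.2).symm
  map_smul' r z := (smul_extMk P n r z.1 z.2).symm

theorem toOld_surjective : Function.Surjective (toOld P n Y) := by
  intro x
  obtain ⟨f, hf, h⟩ := oldMk_surjective P n x
  exact ⟨⟨f, hf⟩, h⟩

theorem toNew_surjective : Function.Surjective (toNew P n Y) := by
  intro x
  obtain ⟨f, hf, h⟩ := P.extMk_surjective x (n + 1) rfl
  exact ⟨⟨f, hf⟩, h⟩

theorem ker_toOld_eq_ker_toNew : LinearMap.ker (toOld P n Y) = LinearMap.ker (toNew P n Y) := by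
  ext z
  rw [LinearMap.mem_ker, LinearMap.mem_ker]
  change oldMk P n z.1 z.2 = 0 ↔ P.extMk z.1 (n + 1) rfl z.2 = 0
  obtain ⟨f, hf⟩ := z
  cases n with
  | zero => rw [oldMk_eq_zero_iff_zero, extMk_eq_zero_iff_zero]
  | succ n => rw [oldMk_eq_zero_iff_succ, P.extMk_eq_zero_iff f (n + 1 + 1) rfl hf n rfl]

/-- The comparison isomorphism (depending on a resolution). -/
noncomputable def cmpP (Y : ModuleCat.{u} R) : oldExt n X Y ≃ₗ[R] Ext X Y n :=
  ((LinearMap.quotKerEquivOfSurjective _ (toOld_surjective P n)).symm.trans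
    (Submodule.quotEquivOfEq _ _ (ker_toOld_eq_ker_toNew P n))).trans
      (LinearMap.quotKerEquivOfSurjective _ (toNew_surjective P n))

theorem cmpP_oldMk (f : P.complex.X n ⟶ Y) (hf : P.complex.d (n + 1) n ≫ f = 0) :
    cmpP P n Y (oldMk P n f hf) = P.extMk f (n + 1) rfl hf := by
  have h1 : (LinearMap.quotKerEquivOfSurjective _ (toOld_surjective P n (Y := Y))).symm
      (oldMk P n f hf) = Submodule.Quotient.mk ⟨f, hf⟩ := by
    rw [LinearEquiv.symm_apply_eq]
    rfl
  unfold cmpP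
  rw [LinearEquiv.trans_apply, LinearEquiv.trans_apply, h1]
  rfl

/-! ### The canonical comparison -/

/-- The comparison between old and new `Ext` over `ModuleCat`. -/
noncomputable def cmp (n : ℕ) (X Y : ModuleCat.{u} R) : oldExt n X Y ≃ₗ[R] Ext X Y n :=
  cmpP (projectiveResolution X) n Y

theorem cmp_map (n : ℕ) (X : ModuleCat.{u} R) {Y Y' : ModuleCat.{u} R} (g : Y ⟶ Y')
    (x : oldExt n X Y) :
    cmp n X Y' (((Ext R (ModuleCat.{u} R) n).obj (op X)).map g x) =
      (cmp n X Y x).comp (Ext.mk₀ g) (add_zero n) := by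
  obtain ⟨f, hf, rfl⟩ := oldMk_surjective (projectiveResolution X) n x
  unfold cmp
  rw [map_oldMk, cmpP_oldMk, cmpP_oldMk, ProjectiveResolution.extMk_comp_mk₀]

theorem cmp_mapLeft (n : ℕ) {X X' : ModuleCat.{u} R} (φ : X' ⟶ X) (Y : ModuleCat.{u} R)
    (x : oldExt n X Y) :
    cmp n X' Y (((Ext R (ModuleCat.{u} R) n).map φ.op).app Y x) =
      (Ext.mk₀ φ).comp (cmp n X Y x) (zero_add n) := by
  obtain ⟨f, hf, rfl⟩ := oldMk_surjective (projectiveResolution X) n x
  unfold cmp
  let ℓ := ProjectiveResolution.lift φ (projectiveResolution X') (projectiveResolution X)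
  have comm : ℓ.f 0 ≫ (projectiveResolution X).π.f 0 = (projectiveResolution X').π.f 0 ≫ φ :=
    ProjectiveResolution.lift_commutes_zero φ _ _
  rw [mapLeft_oldMk (projectiveResolution X) (projectiveResolution X') n φ ℓ comm f hf,
    cmpP_oldMk, cmpP_oldMk]
  have H : ProjectiveResolution.Hom (projectiveResolution X') (projectiveResolution X) φ :=
    ⟨ℓ, by rw [comm]; simp⟩
  exact (ProjectiveResolution.mk₀_comp_extMk (R := projectiveResolution X) f (n + 1) rfl hf
    (R' := projectiveResolution X') (g := φ) ⟨ℓ, by rw [comm]; simp⟩).symm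

end ExtCmp

end Groth.Agent.H6
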