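import Mathlib
import Groth.Agent.Lib.Helper6.ExtCmp
import Groth.Agent.Lib.Helper6.ColimNat

/-! Element-level description of Mathlib's local cohomology
`localCohomology I i = colim_n Ext^i(R/I^n, -)` in terms of the derived-category `Ext`. -/

set_option backward.isDefEq.respectTransparency false

universe u
open CategoryTheory CategoryTheory.Limits Opposite CategoryTheory.Abelian

namespace Groth.Agent.H6

namespace LC

variable {R : Type u} [CommRing R] (I : Ideal R) (i : ℕ)

/-- The diagram defining local cohomology. -/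
noncomputable abbrev diag : ℕᵒᵖᵒᵖ ⥤ ModuleCat.{u} R ⥤ ModuleCat.{u} R :=
  localCohomology.diagram (localCohomology.idealPowersDiagram I) i

theorem localCohomology_eq : localCohomology I i = colimit (diag I i) := rfl

/-- `R/I^n` as an object. -/
abbrev Q (n : ℕ) : ModuleCat.{u} R := ModuleCat.of R (R ⧸ I ^ n)

/-- The projection `R/I^m → R/I^n` for `n ≤ m`. -/
def proj {n m : ℕ} (h : n ≤ m) : Q I m ⟶ Q I n :=
  ModuleCat.ofHom (Submodule.mapQ _ _ LinearMap.id (Ideal.pow_le_pow_right h))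

/-- The `n`-th stage of the diagram is the old `Ext` (definitionally), hence the new one. -/
noncomputable def stageCmp (M : ModuleCat.{u} R) (n : ℕ) :
    ((diag I i).obj (op (op n))).obj M ≃ₗ[R] Ext (Q I n) M i :=
  (show ((diag I i).obj (op (op n))).obj M ≃ₗ[R] ExtCmp.oldExt i (Q I n) M from
    LinearEquiv.refl R _).trans (ExtCmp.cmp i (Q I n) M)

theorem stageCmp_tr (M : ModuleCat.{u} R) {n m : ℕ} (h : n ≤ m)
    (x : ((diag I i).obj (op (op n))).obj M) :
    stageCmp I i M m (CN.tr (diag I i) M h x) =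
      (Ext.mk₀ (proj I h)).comp (stageCmp I i M n x) (zero_add i) :=
  ExtCmp.cmp_mapLeft i (proj I h) M x

theorem stageCmp_map {M M' : ModuleCat.{u} R} (g : M ⟶ M') (n : ℕ)
    (x : ((diag I i).obj (op (op n))).obj M) :
    stageCmp I i M' n ((((diag I i).obj (op (op n))).map g).hom x) =
      (stageCmp I i M n x).comp (Ext.mk₀ g) (add_zero i) :=
  ExtCmp.cmp_map i (Q I n) g x

/-- `colimit (diag I i)` evaluated at `M` is `H^i_I(M)` (definitionally). -/
noncomputable def outEquiv (M : ModuleCat.{u} R) :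
    (colimit (diag I i)).obj M ≃ₗ[R] (localCohomology I i).obj M :=
  LinearEquiv.refl R _

theorem outEquiv_map {M M' : ModuleCat.{u} R} (g : M ⟶ M') (x : (colimit (diag I i)).obj M) :
    ((localCohomology I i).map g).hom (outEquiv I i M x) =
      outEquiv I i M' (((colimit (diag I i)).map g).hom x) := rfl

/-- The canonical map `Ext^i(R/I^n, M) → H^i_I(M)`. -/
noncomputable def lcι (M : ModuleCat.{u} R) (n : ℕ) :
    Ext (Q I n) M i →ₗ[R] (localCohomology I i).obj M :=
  (outEquiv I i M).toLinearMap ∘ₗ CN.ι (diag I i) M n ∘ₗ (stageCmp I i M n).symm.toLinearMap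

variable {I i}

theorem lcι_apply {M : ModuleCat.{u} R} {n : ℕ} (x : Ext (Q I n) M i) :
    lcι I i M n x = outEquiv I i M (CN.ι (diag I i) M n ((stageCmp I i M n).symm x)) := rfl

theorem lcι_surj {M : ModuleCat.{u} R} (x : (localCohomology I i).obj M) :
    ∃ n y, lcι I i M n y = x := by
  obtain ⟨n, y, hy⟩ := CN.ι_surj (F := diag I i) ((outEquiv I i M).symm x)
  refine ⟨n, stageCmp I i M n y, ?_⟩
  rw [lcι_apply, LinearEquiv.symm_apply_apply, hy, LinearEquiv.apply_symm_apply]

theorem stageCmp_symm_comp {M : ModuleCat.{u} R} {n m : ℕ} (h : n ≤ m) (x : Ext (Q I n) M i) :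
    CN.tr (diag I i) M h ((stageCmp I i M n).symm x) =
      (stageCmp I i M m).symm ((Ext.mk₀ (proj I h)).comp x (zero_add i)) := by
  rw [LinearEquiv.eq_symm_apply, stageCmp_tr, LinearEquiv.apply_symm_apply]

theorem lcι_eq_iff {M : ModuleCat.{u} R} {n m : ℕ} (x : Ext (Q I n) M i) (y : Ext (Q I m) M i) :
    lcι I i M n x = lcι I i M m y ↔ ∃ (k : ℕ) (hn : n ≤ k) (hm : m ≤ k),
      (Ext.mk₀ (proj I hn)).comp x (zero_add i) = (Ext.mk₀ (proj I hm)).comp y (zero_add i) := by
  rw [lcι_apply, lcι_apply, (outEquiv I i M).injective.eq_iff, CN.ι_eq_iff]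
  refine exists_congr fun k => exists_congr fun hn => exists_congr fun hm => ?_
  rw [stageCmp_symm_comp, stageCmp_symm_comp, (stageCmp I i M k).symm.injective.eq_iff]

theorem proj_refl (m : ℕ) : proj I (le_refl m) = 𝟙 _ := by
  ext x
  rfl

theorem lcι_proj {M : ModuleCat.{u} R} {n m : ℕ} (h : n ≤ m) (x : Ext (Q I n) M i) :
    lcι I i M m ((Ext.mk₀ (proj I h)).comp x (zero_add i)) = lcι I i M n x := by
  rw [lcι_eq_iff]
  refine ⟨m, le_rfl, h, ?_⟩
  rw [proj_refl, Ext.mk₀_id_comp]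

theorem lcι_eq_zero_iff {M : ModuleCat.{u} R} {n : ℕ} (x : Ext (Q I n) M i) :
    lcι I i M n x = 0 ↔ ∃ (k : ℕ) (hn : n ≤ k), (Ext.mk₀ (proj I hn)).comp x (zero_add i) = 0 := by
  rw [← (lcι I i M n).map_zero, lcι_eq_iff]
  constructor
  · rintro ⟨k, hn, hm, h⟩
    exact ⟨k, hn, by rw [h, Ext.comp_zero]⟩
  · rintro ⟨k, hn, h⟩
    exact ⟨k, hn, hn, by rw [h, Ext.comp_zero]⟩

theorem map_lcι {M M' : ModuleCat.{u} R} (g : M ⟶ M') (n : ℕ) (x : Ext (Q I n) M i) :
    ((localCohomology I i).map g).hom (lcι I i M n x) =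
      lcι I i M' n (x.comp (Ext.mk₀ g) (add_zero i)) := by
  rw [lcι_apply, lcι_apply, outEquiv_map, CN.map_ι]
  congr 2
  rw [LinearEquiv.eq_symm_apply, stageCmp_map, LinearEquiv.apply_symm_apply]

end LC

end Groth.Agent.H6
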