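import Mathlib
import Groth.Agent.Lib.Helper6.LCLib

/-! Long exact sequence and basic vanishing for local cohomology. -/

set_option backward.isDefEq.respectTransparency false

universe u
open CategoryTheory CategoryTheory.Limits Opposite CategoryTheory.Abelian

namespace Groth.Agent.H6

namespace LC

variable {R : Type u} [CommRing R] {I : Ideal R} {i : ℕ}

/-- Descend a compatible family of linear maps on `Ext^i(R/I^n, M)` to `H^i_I(M)`. -/
theorem exists_lift {M : ModuleCat.{u} R} {A : Type u} [AddCommGroup A] [Module R A]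
    (φ : ∀ n : ℕ, Ext (Q I n) M i →ₗ[R] A)
    (hφ : ∀ (n m : ℕ) (h : n ≤ m) (x : Ext (Q I n) M i),
      φ m ((Ext.mk₀ (proj I h)).comp x (zero_add i)) = φ n x) :
    ∃ Φ : (localCohomology I i).obj M →ₗ[R] A, ∀ n x, Φ (lcι I i M n x) = φ n x := by
  obtain ⟨Φ, hΦ⟩ := CN.exists_lift (F := diag I i) (M := M)
    (fun n => φ n ∘ₗ (stageCmp I i M n).toLinearMap) (by
      intro n m h x
      simp only [LinearMap.coe_comp, LinearEquiv.coe_coe, Function.comp_apply]
      rw [stageCmp_tr, hφ])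
  refine ⟨Φ ∘ₗ (outEquiv I i M).symm.toLinearMap, fun n x => ?_⟩
  simp only [LinearMap.coe_comp, LinearEquiv.coe_coe, Function.comp_apply]
  rw [lcι_apply, LinearEquiv.symm_apply_apply, hΦ]
  simp

theorem proj_comp_assoc {M M' : ModuleCat.{u} R} {n m : ℕ} (h : n ≤ m) {a b c : ℕ}
    (x : Ext (Q I n) M a) (y : Ext M M' b) (hc : a + b = c) :
    (Ext.mk₀ (proj I h)).comp (x.comp y hc) (zero_add c) =
      ((Ext.mk₀ (proj I h)).comp x (zero_add a)).comp y hc := by
  rw [Ext.comp_assoc _ _ _ (zero_add a) hc (by omega)]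

section LES

variable {S : ShortComplex (ModuleCat.{u} R)} (hS : S.ShortExact)

/-- The family defining the connecting homomorphism. -/
noncomputable def δfam (I : Ideal R) (i : ℕ) (n : ℕ) :
    Ext (Q I n) S.X₃ i →ₗ[R] (localCohomology I (i + 1)).obj S.X₁ :=
  lcι I (i + 1) S.X₁ n ∘ₗ (hS.extClass.postcompOfLinear R (Q I n) rfl)

theorem δfam_apply (n : ℕ) (x : Ext (Q I n) S.X₃ i) :
    δfam hS I i n x = lcι I (i + 1) S.X₁ n (x.comp hS.extClass rfl) := rfl

theorem δfam_compat (n m : ℕ) (h : n ≤ m) (x : Ext (Q I n) S.X₃ i) :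
    δfam hS I i m ((Ext.mk₀ (proj I h)).comp x (zero_add i)) = δfam hS I i n x := by
  rw [δfam_apply, δfam_apply, ← proj_comp_assoc, lcι_proj]

/-- The connecting homomorphism of local cohomology. -/
noncomputable def δ (I : Ideal R) (i : ℕ) :
    (localCohomology I i).obj S.X₃ →ₗ[R] (localCohomology I (i + 1)).obj S.X₁ :=
  (exists_lift (I := I) (i := i) (M := S.X₃) (δfam hS I i) (δfam_compat hS)).choose

theorem δ_lcι (n : ℕ) (x : Ext (Q I n) S.X₃ i) :
    δ hS I i (lcι I i S.X₃ n x) = lcι I (i + 1) S.X₁ n (x.comp hS.extClass rfl) :=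
  (exists_lift (I := I) (i := i) (M := S.X₃) (δfam hS I i) (δfam_compat hS)).choose_spec n x

include hS in
/-- Exactness at the middle term. -/
theorem exact₂ (y : (localCohomology I i).obj S.X₂)
    (hy : ((localCohomology I i).map S.g).hom y = 0) :
    ∃ x : (localCohomology I i).obj S.X₁, ((localCohomology I i).map S.f).hom x = y := by
  obtain ⟨n, x₂, rfl⟩ := lcι_surj y
  rw [map_lcι, lcι_eq_zero_iff] at hy
  obtain ⟨k, hk, h0⟩ := hy
  rw [proj_comp_assoc] at h0
  obtain ⟨x₁, hx₁⟩ := Ext.covariant_sequence_exact₂ (Q I k) hS _ h0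
  refine ⟨lcι I i S.X₁ k x₁, ?_⟩
  rw [map_lcι, hx₁, lcι_proj]

theorem map_comp_map_eq_zero (x : (localCohomology I i).obj S.X₁) :
    ((localCohomology I i).map S.g).hom (((localCohomology I i).map S.f).hom x) = 0 := by
  rw [← ModuleCat.comp_apply, ← Functor.map_comp, S.zero]
  obtain ⟨n, x₁, rfl⟩ := lcι_surj x
  rw [map_lcι, Ext.mk₀_zero, Ext.comp_zero, map_zero]

/-- Exactness at `H^i(X₃)`. -/
theorem exact₃ (z : (localCohomology I i).obj S.X₃) (hz : δ hS I i z = 0) :
    ∃ y : (localCohomology I i).obj S.X₂, ((localCohomology I i).map S.g).hom y = z := by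
  obtain ⟨n, x₃, rfl⟩ := lcι_surj z
  rw [δ_lcι, lcι_eq_zero_iff] at hz
  obtain ⟨k, hk, h0⟩ := hz
  rw [proj_comp_assoc] at h0
  obtain ⟨x₂, hx₂⟩ := Ext.covariant_sequence_exact₃ (Q I k) hS _ rfl h0
  refine ⟨lcι I i S.X₂ k x₂, ?_⟩
  rw [map_lcι, hx₂, lcι_proj]

theorem δ_map (y : (localCohomology I i).obj S.X₂) :
    δ hS I i (((localCohomology I i).map S.g).hom y) = 0 := by
  obtain ⟨n, x₂, rfl⟩ := lcι_surj y
  rw [map_lcι, δ_lcι, Ext.comp_assoc_of_second_deg_zero, hS.comp_extClass, Ext.comp_zero,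
    map_zero]

/-- Exactness at `H^{i+1}(X₁)`. -/
theorem exact₁ (x : (localCohomology I (i + 1)).obj S.X₁)
    (hx : ((localCohomology I (i + 1)).map S.f).hom x = 0) :
    ∃ z : (localCohomology I i).obj S.X₃, δ hS I i z = x := by
  obtain ⟨n, x₁, rfl⟩ := lcι_surj x
  rw [map_lcι, lcι_eq_zero_iff] at hx
  obtain ⟨k, hk, h0⟩ := hx
  rw [proj_comp_assoc] at h0
  obtain ⟨x₃, hx₃⟩ := Ext.covariant_sequence_exact₁ (Q I k) hS _ h0 rfl
  refine ⟨lcι I i S.X₃ k x₃, ?_⟩
  rw [δ_lcι, hx₃, lcι_proj]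

theorem map_δ (z : (localCohomology I i).obj S.X₃) :
    ((localCohomology I (i + 1)).map S.f).hom (δ hS I i z) = 0 := by
  obtain ⟨n, x₃, rfl⟩ := lcι_surj z
  rw [δ_lcι, map_lcι, Ext.comp_assoc_of_third_deg_zero, hS.extClass_comp, Ext.comp_zero,
    map_zero]

end LES

/-- Local cohomology vanishes on injectives in positive degrees. -/
theorem subsingleton_of_injective (E : ModuleCat.{u} R) [Injective E] (i : ℕ) :
    Subsingleton ((localCohomology I (i + 1)).obj E) := by
  refine ⟨fun x y => ?_⟩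
  have h0 : ∀ z : (localCohomology I (i + 1)).obj E, z = 0 := by
    intro z
    obtain ⟨n, w, rfl⟩ := lcι_surj z
    rw [Ext.eq_zero_of_injective w, map_zero]
  rw [h0 x, h0 y]

end LC

end Groth.Agent.H6
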