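import Mathlib
import Groth.Agent.Lib.Helper6.LCExact
import Groth.Prelude.Def_DRing3

/-! Degree zero local cohomology is the torsion functor. -/

set_option backward.isDefEq.respectTransparency false

universe u
open CategoryTheory CategoryTheory.Limits Opposite CategoryTheory.Abelian

namespace Groth.Agent.H6

namespace LC

variable {R : Type u} [CommRing R] {I : Ideal R}

/-- The class of `1` in `R/I^n`. -/
abbrev one (I : Ideal R) (n : ℕ) : Q I n := (Submodule.Quotient.mk (1 : R) : R ⧸ I ^ n)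

theorem proj_one {n m : ℕ} (h : n ≤ m) : (proj I h).hom (one I m) = one I n := rfl

/-- Evaluation at `1` on `Ext^0(R/I^n, M)`. -/
noncomputable def ev (M : ModuleCat.{u} R) (n : ℕ) : Ext (Q I n) M 0 →ₗ[R] M where
  toFun x := (Ext.linearEquiv₀ (R := R) x).hom (one I n)
  map_add' x y := by simp
  map_smul' r x := by simp

theorem ev_mk₀ {M : ModuleCat.{u} R} {n : ℕ} (f : Q I n ⟶ M) :
    ev (I := I) M n (Ext.mk₀ f) = f.hom (one I n) := by
  change (Ext.linearEquiv₀ (R := R) (Ext.mk₀ f)).hom (one I n) = _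
  have : Ext.linearEquiv₀ (R := R) (Ext.mk₀ f) = f := by
    apply (Ext.linearEquiv₀ (R := R)).symm.injective
    simp
  rw [this]

theorem exists_mk₀ {X Y : ModuleCat.{u} R} (x : Ext X Y 0) : ∃ f : X ⟶ Y, Ext.mk₀ f = x :=
  ⟨Ext.linearEquiv₀ (R := R) x, Ext.mk₀_linearEquiv₀_apply x⟩

theorem ev_compat (M : ModuleCat.{u} R) (n m : ℕ) (h : n ≤ m) (x : Ext (Q I n) M 0) :
    ev (I := I) M m ((Ext.mk₀ (proj I h)).comp x (zero_add 0)) = ev M n x := by
  obtain ⟨f, rfl⟩ := exists_mk₀ x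
  rw [Ext.mk₀_comp_mk₀, ev_mk₀, ev_mk₀]
  rfl

/-- The map `H^0_I(M) → M`. -/
noncomputable def zeroToSelf (I : Ideal R) (M : ModuleCat.{u} R) :
    (localCohomology I 0).obj M →ₗ[R] M :=
  (exists_lift (I := I) (i := 0) (M := M) (ev M) (ev_compat M)).choose

theorem zeroToSelf_lcι (M : ModuleCat.{u} R) (n : ℕ) (x : Ext (Q I n) M 0) :
    zeroToSelf I M (lcι I 0 M n x) = ev M n x :=
  (exists_lift (I := I) (i := 0) (M := M) (ev M) (ev_compat M)).choose_spec n x

theorem hom_ext_one {M : ModuleCat.{u} R} {n : ℕ} (f g : Q I n ⟶ M)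
    (h : f.hom (one I n) = g.hom (one I n)) : f = g := by
  ext
  exact h

theorem zeroToSelf_injective (M : ModuleCat.{u} R) : Function.Injective (zeroToSelf I M) := by
  rw [← LinearMap.ker_eq_bot, eq_bot_iff]
  intro z hz
  rw [LinearMap.mem_ker] at hz
  obtain ⟨n, x, rfl⟩ := lcι_surj z
  obtain ⟨f, rfl⟩ := exists_mk₀ x
  rw [zeroToSelf_lcι, ev_mk₀] at hz
  have : f = 0 := hom_ext_one f 0 (by rw [hz]; rfl)
  rw [Submodule.mem_bot, this, Ext.mk₀_zero, map_zero]

theorem zeroToSelf_mem (M : ModuleCat.{u} R) (z : (localCohomology I 0).obj M) :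
    zeroToSelf I M z ∈ DRing.torsionSub I M := by
  obtain ⟨n, x, rfl⟩ := lcι_surj z
  obtain ⟨f, rfl⟩ := exists_mk₀ x
  rw [zeroToSelf_lcι, ev_mk₀]
  refine ⟨n, fun a ha => ?_⟩
  rw [← map_smul]
  have : a • one I n = 0 := by
    rw [← Submodule.Quotient.mk_smul, smul_eq_mul, mul_one]
    exact (Submodule.Quotient.mk_eq_zero _).mpr ha
  rw [this, map_zero]

theorem exists_of_mem_torsionSub (M : ModuleCat.{u} R) (m : M) (hm : m ∈ DRing.torsionSub I M) :
    ∃ z : (localCohomology I 0).obj M, zeroToSelf I M z = m := by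
  obtain ⟨n, hn⟩ := hm
  let f : Q I n ⟶ M := ModuleCat.ofHom ((I ^ n).liftQ (LinearMap.toSpanSingleton R M m) (by
    intro a ha
    rw [LinearMap.mem_ker, LinearMap.toSpanSingleton_apply]
    exact hn a ha))
  refine ⟨lcι I 0 M n (Ext.mk₀ f), ?_⟩
  rw [zeroToSelf_lcι, ev_mk₀]
  change (I ^ n).liftQ (LinearMap.toSpanSingleton R M m) _ (Submodule.Quotient.mk 1) = m
  rw [Submodule.liftQ_apply, LinearMap.toSpanSingleton_apply, one_smul]

/-- `H^0_I(M) ≃ Γ_I(M)`. -/
noncomputable def zeroEquiv (I : Ideal R) (M : ModuleCat.{u} R) :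
    (localCohomology I 0).obj M ≃ₗ[R] DRing.torsionSub I M :=
  LinearEquiv.ofBijective
    (LinearMap.codRestrict (DRing.torsionSub I M) (zeroToSelf I M) (zeroToSelf_mem M))
    ⟨fun a b h => zeroToSelf_injective M (congrArg Subtype.val h),
     fun m => by
      obtain ⟨z, hz⟩ := exists_of_mem_torsionSub M m.1 m.2
      exact ⟨z, Subtype.ext hz⟩⟩

theorem zeroToSelf_naturality {M M' : ModuleCat.{u} R} (g : M ⟶ M')
    (z : (localCohomology I 0).obj M) :
    zeroToSelf I M' (((localCohomology I 0).map g).hom z) = g.hom (zeroToSelf I M z) := by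
  obtain ⟨n, x, rfl⟩ := lcι_surj z
  obtain ⟨f, rfl⟩ := exists_mk₀ x
  rw [map_lcι, zeroToSelf_lcι, zeroToSelf_lcι, Ext.mk₀_comp_mk₀, ev_mk₀, ev_mk₀]
  rfl

end LC

end Groth.Agent.H6
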