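import Mathlib
import Groth.Prelude.Def_DRing3
import Groth.Agent.Lib.Helper6.DTAlg
import Groth.Agent.Lib.Helper6.LCExact
import Groth.Agent.Lib.Helper6.LCZero

/-! `Γ_I(E)` is injective for `E` injective over a Noetherian ring; vanishing of higher local
cohomology of torsion modules. -/

universe u
open CategoryTheory CategoryTheory.Limits Opposite

namespace Groth.Agent.H6

namespace LC

variable {R : Type u} [CommRing R]

/-- Artin–Rees consequence: `I^n ⊓ J ≤ I^m * J` for `n ≫ 0`. -/
theorem exists_pow_inf_le [IsNoetherianRing R] (I J : Ideal R) (m : ℕ) :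
    ∃ n : ℕ, I ^ n ⊓ J ≤ I ^ m * J := by
  obtain ⟨k, hk⟩ := Ideal.exists_pow_inf_eq_pow_smul I (M := R) J
  refine ⟨m + k, ?_⟩
  have h := hk (m + k) (Nat.le_add_left _ _)
  rw [Nat.add_sub_cancel] at h
  intro x hx
  have hx' : x ∈ (I ^ (m + k) • (⊤ : Submodule R R) ⊓ J : Submodule R R) := by
    refine ⟨?_, hx.2⟩
    simpa using hx.1
  rw [h] at hx'
  have : I ^ m • (I ^ k • (⊤ : Submodule R R) ⊓ J) ≤ I ^ m * J := by
    rw [← smul_eq_mul]
    exact Submodule.smul_mono le_rfl inf_le_right
  exact this hx'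

/-- Over a Noetherian ring, the `I`-power torsion of an injective module is injective. -/
theorem torsionSub_injective [IsNoetherianRing R] (I : Ideal R) (E : Type u) [AddCommGroup E]
    [Module R E] [Module.Injective R E] : Module.Injective R (DRing.torsionSub I E) := by
  refine Module.Baer.injective ?_
  intro J g
  -- uniform power killing the image of `g`
  obtain ⟨m, hm⟩ : ∃ m : ℕ, ∀ x : J, ∀ a ∈ I ^ m, a • ((g x : DRing.torsionSub I E) : E) = 0 := by
    have hfg : (LinearMap.range ((DRing.torsionSub I E).subtype ∘ₗ g)).FG := by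
      rw [LinearMap.range_eq_map]
      exact Submodule.FG.map _ (IsNoetherian.noetherian (⊤ : Submodule R J))
    obtain ⟨n, hn⟩ := DT.exists_pow_smul_eq_zero_of_fg I _ hfg (by
      rintro _ ⟨x, rfl⟩
      exact (g x).2)
    exact ⟨n, fun x a ha => hn _ ⟨x, rfl⟩ a ha⟩
  obtain ⟨n, hn⟩ := exists_pow_inf_le I J m
  -- `g` kills `I^n ⊓ J`
  let K : Submodule R J := Submodule.comap (Submodule.subtype J) (I ^ n : Ideal R)
  have hK : K ≤ LinearMap.ker ((DRing.torsionSub I E).subtype ∘ₗ g) := by
    rintro ⟨x, hxJ⟩ hx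
    have hx1 : x ∈ I ^ m * J := hn ⟨hx, hxJ⟩
    rw [LinearMap.mem_ker]
    suffices H : ∀ (x : R) (h1 : x ∈ I ^ m * J) (h2 : x ∈ J),
        ((DRing.torsionSub I E).subtype ∘ₗ g) ⟨x, h2⟩ = 0 from H x hx1 hxJ
    intro x h1
    induction h1 using Submodule.mul_induction_on' with
    | mem_mul_mem a ha c hc =>
      intro h2
      have : (⟨a * c, h2⟩ : J) = a • ⟨c, hc⟩ := rfl
      rw [this, map_smul]
      exact hm ⟨c, hc⟩ a ha
    | add x hx y hy ihx ihy =>
      intro h2
      have hx2 : x ∈ J := Ideal.mul_le_right hx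
      have hy2 : y ∈ J := Ideal.mul_le_right hy
      have : (⟨x + y, h2⟩ : J) = ⟨x, hx2⟩ + ⟨y, hy2⟩ := rfl
      rw [this, map_add, ihx hx2, ihy hy2, add_zero]
  let gbar : (J ⧸ K) →ₗ[R] E := K.liftQ ((DRing.torsionSub I E).subtype ∘ₗ g) hK
  let f : (J ⧸ K) →ₗ[R] (R ⧸ (I ^ n : Ideal R)) := K.mapQ (I ^ n : Ideal R) (Submodule.subtype J) le_rfl
  have hf : Function.Injective f := by
    rw [← LinearMap.ker_eq_bot, Submodule.ker_mapQ]
    exact Submodule.mkQ_map_self K
  obtain ⟨h, hh⟩ := Module.Injective.extension_property R E _ _ f hf gbar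
  -- the extension to `R`
  let g' : R →ₗ[R] E := h ∘ₗ (Submodule.mkQ (I ^ n : Ideal R))
  have hg'mem : ∀ r : R, g' r ∈ DRing.torsionSub I E := by
    intro r
    refine ⟨n, fun a ha => ?_⟩
    rw [← map_smul]
    change h (Submodule.mkQ (I ^ n : Ideal R) (a • r)) = 0
    have : Submodule.mkQ (I ^ n : Ideal R) (a • r) = 0 := by
      rw [Submodule.mkQ_apply, Submodule.Quotient.mk_eq_zero, smul_eq_mul]
      exact Ideal.mul_mem_right _ _ ha
    rw [this, map_zero]
  refine ⟨g'.codRestrict _ hg'mem, fun x hx => ?_⟩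
  apply Subtype.ext
  change h (Submodule.mkQ (I ^ n : Ideal R) x) = (g ⟨x, hx⟩ : E)
  have h1 : Submodule.mkQ (I ^ n : Ideal R) x = f (K.mkQ ⟨x, hx⟩) := rfl
  rw [h1]
  have h2 := LinearMap.congr_fun hh (K.mkQ ⟨x, hx⟩)
  rw [LinearMap.comp_apply] at h2
  rw [h2]
  rfl

/-- Every torsion module embeds in a torsion injective module with torsion cokernel. -/
theorem exists_torsion_injective_ses [IsNoetherianRing R] (I : Ideal R) (T : ModuleCat.{u} R)
    (hT : ∀ t : T, t ∈ DRing.torsionSub I T) :
    ∃ (E C : ModuleCat.{u} R) (f : T ⟶ E) (g : E ⟶ C) (w : f ≫ g = 0),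
      (ShortComplex.mk f g w).ShortExact ∧ Injective E ∧
      (∀ e : E, e ∈ DRing.torsionSub I E) ∧ (∀ c : C, c ∈ DRing.torsionSub I C) := by
  let E' : ModuleCat.{u} R := Injective.under T
  have hinj : Injective (ModuleCat.of R E') := (inferInstance : Injective (Injective.under T))
  have : Module.Injective R E' := Module.injective_module_of_injective_object R E'
  have := torsionSub_injective I E'
  let f₀ : T →ₗ[R] DRing.torsionSub I E' :=
    LinearMap.codRestrict _ (Injective.ι T).hom
      (fun t => DRing.map_mem_torsionSub I (Injective.ι T).hom (hT t))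
  have hf₀ : Function.Injective f₀ := by
    intro a b hab
    have := congrArg Subtype.val hab
    exact (ModuleCat.mono_iff_injective (Injective.ι T)).mp inferInstance this
  let g₀ : DRing.torsionSub I E' →ₗ[R] (DRing.torsionSub I E' ⧸ LinearMap.range f₀) :=
    Submodule.mkQ _
  have hE : ∀ e : DRing.torsionSub I E', e ∈ DRing.torsionSub I (DRing.torsionSub I E') := by
    rintro ⟨e, n, hn⟩
    exact ⟨n, fun a ha => Subtype.ext (hn a ha)⟩
  refine ⟨ModuleCat.of R (DRing.torsionSub I E'),
    ModuleCat.of R (DRing.torsionSub I E' ⧸ LinearMap.range f₀),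
    ModuleCat.ofHom f₀, ModuleCat.ofHom g₀, ?_, ?_, ?_, hE, ?_⟩
  · ext t
    change g₀ (f₀ t) = 0
    exact (Submodule.Quotient.mk_eq_zero _).mpr ⟨t, rfl⟩
  · refine ModuleCat.shortComplex_shortExact _ ?_ hf₀ (Submodule.mkQ_surjective _)
    intro e
    change g₀ e = 0 ↔ e ∈ Set.range f₀
    rw [Submodule.mkQ_apply, Submodule.Quotient.mk_eq_zero]
    rfl
  · exact Module.injective_object_of_injective_module R _
  · intro c
    obtain ⟨e, rfl⟩ := Submodule.mkQ_surjective _ c
    exact DRing.map_mem_torsionSub I _ (hE e)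

/-- Higher local cohomology of an `I`-power torsion module vanishes (Noetherian ring). -/
theorem subsingleton_of_torsion [IsNoetherianRing R] (I : Ideal R) (i : ℕ) :
    ∀ (T : ModuleCat.{u} R) (_ : ∀ t : T, t ∈ DRing.torsionSub I T),
      Subsingleton ((localCohomology I (i + 1)).obj T) := by
  induction i with
  | zero =>
    intro T hT
    obtain ⟨E, C, f, g, w, hS, hE, hEt, hCt⟩ := exists_torsion_injective_ses I T hT
    have := subsingleton_of_injective (I := I) E 0
    refine ⟨fun x y => ?_⟩
    have h0 : ∀ z : (localCohomology I (0 + 1)).obj T, z = 0 := by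
      intro x
      obtain ⟨z, rfl⟩ := exact₁ hS (I := I) (i := 0) x (Subsingleton.elim _ _)
      -- lift `z` to `H^0(E)`
      obtain ⟨e, he⟩ := hS.moduleCat_surjective_g (zeroToSelf I C z)
      obtain ⟨y, hy⟩ := exists_of_mem_torsionSub (I := I) E e (hEt e)
      have : ((localCohomology I 0).map g).hom y = z := by
        apply zeroToSelf_injective
        rw [zeroToSelf_naturality, hy]
        exact he
      rw [← this]
      exact δ_map hS y
    rw [h0 x, h0 y]
  | succ i ih =>
    intro T hT
    obtain ⟨E, C, f, g, w, hS, hE, hEt, hCt⟩ := exists_torsion_injective_ses I T hT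
    have := subsingleton_of_injective (I := I) E (i + 1)
    have := ih C hCt
    refine ⟨fun x y => ?_⟩
    have h0 : ∀ z : (localCohomology I (i + 1 + 1)).obj T, z = 0 := by
      intro x
      obtain ⟨z, rfl⟩ := exact₁ hS (I := I) (i := i + 1) x (Subsingleton.elim _ _)
      rw [Subsingleton.elim z 0, map_zero]
    rw [h0 x, h0 y]

section Bij

variable {I : Ideal R} {S : ShortComplex (ModuleCat.{u} R)} (hS : S.ShortExact)

include hS in
theorem map_g_bijective (i : ℕ) (h1 : Subsingleton ((localCohomology I i).obj S.X₁))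
    (h2 : Subsingleton ((localCohomology I (i + 1)).obj S.X₁)) :
    Function.Bijective ((localCohomology I i).map S.g).hom := by
  constructor
  · rw [injective_iff_map_eq_zero]
    intro y hy
    obtain ⟨x, rfl⟩ := exact₂ hS y hy
    rw [Subsingleton.elim x 0, map_zero]
  · intro z
    exact exact₃ hS z (Subsingleton.elim _ _)

include hS in
theorem map_f_bijective (i : ℕ) (h1 : Subsingleton ((localCohomology I i).obj S.X₃))
    (h2 : Subsingleton ((localCohomology I (i + 1)).obj S.X₃)) :
    Function.Bijective ((localCohomology I (i + 1)).map S.f).hom := by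
  constructor
  · rw [injective_iff_map_eq_zero]
    intro x hx
    obtain ⟨z, rfl⟩ := exact₁ hS x hx
    rw [Subsingleton.elim z 0, map_zero]
  · intro y
    exact exact₂ hS y (Subsingleton.elim _ _)

end Bij

/-- The torsion submodule is torsion. -/
theorem torsionSub_isTorsion (I : Ideal R) (N : Type u) [AddCommGroup N] [Module R N]
    (t : DRing.torsionSub I N) : t ∈ DRing.torsionSub I (DRing.torsionSub I N) := by
  obtain ⟨t, n, hn⟩ := t
  exact ⟨n, fun a ha => Subtype.ext (hn a ha)⟩

/-- The short exact sequence `0 → Γ_I(N) → N → N/Γ_I(N) → 0`. -/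
theorem torsionSES_shortExact (I : Ideal R) (N : Type u) [AddCommGroup N] [Module R N] :
    (ShortComplex.mk (ModuleCat.ofHom (DRing.torsionSub I N).subtype)
      (ModuleCat.ofHom (DRing.torsionSub I N).mkQ)
      (by ext x; exact (Submodule.Quotient.mk_eq_zero _).mpr x.2)).ShortExact := by
  refine ModuleCat.shortComplex_shortExact _ ?_ (Submodule.injective_subtype _)
    (Submodule.mkQ_surjective _)
  intro r
  change Submodule.mkQ _ r = 0 ↔ r ∈ Set.range (Submodule.subtype _)
  rw [Submodule.mkQ_apply, Submodule.Quotient.mk_eq_zero]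
  exact ⟨fun h => ⟨⟨r, h⟩, rfl⟩, fun ⟨x, hx⟩ => hx ▸ x.2⟩

/-- `H^i_I(N) → H^i_I(N/Γ_I(N))` is bijective for `i > 0`. -/
theorem map_mkQ_torsionSub_bijective [IsNoetherianRing R] (I : Ideal R) (N : Type u)
    [AddCommGroup N] [Module R N] (i : ℕ) :
    Function.Bijective
      ((localCohomology I (i + 1)).map (ModuleCat.ofHom (DRing.torsionSub I N).mkQ)).hom :=
  map_g_bijective (torsionSES_shortExact I N) (i + 1)
    (subsingleton_of_torsion I i (ModuleCat.of R (DRing.torsionSub I N))
      (torsionSub_isTorsion I N))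
    (subsingleton_of_torsion I (i + 1) (ModuleCat.of R (DRing.torsionSub I N))
      (torsionSub_isTorsion I N))

/-- The short exact sequence `0 → p → N → N/p → 0` of a submodule. -/
theorem subSES_shortExact {N : Type u} [AddCommGroup N] [Module R N] (p : Submodule R N) :
    (ShortComplex.mk (ModuleCat.ofHom p.subtype) (ModuleCat.ofHom p.mkQ)
      (by ext x; exact (Submodule.Quotient.mk_eq_zero _).mpr x.2)).ShortExact := by
  refine ModuleCat.shortComplex_shortExact _ ?_ (Submodule.injective_subtype _)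
    (Submodule.mkQ_surjective _)
  intro r
  change Submodule.mkQ _ r = 0 ↔ r ∈ Set.range (Submodule.subtype _)
  rw [Submodule.mkQ_apply, Submodule.Quotient.mk_eq_zero]
  exact ⟨fun h => ⟨⟨r, h⟩, rfl⟩, fun ⟨x, hx⟩ => hx ▸ x.2⟩

/-- A linear map with torsion kernel and torsion cokernel induces bijections on `H^i_I`,
`i ≥ 2`. -/
theorem map_bijective_of_torsion [IsNoetherianRing R] (I : Ideal R) {M N : Type u}
    [AddCommGroup M] [Module R M] [AddCommGroup N] [Module R N] (e : M →ₗ[R] N)
    (hker : LinearMap.ker e ≤ DRing.torsionSub I M)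
    (hcoker : ∀ x : N ⧸ LinearMap.range e, x ∈ DRing.torsionSub I (N ⧸ LinearMap.range e))
    (j : ℕ) :
    Function.Bijective ((localCohomology I (j + 2)).map (ModuleCat.ofHom e)).hom := by
  have hK : ∀ t : (ModuleCat.of R (LinearMap.ker e.rangeRestrict)),
      t ∈ DRing.torsionSub I (ModuleCat.of R (LinearMap.ker e.rangeRestrict)) := by
    rintro ⟨t, ht⟩
    rw [LinearMap.ker_rangeRestrict] at ht
    obtain ⟨n, hn⟩ := hker ht
    exact ⟨n, fun a ha => Subtype.ext (hn a ha)⟩
  have h1 : Function.Bijective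
      ((localCohomology I (j + 2)).map (ModuleCat.ofHom e.rangeRestrict)).hom :=
    map_g_bijective (LinearMap.shortExact_shortComplexKer (f := e.rangeRestrict)
      e.surjective_rangeRestrict) (j + 2)
      (subsingleton_of_torsion I (j + 1) (ModuleCat.of R (LinearMap.ker e.rangeRestrict)) hK)
      (subsingleton_of_torsion I (j + 2) (ModuleCat.of R (LinearMap.ker e.rangeRestrict)) hK)
  have h2 : Function.Bijective
      ((localCohomology I (j + 1 + 1)).map (ModuleCat.ofHom (LinearMap.range e).subtype)).hom :=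
    map_f_bijective (subSES_shortExact (LinearMap.range e)) (j + 1)
      (subsingleton_of_torsion I j (ModuleCat.of R (N ⧸ LinearMap.range e)) hcoker)
      (subsingleton_of_torsion I (j + 1) (ModuleCat.of R (N ⧸ LinearMap.range e)) hcoker)
  have h3 : ModuleCat.ofHom e = ModuleCat.ofHom e.rangeRestrict ≫
      ModuleCat.ofHom (LinearMap.range e).subtype := rfl
  rw [h3, Functor.map_comp, ModuleCat.hom_comp]
  exact h2.comp h1

end LC

end Groth.Agent.H6
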