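import Mathlib

/-! Dimension theory for finite modules over semilocal Noetherian rings: systems of parameters. -/

universe u
set_option linter.style.haveILetI false
open Module Ideal PrimeSpectrum Pointwise

namespace Groth.Agent.H6

namespace SLD

variable {A : Type u} [CommRing A] [IsNoetherianRing A]
  {M : Type u} [AddCommGroup M] [Module A M] [Module.Finite A M]

omit [IsNoetherianRing A] in
/-- refined version of `supportDim_quotSMulTop_succ_le_of_notMem_minimalPrimes`: only the
non-maximal minimal primes have to be avoided, provided `dim M ≥ 1` -/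
theorem supportDim_quotSMulTop_succ_le {x : A}
    (hn : ∀ p ∈ (annihilator A M).minimalPrimes, ¬ p.IsMaximal → x ∉ p)
    (h1 : 1 ≤ supportDim A M) :
    supportDim A (QuotSMulTop x M) + 1 ≤ supportDim A M := by
  obtain ⟨l0, hl0⟩ := (Order.le_krullDim_iff (n := 1)).mp (by exact_mod_cast h1)
  nontriviality M
  nontriviality (QuotSMulTop x M)
  have : Nonempty (Module.support A M) := nonempty_support_of_nontrivial.to_subtype
  have : Nonempty (Module.support A (QuotSMulTop x M)) := nonempty_support_of_nontrivial.to_subtype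
  simp only [supportDim, Order.krullDim_eq_iSup_length]
  apply WithBot.coe_le_coe.mpr
  simp only [ENat.iSup_add, iSup_le_iff]
  intro p
  have hp := p.head.2
  simp only [support_quotSMulTop, Set.mem_inter_iff, mem_zeroLocus, Set.singleton_subset_iff] at hp
  have le : support A (QuotSMulTop x M) ⊆ support A M := by simp
  let q : LTSeries (support A M) :=
    p.map (Set.MapsTo.restrict id (support A (QuotSMulTop x M)) (support A M) le) (fun _ _ h ↦ h)
  obtain ⟨r, hrm, hr⟩ := exists_minimalPrimes_le (mem_support_iff_of_finite.mp q.head.2)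
  by_cases hmax : r.IsMaximal
  · have hlen : p.length = 0 := by
      by_contra hne
      have hpos : 0 < p.length := Nat.pos_of_ne_zero hne
      have hlt : p.head < p.last := p.strictMono (by
        rw [Fin.lt_def]; simpa using hpos)
      have h2 : r ≤ p.head.1.asIdeal := hr
      have h3 : p.head.1.asIdeal < p.last.1.asIdeal := hlt
      have h4 := hmax.eq_of_le p.head.1.2.ne_top h2
      rw [← h4] at h3
      exact h3.ne (hmax.eq_of_le p.last.1.2.ne_top h3.le)
    rw [hlen]
    refine le_trans ?_ (le_iSup _ l0)
    rw [hl0]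
    simp
  · let r : support A M := ⟨⟨r, hrm.isPrime⟩, mem_support_iff_of_finite.mpr hrm.1.2⟩
    have hr : r < q.head := lt_of_le_of_ne hr (fun h ↦ hn q.head.1.1 (by rwa [← h]) (by rwa [← h]) hp.2)
    exact le_of_eq_of_le (by simp [q]) (le_iSup _ (q.cons r hr))

variable (A M) in
/-- finite length iff dimension at most zero -/
theorem isFiniteLength_iff_supportDim_le_zero : IsFiniteLength A M ↔ supportDim A M ≤ 0 := by
  letI : Module (A ⧸ annihilator A M) M := Module.quotientAnnihilator
  haveI : IsScalarTower A (A ⧸ annihilator A M) M :=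
    (Module.isTorsionBySet_annihilator A M).isScalarTower
  have hsurj : Function.Surjective (algebraMap A (A ⧸ annihilator A M)) :=
    Ideal.Quotient.mk_surjective
  haveI : Module.Finite (A ⧸ annihilator A M) M := Module.Finite.of_restrictScalars_finite A _ M
  have hdim : supportDim A M ≤ 0 ↔ IsArtinianRing (A ⧸ annihilator A M) := by
    rw [supportDim_eq_ringKrullDim_quotient_annihilator, isArtinianRing_iff_krullDimLE_zero,
      Ring.krullDimLE_iff]
    rfl
  rw [hdim, ← Module.length_ne_top_iff, Module.length_eq_of_surjective hsurj,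
    Module.length_ne_top_iff]
  constructor
  · intro h
    rw [isArtinianRing_iff_isFiniteLength]
    obtain ⟨s, hs⟩ := (Module.Finite.fg_top : (⊤ : Submodule (A ⧸ annihilator A M) M).FG)
    let f : (A ⧸ annihilator A M) →ₗ[A ⧸ annihilator A M] (s → M) :=
      LinearMap.pi (fun i => LinearMap.toSpanSingleton (A ⧸ annihilator A M) M i.1)
    have hf : Function.Injective f := by
      rw [← LinearMap.ker_eq_bot, Submodule.eq_bot_iff]
      intro b hb
      rw [LinearMap.mem_ker] at hb
      have hbi : ∀ i : s, b • (i.1 : M) = 0 := fun i => congrFun hb i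
      have hall : ∀ m : M, b • m = 0 := by
        intro m
        have hm : m ∈ Submodule.span (A ⧸ annihilator A M) (s : Set M) := by rw [hs]; trivial
        induction hm using Submodule.span_induction with
        | mem x hx => exact hbi ⟨x, hx⟩
        | zero => exact smul_zero b
        | add x y _ _ hx hy => rw [smul_add, hx, hy, add_zero]
        | smul c x _ hx => rw [smul_comm, hx, smul_zero]
      obtain ⟨a, rfl⟩ := Ideal.Quotient.mk_surjective b
      rw [Ideal.Quotient.eq_zero_iff_mem, Module.mem_annihilator]
      intro m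
      have := hall m
      rwa [← Ideal.Quotient.algebraMap_eq, algebraMap_smul] at this
    have hpi : IsFiniteLength (A ⧸ annihilator A M) (s → M) := by
      rw [isFiniteLength_iff_isNoetherian_isArtinian] at h ⊢
      obtain ⟨h1, h2⟩ := h
      exact ⟨inferInstance, inferInstance⟩
    exact hpi.of_injective hf
  · intro h
    rw [isFiniteLength_iff_isNoetherian_isArtinian]
    exact ⟨inferInstance, inferInstance⟩

omit [IsNoetherianRing A] in
theorem finite_setOf_isMaximal [Finite (MaximalSpectrum A)] :
    {I : Ideal A | I.IsMaximal}.Finite := by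
  have : {I : Ideal A | I.IsMaximal} = Set.range (fun m : MaximalSpectrum A => m.asIdeal) := by
    ext I
    constructor
    · intro hI
      exact ⟨⟨I, hI⟩, rfl⟩
    · rintro ⟨m, rfl⟩
      exact m.isMaximal
  rw [this]
  exact Set.finite_range _

omit [IsNoetherianRing A] in
/-- in a semilocal ring, a prime containing the Jacobson radical is maximal -/
theorem isMaximal_of_jacobson_le [Finite (MaximalSpectrum A)] (p : Ideal A) [hp : p.IsPrime]
    (h : Ring.jacobson A ≤ p) : p.IsMaximal := by
  classical
  have hfin := finite_setOf_isMaximal (A := A)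
  have h1 : Ring.jacobson A = hfin.toFinset.inf id := by
    rw [Ring.jacobson_eq_sInf_isMaximal]
    apply le_antisymm
    · apply Finset.le_inf
      intro m hm
      exact sInf_le (hfin.mem_toFinset.mp hm)
    · apply le_sInf
      intro m hm
      exact Finset.inf_le (f := id) (hfin.mem_toFinset.mpr hm)
  rw [h1, hp.inf_le'] at h
  obtain ⟨m, hm, hle⟩ := h
  have hmax : m.IsMaximal := hfin.mem_toFinset.mp hm
  rw [← hmax.eq_of_le hp.ne_top hle]
  exact hmax

variable (M) in
/-- prime avoidance: an element of the Jacobson radical outside the non-maximal minimal primes -/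
theorem exists_mem_jacobson_notMem [Finite (MaximalSpectrum A)] :
    ∃ x ∈ Ring.jacobson A, ∀ p ∈ (annihilator A M).minimalPrimes, ¬ p.IsMaximal → x ∉ p := by
  classical
  have hfin : {p ∈ (annihilator A M).minimalPrimes | ¬ p.IsMaximal}.Finite :=
    ((annihilator A M).finite_minimalPrimes_of_isNoetherianRing A).subset (fun p hp => hp.1)
  by_contra hcon
  push_neg at hcon
  have hsub : ((Ring.jacobson A : Ideal A) : Set A) ⊆ ⋃ p ∈ (hfin.toFinset : Set (Ideal A)), (id p : Ideal A) := by
    intro x hx
    obtain ⟨p, hp, hnm, hxp⟩ := hcon x hx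
    exact Set.mem_biUnion (by simpa using ⟨hp, hnm⟩) hxp
  rw [Ideal.subset_union_prime (R := A) (s := hfin.toFinset) (f := id) ⊤ ⊤ (by
    intro p hp _ _
    exact ((hfin.mem_toFinset.mp hp).1).1.1)] at hsub
  obtain ⟨p, hp, hle⟩ := hsub
  have hp' := hfin.mem_toFinset.mp hp
  haveI : p.IsPrime := hp'.1.1.1
  exact hp'.2 (isMaximal_of_jacobson_le p hle)

section Quot

omit [IsNoetherianRing A] [Module.Finite A M]

/-- `M/((y)+J)M → (M/yM)/J(M/yM)` -/
theorem exists_surjective_toQuot (y : A) (J : Ideal A) :
    ∃ φ : (M ⧸ ((Ideal.span {y} ⊔ J) • (⊤ : Submodule A M))) →ₗ[A]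
      ((QuotSMulTop y M) ⧸ (J • (⊤ : Submodule A (QuotSMulTop y M)))), Function.Surjective φ := by
  let g : M →ₗ[A] ((QuotSMulTop y M) ⧸ (J • (⊤ : Submodule A (QuotSMulTop y M)))) :=
    (Submodule.mkQ _).comp (Submodule.mkQ (y • (⊤ : Submodule A M)))
  have hg : Function.Surjective g :=
    (Submodule.mkQ_surjective _).comp (Submodule.mkQ_surjective _)
  have hker : (Ideal.span {y} ⊔ J) • (⊤ : Submodule A M) ≤ LinearMap.ker g := by
    rw [Submodule.smul_le]
    intro r hr m _
    obtain ⟨r1, hr1, j, hj, rfl⟩ := Submodule.mem_sup.mp hr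
    obtain ⟨a, rfl⟩ := Ideal.mem_span_singleton'.mp hr1
    rw [LinearMap.mem_ker, add_smul, map_add]
    have h1 : g ((a * y) • m) = 0 := by
      change Submodule.mkQ _ (Submodule.mkQ (y • (⊤ : Submodule A M)) ((a * y) • m)) = 0
      have : Submodule.mkQ (y • (⊤ : Submodule A M)) ((a * y) • m) = 0 := by
        rw [Submodule.mkQ_apply, Submodule.Quotient.mk_eq_zero, mul_comm, mul_smul]
        exact Submodule.smul_mem_pointwise_smul _ y ⊤ Submodule.mem_top
      rw [this, map_zero]
    have h2 : g (j • m) = 0 := by
      change Submodule.mkQ _ (Submodule.mkQ (y • (⊤ : Submodule A M)) (j • m)) = 0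
      rw [map_smul, Submodule.mkQ_apply, Submodule.Quotient.mk_eq_zero]
      exact Submodule.smul_mem_smul hj Submodule.mem_top
    rw [h1, h2, add_zero]
  refine ⟨Submodule.liftQ _ g hker, ?_⟩
  intro z
  obtain ⟨m, rfl⟩ := hg z
  exact ⟨Submodule.Quotient.mk m, rfl⟩

/-- `(M/yM)/J(M/yM) → M/((y)+J)M` -/
theorem exists_surjective_ofQuot (y : A) (J : Ideal A) :
    ∃ ψ : ((QuotSMulTop y M) ⧸ (J • (⊤ : Submodule A (QuotSMulTop y M)))) →ₗ[A]
      (M ⧸ ((Ideal.span {y} ⊔ J) • (⊤ : Submodule A M))), Function.Surjective ψ := by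
  set K : Submodule A M := (Ideal.span {y} ⊔ J) • (⊤ : Submodule A M) with hK
  have h1 : y • (⊤ : Submodule A M) ≤ LinearMap.ker (Submodule.mkQ K) := by
    rw [Submodule.ker_mkQ]
    intro m hm
    obtain ⟨m', -, rfl⟩ := (Submodule.mem_smul_pointwise_iff_exists _ _ _).mp hm
    exact Submodule.smul_mem_smul (Submodule.mem_sup_left (Ideal.mem_span_singleton_self y))
      Submodule.mem_top
  let g1 : QuotSMulTop y M →ₗ[A] M ⧸ K := Submodule.liftQ _ (Submodule.mkQ K) h1
  have hg1 : ∀ m : M, g1 (Submodule.Quotient.mk m) = Submodule.Quotient.mk m := fun m => rfl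
  have h2 : J • (⊤ : Submodule A (QuotSMulTop y M)) ≤ LinearMap.ker g1 := by
    rw [Submodule.smul_le]
    intro j hj z _
    obtain ⟨m, rfl⟩ := Submodule.Quotient.mk_surjective _ z
    rw [LinearMap.mem_ker, map_smul, hg1, ← Submodule.Quotient.mk_smul,
      Submodule.Quotient.mk_eq_zero]
    exact Submodule.smul_mem_smul (Submodule.mem_sup_right hj) Submodule.mem_top
  refine ⟨Submodule.liftQ _ g1 h2, ?_⟩
  intro z
  obtain ⟨m, rfl⟩ := Submodule.Quotient.mk_surjective _ z
  exact ⟨Submodule.Quotient.mk (Submodule.Quotient.mk m), rfl⟩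

theorem span_range_cons {n : ℕ} (y : A) (x : Fin n → A) :
    Ideal.span (Set.range (Fin.cons y x : Fin (n + 1) → A)) =
      Ideal.span {y} ⊔ Ideal.span (Set.range x) := by
  rw [Fin.range_cons, Ideal.span_insert]

end Quot

/-- (A) a system of `n` elements of the radical with finite length quotient bounds the dimension -/
theorem supportDim_le_of_isFiniteLength (n : ℕ) :
    ∀ (M : Type u) [AddCommGroup M] [Module A M] [Module.Finite A M] (x : Fin n → A),
      (∀ i, x i ∈ Ring.jacobson A) →
      IsFiniteLength A (M ⧸ (Ideal.span (Set.range x) • (⊤ : Submodule A M))) →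
      supportDim A M ≤ n := by
  induction n with
  | zero =>
    intro M _ _ _ x _ hfl
    have h0 : Ideal.span (Set.range x) = ⊥ := by
      rw [Ideal.span_eq_bot]
      rintro _ ⟨i, -⟩
      exact i.elim0
    rw [h0, Submodule.bot_smul] at hfl
    have : IsFiniteLength A M :=
      (Submodule.quotEquivOfEqBot (⊥ : Submodule A M) rfl).isFiniteLength hfl
    rw [Nat.cast_zero]
    exact (isFiniteLength_iff_supportDim_le_zero A M).mp this
  | succ n ih =>
    intro M _ _ _ x hx hfl
    have hx0 : x = Fin.cons (x 0) (Fin.tail x) := (Fin.cons_self_tail x).symm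
    rw [hx0, span_range_cons] at hfl
    obtain ⟨φ, hφ⟩ := exists_surjective_toQuot (M := M) (x 0) (Ideal.span (Set.range (Fin.tail x)))
    have h1 := ih (QuotSMulTop (x 0) M) (Fin.tail x) (fun i => hx _) (hfl.of_surjective hφ)
    have h2 : x 0 ∈ (annihilator A M).jacobson := by
      rw [Ideal.jacobson, Ideal.mem_sInf]
      intro J hJ
      have := hx 0
      rw [Ring.jacobson_eq_sInf_isMaximal, Ideal.mem_sInf] at this
      exact this hJ.2
    refine (supportDim_le_supportDim_quotSMulTop_succ_of_mem_jacobson h2).trans ?_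
    push_cast
    exact add_le_add_left h1 1

/-- (B) existence of systems of parameters inside the Jacobson radical -/
theorem exists_parameters [Finite (MaximalSpectrum A)] (d : ℕ) :
    ∀ (M : Type u) [AddCommGroup M] [Module A M] [Module.Finite A M], supportDim A M ≤ d →
      ∃ x : Fin d → A, (∀ i, x i ∈ Ring.jacobson A) ∧
        IsFiniteLength A (M ⧸ (Ideal.span (Set.range x) • (⊤ : Submodule A M))) := by
  induction d with
  | zero =>
    intro M _ _ _ h
    rw [Nat.cast_zero] at h
    refine ⟨Fin.elim0, fun i => i.elim0, ?_⟩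
    have h0 : Ideal.span (Set.range (Fin.elim0 : Fin 0 → A)) = ⊥ := by
      rw [Ideal.span_eq_bot]
      rintro _ ⟨i, -⟩
      exact i.elim0
    rw [h0, Submodule.bot_smul]
    exact (Submodule.quotEquivOfEqBot (⊥ : Submodule A M) rfl).symm.isFiniteLength
      ((isFiniteLength_iff_supportDim_le_zero A M).mpr h)
  | succ d ih =>
    intro M _ _ _ h
    obtain ⟨y, hy, hyp⟩ := exists_mem_jacobson_notMem (A := A) M
    have hM' : supportDim A (QuotSMulTop y M) ≤ d := by
      by_cases h1 : 1 ≤ supportDim A M
      · have h2 := (supportDim_quotSMulTop_succ_le hyp h1).trans h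
        push_cast at h2
        generalize supportDim A (QuotSMulTop y M) = a at h2 ⊢
        induction a with
        | bot => exact bot_le
        | coe a =>
          have h3 : a + 1 ≤ (d : ℕ∞) + 1 := by exact_mod_cast h2
          exact_mod_cast (ENat.add_le_add_iff_right ENat.one_ne_top).mp h3
      · rw [not_le] at h1
        have h0 : supportDim A M ≤ 0 := by
          generalize supportDim A M = a at h1 ⊢
          induction a with
          | bot => exact bot_le
          | coe a =>
            have h3 : a < 1 := by exact_mod_cast h1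
            have : a = 0 := Order.lt_one_iff.mp h3
            rw [this]; rfl
        refine le_trans (supportDim_le_of_surjective _ (Submodule.mkQ_surjective _)) (h0.trans ?_)
        exact_mod_cast zero_le
    obtain ⟨x', hx', hfl⟩ := ih (QuotSMulTop y M) hM'
    refine ⟨Fin.cons y x', ?_, ?_⟩
    · intro i
      refine Fin.cases ?_ (fun j => ?_) i
      · rw [Fin.cons_zero]; exact hy
      · rw [Fin.cons_succ]; exact hx' j
    · rw [span_range_cons]
      obtain ⟨ψ, hψ⟩ := exists_surjective_ofQuot (M := M) y (Ideal.span (Set.range x'))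
      exact hfl.of_surjective hψ

/-- **`s(M) = dim M`** for a finite module over a semilocal Noetherian ring -/
theorem supportDim_eq_sInf [Finite (MaximalSpectrum A)] (M : Type u) [AddCommGroup M]
    [Module A M] [Module.Finite A M] [Nontrivial M] :
    supportDim A M =
      sInf {k : WithBot ℕ∞ | ∃ (n : ℕ) (x : Fin n → A), k = n ∧ (∀ i, x i ∈ Ring.jacobson A) ∧
        IsFiniteLength A (M ⧸ (Ideal.span (Set.range x) • (⊤ : Submodule A M)))} := by
  apply le_antisymm
  · apply le_sInf
    rintro k ⟨n, x, rfl, hx, hfl⟩
    exact supportDim_le_of_isFiniteLength n M x hx hfl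
  · generalize hd : supportDim A M = a
    induction a with
    | bot => exact absurd hd (supportDim_ne_bot_of_nontrivial A M)
    | coe a =>
      induction a with
      | top => exact le_top
      | coe d =>
        obtain ⟨x, hx, hfl⟩ := exists_parameters d M (by rw [hd]; rfl)
        exact sInf_le ⟨d, x, rfl, hx, hfl⟩

end SLD

end Groth.Agent.H6
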