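import Groth.Prelude.Def_RelSpec
import Mathlib

/-!
# Properties of relative spectra checked on charts (helper6)
-/

set_option autoImplicit false
set_option linter.style.haveILetI false
universe u

open CategoryTheory CategoryTheory.Limits AlgebraicGeometry TopologicalSpace Opposite

noncomputable section

namespace Groth.Agent.H6.QCLoc

/-- a target-local property holds for `f` if it holds on a family of charts. -/
theorem of_charts {P : MorphismProperty Scheme.{u}} [IsZariskiLocalAtTarget P] {X Y : Scheme.{u}}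
    (f : X ⟶ Y) {ι : Type*} (U : ι → Y.Opens) (hU : iSup U = ⊤)
    {X' Y' : ι → Scheme.{u}} (a : ∀ i, X' i ⟶ X) (b : ∀ i, Y' i ⟶ Y)
    [∀ i, IsOpenImmersion (a i)] [∀ i, IsOpenImmersion (b i)]
    (g : ∀ i, X' i ⟶ Y' i) (comm : ∀ i, a i ≫ f = g i ≫ b i)
    (hb : ∀ i, (b i).opensRange = U i) (ha : ∀ i, (a i).opensRange = f ⁻¹ᵁ U i)
    (hg : ∀ i, P (g i)) : P f := by
  rw [IsZariskiLocalAtTarget.iff_of_iSup_eq_top (P := P) _ hU]
  intro i
  let eX : X' i ≅ ((f ⁻¹ᵁ U i : X.Opens) : Scheme.{u}) :=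
    IsOpenImmersion.isoOfRangeEq (a i) (f ⁻¹ᵁ U i).ι (by
      rw [Scheme.Opens.range_ι]; exact congr($(ha i).1))
  let eY : Y' i ≅ ((U i : Y.Opens) : Scheme.{u}) :=
    IsOpenImmersion.isoOfRangeEq (b i) (U i).ι (by
      rw [Scheme.Opens.range_ι]; exact congr($(hb i).1))
  have h1 : eX.hom ≫ (f ⁻¹ᵁ U i).ι = a i := IsOpenImmersion.isoOfRangeEq_hom_fac _ _ _
  have h2 : eY.hom ≫ (U i).ι = b i := IsOpenImmersion.isoOfRangeEq_hom_fac _ _ _
  have h3 : f ∣_ U i = eX.inv ≫ g i ≫ eY.hom := by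
    rw [← cancel_mono (U i).ι, morphismRestrict_ι, Category.assoc, Category.assoc, h2, ← comm,
      ← Category.assoc, ← h1, Iso.inv_hom_id_assoc]
  rw [h3, MorphismProperty.cancel_left_of_respectsIso P, MorphismProperty.cancel_right_of_respectsIso P]
  exact hg i

variable {S : Scheme.{u}}

theorem iSup_affine_preimage {X : Scheme.{u}} (p : X ⟶ S) :
    (⨆ U : S.affineOpens, p ⁻¹ᵁ U.1) = ⊤ := by
  rw [eq_top_iff]
  intro x _
  have hx : p.base x ∈ (⊤ : S.Opens) := trivial
  rw [← iSup_affineOpens_eq_top S] at hx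
  obtain ⟨U, hU⟩ := Opens.mem_iSup.mp hx
  exact Opens.mem_iSup.mpr ⟨U, hU⟩

/-- a target-local property holds for the structure morphism of a relative spectrum if it holds on charts. -/
theorem π_of_forall_affine (P : MorphismProperty Scheme.{u}) [IsZariskiLocalAtTarget P]
    (A : RelSpec.QCAlg S)
    (h : ∀ (U : S.Opens) (_ : IsAffineOpen U), P (Spec.map (A.str.app (op U)))) : P A.π := by
  refine of_charts A.π (fun U : S.affineOpens => U.1) (iSup_affineOpens_eq_top S)
    (fun U => A.ι U.1 U.2) (fun U => U.2.fromSpec) (fun U => Spec.map (A.str.app (op U.1)))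
    (fun U => A.ι_π U.1 U.2) (fun U => U.2.opensRange_fromSpec)
    (fun U => (A.π_preimage U.1 U.2).symm) (fun U => h U.1 U.2)

/-- a target-local property holds for a morphism of relative spectra if it holds on charts. -/
theorem specMap_of_forall_affine (P : MorphismProperty Scheme.{u}) [IsZariskiLocalAtTarget P]
    {A B : RelSpec.QCAlg S} (ψ : A ⟶ B)
    (h : ∀ (U : S.Opens) (_ : IsAffineOpen U), P (Spec.map (ψ.hom.app (op U)))) :
    P (RelSpec.QCAlg.specMap ψ) := by
  refine of_charts (RelSpec.QCAlg.specMap ψ) (fun U : S.affineOpens => A.π ⁻¹ᵁ U.1)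
    (iSup_affine_preimage A.π)
    (fun U => B.ι U.1 U.2) (fun U => A.ι U.1 U.2) (fun U => Spec.map (ψ.hom.app (op U.1)))
    (fun U => RelSpec.QCAlg.ι_specMap U.1 U.2 ψ) (fun U => (A.π_preimage U.1 U.2).symm)
    (fun U => ?_) (fun U => h U.1 U.2)
  rw [← Scheme.Hom.comp_preimage, RelSpec.QCAlg.specMap_π, B.π_preimage U.1 U.2]

end Groth.Agent.H6.QCLoc
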