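import Groth.Prelude.Def_RelSpec
import Groth.Agent.Lib.Helper6.QCLoc
import Mathlib

/-!
# The canonical morphism `X ⟶ Spec_S (f_* O_X)` (helper6)
-/

set_option autoImplicit false
set_option linter.style.haveILetI false
universe u

open CategoryTheory CategoryTheory.Limits AlgebraicGeometry TopologicalSpace Opposite

noncomputable section

namespace Groth.Agent.H6.Canon

open AlgebraicGeometry.Scheme AlgebraicGeometry.Scheme.AffineZariskiSite RelSpec

variable {X S : Scheme.{u}} (f : X ⟶ S) [QuasiCompact f] [QuasiSeparated f]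

set_option backward.defeqAttrib.useBackward true in
set_option backward.isDefEq.respectTransparency false in
lemma canon_aux {U V : S.AffineZariskiSite} (i : U ⟶ V) :
    Cover.trans ((directedCover S).pullback₁ f) i ≫
      (pullbackRestrictIsoRestrict f V.1).hom ≫
      (f ⁻¹ᵁ V.1).toSpecΓ ≫ (QCAlg.directImage f).ι V.1 V.2 =
    (pullbackRestrictIsoRestrict f U.1).hom ≫
      (f ⁻¹ᵁ U.1).toSpecΓ ≫ (QCAlg.directImage f).ι U.1 U.2 := by
  have : (pullbackRestrictIsoRestrict f U.1).inv ≫
      Cover.trans ((directedCover S).pullback₁ f) i ≫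
      (pullbackRestrictIsoRestrict f V.1).hom = X.homOfLE
        (f.preimage_mono (toOpens_mono i.1.1)) := by
    rw [← cancel_mono (Scheme.Opens.ι _)]
    simp +instances [Cover.trans, Cover.locallyDirectedPullbackCover]
  rw [← Iso.inv_comp_eq, reassoc_of% this, ← Scheme.Opens.toSpecΓ_SpecMap_presheaf_map_assoc]
  congr 1
  exact (QCAlg.directImage f).ι_res i

set_option backward.defeqAttrib.useBackward true in
set_option backward.isDefEq.respectTransparency false in
/-- The canonical morphism into the relative spectrum of the direct image algebra. -/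
def canon : X ⟶ (QCAlg.directImage f).spec :=
  Scheme.OpenCover.glueMorphismsOfLocallyDirected
    ((directedCover S).pullback₁ f)
    (fun U ↦
      (pullbackRestrictIsoRestrict f _).hom ≫
      (f ⁻¹ᵁ U.1).toSpecΓ ≫ (QCAlg.directImage f).ι U.1 U.2) fun {U V : S.AffineZariskiSite} i ↦
    canon_aux f i

set_option backward.isDefEq.respectTransparency.types false in
set_option backward.defeqAttrib.useBackward true in
@[reassoc]
lemma ι_canon (U : S.Opens) (hU : IsAffineOpen U) :
    (f ⁻¹ᵁ U).ι ≫ canon f = (f ⁻¹ᵁ U).toSpecΓ ≫ (QCAlg.directImage f).ι U hU := by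
  rw [← cancel_epi (pullbackRestrictIsoRestrict f U).hom, ← Category.assoc]
  trans ((directedCover S).pullback₁ f).f ⟨U, hU⟩ ≫ canon f
  · congr 1; simp
  delta canon
  exact Scheme.OpenCover.map_glueMorphismsOfLocallyDirected _ _ (fun i ↦ canon_aux f i) _

set_option backward.isDefEq.respectTransparency false in
@[reassoc (attr := simp)]
lemma canon_π : canon f ≫ (QCAlg.directImage f).π = f := by
  refine Scheme.Cover.hom_ext (X.openCoverOfIsOpenCover _
    (.comap (iSup_affineOpens_eq_top S) f.base.1)) _ _ fun U ↦ ?_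
  refine (ι_canon_assoc f U.1 U.2 _).trans ?_
  rw [QCAlg.ι_π]
  change (f ⁻¹ᵁ U.1).toSpecΓ ≫ Spec.map (f.app _) ≫ U.2.fromSpec = (f ⁻¹ᵁ U.1).ι ≫ _
  simp

/-- for an affine morphism the canonical morphism is an isomorphism. -/
instance isIso_canon [IsAffineHom f] : IsIso (canon f) := by
  change MorphismProperty.isomorphisms Scheme.{u} (canon f)
  refine QCLoc.of_charts (canon f) (fun U : S.affineOpens => (QCAlg.directImage f).π ⁻¹ᵁ U.1)
    (QCLoc.iSup_affine_preimage _)
    (fun U => (f ⁻¹ᵁ U.1).ι) (fun U => (QCAlg.directImage f).ι U.1 U.2)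
    (fun U => (f ⁻¹ᵁ U.1).toSpecΓ) (fun U => ι_canon f U.1 U.2)
    (fun U => ((QCAlg.directImage f).π_preimage U.1 U.2).symm) (fun U => ?_) (fun U => ?_)
  · rw [← Scheme.Hom.comp_preimage, canon_π, Scheme.Opens.opensRange_ι]
  · have : IsAffineOpen (f ⁻¹ᵁ U.1) := U.2.preimage f
    exact (inferInstanceAs (IsIso this.isoSpec.hom))

end Groth.Agent.H6.Canon
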