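import Groth.Prelude.Def_RelSpec

/-!
# Quasi-coherent algebras from presheaf data on affine opens (helper6)

A `PreAlg S` is a presheaf of commutative rings on `S` under the structure sheaf which satisfies the
localisation condition `RelSpec.IsQC` on affine opens, but is NOT assumed to be a sheaf.  Mathlib's relative
gluing produces a scheme `spec` affine over `S`; its direct-image algebra `sh` is a `RelSpec.QCAlg S`
whose sections over every affine open `U` are identified with the given ones (`gammaAff`), naturally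
in `U` and compatibly with the structure maps.  Homomorphisms out of `sh` into a quasi-coherent algebra
can be defined on affine opens (`liftHom`).
-/

set_option autoImplicit false
universe u

open CategoryTheory CategoryTheory.Limits AlgebraicGeometry TopologicalSpace Opposite

noncomputable section

namespace Groth.Agent.H6.PA

variable {S : Scheme.{u}}

variable (S) in
/-- a presheaf of rings under the structure sheaf satisfying the localisation condition on affines. -/
structure PreAlg where
  /-- the underlying presheaf of commutative rings -/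
  presheaf : TopCat.Presheaf CommRingCat.{u} S.carrier
  /-- the structure map from the structure sheaf -/
  str : S.presheaf ⟶ presheaf
  isQC : RelSpec.IsQC presheaf str

namespace PreAlg

variable (A : PreAlg S)

theorem coequifibered :
    ((Scheme.AffineZariskiSite.toOpensFunctor S).op.whiskerLeft A.str).Coequifibered :=
  Scheme.AffineZariskiSite.coequifibered_iff_forall_isLocalizationAway.mpr fun U r => A.isQC U.1 U.2 r

/-- The relative gluing datum: the affine schemes `Spec A(U)` over the affine opens `U` of `S`. -/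
def glueData : (Scheme.AffineZariskiSite.directedCover S).RelativeGluingData :=
  Scheme.AffineZariskiSite.relativeGluingData A.coequifibered

instance : (A.glueData.functor ⋙ Scheme.forget).IsLocallyDirected :=
  Scheme.Cover.RelativeGluingData.instIsLocallyDirectedI₀CompFunctorForgetOfIsThin ..

/-- The relative spectrum. -/
def spec : Scheme.{u} := A.glueData.glued

/-- The structure morphism `Spec(A) ⟶ S`. -/
def π : A.spec ⟶ S := A.glueData.toBase

/-- The chart over an affine open. -/
def ι (U : S.Opens) (hU : IsAffineOpen U) : Spec (A.presheaf.obj (op U)) ⟶ A.spec :=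
  A.glueData.cover.f ⟨U, hU⟩

variable (U : S.Opens) (hU : IsAffineOpen U)

instance : IsOpenImmersion (A.ι U hU) := A.glueData.cover.map_prop _

theorem ι_π : A.ι U hU ≫ A.π = Spec.map (A.str.app (op U)) ≫ hU.fromSpec :=
  colimit.ι_desc _ _

theorem π_preimage : A.π ⁻¹ᵁ U = (A.ι U hU).opensRange := by
  simpa using! A.glueData.toBase_preimage_eq_opensRange_ι ⟨U, hU⟩

theorem top_le_preimage : (⊤ : (Spec (A.presheaf.obj (op U))).Opens) ≤ A.ι U hU ⁻¹ᵁ (A.π ⁻¹ᵁ U) := by
  rw [← Scheme.Hom.comp_preimage, A.ι_π, Scheme.Hom.comp_preimage, hU.fromSpec_preimage_self]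
  exact le_top

instance isAffineHom_π : IsAffineHom A.π where
  isAffine_preimage U hU := by
    rw [A.π_preimage U hU]
    exact isAffineOpen_opensRange (A.ι U hU)

/-- Over an affine open `U ⊆ S`: the identification of the functions of `Spec(A)` on the preimage of `U` with
`A(U)`. -/
def gammaAff : Γ(A.spec, A.π ⁻¹ᵁ U) ⟶ A.presheaf.obj (op U) :=
  (A.ι U hU).appLE (A.π ⁻¹ᵁ U) ⊤ (A.top_le_preimage U hU) ≫ (Scheme.ΓSpecIso (A.presheaf.obj (op U))).hom

theorem ι_res {U V : S.AffineZariskiSite} (i : V ⟶ U) :
    Spec.map (A.presheaf.map (homOfLE (Scheme.AffineZariskiSite.toOpens_mono i.le)).op) ≫ A.ι U.1 U.2 =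
      A.ι V.1 V.2 :=
  colimit.w A.glueData.functor i

instance isIso_gammaAff : IsIso (A.gammaAff U hU) := by
  unfold gammaAff
  have : IsIso ((A.ι U hU).appLE (A.π ⁻¹ᵁ U) ⊤ (A.top_le_preimage U hU)) := by
    rw [Scheme.Hom.appLE]
    have h1 : IsIso ((A.ι U hU).app (A.π ⁻¹ᵁ U)) :=
      Scheme.Hom.isIso_app _ _ (by rw [A.π_preimage U hU])
    have h2 : IsIso ((Spec (A.presheaf.obj (op U))).presheaf.map
        (homOfLE (A.top_le_preimage U hU)).op) := by
      have : IsIso (homOfLE (A.top_le_preimage U hU)) :=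
        ⟨⟨homOfLE le_top, Subsingleton.elim _ _, Subsingleton.elim _ _⟩⟩
      infer_instance
    infer_instance
  infer_instance

set_option backward.isDefEq.respectTransparency false in
/-- The identifications `gammaAff` over the affine opens, as a natural transformation on the affine opens of `S`. -/
def gammaRestrict : (Scheme.AffineZariskiSite.toOpensFunctor S).op ⋙ (A.π.base _* A.spec.presheaf) ⟶
    (Scheme.AffineZariskiSite.toOpensFunctor S).op ⋙ A.presheaf where
  app U := A.gammaAff U.unop.1 U.unop.2
  naturality U V i := by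
    change A.spec.presheaf.map (homOfLE (A.π.preimage_mono (Scheme.AffineZariskiSite.toOpens_mono i.unop.le))).op ≫
        A.gammaAff V.unop.1 V.unop.2 =
      A.gammaAff U.unop.1 U.unop.2 ≫ A.presheaf.map (homOfLE (Scheme.AffineZariskiSite.toOpens_mono i.unop.le)).op
    simp only [gammaAff, Category.assoc, ← Scheme.ΓSpecIso_naturality]
    simp only [← Category.assoc]
    congr 1
    simp only [Scheme.Hom.appTop, Scheme.Hom.appLE, Category.assoc]
    have h1 := (Scheme.Hom.comp_app
      (Spec.map (A.presheaf.map (homOfLE (Scheme.AffineZariskiSite.toOpens_mono i.unop.le)).op))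
      (A.ι U.unop.1 U.unop.2) (A.π ⁻¹ᵁ U.unop.1)).symm
    rw [Scheme.Hom.naturality_assoc, Scheme.Hom.naturality, reassoc_of% h1,
      Scheme.Hom.congr_app (A.ι_res i.unop), Category.assoc, ← Functor.map_comp, ← Functor.map_comp]
    rfl

set_option backward.isDefEq.respectTransparency false in
/-- Over an affine open, `gammaAff` is compatible with the two structure maps from the structure sheaf. -/
theorem π_app_gammaAff : A.π.app U ≫ A.gammaAff U hU = A.str.app (op U) := by
  have h1 := Scheme.Hom.congr_app (A.ι_π U hU) U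
  have h2 := (Scheme.Hom.comp_app (A.ι U hU) A.π U).symm
  have hk : ∀ k : (op ⊤ : (Spec (A.presheaf.obj (op U))).Opensᵒᵖ) ⟶ op ⊤,
      (Spec (A.presheaf.obj (op U))).presheaf.map k = 𝟙 _ := fun k => by
    rw [Subsingleton.elim k (𝟙 _)]; exact CategoryTheory.Functor.map_id _ _
  simp only [gammaAff, Scheme.Hom.appLE, Category.assoc]
  rw [reassoc_of% h2, h1, Scheme.Hom.comp_app, hU.fromSpec_app_self]
  simp only [Category.assoc]
  rw [Scheme.Hom.naturality_assoc]
  simp only [← Functor.map_comp_assoc]
  erw [hk, Category.id_comp]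
  rw [← cancel_epi (Scheme.ΓSpecIso Γ(S, U)).hom, Iso.hom_inv_id_assoc]
  erw [Scheme.ΓSpecIso_naturality]

theorem gammaAff_naturality {U V : S.AffineZariskiSite} (i : V ≤ U) :
    A.spec.presheaf.map (homOfLE (A.π.preimage_mono (Scheme.AffineZariskiSite.toOpens_mono i))).op ≫
        A.gammaAff V.1 V.2 =
      A.gammaAff U.1 U.2 ≫ A.presheaf.map (homOfLE (Scheme.AffineZariskiSite.toOpens_mono i)).op :=
  A.gammaRestrict.naturality (homOfLE i).op

/-- naturality of `gammaAff` for arbitrary inclusions of affine opens. -/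
theorem gammaAff_res {U V : S.Opens} (hU : IsAffineOpen U) (hV : IsAffineOpen V) (h : V ≤ U) :
    A.spec.presheaf.map (homOfLE (A.π.preimage_mono h)).op ≫ A.gammaAff V hV =
      A.gammaAff U hU ≫ A.presheaf.map (homOfLE h).op := by
  rw [← cancel_mono (inv (A.gammaAff V hV)), Category.assoc, IsIso.hom_inv_id, Category.comp_id,
    Category.assoc]
  ext x
  -- check the equality locally on the preimages of opens that are basic in both `U` and `V`
  refine TopCat.Sheaf.eq_of_locally_eq' A.spec.sheaf
    (fun g : {g : Γ(S, V) // ∃ f : Γ(S, U), S.basicOpen f = S.basicOpen g} => A.π ⁻¹ᵁ S.basicOpen g.1)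
    (A.π ⁻¹ᵁ V) (fun g => homOfLE (A.π.preimage_mono (S.basicOpen_le g.1))) ?_ _ _ ?_
  · intro y hy
    obtain ⟨f, g, hfg, hyf⟩ := exists_basicOpen_le_affine_inter hU hV (A.π.base y) ⟨h hy, hy⟩
    exact Opens.mem_iSup.mpr ⟨⟨g, f, hfg⟩, hfg ▸ hyf⟩
  · rintro ⟨g, f, hfg⟩
    let W' : S.AffineZariskiSite := ⟨S.basicOpen g, hV.basicOpen g⟩
    let V' : S.AffineZariskiSite := ⟨V, hV⟩
    let U' : S.AffineZariskiSite := ⟨U, hU⟩
    have iV : W' ≤ V' := ⟨g, rfl⟩
    have iU : W' ≤ U' := ⟨f, hfg⟩
    have nV := A.gammaAff_naturality iV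
    have nU := A.gammaAff_naturality iU
    -- invert `nV`
    have nV' : inv (A.gammaAff V hV) ≫
        A.spec.presheaf.map (homOfLE (A.π.preimage_mono (S.basicOpen_le g))).op =
        A.presheaf.map (homOfLE (S.basicOpen_le g)).op ≫
          inv (A.gammaAff (S.basicOpen g) (hV.basicOpen g)) := by
      rw [IsIso.inv_comp_eq, ← Category.assoc, IsIso.eq_comp_inv]
      exact nV
    change (A.spec.presheaf.map (homOfLE (A.π.preimage_mono h)).op ≫
        A.spec.presheaf.map (homOfLE (A.π.preimage_mono (S.basicOpen_le g))).op) x =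
      ((A.gammaAff U hU ≫ A.presheaf.map (homOfLE h).op ≫ inv (A.gammaAff V hV)) ≫
        A.spec.presheaf.map (homOfLE (A.π.preimage_mono (S.basicOpen_le g))).op) x
    congr 2
    rw [Category.assoc, Category.assoc, nV', ← A.presheaf.map_comp_assoc, ← Category.assoc,
      IsIso.eq_comp_inv, ← A.spec.presheaf.map_comp]
    exact nU

/-- the quasi-coherent algebra attached to the data: the direct image algebra of the relative spectrum. -/
def sh : RelSpec.QCAlg S := RelSpec.QCAlg.directImage A.π

theorem gammaRestrict_app (U : (S.AffineZariskiSite)ᵒᵖ) :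
    A.gammaRestrict.app U = A.gammaAff U.unop.1 U.unop.2 := rfl

instance (U : (S.AffineZariskiSite)ᵒᵖ) : IsIso (A.gammaRestrict.app U) :=
  A.isIso_gammaAff U.unop.1 U.unop.2

instance : IsIso A.gammaRestrict := NatIso.isIso_of_isIso_app _

section lift

variable (B : RelSpec.QCAlg S)
  (θ : (Scheme.AffineZariskiSite.toOpensFunctor S).op ⋙ A.presheaf ⟶
    (Scheme.AffineZariskiSite.toOpensFunctor S).op ⋙ B.presheaf)

/-- a map of presheaves of rings on the affine opens extends to the attached sheaf. -/
def lift : A.sh.presheaf ⟶ B.presheaf :=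
  Functor.IsCoverDense.restrictHomEquivHom (G := Scheme.AffineZariskiSite.toOpensFunctor S)
    (K := Opens.grothendieckTopology S) (ℱ := A.π.base _* A.spec.presheaf)
    (ℱ' := (⟨B.presheaf, B.isSheaf⟩ : TopCat.Sheaf CommRingCat.{u} S.carrier)) (A.gammaRestrict ≫ θ)

theorem lift_restrict :
    (Scheme.AffineZariskiSite.toOpensFunctor S).op.whiskerLeft (A.lift B θ) = A.gammaRestrict ≫ θ :=
  (Functor.IsCoverDense.restrictHomEquivHom (G := Scheme.AffineZariskiSite.toOpensFunctor S)
    (K := Opens.grothendieckTopology S) (ℱ := A.π.base _* A.spec.presheaf)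
    (ℱ' := (⟨B.presheaf, B.isSheaf⟩ : TopCat.Sheaf CommRingCat.{u} S.carrier))).symm_apply_apply _

theorem lift_app : (A.lift B θ).app (op U) = A.gammaAff U hU ≫ θ.app (op ⟨U, hU⟩) :=
  NatTrans.congr_app (A.lift_restrict B θ) (op ⟨U, hU⟩)

variable (hθ : (Scheme.AffineZariskiSite.toOpensFunctor S).op.whiskerLeft A.str ≫ θ =
    (Scheme.AffineZariskiSite.toOpensFunctor S).op.whiskerLeft B.str)

include hθ in
theorem str_lift : A.sh.str ≫ A.lift B θ = B.str := by
  apply (Functor.IsCoverDense.restrictHomEquivHom (G := Scheme.AffineZariskiSite.toOpensFunctor S)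
    (K := Opens.grothendieckTopology S) (ℱ := S.presheaf)
    (ℱ' := (⟨B.presheaf, B.isSheaf⟩ : TopCat.Sheaf CommRingCat.{u} S.carrier))).symm.injective
  ext U : 2
  change A.π.app U.unop.1 ≫ (A.lift B θ).app (op U.unop.1) = B.str.app (op U.unop.1)
  have h1 := A.π_app_gammaAff U.unop.1 U.unop.2
  have h2 := NatTrans.congr_app hθ U
  rw [A.lift_app U.unop.1 U.unop.2]
  exact (Category.assoc _ _ _).symm.trans
    ((congrArg (· ≫ θ.app (op ⟨U.unop.1, U.unop.2⟩)) h1).trans h2)

/-- the homomorphism of quasi-coherent algebras defined on affine opens. -/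
def liftHom : A.sh ⟶ B := ⟨A.lift B θ, A.str_lift B θ hθ⟩

theorem liftHom_app : (A.liftHom B θ hθ).hom.app (op U) = A.gammaAff U hU ≫ θ.app (op ⟨U, hU⟩) :=
  A.lift_app U hU B θ

end lift

end PreAlg

/-- homomorphisms of quasi-coherent algebras agreeing over affine opens are equal. -/
theorem hom_ext_affine {A B : RelSpec.QCAlg S} (f g : A ⟶ B)
    (h : ∀ (U : S.Opens) (_ : IsAffineOpen U), f.hom.app (op U) = g.hom.app (op U)) : f = g := by
  apply RelSpec.QCAlg.hom_ext
  apply (Functor.IsCoverDense.restrictHomEquivHom (G := Scheme.AffineZariskiSite.toOpensFunctor S)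
    (K := Opens.grothendieckTopology S) (ℱ := A.presheaf)
    (ℱ' := (⟨B.presheaf, B.isSheaf⟩ : TopCat.Sheaf CommRingCat.{u} S.carrier))).symm.injective
  ext U : 2
  exact h U.unop.1 U.unop.2

end Groth.Agent.H6.PA
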