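import Mathlib

/-!
# Algebra lemmas for the finite form of Zariski's main theorem (helper6)
-/

set_option autoImplicit false
set_option linter.style.haveILetI false

namespace Groth.Agent.H6.FZ

/-- If `B' = B[1/b]` is of finite type over `R`, finitely many elements of `B` suffice: for every
subring `C ⊆ B` containing the image of `R`, `b` and these elements, `B' = C[1/b]`. -/
theorem exists_finset_away {R B B' : Type*} [CommRing R] [CommRing B] [CommRing B']
    (φ : R →+* B) (ψ : B →+* B') (b : B)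
    (hloc : letI := ψ.toAlgebra; IsLocalization.Away b B') (hft : (ψ.comp φ).FiniteType) :
    ∃ F : Finset B, ∀ C : Subring B, (∀ a, φ a ∈ C) → ∀ hb : b ∈ C, (↑F : Set B) ⊆ C →
      letI := (ψ.comp C.subtype).toAlgebra
      IsLocalization.Away (⟨b, hb⟩ : C) B' := by
  classical
  letI algB : Algebra B B' := ψ.toAlgebra
  letI algR : Algebra R B' := (ψ.comp φ).toAlgebra
  haveI : IsLocalization.Away b B' := hloc
  obtain ⟨S, hS⟩ := (show Algebra.FiniteType R B' from hft).out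
  have hex : ∀ y : B', ∃ (c : B) (n : ℕ), y * ψ b ^ n = ψ c := by
    intro y
    obtain ⟨⟨c, ⟨_, n, rfl⟩⟩, h⟩ := IsLocalization.surj (Submonoid.powers b) y
    refine ⟨c, n, ?_⟩
    have h' : y * algebraMap B B' (b ^ n) = algebraMap B B' c := h
    rw [map_pow] at h'
    exact h'
  choose c n hcn using hex
  refine ⟨S.image c, fun C hφ hb hF => ?_⟩
  letI algC : Algebra C B' := (ψ.comp C.subtype).toAlgebra
  have key : ∀ z : B', ∃ (x : B) (_ : x ∈ C) (m : ℕ), z * ψ b ^ m = ψ x := by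
    intro z
    have hz : z ∈ Algebra.adjoin R (S : Set B') := by rw [hS]; trivial
    induction hz using Algebra.adjoin_induction with
    | mem y hy => exact ⟨c y, hF (Finset.mem_image_of_mem c hy), n y, hcn y⟩
    | algebraMap r => exact ⟨φ r, hφ r, 0, by simp [RingHom.algebraMap_toAlgebra]⟩
    | add z₁ z₂ _ _ h₁ h₂ =>
      obtain ⟨x₁, hx₁, m₁, e₁⟩ := h₁
      obtain ⟨x₂, hx₂, m₂, e₂⟩ := h₂
      refine ⟨x₁ * b ^ m₂ + x₂ * b ^ m₁, C.add_mem (C.mul_mem hx₁ (C.pow_mem hb _))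
        (C.mul_mem hx₂ (C.pow_mem hb _)), m₁ + m₂, ?_⟩
      rw [map_add, map_mul, map_mul, map_pow, map_pow, ← e₁, ← e₂, pow_add]
      ring
    | mul z₁ z₂ _ _ h₁ h₂ =>
      obtain ⟨x₁, hx₁, m₁, e₁⟩ := h₁
      obtain ⟨x₂, hx₂, m₂, e₂⟩ := h₂
      refine ⟨x₁ * x₂, C.mul_mem hx₁ hx₂, m₁ + m₂, ?_⟩
      rw [map_mul, ← e₁, ← e₂, pow_add]
      ring
  refine ⟨?_, ?_, ?_⟩
  · rintro ⟨_, m, rfl⟩
    show IsUnit (ψ ((⟨b, hb⟩ : C) ^ m : C))
    rw [Subring.coe_pow, map_pow]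
    exact (IsLocalization.Away.algebraMap_isUnit (S := B') b).pow m
  · intro z
    obtain ⟨x, hx, m, e⟩ := key z
    refine ⟨(⟨x, hx⟩, ⟨(⟨b, hb⟩ : C) ^ m, m, rfl⟩), ?_⟩
    show z * ψ ((⟨b, hb⟩ : C) ^ m : C) = ψ x
    rw [Subring.coe_pow, map_pow]
    exact e
  · intro x y hxy
    have hxy' : ψ x = ψ y := hxy
    obtain ⟨⟨_, m, rfl⟩, hm⟩ := IsLocalization.exists_of_eq (M := Submonoid.powers b) hxy'
    refine ⟨⟨(⟨b, hb⟩ : C) ^ m, m, rfl⟩, ?_⟩
    apply Subtype.ext
    simpa using hm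

/-- A subring `C'` of `B[1/b]` is `C[1/b]` as soon as it contains the image of `C` and an inverse
of `b`, and all its elements are fractions with numerator in `C`. -/
theorem isLocalization_away_subring {B B' : Type*} [CommRing B] [CommRing B'] (ψ : B →+* B')
    (b : B) (hloc : letI := ψ.toAlgebra; IsLocalization.Away b B')
    (C : Subring B) (C' : Subring B') (hb : b ∈ C) (hCC' : ∀ x ∈ C, ψ x ∈ C')
    (hinv : ∃ v ∈ C', ψ b * v = 1)
    (hsurj : ∀ z ∈ C', ∃ x ∈ C, ∃ m : ℕ, z * ψ b ^ m = ψ x) :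
    letI := (ψ.restrict C C' hCC').toAlgebra
    IsLocalization.Away (⟨b, hb⟩ : C) C' := by
  letI algB : Algebra B B' := ψ.toAlgebra
  haveI : IsLocalization.Away b B' := hloc
  letI algC : Algebra C C' := (ψ.restrict C C' hCC').toAlgebra
  obtain ⟨v, hv, hbv⟩ := hinv
  have hunit : IsUnit (algebraMap C C' ⟨b, hb⟩) := by
    refine IsUnit.of_mul_eq_one (⟨v, hv⟩ : C') ?_
    apply Subtype.ext
    exact hbv
  refine ⟨?_, ?_, ?_⟩
  · rintro ⟨_, m, rfl⟩
    show IsUnit (algebraMap C C' ((⟨b, hb⟩ : C) ^ m))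
    rw [map_pow]
    exact hunit.pow m
  · intro z
    obtain ⟨x, hx, m, e⟩ := hsurj z.1 z.2
    refine ⟨(⟨x, hx⟩, ⟨(⟨b, hb⟩ : C) ^ m, m, rfl⟩), ?_⟩
    apply Subtype.ext
    show (z : B') * ψ (((⟨b, hb⟩ : C) ^ m : C) : B) = ψ x
    rw [Subring.coe_pow, map_pow]
    exact e
  · intro x y hxy
    have hxy' : ψ x = ψ y := congrArg Subtype.val hxy
    obtain ⟨⟨_, m, rfl⟩, hm⟩ := IsLocalization.exists_of_eq (M := Submonoid.powers b) hxy'
    refine ⟨⟨(⟨b, hb⟩ : C) ^ m, m, rfl⟩, ?_⟩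
    apply Subtype.ext
    simpa using hm

/-- Fractions with numerators in the subring generated by `R` and `S`. -/
theorem closure_surj {R R' B B' : Type*} [CommRing R] [CommRing R'] [CommRing B] [CommRing B']
    (φ : R →+* B) (φ' : R' →+* B') (ρ : R →+* R') (ψ : B →+* B')
    (hcomm : ψ.comp φ = φ'.comp ρ) (r : R)
    (hR : letI := ρ.toAlgebra; IsLocalization.Away r R')
    (S : Set B) (S' : Set B')
    (hS : ∀ s' ∈ S', ∃ s ∈ S, ∃ m : ℕ, s' * ψ (φ r) ^ m = ψ s) :
    ∀ z ∈ Subring.closure (Set.range φ' ∪ S'),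
      ∃ x ∈ Subring.closure (Set.range φ ∪ S), ∃ m : ℕ, z * ψ (φ r) ^ m = ψ x := by
  letI algR : Algebra R R' := ρ.toAlgebra
  haveI : IsLocalization.Away r R' := hR
  set C := Subring.closure (Set.range φ ∪ S) with hC
  have hbC : φ r ∈ C := Subring.subset_closure (Or.inl ⟨r, rfl⟩)
  intro z hz
  induction hz using Subring.closure_induction with
  | mem z hz =>
    rcases hz with ⟨a', rfl⟩ | hz
    · obtain ⟨⟨a, ⟨_, m, rfl⟩⟩, h⟩ := IsLocalization.surj (Submonoid.powers r) a'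
      refine ⟨φ a, Subring.subset_closure (Or.inl ⟨a, rfl⟩), m, ?_⟩
      have h' : a' * ρ (r ^ m) = ρ a := h
      have h1 : ψ (φ r) = φ' (ρ r) := RingHom.congr_fun hcomm r
      have h2 : ψ (φ a) = φ' (ρ a) := RingHom.congr_fun hcomm a
      rw [h1, h2, ← h', map_mul, map_pow, map_pow]
    · obtain ⟨s, hs, m, e⟩ := hS z hz
      exact ⟨s, Subring.subset_closure (Or.inr hs), m, e⟩
  | zero => exact ⟨0, C.zero_mem, 0, by simp⟩
  | one => exact ⟨1, C.one_mem, 0, by simp⟩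
  | add z₁ z₂ _ _ h₁ h₂ =>
    obtain ⟨x₁, hx₁, m₁, e₁⟩ := h₁
    obtain ⟨x₂, hx₂, m₂, e₂⟩ := h₂
    refine ⟨x₁ * φ r ^ m₂ + x₂ * φ r ^ m₁, C.add_mem (C.mul_mem hx₁ (C.pow_mem hbC _))
      (C.mul_mem hx₂ (C.pow_mem hbC _)), m₁ + m₂, ?_⟩
    rw [map_add, map_mul, map_mul, map_pow, map_pow, ← e₁, ← e₂, pow_add]
    ring
  | neg z _ h =>
    obtain ⟨x, hx, m, e⟩ := h
    exact ⟨-x, C.neg_mem hx, m, by rw [map_neg, ← e]; ring⟩
  | mul z₁ z₂ _ _ h₁ h₂ =>
    obtain ⟨x₁, hx₁, m₁, e₁⟩ := h₁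
    obtain ⟨x₂, hx₂, m₂, e₂⟩ := h₂
    refine ⟨x₁ * x₂, C.mul_mem hx₁ hx₂, m₁ + m₂, ?_⟩
    rw [map_mul, ← e₁, ← e₂, pow_add]
    ring

/-- The subring generated by the image of `R` and the image of a finite `R`-module of integral
elements is finite over `R`. -/
theorem finite_codRestrict_closure {R B M : Type*} [CommRing R] [CommRing B] [AddCommGroup M]
    [Module R M] [Module.Finite R M] (φ : R →+* B) (hint : φ.IsIntegral) (e : M →+ B)
    (he : ∀ (r : R) (m : M), e (r • m) = φ r * e m) (C : Subring B)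
    (hC : C = Subring.closure (Set.range φ ∪ Set.range e)) (h : ∀ a, φ a ∈ C) :
    (φ.codRestrict C h).Finite := by
  classical
  letI algB : Algebra R B := φ.toAlgebra
  let l : M →ₗ[R] B :=
    { toFun := e
      map_add' := e.map_add
      map_smul' := fun r m => by
        rw [he, RingHom.id_apply, Algebra.smul_def]; rfl }
  obtain ⟨G, hG⟩ := (Module.Finite.fg_top : (⊤ : Submodule R M).FG)
  have hrange : (Set.range e : Set B) = (Submodule.span R (l '' (G : Set M)) : Set B) := by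
    rw [← Submodule.map_span, hG, Submodule.map_top]
    rfl
  let A : Subalgebra R B := Algebra.adjoin R (l '' (G : Set M))
  have hA : A.toSubring = C := by
    rw [hC, hrange]
    have h2 := Algebra.adjoin_eq_ring_closure (R := R)
      (Submodule.span R (l '' (G : Set M)) : Set B)
    rw [Algebra.adjoin_span] at h2
    exact h2
  haveI : Module.Finite R A :=
    Algebra.finite_adjoin_of_finite_of_isIntegral ((G.finite_toSet).image l)
      (fun x _ => hint x)
  subst hA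
  have h1 : (algebraMap R A).Finite := RingHom.finite_algebraMap.mpr inferInstance
  exact h1

end Groth.Agent.H6.FZ
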