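import Mathlib
import Groth.Agent.Lib.Helper6.FZ1
import Groth.Agent.Lib.Lead.QC.SubSup
import Groth.Prelude.Def_RelSpec

set_option autoImplicit false
set_option linter.style.haveILetI false
open CategoryTheory AlgebraicGeometry CategoryTheory.Limits TopologicalSpace Opposite

noncomputable section

namespace Groth.Agent.H6.QA

universe u

open Groth.Agent.LD.QC

variable {X : Scheme.{u}} (B : RelSpec.QCAlg X)

/-- a section of `B.toModule` as an element of the ring `B(U)`. -/
def toRing (U : X.Opens) (m : Γ(B.toModule, U)) : B.presheaf.obj (op U) := m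

/-- an element of the ring `B(U)` as a section of `B.toModule`. -/
def ofRing (U : X.Opens) (b : B.presheaf.obj (op U)) : Γ(B.toModule, U) := b

lemma toRing_smul (U : X.Opens) (r : Γ(X, U)) (m : Γ(B.toModule, U)) :
    toRing B U (r • m) = (B.str.app (op U)).hom r * toRing B U m := rfl

lemma toRing_res {U V : X.Opens} (h : V ≤ U) (m : Γ(B.toModule, U)) :
    toRing B V (B.toModule.presheaf.map (homOfLE h).op m) =
      (B.presheaf.map (homOfLE h).op).hom (toRing B U m) := rfl

/-- the localisation property of a quasi-coherent algebra. -/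
lemma isLocalization (U : X.Opens) (hU : IsAffineOpen U) (r : Γ(X, U)) :
    letI := (B.presheaf.map (homOfLE (X.basicOpen_le r)).op).hom.toAlgebra
    IsLocalization.Away ((B.str.app (op U)).hom r) (B.presheaf.obj (op (X.basicOpen r))) :=
  B.isQC U hU r

lemma str_res {U V : X.Opens} (h : V ≤ U) (r : Γ(X, U)) :
    (B.presheaf.map (homOfLE h).op).hom ((B.str.app (op U)).hom r) =
      (B.str.app (op V)).hom ((X.presheaf.map (homOfLE h).op).hom r) := by
  have := B.str.naturality (homOfLE h).op
  exact (congr($this r)).symm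

/-- `B` is quasi-coherent as a module. -/
theorem toModule_qc : B.toModule.IsQuasicoherent := by
  refine qc_of_surj_inj _ ?_ ?_
  · intro U hU f t
    letI := (B.presheaf.map (homOfLE (X.basicOpen_le f)).op).hom.toAlgebra
    haveI := isLocalization B U hU f
    obtain ⟨⟨s, ⟨_, n, rfl⟩⟩, h⟩ := IsLocalization.surj
      (Submonoid.powers ((B.str.app (op U)).hom f)) (toRing B _ t)
    refine ⟨n, ofRing B U s, ?_⟩
    have h' : toRing B _ t * (B.presheaf.map (homOfLE (X.basicOpen_le f)).op).hom
        (((B.str.app (op U)).hom f) ^ n) =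
        (B.presheaf.map (homOfLE (X.basicOpen_le f)).op).hom s := h
    show (B.presheaf.map (homOfLE (X.basicOpen_le f)).op).hom s =
      (B.str.app (op (X.basicOpen f))).hom
        ((X.presheaf.map (homOfLE (X.basicOpen_le f)).op f) ^ n) * toRing B _ t
    rw [← h', map_pow, str_res, map_pow, mul_comm]
  · intro U hU f s hs
    letI := (B.presheaf.map (homOfLE (X.basicOpen_le f)).op).hom.toAlgebra
    haveI := isLocalization B U hU f
    have h0 : (B.presheaf.map (homOfLE (X.basicOpen_le f)).op).hom (toRing B U s) =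
        (B.presheaf.map (homOfLE (X.basicOpen_le f)).op).hom 0 := by
      rw [map_zero]; exact hs
    obtain ⟨⟨_, n, rfl⟩, hn⟩ := IsLocalization.exists_of_eq
      (M := Submonoid.powers ((B.str.app (op U)).hom f)) h0
    refine ⟨n, ?_⟩
    show (B.str.app (op U)).hom (f ^ n) * toRing B U s = 0
    rw [map_pow]
    simpa using hn

instance : B.toModule.IsQuasicoherent := toModule_qc B

variable {B} {ℳ : X.Modules} (u : ℳ ⟶ B.toModule)

/-- the section `u(m)` as an element of the ring `B(U)`. -/
def sec (U : X.Opens) (m : Γ(ℳ, U)) : B.presheaf.obj (op U) := toRing B U (u.app U m)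

lemma sec_res {U V : X.Opens} (h : V ≤ U) (m : Γ(ℳ, U)) :
    (B.presheaf.map (homOfLE h).op).hom (sec u U m) =
      sec u V (ℳ.presheaf.map (homOfLE h).op m) := by
  have := app_res u h m
  exact congrArg (toRing B V) this.symm

lemma sec_add (U : X.Opens) (m m' : Γ(ℳ, U)) : sec u U (m + m') = sec u U m + sec u U m' :=
  congrArg (toRing B U) ((appLinear u U).map_add m m')

lemma sec_zero (U : X.Opens) : sec u U 0 = 0 := congrArg (toRing B U) ((appLinear u U).map_zero)

lemma sec_smul (U : X.Opens) (a : Γ(X, U)) (m : Γ(ℳ, U)) :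
    sec u U (a • m) = (B.str.app (op U)).hom a * sec u U m := by
  have := (appLinear u U).map_smul a m
  exact congrArg (toRing B U) this

/-- the subring of `B(U)` generated by the functions and the sections of `ℳ`. -/
def gen (U : X.Opens) : Subring (B.presheaf.obj (op U)) :=
  Subring.closure (Set.range (B.str.app (op U)).hom ∪ Set.range (sec u U))

lemma str_mem_gen (U : X.Opens) (a : Γ(X, U)) : (B.str.app (op U)).hom a ∈ gen u U :=
  Subring.subset_closure (Or.inl ⟨a, rfl⟩)

lemma sec_mem_gen (U : X.Opens) (m : Γ(ℳ, U)) : sec u U m ∈ gen u U :=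
  Subring.subset_closure (Or.inr ⟨m, rfl⟩)

lemma gen_map_mem {U V : X.Opens} (h : V ≤ U) (x : B.presheaf.obj (op U)) (hx : x ∈ gen u U) :
    (B.presheaf.map (homOfLE h).op).hom x ∈ gen u V := by
  induction hx using Subring.closure_induction with
  | mem x hx =>
    rcases hx with ⟨a, rfl⟩ | ⟨m, rfl⟩
    · rw [str_res]; exact str_mem_gen u V _
    · rw [sec_res u h]; exact sec_mem_gen u V _
  | zero => rw [map_zero]; exact Subring.zero_mem _
  | one => rw [map_one]; exact Subring.one_mem _
  | add x y _ _ hx hy => rw [map_add]; exact Subring.add_mem _ hx hy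
  | neg x _ hx => rw [map_neg]; exact Subring.neg_mem _ hx
  | mul x y _ _ hx hy => rw [map_mul]; exact Subring.mul_mem _ hx hy

/-- elements of `gen` over a basic open are fractions with numerators in `gen`. -/
lemma gen_surj [ℳ.IsQuasicoherent] (U : X.Opens) (hU : IsAffineOpen U) (r : Γ(X, U)) :
    ∀ z ∈ gen u (X.basicOpen r), ∃ x ∈ gen u U, ∃ m : ℕ,
      z * (B.presheaf.map (homOfLE (X.basicOpen_le r)).op).hom ((B.str.app (op U)).hom r) ^ m =
        (B.presheaf.map (homOfLE (X.basicOpen_le r)).op).hom x := by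
  refine FZ.closure_surj (B.str.app (op U)).hom (B.str.app (op (X.basicOpen r))).hom
    (X.presheaf.map (homOfLE (X.basicOpen_le r)).op).hom
    (B.presheaf.map (homOfLE (X.basicOpen_le r)).op).hom ?_ r
    (hU.isLocalization_basicOpen r) _ _ ?_
  · ext a
    exact str_res B (X.basicOpen_le r) a
  · rintro _ ⟨m', rfl⟩
    obtain ⟨n, m, hm⟩ := affine_surj ℳ hU r m'
    refine ⟨sec u U m, ⟨m, rfl⟩, n, ?_⟩
    rw [sec_res u (X.basicOpen_le r), hm, sec_smul, str_res, map_pow, mul_comm]

/-- membership in `gen` is local on an affine open. -/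
theorem mem_gen_of_locally [ℳ.IsQuasicoherent] (U : X.Opens) (hU : IsAffineOpen U)
    (x : B.presheaf.obj (op U)) (s : Set Γ(X, U)) (hs : Ideal.span s = ⊤)
    (h : ∀ r ∈ s, (B.presheaf.map (homOfLE (X.basicOpen_le r)).op).hom x ∈
      gen u (X.basicOpen r)) : x ∈ gen u U := by
  let I : Ideal Γ(X, U) :=
    { carrier := {a | (B.str.app (op U)).hom a * x ∈ gen u U}
      add_mem' := fun {a b} ha hb => by
        show (B.str.app (op U)).hom (a + b) * x ∈ gen u U
        rw [map_add, add_mul]; exact Subring.add_mem _ ha hb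
      zero_mem' := by
        show (B.str.app (op U)).hom 0 * x ∈ gen u U
        rw [map_zero, zero_mul]; exact Subring.zero_mem _
      smul_mem' := fun c a ha => by
        show (B.str.app (op U)).hom (c • a) * x ∈ gen u U
        rw [smul_eq_mul, map_mul, mul_assoc]
        exact Subring.mul_mem _ (str_mem_gen u U c) ha }
  have hrad : s ⊆ (I.radical : Set Γ(X, U)) := by
    intro r hr
    letI := (B.presheaf.map (homOfLE (X.basicOpen_le r)).op).hom.toAlgebra
    haveI := isLocalization B U hU r
    obtain ⟨c, hc, m, e⟩ := gen_surj u U hU r _ (h r hr)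
    have h0 : (B.presheaf.map (homOfLE (X.basicOpen_le r)).op).hom
        (x * (B.str.app (op U)).hom r ^ m) =
        (B.presheaf.map (homOfLE (X.basicOpen_le r)).op).hom c := by
      rw [map_mul, map_pow]; exact e
    obtain ⟨⟨_, m', rfl⟩, hm'⟩ := IsLocalization.exists_of_eq
      (M := Submonoid.powers ((B.str.app (op U)).hom r)) h0
    refine ⟨m' + m, ?_⟩
    show (B.str.app (op U)).hom (r ^ (m' + m)) * x ∈ gen u U
    have h1 : (B.str.app (op U)).hom (r ^ (m' + m)) * x =
        (B.str.app (op U)).hom r ^ m' * c := by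
      rw [map_pow, pow_add, mul_assoc, mul_comm _ x]
      exact hm'
    rw [h1]
    exact Subring.mul_mem _ (Subring.pow_mem _ (str_mem_gen u U r) _) hc
  have hI : I = ⊤ := by
    rw [← Ideal.radical_eq_top, eq_top_iff, ← hs]
    exact Ideal.span_le.mpr hrad
  have h1 : (1 : Γ(X, U)) ∈ I := by rw [hI]; trivial
  have h2 : (B.str.app (op U)).hom 1 * x ∈ gen u U := h1
  rwa [map_one, one_mul] at h2

/-- if `gen` is everything over an affine open, it is everything over its basic opens. -/
lemma gen_basicOpen_eq_top (V : X.Opens) (hV : IsAffineOpen V) (g : Γ(X, V))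
    (h : gen u V = ⊤) : gen u (X.basicOpen g) = ⊤ := by
  rw [eq_top_iff]
  intro z _
  letI := (B.presheaf.map (homOfLE (X.basicOpen_le g)).op).hom.toAlgebra
  haveI := isLocalization B V hV g
  obtain ⟨⟨b, ⟨_, n, rfl⟩⟩, hb⟩ := IsLocalization.surj
    (Submonoid.powers ((B.str.app (op V)).hom g)) z
  have hb' : z * (B.presheaf.map (homOfLE (X.basicOpen_le g)).op).hom
      ((B.str.app (op V)).hom g ^ n) =
      (B.presheaf.map (homOfLE (X.basicOpen_le g)).op).hom b := hb
  have hunit : IsUnit ((X.presheaf.map (homOfLE (X.basicOpen_le g)).op).hom g) :=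
    X.toRingedSpace.isUnit_res_basicOpen g
  obtain ⟨w, hw⟩ := hunit.exists_right_inv
  have h1 : (B.presheaf.map (homOfLE (X.basicOpen_le g)).op).hom ((B.str.app (op V)).hom g ^ n) *
      (B.str.app (op (X.basicOpen g))).hom w ^ n = 1 := by
    rw [map_pow, str_res, ← mul_pow, ← map_mul, hw, map_one, one_pow]
  have h2 : z = (B.presheaf.map (homOfLE (X.basicOpen_le g)).op).hom b *
      (B.str.app (op (X.basicOpen g))).hom w ^ n := by
    rw [← hb', mul_assoc, h1, mul_one]
  rw [h2]
  refine Subring.mul_mem _ (gen_map_mem u (X.basicOpen_le g) b (by rw [h]; trivial))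
    (Subring.pow_mem _ (str_mem_gen u _ w) _)

/-- **local-global principle for generation**: if `O_X` and `ℳ` generate `B` over the members of
an affine open cover, they do so over every affine open. -/
theorem gen_eq_top [ℳ.IsQuasicoherent] (𝒱 : Set X.affineOpens)
    (hcov : ∀ x : X, ∃ V ∈ 𝒱, x ∈ V.1) (h𝒱 : ∀ V ∈ 𝒱, gen u V.1 = ⊤) (U : X.affineOpens) :
    gen u U.1 = ⊤ := by
  rw [eq_top_iff]
  intro x _
  let s : Set Γ(X, U.1) := {f | gen u (X.basicOpen f) = ⊤}
  have hs : Ideal.span s = ⊤ := by
    rw [← U.2.self_le_iSup_basicOpen_iff]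
    intro p hp
    obtain ⟨V, hV, hpV⟩ := hcov p
    obtain ⟨f, g, hfg, hpf⟩ := exists_basicOpen_le_affine_inter U.2 V.2 p ⟨hp, hpV⟩
    have hf : f ∈ s := by
      have : ∀ O : X.Opens, O = X.basicOpen g → gen u O = ⊤ := by
        rintro _ rfl
        exact gen_basicOpen_eq_top u V.1 V.2 g (h𝒱 V hV)
      exact this _ hfg
    exact TopologicalSpace.Opens.mem_iSup.mpr ⟨⟨f, hf⟩, hpf⟩
  exact mem_gen_of_locally u U.1 U.2 x s hs (fun r hr => by rw [hr]; trivial)

/-- a finite type ring map has a finite generating set in the subring sense. -/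
lemma exists_finset_closure_eq_top {R A : Type*} [CommRing R] [CommRing A] (φ : R →+* A)
    (hφ : φ.FiniteType) :
    ∃ G : Finset A, Subring.closure (Set.range φ ∪ (G : Set A)) = ⊤ := by
  letI := φ.toAlgebra
  obtain ⟨G, hG⟩ := (show Algebra.FiniteType R A from hφ).out
  refine ⟨G, ?_⟩
  have h1 := Algebra.adjoin_eq_ring_closure (R := R) (G : Set A)
  rw [hG] at h1
  exact h1.symm.trans Algebra.top_toSubring

/-- **EGA II 1.? / I 9.6.5**: a quasi-coherent algebra of finite type on a qcqs scheme is generated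
by a quasi-coherent submodule of finite type. -/
theorem exists_generating_submodule [CompactSpace X] [QuasiSeparatedSpace X]
    (B : RelSpec.QCAlg X)
    (hB : ∀ U : X.affineOpens, (B.str.app (op (U : X.Opens))).hom.FiniteType) :
    ∃ (E : X.Modules) (j : E ⟶ B.toModule), Mono j ∧ E.IsQuasicoherent ∧ E.IsFiniteType ∧
      ∀ U : X.affineOpens, gen j U.1 = ⊤ := by
  classical
  obtain ⟨t, ht⟩ : ∃ t : Finset X.affineOpens, ∀ y : X, ∃ V ∈ t, y ∈ V.1 := by
    obtain ⟨t, ht⟩ := isCompact_univ.elim_finite_subcover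
      (fun V : X.affineOpens => (V.1 : Set X)) (fun V => V.1.isOpen) (fun y _ => by
        obtain ⟨_, ⟨V, hV, rfl⟩, hyV, -⟩ := X.isBasis_affineOpens.exists_subset_of_mem_open
          (Set.mem_univ y) isOpen_univ
        exact Set.mem_iUnion.mpr ⟨⟨V, hV⟩, hyV⟩)
    refine ⟨t, fun y => ?_⟩
    obtain ⟨V, hV, hy⟩ := Set.mem_iUnion₂.mp (ht (Set.mem_univ y))
    exact ⟨V, hV, hy⟩
  choose G hG using fun V : X.affineOpens =>
    exists_finset_closure_eq_top (B.str.app (op (V : X.Opens))).hom (hB V)
  let S : Finset (Σ V : X.affineOpens, B.presheaf.obj (op V.1)) := t.sigma G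
  obtain ⟨E, j, hmono, hqc, hft, hsec⟩ := exists_sub_finiteType_of_sections B.toModule S
    (fun a => a.1) (fun a => ofRing B a.1.1 a.2)
  haveI := hqc
  refine ⟨E, j, hmono, hqc, hft, gen_eq_top j (↑t) (fun x => ?_) (fun V hV => ?_)⟩
  · obtain ⟨V, hV, hx⟩ := ht x
    exact ⟨V, hV, hx⟩
  · rw [eq_top_iff, ← hG V]
    refine Subring.closure_le.mpr ?_
    rintro x (⟨a, rfl⟩ | hx)
    · exact str_mem_gen j V.1 a
    · obtain ⟨g, hg⟩ := hsec ⟨V, x⟩ (Finset.mem_sigma.mpr ⟨hV, hx⟩)
      have : sec j V.1 g = x := congrArg (toRing B V.1) hg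
      rw [← this]
      exact sec_mem_gen j V.1 g

end Groth.Agent.H6.QA
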