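import Groth.Agent.Lib.Helper6.SymA
import Groth.Agent.Lib.Helper6.PreAlg
import Groth.Agent.Lib.Helper6.QA1
import Groth.Agent.Lib.Lead.QC.HomAffine

/-!
# The symmetric algebra of a quasi-coherent module as a quasi-coherent algebra (helper6)
-/

set_option autoImplicit false
set_option linter.style.haveILetI false
universe u

open CategoryTheory CategoryTheory.Limits AlgebraicGeometry TopologicalSpace Opposite

noncomputable section

namespace Groth.Agent.H6.Sym

open Groth.Agent.LD.QC Groth.Agent.H6.PA SymmetricAlgebra

variable {S : Scheme.{u}} (E : S.Modules)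

/-- the symmetric algebra of the sections over an open. -/
abbrev symObj (U : S.Opens) : Type u := SymmetricAlgebra Γ(S, U) Γ(E, U)

/-- restriction of symmetric algebras. -/
def symRes {U V : S.Opens} (h : V ≤ U) : symObj E U →+* symObj E V :=
  letI := resAlgebra h
  letI := resModule E h
  haveI := resModule_isScalarTower E h
  (symMap (R' := Γ(S, V)) (resLinear E h)).toRingHom

lemma symRes_ι {U V : S.Opens} (h : V ≤ U) (m : Γ(E, U)) :
    symRes E h (ι _ _ m) = ι _ _ (E.presheaf.map (homOfLE h).op m) := by
  letI := resAlgebra h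
  letI := resModule E h
  haveI := resModule_isScalarTower E h
  exact symMap_ι (R' := Γ(S, V)) (resLinear E h) m

lemma symRes_algebraMap {U V : S.Opens} (h : V ≤ U) (a : Γ(S, U)) :
    symRes E h (algebraMap _ _ a) = algebraMap _ _ (S.presheaf.map (homOfLE h).op a) := by
  letI := resAlgebra h
  letI := resModule E h
  haveI := resModule_isScalarTower E h
  exact symMap_algebraMap (R' := Γ(S, V)) (resLinear E h) a

/-- the presheaf of symmetric algebras. -/
def symPre : TopCat.Presheaf CommRingCat.{u} S.carrier where
  obj U := CommRingCat.of (symObj E U.unop)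
  map i := CommRingCat.ofHom (symRes E i.unop.le)
  map_id U := by
    ext : 1
    apply ringHom_ext
    · intro a
      change symRes E _ (algebraMap _ _ a) = algebraMap _ _ a
      rw [symRes_algebraMap]
      congr 1
      exact congr($(S.presheaf.map_id U) a)
    · intro m
      change symRes E _ (ι _ _ m) = ι _ _ m
      rw [symRes_ι]
      congr 1
      exact res_self E _ m
  map_comp {U V W} i j := by
    ext : 1
    apply ringHom_ext
    · intro a
      change symRes E _ (algebraMap _ _ a) = symRes E _ (symRes E _ (algebraMap _ _ a))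
      rw [symRes_algebraMap, symRes_algebraMap, symRes_algebraMap]
      congr 1
      exact (sres_res i.unop.le j.unop.le a).symm
    · intro m
      change symRes E _ (ι _ _ m) = symRes E _ (symRes E _ (ι _ _ m))
      rw [symRes_ι, symRes_ι, symRes_ι]
      congr 1
      exact (res_res E i.unop.le j.unop.le m).symm

/-- the structure map. -/
def symStr : S.presheaf ⟶ symPre E where
  app U := CommRingCat.ofHom (algebraMap Γ(S, U.unop) (symObj E U.unop))
  naturality {U V} i := by
    ext a
    exact (symRes_algebraMap E i.unop.le a).symm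


theorem symPre_isQC [E.IsQuasicoherent] : RelSpec.IsQC (symPre E) (symStr E) := by
  intro U hU r
  letI := resAlgebra (S.basicOpen_le r)
  letI := resModule E (S.basicOpen_le r)
  haveI := resModule_isScalarTower E (S.basicOpen_le r)
  haveI : IsLocalization.Away r Γ(S, S.basicOpen r) := hU.isLocalization_basicOpen r
  haveI := isLocalizedModule_basicOpen E hU r
  exact isLocalization_symMap (R' := Γ(S, S.basicOpen r)) r (resLinear E (S.basicOpen_le r))

/-- the presheaf data of the symmetric algebra. -/
def symPA [E.IsQuasicoherent] : PreAlg S where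
  presheaf := symPre E
  str := symStr E
  isQC := symPre_isQC E

/-- **the symmetric algebra** of a quasi-coherent module, as a quasi-coherent algebra. -/
def symAlg [E.IsQuasicoherent] : RelSpec.QCAlg S := (symPA E).sh


section liftPre

variable (B : RelSpec.QCAlg S) (φ : E ⟶ B.toModule)

/-- the linear map `E(U) → B(U)` attached to a module map `E → B`. -/
def secLin (U : S.Opens) :
    letI := (B.str.app (op U)).hom.toAlgebra
    Γ(E, U) →ₗ[Γ(S, U)] B.presheaf.obj (op U) :=
  letI := (B.str.app (op U)).hom.toAlgebra
  { toFun := QA.sec φ U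
    map_add' := QA.sec_add φ U
    map_smul' := fun a m => by
      rw [QA.sec_smul, Algebra.smul_def]
      rfl }

/-- the ring map `Sym(E(U)) → B(U)` attached to a module map `E → B`. -/
def liftSec (U : S.Opens) : symObj E U →+* B.presheaf.obj (op U) :=
  letI := (B.str.app (op U)).hom.toAlgebra
  (SymmetricAlgebra.lift (secLin E B φ U)).toRingHom

lemma liftSec_ι (U : S.Opens) (m : Γ(E, U)) : liftSec E B φ U (ι _ _ m) = QA.sec φ U m := by
  letI := (B.str.app (op U)).hom.toAlgebra
  exact SymmetricAlgebra.lift_ι_apply (secLin E B φ U) m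

lemma liftSec_algebraMap (U : S.Opens) (a : Γ(S, U)) :
    liftSec E B φ U (algebraMap _ _ a) = (B.str.app (op U)).hom a := by
  letI := (B.str.app (op U)).hom.toAlgebra
  exact (SymmetricAlgebra.lift (secLin E B φ U)).commutes a

/-- the map of presheaves of rings `Sym(E(-)) → B`. -/
def liftPre : symPre E ⟶ B.presheaf where
  app U := CommRingCat.ofHom (liftSec E B φ U.unop)
  naturality {U V} i := by
    ext : 1
    apply ringHom_ext
    · intro a
      change liftSec E B φ V.unop (symRes E i.unop.le (algebraMap _ _ a)) =
        (B.presheaf.map i).hom (liftSec E B φ U.unop (algebraMap _ _ a))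
      rw [symRes_algebraMap, liftSec_algebraMap, liftSec_algebraMap]
      exact (QA.str_res B i.unop.le a).symm
    · intro m
      change liftSec E B φ V.unop (symRes E i.unop.le (ι _ _ m)) =
        (B.presheaf.map i).hom (liftSec E B φ U.unop (ι _ _ m))
      rw [symRes_ι, liftSec_ι, liftSec_ι]
      exact (QA.sec_res φ i.unop.le m).symm

lemma symStr_liftPre : symStr E ≫ liftPre E B φ = B.str := by
  ext U a
  exact liftSec_algebraMap E B φ U a

end liftPre

section universal

variable [E.IsQuasicoherent]

/-- the inverse identification `Sym(E(U)) → Sym(E)(U)` over an affine open. -/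
def secInv (U : S.Opens) (hU : IsAffineOpen U) : symObj E U →+* (symAlg E).presheaf.obj (op U) :=
  (inv ((symPA E).gammaAff U hU)).hom

/-- the identification `Sym(E)(U) → Sym(E(U))` over an affine open. -/
def secHom (U : S.Opens) (hU : IsAffineOpen U) : (symAlg E).presheaf.obj (op U) →+* symObj E U :=
  ((symPA E).gammaAff U hU).hom

lemma secHom_secInv (U : S.Opens) (hU : IsAffineOpen U) (x : symObj E U) :
    secHom E U hU (secInv E U hU x) = x :=
  congr($(IsIso.inv_hom_id ((symPA E).gammaAff U hU)) x)

lemma secInv_secHom (U : S.Opens) (hU : IsAffineOpen U) (x : (symAlg E).presheaf.obj (op U)) :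
    secInv E U hU (secHom E U hU x) = x :=
  congr($(IsIso.hom_inv_id ((symPA E).gammaAff U hU)) x)

lemma secInv_res {U V : S.Opens} (hU : IsAffineOpen U) (hV : IsAffineOpen V) (h : V ≤ U)
    (x : symObj E U) :
    ((symAlg E).presheaf.map (homOfLE h).op).hom (secInv E U hU x) =
      secInv E V hV (symRes E h x) := by
  have h1 := (symPA E).gammaAff_res hU hV h
  have h2 : inv ((symPA E).gammaAff U hU) ≫
      (symPA E).spec.presheaf.map (homOfLE ((symPA E).π.preimage_mono h)).op =
      (symPA E).presheaf.map (homOfLE h).op ≫ inv ((symPA E).gammaAff V hV) := by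
    rw [IsIso.inv_comp_eq, ← Category.assoc, IsIso.eq_comp_inv]
    exact h1
  exact congr($h2 x)

lemma secInv_algebraMap (U : S.Opens) (hU : IsAffineOpen U) (a : Γ(S, U)) :
    secInv E U hU (algebraMap _ _ a) = ((symAlg E).str.app (op U)).hom a := by
  have h1 := (symPA E).π_app_gammaAff U hU
  have h2 : (symPA E).π.app U = (symPA E).str.app (op U) ≫ inv ((symPA E).gammaAff U hU) := by
    rw [IsIso.eq_comp_inv]
    exact h1
  exact (congr($h2 a)).symm

/-- the canonical map `E(U) → Sym(E)(U)` over an affine open. -/
def jLin (U : S.affineOpens) : Γ(E, U.1) →ₗ[Γ(S, U.1)] Γ((symAlg E).toModule, U.1) where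
  toFun m := QA.ofRing (symAlg E) U.1 (secInv E U.1 U.2 (ι _ _ m))
  map_add' m m' := by
    rw [map_add, map_add]
    rfl
  map_smul' r m := by
    rw [map_smul, Algebra.smul_def, map_mul, secInv_algebraMap]
    rfl

/-- the canonical map from a quasi-coherent module to its symmetric algebra. -/
def symJ : E ⟶ (symAlg E).toModule :=
  homOfAffine E (symAlg E).toModule (jLin E) fun U V h s => by
    change ((symAlg E).presheaf.map (homOfLE h).op).hom (secInv E U.1 U.2 (ι _ _ s)) =
      secInv E V.1 V.2 (ι _ _ (E.presheaf.map (homOfLE h).op s))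
    rw [secInv_res E U.2 V.2 h, symRes_ι]

lemma symJ_app (U : S.Opens) (hU : IsAffineOpen U) (m : Γ(E, U)) :
    QA.toRing (symAlg E) U ((symJ E).app U m) = secInv E U hU (ι _ _ m) :=
  homOfAffine_app E (symAlg E).toModule (jLin E) _ ⟨U, hU⟩ m


section lift

variable (B : RelSpec.QCAlg S) (φ : E ⟶ B.toModule)

/-- the algebra homomorphism `Sym(E) → B` extending a module map `E → B`. -/
def symLift : symAlg E ⟶ B :=
  (symPA E).liftHom B ((Scheme.AffineZariskiSite.toOpensFunctor S).op.whiskerLeft (liftPre E B φ)) (by
    rw [← Functor.whiskerLeft_comp]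
    exact congrArg _ (symStr_liftPre E B φ))

lemma symLift_app (U : S.Opens) (hU : IsAffineOpen U) (x : (symAlg E).presheaf.obj (op U)) :
    ((symLift E B φ).hom.app (op U)).hom x = liftSec E B φ U (secHom E U hU x) := by
  unfold symLift
  rw [PreAlg.liftHom_app _ U hU]
  rfl

lemma symJ_symLift : symJ E ≫ RelSpec.QCAlg.Hom.toModuleMap (symLift E B φ) = φ := by
  apply Groth.Agent.LD.QC.hom_ext_affine
  intro U m
  change QA.ofRing B U.1 (((symLift E B φ).hom.app (op U.1)).hom
    (QA.toRing (symAlg E) U.1 ((symJ E).app U.1 m))) = φ.app U.1 m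
  rw [symJ_app E U.1 U.2, symLift_app E B φ U.1 U.2, secHom_secInv, liftSec_ι]
  rfl

lemma symLift_unique (ψ : symAlg E ⟶ B)
    (hψ : symJ E ≫ RelSpec.QCAlg.Hom.toModuleMap ψ = φ) : ψ = symLift E B φ := by
  apply Groth.Agent.H6.PA.hom_ext_affine
  intro U hU
  ext x
  obtain ⟨y, rfl⟩ : ∃ y, secInv E U hU y = x := ⟨secHom E U hU x, secInv_secHom E U hU x⟩
  rw [symLift_app E B φ U hU, secHom_secInv]
  have key : (ψ.hom.app (op U)).hom.comp (secInv E U hU) = liftSec E B φ U := by
    apply ringHom_ext
    · intro a
      change (ψ.hom.app (op U)).hom (secInv E U hU (algebraMap _ _ a)) = _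
      rw [secInv_algebraMap, liftSec_algebraMap]
      exact congr($(NatTrans.congr_app ψ.comm (op U)) a)
    · intro m
      change (ψ.hom.app (op U)).hom (secInv E U hU (ι _ _ m)) = _
      rw [liftSec_ι, ← symJ_app E U hU]
      have := congr($(congrArg (fun f : E ⟶ B.toModule => f.app U) hψ) m)
      exact this
  exact congr($key y)

/-- **the universal property of the symmetric algebra.** -/
theorem isSymAlg : RelSpec.IsSymAlg E (symAlg E) (symJ E) := fun B φ =>
  ⟨symLift E B φ, symJ_symLift E B φ, fun ψ hψ => symLift_unique E B φ ψ hψ⟩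

end lift

end universal

end Groth.Agent.H6.Sym
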