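import Groth.Agent.Lib.Helper6.SymQ

/-!
# Uniqueness of the symmetric algebra and its sections over affine opens (helper6)
-/

set_option autoImplicit false
set_option linter.style.haveILetI false
universe u

open CategoryTheory CategoryTheory.Limits AlgebraicGeometry TopologicalSpace Opposite

noncomputable section

namespace Groth.Agent.H6.Sym

open Groth.Agent.LD.QC Groth.Agent.H6.PA SymmetricAlgebra

variable {S : Scheme.{u}}

lemma toModuleMap_comp {A B C : RelSpec.QCAlg S} (f : A ⟶ B) (g : B ⟶ C) :
    RelSpec.QCAlg.Hom.toModuleMap (f ≫ g) =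
      RelSpec.QCAlg.Hom.toModuleMap f ≫ RelSpec.QCAlg.Hom.toModuleMap g := rfl

lemma toModuleMap_id (A : RelSpec.QCAlg S) :
    RelSpec.QCAlg.Hom.toModuleMap (𝟙 A) = 𝟙 A.toModule := rfl

variable {E : S.Modules} [E.IsQuasicoherent] {A : RelSpec.QCAlg S} {j : E ⟶ A.toModule}

/-- the comparison from the constructed symmetric algebra to any symmetric algebra is an isomorphism. -/
theorem isIso_symLift (hA : RelSpec.IsSymAlg E A j) : IsIso (symLift E A j) := by
  obtain ⟨ψ', hψ', -⟩ := hA (symAlg E) (symJ E)
  refine ⟨ψ', ?_, ?_⟩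
  · have h1 : symJ E ≫ RelSpec.QCAlg.Hom.toModuleMap (symLift E A j ≫ ψ') = symJ E := by
      rw [toModuleMap_comp, ← Category.assoc, symJ_symLift, hψ']
    have h2 : symJ E ≫ RelSpec.QCAlg.Hom.toModuleMap (𝟙 (symAlg E)) = symJ E := by
      rw [toModuleMap_id, Category.comp_id]
    exact (isSymAlg E (symAlg E) (symJ E)).unique h1 h2
  · have h1 : j ≫ RelSpec.QCAlg.Hom.toModuleMap (ψ' ≫ symLift E A j) = j := by
      rw [toModuleMap_comp, ← Category.assoc, hψ', symJ_symLift]
    have h2 : j ≫ RelSpec.QCAlg.Hom.toModuleMap (𝟙 A) = j := by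
      rw [toModuleMap_id, Category.comp_id]
    exact (hA A j).unique h1 h2

/-- sections of a symmetric algebra over an affine open are the symmetric algebra of the sections. -/
theorem liftSec_bijective (hA : RelSpec.IsSymAlg E A j) (U : S.Opens) (hU : IsAffineOpen U) :
    Function.Bijective (liftSec E A j U) := by
  haveI := isIso_symLift hA
  have h1 : (symLift E A j ≫ inv (symLift E A j)).hom = 𝟙 _ := by rw [IsIso.hom_inv_id]; rfl
  have h2 : (inv (symLift E A j) ≫ symLift E A j).hom = 𝟙 _ := by rw [IsIso.inv_hom_id]; rfl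
  have h1' := NatTrans.congr_app h1 (op U)
  have h2' := NatTrans.congr_app h2 (op U)
  have hbij : Function.Bijective ((symLift E A j).hom.app (op U)).hom := by
    refine Function.bijective_iff_has_inverse.mpr ⟨((inv (symLift E A j)).hom.app (op U)).hom, ?_, ?_⟩
    · intro x; exact congr($h1' x)
    · intro x; exact congr($h2' x)
  have heq : ∀ x, liftSec E A j U x = ((symLift E A j).hom.app (op U)).hom (secInv E U hU x) := by
    intro x
    rw [symLift_app E A j U hU, secHom_secInv]
  have hinv : Function.Bijective (secInv E U hU) :=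
    Function.bijective_iff_has_inverse.mpr ⟨secHom E U hU, secHom_secInv E U hU, secInv_secHom E U hU⟩
  have : (liftSec E A j U : symObj E U → _) = ((symLift E A j).hom.app (op U)).hom ∘ secInv E U hU :=
    funext heq
  rw [this]
  exact hbij.comp hinv


section functoriality

variable {E F : S.Modules} (u : E ⟶ F)

/-- the map of symmetric algebras over an open induced by a module map. -/
def symMapApp (U : S.Opens) : symObj E U →+* symObj F U :=
  (symMap (R' := Γ(S, U)) (appLinear u U)).toRingHom

lemma symMapApp_ι (U : S.Opens) (m : Γ(E, U)) :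
    symMapApp u U (ι _ _ m) = ι _ _ (u.app U m) :=
  symMap_ι (R' := Γ(S, U)) (appLinear u U) m

lemma symMapApp_algebraMap (U : S.Opens) (a : Γ(S, U)) :
    symMapApp u U (algebraMap _ _ a) = algebraMap _ _ a :=
  symMap_algebraMap (R' := Γ(S, U)) (appLinear u U) a

lemma symMapApp_surjective (U : S.Opens) (h : Function.Surjective (u.app U)) :
    Function.Surjective (symMapApp u U) :=
  symMap_surjective (R' := Γ(S, U)) (appLinear u U) (fun a => ⟨a, rfl⟩) h

/-- compatibility of the comparison maps with a map of algebras extending a module map. -/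
lemma liftSec_comp {A B : RelSpec.QCAlg S} (j : E ⟶ A.toModule) (k : F ⟶ B.toModule) (ψ : A ⟶ B)
    (hψ : j ≫ RelSpec.QCAlg.Hom.toModuleMap ψ = u ≫ k) (U : S.Opens) (x : symObj E U) :
    (ψ.hom.app (op U)).hom (liftSec E A j U x) = liftSec F B k U (symMapApp u U x) := by
  have key : (ψ.hom.app (op U)).hom.comp (liftSec E A j U) =
      (liftSec F B k U).comp (symMapApp u U) := by
    apply ringHom_ext
    · intro a
      change (ψ.hom.app (op U)).hom (liftSec E A j U (algebraMap _ _ a)) =
        liftSec F B k U (symMapApp u U (algebraMap _ _ a))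
      rw [symMapApp_algebraMap, liftSec_algebraMap, liftSec_algebraMap]
      exact congr($(NatTrans.congr_app ψ.comm (op U)) a)
    · intro m
      change (ψ.hom.app (op U)).hom (liftSec E A j U (ι _ _ m)) =
        liftSec F B k U (symMapApp u U (ι _ _ m))
      rw [symMapApp_ι, liftSec_ι, liftSec_ι]
      have := congr($(congrArg (fun f : E ⟶ B.toModule => f.app U) hψ) m)
      exact this
  exact congr($key x)

end functoriality

end Groth.Agent.H6.Sym
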