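import Mathlib
import Groth.Agent.Lib.Helper6.QA1

/-!
# The quasi-coherent subalgebra generated by a quasi-coherent submodule (helper6)
-/

set_option autoImplicit false
set_option linter.style.haveILetI false
open CategoryTheory AlgebraicGeometry CategoryTheory.Limits TopologicalSpace Opposite

noncomputable section

namespace Groth.Agent.H6.QA

universe u

open Groth.Agent.LD.QC

variable {X : Scheme.{u}} {B : RelSpec.QCAlg X} {ℳ : X.Modules} (u : ℳ ⟶ B.toModule)

/-- sections of `B` which are locally (over affine opens) generated by `O_X` and `ℳ`. -/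
def sub (V : X.Opens) : Subring (B.presheaf.obj (op V)) where
  carrier := {s | ∀ (W : X.Opens) (_ : IsAffineOpen W) (h : W ≤ V),
    (B.presheaf.map (homOfLE h).op).hom s ∈ gen u W}
  mul_mem' ha hb W hW h := by rw [map_mul]; exact Subring.mul_mem _ (ha W hW h) (hb W hW h)
  one_mem' W hW h := by rw [map_one]; exact Subring.one_mem _
  add_mem' ha hb W hW h := by rw [map_add]; exact Subring.add_mem _ (ha W hW h) (hb W hW h)
  zero_mem' W hW h := by rw [map_zero]; exact Subring.zero_mem _
  neg_mem' ha W hW h := by rw [map_neg]; exact Subring.neg_mem _ (ha W hW h)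

lemma mem_sub_iff (V : X.Opens) (s : B.presheaf.obj (op V)) :
    s ∈ sub u V ↔ ∀ (W : X.Opens) (_ : IsAffineOpen W) (h : W ≤ V),
      (B.presheaf.map (homOfLE h).op).hom s ∈ gen u W := Iff.rfl

lemma res_res' {V V' V'' : X.Opens} (h : V' ≤ V) (h' : V'' ≤ V') (s : B.presheaf.obj (op V)) :
    (B.presheaf.map (homOfLE h').op).hom ((B.presheaf.map (homOfLE h).op).hom s) =
      (B.presheaf.map (homOfLE (h'.trans h)).op).hom s := by
  rw [← CommRingCat.comp_apply, ← B.presheaf.map_comp]
  rfl

lemma sub_map_mem {V V' : X.Opens} (h : V' ≤ V) (s : B.presheaf.obj (op V)) (hs : s ∈ sub u V) :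
    (B.presheaf.map (homOfLE h).op).hom s ∈ sub u V' := by
  intro W hW h'
  rw [res_res']
  exact hs W hW (h'.trans h)

lemma res_self' (V : X.Opens) (s : B.presheaf.obj (op V)) :
    (B.presheaf.map (homOfLE (le_refl V)).op).hom s = s := by
  have : (homOfLE (le_refl V)).op = 𝟙 (op V) := rfl
  rw [this, B.presheaf.map_id]
  rfl

lemma sub_eq_gen (U : X.Opens) (hU : IsAffineOpen U) : sub u U = gen u U := by
  ext s
  constructor
  · intro hs
    have := hs U hU le_rfl
    rwa [res_self'] at this
  · intro hs W _ h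
    exact gen_map_mem u h s hs

lemma str_mem_sub (V : X.Opens) (a : Γ(X, V)) : (B.str.app (op V)).hom a ∈ sub u V := by
  intro W _ h
  rw [str_res]
  exact str_mem_gen u W _

/-- membership in `sub` is local. -/
theorem mem_sub_of_locally [ℳ.IsQuasicoherent] (V : X.Opens) (s : B.presheaf.obj (op V))
    (h : ∀ x ∈ V, ∃ (V' : X.Opens) (hV' : V' ≤ V), x ∈ V' ∧
      (B.presheaf.map (homOfLE hV').op).hom s ∈ sub u V') : s ∈ sub u V := by
  intro W hW hWV
  let S : Set Γ(X, W) := {f | (B.presheaf.map (homOfLE (X.basicOpen_le f)).op).hom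
    ((B.presheaf.map (homOfLE hWV).op).hom s) ∈ gen u (X.basicOpen f)}
  refine mem_gen_of_locally u W hW _ S ?_ (fun r hr => hr)
  rw [← hW.self_le_iSup_basicOpen_iff]
  intro p hp
  obtain ⟨V', hV', hpV', hs'⟩ := h p (hWV hp)
  obtain ⟨f, hf, hpf⟩ := hW.exists_basicOpen_le ⟨p, hpV'⟩ hp
  refine TopologicalSpace.Opens.mem_iSup.mpr ⟨⟨f, ?_⟩, hpf⟩
  show (B.presheaf.map (homOfLE (X.basicOpen_le f)).op).hom
    ((B.presheaf.map (homOfLE hWV).op).hom s) ∈ gen u (X.basicOpen f)
  have h1 := hs' (X.basicOpen f) (hW.basicOpen f) hf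
  rw [res_res'] at h1 ⊢
  exact h1

lemma map_mem_sub {V V' : (Opens X)ᵒᵖ} (i : V ⟶ V') (s : B.presheaf.obj V)
    (hs : s ∈ sub u V.unop) : (B.presheaf.map i).hom s ∈ sub u V'.unop :=
  sub_map_mem u i.unop.le s hs

/-- the presheaf of rings `V ↦ sub V`. -/
def subPresheaf : TopCat.Presheaf CommRingCat.{u} X.carrier where
  obj V := .of (sub u V.unop)
  map {V V'} i := CommRingCat.ofHom ((B.presheaf.map i).hom.restrict _ _
    fun x hx ↦ map_mem_sub u i x hx)
  map_id V := by
    ext x
    show (B.presheaf.map (𝟙 V)).hom x.1 = x.1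
    rw [B.presheaf.map_id]
    rfl
  map_comp i j := by
    ext x
    show (B.presheaf.map (i ≫ j)).hom x.1 = (B.presheaf.map j).hom ((B.presheaf.map i).hom x.1)
    rw [B.presheaf.map_comp]
    rfl

/-- the inclusion `sub ⟶ B`. -/
def subι : subPresheaf u ⟶ B.presheaf where
  app V := CommRingCat.ofHom (sub u V.unop).subtype
  naturality _ _ _ := rfl

/-- the structure map of `sub`. -/
def subStr : X.presheaf ⟶ subPresheaf u where
  app V := CommRingCat.ofHom ((B.str.app V).hom.codRestrict (sub u V.unop)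
    (str_mem_sub u V.unop))
  naturality {V V'} i := by
    ext x
    apply Subtype.ext
    exact congr($(B.str.naturality i) x)

lemma subStr_subι : subStr u ≫ subι u = B.str := rfl

/-- the subfunctor of the underlying presheaf of sets. -/
def subFun : Subfunctor (B.presheaf ⋙ forget CommRingCat) where
  obj V := {s | (show B.presheaf.obj V from s) ∈ sub u V.unop}
  map i _ hs := map_mem_sub u i _ hs

theorem isSheaf_subFun [ℳ.IsQuasicoherent] :
    Presieve.IsSheaf (Opens.grothendieckTopology X) (subFun u).toFunctor := by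
  have hF : Presieve.IsSheaf (Opens.grothendieckTopology X) (B.presheaf ⋙ forget CommRingCat) :=
    (isSheaf_iff_isSheaf_of_type _ _).mp
      ((TopCat.Presheaf.isSheaf_iff_isSheaf_comp (forget CommRingCat) _).mp B.isSheaf)
  rw [Subfunctor.isSheaf_iff _ hF]
  intro V s hs
  refine mem_sub_of_locally u V.unop (show B.presheaf.obj V from s) (fun x hx => ?_)
  obtain ⟨V', f, hf, hxV'⟩ := hs x hx
  exact ⟨V', f.le, hxV', hf⟩

theorem isSheaf_subPresheaf [ℳ.IsQuasicoherent] : (subPresheaf u).IsSheaf := by
  rw [TopCat.Presheaf.isSheaf_iff_isSheaf_comp (forget CommRingCat)]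
  refine (isSheaf_iff_isSheaf_of_type _ _).mpr ?_
  refine Presieve.isSheaf_iso _ ?_ (isSheaf_subFun u)
  exact NatIso.ofComponents (fun _ => Iso.refl _) (by intros; rfl)

set_option backward.isDefEq.respectTransparency false in
theorem isQC_sub [ℳ.IsQuasicoherent] : RelSpec.IsQC (subPresheaf u) (subStr u) := by
  intro U hU r
  have hD : IsAffineOpen (X.basicOpen r) := hU.basicOpen r
  have hinv : ∃ v ∈ sub u (X.basicOpen r),
      (B.presheaf.map (homOfLE (X.basicOpen_le r)).op).hom ((B.str.app (op U)).hom r) * v = 1 := by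
    have hunit : IsUnit ((X.presheaf.map (homOfLE (X.basicOpen_le r)).op).hom r) :=
      X.toRingedSpace.isUnit_res_basicOpen r
    obtain ⟨w, hw⟩ := hunit.exists_right_inv
    refine ⟨(B.str.app (op (X.basicOpen r))).hom w, str_mem_sub u _ w, ?_⟩
    rw [str_res, ← map_mul, hw, map_one]
  have hsurj : ∀ z ∈ sub u (X.basicOpen r), ∃ x ∈ sub u U, ∃ m : ℕ,
      z * (B.presheaf.map (homOfLE (X.basicOpen_le r)).op).hom ((B.str.app (op U)).hom r) ^ m =
        (B.presheaf.map (homOfLE (X.basicOpen_le r)).op).hom x := by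
    rw [sub_eq_gen u _ hD, sub_eq_gen u _ hU]
    exact gen_surj u U hU r
  exact FZ.isLocalization_away_subring (B.presheaf.map (homOfLE (X.basicOpen_le r)).op).hom
    ((B.str.app (op U)).hom r) (isLocalization B U hU r) (sub u U) (sub u (X.basicOpen r))
    (str_mem_sub u U r) (fun x hx => sub_map_mem u (X.basicOpen_le r) x hx) hinv hsurj

/-- the quasi-coherent subalgebra of `B` generated by `ℳ`. -/
def subAlg [ℳ.IsQuasicoherent] : RelSpec.QCAlg X where
  presheaf := subPresheaf u
  isSheaf := isSheaf_subPresheaf u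
  str := subStr u
  isQC := isQC_sub u

/-- the inclusion of the subalgebra. -/
def subAlgι [ℳ.IsQuasicoherent] : subAlg u ⟶ B := ⟨subι u, subStr_subι u⟩

lemma subAlgι_injective [ℳ.IsQuasicoherent] (V : X.Opens) :
    Function.Injective ((subAlgι u).hom.app (op V)).hom := Subtype.val_injective

lemma mem_range_subAlgι [ℳ.IsQuasicoherent] (V : X.Opens) (b : B.presheaf.obj (op V))
    (hb : b ∈ sub u V) : b ∈ Set.range ((subAlgι u).hom.app (op V)).hom := ⟨⟨b, hb⟩, rfl⟩

/-- The subring generated by the image of `R` and the image of a finite `R`-module is of finite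
type over `R`. -/
theorem finiteType_codRestrict_closure {R A M : Type*} [CommRing R] [CommRing A] [AddCommGroup M]
    [Module R M] [Module.Finite R M] (φ : R →+* A) (e : M →+ A)
    (he : ∀ (r : R) (m : M), e (r • m) = φ r * e m) (C : Subring A)
    (hC : C = Subring.closure (Set.range φ ∪ Set.range e)) (h : ∀ a, φ a ∈ C) :
    (φ.codRestrict C h).FiniteType := by
  classical
  letI algA : Algebra R A := φ.toAlgebra
  let l : M →ₗ[R] A :=
    { toFun := e
      map_add' := e.map_add
      map_smul' := fun r m => by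
        rw [he, RingHom.id_apply, Algebra.smul_def]; rfl }
  obtain ⟨G, hG⟩ := (Module.Finite.fg_top : (⊤ : Submodule R M).FG)
  have hrange : (Set.range e : Set A) = (Submodule.span R (l '' (G : Set M)) : Set A) := by
    rw [← Submodule.map_span, hG, Submodule.map_top]
    rfl
  let A' : Subalgebra R A := Algebra.adjoin R (l '' (G : Set M))
  have hA : A'.toSubring = C := by
    rw [hC, hrange]
    have h2 := Algebra.adjoin_eq_ring_closure (R := R)
      (Submodule.span R (l '' (G : Set M)) : Set A)
    rw [Algebra.adjoin_span] at h2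
    exact h2
  have hfg : A'.FG := by
    have : l '' (G : Set M) = ((G.image l : Finset A) : Set A) := by simp
    show (Algebra.adjoin R (l '' (G : Set M))).FG
    rw [this]
    exact Subalgebra.fg_adjoin_finset _
  haveI : Algebra.FiniteType R A' := (Subalgebra.fg_iff_finiteType A').mp hfg
  subst hA
  have h1 : (algebraMap R A').FiniteType := RingHom.finiteType_algebraMap.mpr inferInstance
  exact h1

theorem subAlg_finiteType [ℳ.IsQuasicoherent] (hFT : ℳ.IsFiniteType) (V : X.affineOpens) :
    ((subAlg u).str.app (op (V : X.Opens))).hom.FiniteType := by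
  haveI : Module.Finite Γ(X, V.1) Γ(ℳ, V.1) := finite_sections_of_isFiniteType ℳ hFT V.2
  let e : Γ(ℳ, V.1) →+ B.presheaf.obj (op V.1) :=
    { toFun := sec u V.1
      map_zero' := sec_zero u V.1
      map_add' := sec_add u V.1 }
  exact finiteType_codRestrict_closure (B.str.app (op V.1)).hom e
    (fun r m => sec_smul u V.1 r m) (sub u V.1) (sub_eq_gen u V.1 V.2) (str_mem_sub u V.1)

/-- **EGA I 9.6.6 (sectionwise)**: if a section `b` of the quasi-coherent algebra `B` over an
affine open lies in a finite type quasi-coherent submodule, it lies in a finite type quasi-coherent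
subalgebra. -/
theorem exists_subAlg_of_sub (B : RelSpec.QCAlg X) (U : X.affineOpens)
    (b : B.presheaf.obj (op (U : X.Opens)))
    (h : ∃ (E : X.Modules) (j : E ⟶ B.toModule), E.IsQuasicoherent ∧ E.IsFiniteType ∧
      ∃ g : Γ(E, U.1), j.app U.1 g = ofRing B U.1 b) :
    ∃ (B' : RelSpec.QCAlg X) (φ : B' ⟶ B),
      (∀ V : X.Opens, Function.Injective (φ.hom.app (op V)).hom) ∧
      (∀ V : X.affineOpens, (B'.str.app (op (V : X.Opens))).hom.FiniteType) ∧
      b ∈ Set.range (φ.hom.app (op (U : X.Opens))).hom := by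
  obtain ⟨E, j, hqc, hft, g, hg⟩ := h
  haveI := hqc
  refine ⟨subAlg j, subAlgι j, fun V => subAlgι_injective j V, fun V => subAlg_finiteType j hft V,
    mem_range_subAlgι j U.1 b ?_⟩
  rw [sub_eq_gen j U.1 U.2]
  have : sec j U.1 g = b := congrArg (toRing B U.1) hg
  rw [← this]
  exact sec_mem_gen j U.1 g

end Groth.Agent.H6.QA
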