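import Mathlib
import Groth.Prelude.Def_Found

/-! Catenary local rings: `dim A/p = dim A/q + 1` for `p ⋖ q`. -/

universe u
set_option linter.style.haveILetI false

namespace Groth.Agent.H6

namespace Cat

section Order

variable {α : Type*} [PartialOrder α]

/-- from an element of finite coheight `n` there is a saturated chain of length `n` ending at a
maximal element -/
theorem exists_saturated (x : α) {n : ℕ} (h : Order.coheight x = n) :
    ∃ p : LTSeries α, p.head = x ∧ p.length = n ∧ IsMax p.last ∧
      ∀ i : Fin p.length, p i.castSucc ⋖ p i.succ := by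
  obtain ⟨p, hp, hlen⟩ := Order.exists_series_of_coheight_eq_coe x h
  have hmax : (p.length : ℕ∞) = Order.coheight p.head := by rw [hp, h, hlen]
  have hidx := Order.coheight_eq_index_of_length_eq_head_coheight hmax
  refine ⟨p, hp, hlen, ?_, ?_⟩
  · rw [← Order.coheight_eq_zero]
    have := hidx (Fin.last p.length)
    rw [Fin.rev_last] at this
    exact_mod_cast this
  · intro i
    refine ⟨p.step i, ?_⟩
    intro y h1 h2
    have e1 := hidx i.castSucc
    have e2 := hidx i.succ
    have l1 := Order.coheight_add_one_le h1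
    have l2 := Order.coheight_add_one_le h2
    rw [e1] at l1
    rw [e2] at l2
    have h3 : ((i.succ.rev : ℕ) : ℕ∞) + 1 + 1 ≤ ((i.castSucc.rev : ℕ) : ℕ∞) :=
      (add_le_add_left l2 1).trans l1
    have h4 : (i.succ.rev : ℕ) + 1 + 1 ≤ (i.castSucc.rev : ℕ) := by exact_mod_cast h3
    simp only [Fin.val_rev, Fin.val_succ, Fin.val_castSucc] at h4
    omega

/-- to an element of finite height `n` there is a saturated chain of length `n` starting at a
minimal element -/
theorem exists_saturated_height (x : α) {n : ℕ} (h : Order.height x = n) :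
    ∃ p : LTSeries α, p.last = x ∧ p.length = n ∧ IsMin p.head ∧
      ∀ i : Fin p.length, p i.castSucc ⋖ p i.succ := by
  obtain ⟨p, hp, hlen⟩ := Order.exists_series_of_height_eq_coe x h
  have hmax : (p.length : ℕ∞) = Order.height p.last := by rw [hp, h, hlen]
  have hidx := Order.height_eq_index_of_length_eq_height_last hmax
  refine ⟨p, hp, hlen, ?_, ?_⟩
  · rw [← Order.height_eq_zero]
    have := hidx 0
    exact_mod_cast this
  · intro i
    refine ⟨p.step i, ?_⟩
    intro y h1 h2
    have e1 := hidx i.castSucc
    have e2 := hidx i.succ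
    have l1 := Order.height_add_one_le h1
    have l2 := Order.height_add_one_le h2
    rw [e1] at l1
    rw [e2] at l2
    have h3 : ((i.castSucc : ℕ) : ℕ∞) + 1 + 1 ≤ ((i.succ : ℕ) : ℕ∞) :=
      (add_le_add_left l1 1).trans l2
    have h4 : (i.castSucc : ℕ) + 1 + 1 ≤ (i.succ : ℕ) := by exact_mod_cast h3
    simp only [Fin.val_succ, Fin.val_castSucc] at h4
    omega

end Order

section Ring

variable {A : Type u} [CommRing A]

/-- `dim A/p` is the coheight of `p` in the spectrum -/
theorem ringKrullDim_quotient_eq_coheight (p : PrimeSpectrum A) :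
    ringKrullDim (A ⧸ p.asIdeal) = (Order.coheight p : WithBot ℕ∞) := by
  rw [ringKrullDim_quotient, Order.coheight_eq_krullDim_Ici]
  have : PrimeSpectrum.zeroLocus (p.asIdeal : Set A) = Set.Ici p := by
    ext q
    rw [PrimeSpectrum.mem_zeroLocus, SetLike.coe_subset_coe, Set.mem_Ici]
    rfl
  rw [this]

variable [IsNoetherianRing A] [IsLocalRing A]

omit [IsNoetherianRing A] in
theorem eq_closedPoint_of_isMax {z : PrimeSpectrum A} (hz : IsMax z) :
    z = IsLocalRing.closedPoint A := by
  have h1 : z ≤ IsLocalRing.closedPoint A := IsLocalRing.le_maximalIdeal z.2.ne_top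
  exact le_antisymm h1 (hz h1)

/-- in a catenary Noetherian local ring, coheights drop by one along a covering relation -/
theorem coheight_eq_add_one (hcat : CAlg.IsCatenary A) {p q : PrimeSpectrum A} (hpq : p ⋖ q) :
    Order.coheight p = Order.coheight q + 1 := by
  obtain ⟨np, hnp⟩ := ENat.ne_top_iff_exists.mp (Order.coheight_lt_top p).ne
  obtain ⟨nq, hnq⟩ := ENat.ne_top_iff_exists.mp (Order.coheight_lt_top q).ne
  obtain ⟨sp, hsp0, hsplen, hspmax, hspsat⟩ := exists_saturated p hnp.symm
  obtain ⟨sq, hsq0, hsqlen, hsqmax, hsqsat⟩ := exists_saturated q hnq.symm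
  -- the chain `p < sq`
  have hstep : ∀ i : Fin (sq.length + 1),
      (Fin.cons p sq.toFun : Fin (sq.length + 2) → PrimeSpectrum A) i.castSucc ⋖
        (Fin.cons p sq.toFun : Fin (sq.length + 2) → PrimeSpectrum A) i.succ := by
    intro i
    induction i using Fin.cases with
    | zero =>
      rw [Fin.castSucc_zero, Fin.cons_zero, Fin.cons_succ]
      have : sq.toFun 0 = q := hsq0
      rw [this]
      exact hpq
    | succ j =>
      rw [← Fin.succ_castSucc, Fin.cons_succ, Fin.cons_succ]
      exact hsqsat j
  have hmono : StrictMono (Fin.cons p sq.toFun : Fin (sq.length + 2) → PrimeSpectrum A) :=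
    Fin.strictMono_iff_lt_succ.mpr fun i => (hstep i).lt
  let s : LTSeries (PrimeSpectrum A) := LTSeries.mk (sq.length + 1) (Fin.cons p sq.toFun) hmono
  have hhead : s.head = sp.head := by
    rw [hsp0]
    rfl
  have hlast : s.last = sp.last := by
    rw [eq_closedPoint_of_isMax hspmax, ← eq_closedPoint_of_isMax hsqmax]
    change (Fin.cons p sq.toFun : Fin (sq.length + 2) → PrimeSpectrum A) (Fin.last _) = _
    rw [← Fin.succ_last, Fin.cons_succ]
    rfl
  have hlen := hcat.2 s sp hhead hlast hstep hspsat
  have h1 : sq.length + 1 = sp.length := hlen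
  rw [← hnp, ← hnq, ← hsplen, ← hsqlen, ← h1]
  push_cast
  rfl


/-- coheights along a saturated chain in a catenary Noetherian local ring -/
theorem coheight_head_eq (hcat : CAlg.IsCatenary A) (s : LTSeries (PrimeSpectrum A))
    (hsat : ∀ i : Fin s.length, s i.castSucc ⋖ s i.succ) :
    Order.coheight s.head = Order.coheight s.last + s.length := by
  have hind : ∀ (i : ℕ) (hi : i < s.length + 1),
      Order.coheight s.head = Order.coheight (s ⟨i, hi⟩) + i := by
    intro i
    induction i with
    | zero =>
      intro hi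
      rw [Nat.cast_zero, add_zero]
      rfl
    | succ n ih =>
      intro hi
      have hn : n < s.length := by omega
      have h1 := coheight_eq_add_one hcat (hsat ⟨n, hn⟩)
      have e1 : s (Fin.castSucc ⟨n, hn⟩) = s ⟨n, by omega⟩ := rfl
      have e2 : s (Fin.succ ⟨n, hn⟩) = s ⟨n + 1, hi⟩ := rfl
      rw [e1, e2] at h1
      rw [ih (by omega), h1]
      push_cast
      ring
  exact hind s.length (by omega)

omit [IsNoetherianRing A] [IsLocalRing A] in
theorem mem_minimalPrimes_of_isMin {p : PrimeSpectrum A} (hp : IsMin p) :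
    p.asIdeal ∈ minimalPrimes A := by
  refine ⟨⟨p.2, bot_le⟩, ?_⟩
  intro q hq hqp
  exact hp (b := ⟨q, hq.1⟩) hqp

/-- `ht q + dim A/q = dim A` in an equidimensional catenary Noetherian local ring -/
theorem height_add_coheight (hcat : CAlg.IsCatenary A)
    (heq : ∀ p ∈ minimalPrimes A, ringKrullDim (A ⧸ p) = ringKrullDim A) (q : PrimeSpectrum A) :
    ((q.asIdeal.height + Order.coheight q : ℕ∞) : WithBot ℕ∞) = ringKrullDim A := by
  have hfinq : q.asIdeal.height ≠ ⊤ := Ideal.height_ne_top_of_isPrime
  rw [PrimeSpectrum.height_eq_orderHeight] at hfinq ⊢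
  obtain ⟨n, hn⟩ := ENat.ne_top_iff_exists.mp hfinq
  obtain ⟨s, hlast, hlen, hmin, hsat⟩ := exists_saturated_height q hn.symm
  have h1 := coheight_head_eq hcat s hsat
  have h2 := heq _ (mem_minimalPrimes_of_isMin hmin)
  rw [ringKrullDim_quotient_eq_coheight, h1, hlast, hlen] at h2
  rw [← h2, ← hn, add_comm]

/-- heights go up by one along covering relations in an equidimensional catenary Noetherian
local ring -/
theorem height_eq_add_one (hcat : CAlg.IsCatenary A)
    (heq : ∀ p ∈ minimalPrimes A, ringKrullDim (A ⧸ p) = ringKrullDim A) {p q : PrimeSpectrum A}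
    (hpq : p ⋖ q) : q.asIdeal.height = p.asIdeal.height + 1 := by
  have hp := height_add_coheight hcat heq p
  have hq := height_add_coheight hcat heq q
  rw [← hq, coheight_eq_add_one hcat hpq] at hp
  have h3 : p.asIdeal.height + (Order.coheight q + 1) = q.asIdeal.height + Order.coheight q :=
    WithBot.coe_injective hp
  have hfin : Order.coheight q ≠ ⊤ := (Order.coheight_lt_top q).ne
  have h4 : (p.asIdeal.height + 1) + Order.coheight q = q.asIdeal.height + Order.coheight q := by
    rw [← h3]
    ring
  exact ((ENat.add_left_injective_of_ne_top hfin) h4).symm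

/-- in a catenary Noetherian local ring, `dim A/p = dim A/q + 1` when `q` covers `p` -/
theorem ringKrullDim_quotient_eq_add_one (hcat : CAlg.IsCatenary A) {p q : PrimeSpectrum A}
    (hpq : p ⋖ q) : ringKrullDim (A ⧸ p.asIdeal) = ringKrullDim (A ⧸ q.asIdeal) + 1 := by
  rw [ringKrullDim_quotient_eq_coheight, ringKrullDim_quotient_eq_coheight,
    coheight_eq_add_one hcat hpq]
  rfl

omit [IsNoetherianRing A] in
/-- the spectrum of a local ring is connected -/
theorem connectedSpace_of_isLocalRing : ConnectedSpace (PrimeSpectrum A) where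
  isPreconnected_univ := by
    apply isPreconnected_of_forall (IsLocalRing.closedPoint A)
    intro y _
    refine ⟨closure {y}, Set.subset_univ _, ?_, subset_closure rfl,
      isPreconnected_singleton.closure⟩
    rw [← specializes_iff_mem_closure, ← PrimeSpectrum.le_iff_specializes]
    exact IsLocalRing.le_maximalIdeal y.2.ne_top
  toNonempty := ⟨IsLocalRing.closedPoint A⟩

/-- two minimal primes inside a prime of height at most one have the same coheight, in a
catenary Noetherian local ring -/
theorem ringKrullDim_quotient_eq_of_le (hcat : CAlg.IsCatenary A) {a b q : Ideal A}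
    (ha : a ∈ minimalPrimes A) (hb : b ∈ minimalPrimes A) [hq : q.IsPrime] (haq : a ≤ q)
    (hbq : b ≤ q) (hht : q.height ≤ 1) : ringKrullDim (A ⧸ a) = ringKrullDim (A ⧸ b) := by
  haveI ha' : a.IsPrime := ha.1.1
  haveI hb' : b.IsPrime := hb.1.1
  have key : ∀ c : Ideal A, c ∈ minimalPrimes A → ∀ [hc : c.IsPrime], c ≤ q → c ≠ q →
      ringKrullDim (A ⧸ c) = ringKrullDim (A ⧸ q) + 1 := by
    intro c _ hc hcq hne
    have hlt : c < q := lt_of_le_of_ne hcq hne
    have hcov : (⟨c, hc⟩ : PrimeSpectrum A) ⋖ ⟨q, hq⟩ := by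
      refine ⟨hlt, ?_⟩
      intro x hcx hxq
      have hcx' : c < x.asIdeal := hcx
      have hxq' : x.asIdeal < q := hxq
      have h1 : c.height < x.asIdeal.height := Ideal.height_strict_mono_of_isPrime hcx'
      have h2 : x.asIdeal.height < q.height := Ideal.height_strict_mono_of_isPrime hxq'
      have h3 : x.asIdeal.height < 1 := lt_of_lt_of_le h2 hht
      have h4 : x.asIdeal.height = 0 := Order.lt_one_iff.mp h3
      rw [h4] at h1
      exact absurd h1 (not_lt_bot)
    exact ringKrullDim_quotient_eq_add_one hcat (p := ⟨c, hc⟩) (q := ⟨q, hq⟩) hcov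
  by_cases haq' : a = q
  · have : b = a := by
      have h1 : b ≤ a := haq' ▸ hbq
      exact le_antisymm h1 (ha.2 ⟨hb', bot_le⟩ h1)
    rw [this]
  by_cases hbq' : b = q
  · have : a = b := by
      have h1 : a ≤ b := hbq' ▸ haq
      exact le_antisymm h1 (hb.2 ⟨ha', bot_le⟩ h1)
    rw [this]
  rw [key a ha haq haq', key b hb hbq hbq']

end Ring

end Cat

end Groth.Agent.H6
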