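import Mathlib
import Groth.Prelude.Def_Wider
import Groth.Agent.Lib.Helper6.LCTorsion

/-! Depth and local cohomology: `depth_I(M)` is the least `i` with `H^i_I(M) ≠ 0`
(finite `M` over a Noetherian ring, `IM ≠ M`). -/

universe u
open CategoryTheory CategoryTheory.Limits Opposite CategoryTheory.Abelian
open RingTheory.Sequence

namespace Groth.Agent.H6

namespace LC

variable {R : Type u} [CommRing R]

lemma smul_top_quotSMulTop_ne_top {M : Type*} [AddCommGroup M]
    [Module R M] {I : Ideal R} {r : R} (hr : r ∈ I)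
    (hI : I • (⊤ : Submodule R M) ≠ ⊤) :
    I • (⊤ : Submodule R (QuotSMulTop r M)) ≠ ⊤ := by
  by_contra eq
  absurd congrArg (Submodule.comap (Submodule.mkQ _)) eq
  simpa [Submodule.comap_smul_top_of_surjective I _ (Submodule.mkQ_surjective _),
    Submodule.smul_mono_left ((Ideal.span_singleton_le_iff_mem I).mpr hr),
    ← Submodule.ideal_span_singleton_smul] using hI

/-- If `Ext^i(R/I^k, M) = 0` for all `k`, then `H^i_I(M) = 0`. -/
theorem subsingleton_of_ext {I : Ideal R} {i : ℕ} (M : ModuleCat.{u} R)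
    (h : ∀ k : ℕ, Subsingleton (Ext (Q I k) M i)) :
    Subsingleton ((localCohomology I i).obj M) := by
  refine ⟨fun x y => ?_⟩
  have h0 : ∀ z : (localCohomology I i).obj M, z = 0 := by
    intro z
    obtain ⟨k, w, rfl⟩ := lcι_surj z
    rw [(h k).elim w 0, map_zero]
  rw [h0 x, h0 y]

/-- A regular sequence of length `n` in `I` forces `H^i_I(M) = 0` for `i < n`. -/
theorem subsingleton_of_isRegular [IsNoetherianRing R] (I : Ideal R) (M : ModuleCat.{u} R)
    [Module.Finite R M] (smul_lt : I • (⊤ : Submodule R M) < ⊤)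
    (rs : List R) (mem : ∀ r ∈ rs, r ∈ I) (reg : IsRegular M rs) (i : ℕ) (hi : i < rs.length) :
    Subsingleton ((localCohomology I i).obj M) := by
  apply subsingleton_of_ext
  intro k
  refine ModuleCat.subsingleton_ext_of_exists_isRegular I (Q I k) ?_ M smul_lt rs mem reg i hi
  rw [Module.support_eq_zeroLocus]
  intro p hp
  change p ∈ PrimeSpectrum.zeroLocus (↑(Module.annihilator R (R ⧸ I ^ k)) : Set R) at hp
  rw [Ideal.annihilator_quotient] at hp
  rw [PrimeSpectrum.mem_zeroLocus] at hp ⊢
  intro a ha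
  exact p.2.mem_of_pow_mem k (hp (Ideal.pow_mem_pow ha k))

/-- If `Γ_I(M) = 0` (i.e. `H^0_I(M) = 0`) for a finite module with `IM ≠ M`, there is an
`M`-regular element in `I`. -/
theorem exists_isSMulRegular_of_subsingleton [IsNoetherianRing R] (I : Ideal R)
    (M : ModuleCat.{u} R) [Module.Finite R M] (smul_lt : I • (⊤ : Submodule R M) < ⊤)
    (h0 : Subsingleton ((localCohomology I 0).obj M)) :
    ∃ x ∈ I, IsSMulRegular M x := by
  have hsupp : Module.support R (ModuleCat.of R (R ⧸ I)) = PrimeSpectrum.zeroLocus I := by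
    change Module.support R (R ⧸ I) = _
    rw [Module.support_eq_zeroLocus, Ideal.annihilator_quotient]
  have hext : ∀ i < 1, Subsingleton (Ext (ModuleCat.of R (R ⧸ I)) M i) := by
    intro i hi
    obtain rfl : i = 0 := by omega
    refine ⟨fun a b => ?_⟩
    have hz : ∀ c : Ext (ModuleCat.of R (R ⧸ I)) M 0, c = 0 := by
      intro c
      obtain ⟨f, rfl⟩ := exists_mk₀ c
      have hf : f = 0 := by
        apply ModuleCat.hom_ext
        apply LinearMap.ext
        intro q
        obtain ⟨r, rfl⟩ := Submodule.Quotient.mk_surjective _ q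
        -- `f (mk 1)` is killed by `I`, hence lies in `Γ_I(M) = 0`
        have hmem : f.hom (Submodule.Quotient.mk (1 : R)) ∈ DRing.torsionSub I M := by
          refine ⟨1, fun a ha => ?_⟩
          rw [pow_one] at ha
          rw [← map_smul]
          have : a • (Submodule.Quotient.mk (1 : R) : R ⧸ I) = 0 := by
            rw [← Submodule.Quotient.mk_smul, Submodule.Quotient.mk_eq_zero, smul_eq_mul, mul_one]
            exact ha
          rw [this, map_zero]
        obtain ⟨z, hz⟩ := exists_of_mem_torsionSub (I := I) M _ hmem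
        have hz0 : z = 0 := Subsingleton.elim _ _
        rw [hz0, map_zero] at hz
        change f.hom (Submodule.Quotient.mk r) = 0
        have : (Submodule.Quotient.mk r : R ⧸ I) = r • Submodule.Quotient.mk (1 : R) := by
          rw [← Submodule.Quotient.mk_smul, smul_eq_mul, mul_one]
        rw [this, map_smul, ← hz, smul_zero]
      rw [hf, Ext.mk₀_zero]
    rw [hz a, hz b]
  obtain ⟨rs, hlen, hmem, hreg⟩ := ModuleCat.exists_isRegular_of_exists_subsingleton_ext I 1 M
    smul_lt (ModuleCat.of R (R ⧸ I)) hsupp hext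
  match rs, hlen, hmem, hreg with
  | [x], _, hmem, hreg =>
    refine ⟨x, hmem x (by simp), ?_⟩
    rw [isRegular_cons_iff] at hreg
    exact hreg.1

/-- Vanishing of `H^i_I(M)` for `i < n` produces a regular sequence of length `n` in `I`. -/
theorem exists_isRegular_of_subsingleton [IsNoetherianRing R] (I : Ideal R) (n : ℕ) :
    ∀ (M : ModuleCat.{u} R) [Module.Finite R M] (_ : I • (⊤ : Submodule R M) < ⊤)
      (_ : ∀ i < n, Subsingleton ((localCohomology I i).obj M)),
      ∃ rs : List R, rs.length = n ∧ (∀ r ∈ rs, r ∈ I) ∧ IsRegular M rs := by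
  induction n with
  | zero =>
    intro M _ smul_lt _
    have : Nontrivial M := (Submodule.nontrivial_iff R).mp (nontrivial_of_lt _ _ smul_lt)
    use []
    simp [isRegular_iff]
  | succ n ih =>
    intro M _ smul_lt h
    obtain ⟨x, hxI, hx⟩ := exists_isSMulRegular_of_subsingleton I M smul_lt (h 0 (by omega))
    have hS := hx.smulShortComplex_shortExact
    have h' : ∀ i < n,
        Subsingleton ((localCohomology I i).obj (ModuleCat.of R (QuotSMulTop x M))) := by
      intro i hi
      have h1 : Subsingleton ((localCohomology I i).obj (M.smulShortComplex x).X₂) :=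
        h i (by omega)
      have h2 : Subsingleton ((localCohomology I (i + 1)).obj (M.smulShortComplex x).X₁) :=
        h (i + 1) (by omega)
      refine ⟨fun a b => ?_⟩
      have hz : ∀ c : (localCohomology I i).obj (ModuleCat.of R (QuotSMulTop x M)), c = 0 := by
        intro c
        obtain ⟨y, rfl⟩ := exact₃ hS (I := I) (i := i) c (Subsingleton.elim _ _)
        rw [Subsingleton.elim y 0, map_zero]
        rfl
      rw [hz a, hz b]
    obtain ⟨rs, hl, hm, hr⟩ := ih (ModuleCat.of R (QuotSMulTop x M))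
      (smul_top_quotSMulTop_ne_top hxI smul_lt.ne).lt_top h'
    refine ⟨x :: rs, by simp [hl], ?_, (isRegular_cons_iff M x rs).mpr ⟨hx, hr⟩⟩
    intro r hr'
    rcases List.mem_cons.mp hr' with rfl | h3
    · exact hxI
    · exact hm r h3

/-- **Depth via local cohomology**: a regular sequence of length `n` in `I` exists iff
`H^i_I(M) = 0` for all `i < n`. -/
theorem exists_isRegular_iff [IsNoetherianRing R] (I : Ideal R) (M : ModuleCat.{u} R)
    [Module.Finite R M] (smul_lt : I • (⊤ : Submodule R M) < ⊤) (n : ℕ) :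
    (∃ rs : List R, rs.length = n ∧ (∀ r ∈ rs, r ∈ I) ∧ IsRegular M rs) ↔
      ∀ i < n, Subsingleton ((localCohomology I i).obj M) := by
  constructor
  · rintro ⟨rs, rfl, mem, reg⟩ i hi
    exact subsingleton_of_isRegular I M smul_lt rs mem reg i hi
  · exact exists_isRegular_of_subsingleton I n M smul_lt

/-- `n ≤ depth_I(M)` iff `H^i_I(M) = 0` for all `i < n`. -/
theorem le_idealDepth_iff [IsNoetherianRing R] (I : Ideal R) (M : Type u) [AddCommGroup M]
    [Module R M] [Module.Finite R M] (hIM : I • (⊤ : Submodule R M) ≠ ⊤) (n : ℕ) :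
    (n : ℕ∞) ≤ LocCoh.idealDepth I M ↔ ∀ i < n, Subsingleton (LocCoh.H I i M) := by
  have smul_lt : I • (⊤ : Submodule R (ModuleCat.of R M)) < ⊤ := lt_top_iff_ne_top.mpr hIM
  have hfin : Module.Finite R (ModuleCat.of R M) := ‹Module.Finite R M›
  have key := exists_isRegular_iff I (ModuleCat.of R M) smul_lt
  -- weakly regular sequences in `I` are regular
  have hreg : ∀ rs : List R, IsWeaklyRegular M rs → (∀ r ∈ rs, r ∈ I) → IsRegular M rs := by
    intro rs h1 h2
    refine ⟨h1, fun h => hIM ?_⟩
    have hle : Ideal.ofList rs ≤ I := Ideal.span_le.mpr fun t ht => h2 t ht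
    exact eq_top_iff.mpr (h.le.trans (Submodule.smul_mono_left hle))
  unfold LocCoh.idealDepth
  rw [if_neg hIM]
  constructor
  · intro hle
    by_contra hV
    -- every admissible sequence has length `< n`
    have hlt : ∀ rs : List R, IsWeaklyRegular M rs ∧ (∀ r ∈ rs, r ∈ I) → rs.length < n := by
      intro rs hrs
      by_contra hge
      push_neg at hge
      apply hV
      intro i hi
      exact (key rs.length).mp ⟨rs, rfl, hrs.2, hreg rs hrs.1 hrs.2⟩ i (lt_of_lt_of_le hi hge)
    have hn : 0 < n := by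
      by_contra h0
      have : n = 0 := by omega
      subst this
      exact hV (fun i hi => absurd hi (Nat.not_lt_zero i))
    have hsup : (⨆ (rs : List R) (_ : IsWeaklyRegular M rs ∧ ∀ r ∈ rs, r ∈ I),
        (rs.length : ℕ∞)) ≤ ((n - 1 : ℕ) : ℕ∞) := by
      refine iSup₂_le fun rs hrs => ?_
      have := hlt rs hrs
      exact_mod_cast Nat.le_sub_one_of_lt this
    have := hle.trans hsup
    have h2 : n ≤ n - 1 := by exact_mod_cast this
    omega
  · intro hV
    obtain ⟨rs, hl, hm, hr⟩ := (key n).mpr hV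
    refine le_iSup₂_of_le rs ⟨hr.1, hm⟩ ?_
    rw [hl]

/-- **S0318**: depth is the least non-vanishing degree of local cohomology. -/
theorem idealDepth_eq_iff [IsNoetherianRing R] (I : Ideal R) (M : Type u) [AddCommGroup M]
    [Module R M] [Module.Finite R M] (hIM : I • (⊤ : Submodule R M) ≠ ⊤) (n : ℕ) :
    LocCoh.idealDepth I M = n ↔
      ((∀ i : ℕ, i < n → Subsingleton (LocCoh.H I i M)) ∧ Nontrivial (LocCoh.H I n M)) := by
  have h1 := le_idealDepth_iff I M hIM n
  have h2 := le_idealDepth_iff I M hIM (n + 1)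
  have h3 : LocCoh.idealDepth I M = n ↔
      ((n : ℕ∞) ≤ LocCoh.idealDepth I M ∧ ¬ (((n + 1 : ℕ) : ℕ∞) ≤ LocCoh.idealDepth I M)) := by
    rw [not_le]
    constructor
    · intro h
      rw [h]
      refine ⟨le_rfl, ?_⟩
      exact_mod_cast Nat.lt_succ_self n
    · rintro ⟨ha, hb⟩
      refine le_antisymm ?_ ha
      have : LocCoh.idealDepth I M < (n : ℕ∞) + 1 := by exact_mod_cast hb
      exact Order.le_of_lt_add_one this
  rw [h3, h1, h2]
  constructor
  · rintro ⟨hV, hN⟩
    refine ⟨hV, ?_⟩
    rw [← not_subsingleton_iff_nontrivial]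
    intro hs
    apply hN
    intro i hi
    rcases Nat.lt_succ_iff_lt_or_eq.mp hi with h | rfl
    · exact hV i h
    · exact hs
  · rintro ⟨hV, hN⟩
    refine ⟨hV, fun h => ?_⟩
    have := h n (Nat.lt_succ_self n)
    exact (not_subsingleton_iff_nontrivial.mpr hN) this

end LC

end Groth.Agent.H6
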