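import Mathlib
import Groth.Prelude.Def_Wider
import Groth.Agent.Lib.Helper6.LCExact

/-! Linearity of `H^i_I(f)` and `I`-power torsion of `H^i_I(M)` (any commutative ring). -/

universe u
open CategoryTheory CategoryTheory.Limits Opposite CategoryTheory.Abelian

namespace Groth.Agent.H6

namespace LC

variable {R : Type u} [CommRing R] {I : Ideal R} {i : ℕ}

/-- `H^i_I` is `R`-linear on morphisms. -/
theorem map_smul_hom {M M' : ModuleCat.{u} R} (r : R) (f : M ⟶ M')
    (x : (localCohomology I i).obj M) :
    ((localCohomology I i).map (r • f)).hom x = r • ((localCohomology I i).map f).hom x := by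
  obtain ⟨n, y, rfl⟩ := lcι_surj x
  rw [map_lcι, map_lcι, Ext.mk₀_smul, Ext.comp_smul, map_smul]

/-- `H^i_I(r • id) = r • id`. -/
theorem map_smul_id {M : ModuleCat.{u} R} (r : R) (x : (localCohomology I i).obj M) :
    ((localCohomology I i).map (r • 𝟙 M)).hom x = r • x := by
  rw [map_smul_hom, CategoryTheory.Functor.map_id]
  rfl

/-- `I^n` kills `Ext^i(R/I^n, M)`. -/
theorem smul_ext_eq_zero {M : ModuleCat.{u} R} {n : ℕ} (a : R) (ha : a ∈ I ^ n)
    (y : Ext (Q I n) M i) : a • y = 0 := by
  have h0 : a • 𝟙 (Q I n) = 0 := by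
    apply ModuleCat.hom_ext
    apply LinearMap.ext
    intro q
    obtain ⟨r, rfl⟩ := Submodule.Quotient.mk_surjective _ q
    change a • (Submodule.Quotient.mk r : R ⧸ I ^ n) = 0
    rw [← Submodule.Quotient.mk_smul, Submodule.Quotient.mk_eq_zero, smul_eq_mul]
    exact Ideal.mul_mem_right _ _ ha
  have : a • y = (Ext.mk₀ (a • 𝟙 (Q I n))).comp y (zero_add i) := by
    rw [Ext.mk₀_smul, Ext.smul_comp, Ext.mk₀_id_comp]
  rw [this, h0, Ext.mk₀_zero, Ext.zero_comp]

theorem smul_lcι_eq_zero {M : ModuleCat.{u} R} {n : ℕ} (a : R) (ha : a ∈ I ^ n)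
    (y : Ext (Q I n) M i) : a • lcι I i M n y = 0 := by
  rw [← map_smul, smul_ext_eq_zero a ha, map_zero]

/-- Every element of `H^i_I(M)` is killed by a power of `I`. -/
theorem isPowerTorsion (I : Ideal R) (i : ℕ) (M : ModuleCat.{u} R) :
    LocCoh.IsPowerTorsion I ((localCohomology I i).obj M) := by
  intro x
  obtain ⟨n, y, rfl⟩ := lcι_surj x
  exact ⟨n, fun a ha => smul_lcι_eq_zero a ha y⟩

/-- If `s` kills `M` then `s` kills `H^i_I(M)`. -/
theorem smul_eq_zero_of_smul_eq_zero {M : ModuleCat.{u} R} (s : R) (hs : ∀ m : M, s • m = 0)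
    (x : (localCohomology I i).obj M) : s • x = 0 := by
  rw [← map_smul_id]
  have : s • 𝟙 M = (0 : R) • 𝟙 M := by
    apply ModuleCat.hom_ext
    apply LinearMap.ext
    intro m
    change s • m = (0 : R) • m
    rw [hs m, zero_smul]
  rw [this, map_smul_hom, zero_smul]

/-- `H^i_I` is additive on morphisms. -/
theorem map_add_hom {M M' : ModuleCat.{u} R} (f g : M ⟶ M')
    (x : (localCohomology I i).obj M) :
    ((localCohomology I i).map (f + g)).hom x =
      ((localCohomology I i).map f).hom x + ((localCohomology I i).map g).hom x := by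
  obtain ⟨n, y, rfl⟩ := lcι_surj x
  rw [map_lcι, map_lcι, map_lcι, Ext.mk₀_add, Ext.comp_add, map_add]

theorem map_zero_hom {M M' : ModuleCat.{u} R} (x : (localCohomology I i).obj M) :
    ((localCohomology I i).map (0 : M ⟶ M')).hom x = 0 := by
  have h : (0 : M ⟶ M') = (0 : R) • (0 : M ⟶ M') := by simp
  rw [h, map_smul_hom, zero_smul]

theorem map_sum_hom {ι : Type*} (s : Finset ι) {M M' : ModuleCat.{u} R} (f : ι → (M ⟶ M'))
    (x : (localCohomology I i).obj M) :
    ((localCohomology I i).map (∑ j ∈ s, f j)).hom x =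
      ∑ j ∈ s, ((localCohomology I i).map (f j)).hom x := by
  classical
  induction s using Finset.induction_on with
  | empty => simp [map_zero_hom]
  | insert a s ha ih => rw [Finset.sum_insert ha, Finset.sum_insert ha, map_add_hom, ih]

theorem map_comp_hom {M M' M'' : ModuleCat.{u} R} (f : M ⟶ M') (g : M' ⟶ M'')
    (x : (localCohomology I i).obj M) :
    ((localCohomology I i).map (f ≫ g)).hom x =
      ((localCohomology I i).map g).hom (((localCohomology I i).map f).hom x) := by
  rw [Functor.map_comp]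
  rfl

/-- If `a` kills `H^i_I(X)`, it kills `H^i_I(X^k)`. -/
theorem smul_eq_zero_finsupp {X : Type u} [AddCommGroup X] [Module R X] (a : R)
    (ha : ∀ x : (localCohomology I i).obj (ModuleCat.of R X), a • x = 0) (k : ℕ)
    (x : (localCohomology I i).obj (ModuleCat.of R (Fin k →₀ X))) : a • x = 0 := by
  have hid : 𝟙 (ModuleCat.of R (Fin k →₀ X)) =
      ∑ j : Fin k, (ModuleCat.ofHom (Finsupp.lapply (R := R) (M := X) j) ≫
        ModuleCat.ofHom (Finsupp.lsingle (R := R) (M := X) j)) := by
    apply ModuleCat.hom_ext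
    apply LinearMap.ext
    intro v
    rw [ModuleCat.hom_sum]
    simp only [ModuleCat.hom_id, LinearMap.id_coe, id_eq, ModuleCat.hom_comp, ModuleCat.hom_ofHom]
    rw [LinearMap.sum_apply]
    simp only [LinearMap.coe_comp, Function.comp_apply, Finsupp.lapply_apply,
      Finsupp.lsingle_apply]
    exact (Finsupp.univ_sum_single v).symm
  have hx : x = ((localCohomology I i).map (𝟙 (ModuleCat.of R (Fin k →₀ X)))).hom x := by
    rw [CategoryTheory.Functor.map_id]
    rfl
  rw [hx, hid, map_sum_hom, Finset.smul_sum]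
  refine Finset.sum_eq_zero fun j _ => ?_
  rw [map_comp_hom, ← map_smul, ha, map_zero]

/-- Transfer of annihilation along a retraction up to `s`. -/
theorem smul_eq_zero_of_split {M N : ModuleCat.{u} R} (f : N ⟶ M) (g : M ⟶ N) (s a : R)
    (hfg : g ≫ f = s • 𝟙 M) (ha : ∀ y : (localCohomology I i).obj N, a • y = 0)
    (x : (localCohomology I i).obj M) : (a * s) • x = 0 := by
  rw [mul_smul, ← map_smul_id (I := I) (i := i) s x, ← hfg, map_comp_hom, ← map_smul, ha,
    map_zero]

/-- Vanishing of `H^i_I` transfers along linear equivalences. -/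
theorem subsingleton_of_linearEquiv {X Y : Type u} [AddCommGroup X] [Module R X] [AddCommGroup Y]
    [Module R Y] (e : X ≃ₗ[R] Y) (h : Subsingleton ((localCohomology I i).obj (ModuleCat.of R X))) :
    Subsingleton ((localCohomology I i).obj (ModuleCat.of R Y)) := by
  refine ⟨fun a b => ?_⟩
  have hz : ∀ y : (localCohomology I i).obj (ModuleCat.of R Y), y = 0 := by
    intro y
    have hid : 𝟙 (ModuleCat.of R Y) =
        ModuleCat.ofHom e.symm.toLinearMap ≫ ModuleCat.ofHom e.toLinearMap := by
      apply ModuleCat.hom_ext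
      apply LinearMap.ext
      intro v
      simp
    have hy : y = ((localCohomology I i).map (𝟙 (ModuleCat.of R Y))).hom y := by
      rw [CategoryTheory.Functor.map_id]
      rfl
    rw [hy, hid, map_comp_hom, Subsingleton.elim (((localCohomology I i).map _).hom y) 0, map_zero]
  rw [hz a, hz b]

end LC

end Groth.Agent.H6
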