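import Mathlib
import Groth.Prelude.Def_Wider
import Groth.Agent.Lib.Helper6.LCTorsion
import Groth.Agent.Lib.Helper6.LCProps

/-! Torsion-free injective embeddings and the comparison between vanishing of `Ext^i(F, G)`
(`F` finite, supported in `V(J)`) and vanishing of `H^i_J(G)`. -/

universe u
open CategoryTheory CategoryTheory.Limits Opposite CategoryTheory.Abelian

namespace Groth.Agent.H6

namespace LC

variable {R : Type u} [CommRing R]

/-- The short exact sequence `0 → M → N → N / range f → 0` of an injective linear map. -/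
theorem rangeSES_shortExact {M N : Type u} [AddCommGroup M] [Module R M] [AddCommGroup N]
    [Module R N] (f : M →ₗ[R] N) (hf : Function.Injective f) :
    (ShortComplex.mk (ModuleCat.ofHom f) (ModuleCat.ofHom (LinearMap.range f).mkQ)
      (by ext x; exact (Submodule.Quotient.mk_eq_zero _).mpr ⟨x, rfl⟩)).ShortExact := by
  refine ModuleCat.shortComplex_shortExact _ ?_ hf (Submodule.mkQ_surjective _)
  intro r
  change Submodule.mkQ _ r = 0 ↔ r ∈ Set.range f
  rw [Submodule.mkQ_apply, Submodule.Quotient.mk_eq_zero]
  rfl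

/-- A module with no `J`-power torsion embeds in an injective module with no `J`-power torsion
(Noetherian ring). -/
theorem exists_injective_ses_of_torsionFree [IsNoetherianRing R] (J : Ideal R)
    (G : ModuleCat.{u} R) (hG : DRing.torsionSub J G = ⊥) :
    ∃ (E C : ModuleCat.{u} R) (f : G ⟶ E) (g : E ⟶ C) (w : f ≫ g = 0),
      (ShortComplex.mk f g w).ShortExact ∧ Injective E ∧ DRing.torsionSub J E = ⊥ := by
  let E0 : ModuleCat.{u} R := Injective.under G
  have hinj : Injective (ModuleCat.of R E0) := (inferInstance : Injective (Injective.under G))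
  have : Module.Injective R E0 := Module.injective_module_of_injective_object R E0
  have hΓ := torsionSub_injective J E0
  let Γ : Submodule R E0 := DRing.torsionSub J E0
  obtain ⟨r, hr⟩ := Module.Injective.extension_property R Γ _ _ Γ.subtype
    (Submodule.injective_subtype _) LinearMap.id
  have hr' : ∀ x : Γ, r (x : E0) = x := fun x => LinearMap.congr_fun hr x
  let E' : Submodule R E0 := LinearMap.ker r
  let π : E0 →ₗ[R] E' := (LinearMap.id - Γ.subtype ∘ₗ r).codRestrict E' (by
    intro e
    rw [LinearMap.mem_ker, LinearMap.sub_apply, map_sub, LinearMap.id_apply,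
      LinearMap.comp_apply]
    change r e - r ((r e : Γ) : E0) = 0
    rw [hr', sub_self])
  have hπ : ∀ e : E', π (e : E0) = e := by
    intro e
    apply Subtype.ext
    change (e : E0) - ((r (e : E0) : Γ) : E0) = e
    rw [LinearMap.mem_ker.mp e.2]
    simp
  have hE'inj : Module.Injective R E' := by
    refine ⟨fun X Y _ _ _ _ f hf g => ?_⟩
    obtain ⟨h, hh⟩ := Module.Injective.extension_property R E0 _ _ f hf (E'.subtype ∘ₗ g)
    refine ⟨π ∘ₗ h, fun x => ?_⟩
    have := LinearMap.congr_fun hh x
    rw [LinearMap.comp_apply] at this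
    rw [LinearMap.comp_apply, this]
    exact hπ (g x)
  have hE'tors : DRing.torsionSub J E' = ⊥ := by
    rw [eq_bot_iff]
    rintro x ⟨n, hn⟩
    have hx : (x : E0) ∈ Γ := ⟨n, fun a ha => by
      have := congrArg Subtype.val (hn a ha)
      exact this⟩
    have h1 := hr' ⟨(x : E0), hx⟩
    have h2 : r (x : E0) = 0 := LinearMap.mem_ker.mp x.2
    rw [Submodule.mem_bot]
    apply Subtype.ext
    change (x : E0) = 0
    have h3 : (⟨(x : E0), hx⟩ : Γ) = 0 := by
      rw [← h1]
      exact h2
    exact congrArg Subtype.val h3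
  let f' : G →ₗ[R] E' := π ∘ₗ (Injective.ι G).hom
  have hf' : Function.Injective f' := by
    rw [← LinearMap.ker_eq_bot, eq_bot_iff]
    intro x hx
    rw [LinearMap.mem_ker] at hx
    have h1 : ((Injective.ι G).hom x : E0) - ((r ((Injective.ι G).hom x) : Γ) : E0) = 0 :=
      congrArg Subtype.val hx
    have h2 : (Injective.ι G).hom x ∈ Γ := by
      rw [sub_eq_zero] at h1
      rw [h1]
      exact (r ((Injective.ι G).hom x)).2
    obtain ⟨n, hn⟩ := h2
    have h3 : x ∈ DRing.torsionSub J G := by
      refine ⟨n, fun a ha => ?_⟩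
      have h4 := hn a ha
      rw [← map_smul] at h4
      have hmono : Function.Injective (Injective.ι G).hom :=
        (ModuleCat.mono_iff_injective (Injective.ι G)).mp inferInstance
      exact hmono (h4.trans (map_zero _).symm)
    rw [hG] at h3
    exact h3
  refine ⟨ModuleCat.of R E', ModuleCat.of R (E' ⧸ LinearMap.range f'), ModuleCat.ofHom f',
    ModuleCat.ofHom (LinearMap.range f').mkQ, _, rangeSES_shortExact f' hf',
    Module.injective_object_of_injective_module R _, hE'tors⟩

section Shift

variable {J : Ideal R}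

/-- Local cohomology of a torsion-free injective module vanishes in all degrees. -/
theorem subsingleton_lc_of_injective_torsionFree (E : ModuleCat.{u} R) [Injective E]
    (hE : DRing.torsionSub J E = ⊥) (i : ℕ) :
    Subsingleton ((localCohomology J i).obj E) := by
  cases i with
  | zero =>
    have : Subsingleton (DRing.torsionSub J E) := by
      rw [hE]
      infer_instance
    exact (zeroEquiv J E).toEquiv.subsingleton
  | succ i => exact subsingleton_of_injective E i

variable {S : ShortComplex (ModuleCat.{u} R)} (hS : S.ShortExact)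

/-- If the middle term is a torsion-free injective, the connecting map is bijective. -/
theorem δ_bijective [Injective S.X₂] (hE : DRing.torsionSub J S.X₂ = ⊥) (i : ℕ) :
    Function.Bijective (δ hS J i) := by
  have h1 := subsingleton_lc_of_injective_torsionFree (J := J) S.X₂ hE i
  have h2 := subsingleton_lc_of_injective_torsionFree (J := J) S.X₂ hE (i + 1)
  constructor
  · rw [injective_iff_map_eq_zero]
    intro z hz
    obtain ⟨y, rfl⟩ := exact₃ hS z hz
    rw [Subsingleton.elim y 0, map_zero]
  · intro x
    exact exact₁ hS x (Subsingleton.elim _ _)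

include hS in
theorem lc_shift_iff [Injective S.X₂] (hE : DRing.torsionSub J S.X₂ = ⊥) (i : ℕ) :
    Subsingleton ((localCohomology J (i + 1)).obj S.X₁) ↔
      Subsingleton ((localCohomology J i).obj S.X₃) :=
  (Equiv.ofBijective _ (δ_bijective hS hE i)).subsingleton_congr.symm

/-- `Hom(F, G) = 0` when `F` is killed by a power of `J` and `G` has no `J`-power torsion. -/
theorem ext_zero_subsingleton (F G : ModuleCat.{u} R)
    (hF : ∃ k : ℕ, ∀ a ∈ J ^ k, ∀ x : F, a • x = 0) (hG : DRing.torsionSub J G = ⊥) :
    Subsingleton (Ext F G 0) := by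
  refine ⟨fun a b => ?_⟩
  have hz : ∀ c : Ext F G 0, c = 0 := by
    intro c
    obtain ⟨f, rfl⟩ := exists_mk₀ c
    have hf : f = 0 := by
      apply ModuleCat.hom_ext
      apply LinearMap.ext
      intro x
      obtain ⟨k, hk⟩ := hF
      have hmem : f.hom x ∈ DRing.torsionSub J G := by
        refine ⟨k, fun a ha => ?_⟩
        rw [← map_smul, hk a ha x, map_zero]
      rw [hG] at hmem
      exact hmem
    rw [hf, Ext.mk₀_zero]
  rw [hz a, hz b]

theorem ext_subsingleton_of_injective_torsionFree (F E : ModuleCat.{u} R) [Injective E]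
    (hF : ∃ k : ℕ, ∀ a ∈ J ^ k, ∀ x : F, a • x = 0) (hE : DRing.torsionSub J E = ⊥) (i : ℕ) :
    Subsingleton (Ext F E i) := by
  cases i with
  | zero => exact ext_zero_subsingleton F E hF hE
  | succ i => exact Ext.subsingleton_of_injective F E i

include hS in
theorem ext_shift_iff [Injective S.X₂] (F : ModuleCat.{u} R)
    (hF : ∃ k : ℕ, ∀ a ∈ J ^ k, ∀ x : F, a • x = 0) (hE : DRing.torsionSub J S.X₂ = ⊥) (i : ℕ) :
    Subsingleton (Ext F S.X₁ (i + 1)) ↔ Subsingleton (Ext F S.X₃ i) := by
  have h1 := ext_subsingleton_of_injective_torsionFree F S.X₂ hF hE i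
  have h2 := ext_subsingleton_of_injective_torsionFree F S.X₂ hF hE (i + 1)
  constructor
  · intro h
    refine ⟨fun a b => ?_⟩
    have hz : ∀ c : Ext F S.X₃ i, c = 0 := by
      intro c
      obtain ⟨x₂, rfl⟩ := Ext.covariant_sequence_exact₃ F hS c rfl (Subsingleton.elim _ _)
      rw [Subsingleton.elim x₂ 0, Ext.zero_comp]
    rw [hz a, hz b]
  · intro h
    refine ⟨fun a b => ?_⟩
    have hz : ∀ c : Ext F S.X₁ (i + 1), c = 0 := by
      intro c
      obtain ⟨x₃, rfl⟩ := Ext.covariant_sequence_exact₁ F hS c (Subsingleton.elim _ _) rfl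
      rw [Subsingleton.elim x₃ 0, Ext.zero_comp]
    rw [hz a, hz b]

end Shift

/-- A finite module supported in `V(J)` is killed by a power of `J` (Noetherian ring). -/
theorem exists_pow_smul_eq_zero_of_support_subset [IsNoetherianRing R] (J : Ideal R)
    (F : Type u) [AddCommGroup F] [Module R F] [Module.Finite R F]
    (hsupp : Module.support R F ⊆ PrimeSpectrum.zeroLocus (J : Set R)) :
    ∃ k : ℕ, ∀ a ∈ J ^ k, ∀ x : F, a • x = 0 := by
  rw [Module.support_eq_zeroLocus, PrimeSpectrum.zeroLocus_subset_zeroLocus_iff] at hsupp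
  obtain ⟨k, hk⟩ := Ideal.exists_pow_le_of_le_radical_of_fg hsupp (IsNoetherian.noetherian J)
  exact ⟨k, fun a ha x => Module.mem_annihilator.mp (hk ha) x⟩

/-- If `Supp F = V(J)` and `Hom(F, G) = 0` then `G` has no `J`-power torsion. -/
theorem torsionSub_eq_bot_of_ext_zero [IsNoetherianRing R] (J : Ideal R)
    (F G : ModuleCat.{u} R) [Module.Finite R F]
    (hsupp : Module.support R F = PrimeSpectrum.zeroLocus (J : Set R))
    (h : Subsingleton (Ext F G 0)) : DRing.torsionSub J G = ⊥ := by
  rw [eq_bot_iff]
  rintro x ⟨n, hn⟩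
  rw [Submodule.mem_bot]
  let M : Submodule R G := Submodule.span R {x}
  have hfinM : Module.Finite R M := Module.Finite.span_singleton R x
  have hsub : Subsingleton (F →ₗ[R] M) := by
    refine ⟨fun φ ψ => ?_⟩
    have hz : ∀ χ : F →ₗ[R] M, χ = 0 := by
      intro χ
      have h1 : Ext.mk₀ (ModuleCat.ofHom (M.subtype ∘ₗ χ)) = (0 : Ext F G 0) :=
        Subsingleton.elim _ _
      rw [← Ext.mk₀_zero] at h1
      have h2 := (Ext.mk₀_bijective _ _).1 h1
      apply LinearMap.ext
      intro y
      apply Subtype.ext
      have h3 := congrArg (fun g => g.hom y) h2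
      exact h3
    rw [hz φ, hz ψ]
  obtain ⟨r, hrann, hreg⟩ := IsSMulRegular.subsingleton_linearMap_iff.mp hsub
  -- `r ∈ rad J`
  have hrad : r ∈ J.radical := by
    have h1 : Module.annihilator R F ≤ J.radical := by
      rw [← PrimeSpectrum.vanishingIdeal_zeroLocus_eq_radical, ← hsupp,
        Module.support_eq_zeroLocus, PrimeSpectrum.vanishingIdeal_zeroLocus_eq_radical]
      exact Ideal.le_radical
    exact h1 hrann
  obtain ⟨k, hk⟩ := hrad
  have h4 : (r ^ k) ^ n • x = 0 := hn _ (Ideal.pow_mem_pow hk n)
  have hx : (⟨x, Submodule.mem_span_singleton_self x⟩ : M) = 0 := by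
    apply ((hreg.pow k).pow n)
    apply Subtype.ext
    change (r ^ k) ^ n • x = (r ^ k) ^ n • (0 : G)
    rw [h4, smul_zero]
  exact congrArg Subtype.val hx

/-- Claim 1: vanishing of `H^i_J(G)` for `i < n` implies vanishing of `Ext^i(F, G)` for `i < n`,
for `F` killed by a power of `J`. -/
theorem ext_vanish_of_lc_vanish [IsNoetherianRing R] (J : Ideal R) (F : ModuleCat.{u} R)
    (hF : ∃ k : ℕ, ∀ a ∈ J ^ k, ∀ x : F, a • x = 0) (n : ℕ) :
    ∀ (G : ModuleCat.{u} R), (∀ i < n, Subsingleton ((localCohomology J i).obj G)) →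
      ∀ i < n, Subsingleton (Ext F G i) := by
  induction n with
  | zero => intro G _ i hi; exact absurd hi (Nat.not_lt_zero i)
  | succ n ih =>
    intro G h i hi
    have hG0 : DRing.torsionSub J G = ⊥ := by
      have := h 0 (Nat.succ_pos n)
      have : Subsingleton (DRing.torsionSub J G) := (zeroEquiv J G).symm.toEquiv.subsingleton
      exact Submodule.eq_bot_of_subsingleton
    obtain ⟨E, C, f, g, w, hS, hE, hEt⟩ := exists_injective_ses_of_torsionFree J G hG0
    have : Injective (ShortComplex.mk f g w).X₂ := hE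
    cases i with
    | zero => exact ext_zero_subsingleton F G hF hG0
    | succ i =>
      refine (ext_shift_iff hS F hF hEt i).mpr ?_
      refine ih C (fun j hj => ?_) i (by omega)
      exact (lc_shift_iff hS hEt j).mp (h (j + 1) (by omega))

/-- Claim 2: for finite `F` with `Supp F = V(J)`, vanishing of `Ext^i(F, G)` for `i < n` implies
vanishing of `H^i_J(G)` for `i < n`. -/
theorem lc_vanish_of_ext_vanish [IsNoetherianRing R] (J : Ideal R) (F : ModuleCat.{u} R)
    [Module.Finite R F] (hsupp : Module.support R F = PrimeSpectrum.zeroLocus (J : Set R))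
    (n : ℕ) :
    ∀ (G : ModuleCat.{u} R), (∀ i < n, Subsingleton (Ext F G i)) →
      ∀ i < n, Subsingleton ((localCohomology J i).obj G) := by
  have hF := exists_pow_smul_eq_zero_of_support_subset J F hsupp.le
  induction n with
  | zero => intro G _ i hi; exact absurd hi (Nat.not_lt_zero i)
  | succ n ih =>
    intro G h i hi
    have hG0 : DRing.torsionSub J G = ⊥ :=
      torsionSub_eq_bot_of_ext_zero J F G hsupp (h 0 (Nat.succ_pos n))
    obtain ⟨E, C, f, g, w, hS, hE, hEt⟩ := exists_injective_ses_of_torsionFree J G hG0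
    have : Injective (ShortComplex.mk f g w).X₂ := hE
    cases i with
    | zero =>
      have : Subsingleton (DRing.torsionSub J G) := by
        rw [hG0]
        infer_instance
      exact (zeroEquiv J G).toEquiv.subsingleton
    | succ i =>
      refine (lc_shift_iff hS hEt i).mpr ?_
      refine ih C (fun j hj => ?_) i (by omega)
      exact (ext_shift_iff hS F hF hEt j).mp (h (j + 1) (by omega))

end LC

end Groth.Agent.H6
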