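import Groth.Agent.Lib.Helper6.LCNonvanish

/-! The top local cohomology `H^n_m(M)`, `n = dim M > 0`: divisible by parameters, hence not
finitely generated. -/

universe u
open CategoryTheory CategoryTheory.Limits Opposite CategoryTheory.Abelian
open Pointwise

namespace Groth.Agent.H6

namespace LC

variable {R : Type u} [CommRing R] [IsNoetherianRing R]

/-- right exactness of the top local cohomology: if `dim M ≤ n` and `dim M/xM < n` then
multiplication by `x` on `H^n_I(M)` is surjective -/
theorem smul_surjective_of_supportDim_lt (I : Ideal R) (M : Type u) [AddCommGroup M] [Module R M]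
    [Module.Finite R M] (n : ℕ) (hn : Module.supportDim R M ≤ n) (x : R)
    (hx : Module.supportDim R (QuotSMulTop x M) < n) (y : LocCoh.H I n M) :
    ∃ y' : LocCoh.H I n M, x • y' = y := by
  haveI : IsNoetherian R M := isNoetherian_of_isNoetherianRing_of_finite R M
  let φ : M →ₗ[R] M := LinearMap.lsmul R M x
  have hrange : LinearMap.range φ = x • (⊤ : Submodule R M) := by
    ext z
    rw [Submodule.mem_smul_pointwise_iff_exists]
    constructor
    · rintro ⟨w, rfl⟩; exact ⟨w, trivial, rfl⟩
    · rintro ⟨w, -, rfl⟩; exact ⟨w, rfl⟩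
  have hK : Subsingleton (LocCoh.H I (n + 1) (LinearMap.ker φ)) := by
    apply subsingleton_of_supportDim_lt
    refine lt_of_le_of_lt (Module.supportDim_le_of_injective (LinearMap.ker φ).subtype
      (Submodule.injective_subtype _)) (lt_of_le_of_lt hn ?_)
    exact_mod_cast Nat.lt_succ_self n
  have hsurj1 := map_rangeRestrict_surjective (I := I) φ n hK
  have hS2 := subSES_shortExact (LinearMap.range φ)
  have hC : Subsingleton (LocCoh.H I n (M ⧸ LinearMap.range φ)) := by
    apply subsingleton_of_supportDim_lt
    rw [Module.supportDim_eq_of_equiv (Submodule.quotEquivOfEq _ _ hrange)]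
    exact hx
  have hsurj2 := map_f_surjective (I := I) hS2 n hC
  obtain ⟨z, rfl⟩ := hsurj2 y
  obtain ⟨w, rfl⟩ := hsurj1 z
  refine ⟨w, ?_⟩
  have hcomp : ModuleCat.ofHom φ.rangeRestrict ≫ ModuleCat.ofHom (LinearMap.range φ).subtype =
      x • 𝟙 (ModuleCat.of R M) := by
    apply ModuleCat.hom_ext
    apply LinearMap.ext
    intro v
    rfl
  change x • w = ((localCohomology I n).map (ModuleCat.ofHom (LinearMap.range φ).subtype)).hom
    (((localCohomology I n).map (ModuleCat.ofHom φ.rangeRestrict)).hom w)
  rw [← map_comp_hom, hcomp, map_smul_id]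

variable [IsLocalRing R]

open IsLocalRing

/-- a parameter element: `x ∈ m` with `dim M/xM < dim M`, when `dim M > 0` -/
theorem exists_parameter (M : Type u) [AddCommGroup M] [Module R M] [Module.Finite R M] (n : ℕ)
    (hn0 : 0 < n) (hn : Module.supportDim R M = n) :
    ∃ x ∈ maximalIdeal R, Module.supportDim R (QuotSMulTop x M) < n := by
  classical
  have hfin : (Module.annihilator R M).minimalPrimes.Finite :=
    Ideal.finite_minimalPrimes_of_isNoetherianRing R _
  -- the maximal ideal is not a minimal prime of the annihilator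
  have hnot : ∀ q ∈ hfin.toFinset, ¬ maximalIdeal R ≤ q := by
    intro q hq hle
    rw [Set.Finite.mem_toFinset] at hq
    haveI := hq.1.1
    have hqm : q = maximalIdeal R :=
      ((IsLocalRing.maximalIdeal.isMaximal R).eq_of_le hq.1.1.ne_top hle).symm
    -- then the support is `{m}` and the dimension is zero
    have hsupp : ∀ a b : Module.support R M, ¬ a < b := by
      intro a b hab
      have ha : Module.annihilator R M ≤ a.1.asIdeal := Module.mem_support_iff_of_finite.mp a.2
      have hb : b.1.asIdeal ≤ maximalIdeal R := IsLocalRing.le_maximalIdeal b.1.2.ne_top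
      have ham : a.1.asIdeal = q := by
        apply le_antisymm
        · rw [hqm]
          exact IsLocalRing.le_maximalIdeal a.1.2.ne_top
        · exact hq.2 ⟨a.1.2, ha⟩ (by rw [hqm]; exact IsLocalRing.le_maximalIdeal a.1.2.ne_top)
      have h1 : a.1.asIdeal < b.1.asIdeal := hab
      rw [ham, hqm] at h1
      exact absurd hb (not_le_of_gt h1)
    have hdim : Module.supportDim R M ≤ 0 := by
      unfold Module.supportDim
      rw [Order.krullDim_nonpos_iff_forall_isMax]
      intro a b hab
      by_contra hba
      exact hsupp a b (lt_of_le_not_ge hab hba)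
    rw [hn] at hdim
    have : (n : WithBot ℕ∞) ≤ ((0 : ℕ) : WithBot ℕ∞) := hdim
    have h0 : n ≤ 0 := by exact_mod_cast this
    omega
  have hsub : ¬ ((maximalIdeal R : Set R) ⊆ ⋃ q ∈ (hfin.toFinset : Set (Ideal R)), (q : Set R)) := by
    rw [Ideal.subset_union_prime (s := hfin.toFinset) (f := fun q => q) ⊥ ⊥
      (fun q hq _ _ => (hfin.mem_toFinset.mp hq).1.1)]
    rintro ⟨q, hq, hle⟩
    exact hnot q hq hle
  rw [Set.not_subset] at hsub
  obtain ⟨x, hxm, hxQ⟩ := hsub
  refine ⟨x, hxm, ?_⟩
  have h2 : Module.supportDim R (QuotSMulTop x M) + 1 ≤ Module.supportDim R M := by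
    apply Module.supportDim_quotSMulTop_succ_le_of_notMem_minimalPrimes
    intro q hq hxq
    apply hxQ
    simp only [Set.mem_iUnion, SetLike.mem_coe]
    exact ⟨q, hfin.mem_toFinset.mpr hq, hxq⟩
  rw [hn] at h2
  exact withBot_lt_of_add_one_le _ n h2

/-- the top local cohomology of a module of positive dimension is not finitely generated -/
theorem not_finite_H_top (M : Type u) [AddCommGroup M] [Module R M] [Module.Finite R M] (n : ℕ)
    (hn0 : 0 < n) (hn : Module.supportDim R M = n) :
    ¬ Module.Finite R (LocCoh.H (maximalIdeal R) n M) := by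
  intro hfin
  haveI := nontrivial_H_of_supportDim_eq n M hn
  obtain ⟨x, hxm, hx⟩ := exists_parameter M n hn0 hn
  have hdiv := smul_surjective_of_supportDim_lt (maximalIdeal R) M n hn.le x hx
  have htop : (⊤ : Submodule R (LocCoh.H (maximalIdeal R) n M)) = ⊥ := by
    apply Submodule.eq_bot_of_le_smul_of_le_jacobson_bot (maximalIdeal R) _ Module.Finite.fg_top
    · intro y _
      obtain ⟨y', rfl⟩ := hdiv y
      exact Submodule.smul_mem_smul hxm Submodule.mem_top
    · exact (IsLocalRing.jacobson_eq_maximalIdeal ⊥ bot_ne_top).ge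
  obtain ⟨c, c', hcc'⟩ := exists_pair_ne (LocCoh.H (maximalIdeal R) n M)
  have h0 : ∀ z : LocCoh.H (maximalIdeal R) n M, z = 0 := fun z => by
    have : z ∈ (⊤ : Submodule R (LocCoh.H (maximalIdeal R) n M)) := trivial
    rw [htop] at this
    exact this
  exact hcc' ((h0 c).trans (h0 c').symm)

theorem withBot_le_of_add_one_le (a : WithBot ℕ∞) (n : ℕ)
    (h : a + 1 ≤ ((n + 1 : ℕ) : WithBot ℕ∞)) : a ≤ (n : WithBot ℕ∞) := by
  have h1 := withBot_lt_of_add_one_le a (n + 1) h
  exact withBot_le_of_lt_succ a n h1

/-- a finitely generated module of dimension `≤ 0` over a local ring is Artinian -/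
theorem isArtinian_of_supportDim_le_zero (M : Type u) [AddCommGroup M] [Module R M]
    [Module.Finite R M] (h : Module.supportDim R M ≤ ((0 : ℕ) : WithBot ℕ∞)) : IsArtinian R M := by
  apply isArtinian_of_finite_of_powerTorsion (maximalIdeal R) M
  -- every prime containing the annihilator is the maximal ideal
  have hprime : ∀ q : Ideal R, q.IsPrime → Module.annihilator R M ≤ q → maximalIdeal R ≤ q := by
    intro q hq hle
    by_contra hnot
    have hlt : q < maximalIdeal R := lt_of_le_not_ge (IsLocalRing.le_maximalIdeal hq.ne_top) hnot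
    let a : Module.support R M := ⟨⟨q, hq⟩, Module.mem_support_iff_of_finite.mpr hle⟩
    let b : Module.support R M := ⟨⟨maximalIdeal R, inferInstance⟩,
      Module.mem_support_iff_of_finite.mpr (hle.trans hlt.le)⟩
    have hab : a < b := hlt
    unfold Module.supportDim at h
    have h0 : Order.krullDim (Module.support R M) ≤ 0 := h
    rw [Order.krullDim_nonpos_iff_forall_isMax] at h0
    exact absurd (h0 a hab.le) (not_le_of_gt hab)
  have hrad : maximalIdeal R ≤ (Module.annihilator R M).radical := by
    rw [Ideal.radical_eq_sInf]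
    exact le_sInf fun q hq => hprime q hq.2 hq.1
  obtain ⟨k, hk⟩ := Ideal.exists_pow_le_of_le_radical_of_fg hrad
    (IsNoetherian.noetherian (maximalIdeal R))
  intro y
  exact ⟨k, fun a ha => Module.mem_annihilator.mp (hk ha) y⟩

/-- **the top local cohomology with respect to any ideal is Artinian** -/
theorem isArtinian_H_top (a : Ideal R) :
    ∀ (n : ℕ) (M : Type u) [AddCommGroup M] [Module R M] [Module.Finite R M],
      Module.supportDim R M ≤ (n : WithBot ℕ∞) → IsArtinian R (LocCoh.H a n M) := by
  intro n
  induction n with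
  | zero =>
    intro M _ _ _ h
    haveI := isArtinian_of_supportDim_le_zero M h
    exact isArtinian_of_injective (zeroToSelf a (ModuleCat.of R M))
      (zeroToSelf_injective (I := a) (ModuleCat.of R M))
  | succ n ih =>
    intro M _ _ _ h
    let N := M ⧸ DRing.torsionSub a M
    have hbij := map_mkQ_torsionSub_bijective a M n
    suffices hN : IsArtinian R (LocCoh.H a (n + 1) N) from
      isArtinian_of_injective _ hbij.1
    have htf : DRing.torsionSub a N = ⊥ := torsionSub_quot_eq_bot a M
    obtain ⟨x, hxa, hx⟩ := exists_isSMulRegular_of_torsionSub_eq_bot a N htf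
    have hx' : IsSMulRegular (ModuleCat.of R N) x := hx
    have hS := hx'.smulShortComplex_shortExact
    have hdimN : Module.supportDim R N ≤ ((n + 1 : ℕ) : WithBot ℕ∞) :=
      (Module.supportDim_le_of_surjective (DRing.torsionSub a M).mkQ
        (Submodule.mkQ_surjective _)).trans h
    have hdimQ : Module.supportDim R (QuotSMulTop x N) ≤ (n : WithBot ℕ∞) := by
      apply withBot_le_of_add_one_le
      refine le_trans ?_ hdimN
      apply Module.supportDim_quotSMulTop_succ_le_of_notMem_minimalPrimes
      intro q hq
      exact hx.notMem_of_mem_minimalPrimes hq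
    haveI hA : IsArtinian R ((localCohomology a n).obj
        ((ModuleCat.of R N).smulShortComplex x).X₃) := ih (QuotSMulTop x N) hdimQ
    change IsArtinian R ((localCohomology a (n + 1)).obj
      ((ModuleCat.of R N).smulShortComplex x).X₁)
    have hle : Submodule.torsionBy R
        ((localCohomology a (n + 1)).obj ((ModuleCat.of R N).smulShortComplex x).X₁) x ≤
        LinearMap.range (δ hS a n) := by
      intro y hy
      rw [Submodule.mem_torsionBy_iff] at hy
      have h0 : ((localCohomology a (n + 1)).map
          ((ModuleCat.of R N).smulShortComplex x).f).hom y = 0 := by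
        rw [ModuleCat.smulShortComplex_f_eq_smul_id]
        exact (map_smul_id x y).trans hy
      obtain ⟨z, hz⟩ := exact₁ hS y h0
      exact ⟨z, hz⟩
    haveI : IsArtinian R (LinearMap.range (δ hS a n)) :=
      isArtinian_of_surjective _ (δ hS a n).rangeRestrict (LinearMap.surjective_rangeRestrict _)
    haveI : IsArtinian R (Submodule.torsionBy R
        ((localCohomology a (n + 1)).obj ((ModuleCat.of R N).smulShortComplex x).X₁) x) :=
      isArtinian_of_injective (Submodule.inclusion hle) (Submodule.inclusion_injective hle)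
    apply Melk.isArtinian_of_torsionBy x
    intro y
    obtain ⟨k, hk⟩ := isPowerTorsion a (n + 1) (ModuleCat.of R N) y
    exact ⟨k, hk _ (Ideal.pow_mem_pow hxa k)⟩

/-- the dimension of a nonzero finitely generated module over a Noetherian local ring is a
natural number -/
theorem exists_supportDim_eq (M : Type u) [AddCommGroup M] [Module R M] [Nontrivial M] :
    ∃ n : ℕ, Module.supportDim R M = (n : WithBot ℕ∞) := by
  have h1 : Module.supportDim R M ≠ ⊥ := Module.supportDim_ne_bot_of_nontrivial R M
  have h2 : Module.supportDim R M ≠ ⊤ := by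
    intro h
    have := Module.supportDim_le_ringKrullDim R M
    rw [h, top_le_iff] at this
    exact ringKrullDim_ne_top this
  obtain ⟨a, ha⟩ := WithBot.ne_bot_iff_exists.mp h1
  have ha' : a ≠ ⊤ := by
    rintro rfl
    exact h2 ha.symm
  obtain ⟨n, rfl⟩ := ENat.ne_top_iff_exists.mp ha'
  exact ⟨n, ha.symm⟩

/-- **Cohen–Macaulay modules via local cohomology**: exactly one non-vanishing `H^i_m(M)` -/
theorem existsUnique_nontrivial_iff (M : Type u) [AddCommGroup M] [Module R M] [Module.Finite R M]
    [Nontrivial M] :
    (∃! i : ℕ, Nontrivial (LocCoh.H (maximalIdeal R) i M)) ↔ LocCoh.IsCohenMacaulayModule R M := by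
  obtain ⟨n, hn⟩ := exists_supportDim_eq (R := R) M
  have hnon := nontrivial_H_of_supportDim_eq n M hn
  have hvan : ∀ i : ℕ, n < i → Subsingleton (LocCoh.H (maximalIdeal R) i M) := by
    intro i hi
    apply subsingleton_of_supportDim_lt
    rw [hn]
    exact_mod_cast hi
  have hIM : maximalIdeal R • (⊤ : Submodule R M) ≠ ⊤ := by
    intro h
    have := Submodule.eq_bot_of_le_smul_of_le_jacobson_bot (maximalIdeal R) (⊤ : Submodule R M)
      Module.Finite.fg_top h.ge (IsLocalRing.jacobson_eq_maximalIdeal ⊥ bot_ne_top).ge
    exact top_ne_bot this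
  -- the depth is a natural number `d ≤ n`
  have hdfin : LocCoh.idealDepth (maximalIdeal R) M ≠ ⊤ := by
    intro htop
    have h1 : ((n + 1 : ℕ) : ℕ∞) ≤ LocCoh.idealDepth (maximalIdeal R) M := by rw [htop]; exact le_top
    rw [le_idealDepth_iff (maximalIdeal R) M hIM] at h1
    exact (not_subsingleton_iff_nontrivial.mpr hnon) (h1 n (Nat.lt_succ_self n))
  obtain ⟨d, hd⟩ := ENat.ne_top_iff_exists.mp hdfin
  have hd' := (idealDepth_eq_iff (maximalIdeal R) M hIM d).mp hd.symm
  unfold LocCoh.IsCohenMacaulayModule LocCoh.depth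
  rw [hn, ← hd]
  constructor
  · rintro ⟨i, hi, huniq⟩
    have h1 := huniq n hnon
    have h2 := huniq d hd'.2
    rw [h1, ← h2]
    rfl
  · intro h
    have hnd : n = d := by exact_mod_cast h
    subst hnd
    refine ⟨n, hnon, fun i hi => ?_⟩
    by_contra hne
    rcases lt_or_gt_of_ne hne with h1 | h1
    · exact (not_subsingleton_iff_nontrivial.mpr hi) (hd'.1 i h1)
    · exact (not_subsingleton_iff_nontrivial.mpr hi) (hvan i h1)

end LC

end Groth.Agent.H6
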