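import Mathlib
import Groth.Prelude.Def_Wider
import Groth.Agent.Lib.Helper6.LCDepth
import Groth.Agent.Lib.Helper6.LCTop

/-! Depth toolkit: depth (in the sense of regular sequences) of finitely generated modules over
Noetherian rings, characterised through vanishing of local cohomology, without side
conditions. -/

universe u
open CategoryTheory CategoryTheory.Limits Opposite CategoryTheory.Abelian

namespace Groth.Agent.H6

namespace Depth

variable {R : Type u} [CommRing R] [IsNoetherianRing R]

/-- if `IM = M` for a finitely generated module then all `H^i_I(M)` vanish -/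
theorem subsingleton_H_of_smul_top_eq_top (I : Ideal R) (M : Type u) [AddCommGroup M] [Module R M]
    [Module.Finite R M] (h : I • (⊤ : Submodule R M) = ⊤) (i : ℕ) :
    Subsingleton (LocCoh.H I i M) := by
  obtain ⟨r, hr, hkill⟩ := Submodule.exists_sub_one_mem_and_smul_eq_zero_of_fg_of_le_smul I
    (⊤ : Submodule R M) Module.Finite.fg_top h.ge
  refine ⟨fun x y => ?_⟩
  have h0 : ∀ z : LocCoh.H I i M, z = 0 := by
    intro z
    have h1 : r • z = 0 :=
      LC.smul_eq_zero_of_smul_eq_zero (I := I) (i := i) (M := ModuleCat.of R M) r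
        (fun m => hkill m Submodule.mem_top) z
    obtain ⟨n, hn⟩ := LC.isPowerTorsion I i (ModuleCat.of R M) z
    have h2 : (1 - r) • z = z := by rw [sub_smul, one_smul, h1, sub_zero]
    have h3 : ∀ k : ℕ, (1 - r) ^ k • z = z := by
      intro k
      induction k with
      | zero => rw [pow_zero, one_smul]
      | succ k ih => rw [pow_succ, mul_smul, h2, ih]
    have h4 : (1 - r) ∈ I := by
      have : 1 - r = -(r - 1) := by ring
      rw [this]
      exact I.neg_mem hr
    rw [← h3 n]
    exact hn _ (Ideal.pow_mem_pow h4 n)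
  rw [h0 x, h0 y]

/-- `n ≤ depth_I(M)` iff `H^i_I(M) = 0` for all `i < n` -/
theorem le_idealDepth_iff (I : Ideal R) (M : Type u) [AddCommGroup M] [Module R M]
    [Module.Finite R M] (n : ℕ) :
    (n : ℕ∞) ≤ LocCoh.idealDepth I M ↔ ∀ i < n, Subsingleton (LocCoh.H I i M) := by
  by_cases hIM : I • (⊤ : Submodule R M) = ⊤
  · have : LocCoh.idealDepth I M = ⊤ := by
      unfold LocCoh.idealDepth
      rw [if_pos hIM]
    rw [this]
    exact ⟨fun _ i _ => subsingleton_H_of_smul_top_eq_top I M hIM i, fun _ => le_top⟩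
  · exact LC.le_idealDepth_iff I M hIM n

/-- `depth_I(M) = n` iff `H^i_I(M) = 0` for `i < n` and `H^n_I(M) ≠ 0` -/
theorem idealDepth_eq_coe_iff (I : Ideal R) (M : Type u) [AddCommGroup M] [Module R M]
    [Module.Finite R M] (n : ℕ) :
    LocCoh.idealDepth I M = n ↔
      ((∀ i : ℕ, i < n → Subsingleton (LocCoh.H I i M)) ∧ Nontrivial (LocCoh.H I n M)) := by
  by_cases hIM : I • (⊤ : Submodule R M) = ⊤
  · have : LocCoh.idealDepth I M = ⊤ := by
      unfold LocCoh.idealDepth
      rw [if_pos hIM]
    rw [this]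
    constructor
    · intro h
      exact absurd h (ENat.top_ne_coe n)
    · rintro ⟨-, h⟩
      exact absurd (subsingleton_H_of_smul_top_eq_top I M hIM n) (not_subsingleton_iff_nontrivial.mpr h)
  · exact LC.idealDepth_eq_iff I M hIM n

/-- `depth_I(M) = ⊤` iff all `H^i_I(M)` vanish -/
theorem idealDepth_eq_top_iff (I : Ideal R) (M : Type u) [AddCommGroup M] [Module R M]
    [Module.Finite R M] :
    LocCoh.idealDepth I M = ⊤ ↔ ∀ i : ℕ, Subsingleton (LocCoh.H I i M) := by
  constructor
  · intro h i
    have := (le_idealDepth_iff I M (i + 1)).mp (by rw [h]; exact le_top)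
    exact this i (Nat.lt_succ_self i)
  · intro h
    rw [ENat.eq_top_iff_forall_ge]
    intro n
    exact (le_idealDepth_iff I M n).mpr (fun i _ => h i)

/-- comparison of depths through comparison of vanishing -/
theorem idealDepth_le_of_forall {R' : Type u} [CommRing R'] [IsNoetherianRing R'] (I : Ideal R)
    (M : Type u) [AddCommGroup M] [Module R M] [Module.Finite R M] (I' : Ideal R') (M' : Type u)
    [AddCommGroup M'] [Module R' M'] [Module.Finite R' M']
    (h : ∀ n : ℕ, (∀ i < n, Subsingleton (LocCoh.H I i M)) →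
      ∀ i < n, Subsingleton (LocCoh.H I' i M')) :
    LocCoh.idealDepth I M ≤ LocCoh.idealDepth I' M' := by
  rw [← ENat.forall_natCast_le_iff_le]
  intro n hn
  rw [le_idealDepth_iff] at hn ⊢
  exact h n hn

section SES

variable {N₁ N₂ N₃ : Type u} [AddCommGroup N₁] [Module R N₁] [AddCommGroup N₂] [Module R N₂]
  [AddCommGroup N₃] [Module R N₃] (f : N₁ →ₗ[R] N₂) (g : N₂ →ₗ[R] N₃)

omit [IsNoetherianRing R] in
theorem shortExact_mk (hf : Function.Injective f) (hg : Function.Surjective g)
    (hex : Function.Exact f g) :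
    ∃ w, (ShortComplex.mk (ModuleCat.ofHom f) (ModuleCat.ofHom g) w).ShortExact := by
  have w : ModuleCat.ofHom f ≫ ModuleCat.ofHom g = 0 := by
    apply ModuleCat.hom_ext
    apply LinearMap.ext
    intro x
    exact (hex _).mpr ⟨x, rfl⟩
  exact ⟨w, ModuleCat.shortComplex_shortExact _ hex hf hg⟩

omit [IsNoetherianRing R] in
theorem subsingleton_mid (I : Ideal R) (i : ℕ) (hf : Function.Injective f)
    (hg : Function.Surjective g) (hex : Function.Exact f g)
    (h1 : Subsingleton (LocCoh.H I i N₁)) (h3 : Subsingleton (LocCoh.H I i N₃)) :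
    Subsingleton (LocCoh.H I i N₂) := by
  obtain ⟨w, hS⟩ := shortExact_mk f g hf hg hex
  refine ⟨fun a b => ?_⟩
  have h0 : ∀ y : LocCoh.H I i N₂, y = 0 := by
    intro y
    obtain ⟨x, rfl⟩ := LC.exact₂ hS y (Subsingleton.elim (h := h3) _ _)
    rw [Subsingleton.elim (h := h1) x 0, map_zero]
  rw [h0 a, h0 b]

omit [IsNoetherianRing R] in
theorem subsingleton_right (I : Ideal R) (i : ℕ) (hf : Function.Injective f)
    (hg : Function.Surjective g) (hex : Function.Exact f g)
    (h2 : Subsingleton (LocCoh.H I i N₂)) (h1 : Subsingleton (LocCoh.H I (i + 1) N₁)) :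
    Subsingleton (LocCoh.H I i N₃) := by
  obtain ⟨w, hS⟩ := shortExact_mk f g hf hg hex
  refine ⟨fun a b => ?_⟩
  have h0 : ∀ z : LocCoh.H I i N₃, z = 0 := by
    intro z
    obtain ⟨y, rfl⟩ := LC.exact₃ hS z (Subsingleton.elim (h := h1) _ _)
    rw [Subsingleton.elim (h := h2) y 0, map_zero]
  rw [h0 a, h0 b]

omit [IsNoetherianRing R] in
theorem subsingleton_left_succ (I : Ideal R) (i : ℕ) (hf : Function.Injective f)
    (hg : Function.Surjective g) (hex : Function.Exact f g)
    (h2 : Subsingleton (LocCoh.H I (i + 1) N₂)) (h3 : Subsingleton (LocCoh.H I i N₃)) :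
    Subsingleton (LocCoh.H I (i + 1) N₁) := by
  obtain ⟨w, hS⟩ := shortExact_mk f g hf hg hex
  refine ⟨fun a b => ?_⟩
  have h0 : ∀ x : LocCoh.H I (i + 1) N₁, x = 0 := by
    intro x
    obtain ⟨z, rfl⟩ := LC.exact₁ hS x (Subsingleton.elim (h := h2) _ _)
    rw [Subsingleton.elim (h := h3) z 0, map_zero]
  rw [h0 a, h0 b]

omit [IsNoetherianRing R] in
theorem subsingleton_left_zero (I : Ideal R) (hf : Function.Injective f)
    (h2 : Subsingleton (LocCoh.H I 0 N₂)) : Subsingleton (LocCoh.H I 0 N₁) := by
  refine ⟨fun a b => ?_⟩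
  have h0 : ∀ x : LocCoh.H I 0 N₁, x = 0 := by
    intro x
    apply LC.zeroToSelf_injective (ModuleCat.of R N₁)
    rw [map_zero]
    apply hf
    have := LC.zeroToSelf_naturality (I := I) (ModuleCat.ofHom f) x
    rw [map_zero]
    rw [Subsingleton.elim (h := h2) (((localCohomology I 0).map (ModuleCat.ofHom f)).hom x) 0,
      map_zero] at this
    exact this.symm
  rw [h0 a, h0 b]

end SES

section Quot

omit [IsNoetherianRing R] in
/-- an element of `I` acting injectively on `H^i_I(M)` forces it to vanish -/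
theorem subsingleton_of_smul_injective (I : Ideal R) (i : ℕ) (M : Type u) [AddCommGroup M]
    [Module R M] (x : R) (hx : x ∈ I)
    (hinj : ∀ y : LocCoh.H I i M, x • y = 0 → y = 0) : Subsingleton (LocCoh.H I i M) := by
  refine ⟨fun a b => ?_⟩
  have h0 : ∀ y : LocCoh.H I i M, y = 0 := by
    intro y
    obtain ⟨k, hk⟩ := LC.isPowerTorsion I i (ModuleCat.of R M) y
    have h1 : x ^ k • y = 0 := hk _ (Ideal.pow_mem_pow hx k)
    clear hk
    induction k with
    | zero => rwa [pow_zero, one_smul] at h1
    | succ k ih =>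
      apply ih
      apply hinj
      rw [← mul_smul, ← pow_succ']
      exact h1
  rw [h0 a, h0 b]

omit [IsNoetherianRing R] in
/-- vanishing of local cohomology of `M/xM` in degrees `< n` is equivalent to vanishing for `M`
in degrees `≤ n`, for an `M`-regular element `x ∈ I` -/
theorem quotSMulTop_vanish_iff (I : Ideal R) (M : Type u) [AddCommGroup M] [Module R M] (x : R)
    (hx : x ∈ I) (hreg : IsSMulRegular M x) (n : ℕ) :
    (∀ i < n, Subsingleton (LocCoh.H I i (QuotSMulTop x M))) ↔
      ∀ i < n + 1, Subsingleton (LocCoh.H I i M) := by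
  have hreg' : IsSMulRegular (ModuleCat.of R M) x := hreg
  have hS := hreg'.smulShortComplex_shortExact
  have hf : ∀ (j : ℕ) (y : LocCoh.H I j M),
      ((localCohomology I j).map ((ModuleCat.of R M).smulShortComplex x).f).hom y = x • y := by
    intro j y
    rw [ModuleCat.smulShortComplex_f_eq_smul_id]
    exact LC.map_smul_id x y
  constructor
  · intro h i hi
    cases i with
    | zero =>
      refine ⟨fun a b => ?_⟩
      have h0 : ∀ z : LocCoh.H I 0 M, z = 0 := by
        intro z
        apply LC.zeroToSelf_injective (ModuleCat.of R M)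
        rw [map_zero]
        obtain ⟨k, hk⟩ := LC.zeroToSelf_mem (I := I) (ModuleCat.of R M) z
        have h1 := hk (x ^ k) (Ideal.pow_mem_pow hx k)
        exact (hreg.pow k) (h1.trans (smul_zero _).symm)
      rw [h0 a, h0 b]
    | succ j =>
      apply subsingleton_of_smul_injective I (j + 1) M x hx
      intro y hy
      rw [← hf] at hy
      obtain ⟨z, rfl⟩ := LC.exact₁ hS y hy
      have hz : z = 0 := @Subsingleton.elim _ (h j (by omega)) z 0
      subst hz
      exact map_zero _
  · intro h i hi
    refine ⟨fun a b => ?_⟩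
    have h0 : ∀ z : LocCoh.H I i (QuotSMulTop x M), z = 0 := by
      intro z
      obtain ⟨y, rfl⟩ := LC.exact₃ hS z (@Subsingleton.elim _ (h (i + 1) (by omega)) _ _)
      have hy : y = 0 := @Subsingleton.elim _ (h i (by omega)) y 0
      subst hy
      exact map_zero _
    rw [h0 a, h0 b]

/-- `depth_I(M/xM) + 1 = depth_I(M)` for an `M`-regular element `x ∈ I` -/
theorem idealDepth_quotSMulTop_add_one (I : Ideal R) (M : Type u) [AddCommGroup M] [Module R M]
    [Module.Finite R M] (x : R) (hx : x ∈ I) (hreg : IsSMulRegular M x) :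
    LocCoh.idealDepth I (QuotSMulTop x M) + 1 = LocCoh.idealDepth I M := by
  apply ENat.eq_of_forall_natCast_le_iff
  intro k
  cases k with
  | zero => simp
  | succ n =>
    have h1 : ((n + 1 : ℕ) : ℕ∞) ≤ LocCoh.idealDepth I (QuotSMulTop x M) + 1 ↔
        (n : ℕ∞) ≤ LocCoh.idealDepth I (QuotSMulTop x M) := by
      push_cast
      exact ENat.add_le_add_iff_right ENat.one_ne_top
    rw [h1, le_idealDepth_iff, le_idealDepth_iff]
    exact quotSMulTop_vanish_iff I M x hx hreg n

end Quot

section Local

variable [IsLocalRing R]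

/-- the depth of a nonzero finitely generated module over a Noetherian local ring is finite and
bounded by its dimension -/
theorem exists_depth_eq (M : Type u) [AddCommGroup M] [Module R M] [Module.Finite R M]
    [Nontrivial M] :
    ∃ d : ℕ, LocCoh.depth R M = d ∧ ((d : ℕ) : WithBot ℕ∞) ≤ Module.supportDim R M := by
  obtain ⟨n, hn⟩ := LC.exists_supportDim_eq (R := R) M
  have hnon := LC.nontrivial_H_of_supportDim_eq n M hn
  have hle : LocCoh.depth R M ≤ n := by
    by_contra hcon
    push Not at hcon
    have h1 : ((n + 1 : ℕ) : ℕ∞) ≤ LocCoh.depth R M := by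
      have := Order.add_one_le_of_lt hcon
      exact_mod_cast this
    have := (le_idealDepth_iff (IsLocalRing.maximalIdeal R) M (n + 1)).mp h1 n (Nat.lt_succ_self n)
    exact not_subsingleton _ this
  obtain ⟨d, hd⟩ := ENat.ne_top_iff_exists.mp (ne_top_of_le_ne_top (ENat.natCast_ne_top n) hle)
  refine ⟨d, hd.symm, ?_⟩
  rw [hn]
  rw [← hd] at hle
  exact_mod_cast hle

end Local

end Depth

end Groth.Agent.H6
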