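import Mathlib

/-! Some lemmas on Krull dimension of quotients by primes. -/

universe u

namespace Groth.Agent.H6

namespace Dim

variable {R : Type u} [CommRing R]

theorem zeroLocus_eq_Ici (p : PrimeSpectrum R) :
    PrimeSpectrum.zeroLocus (R := R) (p.asIdeal : Set R) = Set.Ici p := by
  ext q
  rw [PrimeSpectrum.mem_zeroLocus, Set.mem_Ici, SetLike.coe_subset_coe]
  rfl

/-- `dim R/p` is the coheight of `p` in the spectrum -/
theorem ringKrullDim_quotient_eq_coheight (p : PrimeSpectrum R) :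
    ringKrullDim (R ⧸ p.asIdeal) = Order.coheight p := by
  rw [ringKrullDim_quotient, Order.coheight_eq_krullDim_Ici, zeroLocus_eq_Ici]

/-- strict monotonicity of `dim R/p` -/
theorem ringKrullDim_quotient_add_one_le {p q : Ideal R} [hp : p.IsPrime] [hq : q.IsPrime]
    (h : p < q) : ringKrullDim (R ⧸ q) + 1 ≤ ringKrullDim (R ⧸ p) := by
  have h1 := ringKrullDim_quotient_eq_coheight (⟨q, hq⟩ : PrimeSpectrum R)
  have h2 := ringKrullDim_quotient_eq_coheight (⟨p, hp⟩ : PrimeSpectrum R)
  change ringKrullDim (R ⧸ q) = _ at h1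
  change ringKrullDim (R ⧸ p) = _ at h2
  rw [h1, h2]
  have h3 : (⟨p, hp⟩ : PrimeSpectrum R) < ⟨q, hq⟩ := h
  exact_mod_cast Order.coheight_add_one_le h3

/-- a prime with `dim R/q = dim R < ∞` is a minimal prime -/
theorem mem_minimalPrimes_of_ringKrullDim_quotient_eq (d : ℕ) (hd : ringKrullDim R = d)
    (q : Ideal R) [hq : q.IsPrime] (hdim : ringKrullDim (R ⧸ q) = (d : WithBot ℕ∞)) :
    q ∈ minimalPrimes R := by
  refine ⟨⟨hq, bot_le⟩, fun p ⟨hp, _⟩ hpq => ?_⟩
  by_contra hcon
  have hlt : p < q := lt_of_le_of_ne hpq (fun h => hcon (h ▸ le_rfl))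
  haveI := hp
  have h1 := ringKrullDim_quotient_add_one_le hlt
  have h2 : ringKrullDim (R ⧸ p) ≤ ringKrullDim R := ringKrullDim_quotient_le p
  rw [hdim] at h1
  rw [hd] at h2
  have h3 : ((d : WithBot ℕ∞) + 1) ≤ (d : WithBot ℕ∞) := h1.trans h2
  have h4 : ((d + 1 : ℕ) : WithBot ℕ∞) ≤ (d : WithBot ℕ∞) := by exact_mod_cast h3
  have h5 : d + 1 ≤ d := by exact_mod_cast h4
  omega

/-- inverting an element of the Jacobson radical lowers the (finite) Krull dimension -/
theorem ringKrullDim_localization_powers_lt (d : ℕ) (hd : ringKrullDim R = d) (f : R)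
    (hf : f ∈ (⊥ : Ideal R).jacobson) :
    ringKrullDim (Localization (Submonoid.powers f)) < (d : WithBot ℕ∞) := by
  rw [ringKrullDim, Order.krullDim_lt_coe_iff]
  intro l
  have hmono : StrictMono (PrimeSpectrum.comap (algebraMap R (Localization (Submonoid.powers f)))) :=
    Monotone.strictMono_of_injective (fun p q h => Ideal.comap_mono h)
      (PrimeSpectrum.localization_comap_injective _ (Submonoid.powers f))
  have hlast : f ∉ ((l.map _ hmono).last).asIdeal := by
    have hmem : (l.map _ hmono).last ∈ Set.range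
        (PrimeSpectrum.comap (algebraMap R (Localization (Submonoid.powers f)))) :=
      ⟨l.last, (LTSeries.last_map l _ hmono).symm⟩
    rw [PrimeSpectrum.localization_comap_range _ (Submonoid.powers f)] at hmem
    exact fun h => Set.disjoint_left.mp hmem (Submonoid.mem_powers f) h
  obtain ⟨M, hM, hle⟩ := Ideal.exists_le_maximal _ (l.map _ hmono).last.2.ne_top
  have hfM : f ∈ M := (Ideal.mem_sInf.mp hf) ⟨bot_le, hM⟩
  have hlt : (l.map _ hmono).last < (⟨M, hM.isPrime⟩ : PrimeSpectrum R) :=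
    lt_of_le_of_ne hle (fun h => hlast (h ▸ hfM))
  have h1 := Order.LTSeries.length_le_krullDim ((l.map _ hmono).snoc ⟨M, hM.isPrime⟩ hlt)
  have h2 : (((l.map _ hmono).snoc ⟨M, hM.isPrime⟩ hlt).length : WithBot ℕ∞) ≤ (d : WithBot ℕ∞) :=
    h1.trans hd.le
  have h3 : ((l.map _ hmono).snoc ⟨M, hM.isPrime⟩ hlt).length ≤ d := by exact_mod_cast h2
  have h4 : ((l.map _ hmono).snoc ⟨M, hM.isPrime⟩ hlt).length = l.length + 1 := rfl
  omega

end Dim

end Groth.Agent.H6
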