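import Mathlib
import Groth.Prelude.Def_Wider
import Groth.Agent.Lib.Helper6.LCDepth
import Groth.Agent.Lib.Helper6.LCExtVanish

/-!
# Ischebeck's theorem

For finite modules `M`, `N` over a Noetherian local ring, `Ext^i(N, M) = 0` for
`i < depth M - dim N`.
-/

universe u
open CategoryTheory CategoryTheory.Limits CategoryTheory.Abelian

namespace Groth.Agent.H6

namespace Isch

variable {A : Type u} [CommRing A] [IsNoetherianRing A] [IsLocalRing A]

theorem ext_subsingleton_of_subsingleton (N M : ModuleCat.{u} A) [Subsingleton N] (i : ℕ) :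
    Subsingleton (Ext N M i) := by
  refine ⟨fun α β => ?_⟩
  have h0 : 𝟙 N = 0 := by
    ext x
    exact Subsingleton.elim _ _
  have hα : α = 0 := by
    rw [← Ext.mk₀_id_comp α, h0, Ext.mk₀_zero, Ext.zero_comp]
  have hβ : β = 0 := by
    rw [← Ext.mk₀_id_comp β, h0, Ext.mk₀_zero, Ext.zero_comp]
  rw [hα, hβ]

/-- Three-term exactness: if `Ext^i(N₁, M) = 0 = Ext^i(N₃, M)` then `Ext^i(N₂, M) = 0`. -/
theorem ext_subsingleton_of_shortExact {S : ShortComplex (ModuleCat.{u} A)} (hS : S.ShortExact)
    (M : ModuleCat.{u} A) (i : ℕ) (h1 : Subsingleton (Ext S.X₁ M i))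
    (h3 : Subsingleton (Ext S.X₃ M i)) : Subsingleton (Ext S.X₂ M i) := by
  refine ⟨fun α β => ?_⟩
  have key : ∀ γ : Ext S.X₂ M i, γ = 0 := by
    intro γ
    obtain ⟨x₁, hx₁⟩ := Ext.contravariant_sequence_exact₂ hS M γ (Subsingleton.elim _ _)
    rw [← hx₁, Subsingleton.elim x₁ 0, Ext.comp_zero]
  rw [key α, key β]

/-- Nakayama step: if `x ∈ m` is `N`-regular and `Ext^{i+1}(N/xN, M) = 0` then
`Ext^i(N, M) = 0`. -/
theorem ext_subsingleton_of_quotSMulTop (N M : ModuleCat.{u} A) [Module.Finite A N]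
    [Module.Finite A M] {x : A} (hx : x ∈ IsLocalRing.maximalIdeal A) (hreg : IsSMulRegular N x)
    (i : ℕ) (h : Subsingleton (Ext (ModuleCat.of A (QuotSMulTop x N)) M (i + 1))) :
    Subsingleton (Ext N M i) := by
  have hS := hreg.smulShortComplex_shortExact
  have hsurj : ∀ y : Ext N M i, ∃ z : Ext N M i, x • z = y := by
    intro y
    obtain ⟨z, hz⟩ := Ext.contravariant_sequence_exact₁ hS M y (add_comm 1 i)
      (@Subsingleton.elim _ h _ _)
    refine ⟨z, ?_⟩
    rw [← hz]
    change x • z = (Ext.mk₀ (x • 𝟙 N)).comp z (zero_add i)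
    rw [Ext.mk₀_smul, Ext.smul_comp, Ext.mk₀_id_comp]
    rfl
  have htop : (⊤ : Submodule A (Ext N M i)) ≤
      IsLocalRing.maximalIdeal A • (⊤ : Submodule A (Ext N M i)) := by
    intro y _
    obtain ⟨z, rfl⟩ := hsurj y
    exact Submodule.smul_mem_smul hx Submodule.mem_top
  have hbot := Submodule.eq_bot_of_le_smul_of_le_jacobson_bot (IsLocalRing.maximalIdeal A)
    (⊤ : Submodule A (Ext N M i)) Module.Finite.fg_top htop
    (IsLocalRing.jacobson_eq_maximalIdeal ⊥ bot_ne_top).ge
  exact (Submodule.subsingleton_iff A).mp (subsingleton_of_bot_eq_top hbot.symm)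

end Isch

namespace Isch

variable {A : Type u} [CommRing A] [IsNoetherianRing A] [IsLocalRing A]

theorem withBot_succ_le {a : WithBot ℕ∞} {r : ℕ} (h : a + 1 ≤ ((r + 1 : ℕ) : WithBot ℕ∞)) :
    a ≤ (r : WithBot ℕ∞) := by
  induction a using WithBot.recBotCoe with
  | bot => exact bot_le
  | coe b =>
    induction b using ENat.recTopCoe with
    | top =>
      exfalso
      have h2 : ((⊤ : ℕ∞) : WithBot ℕ∞) ≤ (((r + 1 : ℕ) : ℕ∞) : WithBot ℕ∞) := by
        refine le_trans ?_ h
        have : ((⊤ : ℕ∞) : WithBot ℕ∞) + 1 = (((⊤ : ℕ∞) + 1 : ℕ∞) : WithBot ℕ∞) := rfl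
        rw [this, top_add]
      rw [WithBot.coe_le_coe] at h2
      exact absurd h2 (by simp)
    | coe n =>
      have h2 : (((n + 1 : ℕ) : ℕ∞) : WithBot ℕ∞) ≤ (((r + 1 : ℕ) : ℕ∞) : WithBot ℕ∞) := by
        exact_mod_cast h
      rw [WithBot.coe_le_coe, Nat.cast_le] at h2
      have h3 : n ≤ r := by omega
      exact_mod_cast h3

theorem withBot_succ_le_zero {a : WithBot ℕ∞} (h : a + 1 ≤ ((0 : ℕ) : WithBot ℕ∞)) : a = ⊥ := by
  induction a using WithBot.recBotCoe with
  | bot => rfl
  | coe b =>
    exfalso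
    have h1 : ((b + 1 : ℕ∞) : WithBot ℕ∞) ≤ ((0 : ℕ∞) : WithBot ℕ∞) := by
      exact_mod_cast h
    rw [WithBot.coe_le_coe] at h1
    simp at h1

/-- **Ischebeck's theorem.** -/
theorem ischebeck (M : Type u) [AddCommGroup M] [Module A M] [Module.Finite A M] [Nontrivial M]
    (d : ℕ) (hd : LocCoh.depth A M = d) :
    ∀ (r : ℕ) (N : Type u) [AddCommGroup N] [Module A N] [Module.Finite A N],
      Module.supportDim A N ≤ (r : WithBot ℕ∞) → ∀ i : ℕ, i + r < d →
        Subsingleton (Ext (ModuleCat.of A N) (ModuleCat.of A M) i) := by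
  -- vanishing of local cohomology of `M` below `d`
  have hIM : IsLocalRing.maximalIdeal A • (⊤ : Submodule A M) ≠ ⊤ := by
    intro h
    have hbot := Submodule.eq_bot_of_le_smul_of_le_jacobson_bot (IsLocalRing.maximalIdeal A)
      (⊤ : Submodule A M) Module.Finite.fg_top (le_of_eq h.symm)
      (IsLocalRing.jacobson_eq_maximalIdeal ⊥ bot_ne_top).ge
    exact not_subsingleton M ((Submodule.subsingleton_iff A).mp (subsingleton_of_bot_eq_top hbot.symm))
  have hlc : ∀ j < d, Subsingleton (LocCoh.H (IsLocalRing.maximalIdeal A) j M) := by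
    refine (LC.le_idealDepth_iff (IsLocalRing.maximalIdeal A) M hIM d).mp ?_
    have : LocCoh.idealDepth (IsLocalRing.maximalIdeal A) M = d := hd
    rw [this]
  -- the quotient case, given the vanishing for `N/xN`
  have quot_case : ∀ (N : Type u) [AddCommGroup N] [Module A N] [Module.Finite A N]
      (p : PrimeSpectrum A) (e : N ≃ₗ[A] A ⧸ p.1) (i : ℕ) (hi : i < d),
      (∀ x : A, x ∈ IsLocalRing.maximalIdeal A → x ∉ p.1 → IsSMulRegular N x →
        Subsingleton (Ext (ModuleCat.of A (QuotSMulTop x N)) (ModuleCat.of A M) (i + 1))) →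
      Subsingleton (Ext (ModuleCat.of A N) (ModuleCat.of A M) i) := by
    intro N _ _ _ p e i hi hQ
    by_cases hpm : p.1 = IsLocalRing.maximalIdeal A
    · have hF : ∃ k : ℕ, ∀ a ∈ IsLocalRing.maximalIdeal A ^ k, ∀ y : (ModuleCat.of A N),
          a • y = 0 := by
        refine ⟨1, fun a ha y => ?_⟩
        rw [pow_one, ← hpm] at ha
        apply e.injective
        rw [map_smul, map_zero]
        obtain ⟨z, hz⟩ := Ideal.Quotient.mk_surjective (e y)
        rw [← hz]
        change Ideal.Quotient.mk p.1 (a * z) = 0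
        exact Ideal.Quotient.eq_zero_iff_mem.mpr (Ideal.mul_mem_right _ _ ha)
      exact LC.ext_vanish_of_lc_vanish (IsLocalRing.maximalIdeal A) (ModuleCat.of A N) hF d
        (ModuleCat.of A M) hlc i hi
    · have hlt : p.1 < IsLocalRing.maximalIdeal A :=
        lt_of_le_of_ne (IsLocalRing.le_maximalIdeal p.2.ne_top) hpm
      obtain ⟨x, hxm, hxp⟩ := SetLike.exists_of_lt hlt
      have hreg : IsSMulRegular N x := by
        intro y y' hyy
        apply e.injective
        have h1 : x • e y = x • e y' := by rw [← map_smul, ← map_smul]; exact congrArg e hyy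
        obtain ⟨z, hz⟩ := Ideal.Quotient.mk_surjective (e y)
        obtain ⟨z', hz'⟩ := Ideal.Quotient.mk_surjective (e y')
        rw [← hz, ← hz'] at h1 ⊢
        have h2 : Ideal.Quotient.mk p.1 (x * z) = Ideal.Quotient.mk p.1 (x * z') := h1
        rw [Ideal.Quotient.eq, ← mul_sub] at h2
        rw [Ideal.Quotient.eq]
        exact (p.2.mem_or_mem h2).resolve_left hxp
      haveI : Module.Finite A (ModuleCat.of A N) := ‹Module.Finite A N›
      haveI : Module.Finite A (ModuleCat.of A M) := ‹Module.Finite A M›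
      exact ext_subsingleton_of_quotSMulTop (ModuleCat.of A N) (ModuleCat.of A M) hxm hreg i
        (hQ x hxm hxp hreg)
  -- dimension drop for `N ≅ A/p`, `x ∉ p`
  have dim_drop : ∀ (N : Type u) [AddCommGroup N] [Module A N] [Module.Finite A N]
      (p : PrimeSpectrum A) (e : N ≃ₗ[A] A ⧸ p.1) (x : A), x ∉ p.1 →
      Module.supportDim A (QuotSMulTop x N) + 1 ≤ Module.supportDim A N := by
    intro N _ _ _ p e x hxp
    refine Module.supportDim_quotSMulTop_succ_le_of_notMem_minimalPrimes ?_
    have hann : Module.annihilator A N = p.1 := by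
      rw [e.annihilator_eq, Ideal.annihilator_quotient]
    rw [hann, Ideal.minimalPrimes_eq_subsingleton_self]
    intro q hq
    rw [Set.mem_singleton_iff] at hq
    rw [hq]
    exact hxp
  intro r
  induction r with
  | zero =>
    intro N _ _ hfin
    refine IsNoetherianRing.induction_on_isQuotientEquivQuotientPrime A hfin
      (motive := fun N _ _ _ => Module.supportDim A N ≤ ((0 : ℕ) : WithBot ℕ∞) → ∀ i : ℕ,
        i + 0 < d → Subsingleton (Ext (ModuleCat.of A N) (ModuleCat.of A M) i)) ?_ ?_ ?_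
    · intro N _ _ _ _ _ i _
      exact ext_subsingleton_of_subsingleton (ModuleCat.of A N) _ i
    · intro N _ _ _ p e hdim i hi
      refine quot_case N p e i (by omega) (fun x hxm hxp hreg => ?_)
      have h1 := (dim_drop N p e x hxp).trans hdim
      have h2 := withBot_succ_le_zero h1
      haveI : Subsingleton (QuotSMulTop x N) := (Module.supportDim_eq_bot_iff_subsingleton A _).mp h2
      exact ext_subsingleton_of_subsingleton (ModuleCat.of A (QuotSMulTop x N)) _ (i + 1)
    · intro N₁ _ _ _ N₂ _ _ _ N₃ _ _ _ f g hf hg hfg ih1 ih3 hdim i hi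
      have hS : (ShortComplex.mk (ModuleCat.ofHom f) (ModuleCat.ofHom g) (by
          ext y; exact hfg.apply_apply_eq_zero y)).ShortExact :=
        ModuleCat.shortComplex_shortExact _ hfg hf hg
      exact ext_subsingleton_of_shortExact hS (ModuleCat.of A M) i
        (ih1 ((Module.supportDim_le_of_injective f hf).trans hdim) i hi)
        (ih3 ((Module.supportDim_le_of_surjective g hg).trans hdim) i hi)
  | succ r ih =>
    intro N _ _ hfin
    refine IsNoetherianRing.induction_on_isQuotientEquivQuotientPrime A hfin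
      (motive := fun N _ _ _ => Module.supportDim A N ≤ ((r + 1 : ℕ) : WithBot ℕ∞) → ∀ i : ℕ,
        i + (r + 1) < d → Subsingleton (Ext (ModuleCat.of A N) (ModuleCat.of A M) i)) ?_ ?_ ?_
    · intro N _ _ _ _ _ i _
      exact ext_subsingleton_of_subsingleton (ModuleCat.of A N) _ i
    · intro N _ _ _ p e hdim i hi
      refine quot_case N p e i (by omega) (fun x hxm hxp hreg => ?_)
      have h1 := (dim_drop N p e x hxp).trans hdim
      have h2 := withBot_succ_le h1
      exact ih (QuotSMulTop x N) h2 (i + 1) (by omega)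
    · intro N₁ _ _ _ N₂ _ _ _ N₃ _ _ _ f g hf hg hfg ih1 ih3 hdim i hi
      have hS : (ShortComplex.mk (ModuleCat.ofHom f) (ModuleCat.ofHom g) (by
          ext y; exact hfg.apply_apply_eq_zero y)).ShortExact :=
        ModuleCat.shortComplex_shortExact _ hfg hf hg
      exact ext_subsingleton_of_shortExact hS (ModuleCat.of A M) i
        (ih1 ((Module.supportDim_le_of_injective f hf).trans hdim) i hi)
        (ih3 ((Module.supportDim_le_of_surjective g hg).trans hdim) i hi)

end Isch

end Groth.Agent.H6
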