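import Mathlib
import Groth.Prelude.Def_Wider
import Groth.Agent.Lib.Helper6.DepthKit
import Groth.Agent.Lib.Helper6.Ischebeck
import Groth.Agent.Lib.Helper6.DimLemmas
import Groth.Agent.S11618

/-! Depth and localization: `depth M_s ≤ depth M_p + ht(s/p)`. -/

universe u
open CategoryTheory CategoryTheory.Limits Opposite CategoryTheory.Abelian

namespace Groth.Agent.H6

namespace Depth

section Dim

variable {R : Type u} [CommRing R]

/-- for primes `p ≤ s`, `dim R_s/pR_s ≤ ht(s/p)` -/
theorem ringKrullDim_localization_quotient_le (p s : Ideal R) [hp : p.IsPrime] [hs : s.IsPrime]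
    (hps : p ≤ s) :
    ringKrullDim (Localization.AtPrime s ⧸ p.map (algebraMap R (Localization.AtPrime s))) ≤
      (((s.map (Ideal.Quotient.mk p)).height : ℕ∞) : WithBot ℕ∞) := by
  have hπ : Function.Surjective (Ideal.Quotient.mk p) := Ideal.Quotient.mk_surjective
  have hsp : (s.map (Ideal.Quotient.mk p)).IsPrime :=
    Ideal.map_isPrime_of_surjective hπ (by rw [Ideal.mk_ker]; exact hps)
  rw [ringKrullDim_quotient]
  apply iSup_le
  intro l
  -- the comparison map on primes
  have hker : ∀ q : PrimeSpectrum.zeroLocus (R := Localization.AtPrime s)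
      ((p.map (algebraMap R (Localization.AtPrime s)) : Ideal _) : Set _),
      RingHom.ker (Ideal.Quotient.mk p) ≤ q.1.asIdeal.comap (algebraMap R (Localization.AtPrime s)) := by
    intro q
    rw [Ideal.mk_ker]
    have h1 : p.map (algebraMap R (Localization.AtPrime s)) ≤ q.1.asIdeal := by
      have := q.2
      rw [PrimeSpectrum.mem_zeroLocus, SetLike.coe_subset_coe] at this
      exact this
    exact Ideal.le_comap_map.trans (Ideal.comap_mono h1)
  let φ : PrimeSpectrum.zeroLocus (R := Localization.AtPrime s)
      ((p.map (algebraMap R (Localization.AtPrime s)) : Ideal _) : Set _) → PrimeSpectrum (R ⧸ p) :=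
    fun q => ⟨(q.1.asIdeal.comap (algebraMap R (Localization.AtPrime s))).map (Ideal.Quotient.mk p),
      Ideal.map_isPrime_of_surjective hπ (hker q)⟩
  have hφ : StrictMono φ := by
    intro q₁ q₂ h
    have hle : q₁.1.asIdeal.comap (algebraMap R (Localization.AtPrime s)) ≤
        q₂.1.asIdeal.comap (algebraMap R (Localization.AtPrime s)) := Ideal.comap_mono h.le
    refine lt_of_le_of_ne (Ideal.map_mono hle) ?_
    intro heq
    have h1 := congrArg (fun x : PrimeSpectrum (R ⧸ p) => x.asIdeal.comap (Ideal.Quotient.mk p)) heq
    simp only [φ] at h1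
    rw [Ideal.comap_map_of_surjective _ hπ, Ideal.comap_map_of_surjective _ hπ,
      ← RingHom.ker_eq_comap_bot, sup_eq_left.mpr (hker q₁), sup_eq_left.mpr (hker q₂)] at h1
    have h2 : (PrimeSpectrum.comap (algebraMap R (Localization.AtPrime s))) q₁.1 =
        (PrimeSpectrum.comap (algebraMap R (Localization.AtPrime s))) q₂.1 := by
      ext1
      exact h1
    have h3 := PrimeSpectrum.localization_comap_injective (Localization.AtPrime s) s.primeCompl h2
    exact absurd (Subtype.ext h3) h.ne
  have hlast : (l.map φ hφ).last ≤ (⟨s.map (Ideal.Quotient.mk p), hsp⟩ : PrimeSpectrum (R ⧸ p)) := by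
    rw [LTSeries.last_map]
    apply Ideal.map_mono
    have h1 : l.last.1.asIdeal ≤ IsLocalRing.maximalIdeal (Localization.AtPrime s) :=
      IsLocalRing.le_maximalIdeal l.last.1.2.ne_top
    have h2 := Ideal.comap_mono (f := algebraMap R (Localization.AtPrime s)) h1
    have h3 : (IsLocalRing.maximalIdeal (Localization.AtPrime s)).comap
        (algebraMap R (Localization.AtPrime s)) = s :=
      IsLocalization.AtPrime.comap_maximalIdeal (Localization.AtPrime s) s
    rwa [h3] at h2
  have h4 := Order.length_le_height hlast
  rw [← PrimeSpectrum.height_eq_orderHeight] at h4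
  exact_mod_cast h4

/-- `dim A/J^j ≤ dim A/J` -/
theorem supportDim_quotient_pow_le {A : Type u} [CommRing A] (J : Ideal A) (j : ℕ) :
    Module.supportDim A (A ⧸ J ^ j) ≤ ringKrullDim (A ⧸ J) := by
  rw [Module.supportDim_quotient_eq_ringKrullDim]
  rcases Nat.eq_zero_or_pos j with rfl | hj
  · rw [pow_zero, Ideal.one_eq_top]
    haveI : Subsingleton (A ⧸ (⊤ : Ideal A)) := Ideal.Quotient.subsingleton_iff.mpr rfl
    rw [ringKrullDim_eq_bot_of_subsingleton]
    exact bot_le
  · rw [ringKrullDim_quotient, ringKrullDim_quotient, PrimeSpectrum.zeroLocus_pow J hj.ne']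

end Dim

/-- over a Noetherian local ring, `H^i_J(M) = 0` for `i < depth M - dim A/J` -/
theorem subsingleton_H_of_add_lt {A : Type u} [CommRing A] [IsNoetherianRing A] [IsLocalRing A]
    (M : Type u) [AddCommGroup M] [Module A M] [Module.Finite A M] [Nontrivial M] (d : ℕ)
    (hd : LocCoh.depth A M = d) (J : Ideal A) (h : ℕ)
    (hJ : ringKrullDim (A ⧸ J) ≤ (h : WithBot ℕ∞)) (i : ℕ) (hi : i + h < d) :
    Subsingleton (LocCoh.H J i M) := by
  refine ⟨fun a b => ?_⟩
  have h0 : ∀ z : LocCoh.H J i M, z = 0 := by
    intro z
    obtain ⟨n, y, rfl⟩ := LC.lcι_surj z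
    have := Isch.ischebeck M d hd h (A ⧸ J ^ n) ((supportDim_quotient_pow_le J n).trans hJ) i hi
    rw [Subsingleton.elim y 0, map_zero]
  rw [h0 a, h0 b]

theorem subsingleton_localizedModule_of_le {R : Type u} [CommRing R] {S T : Submonoid R}
    (h : S ≤ T) (H : Type u) [AddCommGroup H] [Module R H]
    (hS : Subsingleton (LocalizedModule S H)) : Subsingleton (LocalizedModule T H) := by
  rw [LocalizedModule.subsingleton_iff] at hS ⊢
  intro m
  obtain ⟨r, hr, hrm⟩ := hS m
  exact ⟨r, h hr, hrm⟩

variable {R : Type u} [CommRing R] [IsNoetherianRing R]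

/-- **`depth M_s ≤ depth M_p + ht(s/p)`** for primes `p ≤ s` -/
theorem depth_localization_le (M : Type u) [AddCommGroup M] [Module R M] [Module.Finite R M]
    (p s : Ideal R) [p.IsPrime] [s.IsPrime] (hps : p ≤ s) :
    LocCoh.depth (Localization.AtPrime s) (LocalizedModule s.primeCompl M) ≤
      LocCoh.depth (Localization.AtPrime p) (LocalizedModule p.primeCompl M) +
        (s.map (Ideal.Quotient.mk p)).height := by
  haveI : IsNoetherianRing (Localization.AtPrime s) :=
    IsLocalization.isNoetherianRing s.primeCompl _ inferInstance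
  haveI : IsNoetherianRing (Localization.AtPrime p) :=
    IsLocalization.isNoetherianRing p.primeCompl _ inferInstance
  have hST : s.primeCompl ≤ p.primeCompl := fun x hx hxp => hx (hps hxp)
  induction hh : (s.map (Ideal.Quotient.mk p)).height using ENat.recTopCoe with
  | top => simp
  | coe h =>
    by_cases hMs : Subsingleton (LocalizedModule s.primeCompl M)
    · have hMp : Subsingleton (LocalizedModule p.primeCompl M) :=
        subsingleton_localizedModule_of_le hST M hMs
      have htop : LocCoh.depth (Localization.AtPrime p) (LocalizedModule p.primeCompl M) = ⊤ := by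
        unfold LocCoh.depth LocCoh.idealDepth
        rw [if_pos (Subsingleton.elim _ _)]
      rw [htop]
      simp
    · haveI : Nontrivial (LocalizedModule s.primeCompl M) := not_subsingleton_iff_nontrivial.mp hMs
      obtain ⟨d, hd, -⟩ := exists_depth_eq (R := Localization.AtPrime s)
        (LocalizedModule s.primeCompl M)
      rw [hd]
      induction hD : LocCoh.depth (Localization.AtPrime p) (LocalizedModule p.primeCompl M)
        using ENat.recTopCoe with
      | top => simp
      | coe D =>
        have hnon := ((idealDepth_eq_coe_iff (IsLocalRing.maximalIdeal (Localization.AtPrime p))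
          (LocalizedModule p.primeCompl M) D).mp hD).2
        by_contra hcon
        push Not at hcon
        have hlt : D + h < d := by exact_mod_cast hcon
        have hJ := ringKrullDim_localization_quotient_le p s hps
        rw [hh] at hJ
        have h1 : Subsingleton (LocCoh.H (p.map (algebraMap R (Localization.AtPrime s))) D
            (LocalizedModule s.primeCompl M)) :=
          subsingleton_H_of_add_lt _ d hd _ h hJ D hlt
        obtain ⟨e1⟩ := Groth.Agent.S11618.result R p s.primeCompl M D
        have h2 : Subsingleton (LocalizedModule s.primeCompl (LocCoh.H p D M)) :=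
          e1.toEquiv.subsingleton
        have h3 : Subsingleton (LocalizedModule p.primeCompl (LocCoh.H p D M)) :=
          subsingleton_localizedModule_of_le hST _ h2
        obtain ⟨e2⟩ := Groth.Agent.S11618.result R p p.primeCompl M D
        have h4 : Subsingleton (LocCoh.H (p.map (algebraMap R (Localization.AtPrime p))) D
            (LocalizedModule p.primeCompl M)) := e2.symm.toEquiv.subsingleton
        have h5 : p.map (algebraMap R (Localization.AtPrime p)) =
            IsLocalRing.maximalIdeal (Localization.AtPrime p) :=
          IsLocalization.AtPrime.map_eq_maximalIdeal p (Localization.AtPrime p)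
        rw [h5] at h4
        exact not_subsingleton _ h4

end Depth

end Groth.Agent.H6
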