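import Mathlib

/-!
# Melkersson's lemma

If every element of `M` is killed by a power of `x` and the kernel of `x` on `M` is Artinian,
then `M` is Artinian.  Consequently an `I`-power torsion module (for a finitely generated ideal
`I`) whose `I`-socle `M[I]` is Artinian is Artinian.
-/

namespace Groth.Agent.H6

namespace Melk

universe u v

variable {R : Type u} [CommRing R] {M : Type v} [AddCommGroup M] [Module R M]

/-- `x^i • (L ∩ M[x^(i+1)])`. -/
def A (x : R) (i : ℕ) (L : Submodule R M) : Submodule R M :=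
  (L ⊓ Submodule.torsionBy R M (x ^ (i + 1))).map (LinearMap.lsmul R M (x ^ i))

theorem mem_A {x : R} {i : ℕ} {L : Submodule R M} {y : M} :
    y ∈ A x i L ↔ ∃ z ∈ L, x ^ (i + 1) • z = 0 ∧ x ^ i • z = y := by
  unfold A
  rw [Submodule.mem_map]
  constructor
  · rintro ⟨z, ⟨hzL, hz⟩, rfl⟩
    exact ⟨z, hzL, (Submodule.mem_torsionBy_iff _ _).mp hz, rfl⟩
  · rintro ⟨z, hzL, hz, rfl⟩
    exact ⟨z, ⟨hzL, (Submodule.mem_torsionBy_iff _ _).mpr hz⟩, rfl⟩

theorem A_le_torsionBy (x : R) (i : ℕ) (L : Submodule R M) :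
    A x i L ≤ Submodule.torsionBy R M x := by
  intro y hy
  obtain ⟨z, -, hz, rfl⟩ := mem_A.mp hy
  rw [Submodule.mem_torsionBy_iff, smul_smul, ← pow_succ']
  exact hz

theorem A_mono (x : R) (i : ℕ) {L L' : Submodule R M} (h : L ≤ L') : A x i L ≤ A x i L' := by
  intro y hy
  obtain ⟨z, hzL, hz, rfl⟩ := mem_A.mp hy
  exact mem_A.mpr ⟨z, h hzL, hz, rfl⟩

theorem A_succ_le (x : R) (i : ℕ) (L : Submodule R M) : A x (i + 1) L ≤ A x i L := by
  intro y hy
  obtain ⟨z, hzL, hz, rfl⟩ := mem_A.mp hy
  refine mem_A.mpr ⟨x • z, L.smul_mem _ hzL, ?_, ?_⟩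
  · rw [smul_smul, ← pow_succ]; exact hz
  · rw [smul_smul, ← pow_succ]

theorem A_antitone (x : R) (L : Submodule R M) {i i' : ℕ} (h : i ≤ i') : A x i' L ≤ A x i L := by
  induction h with
  | refl => exact le_rfl
  | step _ ih => exact (A_succ_le x _ L).trans ih

/-- Minimal elements among submodules contained in an Artinian submodule. -/
theorem exists_minimal_of_le {K : Submodule R M} [IsArtinian R K] (S : Set (Submodule R M))
    (hS : S.Nonempty) (hK : ∀ N ∈ S, N ≤ K) :
    ∃ N ∈ S, ∀ N' ∈ S, N' ≤ N → N' = N := by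
  obtain ⟨N0, hN0⟩ := hS
  obtain ⟨P, ⟨N, hN, rfl⟩, hmin⟩ := IsArtinian.set_has_minimal
    ((fun N : Submodule R M => N.comap K.subtype) '' S) ⟨_, N0, hN0, rfl⟩
  refine ⟨N, hN, fun N' hN' hle => ?_⟩
  have h1 : N'.comap K.subtype ≤ N.comap K.subtype := Submodule.comap_mono hle
  have h2 : N'.comap K.subtype = N.comap K.subtype := by
    rcases h1.eq_or_lt with h | h
    · exact h
    · exact absurd h (hmin _ ⟨N', hN', rfl⟩)
  have h3 := congrArg (Submodule.map K.subtype) h2
  rw [Submodule.map_comap_subtype, Submodule.map_comap_subtype, inf_eq_right.mpr (hK N' hN'),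
    inf_eq_right.mpr (hK N hN)] at h3
  exact h3

/-- Antitone sequences of submodules of an Artinian submodule stabilize. -/
theorem antitone_stabilizes_of_le {K : Submodule R M} [IsArtinian R K] (F : ℕ → Submodule R M)
    (hF : Antitone F) (hK : ∀ j, F j ≤ K) : ∃ t, ∀ j, t ≤ j → F j = F t := by
  obtain ⟨N, ⟨t, rfl⟩, hmin⟩ := exists_minimal_of_le (K := K) (Set.range F) ⟨_, 0, rfl⟩
    (by rintro _ ⟨j, rfl⟩; exact hK j)
  exact ⟨t, fun j hj => hmin _ ⟨j, rfl⟩ (hF hj)⟩

/-- Melkersson's lemma for an antitone sequence. -/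
theorem stabilizes_of_torsionBy (x : R) (htors : ∀ y : M, ∃ n : ℕ, x ^ n • y = 0)
    [IsArtinian R (Submodule.torsionBy R M x)] (L : ℕ → Submodule R M) (hL : Antitone L) :
    ∃ T, ∀ j, T ≤ j → L T = L j := by
  set K := Submodule.torsionBy R M x with hKdef
  -- minimal element of the doubly indexed family
  obtain ⟨N, ⟨⟨s, t⟩, rfl⟩, hmin⟩ := exists_minimal_of_le (K := K)
    (Set.range fun p : ℕ × ℕ => A x p.1 (L p.2)) ⟨_, (0, 0), rfl⟩
    (by rintro _ ⟨p, rfl⟩; exact A_le_torsionBy x _ _)
  have hst : ∀ i j, s ≤ i → t ≤ j → A x i (L j) = A x s (L t) := by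
    intro i j hi hj
    exact hmin _ ⟨(i, j), rfl⟩ ((A_antitone x _ hi).trans (A_mono x s (hL hj)))
  -- stabilization for each fixed `i`
  have hstab : ∀ i, ∃ ti, ∀ j, ti ≤ j → A x i (L j) = A x i (L ti) := by
    intro i
    exact antitone_stabilizes_of_le (K := K) (fun j => A x i (L j))
      (fun j j' h => A_mono x i (hL h)) (fun j => A_le_torsionBy x _ _)
  choose tf htf using hstab
  set T := t + (Finset.range s).sup tf with hT
  have hTall : ∀ i j, T ≤ j → A x i (L j) = A x i (L T) := by
    intro i j hj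
    by_cases hi : s ≤ i
    · rw [hst i j hi (by omega), hst i T hi (by omega)]
    · have hle : tf i ≤ T := by
        have : tf i ≤ (Finset.range s).sup tf :=
          Finset.le_sup (f := tf) (Finset.mem_range.mpr (by omega))
        omega
      rw [htf i j (hle.trans hj), htf i T hle]
  refine ⟨T, fun j hj => ?_⟩
  refine le_antisymm ?_ (hL hj)
  -- `L T ≤ L j`
  have key : ∀ n : ℕ, ∀ y ∈ L T, x ^ n • y = 0 → y ∈ L j := by
    intro n
    induction n with
    | zero =>
      intro y _ hy
      rw [pow_zero, one_smul] at hy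
      rw [hy]; exact Submodule.zero_mem _
    | succ n ih =>
      intro y hy hxy
      have h1 : x ^ n • y ∈ A x n (L T) := mem_A.mpr ⟨y, hy, hxy, rfl⟩
      rw [← hTall n j hj] at h1
      obtain ⟨z, hz, hxz, hzy⟩ := mem_A.mp h1
      have h2 : y - z ∈ L j := by
        refine ih (y - z) (Submodule.sub_mem _ hy (hL hj hz)) ?_
        rw [smul_sub, hzy, sub_self]
      have : y = (y - z) + z := by abel
      rw [this]
      exact Submodule.add_mem _ h2 hz
  intro y hy
  obtain ⟨n, hn⟩ := htors y
  exact key n y hy hn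

/-- **Melkersson's lemma.** -/
theorem isArtinian_of_torsionBy (x : R) (htors : ∀ y : M, ∃ n : ℕ, x ^ n • y = 0)
    [IsArtinian R (Submodule.torsionBy R M x)] : IsArtinian R M := by
  rw [← monotone_stabilizes_iff_artinian]
  intro L
  obtain ⟨T, hT⟩ := stabilizes_of_torsionBy x htors (fun j => OrderDual.ofDual (L j))
    (fun j j' h => L.monotone h)
  exact ⟨T, fun j hj => congrArg OrderDual.toDual (hT j hj)⟩

/-- Generalization to finitely many elements. -/
theorem isArtinian_of_finset [DecidableEq R] (s : Finset R) :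
    ∀ (M : Type v) [AddCommGroup M] [Module R M],
      (∀ a ∈ s, ∀ y : M, ∃ n : ℕ, a ^ n • y = 0) →
      IsArtinian R (Submodule.torsionBySet R M (s : Set R)) → IsArtinian R M := by
  induction s using Finset.induction_on with
  | empty =>
    intro M _ _ _ h
    have : Submodule.torsionBySet R M ((∅ : Finset R) : Set R) = ⊤ := by
      rw [eq_top_iff]
      intro y _
      rw [Submodule.mem_torsionBySet_iff]
      rintro ⟨a, ha⟩
      simp at ha
    rw [this] at h
    exact isArtinian_of_linearEquiv (Submodule.topEquiv (R := R) (M := M))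
  | insert a s' _ ih =>
    intro M _ _ htors h
    have h1 : IsArtinian R (Submodule.torsionBy R M a) := by
      refine ih (Submodule.torsionBy R M a) (fun b hb y => ?_) ?_
      · obtain ⟨n, hn⟩ := htors b (Finset.mem_insert_of_mem hb) (y : M)
        exact ⟨n, Subtype.ext hn⟩
      · -- embed into `M[insert a s']`
        let φ : Submodule.torsionBySet R (Submodule.torsionBy R M a) (s' : Set R) →ₗ[R]
            Submodule.torsionBySet R M ((insert a s' : Finset R) : Set R) :=
          LinearMap.codRestrict _ ((Submodule.torsionBy R M a).subtype ∘ₗ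
            (Submodule.torsionBySet R (Submodule.torsionBy R M a) (s' : Set R)).subtype) (by
            intro y
            rw [Submodule.mem_torsionBySet_iff]
            rintro ⟨b, hb⟩
            rw [Finset.coe_insert, Set.mem_insert_iff] at hb
            rcases hb with rfl | hb
            · exact (Submodule.mem_torsionBy_iff _ _).mp (y : Submodule.torsionBy R M b).2
            · have := (Submodule.mem_torsionBySet_iff _ _).mp y.2 ⟨b, hb⟩
              exact congrArg Subtype.val this)
        have hφ : Function.Injective φ := by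
          intro y y' hyy
          have := congrArg Subtype.val hyy
          exact Subtype.ext (Subtype.ext this)
        exact isArtinian_of_injective φ hφ
    exact isArtinian_of_torsionBy a (htors a (Finset.mem_insert_self a s'))

/-- An `I`-power torsion module, `I` finitely generated, with Artinian `I`-socle is Artinian. -/
theorem isArtinian_of_powerTorsion {I : Ideal R} (hI : I.FG)
    (hM : ∀ y : M, ∃ n : ℕ, ∀ a ∈ I ^ n, a • y = 0)
    [h : IsArtinian R (Submodule.torsionBySet R M (I : Set R))] : IsArtinian R M := by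
  classical
  obtain ⟨s, rfl⟩ := hI
  refine isArtinian_of_finset s M (fun a ha y => ?_) ?_
  · obtain ⟨n, hn⟩ := hM y
    exact ⟨n, hn _ (Ideal.pow_mem_pow (Ideal.subset_span ha) n)⟩
  · rw [Submodule.torsionBySet_eq_torsionBySet_span]
    exact h

end Melk

end Groth.Agent.H6
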