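import Groth.Agent.Lib.Helper6.InjHull
import Groth.Agent.Lib.Helper6.LCTorsion
import Groth.Agent.Lib.Helper6.Melkersson

/-!
# Injective hull of a residue field `R/m`

`m`-power torsion, socle, descending chain condition, Matlis duality for finite length modules.
-/

namespace Groth.Agent.H6

namespace IH

open InjHull

universe u v

section Socle

variable {R : Type u} [CommRing R]

/-- In an `I`-power torsion module the socle `M[I]` is essential (element form). -/
theorem exists_smul_mem_torsionBySet {M : Type v} [AddCommGroup M] [Module R M] (I : Ideal R)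
    {x : M} (hx : x ≠ 0) (h : ∃ n : ℕ, ∀ a ∈ I ^ n, a • x = 0) :
    ∃ r : R, r • x ≠ 0 ∧ r • x ∈ Submodule.torsionBySet R M (I : Set R) := by
  classical
  have hn0 : Nat.find h ≠ 0 := by
    intro h0
    have := Nat.find_spec h
    rw [h0, pow_zero] at this
    exact hx (by simpa using this 1 (by simp))
  obtain ⟨k, hk⟩ := Nat.exists_eq_succ_of_ne_zero hn0
  have hmin : ¬ ∀ a ∈ I ^ k, a • x = 0 := Nat.find_min h (by omega)
  push_neg at hmin
  obtain ⟨a, ha, hax⟩ := hmin
  refine ⟨a, hax, ?_⟩
  rw [Submodule.mem_torsionBySet_iff]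
  rintro ⟨b, hb⟩
  have hspec := Nat.find_spec h
  rw [hk, Nat.succ_eq_add_one, pow_succ] at hspec
  have := hspec (a * b) (Ideal.mul_mem_mul ha hb)
  change b • a • x = 0
  rw [smul_smul, mul_comm]
  exact this

end Socle

section Maximal

variable {R : Type u} [CommRing R] (m : Ideal R) [hm : m.IsMaximal]
variable {E : Type u} [AddCommGroup E] [Module R E] {f : (R ⧸ m) →ₗ[R] E}

theorem range_le_torsionBySet (f : (R ⧸ m) →ₗ[R] E) :
    LinearMap.range f ≤ Submodule.torsionBySet R E (m : Set R) := by
  rintro _ ⟨c, rfl⟩
  rw [Submodule.mem_torsionBySet_iff]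
  rintro ⟨a, ha⟩
  change a • f c = 0
  rw [← map_smul]
  obtain ⟨c', rfl⟩ := Ideal.Quotient.mk_surjective c
  have : a • (Ideal.Quotient.mk m c') = 0 := by
    change Ideal.Quotient.mk m (a * c') = 0
    exact Ideal.Quotient.eq_zero_iff_mem.mpr (m.mul_mem_right _ ha)
  rw [this, map_zero]

include hm in
/-- The socle of an essential extension of `R/m` is the image of `R/m`. -/
theorem torsionBySet_eq_range (hf : IsEssentialInj f) :
    Submodule.torsionBySet R E (m : Set R) = LinearMap.range f := by
  refine le_antisymm ?_ (range_le_torsionBySet m f)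
  intro y hy
  by_cases hy0 : y = 0
  · rw [hy0]; exact Submodule.zero_mem _
  obtain ⟨r, hr0, c, hc⟩ := ((isEssentialInj_iff f).mp hf).2 y hy0
  have hrm : r ∉ m := by
    intro hr
    exact hr0 ((Submodule.mem_torsionBySet_iff _ _).mp hy ⟨r, hr⟩)
  obtain ⟨s, i, hi, hsi⟩ := hm.exists_inv hrm
  have hiy : i • y = 0 := (Submodule.mem_torsionBySet_iff _ _).mp hy ⟨i, hi⟩
  refine ⟨s • c, ?_⟩
  rw [map_smul, hc, smul_smul]
  calc (s * r) • y = (s * r) • y + i • y := by rw [hiy, add_zero]
    _ = (s * r + i) • y := (add_smul _ _ _).symm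
    _ = y := by rw [hsi, one_smul]

include hm in
/-- An injective hull of `R/m` over a Noetherian ring is `m`-power torsion. -/
theorem powerTorsion_of_hull [IsNoetherianRing R] (hf : IsInjectiveHull f) :
    LocCoh.IsPowerTorsion m E := by
  haveI := hf.isInjective
  haveI : Module.Injective R (DRing.torsionSub m E) := LC.torsionSub_injective m E
  obtain ⟨N, hN⟩ := exists_isCompl_of_injective (DRing.torsionSub m E)
  have hle : LinearMap.range f ≤ DRing.torsionSub m E := by
    intro y hy
    refine ⟨1, fun a ha => ?_⟩
    rw [pow_one] at ha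
    exact (Submodule.mem_torsionBySet_iff _ _).mp (range_le_torsionBySet m f hy) ⟨a, ha⟩
  have hN0 : N = ⊥ := by
    by_contra hne
    refine hf.essential N hne ?_
    rw [eq_bot_iff]
    calc N ⊓ LinearMap.range f ≤ N ⊓ DRing.torsionSub m E := inf_le_inf_left _ hle
      _ = ⊥ := by rw [inf_comm]; exact hN.inf_eq_bot
  have htop : DRing.torsionSub m E = ⊤ := by
    have := hN.sup_eq_top
    rwa [hN0, sup_bot_eq] at this
  intro y
  have : y ∈ DRing.torsionSub m E := by rw [htop]; exact Submodule.mem_top
  exact this

include hm in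
/-- `R/m` is an Artinian `R`-module. -/
theorem isArtinian_quot : IsArtinian R (R ⧸ m) := by
  letI : Field (R ⧸ m) := Ideal.Quotient.field m
  haveI : IsArtinian (R ⧸ m) (R ⧸ m) := inferInstance
  exact isArtinian_of_surjective_algebraMap (S := R) (R := R ⧸ m) (M := R ⧸ m)
    Ideal.Quotient.mk_surjective

include hm in
/-- An `m`-power torsion module over a ring with `m` finitely generated whose socle is a
finite-dimensional `R/m`-vector space is Artinian. -/
theorem isArtinian_of_powerTorsion_of_finite (hfg : m.FG) {M : Type v} [AddCommGroup M]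
    [Module R M] (hM : LocCoh.IsPowerTorsion m M)
    [Module.Finite (R ⧸ m) (Submodule.torsionBySet R M (m : Set R))] : IsArtinian R M := by
  letI : Field (R ⧸ m) := Ideal.Quotient.field m
  haveI : IsArtinian (R ⧸ m) (Submodule.torsionBySet R M (m : Set R)) := inferInstance
  haveI : IsArtinian R (Submodule.torsionBySet R M (m : Set R)) :=
    isArtinian_of_surjective_algebraMap (S := R) (R := R ⧸ m) Ideal.Quotient.mk_surjective
  exact Melk.isArtinian_of_powerTorsion hfg hM

include hm in
/-- **S11663 / S0314**: an injective hull of `R/m` over a Noetherian ring is Artinian. -/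
theorem isArtinian_of_hull [IsNoetherianRing R] (hf : IsInjectiveHull f) : IsArtinian R E := by
  haveI : IsArtinian R (R ⧸ m) := isArtinian_quot m
  haveI : IsArtinian R (Submodule.torsionBySet R E (m : Set R)) := by
    rw [torsionBySet_eq_range m hf.toIsEssentialInj]
    infer_instance
  exact Melk.isArtinian_of_powerTorsion (IsNoetherian.noetherian m) (powerTorsion_of_hull m hf)

end Maximal

section HomQuot

variable {R : Type u} [CommRing R] (I : Ideal R) (E : Type v) [AddCommGroup E] [Module R E]

/-- Evaluation at `1` identifies `Hom_R(R/I, E)` with `E[I]`. -/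
noncomputable def homQuotEquiv : ((R ⧸ I) →ₗ[R] E) ≃ₗ[R] Submodule.torsionBySet R E (I : Set R) :=
  LinearEquiv.ofBijective
    (LinearMap.codRestrict (Submodule.torsionBySet R E (I : Set R))
      (LinearMap.applyₗ (R := R) (1 : R ⧸ I)) (by
        intro φ
        rw [Submodule.mem_torsionBySet_iff]
        rintro ⟨a, ha⟩
        change a • φ 1 = 0
        rw [← map_smul]
        have : a • (1 : R ⧸ I) = 0 := by
          change Ideal.Quotient.mk I (a * 1) = 0
          rw [mul_one]
          exact Ideal.Quotient.eq_zero_iff_mem.mpr ha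
        rw [this, map_zero]))
    (by
      constructor
      · intro φ ψ h
        have h1 : φ 1 = ψ 1 := congrArg Subtype.val h
        ext
        simpa using h1
      · intro y
        have hle : I ≤ LinearMap.ker (LinearMap.toSpanSingleton R E (y : E)) := by
          intro a ha
          rw [LinearMap.mem_ker, LinearMap.toSpanSingleton_apply]
          exact (Submodule.mem_torsionBySet_iff _ _).mp y.2 ⟨a, ha⟩
        refine ⟨Submodule.liftQ I (LinearMap.toSpanSingleton R E (y : E)) hle, Subtype.ext ?_⟩
        change Submodule.liftQ I (LinearMap.toSpanSingleton R E (y : E)) hle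
          (Submodule.Quotient.mk 1) = y
        rw [Submodule.liftQ_apply, LinearMap.toSpanSingleton_apply, one_smul])

theorem homQuotEquiv_apply (φ : (R ⧸ I) →ₗ[R] E) : (homQuotEquiv I E φ : E) = φ 1 := rfl

end HomQuot

section Local

variable {R : Type u} [CommRing R] [IsLocalRing R]

/-- Over a local ring, an injective module containing the residue field is a cogenerator. -/
theorem exists_hom_apply_ne_zero {E : Type u} [AddCommGroup E] [Module R E] [Module.Injective R E]
    (f : (R ⧸ IsLocalRing.maximalIdeal R) →ₗ[R] E) (hf : Function.Injective f)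
    {M : Type v} [AddCommGroup M] [Module R M] {x : M} (hx : x ≠ 0) :
    ∃ φ : M →ₗ[R] E, φ x ≠ 0 := by
  set t := LinearMap.toSpanSingleton R M x with ht
  set g : R →ₗ[R] E := f ∘ₗ (Submodule.mkQ (IsLocalRing.maximalIdeal R)) with hg
  have hle : LinearMap.ker t ≤ LinearMap.ker g := by
    intro r hr
    rw [LinearMap.mem_ker, ht, LinearMap.toSpanSingleton_apply] at hr
    have hrm : r ∈ IsLocalRing.maximalIdeal R := by
      by_contra hrm
      have hu : IsUnit r := by
        by_contra hnu
        exact hrm ((IsLocalRing.mem_maximalIdeal r).mpr hnu)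
      obtain ⟨u, rfl⟩ := hu
      exact hx (by simpa using congrArg (fun z => (↑u⁻¹ : R) • z) hr)
    rw [LinearMap.mem_ker, hg, LinearMap.comp_apply]
    have : Submodule.mkQ (IsLocalRing.maximalIdeal R) r = 0 := by
      rw [Submodule.mkQ_apply]
      exact (Submodule.Quotient.mk_eq_zero _).mpr hrm
    rw [this, map_zero]
  have hinj : Function.Injective ((LinearMap.ker t).liftQ t le_rfl) :=
    LinearMap.ker_eq_bot.mp (Submodule.ker_liftQ_eq_bot _ _ _ le_rfl)
  obtain ⟨φ, hφ⟩ := Module.Injective.extension_property R E _ _ ((LinearMap.ker t).liftQ t le_rfl)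
    hinj ((LinearMap.ker t).liftQ g hle)
  refine ⟨φ, ?_⟩
  have h1 := LinearMap.congr_fun hφ (Submodule.Quotient.mk 1)
  rw [LinearMap.comp_apply, Submodule.liftQ_apply, Submodule.liftQ_apply, ht,
    LinearMap.toSpanSingleton_apply, one_smul] at h1
  rw [h1, hg, LinearMap.comp_apply]
  intro h0
  have := hf (h0.trans (map_zero f).symm)
  rw [Submodule.mkQ_apply, Submodule.Quotient.mk_eq_zero] at this
  exact (IsLocalRing.maximalIdeal R).ne_top_iff_one.mp
    (IsLocalRing.maximalIdeal.isMaximal R).ne_top this

variable {E : Type u} [AddCommGroup E] [Module R E]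
  {f : (R ⧸ IsLocalRing.maximalIdeal R) →ₗ[R] E}

/-- The evaluation map into the double `E`-dual is injective. -/
theorem eval_injective (hf : IsInjectiveHull f) (G : Type v) [AddCommGroup G] [Module R G] :
    Function.Injective (LinearMap.applyₗ : G →ₗ[R] (G →ₗ[R] E) →ₗ[R] E) := by
  haveI := hf.isInjective
  rw [injective_iff_map_eq_zero]
  intro x hx
  by_contra hx0
  obtain ⟨φ, hφ⟩ := exists_hom_apply_ne_zero f hf.injective hx0
  exact hφ (LinearMap.congr_fun hx φ)

/-- `Hom_R(k, E(k)) ≅ k`. -/
noncomputable def homResidueEquiv (hf : IsEssentialInj f) :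
    ((R ⧸ IsLocalRing.maximalIdeal R) →ₗ[R] E) ≃ₗ[R] (R ⧸ IsLocalRing.maximalIdeal R) :=
  (homQuotEquiv (IsLocalRing.maximalIdeal R) E).trans
    ((LinearEquiv.ofEq _ _ (torsionBySet_eq_range (IsLocalRing.maximalIdeal R) hf)).trans
      (LinearEquiv.ofInjective f hf.injective).symm)

end Local

section Length

variable {R : Type u} [CommRing R]

/-- An injective linear map into a module of finite length which is no longer than the source is
surjective. -/
theorem surjective_of_injective_of_length_le {N M : Type*} [AddCommGroup N] [Module R N]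
    [AddCommGroup M] [Module R M] (g : N →ₗ[R] M) (hg : Function.Injective g)
    (hfin : Module.length R M ≠ ⊤) (hle : Module.length R M ≤ Module.length R N) :
    Function.Surjective g := by
  have h1 := Module.length_eq_add_of_exact g (LinearMap.range g).mkQ hg
    (Submodule.mkQ_surjective _) (LinearMap.exact_map_mkQ_range g)
  have hN : Module.length R N ≠ ⊤ := by
    intro h
    rw [h, top_add] at h1
    exact hfin h1
  have h0 : Module.length R (M ⧸ LinearMap.range g) = 0 := by
    rw [h1] at hle
    generalize Module.length R (M ⧸ LinearMap.range g) = b at hle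
    generalize Module.length R N = a at hle hN
    lift a to ℕ using hN
    cases b with
    | top => simp at hle
    | coe b =>
      norm_cast at hle ⊢
      omega
  rw [Module.length_eq_zero_iff] at h0
  rw [← LinearMap.range_eq_top]
  exact Submodule.Quotient.subsingleton_iff.mp h0

/-- Exactness of `Hom(-, E)` for injective `E`, in the form of a length identity. -/
theorem length_hom_eq_add {E : Type u} [AddCommGroup E] [Module R E] [Module.Injective R E]
    {M : Type u} [AddCommGroup M] [Module R M] (N : Submodule R M) :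
    Module.length R (M →ₗ[R] E) =
      Module.length R ((M ⧸ N) →ₗ[R] E) + Module.length R (N →ₗ[R] E) := by
  refine Module.length_eq_add_of_exact (LinearMap.lcomp R E N.mkQ) (LinearMap.lcomp R E N.subtype)
    ?_ ?_ ?_
  · intro φ ψ h
    refine LinearMap.ext fun y => ?_
    obtain ⟨y, rfl⟩ := N.mkQ_surjective y
    exact LinearMap.congr_fun h y
  · intro ψ
    obtain ⟨φ, hφ⟩ := Module.Injective.extension_property R E _ _ N.subtype
      (Submodule.injective_subtype N) ψ
    exact ⟨φ, hφ⟩
  · intro φ
    constructor
    · intro h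
      have hle : N ≤ LinearMap.ker φ := by
        intro y hy
        exact LinearMap.congr_fun h ⟨y, hy⟩
      refine ⟨N.liftQ φ hle, ?_⟩
      ext y
      simp
    · rintro ⟨ψ, rfl⟩
      ext y
      have : N.mkQ (y : M) = 0 := (Submodule.Quotient.mk_eq_zero N).mpr y.2
      simp [this]

end Length

section Matlis

variable {R : Type u} [CommRing R] [IsLocalRing R]
variable {E : Type u} [AddCommGroup E] [Module R E]
  {f : (R ⧸ IsLocalRing.maximalIdeal R) →ₗ[R] E}

/-- **Matlis duality preserves length** (finite length modules over a local ring). -/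
theorem length_hom_eq (hf : IsInjectiveHull f) (M : Type u) [AddCommGroup M] [Module R M]
    (hM : IsFiniteLength R M) : Module.length R (M →ₗ[R] E) = Module.length R M := by
  haveI := hf.isInjective
  induction hM with
  | of_subsingleton =>
    rw [Module.length_eq_zero, Module.length_eq_zero]
  | @of_simple_quotient M _ _ N _ _ ih =>
    rw [length_hom_eq_add N, ih, Module.length_eq_add_of_exact N.subtype N.mkQ
      (Submodule.injective_subtype N) N.mkQ_surjective (LinearMap.exact_subtype_mkQ N), add_comm]
    congr 1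
    obtain ⟨I, hI, ⟨e⟩⟩ := isSimpleModule_iff_quot_maximal.mp (inferInstance :
      IsSimpleModule R (M ⧸ N))
    obtain rfl := IsLocalRing.eq_maximalIdeal hI
    rw [Module.length_eq_one (R := R) (M := M ⧸ N)]
    haveI : IsSimpleModule R (R ⧸ IsLocalRing.maximalIdeal R) := IsSimpleModule.congr e.symm
    rw [((LinearEquiv.arrowCongr e (LinearEquiv.refl R E)).trans
      (homResidueEquiv hf.toIsEssentialInj)).length_eq]
    exact Module.length_eq_one R _

/-- **Matlis biduality** for finite length modules over a local ring. -/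
theorem eval_bijective_of_finiteLength (hf : IsInjectiveHull f) (M : Type u) [AddCommGroup M]
    [Module R M] (hM : IsFiniteLength R M) :
    Function.Bijective (LinearMap.applyₗ : M →ₗ[R] (M →ₗ[R] E) →ₗ[R] E) := by
  refine ⟨eval_injective hf M, ?_⟩
  have h1 := length_hom_eq hf M hM
  have hfin : IsFiniteLength R (M →ₗ[R] E) := by
    rw [← Module.length_ne_top_iff, h1, Module.length_ne_top_iff]
    exact hM
  have h2 := length_hom_eq hf (M →ₗ[R] E) hfin
  refine surjective_of_injective_of_length_le _ (eval_injective hf M) ?_ ?_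
  · rw [Module.length_ne_top_iff, ← Module.length_ne_top_iff, h2, h1, Module.length_ne_top_iff]
    exact hM
  · rw [h2, h1]

end Matlis

section Embedding

variable {R : Type u} [CommRing R] [IsLocalRing R]
variable {E : Type u} [AddCommGroup E] [Module R E]
  {f : (R ⧸ IsLocalRing.maximalIdeal R) →ₗ[R] E}

/-- **S0310**: an `m`-power torsion module with `n`-dimensional socle embeds into `E(k)^n`. -/
theorem exists_embedding_pi (hf : IsInjectiveHull f) {M : Type u} [AddCommGroup M] [Module R M]
    (hM : LocCoh.IsPowerTorsion (IsLocalRing.maximalIdeal R) M) (n : ℕ)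
    [Module.Finite (R ⧸ IsLocalRing.maximalIdeal R)
      (Submodule.torsionBySet R M (IsLocalRing.maximalIdeal R : Set R))]
    (hn : Module.finrank (R ⧸ IsLocalRing.maximalIdeal R)
      (Submodule.torsionBySet R M (IsLocalRing.maximalIdeal R : Set R)) = n) :
    ∃ g : M →ₗ[R] (Fin n → E), Function.Injective g := by
  haveI := hf.isInjective
  letI : Field (R ⧸ IsLocalRing.maximalIdeal R) := Ideal.Quotient.field _
  set V := Submodule.torsionBySet R M (IsLocalRing.maximalIdeal R : Set R) with hV
  let b : Module.Basis (Fin n) (R ⧸ IsLocalRing.maximalIdeal R) V :=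
    Module.finBasisOfFinrankEq (R ⧸ IsLocalRing.maximalIdeal R) V hn
  let e : V ≃ₗ[R] (Fin n → R ⧸ IsLocalRing.maximalIdeal R) := b.equivFun.restrictScalars R
  let h : V →ₗ[R] (Fin n → E) := (f.compLeft (Fin n)) ∘ₗ e.toLinearMap
  have hinj : Function.Injective h := by
    intro v w hvw
    apply e.injective
    funext i
    exact hf.injective (congrFun hvw i)
  obtain ⟨g, hg⟩ := Module.Injective.extension_property R (Fin n → E) _ _ V.subtype
    (Submodule.injective_subtype V) h
  refine ⟨g, ?_⟩
  rw [injective_iff_map_eq_zero]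
  intro x hx
  by_contra hx0
  obtain ⟨r, hr0, hrV⟩ := exists_smul_mem_torsionBySet (IsLocalRing.maximalIdeal R) hx0 (hM x)
  have h1 : g (r • x) = h ⟨r • x, hrV⟩ := (LinearMap.congr_fun hg ⟨r • x, hrV⟩)
  rw [map_smul, hx, smul_zero] at h1
  have h2 : (⟨r • x, hrV⟩ : V) = 0 := hinj (h1.symm.trans (map_zero h).symm)
  exact hr0 (congrArg Subtype.val h2)

end Embedding

section ArtinianChar

variable {R : Type u} [CommRing R] [IsLocalRing R] [IsNoetherianRing R]

/-- An Artinian module over a Noetherian local ring is `m`-power torsion. -/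
theorem powerTorsion_of_isArtinian (M : Type v) [AddCommGroup M] [Module R M] [IsArtinian R M] :
    LocCoh.IsPowerTorsion (IsLocalRing.maximalIdeal R) M := by
  intro x
  set N : Submodule R M := Submodule.span R {x} with hN
  obtain ⟨n, hn⟩ := IsArtinian.monotone_stabilizes
    (⟨fun n => OrderDual.toDual ((IsLocalRing.maximalIdeal R) ^ n • N), fun a b hab => by
      change (IsLocalRing.maximalIdeal R) ^ b • N ≤ (IsLocalRing.maximalIdeal R) ^ a • N
      exact Submodule.smul_mono_left (Ideal.pow_le_pow_right hab)⟩ :
      ℕ →o (Submodule R M)ᵒᵈ)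
  have h1 : (IsLocalRing.maximalIdeal R) ^ n • N = (IsLocalRing.maximalIdeal R) ^ (n + 1) • N :=
    congrArg OrderDual.ofDual (hn (n + 1) (Nat.le_succ n))
  have h2 : (IsLocalRing.maximalIdeal R) ^ n • N = ⊥ := by
    refine Submodule.eq_bot_of_le_smul_of_le_jacobson_bot (IsLocalRing.maximalIdeal R) _ ?_ ?_ ?_
    · exact Submodule.FG.smul (Ideal.FG.pow (IsNoetherian.noetherian _))
        (Submodule.fg_span_singleton x)
    · conv_lhs => rw [h1]
      rw [pow_succ', mul_smul]
    · exact (IsLocalRing.jacobson_eq_maximalIdeal ⊥ bot_ne_top).ge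
  refine ⟨n, fun a ha => ?_⟩
  have : a • x ∈ (IsLocalRing.maximalIdeal R) ^ n • N :=
    Submodule.smul_mem_smul ha (Submodule.mem_span_singleton_self x)
  rw [h2] at this
  exact (Submodule.mem_bot R).mp this

/-- The socle of an Artinian module over a local ring is finite-dimensional. -/
theorem finite_socle_of_isArtinian (M : Type v) [AddCommGroup M] [Module R M] [IsArtinian R M] :
    Module.Finite (R ⧸ IsLocalRing.maximalIdeal R)
      (Submodule.torsionBySet R M (IsLocalRing.maximalIdeal R : Set R)) := by
  letI : Field (R ⧸ IsLocalRing.maximalIdeal R) := Ideal.Quotient.field _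
  set V := Submodule.torsionBySet R M (IsLocalRing.maximalIdeal R : Set R) with hV
  haveI : IsArtinian (R ⧸ IsLocalRing.maximalIdeal R) V := isArtinian_of_tower R inferInstance
  have hfin : (Module.Basis.ofVectorSpaceIndex (R ⧸ IsLocalRing.maximalIdeal R) V).Finite :=
    IsArtinian.finite_of_linearIndependent
      (Module.Basis.ofVectorSpaceIndex.linearIndependent (R ⧸ IsLocalRing.maximalIdeal R) V)
  haveI : Finite (Module.Basis.ofVectorSpaceIndex (R ⧸ IsLocalRing.maximalIdeal R) V) :=
    hfin.to_subtype
  exact Module.Finite.of_basis (Module.Basis.ofVectorSpace (R ⧸ IsLocalRing.maximalIdeal R) V)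

/-- **S0315**. -/
theorem isArtinian_iff (M : Type v) [AddCommGroup M] [Module R M] :
    IsArtinian R M ↔ (LocCoh.IsPowerTorsion (IsLocalRing.maximalIdeal R) M ∧
      Module.Finite (R ⧸ IsLocalRing.maximalIdeal R)
        (Submodule.torsionBySet R M (IsLocalRing.maximalIdeal R : Set R))) := by
  constructor
  · intro h
    exact ⟨powerTorsion_of_isArtinian M, finite_socle_of_isArtinian M⟩
  · rintro ⟨h1, h2⟩
    exact isArtinian_of_powerTorsion_of_finite (IsLocalRing.maximalIdeal R)
      (IsNoetherian.noetherian _) h1

end ArtinianChar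

section Characterization

variable {R : Type u} [CommRing R] [IsLocalRing R]

theorem isSimpleModule_residue : IsSimpleModule R (R ⧸ IsLocalRing.maximalIdeal R) :=
  isSimpleModule_iff_quot_maximal.mpr
    ⟨_, IsLocalRing.maximalIdeal.isMaximal R, ⟨LinearEquiv.refl R _⟩⟩

/-- **S5155**: characterization of injective hulls of the residue field. -/
theorem exists_hull_iff [IsNoetherianRing R] (E : Type u) [AddCommGroup E] [Module R E] :
    (∃ f : (R ⧸ IsLocalRing.maximalIdeal R) →ₗ[R] E, IsInjectiveHull f) ↔
      (Module.Injective R E ∧ LocCoh.IsPowerTorsion (IsLocalRing.maximalIdeal R) E ∧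
        IsSimpleModule R ((R ⧸ IsLocalRing.maximalIdeal R) →ₗ[R] E)) := by
  haveI := isSimpleModule_residue (R := R)
  constructor
  · rintro ⟨f, hf⟩
    exact ⟨hf.isInjective, powerTorsion_of_hull _ hf,
      IsSimpleModule.congr (homResidueEquiv hf.toIsEssentialInj)⟩
  · rintro ⟨hinj, htors, hsimple⟩
    haveI : Nontrivial ((R ⧸ IsLocalRing.maximalIdeal R) →ₗ[R] E) :=
      IsSimpleModule.nontrivial R _
    obtain ⟨f, hf0⟩ := exists_ne (0 : (R ⧸ IsLocalRing.maximalIdeal R) →ₗ[R] E)
    have hfinj : Function.Injective f := by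
      rw [← LinearMap.ker_eq_bot]
      rcases eq_bot_or_eq_top (LinearMap.ker f) with h | h
      · exact h
      · exact absurd (LinearMap.ker_eq_top.mp h) hf0
    refine ⟨f, ⟨(isEssentialInj_iff f).mpr ⟨hfinj, fun x hx => ?_⟩, hinj⟩⟩
    obtain ⟨r, hr0, hr⟩ := exists_smul_mem_torsionBySet (IsLocalRing.maximalIdeal R) hx (htors x)
    refine ⟨r, hr0, ?_⟩
    obtain ⟨s, hs⟩ := IsSimpleModule.toSpanSingleton_surjective R hf0
      ((homQuotEquiv (IsLocalRing.maximalIdeal R) E).symm ⟨r • x, hr⟩)
    refine ⟨s • 1, ?_⟩
    have h1 : ((homQuotEquiv (IsLocalRing.maximalIdeal R) E)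
        ((homQuotEquiv (IsLocalRing.maximalIdeal R) E).symm ⟨r • x, hr⟩) : E) = r • x := by
      rw [LinearEquiv.apply_symm_apply]
    rw [homQuotEquiv_apply, ← hs, LinearMap.toSpanSingleton_apply, LinearMap.smul_apply] at h1
    rw [map_smul]
    exact h1

end Characterization

section Dual

variable {R : Type u} [CommRing R] [IsLocalRing R]
variable {E : Type u} [AddCommGroup E] [Module R E]
  {f : (R ⧸ IsLocalRing.maximalIdeal R) →ₗ[R] E}

/-- The annihilators of `G` and of its Matlis dual coincide. -/
theorem annihilator_dual_eq (hf : IsInjectiveHull f) (G : Type v) [AddCommGroup G] [Module R G] :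
    Module.annihilator R G = Module.annihilator R (G →ₗ[R] E) := by
  haveI := hf.isInjective
  ext a
  rw [Module.mem_annihilator, Module.mem_annihilator]
  constructor
  · intro h φ
    ext g
    rw [LinearMap.smul_apply, ← map_smul, h g, map_zero, LinearMap.zero_apply]
  · intro h g
    by_contra hne
    obtain ⟨φ, hφ⟩ := exists_hom_apply_ne_zero f hf.injective hne
    apply hφ
    rw [map_smul, ← LinearMap.smul_apply, h φ, LinearMap.zero_apply]

/-- The Matlis dual of a finite module over a Noetherian local ring is Artinian. -/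
theorem isArtinian_dual [IsNoetherianRing R] (hf : IsInjectiveHull f) (N : Type v)
    [AddCommGroup N] [Module R N] [Module.Finite R N] : IsArtinian R (N →ₗ[R] E) := by
  haveI : IsArtinian R E := isArtinian_of_hull _ hf
  obtain ⟨n, p, hp⟩ := Module.Finite.exists_fin' R N
  let ι : (N →ₗ[R] E) →ₗ[R] (Fin n → E) :=
    ((Pi.basisFun R (Fin n)).constr R).symm.toLinearMap ∘ₗ LinearMap.lcomp R E p
  refine isArtinian_of_injective ι ?_
  intro φ ψ h
  have h1 : LinearMap.lcomp R E p φ = LinearMap.lcomp R E p ψ :=
    ((Pi.basisFun R (Fin n)).constr R).symm.injective h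
  ext y
  obtain ⟨z, rfl⟩ := hp y
  exact LinearMap.congr_fun h1 z

end Dual

section Generators

variable {R : Type u} [CommRing R] [IsLocalRing R] [IsNoetherianRing R]
variable {E : Type u} [AddCommGroup E] [Module R E]
  {f : (R ⧸ IsLocalRing.maximalIdeal R) →ₗ[R] E}

/-- A finite module killed by a power of the maximal ideal has finite length. -/
theorem isFiniteLength_of_powerTorsion (M : Type v) [AddCommGroup M] [Module R M]
    [Module.Finite R M] (hM : LocCoh.IsPowerTorsion (IsLocalRing.maximalIdeal R) M) :
    IsFiniteLength R M := by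
  rw [isFiniteLength_iff_isNoetherian_isArtinian]
  refine ⟨inferInstance, ?_⟩
  haveI : Module.Finite (R ⧸ IsLocalRing.maximalIdeal R)
      (Submodule.torsionBySet R M (IsLocalRing.maximalIdeal R : Set R)) :=
    Module.Finite.of_restrictScalars_finite R _ _
  exact isArtinian_of_powerTorsion_of_finite (IsLocalRing.maximalIdeal R)
    (IsNoetherian.noetherian _) hM

/-- The socle of the Matlis dual of `M` is the dual of `M/mM`. -/
noncomputable def socleDualEquiv (M : Type u) [AddCommGroup M] [Module R M] :
    ((M ⧸ (IsLocalRing.maximalIdeal R • ⊤ : Submodule R M)) →ₗ[R] E) ≃ₗ[R]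
      Submodule.torsionBySet R (M →ₗ[R] E) (IsLocalRing.maximalIdeal R : Set R) :=
  LinearEquiv.ofBijective
    (LinearMap.codRestrict _
      (LinearMap.lcomp R E (IsLocalRing.maximalIdeal R • ⊤ : Submodule R M).mkQ) (by
        intro ψ
        rw [Submodule.mem_torsionBySet_iff]
        rintro ⟨a, ha⟩
        ext x
        change a • ψ (Submodule.Quotient.mk x) = 0
        rw [← map_smul, ← Submodule.Quotient.mk_smul,
          (Submodule.Quotient.mk_eq_zero _).mpr (Submodule.smul_mem_smul ha Submodule.mem_top),
          map_zero]))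
    (by
      constructor
      · intro ψ ψ' h
        have h1 : ψ ∘ₗ (IsLocalRing.maximalIdeal R • ⊤ : Submodule R M).mkQ =
            ψ' ∘ₗ (IsLocalRing.maximalIdeal R • ⊤ : Submodule R M).mkQ := congrArg Subtype.val h
        ext x
        exact LinearMap.congr_fun h1 x
      · intro φ
        have hle : (IsLocalRing.maximalIdeal R • ⊤ : Submodule R M) ≤ LinearMap.ker (φ : M →ₗ[R] E) := by
          rw [Submodule.smul_le]
          intro a ha x _
          rw [LinearMap.mem_ker, map_smul, ← LinearMap.smul_apply]
          have := (Submodule.mem_torsionBySet_iff _ _).mp φ.2 ⟨a, ha⟩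
          change a • (φ : M →ₗ[R] E) = 0 at this
          rw [this, LinearMap.zero_apply]
        refine ⟨Submodule.liftQ _ (φ : M →ₗ[R] E) hle, Subtype.ext ?_⟩
        ext x
        rfl)

/-- **S17756**: the minimal number of generators of `M` is the length of the socle of its dual. -/
theorem spanFinrank_eq_length_socle_dual (hf : IsInjectiveHull f) (M : Type u) [AddCommGroup M]
    [Module R M] [Module.Finite R M] :
    ((⊤ : Submodule R M).spanFinrank : ℕ∞) =
      Module.length R (Submodule.torsionBySet R (M →ₗ[R] E)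
        (IsLocalRing.maximalIdeal R : Set R)) := by
  letI : Field (R ⧸ IsLocalRing.maximalIdeal R) := Ideal.Quotient.field _
  set Q := M ⧸ (IsLocalRing.maximalIdeal R • ⊤ : Submodule R M) with hQ
  have hpt : LocCoh.IsPowerTorsion (IsLocalRing.maximalIdeal R) Q := by
    intro y
    refine ⟨1, fun a ha => ?_⟩
    rw [pow_one] at ha
    obtain ⟨x, rfl⟩ := Submodule.Quotient.mk_surjective _ y
    rw [← Submodule.Quotient.mk_smul]
    exact (Submodule.Quotient.mk_eq_zero _).mpr (Submodule.smul_mem_smul ha Submodule.mem_top)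
  have hfl : IsFiniteLength R Q := isFiniteLength_of_powerTorsion Q hpt
  rw [← (socleDualEquiv (E := E) M).length_eq, length_hom_eq hf Q hfl,
    IsLocalRing.spanFinrank_eq_finrank_quotient (⊤ : Submodule R M) Module.Finite.fg_top]
  have e : ((⊤ : Submodule R M) ⧸ (IsLocalRing.maximalIdeal R • ⊤ : Submodule R (⊤ : Submodule R M)))
      ≃ₗ[R] Q :=
    Submodule.Quotient.equiv _ _ (Submodule.topEquiv (R := R) (M := M)) (by
      rw [Submodule.map_smul'']
      congr 1
      exact Submodule.map_top _ |>.trans (LinearMap.range_eq_top.mpr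
        (Submodule.topEquiv (R := R) (M := M)).surjective))
  rw [← e.length_eq, Module.length_eq_of_surjective (S := R) (R := R ⧸ IsLocalRing.maximalIdeal R)
    Ideal.Quotient.mk_surjective, Module.length_eq_finrank]

end Generators

end IH

end Groth.Agent.H6
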