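import Mathlib
import Groth.Prelude.Def_Wider
import Groth.Agent.Lib.Helper6.LCDepth
import Groth.Agent.Lib.Helper6.LCProps
import Groth.Agent.Lib.Helper6.LCZero
import Groth.Agent.Lib.Helper6.Melkersson
import Groth.Agent.Lib.Helper6.InjHullLocal

/-! Local cohomology of a finitely generated module with support in a maximal ideal is Artinian. -/

universe u
open CategoryTheory CategoryTheory.Limits Opposite CategoryTheory.Abelian

namespace Groth.Agent.H6

namespace LC

variable {R : Type u} [CommRing R] [IsNoetherianRing R]

/-- a finitely generated module without `I`-torsion has a regular element in `I` -/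
theorem exists_isSMulRegular_of_torsionSub_eq_bot (I : Ideal R) (N : Type u) [AddCommGroup N]
    [Module R N] [Module.Finite R N] (h : DRing.torsionSub I N = ⊥) :
    ∃ x ∈ I, IsSMulRegular N x := by
  classical
  by_contra hcon
  push_neg at hcon
  have hfin : (associatedPrimes R N).Finite := associatedPrimes.finite R N
  have hsub : (I : Set R) ⊆ ⋃ p ∈ (hfin.toFinset : Set (Ideal R)), (p : Set R) := by
    intro x hx
    have hx' : x ∈ ⋃ p ∈ associatedPrimes R N, (p : Set R) := by
      rw [biUnion_associatedPrimes_eq_compl_regular]
      exact hcon x hx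
    simpa using hx'
  obtain ⟨p, hp, hle⟩ := (Ideal.subset_union_prime (s := hfin.toFinset) (f := fun p => p) ⊥ ⊥
    (fun p hp _ _ => (hfin.mem_toFinset.mp hp).isPrime)).mp hsub
  rw [Set.Finite.mem_toFinset] at hp
  obtain ⟨hprime, n, hn⟩ := (isAssociatedPrime_iff).mp hp
  have hn0 : n ∈ DRing.torsionSub I N := by
    refine ⟨1, fun r hr => ?_⟩
    rw [pow_one] at hr
    have : r ∈ p := hle hr
    rw [hn, Submodule.mem_colon_singleton, Submodule.mem_bot] at this
    exact this
  rw [h, Submodule.mem_bot] at hn0
  apply hprime.ne_top
  rw [hn, hn0, Ideal.eq_top_iff_one, Submodule.mem_colon_singleton, smul_zero]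
  exact Submodule.zero_mem _

/-- the quotient by the torsion submodule has no torsion -/
theorem torsionSub_quot_eq_bot (I : Ideal R) (N : Type u) [AddCommGroup N] [Module R N] :
    DRing.torsionSub I (N ⧸ DRing.torsionSub I N) = ⊥ := by
  rw [eq_bot_iff]
  rintro y ⟨k, hk⟩
  obtain ⟨n, rfl⟩ := Submodule.Quotient.mk_surjective _ y
  rw [Submodule.mem_bot, Submodule.Quotient.mk_eq_zero]
  have hfg : (I ^ k).FG := (isNoetherianRing_iff_ideal_fg R).mp inferInstance _
  obtain ⟨T, hT⟩ := hfg
  have hmem : ∀ r ∈ T, r • n ∈ DRing.torsionSub I N := by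
    intro r hr
    rw [← Submodule.Quotient.mk_eq_zero, Submodule.Quotient.mk_smul]
    apply hk
    rw [← hT]
    exact Ideal.subset_span hr
  choose! e he using hmem
  refine ⟨k + T.sup e, fun r hr => ?_⟩
  rw [pow_add, mul_comm] at hr
  refine Submodule.mul_induction_on hr ?_ ?_
  · intro s hs t ht
    rw [mul_smul]
    rw [← hT] at ht
    refine Submodule.span_induction ?_ ?_ ?_ ?_ ht
    · intro t' ht'
      apply he t' ht'
      exact Ideal.pow_le_pow_right (Finset.le_sup (f := e) ht') hs
    · rw [zero_smul, smul_zero]
    · intro x y _ _ hx hy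
      rw [add_smul, smul_add, hx, hy, add_zero]
    · intro c x _ hx
      rw [smul_eq_mul, mul_smul, smul_comm, hx, smul_zero]
  · intro x y hx hy
    rw [add_smul, hx, hy, add_zero]

/-- a finitely generated power-torsion module for a maximal ideal is Artinian -/
theorem isArtinian_of_finite_of_powerTorsion (m : Ideal R) [hm : m.IsMaximal] (N : Type u)
    [AddCommGroup N] [Module R N] [Module.Finite R N] (h : LocCoh.IsPowerTorsion m N) :
    IsArtinian R N := by
  haveI : Module.Finite R (Submodule.torsionBySet R N (m : Set R)) := inferInstance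
  haveI : Module.Finite (R ⧸ m) (Submodule.torsionBySet R N (m : Set R)) :=
    Module.Finite.of_restrictScalars_finite R (R ⧸ m) _
  exact IH.isArtinian_of_powerTorsion_of_finite m (IsNoetherian.noetherian m) h

/-- **local cohomology with support in a maximal ideal of a finitely generated module is Artinian** -/
theorem isArtinian_H (m : Ideal R) [hm : m.IsMaximal] :
    ∀ (i : ℕ) (M : Type u) [AddCommGroup M] [Module R M] [Module.Finite R M],
      IsArtinian R (LocCoh.H m i M) := by
  intro i
  induction i with
  | zero =>
    intro M _ _ _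
    -- `H^0` embeds into the torsion submodule
    let Γ : Submodule R M := DRing.torsionSub m M
    haveI : IsArtinian R Γ := by
      apply isArtinian_of_finite_of_powerTorsion m Γ
      rintro ⟨t, n, hn⟩
      exact ⟨n, fun a ha => Subtype.ext (hn a ha)⟩
    let f : LocCoh.H m 0 M →ₗ[R] Γ :=
      (zeroToSelf m (ModuleCat.of R M)).codRestrict Γ (fun z => zeroToSelf_mem (ModuleCat.of R M) z)
    have hf : Function.Injective f := by
      intro a b hab
      apply zeroToSelf_injective (I := m) (ModuleCat.of R M)
      exact congrArg Subtype.val hab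
    exact isArtinian_of_injective f hf
  | succ i ih =>
    intro M _ _ _
    -- pass to the quotient by the torsion
    let N := M ⧸ DRing.torsionSub m M
    have hbij := map_mkQ_torsionSub_bijective m M i
    suffices hN : IsArtinian R (LocCoh.H m (i + 1) N) from
      isArtinian_of_injective _ hbij.1
    have htf : DRing.torsionSub m N = ⊥ := torsionSub_quot_eq_bot m M
    obtain ⟨x, hxm, hx⟩ := exists_isSMulRegular_of_torsionSub_eq_bot m N htf
    have hx' : IsSMulRegular (ModuleCat.of R N) x := hx
    have hS := hx'.smulShortComplex_shortExact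
    haveI hA : IsArtinian R ((localCohomology m i).obj ((ModuleCat.of R N).smulShortComplex x).X₃) :=
      ih (QuotSMulTop x N)
    -- the `x`-torsion of `H^{i+1}(N)` is a quotient of `H^i(N/xN)`
    change IsArtinian R ((localCohomology m (i + 1)).obj ((ModuleCat.of R N).smulShortComplex x).X₁)
    have hle : Submodule.torsionBy R
        ((localCohomology m (i + 1)).obj ((ModuleCat.of R N).smulShortComplex x).X₁) x ≤
        LinearMap.range (δ hS m i) := by
      intro y hy
      rw [Submodule.mem_torsionBy_iff] at hy
      have h0 : ((localCohomology m (i + 1)).map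
          ((ModuleCat.of R N).smulShortComplex x).f).hom y = 0 := by
        rw [ModuleCat.smulShortComplex_f_eq_smul_id]
        exact (map_smul_id x y).trans hy
      obtain ⟨z, hz⟩ := exact₁ hS y h0
      exact ⟨z, hz⟩
    haveI : IsArtinian R (LinearMap.range (δ hS m i)) :=
      isArtinian_of_surjective _ (δ hS m i).rangeRestrict (LinearMap.surjective_rangeRestrict _)
    haveI : IsArtinian R (Submodule.torsionBy R
        ((localCohomology m (i + 1)).obj ((ModuleCat.of R N).smulShortComplex x).X₁) x) :=
      isArtinian_of_injective (Submodule.inclusion hle) (Submodule.inclusion_injective hle)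
    apply Melk.isArtinian_of_torsionBy x
    intro y
    obtain ⟨n, hn⟩ := isPowerTorsion m (i + 1) (ModuleCat.of R N) y
    exact ⟨n, hn _ (Ideal.pow_mem_pow hxm n)⟩

end LC

end Groth.Agent.H6
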