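import Mathlib
import Groth.Prelude.Def_Wider
import Groth.Agent.Lib.Helper6.DepthKit
import Groth.Agent.Lib.Helper6.LCArtinian
import Groth.Agent.S11614

/-! Depth is invariant under a local homomorphism along which the module stays finite. -/

universe u
set_option linter.style.haveILetI false
open CategoryTheory CategoryTheory.Limits Opposite CategoryTheory.Abelian
open scoped Pointwise

namespace Groth.Agent.H6

namespace Depth

/-- the `I`-depth is monotone in the ideal -/
theorem idealDepth_mono {R : Type u} [CommRing R] {I J : Ideal R} (h : I ≤ J) (M : Type u)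
    [AddCommGroup M] [Module R M] : LocCoh.idealDepth I M ≤ LocCoh.idealDepth J M := by
  unfold LocCoh.idealDepth
  by_cases hJ : J • (⊤ : Submodule R M) = ⊤
  · rw [if_pos hJ]; exact le_top
  · have hI : I • (⊤ : Submodule R M) ≠ ⊤ := by
      intro hI
      exact hJ (top_le_iff.mp (hI.ge.trans (Submodule.smul_mono_left h)))
    rw [if_neg hI, if_neg hJ]
    apply iSup_le; intro rs; apply iSup_le; intro hrs
    exact le_iSup_of_le rs (le_iSup_of_le ⟨hrs.1, fun r hr => h (hrs.2 r hr)⟩ le_rfl)

/-- vanishing of local cohomology in low degrees passes to larger ideals -/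
theorem subsingleton_H_of_le {R : Type u} [CommRing R] [IsNoetherianRing R] {I J : Ideal R}
    (h : I ≤ J) (M : Type u) [AddCommGroup M] [Module R M] [Module.Finite R M] (n : ℕ)
    (hv : ∀ i < n, Subsingleton (LocCoh.H I i M)) : ∀ i < n, Subsingleton (LocCoh.H J i M) := by
  rw [← le_idealDepth_iff] at hv ⊢
  exact hv.trans (idealDepth_mono h M)

/-- `H^0_I(M) = 0` iff the `I`-power torsion submodule vanishes -/
theorem subsingleton_H_zero_iff {R : Type u} [CommRing R] (I : Ideal R) (M : Type u)
    [AddCommGroup M] [Module R M] :
    Subsingleton (LocCoh.H I 0 M) ↔ DRing.torsionSub I M = ⊥ := by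
  have e := LC.zeroEquiv I (ModuleCat.of R M)
  constructor
  · intro h
    have : Subsingleton (DRing.torsionSub I M) := e.symm.toEquiv.subsingleton
    exact Submodule.subsingleton_iff_eq_bot.mp this
  · intro h
    have : Subsingleton (DRing.torsionSub I M) := Submodule.subsingleton_iff_eq_bot.mpr h
    exact e.toEquiv.subsingleton

section LocalHom

variable {A B : Type u} [CommRing A] [CommRing B] [IsLocalRing A] [IsLocalRing B]
  [IsNoetherianRing A] [IsNoetherianRing B] [Algebra A B] [IsLocalHom (algebraMap A B)]

omit [IsNoetherianRing B] in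
/-- if `M` is finite over `A` and has no `m_B`-torsion then it has no `m_A B`-torsion -/
theorem torsionSub_map_eq_bot (M : Type u) [AddCommGroup M] [Module B M] [Module A M]
    [IsScalarTower A B M] [Module.Finite A M]
    (h : DRing.torsionSub (IsLocalRing.maximalIdeal B) M = ⊥) :
    DRing.torsionSub ((IsLocalRing.maximalIdeal A).map (algebraMap A B)) M = ⊥ := by
  set J := (IsLocalRing.maximalIdeal A).map (algebraMap A B) with hJ
  set T : Submodule B M := DRing.torsionSub J M with hT
  by_contra hne
  -- `T` is a finite `A`-module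
  haveI : Module.Finite A (T.restrictScalars A) := inferInstance
  haveI : Module.Finite A T := Module.Finite.equiv ((Submodule.restrictScalarsEquiv A B M T).restrictScalars A)
  -- which is power torsion for the maximal ideal of `A`
  have hpt : LocCoh.IsPowerTorsion (IsLocalRing.maximalIdeal A) T := by
    rintro ⟨z, k, hk⟩
    refine ⟨k, fun a ha => ?_⟩
    apply Subtype.ext
    change a • z = 0
    rw [← algebraMap_smul B a z]
    apply hk
    rw [hJ, ← Ideal.map_pow]
    exact Ideal.mem_map_of_mem _ ha
  haveI : IsArtinian A T := LC.isArtinian_of_finite_of_powerTorsion (IsLocalRing.maximalIdeal A) T hpt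
  haveI : IsArtinian B T := isArtinian_of_tower A inferInstance
  haveI : Nontrivial T := Submodule.nontrivial_iff_ne_bot.mpr hne
  obtain ⟨S, hS⟩ := IsAtomic.exists_atom (Submodule B T)
  haveI : IsSimpleModule B S := isSimpleModule_iff_isAtom.mpr hS
  have hmax : (Module.annihilator B S).IsMaximal := IsSimpleModule.annihilator_isMaximal
  have hann : Module.annihilator B S = IsLocalRing.maximalIdeal B := IsLocalRing.eq_maximalIdeal hmax
  haveI : Nontrivial S := IsSimpleModule.nontrivial B S
  obtain ⟨⟨w, hwS⟩, hw0⟩ := exists_ne (0 : S)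
  have hwne : (w : M) ≠ 0 := by
    intro hw
    apply hw0
    apply Subtype.ext
    apply Subtype.ext
    exact hw
  have hmem : (w : M) ∈ DRing.torsionSub (IsLocalRing.maximalIdeal B) M := by
    refine ⟨1, fun b hb => ?_⟩
    rw [pow_one, ← hann] at hb
    have h1 := Module.mem_annihilator.mp hb ⟨w, hwS⟩
    have h2 := congrArg (fun s : S => ((s : T) : M)) h1
    simpa using h2
  rw [h] at hmem
  exact hwne ((Submodule.mem_bot B).mp hmem)

/-- key comparison of vanishing: from `m_B` to `m_A B` -/
theorem subsingleton_H_map_of_maximalIdeal (n : ℕ) :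
    ∀ (M : Type u) [AddCommGroup M] [Module B M] [Module A M] [IsScalarTower A B M]
      [Module.Finite A M],
      (∀ i < n, Subsingleton (LocCoh.H (IsLocalRing.maximalIdeal B) i M)) →
      ∀ i < n, Subsingleton (LocCoh.H ((IsLocalRing.maximalIdeal A).map (algebraMap A B)) i M) := by
  induction n with
  | zero => intro M _ _ _ _ _ _ i hi; omega
  | succ n ih =>
    intro M _ _ _ _ _ hv
    set J := (IsLocalRing.maximalIdeal A).map (algebraMap A B) with hJ
    have hJle : J ≤ IsLocalRing.maximalIdeal B := by
      rw [hJ, Ideal.map_le_iff_le_comap]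
      intro a ha
      exact (IsLocalRing.mem_maximalIdeal _).mpr
        (fun hu => (IsLocalRing.mem_maximalIdeal _).mp ha (isUnit_of_map_unit (algebraMap A B) a hu))
    have h0 : Subsingleton (LocCoh.H J 0 M) := by
      rw [subsingleton_H_zero_iff]
      apply torsionSub_map_eq_bot
      rw [← subsingleton_H_zero_iff]
      exact hv 0 (Nat.succ_pos n)
    -- a regular element in `m_A`
    have h0A : Subsingleton (LocCoh.H (IsLocalRing.maximalIdeal A) 0 M) := by
      obtain ⟨φ, -⟩ := Groth.Agent.S11614.result A B (IsLocalRing.maximalIdeal A) M 0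
      exact φ.symm.toEquiv.subsingleton
    rw [subsingleton_H_zero_iff] at h0A
    obtain ⟨x, hxm, hxreg⟩ := LC.exists_isSMulRegular_of_torsionSub_eq_bot
      (IsLocalRing.maximalIdeal A) M h0A
    have hx'J : algebraMap A B x ∈ J := Ideal.mem_map_of_mem _ hxm
    have hx'reg : IsSMulRegular M (algebraMap A B x) := by
      intro m₁ m₂ hm
      apply hxreg
      simpa only [algebraMap_smul] using hm
    haveI : Module.Finite A (QuotSMulTop (algebraMap A B x) M) :=
      Module.Finite.of_surjective
        ((Submodule.mkQ (p := ((algebraMap A B x) • (⊤ : Submodule B M) : Submodule B M))).restrictScalars A)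
        (Submodule.mkQ_surjective _)
    have h1 := (quotSMulTop_vanish_iff (IsLocalRing.maximalIdeal B) M (algebraMap A B x)
      (hJle hx'J) hx'reg n).mpr hv
    have h2 := ih (QuotSMulTop (algebraMap A B x) M) h1
    exact (quotSMulTop_vanish_iff J M (algebraMap A B x) hx'J hx'reg n).mp h2

/-- **Depth under finite local homomorphisms.** -/
theorem depth_eq_of_isLocalHom_of_finite (M : Type u) [AddCommGroup M] [Module B M] [Module A M]
    [IsScalarTower A B M] [Module.Finite A M] :
    LocCoh.depth A M = LocCoh.depth B M := by
  haveI : Module.Finite B M := Module.Finite.of_restrictScalars_finite A B M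
  set J := (IsLocalRing.maximalIdeal A).map (algebraMap A B) with hJ
  have hJle : J ≤ IsLocalRing.maximalIdeal B := by
    rw [hJ, Ideal.map_le_iff_le_comap]
    intro a ha
    exact (IsLocalRing.mem_maximalIdeal _).mpr
      (fun hu => (IsLocalRing.mem_maximalIdeal _).mp ha (isUnit_of_map_unit (algebraMap A B) a hu))
  have hiff : ∀ i : ℕ, Subsingleton (LocCoh.H J i M) ↔
      Subsingleton (LocCoh.H (IsLocalRing.maximalIdeal A) i M) := by
    intro i
    obtain ⟨φ, -⟩ := Groth.Agent.S11614.result A B (IsLocalRing.maximalIdeal A) M i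
    exact ⟨fun h => φ.symm.toEquiv.subsingleton, fun h => φ.toEquiv.subsingleton⟩
  apply le_antisymm
  · apply idealDepth_le_of_forall
    intro n hn
    exact subsingleton_H_of_le hJle M n (fun i hi => (hiff i).mpr (hn i hi))
  · apply idealDepth_le_of_forall
    intro n hn i hi
    exact (hiff i).mp (subsingleton_H_map_of_maximalIdeal (A := A) n M hn i hi)

end LocalHom

end Depth

end Groth.Agent.H6
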