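import Mathlib
import Groth.Prelude.Def_Wider
import Groth.Agent.Lib.Helper6.DepthKit
import Groth.Agent.Lib.Helper6.DepthLoc
import Groth.Agent.Lib.Helper6.DepthLocalHom
import Groth.Agent.Lib.Helper6.Ischebeck
import Groth.Agent.S5765

/-! Cohen–Macaulay modules over Noetherian local rings: basic theory. -/

universe u
set_option linter.style.haveILetI false
open CategoryTheory CategoryTheory.Limits Opposite CategoryTheory.Abelian
open scoped Pointwise

namespace Groth.Agent.H6

namespace CM

/-- cancellation of `+ 1` in `WithBot ℕ∞` -/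
theorem withBot_add_one_cancel {a b : WithBot ℕ∞} (h : a + 1 = b + 1) : a = b := by
  induction a using WithBot.recBotCoe with
  | bot =>
    induction b using WithBot.recBotCoe with
    | bot => rfl
    | coe b =>
      exfalso
      rw [WithBot.bot_add] at h
      have : ((b + 1 : ℕ∞) : WithBot ℕ∞) = ⊥ := by exact_mod_cast h.symm
      exact WithBot.coe_ne_bot this
  | coe a =>
    induction b using WithBot.recBotCoe with
    | bot =>
      exfalso
      rw [WithBot.bot_add] at h
      have : ((a + 1 : ℕ∞) : WithBot ℕ∞) = ⊥ := by exact_mod_cast h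
      exact WithBot.coe_ne_bot this
    | coe b =>
      have h' : a + 1 = b + 1 := by exact_mod_cast h
      have : a = b := (ENat.add_left_injective_of_ne_top ENat.one_ne_top) h'
      rw [this]

/-- cancellation of `+ 1` in inequalities in `WithBot ℕ∞` -/
theorem withBot_le_of_add_one_le {a b : WithBot ℕ∞} (h : a + 1 ≤ b + 1) : a ≤ b := by
  induction a using WithBot.recBotCoe with
  | bot => exact bot_le
  | coe a =>
    induction b using WithBot.recBotCoe with
    | bot =>
      exfalso
      rw [WithBot.bot_add, le_bot_iff] at h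
      have : ((a + 1 : ℕ∞) : WithBot ℕ∞) = ⊥ := by exact_mod_cast h
      exact WithBot.coe_ne_bot this
    | coe b =>
      have h' : a + 1 ≤ b + 1 := by exact_mod_cast h
      have : a ≤ b := (ENat.add_le_add_iff_right ENat.one_ne_top).mp h'
      exact_mod_cast this

section General

variable {R : Type u} [CommRing R]

/-- `dim R/p ≤ dim M` for a prime `p` in the support of `M` -/
theorem ringKrullDim_quotient_le_supportDim (M : Type u) [AddCommGroup M] [Module R M]
    [Module.Finite R M] (p : Ideal R) (hp : Module.annihilator R M ≤ p) :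
    ringKrullDim (R ⧸ p) ≤ Module.supportDim R M := by
  rw [Module.supportDim_eq_ringKrullDim_quotient_annihilator]
  exact ringKrullDim_le_of_surjective (Ideal.Quotient.factor hp)
    (Ideal.Quotient.factor_surjective hp)

/-- the dimension of the support only depends on the support -/
theorem supportDim_eq_of_support_eq {M N : Type u} [AddCommGroup M] [Module R M] [AddCommGroup N]
    [Module R N] (h : Module.support R M = Module.support R N) :
    Module.supportDim R M = Module.supportDim R N := by
  unfold Module.supportDim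
  rw [h]

theorem annihilator_le_of_mem_associatedPrimes {M : Type u} [AddCommGroup M] [Module R M]
    {p : Ideal R} (hp : p ∈ associatedPrimes R M) : Module.annihilator R M ≤ p := by
  rw [← Submodule.annihilator_top]
  exact IsAssociatedPrime.annihilator_le hp

theorem supportDim_le_of_support_subset {M N : Type u} [AddCommGroup M] [Module R M]
    [AddCommGroup N] [Module R N] (h : Module.support R M ⊆ Module.support R N) :
    Module.supportDim R M ≤ Module.supportDim R N :=
  Order.krullDim_le_of_strictMono (fun a => ⟨a.1, h a.2⟩) (fun {_ _} lt => lt)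

end General

section Local

variable {R : Type u} [CommRing R] [IsNoetherianRing R] [IsLocalRing R]

theorem exists_ringKrullDim_quotient_eq (p : Ideal R) [hp : p.IsPrime] :
    ∃ r : ℕ, ringKrullDim (R ⧸ p) = r := by
  haveI : Nontrivial (R ⧸ p) := Ideal.Quotient.nontrivial_iff.mpr hp.ne_top
  obtain ⟨r, hr⟩ := LC.exists_supportDim_eq (R := R) (R ⧸ p)
  exact ⟨r, by rw [← Module.supportDim_quotient_eq_ringKrullDim, hr]⟩

/-- `depth M ≤ dim R/p` for every associated prime `p` of `M` -/
theorem depth_le_ringKrullDim_quotient (M : Type u) [AddCommGroup M] [Module R M]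
    [Module.Finite R M] (p : Ideal R) (hp : p ∈ associatedPrimes R M) :
    ((LocCoh.depth R M : ℕ∞) : WithBot ℕ∞) ≤ ringKrullDim (R ⧸ p) := by
  haveI : Nontrivial M := by
    by_contra h
    rw [not_nontrivial_iff_subsingleton] at h
    exact not_isAssociatedPrime_of_subsingleton hp
  obtain ⟨hpp, f, hf⟩ := (isAssociatedPrime_iff_exists_injective_linearMap p M).mp hp
  haveI := hpp
  obtain ⟨d, hd, -⟩ := Depth.exists_depth_eq (R := R) M
  obtain ⟨r, hr⟩ := exists_ringKrullDim_quotient_eq p
  rw [hd, hr]
  by_contra hcon
  push Not at hcon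
  have hlt : r < d := by exact_mod_cast hcon
  have hsub := Isch.ischebeck M d hd r (R ⧸ p)
    (by rw [Module.supportDim_quotient_eq_ringKrullDim, hr]) 0 (by omega)
  have h0 : Ext.mk₀ (ModuleCat.ofHom f) = 0 := Subsingleton.elim _ _
  rw [Ext.mk₀_eq_zero_iff] at h0
  have h1 : f = 0 := by
    have := congrArg ModuleCat.Hom.hom h0
    simpa using this
  have h2 : f 1 = 0 := by rw [h1]; rfl
  have h3 : (1 : R ⧸ p) = 0 := hf (h2.trans (map_zero f).symm)
  haveI : Nontrivial (R ⧸ p) := Ideal.Quotient.nontrivial_iff.mpr hpp.ne_top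
  exact one_ne_zero h3

theorem nontrivial_of_cm {M : Type u} [AddCommGroup M] [Module R M]
    (hM : LocCoh.IsCohenMacaulayModule R M) : Nontrivial M := by
  rw [← Module.supportDim_ne_bot_iff_nontrivial R]
  unfold LocCoh.IsCohenMacaulayModule at hM
  rw [hM]
  exact WithBot.coe_ne_bot

/-- all associated primes of a Cohen–Macaulay module have the same dimension -/
theorem ringKrullDim_quotient_eq_of_cm (M : Type u) [AddCommGroup M] [Module R M]
    [Module.Finite R M] (hM : LocCoh.IsCohenMacaulayModule R M) (p : Ideal R)
    (hp : p ∈ associatedPrimes R M) : ringKrullDim (R ⧸ p) = Module.supportDim R M := by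
  apply le_antisymm
  · exact ringKrullDim_quotient_le_supportDim M p (annihilator_le_of_mem_associatedPrimes hp)
  · rw [hM]
    exact depth_le_ringKrullDim_quotient M p hp

/-- for a Cohen–Macaulay module, an element of the maximal ideal is regular iff it lowers the
dimension -/
theorem isSMulRegular_iff_of_cm (M : Type u) [AddCommGroup M] [Module R M]
    [Module.Finite R M] (hM : LocCoh.IsCohenMacaulayModule R M) (x : R)
    (hx : x ∈ IsLocalRing.maximalIdeal R) :
    IsSMulRegular M x ↔
      Module.supportDim R (QuotSMulTop x M) + 1 = Module.supportDim R M := by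
  constructor
  · intro h
    exact Module.supportDim_quotSMulTop_succ_eq_supportDim h hx
  · intro h
    haveI := nontrivial_of_cm hM
    obtain ⟨n, hn⟩ := LC.exists_supportDim_eq (R := R) M
    by_contra hreg
    have hzd : x ∈ {r : R | ∃ m : M, m ≠ 0 ∧ r • m = 0} := by
      by_contra hcon
      apply hreg
      intro m₁ m₂ hm
      by_contra hne
      apply hcon
      refine ⟨m₁ - m₂, sub_ne_zero.mpr hne, ?_⟩
      rw [smul_sub]
      exact sub_eq_zero.mpr hm
    rw [← biUnion_associatedPrimes_eq_zero_divisors R M] at hzd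
    obtain ⟨p, hp, hxp⟩ := Set.mem_iUnion₂.mp hzd
    have hpp : p.IsPrime := hp.isPrime
    have hdim := ringKrullDim_quotient_eq_of_cm M hM p hp
    have hsupp : (⟨p, hpp⟩ : PrimeSpectrum R) ∈ Module.support R (QuotSMulTop x M) := by
      rw [Module.support_quotSMulTop]
      refine ⟨?_, ?_⟩
      · rw [Module.mem_support_iff_of_finite]
        exact annihilator_le_of_mem_associatedPrimes hp
      · rw [PrimeSpectrum.mem_zeroLocus]
        intro y hy
        rw [Set.mem_singleton_iff] at hy
        rw [hy]
        exact hxp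
    rw [Module.mem_support_iff_of_finite] at hsupp
    have h1 := ringKrullDim_quotient_le_supportDim (QuotSMulTop x M) p hsupp
    rw [hdim] at h1
    have h2 : Module.supportDim R M + 1 ≤ Module.supportDim R M :=
      (add_le_add_left h1 1).trans h.le
    rw [hn] at h2
    have h3 : ((n + 1 : ℕ) : WithBot ℕ∞) ≤ (n : WithBot ℕ∞) := by exact_mod_cast h2
    have h4 : n + 1 ≤ n := by exact_mod_cast h3
    omega

/-- quotient of a Cohen–Macaulay module by a regular element -/
theorem cm_quotSMulTop (M : Type u) [AddCommGroup M] [Module R M]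
    [Module.Finite R M] (hM : LocCoh.IsCohenMacaulayModule R M) (x : R)
    (hx : x ∈ IsLocalRing.maximalIdeal R) (hreg : IsSMulRegular M x) :
    LocCoh.IsCohenMacaulayModule R (QuotSMulTop x M) := by
  unfold LocCoh.IsCohenMacaulayModule at hM ⊢
  have h1 := Module.supportDim_quotSMulTop_succ_eq_supportDim hreg hx
  have h2 := Depth.idealDepth_quotSMulTop_add_one (IsLocalRing.maximalIdeal R) M x hx hreg
  apply withBot_add_one_cancel
  rw [h1, hM]
  unfold LocCoh.depth
  rw [← h2]
  rfl

/-- a module is Cohen–Macaulay if its quotient by a regular element is -/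
theorem cm_of_quotSMulTop (M : Type u) [AddCommGroup M] [Module R M]
    [Module.Finite R M] (x : R)
    (hx : x ∈ IsLocalRing.maximalIdeal R) (hreg : IsSMulRegular M x)
    (hM : LocCoh.IsCohenMacaulayModule R (QuotSMulTop x M)) :
    LocCoh.IsCohenMacaulayModule R M := by
  unfold LocCoh.IsCohenMacaulayModule at hM ⊢
  have h1 := Module.supportDim_quotSMulTop_succ_eq_supportDim hreg hx
  have h2 := Depth.idealDepth_quotSMulTop_add_one (IsLocalRing.maximalIdeal R) M x hx hreg
  rw [← h1, hM]
  unfold LocCoh.depth
  rw [← h2]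
  rfl

end Local

section Transfer

variable {R : Type u} [CommRing R] [IsNoetherianRing R]

/-- the `I`-depth is invariant under linear equivalences -/
theorem idealDepth_eq_of_linearEquiv (I : Ideal R) {M N : Type u} [AddCommGroup M] [Module R M]
    [Module.Finite R M] [AddCommGroup N] [Module R N] [Module.Finite R N] (e : M ≃ₗ[R] N) :
    LocCoh.idealDepth I M = LocCoh.idealDepth I N := by
  apply le_antisymm
  · apply Depth.idealDepth_le_of_forall
    intro n hn i hi
    exact LC.subsingleton_of_linearEquiv e (hn i hi)
  · apply Depth.idealDepth_le_of_forall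
    intro n hn i hi
    exact LC.subsingleton_of_linearEquiv e.symm (hn i hi)

theorem cm_of_linearEquiv [IsLocalRing R] {M N : Type u} [AddCommGroup M] [Module R M]
    [Module.Finite R M] [AddCommGroup N] [Module R N] [Module.Finite R N] (e : M ≃ₗ[R] N)
    (hM : LocCoh.IsCohenMacaulayModule R M) : LocCoh.IsCohenMacaulayModule R N := by
  unfold LocCoh.IsCohenMacaulayModule at hM ⊢
  rw [← Module.supportDim_eq_of_equiv e, hM]
  unfold LocCoh.depth
  rw [idealDepth_eq_of_linearEquiv _ e]

end Transfer

section Grade

variable {R : Type u} [CommRing R] [IsNoetherianRing R] [IsLocalRing R]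

theorem support_quot_quotSMulTop (M : Type u) [AddCommGroup M] [Module R M]
    [Module.Finite R M] (I : Ideal R) (x : R) (hx : x ∈ I) :
    Module.support R (QuotSMulTop x M ⧸ (I • (⊤ : Submodule R (QuotSMulTop x M)))) =
      Module.support R (M ⧸ (I • (⊤ : Submodule R M))) := by
  rw [Module.support_quotient, Module.support_quotient, Module.support_quotSMulTop,
    Set.inter_assoc]
  congr 1
  apply Set.inter_eq_right.mpr
  intro q hq
  rw [PrimeSpectrum.mem_zeroLocus] at hq ⊢
  intro y hy
  rw [Set.mem_singleton_iff] at hy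
  rw [hy]
  exact hq hx

/-- **grade formula for Cohen–Macaulay modules**: `dim M = dim M/IM + depth_I M` -/
theorem supportDim_eq_add_idealDepth_aux (n : ℕ) :
    ∀ (M : Type u) [AddCommGroup M] [Module R M] [Module.Finite R M]
      (_ : LocCoh.IsCohenMacaulayModule R M) (I : Ideal R) (_ : I ≠ ⊤)
      (_ : LocCoh.idealDepth I M = n),
      Module.supportDim R M =
        Module.supportDim R (M ⧸ (I • (⊤ : Submodule R M))) + (n : WithBot ℕ∞) := by
  induction n with
  | zero =>
    intro M _ _ _ hM I hI hn
    rw [Nat.cast_zero, add_zero]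
    have hnon := ((Depth.idealDepth_eq_coe_iff I M 0).mp (by exact_mod_cast hn)).2
    have hT : DRing.torsionSub I M ≠ ⊥ := by
      intro h
      rw [← Depth.subsingleton_H_zero_iff] at h
      exact not_subsingleton _ h
    obtain ⟨z, hzT, hz0⟩ := (Submodule.ne_bot_iff _).mp hT
    obtain ⟨k, hk⟩ := hzT
    obtain ⟨P, hP, hle⟩ := exists_le_isAssociatedPrime_of_isNoetherianRing R z hz0
    have hPp : P.IsPrime := hP.isPrime
    have hIP : I ≤ P := by
      apply hPp.le_of_pow_le (n := k)
      intro a ha
      apply hle
      rw [Submodule.mem_colon_singleton]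
      exact (Submodule.mem_bot R).mpr (hk a ha)
    have hdim := ringKrullDim_quotient_eq_of_cm M hM P hP
    apply le_antisymm
    · rw [← hdim]
      apply ringKrullDim_quotient_le_supportDim
      rw [← Module.mem_support_iff_of_finite (p := ⟨P, hPp⟩), Module.support_quotient]
      refine ⟨?_, ?_⟩
      · rw [Module.mem_support_iff_of_finite]
        exact annihilator_le_of_mem_associatedPrimes hP
      · rw [PrimeSpectrum.mem_zeroLocus]
        exact hIP
    · exact Module.supportDim_le_of_surjective _ (Submodule.mkQ_surjective _)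
  | succ n ih =>
    intro M _ _ _ hM I hI hn
    have hIm : I ≤ IsLocalRing.maximalIdeal R := IsLocalRing.le_maximalIdeal hI
    have h0 : Subsingleton (LocCoh.H I 0 M) := by
      have h1 : ((1 : ℕ) : ℕ∞) ≤ LocCoh.idealDepth I M := by
        rw [hn]
        exact_mod_cast Nat.succ_pos n
      exact (Depth.le_idealDepth_iff I M 1).mp h1 0 Nat.zero_lt_one
    rw [Depth.subsingleton_H_zero_iff] at h0
    obtain ⟨x, hxI, hxreg⟩ := LC.exists_isSMulRegular_of_torsionSub_eq_bot I M h0
    have hM' := cm_quotSMulTop M hM x (hIm hxI) hxreg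
    have hd' : LocCoh.idealDepth I (QuotSMulTop x M) = n := by
      have h2 := Depth.idealDepth_quotSMulTop_add_one I M x hxI hxreg
      rw [hn] at h2
      have h3 : LocCoh.idealDepth I (QuotSMulTop x M) + 1 = (n : ℕ∞) + 1 := by
        rw [h2]; push_cast; rfl
      exact (ENat.add_left_injective_of_ne_top ENat.one_ne_top) h3
    have h4 := ih (QuotSMulTop x M) hM' I hI hd'
    rw [supportDim_eq_of_support_eq (support_quot_quotSMulTop M I x hxI)] at h4
    rw [← Module.supportDim_quotSMulTop_succ_eq_supportDim hxreg (hIm hxI), h4]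
    push_cast
    rw [add_assoc]

theorem idealDepth_ne_top (M : Type u) [AddCommGroup M] [Module R M] [Module.Finite R M]
    [Nontrivial M] (I : Ideal R) (hI : I ≠ ⊤) : LocCoh.idealDepth I M ≠ ⊤ := by
  obtain ⟨d, hd, -⟩ := Depth.exists_depth_eq (R := R) M
  intro h
  have := Depth.idealDepth_mono (IsLocalRing.le_maximalIdeal hI) M
  rw [h, top_le_iff] at this
  unfold LocCoh.depth at hd
  rw [hd] at this
  exact ENat.coe_ne_top d this

theorem supportDim_eq_add_idealDepth (M : Type u) [AddCommGroup M] [Module R M]
    [Module.Finite R M] (hM : LocCoh.IsCohenMacaulayModule R M) (I : Ideal R) (hI : I ≠ ⊤) :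
    Module.supportDim R M =
      Module.supportDim R (M ⧸ (I • (⊤ : Submodule R M))) +
        ((LocCoh.idealDepth I M : ℕ∞) : WithBot ℕ∞) := by
  haveI := nontrivial_of_cm hM
  obtain ⟨n, hn⟩ := ENat.ne_top_iff_exists.mp (idealDepth_ne_top M I hI)
  rw [← hn]
  exact supportDim_eq_add_idealDepth_aux n M hM I hI hn.symm

end Grade

section Lists

variable {R : Type u} [CommRing R] [IsNoetherianRing R] [IsLocalRing R]

open RingTheory.Sequence

/-- each element of the maximal ideal lowers the dimension by at most one -/
theorem supportDim_le_add_length (xs : List R) :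
    ∀ (M : Type u) [AddCommGroup M] [Module R M] [Module.Finite R M],
      (∀ x ∈ xs, x ∈ IsLocalRing.maximalIdeal R) →
      Module.supportDim R M ≤
        Module.supportDim R (M ⧸ (Ideal.ofList xs • (⊤ : Submodule R M))) + xs.length := by
  induction xs with
  | nil =>
    intro M _ _ _ _
    have hbot : Ideal.ofList ([] : List R) • (⊤ : Submodule R M) = ⊥ := by
      rw [Ideal.ofList_nil, Submodule.bot_smul]
    rw [List.length_nil, Nat.cast_zero, add_zero,
      Module.supportDim_eq_of_equiv (Submodule.quotEquivOfEqBot _ hbot)]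
  | cons x xs ih =>
    intro M _ _ _ hxs
    have hx : x ∈ IsLocalRing.maximalIdeal R := hxs x List.mem_cons_self
    have h1 := Module.supportDim_le_supportDim_quotSMulTop_succ (M := M) hx
    have h2 := ih (QuotSMulTop x M) (fun y hy => hxs y (List.mem_cons_of_mem x hy))
    rw [Module.supportDim_eq_of_equiv
      (Submodule.quotOfListConsSMulTopEquivQuotSMulTopInner M x xs), List.length_cons]
    push_cast
    rw [← add_assoc]
    exact h1.trans (add_le_add_left h2 1)

/-- quotient of a Cohen–Macaulay module by a regular sequence -/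
theorem cm_quot_ofList (xs : List R) :
    ∀ (M : Type u) [AddCommGroup M] [Module R M] [Module.Finite R M],
      LocCoh.IsCohenMacaulayModule R M →
      (∀ x ∈ xs, x ∈ IsLocalRing.maximalIdeal R) → IsWeaklyRegular M xs →
      LocCoh.IsCohenMacaulayModule R (M ⧸ (Ideal.ofList xs • (⊤ : Submodule R M))) := by
  induction xs with
  | nil =>
    intro M _ _ _ hM _ _
    have hbot : Ideal.ofList ([] : List R) • (⊤ : Submodule R M) = ⊥ := by
      rw [Ideal.ofList_nil, Submodule.bot_smul]
    exact cm_of_linearEquiv (Submodule.quotEquivOfEqBot _ hbot).symm hM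
  | cons x xs ih =>
    intro M _ _ _ hM hxs hreg
    have hx : x ∈ IsLocalRing.maximalIdeal R := hxs x List.mem_cons_self
    rw [isWeaklyRegular_cons_iff] at hreg
    have h1 := cm_quotSMulTop M hM x hx hreg.1
    have h2 := ih (QuotSMulTop x M) h1 (fun y hy => hxs y (List.mem_cons_of_mem x hy)) hreg.2
    exact cm_of_linearEquiv
      (Submodule.quotOfListConsSMulTopEquivQuotSMulTopInner M x xs).symm h2

/-- parts of systems of parameters of Cohen–Macaulay modules are regular sequences -/
theorem isWeaklyRegular_of_supportDim (xs : List R) :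
    ∀ (M : Type u) [AddCommGroup M] [Module R M] [Module.Finite R M],
      LocCoh.IsCohenMacaulayModule R M →
      (∀ x ∈ xs, x ∈ IsLocalRing.maximalIdeal R) →
      Module.supportDim R (M ⧸ (Ideal.ofList xs • (⊤ : Submodule R M))) + xs.length =
        Module.supportDim R M → IsWeaklyRegular M xs := by
  induction xs with
  | nil =>
    intro M _ _ _ _ _ _
    exact IsWeaklyRegular.nil R M
  | cons x xs ih =>
    intro M _ _ _ hM hxs hdim
    have hx : x ∈ IsLocalRing.maximalIdeal R := hxs x List.mem_cons_self
    have hxs' : ∀ y ∈ xs, y ∈ IsLocalRing.maximalIdeal R :=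
      fun y hy => hxs y (List.mem_cons_of_mem x hy)
    have h1 := Module.supportDim_le_supportDim_quotSMulTop_succ (M := M) hx
    have h2 := supportDim_le_add_length xs (QuotSMulTop x M) hxs'
    rw [Module.supportDim_eq_of_equiv
      (Submodule.quotOfListConsSMulTopEquivQuotSMulTopInner M x xs), List.length_cons] at hdim
    push_cast at hdim
    rw [← add_assoc] at hdim
    have h3 : Module.supportDim R (QuotSMulTop x M) + 1 ≤ Module.supportDim R M := by
      rw [← hdim]
      exact add_le_add_left h2 1
    have h4 : Module.supportDim R (QuotSMulTop x M) + 1 = Module.supportDim R M :=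
      le_antisymm h3 h1
    have hreg := (isSMulRegular_iff_of_cm M hM x hx).mpr h4
    have hM' := cm_quotSMulTop M hM x hx hreg
    rw [← h4] at hdim
    have h5 := withBot_add_one_cancel hdim
    rw [isWeaklyRegular_cons_iff]
    exact ⟨hreg, ih (QuotSMulTop x M) hM' hxs' h5⟩

end Lists

section Unmixed

variable {R : Type u} [CommRing R] [IsNoetherianRing R]

/-- nonzero `I`-power torsion yields an associated prime containing `I` -/
theorem exists_ass_ge_of_torsionSub_ne_bot (I : Ideal R) (M : Type u) [AddCommGroup M]
    [Module R M] (hT : DRing.torsionSub I M ≠ ⊥) : ∃ P ∈ associatedPrimes R M, I ≤ P := by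
  obtain ⟨z, hzT, hz0⟩ := (Submodule.ne_bot_iff _).mp hT
  obtain ⟨k, hk⟩ := hzT
  obtain ⟨P, hP, hle⟩ := exists_le_isAssociatedPrime_of_isNoetherianRing R z hz0
  have hPp : P.IsPrime := hP.isPrime
  refine ⟨P, hP, ?_⟩
  apply hPp.le_of_pow_le (n := k)
  intro a ha
  apply hle
  rw [Submodule.mem_colon_singleton]
  exact (Submodule.mem_bot R).mpr (hk a ha)

/-- if no associated prime contains `I`, then `I` contains a regular element -/
theorem exists_isSMulRegular_of_forall_ass (I : Ideal R) (M : Type u) [AddCommGroup M]
    [Module R M] [Module.Finite R M] (h : ∀ P ∈ associatedPrimes R M, ¬ I ≤ P) :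
    ∃ x ∈ I, IsSMulRegular M x := by
  apply LC.exists_isSMulRegular_of_torsionSub_eq_bot I M
  by_contra hT
  obtain ⟨P, hP, hIP⟩ := exists_ass_ge_of_torsionSub_ne_bot I M hT
  exact h P hP hIP

variable [IsLocalRing R]

/-- **unmixedness criterion** for Cohen–Macaulay modules -/
theorem cm_of_unmixed (n : ℕ) :
    ∀ (M : Type u) [AddCommGroup M] [Module R M] [Module.Finite R M] [Nontrivial M],
      Module.supportDim R M = n →
      (∀ xs : List R, (∀ x ∈ xs, x ∈ IsLocalRing.maximalIdeal R) →
        Module.supportDim R (M ⧸ (Ideal.ofList xs • (⊤ : Submodule R M))) + xs.length =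
          Module.supportDim R M →
        ∀ p ∈ associatedPrimes R (M ⧸ (Ideal.ofList xs • (⊤ : Submodule R M))),
          ringKrullDim (R ⧸ p) =
            Module.supportDim R (M ⧸ (Ideal.ofList xs • (⊤ : Submodule R M)))) →
      LocCoh.IsCohenMacaulayModule R M := by
  induction n with
  | zero =>
    intro M _ _ _ _ hn _
    obtain ⟨d, hd, hle⟩ := Depth.exists_depth_eq (R := R) M
    unfold LocCoh.IsCohenMacaulayModule
    rw [hd]
    rw [hn] at hle ⊢
    have : d = 0 := by
      have h1 : ((d : ℕ) : WithBot ℕ∞) ≤ ((0 : ℕ) : WithBot ℕ∞) := hle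
      have h2 : d ≤ 0 := by exact_mod_cast h1
      omega
    rw [this]
    rfl
  | succ n ih =>
    intro M _ _ _ _ hn h
    have hbot : Ideal.ofList ([] : List R) • (⊤ : Submodule R M) = ⊥ := by
      rw [Ideal.ofList_nil, Submodule.bot_smul]
    -- associated primes of `M` have dimension `n + 1`
    have hass : ∀ p ∈ associatedPrimes R M, ringKrullDim (R ⧸ p) = ((n + 1 : ℕ) : WithBot ℕ∞) := by
      intro p hp
      have h1 := h [] (by simp) (by
        rw [List.length_nil, Nat.cast_zero, add_zero,
          Module.supportDim_eq_of_equiv (Submodule.quotEquivOfEqBot _ hbot)]) p (by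
        rw [LinearEquiv.AssociatedPrimes.eq (Submodule.quotEquivOfEqBot _ hbot)]
        exact hp)
      rw [h1, Module.supportDim_eq_of_equiv (Submodule.quotEquivOfEqBot _ hbot), hn]
    obtain ⟨x, hxm, hxreg⟩ := exists_isSMulRegular_of_forall_ass (IsLocalRing.maximalIdeal R) M (by
      intro P hP hle
      have hPp : P.IsPrime := hP.isPrime
      have hPm : P = IsLocalRing.maximalIdeal R :=
        ((IsLocalRing.maximalIdeal.isMaximal R).eq_of_le hPp.ne_top hle).symm
      have h1 := hass P hP
      rw [hPm] at h1
      letI : Field (R ⧸ IsLocalRing.maximalIdeal R) := Ideal.Quotient.field _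
      rw [ringKrullDim_eq_zero_of_field] at h1
      have h2 : ((0 : ℕ) : WithBot ℕ∞) = ((n + 1 : ℕ) : WithBot ℕ∞) := by exact_mod_cast h1
      have h3 : (0 : ℕ) = n + 1 := by exact_mod_cast h2
      omega)
    have hdim := Module.supportDim_quotSMulTop_succ_eq_supportDim hxreg hxm
    have hdim' : Module.supportDim R (QuotSMulTop x M) = n := by
      apply withBot_add_one_cancel
      rw [hdim, hn]
      push_cast
      rfl
    haveI : Nontrivial (QuotSMulTop x M) := by
      rw [← Module.supportDim_ne_bot_iff_nontrivial R, hdim']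
      exact WithBot.coe_ne_bot
    apply cm_of_quotSMulTop M x hxm hxreg
    apply ih (QuotSMulTop x M) hdim'
    intro xs hxs hxsdim p hp
    have e := Submodule.quotOfListConsSMulTopEquivQuotSMulTopInner M x xs
    have h1 := h (x :: xs) (by
        intro y hy
        rcases List.mem_cons.mp hy with rfl | hy
        · exact hxm
        · exact hxs y hy) (by
        rw [Module.supportDim_eq_of_equiv e, List.length_cons]
        push_cast
        rw [← add_assoc, hxsdim, hdim]) p (by
        rw [LinearEquiv.AssociatedPrimes.eq e]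
        exact hp)
    rw [h1, Module.supportDim_eq_of_equiv e]

end Unmixed

section Localize

variable {R : Type u} [CommRing R] [IsNoetherianRing R] [IsLocalRing R]

/-- `depth M ≤ depth M_p + dim R/p` over a Noetherian local ring -/
theorem depth_le_depth_localization_add (M : Type u) [AddCommGroup M] [Module R M]
    [Module.Finite R M] [Nontrivial M] (p : Ideal R) [hp : p.IsPrime] (r : ℕ)
    (hr : ringKrullDim (R ⧸ p) = r) :
    LocCoh.depth R M ≤
      LocCoh.depth (Localization.AtPrime p) (LocalizedModule p.primeCompl M) + r := by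
  haveI : IsNoetherianRing (Localization.AtPrime p) :=
    IsLocalization.isNoetherianRing p.primeCompl _ inferInstance
  obtain ⟨d, hd, -⟩ := Depth.exists_depth_eq (R := R) M
  rw [hd]
  induction hD : LocCoh.depth (Localization.AtPrime p) (LocalizedModule p.primeCompl M)
    using ENat.recTopCoe with
  | top => simp
  | coe D =>
    have hnon := ((Depth.idealDepth_eq_coe_iff (IsLocalRing.maximalIdeal (Localization.AtPrime p))
      (LocalizedModule p.primeCompl M) D).mp hD).2
    by_contra hcon
    push Not at hcon
    have hlt : D + r < d := by exact_mod_cast hcon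
    have h1 : Subsingleton (LocCoh.H p D M) :=
      Depth.subsingleton_H_of_add_lt M d hd p r hr.le D hlt
    obtain ⟨e2⟩ := Groth.Agent.S11618.result R p p.primeCompl M D
    haveI : Subsingleton (LocalizedModule p.primeCompl (LocCoh.H p D M)) := by
      rw [LocalizedModule.subsingleton_iff]
      intro m
      exact ⟨1, Submonoid.one_mem _, Subsingleton.elim _ _⟩
    have h4 : Subsingleton (LocCoh.H (p.map (algebraMap R (Localization.AtPrime p))) D
        (LocalizedModule p.primeCompl M)) := e2.symm.toEquiv.subsingleton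
    have h5 : p.map (algebraMap R (Localization.AtPrime p)) =
        IsLocalRing.maximalIdeal (Localization.AtPrime p) :=
      IsLocalization.AtPrime.map_eq_maximalIdeal p (Localization.AtPrime p)
    rw [h5] at h4
    exact not_subsingleton _ h4

/-- `depth M ≤ depth M_p + r` over a Noetherian local ring, when `dim R/p ≤ r` -/
theorem depth_le_depth_localization_add' (M : Type u) [AddCommGroup M] [Module R M]
    [Module.Finite R M] [Nontrivial M] (p : Ideal R) [hp : p.IsPrime] (r : ℕ)
    (hr : ringKrullDim (R ⧸ p) ≤ r) :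
    LocCoh.depth R M ≤
      LocCoh.depth (Localization.AtPrime p) (LocalizedModule p.primeCompl M) + r := by
  haveI : IsNoetherianRing (Localization.AtPrime p) :=
    IsLocalization.isNoetherianRing p.primeCompl _ inferInstance
  obtain ⟨d, hd, -⟩ := Depth.exists_depth_eq (R := R) M
  rw [hd]
  induction hD : LocCoh.depth (Localization.AtPrime p) (LocalizedModule p.primeCompl M)
    using ENat.recTopCoe with
  | top => simp
  | coe D =>
    have hnon := ((Depth.idealDepth_eq_coe_iff (IsLocalRing.maximalIdeal (Localization.AtPrime p))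
      (LocalizedModule p.primeCompl M) D).mp hD).2
    by_contra hcon
    push Not at hcon
    have hlt : D + r < d := by exact_mod_cast hcon
    have h1 : Subsingleton (LocCoh.H p D M) :=
      Depth.subsingleton_H_of_add_lt M d hd p r hr D hlt
    obtain ⟨e2⟩ := Groth.Agent.S11618.result R p p.primeCompl M D
    haveI : Subsingleton (LocalizedModule p.primeCompl (LocCoh.H p D M)) := by
      rw [LocalizedModule.subsingleton_iff]
      intro m
      exact ⟨1, Submonoid.one_mem _, Subsingleton.elim _ _⟩
    have h4 : Subsingleton (LocCoh.H (p.map (algebraMap R (Localization.AtPrime p))) D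
        (LocalizedModule p.primeCompl M)) := e2.symm.toEquiv.subsingleton
    have h5 : p.map (algebraMap R (Localization.AtPrime p)) =
        IsLocalRing.maximalIdeal (Localization.AtPrime p) :=
      IsLocalization.AtPrime.map_eq_maximalIdeal p (Localization.AtPrime p)
    rw [h5] at h4
    exact not_subsingleton _ h4

/-- localizations of Cohen–Macaulay modules: Cohen–Macaulayness and the dimension formula -/
theorem cm_localization_aux (M : Type u) [AddCommGroup M] [Module R M]
    [Module.Finite R M] (hM : LocCoh.IsCohenMacaulayModule R M) (p : PrimeSpectrum R)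
    (hp : p ∈ Module.support R M) :
    LocCoh.IsCohenMacaulayModule (Localization.AtPrime p.asIdeal)
        (LocalizedModule p.asIdeal.primeCompl M) ∧
      Module.supportDim R M =
        Module.supportDim R (M ⧸ (p.asIdeal • (⊤ : Submodule R M))) +
          Module.supportDim (Localization.AtPrime p.asIdeal)
            (LocalizedModule p.asIdeal.primeCompl M) ∧
      Module.supportDim R (M ⧸ (p.asIdeal • (⊤ : Submodule R M))) =
        ringKrullDim (R ⧸ p.asIdeal) := by
  haveI : IsNoetherianRing (Localization.AtPrime p.asIdeal) :=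
    IsLocalization.isNoetherianRing p.asIdeal.primeCompl _ inferInstance
  haveI := nontrivial_of_cm hM
  haveI : Nontrivial (LocalizedModule p.asIdeal.primeCompl M) := Module.mem_support_iff.mp hp
  haveI : Module.Finite (Localization.AtPrime p.asIdeal) (LocalizedModule p.asIdeal.primeCompl M) :=
    Module.Finite.of_isLocalizedModule p.asIdeal.primeCompl
      (LocalizedModule.mkLinearMap p.asIdeal.primeCompl M)
  obtain ⟨n, hn⟩ := LC.exists_supportDim_eq (R := R) M
  obtain ⟨A, hA⟩ := LC.exists_supportDim_eq (R := Localization.AtPrime p.asIdeal)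
    (LocalizedModule p.asIdeal.primeCompl M)
  obtain ⟨D, hD, hDle⟩ := Depth.exists_depth_eq (R := Localization.AtPrime p.asIdeal)
    (LocalizedModule p.asIdeal.primeCompl M)
  obtain ⟨r, hr⟩ := exists_ringKrullDim_quotient_eq p.asIdeal
  have hpq : p ∈ Module.support R (M ⧸ (p.asIdeal • (⊤ : Submodule R M))) := by
    rw [Module.support_quotient]
    exact ⟨hp, by rw [PrimeSpectrum.mem_zeroLocus]⟩
  haveI : Nontrivial (M ⧸ (p.asIdeal • (⊤ : Submodule R M))) := by
    rw [← Module.supportDim_ne_bot_iff_nontrivial R]
    intro h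
    rw [Module.supportDim_eq_bot_iff_subsingleton, ← Module.support_eq_empty_iff (R := R)] at h
    rw [h] at hpq
    exact hpq
  obtain ⟨B, hB⟩ := LC.exists_supportDim_eq (R := R) (M ⧸ (p.asIdeal • (⊤ : Submodule R M)))
  have hrB : r ≤ B := by
    have := ringKrullDim_quotient_le_supportDim (M ⧸ (p.asIdeal • (⊤ : Submodule R M))) p.asIdeal
      (Module.mem_support_iff_of_finite.mp hpq)
    rw [hr, hB] at this
    exact_mod_cast this
  have hDA : D ≤ A := by
    rw [hA] at hDle
    exact_mod_cast hDle
  have hABn : A + B ≤ n := by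
    have := Groth.Agent.S5765.result R M p.asIdeal
    rw [hA, hB, hn] at this
    exact_mod_cast this
  have hd : LocCoh.depth R M = n := by
    unfold LocCoh.IsCohenMacaulayModule at hM
    rw [hn] at hM
    have : ((n : ℕ∞) : WithBot ℕ∞) = ((LocCoh.depth R M : ℕ∞) : WithBot ℕ∞) := by exact_mod_cast hM
    exact (WithBot.coe_injective this).symm
  have hnDr : n ≤ D + r := by
    have := depth_le_depth_localization_add M p.asIdeal r hr
    rw [hd, hD] at this
    exact_mod_cast this
  have h1 : D = A := by omega
  have h2 : r = B := by omega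
  have h3 : n = B + A := by omega
  refine ⟨?_, ?_, ?_⟩
  · unfold LocCoh.IsCohenMacaulayModule
    rw [hA, hD, h1]
    rfl
  · rw [hn, hB, hA, h3]
    push_cast
    rfl
  · rw [hB, hr, h2]

end Localize

section Minimal

variable {R : Type u} [CommRing R]

/-- a prime in the support with `dim R/p = dim N < ∞` is minimal in the support -/
theorem eq_of_le_of_ringKrullDim_quotient_eq (N : Type u) [AddCommGroup N] [Module R N]
    [Module.Finite R N] (d : ℕ) (hd : Module.supportDim R N = d) (p q : Ideal R) [hp : p.IsPrime]
    [hq : q.IsPrime] (hqN : Module.annihilator R N ≤ q) (hqp : q ≤ p)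
    (hdim : ringKrullDim (R ⧸ p) = (d : WithBot ℕ∞)) : q = p := by
  by_contra hcon
  have hlt : q < p := lt_of_le_of_ne hqp hcon
  have h1 := Dim.ringKrullDim_quotient_add_one_le hlt
  have h2 := ringKrullDim_quotient_le_supportDim N q hqN
  rw [hdim] at h1
  rw [hd] at h2
  have h3 : ((d : WithBot ℕ∞) + 1) ≤ (d : WithBot ℕ∞) := h1.trans h2
  have h4 : ((d + 1 : ℕ) : WithBot ℕ∞) ≤ (d : WithBot ℕ∞) := by exact_mod_cast h3
  have h5 : d + 1 ≤ d := by exact_mod_cast h4
  omega

theorem mem_associatedPrimes_of_ringKrullDim_quotient_eq [IsNoetherianRing R] (N : Type u)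
    [AddCommGroup N] [Module R N]
    [Module.Finite R N] (d : ℕ) (hd : Module.supportDim R N = d) (p : Ideal R) [hp : p.IsPrime]
    (hpN : Module.annihilator R N ≤ p)
    (hdim : ringKrullDim (R ⧸ p) = (d : WithBot ℕ∞)) : p ∈ associatedPrimes R N := by
  apply Module.associatedPrimes.minimalPrimes_annihilator_subset_associatedPrimes
  refine ⟨⟨hp, hpN⟩, fun q ⟨hq, hqN⟩ hqp => ?_⟩
  haveI := hq
  exact (eq_of_le_of_ringKrullDim_quotient_eq N d hd p q hqN hqp hdim).ge

end Minimal

section Grade2

variable {R : Type u} [CommRing R] [IsNoetherianRing R] [IsLocalRing R]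

open RingTheory.Sequence

/-- EGA IV 16.5.? : regular sequences in a prime of the support of a Cohen–Macaulay module -/
theorem cm_prime_regular_sequence (M : Type u) [AddCommGroup M] [Module R M]
    [Module.Finite R M] (hM : LocCoh.IsCohenMacaulayModule R M) (p : PrimeSpectrum R)
    (hp : p ∈ Module.support R M) (r : ℕ)
    (hr : Module.supportDim R (M ⧸ (p.asIdeal • (⊤ : Submodule R M))) + r =
      Module.supportDim R M) :
    (∃ xs : List R, xs.length = r ∧ (∀ x ∈ xs, x ∈ p.asIdeal) ∧ IsWeaklyRegular M xs) ∧
      ∀ xs : List R, xs.length = r → (∀ x ∈ xs, x ∈ p.asIdeal) → IsWeaklyRegular M xs →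
        Module.supportDim R (M ⧸ (Ideal.ofList xs • (⊤ : Submodule R M))) =
            Module.supportDim R (M ⧸ (p.asIdeal • (⊤ : Submodule R M))) ∧
          Module.supportDim R (M ⧸ (p.asIdeal • (⊤ : Submodule R M))) =
            ringKrullDim (R ⧸ p.asIdeal) ∧
          p.asIdeal ∈ associatedPrimes R (M ⧸ (Ideal.ofList xs • (⊤ : Submodule R M))) ∧
          ∀ q ∈ associatedPrimes R (M ⧸ (Ideal.ofList xs • (⊤ : Submodule R M))),
            q ≤ p.asIdeal → q = p.asIdeal := by
  haveI := nontrivial_of_cm hM
  have hpm : p.asIdeal ≤ IsLocalRing.maximalIdeal R := IsLocalRing.le_maximalIdeal p.2.ne_top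
  obtain ⟨-, -, hquot⟩ := cm_localization_aux M hM p hp
  obtain ⟨b, hb⟩ := exists_ringKrullDim_quotient_eq p.asIdeal
  rw [hquot, hb] at hr
  constructor
  · -- the `p`-depth of `M` is `r`
    have hgrade := supportDim_eq_add_idealDepth M hM p.asIdeal p.2.ne_top
    obtain ⟨g, hg⟩ := ENat.ne_top_iff_exists.mp (idealDepth_ne_top M p.asIdeal p.2.ne_top)
    rw [← hg, hquot, hb, ← hr] at hgrade
    have hgr : r = g := by
      have h1 : ((b + r : ℕ) : WithBot ℕ∞) = ((b + g : ℕ) : WithBot ℕ∞) := by exact_mod_cast hgrade
      have h2 : b + r = b + g := by exact_mod_cast h1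
      omega
    have hvan := (Depth.le_idealDepth_iff p.asIdeal M r).mp (by rw [← hg, hgr])
    have hlt : p.asIdeal • (⊤ : Submodule R (ModuleCat.of R M)) < ⊤ := by
      rw [lt_top_iff_ne_top]
      intro h
      have hbot := Submodule.eq_bot_of_le_smul_of_le_jacobson_bot p.asIdeal (⊤ : Submodule R M)
        Module.Finite.fg_top h.ge
        (hpm.trans (IsLocalRing.jacobson_eq_maximalIdeal ⊥ bot_ne_top).ge)
      exact top_ne_bot hbot
    haveI : Module.Finite R (ModuleCat.of R M) := ‹Module.Finite R M›
    obtain ⟨rs, hl, hm, hreg⟩ := LC.exists_isRegular_of_subsingleton p.asIdeal r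
      (ModuleCat.of R M) hlt hvan
    exact ⟨rs, hl, hm, hreg.1⟩
  · intro xs hlen hxs hreg
    have hxsm : ∀ x ∈ xs, x ∈ IsLocalRing.maximalIdeal R := fun x hx => hpm (hxs x hx)
    have hN := cm_quot_ofList xs M hM hxsm hreg
    have hdimN := Module.supportDim_add_length_eq_supportDim_of_isRegular xs
      ((IsLocalRing.isRegular_iff_isWeaklyRegular_of_subset_maximalIdeal hxsm).mpr hreg)
    rw [hlen, ← hr] at hdimN
    haveI := nontrivial_of_cm hN
    obtain ⟨c, hc⟩ := LC.exists_supportDim_eq (R := R)
      (M ⧸ (Ideal.ofList xs • (⊤ : Submodule R M)))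
    have hcb : c = b := by
      rw [hc] at hdimN
      have h1 : ((c + r : ℕ) : WithBot ℕ∞) = ((b + r : ℕ) : WithBot ℕ∞) := by exact_mod_cast hdimN
      have h2 : c + r = b + r := by exact_mod_cast h1
      omega
    have hpN : Module.annihilator R (M ⧸ (Ideal.ofList xs • (⊤ : Submodule R M))) ≤ p.asIdeal := by
      rw [← Module.mem_support_iff_of_finite, Module.support_quotient]
      refine ⟨hp, ?_⟩
      rw [PrimeSpectrum.mem_zeroLocus, SetLike.coe_subset_coe]
      exact Ideal.span_le.mpr (fun x hx => hxs x hx)
    refine ⟨?_, hquot, ?_, ?_⟩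
    · rw [hc, hquot, hb, hcb]
    · haveI := p.2
      exact mem_associatedPrimes_of_ringKrullDim_quotient_eq _ c hc p.asIdeal hpN (by rw [hb, hcb])
    · intro q hq hqp
      haveI := p.2
      haveI : q.IsPrime := hq.isPrime
      exact eq_of_le_of_ringKrullDim_quotient_eq _ c hc p.asIdeal q
        (annihilator_le_of_mem_associatedPrimes hq) hqp (by rw [hb, hcb])

end Grade2

end CM

end Groth.Agent.H6
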