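import Mathlib
import Groth.Prelude.Def_Wider
import Groth.Agent.Lib.Helper6.CMKit

/-! The `I`-depth as the infimum of the depths of the localizations. -/

universe u
set_option linter.style.haveILetI false
open CategoryTheory CategoryTheory.Limits Opposite CategoryTheory.Abelian
open scoped Pointwise

namespace Groth.Agent.H6

namespace Depth

variable {R : Type u} [CommRing R] [IsNoetherianRing R]

/-- the local cohomological form of `k ≤ depth M_p` -/
def LocDepthGE (N : Type u) [AddCommGroup N] [Module R N] (p : Ideal R) [p.IsPrime] (k : ℕ) : Prop :=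
  ∀ i < k, Subsingleton (LocalizedModule p.primeCompl (LocCoh.H p i N))

theorem locDepthGE_iff (N : Type u) [AddCommGroup N] [Module R N] [Module.Finite R N]
    (p : Ideal R) [hp : p.IsPrime] (k : ℕ) :
    LocDepthGE N p k ↔
      (k : ℕ∞) ≤ LocCoh.depth (Localization.AtPrime p) (LocalizedModule p.primeCompl N) := by
  haveI : IsNoetherianRing (Localization.AtPrime p) :=
    IsLocalization.isNoetherianRing p.primeCompl _ inferInstance
  haveI : Module.Finite (Localization.AtPrime p) (LocalizedModule p.primeCompl N) :=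
    Module.Finite.of_isLocalizedModule p.primeCompl
      (LocalizedModule.mkLinearMap p.primeCompl N)
  unfold LocCoh.depth
  rw [Depth.le_idealDepth_iff]
  have h5 : p.map (algebraMap R (Localization.AtPrime p)) =
      IsLocalRing.maximalIdeal (Localization.AtPrime p) :=
    IsLocalization.AtPrime.map_eq_maximalIdeal p (Localization.AtPrime p)
  have key : ∀ i : ℕ, Subsingleton (LocalizedModule p.primeCompl (LocCoh.H p i N)) ↔
      Subsingleton (LocCoh.H (IsLocalRing.maximalIdeal (Localization.AtPrime p)) i
        (LocalizedModule p.primeCompl N)) := by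
    intro i
    obtain ⟨e⟩ := Groth.Agent.S11618.result R p p.primeCompl N i
    rw [h5] at e
    exact ⟨fun h => e.symm.toEquiv.subsingleton, fun h => e.toEquiv.subsingleton⟩
  exact ⟨fun h i hi => (key i).mp (h i hi), fun h i hi => (key i).mpr (h i hi)⟩

omit [IsNoetherianRing R] in
theorem loc_vanish_of_shortExact {S : ShortComplex (ModuleCat.{u} R)} (hS : S.ShortExact)
    (I : Ideal R) (T : Submonoid R) (i : ℕ)
    (h0 : ∀ m : (localCohomology I i).obj S.X₂, ∃ r ∈ T, r • m = 0)
    (h1 : ∀ m : (localCohomology I (i + 1)).obj S.X₁, ∃ r ∈ T, r • m = 0) :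
    ∀ z : (localCohomology I i).obj S.X₃, ∃ r ∈ T, r • z = 0 := by
  intro z
  obtain ⟨s, hs, hsz⟩ := h1 (LC.δ hS I i z)
  rw [← map_smul] at hsz
  obtain ⟨y, hy⟩ := LC.exact₃ hS (s • z) hsz
  obtain ⟨t, ht, hty⟩ := h0 y
  refine ⟨t * s, Submonoid.mul_mem _ ht hs, ?_⟩
  rw [mul_smul, ← hy, ← map_smul, hty, map_zero]

/-- passing to the quotient by a regular element lowers the local depth by at most one -/
theorem locDepthGE_quotSMulTop (N : Type u) [AddCommGroup N] [Module R N]
    (p : Ideal R) [hp : p.IsPrime] (k : ℕ) (x : R) (hreg : IsSMulRegular N x)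
    (h : LocDepthGE N p (k + 1)) : LocDepthGE (QuotSMulTop x N) p k := by
  have hreg' : IsSMulRegular (ModuleCat.of R N) x := hreg
  have hS := hreg'.smulShortComplex_shortExact
  intro i hi
  rw [LocalizedModule.subsingleton_iff]
  have h1 := h (i + 1) (by omega)
  have h0 := h i (by omega)
  rw [LocalizedModule.subsingleton_iff] at h1 h0
  exact loc_vanish_of_shortExact hS p p.primeCompl i h0 h1

/-- local depth at least one excludes associated primes -/
theorem not_mem_associatedPrimes_of_locDepthGE (N : Type u) [AddCommGroup N] [Module R N]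
    (p : Ideal R) [hp : p.IsPrime] (h : LocDepthGE N p 1) : p ∉ associatedPrimes R N := by
  intro hass
  obtain ⟨-, f, hf⟩ := (isAssociatedPrime_iff_exists_injective_linearMap p N).mp hass
  set z : N := f 1 with hz
  have hzT : z ∈ DRing.torsionSub p (ModuleCat.of R N) := by
    refine ⟨1, fun a ha => ?_⟩
    rw [pow_one] at ha
    rw [hz, ← map_smul]
    have : a • (1 : R ⧸ p) = 0 := by
      rw [Algebra.smul_def, mul_one]
      exact Ideal.Quotient.eq_zero_iff_mem.mpr ha
    rw [this, map_zero]
  obtain ⟨ζ, hζ⟩ := LC.exists_of_mem_torsionSub (I := p) (ModuleCat.of R N) z hzT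
  have h0 := h 0 Nat.zero_lt_one
  rw [LocalizedModule.subsingleton_iff] at h0
  obtain ⟨s, hs, hsζ⟩ := h0 ζ
  have h1 : s • z = 0 := by
    rw [← hζ, ← map_smul]
    have : s • ζ = 0 := hsζ
    rw [this, map_zero]
  rw [hz, ← map_smul] at h1
  have h2 : s • (1 : R ⧸ p) = 0 := hf (h1.trans (map_zero f).symm)
  rw [Algebra.smul_def, mul_one] at h2
  exact hs (Ideal.Quotient.eq_zero_iff_mem.mp h2)

/-- the key induction: local depths at least `k` at all primes containing `I` force the vanishing
of `H^i_I` below `k` -/
theorem subsingleton_H_of_locDepthGE (I : Ideal R) (k : ℕ) :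
    ∀ (N : Type u) [AddCommGroup N] [Module R N] [Module.Finite R N],
      (∀ (p : Ideal R) [p.IsPrime], I ≤ p → LocDepthGE N p k) →
      ∀ i < k, Subsingleton (LocCoh.H I i N) := by
  induction k with
  | zero => intro N _ _ _ _ i hi; omega
  | succ k ih =>
    intro N _ _ _ h
    obtain ⟨x, hxI, hxreg⟩ := CM.exists_isSMulRegular_of_forall_ass I N (by
      intro P hP hIP
      haveI : P.IsPrime := hP.isPrime
      exact not_mem_associatedPrimes_of_locDepthGE N P
        (fun i hi => h P hIP i (by omega)) hP)
    have h1 := ih (QuotSMulTop x N) (fun p _ hIp =>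
      locDepthGE_quotSMulTop N p k x hxreg (h p hIp))
    exact (quotSMulTop_vanish_iff I N x hxI hxreg k).mp h1

/-- localization does not lower the depth -/
theorem locDepthGE_of_subsingleton_H (I : Ideal R) (N : Type u) [AddCommGroup N] [Module R N]
    [Module.Finite R N] (p : Ideal R) [hp : p.IsPrime] (hIp : I ≤ p) (k : ℕ)
    (h : ∀ i < k, Subsingleton (LocCoh.H I i N)) : LocDepthGE N p k := by
  rw [locDepthGE_iff]
  haveI : IsNoetherianRing (Localization.AtPrime p) :=
    IsLocalization.isNoetherianRing p.primeCompl _ inferInstance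
  haveI : Module.Finite (Localization.AtPrime p) (LocalizedModule p.primeCompl N) :=
    Module.Finite.of_isLocalizedModule p.primeCompl
      (LocalizedModule.mkLinearMap p.primeCompl N)
  unfold LocCoh.depth
  rw [Depth.le_idealDepth_iff]
  have hle : I.map (algebraMap R (Localization.AtPrime p)) ≤
      IsLocalRing.maximalIdeal (Localization.AtPrime p) := by
    rw [← IsLocalization.AtPrime.map_eq_maximalIdeal p (Localization.AtPrime p)]
    exact Ideal.map_mono hIp
  apply subsingleton_H_of_le hle
  intro i hi
  obtain ⟨e⟩ := Groth.Agent.S11618.result R I p.primeCompl N i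
  haveI : Subsingleton (LocalizedModule p.primeCompl (LocCoh.H I i N)) := by
    rw [LocalizedModule.subsingleton_iff]
    intro m
    haveI := h i hi
    exact ⟨1, Submonoid.one_mem _, Subsingleton.elim _ _⟩
  exact e.symm.toEquiv.subsingleton

/-- **`depth_I M = inf_{p ⊇ I} depth M_p`** -/
theorem idealDepth_eq_iInf (I : Ideal R) (M : Type u) [AddCommGroup M] [Module R M]
    [Module.Finite R M] :
    LocCoh.idealDepth I M = ⨅ (p : PrimeSpectrum R) (_ : I ≤ p.asIdeal),
      LocCoh.depth (Localization.AtPrime p.asIdeal) (LocalizedModule p.asIdeal.primeCompl M) := by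
  apply ENat.eq_of_forall_natCast_le_iff
  intro k
  rw [le_iInf₂_iff, Depth.le_idealDepth_iff]
  constructor
  · intro h p hp
    haveI := p.2
    rw [← locDepthGE_iff]
    exact locDepthGE_of_subsingleton_H I M p.asIdeal hp k h
  · intro h
    apply subsingleton_H_of_locDepthGE I k M
    intro p hp hIp
    rw [locDepthGE_iff]
    exact h ⟨p, hp⟩ hIp

end Depth

end Groth.Agent.H6
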