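import Mathlib
import Groth.Prelude.Def_Wider
import Groth.Agent.Lib.Helper6.DepthKit

/-! Depth of kernels. -/

universe u
set_option linter.style.haveILetI false
open CategoryTheory CategoryTheory.Limits Opposite CategoryTheory.Abelian

namespace Groth.Agent.H6

namespace Depth

variable {R : Type u} [CommRing R] [IsNoetherianRing R]

theorem one_le_idealDepth_iff (I : Ideal R) (M : Type u) [AddCommGroup M] [Module R M]
    [Module.Finite R M] : 1 ≤ LocCoh.idealDepth I M ↔ Subsingleton (LocCoh.H I 0 M) := by
  have := le_idealDepth_iff I M 1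
  rw [Nat.cast_one] at this
  rw [this]
  exact ⟨fun h => h 0 Nat.zero_lt_one, fun h i hi => by
    have : i = 0 := by omega
    subst this
    exact h⟩

theorem two_le_idealDepth_iff (I : Ideal R) (M : Type u) [AddCommGroup M] [Module R M]
    [Module.Finite R M] : 2 ≤ LocCoh.idealDepth I M ↔
      Subsingleton (LocCoh.H I 0 M) ∧ Subsingleton (LocCoh.H I 1 M) := by
  have := le_idealDepth_iff I M 2
  rw [Nat.cast_ofNat] at this
  rw [this]
  refine ⟨fun h => ⟨h 0 (by omega), h 1 (by omega)⟩, fun h i hi => ?_⟩
  rcases Nat.lt_succ_iff_lt_or_eq.mp hi with h1 | rfl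
  · have : i = 0 := by omega
    subst this
    exact h.1
  · exact h.2

/-- depth of a kernel, first case -/
theorem one_le_idealDepth_ker (I : Ideal R) {E0 E1 : Type u} [AddCommGroup E0] [Module R E0]
    [Module.Finite R E0] [AddCommGroup E1] [Module R E1] (u : E0 →ₗ[R] E1)
    (h : 1 ≤ LocCoh.idealDepth I E0) : 1 ≤ LocCoh.idealDepth I (LinearMap.ker u) := by
  rw [one_le_idealDepth_iff] at h ⊢
  exact subsingleton_left_zero (LinearMap.ker u).subtype I (Submodule.injective_subtype _) h

/-- depth of a kernel, second case -/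
theorem two_le_idealDepth_ker (I : Ideal R) {E0 E1 : Type u} [AddCommGroup E0] [Module R E0]
    [Module.Finite R E0] [AddCommGroup E1] [Module R E1] [Module.Finite R E1] (u : E0 →ₗ[R] E1)
    (h0 : 2 ≤ LocCoh.idealDepth I E0) (h1 : 1 ≤ LocCoh.idealDepth I E1) :
    2 ≤ LocCoh.idealDepth I (LinearMap.ker u) := by
  rw [two_le_idealDepth_iff] at h0 ⊢
  rw [one_le_idealDepth_iff] at h1
  refine ⟨subsingleton_left_zero (LinearMap.ker u).subtype I (Submodule.injective_subtype _) h0.1, ?_⟩
  have hr : Subsingleton (LocCoh.H I 0 (LinearMap.range u)) :=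
    subsingleton_left_zero (LinearMap.range u).subtype I (Submodule.injective_subtype _) h1
  exact subsingleton_left_succ (LinearMap.ker u).subtype u.rangeRestrict I 0
    (Submodule.injective_subtype _) u.surjective_rangeRestrict
    (by
      intro x
      constructor
      · intro hx
        have h2 := congrArg Subtype.val hx
        have h3 : u x = 0 := by simpa using h2
        exact ⟨⟨x, h3⟩, rfl⟩
      · rintro ⟨⟨y, hy⟩, rfl⟩
        apply Subtype.ext
        simpa using hy) h0.2 hr

end Depth

end Groth.Agent.H6
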