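import Mathlib
import Groth.Prelude.Def_Wider
import Groth.Agent.Lib.Helper6.DepthInf
import Groth.Agent.Lib.Helper6.DepthKer

/-! Serre's conditions `(S_k)`: toolkit. -/

universe u
set_option linter.style.haveILetI false
open CategoryTheory CategoryTheory.Limits Opposite CategoryTheory.Abelian
open scoped Pointwise

namespace Groth.Agent.H6

namespace Sk

/-- unfolding a minimum with a natural number in `WithBot ℕ∞` -/
theorem min_le_coe_iff (k : ℕ) (δ : WithBot ℕ∞) (D : ℕ∞) :
    min (k : WithBot ℕ∞) δ ≤ ((D : ℕ∞) : WithBot ℕ∞) ↔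
      ∀ j : ℕ, j ≤ k → (j : WithBot ℕ∞) ≤ δ → (j : ℕ∞) ≤ D := by
  constructor
  · intro h j hjk hjδ
    have h1 : (j : WithBot ℕ∞) ≤ min (k : WithBot ℕ∞) δ := le_min (by exact_mod_cast hjk) hjδ
    have h2 := h1.trans h
    exact_mod_cast h2
  · intro h
    induction δ using WithBot.recBotCoe with
    | bot => simp
    | coe d =>
      induction d using ENat.recTopCoe with
      | top =>
        have h1 := h k le_rfl (by
          have : ((k : ℕ∞) : WithBot ℕ∞) ≤ ((⊤ : ℕ∞) : WithBot ℕ∞) := WithBot.coe_le_coe.mpr le_top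
          exact_mod_cast this)
        rw [min_eq_left (by
          have : ((k : ℕ∞) : WithBot ℕ∞) ≤ ((⊤ : ℕ∞) : WithBot ℕ∞) := WithBot.coe_le_coe.mpr le_top
          exact_mod_cast this)]
        exact_mod_cast h1
      | coe n =>
        have h1 := h (min k n) (min_le_left k n) (by
          have : ((min k n : ℕ) : ℕ∞) ≤ (n : ℕ∞) := by exact_mod_cast min_le_right k n
          exact_mod_cast WithBot.coe_le_coe.mpr this)
        have h2 : min (k : WithBot ℕ∞) (((n : ℕ) : ℕ∞) : WithBot ℕ∞) = ((min k n : ℕ) : WithBot ℕ∞) := by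
          rcases le_total k n with hkn | hkn
          · rw [min_eq_left hkn, min_eq_left (by exact_mod_cast hkn)]
          · rw [min_eq_right hkn, min_eq_right (by exact_mod_cast hkn)]
            rfl
        rw [h2]
        exact_mod_cast h1

variable {R : Type u} [CommRing R] [IsNoetherianRing R]

/-- Serre's condition in terms of localized local cohomology -/
theorem hasSk_iff (k : ℕ) (M : Type u) [AddCommGroup M] [Module R M] [Module.Finite R M] :
    LocCoh.HasSk k R M ↔ ∀ (p : Ideal R) [p.IsPrime] (j : ℕ), j ≤ k →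
      (j : WithBot ℕ∞) ≤ Module.supportDim (Localization.AtPrime p)
        (LocalizedModule p.primeCompl M) → Depth.LocDepthGE M p j := by
  unfold LocCoh.HasSk
  constructor
  · intro h p hp j hjk hj
    rw [Depth.locDepthGE_iff]
    exact (min_le_coe_iff k _ _).mp (h p) j hjk hj
  · intro h p hp
    rw [min_le_coe_iff]
    intro j hjk hj
    rw [← Depth.locDepthGE_iff]
    exact h p j hjk hj

omit [IsNoetherianRing R] in
/-- support of a localized module -/
theorem mem_support_localizedModule_iff (M : Type u) [AddCommGroup M] [Module R M] (p : Ideal R)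
    [hp : p.IsPrime] (Q : PrimeSpectrum (Localization.AtPrime p)) :
    Q ∈ Module.support (Localization.AtPrime p) (LocalizedModule p.primeCompl M) ↔
      PrimeSpectrum.comap (algebraMap R (Localization.AtPrime p)) Q ∈ Module.support R M := by
  constructor
  · intro hQ
    rw [Module.mem_support_iff'] at hQ ⊢
    obtain ⟨n, hn⟩ := hQ
    induction n using LocalizedModule.induction_on with
    | h m s =>
      refine ⟨m, ?_⟩
      intro r hr hrm
      apply hn (algebraMap R _ r) hr
      rw [algebraMap_smul, LocalizedModule.smul'_mk, hrm, LocalizedModule.zero_mk]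
  · intro hq
    rw [Module.mem_support_iff'] at hq ⊢
    obtain ⟨m, hm⟩ := hq
    refine ⟨LocalizedModule.mk m 1, ?_⟩
    intro ρ hρ hzero
    obtain ⟨⟨r, s⟩, hrs⟩ := IsLocalization.surj p.primeCompl ρ
    simp only at hrs
    -- `r • (m/1) = 0`
    have h1 : (algebraMap R (Localization.AtPrime p) r) • (LocalizedModule.mk m 1 :
        LocalizedModule p.primeCompl M) = 0 := by
      rw [← hrs, mul_comm, mul_smul, hzero, smul_zero]
    rw [algebraMap_smul, LocalizedModule.smul'_mk, ← LocalizedModule.zero_mk 1,
      LocalizedModule.mk_eq] at h1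
    obtain ⟨t, ht⟩ := h1
    simp only [one_smul, smul_zero] at ht
    -- `t • r • m = 0` with `t ∉ p`
    have h2 : (t.1 * r) • m = 0 := by rw [mul_smul]; exact ht
    have h3 : t.1 * r ∈ (PrimeSpectrum.comap (algebraMap R (Localization.AtPrime p)) Q).asIdeal := by
      by_contra hcon
      exact hm _ hcon h2
    have hQp : (PrimeSpectrum.comap (algebraMap R (Localization.AtPrime p)) Q).asIdeal ≤ p := by
      have h1 : Q.asIdeal ≤ IsLocalRing.maximalIdeal (Localization.AtPrime p) :=
        IsLocalRing.le_maximalIdeal Q.2.ne_top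
      have h2 := Ideal.comap_mono (f := algebraMap R (Localization.AtPrime p)) h1
      have h3 : Ideal.comap (algebraMap R (Localization.AtPrime p))
          (IsLocalRing.maximalIdeal (Localization.AtPrime p)) = p :=
        IsLocalization.AtPrime.under_maximalIdeal (Localization.AtPrime p) p
      rw [h3] at h2
      exact h2
    have h4 : r ∈ (PrimeSpectrum.comap (algebraMap R (Localization.AtPrime p)) Q).asIdeal := by
      rcases (PrimeSpectrum.comap (algebraMap R (Localization.AtPrime p)) Q).2.mem_or_mem h3 with h | h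
      · exact absurd (hQp h) t.2
      · exact h
    -- hence `ρ ∈ Q`
    apply hρ
    have h5 : algebraMap R (Localization.AtPrime p) r ∈ Q.asIdeal := h4
    rw [← hrs] at h5
    rcases Q.2.mem_or_mem h5 with h | h
    · exact h
    · exfalso
      have hu : IsUnit (algebraMap R (Localization.AtPrime p) s.1) :=
        IsLocalization.map_units (Localization.AtPrime p) s
      exact Q.2.ne_top (Ideal.eq_top_of_isUnit_mem _ h hu)

omit [IsNoetherianRing R] in
theorem supportDim_localized_le_of_support_subset {M N : Type u} [AddCommGroup M] [Module R M]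
    [AddCommGroup N] [Module R N] (h : Module.support R M ⊆ Module.support R N) (p : Ideal R)
    [hp : p.IsPrime] :
    Module.supportDim (Localization.AtPrime p) (LocalizedModule p.primeCompl M) ≤
      Module.supportDim (Localization.AtPrime p) (LocalizedModule p.primeCompl N) := by
  apply CM.supportDim_le_of_support_subset
  intro Q hQ
  rw [mem_support_localizedModule_iff] at hQ ⊢
  exact h hQ

omit [IsNoetherianRing R] in
theorem supportDim_localized_le_of_injective {M N : Type u} [AddCommGroup M] [Module R M]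
    [AddCommGroup N] [Module R N] (f : M →ₗ[R] N) (hf : Function.Injective f) (p : Ideal R)
    [hp : p.IsPrime] :
    Module.supportDim (Localization.AtPrime p) (LocalizedModule p.primeCompl M) ≤
      Module.supportDim (Localization.AtPrime p) (LocalizedModule p.primeCompl N) :=
  supportDim_localized_le_of_support_subset (Module.support_subset_of_injective f hf) p

end Sk

end Groth.Agent.H6

namespace Groth.Agent.H6

namespace Depth

variable {R : Type u} [CommRing R]

theorem loc_vanish_left_zero {N₁ N₂ : Type u} [AddCommGroup N₁] [Module R N₁] [AddCommGroup N₂]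
    [Module R N₂] (f : N₁ →ₗ[R] N₂) (hf : Function.Injective f) (I : Ideal R) (T : Submonoid R)
    (h2 : ∀ m : LocCoh.H I 0 N₂, ∃ r ∈ T, r • m = 0) :
    ∀ z : LocCoh.H I 0 N₁, ∃ r ∈ T, r • z = 0 := by
  intro z
  obtain ⟨r, hr, hrz⟩ := h2 (((localCohomology I 0).map (ModuleCat.ofHom f)).hom z)
  refine ⟨r, hr, ?_⟩
  apply LC.zeroToSelf_injective (ModuleCat.of R N₁)
  rw [map_zero]
  apply hf
  have := LC.zeroToSelf_naturality (I := I) (ModuleCat.ofHom f) (r • z)
  rw [map_smul, hrz, map_zero] at this
  rw [map_zero]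
  exact this.symm

theorem loc_vanish_left_succ {S : ShortComplex (ModuleCat.{u} R)} (hS : S.ShortExact)
    (I : Ideal R) (T : Submonoid R) (i : ℕ)
    (h2 : ∀ m : (localCohomology I (i + 1)).obj S.X₂, ∃ r ∈ T, r • m = 0)
    (h3 : ∀ m : (localCohomology I i).obj S.X₃, ∃ r ∈ T, r • m = 0) :
    ∀ z : (localCohomology I (i + 1)).obj S.X₁, ∃ r ∈ T, r • z = 0 := by
  intro z
  obtain ⟨s, hs, hsz⟩ := h2 (((localCohomology I (i + 1)).map S.f).hom z)
  rw [← map_smul] at hsz
  obtain ⟨w, hw⟩ := LC.exact₁ hS (s • z) hsz
  obtain ⟨t, ht, htw⟩ := h3 w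
  refine ⟨t * s, Submonoid.mul_mem _ ht hs, ?_⟩
  rw [mul_smul, ← hw, ← map_smul, htw, map_zero]

variable [IsNoetherianRing R]

theorem locDepthGE_one_of_injective {N₁ N₂ : Type u} [AddCommGroup N₁] [Module R N₁]
    [AddCommGroup N₂] [Module R N₂] (f : N₁ →ₗ[R] N₂) (hf : Function.Injective f) (p : Ideal R)
    [hp : p.IsPrime] (h : LocDepthGE N₂ p 1) : LocDepthGE N₁ p 1 := by
  intro i hi
  have hi0 : i = 0 := by omega
  subst hi0
  have h0 := h 0 Nat.zero_lt_one
  rw [LocalizedModule.subsingleton_iff] at h0 ⊢
  exact loc_vanish_left_zero f hf p p.primeCompl h0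

theorem locDepthGE_two_ker {E0 E1 : Type u} [AddCommGroup E0] [Module R E0]
    [AddCommGroup E1] [Module R E1] (u : E0 →ₗ[R] E1) (p : Ideal R)
    [hp : p.IsPrime] (h0 : LocDepthGE E0 p 2) (h1 : LocDepthGE E1 p 1) :
    LocDepthGE (LinearMap.ker u) p 2 := by
  have hr : ∀ m : LocCoh.H p 0 (LinearMap.range u), ∃ r ∈ p.primeCompl, r • m = 0 := by
    have := h1 0 Nat.zero_lt_one
    rw [LocalizedModule.subsingleton_iff] at this
    exact loc_vanish_left_zero (LinearMap.range u).subtype (Submodule.injective_subtype _) p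
      p.primeCompl this
  obtain ⟨w, hS⟩ := shortExact_mk (LinearMap.ker u).subtype u.rangeRestrict
    (Submodule.injective_subtype _) u.surjective_rangeRestrict (by
      intro x
      constructor
      · intro hx
        have h2 := congrArg Subtype.val hx
        have h3 : u x = 0 := by simpa using h2
        exact ⟨⟨x, h3⟩, rfl⟩
      · rintro ⟨⟨y, hy⟩, rfl⟩
        apply Subtype.ext
        simpa using hy)
  intro i hi
  rcases Nat.lt_succ_iff_lt_or_eq.mp hi with hi' | rfl
  · have hi0 : i = 0 := by omega
    subst hi0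
    have h00 := h0 0 (by omega)
    rw [LocalizedModule.subsingleton_iff] at h00 ⊢
    exact loc_vanish_left_zero (LinearMap.ker u).subtype (Submodule.injective_subtype _) p
      p.primeCompl h00
  · have h01 := h0 1 (by omega)
    rw [LocalizedModule.subsingleton_iff] at h01 ⊢
    exact loc_vanish_left_succ hS p p.primeCompl 0 h01 hr

theorem locDepthGE_mono {N : Type u} [AddCommGroup N] [Module R N] (p : Ideal R)
    [hp : p.IsPrime] {j k : ℕ} (hjk : j ≤ k) (h : LocDepthGE N p k) : LocDepthGE N p j :=
  fun i hi => h i (by omega)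

end Depth

end Groth.Agent.H6
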