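import Mathlib
import Groth.Prelude.Def_Wider
import Groth.Agent.Lib.Helper6.SkKit

/-! Reflexive modules as kernels of maps of finite free modules; depth of finite free modules. -/

universe u
set_option linter.style.haveILetI false
open CategoryTheory CategoryTheory.Limits Opposite CategoryTheory.Abelian
open scoped Pointwise

namespace Groth.Agent.H6

namespace Depth

variable {R : Type u} [CommRing R]

/-- localized vanishing transfers along linear equivalences -/
theorem loc_vanish_of_linearEquiv {X Y : Type u} [AddCommGroup X] [Module R X] [AddCommGroup Y]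
    [Module R Y] (e : X ≃ₗ[R] Y) (I : Ideal R) (i : ℕ) (T : Submonoid R)
    (h : ∀ x : LocCoh.H I i X, ∃ r ∈ T, r • x = 0) : ∀ y : LocCoh.H I i Y, ∃ r ∈ T, r • y = 0 := by
  intro y
  have hid : 𝟙 (ModuleCat.of R Y) =
      ModuleCat.ofHom e.symm.toLinearMap ≫ ModuleCat.ofHom e.toLinearMap := by
    apply ModuleCat.hom_ext
    apply LinearMap.ext
    intro v
    simp
  have hy : y = ((localCohomology I i).map (𝟙 (ModuleCat.of R Y))).hom y := by
    rw [CategoryTheory.Functor.map_id]
    rfl
  obtain ⟨r, hr, hrx⟩ := h (((localCohomology I i).map (ModuleCat.ofHom e.symm.toLinearMap)).hom y)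
  refine ⟨r, hr, ?_⟩
  rw [hy, hid, LC.map_comp_hom, ← map_smul, hrx, map_zero]

/-- localized vanishing passes to finite direct sums -/
theorem loc_vanish_finsupp {X : Type u} [AddCommGroup X] [Module R X] (I : Ideal R) (i : ℕ)
    (T : Submonoid R) (h : ∀ x : LocCoh.H I i X, ∃ r ∈ T, r • x = 0) (k : ℕ) :
    ∀ x : LocCoh.H I i (Fin k →₀ X), ∃ r ∈ T, r • x = 0 := by
  intro x
  have hid : 𝟙 (ModuleCat.of R (Fin k →₀ X)) =
      ∑ j : Fin k, (ModuleCat.ofHom (Finsupp.lapply (R := R) (M := X) j) ≫
        ModuleCat.ofHom (Finsupp.lsingle (R := R) (M := X) j)) := by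
    apply ModuleCat.hom_ext
    apply LinearMap.ext
    intro v
    rw [ModuleCat.hom_sum]
    simp only [ModuleCat.hom_id, LinearMap.id_coe, id_eq, ModuleCat.hom_comp, ModuleCat.hom_ofHom]
    rw [LinearMap.sum_apply]
    simp only [LinearMap.coe_comp, Function.comp_apply, Finsupp.lapply_apply,
      Finsupp.lsingle_apply]
    exact (Finsupp.univ_sum_single v).symm
  have hx : x = ((localCohomology I i).map (𝟙 (ModuleCat.of R (Fin k →₀ X)))).hom x := by
    rw [CategoryTheory.Functor.map_id]
    rfl
  choose s hsT hs using fun j : Fin k =>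
    h (((localCohomology I i).map (ModuleCat.ofHom (Finsupp.lapply (R := R) (M := X) j))).hom x)
  refine ⟨∏ j, s j, Submonoid.prod_mem _ (fun j _ => hsT j), ?_⟩
  rw [hx, hid, LC.map_sum_hom, Finset.smul_sum]
  refine Finset.sum_eq_zero fun j _ => ?_
  rw [LC.map_comp_hom, ← map_smul, ← Finset.mul_prod_erase Finset.univ s (Finset.mem_univ j),
    mul_comm, mul_smul, hs j, smul_zero, map_zero]

/-- localized vanishing for finite free modules -/
theorem loc_vanish_free (E : Type u) [AddCommGroup E] [Module R E] [Module.Free R E]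
    [Module.Finite R E] (I : Ideal R) (i : ℕ)
    (T : Submonoid R) (h : ∀ x : LocCoh.H I i R, ∃ r ∈ T, r • x = 0) :
    ∀ x : LocCoh.H I i E, ∃ r ∈ T, r • x = 0 := by
  let b := Module.Free.chooseBasis R E
  let e : E ≃ₗ[R] (Fin (Fintype.card (Module.Free.ChooseBasisIndex R E)) →₀ R) :=
    b.repr ≪≫ₗ Finsupp.domLCongr (Fintype.equivFin _)
  exact loc_vanish_of_linearEquiv e.symm I i T (loc_vanish_finsupp I i T h _)

/-- vanishing for finite free modules -/
theorem subsingleton_H_free (E : Type u) [AddCommGroup E] [Module R E] [Module.Free R E]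
    [Module.Finite R E] (I : Ideal R) (i : ℕ) (h : Subsingleton (LocCoh.H I i R)) :
    Subsingleton (LocCoh.H I i E) := by
  have h1 := loc_vanish_free E I i ⊥ (fun x => ⟨1, Submonoid.one_mem _, by
    rw [one_smul]; exact Subsingleton.elim _ _⟩)
  refine ⟨fun a b => ?_⟩
  have h0 : ∀ z : LocCoh.H I i E, z = 0 := by
    intro z
    obtain ⟨r, hr, hrz⟩ := h1 z
    rw [Submonoid.mem_bot] at hr
    rw [hr, one_smul] at hrz
    exact hrz
  rw [h0 a, h0 b]

variable [IsNoetherianRing R]

theorem idealDepth_free_ge (E : Type u) [AddCommGroup E] [Module R E] [Module.Free R E]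
    [Module.Finite R E] (I : Ideal R) (k : ℕ) (h : (k : ℕ∞) ≤ LocCoh.idealDepth I R) :
    (k : ℕ∞) ≤ LocCoh.idealDepth I E := by
  rw [le_idealDepth_iff] at h ⊢
  exact fun i hi => subsingleton_H_free E I i (h i hi)

theorem locDepthGE_free (E : Type u) [AddCommGroup E] [Module R E] [Module.Free R E]
    [Module.Finite R E] (p : Ideal R) [p.IsPrime] (k : ℕ) (h : LocDepthGE R p k) :
    LocDepthGE E p k := by
  intro i hi
  have h1 := h i hi
  rw [LocalizedModule.subsingleton_iff] at h1 ⊢
  exact loc_vanish_free E p i p.primeCompl h1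

end Depth

end Groth.Agent.H6

namespace Groth.Agent.H6

namespace Refl

variable {A : Type u} [CommRing A] [IsNoetherianRing A]

/-- a finite reflexive module is the kernel of a map of finite free modules -/
theorem exists_ker_equiv (G : Type u) [AddCommGroup G] [Module A G] [Module.Finite A G]
    [Module.IsReflexive A G] :
    ∃ (n m : ℕ) (u : Module.Dual A (Fin n → A) →ₗ[A] Module.Dual A (Fin (m + 1) → A)),
      Nonempty (G ≃ₗ[A] LinearMap.ker u) := by
  haveI : IsNoetherian A (Module.Dual A G) := isNoetherian_linearMap A A G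
  haveI : Module.Finite A (Module.Dual A G) := Module.IsNoetherian.finite A _
  obtain ⟨n, π, hπ⟩ := Module.Finite.exists_fin' A (Module.Dual A G)
  haveI : IsNoetherian A (Fin n → A) := isNoetherian_of_isNoetherianRing_of_finite A _
  haveI : Module.Finite A (LinearMap.ker π) := Module.Finite.of_fg (IsNoetherian.noetherian _)
  obtain ⟨m, σ, hσ⟩ := Module.Finite.exists_fin' A (LinearMap.ker π)
  let proj : (Fin (m + 1) → A) →ₗ[A] (Fin m → A) := LinearMap.funLeft A A Fin.castSucc
  have hproj : Function.Surjective proj :=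
    LinearMap.funLeft_surjective_of_injective A A _ (Fin.castSucc_injective m)
  let ψ : (Fin (m + 1) → A) →ₗ[A] (Fin n → A) := (LinearMap.ker π).subtype ∘ₗ σ ∘ₗ proj
  have hex : Function.Exact ψ π := by
    intro x
    constructor
    · intro hx
      obtain ⟨y, hy⟩ := hσ ⟨x, hx⟩
      obtain ⟨z, hz⟩ := hproj y
      exact ⟨z, by simp [ψ, hz, hy]⟩
    · rintro ⟨z, rfl⟩
      exact (σ (proj z)).2
  refine ⟨n, m, LinearMap.lcomp A A ψ, ⟨?_⟩⟩
  have hinj : Function.Injective (LinearMap.lcomp A A π) :=
    LinearMap.lcomp_injective_of_surjective π hπ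
  have hex' := LinearMap.exact_lcomp_of_exact_of_surjective A hex hπ
  exact (Module.evalEquiv A G).trans ((LinearEquiv.ofInjective _ hinj).trans
    (LinearEquiv.ofEq _ _ (LinearMap.exact_iff.mp hex').symm))

end Refl

end Groth.Agent.H6

namespace Groth.Agent.H6

namespace Sk

variable {R : Type u} [CommRing R] [IsNoetherianRing R]

theorem hasSk_of_linearEquiv (k : ℕ) {M N : Type u} [AddCommGroup M] [Module R M]
    [Module.Finite R M] [AddCommGroup N] [Module R N] [Module.Finite R N] (e : M ≃ₗ[R] N)
    (h : LocCoh.HasSk k R M) : LocCoh.HasSk k R N := by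
  rw [hasSk_iff] at h ⊢
  intro p _ j hjk hj
  have h1 := h p j hjk (hj.trans
    (supportDim_localized_le_of_support_subset e.support_eq.ge p))
  intro i hi
  have h2 := h1 i hi
  rw [LocalizedModule.subsingleton_iff] at h2 ⊢
  exact Depth.loc_vanish_of_linearEquiv e p i p.primeCompl h2

omit [IsNoetherianRing R] in
theorem support_self_eq_univ : Module.support R R = Set.univ := by
  rw [Module.support_eq_zeroLocus]
  have : Module.annihilator R R = ⊥ := by
    rw [eq_bot_iff]
    intro a ha
    have := Module.mem_annihilator.mp ha (1 : R)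
    simpa using this
  rw [this]
  simp

theorem hasSk_free (k : ℕ) (E : Type u) [AddCommGroup E] [Module R E] [Module.Free R E]
    [Module.Finite R E] (h : LocCoh.HasSk k R R) : LocCoh.HasSk k R E := by
  rw [hasSk_iff] at h ⊢
  intro p _ j hjk hj
  exact Depth.locDepthGE_free E p j (h p j hjk (hj.trans
    (supportDim_localized_le_of_support_subset (by rw [support_self_eq_univ]; exact Set.subset_univ _) p)))

omit [IsNoetherianRing R] in
theorem support_dual_pi_eq_univ (m : ℕ) :
    Module.support R (Module.Dual R (Fin (m + 1) → R)) = Set.univ := by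
  rw [Module.support_eq_zeroLocus]
  have : Module.annihilator R (Module.Dual R (Fin (m + 1) → R)) = ⊥ := by
    rw [eq_bot_iff]
    intro a ha
    have h1 := Module.mem_annihilator.mp ha (LinearMap.proj (0 : Fin (m + 1)))
    have h2 := LinearMap.congr_fun h1 (fun _ => (1 : R))
    simpa using h2
  rw [this]
  simp

/-- Serre conditions for kernels -/
theorem hasSk_ker {E0 E1 : Type u} [AddCommGroup E0] [Module R E0] [Module.Finite R E0]
    [AddCommGroup E1] [Module R E1] [Module.Finite R E1] (u : E0 →ₗ[R] E1)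
    [Module.Finite R (LinearMap.ker u)] :
    (LocCoh.HasSk 1 R E0 → LocCoh.HasSk 1 R (LinearMap.ker u)) ∧
    (Module.support R (LinearMap.ker u) ⊆ Module.support R E1 → LocCoh.HasSk 1 R E1 →
      LocCoh.HasSk 2 R E0 → LocCoh.HasSk 2 R (LinearMap.ker u)) := by
  have hdim0 : ∀ (p : Ideal R) [p.IsPrime],
      Module.supportDim (Localization.AtPrime p) (LocalizedModule p.primeCompl (LinearMap.ker u)) ≤
        Module.supportDim (Localization.AtPrime p) (LocalizedModule p.primeCompl E0) :=
    fun p _ => supportDim_localized_le_of_injective (LinearMap.ker u).subtype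
      (Submodule.injective_subtype _) p
  have h12 : ((1 : ℕ) : WithBot ℕ∞) ≤ ((2 : ℕ) : WithBot ℕ∞) := by exact_mod_cast one_le_two
  constructor
  · intro h0
    rw [hasSk_iff] at h0 ⊢
    intro p _ j hj1 hj
    rcases Nat.le_one_iff_eq_zero_or_eq_one.mp hj1 with rfl | rfl
    · intro i hi
      omega
    · exact Depth.locDepthGE_one_of_injective (LinearMap.ker u).subtype
        (Submodule.injective_subtype _) p (h0 p 1 le_rfl (hj.trans (hdim0 p)))
  · intro hsupp h1 h0
    rw [hasSk_iff] at h0 h1 ⊢
    intro p _ j hj2 hj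
    have hdim1 := supportDim_localized_le_of_support_subset hsupp p
    interval_cases j
    · intro i hi
      omega
    · exact Depth.locDepthGE_one_of_injective (LinearMap.ker u).subtype
        (Submodule.injective_subtype _) p (h0 p 1 one_le_two (hj.trans (hdim0 p)))
    · exact Depth.locDepthGE_two_ker u p (h0 p 2 le_rfl (hj.trans (hdim0 p)))
        (h1 p 1 le_rfl ((h12.trans hj).trans hdim1))

end Sk

namespace Refl

variable {A : Type u} [CommRing A] [IsNoetherianRing A]

/-- depth and Serre conditions for reflexive modules -/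
theorem reflexive_depth_sk (I : Ideal A) (G : Type u) [AddCommGroup G] [Module A G]
    [Module.Finite A G] [Module.IsReflexive A G] :
    (1 ≤ LocCoh.idealDepth I A → 1 ≤ LocCoh.idealDepth I G) ∧
    (2 ≤ LocCoh.idealDepth I A → 2 ≤ LocCoh.idealDepth I G) ∧
    (LocCoh.HasSk 1 A A → LocCoh.HasSk 1 A G) ∧ (LocCoh.HasSk 2 A A → LocCoh.HasSk 2 A G) := by
  obtain ⟨n, m, u, ⟨e⟩⟩ := exists_ker_equiv (A := A) G
  haveI : IsNoetherian A (Module.Dual A (Fin n → A)) :=
    isNoetherian_of_isNoetherianRing_of_finite A _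
  haveI : Module.Finite A (LinearMap.ker u) := Module.Finite.of_fg (IsNoetherian.noetherian _)
  have hd := CM.idealDepth_eq_of_linearEquiv I (M := G) (N := LinearMap.ker u) e
  have h12 : (1 : ℕ∞) ≤ 2 := one_le_two
  refine ⟨fun h => ?_, fun h => ?_, fun h => ?_, fun h => ?_⟩
  · rw [hd]
    apply Depth.one_le_idealDepth_ker
    have := Depth.idealDepth_free_ge (Module.Dual A (Fin n → A)) I 1 (by exact_mod_cast h)
    exact_mod_cast this
  · rw [hd]
    apply Depth.two_le_idealDepth_ker
    · have := Depth.idealDepth_free_ge (Module.Dual A (Fin n → A)) I 2 (by exact_mod_cast h)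
      exact_mod_cast this
    · have := Depth.idealDepth_free_ge (Module.Dual A (Fin (m + 1) → A)) I 1
        (by exact_mod_cast h12.trans h)
      exact_mod_cast this
  · exact Sk.hasSk_of_linearEquiv 1 e.symm
      ((Sk.hasSk_ker u).1 (Sk.hasSk_free 1 _ h))
  · have h1 : LocCoh.HasSk 1 A A := by
      rw [Sk.hasSk_iff] at h ⊢
      intro p _ j hj hdim
      exact h p j (hj.trans one_le_two) hdim
    exact Sk.hasSk_of_linearEquiv 2 e.symm
      ((Sk.hasSk_ker u).2 (by rw [Sk.support_dual_pi_eq_univ]; exact Set.subset_univ _)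
        (Sk.hasSk_free 1 _ h1) (Sk.hasSk_free 2 _ h))

end Refl

end Groth.Agent.H6
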