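import Mathlib
import Groth.Prelude.Def_Wider
import Groth.Agent.Lib.Helper6.ReflKer

/-! `Hom(M, N)` as a kernel of a map between finite powers of `N`; depth and Serre conditions. -/

universe u v w
set_option linter.style.haveILetI false
open CategoryTheory CategoryTheory.Limits Opposite CategoryTheory.Abelian
open scoped Pointwise

namespace Groth.Agent.H6

namespace HomKer

section Congr

variable {R : Type u} [CommRing R]

/-- the `I`-depth only depends on the isomorphism class (universe polymorphic version) -/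
theorem idealDepth_congr (I : Ideal R) {M : Type v} {N : Type w} [AddCommGroup M] [Module R M]
    [AddCommGroup N] [Module R N] (e : M ≃ₗ[R] N) :
    LocCoh.idealDepth I M = LocCoh.idealDepth I N := by
  have htop : I • (⊤ : Submodule R M) = ⊤ ↔ I • (⊤ : Submodule R N) = ⊤ := by
    have h1 : Submodule.map e.toLinearMap (I • (⊤ : Submodule R M)) = I • (⊤ : Submodule R N) := by
      rw [Submodule.map_smul'', Submodule.map_top, LinearMap.range_eq_top.mpr e.surjective]
    constructor
    · intro h
      rw [← h1, h, Submodule.map_top, LinearMap.range_eq_top.mpr e.surjective]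
    · intro h
      rw [← h1] at h
      have h2 : Submodule.map e.toLinearMap (I • (⊤ : Submodule R M)) =
          Submodule.map e.toLinearMap ⊤ := by
        rw [h, Submodule.map_top, LinearMap.range_eq_top.mpr e.surjective]
      exact Submodule.map_injective_of_injective e.injective h2
  unfold LocCoh.idealDepth
  by_cases h : I • (⊤ : Submodule R M) = ⊤
  · rw [if_pos h, if_pos (htop.mp h)]
  · rw [if_neg h, if_neg (fun h' => h (htop.mpr h'))]
    apply le_antisymm
    · apply iSup₂_le
      intro rs hrs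
      exact le_iSup₂_of_le rs ⟨(e.isWeaklyRegular_congr rs).mp hrs.1, hrs.2⟩ le_rfl
    · apply iSup₂_le
      intro rs hrs
      exact le_iSup₂_of_le rs ⟨(e.isWeaklyRegular_congr rs).mpr hrs.1, hrs.2⟩ le_rfl

end Congr

section Ker

variable {A : Type u} [CommRing A] [IsNoetherianRing A]

/-- `Hom(M, N)` is the kernel of a map `Hom(A^n, N) → Hom(A^(m+1), N)` -/
theorem exists_hom_ker_equiv (M : Type v) [AddCommGroup M] [Module A M] [Module.Finite A M]
    (N : Type w) [AddCommGroup N] [Module A N] :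
    ∃ (n m : ℕ) (u : ((Fin n → A) →ₗ[A] N) →ₗ[A] ((Fin (m + 1) → A) →ₗ[A] N)),
      Nonempty ((M →ₗ[A] N) ≃ₗ[A] LinearMap.ker u) := by
  obtain ⟨n, π, hπ⟩ := Module.Finite.exists_fin' A M
  haveI : IsNoetherian A (Fin n → A) := isNoetherian_of_isNoetherianRing_of_finite A _
  haveI : Module.Finite A (LinearMap.ker π) := Module.Finite.of_fg (IsNoetherian.noetherian _)
  obtain ⟨m, σ, hσ⟩ := Module.Finite.exists_fin' A (LinearMap.ker π)
  let proj : (Fin (m + 1) → A) →ₗ[A] (Fin m → A) := LinearMap.funLeft A A Fin.castSucc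
  have hproj : Function.Surjective proj :=
    LinearMap.funLeft_surjective_of_injective A A _ (Fin.castSucc_injective m)
  let ψ : (Fin (m + 1) → A) →ₗ[A] (Fin n → A) := (LinearMap.ker π).subtype ∘ₗ σ ∘ₗ proj
  have hex : Function.Exact ψ π := by
    intro x
    constructor
    · intro hx
      obtain ⟨y, hy⟩ := hσ ⟨x, hx⟩
      obtain ⟨z, hz⟩ := hproj y
      exact ⟨z, by simp [ψ, hz, hy]⟩
    · rintro ⟨z, rfl⟩
      exact (σ (proj z)).2
  refine ⟨n, m, LinearMap.lcomp A N ψ, ⟨?_⟩⟩
  have hinj : Function.Injective (LinearMap.lcomp A N π) :=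
    LinearMap.lcomp_injective_of_surjective π hπ
  have hex' := LinearMap.exact_lcomp_of_exact_of_surjective N hex hπ
  exact (LinearEquiv.ofInjective _ hinj).trans
    (LinearEquiv.ofEq _ _ (LinearMap.exact_iff.mp hex').symm)

end Ker

section Pow

variable {R : Type u} [CommRing R]

/-- `Hom(R^n, N) ≃ N^n` as a finitely supported function module -/
noncomputable def homPiEquiv (n : ℕ) (N : Type u) [AddCommGroup N] [Module R N] :
    (Fin n →₀ N) ≃ₗ[R] ((Fin n → R) →ₗ[R] N) :=
  (Finsupp.linearEquivFunOnFinite R N (Fin n)).trans (Module.piEquiv (Fin n) R N)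

instance finite_homPi (n : ℕ) (N : Type u) [AddCommGroup N] [Module R N] [Module.Finite R N] :
    Module.Finite R ((Fin n → R) →ₗ[R] N) :=
  Module.Finite.equiv (homPiEquiv n N)

theorem loc_vanish_homPi {N : Type u} [AddCommGroup N] [Module R N] (I : Ideal R) (i : ℕ)
    (T : Submonoid R) (h : ∀ x : LocCoh.H I i N, ∃ r ∈ T, r • x = 0) (n : ℕ) :
    ∀ x : LocCoh.H I i ((Fin n → R) →ₗ[R] N), ∃ r ∈ T, r • x = 0 :=
  Depth.loc_vanish_of_linearEquiv (homPiEquiv n N) I i T (Depth.loc_vanish_finsupp I i T h n)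

theorem subsingleton_H_homPi {N : Type u} [AddCommGroup N] [Module R N] (I : Ideal R) (i : ℕ)
    (h : Subsingleton (LocCoh.H I i N)) (n : ℕ) :
    Subsingleton (LocCoh.H I i ((Fin n → R) →ₗ[R] N)) := by
  have h1 := loc_vanish_homPi (N := N) I i ⊥ (fun x => ⟨1, Submonoid.one_mem _, by
    rw [one_smul]; exact Subsingleton.elim _ _⟩) n
  refine ⟨fun a b => ?_⟩
  have h0 : ∀ z : LocCoh.H I i ((Fin n → R) →ₗ[R] N), z = 0 := by
    intro z
    obtain ⟨r, hr, hrz⟩ := h1 z
    rw [Submonoid.mem_bot] at hr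
    rw [hr, one_smul] at hrz
    exact hrz
  rw [h0 a, h0 b]

theorem support_homPi_subset (n : ℕ) (N : Type u) [AddCommGroup N] [Module R N]
    [Module.Finite R N] :
    Module.support R ((Fin n → R) →ₗ[R] N) ⊆ Module.support R N := by
  rw [Module.support_eq_zeroLocus, Module.support_eq_zeroLocus]
  apply PrimeSpectrum.zeroLocus_anti_mono
  intro a ha
  rw [SetLike.mem_coe, Module.mem_annihilator] at ha ⊢
  intro f
  apply LinearMap.ext
  intro x
  rw [LinearMap.smul_apply, ha, LinearMap.zero_apply]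

theorem support_subset_homPi (m : ℕ) (N : Type u) [AddCommGroup N] [Module R N]
    [Module.Finite R N] :
    Module.support R N ⊆ Module.support R ((Fin (m + 1) → R) →ₗ[R] N) := by
  rw [Module.support_eq_zeroLocus, Module.support_eq_zeroLocus]
  apply PrimeSpectrum.zeroLocus_anti_mono
  intro a ha
  rw [SetLike.mem_coe, Module.mem_annihilator] at ha ⊢
  intro x
  have h1 := ha ((LinearMap.proj (0 : Fin (m + 1))).smulRight x)
  have h2 := LinearMap.congr_fun h1 (fun _ => (1 : R))
  simpa using h2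

variable [IsNoetherianRing R]

theorem idealDepth_homPi_ge {N : Type u} [AddCommGroup N] [Module R N] [Module.Finite R N]
    (I : Ideal R) (k : ℕ) (h : (k : ℕ∞) ≤ LocCoh.idealDepth I N) (n : ℕ) :
    (k : ℕ∞) ≤ LocCoh.idealDepth I ((Fin n → R) →ₗ[R] N) := by
  rw [Depth.le_idealDepth_iff] at h ⊢
  exact fun i hi => subsingleton_H_homPi I i (h i hi) n

omit [IsNoetherianRing R] in
theorem locDepthGE_homPi {N : Type u} [AddCommGroup N] [Module R N]
    (p : Ideal R) [p.IsPrime] (k : ℕ) (h : Depth.LocDepthGE N p k) (n : ℕ) :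
    Depth.LocDepthGE ((Fin n → R) →ₗ[R] N) p k := by
  intro i hi
  have h1 := h i hi
  rw [LocalizedModule.subsingleton_iff] at h1 ⊢
  exact loc_vanish_homPi p i p.primeCompl h1 n

theorem hasSk_homPi (k : ℕ) {N : Type u} [AddCommGroup N] [Module R N] [Module.Finite R N]
    (h : LocCoh.HasSk k R N) (n : ℕ) : LocCoh.HasSk k R ((Fin n → R) →ₗ[R] N) := by
  rw [Sk.hasSk_iff] at h ⊢
  intro p _ j hjk hj
  exact locDepthGE_homPi p j (h p j hjk (hj.trans
    (Sk.supportDim_localized_le_of_support_subset (support_homPi_subset n N) p))) n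

end Pow

section Hom

variable {R : Type u} [CommRing R] [IsNoetherianRing R]

/-- depth of `Hom(M, N)` along an ideal -/
theorem idealDepth_hom (I : Ideal R) (M : Type v) [AddCommGroup M] [Module R M]
    [Module.Finite R M] (N : Type u) [AddCommGroup N] [Module R N] [Module.Finite R N] :
    (1 ≤ LocCoh.idealDepth I N → 1 ≤ LocCoh.idealDepth I (M →ₗ[R] N)) ∧
    (2 ≤ LocCoh.idealDepth I N → 2 ≤ LocCoh.idealDepth I (M →ₗ[R] N)) := by
  obtain ⟨n, m, u, ⟨e⟩⟩ := exists_hom_ker_equiv (A := R) M N
  have hd := idealDepth_congr I e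
  have h12 : (1 : ℕ∞) ≤ 2 := one_le_two
  refine ⟨fun h => ?_, fun h => ?_⟩
  · rw [hd]
    apply Depth.one_le_idealDepth_ker
    have := idealDepth_homPi_ge I 1 (by exact_mod_cast h) n
    exact_mod_cast this
  · rw [hd]
    apply Depth.two_le_idealDepth_ker
    · have := idealDepth_homPi_ge I 2 (by exact_mod_cast h) n
      exact_mod_cast this
    · have := idealDepth_homPi_ge I 1 (by exact_mod_cast h12.trans h) (m + 1)
      exact_mod_cast this

/-- Serre conditions of `Hom(M, N)` -/
theorem hasSk_hom (M N : Type u) [AddCommGroup M] [Module R M]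
    [Module.Finite R M] [AddCommGroup N] [Module R N] [Module.Finite R N] :
    (LocCoh.HasSk 1 R N → LocCoh.HasSk 1 R (M →ₗ[R] N)) ∧
    (LocCoh.HasSk 2 R N → LocCoh.HasSk 2 R (M →ₗ[R] N)) := by
  obtain ⟨n, m, u, ⟨e⟩⟩ := exists_hom_ker_equiv (A := R) M N
  haveI : IsNoetherian R ((Fin n → R) →ₗ[R] N) :=
    isNoetherian_of_isNoetherianRing_of_finite R _
  haveI : Module.Finite R (LinearMap.ker u) := Module.Finite.of_fg (IsNoetherian.noetherian _)
  haveI : Module.Finite R (M →ₗ[R] N) := Module.Finite.equiv e.symm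
  refine ⟨fun h => ?_, fun h => ?_⟩
  · exact Sk.hasSk_of_linearEquiv 1 e.symm ((Sk.hasSk_ker u).1 (hasSk_homPi 1 h n))
  · have h1 : LocCoh.HasSk 1 R N := by
      rw [Sk.hasSk_iff] at h ⊢
      intro p _ j hj hdim
      exact h p j (hj.trans one_le_two) hdim
    refine Sk.hasSk_of_linearEquiv 2 e.symm
      ((Sk.hasSk_ker u).2 ?_ (hasSk_homPi 1 h1 (m + 1)) (hasSk_homPi 2 h n))
    intro q hq
    apply support_subset_homPi m N
    apply support_homPi_subset n N
    exact Module.support_subset_of_injective (LinearMap.ker u).subtype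
      (Submodule.injective_subtype _) hq

end Hom

end HomKer

end Groth.Agent.H6
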