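import Groth.Agent.Lib.Helper6.SymU
import Groth.Agent.Lib.Helper6.QCLoc
import Groth.Agent.Lib.Lead.QC.SubSup

/-!
# Ring maps out of the sections of a symmetric algebra, and `V(E ⊕ F) = V(E) ×_S V(F)` (helper6)
-/

set_option autoImplicit false
set_option linter.style.haveILetI false
universe u

open CategoryTheory CategoryTheory.Limits AlgebraicGeometry TopologicalSpace Opposite

noncomputable section

namespace Groth.Agent.H6.Sym

open Groth.Agent.LD.QC Groth.Agent.H6.PA SymmetricAlgebra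

variable {S : Scheme.{u}} {E : S.Modules} [E.IsQuasicoherent] {A : RelSpec.QCAlg S}
  {j : E ⟶ A.toModule}

/-- ring maps out of the sections of a symmetric algebra over an affine open are determined by their
values on functions and on sections of the module. -/
theorem ringHom_ext_sec (hA : RelSpec.IsSymAlg E A j) (U : S.Opens) (hU : IsAffineOpen U)
    {C : Type*} [Semiring C] {g h : A.presheaf.obj (op U) →+* C}
    (h1 : ∀ r, g ((A.str.app (op U)).hom r) = h ((A.str.app (op U)).hom r))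
    (h2 : ∀ m, g (QA.sec j U m) = h (QA.sec j U m)) : g = h := by
  have key : g.comp (liftSec E A j U) = h.comp (liftSec E A j U) := by
    apply ringHom_ext
    · intro r
      change g (liftSec E A j U (algebraMap _ _ r)) = h (liftSec E A j U (algebraMap _ _ r))
      rw [liftSec_algebraMap, h1]
    · intro m
      change g (liftSec E A j U (ι _ _ m)) = h (liftSec E A j U (ι _ _ m))
      rw [liftSec_ι, h2]
  refine RingHom.ext fun x => ?_
  obtain ⟨y, rfl⟩ := (liftSec_bijective hA U hU).2 x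
  exact congr($key y)

/-- construction of ring maps out of the sections of a symmetric algebra over an affine open. -/
theorem exists_ringHom_sec (hA : RelSpec.IsSymAlg E A j) (U : S.Opens) (hU : IsAffineOpen U)
    {C : Type*} [CommRing C] (s : Γ(S, U) →+* C) (ℓ : Γ(E, U) →+ C)
    (hℓ : ∀ r m, ℓ (r • m) = s r * ℓ m) :
    ∃ g : A.presheaf.obj (op U) →+* C,
      (∀ r, g ((A.str.app (op U)).hom r) = s r) ∧ ∀ m, g (QA.sec j U m) = ℓ m := by
  letI := s.toAlgebra
  let ℓ' : Γ(E, U) →ₗ[Γ(S, U)] C :=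
    { toFun := ℓ
      map_add' := map_add ℓ
      map_smul' := fun r m => by
        rw [hℓ, Algebra.smul_def]
        rfl }
  let ρ : symObj E U →+* C := (SymmetricAlgebra.lift ℓ').toRingHom
  let e : symObj E U ≃+* A.presheaf.obj (op U) :=
    RingEquiv.ofBijective (liftSec E A j U) (liftSec_bijective hA U hU)
  refine ⟨ρ.comp e.symm.toRingHom, fun r => ?_, fun m => ?_⟩
  · have h1 : e.symm ((A.str.app (op U)).hom r) = algebraMap _ _ r := by
      rw [RingEquiv.symm_apply_eq]
      exact (liftSec_algebraMap E A j U r).symm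
    change ρ (e.symm ((A.str.app (op U)).hom r)) = s r
    rw [h1]
    exact (SymmetricAlgebra.lift ℓ').commutes r
  · have h1 : e.symm (QA.sec j U m) = ι _ _ m := by
      rw [RingEquiv.symm_apply_eq]
      exact (liftSec_ι E A j U m).symm
    change ρ (e.symm (QA.sec j U m)) = ℓ m
    rw [h1]
    exact SymmetricAlgebra.lift_ι_apply ℓ' m


section sum

variable {S : Scheme.{u}} {E F : S.Modules} [E.IsQuasicoherent] [F.IsQuasicoherent]
  {AE AF A : RelSpec.QCAlg S} {jE : E ⟶ AE.toModule} {jF : F ⟶ AF.toModule}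
  {j : E ⊞ F ⟶ A.toModule}

lemma sec_comp_toModuleMap {M : S.Modules} {A B : RelSpec.QCAlg S} (k : M ⟶ A.toModule) (ψ : A ⟶ B)
    (U : S.Opens) (m : Γ(M, U)) :
    QA.sec (k ≫ RelSpec.QCAlg.Hom.toModuleMap ψ) U m = (ψ.hom.app (op U)).hom (QA.sec k U m) := rfl

lemma sec_comp_left {M N : S.Modules} {A : RelSpec.QCAlg S} (v : M ⟶ N) (k : N ⟶ A.toModule)
    (U : S.Opens) (m : Γ(M, U)) :
    QA.sec (v ≫ k) U m = QA.sec k U (v.app U m) := rfl

lemma str_comp_app {A B : RelSpec.QCAlg S} (ψ : A ⟶ B) (U : S.Opens) (r : Γ(S, U)) :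
    (ψ.hom.app (op U)).hom ((A.str.app (op U)).hom r) = (B.str.app (op U)).hom r :=
  congr($(NatTrans.congr_app ψ.comm (op U)) r)

/-- over an affine open, the sections of `Sym (E ⊕ F)` are the pushout of those of `Sym E` and
`Sym F`. -/
theorem isPushout_app (hAE : RelSpec.IsSymAlg E AE jE) (hAF : RelSpec.IsSymAlg F AF jF)
    (hA : RelSpec.IsSymAlg (E ⊞ F) A j) (ψE : AE ⟶ A) (ψF : AF ⟶ A)
    (hψE : jE ≫ RelSpec.QCAlg.Hom.toModuleMap ψE = biprod.inl ≫ j)
    (hψF : jF ≫ RelSpec.QCAlg.Hom.toModuleMap ψF = biprod.inr ≫ j)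
    (U : S.Opens) (hU : IsAffineOpen U) :
    IsPushout (AF.str.app (op U)) (AE.str.app (op U)) (ψF.hom.app (op U)) (ψE.hom.app (op U)) := by
  haveI : (E ⊞ F).IsQuasicoherent := Groth.Agent.LD.SC.qc_biprod E F inferInstance inferInstance
  have hsecE : ∀ m : Γ(E, U), (ψE.hom.app (op U)).hom (QA.sec jE U m) =
      QA.sec j U ((biprod.inl : E ⟶ E ⊞ F).app U m) := fun m => by
    rw [← sec_comp_toModuleMap, hψE, sec_comp_left]
  have hsecF : ∀ m : Γ(F, U), (ψF.hom.app (op U)).hom (QA.sec jF U m) =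
      QA.sec j U ((biprod.inr : F ⟶ E ⊞ F).app U m) := fun m => by
    rw [← sec_comp_toModuleMap, hψF, sec_comp_left]
  have hw : AF.str.app (op U) ≫ ψF.hom.app (op U) = AE.str.app (op U) ≫ ψE.hom.app (op U) := by
    have h1 := NatTrans.congr_app ψF.comm (op U)
    have h2 := NatTrans.congr_app ψE.comm (op U)
    exact h1.trans h2.symm
  -- the descent datum
  have hdesc : ∀ s : PushoutCocone (AF.str.app (op U)) (AE.str.app (op U)),
      ∃ c : A.presheaf.obj (op U) ⟶ s.pt, ψF.hom.app (op U) ≫ c = s.inl ∧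
        ψE.hom.app (op U) ≫ c = s.inr := by
    intro s
    have hcond : ∀ r : Γ(S, U), s.inl.hom ((AF.str.app (op U)).hom r) =
        s.inr.hom ((AE.str.app (op U)).hom r) := fun r => congr($(s.condition) r)
    let ℓ : Γ(E ⊞ F, U) →+ s.pt :=
      { toFun := fun x => s.inr.hom (QA.sec jE U ((biprod.fst : E ⊞ F ⟶ E).app U x)) +
          s.inl.hom (QA.sec jF U ((biprod.snd : E ⊞ F ⟶ F).app U x))
        map_zero' := by
          simp only [map_zero, QA.sec_zero, add_zero]
        map_add' := fun x y => by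
          simp only [map_add, QA.sec_add]
          abel }
    obtain ⟨g, hg1, hg2⟩ := exists_ringHom_sec hA U hU
      (s.inr.hom.comp (AE.str.app (op U)).hom) ℓ (fun r m => by
        change s.inr.hom (QA.sec jE U ((biprod.fst : E ⊞ F ⟶ E).app U (r • m))) +
          s.inl.hom (QA.sec jF U ((biprod.snd : E ⊞ F ⟶ F).app U (r • m))) =
          s.inr.hom ((AE.str.app (op U)).hom r) *
            (s.inr.hom (QA.sec jE U ((biprod.fst : E ⊞ F ⟶ E).app U m)) +
            s.inl.hom (QA.sec jF U ((biprod.snd : E ⊞ F ⟶ F).app U m)))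
        rw [Scheme.Modules.Hom.app_smul, Scheme.Modules.Hom.app_smul, QA.sec_smul, QA.sec_smul,
          map_mul, map_mul, hcond, mul_add])
    refine ⟨CommRingCat.ofHom g, ?_, ?_⟩
    · ext : 1
      refine ringHom_ext_sec hAF U hU (fun r => ?_) (fun m => ?_)
      · change g ((ψF.hom.app (op U)).hom ((AF.str.app (op U)).hom r)) = _
        rw [str_comp_app, hg1, hcond]
        rfl
      · change g ((ψF.hom.app (op U)).hom (QA.sec jF U m)) = _
        rw [hsecF, hg2]
        change s.inr.hom (QA.sec jE U ((biprod.fst : E ⊞ F ⟶ E).app U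
            ((biprod.inr : F ⟶ E ⊞ F).app U m))) +
          s.inl.hom (QA.sec jF U ((biprod.snd : E ⊞ F ⟶ F).app U
            ((biprod.inr : F ⟶ E ⊞ F).app U m))) = _
        rw [← comp_app', ← comp_app', biprod.inr_fst, biprod.inr_snd, zero_app', id_app',
          QA.sec_zero, map_zero, zero_add]
    · ext : 1
      refine ringHom_ext_sec hAE U hU (fun r => ?_) (fun m => ?_)
      · change g ((ψE.hom.app (op U)).hom ((AE.str.app (op U)).hom r)) = _
        rw [str_comp_app, hg1]
        rfl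
      · change g ((ψE.hom.app (op U)).hom (QA.sec jE U m)) = _
        rw [hsecE, hg2]
        change s.inr.hom (QA.sec jE U ((biprod.fst : E ⊞ F ⟶ E).app U
            ((biprod.inl : E ⟶ E ⊞ F).app U m))) +
          s.inl.hom (QA.sec jF U ((biprod.snd : E ⊞ F ⟶ F).app U
            ((biprod.inl : E ⟶ E ⊞ F).app U m))) = _
        rw [← comp_app', ← comp_app', biprod.inl_fst, biprod.inl_snd, zero_app', id_app',
          QA.sec_zero, map_zero, add_zero]
  choose c hc1 hc2 using hdesc
  refine ⟨⟨hw⟩, ⟨PushoutCocone.IsColimit.mk _ c hc1 hc2 ?_⟩⟩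
  intro s m hm1 hm2
  ext : 1
  refine ringHom_ext_sec hA U hU (fun r => ?_) (fun x => ?_)
  · have e1 : (A.str.app (op U)).hom r = (ψE.hom.app (op U)).hom ((AE.str.app (op U)).hom r) :=
      (str_comp_app ψE U r).symm
    rw [e1]
    change (ψE.hom.app (op U) ≫ m).hom _ = (ψE.hom.app (op U) ≫ c s).hom _
    rw [hm2, hc2]
  · have e2 : QA.sec j U x =
        (ψE.hom.app (op U)).hom (QA.sec jE U ((biprod.fst : E ⊞ F ⟶ E).app U x)) +
        (ψF.hom.app (op U)).hom (QA.sec jF U ((biprod.snd : E ⊞ F ⟶ F).app U x)) := by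
      rw [hsecE, hsecF, ← QA.sec_add]
      congr 1
      exact (bmk_eta E F U x).symm
    rw [e2, map_add, map_add]
    change (ψE.hom.app (op U) ≫ m).hom _ + (ψF.hom.app (op U) ≫ m).hom _ =
      (ψE.hom.app (op U) ≫ c s).hom _ + (ψF.hom.app (op U) ≫ c s).hom _
    rw [hm1, hm2, hc1, hc2]

end sum

end Groth.Agent.H6.Sym

namespace Groth.Agent.H6.QCLoc

variable {S : Scheme.{u}}

/-- the chart square of a relative spectrum is a pullback. -/
theorem isPullback_chart (A : RelSpec.QCAlg S) (U : S.Opens) (hU : IsAffineOpen U) :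
    IsPullback (A.ι U hU) (Spec.map (A.str.app (op U))) A.π hU.fromSpec :=
  (IsOpenImmersion.isPullback (Spec.map (A.str.app (op U))) (A.ι U hU) hU.fromSpec A.π
    (A.ι_π U hU) (by rw [hU.opensRange_fromSpec, A.π_preimage U hU])).flip

/-- the chart square of a morphism of relative spectra is a pullback. -/
theorem isPullback_chart_specMap {A B : RelSpec.QCAlg S} (ψ : A ⟶ B) (U : S.Opens)
    (hU : IsAffineOpen U) :
    IsPullback (B.ι U hU) (Spec.map (ψ.hom.app (op U))) (RelSpec.QCAlg.specMap ψ) (A.ι U hU) :=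
  (IsOpenImmersion.isPullback (Spec.map (ψ.hom.app (op U))) (B.ι U hU) (A.ι U hU)
    (RelSpec.QCAlg.specMap ψ) (RelSpec.QCAlg.ι_specMap U hU ψ) (by
      rw [← A.π_preimage U hU, ← Scheme.Hom.comp_preimage, RelSpec.QCAlg.specMap_π,
        B.π_preimage U hU])).flip

/-- a square of relative spectra is a pullback as soon as the squares of sections over affine opens
are pushouts. -/
theorem isPullback_specMap_of_isPushout {A₁ A₂ A : RelSpec.QCAlg S} (ψ₁ : A₁ ⟶ A) (ψ₂ : A₂ ⟶ A)
    (h : ∀ (U : S.Opens) (_ : IsAffineOpen U),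
      IsPushout (A₂.str.app (op U)) (A₁.str.app (op U)) (ψ₂.hom.app (op U)) (ψ₁.hom.app (op U))) :
    IsPullback (RelSpec.QCAlg.specMap ψ₁) (RelSpec.QCAlg.specMap ψ₂) A₁.π A₂.π := by
  refine Scheme.isPullback_of_openCover _ _ _ _ A₁.glueData.cover fun U => ?_
  -- the square over the chart `U`
  have Q : IsPullback (Spec.map (ψ₁.hom.app (op U.1))) (A.ι U.1 U.2 ≫ RelSpec.QCAlg.specMap ψ₂)
      (A₁.ι U.1 U.2 ≫ A₁.π) A₂.π := by
    rw [RelSpec.QCAlg.ι_specMap, A₁.ι_π]
    exact ((AlgebraicGeometry.isPullback_SpecMap_of_isPushout _ _ _ _ (h U.1 U.2)).paste_horiz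
      (isPullback_chart A₂ U.1 U.2)).flip
  have P1 := isPullback_chart_specMap ψ₁ U.1 U.2
  refine IsPullback.of_iso Q P1.isoPullback (Iso.refl _) (Iso.refl _) (Iso.refl _) ?_ ?_ ?_ ?_
  · exact (Category.comp_id _).trans P1.isoPullback_hom_snd.symm
  · rw [Iso.refl_hom, Category.comp_id, ← Category.assoc]
    congr 1
    exact P1.isoPullback_hom_fst.symm
  · exact (Category.comp_id _).trans (Category.id_comp _).symm
  · simp

end Groth.Agent.H6.QCLoc
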