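import Mathlib
import Groth.Prelude.Def_Wider

/-! Essential extensions and injective hulls (for the `InjHull.*` definitions of `Def_Wider`). -/

universe u v
open InjHull

namespace Groth.Agent.H6

namespace IH

variable {R : Type u} [CommRing R]

section Ess

variable {E : Type v} [AddCommGroup E] [Module R E]

/-- `B` is an essential extension of `A` (submodules of a fixed module). -/
def Ess (A B : Submodule R E) : Prop :=
  A ≤ B ∧ ∀ x ∈ B, x ≠ 0 → ∃ r : R, r • x ≠ 0 ∧ r • x ∈ A

theorem Ess.refl (A : Submodule R E) : Ess A A :=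
  ⟨le_rfl, fun x hx hx0 => ⟨1, by rwa [one_smul], by rwa [one_smul]⟩⟩

theorem Ess.trans {A B C : Submodule R E} (h1 : Ess A B) (h2 : Ess B C) : Ess A C := by
  refine ⟨h1.1.trans h2.1, fun x hx hx0 => ?_⟩
  obtain ⟨r, hr0, hrB⟩ := h2.2 x hx hx0
  obtain ⟨s, hs0, hsA⟩ := h1.2 (r • x) hrB hr0
  exact ⟨s * r, by rwa [mul_smul], by rwa [mul_smul]⟩

theorem Ess.of_le {A B C : Submodule R E} (h : Ess A C) (hAB : A ≤ B) (hBC : B ≤ C) :
    Ess A B ∧ Ess B C :=
  ⟨⟨hAB, fun x hx hx0 => h.2 x (hBC hx) hx0⟩,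
    ⟨hBC, fun x hx hx0 => by
      obtain ⟨r, hr0, hrA⟩ := h.2 x hx hx0
      exact ⟨r, hr0, hAB hrA⟩⟩⟩

/-- Essentiality in terms of submodules. -/
theorem Ess.inf_ne_bot {A B : Submodule R E} (h : Ess A B) (N : Submodule R E) (hN : N ≤ B)
    (hN0 : N ≠ ⊥) : N ⊓ A ≠ ⊥ := by
  obtain ⟨x, hx, hx0⟩ := (Submodule.ne_bot_iff N).mp hN0
  obtain ⟨r, hr0, hrA⟩ := h.2 x (hN hx) hx0
  intro hbot
  have : r • x ∈ N ⊓ A := ⟨N.smul_mem r hx, hrA⟩
  rw [hbot, Submodule.mem_bot] at this
  exact hr0 this

theorem ess_of_inf_ne_bot {A B : Submodule R E} (hAB : A ≤ B)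
    (h : ∀ N : Submodule R E, N ≤ B → N ≠ ⊥ → N ⊓ A ≠ ⊥) : Ess A B := by
  refine ⟨hAB, fun x hx hx0 => ?_⟩
  have hspan : Submodule.span R {x} ≤ B := (Submodule.span_singleton_le_iff_mem x B).mpr hx
  have hne : Submodule.span R {x} ≠ ⊥ := by
    rw [Ne, Submodule.span_singleton_eq_bot]
    exact hx0
  have := h _ hspan hne
  obtain ⟨y, hy, hy0⟩ := (Submodule.ne_bot_iff _).mp this
  obtain ⟨r, rfl⟩ := Submodule.mem_span_singleton.mp hy.1
  exact ⟨r, hy0, hy.2⟩

/-- The union of a nonempty chain of essential extensions of `A` is essential over `A`. -/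
theorem ess_sSup_of_chain {A : Submodule R E} (c : Set (Submodule R E)) (hc : IsChain (· ≤ ·) c)
    (hne : c.Nonempty) (h : ∀ B ∈ c, Ess A B) : Ess A (sSup c) := by
  obtain ⟨B0, hB0⟩ := hne
  refine ⟨(h B0 hB0).1.trans (le_sSup hB0), fun x hx hx0 => ?_⟩
  rw [Submodule.mem_sSup_of_directed ⟨B0, hB0⟩ hc.directedOn] at hx
  obtain ⟨B, hB, hxB⟩ := hx
  exact (h B hB).2 x hxB hx0

/-- A maximal essential extension of `A` inside `E`. -/
theorem exists_maximal_ess (A : Submodule R E) :
    ∃ B : Submodule R E, Ess A B ∧ ∀ C : Submodule R E, Ess A C → B ≤ C → C = B := by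
  have := zorn_le₀ {B : Submodule R E | Ess A B} (fun c hcs hc => by
    rcases c.eq_empty_or_nonempty with rfl | hne
    · exact ⟨A, Ess.refl A, fun _ h => absurd h (Set.notMem_empty _)⟩
    · exact ⟨sSup c, ess_sSup_of_chain c hc hne (fun B hB => hcs hB), fun B hB => le_sSup hB⟩)
  obtain ⟨B, hB, hmax⟩ := this
  exact ⟨B, hB, fun C hC hBC => le_antisymm (hmax hC hBC) hBC⟩

/-- A complement-like submodule: maximal with `N ⊓ B = ⊥`. -/
theorem exists_maximal_disjoint (B : Submodule R E) :
    ∃ N : Submodule R E, N ⊓ B = ⊥ ∧ ∀ N' : Submodule R E, N' ⊓ B = ⊥ → N ≤ N' → N' = N := by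
  have := zorn_le₀ {N : Submodule R E | N ⊓ B = ⊥} (fun c hcs hc => by
    rcases c.eq_empty_or_nonempty with rfl | hne
    · exact ⟨⊥, bot_inf_eq B, fun _ h => absurd h (Set.notMem_empty _)⟩
    · refine ⟨sSup c, ?_, fun N hN => le_sSup hN⟩
      rw [Set.mem_setOf_eq, eq_bot_iff]
      rintro x ⟨hx1, hx2⟩
      rw [SetLike.mem_coe, Submodule.mem_sSup_of_directed hne hc.directedOn] at hx1
      obtain ⟨N, hN, hxN⟩ := hx1
      have : x ∈ N ⊓ B := ⟨hxN, hx2⟩
      rwa [hcs hN] at this)
  obtain ⟨N, hN, hmax⟩ := this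
  exact ⟨N, hN, fun N' hN' hNN' => le_antisymm (hmax hN' hNN') hNN'⟩

end Ess

section Summand

variable {I : Type u} [AddCommGroup I] [Module R I]

/-- A direct summand of an injective module is injective. -/
theorem injective_of_isCompl [Module.Injective R I] {B N : Submodule R I} (h : IsCompl B N) :
    Module.Injective R B := by
  refine ⟨fun X Y _ _ _ _ f hf g => ?_⟩
  obtain ⟨k, hk⟩ := Module.Injective.extension_property R I _ _ f hf (B.subtype ∘ₗ g)
  refine ⟨Submodule.linearProjOfIsCompl B N h ∘ₗ k, fun x => ?_⟩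
  have := LinearMap.congr_fun hk x
  rw [LinearMap.comp_apply] at this
  rw [LinearMap.comp_apply, this]
  exact Submodule.linearProjOfIsCompl_apply_left h (g x)

/-- An injective submodule is a direct summand. -/
theorem exists_isCompl_of_injective (B : Submodule R I) [Module.Injective R B] :
    ∃ N : Submodule R I, IsCompl B N := by
  obtain ⟨r, hr⟩ := Module.Injective.extension_property R B _ _ B.subtype
    (Submodule.injective_subtype _) LinearMap.id
  have hr' : ∀ b : B, r (b : I) = b := fun b => LinearMap.congr_fun hr b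
  refine ⟨LinearMap.ker r, ?_⟩
  constructor
  · rw [disjoint_iff, eq_bot_iff]
    rintro x ⟨hxB, hxK⟩
    have h1 := hr' ⟨x, hxB⟩
    rw [SetLike.mem_coe, LinearMap.mem_ker] at hxK
    change r x = _ at h1
    rw [hxK] at h1
    rw [Submodule.mem_bot]
    exact (congrArg Subtype.val h1).symm
  · rw [codisjoint_iff, eq_top_iff]
    intro x _
    have : x = (r x : I) + (x - (r x : I)) := by abel
    rw [this]
    refine Submodule.add_mem_sup (r x).2 ?_
    rw [LinearMap.mem_ker, map_sub, hr', sub_self]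

/-- In an injective module, a maximal essential extension of `A` is a direct summand. -/
theorem exists_isCompl_of_maximal_ess [Module.Injective R I] {A B : Submodule R I}
    (hAB : Ess A B) (hmax : ∀ C : Submodule R I, Ess A C → B ≤ C → C = B) :
    ∃ N : Submodule R I, IsCompl B N := by
  obtain ⟨N, hNB, hNmax⟩ := exists_maximal_disjoint B
  refine ⟨N, ?_⟩
  let q : I →ₗ[R] I ⧸ N := N.mkQ
  let f : B →ₗ[R] I ⧸ N := q ∘ₗ B.subtype
  have hf : Function.Injective f := by
    rw [← LinearMap.ker_eq_bot, eq_bot_iff]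
    rintro ⟨b, hb⟩ hker
    rw [LinearMap.mem_ker] at hker
    have hbN : b ∈ N := (Submodule.Quotient.mk_eq_zero N).mp hker
    have : b ∈ N ⊓ B := ⟨hbN, hb⟩
    rw [hNB, Submodule.mem_bot] at this
    rw [Submodule.mem_bot]
    exact Subtype.ext this
  -- essentiality of `f`
  have hess : ∀ y : I ⧸ N, y ≠ 0 → ∃ (r : R) (b : B), r • y ≠ 0 ∧ r • y = f b := by
    intro y hy
    obtain ⟨x, rfl⟩ := N.mkQ_surjective y
    have hxN : x ∉ N := fun h => hy ((Submodule.Quotient.mk_eq_zero N).mpr h)
    have hne : (N ⊔ Submodule.span R {x}) ⊓ B ≠ ⊥ := by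
      intro hbot
      have := hNmax _ hbot le_sup_left
      apply hxN
      rw [← this]
      exact Submodule.mem_sup_right (Submodule.mem_span_singleton_self x)
    obtain ⟨e, ⟨he1, he2⟩, he0⟩ := (Submodule.ne_bot_iff _).mp hne
    obtain ⟨n, hn, z, hz, rfl⟩ := Submodule.mem_sup.mp he1
    obtain ⟨r, rfl⟩ := Submodule.mem_span_singleton.mp hz
    refine ⟨r, ⟨n + r • x, he2⟩, ?_, ?_⟩
    · intro h0
      have h1 : r • x ∈ N := by
        rw [← map_smul] at h0
        exact (Submodule.Quotient.mk_eq_zero N).mp h0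
      have : n + r • x ∈ N ⊓ B := ⟨N.add_mem hn h1, he2⟩
      rw [hNB, Submodule.mem_bot] at this
      exact he0 this
    · change r • N.mkQ x = N.mkQ (n + r • x)
      have hn0 : N.mkQ n = 0 := (Submodule.Quotient.mk_eq_zero N).mpr hn
      rw [map_add, map_smul, hn0, zero_add]
  obtain ⟨φ, hφ⟩ := Module.Injective.extension_property R I _ _ f hf B.subtype
  have hφ' : ∀ b : B, φ (f b) = b := fun b => LinearMap.congr_fun hφ b
  have hφinj : Function.Injective φ := by
    rw [← LinearMap.ker_eq_bot, eq_bot_iff]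
    intro y hy
    rw [LinearMap.mem_ker] at hy
    rw [Submodule.mem_bot]
    by_contra hy0
    obtain ⟨r, b, hr0, hrb⟩ := hess y hy0
    have h1 : φ (r • y) = 0 := by rw [map_smul, hy, smul_zero]
    rw [hrb, hφ'] at h1
    apply hr0
    rw [hrb]
    have : b = 0 := Subtype.ext h1
    rw [this, map_zero]
  have hBC : B ≤ LinearMap.range φ := fun b hb => ⟨f ⟨b, hb⟩, hφ' ⟨b, hb⟩⟩
  have hessC : Ess B (LinearMap.range φ) := by
    refine ⟨hBC, ?_⟩
    rintro _ ⟨y, rfl⟩ hy0
    have hy : y ≠ 0 := fun h => hy0 (by rw [h, map_zero])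
    obtain ⟨r, b, hr0, hrb⟩ := hess y hy
    refine ⟨r, ?_, ?_⟩
    · rw [← map_smul]
      intro h0
      exact hr0 (hφinj (h0.trans (map_zero φ).symm))
    · rw [← map_smul, hrb, hφ']
      exact b.2
  have hC : LinearMap.range φ = B := hmax _ (hAB.trans hessC) hBC
  constructor
  · rw [disjoint_iff, inf_comm]
    exact hNB
  · rw [codisjoint_iff, eq_top_iff]
    intro x _
    have hb : φ (q x) ∈ B := hC ▸ LinearMap.mem_range_self φ (q x)
    have h2 : q x = f ⟨φ (q x), hb⟩ := hφinj (hφ' ⟨φ (q x), hb⟩).symm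
    have h3 : x - φ (q x) ∈ N := by
      rw [← Submodule.Quotient.mk_eq_zero N, Submodule.Quotient.mk_sub, sub_eq_zero]
      exact h2
    have : x = φ (q x) + (x - φ (q x)) := by abel
    rw [this]
    exact Submodule.add_mem_sup hb h3

end Summand

section Hull

/-- Element form of essentiality for linear maps. -/
theorem essential_iff {M E : Type v} [AddCommGroup M] [Module R M] [AddCommGroup E] [Module R E]
    (f : M →ₗ[R] E) :
    (∀ N : Submodule R E, N ≠ ⊥ → N ⊓ LinearMap.range f ≠ ⊥) ↔
      ∀ x : E, x ≠ 0 → ∃ r : R, r • x ≠ 0 ∧ r • x ∈ LinearMap.range f := by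
  constructor
  · intro h x hx
    have hess : Ess (LinearMap.range f) ⊤ :=
      ess_of_inf_ne_bot le_top (fun N _ hN0 => h N hN0)
    exact hess.2 x Submodule.mem_top hx
  · intro h N hN0
    have hess : Ess (LinearMap.range f) ⊤ := ⟨le_top, fun x _ hx => h x hx⟩
    exact hess.inf_ne_bot N le_top hN0

theorem isEssentialInj_iff {M E : Type v} [AddCommGroup M] [Module R M] [AddCommGroup E]
    [Module R E] (f : M →ₗ[R] E) :
    IsEssentialInj f ↔ Function.Injective f ∧
      ∀ x : E, x ≠ 0 → ∃ r : R, r • x ≠ 0 ∧ r • x ∈ LinearMap.range f := by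
  constructor
  · intro h
    exact ⟨h.injective, (essential_iff f).mp h.essential⟩
  · rintro ⟨h1, h2⟩
    exact ⟨h1, (essential_iff f).mpr h2⟩

variable {M I : Type u} [AddCommGroup M] [Module R M] [AddCommGroup I] [Module R I]

/-- Inside an injective module `I ⊇ M` there is a direct summand `B ⊇ M` which is an injective
hull of `M`. -/
theorem exists_hull_in [Module.Injective R I] (ι : M →ₗ[R] I) (hι : Function.Injective ι) :
    ∃ (B N : Submodule R I) (hB : LinearMap.range ι ≤ B), IsCompl B N ∧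
      IsInjectiveHull (ι.codRestrict B (fun m => hB ⟨m, rfl⟩)) := by
  obtain ⟨B, hAB, hmax⟩ := exists_maximal_ess (LinearMap.range ι)
  obtain ⟨N, hN⟩ := exists_isCompl_of_maximal_ess hAB hmax
  refine ⟨B, N, hAB.1, hN, ?_⟩
  have hinj : Module.Injective R B := injective_of_isCompl hN
  refine { toIsEssentialInj := ?_, isInjective := hinj }
  rw [isEssentialInj_iff]
  refine ⟨fun a b hab => hι (congrArg Subtype.val hab), fun x hx => ?_⟩
  have hx0 : (x : I) ≠ 0 := fun h => hx (Subtype.ext h)
  obtain ⟨r, hr0, m, hm⟩ := hAB.2 x x.2 hx0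
  refine ⟨r, fun h => hr0 (congrArg Subtype.val h), m, ?_⟩
  apply Subtype.ext
  exact hm

/-- **S0299**: injective hulls exist. -/
theorem exists_injectiveHull (M : Type u) [AddCommGroup M] [Module R M] :
    ∃ (E : Type u) (_ : AddCommGroup E) (_ : Module R E) (f : M →ₗ[R] E), IsInjectiveHull f := by
  let I : ModuleCat.{u} R := CategoryTheory.Injective.under (ModuleCat.of R M)
  have hinj : CategoryTheory.Injective (ModuleCat.of R I) :=
    (inferInstance : CategoryTheory.Injective (CategoryTheory.Injective.under (ModuleCat.of R M)))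
  have : Module.Injective R I := Module.injective_module_of_injective_object R I
  have hι : Function.Injective (CategoryTheory.Injective.ι (ModuleCat.of R M)).hom :=
    (ModuleCat.mono_iff_injective _).mp inferInstance
  obtain ⟨B, N, hB, _, hull⟩ :=
    exists_hull_in (CategoryTheory.Injective.ι (ModuleCat.of R M)).hom hι
  exact ⟨B, inferInstance, inferInstance, _, hull⟩

end Hull

section Uniq

theorem injective_of_equiv {Q Q' : Type u} [AddCommGroup Q] [Module R Q] [AddCommGroup Q']
    [Module R Q'] (e : Q ≃ₗ[R] Q') [inj : Module.Injective R Q] : Module.Injective R Q' :=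
  (Module.Baer.of_equiv e (Module.Baer.of_injective inj)).injective

/-- A map out of an essential extension which is injective on the base is injective. -/
theorem injective_of_comp_injective {M E X : Type v} [AddCommGroup M] [Module R M]
    [AddCommGroup E] [Module R E] [AddCommGroup X] [Module R X] {f : M →ₗ[R] E}
    (hf : IsEssentialInj f) (α : E →ₗ[R] X) (h : Function.Injective (α ∘ₗ f)) :
    Function.Injective α := by
  rw [← LinearMap.ker_eq_bot, eq_bot_iff]
  intro x hx
  rw [LinearMap.mem_ker] at hx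
  rw [Submodule.mem_bot]
  by_contra hx0
  obtain ⟨r, hr0, m, hm⟩ := ((isEssentialInj_iff f).mp hf).2 x hx0
  have h1 : (α ∘ₗ f) m = 0 := by
    rw [LinearMap.comp_apply, hm, map_smul, hx, smul_zero]
  have h2 : m = 0 := h (h1.trans (map_zero _).symm)
  apply hr0
  rw [← hm, h2, map_zero]

variable {M E E' : Type u} [AddCommGroup M] [Module R M] [AddCommGroup E] [Module R E]
  [AddCommGroup E'] [Module R E']

/-- **S0303**: an injective hull embeds as a direct summand into any injective module
containing `M`. -/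
theorem exists_embedding_of_hull {f : M →ₗ[R] E} (hf : IsInjectiveHull f) (i : M →ₗ[R] E')
    (hi : Function.Injective i) [hI : Module.Injective R E'] :
    ∃ α : E →ₗ[R] E', Function.Injective α ∧ α ∘ₗ f = i ∧
      ∃ I' : Submodule R E', IsCompl (LinearMap.range α) I' := by
  obtain ⟨α, hα⟩ := Module.Injective.extension_property R E' _ _ f hf.injective i
  have hαinj : Function.Injective α :=
    injective_of_comp_injective hf.toIsEssentialInj α (by rw [hα]; exact hi)
  refine ⟨α, hαinj, hα, ?_⟩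
  have : Module.Injective R E := hf.isInjective
  have : Module.Injective R (LinearMap.range α) :=
    injective_of_equiv (LinearEquiv.ofInjective α hαinj)
  exact exists_isCompl_of_injective (LinearMap.range α)

/-- **S0302**: uniqueness of injective hulls. -/
theorem exists_equiv_of_hulls {f : M →ₗ[R] E} (hf : IsInjectiveHull f) {g : M →ₗ[R] E'}
    (hg : IsInjectiveHull g) : ∃ e : E ≃ₗ[R] E', e.toLinearMap ∘ₗ f = g := by
  have : Module.Injective R E' := hg.isInjective
  obtain ⟨α, hαinj, hα, C, hC⟩ := exists_embedding_of_hull hf g hg.injective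
  have hC0 : C = ⊥ := by
    by_contra hne
    apply hg.essential C hne
    rw [eq_bot_iff]
    rintro x ⟨hxC, m, rfl⟩
    have hx2 : g m ∈ LinearMap.range α := ⟨f m, by rw [← hα]; rfl⟩
    have : g m ∈ LinearMap.range α ⊓ C := ⟨hx2, hxC⟩
    rw [hC.inf_eq_bot] at this
    exact this
  have htop : LinearMap.range α = ⊤ := by
    have := hC.sup_eq_top
    rwa [hC0, sup_bot_eq] at this
  refine ⟨LinearEquiv.ofBijective α ⟨hαinj, LinearMap.range_eq_top.mp htop⟩, ?_⟩
  ext m
  exact LinearMap.congr_fun hα m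

end Uniq

section Indec

variable {E : Type u} [AddCommGroup E] [Module R E]

/-- In an indecomposable injective module, any nonzero submodule is essential. -/
theorem ess_top_of_indecomposable [Module.Injective R E] (hE : IsIndecomposable R E)
    (N : Submodule R E) (hN : N ≠ ⊥) : Ess N ⊤ := by
  obtain ⟨B, hNB, hmax⟩ := exists_maximal_ess N
  obtain ⟨C, hC⟩ := exists_isCompl_of_maximal_ess hNB hmax
  rcases hE.2 B C hC with hB | hC0
  · exfalso
    apply hN
    rw [eq_bot_iff, ← hB]
    exact hNB.1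
  · have : B = ⊤ := by
      have := hC.sup_eq_top
      rwa [hC0, sup_bot_eq] at this
    rwa [this] at hNB

theorem inf_ne_bot_of_indecomposable [Module.Injective R E] (hE : IsIndecomposable R E)
    (N N' : Submodule R E) (hN : N ≠ ⊥) (hN' : N' ≠ ⊥) : N ⊓ N' ≠ ⊥ := by
  have := (ess_top_of_indecomposable hE N' hN').inf_ne_bot N le_top hN
  exact this

/-- **S0304** -/
theorem indecomposable_injective_prime [Module.Injective R E] (hE : IsIndecomposable R E) :
    ∃ p : Ideal R, p.IsPrime ∧ (p : Set R) = {r : R | ∃ x : E, x ≠ 0 ∧ r • x = 0} := by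
  have hnt : Nontrivial E := hE.1
  let p : Ideal R :=
    { carrier := {r : R | ∃ x : E, x ≠ 0 ∧ r • x = 0}
      zero_mem' := by
        obtain ⟨x, hx⟩ := exists_ne (0 : E)
        exact ⟨x, hx, zero_smul R x⟩
      add_mem' := by
        rintro r s ⟨x, hx, hrx⟩ ⟨y, hy, hsy⟩
        have hne := inf_ne_bot_of_indecomposable hE (Submodule.span R {x}) (Submodule.span R {y})
          (by rwa [Ne, Submodule.span_singleton_eq_bot])
          (by rwa [Ne, Submodule.span_singleton_eq_bot])
        obtain ⟨z, ⟨hz1, hz2⟩, hz0⟩ := (Submodule.ne_bot_iff _).mp hne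
        obtain ⟨a, rfl⟩ := Submodule.mem_span_singleton.mp hz1
        obtain ⟨b, hb⟩ := Submodule.mem_span_singleton.mp hz2
        refine ⟨a • x, hz0, ?_⟩
        rw [add_smul, smul_comm, hrx, smul_zero, zero_add, ← hb, smul_comm, hsy, smul_zero]
      smul_mem' := by
        rintro c r ⟨x, hx, hrx⟩
        exact ⟨x, hx, by rw [smul_eq_mul, mul_smul, hrx, smul_zero]⟩ }
  refine ⟨p, ?_, rfl⟩
  refine ⟨?_, ?_⟩
  · rw [Ne, Ideal.eq_top_iff_one]
    rintro ⟨x, hx, h1⟩
    rw [one_smul] at h1
    exact hx h1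
  · rintro r s ⟨x, hx, hrs⟩
    by_cases hsx : s • x = 0
    · exact Or.inr ⟨x, hx, hsx⟩
    · exact Or.inl ⟨s • x, hsx, by rw [← mul_smul]; exact hrs⟩

end Indec

section ResidueField

variable (p : Ideal R) [p.IsPrime]

/-- The `R`-linear inclusion `R/p → κ(p)`. -/
noncomputable def quotToResidueField : (R ⧸ p) →ₗ[R] p.ResidueField :=
  (Algebra.linearMap (R ⧸ p) p.ResidueField).restrictScalars R

theorem quotToResidueField_apply (x : R ⧸ p) :
    quotToResidueField p x = algebraMap (R ⧸ p) p.ResidueField x := rfl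

theorem quotToResidueField_essential : IsEssentialInj (quotToResidueField p) := by
  rw [isEssentialInj_iff]
  refine ⟨Ideal.injective_algebraMap_quotient_residueField p, fun x hx => ?_⟩
  obtain ⟨⟨a, b⟩, hab⟩ := IsLocalization.surj (nonZeroDivisors (R ⧸ p)) x
  obtain ⟨b', hb'⟩ := Ideal.Quotient.mk_surjective (b : R ⧸ p)
  have hb0 : algebraMap (R ⧸ p) p.ResidueField (b : R ⧸ p) ≠ 0 := by
    intro h
    have := (Ideal.injective_algebraMap_quotient_residueField p) (h.trans (map_zero _).symm)
    exact nonZeroDivisors.coe_ne_zero b this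
  have hsm : b' • x = x * algebraMap (R ⧸ p) p.ResidueField (b : R ⧸ p) := by
    rw [← hb', Algebra.smul_def, mul_comm]
    rfl
  refine ⟨b', ?_, a, ?_⟩
  · rw [hsm]
    exact mul_ne_zero hx hb0
  · rw [hsm, quotToResidueField_apply]
    exact hab.symm

variable {E : Type u} [AddCommGroup E] [Module R E]

/-- **S0305**, first half: an injective hull of `R/p` is indecomposable. -/
theorem indecomposable_of_hull_quot {f : (R ⧸ p) →ₗ[R] E} (hf : IsInjectiveHull f) :
    IsIndecomposable R E := by
  have hnt : Nontrivial E := hf.injective.nontrivial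
  refine ⟨hnt, fun N N' hNN' => ?_⟩
  by_contra hcon
  push_neg at hcon
  obtain ⟨hN, hN'⟩ := hcon
  obtain ⟨x, ⟨hxN, a, rfl⟩, hx0⟩ := (Submodule.ne_bot_iff _).mp (hf.essential N hN)
  obtain ⟨y, ⟨hyN', b, rfl⟩, hy0⟩ := (Submodule.ne_bot_iff _).mp (hf.essential N' hN')
  obtain ⟨a', rfl⟩ := Ideal.Quotient.mk_surjective a
  obtain ⟨b', rfl⟩ := Ideal.Quotient.mk_surjective b
  have ha0 : (Ideal.Quotient.mk p a') ≠ 0 := fun h => hx0 (by rw [h, map_zero])
  have hb0 : (Ideal.Quotient.mk p b') ≠ 0 := fun h => hy0 (by rw [h, map_zero])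
  have h1 : f (Ideal.Quotient.mk p (a' * b')) ∈ N := by
    have : Ideal.Quotient.mk p (a' * b') = b' • Ideal.Quotient.mk p a' := by
      rw [mul_comm]
      rfl
    rw [this, map_smul]
    exact N.smul_mem b' hxN
  have h2 : f (Ideal.Quotient.mk p (a' * b')) ∈ N' := by
    have : Ideal.Quotient.mk p (a' * b') = a' • Ideal.Quotient.mk p b' := rfl
    rw [this, map_smul]
    exact N'.smul_mem a' hyN'
  have h3 : f (Ideal.Quotient.mk p (a' * b')) ∈ N ⊓ N' := ⟨h1, h2⟩
  rw [hNN'.inf_eq_bot, Submodule.mem_bot] at h3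
  have h4 : Ideal.Quotient.mk p (a' * b') = 0 := hf.injective (h3.trans (map_zero f).symm)
  rw [map_mul] at h4
  rcases mul_eq_zero.mp h4 with h | h
  · exact ha0 h
  · exact hb0 h

/-- **S0305**, second half: an injective hull of `R/p` is an injective hull of `κ(p)`. -/
theorem exists_hull_residueField {f : (R ⧸ p) →ₗ[R] E} (hf : IsInjectiveHull f) :
    ∃ g : p.ResidueField →ₗ[R] E, IsInjectiveHull g ∧ g ∘ₗ quotToResidueField p = f := by
  have : Module.Injective R E := hf.isInjective
  obtain ⟨g, hg⟩ := Module.Injective.extension_property R E _ _ (quotToResidueField p)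
    (quotToResidueField_essential p).injective f
  have hginj : Function.Injective g :=
    injective_of_comp_injective (quotToResidueField_essential p) g (by rw [hg]; exact hf.injective)
  refine ⟨g, ⟨?_, hf.isInjective⟩, hg⟩
  rw [isEssentialInj_iff]
  refine ⟨hginj, fun x hx => ?_⟩
  obtain ⟨r, hr0, m, hm⟩ := ((isEssentialInj_iff f).mp hf.toIsEssentialInj).2 x hx
  refine ⟨r, hr0, quotToResidueField p m, ?_⟩
  rw [← hm, ← hg]
  rfl

end ResidueField

section Noeth

variable {E : Type u} [AddCommGroup E] [Module R E]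

/-- **S0306**: over a Noetherian ring, an indecomposable injective is the hull of some `R/p`. -/
theorem exists_hull_quot_of_indecomposable [IsNoetherianRing R] [Module.Injective R E]
    (hE : IsIndecomposable R E) :
    ∃ (p : Ideal R) (_ : p.IsPrime) (f : (R ⧸ p) →ₗ[R] E), IsInjectiveHull f := by
  have hnt : Nontrivial E := hE.1
  obtain ⟨p, hp⟩ := associatedPrimes.nonempty R E
  obtain ⟨hprime, f, hf⟩ := (isAssociatedPrime_iff_exists_injective_linearMap p E).mp hp
  refine ⟨p, hprime, f, ⟨?_, inferInstance⟩⟩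
  rw [isEssentialInj_iff]
  refine ⟨hf, fun x hx => ?_⟩
  have hne : LinearMap.range f ≠ ⊥ := by
    intro h
    have h1 : f 1 ∈ LinearMap.range f := ⟨1, rfl⟩
    rw [h, Submodule.mem_bot] at h1
    have : (1 : R ⧸ p) = 0 := hf (h1.trans (map_zero f).symm)
    have hnt' : Nontrivial (R ⧸ p) := Ideal.Quotient.nontrivial_iff.mpr hprime.ne_top
    exact one_ne_zero this
  exact (ess_top_of_indecomposable hE _ hne).2 x Submodule.mem_top hx

theorem exists_hull_residueField_of_indecomposable [IsNoetherianRing R] [Module.Injective R E]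
    (hE : IsIndecomposable R E) :
    ∃ (p : Ideal R) (_ : p.IsPrime) (g : p.ResidueField →ₗ[R] E), IsInjectiveHull g := by
  obtain ⟨p, hp, f, hf⟩ := exists_hull_quot_of_indecomposable hE
  obtain ⟨g, hg, -⟩ := exists_hull_residueField p hf
  exact ⟨p, hp, g, hg⟩

end Noeth

end IH

end Groth.Agent.H6
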