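import Groth.Agent.Lib.Helper6.InjHull

/-!
# Injective hulls over a quotient ring `R/b`

`E[b]` is an injective `R/b`-module if `E` is an injective `R`-module, and if `M → E` is an
injective hull of an `R/b`-module `M` over `R`, then `M → E[b]` is an injective hull over `R/b`.
-/

namespace Groth.Agent.H6

namespace IH

open InjHull

universe u v

section Quot

variable {R : Type u} [CommRing R] (b : Ideal R)
variable {E : Type u} [AddCommGroup E] [Module R E]

/-- `E[b]` is injective over `R/b`. -/
theorem injective_torsionBySet [Module.Injective R E] :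
    Module.Injective (R ⧸ b) (Submodule.torsionBySet R E (b : Set R)) := by
  refine Module.Baer.injective ?_
  intro J' h
  -- pull back to `R`
  let J : Ideal R := J'.comap (Ideal.Quotient.mk b)
  let h0 : J →ₗ[R] E :=
    { toFun := fun j => ((h ⟨Ideal.Quotient.mk b (j : R), j.2⟩ :
        Submodule.torsionBySet R E (b : Set R)) : E)
      map_add' := fun j j' => by
        have : (⟨Ideal.Quotient.mk b ((j + j' : J) : R), (j + j').2⟩ : J') =
            ⟨Ideal.Quotient.mk b (j : R), j.2⟩ + ⟨Ideal.Quotient.mk b (j' : R), j'.2⟩ := by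
          apply Subtype.ext
          simp
        rw [this, map_add]
        rfl
      map_smul' := fun r j => by
        have : (⟨Ideal.Quotient.mk b ((r • j : J) : R), (r • j).2⟩ : J') =
            (Ideal.Quotient.mk b r) • ⟨Ideal.Quotient.mk b (j : R), j.2⟩ := by
          apply Subtype.ext
          simp
        rw [this, map_smul]
        rfl }
  obtain ⟨k, hk⟩ := Module.Injective.extension_property R E J R J.subtype
    (Submodule.injective_subtype J) h0
  have hk' : ∀ j : J, (j : R) • k 1 = h0 j := by
    intro j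
    rw [← map_smul, smul_eq_mul, mul_one]
    exact LinearMap.congr_fun hk j
  have he : k 1 ∈ Submodule.torsionBySet R E (b : Set R) := by
    rw [Submodule.mem_torsionBySet_iff]
    rintro ⟨a, ha⟩
    have haJ : a ∈ J := by
      change Ideal.Quotient.mk b a ∈ J'
      rw [Ideal.Quotient.eq_zero_iff_mem.mpr ha]
      exact J'.zero_mem
    have h1 := hk' ⟨a, haJ⟩
    change a • k 1 = 0
    rw [h1]
    change ((h ⟨Ideal.Quotient.mk b a, _⟩ : Submodule.torsionBySet R E (b : Set R)) : E) = 0
    have h2 : (⟨Ideal.Quotient.mk b a, haJ⟩ : J') = 0 := by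
      apply Subtype.ext
      exact Ideal.Quotient.eq_zero_iff_mem.mpr ha
    rw [h2, map_zero]
    rfl
  refine ⟨LinearMap.toSpanSingleton (R ⧸ b) _ ⟨k 1, he⟩, fun x hx => ?_⟩
  obtain ⟨r, rfl⟩ := Ideal.Quotient.mk_surjective x
  rw [LinearMap.toSpanSingleton_apply]
  apply Subtype.ext
  have h1 := hk' ⟨r, hx⟩
  change r • k 1 = _
  rw [h1]
  rfl

variable {M : Type u} [AddCommGroup M] [Module R M] [Module (R ⧸ b) M] [IsScalarTower R (R ⧸ b) M]

theorem mk_smul_eq (r : R) (x : M) : (Ideal.Quotient.mk b r) • x = r • x := by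
  have : Ideal.Quotient.mk b r = r • (1 : R ⧸ b) := by
    rw [Algebra.smul_def, mul_one]; rfl
  rw [this, smul_assoc, one_smul]

/-- **S11662**. -/
theorem exists_hull_torsionBySet {f : M →ₗ[R] E} (hf : IsInjectiveHull f) :
    ∃ g : M →ₗ[R ⧸ b] Submodule.torsionBySet R E (b : Set R), IsInjectiveHull g ∧
      ∀ x : M, ((g x : Submodule.torsionBySet R E (b : Set R)) : E) = f x := by
  haveI := hf.isInjective
  have hmem : ∀ x : M, f x ∈ Submodule.torsionBySet R E (b : Set R) := by
    intro x
    rw [Submodule.mem_torsionBySet_iff]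
    rintro ⟨a, ha⟩
    change a • f x = 0
    rw [← map_smul, ← mk_smul_eq b a x, Ideal.Quotient.eq_zero_iff_mem.mpr ha, zero_smul, map_zero]
  let g : M →ₗ[R ⧸ b] Submodule.torsionBySet R E (b : Set R) :=
    { toFun := fun x => ⟨f x, hmem x⟩
      map_add' := fun x y => Subtype.ext (map_add f x y)
      map_smul' := fun c x => by
        obtain ⟨r, rfl⟩ := Ideal.Quotient.mk_surjective c
        apply Subtype.ext
        change f (Ideal.Quotient.mk b r • x) = r • f x
        rw [mk_smul_eq, map_smul] }
  refine ⟨g, ⟨(isEssentialInj_iff g).mpr ⟨?_, ?_⟩, injective_torsionBySet b⟩, fun x => rfl⟩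
  · intro x y hxy
    exact hf.injective (congrArg Subtype.val hxy)
  · intro y hy
    have hy0 : (y : E) ≠ 0 := fun h => hy (Subtype.ext h)
    obtain ⟨r, hr0, x, hx⟩ := ((isEssentialInj_iff f).mp hf.toIsEssentialInj).2 (y : E) hy0
    refine ⟨Ideal.Quotient.mk b r, ?_, x, ?_⟩
    · intro h
      exact hr0 (congrArg Subtype.val h)
    · apply Subtype.ext
      exact hx

end Quot

section Transport

variable {R : Type u} [CommRing R] {M M' : Type v} {E : Type v} [AddCommGroup M] [Module R M]
  [AddCommGroup M'] [Module R M'] [AddCommGroup E] [Module R E]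

/-- Precomposing an injective hull with an isomorphism gives an injective hull. -/
theorem hull_comp_equiv {f : M →ₗ[R] E} (hf : IsInjectiveHull f) (e : M' ≃ₗ[R] M) :
    IsInjectiveHull (f ∘ₗ e.toLinearMap) := by
  refine ⟨⟨hf.injective.comp e.injective, fun L hL => ?_⟩, hf.isInjective⟩
  rw [LinearMap.range_comp_of_range_eq_top _ (LinearMap.range_eq_top.mpr e.surjective)]
  exact hf.essential L hL

end Transport

section LocalQuot

variable {A : Type u} [CommRing A] [IsLocalRing A] (a : Ideal A) [IsLocalRing (A ⧸ a)]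

/-- The residue fields of `A` and `A/a` agree as `A`-modules. -/
noncomputable def residueQuotEquiv :
    (A ⧸ IsLocalRing.maximalIdeal A) ≃ₗ[A] IsLocalRing.ResidueField (A ⧸ a) := by
  let π : A →ₗ[A] IsLocalRing.ResidueField (A ⧸ a) :=
    Algebra.linearMap A (IsLocalRing.ResidueField (A ⧸ a))
  have hsurj : Function.Surjective π := by
    intro y
    obtain ⟨y', rfl⟩ := IsLocalRing.residue_surjective y
    obtain ⟨r, rfl⟩ := Ideal.Quotient.mk_surjective y'
    exact ⟨r, rfl⟩
  have hker : IsLocalRing.maximalIdeal A = LinearMap.ker π := by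
    haveI : IsLocalHom (Ideal.Quotient.mk a) :=
      IsLocalHom.of_surjective _ Ideal.Quotient.mk_surjective
    ext r
    rw [LinearMap.mem_ker, IsLocalRing.mem_maximalIdeal, mem_nonunits_iff]
    change ¬ IsUnit r ↔ IsLocalRing.residue (A ⧸ a) (Ideal.Quotient.mk a r) = 0
    rw [IsLocalRing.residue_eq_zero_iff, IsLocalRing.mem_maximalIdeal, mem_nonunits_iff, not_iff_not]
    exact ⟨fun h => h.map _, fun h => isUnit_of_map_unit (Ideal.Quotient.mk a) r h⟩
  exact (Submodule.quotEquivOfEq _ _ hker).trans (LinearMap.quotKerEquivOfSurjective π hsurj)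

/-- **S5157**. -/
theorem exists_hull_torsionBySet_residue {E : Type u} [AddCommGroup E] [Module A E]
    {f : (A ⧸ IsLocalRing.maximalIdeal A) →ₗ[A] E} (hf : IsInjectiveHull f) :
    ∃ g : IsLocalRing.ResidueField (A ⧸ a) →ₗ[A ⧸ a] Submodule.torsionBySet A E (a : Set A),
      IsInjectiveHull g := by
  obtain ⟨g, hg, -⟩ := exists_hull_torsionBySet a (hull_comp_equiv hf (residueQuotEquiv a).symm)
  exact ⟨g, hg⟩

end LocalQuot

end IH

end Groth.Agent.H6
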