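import Groth.Agent.Lib.Helper6.InjHullLocal

/-!
# Matlis duality: endomorphisms of `E(k)` and the complete case
-/

namespace Groth.Agent.H6

namespace IH

open InjHull

universe u v

section Scalar

variable {R : Type u} [CommRing R] [IsLocalRing R]
variable {E : Type u} [AddCommGroup E] [Module R E]
  {f : (R ⧸ IsLocalRing.maximalIdeal R) →ₗ[R] E}

/-- If `R/J` has finite length, every linear map `E[J] → E` is multiplication by a scalar. -/
theorem exists_scalar_of_finiteLength (hf : IsInjectiveHull f) (J : Ideal R)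
    (hJ : IsFiniteLength R (R ⧸ J)) (ψ : Submodule.torsionBySet R E (J : Set R) →ₗ[R] E) :
    ∃ r : R, ∀ x : Submodule.torsionBySet R E (J : Set R), ψ x = r • (x : E) := by
  obtain ⟨c, hc⟩ := (eval_bijective_of_finiteLength hf (R ⧸ J) hJ).2
    (ψ ∘ₗ (homQuotEquiv J E).toLinearMap)
  obtain ⟨r, rfl⟩ := Ideal.Quotient.mk_surjective c
  refine ⟨r, fun x => ?_⟩
  have h1 := LinearMap.congr_fun hc ((homQuotEquiv J E).symm x)
  rw [LinearMap.applyₗ_apply_apply, LinearMap.comp_apply, LinearEquiv.coe_coe,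
    LinearEquiv.apply_symm_apply] at h1
  rw [← h1]
  have h2 : Ideal.Quotient.mk J r = r • (1 : R ⧸ J) := by
    rw [Algebra.smul_def, mul_one]; rfl
  rw [h2, map_smul, ← homQuotEquiv_apply, LinearEquiv.apply_symm_apply]

/-- If `R/J` has finite length, `E[J]` is a faithful `R/J`-module. -/
theorem mem_of_smul_torsionBySet_eq_zero (hf : IsInjectiveHull f) (J : Ideal R)
    (hJ : IsFiniteLength R (R ⧸ J)) (r : R)
    (h : ∀ x ∈ Submodule.torsionBySet R E (J : Set R), r • x = 0) : r ∈ J := by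
  rw [← Ideal.Quotient.eq_zero_iff_mem]
  apply (eval_bijective_of_finiteLength hf (R ⧸ J) hJ).1
  rw [map_zero]
  ext θ
  rw [LinearMap.applyₗ_apply_apply, LinearMap.zero_apply]
  have h2 : Ideal.Quotient.mk J r = r • (1 : R ⧸ J) := by
    rw [Algebra.smul_def, mul_one]; rfl
  rw [h2, map_smul, ← homQuotEquiv_apply]
  exact h _ (homQuotEquiv J E θ).2

variable [IsNoetherianRing R]

theorem isFiniteLength_quot_pow (n : ℕ) :
    IsFiniteLength R (R ⧸ (IsLocalRing.maximalIdeal R) ^ n) := by
  rw [isFiniteLength_iff_isNoetherian_isArtinian]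
  refine ⟨inferInstance, ?_⟩
  have hpt : LocCoh.IsPowerTorsion (IsLocalRing.maximalIdeal R)
      (R ⧸ (IsLocalRing.maximalIdeal R) ^ n) := by
    intro y
    refine ⟨n, fun a ha => ?_⟩
    obtain ⟨y', rfl⟩ := Ideal.Quotient.mk_surjective y
    change Ideal.Quotient.mk _ (a * y') = 0
    exact Ideal.Quotient.eq_zero_iff_mem.mpr (Ideal.mul_mem_right _ _ ha)
  haveI : Module.Finite (R ⧸ IsLocalRing.maximalIdeal R)
      (Submodule.torsionBySet R (R ⧸ (IsLocalRing.maximalIdeal R) ^ n)
        (IsLocalRing.maximalIdeal R : Set R)) :=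
    Module.Finite.of_restrictScalars_finite R _ _
  exact isArtinian_of_powerTorsion_of_finite (IsLocalRing.maximalIdeal R)
    (IsNoetherian.noetherian _) hpt

/-- Every endomorphism of `E(k)` acts on `E[m^n]` as a scalar. -/
theorem exists_scalar_on_pow (hf : IsInjectiveHull f) (φ : E →ₗ[R] E) (n : ℕ) :
    ∃ r : R, ∀ x ∈ Submodule.torsionBySet R E ((IsLocalRing.maximalIdeal R) ^ n : Ideal R),
      φ x = r • x := by
  obtain ⟨r, hr⟩ := exists_scalar_of_finiteLength hf _ (isFiniteLength_quot_pow n)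
    (φ ∘ₗ (Submodule.torsionBySet R E ((IsLocalRing.maximalIdeal R) ^ n : Ideal R)).subtype)
  exact ⟨r, fun x hx => hr ⟨x, hx⟩⟩

theorem mem_pow_of_smul_eq_zero (hf : IsInjectiveHull f) (n : ℕ) (r : R)
    (h : ∀ x ∈ Submodule.torsionBySet R E ((IsLocalRing.maximalIdeal R) ^ n : Ideal R),
      r • x = 0) : r ∈ (IsLocalRing.maximalIdeal R) ^ n :=
  mem_of_smul_torsionBySet_eq_zero hf _ (isFiniteLength_quot_pow n) r h

theorem exists_mem_torsionBySet_pow (hf : IsInjectiveHull f) (x : E) :
    ∃ n : ℕ, x ∈ Submodule.torsionBySet R E ((IsLocalRing.maximalIdeal R) ^ n : Ideal R) := by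
  obtain ⟨n, hn⟩ := powerTorsion_of_hull _ hf x
  refine ⟨n, ?_⟩
  rw [Submodule.mem_torsionBySet_iff]
  rintro ⟨a, ha⟩
  exact hn a ha

/-- **Complete case**: every endomorphism of `E(k)` is multiplication by a ring element. -/
theorem exists_smul_eq_of_complete [IsAdicComplete (IsLocalRing.maximalIdeal R) R]
    (hf : IsInjectiveHull f) (φ : E →ₗ[R] E) : ∃ r : R, ∀ x : E, φ x = r • x := by
  choose s hs using exists_scalar_on_pow hf φ
  have hmono : ∀ {a b : ℕ}, a ≤ b →
      Submodule.torsionBySet R E ((IsLocalRing.maximalIdeal R) ^ a : Ideal R) ≤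
      Submodule.torsionBySet R E ((IsLocalRing.maximalIdeal R) ^ b : Ideal R) := by
    intro a b hab x hx
    rw [Submodule.mem_torsionBySet_iff] at hx ⊢
    rintro ⟨c, hc⟩
    exact hx ⟨c, Ideal.pow_le_pow_right hab hc⟩
  have hcauchy : ∀ {a b : ℕ}, a ≤ b → s a ≡ s b
      [SMOD ((IsLocalRing.maximalIdeal R) ^ a • ⊤ : Submodule R R)] := by
    intro a b hab
    rw [SModEq.sub_mem, smul_eq_mul, Ideal.mul_top]
    refine mem_pow_of_smul_eq_zero hf a _ (fun x hx => ?_)
    rw [sub_smul, ← hs a x hx, ← hs b x (hmono hab hx), sub_self]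
  obtain ⟨L, hL⟩ := IsPrecomplete.prec' (I := IsLocalRing.maximalIdeal R) s hcauchy
  refine ⟨L, fun x => ?_⟩
  obtain ⟨n, hn⟩ := exists_mem_torsionBySet_pow hf x
  have h1 := hL n
  rw [SModEq.sub_mem, smul_eq_mul, Ideal.mul_top] at h1
  have h2 : (s n - L) • x = 0 := (Submodule.mem_torsionBySet_iff _ _).mp hn ⟨_, h1⟩
  rw [hs n x hn]
  rw [sub_smul, sub_eq_zero] at h2
  exact h2

end Scalar

section CompleteDuality

variable {R : Type u} [CommRing R] [IsLocalRing R] [IsNoetherianRing R]
  [IsAdicComplete (IsLocalRing.maximalIdeal R) R]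
variable {E : Type u} [AddCommGroup E] [Module R E]
  {f : (R ⧸ IsLocalRing.maximalIdeal R) →ₗ[R] E}

/-- Every linear map `E^n → E` is `Σ rᵢ • projᵢ` (complete case). -/
theorem exists_eq_sum_smul_proj (hf : IsInjectiveHull f) {n : ℕ} (θ : (Fin n → E) →ₗ[R] E) :
    ∃ r : Fin n → R, ∀ w : Fin n → E, θ w = ∑ i, r i • w i := by
  choose r hr using fun i : Fin n =>
    exists_smul_eq_of_complete hf (θ ∘ₗ LinearMap.single R (fun _ : Fin n => E) i)
  refine ⟨r, fun w => ?_⟩
  conv_lhs => rw [← Finset.univ_sum_single w]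
  rw [map_sum]
  refine Finset.sum_congr rfl fun i _ => ?_
  exact hr i (w i)

/-- The evaluation map `E^n → DD(E^n)` is surjective (complete case). -/
theorem eval_surjective_pi (hf : IsInjectiveHull f) (n : ℕ) :
    Function.Surjective
      (LinearMap.applyₗ : (Fin n → E) →ₗ[R] ((Fin n → E) →ₗ[R] E) →ₗ[R] E) := by
  intro ζ
  refine ⟨fun i => ζ (LinearMap.proj i), ?_⟩
  ext θ
  obtain ⟨r, hr⟩ := exists_eq_sum_smul_proj hf θ
  have hθ : θ = ∑ i, r i • (LinearMap.proj i : (Fin n → E) →ₗ[R] E) := by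
    refine LinearMap.ext fun w => ?_
    rw [hr w, LinearMap.sum_apply]
    rfl
  rw [LinearMap.applyₗ_apply_apply, hr]
  conv_rhs => rw [hθ, map_sum]
  refine Finset.sum_congr rfl fun i _ => ?_
  rw [map_smul]

/-- The evaluation map `R^n → DD(R^n)` is surjective (complete case). -/
theorem eval_surjective_free (hf : IsInjectiveHull f) (n : ℕ) :
    Function.Surjective
      (LinearMap.applyₗ : (Fin n → R) →ₗ[R] ((Fin n → R) →ₗ[R] E) →ₗ[R] E) := by
  intro η
  let Θ : Fin n → E →ₗ[R] ((Fin n → R) →ₗ[R] E) := fun i =>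
    (LinearMap.lcomp R E (LinearMap.proj i : (Fin n → R) →ₗ[R] R)) ∘ₗ
      (LinearMap.ringLmapEquivSelf R R E).symm.toLinearMap
  have hΘ : ∀ i x w, Θ i x w = w i • x := by
    intro i x w
    simp [Θ]
  choose v hv using fun i : Fin n => exists_smul_eq_of_complete hf (η ∘ₗ Θ i)
  refine ⟨v, ?_⟩
  ext θ
  have hθ : θ = ∑ i, Θ i (θ (Pi.single i 1)) := by
    refine LinearMap.ext fun w => ?_
    rw [LinearMap.sum_apply]
    conv_lhs => rw [← Finset.univ_sum_single w, map_sum]
    refine Finset.sum_congr rfl fun i _ => ?_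
    rw [hΘ, ← map_smul]
    congr 1
    rw [← Pi.single_smul, smul_eq_mul, mul_one]
  rw [LinearMap.applyₗ_apply_apply]
  conv_rhs => rw [hθ, map_sum]
  conv_lhs => rw [← Finset.univ_sum_single v, map_sum]
  refine Finset.sum_congr rfl fun i _ => ?_
  have := hv i (θ (Pi.single i 1))
  rw [LinearMap.comp_apply] at this
  rw [this, ← map_smul]
  congr 1
  rw [← Pi.single_smul, smul_eq_mul, mul_one]

/-- **S0316**: Matlis duality for finite modules over a complete local ring. -/
theorem eval_bijective_of_finite (hf : IsInjectiveHull f) (M : Type u) [AddCommGroup M]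
    [Module R M] [Module.Finite R M] :
    Function.Bijective (LinearMap.applyₗ : M →ₗ[R] (M →ₗ[R] E) →ₗ[R] E) := by
  haveI := hf.isInjective
  refine ⟨eval_injective hf M, fun ξ => ?_⟩
  obtain ⟨n, π, hπ⟩ := Module.Finite.exists_fin' R M
  have hinj : Function.Injective (LinearMap.lcomp R E π) := by
    intro φ ψ h
    ext y
    obtain ⟨z, rfl⟩ := hπ y
    exact LinearMap.congr_fun h z
  obtain ⟨η, hη⟩ := Module.Injective.extension_property R E _ _ (LinearMap.lcomp R E π) hinj ξ
  obtain ⟨v, hv⟩ := eval_surjective_free hf n η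
  refine ⟨π v, ?_⟩
  ext θ
  rw [LinearMap.applyₗ_apply_apply, ← hη, LinearMap.comp_apply, ← hv,
    LinearMap.applyₗ_apply_apply]
  rfl

omit [IsAdicComplete (IsLocalRing.maximalIdeal R) R] in
theorem exists_embedding_of_isArtinian' (hf : IsInjectiveHull f) (M : Type u) [AddCommGroup M]
    [Module R M] [IsArtinian R M] : ∃ (n : ℕ) (g : M →ₗ[R] (Fin n → E)), Function.Injective g := by
  haveI := finite_socle_of_isArtinian (R := R) M
  exact ⟨_, exists_embedding_pi hf (powerTorsion_of_isArtinian M) _ rfl⟩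

theorem finite_dual_of_isArtinian (hf : IsInjectiveHull f) (M : Type u) [AddCommGroup M]
    [Module R M] [IsArtinian R M] : Module.Finite R (M →ₗ[R] E) := by
  haveI := hf.isInjective
  obtain ⟨n, g, hg⟩ := exists_embedding_of_isArtinian' hf M
  -- `R^n → Hom(E^n, E) → Hom(M, E)` is surjective
  let P : (Fin n → R) →ₗ[R] ((Fin n → E) →ₗ[R] E) :=
    { toFun := fun r => ∑ i, r i • (LinearMap.proj i : (Fin n → E) →ₗ[R] E)
      map_add' := fun r s => by
        simp only [Pi.add_apply, add_smul, Finset.sum_add_distrib]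
      map_smul' := fun c r => by
        simp only [Pi.smul_apply, smul_eq_mul, mul_smul, RingHom.id_apply, Finset.smul_sum] }
  refine Module.Finite.of_surjective ((LinearMap.lcomp R E g) ∘ₗ P) ?_
  intro ψ
  obtain ⟨θ, hθ⟩ := Module.Injective.extension_property R E _ _ g hg ψ
  obtain ⟨r, hr⟩ := exists_eq_sum_smul_proj hf θ
  refine ⟨r, ?_⟩
  rw [← hθ]
  ext x
  change (∑ i, r i • (LinearMap.proj i : (Fin n → E) →ₗ[R] E)) (g x) = θ (g x)
  rw [hr, LinearMap.sum_apply]
  rfl

/-- **S0317**, biduality for Artinian modules over a complete local ring. -/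
theorem eval_bijective_of_isArtinian (hf : IsInjectiveHull f) (M : Type u) [AddCommGroup M]
    [Module R M] [IsArtinian R M] :
    Function.Bijective (LinearMap.applyₗ : M →ₗ[R] (M →ₗ[R] E) →ₗ[R] E) := by
  haveI := hf.isInjective
  haveI : IsArtinian R E := isArtinian_of_hull _ hf
  refine ⟨eval_injective hf M, fun ξ => ?_⟩
  obtain ⟨n, g, hg⟩ := exists_embedding_of_isArtinian' hf M
  obtain ⟨m, h, hh⟩ := exists_embedding_of_isArtinian' hf ((Fin n → E) ⧸ LinearMap.range g)
  obtain ⟨y, hy⟩ := eval_surjective_pi hf n (ξ ∘ₗ LinearMap.lcomp R E g)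
  have hy' : ∀ θ : (Fin n → E) →ₗ[R] E, θ y = ξ (θ ∘ₗ g) := by
    intro θ
    have := LinearMap.congr_fun hy θ
    rw [LinearMap.applyₗ_apply_apply] at this
    rw [this]
    rfl
  -- `y` lies in the range of `g`
  have hyr : y ∈ LinearMap.range g := by
    rw [← Submodule.Quotient.mk_eq_zero]
    apply hh
    rw [map_zero]
    by_contra hne
    obtain ⟨θ', hθ'⟩ := exists_hom_apply_ne_zero f hf.injective hne
    apply hθ'
    have h1 := hy' (θ' ∘ₗ h ∘ₗ (LinearMap.range g).mkQ)
    rw [LinearMap.comp_apply, LinearMap.comp_apply, Submodule.mkQ_apply] at h1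
    rw [h1]
    have h0 : (θ' ∘ₗ h ∘ₗ (LinearMap.range g).mkQ) ∘ₗ g = 0 := by
      ext x
      have hx0 : (Submodule.Quotient.mk (g x) : (Fin n → E) ⧸ LinearMap.range g) = 0 :=
        (Submodule.Quotient.mk_eq_zero (LinearMap.range g)).mpr ⟨x, rfl⟩
      rw [LinearMap.comp_apply, LinearMap.comp_apply, LinearMap.comp_apply, Submodule.mkQ_apply,
        hx0, map_zero, map_zero]
      rfl
    rw [h0, map_zero]
  obtain ⟨x, rfl⟩ := hyr
  refine ⟨x, ?_⟩
  ext ψ
  obtain ⟨θ, hθ⟩ := Module.Injective.extension_property R E _ _ g hg ψ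
  rw [LinearMap.applyₗ_apply_apply, ← hθ, ← hy' θ]
  rfl

end CompleteDuality

section EndCompletion

variable {R : Type u} [CommRing R] [IsLocalRing R] [IsNoetherianRing R]
variable {E : Type u} [AddCommGroup E] [Module R E]
  {f : (R ⧸ IsLocalRing.maximalIdeal R) →ₗ[R] E}

local notation "𝔪" => IsLocalRing.maximalIdeal R

/-- The scalar in `R/m^n` by which an endomorphism acts on `E[m^n]`. -/
noncomputable def endScalar (hf : IsInjectiveHull f) (n : ℕ) (φ : Module.End R E) : R ⧸ 𝔪 ^ n :=
  Ideal.Quotient.mk (𝔪 ^ n) (Classical.choose (exists_scalar_on_pow hf φ n))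

theorem endScalar_eq (hf : IsInjectiveHull f) (n : ℕ) (φ : Module.End R E) (r : R)
    (hr : ∀ x ∈ Submodule.torsionBySet R E (𝔪 ^ n : Ideal R), φ x = r • x) :
    endScalar hf n φ = Ideal.Quotient.mk (𝔪 ^ n) r := by
  have hs := Classical.choose_spec (exists_scalar_on_pow hf φ n)
  unfold endScalar
  rw [Ideal.Quotient.eq]
  refine mem_pow_of_smul_eq_zero hf n _ (fun x hx => ?_)
  rw [sub_smul, ← hs x hx, ← hr x hx, sub_self]

theorem endScalar_spec (hf : IsInjectiveHull f) (n : ℕ) (φ : Module.End R E) (r : R)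
    (hr : endScalar hf n φ = Ideal.Quotient.mk (𝔪 ^ n) r) :
    ∀ x ∈ Submodule.torsionBySet R E (𝔪 ^ n : Ideal R), φ x = r • x := by
  have hs := Classical.choose_spec (exists_scalar_on_pow hf φ n)
  unfold endScalar at hr
  rw [Ideal.Quotient.eq] at hr
  intro x hx
  rw [hs x hx]
  have := (Submodule.mem_torsionBySet_iff _ _).mp hx ⟨_, hr⟩
  rw [sub_smul, sub_eq_zero] at this
  exact this

/-- `endScalar` as a ring homomorphism. -/
noncomputable def endScalarHom (hf : IsInjectiveHull f) (n : ℕ) : Module.End R E →+* R ⧸ 𝔪 ^ n where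
  toFun := endScalar hf n
  map_one' := by
    rw [← map_one (Ideal.Quotient.mk (𝔪 ^ n))]
    exact endScalar_eq hf n 1 1 (fun x _ => by simp)
  map_mul' := fun φ ψ => by
    obtain ⟨r, hr⟩ := Ideal.Quotient.mk_surjective (endScalar hf n φ)
    obtain ⟨s, hs⟩ := Ideal.Quotient.mk_surjective (endScalar hf n ψ)
    rw [← hr, ← hs, ← map_mul]
    refine endScalar_eq hf n _ _ (fun x hx => ?_)
    rw [Module.End.mul_apply, endScalar_spec hf n ψ s hs.symm x hx, map_smul,
      endScalar_spec hf n φ r hr.symm x hx, smul_smul, mul_comm]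
  map_zero' := by
    rw [← map_zero (Ideal.Quotient.mk (𝔪 ^ n))]
    exact endScalar_eq hf n 0 0 (fun x _ => by simp)
  map_add' := fun φ ψ => by
    obtain ⟨r, hr⟩ := Ideal.Quotient.mk_surjective (endScalar hf n φ)
    obtain ⟨s, hs⟩ := Ideal.Quotient.mk_surjective (endScalar hf n ψ)
    rw [← hr, ← hs, ← map_add]
    refine endScalar_eq hf n _ _ (fun x hx => ?_)
    rw [LinearMap.add_apply, endScalar_spec hf n ψ s hs.symm x hx,
      endScalar_spec hf n φ r hr.symm x hx, add_smul]

theorem torsionBySet_pow_mono {a b : ℕ} (hab : a ≤ b) :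
    Submodule.torsionBySet R E (𝔪 ^ a : Ideal R) ≤ Submodule.torsionBySet R E (𝔪 ^ b : Ideal R) := by
  intro x hx
  rw [Submodule.mem_torsionBySet_iff] at hx ⊢
  rintro ⟨c, hc⟩
  exact hx ⟨c, Ideal.pow_le_pow_right hab hc⟩

theorem endScalarHom_compat (hf : IsInjectiveHull f) {a b : ℕ} (hab : a ≤ b) :
    (Ideal.Quotient.factorPow 𝔪 hab).comp (endScalarHom hf b) = endScalarHom hf a := by
  ext φ
  obtain ⟨r, hr⟩ := Ideal.Quotient.mk_surjective (endScalar hf b φ)
  change Ideal.Quotient.factorPow 𝔪 hab (endScalar hf b φ) = endScalar hf a φ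
  rw [← hr]
  symm
  refine (endScalar_eq hf a φ r (fun x hx => ?_)).trans ?_
  · exact endScalar_spec hf b φ r hr.symm x (torsionBySet_pow_mono hab hx)
  · rfl

/-- The ring homomorphism `End(E) → R^`. -/
noncomputable def endToCompletion (hf : IsInjectiveHull f) :
    Module.End R E →+* AdicCompletion 𝔪 R :=
  AdicCompletion.liftRingHom 𝔪 (endScalarHom hf) (fun hab => endScalarHom_compat hf hab)

theorem evalₐ_endToCompletion (hf : IsInjectiveHull f) (n : ℕ) (φ : Module.End R E) :
    AdicCompletion.evalₐ 𝔪 n (endToCompletion hf φ) = endScalar hf n φ :=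
  AdicCompletion.evalₐ_liftRingHom 𝔪 (endScalarHom hf)
    (fun hab => endScalarHom_compat hf hab) n φ

theorem endToCompletion_injective (hf : IsInjectiveHull f) :
    Function.Injective (endToCompletion hf) := by
  rw [injective_iff_map_eq_zero]
  intro φ hφ
  ext x
  obtain ⟨n, hn⟩ := exists_mem_torsionBySet_pow hf x
  have h1 : endScalar hf n φ = Ideal.Quotient.mk (𝔪 ^ n) 0 := by
    rw [← evalₐ_endToCompletion, hφ, map_zero, map_zero]
  rw [endScalar_spec hf n φ 0 h1 x hn, zero_smul, LinearMap.zero_apply]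

theorem endToCompletion_surjective (hf : IsInjectiveHull f) :
    Function.Surjective (endToCompletion hf) := by
  intro z
  obtain ⟨s, rfl⟩ := AdicCompletion.mk_surjective 𝔪 R z
  have hcauchy : ∀ {a b : ℕ}, a ≤ b → s b - s a ∈ 𝔪 ^ a := by
    intro a b hab
    have := s.property hab
    rw [SModEq.sub_mem, smul_eq_mul, Ideal.mul_top] at this
    rw [← neg_sub]
    exact Ideal.neg_mem_iff _ |>.mpr this
  -- index of an element
  choose N hN using exists_mem_torsionBySet_pow hf (E := E)
  have hwd : ∀ (x : E) (n : ℕ), x ∈ Submodule.torsionBySet R E (𝔪 ^ n : Ideal R) →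
      s (N x) • x = s n • x := by
    intro x n hx
    rcases le_total (N x) n with h | h
    · have := (Submodule.mem_torsionBySet_iff _ _).mp (hN x) ⟨_, hcauchy h⟩
      rw [sub_smul, sub_eq_zero] at this
      exact this.symm
    · have := (Submodule.mem_torsionBySet_iff _ _).mp hx ⟨_, hcauchy h⟩
      rw [sub_smul, sub_eq_zero] at this
      exact this
  let φ : Module.End R E :=
    { toFun := fun x => s (N x) • x
      map_add' := fun x y => by
        have hx := torsionBySet_pow_mono (E := E) (le_max_left (N x) (N y)) (hN x)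
        have hy := torsionBySet_pow_mono (E := E) (le_max_right (N x) (N y)) (hN y)
        change s (N (x + y)) • (x + y) = s (N x) • x + s (N y) • y
        rw [hwd (x + y) _ (Submodule.add_mem _ hx hy), hwd x _ hx, hwd y _ hy, smul_add]
      map_smul' := fun c x => by
        change s (N (c • x)) • (c • x) = c • (s (N x) • x)
        rw [hwd (c • x) _ (Submodule.smul_mem _ c (hN x)), smul_comm] }
  refine ⟨φ, ?_⟩
  apply AdicCompletion.ext_evalₐ
  intro n
  rw [evalₐ_endToCompletion, AdicCompletion.evalₐ_mk]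
  exact endScalar_eq hf n φ _ (fun x hx => hwd x n hx)

/-- **S0313**: `End_R(E(k)) ≅ R^` as `R`-algebras. -/
theorem nonempty_end_algEquiv_completion (hf : IsInjectiveHull f) :
    Nonempty (Module.End R E ≃ₐ[R] AdicCompletion 𝔪 R) := by
  let Φ : Module.End R E →ₐ[R] AdicCompletion 𝔪 R :=
    { endToCompletion hf with
      commutes' := fun a => by
        apply AdicCompletion.ext_evalₐ
        intro n
        change AdicCompletion.evalₐ 𝔪 n (endToCompletion hf (algebraMap R (Module.End R E) a)) = _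
        rw [evalₐ_endToCompletion, AlgHom.commutes]
        exact endScalar_eq hf n _ a (fun x _ => rfl) }
  exact ⟨AlgEquiv.ofBijective Φ ⟨endToCompletion_injective hf, endToCompletion_surjective hf⟩⟩

end EndCompletion

end IH

end Groth.Agent.H6
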