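import Mathlib
import Groth.Agent.Lib.Helper2.ProjDimOpen
import Groth.Agent.Lib.Helper1.RegGlobal

universe u
open CategoryTheory

namespace Groth.Agent.H6.PdReg

/-- the Mathlib localized module (shrunk) is isomorphic to the plain one -/
noncomputable def locIso {A : Type u} [CommRing A] (M : Type u) [AddCommGroup M] [Module A M]
    (S : Submonoid A) :
    (ModuleCat.of A M).localizedModule S ≅ ModuleCat.of (Localization S) (LocalizedModule S M) :=
  (Shrink.linearEquiv (Localization S) (LocalizedModule S M)).toModuleIso

theorem hasProjectiveDimensionLE_of_forall {A : Type u} [CommRing A] [IsNoetherianRing A]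
    (M : Type u) [AddCommGroup M] [Module A M] [Module.Finite A M] (n : ℕ)
    (h : ∀ p : PrimeSpectrum A, projectiveDimension (ModuleCat.of (Localization.AtPrime p.asIdeal)
      (LocalizedModule p.asIdeal.primeCompl M)) ≤ n) :
    HasProjectiveDimensionLE (ModuleCat.of A M) n := by
  haveI : Module.Finite A (ModuleCat.of A M) := ‹Module.Finite A M›
  rw [ModuleCat.hasProjectiveDimensionLE_iff_forall_primeSpectrum]
  intro p
  have h1 := h p
  rw [projectiveDimension_le_iff] at h1
  exact hasProjectiveDimensionLT_of_iso (locIso M p.asIdeal.primeCompl).symm _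

theorem exists_bound (A : Type u) [CommRing A] [IsRegularRing A] (M : Type u) [AddCommGroup M]
    [Module A M] [Module.Finite A M] : ∃ d : ℕ, HasProjectiveDimensionLE (ModuleCat.of A M) d := by
  let U : ℕ → Set (PrimeSpectrum A) := fun n => {p | projectiveDimension
    (ModuleCat.of (Localization.AtPrime p.asIdeal) (LocalizedModule p.asIdeal.primeCompl M)) ≤ n}
  have hopen : ∀ n, IsOpen (U n) := fun n => Groth.Agent.H2.isOpen_projectiveDimension_le A n M
  have hmono : Monotone U := by
    intro a b hab p hp
    have hp' : projectiveDimension (ModuleCat.of (Localization.AtPrime p.asIdeal)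
      (LocalizedModule p.asIdeal.primeCompl M)) ≤ a := hp
    exact le_trans hp' (by exact_mod_cast hab)
  have hcover : (Set.univ : Set (PrimeSpectrum A)) ⊆ ⋃ n, U n := by
    intro p _
    haveI : IsRegularLocalRing (Localization.AtPrime p.asIdeal) :=
      IsRegularRing.isRegularLocalRing_localization p.asIdeal
    obtain ⟨d, hd⟩ : ∃ d : ℕ, ringKrullDim (Localization.AtPrime p.asIdeal) = d :=
      ⟨_, (IsRegularLocalRing.spanFinrank_maximalIdeal
        (R := Localization.AtPrime p.asIdeal)).symm⟩
    rw [Set.mem_iUnion]
    refine ⟨d, ?_⟩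
    change projectiveDimension _ ≤ _
    rw [projectiveDimension_le_iff]
    exact Groth.Agent.H1.Reg.hasProjectiveDimensionLT_of_isRegularLocalRing _ d hd _
  obtain ⟨N, hN⟩ := isCompact_univ.elim_directed_cover U hopen hcover
    (Monotone.directed_le hmono)
  exact ⟨N, hasProjectiveDimensionLE_of_forall M N (fun p => hN (Set.mem_univ p))⟩

end Groth.Agent.H6.PdReg
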