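import Mathlib
import Groth.Prelude.Def_CohDer

/-! # Maps into coproducts factoring through finite sub-sums: abstract lemmas -/

universe w v u
open CategoryTheory Limits Pretriangulated

namespace Groth.Agent.H6.Cpt

section Preadditive

variable {D : Type u} [Category.{v} D] [Preadditive D] {I : Type w}

/-- every map from `Z` into the point of the cofan is a finite sum of maps through components -/
def SurjF (Z : D) {X : I → D} (c : Cofan X) : Prop :=
  ∀ y : Z ⟶ c.pt, ∃ (s : Finset I) (x : ∀ i, Z ⟶ X i), y = ∑ i ∈ s, x i ≫ c.inj i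

/-- a finite sum of maps through components vanishes only if all summands vanish -/
def InjF (Z : D) {X : I → D} (c : Cofan X) : Prop :=
  ∀ (s : Finset I) (x : ∀ i, Z ⟶ X i), ∑ i ∈ s, x i ≫ c.inj i = 0 → ∀ i ∈ s, x i = 0

lemma injF_of_retractions (Z : D) {X : I → D} (c : Cofan X) (r : ∀ j, c.pt ⟶ X j)
    (hr : ∀ j, c.inj j ≫ r j = 𝟙 _) (hr' : ∀ i j, i ≠ j → c.inj i ≫ r j = 0) : InjF Z c := by
  intro s x hx j hj
  have h := congrArg (fun g => g ≫ r j) hx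
  simp only [Preadditive.sum_comp, Category.assoc, zero_comp] at h
  rw [Finset.sum_eq_single j] at h
  · rwa [hr, Category.comp_id] at h
  · intro i _ hij
    rw [hr' i j hij, comp_zero]
  · intro h'
    exact (h' hj).elim

lemma exists_retractions {X : I → D} {c : Cofan X} (hc : IsColimit c) :
    ∃ r : ∀ j, c.pt ⟶ X j, (∀ j, c.inj j ≫ r j = 𝟙 _) ∧ ∀ i j, i ≠ j → c.inj i ≫ r j = 0 := by
  classical
  refine ⟨fun j => Cofan.IsColimit.desc hc
    (fun i => if h : i = j then eqToHom (by rw [h]) else 0), ?_, ?_⟩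
  · intro j
    rw [Cofan.IsColimit.fac]
    simp
  · intro i j hij
    rw [Cofan.IsColimit.fac]
    simp [hij]

lemma injF_of_isColimit (Z : D) {X : I → D} {c : Cofan X} (hc : IsColimit c) : InjF Z c := by
  obtain ⟨r, hr, hr'⟩ := exists_retractions hc
  exact injF_of_retractions Z c r hr hr'

lemma surjF_of_iso (Z : D) {X X' : I → D} {c : Cofan X} {c' : Cofan X'} (ε : ∀ i, X i ≅ X' i)
    (e : c.pt ≅ c'.pt) (he : ∀ i, c.inj i ≫ e.hom = (ε i).hom ≫ c'.inj i) (h : SurjF Z c) :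
    SurjF Z c' := by
  intro y
  obtain ⟨s, x, hx⟩ := h (y ≫ e.inv)
  refine ⟨s, fun i => x i ≫ (ε i).hom, ?_⟩
  have h1 : y = (y ≫ e.inv) ≫ e.hom := by
    rw [Category.assoc, e.inv_hom_id, Category.comp_id]
  rw [h1, hx, Preadditive.sum_comp]
  refine Finset.sum_congr rfl (fun i _ => ?_)
  rw [Category.assoc, he, Category.assoc]

lemma surjF_of_subsingleton (Z : D) {X : I → D} (c : Cofan X) (h : Subsingleton (Z ⟶ c.pt)) :
    SurjF Z c := by
  intro y
  exact ⟨∅, fun _ => 0, by rw [Finset.sum_empty]; exact Subsingleton.elim _ _⟩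

open Classical in
lemma homSumToHomCoprod_of (Z : D) {I : Type v} (M : I → D) [HasCoproduct M] (i : I)
    (a : Z ⟶ M i) :
    CohDer.homSumToHomCoprod Z M (DirectSum.of (fun i => Z ⟶ M i) i a) = a ≫ Sigma.ι M i := by
  unfold CohDer.homSumToHomCoprod
  rw [DirectSum.toAddMonoid_of]
  rfl

open Classical in
lemma homSumToHomCoprod_eq_sum (Z : D) {I : Type v} (M : I → D) [HasCoproduct M]
    (x : DirectSum I (fun i => Z ⟶ M i)) :
    CohDer.homSumToHomCoprod Z M x = ∑ k ∈ DFinsupp.support x, x k ≫ Sigma.ι M k := by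
  unfold CohDer.homSumToHomCoprod
  simp only [DirectSum.toAddMonoid, DFinsupp.liftAddHom, AddEquiv.coe_mk]
  exact DFinsupp.sumAddHom_apply _ x

open Classical in
theorem bijective_homSumToHomCoprod (Z : D) {I : Type v} (M : I → D) [HasCoproduct M]
    (hS : SurjF Z (Cofan.mk (∐ M) (Sigma.ι M))) :
    Function.Bijective (CohDer.homSumToHomCoprod Z M) := by
  constructor
  · rw [injective_iff_map_eq_zero]
    intro x hx
    rw [homSumToHomCoprod_eq_sum] at hx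
    have hI : InjF Z (Cofan.mk (∐ M) (Sigma.ι M)) := injF_of_isColimit Z (coproductIsCoproduct M)
    have h0 := hI (DFinsupp.support x) (fun k => x k) hx
    apply DFinsupp.ext
    intro j
    by_cases hj : j ∈ DFinsupp.support x
    · exact h0 j hj
    · exact DFinsupp.notMem_support_iff.1 hj
  · intro y
    obtain ⟨s, x, hx⟩ := hS y
    refine ⟨∑ i ∈ s, DirectSum.of (fun i => Z ⟶ M i) i (x i), ?_⟩
    rw [map_sum, hx]
    refine Finset.sum_congr rfl (fun i _ => ?_)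
    exact homSumToHomCoprod_of Z M i (x i)

end Preadditive

section Triangulated

variable {D : Type u} [Category.{v} D] [Preadditive D] [HasZeroObject D] [HasShift D ℤ]
  [∀ n : ℤ, (shiftFunctor D n).Additive] [Pretriangulated D] {I : Type w}

theorem surjF_of_triangles (Z : D) {X₁ X₂ X₃ : I → D}
    (c₁ : Cofan X₁) (c₂ : Cofan X₂) (c₃ : Cofan X₃)
    (u : ∀ i, X₁ i ⟶ X₂ i) (v : ∀ i, X₂ i ⟶ X₃ i) (w : ∀ i, X₃ i ⟶ (X₁ i)⟦(1 : ℤ)⟧)
    (hT : ∀ i, Triangle.mk (u i) (v i) (w i) ∈ distTriang D)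
    (u' : c₁.pt ⟶ c₂.pt) (v' : c₂.pt ⟶ c₃.pt) (w' : c₃.pt ⟶ c₁.pt⟦(1 : ℤ)⟧)
    (hT' : Triangle.mk u' v' w' ∈ distTriang D)
    (hu : ∀ i, c₁.inj i ≫ u' = u i ≫ c₂.inj i) (hv : ∀ i, c₂.inj i ≫ v' = v i ≫ c₃.inj i)
    (hw : ∀ i, c₃.inj i ≫ w' = w i ≫ (c₁.inj i)⟦(1 : ℤ)⟧')
    (h₁ : SurjF Z c₁) (h₃ : SurjF Z c₃)
    (h₁' : InjF Z (Cofan.mk (c₁.pt⟦(1 : ℤ)⟧) (fun i => (c₁.inj i)⟦(1 : ℤ)⟧'))) :
    SurjF Z c₂ := by
  intro y
  obtain ⟨s, t, ht⟩ := h₃ (y ≫ v')
  have h0 : ∑ i ∈ s, (t i ≫ w i) ≫ (c₁.inj i)⟦(1 : ℤ)⟧' = 0 := by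
    have h00 : (y ≫ v') ≫ w' = 0 := by
      have h23 : v' ≫ w' = 0 := comp_distTriang_mor_zero₂₃ _ hT'
      rw [Category.assoc, h23, comp_zero]
    rw [ht, Preadditive.sum_comp] at h00
    rw [← h00]
    refine Finset.sum_congr rfl (fun i _ => ?_)
    rw [Category.assoc, Category.assoc, hw]
  have h1 := h₁' s (fun i => t i ≫ w i) h0
  have hk : ∀ i, ∃ k : Z ⟶ X₂ i, i ∈ s → t i = k ≫ v i := by
    intro i
    by_cases hi : i ∈ s
    · obtain ⟨k, hk⟩ := Triangle.coyoneda_exact₃ _ (hT i) (t i) (h1 i hi)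
      exact ⟨k, fun _ => hk⟩
    · exact ⟨0, fun h => (hi h).elim⟩
  choose k hk using hk
  have h2 : (y - ∑ i ∈ s, k i ≫ c₂.inj i) ≫ v' = 0 := by
    rw [Preadditive.sub_comp, Preadditive.sum_comp, ht, sub_eq_zero]
    refine Finset.sum_congr rfl (fun i hi => ?_)
    rw [Category.assoc, hv, ← Category.assoc, ← hk i hi]
  obtain ⟨σ, hσ⟩ : ∃ σ : Z ⟶ c₁.pt, y - ∑ i ∈ s, k i ≫ c₂.inj i = σ ≫ u' :=
    Triangle.coyoneda_exact₂ _ hT' _ h2
  obtain ⟨s', x, hx⟩ := h₁ σ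
  classical
  refine ⟨s ∪ s', fun i => (if i ∈ s then k i else 0) + (if i ∈ s' then x i ≫ u i else 0), ?_⟩
  have e1 : ∑ i ∈ s ∪ s', (if i ∈ s then k i else 0) ≫ c₂.inj i = ∑ i ∈ s, k i ≫ c₂.inj i := by
    rw [← Finset.sum_subset Finset.subset_union_left]
    · refine Finset.sum_congr rfl (fun i hi => ?_)
      rw [if_pos hi]
    · intro i _ hi
      rw [if_neg hi, zero_comp]
  have e2 : ∑ i ∈ s ∪ s', (if i ∈ s' then x i ≫ u i else 0) ≫ c₂.inj i =
      ∑ i ∈ s', (x i ≫ u i) ≫ c₂.inj i := by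
    rw [← Finset.sum_subset Finset.subset_union_right]
    · refine Finset.sum_congr rfl (fun i hi => ?_)
      rw [if_pos hi]
    · intro i _ hi
      rw [if_neg hi, zero_comp]
  have e3 : σ ≫ u' = ∑ i ∈ s', (x i ≫ u i) ≫ c₂.inj i := by
    rw [hx, Preadditive.sum_comp]
    refine Finset.sum_congr rfl (fun i _ => ?_)
    rw [Category.assoc, hu, Category.assoc]
  simp only [Preadditive.add_comp, Finset.sum_add_distrib]
  rw [e1, e2, ← e3, ← hσ]
  abel

end Triangulated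

end Groth.Agent.H6.Cpt
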