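import Mathlib
import Groth.Agent.H4.Dim

set_option autoImplicit false
open scoped TensorProduct

/-!
# Relative Noether normalisation over a DVR with prescribed perturbations (helper6)
-/

namespace Groth.Agent.H6.RelNN

universe u

/-! ### Dimension under integral injective maps -/

theorem ringKrullDim_le_of_isIntegral_injective {A B : Type*} [CommRing A] [CommRing B]
    (f : A →+* B) (hf : f.IsIntegral) (hinj : Function.Injective f) :
    ringKrullDim A ≤ ringKrullDim B := by
  rw [← PrimeSpectrum.topologicalKrullDim_eq_ringKrullDim A,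
    ← PrimeSpectrum.topologicalKrullDim_eq_ringKrullDim B]
  exact Groth.Agent.H4.Spec.topologicalKrullDim_le_of_specializingMap
    (PrimeSpectrum.continuous_comap f) (hf.comap_surjective hinj)
    (PrimeSpectrum.isClosedMap_comap_of_isIntegral f hf).specializingMap

theorem isIntegralElem_pow {A B : Type*} [CommRing A] [CommRing B] (f : A →+* B) {x : B}
    (hx : f.IsIntegralElem x) (k : ℕ) : f.IsIntegralElem (x ^ k) := by
  induction k with
  | zero => rw [pow_zero, ← map_one f]; exact f.isIntegralElem_map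
  | succ k ih => rw [pow_succ]; exact RingHom.IsIntegralElem.mul f ih hx

/-! ### Digits -/

theorem wt_inj_aux {U : ℕ} (hU : 1 < U) : ∀ {n : ℕ} (v w : Fin (n + 1) → ℕ), (∀ i, v i < U) →
    (∀ i, w i < U) →
    ∑ i : Fin (n + 1), U ^ (i : ℕ) * v i = ∑ i : Fin (n + 1), U ^ (i : ℕ) * w i → v = w := by
  intro n
  induction n with
  | zero =>
    intro v w _ _ h
    funext i
    have hi : i = 0 := Fin.ext (by have := i.2; simp only [Fin.val_zero]; omega)
    subst hi
    simpa using h
  | succ n ih =>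
    intro v w vlt wlt h
    have e : ∀ u : Fin (n + 1 + 1) → ℕ, ∑ i : Fin (n + 1 + 1), U ^ (i : ℕ) * u i
        = u 0 + U * ∑ j : Fin (n + 1), U ^ (j : ℕ) * u j.succ := by
      intro u
      rw [Fin.sum_univ_succ, Finset.mul_sum]
      simp only [Fin.val_zero, pow_zero, one_mul, Fin.val_succ, pow_succ', mul_assoc]
    rw [e v, e w] at h
    have h0 : v 0 = w 0 := by
      have := congrArg (· % U) h
      simp only [Nat.add_mul_mod_self_left] at this
      rwa [Nat.mod_eq_of_lt (vlt 0), Nat.mod_eq_of_lt (wlt 0)] at this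
    rw [h0] at h
    have h1 := Nat.eq_of_mul_eq_mul_left (by omega : 0 < U) (Nat.add_left_cancel h)
    have h2 := ih (fun j => v j.succ) (fun j => w j.succ) (fun j => vlt _) (fun j => wlt _) h1
    funext i
    exact Fin.cases h0 (fun j => congrFun h2 j) i

theorem wt_inj {n U : ℕ} (hU : 1 < U) (v w : Fin (n + 1) → ℕ) (vlt : ∀ i, v i < U)
    (wlt : ∀ i, w i < U)
    (h : ∑ i : Fin (n + 1), U ^ (i : ℕ) * v i = ∑ i : Fin (n + 1), U ^ (i : ℕ) * w i) :
    v = w := wt_inj_aux hU v w vlt wlt h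

/-! ### The monic polynomial attached to a monomial -/

section Core

variable {F : Type*} [Field F] {n : ℕ}

/-- weight of a monomial -/
def wt (U : ℕ) (v : Fin (n + 1) → ℕ) : ℕ := ∑ i : Fin (n + 1), U ^ (i : ℕ) * v i

/-- the monic polynomial in `F[X₁..Xₙ][T]` obtained from the monomial `v` by `Z₀ ↦ T`,
`Z_{j+1} ↦ X_j + T^{U^{j+1}}`. -/
noncomputable def Tm (F : Type*) [Field F] {n : ℕ} (U : ℕ) (v : Fin (n + 1) → ℕ) :
    Polynomial (MvPolynomial (Fin n) F) :=
  Polynomial.X ^ v 0 * ∏ j : Fin n,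
    (Polynomial.X ^ U ^ ((j : ℕ) + 1) + Polynomial.C (MvPolynomial.X j)) ^ v j.succ

theorem fac_monic {U : ℕ} (hU : 0 < U) (j : Fin n) :
    (Polynomial.X ^ U ^ ((j : ℕ) + 1) + Polynomial.C (MvPolynomial.X j) :
      Polynomial (MvPolynomial (Fin n) F)).Monic :=
  Polynomial.monic_X_pow_add_C _ (pow_ne_zero _ hU.ne')

theorem Tm_monic {U : ℕ} (hU : 0 < U) (v : Fin (n + 1) → ℕ) : (Tm F U v).Monic := by
  unfold Tm
  exact (Polynomial.monic_X_pow _).mul
    (Polynomial.monic_prod_of_monic _ _ fun j _ => (fac_monic hU j).pow _)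

theorem Tm_natDegree {U : ℕ} (hU : 0 < U) (v : Fin (n + 1) → ℕ) :
    (Tm F U v).natDegree = wt U v := by
  unfold Tm wt
  rw [Polynomial.Monic.natDegree_mul (Polynomial.monic_X_pow _)
    (Polynomial.monic_prod_of_monic _ _ fun j _ => (fac_monic hU j).pow _),
    Polynomial.natDegree_X_pow,
    Polynomial.natDegree_prod_of_monic _ _ (fun j _ => (fac_monic hU j).pow _),
    Fin.sum_univ_succ]
  simp only [Fin.val_zero, pow_zero, one_mul, Fin.val_succ]
  congr 1
  refine Finset.sum_congr rfl fun j _ => ?_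
  rw [(fac_monic hU j).natDegree_pow, Polynomial.natDegree_X_pow_add_C, mul_comm]

theorem Tm_eval {S : Type*} [CommRing S] [Algebra F S] (s : Fin (n + 1) → S) (U : ℕ)
    (v : Fin (n + 1) → ℕ) :
    Polynomial.eval₂ (MvPolynomial.aeval (fun j : Fin n => s j.succ - s 0 ^ U ^ ((j : ℕ) + 1)) :
      MvPolynomial (Fin n) F →ₐ[F] S).toRingHom (s 0) (Tm F U v)
      = ∏ i : Fin (n + 1), s i ^ v i := by
  unfold Tm
  rw [Polynomial.eval₂_mul, Polynomial.eval₂_finsetProd, Fin.prod_univ_succ,
    Polynomial.eval₂_pow, Polynomial.eval₂_X]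
  congr 1
  refine Finset.prod_congr rfl fun j _ => ?_
  rw [Polynomial.eval₂_pow, Polynomial.eval₂_add, Polynomial.eval₂_pow, Polynomial.eval₂_X,
    Polynomial.eval₂_C]
  congr 1
  simp only [AlgHom.toRingHom_eq_coe, RingHom.coe_coe, MvPolynomial.aeval_X]
  ring

/-- **Core lemma**: after the substitution `s'_j = s_{j+1} - s_0^{U^{j+1}}`, `s_0` becomes
integral over `F[s']`. -/
theorem core {S : Type*} [CommRing S] [Algebra F S] (s : Fin (n + 1) → S)
    (g : MvPolynomial (Fin (n + 1)) F) (hg : g ≠ 0) (hgs : MvPolynomial.aeval s g = 0)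
    (U : ℕ) (hU : 1 < U) (hdeg : ∀ v ∈ g.support, ∀ i, v i < U) :
    (MvPolynomial.aeval (fun j : Fin n => s j.succ - s 0 ^ U ^ ((j : ℕ) + 1)) :
      MvPolynomial (Fin n) F →ₐ[F] S).toRingHom.IsIntegralElem (s 0) := by
  classical
  have hU0 : 0 < U := by omega
  obtain ⟨vs, hvs, hmax⟩ := Finset.exists_max_image g.support (fun v => wt U v)
    (MvPolynomial.support_nonempty.mpr hg)
  have hlt : ∀ v ∈ g.support, v ≠ vs → wt U v < wt U vs := by
    intro v hv hne
    refine lt_of_le_of_ne (hmax v hv) fun h => hne ?_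
    exact DFunLike.coe_injective (wt_inj hU _ _ (hdeg v hv) (hdeg vs hvs) h)
  set c := MvPolynomial.coeff vs g with hc
  have hc0 : c ≠ 0 := MvPolynomial.mem_support_iff.mp hvs
  refine ⟨Tm F U vs + ∑ v ∈ g.support.erase vs,
    (MvPolynomial.C (c⁻¹ * MvPolynomial.coeff v g) : MvPolynomial (Fin n) F) • Tm F U v, ?_, ?_⟩
  · refine (Tm_monic hU0 vs).add_of_left ?_
    rw [Polynomial.degree_eq_natDegree (Tm_monic hU0 vs).ne_zero, Tm_natDegree hU0]
    refine (Polynomial.degree_sum_le _ _).trans_lt ?_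
    rw [Finset.sup_lt_iff (WithBot.bot_lt_coe _)]
    intro v hv
    rw [Finset.mem_erase] at hv
    refine (Polynomial.degree_smul_le _ _).trans_lt ?_
    rw [Polynomial.degree_eq_natDegree (Tm_monic hU0 v).ne_zero, Tm_natDegree hU0]
    exact_mod_cast hlt v hv.2 hv.1
  · have key : (∏ i, s i ^ vs i) + ∑ v ∈ g.support.erase vs,
        algebraMap F S (c⁻¹ * MvPolynomial.coeff v g) * ∏ i, s i ^ v i
        = algebraMap F S c⁻¹ * MvPolynomial.aeval s g := by
      rw [MvPolynomial.aeval_def, MvPolynomial.eval₂_eq', Finset.mul_sum,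
        ← Finset.add_sum_erase _ _ hvs]
      congr 1
      · rw [← mul_assoc, ← map_mul, inv_mul_cancel₀ hc0, map_one, one_mul]
      · refine Finset.sum_congr rfl fun v _ => ?_
        rw [map_mul, mul_assoc]
    rw [Polynomial.eval₂_add, Polynomial.eval₂_finsetSum, Tm_eval]
    simp only [Polynomial.eval₂_smul, Tm_eval]
    simp only [AlgHom.toRingHom_eq_coe, RingHom.coe_coe, MvPolynomial.aeval_C]
    rw [key, hgs, mul_zero]

/-- **Field step**: integrality is preserved by the elimination of `s 0`. -/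
theorem step_field {S : Type*} [CommRing S] [Algebra F S] (s : Fin (n + 1) → S)
    (g : MvPolynomial (Fin (n + 1)) F) (hg : g ≠ 0) (hgs : MvPolynomial.aeval s g = 0)
    (U : ℕ) (hU : 1 < U) (hdeg : ∀ v ∈ g.support, ∀ i, v i < U)
    (hint : (MvPolynomial.aeval s : MvPolynomial (Fin (n + 1)) F →ₐ[F] S).toRingHom.IsIntegral) :
    (MvPolynomial.aeval (fun j : Fin n => s j.succ - s 0 ^ U ^ ((j : ℕ) + 1)) :
      MvPolynomial (Fin n) F →ₐ[F] S).toRingHom.IsIntegral := by
  set φ' : MvPolynomial (Fin n) F →+* S :=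
    (MvPolynomial.aeval (fun j : Fin n => s j.succ - s 0 ^ U ^ ((j : ℕ) + 1)) :
      MvPolynomial (Fin n) F →ₐ[F] S).toRingHom with hφ'
  have h0 : φ'.IsIntegralElem (s 0) := core s g hg hgs U hU hdeg
  have hall : ∀ i, φ'.IsIntegralElem (s i) := by
    intro i
    refine Fin.cases h0 (fun j => ?_) i
    have e : s j.succ = φ' (MvPolynomial.X j) + s 0 ^ U ^ ((j : ℕ) + 1) := by
      simp only [hφ', AlgHom.toRingHom_eq_coe, RingHom.coe_coe, MvPolynomial.aeval_X]
      ring
    rw [e]
    exact RingHom.IsIntegralElem.add φ' φ'.isIntegralElem_map (isIntegralElem_pow φ' h0 _)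
  have himg : ∀ z : MvPolynomial (Fin (n + 1)) F, φ'.IsIntegralElem (MvPolynomial.aeval s z) := by
    intro z
    induction z using MvPolynomial.induction_on with
    | C a =>
      have e : MvPolynomial.aeval s (MvPolynomial.C a : MvPolynomial (Fin (n + 1)) F)
          = φ' (MvPolynomial.C a) := by
        simp only [hφ', AlgHom.toRingHom_eq_coe, RingHom.coe_coe, MvPolynomial.aeval_C]
      rw [e]
      exact φ'.isIntegralElem_map
    | add p q hp hq => rw [map_add]; exact RingHom.IsIntegralElem.add φ' hp hq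
    | mul_X p i hp =>
      rw [map_mul, MvPolynomial.aeval_X]
      exact RingHom.IsIntegralElem.mul φ' hp (hall i)
  intro t
  letI : Algebra (MvPolynomial (Fin n) F) S := φ'.toAlgebra
  let Cl : Subalgebra (MvPolynomial (Fin n) F) S := integralClosure (MvPolynomial (Fin n) F) S
  obtain ⟨q, hq, hqe⟩ := hint t
  let ψ : MvPolynomial (Fin (n + 1)) F →+* Cl :=
    (MvPolynomial.aeval s : MvPolynomial (Fin (n + 1)) F →ₐ[F] S).toRingHom.codRestrict Cl
      (fun z => himg z)
  have hcomp : (algebraMap Cl S).comp ψ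
      = (MvPolynomial.aeval s : MvPolynomial (Fin (n + 1)) F →ₐ[F] S).toRingHom :=
    RingHom.ext fun z => rfl
  have ht : IsIntegral Cl t := by
    refine ⟨q.map ψ, hq.map ψ, ?_⟩
    rw [Polynomial.eval₂_map, hcomp]
    exact hqe
  exact isIntegral_trans (R := MvPolynomial (Fin n) F) (A := Cl) t ht

end Core

/-! ### Integrality over a base change -/

section Rel

variable (V : Type u) [CommRing V] (R : Type u) [CommRing R] [Algebra V R]

/-- `A[T₁,…,T_m] → A ⊗_V R`, `T_j ↦ 1 ⊗ s_j`, is integral. -/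
def IntOver (A : Type*) [CommRing A] [Algebra V A] {m : ℕ} (s : Fin m → R) : Prop :=
  (MvPolynomial.aeval (fun j => (1 : A) ⊗ₜ[V] s j) :
    MvPolynomial (Fin m) A →ₐ[A] A ⊗[V] R).toRingHom.IsIntegral

variable {V R}

theorem aeval_one_tmul (A : Type*) [CommRing A] [Algebra V A] {m : ℕ} (s : Fin m → R)
    (g : MvPolynomial (Fin m) V) :
    MvPolynomial.aeval (fun j => (1 : A) ⊗ₜ[V] s j) (MvPolynomial.map (algebraMap V A) g)
      = (1 : A) ⊗ₜ[V] MvPolynomial.aeval s g := by
  rw [MvPolynomial.aeval_map_algebraMap]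
  exact (MvPolynomial.comp_aeval_apply (f := s)
    (Algebra.TensorProduct.includeRight : R →ₐ[V] A ⊗[V] R) g).symm

theorem intOver_of_adjoin (A : Type*) [CommRing A] [Algebra V A] {m : ℕ} (s : Fin m → R)
    (hgen : ∀ r : R, r ∈ Algebra.adjoin V (Set.range s)) : IntOver V R A s := by
  set Φ : MvPolynomial (Fin m) A →ₐ[A] A ⊗[V] R :=
    MvPolynomial.aeval (fun j => (1 : A) ⊗ₜ[V] s j) with hΦ
  have h1 : Algebra.adjoin V (Set.range s) ≤ (Φ.range.restrictScalars V).comap
      (Algebra.TensorProduct.includeRight : R →ₐ[V] A ⊗[V] R) := by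
    refine Algebra.adjoin_le ?_
    rintro _ ⟨j, rfl⟩
    exact ⟨MvPolynomial.X j, MvPolynomial.aeval_X _ _⟩
  have hsurj : Function.Surjective Φ := by
    intro t
    induction t using TensorProduct.induction_on with
    | zero => exact ⟨0, map_zero _⟩
    | tmul a r =>
      have hr : (1 : A) ⊗ₜ[V] r ∈ Φ.range := h1 (hgen r)
      have e : a ⊗ₜ[V] r = a • ((1 : A) ⊗ₜ[V] r) := by
        rw [TensorProduct.smul_tmul', smul_eq_mul, mul_one]
      rw [e]
      exact Φ.range.smul_mem hr a
    | add x y hx hy => exact Φ.range.add_mem hx hy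
  intro t
  obtain ⟨p, rfl⟩ := hsurj t
  exact RingHom.isIntegralElem_map _

theorem finite_of_intOver [Algebra.FiniteType V R] (A : Type*) [CommRing A] [Algebra V A] {m : ℕ}
    (s : Fin m → R) (h : IntOver V R A s) :
    (MvPolynomial.aeval (fun j => (1 : A) ⊗ₜ[V] s j) :
      MvPolynomial (Fin m) A →ₐ[A] A ⊗[V] R).toRingHom.Finite := by
  refine RingHom.IsIntegral.to_finite h ?_
  refine RingHom.FiniteType.of_comp_finiteType (f := algebraMap A (MvPolynomial (Fin m) A)) ?_
  have e : ((MvPolynomial.aeval (fun j => (1 : A) ⊗ₜ[V] s j) :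
      MvPolynomial (Fin m) A →ₐ[A] A ⊗[V] R).toRingHom.comp
        (algebraMap A (MvPolynomial (Fin m) A))) = algebraMap A (A ⊗[V] R) :=
    RingHom.ext fun a => by
      rw [RingHom.comp_apply]
      exact AlgHom.commutes _ a
  rw [e, RingHom.finiteType_algebraMap]
  infer_instance

theorem IntOver.step {A : Type*} [Field A] [Algebra V A] {n : ℕ} (s : Fin (n + 1) → R)
    (g : MvPolynomial (Fin (n + 1)) V) (hgs : MvPolynomial.aeval s g = 0)
    (hgA : MvPolynomial.map (algebraMap V A) g ≠ 0)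
    (U : ℕ) (hU : 1 < U) (hdeg : ∀ v ∈ g.support, ∀ i, v i < U)
    (h : IntOver V R A s) :
    IntOver V R A (fun j : Fin n => s j.succ - s 0 ^ U ^ ((j : ℕ) + 1)) := by
  have key := step_field (F := A) (S := A ⊗[V] R) (fun i => (1 : A) ⊗ₜ[V] s i)
    (MvPolynomial.map (algebraMap V A) g) hgA
    (by rw [aeval_one_tmul, hgs, TensorProduct.tmul_zero])
    U hU (fun v hv i => hdeg v (MvPolynomial.support_map_subset _ _ hv) i) h
  have e : (fun j : Fin n => (1 : A) ⊗ₜ[V] (s j.succ - s 0 ^ U ^ ((j : ℕ) + 1)))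
      = fun j : Fin n => (1 : A) ⊗ₜ[V] s j.succ - ((1 : A) ⊗ₜ[V] s 0) ^ U ^ ((j : ℕ) + 1) := by
    funext j
    rw [TensorProduct.tmul_sub, Algebra.TensorProduct.tmul_pow, one_pow]
  unfold IntOver
  rw [e]
  exact key

section DVR

variable [IsDomain V] [IsDiscreteValuationRing V] [Module.Flat V R]

attribute [local instance] MvPolynomial.algebraMvPolynomial in
/-- existence of a relation which is nonzero modulo the uniformiser -/
theorem exists_rel {m d : ℕ} (hdm : d < m)
    (hη : ringKrullDim (FractionRing V ⊗[V] R) ≤ d) (s : Fin m → R)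
    (hint : IntOver V R (FractionRing V) s) :
    ∃ g : MvPolynomial (Fin m) V, MvPolynomial.aeval s g = 0 ∧
      MvPolynomial.map (algebraMap V (IsLocalRing.ResidueField V)) g ≠ 0 := by
  classical
  set Φ : MvPolynomial (Fin m) (FractionRing V) →ₐ[FractionRing V] FractionRing V ⊗[V] R :=
    MvPolynomial.aeval (fun j => (1 : FractionRing V) ⊗ₜ[V] s j) with hΦ
  have hni : ¬ Function.Injective Φ.toRingHom := by
    intro hinj
    have h1 := ringKrullDim_le_of_isIntegral_injective Φ.toRingHom hint hinj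
    rw [MvPolynomial.ringKrullDim_of_isNoetherianRing, ringKrullDim_eq_zero_of_field, zero_add,
      Nat.card_eq_fintype_card, Fintype.card_fin] at h1
    have h2 := h1.trans hη
    have : m ≤ d := by exact_mod_cast h2
    omega
  rw [injective_iff_map_eq_zero] at hni
  push Not at hni
  obtain ⟨G, hG0, hGne⟩ := hni
  obtain ⟨⟨g₀, ⟨c, hc⟩⟩, h⟩ := IsLocalization.surj
    ((nonZeroDivisors V).map (MvPolynomial.C (σ := Fin m))) G
  obtain ⟨b, hb, rfl⟩ := hc
  simp only [MvPolynomial.algebraMap_def, MvPolynomial.map_C] at h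
  have hb0 : algebraMap V (FractionRing V) b ≠ 0 :=
    (map_ne_zero_iff _ (IsFractionRing.injective V (FractionRing V))).mpr
      (nonZeroDivisors.ne_zero hb)
  have hg₀ : g₀ ≠ 0 := by
    rintro rfl
    rw [map_zero] at h
    rcases mul_eq_zero.mp h with h' | h'
    · exact hGne h'
    · exact hb0 (MvPolynomial.C_injective (Fin m) (FractionRing V) (h'.trans (map_zero _).symm))
  have hs₀ : MvPolynomial.aeval s g₀ = 0 := by
    apply Algebra.TensorProduct.includeRight_injective (R := V) (A := FractionRing V) (B := R)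
      (IsFractionRing.injective V (FractionRing V))
    rw [map_zero]
    have e1 := aeval_one_tmul (FractionRing V) s g₀
    rw [← h, map_mul] at e1
    have hG0' : MvPolynomial.aeval (fun j => (1 : FractionRing V) ⊗ₜ[V] s j) G = 0 := hG0
    rw [hG0', zero_mul] at e1
    exact e1.symm
  obtain ⟨ϖ, hϖ⟩ := IsDiscreteValuationRing.exists_irreducible V
  have hnu : ¬ IsUnit (MvPolynomial.C ϖ : MvPolynomial (Fin m) V) := by
    intro hu
    have := hu.map (MvPolynomial.constantCoeff (σ := Fin m) (R := V))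
    rw [MvPolynomial.constantCoeff_C] at this
    exact hϖ.not_isUnit this
  obtain ⟨e, g, hndvd, hge⟩ := WfDvdMonoid.max_power_factor' hg₀ hnu
  refine ⟨g, ?_, ?_⟩
  · have h3 : (algebraMap V R ϖ) ^ e * MvPolynomial.aeval s g = 0 := by
      rw [← hs₀, hge, map_mul, map_pow, MvPolynomial.aeval_C]
    have hreg : IsSMulRegular R (ϖ ^ e) := Module.Flat.isSMulRegular_of_nonZeroDivisors
      (mem_nonZeroDivisors_of_ne_zero (pow_ne_zero _ hϖ.ne_zero))
    apply hreg
    show ϖ ^ e • MvPolynomial.aeval s g = ϖ ^ e • (0 : R)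
    rw [smul_zero, Algebra.smul_def, map_pow]
    exact h3
  · intro h0
    apply hndvd
    rw [MvPolynomial.C_dvd_iff_map_hom_eq_zero (algebraMap V (IsLocalRing.ResidueField V)) ϖ _ g]
    · exact h0
    · intro r'
      rw [IsLocalRing.ResidueField.algebraMap_eq, IsLocalRing.residue_eq_zero_iff,
        hϖ.maximalIdeal_eq, Ideal.mem_span_singleton]

theorem step_V {n d : ℕ} (hdn : d ≤ n)
    (hη : ringKrullDim (FractionRing V ⊗[V] R) ≤ d) (N : ℕ) (hN : 1 ≤ N) (s : Fin (n + 1) → R)
    (hK : IntOver V R (FractionRing V) s) (hk : IntOver V R (IsLocalRing.ResidueField V) s) :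
    ∃ c : ℕ,
      IntOver V R (FractionRing V)
        (fun j : Fin n => s j.succ - s 0 ^ (N * c) ^ ((j : ℕ) + 1)) ∧
      IntOver V R (IsLocalRing.ResidueField V)
        (fun j : Fin n => s j.succ - s 0 ^ (N * c) ^ ((j : ℕ) + 1)) := by
  obtain ⟨g, hgs, hgk⟩ := exists_rel (V := V) (R := R) (Nat.lt_succ_of_le hdn) hη s hK
  have hg0 : g ≠ 0 := fun h => hgk (by rw [h, map_zero])
  have hgK : MvPolynomial.map (algebraMap V (FractionRing V)) g ≠ 0 :=
    (map_ne_zero_iff _ (MvPolynomial.map_injective _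
      (IsFractionRing.injective V (FractionRing V)))).mpr hg0
  refine ⟨2 + g.totalDegree, ?_⟩
  have hle : 2 + g.totalDegree ≤ N * (2 + g.totalDegree) := Nat.le_mul_of_pos_left _ hN
  have hU : 1 < N * (2 + g.totalDegree) := lt_of_lt_of_le (by omega) hle
  have hdeg : ∀ v ∈ g.support, ∀ i, v i < N * (2 + g.totalDegree) := by
    intro v hv i
    have h1 := (MvPolynomial.monomial_le_degreeOf i hv).trans
      (MvPolynomial.degreeOf_le_totalDegree g i)
    exact lt_of_lt_of_le (by omega) hle
  exact ⟨IntOver.step s g hgs hgK _ hU hdeg hK, IntOver.step s g hgs hgk _ hU hdeg hk⟩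

theorem elim (d : ℕ) (hη : ringKrullDim (FractionRing V ⊗[V] R) ≤ d) (N : ℕ) (hN : 1 ≤ N) :
    ∀ (m : ℕ) (hdm : d ≤ m) (s : Fin m → R), IntOver V R (FractionRing V) s →
      IntOver V R (IsLocalRing.ResidueField V) s →
      ∃ f : Fin d → R,
        (∀ i : Fin d, f i - s ⟨m - d + i, by have := i.2; omega⟩ ∈
          Subring.closure (Set.range fun r : R => r ^ N)) ∧
        IntOver V R (FractionRing V) f ∧ IntOver V R (IsLocalRing.ResidueField V) f := by
  intro m
  induction m with
  | zero =>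
    intro hdm s hK hk
    obtain rfl : d = 0 := by omega
    exact ⟨s, fun i => i.elim0, hK, hk⟩
  | succ n ih =>
    intro hdm s hK hk
    by_cases hd : d = n + 1
    · subst hd
      refine ⟨s, fun i => ?_, hK, hk⟩
      have e : (⟨n + 1 - (n + 1) + i, by have := i.2; omega⟩ : Fin (n + 1)) = i :=
        Fin.ext (by simp)
      rw [e, sub_self]
      exact Subring.zero_mem _
    · have hdn : d ≤ n := by omega
      obtain ⟨c, hK', hk'⟩ := step_V hdn hη N hN s hK hk
      obtain ⟨f, hf, hfK, hfk⟩ := ih hdn _ hK' hk'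
      refine ⟨f, fun i => ?_, hfK, hfk⟩
      have hi := i.2
      have h1 : f i - (s (⟨n - d + i, by omega⟩ : Fin n).succ
          - s 0 ^ (N * c) ^ (n - d + (i : ℕ) + 1)) ∈
          Subring.closure (Set.range fun r : R => r ^ N) := hf i
      have e : (⟨n - d + i, by omega⟩ : Fin n).succ
          = (⟨n + 1 - d + i, by omega⟩ : Fin (n + 1)) :=
        Fin.ext (by simp only [Fin.succ_mk]; omega)
      have e2 : f i - s ⟨n + 1 - d + i, by omega⟩
          = (f i - (s (⟨n - d + i, by omega⟩ : Fin n).succ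
            - s 0 ^ (N * c) ^ (n - d + (i : ℕ) + 1)))
            - s 0 ^ (N * c) ^ (n - d + (i : ℕ) + 1) := by
        rw [e]; ring
      rw [e2]
      refine Subring.sub_mem _ h1 ?_
      rw [show (N * c) ^ (n - d + (i : ℕ) + 1) = (c * (N * c) ^ (n - d + (i : ℕ))) * N by ring,
        pow_mul]
      exact Subring.subset_closure ⟨_, rfl⟩

end DVR

end Rel

/-- **Relative Noether normalisation over a DVR with perturbations by `N`-th powers.** -/
theorem main (V : Type u) [CommRing V] [IsDomain V] [IsDiscreteValuationRing V] (R : Type u)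
    [CommRing R] [Algebra V R] [Module.Flat V R] [Algebra.FiniteType V R] (d : ℕ)
    (hη : ringKrullDim (FractionRing V ⊗[V] R) ≤ d) (x : Fin d → R) (N : ℕ) (hN : 1 ≤ N) :
    ∃ y : Fin d → R, (∀ i, y i ∈ Subring.closure (Set.range fun r : R => r ^ N)) ∧
      (MvPolynomial.aeval (fun i => (1 : IsLocalRing.ResidueField V) ⊗ₜ[V] (x i + y i)) :
          MvPolynomial (Fin d) (IsLocalRing.ResidueField V) →ₐ[IsLocalRing.ResidueField V]
            IsLocalRing.ResidueField V ⊗[V] R).toRingHom.Finite ∧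
      (MvPolynomial.aeval (fun i => (1 : FractionRing V) ⊗ₜ[V] (x i + y i)) :
          MvPolynomial (Fin d) (FractionRing V) →ₐ[FractionRing V]
            FractionRing V ⊗[V] R).toRingHom.Finite := by
  classical
  obtain ⟨t, ht⟩ := (Algebra.FiniteType.out : (⊤ : Subalgebra V R).FG)
  let z : Fin t.card → R := fun j => (t.equivFin.symm j : R)
  let s : Fin (t.card + d) → R := Fin.append z x
  have hgen : ∀ r : R, r ∈ Algebra.adjoin V (Set.range s) := by
    intro r
    have hr : r ∈ Algebra.adjoin V (t : Set R) := by rw [ht]; exact Algebra.mem_top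
    refine Algebra.adjoin_mono ?_ hr
    intro a ha
    refine ⟨Fin.castAdd d (t.equivFin ⟨a, ha⟩), ?_⟩
    simp [s, z]
  obtain ⟨f, hf, hfK, hfk⟩ := elim d hη N hN (t.card + d) (Nat.le_add_left d t.card) s
    (intOver_of_adjoin _ s hgen) (intOver_of_adjoin _ s hgen)
  have e : ∀ i, x i + (f i - x i) = f i := fun i => by ring
  refine ⟨fun i => f i - x i, fun i => ?_, ?_, ?_⟩
  · have h1 := hf i
    have e1 : (⟨t.card + d - d + i, by have := i.2; omega⟩ : Fin (t.card + d))
        = Fin.natAdd t.card i := Fin.ext (by simp)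
    have e2 : s ⟨t.card + d - d + i, by have := i.2; omega⟩ = x i := by
      rw [e1]; exact Fin.append_right z x i
    rwa [e2] at h1
  · simp only [e]
    exact finite_of_intOver _ f hfk
  · simp only [e]
    exact finite_of_intOver _ f hfK

end Groth.Agent.H6.RelNN
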