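import Mathlib
import Groth.Prelude.Def_Wider
import Groth.Agent.Lib.Helper6.ReflKer

/-! Local depth and quotients by regular elements; Serre's conditions for quotients. -/

universe u
set_option linter.style.haveILetI false
open CategoryTheory CategoryTheory.Limits Opposite CategoryTheory.Abelian
open scoped Pointwise

namespace Groth.Agent.H6

namespace Depth

variable {R : Type u} [CommRing R] [IsNoetherianRing R]

/-- converse of `locDepthGE_quotSMulTop` -/
theorem locDepthGE_succ_of_quotSMulTop (N : Type u) [AddCommGroup N] [Module R N]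
    (p : Ideal R) [hp : p.IsPrime] (k : ℕ) (x : R) (hx : x ∈ p) (hreg : IsSMulRegular N x)
    (h : LocDepthGE (QuotSMulTop x N) p k) : LocDepthGE N p (k + 1) := by
  have hreg' : IsSMulRegular (ModuleCat.of R N) x := hreg
  have hS := hreg'.smulShortComplex_shortExact
  have hf : ∀ (j : ℕ) (y : LocCoh.H p j N),
      ((localCohomology p j).map ((ModuleCat.of R N).smulShortComplex x).f).hom y = x • y := by
    intro j y
    rw [ModuleCat.smulShortComplex_f_eq_smul_id]
    exact LC.map_smul_id x y
  intro i hi
  rw [LocalizedModule.subsingleton_iff]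
  cases i with
  | zero =>
    intro z
    refine ⟨1, Submonoid.one_mem _, ?_⟩
    rw [one_smul]
    apply LC.zeroToSelf_injective (ModuleCat.of R N)
    rw [map_zero]
    obtain ⟨m, hm⟩ := LC.zeroToSelf_mem (I := p) (ModuleCat.of R N) z
    have h1 := hm (x ^ m) (Ideal.pow_mem_pow hx m)
    exact (hreg.pow m) (h1.trans (smul_zero _).symm)
  | succ j =>
    have hj := h j (by omega)
    rw [LocalizedModule.subsingleton_iff] at hj
    have key : ∀ (m : ℕ) (z : LocCoh.H p (j + 1) N), x ^ m • z = 0 →
        ∃ r ∈ p.primeCompl, r • z = 0 := by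
      intro m
      induction m with
      | zero =>
        intro z hz
        rw [pow_zero, one_smul] at hz
        exact ⟨1, Submonoid.one_mem _, by rw [hz, smul_zero]⟩
      | succ m ih =>
        intro z hz
        rw [pow_succ', mul_smul, ← hf] at hz
        obtain ⟨w, hw⟩ := LC.exact₁ hS (x ^ m • z) hz
        obtain ⟨s, hs, hsw⟩ := hj w
        have h3 : s • (LC.δ hS p j w) = 0 := by
          rw [← map_smul]
          exact (congrArg (LC.δ hS p j) hsw).trans (map_zero _)
        rw [hw] at h3
        have h2 : x ^ m • (s • z) = 0 := by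
          rw [smul_comm]
          exact h3
        obtain ⟨t, ht, htz⟩ := ih (s • z) h2
        exact ⟨t * s, Submonoid.mul_mem _ ht hs, by rw [mul_smul]; exact htz⟩
    intro z
    obtain ⟨m, hm⟩ := LC.isPowerTorsion p (j + 1) (ModuleCat.of R N) z
    exact key m z (hm _ (Ideal.pow_mem_pow hx m))

/-- local depth at least one iff the prime is not associated -/
theorem locDepthGE_one_of_not_mem_associatedPrimes (N : Type u) [AddCommGroup N] [Module R N]
    [Module.Finite R N] (p : Ideal R) [hp : p.IsPrime] (h : p ∉ associatedPrimes R N) :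
    LocDepthGE N p 1 := by
  haveI : IsNoetherianRing (Localization.AtPrime p) :=
    IsLocalization.isNoetherianRing p.primeCompl _ inferInstance
  haveI : Module.Finite (Localization.AtPrime p) (LocalizedModule p.primeCompl N) :=
    Module.Finite.of_isLocalizedModule p.primeCompl
      (LocalizedModule.mkLinearMap p.primeCompl N)
  rw [locDepthGE_iff]
  unfold LocCoh.depth
  rw [Nat.cast_one, one_le_idealDepth_iff, subsingleton_H_zero_iff]
  by_contra hT
  obtain ⟨Q, hQ, hle⟩ := CM.exists_ass_ge_of_torsionSub_ne_bot _ _ hT
  have hQp : Q.IsPrime := hQ.isPrime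
  have hQm : Q = IsLocalRing.maximalIdeal (Localization.AtPrime p) :=
    ((IsLocalRing.maximalIdeal.isMaximal _).eq_of_le hQp.ne_top hle).symm
  rw [hQm] at hQ
  have h1 := Module.associatedPrimes.comap_mem_associatedPrimes_of_mem_associatedPrimes_of_isLocalizedModule_of_fg
    p.primeCompl (LocalizedModule.mkLinearMap p.primeCompl N) _ hQ
    (IsNoetherian.noetherian _)
  have h2 : Ideal.comap (algebraMap R (Localization.AtPrime p))
      (IsLocalRing.maximalIdeal (Localization.AtPrime p)) = p :=
    IsLocalization.AtPrime.under_maximalIdeal (Localization.AtPrime p) p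
  rw [h2] at h1
  exact h h1

end Depth

namespace Sk

variable {R : Type u} [CommRing R]

theorem supportDim_localizedModule_self (p : Ideal R) [p.IsPrime] :
    Module.supportDim (Localization.AtPrime p) (LocalizedModule p.primeCompl R) =
      ((p.height : ℕ∞) : WithBot ℕ∞) := by
  have e : LocalizedModule p.primeCompl R ≃ₗ[Localization.AtPrime p] Localization.AtPrime p :=
    (IsLocalizedModule.iso p.primeCompl
      (Algebra.linearMap R (Localization.AtPrime p))).extendScalarsOfIsLocalization p.primeCompl
        (Localization.AtPrime p)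
  rw [Module.supportDim_eq_of_equiv e, Module.supportDim_self_eq_ringKrullDim,
    IsLocalization.AtPrime.ringKrullDim_eq_height p (Localization.AtPrime p)]

/-- `(S_2)` for Noetherian domains in terms of associated primes of principal ideals -/
theorem hasSk_two_domain_iff [IsDomain R] [IsNoetherianRing R] :
    LocCoh.HasSk 2 R R ↔
      ∀ a : R, a ≠ 0 → ∀ P : Ideal R, P ∈ associatedPrimes R (R ⧸ Ideal.span {a}) →
        P.height = 1 := by
  have hequiv : ∀ a : R, Nonempty ((R ⧸ Ideal.span {a}) ≃ₗ[R] QuotSMulTop a R) := by
    intro a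
    have h : Ideal.span {a} = a • (⊤ : Ideal R) := by
      simp [← Submodule.ideal_span_singleton_smul]
    exact ⟨Submodule.quotEquivOfEq _ _ h⟩
  have hreg : ∀ a : R, a ≠ 0 → IsSMulRegular R a := by
    intro a ha x y hxy
    exact mul_left_cancel₀ ha hxy
  rw [hasSk_iff]
  constructor
  · intro h a ha P hP
    haveI : P.IsPrime := hP.isPrime
    obtain ⟨e⟩ := hequiv a
    have haP : a ∈ P := by
      have h1 := CM.annihilator_le_of_mem_associatedPrimes hP
      rw [Ideal.annihilator_quotient] at h1
      exact h1 (Ideal.mem_span_singleton_self a)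
    have h1 : 1 ≤ P.height := by
      rw [ENat.one_le_iff_ne_zero]
      intro h0
      rw [Ideal.height_eq_zero_iff_eq_bot] at h0
      rw [h0] at haP
      exact ha ((Ideal.mem_bot).mp haP)
    by_contra hne
    have h2 : (2 : ℕ∞) ≤ P.height := by
      have hlt : 1 < P.height := lt_of_le_of_ne h1 (Ne.symm hne)
      have := Order.add_one_le_of_lt hlt
      exact_mod_cast this
    have h3 := h P 2 le_rfl (by
      rw [supportDim_localizedModule_self]
      have hc : ((2 : ℕ) : WithBot ℕ∞) = ((2 : ℕ∞) : WithBot ℕ∞) := rfl
      rw [hc]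
      exact WithBot.coe_le_coe.mpr h2)
    have h4 := Depth.locDepthGE_quotSMulTop R P 1 a (hreg a ha) h3
    have h5 := Depth.not_mem_associatedPrimes_of_locDepthGE (QuotSMulTop a R) P h4
    rw [← LinearEquiv.AssociatedPrimes.eq e] at h5
    exact h5 hP
  · intro h p _ j hj2 hj
    rw [supportDim_localizedModule_self] at hj
    have hj' : (j : ℕ∞) ≤ p.height := by
      have : (((j : ℕ) : ℕ∞) : WithBot ℕ∞) ≤ ((p.height : ℕ∞) : WithBot ℕ∞) := hj
      exact WithBot.coe_le_coe.mp this
    rcases Nat.eq_zero_or_pos j with rfl | hjpos
    · intro i hi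
      omega
    · have hpne : p ≠ ⊥ := by
        intro hp0
        rw [← Ideal.height_eq_zero_iff_eq_bot] at hp0
        rw [hp0] at hj'
        have : j ≤ 0 := by exact_mod_cast hj'
        omega
      obtain ⟨a, hap, ha⟩ := Submodule.exists_mem_ne_zero_of_ne_bot hpne
      obtain ⟨e⟩ := hequiv a
      have h1 : Depth.LocDepthGE R p 1 :=
        Depth.locDepthGE_succ_of_quotSMulTop R p 0 a hap (hreg a ha) (fun i hi => by omega)
      have hj12 : j = 1 ∨ j = 2 := by omega
      rcases hj12 with rfl | rfl
      · exact h1
      · apply Depth.locDepthGE_succ_of_quotSMulTop R p 1 a hap (hreg a ha)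
        apply Depth.locDepthGE_one_of_not_mem_associatedPrimes
        intro hass
        rw [← LinearEquiv.AssociatedPrimes.eq e] at hass
        have := h a ha p hass
        rw [this] at hj'
        have : (2 : ℕ) ≤ 1 := by exact_mod_cast hj'
        omega

end Sk

namespace Sk

variable {R : Type u} [CommRing R] [IsNoetherianRing R]

theorem supportDim_localized_quotSMulTop (M : Type u) [AddCommGroup M] [Module R M]
    [Module.Finite R M] (x : R) (p : Ideal R) [p.IsPrime] :
    Module.supportDim (Localization.AtPrime p) (LocalizedModule p.primeCompl (QuotSMulTop x M)) =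
      Module.supportDim (Localization.AtPrime p)
        (QuotSMulTop (algebraMap R (Localization.AtPrime p) x) (LocalizedModule p.primeCompl M)) := by
  haveI : Module.Finite (Localization.AtPrime p) (LocalizedModule p.primeCompl M) :=
    Module.Finite.of_isLocalizedModule p.primeCompl
      (LocalizedModule.mkLinearMap p.primeCompl M)
  apply CM.supportDim_eq_of_support_eq
  ext Q
  rw [mem_support_localizedModule_iff, Module.support_quotSMulTop, Module.support_quotSMulTop,
    Set.mem_inter_iff, Set.mem_inter_iff, mem_support_localizedModule_iff,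
    PrimeSpectrum.mem_zeroLocus, PrimeSpectrum.mem_zeroLocus, Set.singleton_subset_iff,
    Set.singleton_subset_iff]
  rfl

/-- `(S_k)` passes to quotients by regular elements, with `k` lowered by one -/
theorem hasSk_quotSMulTop (k : ℕ) (M : Type u) [AddCommGroup M] [Module R M]
    [Module.Finite R M] (x : R) (hreg : IsSMulRegular M x)
    (h : LocCoh.HasSk (k + 1) R M) : LocCoh.HasSk k R (QuotSMulTop x M) := by
  rw [hasSk_iff] at h ⊢
  intro p hp j hjk hj
  haveI : IsNoetherianRing (Localization.AtPrime p) :=
    IsLocalization.isNoetherianRing p.primeCompl _ inferInstance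
  haveI : Module.Finite (Localization.AtPrime p) (LocalizedModule p.primeCompl M) :=
    Module.Finite.of_isLocalizedModule p.primeCompl
      (LocalizedModule.mkLinearMap p.primeCompl M)
  rw [supportDim_localized_quotSMulTop] at hj
  apply Depth.locDepthGE_quotSMulTop M p j x hreg
  apply h p (j + 1) (by omega)
  by_cases hxp : x ∈ p
  · haveI : Module.Flat R (Localization.AtPrime p) := IsLocalization.flat _ p.primeCompl
    have hreg' : IsSMulRegular (LocalizedModule p.primeCompl M)
        (algebraMap R (Localization.AtPrime p) x) :=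
      hreg.of_flat_of_isBaseChange (IsLocalizedModule.isBaseChange p.primeCompl
        (Localization.AtPrime p) (LocalizedModule.mkLinearMap p.primeCompl M))
    have hmem : algebraMap R (Localization.AtPrime p) x ∈
        IsLocalRing.maximalIdeal (Localization.AtPrime p) :=
      (IsLocalization.AtPrime.to_map_mem_maximal_iff (Localization.AtPrime p) p x).mpr hxp
    rw [← Module.supportDim_quotSMulTop_succ_eq_supportDim hreg' hmem]
    push_cast
    exact add_le_add_left hj 1
  · exfalso
    have hu : IsUnit (algebraMap R (Localization.AtPrime p) x) :=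
      IsLocalization.map_units (Localization.AtPrime p) (⟨x, hxp⟩ : p.primeCompl)
    haveI : Subsingleton (QuotSMulTop (algebraMap R (Localization.AtPrime p) x)
        (LocalizedModule p.primeCompl M)) := by
      rw [Submodule.Quotient.subsingleton_iff, eq_top_iff]
      intro m _
      obtain ⟨u, hu'⟩ := hu
      refine ⟨(↑u⁻¹ : Localization.AtPrime p) • m, trivial, ?_⟩
      change algebraMap R (Localization.AtPrime p) x • ((↑u⁻¹ : Localization.AtPrime p) • m) = m
      rw [← hu', ← mul_smul, Units.mul_inv, one_smul]
    rw [Module.supportDim_eq_bot_of_subsingleton] at hj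
    exact WithBot.coe_ne_bot (le_bot_iff.mp hj)

open RingTheory.Sequence in
/-- `(S_k)` passes to quotients by regular sequences -/
theorem hasSk_quot_ofList (rs : List R) :
    ∀ (k : ℕ) (M : Type u) [AddCommGroup M] [Module R M] [Module.Finite R M],
      LocCoh.HasSk k R M → IsWeaklyRegular M rs → rs.length ≤ k →
      LocCoh.HasSk (k - rs.length) R (M ⧸ (Ideal.ofList rs • (⊤ : Submodule R M))) := by
  induction rs with
  | nil =>
    intro k M _ _ _ h _ _
    have hbot : Ideal.ofList ([] : List R) • (⊤ : Submodule R M) = ⊥ := by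
      rw [Ideal.ofList_nil, Submodule.bot_smul]
    rw [List.length_nil, Nat.sub_zero]
    exact hasSk_of_linearEquiv k (Submodule.quotEquivOfEqBot _ hbot).symm h
  | cons x rs ih =>
    intro k M _ _ _ h hreg hlen
    rw [isWeaklyRegular_cons_iff] at hreg
    rw [List.length_cons] at hlen ⊢
    obtain ⟨k', rfl⟩ : ∃ k', k = k' + 1 := ⟨k - 1, by omega⟩
    have h1 := hasSk_quotSMulTop k' M x hreg.1 h
    have h2 := ih k' (QuotSMulTop x M) h1 hreg.2 (by omega)
    have h3 : k' + 1 - (rs.length + 1) = k' - rs.length := by omega
    rw [h3]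
    exact hasSk_of_linearEquiv _
      (Submodule.quotOfListConsSMulTopEquivQuotSMulTopInner M x rs).symm h2

end Sk

end Groth.Agent.H6
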