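import Mathlib
import Groth.Prelude.Def_Wider
import Groth.Agent.Lib.Helper6.DepthInf

/-! Maximal regular sequences. -/

universe u
set_option linter.style.haveILetI false
open CategoryTheory CategoryTheory.Limits Opposite CategoryTheory.Abelian
open scoped Pointwise
open RingTheory.Sequence

namespace Groth.Agent.H6

namespace Depth

variable {R : Type u} [CommRing R] [IsNoetherianRing R]

/-- the `I`-depth of a finite module with `IM ≠ M` is finite -/
theorem idealDepth_ne_top_of_smul_ne (I : Ideal R) (M : Type u) [AddCommGroup M] [Module R M]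
    [Module.Finite R M] (hIM : I • (⊤ : Submodule R M) ≠ ⊤) : LocCoh.idealDepth I M ≠ ⊤ := by
  haveI : Nontrivial (M ⧸ (I • (⊤ : Submodule R M))) :=
    Submodule.Quotient.nontrivial_iff.mpr hIM
  obtain ⟨p, hp⟩ := (Module.nonempty_support_of_nontrivial (R := R)
    (M := M ⧸ (I • (⊤ : Submodule R M))))
  rw [Module.support_quotient] at hp
  obtain ⟨hpM, hpI⟩ := hp
  rw [PrimeSpectrum.mem_zeroLocus, SetLike.coe_subset_coe] at hpI
  haveI := p.2
  haveI : IsNoetherianRing (Localization.AtPrime p.asIdeal) :=
    IsLocalization.isNoetherianRing p.asIdeal.primeCompl _ inferInstance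
  haveI : Nontrivial (LocalizedModule p.asIdeal.primeCompl M) := Module.mem_support_iff.mp hpM
  haveI : Module.Finite (Localization.AtPrime p.asIdeal) (LocalizedModule p.asIdeal.primeCompl M) :=
    Module.Finite.of_isLocalizedModule p.asIdeal.primeCompl
      (LocalizedModule.mkLinearMap p.asIdeal.primeCompl M)
  obtain ⟨D, hD, -⟩ := exists_depth_eq (R := Localization.AtPrime p.asIdeal)
    (LocalizedModule p.asIdeal.primeCompl M)
  intro htop
  have h1 : LocCoh.idealDepth I M ≤ D := by
    rw [idealDepth_eq_iInf I M, ← hD]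
    exact iInf₂_le p hpI
  rw [htop, top_le_iff] at h1
  exact ENat.coe_ne_top D h1

/-- vanishing of local cohomology of the quotient by a regular sequence -/
theorem subsingleton_H_quot_ofList (I : Ideal R) (rs : List R) :
    ∀ (M : Type u) [AddCommGroup M] [Module R M] (k : ℕ),
      IsWeaklyRegular M rs → (∀ r ∈ rs, r ∈ I) →
      (∀ i < rs.length + k, Subsingleton (LocCoh.H I i M)) →
      ∀ i < k, Subsingleton (LocCoh.H I i (M ⧸ (Ideal.ofList rs • (⊤ : Submodule R M)))) := by
  induction rs with
  | nil =>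
    intro M _ _ k _ _ h i hi
    have hbot : Ideal.ofList ([] : List R) • (⊤ : Submodule R M) = ⊥ := by
      rw [Ideal.ofList_nil, Submodule.bot_smul]
    exact LC.subsingleton_of_linearEquiv (Submodule.quotEquivOfEqBot _ hbot).symm
      (h i (by simpa using hi))
  | cons x rs ih =>
    intro M _ _ k hreg hI h i hi
    rw [isWeaklyRegular_cons_iff] at hreg
    have hx : x ∈ I := hI x List.mem_cons_self
    have h1 : ∀ i < rs.length + k, Subsingleton (LocCoh.H I i (QuotSMulTop x M)) := by
      apply (quotSMulTop_vanish_iff I M x hx hreg.1 (rs.length + k)).mpr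
      intro j hj
      exact h j (by rw [List.length_cons]; omega)
    have h2 := ih (QuotSMulTop x M) k hreg.2 (fun r hr => hI r (List.mem_cons_of_mem x hr)) h1 i hi
    exact LC.subsingleton_of_linearEquiv
      (Submodule.quotOfListConsSMulTopEquivQuotSMulTopInner M x rs).symm h2

/-- a regular sequence in `I` shorter than the depth can be extended -/
theorem exists_extend (I : Ideal R) (M : Type u) [AddCommGroup M] [Module R M]
    [Module.Finite R M] (rs : List R) (hreg : IsWeaklyRegular M rs) (hI : ∀ r ∈ rs, r ∈ I)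
    (hlt : (rs.length : ℕ∞) < LocCoh.idealDepth I M) :
    ∃ r ∈ I, IsWeaklyRegular M (rs ++ [r]) := by
  have h1 : ((rs.length + 1 : ℕ) : ℕ∞) ≤ LocCoh.idealDepth I M := by
    have := Order.add_one_le_of_lt hlt
    exact_mod_cast this
  rw [le_idealDepth_iff] at h1
  have h2 := subsingleton_H_quot_ofList I rs M 1 hreg hI h1 0 Nat.zero_lt_one
  rw [subsingleton_H_zero_iff] at h2
  obtain ⟨r, hrI, hr⟩ := LC.exists_isSMulRegular_of_torsionSub_eq_bot I _ h2
  refine ⟨r, hrI, ?_⟩
  rw [isWeaklyRegular_append_iff, isWeaklyRegular_singleton_iff]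
  exact ⟨hreg, hr⟩

theorem length_le_idealDepth (I : Ideal R) (M : Type u) [AddCommGroup M] [Module R M]
    (hIM : I • (⊤ : Submodule R M) ≠ ⊤) (rs : List R) (hreg : IsWeaklyRegular M rs)
    (hI : ∀ r ∈ rs, r ∈ I) : (rs.length : ℕ∞) ≤ LocCoh.idealDepth I M := by
  unfold LocCoh.idealDepth
  rw [if_neg hIM]
  exact le_iSup₂_of_le rs ⟨hreg, hI⟩ le_rfl

/-- maximal regular sequences in `I` have length the `I`-depth -/
theorem length_eq_idealDepth_of_maximal (I : Ideal R) (M : Type u) [AddCommGroup M] [Module R M]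
    [Module.Finite R M] (hIM : I • (⊤ : Submodule R M) ≠ ⊤) (rs : List R)
    (hreg : IsWeaklyRegular M rs) (hI : ∀ r ∈ rs, r ∈ I)
    (hmax : ∀ r ∈ I, ¬ IsWeaklyRegular M (rs ++ [r])) :
    (rs.length : ℕ∞) = LocCoh.idealDepth I M := by
  apply le_antisymm (length_le_idealDepth I M hIM rs hreg hI)
  by_contra hcon
  push Not at hcon
  obtain ⟨r, hrI, hr⟩ := exists_extend I M rs hreg hI hcon
  exact hmax r hrI hr

/-- every regular sequence in `I` extends to a maximal one -/
theorem exists_maximal_extension (I : Ideal R) (M : Type u) [AddCommGroup M] [Module R M]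
    [Module.Finite R M] (hIM : I • (⊤ : Submodule R M) ≠ ⊤) (rs : List R)
    (hreg : IsWeaklyRegular M rs) (hI : ∀ r ∈ rs, r ∈ I) :
    ∃ rs' : List R, rs <+: rs' ∧ IsWeaklyRegular M rs' ∧ (∀ r ∈ rs', r ∈ I) ∧
      ∀ r ∈ I, ¬ IsWeaklyRegular M (rs' ++ [r]) := by
  obtain ⟨d, hd⟩ := ENat.ne_top_iff_exists.mp (idealDepth_ne_top_of_smul_ne I M hIM)
  have key : ∀ (n : ℕ) (rs : List R), IsWeaklyRegular M rs → (∀ r ∈ rs, r ∈ I) →
      d - rs.length = n →
      ∃ rs' : List R, rs <+: rs' ∧ IsWeaklyRegular M rs' ∧ (∀ r ∈ rs', r ∈ I) ∧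
        ∀ r ∈ I, ¬ IsWeaklyRegular M (rs' ++ [r]) := by
    intro n
    induction n with
    | zero =>
      intro rs hreg hI hn
      refine ⟨rs, List.prefix_refl rs, hreg, hI, ?_⟩
      intro r hrI hr
      have h1 := length_le_idealDepth I M hIM (rs ++ [r]) hr (by
        intro t ht
        rcases List.mem_append.mp ht with ht | ht
        · exact hI t ht
        · rw [List.mem_singleton] at ht
          rw [ht]
          exact hrI)
      rw [← hd, List.length_append, List.length_singleton] at h1
      have h2 : rs.length + 1 ≤ d := by exact_mod_cast h1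
      omega
    | succ n ih =>
      intro rs hreg hI hn
      by_cases hmax : ∀ r ∈ I, ¬ IsWeaklyRegular M (rs ++ [r])
      · exact ⟨rs, List.prefix_refl rs, hreg, hI, hmax⟩
      · push Not at hmax
        obtain ⟨r, hrI, hr⟩ := hmax
        have hI' : ∀ t ∈ rs ++ [r], t ∈ I := by
          intro t ht
          rcases List.mem_append.mp ht with ht | ht
          · exact hI t ht
          · rw [List.mem_singleton] at ht
            rw [ht]
            exact hrI
        obtain ⟨rs', hpre, h1, h2, h3⟩ := ih (rs ++ [r]) hr hI' (by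
          rw [List.length_append, List.length_singleton]
          omega)
        exact ⟨rs', (List.prefix_append rs [r]).trans hpre, h1, h2, h3⟩
  exact key _ rs hreg hI rfl

end Depth

end Groth.Agent.H6
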