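import Mathlib
import Groth.Prelude.Def_Wider
import Groth.Agent.Lib.Helper6.HomKer
import Groth.Agent.Lib.Helper6.DepthMax
import Groth.Agent.Lib.Helper6.CMKit
import Groth.Agent.Lib.Helper6.LCArtinian
import Groth.Agent.Lib.Helper1.LocalCriterion2

/-! Depth and flat local homomorphisms: `depth_S(N ⊗_R M) = depth_R M + depth_S(N/𝔪_R N)`. -/

universe u
set_option linter.style.haveILetI false
open CategoryTheory CategoryTheory.Limits Opposite CategoryTheory.Abelian
open scoped Pointwise
open TensorProduct

namespace Groth.Agent.H6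

namespace FlatDepth

section Step

variable {S : Type u} [CommRing S] [IsNoetherianRing S]

/-- the depth drops by one modulo a regular element, for an arbitrary presentation of the
quotient -/
theorem idealDepth_step (I : Ideal S) {X X' : Type u} [AddCommGroup X] [Module S X]
    [Module.Finite S X] [AddCommGroup X'] [Module S X'] (x : S) (hx : x ∈ I)
    (hreg : IsSMulRegular X x) (π : X →ₗ[S] X') (hπ : Function.Surjective π)
    (hker : ∀ z, π z = 0 ↔ ∃ w, z = x • w) :
    LocCoh.idealDepth I X' + 1 = LocCoh.idealDepth I X := by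
  have h : x • (⊤ : Submodule S X) = LinearMap.ker π := by
    ext z
    rw [LinearMap.mem_ker, hker, Submodule.mem_smul_pointwise_iff_exists]
    constructor
    · rintro ⟨w, -, rfl⟩
      exact ⟨w, rfl⟩
    · rintro ⟨w, rfl⟩
      exact ⟨w, Submodule.mem_top, rfl⟩
  let e : QuotSMulTop x X ≃ₗ[S] X' :=
    (Submodule.quotEquivOfEq _ _ h).trans (π.quotKerEquivOfSurjective hπ)
  rw [← HomKer.idealDepth_congr I e]
  exact Depth.idealDepth_quotSMulTop_add_one I X x hx hreg

/-- depth `⊤` characterizes the zero module among finite modules over a local ring -/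
theorem depth_eq_top_iff [IsLocalRing S] (X : Type u) [AddCommGroup X] [Module S X]
    [Module.Finite S X] : LocCoh.depth S X = ⊤ ↔ Subsingleton X := by
  constructor
  · intro h
    by_contra hX
    rw [not_subsingleton_iff_nontrivial] at hX
    have hne : IsLocalRing.maximalIdeal S • (⊤ : Submodule S X) ≠ ⊤ := by
      intro htop
      have h1 : (⊤ : Submodule S X) = ⊥ :=
        Submodule.eq_bot_of_le_smul_of_le_jacobson_bot _ _ Module.Finite.fg_top htop.ge
          (IsLocalRing.maximalIdeal_le_jacobson _)
      exact top_ne_bot h1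
    exact Depth.idealDepth_ne_top_of_smul_ne _ X hne h
  · intro h
    unfold LocCoh.depth LocCoh.idealDepth
    rw [if_pos (Subsingleton.elim _ _)]

end Step

section Tensor

variable {R S : Type u} [CommRing R] [CommRing S] [Algebra R S]
  (N : Type u) [AddCommGroup N] [Module S N] [Module R N] [IsScalarTower R S N]
  (M : Type u) [AddCommGroup M] [Module R M]

theorem algebraMap_smul_tensor (x : R) (z : N ⊗[R] M) :
    (algebraMap R S x) • z = x • z := by
  induction z using TensorProduct.induction_on with
  | zero => simp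
  | tmul n m => rw [TensorProduct.smul_tmul', TensorProduct.smul_tmul', algebraMap_smul]
  | add a b ha hb => rw [smul_add, smul_add, ha, hb]

/-- a regular element of `R` on `M` is regular on `N ⊗ M` for flat `N` -/
theorem isSMulRegular_tensor_of_flat [Module.Flat R N] (x : R) (hreg : IsSMulRegular M x) :
    IsSMulRegular (N ⊗[R] M) (algebraMap R S x) := by
  have h1 : Function.Injective ((LinearMap.lsmul R M x).lTensor N) :=
    Module.Flat.lTensor_preserves_injective_linearMap _ hreg
  intro a b hab
  apply h1
  have key : ∀ z : N ⊗[R] M, (LinearMap.lsmul R M x).lTensor N z = (algebraMap R S x) • z := by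
    intro z
    rw [algebraMap_smul_tensor]
    induction z using TensorProduct.induction_on with
    | zero => simp
    | tmul n m => rw [LinearMap.lTensor_tmul, TensorProduct.smul_tmul', TensorProduct.smul_tmul]; rfl
    | add a b ha hb => rw [map_add, smul_add, ha, hb]
  rw [key, key]
  exact hab

variable [IsNoetherianRing S]

/-- the `x`-step: `depth_S(N ⊗ M/xM) + 1 = depth_S(N ⊗ M)` -/
theorem idealDepth_tensor_quotSMulTop [Module.Finite S N] [Module.Finite R M] [Module.Flat R N]
    (I : Ideal S) (x : R) (hxI : algebraMap R S x ∈ I) (hreg : IsSMulRegular M x) :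
    LocCoh.idealDepth I (N ⊗[R] QuotSMulTop x M) + 1 = LocCoh.idealDepth I (N ⊗[R] M) := by
  haveI : Module.Finite S (N ⊗[R] M) := H1.finite_tensor_of_finite M
  let π : N ⊗[R] M →ₗ[S] N ⊗[R] QuotSMulTop x M :=
    TensorProduct.AlgebraTensorModule.lTensor S N (Submodule.mkQ _)
  have hπ : Function.Surjective π := LinearMap.lTensor_surjective N (Submodule.mkQ_surjective _)
  apply idealDepth_step I (algebraMap R S x) hxI (isSMulRegular_tensor_of_flat N M x hreg) π hπ
  intro z
  have hex : Function.Exact ((LinearMap.lsmul R M x).lTensor N)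
      ((Submodule.mkQ (x • (⊤ : Submodule R M))).lTensor N) := by
    apply lTensor_exact N _ (Submodule.mkQ_surjective _)
    intro m
    rw [Submodule.mkQ_apply, Submodule.Quotient.mk_eq_zero,
      Submodule.mem_smul_pointwise_iff_exists]
    constructor
    · rintro ⟨w, -, rfl⟩
      exact ⟨w, rfl⟩
    · rintro ⟨w, rfl⟩
      exact ⟨w, Submodule.mem_top, rfl⟩
  have key : ∀ z : N ⊗[R] M, (LinearMap.lsmul R M x).lTensor N z = (algebraMap R S x) • z := by
    intro z
    rw [algebraMap_smul_tensor]
    induction z using TensorProduct.induction_on with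
    | zero => simp
    | tmul n m => rw [LinearMap.lTensor_tmul, TensorProduct.smul_tmul', TensorProduct.smul_tmul]; rfl
    | add a b ha hb => rw [map_add, smul_add, ha, hb]
  have h1 := hex z
  constructor
  · intro hz
    obtain ⟨w, hw⟩ := h1.mp hz
    exact ⟨w, by rw [← key, hw]⟩
  · rintro ⟨w, rfl⟩
    apply h1.mpr
    exact ⟨w, key w⟩

end Tensor

section Fibre

variable {R S : Type u} [CommRing R] [CommRing S] [Algebra R S]
  (N : Type u) [AddCommGroup N] [Module S N] [Module R N] [IsScalarTower R S N]

/-- `(IS)N = IN` as sets -/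
theorem mem_map_smul_top_iff (I : Ideal R) (n : N) :
    n ∈ (I.map (algebraMap R S)) • (⊤ : Submodule S N) ↔ n ∈ I • (⊤ : Submodule R N) := by
  constructor
  · intro h
    have key : ∀ s ∈ I.map (algebraMap R S), ∀ n : N, s • n ∈ I • (⊤ : Submodule R N) := by
      intro s hs
      unfold Ideal.map at hs
      induction hs using Submodule.span_induction with
      | mem s hs =>
        obtain ⟨a, ha, rfl⟩ := hs
        intro n
        rw [algebraMap_smul]
        exact Submodule.smul_mem_smul ha Submodule.mem_top
      | zero => intro n; rw [zero_smul]; exact Submodule.zero_mem _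
      | add a b _ _ ha hb => intro n; rw [add_smul]; exact Submodule.add_mem _ (ha n) (hb n)
      | smul c a _ ha =>
        intro n
        rw [smul_eq_mul, mul_comm, mul_smul]
        exact ha (c • n)
    refine Submodule.smul_induction_on h (fun s hs n _ => key s hs n) ?_
    intro a b ha hb
    exact Submodule.add_mem _ ha hb
  · intro h
    refine Submodule.smul_induction_on h ?_ ?_
    · intro a ha n _
      rw [← algebraMap_smul S a n]
      exact Submodule.smul_mem_smul (Ideal.mem_map_of_mem _ ha) Submodule.mem_top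
    · intro a b ha hb
      exact Submodule.add_mem _ ha hb

end Fibre

section YStep

variable {R S : Type u} [CommRing R] [CommRing S] [IsLocalRing R] [IsLocalRing S]
  [IsNoetherianRing S] [Algebra R S] [IsLocalHom (algebraMap R S)]
  (N : Type u) [AddCommGroup N] [Module S N] [Module R N] [IsScalarTower R S N]

/-- the ideal `𝔪_R S` -/
abbrev mS (R S : Type u) [CommRing R] [CommRing S] [IsLocalRing R] [Algebra R S] : Ideal S :=
  (IsLocalRing.maximalIdeal R).map (algebraMap R S)

/-- the closed fibre `N/𝔪_R N` as an `S`-module -/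
abbrev Fib (R S : Type u) [CommRing R] [CommRing S] [IsLocalRing R] [Algebra R S]
    (N : Type u) [AddCommGroup N] [Module S N] : Type u :=
  N ⧸ (mS R S • (⊤ : Submodule S N))

/-- multiplication by `y` as an `R`-linear map -/
def mulMap (y : S) : N →ₗ[R] N := (LinearMap.lsmul S N y).restrictScalars R

omit [IsLocalRing S] [IsNoetherianRing S] [IsLocalHom (algebraMap R S)] in
theorem mulMap_apply (y : S) (n : N) : mulMap (R := R) (S := S) N y n = y • n := rfl

omit [IsLocalRing S] [IsNoetherianRing S] [IsLocalHom (algebraMap R S)] in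
theorem lTensor_residue_injective (y : S) (hy : IsSMulRegular (Fib R S N) y) :
    Function.Injective ((mulMap (R := R) (S := S) N y).lTensor (R ⧸ IsLocalRing.maximalIdeal R)) := by
  rw [← LinearMap.ker_eq_bot, eq_bot_iff]
  intro t ht
  rw [LinearMap.mem_ker] at ht
  rw [Submodule.mem_bot]
  set e := TensorProduct.quotTensorEquivQuotSMul N (IsLocalRing.maximalIdeal R) with he
  obtain ⟨q, rfl⟩ := e.symm.surjective t
  obtain ⟨n, rfl⟩ := Submodule.mkQ_surjective _ q
  rw [Submodule.mkQ_apply, he, TensorProduct.quotTensorEquivQuotSMul_symm_mk] at ht ⊢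
  rw [LinearMap.lTensor_tmul, mulMap_apply, ← TensorProduct.quotTensorEquivQuotSMul_symm_mk,
    LinearEquiv.map_eq_zero_iff, Submodule.Quotient.mk_eq_zero, ← mem_map_smul_top_iff (S := S) N] at ht
  have h1 : y • (Submodule.Quotient.mk n : Fib R S N) = y • 0 := by
    rw [smul_zero, ← Submodule.Quotient.mk_smul, Submodule.Quotient.mk_eq_zero]
    exact ht
  have h2 := hy h1
  rw [Submodule.Quotient.mk_eq_zero, mem_map_smul_top_iff] at h2
  have h3 : (Submodule.Quotient.mk n : N ⧸ (IsLocalRing.maximalIdeal R • (⊤ : Submodule R N))) = 0 :=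
    (Submodule.Quotient.mk_eq_zero _).mpr h2
  rw [← TensorProduct.quotTensorEquivQuotSMul_symm_mk, h3, map_zero]

variable [Module.Finite S N] [Module.Flat R N]

/-- Stacks 00MF: a regular element on the closed fibre is regular on `N`, with flat quotient, and is
regular on all `N ⊗ M` -/
theorem regular_of_regular_fibre (y : S) (hy : IsSMulRegular (Fib R S N) y) :
    IsSMulRegular N y ∧ Module.Flat R (QuotSMulTop y N) ∧
      ∀ (M : Type u) [AddCommGroup M] [Module R M] [Module.Finite R M],
        IsSMulRegular (N ⊗[R] M) y := by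
  have h := lTensor_residue_injective N y hy
  have hex : Function.Exact (mulMap (R := R) (S := S) N y)
      ((Submodule.mkQ (y • (⊤ : Submodule S N))).restrictScalars R) := by
    intro n
    rw [LinearMap.restrictScalars_apply, Submodule.mkQ_apply, Submodule.Quotient.mk_eq_zero,
      Submodule.mem_smul_pointwise_iff_exists]
    constructor
    · rintro ⟨w, -, rfl⟩
      exact ⟨w, rfl⟩
    · rintro ⟨w, rfl⟩
      exact ⟨w, Submodule.mem_top, rfl⟩
  refine ⟨?_, ?_, ?_⟩
  · exact (H1.injective_and_flat_quotient_of_lTensor_residue_injective S (mulMap (R := R) (S := S) N y) h).1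
  · exact H1.flat_of_exact_of_lTensor_residue_injective S (mulMap (R := R) (S := S) N y) h _ hex
      (Submodule.mkQ_surjective _)
  · intro M _ _ _
    have h1 := H1.lTensor_injective_of_lTensor_residue_injective S (mulMap (R := R) (S := S) N y) h M
    rw [LinearMap.lTensor_inj_iff_rTensor_inj] at h1
    have key : ∀ z : N ⊗[R] M, (mulMap (R := R) (S := S) N y).rTensor M z = y • z := by
      intro z
      induction z using TensorProduct.induction_on with
      | zero => simp
      | tmul n m => rw [LinearMap.rTensor_tmul, TensorProduct.smul_tmul', mulMap_apply]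
      | add a b ha hb => rw [map_add, smul_add, ha, hb]
    intro a b hab
    apply h1
    rw [key, key]
    exact hab

/-- the `y`-step: `depth_S(N/yN ⊗ M) + 1 = depth_S(N ⊗ M)` -/
theorem idealDepth_quotSMulTop_tensor (y : S) (hy : IsSMulRegular (Fib R S N) y)
    (I : Ideal S) (hyI : y ∈ I) (M : Type u) [AddCommGroup M] [Module R M] [Module.Finite R M] :
    LocCoh.idealDepth I (QuotSMulTop y N ⊗[R] M) + 1 = LocCoh.idealDepth I (N ⊗[R] M) := by
  haveI : Module.Finite S (N ⊗[R] M) := H1.finite_tensor_of_finite M
  obtain ⟨-, -, hreg⟩ := regular_of_regular_fibre N y hy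
  let π : N ⊗[R] M →ₗ[S] QuotSMulTop y N ⊗[R] M :=
    TensorProduct.AlgebraTensorModule.rTensor R M (Submodule.mkQ (y • (⊤ : Submodule S N)))
  have hπ : Function.Surjective π :=
    LinearMap.rTensor_surjective M (g := (Submodule.mkQ (y • (⊤ : Submodule S N))).restrictScalars R)
      (Submodule.mkQ_surjective _)
  apply idealDepth_step I y hyI (hreg M) π hπ
  intro z
  have hex0 : Function.Exact (mulMap (R := R) (S := S) N y)
      ((Submodule.mkQ (y • (⊤ : Submodule S N))).restrictScalars R) := by
    intro n
    rw [LinearMap.restrictScalars_apply, Submodule.mkQ_apply, Submodule.Quotient.mk_eq_zero,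
      Submodule.mem_smul_pointwise_iff_exists]
    constructor
    · rintro ⟨w, -, rfl⟩
      exact ⟨w, rfl⟩
    · rintro ⟨w, rfl⟩
      exact ⟨w, Submodule.mem_top, rfl⟩
  have hex := rTensor_exact M hex0 (Submodule.mkQ_surjective _)
  have key : ∀ z : N ⊗[R] M, (mulMap (R := R) (S := S) N y).rTensor M z = y • z := by
    intro z
    induction z using TensorProduct.induction_on with
    | zero => simp
    | tmul n m => rw [LinearMap.rTensor_tmul, TensorProduct.smul_tmul', mulMap_apply]
    | add a b ha hb => rw [map_add, smul_add, ha, hb]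
  have h1 := hex z
  constructor
  · intro hz
    obtain ⟨w, hw⟩ := h1.mp hz
    exact ⟨w, by rw [← key, hw]⟩
  · rintro ⟨w, rfl⟩
    apply h1.mpr
    exact ⟨w, key w⟩

omit [IsLocalRing S] [IsLocalHom (algebraMap R S)] [Module.Flat R N] [Module R N]
  [IsScalarTower R S N] in
/-- the closed fibre of `N/yN` is the quotient of the closed fibre of `N` by `y` -/
theorem nonempty_fib_quotSMulTop_equiv (y : S) :
    Nonempty (QuotSMulTop y (Fib R S N) ≃ₗ[S] Fib R S (QuotSMulTop y N)) := by
  set A : Submodule S N := y • (⊤ : Submodule S N) with hA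
  set B : Submodule S N := mS R S • (⊤ : Submodule S N) with hB
  have h1 : y • (⊤ : Submodule S (N ⧸ B)) = A.map B.mkQ := by
    rw [hA, Submodule.map_pointwise_smul, Submodule.map_top, Submodule.range_mkQ]
  have h2 : mS R S • (⊤ : Submodule S (N ⧸ A)) = B.map A.mkQ := by
    rw [hB, Submodule.map_smul'', Submodule.map_top, Submodule.range_mkQ]
  exact ⟨(Submodule.quotEquivOfEq _ _ h1).trans
    ((Submodule.quotientQuotientEquivQuotientSup B A).trans
      ((Submodule.quotEquivOfEq _ _ (sup_comm B A)).trans
        ((Submodule.quotientQuotientEquivQuotientSup A B).symm.trans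
          (Submodule.quotEquivOfEq _ _ h2).symm)))⟩

omit [IsLocalRing S] [IsLocalHom (algebraMap R S)] [Module.Flat R N] [Module R N]
  [IsScalarTower R S N] in
/-- depth of the closed fibre drops by one -/
theorem idealDepth_fib_quotSMulTop (y : S) (hy : IsSMulRegular (Fib R S N) y)
    (I : Ideal S) (hyI : y ∈ I) :
    LocCoh.idealDepth I (Fib R S (QuotSMulTop y N)) + 1 = LocCoh.idealDepth I (Fib R S N) := by
  obtain ⟨e⟩ := nonempty_fib_quotSMulTop_equiv (R := R) N y
  rw [← HomKer.idealDepth_congr I e]
  exact Depth.idealDepth_quotSMulTop_add_one I (Fib R S N) y hyI hy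

end YStep

section Base

variable {R S : Type u} [CommRing R] [CommRing S] [IsLocalRing R] [IsLocalRing S]
  [IsNoetherianRing R] [IsNoetherianRing S] [Algebra R S] [IsLocalHom (algebraMap R S)]
  (N : Type u) [AddCommGroup N] [Module S N] [Module R N] [IsScalarTower R S N]
  [Module.Finite S N] [Module.Flat R N]
  (M : Type u) [AddCommGroup M] [Module R M] [Module.Finite R M]

omit [IsNoetherianRing R] in
/-- depth zero means nonzero torsion -/
theorem depth_eq_zero_iff {S : Type u} [CommRing S] [IsLocalRing S] [IsNoetherianRing S]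
    (X : Type u) [AddCommGroup X] [Module S X] [Module.Finite S X] :
    LocCoh.depth S X = 0 ↔ DRing.torsionSub (IsLocalRing.maximalIdeal S) X ≠ ⊥ := by
  unfold LocCoh.depth
  rw [Ne, ← Depth.subsingleton_H_zero_iff, ← Depth.one_le_idealDepth_iff, not_le,
    ENat.lt_one_iff_eq_zero]

/-- the base case of the depth formula -/
theorem depth_tensor_eq_zero (hM : LocCoh.depth R M = 0) (hF : LocCoh.depth S (Fib R S N) = 0) :
    LocCoh.depth S (N ⊗[R] M) = 0 := by
  haveI : Module.Finite S (N ⊗[R] M) := H1.finite_tensor_of_finite M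
  rw [depth_eq_zero_iff] at hM hF ⊢
  -- a socle element of `M`
  obtain ⟨Q, hQ, hle⟩ := CM.exists_ass_ge_of_torsionSub_ne_bot _ _ hM
  have hQp : Q.IsPrime := hQ.isPrime
  have hQm : Q = IsLocalRing.maximalIdeal R :=
    ((IsLocalRing.maximalIdeal.isMaximal _).eq_of_le hQp.ne_top hle).symm
  rw [hQm] at hQ
  obtain ⟨-, f, hf⟩ := (isAssociatedPrime_iff_exists_injective_linearMap _ M).mp hQ
  have hfz : ∀ a ∈ IsLocalRing.maximalIdeal R, a • f 1 = 0 := by
    intro a ha
    rw [← map_smul]
    have : a • (1 : R ⧸ IsLocalRing.maximalIdeal R) = 0 := by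
      rw [Algebra.smul_def, mul_one]
      exact Ideal.Quotient.eq_zero_iff_mem.mpr ha
    rw [this, map_zero]
  -- a torsion element of the fibre
  obtain ⟨w, hwT, hw0⟩ := (Submodule.ne_bot_iff _).mp hF
  obtain ⟨k, hk⟩ := hwT
  obtain ⟨n, rfl⟩ := Submodule.mkQ_surjective _ w
  rw [Submodule.mkQ_apply] at hk hw0
  have hn : n ∉ IsLocalRing.maximalIdeal R • (⊤ : Submodule R N) := by
    intro h
    apply hw0
    rw [Submodule.Quotient.mk_eq_zero, mem_map_smul_top_iff]
    exact h
  -- elements of `𝔪N ⊗ z` vanish
  have hkill : ∀ n' ∈ IsLocalRing.maximalIdeal R • (⊤ : Submodule R N),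
      n' ⊗ₜ[R] f 1 = (0 : N ⊗[R] M) := by
    intro n' hn'
    refine Submodule.smul_induction_on hn' ?_ ?_
    · intro a ha x _
      rw [TensorProduct.smul_tmul, hfz a ha, TensorProduct.tmul_zero]
    · intro a b ha hb
      rw [TensorProduct.add_tmul, ha, hb, add_zero]
  rw [Submodule.ne_bot_iff]
  refine ⟨n ⊗ₜ[R] f 1, ⟨k, fun s hs => ?_⟩, ?_⟩
  · rw [TensorProduct.smul_tmul']
    apply hkill
    rw [← mem_map_smul_top_iff (S := S) N]
    have := hk s hs
    rw [← Submodule.Quotient.mk_smul, Submodule.Quotient.mk_eq_zero] at this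
    exact this
  · intro h0
    have hinj : Function.Injective (f.lTensor N) :=
      Module.Flat.lTensor_preserves_injective_linearMap f hf
    have h1 : f.lTensor N (n ⊗ₜ[R] (1 : R ⧸ IsLocalRing.maximalIdeal R)) = 0 := by
      rw [LinearMap.lTensor_tmul]
      exact h0
    have h2 := hinj (h1.trans (map_zero _).symm)
    have h3 := congrArg (TensorProduct.tensorQuotEquivQuotSMul N (IsLocalRing.maximalIdeal R)) h2
    rw [map_zero, ← map_one (Ideal.Quotient.mk (IsLocalRing.maximalIdeal R)),
      TensorProduct.tensorQuotEquivQuotSMul_tmul_mk, one_smul, Submodule.Quotient.mk_eq_zero] at h3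
    exact hn h3

end Base

section Main

variable {R S : Type u} [CommRing R] [CommRing S] [IsLocalRing R] [IsLocalRing S]
  [IsNoetherianRing R] [IsNoetherianRing S] [Algebra R S] [IsLocalHom (algebraMap R S)]

omit [IsLocalRing R] [IsNoetherianRing R] [Algebra R S] [IsLocalHom (algebraMap R S)] in
/-- a regular element in the maximal ideal from positive depth -/
theorem exists_regular_of_depth_pos (X : Type u) [AddCommGroup X] [Module S X] [Module.Finite S X]
    (l : ℕ) (h : LocCoh.depth S X = (l + 1 : ℕ)) :
    ∃ y ∈ IsLocalRing.maximalIdeal S, IsSMulRegular X y := by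
  apply LC.exists_isSMulRegular_of_torsionSub_eq_bot
  rw [← Depth.subsingleton_H_zero_iff, ← Depth.one_le_idealDepth_iff]
  unfold LocCoh.depth at h
  rw [h]
  exact_mod_cast Nat.le_add_left 1 l

/-- the depth formula, finite case, closed fibre part -/
theorem depth_tensor_zero (M : Type u) [AddCommGroup M] [Module R M] [Module.Finite R M]
    (hM : LocCoh.depth R M = 0) :
    ∀ (l : ℕ) (N : Type u) [AddCommGroup N] [Module S N] [Module R N] [IsScalarTower R S N]
      [Module.Finite S N] [Module.Flat R N],
      LocCoh.depth S (Fib R S N) = l → LocCoh.depth S (N ⊗[R] M) = l := by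
  intro l
  induction l with
  | zero =>
    intro N _ _ _ _ _ _ hF
    rw [Nat.cast_zero] at hF ⊢
    exact depth_tensor_eq_zero N M hM hF
  | succ l ih =>
    intro N _ _ _ _ _ _ hF
    obtain ⟨y, hym, hy⟩ := exists_regular_of_depth_pos (Fib R S N) l hF
    obtain ⟨-, hflat, -⟩ := regular_of_regular_fibre N y hy
    haveI := hflat
    have h1 := idealDepth_fib_quotSMulTop (R := R) N y hy (IsLocalRing.maximalIdeal S) hym
    have h2 := idealDepth_quotSMulTop_tensor N y hy (IsLocalRing.maximalIdeal S) hym M
    unfold LocCoh.depth at hF ih ⊢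
    rw [hF] at h1
    have h3 : LocCoh.idealDepth (IsLocalRing.maximalIdeal S) (Fib R S (QuotSMulTop y N)) = l := by
      apply ENat.add_left_injective_of_ne_top ENat.one_ne_top
      simpa using h1
    rw [← h2, ih (QuotSMulTop y N) h3]
    push_cast
    rfl

/-- the depth formula, finite case -/
theorem depth_tensor_of_eq (N : Type u) [AddCommGroup N] [Module S N] [Module R N]
    [IsScalarTower R S N] [Module.Finite S N] [Module.Flat R N] (l : ℕ)
    (hF : LocCoh.depth S (Fib R S N) = l) :
    ∀ (k : ℕ) (M : Type u) [AddCommGroup M] [Module R M] [Module.Finite R M],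
      LocCoh.depth R M = k → LocCoh.depth S (N ⊗[R] M) = (k + l : ℕ) := by
  intro k
  induction k with
  | zero =>
    intro M _ _ _ hM
    rw [Nat.cast_zero] at hM
    rw [zero_add]
    exact depth_tensor_zero M hM l N hF
  | succ k ih =>
    intro M _ _ _ hM
    obtain ⟨x, hxm, hx⟩ := exists_regular_of_depth_pos M k hM
    have h1 := Depth.idealDepth_quotSMulTop_add_one (IsLocalRing.maximalIdeal R) M x hxm hx
    have hle : mS R S ≤ IsLocalRing.maximalIdeal S :=
      ((IsLocalRing.local_hom_TFAE (algebraMap R S)).out 0 2).mp ‹IsLocalHom (algebraMap R S)›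
    have hxS : algebraMap R S x ∈ IsLocalRing.maximalIdeal S :=
      hle (Ideal.mem_map_of_mem _ hxm)
    have h2 := idealDepth_tensor_quotSMulTop N M (IsLocalRing.maximalIdeal S) x hxS hx
    unfold LocCoh.depth at hM ih ⊢
    rw [hM] at h1
    have h3 : LocCoh.idealDepth (IsLocalRing.maximalIdeal R) (QuotSMulTop x M) = k := by
      apply ENat.add_left_injective_of_ne_top ENat.one_ne_top
      simpa using h1
    rw [← h2, ih (QuotSMulTop x M) h3]
    push_cast
    ring

/-- **depth formula for flat local homomorphisms** -/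
theorem depth_tensor (N : Type u) [AddCommGroup N] [Module S N] [Module R N]
    [IsScalarTower R S N] [Module.Finite S N] [Module.Flat R N]
    (M : Type u) [AddCommGroup M] [Module R M] [Module.Finite R M] :
    LocCoh.depth S (N ⊗[R] M) = LocCoh.depth R M + LocCoh.depth S (Fib R S N) := by
  haveI : Module.Finite S (N ⊗[R] M) := H1.finite_tensor_of_finite M
  by_cases hM : LocCoh.depth R M = ⊤
  · rw [hM, top_add, depth_eq_top_iff]
    rw [depth_eq_top_iff] at hM
    infer_instance
  by_cases hF : LocCoh.depth S (Fib R S N) = ⊤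
  · rw [hF, add_top, depth_eq_top_iff]
    rw [depth_eq_top_iff] at hF
    -- `N = 𝔪_R N` forces `N = 0`
    have h1 : mS R S • (⊤ : Submodule S N) = ⊤ := by
      rw [eq_top_iff]
      intro n _
      rw [← Submodule.Quotient.mk_eq_zero]
      exact Subsingleton.elim _ _
    have hle : mS R S ≤ IsLocalRing.maximalIdeal S :=
      ((IsLocalRing.local_hom_TFAE (algebraMap R S)).out 0 2).mp ‹IsLocalHom (algebraMap R S)›
    have h2 : (⊤ : Submodule S N) = ⊥ :=
      Submodule.eq_bot_of_le_smul_of_le_jacobson_bot _ _ Module.Finite.fg_top h1.ge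
        (hle.trans (IsLocalRing.maximalIdeal_le_jacobson _))
    haveI : Subsingleton N := by
      refine ⟨fun a b => ?_⟩
      have ha : a ∈ (⊤ : Submodule S N) := Submodule.mem_top
      have hb : b ∈ (⊤ : Submodule S N) := Submodule.mem_top
      rw [h2, Submodule.mem_bot] at ha hb
      rw [ha, hb]
    infer_instance
  obtain ⟨k, hk⟩ := ENat.ne_top_iff_exists.mp hM
  obtain ⟨l, hl⟩ := ENat.ne_top_iff_exists.mp hF
  rw [depth_tensor_of_eq N l hl.symm k M hk.symm, ← hk, ← hl]
  push_cast
  rfl

end Main

section Lift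

open RingTheory.Sequence

variable {R S : Type u} [CommRing R] [CommRing S] [IsLocalRing R] [IsLocalRing S]
  [IsNoetherianRing S] [Algebra R S] [IsLocalHom (algebraMap R S)]

/-- regular sequences on the closed fibre lift to regular sequences -/
theorem isWeaklyRegular_of_fib (rs : List S) :
    ∀ (N : Type u) [AddCommGroup N] [Module S N] [Module R N] [IsScalarTower R S N]
      [Module.Finite S N] [Module.Flat R N],
      IsWeaklyRegular (Fib R S N) rs → IsWeaklyRegular N rs := by
  induction rs with
  | nil => intro N _ _ _ _ _ _ _; exact IsWeaklyRegular.nil S N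
  | cons y rs ih =>
    intro N _ _ _ _ _ _ h
    rw [isWeaklyRegular_cons_iff] at h ⊢
    obtain ⟨hy, hrs⟩ := h
    obtain ⟨hreg, hflat, -⟩ := regular_of_regular_fibre N y hy
    haveI := hflat
    obtain ⟨e⟩ := nonempty_fib_quotSMulTop_equiv (R := R) N y
    exact ⟨hreg, ih (QuotSMulTop y N) ((e.isWeaklyRegular_congr rs).mp hrs)⟩

/-- the depth of the closed fibre is at most the depth -/
theorem idealDepth_fib_le (I : Ideal S) (hI : I ≤ IsLocalRing.maximalIdeal S)
    (N : Type u) [AddCommGroup N] [Module S N] [Module R N] [IsScalarTower R S N]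
    [Module.Finite S N] [Module.Flat R N] :
    LocCoh.idealDepth I (Fib R S N) ≤ LocCoh.idealDepth I N := by
  by_cases h : I • (⊤ : Submodule S N) = ⊤
  · unfold LocCoh.idealDepth
    rw [if_pos h]
    exact le_top
  have hle : mS R S ≤ IsLocalRing.maximalIdeal S :=
    ((IsLocalRing.local_hom_TFAE (algebraMap R S)).out 0 2).mp ‹IsLocalHom (algebraMap R S)›
  have hF : I • (⊤ : Submodule S (Fib R S N)) ≠ ⊤ := by
    intro htop
    apply h
    have h1 : (I ⊔ mS R S) • (⊤ : Submodule S N) = ⊤ := by
      rw [eq_top_iff]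
      intro n _
      have h2 : (Submodule.Quotient.mk n : Fib R S N) ∈ I • (⊤ : Submodule S (Fib R S N)) := by
        rw [htop]; trivial
      have h3 : I • (⊤ : Submodule S (Fib R S N)) =
          (I • (⊤ : Submodule S N)).map (Submodule.mkQ (mS R S • (⊤ : Submodule S N))) := by
        rw [Submodule.map_smul'', Submodule.map_top, Submodule.range_mkQ]
      rw [h3] at h2
      obtain ⟨n', hn', hnn'⟩ := h2
      rw [Submodule.mkQ_apply, Submodule.Quotient.eq] at hnn'
      rw [Submodule.sup_smul]
      have : n = n' - (n' - n) := by abel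
      rw [this]
      exact Submodule.sub_mem _ (Submodule.mem_sup_left hn') (Submodule.mem_sup_right hnn')
    have h2 : (⊤ : Submodule S N) = ⊥ :=
      Submodule.eq_bot_of_le_smul_of_le_jacobson_bot _ _ Module.Finite.fg_top h1.ge
        ((sup_le hI hle).trans (IsLocalRing.maximalIdeal_le_jacobson _))
    rw [h2]
    exact Submodule.smul_bot I
  unfold LocCoh.idealDepth
  rw [if_neg h, if_neg hF]
  apply iSup₂_le
  intro rs hrs
  exact le_iSup₂_of_le rs ⟨isWeaklyRegular_of_fib rs N hrs.1, hrs.2⟩ le_rfl

end Lift

end FlatDepth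

end Groth.Agent.H6
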