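import Mathlib

/-! For a finitely generated module `M` over a Noetherian ring and a prime `p` in the support of
`M` there is a nonzero linear map `M → R/p`. -/

universe u v

namespace Groth.Agent.H6

variable {R : Type u} [CommRing R] [IsNoetherianRing R]

theorem exists_ne_zero_hom_quot (M : Type v) [AddCommGroup M] [Module R M] [Module.Finite R M]
    (p : Ideal R) [hp : p.IsPrime] (hM : Module.annihilator R M ≤ p) :
    ∃ f : M →ₗ[R] R ⧸ p, f ≠ 0 := by
  classical
  haveI : IsNoetherian R M := isNoetherian_of_isNoetherianRing_of_finite R M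
  -- a submodule `N`, maximal with `ann (M/N) ≤ p`
  let 𝒮 : Set (Submodule R M) := {N | Module.annihilator R (M ⧸ N) ≤ p}
  have hbot : (⊥ : Submodule R M) ∈ 𝒮 := by
    intro r hr
    apply hM
    rw [Module.mem_annihilator] at hr ⊢
    intro m
    have := hr (Submodule.Quotient.mk m)
    rw [← Submodule.Quotient.mk_smul, Submodule.Quotient.mk_eq_zero, Submodule.mem_bot] at this
    exact this
  obtain ⟨N, hN𝒮, hNmax⟩ := set_has_maximal_iff_noetherian.mpr inferInstance 𝒮 ⟨⊥, hbot⟩
  -- `M/N` is nonzero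
  have hNtop : N ≠ ⊤ := by
    rintro rfl
    apply hp.ne_top
    rw [Ideal.eq_top_iff_one]
    apply hN𝒮
    rw [Module.mem_annihilator]
    intro q
    exact Subsingleton.elim _ _
  obtain ⟨m₁, hm₁⟩ : ∃ m₁ : M, m₁ ∉ N := by
    by_contra hcon
    push_neg at hcon
    exact hNtop (eq_top_iff.mpr fun m _ => hcon m)
  -- the bigger submodule is not in `𝒮`
  set N' : Submodule R M := N ⊔ Submodule.span R {m₁} with hN'
  have hlt : N < N' := by
    refine lt_of_le_of_ne le_sup_left fun h => hm₁ ?_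
    rw [h]
    exact Submodule.mem_sup_right (Submodule.mem_span_singleton_self m₁)
  have hN'𝒮 : N' ∉ 𝒮 := fun h => hNmax N' h hlt
  obtain ⟨s, hsann, hsp⟩ : ∃ s, s ∈ Module.annihilator R (M ⧸ N') ∧ s ∉ p := by
    by_contra hcon
    push_neg at hcon
    exact hN'𝒮 fun r hr => hcon r hr
  have hs : ∀ m : M, ∃ c : R, s • m - c • m₁ ∈ N := by
    intro m
    have h1 := Module.mem_annihilator.mp hsann (Submodule.Quotient.mk m)
    rw [← Submodule.Quotient.mk_smul, Submodule.Quotient.mk_eq_zero] at h1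
    obtain ⟨n, hn, y, hy, hny⟩ := Submodule.mem_sup.mp h1
    obtain ⟨c, rfl⟩ := Submodule.mem_span_singleton.mp hy
    refine ⟨c, ?_⟩
    rw [← hny, add_sub_cancel_right]
    exact hn
  -- the cyclic submodule of `M/N` generated by the class of `m₁`
  let ψ : R →ₗ[R] M ⧸ N := LinearMap.toSpanSingleton R (M ⧸ N) (Submodule.Quotient.mk m₁)
  have hψ : ∀ c : R, ψ c = Submodule.Quotient.mk (c • m₁) := fun c => by
    simp [ψ, LinearMap.toSpanSingleton_apply]
  have hker : LinearMap.ker ψ ≤ p := by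
    intro r hr
    by_contra hrp
    rw [LinearMap.mem_ker, hψ, Submodule.Quotient.mk_eq_zero] at hr
    have hrs : r * s ∈ p := by
      apply hN𝒮
      rw [Module.mem_annihilator]
      intro q
      obtain ⟨m, rfl⟩ := Submodule.Quotient.mk_surjective _ q
      obtain ⟨c, hc⟩ := hs m
      rw [← Submodule.Quotient.mk_smul, Submodule.Quotient.mk_eq_zero, mul_smul]
      have h2 : r • s • m = r • (s • m - c • m₁) + c • (r • m₁) := by
        rw [smul_sub, smul_comm r c m₁]; abel
      rw [h2]
      exact N.add_mem (N.smul_mem r hc) (N.smul_mem c hr)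
    rcases hp.mem_or_mem hrs with h | h
    · exact hrp h
    · exact hsp h
  have hrange : ∀ m : M, s • N.mkQ m ∈ LinearMap.range ψ := by
    intro m
    obtain ⟨c, hc⟩ := hs m
    refine ⟨c, ?_⟩
    rw [hψ, Submodule.mkQ_apply, ← Submodule.Quotient.mk_smul, eq_comm, ← sub_eq_zero,
      ← Submodule.Quotient.mk_sub, Submodule.Quotient.mk_eq_zero]
    exact hc
  let g : M →ₗ[R] LinearMap.range ψ := LinearMap.codRestrict (LinearMap.range ψ) (s • N.mkQ) hrange
  let f : M →ₗ[R] R ⧸ p :=
    (Submodule.mapQ (LinearMap.ker ψ) p LinearMap.id hker) ∘ₗ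
      ψ.quotKerEquivRange.symm.toLinearMap ∘ₗ g
  refine ⟨f, fun hf => hsp ?_⟩
  have h1 : f m₁ = Submodule.Quotient.mk s := by
    have hg : g m₁ = ⟨ψ s, LinearMap.mem_range_self ψ s⟩ := by
      apply Subtype.ext
      change s • N.mkQ m₁ = ψ s
      rw [hψ, Submodule.mkQ_apply, Submodule.Quotient.mk_smul]
    change (Submodule.mapQ (LinearMap.ker ψ) p LinearMap.id hker)
      (ψ.quotKerEquivRange.symm (g m₁)) = _
    rw [hg, LinearMap.quotKerEquivRange_symm_apply_image]
    rfl
  rw [hf, LinearMap.zero_apply] at h1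
  exact (Submodule.Quotient.mk_eq_zero p).mp h1.symm

end Groth.Agent.H6
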