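import Mathlib
import Groth.Prelude.Def_Wider
import Groth.Agent.Lib.Helper6.LCProps
import Groth.Agent.S0325
import Groth.Agent.S11614

/-! Grothendieck's vanishing theorem in terms of the dimension of the support of a finitely generated
module. -/

universe u
open CategoryTheory

namespace Groth.Agent.H6

namespace LC

variable {R : Type u} [CommRing R]

/-- local cohomology of a trivial module is trivial -/
theorem subsingleton_of_subsingleton (I : Ideal R) (i : ℕ) (M : Type u) [AddCommGroup M]
    [Module R M] [Subsingleton M] : Subsingleton (LocCoh.H I i M) := by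
  refine ⟨fun x y => ?_⟩
  have h : ∀ z : LocCoh.H I i M, z = 0 := by
    intro z
    have := smul_eq_zero_of_smul_eq_zero (I := I) (i := i) (M := ModuleCat.of R M) (1 : R)
      (fun m => Subsingleton.elim _ _) z
    rwa [one_smul] at this
  rw [h x, h y]

theorem withBot_eq_bot_of_lt_zero (a : WithBot ℕ∞) (h : a < ((0 : ℕ) : WithBot ℕ∞)) : a = ⊥ := by
  induction a using WithBot.recBotCoe with
  | bot => rfl
  | coe a =>
    exfalso
    have : (0 : WithBot ℕ∞) ≤ (a : WithBot ℕ∞) := by exact_mod_cast (zero_le : (0 : ℕ∞) ≤ a)
    exact absurd h (not_lt.mpr (by exact_mod_cast this))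

theorem withBot_le_of_lt_succ (a : WithBot ℕ∞) (k : ℕ) (h : a < ((k + 1 : ℕ) : WithBot ℕ∞)) :
    a ≤ (k : WithBot ℕ∞) := by
  induction a using WithBot.recBotCoe with
  | bot => exact bot_le
  | coe a =>
    have h' : a < ((k + 1 : ℕ) : ℕ∞) := by exact_mod_cast h
    have : a ≤ (k : ℕ∞) := Order.le_of_lt_add_one (by exact_mod_cast h')
    exact_mod_cast this

/-- **Grothendieck's vanishing theorem** for finitely generated modules -/
theorem subsingleton_of_supportDim_lt [IsNoetherianRing R] (I : Ideal R) (M : Type u)
    [AddCommGroup M] [Module R M] [Module.Finite R M] (i : ℕ)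
    (hi : Module.supportDim R M < (i : WithBot ℕ∞)) : Subsingleton (LocCoh.H I i M) := by
  cases i with
  | zero =>
    have hbot := withBot_eq_bot_of_lt_zero _ hi
    rw [Module.supportDim_eq_bot_iff_subsingleton] at hbot
    exact subsingleton_of_subsingleton I 0 M
  | succ k =>
    letI : Module (R ⧸ Module.annihilator R M) M := Module.quotientAnnihilator
    haveI : IsScalarTower R (R ⧸ Module.annihilator R M) M :=
      (Module.isTorsionBySet_annihilator R M).isScalarTower
    obtain ⟨φ, -⟩ := Groth.Agent.S11614.result R (R ⧸ Module.annihilator R M) I M (k + 1)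
    rw [Module.supportDim_eq_ringKrullDim_quotient_annihilator] at hi
    suffices h : Subsingleton
        (LocCoh.H (Ideal.map (algebraMap R (R ⧸ Module.annihilator R M)) I) (k + 1) M)
      from φ.symm.toEquiv.subsingleton
    have hle : ringKrullDim (R ⧸ Module.annihilator R M) ≤ (k : WithBot ℕ∞) :=
      withBot_le_of_lt_succ _ k hi
    exact Groth.Agent.S0325.result (R ⧸ Module.annihilator R M) _ k hle M (k + 1) (by omega)

end LC

end Groth.Agent.H6
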