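import Mathlib

/-! Secondary representations of Artinian modules (Macdonald), and the resulting
"dual prime avoidance": if `𝔞 A = A` for an Artinian module `A` then some `x ∈ 𝔞` (avoiding
finitely many given primes not containing `𝔞`) satisfies `x A = A`. -/

universe u v
open Pointwise

namespace Groth.Agent.H6

namespace Sec

variable {R : Type u} [CommRing R] {A : Type v} [AddCommGroup A] [Module R A]

/-- multiplication by `r` on a submodule is surjective -/
def SurjOn (r : R) (S : Submodule R A) : Prop := ∀ s ∈ S, ∃ s' ∈ S, r • s' = s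

/-- a power of `r` kills the submodule -/
def NilOn (r : R) (S : Submodule R A) : Prop := ∃ k : ℕ, ∀ s ∈ S, r ^ k • s = 0

/-- a secondary submodule -/
def IsSecondary (S : Submodule R A) : Prop :=
  S ≠ ⊥ ∧ ∀ r : R, SurjOn r S ∨ NilOn r S

theorem SurjOn.pow {r : R} {S : Submodule R A} (h : SurjOn r S) (k : ℕ) : SurjOn (r ^ k) S := by
  induction k with
  | zero => intro s hs; exact ⟨s, hs, by rw [pow_zero, one_smul]⟩
  | succ k ih =>
    intro s hs
    obtain ⟨s', hs', rfl⟩ := h s hs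
    obtain ⟨s'', hs'', rfl⟩ := ih s' hs'
    exact ⟨s'', hs'', by rw [pow_succ, mul_smul, smul_comm]⟩

theorem nilOn_iff {r : R} {S : Submodule R A} : NilOn r S ↔ r ∈ (S.annihilator).radical := by
  constructor
  · rintro ⟨k, hk⟩
    exact ⟨k, Submodule.mem_annihilator.mpr hk⟩
  · rintro ⟨k, hk⟩
    exact ⟨k, Submodule.mem_annihilator.mp hk⟩

/-- a secondary submodule is not both -/
theorem IsSecondary.not_nilOn_of_surjOn {S : Submodule R A} (hS : IsSecondary S) {r : R}
    (h : SurjOn r S) : ¬ NilOn r S := by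
  rintro ⟨k, hk⟩
  apply hS.1
  rw [eq_bot_iff]
  intro s hs
  obtain ⟨s', hs', rfl⟩ := h.pow k s hs
  rw [Submodule.mem_bot]
  exact hk s' hs'

/-- the prime of a secondary submodule -/
theorem IsSecondary.isPrime {S : Submodule R A} (hS : IsSecondary S) :
    (S.annihilator).radical.IsPrime := by
  refine ⟨?_, ?_⟩
  · intro h
    have h1 : (1 : R) ∈ (S.annihilator).radical := by rw [h]; trivial
    rw [← nilOn_iff] at h1
    apply hS.not_nilOn_of_surjOn _ h1
    intro s hs
    exact ⟨s, hs, one_smul _ _⟩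
  · intro r r' hrr'
    by_contra hcon
    push_neg at hcon
    obtain ⟨hr, hr'⟩ := hcon
    rw [← nilOn_iff] at hr hr' hrr'
    have h1 : SurjOn r S := (hS.2 r).resolve_right hr
    have h2 : SurjOn r' S := (hS.2 r').resolve_right hr'
    apply hS.not_nilOn_of_surjOn _ hrr'
    intro s hs
    obtain ⟨s', hs', rfl⟩ := h1 s hs
    obtain ⟨s'', hs'', rfl⟩ := h2 s' hs'
    exact ⟨s'', hs'', by rw [mul_smul]⟩

theorem IsSecondary.surjOn_of_notMem {S : Submodule R A} (hS : IsSecondary S) {r : R}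
    (hr : r ∉ (S.annihilator).radical) : SurjOn r S := by
  rw [← nilOn_iff] at hr
  exact (hS.2 r).resolve_right hr

/-- `B` is the sum of the finite family `F` of secondary submodules -/
def IsRep (F : Finset (Submodule R A)) (B : Submodule R A) : Prop :=
  (∀ S ∈ F, IsSecondary S) ∧ F.sup id = B

/-- the image of multiplication by `r` on a submodule -/
def mulSub (r : R) (B : Submodule R A) : Submodule R A := B.map (LinearMap.lsmul R A r)

theorem mem_mulSub {r : R} {B : Submodule R A} {y : A} : y ∈ mulSub r B ↔ ∃ b ∈ B, r • b = y := by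
  unfold mulSub
  rw [Submodule.mem_map]
  rfl

theorem mulSub_le (r : R) (B : Submodule R A) : mulSub r B ≤ B := by
  intro y hy
  obtain ⟨b, hb, rfl⟩ := mem_mulSub.mp hy
  exact B.smul_mem r hb

theorem mulSub_pow_antitone (r : R) (B : Submodule R A) {k k' : ℕ} (h : k ≤ k') :
    mulSub (r ^ k') B ≤ mulSub (r ^ k) B := by
  intro y hy
  obtain ⟨b, hb, rfl⟩ := mem_mulSub.mp hy
  obtain ⟨j, rfl⟩ := Nat.exists_eq_add_of_le h
  refine mem_mulSub.mpr ⟨r ^ j • b, B.smul_mem _ hb, ?_⟩
  rw [smul_smul, ← pow_add]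

/-- every submodule of an Artinian module is a finite sum of secondary submodules -/
theorem exists_rep [IsArtinian R A] (B : Submodule R A) :
    ∃ F : Finset (Submodule R A), IsRep F B := by
  classical
  induction B using IsArtinian.induction with
  | _ B ih =>
  by_cases hB : B = ⊥
  · exact ⟨∅, by simp, by simp [hB]⟩
  by_cases hsec : IsSecondary B
  · exact ⟨{B}, by simpa using hsec, by simp⟩
  -- `B` is not secondary
  have hr : ∃ r : R, ¬ SurjOn r B ∧ ¬ NilOn r B := by
    by_contra hcon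
    push_neg at hcon
    exact hsec ⟨hB, fun r => by by_cases h : SurjOn r B; exacts [Or.inl h, Or.inr (hcon r h)]⟩
  obtain ⟨r, hr1, hr2⟩ := hr
  obtain ⟨k₀, hk₀⟩ := IsArtinian.monotone_stabilizes
    (⟨fun j : ℕ => OrderDual.toDual (mulSub (r ^ j) B), fun a b hab =>
      mulSub_pow_antitone r B hab⟩ : ℕ →o (Submodule R A)ᵒᵈ)
  have hstab : ∀ j : ℕ, k₀ ≤ j → mulSub (r ^ k₀) B = mulSub (r ^ j) B := fun j hj =>
    congrArg OrderDual.ofDual (hk₀ j hj)
  set k := k₀ + 1 with hk
  set C := mulSub (r ^ k) B with hC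
  set K := B ⊓ LinearMap.ker (LinearMap.lsmul R A (r ^ k)) with hK
  have hC2 : C = mulSub (r ^ (k + k)) B := by
    rw [hC, ← hstab k (by omega), ← hstab (k + k) (by omega)]
  have hsum : C ⊔ K = B := by
    apply le_antisymm
    · exact sup_le (mulSub_le _ _) inf_le_left
    · intro b hb
      have h1 : r ^ k • b ∈ C := mem_mulSub.mpr ⟨b, hb, rfl⟩
      rw [hC2] at h1
      obtain ⟨b', hb', hbb'⟩ := mem_mulSub.mp h1
      have h2 : b = r ^ k • b' + (b - r ^ k • b') := by abel
      rw [h2]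
      refine Submodule.add_mem_sup (mem_mulSub.mpr ⟨b', hb', rfl⟩) ⟨?_, ?_⟩
      · exact B.sub_mem hb (B.smul_mem _ hb')
      · change b - r ^ k • b' ∈ LinearMap.ker (LinearMap.lsmul R A (r ^ k))
        rw [LinearMap.mem_ker, map_sub, LinearMap.lsmul_apply, LinearMap.lsmul_apply, smul_smul,
          ← pow_add, hbb', sub_self]
  have hCB : C < B := by
    refine lt_of_le_of_ne (mulSub_le _ _) fun h => hr1 ?_
    intro b hb
    rw [← h] at hb
    obtain ⟨b', hb', rfl⟩ := mem_mulSub.mp hb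
    refine ⟨r ^ k₀ • b', B.smul_mem _ hb', ?_⟩
    rw [smul_smul, ← pow_succ']
  have hKB : K < B := by
    refine lt_of_le_of_ne inf_le_left fun h => hr2 ⟨k, fun b hb => ?_⟩
    rw [← h] at hb
    exact hb.2
  obtain ⟨F1, hF1, hF1'⟩ := ih C hCB
  obtain ⟨F2, hF2, hF2'⟩ := ih K hKB
  refine ⟨F1 ∪ F2, ?_, ?_⟩
  · intro S hS
    rcases Finset.mem_union.mp hS with h | h
    · exact hF1 S h
    · exact hF2 S h
  · rw [Finset.sup_union, hF1', hF2', hsum]

theorem pow_smul_top_eq_top (𝔞 : Ideal R) (h : 𝔞 • (⊤ : Submodule R A) = ⊤) (k : ℕ) :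
    𝔞 ^ k • (⊤ : Submodule R A) = ⊤ := by
  induction k with
  | zero => rw [pow_zero, Ideal.one_eq_top, Submodule.top_smul]
  | succ k ih => rw [pow_succ, Submodule.mul_smul, h, ih]

/-- **dual prime avoidance** for Artinian modules: if `𝔞 A = A` then some `x ∈ 𝔞`, avoiding a given
finite set of primes not containing `𝔞`, acts surjectively on `A` -/
theorem exists_surjective_of_smul_top_eq_top [IsNoetherianRing R] [IsArtinian R A] (𝔞 : Ideal R)
    (h : 𝔞 • (⊤ : Submodule R A) = ⊤) (Ps : Finset (Ideal R))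
    (hPs : ∀ P ∈ Ps, P.IsPrime ∧ ¬ 𝔞 ≤ P) :
    ∃ x ∈ 𝔞, (∀ P ∈ Ps, x ∉ P) ∧ ∀ y : A, ∃ y' : A, x • y' = y := by
  classical
  have hex : ∃ n : ℕ, ∃ F : Finset (Submodule R A), IsRep F ⊤ ∧ F.card = n := by
    obtain ⟨F, hF⟩ := exists_rep (⊤ : Submodule R A)
    exact ⟨F.card, F, hF, rfl⟩
  obtain ⟨F, hF, hcard⟩ := Nat.find_spec hex
  have hmin : ∀ F' : Finset (Submodule R A), IsRep F' ⊤ → F.card ≤ F'.card := fun F' hF' =>
    hcard ▸ Nat.find_min' hex ⟨F', hF', rfl⟩
  -- no prime of a component contains `𝔞`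
  have hnot : ∀ S ∈ F, ¬ 𝔞 ≤ (S.annihilator).radical := by
    intro S hS hle
    obtain ⟨k, hk⟩ := Ideal.exists_pow_le_of_le_radical_of_fg hle (IsNoetherian.noetherian 𝔞)
    have hrep : IsRep (F.erase S) ⊤ := by
      refine ⟨fun S' hS' => hF.1 S' (Finset.mem_of_mem_erase hS'), ?_⟩
      rw [eq_top_iff, ← pow_smul_top_eq_top 𝔞 h k, Submodule.smul_le]
      intro r hr n _
      have hn : n ∈ S ⊔ (F.erase S).sup id := by
        have : F.sup id = S ⊔ (F.erase S).sup id := by
          conv_lhs => rw [← Finset.insert_erase hS]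
          rw [Finset.sup_insert]
          rfl
        rw [← this, hF.2]
        trivial
      obtain ⟨s, hs, t, ht, rfl⟩ := Submodule.mem_sup.mp hn
      rw [smul_add, Submodule.mem_annihilator.mp (hk hr) s hs, zero_add]
      exact Submodule.smul_mem _ r ht
    have h1 := hmin _ hrep
    rw [Finset.card_erase_of_mem hS] at h1
    have h2 : 0 < F.card := Finset.card_pos.mpr ⟨S, hS⟩
    omega
  -- prime avoidance
  set Q : Finset (Ideal R) := F.image (fun S => (S.annihilator).radical) ∪ Ps with hQ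
  have hQprime : ∀ P ∈ Q, P.IsPrime ∧ ¬ 𝔞 ≤ P := by
    intro P hP
    rcases Finset.mem_union.mp hP with h1 | h1
    · obtain ⟨S, hS, rfl⟩ := Finset.mem_image.mp h1
      exact ⟨(hF.1 S hS).isPrime, hnot S hS⟩
    · exact hPs P h1
  have hsub : ¬ ((𝔞 : Set R) ⊆ ⋃ P ∈ (Q : Set (Ideal R)), (P : Set R)) := by
    rw [Ideal.subset_union_prime (s := Q) (f := fun P => P) ⊥ ⊥
      (fun P hP _ _ => (hQprime P hP).1)]
    rintro ⟨P, hP, hle⟩
    exact (hQprime P hP).2 hle
  rw [Set.not_subset] at hsub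
  obtain ⟨x, hx𝔞, hxQ⟩ := hsub
  have hxQ' : ∀ P ∈ Q, x ∉ P := by
    intro P hP hxP
    apply hxQ
    simp only [Set.mem_iUnion, SetLike.mem_coe]
    exact ⟨P, hP, hxP⟩
  refine ⟨x, hx𝔞, fun P hP => hxQ' P (Finset.mem_union_right _ hP), ?_⟩
  have hall : F.sup id ≤ mulSub x (⊤ : Submodule R A) := by
    apply Finset.sup_le
    intro S hS s hs
    have hxS : x ∉ (S.annihilator).radical :=
      hxQ' _ (Finset.mem_union_left _ (Finset.mem_image_of_mem _ hS))
    obtain ⟨s', -, rfl⟩ := (hF.1 S hS).surjOn_of_notMem hxS s hs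
    exact mem_mulSub.mpr ⟨s', trivial, rfl⟩
  intro y
  have hy : y ∈ F.sup id := by rw [hF.2]; trivial
  obtain ⟨y', -, hy'⟩ := mem_mulSub.mp (hall hy)
  exact ⟨y', hy'⟩

end Sec

end Groth.Agent.H6
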