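import Mathlib
import Groth.Prelude.Def_Wider
import Groth.Agent.Lib.Helper6.LCArtinian
import Groth.Agent.Lib.Helper6.LCGroVanish
import Groth.Agent.Lib.Helper6.Secondary
import Groth.Agent.Lib.Helper6.HomToDomain

/-! Grothendieck's non-vanishing theorem: `H^n_m(M) ≠ 0` for a finitely generated module `M` of
dimension `n` over a Noetherian local ring `(R, m)`.  Elementary proof via secondary
representations of the Artinian modules `H^i_m(M)`. -/

universe u
open CategoryTheory CategoryTheory.Limits Opposite CategoryTheory.Abelian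
open Pointwise

namespace Groth.Agent.H6

namespace LC

variable {R : Type u} [CommRing R] [IsNoetherianRing R]

section General

variable {I : Ideal R}

/-- surjectivity of `H^n(X₂) → H^n(X₃)` when `H^{n+1}(X₁) = 0` -/
theorem map_g_surjective {S : ShortComplex (ModuleCat.{u} R)} (hS : S.ShortExact) (n : ℕ)
    (h : Subsingleton ((localCohomology I (n + 1)).obj S.X₁)) :
    Function.Surjective ((localCohomology I n).map S.g).hom :=
  fun z => exact₃ hS z (Subsingleton.elim _ _)

/-- surjectivity of `H^n(X₁) → H^n(X₂)` when `H^n(X₃) = 0` -/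
theorem map_f_surjective {S : ShortComplex (ModuleCat.{u} R)} (hS : S.ShortExact) (n : ℕ)
    (h : Subsingleton ((localCohomology I n).obj S.X₃)) :
    Function.Surjective ((localCohomology I n).map S.f).hom :=
  fun y => exact₂ hS y (Subsingleton.elim _ _)

/-- the short exact sequence `0 → ker f → M → range f → 0` and surjectivity on top cohomology -/
theorem map_rangeRestrict_surjective {M N : Type u} [AddCommGroup M] [Module R M]
    [AddCommGroup N] [Module R N] (f : M →ₗ[R] N) (n : ℕ)
    (h : Subsingleton (LocCoh.H I (n + 1) (LinearMap.ker f))) :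
    Function.Surjective ((localCohomology I n).map (ModuleCat.ofHom f.rangeRestrict)).hom := by
  have hS := LinearMap.shortExact_shortComplexKer (f := f.rangeRestrict) f.surjective_rangeRestrict
  have hker : LinearMap.ker f.rangeRestrict = LinearMap.ker f := LinearMap.ker_rangeRestrict f
  have h' : Subsingleton ((localCohomology I (n + 1)).obj
      (ModuleCat.of R (LinearMap.ker f.rangeRestrict))) := by
    rw [hker]
    exact h
  exact map_g_surjective hS n h'

end General

section Dim

/-- a finitely generated module has a prime in its support of the same dimension -/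
theorem exists_prime_ringKrullDim_eq (M : Type u) [AddCommGroup M] [Module R M] [Module.Finite R M]
    (n : ℕ) (hn : Module.supportDim R M = n) :
    ∃ p : Ideal R, p.IsPrime ∧ Module.annihilator R M ≤ p ∧ ringKrullDim (R ⧸ p) = n := by
  have h1 : (n : WithBot ℕ∞) ≤ Order.krullDim (Module.support R M) := hn.ge
  obtain ⟨l, hl⟩ := Order.le_krullDim_iff.mp h1
  refine ⟨l.head.1.asIdeal, l.head.1.2, Module.mem_support_iff_of_finite.mp l.head.2, ?_⟩
  rw [ringKrullDim_quotient]
  apply le_antisymm
  · rw [← hn]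
    refine Order.krullDim_le_of_strictMono (fun q => ⟨q.1, ?_⟩) (fun _ _ h => h)
    exact Module.mem_support_mono (show l.head.1 ≤ q.1 from q.2) l.head.2
  · apply Order.le_krullDim_iff.mpr
    refine ⟨{ length := l.length
              toFun := fun i => ⟨(l i).1, ?_⟩
              step := fun i => l.step i }, hl⟩
    exact l.head_le i

end Dim

section Quot

variable (p : Ideal R)

/-- a module killed by `p` has dimension at most that of `R/p` -/
theorem supportDim_le_of_le_annihilator (N : Type u) [AddCommGroup N] [Module R N]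
    [Module.Finite R N] (hp : p ≤ Module.annihilator R N) :
    Module.supportDim R N ≤ ringKrullDim (R ⧸ p) := by
  rw [Module.supportDim_eq_ringKrullDim_quotient_annihilator]
  exact ringKrullDim_le_of_surjective (Ideal.Quotient.factor hp)
    (Ideal.Quotient.factor_surjective hp)

theorem le_annihilator_of_forall {N : Type u} [AddCommGroup N] [Module R N]
    (h : ∀ r ∈ p, ∀ y : N, r • y = 0) : p ≤ Module.annihilator R N :=
  fun r hr => Module.mem_annihilator.mpr (h r hr)

/-- the canonical map `(R/p)^t → N` attached to a family of elements of a module killed by `p` -/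
noncomputable def famMap {N : Type u} [AddCommGroup N] [Module R N]
    (h : ∀ r ∈ p, ∀ y : N, r • y = 0) {t : ℕ} (g : Fin t → N) : (Fin t →₀ R ⧸ p) →ₗ[R] N :=
  Finsupp.lsum ℕ (fun j => p.liftQ (LinearMap.toSpanSingleton R N (g j)) (by
    intro r hr
    rw [LinearMap.mem_ker, LinearMap.toSpanSingleton_apply]
    exact h r hr (g j)))

theorem famMap_single {N : Type u} [AddCommGroup N] [Module R N]
    (h : ∀ r ∈ p, ∀ y : N, r • y = 0) {t : ℕ} (g : Fin t → N) (j : Fin t) (c : R) :
    famMap p h g (Finsupp.single j (Submodule.Quotient.mk c)) = c • g j := by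
  unfold famMap
  rw [Finsupp.lsum_single]
  rfl

theorem famMap_surjective {N : Type u} [AddCommGroup N] [Module R N]
    (h : ∀ r ∈ p, ∀ y : N, r • y = 0) {t : ℕ} (g : Fin t → N)
    (hg : Submodule.span R (Set.range g) = ⊤) : Function.Surjective (famMap p h g) := by
  intro y
  have hy : y ∈ Submodule.span R (Set.range g) := by rw [hg]; trivial
  obtain ⟨c, rfl⟩ := (Submodule.mem_span_range_iff_exists_fun R).mp hy
  refine ⟨∑ j, Finsupp.single j (Submodule.Quotient.mk (c j)), ?_⟩
  rw [map_sum]
  exact Finset.sum_congr rfl fun j _ => famMap_single p h g j (c j)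

theorem smul_finsupp_quot_eq_zero {t : ℕ} (r : R) (hr : r ∈ p) (v : Fin t →₀ R ⧸ p) :
    r • v = 0 := by
  ext j
  rw [Finsupp.smul_apply, Finsupp.zero_apply]
  obtain ⟨c, hc⟩ := Submodule.Quotient.mk_surjective p (v j)
  rw [← hc, ← Submodule.Quotient.mk_smul, Submodule.Quotient.mk_eq_zero, smul_eq_mul]
  exact p.mul_mem_right c hr

/-- if the top local cohomology of `R/p` vanishes, so does that of every finitely generated
module killed by `p` -/
theorem subsingleton_of_killed (I : Ideal R) (n : ℕ) (hdim : ringKrullDim (R ⧸ p) = n)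
    (hD : Subsingleton (LocCoh.H I n (R ⧸ p))) (N : Type u) [AddCommGroup N] [Module R N]
    [Module.Finite R N] (h : ∀ r ∈ p, ∀ y : N, r • y = 0) : Subsingleton (LocCoh.H I n N) := by
  obtain ⟨t, g, hg⟩ := Module.Finite.exists_fin (R := R) (M := N)
  have hsurj := famMap_surjective p h g hg
  have hS := LinearMap.shortExact_shortComplexKer (f := famMap p h g) hsurj
  -- the kernel has dimension at most `n`
  haveI : IsNoetherian R (Fin t →₀ R ⧸ p) := isNoetherian_of_isNoetherianRing_of_finite R _
  have hK : Subsingleton (LocCoh.H I (n + 1) (LinearMap.ker (famMap p h g))) := by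
    apply subsingleton_of_supportDim_lt
    refine lt_of_le_of_lt (supportDim_le_of_le_annihilator p _ ?_) ?_
    · apply le_annihilator_of_forall
      intro r hr y
      apply Subtype.ext
      rw [Submodule.coe_smul, smul_finsupp_quot_eq_zero p r hr]
      rfl
    · rw [hdim]
      exact_mod_cast Nat.lt_succ_self n
  have hsurj2 := map_g_surjective (I := I) hS n hK
  have hzero : ∀ x : (localCohomology I n).obj (ModuleCat.of R (Fin t →₀ R ⧸ p)), x = 0 := by
    intro x
    have := smul_eq_zero_finsupp (I := I) (i := n) (X := R ⧸ p) (1 : R)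
      (fun x => by rw [one_smul]; exact Subsingleton.elim _ _) t x
    rwa [one_smul] at this
  refine ⟨fun a b => ?_⟩
  have h0 : ∀ z : LocCoh.H I n N, z = 0 := by
    intro z
    obtain ⟨x, rfl⟩ := hsurj2 z
    rw [hzero x, map_zero]
  rw [h0 a, h0 b]

end Quot

section Main

variable [IsLocalRing R]

open IsLocalRing

/-- if `H^{k+2}_m(R/p) = 0` with `dim R/p = k + 2` then `A = H^{k+1}_m(R/p)` satisfies `m A = A` -/
theorem smul_top_eq_top_of_vanishing (p : Ideal R) (k : ℕ)
    (hdim : ringKrullDim (R ⧸ p) = ((k + 2 : ℕ) : WithBot ℕ∞))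
    (hD : Subsingleton (LocCoh.H (maximalIdeal R) (k + 2) (R ⧸ p))) :
    maximalIdeal R • (⊤ : Submodule R (LocCoh.H (maximalIdeal R) (k + 1) (R ⧸ p))) = ⊤ := by
  classical
  obtain ⟨s, a, ha⟩ := Submodule.fg_iff_exists_fin_generating_family.mp
    (IsNoetherian.noetherian (maximalIdeal R))
  -- the map `(d_j) ↦ ∑ a_j d_j`
  let ψ : ModuleCat.of R (Fin s →₀ R ⧸ p) ⟶ ModuleCat.of R (R ⧸ p) :=
    ∑ j, a j • ModuleCat.ofHom (Finsupp.lapply (R := R) (M := R ⧸ p) j)
  let φ : (Fin s →₀ R ⧸ p) →ₗ[R] R ⧸ p := ψ.hom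
  have hφ : ∀ v, φ v = ∑ j, a j • v j := by
    intro v
    change ψ.hom v = _
    rw [ModuleCat.hom_sum, LinearMap.sum_apply]
    rfl
  have hφsingle : ∀ (j : Fin s) (d : R ⧸ p), φ (Finsupp.single j d) = a j • d := by
    intro j d
    rw [hφ, Finset.sum_eq_single j]
    · rw [Finsupp.single_eq_same]
    · intro i _ hij
      rw [Finsupp.single_eq_of_ne hij, smul_zero]
    · intro h; exact absurd (Finset.mem_univ j) h
  have hquot : ∀ r ∈ maximalIdeal R, ∀ d : R ⧸ p, r • d ∈ LinearMap.range φ := by
    intro r hr d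
    have hr' : r ∈ Submodule.span R (Set.range a) := by rw [ha]; exact hr
    refine Submodule.span_induction ?_ ?_ ?_ ?_ hr'
    · rintro _ ⟨j, rfl⟩
      exact ⟨Finsupp.single j d, hφsingle j d⟩
    · rw [zero_smul]; exact zero_mem _
    · intro x y _ _ hx hy
      rw [add_smul]; exact add_mem hx hy
    · intro c x _ hx
      rw [smul_assoc]; exact Submodule.smul_mem _ c hx
  -- `H^{k+1}(range φ) → H^{k+1}(R/p)` is surjective
  have hS2 := subSES_shortExact (LinearMap.range φ)
  have htors : ∀ t : (ModuleCat.of R ((R ⧸ p) ⧸ LinearMap.range φ)),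
      t ∈ DRing.torsionSub (maximalIdeal R) (ModuleCat.of R ((R ⧸ p) ⧸ LinearMap.range φ)) := by
    intro t
    obtain ⟨d, rfl⟩ := Submodule.Quotient.mk_surjective _ t
    refine ⟨1, fun r hr => ?_⟩
    rw [pow_one] at hr
    rw [← Submodule.Quotient.mk_smul, Submodule.Quotient.mk_eq_zero]
    exact hquot r hr d
  have h3 := subsingleton_of_torsion (maximalIdeal R) k _ htors
  have hsurj2 := map_f_surjective (I := maximalIdeal R) hS2 (k + 1) h3
  -- `H^{k+1}((R/p)^s) → H^{k+1}(range φ)` is surjective
  haveI : IsNoetherian R (Fin s →₀ R ⧸ p) := isNoetherian_of_isNoetherianRing_of_finite R _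
  have hK : Subsingleton (LocCoh.H (maximalIdeal R) (k + 1 + 1) (LinearMap.ker φ)) := by
    apply subsingleton_of_killed p (maximalIdeal R) (k + 2) hdim hD
    intro r hr y
    apply Subtype.ext
    rw [Submodule.coe_smul, smul_finsupp_quot_eq_zero p r hr]
    rfl
  have hsurj1 := map_rangeRestrict_surjective (I := maximalIdeal R) φ (k + 1) hK
  rw [eq_top_iff]
  intro y _
  obtain ⟨z, rfl⟩ := hsurj2 y
  obtain ⟨w, rfl⟩ := hsurj1 z
  have hcomp : ModuleCat.ofHom φ.rangeRestrict ≫ ModuleCat.ofHom (LinearMap.range φ).subtype = ψ := by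
    apply ModuleCat.hom_ext
    apply LinearMap.ext
    intro v
    rfl
  change ((localCohomology (maximalIdeal R) (k + 1)).map
    (ModuleCat.ofHom (LinearMap.range φ).subtype)).hom
    (((localCohomology (maximalIdeal R) (k + 1)).map (ModuleCat.ofHom φ.rangeRestrict)).hom w) ∈ _
  rw [← map_comp_hom, hcomp, map_sum_hom]
  apply Submodule.sum_mem
  intro j _
  rw [map_smul_hom]
  apply Submodule.smul_mem_smul _ Submodule.mem_top
  have : a j ∈ Submodule.span R (Set.range a) := Submodule.subset_span ⟨j, rfl⟩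
  rwa [ha] at this

theorem withBot_eq_of_add_one_eq (a : WithBot ℕ∞) (n : ℕ)
    (h : a + 1 = ((n + 1 : ℕ) : WithBot ℕ∞)) : a = (n : WithBot ℕ∞) := by
  induction a using WithBot.recBotCoe with
  | bot =>
    exfalso
    rw [WithBot.bot_add] at h
    have h2 : ((n + 1 : ℕ) : WithBot ℕ∞) = (((n + 1 : ℕ) : ℕ∞) : WithBot ℕ∞) := rfl
    rw [h2] at h
    exact WithBot.bot_ne_coe h
  | coe a =>
    have h' : a + 1 = ((n + 1 : ℕ) : ℕ∞) := by exact_mod_cast h
    have h2 : a = (n : ℕ∞) := by
      have h3 : a + 1 = (n : ℕ∞) + 1 := by rw [h']; push_cast; rfl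
      exact (ENat.add_left_injective_of_ne_top ENat.one_ne_top) h3
    rw [h2]
    rfl

theorem not_maximalIdeal_le_of_dim (p : Ideal R) [hp : p.IsPrime] (n : ℕ)
    (hdim : ringKrullDim (R ⧸ p) = ((n + 1 : ℕ) : WithBot ℕ∞)) : ¬ maximalIdeal R ≤ p := by
  intro hle
  have hpm : p = maximalIdeal R :=
    ((IsLocalRing.maximalIdeal.isMaximal R).eq_of_le hp.ne_top hle).symm
  subst hpm
  letI : Field (R ⧸ maximalIdeal R) := Ideal.Quotient.field _
  rw [ringKrullDim_eq_zero_of_field] at hdim
  have : (0 : ℕ) = n + 1 := by exact_mod_cast hdim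
  omega

/-- `R/p` has no `m`-torsion when `p ≠ m` -/
theorem torsionSub_quot_prime_eq_bot (p : Ideal R) [hp : p.IsPrime] (hpm : ¬ maximalIdeal R ≤ p) :
    DRing.torsionSub (maximalIdeal R) (R ⧸ p) = ⊥ := by
  obtain ⟨a, ham, hap⟩ := SetLike.not_le_iff_exists.mp hpm
  rw [eq_bot_iff]
  rintro d ⟨k, hk⟩
  obtain ⟨c, rfl⟩ := Submodule.Quotient.mk_surjective p d
  rw [Submodule.mem_bot, Submodule.Quotient.mk_eq_zero]
  have h1 := hk (a ^ k) (Ideal.pow_mem_pow ham k)
  rw [← Submodule.Quotient.mk_smul, Submodule.Quotient.mk_eq_zero, smul_eq_mul] at h1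
  rcases hp.mem_or_mem h1 with h | h
  · exact absurd (hp.mem_of_pow_mem k h) hap
  · exact h

theorem isSMulRegular_quot_prime (p : Ideal R) [hp : p.IsPrime] {x : R} (hx : x ∉ p) :
    IsSMulRegular (R ⧸ p) x := by
  intro d d' h
  rw [← sub_eq_zero] at h ⊢
  have h' : x • (d - d') = 0 := by rw [smul_sub]; exact h
  obtain ⟨c, hc⟩ := Submodule.Quotient.mk_surjective p (d - d')
  rw [← hc] at h' ⊢
  rw [← Submodule.Quotient.mk_smul, Submodule.Quotient.mk_eq_zero, smul_eq_mul] at h'
  rw [Submodule.Quotient.mk_eq_zero]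
  exact (hp.mem_or_mem h').resolve_left hx

/-- the inductive step for the quotients `R/p` -/
theorem nontrivial_quot_succ (n : ℕ)
    (ih : ∀ (N : Type u) [AddCommGroup N] [Module R N] [Module.Finite R N],
      Module.supportDim R N = n → Nontrivial (LocCoh.H (maximalIdeal R) n N))
    (p : Ideal R) [hp : p.IsPrime] (hdim : ringKrullDim (R ⧸ p) = ((n + 1 : ℕ) : WithBot ℕ∞)) :
    Nontrivial (LocCoh.H (maximalIdeal R) (n + 1) (R ⧸ p)) := by
  classical
  by_contra hnon
  rw [not_nontrivial_iff_subsingleton] at hnon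
  have hpm := not_maximalIdeal_le_of_dim p n hdim
  -- an element `x ∈ m ∖ p` acting surjectively on `A = H^n(R/p)`
  obtain ⟨x, hxm, hxp, hxA⟩ : ∃ x ∈ maximalIdeal R, x ∉ p ∧
      ∀ y : LocCoh.H (maximalIdeal R) n (R ⧸ p), ∃ y', x • y' = y := by
    cases n with
    | zero =>
      obtain ⟨a, ham, hap⟩ := SetLike.not_le_iff_exists.mp hpm
      refine ⟨a, ham, hap, fun y => ⟨y, ?_⟩⟩
      have htf := torsionSub_quot_prime_eq_bot p hpm
      have hsub : Subsingleton (LocCoh.H (maximalIdeal R) 0 (R ⧸ p)) := by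
        have e := zeroEquiv (maximalIdeal R) (ModuleCat.of R (R ⧸ p))
        have : Subsingleton (DRing.torsionSub (maximalIdeal R) (ModuleCat.of R (R ⧸ p))) := by
          change Subsingleton (DRing.torsionSub (maximalIdeal R) (R ⧸ p))
          rw [htf]
          infer_instance
        exact e.toEquiv.subsingleton
      exact Subsingleton.elim _ _
    | succ k =>
      haveI : IsArtinian R (LocCoh.H (maximalIdeal R) (k + 1) (R ⧸ p)) :=
        isArtinian_H (maximalIdeal R) (k + 1) (R ⧸ p)
      have htop := smul_top_eq_top_of_vanishing p k hdim hnon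
      obtain ⟨x, hxm, hxP, hxA⟩ := Sec.exists_surjective_of_smul_top_eq_top (maximalIdeal R) htop
        {p} (by
          intro P hP
          rw [Finset.mem_singleton] at hP
          subst hP
          exact ⟨hp, hpm⟩)
      exact ⟨x, hxm, hxP p (Finset.mem_singleton_self p), hxA⟩
  have hreg : IsSMulRegular (R ⧸ p) x := isSMulRegular_quot_prime p hxp
  have hreg' : IsSMulRegular (ModuleCat.of R (R ⧸ p)) x := hreg
  have hS := hreg'.smulShortComplex_shortExact
  -- dimension of the quotient
  have hd : Module.supportDim R (QuotSMulTop x (R ⧸ p)) = n := by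
    apply withBot_eq_of_add_one_eq
    rw [Module.supportDim_quotSMulTop_succ_eq_supportDim hreg hxm,
      Module.supportDim_quotient_eq_ringKrullDim, hdim]
  haveI := ih (QuotSMulTop x (R ⧸ p)) hd
  -- but the long exact sequence shows that it vanishes
  have hzero : ∀ c : (localCohomology (maximalIdeal R) n).obj
      ((ModuleCat.of R (R ⧸ p)).smulShortComplex x).X₃, c = 0 := by
    intro c
    obtain ⟨y, rfl⟩ := exact₃ hS c (Subsingleton.elim (h := hnon) _ _)
    obtain ⟨y', rfl⟩ := hxA y
    have h1 : x • y' = ((localCohomology (maximalIdeal R) n).map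
        ((ModuleCat.of R (R ⧸ p)).smulShortComplex x).f).hom y' := by
      rw [ModuleCat.smulShortComplex_f_eq_smul_id]
      exact (map_smul_id x y').symm
    rw [h1]
    exact map_comp_map_eq_zero (S := (ModuleCat.of R (R ⧸ p)).smulShortComplex x) y'
  obtain ⟨c, c', hcc'⟩ := exists_pair_ne (LocCoh.H (maximalIdeal R) n (QuotSMulTop x (R ⧸ p)))
  exact hcc' ((hzero c).trans (hzero c').symm)

/-- the base case: `H^0_m(R/p) ≠ 0` when `dim R/p = 0` -/
theorem nontrivial_quot_zero (p : Ideal R) [hp : p.IsPrime]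
    (hdim : ringKrullDim (R ⧸ p) = ((0 : ℕ) : WithBot ℕ∞)) :
    Nontrivial (LocCoh.H (maximalIdeal R) 0 (R ⧸ p)) := by
  -- `p` is the maximal ideal
  haveI : Ring.KrullDimLE 0 (R ⧸ p) := by
    rw [Ring.krullDimLE_iff]
    exact hdim.le
  have hbot : (⊥ : Ideal (R ⧸ p)).IsMaximal := Ideal.isMaximal_of_isPrime _
  have hfield : IsField (R ⧸ p) := Ring.isField_iff_maximal_bot.mpr hbot
  have hmax : p.IsMaximal := Ideal.Quotient.maximal_of_isField p hfield
  have hpm : p = maximalIdeal R := IsLocalRing.eq_maximalIdeal hmax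
  -- the class of `1` is a nonzero torsion element
  have h1 : (Submodule.Quotient.mk (1 : R) : R ⧸ p) ∈
      DRing.torsionSub (maximalIdeal R) (ModuleCat.of R (R ⧸ p)) := by
    refine ⟨1, fun a ha => ?_⟩
    rw [pow_one, ← hpm] at ha
    rw [← Submodule.Quotient.mk_smul, smul_eq_mul, mul_one]
    exact (Submodule.Quotient.mk_eq_zero p).mpr ha
  obtain ⟨z, hz⟩ := exists_of_mem_torsionSub (I := maximalIdeal R) (ModuleCat.of R (R ⧸ p)) _ h1
  refine ⟨z, 0, fun h0 => ?_⟩
  rw [h0, map_zero] at hz
  have : (1 : R) ∈ p := (Submodule.Quotient.mk_eq_zero p).mp hz.symm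
  exact hp.ne_top ((Ideal.eq_top_iff_one p).mpr this)

theorem withBot_lt_of_add_one_le (a : WithBot ℕ∞) (n : ℕ) (h : a + 1 ≤ (n : WithBot ℕ∞)) :
    a < (n : WithBot ℕ∞) := by
  induction a using WithBot.recBotCoe with
  | bot => exact WithBot.bot_lt_coe _
  | coe a =>
    have h' : a + 1 ≤ (n : ℕ∞) := by exact_mod_cast h
    have h2 : a < (n : ℕ∞) := by
      have hfin : a ≠ ⊤ := by
        rintro rfl
        simp at h'
      exact lt_of_lt_of_le (ENat.lt_add_one_iff hfin |>.mpr le_rfl) h'
    exact_mod_cast h2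

/-- reduction of the general case to the quotients `R/p` -/
theorem nontrivial_of_quot (n : ℕ)
    (hQ : ∀ (p : Ideal R) [p.IsPrime], ringKrullDim (R ⧸ p) = (n : WithBot ℕ∞) →
      Nontrivial (LocCoh.H (maximalIdeal R) n (R ⧸ p)))
    (M : Type u) [AddCommGroup M] [Module R M] [Module.Finite R M]
    (hn : Module.supportDim R M = n) : Nontrivial (LocCoh.H (maximalIdeal R) n M) := by
  obtain ⟨p, hp, hann, hdim⟩ := exists_prime_ringKrullDim_eq M n hn
  haveI := hp
  haveI := hQ p hdim
  obtain ⟨f, hf⟩ := exists_ne_zero_hom_quot M p hann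
  -- `H^n(M) → H^n(range f)` is surjective
  have hK : Subsingleton (LocCoh.H (maximalIdeal R) (n + 1) (LinearMap.ker f)) := by
    haveI : IsNoetherian R M := isNoetherian_of_isNoetherianRing_of_finite R M
    apply subsingleton_of_supportDim_lt
    refine lt_of_le_of_lt (Module.supportDim_le_of_injective (LinearMap.ker f).subtype
      (Submodule.injective_subtype _)) ?_
    rw [hn]
    exact_mod_cast Nat.lt_succ_self n
  have hsurj1 := map_rangeRestrict_surjective (I := maximalIdeal R) f n hK
  -- `H^n(range f) → H^n(R/p)` is surjective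
  have hS2 := subSES_shortExact (LinearMap.range f)
  have hC : Subsingleton (LocCoh.H (maximalIdeal R) n ((R ⧸ p) ⧸ LinearMap.range f)) := by
    apply subsingleton_of_supportDim_lt
    -- a nonzero element of the range
    obtain ⟨m, hm⟩ : ∃ m : M, f m ≠ 0 := by
      by_contra hcon
      push_neg at hcon
      exact hf (LinearMap.ext hcon)
    obtain ⟨y, hy⟩ := Submodule.Quotient.mk_surjective p (f m)
    have hyp : y ∉ p := fun h => hm (by rw [← hy]; exact (Submodule.Quotient.mk_eq_zero p).mpr h)
    -- `(R/p)/range f` is a quotient of `(R/p)/y(R/p)`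
    have hle : y • (⊤ : Submodule R (R ⧸ p)) ≤ LinearMap.range f := by
      intro z hz
      obtain ⟨d, -, rfl⟩ := (Submodule.mem_smul_pointwise_iff_exists _ _ _).mp hz
      obtain ⟨c, rfl⟩ := Submodule.Quotient.mk_surjective p d
      refine ⟨c • m, ?_⟩
      rw [map_smul, ← hy]
      change c • Submodule.Quotient.mk y = y • Submodule.Quotient.mk c
      rw [← Submodule.Quotient.mk_smul, ← Submodule.Quotient.mk_smul, smul_eq_mul, smul_eq_mul,
        mul_comm]
    have h1 : Module.supportDim R ((R ⧸ p) ⧸ LinearMap.range f) ≤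
        Module.supportDim R (QuotSMulTop y (R ⧸ p)) :=
      Module.supportDim_le_of_surjective (Submodule.mapQ _ _ LinearMap.id hle)
        (fun q => by
          obtain ⟨d, rfl⟩ := Submodule.Quotient.mk_surjective _ q
          exact ⟨Submodule.Quotient.mk d, rfl⟩)
    have h2 : Module.supportDim R (QuotSMulTop y (R ⧸ p)) + 1 ≤ Module.supportDim R (R ⧸ p) := by
      apply Module.supportDim_quotSMulTop_succ_le_of_notMem_minimalPrimes
      intro q hq
      rw [Ideal.annihilator_quotient, Ideal.minimalPrimes_eq_subsingleton_self] at hq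
      rw [Set.mem_singleton_iff.mp hq]
      exact hyp
    rw [Module.supportDim_quotient_eq_ringKrullDim, hdim] at h2
    exact lt_of_le_of_lt h1 (withBot_lt_of_add_one_le _ n h2)
  have hsurj2 := map_f_surjective (I := maximalIdeal R) hS2 n hC
  obtain ⟨c, c', hcc'⟩ := exists_pair_ne (LocCoh.H (maximalIdeal R) n (R ⧸ p))
  obtain ⟨z, rfl⟩ := hsurj2 c
  obtain ⟨z', rfl⟩ := hsurj2 c'
  obtain ⟨w, rfl⟩ := hsurj1 z
  obtain ⟨w', rfl⟩ := hsurj1 z'
  exact ⟨w, w', fun h => hcc' (by rw [h])⟩

/-- **Grothendieck's non-vanishing theorem** -/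
theorem nontrivial_H_of_supportDim_eq (n : ℕ) :
    ∀ (M : Type u) [AddCommGroup M] [Module R M] [Module.Finite R M],
      Module.supportDim R M = n → Nontrivial (LocCoh.H (maximalIdeal R) n M) := by
  induction n with
  | zero =>
    intro M _ _ _ hn
    exact nontrivial_of_quot 0 (fun p _ hdim => nontrivial_quot_zero p hdim) M hn
  | succ n ih =>
    intro M _ _ _ hn
    exact nontrivial_of_quot (n + 1) (fun p _ hdim => nontrivial_quot_succ n ih p hdim) M hn

end Main

end LC

end Groth.Agent.H6
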