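import Mathlib
import Groth.Prelude.Def_Wider
import Groth.Agent.Lib.Helper6.FlatDepth
import Groth.Agent.Lib.Helper6.LCTop
import Groth.Agent.Lib.Helper6.LCNonvanish
import Groth.Agent.Lib.Helper6.DimLemmas

/-! Dimension and flat local homomorphisms:
`dim_S(N ⊗_R M) = dim_R M + dim_S(N/𝔪_R N)`. -/

universe u
set_option linter.style.haveILetI false
open scoped Pointwise
open TensorProduct

namespace Groth.Agent.H6

namespace FlatDim

open FlatDepth

section Tensor

variable {R S : Type u} [CommRing R] [CommRing S] [Algebra R S]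
  (N : Type u) [AddCommGroup N] [Module S N] [Module R N] [IsScalarTower R S N]
  (M : Type u) [AddCommGroup M] [Module R M]

/-- `(N ⊗ M)/x(N ⊗ M) ≅ N ⊗ (M/xM)` -/
theorem nonempty_quotSMulTop_tensor_equiv (x : R) :
    Nonempty (QuotSMulTop (algebraMap R S x) (N ⊗[R] M) ≃ₗ[S] N ⊗[R] QuotSMulTop x M) := by
  let π : N ⊗[R] M →ₗ[S] N ⊗[R] QuotSMulTop x M :=
    TensorProduct.AlgebraTensorModule.lTensor S N (Submodule.mkQ _)
  have hπ : Function.Surjective π := LinearMap.lTensor_surjective N (Submodule.mkQ_surjective _)
  have hex : Function.Exact ((LinearMap.lsmul R M x).lTensor N)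
      ((Submodule.mkQ (x • (⊤ : Submodule R M))).lTensor N) := by
    apply lTensor_exact N _ (Submodule.mkQ_surjective _)
    intro m
    rw [Submodule.mkQ_apply, Submodule.Quotient.mk_eq_zero,
      Submodule.mem_smul_pointwise_iff_exists]
    constructor
    · rintro ⟨w, -, rfl⟩
      exact ⟨w, rfl⟩
    · rintro ⟨w, rfl⟩
      exact ⟨w, Submodule.mem_top, rfl⟩
  have key : ∀ z : N ⊗[R] M, (LinearMap.lsmul R M x).lTensor N z = (algebraMap R S x) • z := by
    intro z
    rw [algebraMap_smul_tensor]
    induction z using TensorProduct.induction_on with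
    | zero => simp
    | tmul n m => rw [LinearMap.lTensor_tmul, TensorProduct.smul_tmul', TensorProduct.smul_tmul]; rfl
    | add a b ha hb => rw [map_add, smul_add, ha, hb]
  have h : (algebraMap R S x) • (⊤ : Submodule S (N ⊗[R] M)) = LinearMap.ker π := by
    ext z
    rw [LinearMap.mem_ker, Submodule.mem_smul_pointwise_iff_exists]
    have h1 := hex z
    constructor
    · rintro ⟨w, -, rfl⟩
      apply h1.mpr
      exact ⟨w, key w⟩
    · intro hz
      obtain ⟨w, hw⟩ := h1.mp hz
      exact ⟨w, Submodule.mem_top, by rw [← key, hw]⟩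
  exact ⟨(Submodule.quotEquivOfEq _ _ h).trans (π.quotKerEquivOfSurjective hπ)⟩

/-- the annihilator of `N` kills `N ⊗ M` -/
theorem annihilator_le_annihilator_tensor :
    Module.annihilator S N ≤ Module.annihilator S (N ⊗[R] M) := by
  intro s hs
  rw [Module.mem_annihilator] at hs ⊢
  intro z
  induction z using TensorProduct.induction_on with
  | zero => simp
  | tmul n m => rw [TensorProduct.smul_tmul', hs, TensorProduct.zero_tmul]
  | add a b ha hb => rw [smul_add, ha, hb, add_zero]

/-- the annihilator of `M` kills `N ⊗ M` -/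
theorem map_annihilator_le_annihilator_tensor :
    (Module.annihilator R M).map (algebraMap R S) ≤ Module.annihilator S (N ⊗[R] M) := by
  rw [Ideal.map_le_iff_le_comap]
  intro r hr
  rw [Module.mem_annihilator] at hr
  rw [Ideal.mem_comap, Module.mem_annihilator]
  intro z
  rw [algebraMap_smul_tensor]
  induction z using TensorProduct.induction_on with
  | zero => simp
  | tmul n m => rw [TensorProduct.smul_tmul', TensorProduct.smul_tmul, hr, TensorProduct.tmul_zero]
  | add a b ha hb => rw [smul_add, ha, hb, add_zero]

end Tensor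

section Local

variable {R S : Type u} [CommRing R] [CommRing S] [Algebra R S]
  [IsLocalRing R] [IsNoetherianRing R]
  (N : Type u) [AddCommGroup N] [Module S N] [Module R N] [IsScalarTower R S N]
  (M : Type u) [AddCommGroup M] [Module R M]

open IsLocalRing

/-- a nonzero finite module over a local ring surjects onto the residue field -/
theorem exists_surjective_residue [Module.Finite R M] [Nontrivial M] :
    ∃ φ : M →ₗ[R] R ⧸ maximalIdeal R, Function.Surjective φ := by
  obtain ⟨M', hM'⟩ : ∃ M' : Submodule R M, IsCoatom M' := by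
    rcases eq_top_or_exists_le_coatom (⊥ : Submodule R M) with h | ⟨M', hM', -⟩
    · exact absurd h bot_ne_top
    · exact ⟨M', hM'⟩
  have hs : IsSimpleModule R (M ⧸ M') := isSimpleModule_iff_isCoatom.mpr hM'
  obtain ⟨I, hI, ⟨e⟩⟩ := isSimpleModule_iff_quot_maximal.mp hs
  have hIm : I = maximalIdeal R := IsLocalRing.eq_maximalIdeal hI
  subst hIm
  exact ⟨e.toLinearMap ∘ₗ M'.mkQ, e.surjective.comp (Submodule.mkQ_surjective _)⟩

/-- the canonical surjection `N ⊗ k → N/𝔪N`, as an `S`-linear map -/
theorem exists_surjective_tensor_residue :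
    ∃ g : N ⊗[R] (R ⧸ maximalIdeal R) →ₗ[S] Fib R S N, Function.Surjective g := by
  let e := TensorProduct.tensorQuotEquivQuotSMul N (maximalIdeal R)
  have hle : (maximalIdeal R • (⊤ : Submodule R N)) ≤
      ((mS R S • (⊤ : Submodule S N)).restrictScalars R) := by
    intro n hn
    exact (mem_map_smul_top_iff (S := S) N (maximalIdeal R) n).mpr hn
  let q : (N ⧸ (maximalIdeal R • (⊤ : Submodule R N))) →ₗ[R] Fib R S N :=
    Submodule.mapQ _ ((mS R S • (⊤ : Submodule S N)).restrictScalars R) LinearMap.id hle
  let g₀ : N ⊗[R] (R ⧸ maximalIdeal R) →ₗ[R] Fib R S N := q ∘ₗ e.toLinearMap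
  have hg₀ : ∀ (n : N) (r : R), g₀ (n ⊗ₜ Ideal.Quotient.mk _ r) =
      Submodule.Quotient.mk (r • n) := by
    intro n r
    change q (e (n ⊗ₜ Ideal.Quotient.mk _ r)) = _
    rw [TensorProduct.tensorQuotEquivQuotSMul_tmul_mk]
    rfl
  refine ⟨{ toFun := g₀, map_add' := g₀.map_add, map_smul' := ?_ }, ?_⟩
  · intro s z
    change g₀ (s • z) = s • g₀ z
    induction z using TensorProduct.induction_on with
    | zero => simp
    | tmul n r =>
      obtain ⟨r, rfl⟩ := Ideal.Quotient.mk_surjective r
      rw [TensorProduct.smul_tmul', hg₀, hg₀, smul_comm, Submodule.Quotient.mk_smul]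
    | add a b ha hb => rw [smul_add, map_add, ha, hb, map_add, smul_add]
  · intro y
    obtain ⟨n, rfl⟩ := Submodule.Quotient.mk_surjective _ y
    refine ⟨n ⊗ₜ Ideal.Quotient.mk _ 1, ?_⟩
    change g₀ _ = _
    rw [hg₀, one_smul]

/-- `N ⊗ M` surjects onto the closed fibre of `N` when `M ≠ 0` -/
theorem exists_surjective_fib [Module.Finite R M] [Nontrivial M] :
    ∃ g : N ⊗[R] M →ₗ[S] Fib R S N, Function.Surjective g := by
  obtain ⟨φ, hφ⟩ := exists_surjective_residue (R := R) M
  obtain ⟨g, hg⟩ := exists_surjective_tensor_residue (R := R) (S := S) N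
  refine ⟨g ∘ₗ TensorProduct.AlgebraTensorModule.lTensor S N φ, hg.comp ?_⟩
  exact LinearMap.lTensor_surjective N hφ

end Local

section Main

variable {R S : Type u} [CommRing R] [CommRing S] [Algebra R S]
  [IsLocalRing R] [IsNoetherianRing R] [IsLocalRing S] [IsNoetherianRing S]
  [IsLocalHom (algebraMap R S)]
  (N : Type u) [AddCommGroup N] [Module S N] [Module R N] [IsScalarTower R S N]
  [Module.Finite S N]

open IsLocalRing

omit [IsLocalRing S] [IsLocalHom (algebraMap R S)] [IsNoetherianRing S] [IsNoetherianRing R] in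
/-- for `M` of dimension `0`, the support of `N ⊗ M` lies in that of the closed fibre -/
theorem support_tensor_subset_fib (M : Type u) [AddCommGroup M] [Module R M] [Module.Finite R M]
    (hM : ∀ p ∈ Module.support R M, p.asIdeal = maximalIdeal R) :
    Module.support S (N ⊗[R] M) ⊆ Module.support S (Fib R S N) := by
  haveI : Module.Finite S (N ⊗[R] M) := H1.finite_tensor_of_finite M
  intro Q hQ
  rw [Module.support_quotient]
  rw [Module.mem_support_iff_of_finite] at hQ
  constructor
  · rw [Module.mem_support_iff_of_finite]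
    exact (annihilator_le_annihilator_tensor N M).trans hQ
  · rw [PrimeSpectrum.mem_zeroLocus, SetLike.coe_subset_coe]
    unfold mS
    rw [Ideal.map_le_iff_le_comap]
    have hc : PrimeSpectrum.comap (algebraMap R S) Q ∈ Module.support R M := by
      rw [Module.mem_support_iff_of_finite]
      change Module.annihilator R M ≤ Ideal.comap (algebraMap R S) Q.asIdeal
      rw [← Ideal.map_le_iff_le_comap]
      exact (map_annihilator_le_annihilator_tensor N M).trans hQ
    rw [← hM _ hc]
    rfl

omit [IsNoetherianRing R] in
/-- in dimension `≤ 0` the support consists of the maximal ideal -/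
theorem support_of_supportDim_le_zero (M : Type u) [AddCommGroup M] [Module R M]
    (h : Module.supportDim R M ≤ 0) :
    ∀ p ∈ Module.support R M, p.asIdeal = maximalIdeal R := by
  intro p hp
  by_contra hne
  have hlt : p < closedPoint R := by
    refine lt_of_le_of_ne (le_maximalIdeal p.2.ne_top) ?_
    intro h'
    apply hne
    rw [h']
    rfl
  have hc : closedPoint R ∈ Module.support R M :=
    Module.mem_support_mono hlt.le hp
  unfold Module.supportDim at h
  rw [Order.krullDim_nonpos_iff_forall_isMax] at h
  have := h ⟨p, hp⟩ (b := ⟨closedPoint R, hc⟩) hlt.le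
  exact absurd this (not_le_of_gt hlt)

/-- the upper bound `dim(N ⊗ M) ≤ dim M + dim N/𝔪N` (no flatness needed) -/
theorem supportDim_tensor_le_aux (n : ℕ) :
    ∀ (M : Type u) [AddCommGroup M] [Module R M] [Module.Finite R M],
      Module.supportDim R M = n →
        Module.supportDim S (N ⊗[R] M) ≤ (n : WithBot ℕ∞) + Module.supportDim S (Fib R S N) := by
  induction n using Nat.strong_induction_on with
  | _ n ih =>
    intro M _ _ _ hn
    haveI : Module.Finite S (N ⊗[R] M) := H1.finite_tensor_of_finite M
    rcases Nat.eq_zero_or_pos n with h0 | hpos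
    · subst h0
      rw [Nat.cast_zero, zero_add]
      apply CM.supportDim_le_of_support_subset
      apply support_tensor_subset_fib
      apply support_of_supportDim_le_zero
      rw [hn]
      simp
    · obtain ⟨x, hxm, hx⟩ := LC.exists_parameter M n hpos hn
      have hxS : algebraMap R S x ∈ maximalIdeal S :=
        IsLocalRing.map_maximalIdeal_le (algebraMap R S) (Ideal.mem_map_of_mem _ hxm)
      have h1 := Module.supportDim_le_supportDim_quotSMulTop_succ (M := N ⊗[R] M) hxS
      obtain ⟨e⟩ := nonempty_quotSMulTop_tensor_equiv (S := S) N M x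
      rw [Module.supportDim_eq_of_equiv e] at h1
      refine h1.trans ?_
      by_cases hsub : Subsingleton (QuotSMulTop x M)
      · haveI := hsub
        haveI : Subsingleton (N ⊗[R] QuotSMulTop x M) := inferInstance
        rw [Module.supportDim_eq_bot_of_subsingleton, WithBot.bot_add]
        exact bot_le
      · rw [not_subsingleton_iff_nontrivial] at hsub
        haveI := hsub
        obtain ⟨k, hk⟩ := LC.exists_supportDim_eq (R := R) (QuotSMulTop x M)
        rw [hk] at hx
        have hkn : k < n := by exact_mod_cast hx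
        have h2 := ih k hkn (QuotSMulTop x M) hk
        calc Module.supportDim S (N ⊗[R] QuotSMulTop x M) + 1
            ≤ ((k : WithBot ℕ∞) + Module.supportDim S (Fib R S N)) + 1 := by gcongr
          _ = ((k + 1 : ℕ) : WithBot ℕ∞) + Module.supportDim S (Fib R S N) := by
              push_cast; rw [add_right_comm]
          _ ≤ (n : WithBot ℕ∞) + Module.supportDim S (Fib R S N) := by
              gcongr
              exact_mod_cast hkn

/-- `dim(N ⊗ M) ≤ dim M + dim N/𝔪N` -/
theorem supportDim_tensor_le (M : Type u) [AddCommGroup M] [Module R M] [Module.Finite R M] :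
    Module.supportDim S (N ⊗[R] M) ≤ Module.supportDim R M + Module.supportDim S (Fib R S N) := by
  by_cases hsub : Subsingleton M
  · haveI := hsub
    haveI : Subsingleton (N ⊗[R] M) := inferInstance
    rw [Module.supportDim_eq_bot_of_subsingleton]
    exact bot_le
  · rw [not_subsingleton_iff_nontrivial] at hsub
    haveI := hsub
    obtain ⟨n, hn⟩ := LC.exists_supportDim_eq (R := R) M
    rw [hn]
    exact supportDim_tensor_le_aux N n M hn

/-- the lower bound `dim M + dim N/𝔪N ≤ dim(N ⊗ M)` for flat `N` -/
theorem supportDim_tensor_ge_aux [Module.Flat R N] (n : ℕ) :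
    ∀ (M : Type u) [AddCommGroup M] [Module R M] [Module.Finite R M],
      Module.supportDim R M = n →
        (n : WithBot ℕ∞) + Module.supportDim S (Fib R S N) ≤ Module.supportDim S (N ⊗[R] M) := by
  induction n with
  | zero =>
    intro M _ _ _ hn
    haveI : Nontrivial M := by
      rw [← Module.supportDim_ne_bot_iff_nontrivial R, hn]
      exact WithBot.coe_ne_bot
    rw [Nat.cast_zero, zero_add]
    obtain ⟨g, hg⟩ := exists_surjective_fib (R := R) (S := S) N M
    exact Module.supportDim_le_of_surjective g hg
  | succ n ih =>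
    intro M _ _ _ hn
    obtain ⟨p, hp, hle, hdim⟩ := LC.exists_prime_ringKrullDim_eq M (n + 1) hn
    haveI := hp
    -- `p` is a minimal prime of the support, hence associated
    have hmin : p ∈ (Module.annihilator R M).minimalPrimes := by
      refine ⟨⟨hp, hle⟩, fun q ⟨hq, hqle⟩ hqp => ?_⟩
      by_contra hcon
      haveI := hq
      have hlt : q < p := lt_of_le_of_ne hqp (fun h => hcon (h ▸ le_rfl))
      have h1 := Dim.ringKrullDim_quotient_add_one_le hlt
      have h2 := CM.ringKrullDim_quotient_le_supportDim M q hqle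
      rw [hdim] at h1
      rw [hn] at h2
      have h3 : (((n + 1 : ℕ) : WithBot ℕ∞) + 1) ≤ ((n + 1 : ℕ) : WithBot ℕ∞) := h1.trans h2
      have h4 : (((n + 1) + 1 : ℕ) : WithBot ℕ∞) ≤ ((n + 1 : ℕ) : WithBot ℕ∞) := by
        exact_mod_cast h3
      have h5 : n + 1 + 1 ≤ n + 1 := by exact_mod_cast h4
      omega
    have hass : p ∈ associatedPrimes R M :=
      Module.associatedPrimes.minimalPrimes_annihilator_subset_associatedPrimes R M hmin
    obtain ⟨-, f, hf⟩ := (isAssociatedPrime_iff_exists_injective_linearMap p M).mp hass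
    have h1 : Module.supportDim S (N ⊗[R] (R ⧸ p)) ≤ Module.supportDim S (N ⊗[R] M) :=
      Module.supportDim_le_of_injective (TensorProduct.AlgebraTensorModule.lTensor S N f)
        (Module.Flat.lTensor_preserves_injective_linearMap f hf)
    refine le_trans ?_ h1
    -- an element of the maximal ideal outside `p`
    have hpm : p < maximalIdeal R := by
      refine lt_of_le_of_ne (le_maximalIdeal hp.ne_top) ?_
      intro h
      rw [h] at hdim
      have h0 : ringKrullDim (R ⧸ maximalIdeal R) = 0 :=
        ringKrullDim_eq_zero_of_isField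
          ((Ideal.Quotient.maximal_ideal_iff_isField_quotient _).mp inferInstance)
      rw [h0] at hdim
      have : ((0 : ℕ) : WithBot ℕ∞) = ((n + 1 : ℕ) : WithBot ℕ∞) := by exact_mod_cast hdim
      have : (0 : ℕ) = n + 1 := by exact_mod_cast this
      omega
    obtain ⟨x, hxm, hxp⟩ := SetLike.exists_of_lt hpm
    have hreg : IsSMulRegular (R ⧸ p) x := by
      intro a b hab
      obtain ⟨a, rfl⟩ := Ideal.Quotient.mk_surjective a
      obtain ⟨b, rfl⟩ := Ideal.Quotient.mk_surjective b
      change x • (Ideal.Quotient.mk p a) = x • (Ideal.Quotient.mk p b) at hab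
      rw [← sub_eq_zero, ← smul_sub, ← map_sub, Algebra.smul_def, Ideal.Quotient.algebraMap_eq,
        ← map_mul, Ideal.Quotient.eq_zero_iff_mem] at hab
      rw [← sub_eq_zero, ← map_sub, Ideal.Quotient.eq_zero_iff_mem]
      exact (hp.mem_or_mem hab).resolve_left hxp
    have hd1 := Module.supportDim_quotSMulTop_succ_eq_supportDim hreg hxm
    rw [Module.supportDim_quotient_eq_ringKrullDim, hdim] at hd1
    have hd2 : Module.supportDim R (QuotSMulTop x (R ⧸ p)) = n := by
      apply CM.withBot_add_one_cancel
      rw [hd1]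
      push_cast
      rfl
    have h2 := ih (QuotSMulTop x (R ⧸ p)) hd2
    have hxS : algebraMap R S x ∈ maximalIdeal S :=
      IsLocalRing.map_maximalIdeal_le (algebraMap R S) (Ideal.mem_map_of_mem _ hxm)
    haveI : Module.Finite S (N ⊗[R] (R ⧸ p)) := H1.finite_tensor_of_finite (R ⧸ p)
    have h3 := Module.supportDim_quotSMulTop_succ_eq_supportDim
      (isSMulRegular_tensor_of_flat (S := S) N (R ⧸ p) x hreg) hxS
    obtain ⟨e⟩ := nonempty_quotSMulTop_tensor_equiv (S := S) N (R ⧸ p) x
    rw [Module.supportDim_eq_of_equiv e] at h3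
    rw [← h3]
    calc ((n + 1 : ℕ) : WithBot ℕ∞) + Module.supportDim S (Fib R S N)
        = ((n : WithBot ℕ∞) + Module.supportDim S (Fib R S N)) + 1 := by
          push_cast; rw [add_right_comm]
      _ ≤ Module.supportDim S (N ⊗[R] QuotSMulTop x (R ⧸ p)) + 1 := by gcongr

/-- **dimension formula** for flat local homomorphisms:
`dim_S(N ⊗_R M) = dim_R M + dim_S(N/𝔪_R N)` -/
theorem supportDim_tensor [Module.Flat R N] (M : Type u) [AddCommGroup M] [Module R M]
    [Module.Finite R M] :
    Module.supportDim S (N ⊗[R] M) = Module.supportDim R M + Module.supportDim S (Fib R S N) := by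
  apply le_antisymm (supportDim_tensor_le N M)
  by_cases hsub : Subsingleton M
  · haveI := hsub
    rw [Module.supportDim_eq_bot_of_subsingleton, WithBot.bot_add]
    exact bot_le
  · rw [not_subsingleton_iff_nontrivial] at hsub
    haveI := hsub
    obtain ⟨n, hn⟩ := LC.exists_supportDim_eq (R := R) M
    rw [hn]
    exact supportDim_tensor_ge_aux N n M hn

end Main

section Quot

/-- the dimension of a module over a quotient ring equals its dimension over the ring -/
theorem supportDim_of_surjective {B C : Type u} [CommRing B] [CommRing C] [Algebra B C]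
    (hsurj : Function.Surjective (algebraMap B C)) (X : Type u) [AddCommGroup X] [Module C X]
    [Module B X] [IsScalarTower B C X] [Module.Finite C X] :
    Module.supportDim C X = Module.supportDim B X := by
  haveI : Module.Finite B C := Module.Finite.of_surjective (Algebra.linearMap B C) hsurj
  haveI : Module.Finite B X := Module.Finite.trans C X
  rw [Module.supportDim_eq_ringKrullDim_quotient_annihilator,
    Module.supportDim_eq_ringKrullDim_quotient_annihilator]
  let f : B →+* C ⧸ Module.annihilator C X :=
    (Ideal.Quotient.mk (Module.annihilator C X)).comp (algebraMap B C)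
  have hf : Function.Surjective f := Ideal.Quotient.mk_surjective.comp hsurj
  have hker : RingHom.ker f = Module.annihilator B X := by
    ext b
    rw [RingHom.mem_ker]
    change Ideal.Quotient.mk _ (algebraMap B C b) = 0 ↔ _
    rw [Ideal.Quotient.eq_zero_iff_mem, Module.mem_annihilator, Module.mem_annihilator]
    constructor
    · intro h x
      rw [← algebraMap_smul C b x]
      exact h x
    · intro h x
      rw [algebraMap_smul]
      exact h x
  have e : (B ⧸ Module.annihilator B X) ≃+* (C ⧸ Module.annihilator C X) :=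
    (Ideal.quotEquivOfEq hker.symm).trans (RingHom.quotientKerEquivOfSurjective hf)
  exact (ringKrullDim_eq_of_ringEquiv e).symm

/-- Cohen–Macaulayness over a quotient ring and over the ring agree -/
theorem cm_of_surjective_iff {B C : Type u} [CommRing B] [CommRing C] [IsLocalRing B]
    [IsLocalRing C] [IsNoetherianRing B] [IsNoetherianRing C] [Algebra B C]
    [IsLocalHom (algebraMap B C)]
    (hsurj : Function.Surjective (algebraMap B C)) (X : Type u) [AddCommGroup X] [Module C X]
    [Module B X] [IsScalarTower B C X] [Module.Finite C X] :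
    LocCoh.IsCohenMacaulayModule C X ↔ LocCoh.IsCohenMacaulayModule B X := by
  haveI : Module.Finite B C := Module.Finite.of_surjective (Algebra.linearMap B C) hsurj
  haveI : Module.Finite B X := Module.Finite.trans C X
  unfold LocCoh.IsCohenMacaulayModule
  rw [supportDim_of_surjective hsurj X, Depth.depth_eq_of_isLocalHom_of_finite (A := B) (B := C) X]

end Quot

section CM

variable {R S : Type u} [CommRing R] [CommRing S] [Algebra R S]
  [IsLocalRing R] [IsNoetherianRing R] [IsLocalRing S] [IsNoetherianRing S]
  [IsLocalHom (algebraMap R S)]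
  (N : Type u) [AddCommGroup N] [Module S N] [Module R N] [IsScalarTower R S N]
  [Module.Finite S N]

open IsLocalRing

omit [IsNoetherianRing R] [IsNoetherianRing S] [Module R N] [IsScalarTower R S N] in
/-- the closed fibre of a nonzero finite module is nonzero -/
theorem nontrivial_fib [Nontrivial N] : Nontrivial (Fib R S N) := by
  rw [Submodule.Quotient.nontrivial_iff]
  intro htop
  have hle : mS R S ≤ maximalIdeal S := IsLocalRing.map_maximalIdeal_le (algebraMap R S)
  have h1 : (⊤ : Submodule S N) = ⊥ :=
    Submodule.eq_bot_of_le_smul_of_le_jacobson_bot _ _ Module.Finite.fg_top htop.ge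
      (hle.trans (IsLocalRing.maximalIdeal_le_jacobson _))
  exact top_ne_bot h1

/-- `N ⊗ M` is Cohen–Macaulay iff `M` and the closed fibre of `N` are -/
theorem cm_tensor_iff [Module.Flat R N] [Nontrivial N] (M : Type u) [AddCommGroup M] [Module R M]
    [Module.Finite R M] [Nontrivial M] :
    LocCoh.IsCohenMacaulayModule S (N ⊗[R] M) ↔
      (LocCoh.IsCohenMacaulayModule R M ∧ LocCoh.IsCohenMacaulayModule S (Fib R S N)) := by
  haveI := nontrivial_fib (R := R) (S := S) N
  unfold LocCoh.IsCohenMacaulayModule
  rw [supportDim_tensor N M, depth_tensor N M]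
  obtain ⟨d, hd, hdle⟩ := Depth.exists_depth_eq (R := R) M
  obtain ⟨e, he, hele⟩ := Depth.exists_depth_eq (R := S) (Fib R S N)
  obtain ⟨a, ha⟩ := LC.exists_supportDim_eq (R := R) M
  obtain ⟨b, hb⟩ := LC.exists_supportDim_eq (R := S) (Fib R S N)
  rw [ha] at hdle
  rw [hb] at hele
  rw [hd, he, ha, hb]
  have h1 : d ≤ a := by exact_mod_cast hdle
  have h2 : e ≤ b := by exact_mod_cast hele
  constructor
  · intro h
    have h3 : ((a + b : ℕ) : WithBot ℕ∞) = ((d + e : ℕ) : WithBot ℕ∞) := by exact_mod_cast h
    have h4 : a + b = d + e := by exact_mod_cast h3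
    have h5 : a = d := by omega
    have h6 : b = e := by omega
    rw [h5, h6]
    exact ⟨rfl, rfl⟩
  · rintro ⟨h5, h6⟩
    have h5' : a = d := by exact_mod_cast h5
    have h6' : b = e := by exact_mod_cast h6
    rw [h5', h6']
    push_cast
    rfl

end CM

end FlatDim

end Groth.Agent.H6
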