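import Mathlib
import Groth.Prelude.Def_Wider
import Groth.Agent.Lib.Helper6.FlatDim

/-! Invariance of depth and dimension under semilinear isomorphisms; double localization. -/

universe u
set_option linter.style.haveILetI false
open scoped Pointwise

namespace Groth.Agent.H6

namespace SemiLin

section RingEquiv

variable {R₁ R₂ : Type u} [CommRing R₁] [CommRing R₂] [IsLocalRing R₁] [IsLocalRing R₂]
  [IsNoetherianRing R₁] [IsNoetherianRing R₂]
  {M₁ M₂ : Type u} [AddCommGroup M₁] [AddCommGroup M₂] [Module R₁ M₁] [Module R₂ M₂]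
  [Module.Finite R₁ M₁]

/-- depth and dimension are invariant under semilinear isomorphisms -/
theorem depth_and_dim_eq (σ : R₁ ≃+* R₂) (τ : M₁ ≃+ M₂)
    (hτ : ∀ (r : R₁) (m : M₁), τ (r • m) = σ r • τ m) :
    LocCoh.depth R₁ M₁ = LocCoh.depth R₂ M₂ ∧
      Module.supportDim R₁ M₁ = Module.supportDim R₂ M₂ := by
  letI : Algebra R₁ R₂ := σ.toRingHom.toAlgebra
  letI : Module R₁ M₂ := Module.compHom M₂ σ.toRingHom
  haveI : IsScalarTower R₁ R₂ M₂ := IsScalarTower.of_algebraMap_smul fun _ _ => rfl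
  haveI : IsLocalHom (algebraMap R₁ R₂) := by
    refine ⟨fun a ha => ?_⟩
    have h1 : IsUnit (σ a) := ha
    have h2 := h1.map σ.symm
    simpa using h2
  let τ' : M₁ ≃ₗ[R₁] M₂ :=
    { τ with
      map_smul' := fun r m => hτ r m }
  haveI : Module.Finite R₁ M₂ := Module.Finite.equiv τ'
  have hsurj : Function.Surjective (algebraMap R₁ R₂) := σ.surjective
  haveI : Module.Finite R₂ M₂ := Module.Finite.of_restrictScalars_finite R₁ R₂ M₂
  constructor
  · unfold LocCoh.depth
    rw [HomKer.idealDepth_congr _ τ']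
    exact Depth.depth_eq_of_isLocalHom_of_finite (A := R₁) (B := R₂) M₂
  · rw [Module.supportDim_eq_of_equiv τ']
    exact (FlatDim.supportDim_of_surjective hsurj M₂).symm

end RingEquiv

section Loc

variable {R : Type u} [CommRing R] (S : Submonoid R)
  {T₁ T₂ : Type u} [CommRing T₁] [CommRing T₂] [Algebra R T₁] [Algebra R T₂]
  [IsLocalization S T₁] [IsLocalization S T₂]
  [IsLocalRing T₁] [IsLocalRing T₂] [IsNoetherianRing T₁] [IsNoetherianRing T₂]
  {M M₁ M₂ : Type u} [AddCommGroup M] [AddCommGroup M₁] [AddCommGroup M₂] [Module R M]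
  [Module R M₁] [Module R M₂] [Module T₁ M₁] [Module T₂ M₂] [IsScalarTower R T₁ M₁]
  [IsScalarTower R T₂ M₂] [Module.Finite T₁ M₁]

/-- two localizations of the same module have the same depth and dimension -/
theorem depth_and_dim_eq_of_isLocalizedModule (f₁ : M →ₗ[R] M₁) (f₂ : M →ₗ[R] M₂)
    [IsLocalizedModule S f₁] [IsLocalizedModule S f₂] :
    LocCoh.depth T₁ M₁ = LocCoh.depth T₂ M₂ ∧
      Module.supportDim T₁ M₁ = Module.supportDim T₂ M₂ := by
  let σ : T₁ ≃ₐ[R] T₂ := IsLocalization.algEquiv S T₁ T₂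
  let τ : M₁ ≃ₗ[R] M₂ := IsLocalizedModule.linearEquiv S f₁ f₂
  apply depth_and_dim_eq σ.toRingEquiv τ.toAddEquiv
  intro t m
  -- make `M₂` a `T₁`-module through `σ`
  letI : Module T₁ M₂ := Module.compHom M₂ σ.toRingEquiv.toRingHom
  haveI : IsScalarTower R T₁ M₂ := IsScalarTower.of_algebraMap_smul fun r x => by
    change σ (algebraMap R T₁ r) • x = r • x
    rw [σ.commutes, algebraMap_smul]
  have h := (LinearEquiv.extendScalarsOfIsLocalization S T₁ τ).map_smul t m
  exact h

end Loc

end SemiLin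

end Groth.Agent.H6
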