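import Mathlib
import Groth.Prelude.Def_EGA4b
import Groth.Agent.Lib.Helper6.SemiLin
import Groth.Agent.Lib.Helper6.SkKit

/-! Serre's condition at a prime, in terms of the primes below it. -/

universe u
set_option linter.style.haveILetI false
open scoped Pointwise

namespace Groth.Agent.H6

namespace SkLoc

theorem min_add_le' (k : ℕ) (a b d e : ℕ∞) (h1 : min (k : ℕ∞) a ≤ d) (h2 : min (k : ℕ∞) b ≤ e) :
    min (k : ℕ∞) (a + b) ≤ d + e := by
  rcases le_total (k : ℕ∞) a with ha | ha
  · rw [min_eq_left ha] at h1
    exact (min_le_left _ _).trans (h1.trans le_self_add)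
  rcases le_total (k : ℕ∞) b with hb | hb
  · rw [min_eq_left hb] at h2
    exact (min_le_left _ _).trans (h2.trans le_add_self)
  rw [min_eq_right ha] at h1
  rw [min_eq_right hb] at h2
  exact (min_le_right _ _).trans (add_le_add h1 h2)

/-- the arithmetic behind the ascent of `(S_k)` -/
theorem min_add_le (k : ℕ) (a b : WithBot ℕ∞) (d e : ℕ∞)
    (h1 : min (k : WithBot ℕ∞) a ≤ ((d : ℕ∞) : WithBot ℕ∞))
    (h2 : min (k : WithBot ℕ∞) b ≤ ((e : ℕ∞) : WithBot ℕ∞)) :
    min (k : WithBot ℕ∞) (a + b) ≤ (((d + e : ℕ∞)) : WithBot ℕ∞) := by
  induction a using WithBot.recBotCoe with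
  | bot => simp
  | coe a =>
  induction b using WithBot.recBotCoe with
  | bot => simp
  | coe b =>
  have h1' : min (k : ℕ∞) a ≤ d := by exact_mod_cast h1
  have h2' : min (k : ℕ∞) b ≤ e := by exact_mod_cast h2
  have := min_add_le' k a b d e h1' h2'
  exact_mod_cast this

variable {R : Type u} [CommRing R] [IsNoetherianRing R]
  (M : Type u) [AddCommGroup M] [Module R M] [Module.Finite R M]

/-- double localization does not change depth and dimension -/
theorem depth_and_dim_double (p : Ideal R) [p.IsPrime] (Q : Ideal (Localization.AtPrime p))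
    [Q.IsPrime] :
    LocCoh.depth (Localization.AtPrime Q)
        (LocalizedModule Q.primeCompl (LocalizedModule p.primeCompl M)) =
      LocCoh.depth (Localization.AtPrime (Q.comap (algebraMap R (Localization.AtPrime p))))
        (LocalizedModule (Q.comap (algebraMap R (Localization.AtPrime p))).primeCompl M) ∧
    Module.supportDim (Localization.AtPrime Q)
        (LocalizedModule Q.primeCompl (LocalizedModule p.primeCompl M)) =
      Module.supportDim (Localization.AtPrime (Q.comap (algebraMap R (Localization.AtPrime p))))
        (LocalizedModule (Q.comap (algebraMap R (Localization.AtPrime p))).primeCompl M) := by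
  set q := Q.comap (algebraMap R (Localization.AtPrime p)) with hq
  haveI : IsNoetherianRing (Localization.AtPrime p) :=
    IsLocalization.isNoetherianRing p.primeCompl _ inferInstance
  haveI : IsNoetherianRing (Localization.AtPrime Q) :=
    IsLocalization.isNoetherianRing Q.primeCompl _ inferInstance
  haveI : IsNoetherianRing (Localization.AtPrime q) :=
    IsLocalization.isNoetherianRing q.primeCompl _ inferInstance
  haveI : Module.Finite (Localization.AtPrime p) (LocalizedModule p.primeCompl M) :=
    Module.Finite.of_isLocalizedModule p.primeCompl (LocalizedModule.mkLinearMap p.primeCompl M)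
  haveI : Module.Finite (Localization.AtPrime Q)
      (LocalizedModule Q.primeCompl (LocalizedModule p.primeCompl M)) :=
    Module.Finite.of_isLocalizedModule Q.primeCompl
      (LocalizedModule.mkLinearMap Q.primeCompl (LocalizedModule p.primeCompl M))
  have hb1 : IsBaseChange (Localization.AtPrime p) (LocalizedModule.mkLinearMap p.primeCompl M) :=
    IsLocalizedModule.isBaseChange p.primeCompl _ _
  have hb2 : IsBaseChange (Localization.AtPrime Q)
      (LocalizedModule.mkLinearMap Q.primeCompl (LocalizedModule p.primeCompl M)) :=
    IsLocalizedModule.isBaseChange Q.primeCompl _ _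
  have hb := hb1.comp hb2
  haveI : IsLocalization q.primeCompl (Localization.AtPrime Q) :=
    IsLocalization.isLocalization_atPrime_localization_atPrime p.primeCompl Q
  haveI := (isLocalizedModule_iff_isBaseChange q.primeCompl (Localization.AtPrime Q) _).mpr hb
  exact SemiLin.depth_and_dim_eq_of_isLocalizedModule q.primeCompl
    (((LocalizedModule.mkLinearMap Q.primeCompl
      (LocalizedModule p.primeCompl M)).restrictScalars R).comp
        (LocalizedModule.mkLinearMap p.primeCompl M))
    (LocalizedModule.mkLinearMap q.primeCompl M)

/-- isomorphic modules have the same local depths and dimensions -/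
theorem depth_and_dim_congr {M' : Type u} [AddCommGroup M'] [Module R M'] (e : M ≃ₗ[R] M')
    (q : Ideal R) [q.IsPrime] :
    LocCoh.depth (Localization.AtPrime q) (LocalizedModule q.primeCompl M) =
      LocCoh.depth (Localization.AtPrime q) (LocalizedModule q.primeCompl M') ∧
    Module.supportDim (Localization.AtPrime q) (LocalizedModule q.primeCompl M) =
      Module.supportDim (Localization.AtPrime q) (LocalizedModule q.primeCompl M') := by
  haveI : IsNoetherianRing (Localization.AtPrime q) :=
    IsLocalization.isNoetherianRing q.primeCompl _ inferInstance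
  haveI : Module.Finite (Localization.AtPrime q) (LocalizedModule q.primeCompl M) :=
    Module.Finite.of_isLocalizedModule q.primeCompl (LocalizedModule.mkLinearMap q.primeCompl M)
  exact SemiLin.depth_and_dim_eq_of_isLocalizedModule q.primeCompl
    (LocalizedModule.mkLinearMap q.primeCompl M)
    ((LocalizedModule.mkLinearMap q.primeCompl M') ∘ₗ e.toLinearMap)

/-- the Serre inequality `min(k, dim M_q) ≤ depth M_q` at a prime `q` -/
def SkIneq (k : ℕ) (q : Ideal R) [q.IsPrime] : Prop :=
  min (k : WithBot ℕ∞)
      (Module.supportDim (Localization.AtPrime q) (LocalizedModule q.primeCompl M)) ≤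
    ((LocCoh.depth (Localization.AtPrime q) (LocalizedModule q.primeCompl M) : ℕ∞) : WithBot ℕ∞)

omit [IsNoetherianRing R] [Module.Finite R M] in
theorem hasSk_iff_skIneq (k : ℕ) : LocCoh.HasSk k R M ↔ ∀ (q : Ideal R) [q.IsPrime], SkIneq M k q :=
  Iff.rfl

omit [IsNoetherianRing R] [Module.Finite R M] in
theorem skIneq_congr (k : ℕ) {q q' : Ideal R} [hq : q.IsPrime] [hq' : q'.IsPrime] (h : q = q') :
    SkIneq M k q ↔ SkIneq M k q' := by
  subst h
  exact Iff.rfl

/-- Serre's condition at `p` means the Serre inequality at all primes below `p` -/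
theorem hasSkAt_iff (k : ℕ) (p : Ideal R) [p.IsPrime] :
    EGA4.HasSkAt k R M p ↔ ∀ (q : Ideal R) [q.IsPrime], q ≤ p → SkIneq M k q := by
  unfold EGA4.HasSkAt LocCoh.HasSk
  constructor
  · intro h q hq hqp
    have hd : Disjoint (p.primeCompl : Set R) (q : Set R) := by
      rw [Set.disjoint_left]
      intro x hx hxq
      exact hx (hqp hxq)
    haveI hQ : (q.map (algebraMap R (Localization.AtPrime p))).IsPrime :=
      IsLocalization.isPrime_of_isPrime_disjoint p.primeCompl _ q hq hd
    have hc : (q.map (algebraMap R (Localization.AtPrime p))).comap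
        (algebraMap R (Localization.AtPrime p)) = q :=
      IsLocalization.under_map_of_isPrime_disjoint p.primeCompl _ hq hd
    have h1 := h (q.map (algebraMap R (Localization.AtPrime p)))
    obtain ⟨h2, h3⟩ := depth_and_dim_double M p (q.map (algebraMap R (Localization.AtPrime p)))
    rw [h2, h3] at h1
    exact (skIneq_congr M k hc).mp h1
  · intro h Q hQ
    obtain ⟨h2, h3⟩ := depth_and_dim_double M p Q
    rw [h2, h3]
    apply h
    have h1 : Q ≤ IsLocalRing.maximalIdeal (Localization.AtPrime p) :=
      IsLocalRing.le_maximalIdeal hQ.ne_top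
    have h2 := Ideal.comap_mono (f := algebraMap R (Localization.AtPrime p)) h1
    have h3 : Ideal.comap (algebraMap R (Localization.AtPrime p))
        (IsLocalRing.maximalIdeal (Localization.AtPrime p)) = p :=
      IsLocalization.AtPrime.under_maximalIdeal (Localization.AtPrime p) p
    rw [h3] at h2
    exact h2

/-- Serre's condition means Serre's condition at every prime -/
theorem hasSk_iff_forall_hasSkAt (k : ℕ) :
    LocCoh.HasSk k R M ↔ ∀ (p : Ideal R) [p.IsPrime], EGA4.HasSkAt k R M p := by
  constructor
  · intro h p hp
    rw [hasSkAt_iff]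
    intro q hq _
    exact h q
  · intro h p hp
    exact (hasSkAt_iff M k p).mp (h p) p le_rfl

/-- localizing a local ring at its maximal ideal changes nothing -/
theorem depth_and_dim_maximalIdeal [IsLocalRing R] :
    LocCoh.depth (Localization.AtPrime (IsLocalRing.maximalIdeal R))
        (LocalizedModule (IsLocalRing.maximalIdeal R).primeCompl M) = LocCoh.depth R M ∧
    Module.supportDim (Localization.AtPrime (IsLocalRing.maximalIdeal R))
        (LocalizedModule (IsLocalRing.maximalIdeal R).primeCompl M) = Module.supportDim R M := by
  set m := IsLocalRing.maximalIdeal R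
  haveI : IsNoetherianRing (Localization.AtPrime m) :=
    IsLocalization.isNoetherianRing m.primeCompl _ inferInstance
  haveI : Module.Finite (Localization.AtPrime m) (LocalizedModule m.primeCompl M) :=
    Module.Finite.of_isLocalizedModule m.primeCompl (LocalizedModule.mkLinearMap m.primeCompl M)
  haveI : IsLocalization m.primeCompl R := by
    apply IsLocalization.of_le_isUnit
    intro x hx
    have : x ∉ m := hx
    exact (IsLocalRing.notMem_maximalIdeal (R := R)).mp this
  haveI : IsLocalizedModule m.primeCompl (LinearMap.id : M →ₗ[R] M) :=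
    isLocalizedModule_id m.primeCompl M R
  exact SemiLin.depth_and_dim_eq_of_isLocalizedModule m.primeCompl
    (LocalizedModule.mkLinearMap m.primeCompl M) (LinearMap.id : M →ₗ[R] M)

/-- Serre's condition for a module over a local ring gives the Serre inequality for the module
itself -/
theorem hasSk_closedPoint [IsLocalRing R] (k : ℕ) (h : LocCoh.HasSk k R M) :
    min (k : WithBot ℕ∞) (Module.supportDim R M) ≤ ((LocCoh.depth R M : ℕ∞) : WithBot ℕ∞) := by
  have h1 := h (IsLocalRing.maximalIdeal R)
  obtain ⟨h2, h3⟩ := depth_and_dim_maximalIdeal (R := R) M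
  rw [h2, h3] at h1
  exact h1

end SkLoc

end Groth.Agent.H6
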