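import Mathlib
import Groth.Prelude.Def_Wider
import Groth.Agent.Lib.Helper6.LCDepth
import Groth.Agent.Lib.Helper6.DepthKit

/-! Hartshorne's connectedness theorem: depth at least two along `V(I)` forces the complement of
`V(I)` to be connected. -/

universe u
set_option linter.style.haveILetI false
open CategoryTheory CategoryTheory.Limits Opposite CategoryTheory.Abelian
open scoped Pointwise
open RingTheory.Sequence

namespace Groth.Agent.H6

namespace HartConn

section Alg

variable {A : Type u} [CommRing A]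

/-- the algebraic core -/
theorem eq_bot_or_eq_bot (hidem : ∀ c : A, c * c = c → c = 0 ∨ c = 1) (J1 J2 : Ideal A)
    (hJ : J1 * J2 = ⊥) (x y : A) (hx : x ∈ J1 ⊔ J2) (hy : y ∈ J1 ⊔ J2)
    (hreg : IsSMulRegular A x) (hxy : ∀ a b : A, a * y = b * x → ∃ c, a = c * x) :
    J1 = ⊥ ∨ J2 = ⊥ := by
  obtain ⟨a1, ha1, a2, ha2, hxa⟩ := Submodule.mem_sup.mp hx
  obtain ⟨b1, hb1, b2, hb2, hyb⟩ := Submodule.mem_sup.mp hy
  have hzero : ∀ u ∈ J1, ∀ v ∈ J2, u * v = 0 := by
    intro u hu v hv
    have : u * v ∈ J1 * J2 := Ideal.mul_mem_mul hu hv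
    rw [hJ] at this
    exact this
  have h1 : a1 * y = b1 * x := by
    rw [← hxa, ← hyb]
    have e1 := hzero a1 ha1 b2 hb2
    have e2 := hzero b1 hb1 a2 ha2
    linear_combination e1 - e2
  obtain ⟨c, hc⟩ := hxy a1 b1 h1
  have h2 : a1 * a2 = 0 := hzero a1 ha1 a2 ha2
  have ha2' : a2 = (1 - c) * x := by
    have : a2 = x - a1 := by rw [← hxa]; ring
    rw [this, hc]; ring
  have h3 : x • (x • (c * (1 - c))) = x • (x • (0 : A)) := by
    rw [smul_zero, smul_zero, smul_eq_mul, smul_eq_mul]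
    have : x * (x * (c * (1 - c))) = (c * x) * ((1 - c) * x) := by ring
    rw [this, ← hc, ← ha2', h2]
  have h4 : c * (1 - c) = 0 := hreg (hreg h3)
  have h5 : c * c = c := by
    have : c * c = c - c * (1 - c) := by ring
    rw [this, h4, sub_zero]
  rcases hidem c h5 with h0 | h1'
  · left
    rw [eq_bot_iff]
    intro z hz
    have hx2 : x = a2 := by rw [← hxa, hc, h0, zero_mul, zero_add]
    have h6 : x • z = x • (0 : A) := by
      rw [smul_zero, smul_eq_mul, mul_comm, hx2]
      exact hzero z hz a2 ha2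
    exact hreg h6
  · right
    rw [eq_bot_iff]
    intro z hz
    have hx1 : x = a1 := by rw [hc, h1', one_mul]
    have h6 : x • z = x • (0 : A) := by
      rw [smul_zero, smul_eq_mul, hx1]
      exact hzero a1 ha1 z hz
    exact hreg h6

end Alg

section Exists

variable {A : Type u} [CommRing A] [IsNoetherianRing A]

/-- a regular pair from vanishing of local cohomology in degrees `0` and `1` -/
theorem exists_regular_pair (K : Ideal A) (h : ∀ i < 2, Subsingleton (LocCoh.H K i A)) :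
    ∃ x ∈ K, ∃ y ∈ K, IsSMulRegular A x ∧ ∀ a b : A, a * y = b * x → ∃ c, a = c * x := by
  by_cases hK : K • (⊤ : Submodule A A) = ⊤
  · have hK' : K = ⊤ := by
      rw [smul_eq_mul, Ideal.mul_top] at hK
      exact hK
    refine ⟨1, by rw [hK']; trivial, 1, by rw [hK']; trivial, ?_, ?_⟩
    · intro a b hab
      simpa using hab
    · intro a b _
      exact ⟨a, by ring⟩
  · have smul_lt : K • (⊤ : Submodule A (ModuleCat.of A A)) < ⊤ := lt_top_iff_ne_top.mpr hK
    obtain ⟨rs, hlen, hmem, hreg⟩ :=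
      (LC.exists_isRegular_iff K (ModuleCat.of A A) smul_lt 2).mpr h
    match rs, hlen with
    | [x, y], _ =>
      have hw : IsWeaklyRegular A [x, y] := hreg.toIsWeaklyRegular
      rw [isWeaklyRegular_cons_iff, isWeaklyRegular_cons_iff] at hw
      obtain ⟨hx, hy, -⟩ := hw
      refine ⟨x, hmem x (by simp), y, hmem y (by simp), hx, ?_⟩
      intro a b hab
      have h1 : y • (Submodule.Quotient.mk a : QuotSMulTop x A) = y • 0 := by
        rw [smul_zero, ← Submodule.Quotient.mk_smul, Submodule.Quotient.mk_eq_zero,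
          Submodule.mem_smul_pointwise_iff_exists]
        exact ⟨b, Submodule.mem_top, by rw [smul_eq_mul, smul_eq_mul, mul_comm y a, hab, mul_comm]⟩
      have h2 := hy h1
      rw [Submodule.Quotient.mk_eq_zero, Submodule.mem_smul_pointwise_iff_exists] at h2
      obtain ⟨c, -, hc⟩ := h2
      exact ⟨c, by rw [← hc, smul_eq_mul, mul_comm]⟩

end Exists

section Top

variable {A : Type u} [CommRing A] [IsNoetherianRing A]

/-- **Hartshorne's connectedness theorem**, ideal-theoretic form -/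
theorem isPreconnected_compl_zeroLocus (hidem : ∀ c : A, c * c = c → c = 0 ∨ c = 1) (I : Ideal A)
    (h : ∀ i < 2, Subsingleton (LocCoh.H I i A)) :
    IsPreconnected ((PrimeSpectrum.zeroLocus (I : Set A))ᶜ) := by
  rw [isPreconnected_closed_iff]
  rintro t t' ht ht' hsub ⟨p1, hp1U, hp1t⟩ ⟨p2, hp2U, hp2t'⟩
  by_contra hemp
  obtain ⟨I1, rfl⟩ := (PrimeSpectrum.isClosed_iff_zeroLocus_ideal t).mp ht
  obtain ⟨I2, rfl⟩ := (PrimeSpectrum.isClosed_iff_zeroLocus_ideal t').mp ht'
  have hU : ∀ p : PrimeSpectrum A, p ∈ (PrimeSpectrum.zeroLocus (I : Set A))ᶜ ↔ ¬ I ≤ p.asIdeal := by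
    intro p
    rw [Set.mem_compl_iff, PrimeSpectrum.mem_zeroLocus, SetLike.coe_subset_coe]
  have ha : ∀ p : PrimeSpectrum A, ¬ I ≤ p.asIdeal → I1 ≤ p.asIdeal ∨ I2 ≤ p.asIdeal := by
    intro p hp
    rcases hsub ((hU p).mpr hp) with h1 | h1
    · left
      rwa [PrimeSpectrum.mem_zeroLocus, SetLike.coe_subset_coe] at h1
    · right
      rwa [PrimeSpectrum.mem_zeroLocus, SetLike.coe_subset_coe] at h1
  have hc : ∀ p : PrimeSpectrum A, ¬ I ≤ p.asIdeal → I1 ≤ p.asIdeal → I2 ≤ p.asIdeal → False := by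
    intro p hp h1 h2
    apply hemp
    refine ⟨p, (hU p).mpr hp, ?_, ?_⟩
    · rwa [PrimeSpectrum.mem_zeroLocus, SetLike.coe_subset_coe]
    · rwa [PrimeSpectrum.mem_zeroLocus, SetLike.coe_subset_coe]
  rw [hU] at hp1U hp2U
  rw [PrimeSpectrum.mem_zeroLocus, SetLike.coe_subset_coe] at hp1t hp2t'
  -- nilpotency of `I I₁ I₂`
  have hnil : I * I1 * I2 ≤ (⊥ : Ideal A).radical := by
    rw [Ideal.radical_eq_sInf]
    apply le_sInf
    rintro p ⟨-, hp⟩
    have e1 : I * I1 * I2 ≤ I * I1 := Ideal.mul_le_left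
    have e2 : I * I1 ≤ I := Ideal.mul_le_left
    have e3 : I * I1 ≤ I1 := Ideal.mul_le_right
    have e4 : I * I1 * I2 ≤ I2 := Ideal.mul_le_right
    by_cases hIp : I ≤ p
    · exact (e1.trans e2).trans hIp
    · rcases ha ⟨p, hp⟩ hIp with h1 | h2
      · exact (e1.trans e3).trans h1
      · exact e4.trans h2
  obtain ⟨k0, hk0⟩ := Ideal.exists_pow_le_of_le_radical_of_fg hnil (IsNoetherian.noetherian _)
  set k := k0 + 1 with hk
  have hkbot : (I * I1 * I2) ^ k = ⊥ := by
    rw [eq_bot_iff]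
    exact (Ideal.pow_le_pow_right (Nat.le_succ k0)).trans hk0
  -- `I` is in the radical of `I₁ + I₂`
  have hrad : I ≤ (I1 ⊔ I2).radical := by
    rw [Ideal.radical_eq_sInf]
    apply le_sInf
    rintro p ⟨hle, hp⟩
    by_contra hIp
    exact hc ⟨p, hp⟩ hIp (le_sup_left.trans hle) (le_sup_right.trans hle)
  obtain ⟨N, hN⟩ := Ideal.exists_pow_le_of_le_radical_of_fg hrad (IsNoetherian.noetherian _)
  set J1 := (I * I1) ^ k with hJ1
  set J2 := (I * I2) ^ k with hJ2
  have hJ : J1 * J2 = ⊥ := by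
    rw [eq_bot_iff, ← hkbot, hJ1, hJ2, ← mul_pow]
    apply Ideal.pow_right_mono
    have e5 : I * I2 ≤ I2 := Ideal.mul_le_right
    exact Ideal.mul_mono_right e5
  set M := (N + 1) * (k + k) with hM
  have hMpos : M ≠ 0 := by
    rw [hM, hk]
    positivity
  have hK : I ^ M ≤ J1 ⊔ J2 := by
    rw [hM, pow_mul]
    have h1 : I ^ (N + 1) ≤ I * I1 ⊔ I * I2 := by
      rw [pow_succ', ← Ideal.mul_sup]
      exact Ideal.mul_mono_right hN
    exact (Ideal.pow_right_mono h1 (k + k)).trans Ideal.sup_pow_add_le_pow_sup_pow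
  -- vanishing for `I ^ M`
  have hvan : ∀ i < 2, Subsingleton (LocCoh.H (I ^ M) i A) := by
    intro i hi
    have hrad' : (I ^ M).radical = I.radical := Ideal.radical_pow I hMpos
    have e := (localCohomology.isoOfSameRadical hrad' i).app (ModuleCat.of A A)
    haveI := h i hi
    exact e.toLinearEquiv.toEquiv.subsingleton
  obtain ⟨x, hx, y, hy, hreg, hxy⟩ := exists_regular_pair (I ^ M) hvan
  rcases eq_bot_or_eq_bot hidem J1 J2 hJ x y (hK hx) (hK hy) hreg hxy with h1 | h2
  · have h3 : I * I1 ≤ p2.asIdeal := by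
      apply p2.2.le_of_pow_le (n := k)
      rw [← hJ1, h1]
      exact bot_le
    rcases (Ideal.IsPrime.mul_le p2.2).mp h3 with h4 | h4
    · exact hp2U h4
    · exact hc p2 hp2U h4 hp2t'
  · have h3 : I * I2 ≤ p1.asIdeal := by
      apply p1.2.le_of_pow_le (n := k)
      rw [← hJ2, h2]
      exact bot_le
    rcases (Ideal.IsPrime.mul_le p1.2).mp h3 with h4 | h4
    · exact hp1U h4
    · exact hc p1 hp1U hp1t h4

end Top

end HartConn

end Groth.Agent.H6
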