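import Mathlib
import Groth.Prelude.Def_Wider
import Groth.Agent.Lib.Helper6.ReflKer

/-! Reflexivity and localization; reflexivity criterion via depth. -/

universe u
set_option linter.style.haveILetI false
open CategoryTheory CategoryTheory.Limits Opposite CategoryTheory.Abelian
open scoped Pointwise

namespace Groth.Agent.H6

namespace Refl

variable {A : Type u} [CommRing A] [IsNoetherianRing A]

section Loc

variable (G : Type u) [AddCommGroup G] [Module A G] [Module.Finite A G] (S : Submonoid A)

/-- the localization map on duals -/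
noncomputable def dualLoc :
    Module.Dual A G →ₗ[A] Module.Dual (Localization S) (LocalizedModule S G) :=
  IsLocalizedModule.mapExtendScalars S (LocalizedModule.mkLinearMap S G)
    (Algebra.linearMap A (Localization S)) (Localization S)

instance : IsLocalizedModule S (dualLoc G S) := by
  haveI : Module.FinitePresentation A G := Module.finitePresentation_of_finite A G
  exact Module.FinitePresentation.isLocalizedModule_mapExtendScalars S _ _ _

theorem dualLoc_apply (φ : Module.Dual A G) (g : G) :
    dualLoc G S φ (LocalizedModule.mkLinearMap S G g) = algebraMap A (Localization S) (φ g) := by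
  unfold dualLoc
  rw [IsLocalizedModule.mapExtendScalars_apply_apply, IsLocalizedModule.map_apply]
  rfl

/-- elements of the kernel of the evaluation map die in reflexive localizations -/
theorem exists_smul_eq_zero_of_mem_ker
    [Module.IsReflexive (Localization S) (LocalizedModule S G)] (g : G)
    (hg : Module.Dual.eval A G g = 0) : ∃ t ∈ S, t • g = 0 := by
  have h1 : Module.Dual.eval (Localization S) (LocalizedModule S G)
      (LocalizedModule.mkLinearMap S G g) = 0 := by
    apply LinearMap.ext
    intro ψ
    obtain ⟨⟨φ, s⟩, hs⟩ := IsLocalizedModule.surj S (dualLoc G S) ψ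
    simp only at hs
    have h2 : (s • ψ) (LocalizedModule.mkLinearMap S G g) = 0 := by
      rw [hs, dualLoc_apply]
      have : φ g = 0 := LinearMap.congr_fun hg φ
      rw [this, map_zero]
    rw [LinearMap.smul_apply] at h2
    rw [Module.Dual.eval_apply, LinearMap.zero_apply]
    have hu : IsUnit (algebraMap A (Localization S) s.1) := IsLocalization.map_units _ s
    rw [Submonoid.smul_def, ← algebraMap_smul (Localization S), smul_eq_mul] at h2
    exact (hu.mul_right_eq_zero).mp h2
  have h3 := (Module.bijective_dual_eval (Localization S) (LocalizedModule S G)).1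
    (h1.trans (map_zero _).symm)
  rw [LocalizedModule.mkLinearMap_apply, ← LocalizedModule.zero_mk 1, LocalizedModule.mk_eq] at h3
  obtain ⟨t, ht⟩ := h3
  simp only [one_smul, smul_zero] at ht
  exact ⟨t.1, t.2, ht⟩

/-- elements of the double dual come from the module after multiplication by a denominator, in
reflexive localizations -/
theorem exists_smul_mem_range
    [Module.IsReflexive (Localization S) (LocalizedModule S G)]
    (ξ : Module.Dual A (Module.Dual A G)) :
    ∃ t ∈ S, t • ξ ∈ LinearMap.range (Module.Dual.eval A G) := by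
  classical
  -- the localized functional
  let ξ0 : Module.Dual (Localization S) (LocalizedModule S G) →ₗ[A] Localization S :=
    IsLocalizedModule.lift S (dualLoc G S) (Algebra.linearMap A (Localization S) ∘ₗ ξ)
      (IsLocalizedModule.map_units (Algebra.linearMap A (Localization S)))
  let ξp : Module.Dual (Localization S) (Module.Dual (Localization S) (LocalizedModule S G)) :=
    ξ0.extendScalarsOfIsLocalization S (Localization S)
  have hξp : ∀ φ : Module.Dual A G, ξp (dualLoc G S φ) = algebraMap A (Localization S) (ξ φ) := by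
    intro φ
    change ξ0 (dualLoc G S φ) = _
    exact IsLocalizedModule.lift_apply S (dualLoc G S) _ _ φ
  obtain ⟨γ, hγ⟩ := (Module.bijective_dual_eval (Localization S) (LocalizedModule S G)).2 ξp
  obtain ⟨⟨g, s⟩, hs⟩ := IsLocalizedModule.surj S (LocalizedModule.mkLinearMap S G) γ
  simp only at hs
  have key : ∀ φ : Module.Dual A G, ∃ c ∈ S, c * (s.1 * ξ φ) = c * φ g := by
    intro φ
    have h1 : algebraMap A (Localization S) (s.1 * ξ φ) = algebraMap A (Localization S) (φ g) := by
      have e1 : (s.1 : A) • γ = LocalizedModule.mkLinearMap S G g := hs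
      rw [← dualLoc_apply, ← e1, LinearMap.map_smul_of_tower, Algebra.smul_def, map_mul, ← hξp,
        ← hγ, Module.Dual.eval_apply]
    obtain ⟨c, hc⟩ := (IsLocalization.eq_iff_exists S (Localization S)).mp h1
    exact ⟨c.1, c.2, hc⟩
  haveI : IsNoetherian A (Module.Dual A G) := isNoetherian_linearMap A A G
  haveI : Module.Finite A (Module.Dual A G) := Module.IsNoetherian.finite A _
  obtain ⟨r, φs, hφs⟩ := Module.Finite.exists_fin (R := A) (M := Module.Dual A G)
  choose c hcS hc using fun j : Fin r => key (φs j)
  refine ⟨(∏ j, c j) * s.1, Submonoid.mul_mem _ (Submonoid.prod_mem _ (fun j _ => hcS j)) s.2,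
    (∏ j, c j) • g, ?_⟩
  apply LinearMap.ext_on_range hφs
  intro j
  rw [Module.Dual.eval_apply, LinearMap.smul_apply, map_smul, smul_eq_mul, smul_eq_mul,
    ← Finset.mul_prod_erase Finset.univ c (Finset.mem_univ j)]
  have := hc j
  calc (c j * ∏ x ∈ Finset.univ.erase j, c x) * (φs j) g
      = (∏ x ∈ Finset.univ.erase j, c x) * (c j * (φs j) g) := by ring
    _ = (∏ x ∈ Finset.univ.erase j, c x) * (c j * (s.1 * ξ (φs j))) := by rw [this]
    _ = (c j * ∏ x ∈ Finset.univ.erase j, c x) * s.1 * ξ (φs j) := by ring

end Loc

section Criterion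

/-- an element which dies at all primes outside `V(I)` is `I`-power torsion -/
theorem mem_torsionSub_of_forall_prime (I : Ideal A) {N : Type u} [AddCommGroup N] [Module A N]
    (z : N) (h : ∀ p : PrimeSpectrum A, ¬ I ≤ p.asIdeal → ∃ t ∈ p.asIdeal.primeCompl, t • z = 0) :
    z ∈ DRing.torsionSub I N := by
  set J : Ideal A := LinearMap.ker (LinearMap.toSpanSingleton A N z) with hJ
  have hle : I ≤ J.radical := by
    rw [Ideal.radical_eq_sInf]
    apply le_sInf
    rintro p ⟨hJp, hp⟩
    by_contra hIp
    obtain ⟨t, ht, htz⟩ := h ⟨p, hp⟩ hIp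
    apply ht
    apply hJp
    rw [hJ, LinearMap.mem_ker, LinearMap.toSpanSingleton_apply]
    exact htz
  obtain ⟨k, hk⟩ := Ideal.exists_pow_le_of_le_radical_of_fg hle (IsNoetherian.noetherian I)
  refine ⟨k, fun a ha => ?_⟩
  have := hk ha
  rw [hJ, LinearMap.mem_ker, LinearMap.toSpanSingleton_apply] at this
  exact this

/-- **reflexivity criterion** -/
theorem isReflexive_of_depth (I : Ideal A) (hA : 1 ≤ LocCoh.idealDepth I A)
    (G : Type u) [AddCommGroup G] [Module A G] [Module.Finite A G]
    (hU : ∀ p : PrimeSpectrum A, ¬ I ≤ p.asIdeal →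
      Module.IsReflexive (Localization.AtPrime p.asIdeal) (LocalizedModule p.asIdeal.primeCompl G))
    (hG : 2 ≤ LocCoh.idealDepth I G) : Module.IsReflexive A G := by
  rw [Depth.two_le_idealDepth_iff] at hG
  rw [Depth.one_le_idealDepth_iff] at hA
  obtain ⟨hG0, hG1⟩ := hG
  rw [Depth.subsingleton_H_zero_iff] at hG0 hA
  -- injectivity
  have hinj : Function.Injective (Module.Dual.eval A G) := by
    rw [← LinearMap.ker_eq_bot, eq_bot_iff]
    intro g hg
    rw [LinearMap.mem_ker] at hg
    have : g ∈ DRing.torsionSub I G := by
      apply mem_torsionSub_of_forall_prime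
      intro p hp
      haveI := hU p hp
      exact exists_smul_eq_zero_of_mem_ker G p.asIdeal.primeCompl g hg
    rw [hG0] at this
    exact this
  -- the double dual has no torsion
  have hDD : DRing.torsionSub I (Module.Dual A (Module.Dual A G)) = ⊥ := by
    rw [eq_bot_iff]
    rintro ξ ⟨k, hk⟩
    rw [Submodule.mem_bot]
    apply LinearMap.ext
    intro φ
    have : ξ φ ∈ DRing.torsionSub I A := by
      refine ⟨k, fun a ha => ?_⟩
      have := LinearMap.congr_fun (hk a ha) φ
      simpa using this
    rw [hA] at this
    simpa using this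
  -- the cokernel is torsion
  set C := Module.Dual A (Module.Dual A G) ⧸ LinearMap.range (Module.Dual.eval A G) with hC
  have hCtors : ∀ c : C, c ∈ DRing.torsionSub I C := by
    intro c
    obtain ⟨ξ, rfl⟩ := Submodule.Quotient.mk_surjective _ c
    apply mem_torsionSub_of_forall_prime
    intro p hp
    haveI := hU p hp
    obtain ⟨t, ht, htξ⟩ := exists_smul_mem_range G p.asIdeal.primeCompl ξ
    refine ⟨t, ht, ?_⟩
    rw [← Submodule.Quotient.mk_smul, Submodule.Quotient.mk_eq_zero]
    exact htξ
  -- but has no torsion
  have hC0 : Subsingleton (LocCoh.H I 0 C) := by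
    apply Depth.subsingleton_right (Module.Dual.eval A G)
      (LinearMap.range (Module.Dual.eval A G)).mkQ I 0 hinj (Submodule.mkQ_surjective _)
    · intro ξ
      rw [Submodule.mkQ_apply, Submodule.Quotient.mk_eq_zero]
      rfl
    · rw [Depth.subsingleton_H_zero_iff]
      exact hDD
    · exact hG1
  rw [Depth.subsingleton_H_zero_iff] at hC0
  refine ⟨hinj, ?_⟩
  rw [← LinearMap.range_eq_top, eq_top_iff]
  intro ξ _
  have := hCtors (Submodule.Quotient.mk ξ)
  rw [hC0, Submodule.mem_bot, Submodule.Quotient.mk_eq_zero] at this
  exact this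

end Criterion

end Refl

end Groth.Agent.H6
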