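import Mathlib

/-! Localization of a tensor product `F ⊗_A E` at a prime of `B` (for an `A`-algebra `B`):
`(F ⊗_A E)_Q ≅ F_Q ⊗_{A_P} E_P`. -/

universe u
set_option linter.style.haveILetI false
open TensorProduct

namespace Groth.Agent.H6

namespace LocTensor

section Abstract

/-- `(F ⊗_A E)_S ≅ F' ⊗_{A'} E'` as `B'`-modules -/
theorem nonempty_equiv {A B : Type u} [CommRing A] [CommRing B] [Algebra A B]
    (S : Submonoid B) (T : Submonoid A)
    [Algebra (Localization T) (Localization S)]
    [IsScalarTower A (Localization T) (Localization S)]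
    {F : Type u} [AddCommGroup F] [Module B F] [Module A F] [IsScalarTower A B F]
    {F' : Type u} [AddCommGroup F'] [Module (Localization S) F'] [Module B F'] [Module A F']
    [Module (Localization T) F']
    [IsScalarTower B (Localization S) F'] [IsScalarTower A B F']
    [IsScalarTower A (Localization T) F'] [IsScalarTower (Localization T) (Localization S) F']
    [IsScalarTower A (Localization S) F']
    (gF : F →ₗ[B] F') [IsLocalizedModule S gF]
    {E : Type u} [AddCommGroup E] [Module A E]
    {E' : Type u} [AddCommGroup E'] [Module (Localization T) E'] [Module A E']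
    [IsScalarTower A (Localization T) E']
    (gE : E →ₗ[A] E') [IsLocalizedModule T gE] :
    Nonempty (LocalizedModule S (F ⊗[A] E) ≃ₗ[Localization S] F' ⊗[Localization T] E') := by
  have e1 : LocalizedModule S (F ⊗[A] E) ≃ₗ[B] F' ⊗[A] E :=
    IsLocalizedModule.iso S (TensorProduct.AlgebraTensorModule.rTensor A E gF)
  have e1' : LocalizedModule S (F ⊗[A] E) ≃ₗ[Localization S] F' ⊗[A] E :=
    LinearEquiv.extendScalarsOfIsLocalization S (Localization S) e1
  have e0 : (Localization T) ⊗[A] E ≃ₗ[Localization T] E' :=
    (IsLocalizedModule.isBaseChange T (Localization T) gE).equiv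
  have e2 : F' ⊗[Localization T] E' ≃ₗ[Localization S]
      F' ⊗[Localization T] ((Localization T) ⊗[A] E) :=
    TensorProduct.AlgebraTensorModule.congr (LinearEquiv.refl (Localization S) F') e0.symm
  have e3 : F' ⊗[Localization T] ((Localization T) ⊗[A] E) ≃ₗ[Localization S] F' ⊗[A] E :=
    TensorProduct.AlgebraTensorModule.cancelBaseChange A (Localization T) (Localization S) F' E
  exact ⟨e1'.trans (e2.trans e3).symm⟩

/-- a localization (at a submonoid of `B`) of an `A`-flat `B`-module is `A`-flat -/
theorem flat_of_isLocalizedModule {A B : Type u} [CommRing A] [CommRing B] [Algebra A B]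
    (S : Submonoid B)
    {F : Type u} [AddCommGroup F] [Module B F] [Module A F] [IsScalarTower A B F]
    [Module.Flat A F]
    {F' : Type u} [AddCommGroup F'] [Module B F'] [Module A F'] [IsScalarTower A B F']
    (gF : F →ₗ[B] F') [IsLocalizedModule S gF] : Module.Flat A F' := by
  rw [Module.Flat.iff_lTensor_preserves_injective_linearMap]
  intro X Y _ _ _ _ f hf
  have h1 : Function.Injective (TensorProduct.AlgebraTensorModule.lTensor B F f) :=
    Module.Flat.lTensor_preserves_injective_linearMap f hf
  have h2 := IsLocalizedModule.map_injective S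
    (TensorProduct.AlgebraTensorModule.rTensor A X gF)
    (TensorProduct.AlgebraTensorModule.rTensor A Y gF)
    (TensorProduct.AlgebraTensorModule.lTensor B F f) h1
  rw [IsLocalizedModule.map_lTensor] at h2
  exact h2

end Abstract

end LocTensor

end Groth.Agent.H6
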