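import Mathlib
import Groth.Prelude.Def_EGA4b
import Groth.Agent.Lib.Helper6.LocTensor
import Groth.Agent.Lib.Helper6.FlatDim

/-! Depth and dimension of `(F ⊗_A E)_Q` for an `A`-flat finite `B`-module `F`. -/

universe u
set_option linter.style.haveILetI false
open scoped Pointwise
open TensorProduct

namespace Groth.Agent.H6

namespace FlatLoc

open FlatDepth FlatDim

variable {A B : Type u} [CommRing A] [CommRing B] [IsNoetherianRing A] [IsNoetherianRing B]
  [Algebra A B]
  (E : Type u) [AddCommGroup E] [Module A E] [Module.Finite A E]
  (F : Type u) [AddCommGroup F] [Module B F] [Module A F] [IsScalarTower A B F]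
  [Module.Finite B F] [Module.Flat A F]
  (Q : Ideal B) [Q.IsPrime]

/-- the basic package: `(F ⊗ E)_Q` has the depth and the dimension predicted by the formulas for
flat local homomorphisms -/
theorem depth_and_dim_localized_tensor :
    LocCoh.depth (Localization.AtPrime Q) (LocalizedModule Q.primeCompl (F ⊗[A] E)) =
      LocCoh.depth (Localization.AtPrime (Q.comap (algebraMap A B)))
          (LocalizedModule (Q.comap (algebraMap A B)).primeCompl E) +
        LocCoh.depth (Localization.AtPrime Q) (EGA4.FibLocMod A B Q F) ∧
    Module.supportDim (Localization.AtPrime Q) (LocalizedModule Q.primeCompl (F ⊗[A] E)) =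
      Module.supportDim (Localization.AtPrime (Q.comap (algebraMap A B)))
          (LocalizedModule (Q.comap (algebraMap A B)).primeCompl E) +
        Module.supportDim (Localization.AtPrime Q) (EGA4.FibLocMod A B Q F) := by
  set P := Q.comap (algebraMap A B) with hP
  haveI : Q.LiesOver P := ⟨rfl⟩
  letI : Algebra (Localization.AtPrime P) (Localization.AtPrime Q) :=
    Localization.AtPrime.algebraOfLiesOver P Q
  haveI : IsLocalHom (algebraMap (Localization.AtPrime P) (Localization.AtPrime Q)) := by
    rw [RingHom.algebraMap_toAlgebra]
    exact Localization.isLocalHom_localRingHom P Q (algebraMap A B) Ideal.LiesOver.over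
  haveI : IsNoetherianRing (Localization.AtPrime P) :=
    IsLocalization.isNoetherianRing P.primeCompl _ inferInstance
  haveI : IsNoetherianRing (Localization.AtPrime Q) :=
    IsLocalization.isNoetherianRing Q.primeCompl _ inferInstance
  letI mA' : Module (Localization.AtPrime P) (LocalizedModule Q.primeCompl F) :=
    Module.compHom (LocalizedModule Q.primeCompl F)
      (algebraMap (Localization.AtPrime P) (Localization.AtPrime Q))
  haveI t2 : IsScalarTower (Localization.AtPrime P) (Localization.AtPrime Q)
      (LocalizedModule Q.primeCompl F) :=
    IsScalarTower.of_algebraMap_smul fun _ _ => rfl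
  haveI t4 : IsScalarTower A (Localization.AtPrime P) (LocalizedModule Q.primeCompl F) :=
    IsScalarTower.of_algebraMap_smul fun a x => by
      change algebraMap (Localization.AtPrime P) (Localization.AtPrime Q)
        (algebraMap A (Localization.AtPrime P) a) • x = a • x
      rw [← IsScalarTower.algebraMap_apply A (Localization.AtPrime P) (Localization.AtPrime Q),
        algebraMap_smul]
  obtain ⟨e⟩ := LocTensor.nonempty_equiv Q.primeCompl P.primeCompl
    (LocalizedModule.mkLinearMap Q.primeCompl F) (LocalizedModule.mkLinearMap P.primeCompl E)
  haveI : Module.Flat A (LocalizedModule Q.primeCompl F) :=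
    LocTensor.flat_of_isLocalizedModule Q.primeCompl (LocalizedModule.mkLinearMap Q.primeCompl F)
  haveI : Module.Flat (Localization.AtPrime P) (LocalizedModule Q.primeCompl F) :=
    (Module.flat_iff_of_isLocalization (Localization.AtPrime P) P.primeCompl
      (LocalizedModule Q.primeCompl F)).mpr inferInstance
  haveI : Module.Finite (Localization.AtPrime Q) (LocalizedModule Q.primeCompl F) :=
    Module.Finite.of_isLocalizedModule Q.primeCompl (LocalizedModule.mkLinearMap Q.primeCompl F)
  haveI : Module.Finite (Localization.AtPrime P) (LocalizedModule P.primeCompl E) :=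
    Module.Finite.of_isLocalizedModule P.primeCompl (LocalizedModule.mkLinearMap P.primeCompl E)
  -- the closed fibre
  have hI : mS (Localization.AtPrime P) (Localization.AtPrime Q) =
      P.map (algebraMap A (Localization.AtPrime Q)) := by
    unfold mS
    rw [← Localization.AtPrime.map_eq_maximalIdeal, Ideal.map_map,
      ← IsScalarTower.algebraMap_eq]
  have e2 : Fib (Localization.AtPrime P) (Localization.AtPrime Q)
      (LocalizedModule Q.primeCompl F) ≃ₗ[Localization.AtPrime Q] EGA4.FibLocMod A B Q F :=
    Submodule.quotEquivOfEq _ _ (by rw [hI])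
  constructor
  · unfold LocCoh.depth
    rw [HomKer.idealDepth_congr _ e, ← HomKer.idealDepth_congr _ e2]
    exact depth_tensor (LocalizedModule Q.primeCompl F) (LocalizedModule P.primeCompl E)
  · rw [Module.supportDim_eq_of_equiv e, ← Module.supportDim_eq_of_equiv e2]
    exact supportDim_tensor (LocalizedModule Q.primeCompl F) (LocalizedModule P.primeCompl E)

end FlatLoc

end Groth.Agent.H6
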