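import Mathlib
import Groth.Prelude.Def_EGA4b
import Groth.Agent.Lib.Helper6.FlatLoc
import Groth.Agent.Lib.Helper6.SkLoc

/-! The local rings and modules of the fibres (`EGA4.FibLocRing`, `EGA4.FibLocMod`). -/

universe u
set_option linter.style.haveILetI false
open scoped Pointwise
open TensorProduct

namespace Groth.Agent.H6

namespace FibLoc

variable (A B : Type u) [CommRing A] [CommRing B] [Algebra A B]
  (Q : Ideal B) [Q.IsPrime]

/-- the ideal defining the fibre local ring -/
abbrev fibIdeal : Ideal (Localization.AtPrime Q) :=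
  (Q.comap (algebraMap A B)).map (algebraMap A (Localization.AtPrime Q))

theorem fibIdeal_le : fibIdeal A B Q ≤ IsLocalRing.maximalIdeal (Localization.AtPrime Q) := by
  rw [Ideal.map_le_iff_le_comap]
  intro a ha
  rw [Ideal.mem_comap, IsScalarTower.algebraMap_apply A B (Localization.AtPrime Q)]
  have h1 : algebraMap A B a ∈ Q := ha
  have h2 : Ideal.comap (algebraMap B (Localization.AtPrime Q))
      (IsLocalRing.maximalIdeal (Localization.AtPrime Q)) = Q :=
    IsLocalization.AtPrime.under_maximalIdeal (Localization.AtPrime Q) Q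
  rw [← h2] at h1
  exact h1

instance : Nontrivial (EGA4.FibLocRing A B Q) :=
  Ideal.Quotient.nontrivial_iff.mpr (fun h => by
    have h1 := fibIdeal_le A B Q
    unfold fibIdeal at h1
    rw [h] at h1
    exact (IsLocalRing.maximalIdeal.isMaximal _).ne_top (top_le_iff.mp h1))

instance : IsLocalHom (algebraMap (Localization.AtPrime Q) (EGA4.FibLocRing A B Q)) :=
  IsLocalHom.of_surjective _ Ideal.Quotient.mk_surjective

variable (F : Type u) [AddCommGroup F] [Module B F]

instance [IsNoetherianRing B] : IsNoetherianRing (Localization.AtPrime Q) :=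
  IsLocalization.isNoetherianRing Q.primeCompl _ inferInstance

instance [Module.Finite B F] :
    Module.Finite (Localization.AtPrime Q) (LocalizedModule Q.primeCompl F) :=
  Module.Finite.of_isLocalizedModule Q.primeCompl (LocalizedModule.mkLinearMap Q.primeCompl F)

instance [Module.Finite B F] : Module.Finite (EGA4.FibLocRing A B Q) (EGA4.FibLocMod A B Q F) :=
  Module.Finite.of_restrictScalars_finite (Localization.AtPrime Q) _ _

/-- depth and dimension of the fibre module over the fibre ring and over `B_Q` agree -/
theorem depth_and_dim_eq [IsNoetherianRing B] [Module.Finite B F] :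
    LocCoh.depth (EGA4.FibLocRing A B Q) (EGA4.FibLocMod A B Q F) =
      LocCoh.depth (Localization.AtPrime Q) (EGA4.FibLocMod A B Q F) ∧
    Module.supportDim (EGA4.FibLocRing A B Q) (EGA4.FibLocMod A B Q F) =
      Module.supportDim (Localization.AtPrime Q) (EGA4.FibLocMod A B Q F) := by
  haveI : Module.Finite (Localization.AtPrime Q) (EGA4.FibLocRing A B Q) :=
    Module.Finite.of_surjective (Algebra.linearMap _ _) Ideal.Quotient.mk_surjective
  constructor
  · exact (Depth.depth_eq_of_isLocalHom_of_finite (A := Localization.AtPrime Q)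
      (B := EGA4.FibLocRing A B Q) (EGA4.FibLocMod A B Q F)).symm
  · exact FlatDim.supportDim_of_surjective (B := Localization.AtPrime Q)
      (C := EGA4.FibLocRing A B Q) Ideal.Quotient.mk_surjective (EGA4.FibLocMod A B Q F)

/-- the Serre inequality for the fibre module, over `B_Q` -/
theorem skIneq_of_hasSk [IsNoetherianRing B] [Module.Finite B F] (k : ℕ)
    (h : LocCoh.HasSk k (EGA4.FibLocRing A B Q) (EGA4.FibLocMod A B Q F)) :
    min (k : WithBot ℕ∞) (Module.supportDim (Localization.AtPrime Q) (EGA4.FibLocMod A B Q F)) ≤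
      ((LocCoh.depth (Localization.AtPrime Q) (EGA4.FibLocMod A B Q F) : ℕ∞) : WithBot ℕ∞) := by
  have h1 := SkLoc.hasSk_closedPoint (R := EGA4.FibLocRing A B Q) (EGA4.FibLocMod A B Q F) k h
  obtain ⟨h2, h3⟩ := depth_and_dim_eq A B Q F
  rw [h2, h3] at h1
  exact h1

end FibLoc

end Groth.Agent.H6
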