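import Mathlib
import Groth.Agent.Lib.Helper6.FlatDepth

/-! The `S`-linear isomorphism `N ⊗_R (R/I) ≅ N/(IS)N`. -/

universe u
set_option linter.style.haveILetI false
open scoped Pointwise
open TensorProduct

namespace Groth.Agent.H6

namespace TensorQuot

variable {R S : Type u} [CommRing R] [CommRing S] [Algebra R S]
  (N : Type u) [AddCommGroup N] [Module S N] [Module R N] [IsScalarTower R S N]

/-- `N ⊗_R (R/I) ≅ N/(IS)N`, `R`-linearly -/
noncomputable def equiv₀ (I : Ideal R) :
    N ⊗[R] (R ⧸ I) ≃ₗ[R] N ⧸ (I.map (algebraMap R S)) • (⊤ : Submodule S N) :=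
  ((TensorProduct.tensorQuotEquivQuotSMul N I).trans
    (Submodule.quotEquivOfEq (I • (⊤ : Submodule R N))
      (((I.map (algebraMap R S)) • (⊤ : Submodule S N)).restrictScalars R) (by
        ext n
        exact (FlatDepth.mem_map_smul_top_iff (S := S) N I n).symm))).trans
    (Submodule.Quotient.restrictScalarsEquiv R _)

theorem equiv₀_tmul (I : Ideal R) (n : N) (r : R) :
    equiv₀ (S := S) N I (n ⊗ₜ Ideal.Quotient.mk I r) = Submodule.Quotient.mk (r • n) := by
  unfold equiv₀
  rw [LinearEquiv.trans_apply, LinearEquiv.trans_apply,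
    TensorProduct.tensorQuotEquivQuotSMul_tmul_mk]
  rfl

/-- `N ⊗_R (R/I) ≅ N/(IS)N`, `S`-linearly -/
noncomputable def equiv (I : Ideal R) :
    N ⊗[R] (R ⧸ I) ≃ₗ[S] N ⧸ (I.map (algebraMap R S)) • (⊤ : Submodule S N) :=
  { equiv₀ (S := S) N I with
    map_smul' := by
      intro s z
      change equiv₀ (S := S) N I (s • z) = s • equiv₀ (S := S) N I z
      induction z using TensorProduct.induction_on with
      | zero => simp
      | tmul n r =>
        obtain ⟨r, rfl⟩ := Ideal.Quotient.mk_surjective r
        rw [TensorProduct.smul_tmul', equiv₀_tmul, equiv₀_tmul, smul_comm,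
          Submodule.Quotient.mk_smul]
      | add a b ha hb => rw [smul_add, map_add, ha, hb, map_add, smul_add] }

end TensorQuot

end Groth.Agent.H6
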