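import Mathlib
import Groth.Prelude.Def_EGA4b
import Groth.Agent.Lib.Helper6.FibLoc
import Groth.Agent.Lib.Helper6.TensorQuot

/-! Transitivity of fibres: depth and dimension of the fibres of a composite `A → B → C`. -/

universe u
set_option linter.style.haveILetI false
open scoped Pointwise
open TensorProduct

namespace Groth.Agent.H6

namespace FibTrans

open FlatDepth FlatDim

section Quot

variable {A B : Type u} [CommRing A] [CommRing B] [IsNoetherianRing A] [IsNoetherianRing B]
  [Algebra A B]
  (F : Type u) [AddCommGroup F] [Module B F] [Module A F] [IsScalarTower A B F]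
  [Module.Finite B F] [Module.Flat A F]
  (Q : Ideal B) [Q.IsPrime]

/-- depth and dimension of `F_Q / I F_Q` for an ideal `I` of `A_P` -/
theorem depth_and_dim_quot (I : Ideal (Localization.AtPrime (Q.comap (algebraMap A B)))) :
    LocCoh.depth (Localization.AtPrime Q) (LocalizedModule Q.primeCompl F ⧸
        (I.map (Localization.localRingHom (Q.comap (algebraMap A B)) Q (algebraMap A B) rfl)) •
          (⊤ : Submodule (Localization.AtPrime Q) (LocalizedModule Q.primeCompl F))) =
      LocCoh.depth (Localization.AtPrime (Q.comap (algebraMap A B)))
          (Localization.AtPrime (Q.comap (algebraMap A B)) ⧸ I) +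
        LocCoh.depth (Localization.AtPrime Q) (EGA4.FibLocMod A B Q F) ∧
    Module.supportDim (Localization.AtPrime Q) (LocalizedModule Q.primeCompl F ⧸
        (I.map (Localization.localRingHom (Q.comap (algebraMap A B)) Q (algebraMap A B) rfl)) •
          (⊤ : Submodule (Localization.AtPrime Q) (LocalizedModule Q.primeCompl F))) =
      Module.supportDim (Localization.AtPrime (Q.comap (algebraMap A B)))
          (Localization.AtPrime (Q.comap (algebraMap A B)) ⧸ I) +
        Module.supportDim (Localization.AtPrime Q) (EGA4.FibLocMod A B Q F) := by
  set P := Q.comap (algebraMap A B) with hP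
  haveI : Q.LiesOver P := ⟨rfl⟩
  letI : Algebra (Localization.AtPrime P) (Localization.AtPrime Q) :=
    Localization.AtPrime.algebraOfLiesOver P Q
  haveI : IsLocalHom (algebraMap (Localization.AtPrime P) (Localization.AtPrime Q)) := by
    rw [RingHom.algebraMap_toAlgebra]
    exact Localization.isLocalHom_localRingHom P Q (algebraMap A B) Ideal.LiesOver.over
  haveI : IsNoetherianRing (Localization.AtPrime P) :=
    IsLocalization.isNoetherianRing P.primeCompl _ inferInstance
  letI mA' : Module (Localization.AtPrime P) (LocalizedModule Q.primeCompl F) :=
    Module.compHom (LocalizedModule Q.primeCompl F)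
      (algebraMap (Localization.AtPrime P) (Localization.AtPrime Q))
  haveI t2 : IsScalarTower (Localization.AtPrime P) (Localization.AtPrime Q)
      (LocalizedModule Q.primeCompl F) :=
    IsScalarTower.of_algebraMap_smul fun _ _ => rfl
  haveI t4 : IsScalarTower A (Localization.AtPrime P) (LocalizedModule Q.primeCompl F) :=
    IsScalarTower.of_algebraMap_smul fun a x => by
      change algebraMap (Localization.AtPrime P) (Localization.AtPrime Q)
        (algebraMap A (Localization.AtPrime P) a) • x = a • x
      rw [← IsScalarTower.algebraMap_apply A (Localization.AtPrime P) (Localization.AtPrime Q),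
        algebraMap_smul]
  haveI : Module.Flat A (LocalizedModule Q.primeCompl F) :=
    LocTensor.flat_of_isLocalizedModule Q.primeCompl (LocalizedModule.mkLinearMap Q.primeCompl F)
  haveI : Module.Flat (Localization.AtPrime P) (LocalizedModule Q.primeCompl F) :=
    (Module.flat_iff_of_isLocalization (Localization.AtPrime P) P.primeCompl
      (LocalizedModule Q.primeCompl F)).mpr inferInstance
  -- the closed fibre
  have hI : mS (Localization.AtPrime P) (Localization.AtPrime Q) =
      P.map (algebraMap A (Localization.AtPrime Q)) := by
    unfold mS
    rw [← Localization.AtPrime.map_eq_maximalIdeal, Ideal.map_map,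
      ← IsScalarTower.algebraMap_eq]
  have e2 : Fib (Localization.AtPrime P) (Localization.AtPrime Q)
      (LocalizedModule Q.primeCompl F) ≃ₗ[Localization.AtPrime Q] EGA4.FibLocMod A B Q F :=
    Submodule.quotEquivOfEq _ _ (by rw [hI])
  have e := TensorQuot.equiv (R := Localization.AtPrime P) (S := Localization.AtPrime Q)
    (LocalizedModule Q.primeCompl F) I
  have hmap : algebraMap (Localization.AtPrime P) (Localization.AtPrime Q) =
      Localization.localRingHom P Q (algebraMap A B) rfl := rfl
  rw [← hmap]
  constructor
  · unfold LocCoh.depth
    rw [← HomKer.idealDepth_congr _ e, ← HomKer.idealDepth_congr _ e2]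
    exact depth_tensor (LocalizedModule Q.primeCompl F) (Localization.AtPrime P ⧸ I)
  · rw [← Module.supportDim_eq_of_equiv e, ← Module.supportDim_eq_of_equiv e2]
    exact supportDim_tensor (LocalizedModule Q.primeCompl F) (Localization.AtPrime P ⧸ I)

end Quot

section Trans

variable {A B C : Type u} [CommRing A] [CommRing B] [CommRing C] [IsNoetherianRing B]
  [IsNoetherianRing C] [Algebra A B] [Algebra B C] [Algebra A C] [IsScalarTower A B C]
  (F : Type u) [AddCommGroup F] [Module C F] [Module B F] [IsScalarTower B C F]
  [Module.Finite C F] [Module.Flat B F]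
  (t : Ideal C) [t.IsPrime]

omit [IsNoetherianRing B] [IsNoetherianRing C] in
theorem map_fibIdeal :
    (FibLoc.fibIdeal A B (t.comap (algebraMap B C))).map
        (Localization.localRingHom (t.comap (algebraMap B C)) t (algebraMap B C) rfl) =
      (t.comap (algebraMap A C)).map (algebraMap A (Localization.AtPrime t)) := by
  unfold FibLoc.fibIdeal
  rw [Ideal.map_map, Ideal.comap_comap, ← IsScalarTower.algebraMap_eq A B C]
  congr 1
  ext a
  rw [RingHom.comp_apply,
    IsScalarTower.algebraMap_apply A B (Localization.AtPrime (t.comap (algebraMap B C))),
    Localization.localRingHom_to_map, ← IsScalarTower.algebraMap_apply A B C,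
    ← IsScalarTower.algebraMap_apply A C (Localization.AtPrime t)]

/-- transitivity of fibres: the fibre of `A → C` at `t` is flat over the fibre of `A → B` at
`r = t ∩ B`, with closed fibre the fibre of `B → C` at `t` -/
theorem depth_and_dim_trans :
    LocCoh.depth (Localization.AtPrime t) (EGA4.FibLocMod A C t F) =
      LocCoh.depth (Localization.AtPrime (t.comap (algebraMap B C)))
          (EGA4.FibLocRing A B (t.comap (algebraMap B C))) +
        LocCoh.depth (Localization.AtPrime t) (EGA4.FibLocMod B C t F) ∧
    Module.supportDim (Localization.AtPrime t) (EGA4.FibLocMod A C t F) =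
      Module.supportDim (Localization.AtPrime (t.comap (algebraMap B C)))
          (EGA4.FibLocRing A B (t.comap (algebraMap B C))) +
        Module.supportDim (Localization.AtPrime t) (EGA4.FibLocMod B C t F) := by
  have h := depth_and_dim_quot (A := B) (B := C) F t
    (FibLoc.fibIdeal A B (t.comap (algebraMap B C)))
  rw [map_fibIdeal] at h
  exact h

end Trans

end FibTrans

end Groth.Agent.H6
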