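import Mathlib
import Groth.Prelude.Def_EGA4b
import Groth.Agent.Lib.Helper6.FibLoc
import Groth.Agent.Lib.Helper6.DepthKit

/-! Going down for flat modules, with a fibre of dimension zero. -/

universe u
set_option linter.style.haveILetI false
open scoped Pointwise
open TensorProduct

namespace Groth.Agent.H6

namespace FlatGD

section Reg

variable {A : Type u} [CommRing A]
  (F : Type u) [AddCommGroup F] [Module A F] [Module.Flat A F]

/-- elements outside a prime `p₁` are regular on `F/p₁F` for flat `F` -/
theorem mem_of_smul_mem (p₁ : Ideal A) [p₁.IsPrime] (a : A) (ha : a ∉ p₁) (x : F)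
    (hx : a • x ∈ p₁ • (⊤ : Submodule A F)) : x ∈ p₁ • (⊤ : Submodule A F) := by
  have hreg : IsSMulRegular (A ⧸ p₁) a := by
    intro y z hyz
    have h0 : Ideal.Quotient.mk p₁ a ≠ 0 := by
      rw [Ne, Ideal.Quotient.eq_zero_iff_mem]
      exact ha
    have h1 : Ideal.Quotient.mk p₁ a * y = Ideal.Quotient.mk p₁ a * z := by
      have : a • y = a • z := hyz
      rwa [Algebra.smul_def, Algebra.smul_def, Ideal.Quotient.algebraMap_eq] at this
    exact mul_left_cancel₀ h0 h1
  have h1 : Function.Injective ((LinearMap.lsmul A (A ⧸ p₁) a).lTensor F) :=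
    Module.Flat.lTensor_preserves_injective_linearMap _ hreg
  let e := TensorProduct.tensorQuotEquivQuotSMul F p₁
  have key : ∀ z : F ⊗[A] (A ⧸ p₁), (LinearMap.lsmul A (A ⧸ p₁) a).lTensor F z = a • z := by
    intro z
    induction z using TensorProduct.induction_on with
    | zero => simp
    | tmul n m => rw [LinearMap.lTensor_tmul, TensorProduct.smul_tmul', TensorProduct.smul_tmul]; rfl
    | add a b ha hb => rw [map_add, smul_add, ha, hb]
  have h2 : a • e.symm (Submodule.Quotient.mk x) = 0 := by
    rw [← map_smul, ← Submodule.Quotient.mk_smul, (Submodule.Quotient.mk_eq_zero _).mpr hx,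
      map_zero]
  rw [← key] at h2
  have h3 : e.symm (Submodule.Quotient.mk x) = 0 := h1 (by rw [h2, map_zero])
  have h4 : (Submodule.Quotient.mk x : F ⧸ p₁ • (⊤ : Submodule A F)) = 0 := by
    have := congrArg e h3
    rwa [LinearEquiv.apply_symm_apply, map_zero] at this
  exact (Submodule.Quotient.mk_eq_zero _).mp h4

end Reg

variable {A B : Type u} [CommRing A] [CommRing B] [IsNoetherianRing B] [Algebra A B]
  (F : Type u) [AddCommGroup F] [Module B F] [Module A F] [IsScalarTower A B F]
  [Module.Finite B F]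

/-- going down for a flat module: below a prime `q` of the support of `F` and over a prime
`p₁ ⊆ q ∩ A` there is a prime `q₁`, minimal in the support of `F/p₁F`. -/
theorem exists_going_down [Module.Flat A F] (q : Ideal B) [hq : q.IsPrime]
    (hqF : (⟨q, hq⟩ : PrimeSpectrum B) ∈ Module.support B F) (p₁ : Ideal A) [p₁.IsPrime]
    (hle : p₁ ≤ q.comap (algebraMap A B)) :
    ∃ q₁ : Ideal B, q₁.IsPrime ∧ q₁ ≤ q ∧ q₁.comap (algebraMap A B) = p₁ ∧
      q₁ ∈ (Module.annihilator B
        (F ⧸ (p₁.map (algebraMap A B)) • (⊤ : Submodule B F))).minimalPrimes := by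
  have h1 : (⟨q, hq⟩ : PrimeSpectrum B) ∈ Module.support B
      (F ⧸ (p₁.map (algebraMap A B)) • (⊤ : Submodule B F)) := by
    rw [Module.support_quotient]
    refine ⟨hqF, ?_⟩
    rw [PrimeSpectrum.mem_zeroLocus]
    exact Ideal.map_le_iff_le_comap.mpr hle
  rw [Module.support_eq_zeroLocus, PrimeSpectrum.mem_zeroLocus] at h1
  obtain ⟨q₁, hq₁, hq₁q⟩ := Ideal.exists_minimalPrimes_le h1
  have hprime : q₁.IsPrime := hq₁.1.1
  refine ⟨q₁, hprime, hq₁q, ?_, hq₁⟩
  have hass : q₁ ∈ associatedPrimes B (F ⧸ (p₁.map (algebraMap A B)) • (⊤ : Submodule B F)) :=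
    Module.associatedPrimes.minimalPrimes_annihilator_subset_associatedPrimes B _ hq₁
  apply le_antisymm
  · intro a ha
    by_contra hcon
    obtain ⟨-, f, hf⟩ := (isAssociatedPrime_iff_exists_injective_linearMap q₁ _).mp hass
    have hne : f 1 ≠ 0 := by
      intro h0
      have := hf (h0.trans (map_zero f).symm)
      have h1 : (1 : B ⧸ q₁) = 0 := this
      have h2 : (1 : B) ∈ q₁ := by
        rw [← Ideal.Quotient.eq_zero_iff_mem]
        exact h1
      exact hprime.ne_top ((Ideal.eq_top_iff_one _).mpr h2)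
    have hzero : algebraMap A B a • f 1 = 0 := by
      rw [← map_smul]
      have : algebraMap A B a • (1 : B ⧸ q₁) = 0 := by
        rw [Algebra.smul_def, mul_one, Ideal.Quotient.algebraMap_eq,
          Ideal.Quotient.eq_zero_iff_mem]
        exact ha
      rw [this, map_zero]
    obtain ⟨x, hx⟩ := Submodule.Quotient.mk_surjective _ (f 1)
    rw [← hx, ← Submodule.Quotient.mk_smul, Submodule.Quotient.mk_eq_zero, algebraMap_smul,
      FlatDepth.mem_map_smul_top_iff] at hzero
    have hmem := mem_of_smul_mem F p₁ a hcon x hzero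
    apply hne
    rw [← hx, Submodule.Quotient.mk_eq_zero, FlatDepth.mem_map_smul_top_iff]
    exact hmem
  · intro a ha
    rw [Ideal.mem_comap]
    apply hq₁.1.2
    rw [Module.mem_annihilator]
    intro g
    obtain ⟨x, rfl⟩ := Submodule.Quotient.mk_surjective _ g
    rw [← Submodule.Quotient.mk_smul, Submodule.Quotient.mk_eq_zero]
    exact Submodule.smul_mem_smul (Ideal.mem_map_of_mem _ ha) Submodule.mem_top

omit [Module A F] [IsScalarTower A B F] in
/-- at a prime `q₁` minimal in the support of `F/p₁F` (`p₁ = q₁ ∩ A`), the fibre module is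
nonzero of depth and dimension zero -/
theorem fibLocMod_depth_dim_zero (q₁ : Ideal B) [hq₁ : q₁.IsPrime]
    (hmin : q₁ ∈ (Module.annihilator B
      (F ⧸ ((q₁.comap (algebraMap A B)).map (algebraMap A B)) •
        (⊤ : Submodule B F))).minimalPrimes) :
    LocCoh.depth (Localization.AtPrime q₁) (EGA4.FibLocMod A B q₁ F) = 0 ∧
      Module.supportDim (Localization.AtPrime q₁) (EGA4.FibLocMod A B q₁ F) = 0 := by
  -- `q₁` is in the support of `F`
  have hsuppG : (⟨q₁, hq₁⟩ : PrimeSpectrum B) ∈ Module.support B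
      (F ⧸ ((q₁.comap (algebraMap A B)).map (algebraMap A B)) • (⊤ : Submodule B F)) := by
    rw [Module.support_eq_zeroLocus, PrimeSpectrum.mem_zeroLocus]
    exact hmin.1.2
  have hsuppF : (⟨q₁, hq₁⟩ : PrimeSpectrum B) ∈ Module.support B F := by
    rw [Module.support_quotient] at hsuppG
    exact hsuppG.1
  haveI : Nontrivial (LocalizedModule q₁.primeCompl F) :=
    (Module.mem_support_iff (p := ⟨q₁, hq₁⟩)).mp hsuppF
  -- the fibre module is nonzero
  haveI hnt : Nontrivial (EGA4.FibLocMod A B q₁ F) := by
    rw [Submodule.Quotient.nontrivial_iff]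
    intro htop
    have h1 : (⊤ : Submodule (Localization.AtPrime q₁) (LocalizedModule q₁.primeCompl F)) = ⊥ :=
      Submodule.eq_bot_of_le_smul_of_le_jacobson_bot _ _ Module.Finite.fg_top htop.ge
        ((FibLoc.fibIdeal_le A B q₁).trans (IsLocalRing.maximalIdeal_le_jacobson _))
    exact top_ne_bot h1
  -- the support is the closed point
  have hsupp : ∀ Q ∈ Module.support (Localization.AtPrime q₁) (EGA4.FibLocMod A B q₁ F),
      Q = IsLocalRing.closedPoint (Localization.AtPrime q₁) := by
    intro Q hQ
    rw [Module.support_quotient] at hQ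
    obtain ⟨hQ1, hQ2⟩ := hQ
    rw [Sk.mem_support_localizedModule_iff] at hQ1
    rw [PrimeSpectrum.mem_zeroLocus] at hQ2
    set q₂ := PrimeSpectrum.comap (algebraMap B (Localization.AtPrime q₁)) Q with hq₂
    have hq₂le : q₂.asIdeal ≤ q₁ := by
      have h1 : Q.asIdeal ≤ IsLocalRing.maximalIdeal (Localization.AtPrime q₁) :=
        IsLocalRing.le_maximalIdeal Q.2.ne_top
      have h2 := Ideal.comap_mono (f := algebraMap B (Localization.AtPrime q₁)) h1
      have h3 : Ideal.comap (algebraMap B (Localization.AtPrime q₁))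
          (IsLocalRing.maximalIdeal (Localization.AtPrime q₁)) = q₁ :=
        IsLocalization.AtPrime.under_maximalIdeal (Localization.AtPrime q₁) q₁
      rw [h3] at h2
      exact h2
    have hq₂G : q₂ ∈ Module.support B
        (F ⧸ ((q₁.comap (algebraMap A B)).map (algebraMap A B)) • (⊤ : Submodule B F)) := by
      rw [Module.support_quotient]
      refine ⟨hQ1, ?_⟩
      rw [PrimeSpectrum.mem_zeroLocus, SetLike.coe_subset_coe, Ideal.map_le_iff_le_comap]
      intro a ha
      have h1 : algebraMap A (Localization.AtPrime q₁) a ∈ Q.asIdeal :=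
        hQ2 (Ideal.mem_map_of_mem _ ha)
      rw [IsScalarTower.algebraMap_apply A B (Localization.AtPrime q₁)] at h1
      exact h1
    rw [Module.support_eq_zeroLocus, PrimeSpectrum.mem_zeroLocus] at hq₂G
    have heq : q₁ ≤ q₂.asIdeal := hmin.2 ⟨q₂.2, hq₂G⟩ hq₂le
    have heq' : q₂.asIdeal = q₁ := le_antisymm hq₂le heq
    apply PrimeSpectrum.ext
    change Q.asIdeal = IsLocalRing.maximalIdeal _
    rw [← IsLocalization.map_comap q₁.primeCompl (Localization.AtPrime q₁) Q.asIdeal,
      ← Localization.AtPrime.map_eq_maximalIdeal]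
    congr 1
  have hdim0 : Module.supportDim (Localization.AtPrime q₁) (EGA4.FibLocMod A B q₁ F) = 0 := by
    apply le_antisymm
    · unfold Module.supportDim
      haveI : Subsingleton (Module.support (Localization.AtPrime q₁)
          (EGA4.FibLocMod A B q₁ F)) := by
        constructor
        intro x y
        apply Subtype.ext
        rw [hsupp x.1 x.2, hsupp y.1 y.2]
      exact Order.krullDim_nonpos_of_subsingleton
    · unfold Module.supportDim
      haveI : Nonempty (Module.support (Localization.AtPrime q₁)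
          (EGA4.FibLocMod A B q₁ F)) := by
        rw [Set.nonempty_coe_sort, Set.nonempty_iff_ne_empty, Ne, Module.support_eq_empty_iff,
          not_subsingleton_iff_nontrivial]
        exact hnt
      exact Order.krullDim_nonneg
  refine ⟨?_, hdim0⟩
  obtain ⟨d, hd, hdle⟩ := Depth.exists_depth_eq (R := Localization.AtPrime q₁)
    (EGA4.FibLocMod A B q₁ F)
  rw [hdim0] at hdle
  have : d = 0 := by
    have h1 : ((d : ℕ) : WithBot ℕ∞) ≤ ((0 : ℕ) : WithBot ℕ∞) := by exact_mod_cast hdle
    have h2 : d ≤ 0 := by exact_mod_cast h1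
    omega
  rw [hd, this]
  rfl

end FlatGD

end Groth.Agent.H6
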