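import Mathlib
import Groth.Prelude.Def_EGA4b
import Groth.Agent.Lib.Helper6.FibTrans
import Groth.Agent.Lib.Helper6.FlatGD

/-! Dictionary between the fibre rings `p.Fiber B = κ(p) ⊗_A B` and the fibre local rings
`EGA4.FibLocRing A B r = B_r / p B_r`. -/

universe u
set_option linter.style.haveILetI false
open scoped Pointwise
open TensorProduct

namespace Groth.Agent.H6

namespace FiberDict

variable {A B : Type u} [CommRing A] [CommRing B] [Algebra A B] (p : Ideal A) [p.IsPrime]

/-- the fibre of a Noetherian algebra is Noetherian -/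
theorem isNoetherianRing_fiber [IsNoetherianRing B] : IsNoetherianRing (p.Fiber B) := by
  letI : Algebra B (p.Fiber B) := Algebra.TensorProduct.rightAlgebra
  haveI : IsNoetherianRing (Localization (Algebra.algebraMapSubmonoid B p.primeCompl)) :=
    IsLocalization.isNoetherianRing (Algebra.algebraMapSubmonoid B p.primeCompl) _ inferInstance
  exact isNoetherianRing_of_ringEquiv _ (Ideal.Fiber.algEquivAux₁ p (S := B)).symm.toRingEquiv

variable (P : Ideal (p.Fiber B)) [P.IsPrime]

/-- the prime of `B` under a prime of the fibre -/
noncomputable abbrev under : Ideal B := P.comap (Algebra.TensorProduct.includeRight : B →ₐ[A] p.Fiber B)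

theorem comap_under : (under p P).comap (algebraMap A B) = p := by
  have h : P.under A = p := (Ideal.LiesOver.over (p := p) (P := P)).symm
  refine Eq.trans ?_ h
  unfold under Ideal.under
  ext a
  rw [Ideal.mem_comap, Ideal.mem_comap, Ideal.mem_comap, ← AlgHom.commutes
    (Algebra.TensorProduct.includeRight : B →ₐ[A] p.Fiber B) a]

/-- the local ring of the fibre at `P` is the fibre local ring at the prime under `P` -/
noncomputable def ringEquiv : Localization.AtPrime P ≃+* EGA4.FibLocRing A B (under p P) :=
  (Ideal.Fiber.algEquivAux₂ p P).toRingEquiv.trans (Ideal.quotEquivOfEq (by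
    rw [Ideal.map_map, ← IsScalarTower.algebraMap_eq, comap_under]))

/-- `R_p` as the localized module of `R` -/
noncomputable def locEquiv (R : Type u) [CommRing R] (q : Ideal R) [q.IsPrime] :
    LocalizedModule q.primeCompl R ≃ₗ[Localization.AtPrime q] Localization.AtPrime q :=
  LinearEquiv.extendScalarsOfIsLocalization q.primeCompl (Localization.AtPrime q)
    (IsLocalizedModule.linearEquiv q.primeCompl (LocalizedModule.mkLinearMap q.primeCompl R)
      (Algebra.linearMap R (Localization.AtPrime q)))

/-- depth and dimension of the local ring of the fibre at `P` are those of the fibre local ring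
at the prime under `P` (as a module over `B_r`) -/
theorem depth_and_dim' [IsNoetherianRing B] :
    LocCoh.depth (Localization.AtPrime P) (Localization.AtPrime P) =
      LocCoh.depth (Localization.AtPrime (under p P)) (EGA4.FibLocRing A B (under p P)) ∧
    Module.supportDim (Localization.AtPrime P) (Localization.AtPrime P) =
      Module.supportDim (Localization.AtPrime (under p P))
        (EGA4.FibLocRing A B (under p P)) := by
  haveI : IsNoetherianRing (p.Fiber B) := isNoetherianRing_fiber p
  haveI : IsNoetherianRing (Localization.AtPrime P) :=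
    IsLocalization.isNoetherianRing P.primeCompl _ inferInstance
  set r := under p P with hr
  set T := EGA4.FibLocRing A B r with hT
  haveI : Module.Finite (Localization.AtPrime r) T :=
    Module.Finite.of_surjective (Algebra.linearMap _ _) Ideal.Quotient.mk_surjective
  obtain ⟨h1, h2⟩ := SemiLin.depth_and_dim_eq (R₁ := Localization.AtPrime P) (R₂ := T)
    (M₁ := Localization.AtPrime P) (M₂ := T) (ringEquiv p P) (ringEquiv p P).toAddEquiv
    (fun x y => by
      change ringEquiv p P (x * y) = ringEquiv p P x * ringEquiv p P y
      exact map_mul _ _ _)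
  constructor
  · rw [h1]
    exact (Depth.depth_eq_of_isLocalHom_of_finite (A := Localization.AtPrime r) (B := T) T).symm
  · rw [h2]
    exact FlatDim.supportDim_of_surjective (B := Localization.AtPrime r) (C := T)
      Ideal.Quotient.mk_surjective T

/-- the same for the localized module of the fibre ring -/
theorem depth_and_dim [IsNoetherianRing B] :
    LocCoh.depth (Localization.AtPrime P) (LocalizedModule P.primeCompl (p.Fiber B)) =
      LocCoh.depth (Localization.AtPrime (under p P)) (EGA4.FibLocRing A B (under p P)) ∧
    Module.supportDim (Localization.AtPrime P) (LocalizedModule P.primeCompl (p.Fiber B)) =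
      Module.supportDim (Localization.AtPrime (under p P))
        (EGA4.FibLocRing A B (under p P)) := by
  obtain ⟨h1, h2⟩ := depth_and_dim' p P
  constructor
  · unfold LocCoh.depth at h1 ⊢
    rw [HomKer.idealDepth_congr _ (locEquiv (p.Fiber B) P), h1]
  · rw [Module.supportDim_eq_of_equiv (locEquiv (p.Fiber B) P), h2]

omit [p.IsPrime] in
/-- the fibre module of `B` itself is the fibre local ring -/
noncomputable def fibLocModSelfEquiv (r : Ideal B) [r.IsPrime] :
    EGA4.FibLocMod A B r B ≃ₗ[Localization.AtPrime r] EGA4.FibLocRing A B r :=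
  Submodule.Quotient.equiv _ _ (locEquiv B r) (by
    rw [Submodule.map_smul'', Submodule.map_top, LinearEquiv.range, smul_eq_mul, Ideal.mul_top])

omit [p.IsPrime] in
theorem depth_and_dim_self (r : Ideal B) [r.IsPrime] :
    LocCoh.depth (Localization.AtPrime r) (EGA4.FibLocMod A B r B) =
      LocCoh.depth (Localization.AtPrime r) (EGA4.FibLocRing A B r) ∧
    Module.supportDim (Localization.AtPrime r) (EGA4.FibLocMod A B r B) =
      Module.supportDim (Localization.AtPrime r) (EGA4.FibLocRing A B r) :=
  ⟨HomKer.idealDepth_congr _ (fibLocModSelfEquiv r),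
    Module.supportDim_eq_of_equiv (fibLocModSelfEquiv r)⟩

omit [P.IsPrime] in
/-- every prime of `B` over `p` comes from a prime of the fibre -/
theorem exists_under_eq (r : Ideal B) [hr : r.IsPrime] (hrp : r.comap (algebraMap A B) = p) :
    ∃ (P : Ideal (p.Fiber B)) (_ : P.IsPrime), under p P = r := by
  have hmem : r ∈ p.primesOver B := ⟨hr, ⟨hrp.symm⟩⟩
  let Q := PrimeSpectrum.primesOverOrderIsoFiber A B p ⟨r, hmem⟩
  refine ⟨Q.asIdeal, Q.isPrime, ?_⟩
  have h := PrimeSpectrum.coe_primesOverOrderIsoFiber_symm_apply p Q
  rw [OrderIso.symm_apply_apply] at h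
  exact h.symm

/-- the Serre inequality for the fibre local ring at a prime `r` of `B` -/
def FibSkIneq (n : ℕ) (A B : Type u) [CommRing A] [CommRing B] [Algebra A B] (r : Ideal B)
    [r.IsPrime] : Prop :=
  min (n : WithBot ℕ∞)
      (Module.supportDim (Localization.AtPrime r) (EGA4.FibLocRing A B r)) ≤
    ((LocCoh.depth (Localization.AtPrime r) (EGA4.FibLocRing A B r) : ℕ∞) : WithBot ℕ∞)

omit [P.IsPrime] in
/-- `(S_n)` for the fibre ring in terms of the fibre local rings -/
theorem hasSk_fiber_iff [IsNoetherianRing B] (n : ℕ) :
    LocCoh.HasSk n (p.Fiber B) (p.Fiber B) ↔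
      ∀ (r : Ideal B) [r.IsPrime], r.comap (algebraMap A B) = p → FibSkIneq n A B r := by
  constructor
  · intro h r hr hrp
    obtain ⟨P, hP, rfl⟩ := exists_under_eq p r hrp
    have h1 := h P
    obtain ⟨h2, h3⟩ := depth_and_dim p P
    rw [h2, h3] at h1
    exact h1
  · intro h P hP
    obtain ⟨h2, h3⟩ := depth_and_dim p P
    rw [h2, h3]
    exact h (under p P) (comap_under p P)

omit [P.IsPrime] in
/-- Cohen–Macaulayness of the fibre ring in terms of the fibre local rings -/
theorem cm_fiber_iff [IsNoetherianRing B] :
    LocCoh.IsCohenMacaulayRing (p.Fiber B) ↔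
      ∀ (r : Ideal B) [r.IsPrime], r.comap (algebraMap A B) = p →
        Module.supportDim (Localization.AtPrime r) (EGA4.FibLocRing A B r) =
          ((LocCoh.depth (Localization.AtPrime r) (EGA4.FibLocRing A B r) : ℕ∞) : WithBot ℕ∞) := by
  haveI : IsNoetherianRing (p.Fiber B) := isNoetherianRing_fiber p
  constructor
  · intro h r hr hrp
    obtain ⟨P, hP, rfl⟩ := exists_under_eq p r hrp
    have h1 := (h.isCohenMacaulayLocalRing_localization P).supportDim_eq_depth
    obtain ⟨h2, h3⟩ := depth_and_dim' p P
    rw [h2, h3] at h1
    exact h1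
  · intro h
    refine { isCohenMacaulayLocalRing_localization := ?_ }
    intro P hP
    haveI : IsNoetherianRing (Localization.AtPrime P) :=
      IsLocalization.isNoetherianRing P.primeCompl _ inferInstance
    refine { supportDim_eq_depth := ?_ }
    obtain ⟨h2, h3⟩ := depth_and_dim' p P
    rw [h2, h3]
    exact h (under p P) (comap_under p P)

omit [p.IsPrime] [P.IsPrime] in
/-- over a prime `r` of `B` there is a prime `t` of a faithfully flat Noetherian `B`-algebra `C`
at which the fibre has depth and dimension zero -/
theorem exists_fibre_zero {C : Type u} [CommRing C] [IsNoetherianRing C] [Algebra B C]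
    [Module.FaithfullyFlat B C] (r : Ideal B) [hr : r.IsPrime] :
    ∃ (t : Ideal C) (_ : t.IsPrime), t.comap (algebraMap B C) = r ∧
      LocCoh.depth (Localization.AtPrime t) (EGA4.FibLocMod B C t C) = 0 ∧
      Module.supportDim (Localization.AtPrime t) (EGA4.FibLocMod B C t C) = 0 := by
  obtain ⟨q, hq, hqr⟩ := Ideal.exists_isPrime_liesOver_of_faithfullyFlat (B := C) r
  have hqs : (⟨q, hq⟩ : PrimeSpectrum C) ∈ Module.support C C := by
    rw [Module.support_eq_zeroLocus, PrimeSpectrum.mem_zeroLocus]
    have : Module.annihilator C C = ⊥ := by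
      rw [eq_bot_iff]
      intro x hx
      rw [Module.mem_annihilator] at hx
      have := hx 1
      rw [smul_eq_mul, mul_one] at this
      rw [this]
      exact Submodule.zero_mem _
    rw [this]
    intro x hx
    rw [SetLike.mem_coe, Submodule.mem_bot] at hx
    rw [hx]
    exact Submodule.zero_mem _
  obtain ⟨t, ht, -, htr, hmin⟩ := FlatGD.exists_going_down (A := B) (B := C) C q hqs r
    (le_of_eq hqr.over)
  haveI := ht
  subst htr
  obtain ⟨h1, h2⟩ := FlatGD.fibLocMod_depth_dim_zero (A := B) (B := C) C t hmin
  exact ⟨t, ht, rfl, h1, h2⟩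

end FiberDict

end Groth.Agent.H6
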