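import Mathlib
import Groth.Prelude.Def_EGA4b
import Groth.Agent.Lib.Helper6.SkQuot
import Groth.Agent.Lib.Helper6.CMKit

/-! Associated primes of a principal ideal generated by a regular element have local depth one. -/

universe u
set_option linter.style.haveILetI false
open scoped Pointwise

namespace Groth.Agent.H6

namespace DepthOne

variable {R : Type u} [CommRing R] [IsNoetherianRing R]

/-- `depth R_p R_p` in terms of the localized module `R_p` -/
theorem depth_self_eq (p : Ideal R) [p.IsPrime] :
    LocCoh.depth (Localization.AtPrime p) (Localization.AtPrime p) =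
      LocCoh.depth (Localization.AtPrime p) (LocalizedModule p.primeCompl R) := by
  have e : LocalizedModule p.primeCompl R ≃ₗ[Localization.AtPrime p] Localization.AtPrime p :=
    (IsLocalizedModule.iso p.primeCompl
      (Algebra.linearMap R (Localization.AtPrime p))).extendScalarsOfIsLocalization p.primeCompl
        (Localization.AtPrime p)
  unfold LocCoh.depth
  exact (CM.idealDepth_eq_of_linearEquiv _ e).symm

/-- an associated prime of `R/aR`, `a` regular, has `depth R_p = 1` -/
theorem depth_eq_one_of_mem_associatedPrimes (a : R) (hreg : IsSMulRegular R a) (P : Ideal R)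
    [P.IsPrime] (hP : P ∈ associatedPrimes R (R ⧸ Ideal.span {a})) :
    LocCoh.depth (Localization.AtPrime P) (Localization.AtPrime P) = 1 := by
  have e : (R ⧸ Ideal.span {a}) ≃ₗ[R] QuotSMulTop a R := by
    have h : Ideal.span {a} = a • (⊤ : Ideal R) := by
      simp [← Submodule.ideal_span_singleton_smul]
    exact Submodule.quotEquivOfEq _ _ h
  have haP : a ∈ P := by
    have h1 := CM.annihilator_le_of_mem_associatedPrimes hP
    rw [Ideal.annihilator_quotient] at h1
    exact h1 (Ideal.mem_span_singleton_self a)
  rw [depth_self_eq]
  apply le_antisymm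
  · by_contra hlt
    rw [not_le] at hlt
    have h2 : ((2 : ℕ) : ℕ∞) ≤
        LocCoh.depth (Localization.AtPrime P) (LocalizedModule P.primeCompl R) := by
      have := Order.add_one_le_of_lt hlt
      exact_mod_cast this
    rw [← Depth.locDepthGE_iff] at h2
    have h4 := Depth.locDepthGE_quotSMulTop R P 1 a hreg h2
    have h5 := Depth.not_mem_associatedPrimes_of_locDepthGE (QuotSMulTop a R) P h4
    rw [← LinearEquiv.AssociatedPrimes.eq e] at h5
    exact h5 hP
  · have h1 : Depth.LocDepthGE R P 1 :=
      Depth.locDepthGE_succ_of_quotSMulTop R P 0 a haP hreg (fun i hi => by omega)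
    rw [Depth.locDepthGE_iff] at h1
    exact_mod_cast h1

end DepthOne

end Groth.Agent.H6
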