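import Mathlib
import Groth.Prelude.Def_EGA4b
import Groth.Agent.Lib.Helper6.SkLoc

/-! Serre's condition over a quotient ring and over the ring. -/

universe u
set_option linter.style.haveILetI false
open scoped Pointwise

namespace Groth.Agent.H6

namespace SkSurj

variable {A C : Type u} [CommRing A] [CommRing C] [IsNoetherianRing A] [Algebra A C]
  (hsurj : Function.Surjective (algebraMap A C))
  (X : Type u) [AddCommGroup X] [Module C X] [Module A X] [IsScalarTower A C X]
  [Module.Finite C X]

include hsurj in
/-- local depth and dimension over a quotient ring and over the ring agree -/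
theorem depth_and_dim_comap (P : Ideal C) [P.IsPrime] :
    LocCoh.depth (Localization.AtPrime P) (LocalizedModule P.primeCompl X) =
      LocCoh.depth (Localization.AtPrime (P.comap (algebraMap A C)))
        (LocalizedModule (P.comap (algebraMap A C)).primeCompl X) ∧
    Module.supportDim (Localization.AtPrime P) (LocalizedModule P.primeCompl X) =
      Module.supportDim (Localization.AtPrime (P.comap (algebraMap A C)))
        (LocalizedModule (P.comap (algebraMap A C)).primeCompl X) := by
  set p := P.comap (algebraMap A C) with hp
  haveI : P.LiesOver p := ⟨rfl⟩
  letI : Algebra (Localization.AtPrime p) (Localization.AtPrime P) :=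
    Localization.AtPrime.algebraOfLiesOver p P
  haveI : IsLocalHom (algebraMap (Localization.AtPrime p) (Localization.AtPrime P)) := by
    rw [RingHom.algebraMap_toAlgebra]
    exact Localization.isLocalHom_localRingHom p P (algebraMap A C) Ideal.LiesOver.over
  haveI : IsNoetherianRing C := isNoetherianRing_of_surjective A C (algebraMap A C) hsurj
  haveI : IsNoetherianRing (Localization.AtPrime p) :=
    IsLocalization.isNoetherianRing p.primeCompl _ inferInstance
  haveI : IsNoetherianRing (Localization.AtPrime P) :=
    IsLocalization.isNoetherianRing P.primeCompl _ inferInstance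
  letI mA' : Module (Localization.AtPrime p) (LocalizedModule P.primeCompl X) :=
    Module.compHom (LocalizedModule P.primeCompl X)
      (algebraMap (Localization.AtPrime p) (Localization.AtPrime P))
  haveI t2 : IsScalarTower (Localization.AtPrime p) (Localization.AtPrime P)
      (LocalizedModule P.primeCompl X) :=
    IsScalarTower.of_algebraMap_smul fun _ _ => rfl
  haveI t4 : IsScalarTower A (Localization.AtPrime p) (LocalizedModule P.primeCompl X) :=
    IsScalarTower.of_algebraMap_smul fun a x => by
      change algebraMap (Localization.AtPrime p) (Localization.AtPrime P)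
        (algebraMap A (Localization.AtPrime p) a) • x = a • x
      rw [← IsScalarTower.algebraMap_apply A (Localization.AtPrime p) (Localization.AtPrime P),
        algebraMap_smul]
  have hsurj' : Function.Surjective
      (algebraMap (Localization.AtPrime p) (Localization.AtPrime P)) :=
    RingHom.surjective_localRingHom_of_surjective (algebraMap A C) hsurj P
  haveI : Module.Finite (Localization.AtPrime p) (Localization.AtPrime P) :=
    Module.Finite.of_surjective (Algebra.linearMap _ _) hsurj'
  haveI : Module.Finite (Localization.AtPrime P) (LocalizedModule P.primeCompl X) :=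
    Module.Finite.of_isLocalizedModule P.primeCompl (LocalizedModule.mkLinearMap P.primeCompl X)
  haveI : Module.Finite A C := Module.Finite.of_surjective (Algebra.linearMap A C) hsurj
  haveI : Module.Finite A X := Module.Finite.trans C X
  haveI : Module.Finite (Localization.AtPrime p) (LocalizedModule p.primeCompl X) :=
    Module.Finite.of_isLocalizedModule p.primeCompl (LocalizedModule.mkLinearMap p.primeCompl X)
  haveI : Module.Finite (Localization.AtPrime p) (LocalizedModule P.primeCompl X) :=
    Module.Finite.trans (Localization.AtPrime P) _
  have heq : Algebra.algebraMapSubmonoid C p.primeCompl = P.primeCompl :=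
    Ideal.algebraMapSubmonoid_primeCompl_of_liesOver_surjective P p hsurj
  haveI : IsLocalizedModule (Algebra.algebraMapSubmonoid C p.primeCompl)
      (LocalizedModule.mkLinearMap P.primeCompl X) := by
    rw [heq]
    infer_instance
  haveI : IsLocalizedModule p.primeCompl
      ((LocalizedModule.mkLinearMap P.primeCompl X).restrictScalars A) :=
    IsLocalizedModule.restrictScalars p.primeCompl (LocalizedModule.mkLinearMap P.primeCompl X)
  obtain ⟨h1, h2⟩ := SemiLin.depth_and_dim_eq_of_isLocalizedModule p.primeCompl
    (T₁ := Localization.AtPrime p) (T₂ := Localization.AtPrime p)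
    (LocalizedModule.mkLinearMap p.primeCompl X)
    ((LocalizedModule.mkLinearMap P.primeCompl X).restrictScalars A)
  constructor
  · rw [h1]
    exact (Depth.depth_eq_of_isLocalHom_of_finite (A := Localization.AtPrime p)
      (B := Localization.AtPrime P) (LocalizedModule P.primeCompl X)).symm
  · rw [h2]
    exact FlatDim.supportDim_of_surjective hsurj' (LocalizedModule P.primeCompl X)

include hsurj in
/-- Serre's condition over a quotient ring and over the ring agree -/
theorem hasSk_iff (k : ℕ) : LocCoh.HasSk k C X ↔ LocCoh.HasSk k A X := by
  haveI : Module.Finite A C := Module.Finite.of_surjective (Algebra.linearMap A C) hsurj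
  haveI : Module.Finite A X := Module.Finite.trans C X
  constructor
  · intro h p hp
    by_cases hnt : Nontrivial (LocalizedModule p.primeCompl X)
    swap
    · rw [not_nontrivial_iff_subsingleton] at hnt
      rw [Module.supportDim_eq_bot_of_subsingleton, min_bot_right]
      exact bot_le
    have hsupp : (⟨p, hp⟩ : PrimeSpectrum A) ∈ Module.support A X :=
      (Module.mem_support_iff (p := ⟨p, hp⟩)).mpr hnt
    rw [Module.mem_support_iff_of_finite] at hsupp
    have hker : RingHom.ker (algebraMap A C) ≤ p := by
      refine le_trans ?_ hsupp
      intro x hx
      rw [Module.mem_annihilator]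
      intro m
      rw [← algebraMap_smul C x m, (RingHom.mem_ker).mp hx, zero_smul]
    haveI hP : (p.map (algebraMap A C)).IsPrime := Ideal.map_isPrime_of_surjective hsurj hker
    have hc : (p.map (algebraMap A C)).comap (algebraMap A C) = p := by
      rw [Ideal.comap_map_of_surjective' _ hsurj]
      exact sup_eq_left.mpr hker
    have h1 := h (p.map (algebraMap A C))
    obtain ⟨h2, h3⟩ := depth_and_dim_comap hsurj X (p.map (algebraMap A C))
    rw [h2, h3] at h1
    exact (SkLoc.skIneq_congr X k hc).mp h1
  · intro h P hP
    obtain ⟨h2, h3⟩ := depth_and_dim_comap hsurj X P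
    rw [h2, h3]
    exact h (P.comap (algebraMap A C))

end SkSurj

end Groth.Agent.H6
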