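import Mathlib
import Groth.Prelude.Def_EGA4b
import Groth.Agent.Lib.Helper6.SkLoc
import Groth.Agent.Lib.Helper6.SkQuot
import Groth.Agent.Lib.Helper6.CMKit
import Groth.Agent.Lib.Helper6.SkSurj

/-! Lifting Serre's condition `(S_k)` from `M/tM` to `M`. -/

universe u
set_option linter.style.haveILetI false
open scoped Pointwise

namespace Groth.Agent.H6

namespace SkLift

variable {A : Type u} [CommRing A] [IsNoetherianRing A]
  (M : Type u) [AddCommGroup M] [Module A M] [Module.Finite A M]

/-- (F2) `depth (M/tM)_q + 1 ≤ depth M_q` for `t ∈ q` regular on `M` -/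
theorem depth_quot_add_one_le (t : A) (hreg : IsSMulRegular M t) (q : Ideal A) [q.IsPrime]
    (htq : t ∈ q) :
    LocCoh.depth (Localization.AtPrime q) (LocalizedModule q.primeCompl (QuotSMulTop t M)) + 1 ≤
      LocCoh.depth (Localization.AtPrime q) (LocalizedModule q.primeCompl M) := by
  induction hD : LocCoh.depth (Localization.AtPrime q)
      (LocalizedModule q.primeCompl (QuotSMulTop t M)) using ENat.recTopCoe with
  | top =>
    -- then the depth of `M_q` is at least `j + 1` for every `j`
    rw [top_add, top_le_iff, ENat.eq_top_iff_forall_ge]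
    intro j
    have h1 : Depth.LocDepthGE (QuotSMulTop t M) q j := by
      rw [Depth.locDepthGE_iff, hD]
      exact le_top
    have h2 := Depth.locDepthGE_succ_of_quotSMulTop M q j t htq hreg h1
    rw [Depth.locDepthGE_iff] at h2
    exact le_trans (by exact_mod_cast Nat.le_succ j) h2
  | coe j =>
    have h1 : Depth.LocDepthGE (QuotSMulTop t M) q j := by
      rw [Depth.locDepthGE_iff, hD]
    have h2 := Depth.locDepthGE_succ_of_quotSMulTop M q j t htq hreg h1
    rw [Depth.locDepthGE_iff] at h2
    exact_mod_cast h2

/-- (F1) `dim (M/tM)_q + 1 = dim M_q` for `t ∈ q` regular on `M` -/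
theorem supportDim_quot_add_one (t : A) (hreg : IsSMulRegular M t) (q : Ideal A) [q.IsPrime]
    (htq : t ∈ q) :
    Module.supportDim (Localization.AtPrime q)
        (LocalizedModule q.primeCompl (QuotSMulTop t M)) + 1 =
      Module.supportDim (Localization.AtPrime q) (LocalizedModule q.primeCompl M) := by
  haveI : IsNoetherianRing (Localization.AtPrime q) :=
    IsLocalization.isNoetherianRing q.primeCompl _ inferInstance
  haveI : Module.Finite (Localization.AtPrime q) (LocalizedModule q.primeCompl M) :=
    Module.Finite.of_isLocalizedModule q.primeCompl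
      (LocalizedModule.mkLinearMap q.primeCompl M)
  haveI : Module.Flat A (Localization.AtPrime q) := IsLocalization.flat _ q.primeCompl
  have hreg' : IsSMulRegular (LocalizedModule q.primeCompl M)
      (algebraMap A (Localization.AtPrime q) t) :=
    hreg.of_flat_of_isBaseChange (IsLocalizedModule.isBaseChange q.primeCompl
      (Localization.AtPrime q) (LocalizedModule.mkLinearMap q.primeCompl M))
  have hmem : algebraMap A (Localization.AtPrime q) t ∈
      IsLocalRing.maximalIdeal (Localization.AtPrime q) :=
    (IsLocalization.AtPrime.to_map_mem_maximal_iff (Localization.AtPrime q) q t).mpr htq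
  rw [Sk.supportDim_localized_quotSMulTop]
  exact Module.supportDim_quotSMulTop_succ_eq_supportDim hreg' hmem

section SpecMap

variable {p q : Ideal A} [p.IsPrime] [q.IsPrime] (hpq : p ≤ q)

omit [IsNoetherianRing A] in
theorem comap_le (Q : PrimeSpectrum (Localization.AtPrime p)) :
    Q.asIdeal.comap (algebraMap A (Localization.AtPrime p)) ≤ p := by
  have h1 : Q.asIdeal ≤ IsLocalRing.maximalIdeal (Localization.AtPrime p) :=
    IsLocalRing.le_maximalIdeal Q.2.ne_top
  have h2 := Ideal.comap_mono (f := algebraMap A (Localization.AtPrime p)) h1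
  have h3 : Ideal.comap (algebraMap A (Localization.AtPrime p))
      (IsLocalRing.maximalIdeal (Localization.AtPrime p)) = p :=
    IsLocalization.AtPrime.under_maximalIdeal (Localization.AtPrime p) p
  rw [h3] at h2
  exact h2

include hpq in
omit [IsNoetherianRing A] in
theorem disjoint_comap (Q : PrimeSpectrum (Localization.AtPrime p)) :
    Disjoint (q.primeCompl : Set A)
      ((Q.asIdeal.comap (algebraMap A (Localization.AtPrime p)) : Ideal A) : Set A) := by
  rw [Set.disjoint_left]
  intro x hx hxQ
  exact hx (hpq (comap_le Q hxQ))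

/-- the map `Spec A_p → Spec A_q` for `p ≤ q` -/
noncomputable def specMap (Q : PrimeSpectrum (Localization.AtPrime p)) :
    PrimeSpectrum (Localization.AtPrime q) :=
  ⟨(Q.asIdeal.comap (algebraMap A (Localization.AtPrime p))).map
      (algebraMap A (Localization.AtPrime q)),
    IsLocalization.isPrime_of_isPrime_disjoint q.primeCompl _ _ inferInstance
      (disjoint_comap hpq Q)⟩

omit [IsNoetherianRing A] in
theorem comap_specMap (Q : PrimeSpectrum (Localization.AtPrime p)) :
    (specMap hpq Q).asIdeal.comap (algebraMap A (Localization.AtPrime q)) =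
      Q.asIdeal.comap (algebraMap A (Localization.AtPrime p)) :=
  IsLocalization.under_map_of_isPrime_disjoint q.primeCompl _ inferInstance (disjoint_comap hpq Q)

omit [IsNoetherianRing A] [Module.Finite A M] in
theorem specMap_mem_support (Q : PrimeSpectrum (Localization.AtPrime p))
    (hQ : Q ∈ Module.support (Localization.AtPrime p) (LocalizedModule p.primeCompl M)) :
    specMap hpq Q ∈ Module.support (Localization.AtPrime q) (LocalizedModule q.primeCompl M) := by
  rw [Sk.mem_support_localizedModule_iff] at hQ ⊢
  have : PrimeSpectrum.comap (algebraMap A (Localization.AtPrime q)) (specMap hpq Q) =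
      PrimeSpectrum.comap (algebraMap A (Localization.AtPrime p)) Q :=
    PrimeSpectrum.ext (comap_specMap hpq Q)
  rw [this]
  exact hQ

omit [IsNoetherianRing A] in
theorem specMap_lt {Q₁ Q₂ : PrimeSpectrum (Localization.AtPrime p)} (hlt : Q₁ < Q₂) :
    specMap hpq Q₁ < specMap hpq Q₂ := by
  have h1 : Q₁.asIdeal < Q₂.asIdeal := hlt
  change (specMap hpq Q₁).asIdeal < (specMap hpq Q₂).asIdeal
  have hc : ∀ Q : PrimeSpectrum (Localization.AtPrime p),
      (Q.asIdeal.comap (algebraMap A (Localization.AtPrime p))).map
        (algebraMap A (Localization.AtPrime p)) = Q.asIdeal :=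
    fun Q => IsLocalization.map_comap p.primeCompl _ _
  refine lt_of_le_of_ne (Ideal.map_mono (Ideal.comap_mono h1.le)) ?_
  intro heq
  have h2 := congrArg (Ideal.comap (algebraMap A (Localization.AtPrime q))) heq
  rw [comap_specMap, comap_specMap] at h2
  have h3 := congrArg (Ideal.map (algebraMap A (Localization.AtPrime p))) h2
  rw [hc, hc] at h3
  exact h1.ne h3

end SpecMap

omit [IsNoetherianRing A] [Module.Finite A M] in
/-- (F3) `dim M_p + 1 ≤ dim M_q` for `p < q` with `M_p ≠ 0` -/
theorem supportDim_add_one_le (p q : Ideal A) [p.IsPrime] [q.IsPrime] (hpq : p < q)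
    [hnt : Nontrivial (LocalizedModule p.primeCompl M)] :
    Module.supportDim (Localization.AtPrime p) (LocalizedModule p.primeCompl M) + 1 ≤
      Module.supportDim (Localization.AtPrime q) (LocalizedModule q.primeCompl M) := by
  unfold Module.supportDim
  haveI : Nonempty (Module.support (Localization.AtPrime p)
      (LocalizedModule p.primeCompl M)) := by
    rw [Set.nonempty_coe_sort, Set.nonempty_iff_ne_empty, Ne, Module.support_eq_empty_iff,
      not_subsingleton_iff_nontrivial]
    exact hnt
  rw [← Order.krullDim_WithTop]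
  -- the closed point of `A_q` is in the support
  obtain ⟨Q₀, hQ₀⟩ := this
  have hcl : IsLocalRing.closedPoint (Localization.AtPrime q) ∈
      Module.support (Localization.AtPrime q) (LocalizedModule q.primeCompl M) :=
    Module.mem_support_mono (IsLocalRing.le_maximalIdeal (specMap hpq.le Q₀).2.ne_top)
      (specMap_mem_support M hpq.le Q₀ hQ₀)
  let f : WithTop (Module.support (Localization.AtPrime p) (LocalizedModule p.primeCompl M)) →
      Module.support (Localization.AtPrime q) (LocalizedModule q.primeCompl M) :=
    fun x => WithTop.recTopCoe ⟨_, hcl⟩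
      (fun a => ⟨specMap hpq.le a.1, specMap_mem_support M hpq.le a.1 a.2⟩) x
  apply Order.krullDim_le_of_strictMono f
  intro x y hxy
  induction x using WithTop.recTopCoe with
  | top => exact absurd hxy (not_top_lt)
  | coe a =>
    induction y using WithTop.recTopCoe with
    | top =>
      change specMap hpq.le a.1 < IsLocalRing.closedPoint (Localization.AtPrime q)
      refine lt_of_le_of_ne (IsLocalRing.le_maximalIdeal (specMap hpq.le a.1).2.ne_top) ?_
      intro heq
      have h1 : (specMap hpq.le a.1).asIdeal.comap (algebraMap A (Localization.AtPrime q)) =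
          (IsLocalRing.closedPoint (Localization.AtPrime q)).asIdeal.comap
            (algebraMap A (Localization.AtPrime q)) := by rw [heq]
      rw [comap_specMap] at h1
      have h3 : Ideal.comap (algebraMap A (Localization.AtPrime q))
          (IsLocalRing.closedPoint (Localization.AtPrime q)).asIdeal = q :=
        IsLocalization.AtPrime.under_maximalIdeal (Localization.AtPrime q) q
      rw [h3] at h1
      have h4 := comap_le a.1
      rw [h1] at h4
      exact absurd hpq (not_lt_of_ge h4)
    | coe b =>
      have hab : a < b := WithTop.coe_lt_coe.mp hxy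
      exact specMap_lt hpq.le hab

omit [Module.Finite A M] in
theorem depth_congr_ideal {q q' : Ideal A} [q.IsPrime] [q'.IsPrime] (h : q = q') :
    LocCoh.depth (Localization.AtPrime q) (LocalizedModule q.primeCompl M) =
      LocCoh.depth (Localization.AtPrime q') (LocalizedModule q'.primeCompl M) := by
  subst h
  rfl

omit [IsNoetherianRing A] in
/-- the quotient of `A_q` by `pA_q` has dimension at most one when `q` is minimal over
`p + tA` -/
theorem ringKrullDim_quotient_le_one (t : A) (p q : Ideal A) [hp : p.IsPrime] [hq : q.IsPrime]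
    [IsNoetherianRing (Localization.AtPrime q)]
    (hmin : q ∈ (p ⊔ Ideal.span {t}).minimalPrimes) :
    ringKrullDim (Localization.AtPrime q ⧸ p.map (algebraMap A (Localization.AtPrime q))) ≤ 1 := by
  set P := p.map (algebraMap A (Localization.AtPrime q)) with hP
  have hpq : p ≤ q := le_sup_left.trans hmin.1.2
  have htq : t ∈ q := hmin.1.2 (Ideal.mem_sup_right (Ideal.mem_span_singleton_self t))
  have hPle : P ≤ IsLocalRing.maximalIdeal (Localization.AtPrime q) := by
    have h3 : Ideal.comap (algebraMap A (Localization.AtPrime q))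
        (IsLocalRing.maximalIdeal (Localization.AtPrime q)) = q :=
      IsLocalization.AtPrime.under_maximalIdeal (Localization.AtPrime q) q
    rw [hP, Ideal.map_le_iff_le_comap, h3]
    exact hpq
  haveI : Nontrivial (Localization.AtPrime q ⧸ P) :=
    Ideal.Quotient.nontrivial_iff.mpr (fun h => by
      rw [h] at hPle
      exact (IsLocalRing.maximalIdeal.isMaximal _).ne_top (top_le_iff.mp hPle))
  haveI : IsLocalRing (Localization.AtPrime q ⧸ P) :=
    IsLocalRing.of_surjective' (Ideal.Quotient.mk P) Ideal.Quotient.mk_surjective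
  haveI : IsLocalHom (Ideal.Quotient.mk P) :=
    IsLocalHom.of_surjective _ Ideal.Quotient.mk_surjective
  rw [← IsLocalRing.maximalIdeal_height_eq_ringKrullDim]
  have key : IsLocalRing.maximalIdeal (Localization.AtPrime q ⧸ P) ∈
      (Ideal.span {Ideal.Quotient.mk P (algebraMap A (Localization.AtPrime q) t)}).minimalPrimes := by
    refine ⟨⟨inferInstance, ?_⟩, ?_⟩
    · rw [Ideal.span_singleton_le_iff_mem, IsLocalRing.mem_maximalIdeal, mem_nonunits_iff]
      intro hu
      have hu' : IsUnit (algebraMap A (Localization.AtPrime q) t) :=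
        (isUnit_map_iff (Ideal.Quotient.mk P) _).mp hu
      exact ((IsLocalization.AtPrime.isUnit_to_map_iff (Localization.AtPrime q) q t).mp hu') htq
    · rintro Qb ⟨hQbprime, hQbt⟩ -
      haveI := hQbprime
      -- contract to `A`
      set Q' := Qb.comap (Ideal.Quotient.mk P) with hQ'
      set q' := Q'.comap (algebraMap A (Localization.AtPrime q)) with hq'
      have hq'le : q' ≤ q := comap_le (p := q) ⟨Q', inferInstance⟩
      have hpq' : p ≤ q' := by
        intro a ha
        rw [hq', Ideal.mem_comap, hQ', Ideal.mem_comap]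
        have : Ideal.Quotient.mk P (algebraMap A (Localization.AtPrime q) a) = 0 :=
          Ideal.Quotient.eq_zero_iff_mem.mpr (Ideal.mem_map_of_mem _ ha)
        rw [this]
        exact Ideal.zero_mem _
      have htq' : t ∈ q' := by
        rw [hq', Ideal.mem_comap, hQ', Ideal.mem_comap]
        exact hQbt (Ideal.mem_span_singleton_self _)
      have hle : q ≤ q' := hmin.2 ⟨inferInstance,
        sup_le hpq' ((Ideal.span_singleton_le_iff_mem _).mpr htq')⟩ hq'le
      -- hence `Q'` is the maximal ideal
      have hQ'max : IsLocalRing.maximalIdeal (Localization.AtPrime q) ≤ Q' := by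
        rw [← Localization.AtPrime.map_eq_maximalIdeal,
          ← IsLocalization.map_comap q.primeCompl (Localization.AtPrime q) Q']
        exact Ideal.map_mono hle
      intro xb hxb
      obtain ⟨x, rfl⟩ := Ideal.Quotient.mk_surjective xb
      have hx : x ∈ IsLocalRing.maximalIdeal (Localization.AtPrime q) := by
        rw [IsLocalRing.mem_maximalIdeal, mem_nonunits_iff] at hxb ⊢
        intro hu
        exact hxb (hu.map _)
      exact hQ'max hx
  exact_mod_cast Ideal.height_le_one_of_isPrincipal_of_mem_minimalPrimes _ _ key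

/-- (F4) `depth M_q ≤ depth M_p + 1` when `q` is minimal over `p + tA` and `M_p ≠ 0` -/
theorem depth_le_add_one (t : A) (p q : Ideal A) [hp : p.IsPrime] [hq : q.IsPrime]
    [hnt : Nontrivial (LocalizedModule p.primeCompl M)]
    (hmin : q ∈ (p ⊔ Ideal.span {t}).minimalPrimes) :
    LocCoh.depth (Localization.AtPrime q) (LocalizedModule q.primeCompl M) ≤
      LocCoh.depth (Localization.AtPrime p) (LocalizedModule p.primeCompl M) + 1 := by
  haveI : IsNoetherianRing (Localization.AtPrime q) :=
    IsLocalization.isNoetherianRing q.primeCompl _ inferInstance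
  haveI : Module.Finite (Localization.AtPrime q) (LocalizedModule q.primeCompl M) :=
    Module.Finite.of_isLocalizedModule q.primeCompl
      (LocalizedModule.mkLinearMap q.primeCompl M)
  have hpq : p ≤ q := le_sup_left.trans hmin.1.2
  haveI : Nontrivial (LocalizedModule q.primeCompl M) := by
    have h1 : (⟨p, hp⟩ : PrimeSpectrum A) ∈ Module.support A M :=
      (Module.mem_support_iff (p := ⟨p, hp⟩)).mpr hnt
    have h2 : (⟨q, hq⟩ : PrimeSpectrum A) ∈ Module.support A M :=
      Module.mem_support_mono (show (⟨p, hp⟩ : PrimeSpectrum A) ≤ ⟨q, hq⟩ from hpq) h1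
    exact (Module.mem_support_iff (p := ⟨q, hq⟩)).mp h2
  have hd : Disjoint (q.primeCompl : Set A) (p : Set A) := by
    rw [Set.disjoint_left]
    intro x hx hxp
    exact hx (hpq hxp)
  haveI hPprime : (p.map (algebraMap A (Localization.AtPrime q))).IsPrime :=
    IsLocalization.isPrime_of_isPrime_disjoint q.primeCompl _ p hp hd
  have hc : (p.map (algebraMap A (Localization.AtPrime q))).comap
      (algebraMap A (Localization.AtPrime q)) = p :=
    IsLocalization.under_map_of_isPrime_disjoint q.primeCompl _ hp hd
  have hdim : ringKrullDim (Localization.AtPrime q ⧸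
      p.map (algebraMap A (Localization.AtPrime q))) ≤ ((1 : ℕ) : WithBot ℕ∞) := by
    exact_mod_cast ringKrullDim_quotient_le_one t p q hmin
  have h1 := CM.depth_le_depth_localization_add' (R := Localization.AtPrime q)
    (LocalizedModule q.primeCompl M) (p.map (algebraMap A (Localization.AtPrime q))) 1 hdim
  obtain ⟨h2, -⟩ := SkLoc.depth_and_dim_double M q (p.map (algebraMap A (Localization.AtPrime q)))
  rw [h2, depth_congr_ideal M hc] at h1
  exact_mod_cast h1

theorem arith1 (k : ℕ) (δ' : WithBot ℕ∞) (d' d : ℕ∞)
    (h1 : min (k : WithBot ℕ∞) δ' ≤ ((d' : ℕ∞) : WithBot ℕ∞)) (h2 : d' + 1 ≤ d) :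
    min (k : WithBot ℕ∞) (δ' + 1) ≤ ((d : ℕ∞) : WithBot ℕ∞) := by
  induction δ' using WithBot.recBotCoe with
  | bot => simp
  | coe a =>
    have h1' : min (k : ℕ∞) a ≤ d' := by exact_mod_cast h1
    have h3 : min (k : ℕ∞) (a + 1) ≤ d := by
      refine le_trans ?_ h2
      rcases le_total (k : ℕ∞) a with hka | hka
      · rw [min_eq_left hka] at h1'
        exact (min_le_left _ _).trans (h1'.trans le_self_add)
      · rw [min_eq_right hka] at h1'
        exact (min_le_right _ _).trans (add_le_add_left h1' 1)
    exact_mod_cast h3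

/-- **`(S_k)` lifts from `M/tM` to `M`** for an `M`-regular element `t` of the maximal ideal of
a Noetherian local ring -/
theorem hasSk_of_quotSMulTop [IsLocalRing A] (k : ℕ) (t : A)
    (ht : t ∈ IsLocalRing.maximalIdeal A) (hreg : IsSMulRegular M t)
    (h : LocCoh.HasSk k A (QuotSMulTop t M)) : LocCoh.HasSk k A M := by
  intro p hp
  by_cases hnt : Nontrivial (LocalizedModule p.primeCompl M)
  swap
  · rw [not_nontrivial_iff_subsingleton] at hnt
    rw [Module.supportDim_eq_bot_of_subsingleton, min_bot_right]
    exact bot_le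
  by_cases htp : t ∈ p
  · have h1 := h p
    rw [← supportDim_quot_add_one M t hreg p htp]
    exact arith1 k _ _ _ h1 (depth_quot_add_one_le M t hreg p htp)
  · -- a prime `q` minimal over `p + tA`
    have hle : p ⊔ Ideal.span {t} ≤ IsLocalRing.maximalIdeal A :=
      sup_le (IsLocalRing.le_maximalIdeal hp.ne_top) ((Ideal.span_singleton_le_iff_mem _).mpr ht)
    obtain ⟨q, hqmin, -⟩ := Ideal.exists_minimalPrimes_le hle
    haveI hq : q.IsPrime := hqmin.1.1
    have hpq : p ≤ q := le_sup_left.trans hqmin.1.2
    have htq : t ∈ q := hqmin.1.2 (Ideal.mem_sup_right (Ideal.mem_span_singleton_self t))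
    have hlt : p < q := lt_of_le_of_ne hpq (fun heq => htp (heq ▸ htq))
    have h1 := h q
    have hF1 := supportDim_quot_add_one M t hreg q htq
    have hF2 := depth_quot_add_one_le M t hreg q htq
    have hF3 := supportDim_add_one_le M p q hlt
    have hF4 := depth_le_add_one M t p q hqmin
    rw [← hF1] at hF3
    have hδ := CM.withBot_le_of_add_one_le hF3
    have hd : LocCoh.depth (Localization.AtPrime q)
        (LocalizedModule q.primeCompl (QuotSMulTop t M)) ≤
        LocCoh.depth (Localization.AtPrime p) (LocalizedModule p.primeCompl M) :=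
      (ENat.add_le_add_iff_right ENat.one_ne_top).mp (hF2.trans hF4)
    calc min (k : WithBot ℕ∞) (Module.supportDim (Localization.AtPrime p)
          (LocalizedModule p.primeCompl M))
        ≤ min (k : WithBot ℕ∞) (Module.supportDim (Localization.AtPrime q)
          (LocalizedModule q.primeCompl (QuotSMulTop t M))) := min_le_min le_rfl hδ
      _ ≤ _ := h1
      _ ≤ _ := by exact_mod_cast hd

/-- a prime minimal over `p + tA` (with `t ∉ p`) covers `p` in the spectrum -/
theorem covBy_of_minimalPrimes (t : A) (p q : Ideal A) [hp : p.IsPrime] [hq : q.IsPrime]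
    (htp : t ∉ p) (hmin : q ∈ (p ⊔ Ideal.span {t}).minimalPrimes) :
    (⟨p, hp⟩ : PrimeSpectrum A) ⋖ ⟨q, hq⟩ := by
  have hpq : p ≤ q := le_sup_left.trans hmin.1.2
  have htq : t ∈ q := hmin.1.2 (Ideal.mem_sup_right (Ideal.mem_span_singleton_self t))
  have hlt : p < q := lt_of_le_of_ne hpq (fun heq => htp (heq ▸ htq))
  refine ⟨hlt, ?_⟩
  intro x hpx hxq
  have hpx' : p < x.asIdeal := hpx
  have hxq' : x.asIdeal < q := hxq
  set f := Ideal.Quotient.mk p with hf
  have hsurj : Function.Surjective f := Ideal.Quotient.mk_surjective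
  have hker : RingHom.ker f = p := Ideal.mk_ker
  have hcomap : ∀ I : Ideal A, p ≤ I → (I.map f).comap f = I := by
    intro I hI
    rw [Ideal.comap_map_of_surjective f hsurj, ← RingHom.ker_eq_comap_bot, hker]
    exact sup_eq_left.mpr hI
  haveI hX : (x.asIdeal.map f).IsPrime :=
    Ideal.map_isPrime_of_surjective hsurj (by rw [hker]; exact hpx'.le)
  haveI hQ : (q.map f).IsPrime :=
    Ideal.map_isPrime_of_surjective hsurj (by rw [hker]; exact hpq)
  have hbotX : (⊥ : Ideal (A ⧸ p)) < x.asIdeal.map f := by
    refine lt_of_le_of_ne bot_le ?_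
    intro h0
    have h1 := hcomap x.asIdeal hpx'.le
    rw [← h0, ← RingHom.ker_eq_comap_bot, hker] at h1
    exact hpx'.ne h1
  have hXQ : x.asIdeal.map f < q.map f := by
    refine lt_of_le_of_ne (Ideal.map_mono hxq'.le) ?_
    intro h0
    have h1 := hcomap x.asIdeal hpx'.le
    rw [h0, hcomap q hpq] at h1
    exact hxq'.ne h1.symm
  have hQmin : q.map f ∈ (Ideal.span {f t}).minimalPrimes := by
    refine ⟨⟨hQ, ?_⟩, ?_⟩
    · rw [Ideal.span_singleton_le_iff_mem]
      exact Ideal.mem_map_of_mem f htq
    · rintro Q' ⟨hQ'prime, hQ't⟩ hQ'le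
      haveI := hQ'prime
      have h1 : p ⊔ Ideal.span {t} ≤ Q'.comap f := by
        refine sup_le ?_ ?_
        · intro a ha
          rw [Ideal.mem_comap]
          have : f a = 0 := Ideal.Quotient.eq_zero_iff_mem.mpr ha
          rw [this]
          exact Ideal.zero_mem _
        · rw [Ideal.span_singleton_le_iff_mem, Ideal.mem_comap]
          exact hQ't (Ideal.mem_span_singleton_self _)
      have h2 : Q'.comap f ≤ q := by
        have := Ideal.comap_mono (f := f) hQ'le
        rwa [hcomap q hpq] at this
      have h3 : q ≤ Q'.comap f := hmin.2 ⟨inferInstance, h1⟩ h2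
      have h4 := Ideal.map_mono (f := f) h3
      rwa [Ideal.map_comap_of_surjective f hsurj] at h4
  have hht : (q.map f).height ≤ 1 :=
    Ideal.height_le_one_of_isPrincipal_of_mem_minimalPrimes _ _ hQmin
  have h1 : (⊥ : Ideal (A ⧸ p)).height < (x.asIdeal.map f).height :=
    Ideal.height_strict_mono_of_isPrime hbotX
  have h2 : (x.asIdeal.map f).height < (q.map f).height :=
    Ideal.height_strict_mono_of_isPrime hXQ
  have h3 : (x.asIdeal.map f).height < 1 := lt_of_lt_of_le h2 hht
  have h4 : (x.asIdeal.map f).height = 0 := Order.lt_one_iff.mp h3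
  rw [h4] at h1
  exact absurd h1 not_lt_bot

/-- ring form: `(S_k)` lifts from `A/tA` to `A` -/
theorem hasSk_self_of_quotient [IsLocalRing A] (k : ℕ) (t : A)
    (ht : t ∈ IsLocalRing.maximalIdeal A) (hreg : IsSMulRegular A t)
    (hS : LocCoh.HasSk k (A ⧸ Ideal.span {t}) (A ⧸ Ideal.span {t})) : LocCoh.HasSk k A A := by
  have h1 : LocCoh.HasSk k A (A ⧸ Ideal.span {t}) :=
    (SkSurj.hasSk_iff (A := A) (C := A ⧸ Ideal.span {t})
      Ideal.Quotient.mk_surjective (A ⧸ Ideal.span {t}) k).mp hS
  have hspan : Ideal.span {t} = t • (⊤ : Ideal A) := by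
    simp [← Submodule.ideal_span_singleton_smul]
  let e : (A ⧸ Ideal.span {t}) ≃ₗ[A] QuotSMulTop t A := Submodule.quotEquivOfEq _ _ hspan
  have h2 : LocCoh.HasSk k A (QuotSMulTop t A) := by
    intro p hp
    obtain ⟨h3, h4⟩ := SkLoc.depth_and_dim_congr (A ⧸ Ideal.span {t}) e p
    rw [← h3, ← h4]
    exact h1 p
  exact hasSk_of_quotSMulTop A k t ht hreg h2

end SkLift

end Groth.Agent.H6
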