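import Mathlib
import Groth.Prelude.Def_EGA4b
import Groth.Agent.Lib.Helper6.SkQuot
import Groth.Agent.Lib.Helper6.SkKit
import Groth.Agent.Lib.Helper6.SkLift
import Groth.Agent.Lib.Helper6.DepthOne
import Groth.Agent.Lib.Helper6.HartConn

/-! Intersections of primary components at minimal primes; connectedness in codimension one
for `(S_2)` rings. -/

universe u
set_option linter.style.haveILetI false
open scoped Pointwise

namespace Groth.Agent.H6

namespace MinComp

variable {R : Type u} [CommRing R]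

/-- elements of a minimal prime are nilpotent in the localization -/
theorem exists_pow_mul_eq_zero {p : Ideal R} (hp : p ∈ minimalPrimes R) {x : R} (hx : x ∈ p) :
    ∃ n : ℕ, ∃ s : R, s ∉ p ∧ s * x ^ n = 0 := by
  haveI : p.IsPrime := hp.1.1
  have h := IsLocalization.AtPrime.radical_map_of_mem_minimalPrimes
    (A := Localization.AtPrime p) p ⊥ hp
  rw [Ideal.map_bot] at h
  have hx' : algebraMap R (Localization.AtPrime p) x ∈ (⊥ : Ideal (Localization.AtPrime p)).radical := by
    rw [h]
    exact Ideal.mem_map_of_mem _ hx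
  obtain ⟨n, hn⟩ := hx'
  rw [Ideal.mem_bot, ← map_pow, IsLocalization.map_eq_zero_iff p.primeCompl] at hn
  obtain ⟨s, hs⟩ := hn
  exact ⟨n, s, s.2, hs⟩

/-- the component ideal is contained in each of its primes -/
theorem le_of_mem (S : Set (Ideal R)) (a : Ideal R)
    (ha : ∀ r : R, r ∈ a ↔ ∀ p ∈ S, ∃ s : R, s ∉ p ∧ s * r = 0) {p : Ideal R} [hp : p.IsPrime]
    (hpS : p ∈ S) : a ≤ p := by
  intro r hr
  obtain ⟨s, hs, hsr⟩ := (ha r).mp hr p hpS
  have : s * r ∈ p := by rw [hsr]; exact p.zero_mem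
  exact (hp.mem_or_mem this).resolve_left hs

/-- a prime containing the component ideal contains one of its primes -/
theorem exists_le_of_le (S : Set (Ideal R)) (hS : S ⊆ minimalPrimes R) (hfin : S.Finite)
    (a : Ideal R) (ha : ∀ r : R, r ∈ a ↔ ∀ p ∈ S, ∃ s : R, s ∉ p ∧ s * r = 0) (P : Ideal R)
    [hP : P.IsPrime] (haP : a ≤ P) : ∃ p ∈ S, p ≤ P := by
  classical
  by_contra hcon
  push Not at hcon
  have hex : ∀ p ∈ S, ∃ (x : R) (n : ℕ) (s : R), x ∉ P ∧ s ∉ p ∧ s * x ^ n = 0 := by
    intro p hp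
    obtain ⟨x, hxp, hxP⟩ := SetLike.not_le_iff_exists.mp (hcon p hp)
    obtain ⟨n, s, hs, hsx⟩ := exists_pow_mul_eq_zero (hS hp) hxp
    exact ⟨x, n, s, hxP, hs, hsx⟩
  choose! x n s hxP hs hsx using hex
  set y : R := ∏ p ∈ hfin.toFinset, x p ^ n p with hy
  have hya : y ∈ a := by
    rw [ha]
    intro p hp
    refine ⟨s p, hs p hp, ?_⟩
    have hmem : p ∈ hfin.toFinset := hfin.mem_toFinset.mpr hp
    rw [hy, ← Finset.mul_prod_erase _ _ hmem, ← mul_assoc, hsx p hp, zero_mul]
  have hyP : y ∉ P := by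
    rw [hy, Ideal.IsPrime.prod_mem_iff]
    rintro ⟨p, hp, hmem⟩
    exact hxP p (hfin.mem_toFinset.mp hp) (hP.mem_of_pow_mem _ hmem)
  exact hyP (haP hya)


/-- the intersection of the kernels of the localization maps at a set of primes -/
def comp (S : Set (Ideal R)) (hS : ∀ p ∈ S, p.IsPrime) : Ideal R where
  carrier := {r | ∀ p ∈ S, ∃ s : R, s ∉ p ∧ s * r = 0}
  add_mem' := by
    intro x y hx hy p hp
    obtain ⟨s, hs, hsx⟩ := hx p hp
    obtain ⟨t, ht, hty⟩ := hy p hp
    refine ⟨s * t, fun h => ((hS p hp).mem_or_mem h).elim hs ht, ?_⟩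
    rw [mul_add, mul_assoc, mul_comm t x, ← mul_assoc, hsx, zero_mul, mul_assoc, hty, mul_zero,
      add_zero]
  zero_mem' := fun p hp => ⟨1, (hS p hp).one_notMem, mul_zero 1⟩
  smul_mem' := by
    intro c x hx p hp
    obtain ⟨s, hs, hsx⟩ := hx p hp
    exact ⟨s, hs, by rw [smul_eq_mul, mul_left_comm, hsx, mul_zero]⟩

theorem mem_comp (S : Set (Ideal R)) (hS : ∀ p ∈ S, p.IsPrime) (r : R) :
    r ∈ comp S hS ↔ ∀ p ∈ S, ∃ s : R, s ∉ p ∧ s * r = 0 := Iff.rfl

variable [IsNoetherianRing R]

/-- vanishing of local cohomology of `R_P` below degree two for an `(S_2)` ring at a prime of height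
at least two -/
theorem subsingleton_H_of_hasSk (hS : LocCoh.HasSk 2 R R) (P : Ideal R) [P.IsPrime]
    (hht : (2 : ℕ∞) ≤ P.height) :
    ∀ i < 2, Subsingleton (LocCoh.H (IsLocalRing.maximalIdeal (Localization.AtPrime P)) i
      (Localization.AtPrime P)) := by
  haveI : IsNoetherianRing (Localization.AtPrime P) :=
    IsLocalization.isNoetherianRing P.primeCompl _ inferInstance
  rw [Sk.hasSk_iff] at hS
  have h3 := hS P 2 le_rfl (by
    rw [Sk.supportDim_localizedModule_self]
    have hc : ((2 : ℕ) : WithBot ℕ∞) = ((2 : ℕ∞) : WithBot ℕ∞) := rfl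
    rw [hc]
    exact WithBot.coe_le_coe.mpr hht)
  rw [Depth.locDepthGE_iff, ← DepthOne.depth_self_eq] at h3
  unfold LocCoh.depth at h3
  exact (Depth.le_idealDepth_iff _ _ 2).mp h3

omit [IsNoetherianRing R] in
theorem idem_of_isLocalRing [IsLocalRing R] (c : R) (hc : c * c = c) : c = 0 ∨ c = 1 := by
  rcases IsLocalRing.isUnit_or_isUnit_one_sub_self c with h | h
  · right
    have : c * c = c * 1 := by rw [hc, mul_one]
    exact h.mul_left_cancel this
  · left
    have : (1 - c) * c = (1 - c) * 0 := by rw [mul_zero, sub_mul, one_mul, hc, sub_self]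
    exact h.mul_left_cancel this

/-- under `(S_2)`, minimal primes of `a + b` have height one, where `a`, `b` are the intersections
of the primary components over a partition of the minimal primes -/
theorem height_eq_one (hS : LocCoh.HasSk 2 R R) (P1 P2 : Set (Ideal R))
    (hP : P1 ∪ P2 = minimalPrimes R) (hdisj : Disjoint P1 P2) (a b : Ideal R)
    (ha : ∀ r : R, r ∈ a ↔ ∀ p ∈ P1, ∃ s : R, s ∉ p ∧ s * r = 0)
    (hb : ∀ r : R, r ∈ b ↔ ∀ p ∈ P2, ∃ s : R, s ∉ p ∧ s * r = 0) (P : Ideal R)
    (hPmin : P ∈ (a ⊔ b).minimalPrimes) : P.height = 1 := by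
  haveI hPp : P.IsPrime := hPmin.1.1
  have hab : a ⊔ b ≤ P := hPmin.1.2
  have hsub1 : P1 ⊆ minimalPrimes R := by rw [← hP]; exact Set.subset_union_left
  have hsub2 : P2 ⊆ minimalPrimes R := by rw [← hP]; exact Set.subset_union_right
  have hfin : (minimalPrimes R).Finite := minimalPrimes.finite_of_isNoetherianRing R
  obtain ⟨p1, hp1, hp1P⟩ := exists_le_of_le P1 hsub1 (hfin.subset hsub1) a ha P
    (le_sup_left.trans hab)
  obtain ⟨p2, hp2, hp2P⟩ := exists_le_of_le P2 hsub2 (hfin.subset hsub2) b hb P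
    (le_sup_right.trans hab)
  haveI hp1p : p1.IsPrime := (hsub1 hp1).1.1
  haveI hp2p : p2.IsPrime := (hsub2 hp2).1.1
  have hne12 : p1 ≠ p2 := by
    intro h
    rw [← h] at hp2
    exact Set.disjoint_left.mp hdisj hp1 hp2
  have hnotmin : P ∉ minimalPrimes R := by
    intro hPm
    have e1 : P ≤ p1 := hPm.2 ⟨hp1p, bot_le⟩ hp1P
    have e2 : P ≤ p2 := hPm.2 ⟨hp2p, bot_le⟩ hp2P
    exact hne12 ((le_antisymm hp1P e1).trans (le_antisymm hp2P e2).symm)
  have hne1P : p1 ≠ P := by
    intro h
    rw [h] at hp1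
    exact hnotmin (hsub1 hp1)
  have hne2P : p2 ≠ P := by
    intro h
    rw [h] at hp2
    exact hnotmin (hsub2 hp2)
  have hht0 : P.height ≠ 0 := by
    rw [Ne, Ideal.height_eq_zero_iff]
    exact hnotmin
  by_contra hne
  have h2 : (2 : ℕ∞) ≤ P.height := by
    have h1 : 1 ≤ P.height := ENat.one_le_iff_ne_zero.mpr hht0
    have hlt : 1 < P.height := lt_of_le_of_ne h1 (Ne.symm hne)
    have := Order.add_one_le_of_lt hlt
    exact_mod_cast this
  haveI : IsNoetherianRing (Localization.AtPrime P) :=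
    IsLocalization.isNoetherianRing P.primeCompl _ inferInstance
  have hvan := subsingleton_H_of_hasSk hS P h2
  have hconn := HartConn.isPreconnected_compl_zeroLocus
    (A := Localization.AtPrime P) idem_of_isLocalRing _ hvan
  rw [isPreconnected_closed_iff] at hconn
  have hmapcomap : ∀ Q : Ideal (Localization.AtPrime P),
      Ideal.map (algebraMap R (Localization.AtPrime P))
        (Ideal.comap (algebraMap R (Localization.AtPrime P)) Q) = Q :=
    fun Q => IsLocalization.map_comap P.primeCompl (Localization.AtPrime P) Q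
  have hcomapmax : Ideal.comap (algebraMap R (Localization.AtPrime P))
      (IsLocalRing.maximalIdeal (Localization.AtPrime P)) = P :=
    IsLocalization.AtPrime.under_maximalIdeal (Localization.AtPrime P) P
  -- the points `p R_P` for `p ≤ P`, `p ≠ P`
  have hpt : ∀ (p : Ideal R) [p.IsPrime], p ≤ P → p ≠ P → ∀ c : Ideal R, c ≤ p →
      ((PrimeSpectrum.zeroLocus
        (↑(IsLocalRing.maximalIdeal (Localization.AtPrime P)) : Set (Localization.AtPrime P)))ᶜ ∩
        PrimeSpectrum.zeroLocus
          (↑(c.map (algebraMap R (Localization.AtPrime P))) :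
            Set (Localization.AtPrime P))).Nonempty := by
    intro p hpp hpP hpne c hcp
    have hd : Disjoint (P.primeCompl : Set R) (p : Set R) := by
      rw [Set.disjoint_left]
      intro z hz hzp
      exact hz (hpP hzp)
    have hprime : (p.map (algebraMap R (Localization.AtPrime P))).IsPrime :=
      IsLocalization.isPrime_of_isPrime_disjoint P.primeCompl _ _ hpp hd
    have hc : (p.map (algebraMap R (Localization.AtPrime P))).comap
        (algebraMap R (Localization.AtPrime P)) = p :=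
      IsLocalization.under_map_of_isPrime_disjoint P.primeCompl _ hpp hd
    refine ⟨⟨_, hprime⟩, ?_, ?_⟩
    · rw [Set.mem_compl_iff, PrimeSpectrum.mem_zeroLocus, SetLike.coe_subset_coe]
      intro hle
      have := Ideal.comap_mono (f := algebraMap R (Localization.AtPrime P)) hle
      rw [hcomapmax, hc] at this
      exact hpne (le_antisymm hpP this)
    · rw [PrimeSpectrum.mem_zeroLocus, SetLike.coe_subset_coe]
      exact Ideal.map_mono hcp
  have hcover : (PrimeSpectrum.zeroLocus
      (↑(IsLocalRing.maximalIdeal (Localization.AtPrime P)) : Set (Localization.AtPrime P)))ᶜ ⊆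
      PrimeSpectrum.zeroLocus (↑(a.map (algebraMap R (Localization.AtPrime P))) :
        Set (Localization.AtPrime P)) ∪
      PrimeSpectrum.zeroLocus
        (↑(b.map (algebraMap R (Localization.AtPrime P))) : Set (Localization.AtPrime P)) := by
    intro Q _
    haveI : (Q.asIdeal.comap (algebraMap R (Localization.AtPrime P))).IsPrime :=
      Ideal.comap_isPrime _ _
    obtain ⟨p, hp, hpQ⟩ := Ideal.exists_minimalPrimes_le
      (bot_le : (⊥ : Ideal R) ≤ Q.asIdeal.comap (algebraMap R (Localization.AtPrime P)))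
    haveI : p.IsPrime := hp.1.1
    have hp' : p ∈ P1 ∪ P2 := by rw [hP]; exact hp
    rcases hp' with hp1' | hp2'
    · left
      rw [PrimeSpectrum.mem_zeroLocus, SetLike.coe_subset_coe, Ideal.map_le_iff_le_comap]
      exact (le_of_mem P1 a ha hp1').trans hpQ
    · right
      rw [PrimeSpectrum.mem_zeroLocus, SetLike.coe_subset_coe, Ideal.map_le_iff_le_comap]
      exact (le_of_mem P2 b hb hp2').trans hpQ
  obtain ⟨Q, hQU, hQa, hQb⟩ := hconn _ _ (PrimeSpectrum.isClosed_zeroLocus _)
    (PrimeSpectrum.isClosed_zeroLocus _) hcover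
    (hpt p1 hp1P hne1P a (le_of_mem P1 a ha hp1))
    (hpt p2 hp2P hne2P b (le_of_mem P2 b hb hp2))
  rw [PrimeSpectrum.mem_zeroLocus, SetLike.coe_subset_coe, Ideal.map_le_iff_le_comap] at hQa hQb
  haveI : (Q.asIdeal.comap (algebraMap R (Localization.AtPrime P))).IsPrime :=
    Ideal.comap_isPrime _ _
  have hQP : Q.asIdeal.comap (algebraMap R (Localization.AtPrime P)) ≤ P :=
    SkLift.comap_le (p := P) Q
  have hPQ : P ≤ Q.asIdeal.comap (algebraMap R (Localization.AtPrime P)) :=
    hPmin.2 ⟨inferInstance, sup_le hQa hQb⟩ hQP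
  apply hQU
  rw [PrimeSpectrum.mem_zeroLocus, SetLike.coe_subset_coe,
    ← IsLocalization.AtPrime.map_eq_maximalIdeal P (Localization.AtPrime P), ← hmapcomap Q.asIdeal]
  exact Ideal.map_mono hPQ

end MinComp

end Groth.Agent.H6
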