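import Mathlib
import Groth.Prelude.Def_EGA4b
import Groth.Agent.Lib.Helper6.SkQuot
import Groth.Agent.Lib.Helper6.SkKit
import Groth.Agent.Lib.Helper6.DepthOne
import Groth.Agent.Lib.Helper6.SkLoc
import Groth.Agent.Lib.Helper6.ReflKer
import Groth.Agent.Lib.Helper6.MinComp
import Groth.Agent.Lib.Helper1.RegNormal
import Groth.Agent.Lib.Helper7.Reg1
import Groth.Agent.Lib.Helper2.RkLocus
import Groth.Agent.S0602

/-! Serre's normality criterion, ingredients. -/

universe u
set_option linter.style.haveILetI false
open scoped Pointwise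
open IsLocalRing

namespace Groth.Agent.H6

namespace SerreNormal

section Principal

variable (R : Type u) [CommRing R] [IsDomain R] [IsLocalRing R] [IsNoetherianRing R]
  [IsIntegrallyClosed R]

/-- in an integrally closed Noetherian local domain, if the maximal ideal is associated to a
nonzero principal ideal then it is principal (adapted from Mathlib's DVR criterion) -/
theorem maximalIdeal_isPrincipal_of_colon (a b : R) (ha₁ : a ∈ maximalIdeal R) (ha₂ : a ≠ 0)
    (hb₂ : b ∉ Ideal.span {a}) (hb₃ : ∀ m ∈ maximalIdeal R, ∃ k : R, k * a = b * m) :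
    (maximalIdeal R).IsPrincipal := by
  classical
  have hb₄ : b ≠ 0 := by rintro rfl; apply hb₂; exact zero_mem _
  let K := FractionRing R
  let x : K := algebraMap R K b / algebraMap R K a
  let M := Submodule.map (Algebra.linearMap R K) (maximalIdeal R)
  have ha₃ : algebraMap R K a ≠ 0 := IsFractionRing.to_map_eq_zero_iff.not.mpr ha₂
  by_cases hx : ∀ y ∈ M, x * y ∈ M
  · have := isIntegral_of_smul_mem_submodule M ?_ ?_ x hx
    · obtain ⟨y, e⟩ := IsIntegrallyClosed.algebraMap_eq_of_integral this
      refine (hb₂ (Ideal.mem_span_singleton'.mpr ⟨y, ?_⟩)).elim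
      apply IsFractionRing.injective R K
      rw [map_mul, e, div_mul_cancel₀ _ ha₃]
    · rw [Submodule.ne_bot_iff]; refine ⟨_, ⟨a, ha₁, rfl⟩, ?_⟩
      exact (IsFractionRing.to_map_eq_zero_iff (K := K)).not.mpr ha₂
    · apply Submodule.FG.map; exact IsNoetherian.noetherian _
  · have :
        (M.map (DistribSMul.toLinearMap R K x)).comap (Algebra.linearMap R K) = ⊤ := by
      contrapose! hx with h
      rintro m' ⟨m, hm, rfl : algebraMap R K m = m'⟩
      obtain ⟨k, hk⟩ := hb₃ m hm
      have hk' : x * algebraMap R K m = algebraMap R K k := by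
        rw [← mul_div_right_comm, ← map_mul, ← hk, map_mul, mul_div_cancel_right₀ _ ha₃]
      exact ⟨k, le_maximalIdeal h ⟨_, ⟨_, hm, rfl⟩, hk'⟩, hk'.symm⟩
    obtain ⟨y, hy₁, hy₂⟩ : ∃ y ∈ maximalIdeal R, b * y = a := by
      rw [Ideal.eq_top_iff_one, Submodule.mem_comap] at this
      obtain ⟨_, ⟨y, hy, rfl⟩, hy' : x * algebraMap R K y = algebraMap R K 1⟩ := this
      rw [map_one, ← mul_div_right_comm, div_eq_one_iff_eq ha₃, ← map_mul] at hy'
      exact ⟨y, hy, IsFractionRing.injective R K hy'⟩
    refine ⟨⟨y, ?_⟩⟩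
    apply le_antisymm
    · intro m hm; obtain ⟨k, hk⟩ := hb₃ m hm; rw [← hy₂, mul_comm, mul_assoc] at hk
      rw [← mul_left_cancel₀ hb₄ hk, mul_comm]; exact Ideal.mem_span_singleton'.mpr ⟨_, rfl⟩
    · rwa [Submodule.span_le, Set.singleton_subset_iff]

/-- ... and then its height is at most one -/
theorem height_maximalIdeal_le_one_of_colon (a b : R) (ha₁ : a ∈ maximalIdeal R) (ha₂ : a ≠ 0)
    (hb₂ : b ∉ Ideal.span {a}) (hb₃ : ∀ m ∈ maximalIdeal R, ∃ k : R, k * a = b * m) :
    (maximalIdeal R).height ≤ 1 := by
  haveI := maximalIdeal_isPrincipal_of_colon R a b ha₁ ha₂ hb₂ hb₃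
  apply Ideal.height_le_one_of_isPrincipal_of_mem_minimalPrimes (maximalIdeal R)
  rw [Ideal.minimalPrimes_eq_subsingleton_self]
  rfl

end Principal

section Ass

variable (B : Type u) [CommRing B] [IsDomain B] [IsNoetherianRing B] [IsIntegrallyClosed B]

/-- in a normal Noetherian domain the associated primes of a nonzero principal ideal have height
one -/
theorem height_eq_one_of_mem_associatedPrimes (a : B) (ha : a ≠ 0) (P : Ideal B)
    (hP : P ∈ associatedPrimes B (B ⧸ Ideal.span {a})) : P.height = 1 := by
  haveI hPp : P.IsPrime := hP.isPrime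
  obtain ⟨-, y, hy⟩ := (isAssociatedPrime_iff (M := B ⧸ Ideal.span {a})).mp hP
  obtain ⟨b, rfl⟩ := Ideal.Quotient.mk_surjective y
  have hmem : ∀ r : B, r ∈ P ↔ r * b ∈ Ideal.span {a} := by
    intro r
    rw [hy, Submodule.mem_colon_singleton, Submodule.mem_bot]
    change r • (Ideal.Quotient.mk (Ideal.span {a}) b) = 0 ↔ _
    rw [Algebra.smul_def, Ideal.Quotient.algebraMap_eq, ← map_mul, Ideal.Quotient.eq_zero_iff_mem]
  have haP : a ∈ P := by
    rw [hmem]
    exact Ideal.mul_mem_right _ _ (Ideal.mem_span_singleton_self a)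
  have hle : P.primeCompl ≤ nonZeroDivisors B := Ideal.primeCompl_le_nonZeroDivisors P
  have hinj : Function.Injective (algebraMap B (Localization.AtPrime P)) :=
    IsLocalization.injective _ hle
  haveI : IsDomain (Localization.AtPrime P) :=
    IsLocalization.isDomain_localization hle
  haveI : IsIntegrallyClosed (Localization.AtPrime P) :=
    isIntegrallyClosed_of_isLocalization (Localization.AtPrime P) P.primeCompl hle
  haveI : IsNoetherianRing (Localization.AtPrime P) :=
    IsLocalization.isNoetherianRing P.primeCompl _ inferInstance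
  have key := height_maximalIdeal_le_one_of_colon (Localization.AtPrime P)
    (algebraMap B _ a) (algebraMap B _ b)
    ((IsLocalization.AtPrime.to_map_mem_maximal_iff (Localization.AtPrime P) P a).mpr haP)
    (by rw [Ne, ← map_zero (algebraMap B (Localization.AtPrime P))]; exact fun h => ha (hinj h))
    (by
      intro hmem'
      obtain ⟨k', hk'⟩ := Ideal.mem_span_singleton'.mp hmem'
      obtain ⟨k, s, rfl⟩ := IsLocalization.exists_mk'_eq P.primeCompl k'
      have h1 : (s : B) * b = k * a := by
        apply hinj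
        rw [map_mul, map_mul, ← hk', ← mul_assoc, mul_comm _ (IsLocalization.mk' _ k s),
          IsLocalization.mk'_spec]
      have : (s : B) ∈ P := by
        rw [hmem, h1]
        exact Ideal.mul_mem_left _ _ (Ideal.mem_span_singleton_self a)
      exact s.2 this)
    (by
      intro m hm
      obtain ⟨x, s, rfl⟩ := IsLocalization.exists_mk'_eq P.primeCompl m
      rw [IsLocalization.AtPrime.mk'_mem_maximal_iff (Localization.AtPrime P) P] at hm
      obtain ⟨k, hk⟩ := Ideal.mem_span_singleton'.mp ((hmem x).mp hm)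
      refine ⟨IsLocalization.mk' _ k s, ?_⟩
      rw [mul_comm, IsLocalization.mul_mk'_eq_mk'_of_mul, IsLocalization.mul_mk'_eq_mk'_of_mul,
        mul_comm a k, hk, mul_comm x b])
  have hht : P.height ≤ 1 := by
    have h1 : Ideal.comap (algebraMap B (Localization.AtPrime P))
        (IsLocalRing.maximalIdeal (Localization.AtPrime P)) = P :=
      IsLocalization.AtPrime.under_maximalIdeal (Localization.AtPrime P) P
    have h2 := IsLocalization.height_under P.primeCompl
      (IsLocalRing.maximalIdeal (Localization.AtPrime P))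
    change (Ideal.comap (algebraMap B (Localization.AtPrime P))
        (IsLocalRing.maximalIdeal (Localization.AtPrime P))).height = _ at h2
    rw [h1] at h2
    rw [h2]
    exact key
  apply le_antisymm hht
  rw [Order.one_le_iff_ne_zero, Ne, Ideal.height_eq_zero_iff_eq_bot]
  intro h0
  rw [h0] at haP
  exact ha ((Ideal.mem_bot).mp haP)

end Ass

section Forward

/-- a normal Noetherian local domain of dimension at most one is a principal ideal ring -/
theorem isPrincipalIdealRing_of_normal (B : Type u) [CommRing B] [IsDomain B] [IsLocalRing B]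
    [IsNoetherianRing B] [IsIntegrallyClosed B] (h : (maximalIdeal B).height ≤ 1) :
    IsPrincipalIdealRing B := by
  have h3 : IsIntegrallyClosed B ∧ ∀ P : Ideal B, P ≠ ⊥ → P.IsPrime → P = maximalIdeal B := by
    refine ⟨inferInstance, ?_⟩
    intro P hP0 hPp
    by_contra hne
    have hlt : P < maximalIdeal B := lt_of_le_of_ne (le_maximalIdeal hPp.ne_top) hne
    have h1 := Ideal.height_strict_mono_of_isPrime hlt
    have h2 : P.height = 0 := Order.lt_one_iff.mp (lt_of_lt_of_le h1 h)
    rw [Ideal.height_eq_zero_iff_eq_bot] at h2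
    exact hP0 h2
  exact ((tfae_of_isNoetherianRing_of_isLocalRing_of_isDomain B).out 3 0).mp h3

/-- a normal Noetherian local domain of dimension at most one is regular -/
theorem isRegularLocalRing_of_normal (B : Type u) [CommRing B] [IsDomain B] [IsLocalRing B]
    [IsNoetherianRing B] [IsIntegrallyClosed B] (h : (maximalIdeal B).height ≤ 1) :
    IsRegularLocalRing B := by
  have h3 : IsIntegrallyClosed B ∧ ∀ P : Ideal B, P ≠ ⊥ → P.IsPrime → P = maximalIdeal B := by
    refine ⟨inferInstance, ?_⟩
    intro P hP0 hPp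
    by_contra hne
    have hlt : P < maximalIdeal B := lt_of_le_of_ne (le_maximalIdeal hPp.ne_top) hne
    have h1 := Ideal.height_strict_mono_of_isPrime hlt
    have h2 : P.height = 0 := Order.lt_one_iff.mp (lt_of_lt_of_le h1 h)
    rw [Ideal.height_eq_zero_iff_eq_bot] at h2
    exact hP0 h2
  haveI : IsPrincipalIdealRing B :=
    ((tfae_of_isNoetherianRing_of_isLocalRing_of_isDomain B).out 3 0).mp h3
  infer_instance

/-- a normal Noetherian domain is `(S_2)` -/
theorem hasSk_two_of_normal (B : Type u) [CommRing B] [IsDomain B] [IsNoetherianRing B]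
    [IsIntegrallyClosed B] : LocCoh.HasSk 2 B B := by
  rw [Sk.hasSk_two_domain_iff]
  exact fun a ha P hP => height_eq_one_of_mem_associatedPrimes B a ha P hP

variable (R : Type u) [CommRing R]

theorem height_maximalIdeal_localization (p : Ideal R) [p.IsPrime] :
    (maximalIdeal (Localization.AtPrime p)).height = p.height := by
  have h1 : Ideal.comap (algebraMap R (Localization.AtPrime p))
      (IsLocalRing.maximalIdeal (Localization.AtPrime p)) = p :=
    IsLocalization.AtPrime.under_maximalIdeal (Localization.AtPrime p) p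
  have h2 := IsLocalization.height_under p.primeCompl
    (IsLocalRing.maximalIdeal (Localization.AtPrime p))
  change (Ideal.comap (algebraMap R (Localization.AtPrime p))
      (IsLocalRing.maximalIdeal (Localization.AtPrime p))).height = _ at h2
  rw [h1] at h2
  exact h2.symm

/-- the self-localization as a module -/
noncomputable def selfEquiv (p : Ideal R) [p.IsPrime] :
    LocalizedModule p.primeCompl R ≃ₗ[Localization.AtPrime p] Localization.AtPrime p :=
  (IsLocalizedModule.iso p.primeCompl
    (Algebra.linearMap R (Localization.AtPrime p))).extendScalarsOfIsLocalization p.primeCompl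
      (Localization.AtPrime p)

variable [IsNoetherianRing R]

theorem forward (h : ∀ (p : Ideal R) [p.IsPrime], IsDomain (Localization.AtPrime p) ∧
      IsIntegrallyClosed (Localization.AtPrime p)) :
    LocCoh.HasRk 1 R ∧ LocCoh.HasSk 2 R R := by
  constructor
  · intro p hp hht
    obtain ⟨hd, hic⟩ := h p
    haveI : IsNoetherianRing (Localization.AtPrime p) :=
      IsLocalization.isNoetherianRing p.primeCompl _ inferInstance
    apply isRegularLocalRing_of_normal
    rw [height_maximalIdeal_localization]
    exact_mod_cast hht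
  · rw [SkLoc.hasSk_iff_forall_hasSkAt]
    intro p hp
    obtain ⟨hd, hic⟩ := h p
    haveI : IsNoetherianRing (Localization.AtPrime p) :=
      IsLocalization.isNoetherianRing p.primeCompl _ inferInstance
    haveI : Module.Finite (Localization.AtPrime p) (LocalizedModule p.primeCompl R) :=
      Module.Finite.of_isLocalizedModule p.primeCompl (LocalizedModule.mkLinearMap p.primeCompl R)
    unfold EGA4.HasSkAt
    exact Sk.hasSk_of_linearEquiv 2 (selfEquiv R p).symm (hasSk_two_of_normal _)

end Forward

section Backward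

/-- an element of the fraction field lying in `A_p` for all primes with `depth A_p = 1` lies in
`A` -/
theorem mem_range_of_forall_depth_one {A : Type u} [CommRing A] [IsDomain A]
    [IsNoetherianRing A] (x : FractionRing A)
    (hx : ∀ (p : Ideal A) [p.IsPrime],
      LocCoh.depth (Localization.AtPrime p) (Localization.AtPrime p) = 1 →
        x ∈ Set.range (algebraMap (Localization.AtPrime p) (FractionRing A))) :
    x ∈ Set.range (algebraMap A (FractionRing A)) := by
  classical
  obtain ⟨a, ⟨b, hb⟩, rfl⟩ := IsLocalization.exists_mk'_eq (nonZeroDivisors A) x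
  by_contra hcon
  have hb0 : b ≠ 0 := nonZeroDivisors.ne_zero hb
  have hnot : a ∉ Ideal.span {b} := by
    intro hmem
    obtain ⟨c, hc⟩ := Ideal.mem_span_singleton'.mp hmem
    apply hcon
    refine ⟨c, ?_⟩
    rw [IsLocalization.eq_mk'_iff_mul_eq]
    change algebraMap A (FractionRing A) c * algebraMap A (FractionRing A) b = _
    rw [← map_mul, hc]
  have hne : (Ideal.Quotient.mk (Ideal.span {b}) a) ≠ 0 := by
    rwa [Ne, Ideal.Quotient.eq_zero_iff_mem]
  obtain ⟨P, hP, hle⟩ := exists_le_isAssociatedPrime_of_isNoetherianRing A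
    (Ideal.Quotient.mk (Ideal.span {b}) a) hne
  haveI : P.IsPrime := hP.isPrime
  have hreg : IsSMulRegular A b := fun x y hxy => mul_left_cancel₀ hb0 hxy
  have hdepth : LocCoh.depth (Localization.AtPrime P) (Localization.AtPrime P) = 1 :=
    DepthOne.depth_eq_one_of_mem_associatedPrimes b hreg P hP
  obtain ⟨y, hy⟩ := hx P hdepth
  obtain ⟨c, s, rfl⟩ := IsLocalization.exists_mk'_eq P.primeCompl y
  have hinj : Function.Injective (algebraMap A (FractionRing A)) :=
    IsFractionRing.injective A (FractionRing A)
  have key : (s : A) * a = c * b := by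
    apply hinj
    rw [IsLocalization.eq_mk'_iff_mul_eq] at hy
    have h1 : algebraMap (Localization.AtPrime P) (FractionRing A)
        (IsLocalization.mk' (Localization.AtPrime P) c s) * algebraMap A (FractionRing A) s =
        algebraMap A (FractionRing A) c := by
      rw [IsScalarTower.algebraMap_apply A (Localization.AtPrime P) (FractionRing A) s,
        ← map_mul, IsLocalization.mk'_spec,
        ← IsScalarTower.algebraMap_apply A (Localization.AtPrime P) (FractionRing A)]
    have hy' : algebraMap (Localization.AtPrime P) (FractionRing A)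
        (IsLocalization.mk' (Localization.AtPrime P) c s) * algebraMap A (FractionRing A) b =
        algebraMap A (FractionRing A) a := hy
    rw [map_mul, map_mul, ← hy', ← h1]
    ring
  have hsmem : (s : A) ∈ (⊥ : Submodule A (A ⧸ Ideal.span {b})).colon
      {Ideal.Quotient.mk (Ideal.span {b}) a} := by
    rw [Submodule.mem_colon_singleton, Submodule.mem_bot]
    change (s : A) • (Ideal.Quotient.mk (Ideal.span {b}) a) = 0
    rw [Algebra.smul_def, Ideal.Quotient.algebraMap_eq, ← map_mul, key,
      Ideal.Quotient.eq_zero_iff_mem]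
    exact Ideal.mem_span_singleton'.mpr ⟨c, rfl⟩
  exact s.2 (hle hsmem)

/-- a Noetherian domain with `(R_1)` and `(S_2)` is integrally closed -/
theorem isIntegrallyClosed_of_R1_S2 (A : Type u) [CommRing A] [IsDomain A] [IsNoetherianRing A]
    (hR : LocCoh.HasRk 1 A) (hS : LocCoh.HasSk 2 A A) : IsIntegrallyClosed A := by
  rw [isIntegrallyClosed_iff (FractionRing A)]
  intro x hx
  have key := mem_range_of_forall_depth_one x ?_
  · exact key
  intro p hp hdepth
  have hht : p.height ≤ 1 := by
    have h1 := hS p
    rw [Sk.supportDim_localizedModule_self, ← DepthOne.depth_self_eq, hdepth] at h1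
    rcases min_le_iff.mp h1 with h | h
    · exfalso
      have h' : ((2 : ℕ∞) : WithBot ℕ∞) ≤ ((1 : ℕ∞) : WithBot ℕ∞) := h
      rw [WithBot.coe_le_coe] at h'
      exact absurd h' (by norm_num)
    · exact WithBot.coe_le_coe.mp h
  haveI := hR p (by exact_mod_cast hht)
  haveI : IsIntegrallyClosed (Localization.AtPrime p) := H1.Reg.isIntegrallyClosed _
  have hx' : IsIntegral (Localization.AtPrime p) x := hx.tower_top
  obtain ⟨y, hy⟩ := IsIntegrallyClosed.algebraMap_eq_of_integral hx'
  exact ⟨y, hy⟩

theorem hasSk_mono {k l : ℕ} (hkl : k ≤ l) {R M : Type u} [CommRing R] [AddCommGroup M]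
    [Module R M] (h : LocCoh.HasSk l R M) : LocCoh.HasSk k R M := by
  intro p hp
  refine le_trans (min_le_min ?_ le_rfl) (h p)
  exact_mod_cast hkl

/-- a Noetherian local ring with `(R_1)` and `(S_2)` is a domain -/
theorem isDomain_of_R1_S2 (A : Type u) [CommRing A] [IsLocalRing A] [IsNoetherianRing A]
    (hR : LocCoh.HasRk 1 A) (hS : LocCoh.HasSk 2 A A) : IsDomain A := by
  classical
  have hR0 : LocCoh.HasRk 0 A := by
    intro p hp hht
    exact hR p (hht.trans (by norm_num))
  haveI hred : IsReduced A := (Groth.Agent.S0602.result A).mpr ⟨hR0, hasSk_mono one_le_two hS⟩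
  obtain ⟨q1, hq1⟩ := Ideal.nonempty_minimalPrimes (I := (⊥ : Ideal A)) bot_ne_top
  have hq1' : q1 ∈ minimalPrimes A := hq1
  haveI hq1p : q1.IsPrime := hq1.1.1
  by_cases hP2 : (minimalPrimes A \ {q1}).Nonempty
  · exfalso
    have hsub1 : ({q1} : Set (Ideal A)) ⊆ minimalPrimes A := Set.singleton_subset_iff.mpr hq1'
    have hsub2 : minimalPrimes A \ {q1} ⊆ minimalPrimes A := Set.diff_subset
    have hP : ({q1} : Set (Ideal A)) ∪ (minimalPrimes A \ {q1}) = minimalPrimes A :=
      Set.union_diff_cancel hsub1
    have hdisj : Disjoint ({q1} : Set (Ideal A)) (minimalPrimes A \ {q1}) :=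
      Set.disjoint_sdiff_right
    have hpr1 : ∀ p ∈ ({q1} : Set (Ideal A)), p.IsPrime := fun p hp => (hsub1 hp).1.1
    have hpr2 : ∀ p ∈ minimalPrimes A \ {q1}, p.IsPrime := fun p hp => (hsub2 hp).1.1
    have ha := MinComp.mem_comp _ hpr1
    have hb := MinComp.mem_comp _ hpr2
    have hfin : (minimalPrimes A).Finite := minimalPrimes.finite_of_isNoetherianRing A
    have hab : MinComp.comp _ hpr1 ⊔ MinComp.comp _ hpr2 ≠ ⊤ := by
      obtain ⟨q2, hq2⟩ := hP2
      haveI : q2.IsPrime := hpr2 q2 hq2
      have h1 : MinComp.comp _ hpr1 ≤ maximalIdeal A :=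
        (MinComp.le_of_mem _ _ ha (Set.mem_singleton q1)).trans (le_maximalIdeal hq1p.ne_top)
      have h2 : MinComp.comp _ hpr2 ≤ maximalIdeal A :=
        (MinComp.le_of_mem _ _ hb hq2).trans (le_maximalIdeal (hpr2 q2 hq2).ne_top)
      intro htop
      have := sup_le h1 h2
      rw [htop] at this
      exact (maximalIdeal.isMaximal A).ne_top (top_le_iff.mp this)
    obtain ⟨P, hPmin⟩ := Ideal.nonempty_minimalPrimes hab
    have hht := MinComp.height_eq_one hS _ _ hP hdisj _ _ ha hb P hPmin
    haveI hPp : P.IsPrime := hPmin.1.1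
    obtain ⟨p1, hp1, hp1P⟩ := MinComp.exists_le_of_le _ hsub1 (hfin.subset hsub1) _ ha P
      (le_sup_left.trans hPmin.1.2)
    obtain ⟨p2, hp2, hp2P⟩ := MinComp.exists_le_of_le _ hsub2 (hfin.subset hsub2) _ hb P
      (le_sup_right.trans hPmin.1.2)
    haveI := hR P (by rw [hht]; norm_num)
    haveI : IsDomain (Localization.AtPrime P) := H7.Reg.isDomain _
    haveI hkp : (RingHom.ker (algebraMap A (Localization.AtPrime P))).IsPrime :=
      RingHom.ker_isPrime _
    have hk : ∀ q : Ideal A, q.IsPrime → q ≤ P →
        RingHom.ker (algebraMap A (Localization.AtPrime P)) ≤ q := by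
      intro q hq hqP x hx
      rw [RingHom.mem_ker, IsLocalization.map_eq_zero_iff P.primeCompl] at hx
      obtain ⟨s, hs⟩ := hx
      have : (s : A) * x ∈ q := by rw [hs]; exact q.zero_mem
      exact (hq.mem_or_mem this).resolve_left (fun h => s.2 (hqP h))
    have e1 : p1 = RingHom.ker (algebraMap A (Localization.AtPrime P)) :=
      le_antisymm ((hsub1 hp1).2 ⟨hkp, bot_le⟩ (hk p1 (hpr1 p1 hp1) hp1P))
        (hk p1 (hpr1 p1 hp1) hp1P)
    have e2 : p2 = RingHom.ker (algebraMap A (Localization.AtPrime P)) :=
      le_antisymm ((hsub2 hp2).2 ⟨hkp, bot_le⟩ (hk p2 (hpr2 p2 hp2) hp2P))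
        (hk p2 (hpr2 p2 hp2) hp2P)
    rw [← e2] at e1
    rw [e1] at hp1
    exact Set.disjoint_left.mp hdisj hp1 hp2
  · have hmin : minimalPrimes A = {q1} := by
      rw [Set.not_nonempty_iff_eq_empty, Set.diff_eq_empty] at hP2
      exact Set.Subset.antisymm hP2 (Set.singleton_subset_iff.mpr hq1')
    have h0 : q1 = ⊥ := by
      have h1 := Ideal.sInf_minimalPrimes (I := (⊥ : Ideal A))
      have h2 : (⊥ : Ideal A).minimalPrimes = {q1} := hmin
      rw [h2, sInf_singleton] at h1
      rw [h1]
      exact nilradical_eq_zero A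
    rw [h0] at hq1p
    exact IsDomain.of_bot_isPrime A

variable (R : Type u) [CommRing R] [IsNoetherianRing R]

theorem backward (hR : LocCoh.HasRk 1 R) (hS : LocCoh.HasSk 2 R R) (p : Ideal R) [p.IsPrime] :
    IsDomain (Localization.AtPrime p) ∧ IsIntegrallyClosed (Localization.AtPrime p) := by
  haveI : IsNoetherianRing (Localization.AtPrime p) :=
    IsLocalization.isNoetherianRing p.primeCompl _ inferInstance
  haveI : Module.Finite (Localization.AtPrime p) (LocalizedModule p.primeCompl R) :=
    Module.Finite.of_isLocalizedModule p.primeCompl (LocalizedModule.mkLinearMap p.primeCompl R)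
  have hR' : LocCoh.HasRk 1 (Localization.AtPrime p) := by
    have : EGA4.HasRkAt 1 R p := by
      rw [H2.hasRkAt_iff]
      intro q hq _ hht
      exact hR q hht
    exact this
  have hS' : LocCoh.HasSk 2 (Localization.AtPrime p) (Localization.AtPrime p) := by
    have h1 := (SkLoc.hasSk_iff_forall_hasSkAt R 2).mp hS p
    unfold EGA4.HasSkAt at h1
    exact Sk.hasSk_of_linearEquiv 2 (selfEquiv R p) h1
  haveI := isDomain_of_R1_S2 _ hR' hS'
  exact ⟨inferInstance, isIntegrallyClosed_of_R1_S2 _ hR' hS'⟩

end Backward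

section Normal

/-- a normal Noetherian domain satisfies `(R_1)` and `(S_2)` -/
theorem hasRk_hasSk_of_normal (T : Type u) [CommRing T] [IsDomain T] [IsNoetherianRing T]
    [IsIntegrallyClosed T] : LocCoh.HasRk 1 T ∧ LocCoh.HasSk 2 T T := by
  apply forward
  intro p hp
  have hle : p.primeCompl ≤ nonZeroDivisors T := Ideal.primeCompl_le_nonZeroDivisors p
  exact ⟨IsLocalization.isDomain_localization hle,
    isIntegrallyClosed_of_isLocalization (Localization.AtPrime p) p.primeCompl hle⟩

/-- a Noetherian local ring with `(R_1)` and `(S_2)` is a normal domain -/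
theorem normal_of_R1_S2 (A : Type u) [CommRing A] [IsLocalRing A] [IsNoetherianRing A]
    (hR : LocCoh.HasRk 1 A) (hS : LocCoh.HasSk 2 A A) : IsDomain A ∧ IsIntegrallyClosed A := by
  haveI := isDomain_of_R1_S2 A hR hS
  exact ⟨inferInstance, isIntegrallyClosed_of_R1_S2 A hR hS⟩

end Normal

end SerreNormal

end Groth.Agent.H6
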