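import Mathlib
import Groth.Prelude.Def_EGA4b
import Groth.Agent.Lib.Helper6.SerreNormal
import Groth.Agent.Lib.Helper6.FlatLoc
import Groth.Agent.Lib.Helper6.FiberDict
import Groth.Agent.S2609

/-! Ascent of `(S_k)` and normality along flat homomorphisms, ring level. -/

universe u
set_option linter.style.haveILetI false
open scoped Pointwise TensorProduct
open IsLocalRing

namespace Groth.Agent.H6

namespace FlatNormal

variable (A B : Type u) [CommRing A] [CommRing B] [IsNoetherianRing A] [IsNoetherianRing B]
  [Algebra A B] [Module.Flat A B]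

/-- ring-level ascent of `(S_k)` along a flat homomorphism with `(S_k)` fibre local rings -/
theorem hasSk_localization (k : ℕ)
    (hfib : ∀ (r : Ideal B) [r.IsPrime], FiberDict.FibSkIneq k A B r) (q : Ideal B) [q.IsPrime]
    (hA : LocCoh.HasSk k (Localization.AtPrime (q.comap (algebraMap A B)))
      (Localization.AtPrime (q.comap (algebraMap A B)))) :
    LocCoh.HasSk k (Localization.AtPrime q) (Localization.AtPrime q) := by
  haveI : IsNoetherianRing (Localization.AtPrime q) :=
    IsLocalization.isNoetherianRing q.primeCompl _ inferInstance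
  haveI : IsNoetherianRing (Localization.AtPrime (q.comap (algebraMap A B))) :=
    IsLocalization.isNoetherianRing (q.comap (algebraMap A B)).primeCompl _ inferInstance
  haveI : Module.Finite (Localization.AtPrime q) (LocalizedModule q.primeCompl B) :=
    Module.Finite.of_isLocalizedModule q.primeCompl (LocalizedModule.mkLinearMap q.primeCompl B)
  haveI : Module.Finite (Localization.AtPrime (q.comap (algebraMap A B)))
      (LocalizedModule (q.comap (algebraMap A B)).primeCompl A) :=
    Module.Finite.of_isLocalizedModule (q.comap (algebraMap A B)).primeCompl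
      (LocalizedModule.mkLinearMap (q.comap (algebraMap A B)).primeCompl A)
  have hA' : EGA4.HasSkAt k A A (q.comap (algebraMap A B)) :=
    Sk.hasSk_of_linearEquiv k (SerreNormal.selfEquiv A (q.comap (algebraMap A B))).symm hA
  rw [SkLoc.hasSkAt_iff] at hA'
  have goal' : EGA4.HasSkAt k B B q := by
    rw [SkLoc.hasSkAt_iff]
    intro q₁ hq₁ hle
    have h1 := hA' (q₁.comap (algebraMap A B)) (Ideal.comap_mono hle)
    obtain ⟨h3, h4⟩ := FlatLoc.depth_and_dim_localized_tensor (A := A) (B := B) A B q₁
    haveI : Module.Finite B (B ⊗[A] A) :=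
      Module.Finite.equiv (TensorProduct.AlgebraTensorModule.rid A B B).symm
    obtain ⟨h5, h6⟩ := SkLoc.depth_and_dim_congr (B ⊗[A] A)
      (TensorProduct.AlgebraTensorModule.rid A B B) q₁
    obtain ⟨h7, h8⟩ := FiberDict.depth_and_dim_self (A := A) q₁
    have h2 := hfib q₁
    unfold FiberDict.FibSkIneq at h2
    unfold SkLoc.SkIneq at h1 ⊢
    rw [← h5, ← h6, h3, h4, h7, h8]
    exact SkLoc.min_add_le k _ _ _ _ h1 h2
  exact Sk.hasSk_of_linearEquiv k (SerreNormal.selfEquiv B q) goal'

/-- the Serre inequality for a fibre local ring which is `(S_k)` -/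
theorem fibSkIneq_of_hasSk (k : ℕ) (r : Ideal B) [r.IsPrime]
    (h : LocCoh.HasSk k (EGA4.FibLocRing A B r) (EGA4.FibLocRing A B r)) :
    FiberDict.FibSkIneq k A B r := by
  haveI : IsNoetherianRing (Localization.AtPrime r) :=
    IsLocalization.isNoetherianRing r.primeCompl _ inferInstance
  have h1 := SkLoc.hasSk_closedPoint (R := EGA4.FibLocRing A B r) (EGA4.FibLocRing A B r) k h
  haveI : Module.Finite (Localization.AtPrime r) (EGA4.FibLocRing A B r) :=
    Module.Finite.of_surjective (Algebra.linearMap _ _) Ideal.Quotient.mk_surjective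
  unfold FiberDict.FibSkIneq
  rw [← Depth.depth_eq_of_isLocalHom_of_finite (A := Localization.AtPrime r)
    (B := EGA4.FibLocRing A B r) (EGA4.FibLocRing A B r),
    FlatDim.supportDim_of_surjective (B := Localization.AtPrime r)
      (C := EGA4.FibLocRing A B r) Ideal.Quotient.mk_surjective (EGA4.FibLocRing A B r)] at h1
  exact h1

/-- ascent of normality along flat homomorphisms with normal fibre local rings -/
theorem normal_localization
    (hfib : ∀ (q : Ideal B) [q.IsPrime], IsDomain (EGA4.FibLocRing A B q) ∧
      IsIntegrallyClosed (EGA4.FibLocRing A B q))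
    (q : Ideal B) [q.IsPrime]
    [IsDomain (Localization.AtPrime (q.comap (algebraMap A B)))]
    [IsIntegrallyClosed (Localization.AtPrime (q.comap (algebraMap A B)))] :
    IsDomain (Localization.AtPrime q) ∧ IsIntegrallyClosed (Localization.AtPrime q) := by
  haveI : IsNoetherianRing (Localization.AtPrime q) :=
    IsLocalization.isNoetherianRing q.primeCompl _ inferInstance
  haveI : IsNoetherianRing (Localization.AtPrime (q.comap (algebraMap A B))) :=
    IsLocalization.isNoetherianRing (q.comap (algebraMap A B)).primeCompl _ inferInstance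
  obtain ⟨hR1A, hS2A⟩ := SerreNormal.hasRk_hasSk_of_normal
    (Localization.AtPrime (q.comap (algebraMap A B)))
  have hfib' : ∀ (r : Ideal B) [r.IsPrime], LocCoh.HasRk 1 (EGA4.FibLocRing A B r) ∧
      LocCoh.HasSk 2 (EGA4.FibLocRing A B r) (EGA4.FibLocRing A B r) := by
    intro r hr
    haveI : IsNoetherianRing (Localization.AtPrime r) :=
      IsLocalization.isNoetherianRing r.primeCompl _ inferInstance
    obtain ⟨hd, hic⟩ := hfib r
    exact SerreNormal.hasRk_hasSk_of_normal (EGA4.FibLocRing A B r)
  have hR1B : LocCoh.HasRk 1 (Localization.AtPrime q) :=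
    Groth.Agent.S2609.result 1 A B (fun r _ => (hfib' r).1) q hR1A
  have hS2B : LocCoh.HasSk 2 (Localization.AtPrime q) (Localization.AtPrime q) :=
    hasSk_localization A B 2 (fun r _ => fibSkIneq_of_hasSk A B 2 r (hfib' r).2) q hS2A
  exact SerreNormal.normal_of_R1_S2 _ hR1B hS2B

end FlatNormal

end Groth.Agent.H6
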