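import Mathlib
import Groth.Agent.Lib.Helper6.DTAlg

/-! Main structural theorems on ideal transforms. -/

universe u
open CategoryTheory CategoryTheory.Limits Opposite

namespace Groth.Agent.H6

namespace DT

open LocCoh

variable {R : Type u} [CommRing R] {I : Ideal R} {M : Type u} [AddCommGroup M] [Module R M]

theorem smul_ι (n : ℕ) (f : ↥(I ^ n) →ₗ[R] M) (a : ↥(I ^ n)) :
    (a : R) • ι I M n f = toDT I M (f a) := by
  rw [← map_smul, toDT_eq' n]
  congr 1
  ext b
  simp only [LinearMap.smul_apply, smulMap_apply]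
  rw [← map_smul, ← map_smul]
  congr 1
  ext
  simp [mul_comm]

theorem toDT_eq_zero_iff (m : M) : toDT I M m = 0 ↔ m ∈ DRing.torsionSub I M := by
  rw [toDT_eq, ι_eq_zero_iff]
  constructor
  · rintro ⟨k, _, h⟩
    refine ⟨k, fun a ha => ?_⟩
    have := LinearMap.congr_fun h ⟨a, ha⟩
    simpa using this
  · rintro ⟨k, hk⟩
    refine ⟨k, Nat.zero_le k, ?_⟩
    ext ⟨a, ha⟩
    simpa using hk a ha

theorem ker_toDT : LinearMap.ker (toDT I M) = DRing.torsionSub I M := by
  ext m
  rw [LinearMap.mem_ker, toDT_eq_zero_iff]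

theorem toDT_naturality {M' : Type u} [AddCommGroup M'] [Module R M'] (e : M →ₗ[R] M') (m : M) :
    ((idealTransform I).map (ModuleCat.ofHom e)).hom (toDT I M m) = toDT I M' (e m) := by
  rw [toDT_eq, toDT_eq, map_ι]
  congr 1
  ext a
  simp

theorem coker_toDT_torsion (x : DT I M) :
    ∃ n : ℕ, ∀ a ∈ I ^ n, a • x ∈ LinearMap.range (toDT I M) := by
  obtain ⟨n, f, rfl⟩ := ι_surj x
  exact ⟨n, fun a ha => ⟨f ⟨a, ha⟩, (smul_ι n f ⟨a, ha⟩).symm⟩⟩

section Noeth

variable [IsNoetherianRing R]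

theorem eq_zero_of_torsion {n : ℕ} (f : ↥(I ^ n) →ₗ[R] M)
    (h : ∀ c : ↥(I ^ n), f c ∈ DRing.torsionSub I M) : ι I M n f = 0 := by
  obtain ⟨k, hk, h0⟩ := exists_restrict_eq_zero f h
  rw [ι_eq_zero_iff]
  exact ⟨k, hk, h0⟩

theorem torsionSub_DT : DRing.torsionSub I (DT I M) = ⊥ := by
  rw [eq_bot_iff]
  rintro x ⟨k, hk⟩
  obtain ⟨n, f, rfl⟩ := ι_surj x
  rw [Submodule.mem_bot]
  -- restrict to `I^(max k n)`
  have hn : n ≤ max k n := le_max_right _ _
  rw [← ι_restrict hn]
  apply eq_zero_of_torsion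
  intro c
  rw [← toDT_eq_zero_iff, ← smul_ι, ι_restrict hn]
  exact hk _ (Ideal.pow_le_pow_right (le_max_left k n) c.2)

theorem subsingleton_of_torsion (h : IsPowerTorsion I M) : Subsingleton (DT I M) := by
  refine ⟨fun x y => ?_⟩
  have h0 : ∀ z : DT I M, z = 0 := by
    intro z
    obtain ⟨n, f, rfl⟩ := ι_surj z
    exact eq_zero_of_torsion f (fun c => h (f c))
  rw [h0 x, h0 y]

theorem map_injective {M' : Type u} [AddCommGroup M'] [Module R M'] (e : M →ₗ[R] M')
    (hker : LinearMap.ker e ≤ DRing.torsionSub I M) :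
    Function.Injective ((idealTransform I).map (ModuleCat.ofHom e)).hom := by
  rw [← LinearMap.ker_eq_bot, eq_bot_iff]
  intro x hx
  rw [LinearMap.mem_ker] at hx
  obtain ⟨n, f, rfl⟩ := ι_surj x
  rw [map_ι, ι_eq_zero_iff] at hx
  obtain ⟨k, hk, h0⟩ := hx
  rw [Submodule.mem_bot, ← ι_restrict hk]
  apply eq_zero_of_torsion
  intro c
  apply hker
  exact LinearMap.congr_fun h0 c

theorem map_surjective {M' : Type u} [AddCommGroup M'] [Module R M'] (e : M →ₗ[R] M')
    (hker : LinearMap.ker e ≤ DRing.torsionSub I M)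
    (hcoker : IsPowerTorsion I (M' ⧸ LinearMap.range e)) :
    Function.Surjective ((idealTransform I).map (ModuleCat.ofHom e)).hom := by
  intro y
  obtain ⟨n, g, rfl⟩ := ι_surj y
  -- the composite to the cokernel vanishes on a higher power
  obtain ⟨k, hk, h0⟩ := exists_restrict_eq_zero ((LinearMap.range e).mkQ ∘ₗ g)
    (fun c => hcoker _)
  set g' := g ∘ₗ Submodule.inclusion (Ideal.pow_le_pow_right hk) with hg'
  have hrange : LinearMap.range g' ≤ LinearMap.range e := by
    rintro _ ⟨c, rfl⟩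
    have := LinearMap.congr_fun h0 c
    simpa [g'] using this
  obtain ⟨k', hk', h, hh⟩ := exists_lift e (fun m hm => hker hm) g' hrange
  refine ⟨ι I M k' h, ?_⟩
  rw [map_ι, hh, ι_restrict hk', hg', ι_restrict hk]

theorem map_bijective {M' : Type u} [AddCommGroup M'] [Module R M'] (e : M →ₗ[R] M')
    (hker : LinearMap.ker e ≤ DRing.torsionSub I M)
    (hcoker : IsPowerTorsion I (M' ⧸ LinearMap.range e)) :
    Function.Bijective ((idealTransform I).map (ModuleCat.ofHom e)).hom :=
  ⟨map_injective e hker, map_surjective e hker hcoker⟩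

end Noeth

section Noeth2

variable [IsNoetherianRing R] {M' : Type u} [AddCommGroup M'] [Module R M']
  {K : Type u} [AddCommGroup K] [Module R K]

theorem isPowerTorsion_coker_toDT : IsPowerTorsion I (DT I M ⧸ LinearMap.range (toDT I M)) := by
  intro x
  obtain ⟨y, rfl⟩ := Submodule.mkQ_surjective _ x
  obtain ⟨n, hn⟩ := coker_toDT_torsion y
  refine ⟨n, fun a ha => ?_⟩
  rw [← map_smul, Submodule.mkQ_apply, Submodule.Quotient.mk_eq_zero]
  exact hn a ha

theorem map_toDT_bijective :
    Function.Bijective ((idealTransform I).map (ModuleCat.ofHom (toDT I M))).hom :=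
  map_bijective _ ker_toDT.le isPowerTorsion_coker_toDT

/-- The linear equivalence `D_I(e)` for `e` with torsion kernel and cokernel. -/
noncomputable def mapEquiv (e : M →ₗ[R] M') (hker : LinearMap.ker e ≤ DRing.torsionSub I M)
    (hcoker : IsPowerTorsion I (M' ⧸ LinearMap.range e)) : DT I M ≃ₗ[R] DT I M' :=
  LinearEquiv.ofBijective ((idealTransform I).map (ModuleCat.ofHom e)).hom
    (map_bijective e hker hcoker)

/-- The extension of `η_K ∘ ψ` along `e`. -/
noncomputable def extend (e : M →ₗ[R] M') (hker : LinearMap.ker e ≤ DRing.torsionSub I M)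
    (hcoker : IsPowerTorsion I (M' ⧸ LinearMap.range e)) (ψ : M →ₗ[R] K) :
    M' →ₗ[R] DT I K :=
  ((idealTransform I).map (ModuleCat.ofHom ψ)).hom ∘ₗ
    (mapEquiv e hker hcoker).symm.toLinearMap ∘ₗ toDT I M'

theorem extend_comp (e : M →ₗ[R] M') (hker : LinearMap.ker e ≤ DRing.torsionSub I M)
    (hcoker : IsPowerTorsion I (M' ⧸ LinearMap.range e)) (ψ : M →ₗ[R] K) :
    extend e hker hcoker ψ ∘ₗ e = toDT I K ∘ₗ ψ := by
  ext m
  simp only [extend, LinearMap.coe_comp, LinearEquiv.coe_coe, Function.comp_apply]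
  rw [← toDT_naturality e m]
  have : (mapEquiv e hker hcoker).symm
      (((idealTransform I).map (ModuleCat.ofHom e)).hom (toDT I M m)) = toDT I M m :=
    (mapEquiv e hker hcoker).symm_apply_apply _
  rw [this, toDT_naturality]

theorem eq_of_comp_eq (e : M →ₗ[R] M')
    (hcoker : IsPowerTorsion I (M' ⧸ LinearMap.range e)) (ψ₁ ψ₂ : M' →ₗ[R] DT I K)
    (h : ψ₁ ∘ₗ e = ψ₂ ∘ₗ e) : ψ₁ = ψ₂ := by
  ext m'
  rw [← sub_eq_zero, ← Submodule.mem_bot R, ← torsionSub_DT (I := I)]
  obtain ⟨n, hn⟩ := hcoker ((LinearMap.range e).mkQ m')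
  refine ⟨n, fun a ha => ?_⟩
  have h1 := hn a ha
  rw [← map_smul, Submodule.mkQ_apply, Submodule.Quotient.mk_eq_zero] at h1
  obtain ⟨m, hm⟩ := h1
  rw [smul_sub, ← map_smul, ← map_smul, ← hm]
  have := LinearMap.congr_fun h m
  simp only [LinearMap.coe_comp, Function.comp_apply] at this
  rw [this, sub_self]

theorem extend_bijective (e : M →ₗ[R] M') (hker : LinearMap.ker e ≤ DRing.torsionSub I M)
    (hcoker : IsPowerTorsion I (M' ⧸ LinearMap.range e)) (ψ : M →ₗ[R] K)
    (hψ : Function.Bijective ψ) (hη : Function.Bijective (toDT I M')) :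
    Function.Bijective (extend e hker hcoker ψ) := by
  have h1 : Function.Bijective ((idealTransform I).map (ModuleCat.ofHom ψ)).hom := by
    apply map_bijective
    · rw [LinearMap.ker_eq_bot.mpr hψ.1]; exact bot_le
    · intro x
      have : LinearMap.range ψ = ⊤ := LinearMap.range_eq_top.mpr hψ.2
      have hx : x = 0 := by
        obtain ⟨y, rfl⟩ := Submodule.mkQ_surjective _ x
        rw [Submodule.mkQ_apply, Submodule.Quotient.mk_eq_zero, this]
        trivial
      exact ⟨0, fun a _ => by rw [hx, smul_zero]⟩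
  unfold extend
  simp only [LinearMap.coe_comp, LinearEquiv.coe_coe]
  exact h1.comp ((mapEquiv e hker hcoker).symm.bijective.comp hη)

end Noeth2

section Noeth3

variable [IsNoetherianRing R]

theorem map_toDT_eq (x : DT I M) :
    ((idealTransform I).map (ModuleCat.ofHom (toDT I M))).hom x = toDT I (DT I M) x := by
  obtain ⟨n, f, rfl⟩ := ι_surj x
  rw [map_ι, toDT_eq' n]
  congr 1
  ext a
  simp only [LinearMap.coe_comp, Function.comp_apply, smulMap_apply]
  rw [smul_ι]

theorem toDT_DT_bijective : Function.Bijective (toDT I (DT I M)) := by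
  have h := map_toDT_bijective (I := I) (M := M)
  have : ⇑(toDT I (DT I M)) = ⇑((idealTransform I).map (ModuleCat.ofHom (toDT I M))).hom :=
    funext (fun x => (map_toDT_eq x).symm)
  rw [this]
  exact h

/-- `η` is bijective on any module of the form `D_I(M)`; its inverse. -/
noncomputable def toDTEquiv : DT I M ≃ₗ[R] DT I (DT I M) :=
  LinearEquiv.ofBijective (toDT I (DT I M)) toDT_DT_bijective

end Noeth3

end DT

end Groth.Agent.H6
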