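import Mathlib
import Groth.Prelude.Def_Wider

/-! Sections of `M~` over the complement of `V(a)`: concrete model. -/

universe u
set_option linter.unusedSectionVars false
set_option backward.isDefEq.respectTransparency.types false

open AlgebraicGeometry TopologicalSpace CategoryTheory Opposite PrimeSpectrum

namespace Groth.Agent.H6.TildePunct

variable {R M : Type u} [CommRing R] [AddCommGroup M] [Module R M]

variable (R M) in
/-- sections of the concrete structure sheaf of `M` over `U`, as an `R`-module -/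
abbrev Sec (U : Opens (PrimeSpectrum.Top R)) : Type u :=
  (structureSheafInType R M).obj.obj (op U)

variable (M) in
/-- restriction, as a linear map -/
def res {U V : Opens (PrimeSpectrum.Top R)} (h : V ≤ U) : Sec R M U →ₗ[R] Sec R M V :=
  ((structurePresheafInModuleCat R M).map (homOfLE h).op).hom

theorem res_val {U V : Opens (PrimeSpectrum.Top R)} (h : V ≤ U) (s : Sec R M U) (x : V) :
    (res M h s).1 x = s.1 ⟨x.1, h x.2⟩ := rfl

theorem sec_ext {U : Opens (PrimeSpectrum.Top R)} {s t : Sec R M U} (h : ∀ x, s.1 x = t.1 x) :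
    s = t := Subtype.ext (funext h)

theorem zero_val {U : Opens (PrimeSpectrum.Top R)} (x : U) : (0 : Sec R M U).1 x = 0 := rfl

theorem res_res {U V W : Opens (PrimeSpectrum.Top R)} (h : V ≤ U) (h' : W ≤ V) (s : Sec R M U) :
    res M h' (res M h s) = res M (h'.trans h) s := rfl

theorem res_toOpen {U V : Opens (PrimeSpectrum.Top R)} (h : V ≤ U) (m : M) :
    res M h (StructureSheaf.toOpenₗ R M U m) = StructureSheaf.toOpenₗ R M V m := rfl

/-- a section killed by an ideal which is contained in no point of `U` vanishes -/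
theorem eq_zero_of_forall_smul_eq_zero {U : Opens (PrimeSpectrum.Top R)} (I : Ideal R)
    (hI : ∀ x ∈ U, ¬ I ≤ x.asIdeal) (s : Sec R M U) (hs : ∀ c ∈ I, c • s = 0) : s = 0 := by
  refine sec_ext fun x => ?_
  obtain ⟨c, hcI, hcx⟩ := Set.not_subset.mp (hI x.1 x.2)
  have h1 : c • s.1 x = 0 := by
    have := congrArg (fun t : Sec R M U => t.1 x) (hs c hcI)
    exact this
  have h2 := IsLocalizedModule.smul_injective (S := x.1.asIdeal.primeCompl)
    (LocalizedModule.mkLinearMap x.1.asIdeal.primeCompl M) ⟨c, hcx⟩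
  apply h2
  show c • s.1 x = c • (0 : Sec R M U).1 x
  rw [h1, zero_val, smul_zero]

theorem smul_val {U : Opens (PrimeSpectrum.Top R)} (c : R) (s : Sec R M U) (x : U) :
    (c • s).1 x = c • s.1 x := rfl

/-- L1: a section over `D(g)` vanishing on `D(g h)` is killed by a power of `h` -/
theorem exists_pow_smul_eq_zero_basic (g h : R) (u : Sec R M (basicOpen g))
    (hu : res M (PrimeSpectrum.basicOpen_mul_le_left g h) u = 0) :
    ∃ c : ℕ, h ^ c • u = 0 := by
  obtain ⟨⟨y, ⟨_, e, rfl⟩⟩, hy⟩ := IsLocalizedModule.surj (.powers g)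
    (StructureSheaf.toOpenₗ R M (basicOpen g)) u
  simp only [Submonoid.smul_def] at hy
  have h1 : StructureSheaf.toOpenₗ R M (basicOpen (g * h)) y = 0 := by
    rw [← res_toOpen (PrimeSpectrum.basicOpen_mul_le_left g h), ← hy, map_smul, hu, smul_zero]
  obtain ⟨⟨_, c, rfl⟩, hc⟩ := (IsLocalizedModule.eq_zero_iff (.powers (g * h))
    (StructureSheaf.toOpenₗ R M (basicOpen (g * h)))).mp h1
  simp only [Submonoid.smul_def] at hc
  refine ⟨c, ?_⟩
  have h2 : g ^ (e + c) • (h ^ c • u) = 0 := by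
    have : g ^ (e + c) • (h ^ c • u) = (g * h) ^ c • (g ^ e • u) := by
      rw [smul_smul, smul_smul]
      congr 1
      ring
    rw [this, hy, ← map_smul, hc, map_zero]
  have h3 := IsLocalizedModule.smul_injective (S := .powers g)
    (StructureSheaf.toOpenₗ R M (basicOpen g)) ⟨g ^ (e + c), e + c, rfl⟩
  apply h3
  show g ^ (e + c) • (h ^ c • u) = g ^ (e + c) • (0 : Sec R M (basicOpen g))
  rw [h2, smul_zero]

/-- L2: a section over a finite union of basic opens vanishing on `W ⊓ D(h)` is killed by a power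
of `h` -/
theorem exists_pow_smul_eq_zero (W : Opens (PrimeSpectrum.Top R)) (gs : Finset R)
    (hle : ∀ g ∈ gs, basicOpen g ≤ W) (hcov : ∀ x ∈ W, ∃ g ∈ gs, x ∈ basicOpen g)
    (h : R) (t : Sec R M W) (ht : res M (inf_le_left : W ⊓ basicOpen h ≤ W) t = 0) :
    ∃ l : ℕ, h ^ l • t = 0 := by
  classical
  have key : ∀ g : R, ∃ c : ℕ, g ∈ gs → ∀ hg : basicOpen g ≤ W, h ^ c • res M hg t = 0 := by
    intro g
    by_cases hg : g ∈ gs
    · have hgW := hle g hg
      have h1 : res M (PrimeSpectrum.basicOpen_mul_le_left g h) (res M hgW t) = 0 := by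
        have hle' : basicOpen (g * h) ≤ W ⊓ basicOpen h := by
          rw [PrimeSpectrum.basicOpen_mul]
          exact inf_le_inf_right _ hgW
        rw [res_res]
        have : res M ((PrimeSpectrum.basicOpen_mul_le_left g h).trans hgW) t =
            res M hle' (res M inf_le_left t) := rfl
        rw [this, ht, map_zero]
      obtain ⟨c, hc⟩ := exists_pow_smul_eq_zero_basic g h (res M hgW t) h1
      exact ⟨c, fun _ _ => hc⟩
    · exact ⟨0, fun h' => absurd h' hg⟩
  choose c hc using key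
  refine ⟨gs.sup c, sec_ext fun x => ?_⟩
  obtain ⟨g, hg, hxg⟩ := hcov x.1 x.2
  have h1 := hc g hg (hle g hg)
  have h2 : c g ≤ gs.sup c := Finset.le_sup hg
  have h3 : h ^ c g • t.1 x = 0 := by
    have := congrArg (fun t' : Sec R M (basicOpen g) => t'.1 ⟨x.1, hxg⟩) h1
    exact this
  rw [smul_val, zero_val, ← Nat.sub_add_cancel h2, pow_add, mul_smul, h3, smul_zero]

section Punct

variable (a : Ideal R)

/-- `U` is the complement of `V(a)` -/
def IsPunct (U : Opens (PrimeSpectrum.Top R)) : Prop :=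
  ∀ x : PrimeSpectrum.Top R, x ∈ U ↔ ¬ a ≤ x.asIdeal

variable {a} {U : Opens (PrimeSpectrum.Top R)} (hU : IsPunct a U)
include hU

theorem basicOpen_le_Ua {f : R} (hf : f ∈ a) : basicOpen f ≤ U := by
  intro x hx
  exact (hU x).mpr fun hle => hx (hle hf)

theorem pow_not_le_of_mem_Ua (n : ℕ) (x : PrimeSpectrum.Top R) (hx : x ∈ U) :
    ¬ a ^ n ≤ x.asIdeal := by
  rw [hU x] at hx
  intro h
  exact hx (x.isPrime.le_of_pow_le h)

omit hU in
theorem mem_iSup_torsionBy_iff (a : Ideal R) {N : Type*} [AddCommGroup N] [Module R N] (m : N) :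
    m ∈ (⨆ n : ℕ, LocCoh.torsionBy (a ^ n) N) ↔ ∃ n : ℕ, ∀ c ∈ a ^ n, c • m = 0 := by
  rw [Submodule.mem_iSup_of_directed]
  · refine exists_congr fun n => ?_
    rw [Submodule.mem_torsionBySet_iff]
    exact ⟨fun h c hc => h ⟨c, hc⟩, fun h c => h c.1 c.2⟩
  · refine Monotone.directed_le (monotone_nat_of_le_succ fun n => ?_)
    exact Submodule.torsionBySet_le_torsionBySet_of_subset (Ideal.pow_le_pow_right (Nat.le_succ n))

/-- no nonzero section over `U` is killed by a power of `a` -/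
theorem eq_zero_of_pow_smul (s : Sec R M U) (n : ℕ) (hs : ∀ c ∈ a ^ n, c • s = 0) : s = 0 :=
  eq_zero_of_forall_smul_eq_zero (a ^ n) (pow_not_le_of_mem_Ua hU n) s hs

omit hU in
/-- the radical trick -/
theorem exists_pow_le_of_forall_gen {fs : Finset R} (hfs : Ideal.span (fs : Set R) = a) (J : Ideal R)
    (h : ∀ f ∈ fs, ∃ n : ℕ, f ^ n ∈ J) : ∃ N : ℕ, a ^ N ≤ J := by
  apply Ideal.exists_pow_le_of_le_radical_of_fg
  · rw [← hfs, Ideal.span_le]
    intro f hf
    exact h f hf
  · exact ⟨fs, hfs⟩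

theorem ker_toOpen {fs : Finset R} (hfs : Ideal.span (fs : Set R) = a) :
    LinearMap.ker (StructureSheaf.toOpenₗ R M U) = ⨆ n : ℕ, LocCoh.torsionBy (a ^ n) M := by
  ext m
  rw [LinearMap.mem_ker, mem_iSup_torsionBy_iff]
  constructor
  · intro hm
    have hle : a ≤ Ideal.radical (LinearMap.ker (LinearMap.toSpanSingleton R M m)) := by
      rw [← PrimeSpectrum.zeroLocus_subset_zeroLocus_iff]
      intro x hx
      by_contra hxa
      have hxU : x ∈ U := (hU x).mpr hxa
      have h1 : (StructureSheaf.toOpenₗ R M U m).1 ⟨x, hxU⟩ = 0 := by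
        rw [hm]; rfl
      have h2 : LocalizedModule.mkLinearMap x.asIdeal.primeCompl M m = 0 := h1
      obtain ⟨⟨t, ht⟩, htm⟩ := (IsLocalizedModule.eq_zero_iff x.asIdeal.primeCompl
        (LocalizedModule.mkLinearMap x.asIdeal.primeCompl M)).mp h2
      apply ht
      apply hx
      rw [SetLike.mem_coe, LinearMap.mem_ker, LinearMap.toSpanSingleton_apply]
      exact htm
    obtain ⟨k, hk⟩ := Ideal.exists_pow_le_of_le_radical_of_fg hle ⟨fs, hfs⟩
    refine ⟨k, fun c hc => ?_⟩
    have := hk hc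
    rwa [LinearMap.mem_ker, LinearMap.toSpanSingleton_apply] at this
  · rintro ⟨n, hn⟩
    refine eq_zero_of_pow_smul hU _ n fun c hc => ?_
    rw [← map_smul, hn c hc, map_zero]

theorem exists_pow_smul_mem_range {fs : Finset R} (hfs : Ideal.span (fs : Set R) = a)
    (s : Sec R M U) :
    ∃ N : ℕ, ∀ c ∈ a ^ N, c • s ∈ LinearMap.range (StructureSheaf.toOpenₗ R M U) := by
  have hmem : ∀ f ∈ fs, f ∈ a := fun f hf => hfs ▸ Ideal.subset_span hf
  have hcov : ∀ x ∈ U, ∃ g ∈ fs, x ∈ basicOpen g := by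
    intro x hx
    rw [hU x, ← hfs, Ideal.span_le] at hx
    obtain ⟨g, hg, hgx⟩ := Set.not_subset.mp hx
    exact ⟨g, hg, hgx⟩
  let J : Ideal R := (LinearMap.range (StructureSheaf.toOpenₗ R M U)).comap
    (LinearMap.toSpanSingleton R _ s)
  have hJ : ∀ c, c ∈ J ↔ c • s ∈ LinearMap.range (StructureSheaf.toOpenₗ R M U) := by
    intro c
    rw [Submodule.mem_comap, LinearMap.toSpanSingleton_apply]
  obtain ⟨N, hN⟩ := exists_pow_le_of_forall_gen hfs J (by
    intro f hf
    have hfU := basicOpen_le_Ua hU (hmem f hf)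
    obtain ⟨⟨y, ⟨_, e, rfl⟩⟩, hy⟩ := IsLocalizedModule.surj (.powers f)
      (StructureSheaf.toOpenₗ R M (basicOpen f)) (res M hfU s)
    simp only [Submonoid.smul_def] at hy
    have ht : res M (inf_le_left : U ⊓ basicOpen f ≤ U)
        (f ^ e • s - StructureSheaf.toOpenₗ R M U y) = 0 := by
      have : res M (inf_le_left : U ⊓ basicOpen f ≤ U)
          (f ^ e • s - StructureSheaf.toOpenₗ R M U y) =
          res M (inf_le_right : U ⊓ basicOpen f ≤ basicOpen f)
            (res M hfU (f ^ e • s - StructureSheaf.toOpenₗ R M U y)) := rfl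
      rw [this, map_sub, map_smul, hy, res_toOpen, sub_self, map_zero]
    obtain ⟨l, hl⟩ := exists_pow_smul_eq_zero U fs
      (fun g hg => basicOpen_le_Ua hU (hmem g hg)) hcov f _ ht
    refine ⟨l + e, (hJ _).mpr ⟨f ^ l • y, ?_⟩⟩
    rw [smul_sub, sub_eq_zero] at hl
    rw [map_smul, ← hl, smul_smul, pow_add])
  exact ⟨N, fun c hc => (hJ c).mp (hN hc)⟩

end Punct

section Bigger

variable {a : Ideal R} [IsNoetherianRing R]

theorem exists_finset_cover (W : Opens (PrimeSpectrum.Top R)) :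
    ∃ gs : Finset R, (∀ g ∈ gs, basicOpen g ≤ W) ∧ ∀ x ∈ W, ∃ g ∈ gs, x ∈ basicOpen g := by
  obtain ⟨I, hI⟩ := (PrimeSpectrum.isClosed_iff_zeroLocus_ideal _).mp W.2.isClosed_compl
  obtain ⟨gs, hgs⟩ := (isNoetherianRing_iff_ideal_fg R).mp ‹_› I
  have hmem : ∀ x : PrimeSpectrum.Top R, x ∈ W ↔ ¬ I ≤ x.asIdeal := by
    intro x
    have h1 : x ∈ W.carrierᶜ ↔ x ∈ PrimeSpectrum.zeroLocus (I : Set R) := Set.ext_iff.mp hI x
    have h2 : x ∈ PrimeSpectrum.zeroLocus (I : Set R) ↔ I ≤ x.asIdeal := Iff.rfl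
    have h3 : x ∈ W.carrierᶜ ↔ ¬ x ∈ W := Iff.rfl
    rw [h3, h2] at h1
    exact (not_iff_comm.mp h1).symm
  refine ⟨gs, fun g hg x hx => ?_, fun x hx => ?_⟩
  · refine (hmem x).mpr fun hle => hx (hle ?_)
    rw [← hgs]
    exact Ideal.subset_span hg
  · have := (hmem x).mp hx
    rw [← hgs, Ideal.span_le] at this
    obtain ⟨g, hg, hgx⟩ := Set.not_subset.mp this
    exact ⟨g, hg, hgx⟩

variable {U : Opens (PrimeSpectrum.Top R)} (hU : IsPunct a U)
include hU

theorem mem_ker_res_iff (W : Opens (PrimeSpectrum.Top R)) (hUW : U ≤ W) (s : Sec R M W) :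
    res M hUW s = 0 ↔ ∃ n : ℕ, ∀ c ∈ a ^ n, c • s = 0 := by
  obtain ⟨fs, hfs⟩ := (isNoetherianRing_iff_ideal_fg R).mp ‹_› a
  have hmem : ∀ f ∈ fs, f ∈ a := fun f hf => hfs ▸ Ideal.subset_span hf
  constructor
  · intro hs
    obtain ⟨gs, hle, hcov⟩ := exists_finset_cover W
    obtain ⟨N, hN⟩ := exists_pow_le_of_forall_gen hfs
      (LinearMap.ker (LinearMap.toSpanSingleton R _ s)) (by
        intro f hf
        have ht : res M (inf_le_left : W ⊓ basicOpen f ≤ W) s = 0 := by
          have hle' : W ⊓ basicOpen f ≤ U := inf_le_right.trans (basicOpen_le_Ua hU (hmem f hf))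
          have : res M (inf_le_left : W ⊓ basicOpen f ≤ W) s = res M hle' (res M hUW s) := rfl
          rw [this, hs, map_zero]
        obtain ⟨l, hl⟩ := exists_pow_smul_eq_zero W gs hle hcov f s ht
        exact ⟨l, by rw [LinearMap.mem_ker, LinearMap.toSpanSingleton_apply]; exact hl⟩)
    refine ⟨N, fun c hc => ?_⟩
    have := hN hc
    rwa [LinearMap.mem_ker, LinearMap.toSpanSingleton_apply] at this
  · rintro ⟨n, hn⟩
    refine eq_zero_of_pow_smul hU _ n fun c hc => ?_
    rw [← map_smul, hn c hc, map_zero]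

end Bigger

end Groth.Agent.H6.TildePunct
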