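import Mathlib
import Groth.Agent.Lib.Helper6.TildePunct

/-! Sections of `M~` over the complement of `V(a)`: transfer to `tilde`. -/

universe u
set_option linter.unusedSectionVars false
set_option backward.isDefEq.respectTransparency.types false

open AlgebraicGeometry TopologicalSpace CategoryTheory Opposite PrimeSpectrum

namespace Groth.Agent.H6.TildePunct

variable (R : Type u) [CommRing R] (M : Type u) [AddCommGroup M] [Module R M]

/-- sections of `tilde M` -/
abbrev TSec (U : (Spec (CommRingCat.of R)).Opens) : Type u :=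
  ↑((modulesSpecToSheaf.obj (tilde (R := CommRingCat.of R) (ModuleCat.of R M))).presheaf.obj (op U))

variable {R} in
/-- opens of `Spec` as opens of the prime spectrum -/
def cv (U : (Spec (CommRingCat.of R)).Opens) : Opens (PrimeSpectrum.Top R) := U

variable {R} in
theorem cv_le {U V : (Spec (CommRingCat.of R)).Opens} (h : V ≤ U) : cv V ≤ cv U := h

/-- the comparison with the concrete model -/
noncomputable def eSec (U : (Spec (CommRingCat.of R)).Opens) : TSec R M U ≃ₗ[R] Sec R M (cv U) :=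
  ((tilde.modulesSpecToSheafIso (R := CommRingCat.of R) (ModuleCat.of R M)).app (op U)).toLinearEquiv

theorem toOpen_eq (U : (Spec (CommRingCat.of R)).Opens) :
    (tilde.toOpen (R := CommRingCat.of R) (ModuleCat.of R M) U).hom =
      (eSec R M U).symm.toLinearMap ∘ₗ StructureSheaf.toOpenₗ R M (cv U) := rfl

theorem eSec_res {U V : (Spec (CommRingCat.of R)).Opens} (h : V ≤ U) (s : TSec R M U) :
    eSec R M V (((modulesSpecToSheaf.obj (tilde (R := CommRingCat.of R)
      (ModuleCat.of R M))).presheaf.map (homOfLE h).op).hom s) = res M (cv_le h) (eSec R M U s) := rfl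

variable {R M}

theorem isPunct (a : Ideal R) : IsPunct a (cv (LocCoh.puncturedOpen R a)) := fun _ => Iff.rfl

theorem main1 [IsNoetherianRing R] (a : Ideal R) :
    LinearMap.ker (tilde.toOpen (R := CommRingCat.of R) (ModuleCat.of R M)
      (LocCoh.puncturedOpen R a)).hom = ⨆ n : ℕ, LocCoh.torsionBy (a ^ n) M := by
  obtain ⟨fs, hfs⟩ := (isNoetherianRing_iff_ideal_fg R).mp ‹_› a
  rw [toOpen_eq, LinearEquiv.ker_comp]
  exact ker_toOpen (isPunct a) hfs

theorem main2 (a : Ideal R) :
    (⨆ n : ℕ, LocCoh.torsionBy (a ^ n) (TSec R M (LocCoh.puncturedOpen R a))) = ⊥ := by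
  rw [eq_bot_iff]
  intro s hs
  rw [mem_iSup_torsionBy_iff] at hs
  obtain ⟨n, hn⟩ := hs
  rw [Submodule.mem_bot]
  apply (eSec R M (LocCoh.puncturedOpen R a)).injective
  rw [map_zero]
  refine eq_zero_of_pow_smul (isPunct a) _ n fun c hc => ?_
  rw [← map_smul, hn c hc, map_zero]

theorem main3 [IsNoetherianRing R] (a : Ideal R) :
    LocCoh.IsPowerTorsion a (TSec R M (LocCoh.puncturedOpen R a) ⧸
      LinearMap.range (tilde.toOpen (R := CommRingCat.of R) (ModuleCat.of R M)
        (LocCoh.puncturedOpen R a)).hom) := by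
  obtain ⟨fs, hfs⟩ := (isNoetherianRing_iff_ideal_fg R).mp ‹_› a
  intro q
  obtain ⟨s, rfl⟩ := Submodule.Quotient.mk_surjective _ q
  obtain ⟨N, hN⟩ := exists_pow_smul_mem_range (isPunct a) hfs
    (eSec R M (LocCoh.puncturedOpen R a) s)
  refine ⟨N, fun c hc => ?_⟩
  rw [← Submodule.Quotient.mk_smul, Submodule.Quotient.mk_eq_zero]
  obtain ⟨y, hy⟩ := hN c hc
  refine ⟨y, ?_⟩
  rw [toOpen_eq, LinearMap.comp_apply, hy, ← map_smul]
  exact (eSec R M (LocCoh.puncturedOpen R a)).symm_apply_apply _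

theorem main4 [IsNoetherianRing R] (a : Ideal R) (W : (Spec (CommRingCat.of R)).Opens)
    (hUW : LocCoh.puncturedOpen R a ≤ W) :
    LinearMap.ker ((modulesSpecToSheaf.obj (tilde (R := CommRingCat.of R)
      (ModuleCat.of R M))).presheaf.map (homOfLE hUW).op).hom =
      ⨆ n : ℕ, LocCoh.torsionBy (a ^ n) (TSec R M W) := by
  ext s
  rw [LinearMap.mem_ker, mem_iSup_torsionBy_iff]
  have h2 := mem_ker_res_iff (M := M) (isPunct a) (cv W) (cv_le hUW) (eSec R M W s)
  rw [← eSec_res R M hUW, LinearEquiv.map_eq_zero_iff] at h2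
  rw [h2]
  refine exists_congr fun n => forall₂_congr fun c hc => ?_
  rw [← map_smul, (eSec R M W).map_eq_zero_iff]

theorem main5 [IsNoetherianRing R] (a : Ideal R) (W : (Spec (CommRingCat.of R)).Opens)
    (hUW : LocCoh.puncturedOpen R a ≤ W) :
    LocCoh.IsPowerTorsion a (TSec R M (LocCoh.puncturedOpen R a) ⧸
      LinearMap.range ((modulesSpecToSheaf.obj (tilde (R := CommRingCat.of R)
        (ModuleCat.of R M))).presheaf.map (homOfLE hUW).op).hom) := by
  obtain ⟨fs, hfs⟩ := (isNoetherianRing_iff_ideal_fg R).mp ‹_› a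
  intro q
  obtain ⟨s, rfl⟩ := Submodule.Quotient.mk_surjective _ q
  obtain ⟨N, hN⟩ := exists_pow_smul_mem_range (isPunct a) hfs
    (eSec R M (LocCoh.puncturedOpen R a) s)
  refine ⟨N, fun c hc => ?_⟩
  rw [← Submodule.Quotient.mk_smul, Submodule.Quotient.mk_eq_zero]
  obtain ⟨y, hy⟩ := hN c hc
  refine ⟨(eSec R M W).symm (StructureSheaf.toOpenₗ R M (cv W) y), ?_⟩
  apply (eSec R M (LocCoh.puncturedOpen R a)).injective
  rw [eSec_res, LinearEquiv.apply_symm_apply, res_toOpen, map_smul]
  exact hy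

end Groth.Agent.H6.TildePunct
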