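import Mathlib
import Groth.Prelude.Def_W4bk5brsh16IT
import Groth.Agent.Lib.Helper6.DTThm
import Groth.Agent.Lib.Helper6.LCTorsion

/-! Relation between the ideal transform `D_I(M)` and `H^1_I(M)`:
`coker (M → D_I(M)) ≃ H^1_I(M)`. -/

universe u
open CategoryTheory CategoryTheory.Limits Opposite CategoryTheory.Abelian

namespace Groth.Agent.H6

namespace LC

open LocCoh

variable {R : Type u} [CommRing R] (I : Ideal R)

/-- The short complex `0 → I^n → R → R/I^n → 0`. -/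
noncomputable abbrev powSC (n : ℕ) : ShortComplex (ModuleCat.{u} R) :=
  ShortComplex.mk (ModuleCat.ofHom (Submodule.subtype (I ^ n)))
    (ModuleCat.ofHom (Submodule.mkQ (I ^ n)))
    (by ext x; exact (Submodule.Quotient.mk_eq_zero _).mpr x.2)

theorem powSC_shortExact (n : ℕ) : (powSC I n).ShortExact := by
  refine ModuleCat.shortComplex_shortExact _ ?_ (Submodule.injective_subtype _)
    (Submodule.mkQ_surjective _)
  intro r
  change Submodule.mkQ (I ^ n) r = 0 ↔ r ∈ Set.range (Submodule.subtype (I ^ n))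
  rw [Submodule.mkQ_apply, Submodule.Quotient.mk_eq_zero]
  exact ⟨fun h => ⟨⟨r, h⟩, rfl⟩, fun ⟨x, hx⟩ => hx ▸ x.2⟩

/-- The morphism of short exact sequences for `n ≤ m`. -/
noncomputable def powSCHom {n m : ℕ} (h : n ≤ m) : powSC I m ⟶ powSC I n where
  τ₁ := ModuleCat.ofHom (Submodule.inclusion (Ideal.pow_le_pow_right h))
  τ₂ := 𝟙 _
  τ₃ := proj I h
  comm₁₂ := by ext; rfl
  comm₂₃ := by ext; rfl

variable (M : Type u) [AddCommGroup M] [Module R M]

/-- The connecting map `Hom(I^n, M) → Ext^1(R/I^n, M)`. -/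
noncomputable def conn (n : ℕ) : (↥(I ^ n) →ₗ[R] M) →ₗ[R] Ext (Q I n) (ModuleCat.of R M) 1 where
  toFun φ := (powSC_shortExact I n).extClass.comp (Ext.mk₀ (ModuleCat.ofHom φ)) (add_zero 1)
  map_add' φ ψ := by
    rw [ModuleCat.ofHom_add, Ext.mk₀_add, Ext.comp_add]
  map_smul' r φ := by
    have : ModuleCat.ofHom (r • φ) = r • ModuleCat.ofHom φ := rfl
    rw [this, Ext.mk₀_smul, Ext.comp_smul]
    rfl

theorem conn_apply (n : ℕ) (φ : ↥(I ^ n) →ₗ[R] M) :
    conn I M n φ = (powSC_shortExact I n).extClass.comp (Ext.mk₀ (ModuleCat.ofHom φ))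
      (add_zero 1) := rfl

/-- Compatibility of the connecting maps with restriction / projection. -/
theorem conn_restrict {n m : ℕ} (h : n ≤ m) (φ : ↥(I ^ n) →ₗ[R] M) :
    conn I M m (φ ∘ₗ Submodule.inclusion (Ideal.pow_le_pow_right h)) =
      (Ext.mk₀ (proj I h)).comp (conn I M n φ) (zero_add 1) := by
  rw [conn_apply, conn_apply]
  have h1 := ShortComplex.ShortExact.extClass_naturality (powSC_shortExact I m)
    (powSC_shortExact I n) (powSCHom I h)
  have h2 : ModuleCat.ofHom (φ ∘ₗ Submodule.inclusion (Ideal.pow_le_pow_right h)) =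
      (powSCHom I h).τ₁ ≫ ModuleCat.ofHom φ := rfl
  rw [h2, ← Ext.mk₀_comp_mk₀, ← Ext.comp_assoc_of_second_deg_zero, h1,
    Ext.comp_assoc_of_third_deg_zero]
  rfl

theorem conn_surjective (n : ℕ) : Function.Surjective (conn I M n) := by
  intro y
  have hproj : Projective (powSC I n).X₂ := by
    change Projective (ModuleCat.of R R)
    infer_instance
  obtain ⟨x, hx⟩ := Ext.contravariant_sequence_exact₃ (powSC_shortExact I n) (ModuleCat.of R M) y
    (Ext.eq_zero_of_projective _) (n₀ := 0) rfl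
  obtain ⟨f, rfl⟩ := exists_mk₀ x
  exact ⟨f.hom, hx⟩

theorem conn_eq_zero_iff (n : ℕ) (φ : ↥(I ^ n) →ₗ[R] M) :
    conn I M n φ = 0 ↔ ∃ x : M, φ = DT.smulMap I M n x := by
  constructor
  · intro h
    obtain ⟨x₂, hx₂⟩ := Ext.contravariant_sequence_exact₁ (powSC_shortExact I n) (ModuleCat.of R M)
      (Ext.mk₀ (ModuleCat.ofHom φ)) (n₁ := 1) rfl h
    obtain ⟨ψ, rfl⟩ := exists_mk₀ x₂
    rw [Ext.mk₀_comp_mk₀] at hx₂
    have h3 := (Ext.mk₀_bijective _ _).1 hx₂
    refine ⟨ψ.hom (1 : R), ?_⟩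
    ext r
    have h4 := congrArg (fun g => g.hom r) h3
    simp only [DT.smulMap_apply] at h4 ⊢
    rw [← map_smul]
    refine h4.symm.trans ?_
    change ψ.hom (r : R) = _
    rw [smul_eq_mul, mul_one]
  · rintro ⟨x, rfl⟩
    rw [conn_apply]
    have : ModuleCat.ofHom (DT.smulMap I M n x) =
        (powSC I n).f ≫ ModuleCat.ofHom (LinearMap.toSpanSingleton R M x) := by
      ext r
      rfl
    rw [this, ← Ext.mk₀_comp_mk₀]
    exact ShortComplex.ShortExact.extClass_comp_assoc _ _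

/-- The canonical map `D_I(M) → H^1_I(M)` induced by the connecting maps. -/
theorem exists_dtToH1 : ∃ Φ : LocCoh.DT I M →ₗ[R] (localCohomology I 1).obj (ModuleCat.of R M),
    ∀ n φ, Φ (DT.ι I M n φ) = lcι I 1 (ModuleCat.of R M) n (conn I M n φ) := by
  obtain ⟨Φ, hΦ⟩ := DT.exists_lift_addMonoidHom (I := I) (M := M)
    (fun n => ((lcι I 1 (ModuleCat.of R M) n) ∘ₗ (conn I M n)).toAddMonoidHom) (by
      intro n m h f
      change lcι I 1 (ModuleCat.of R M) m (conn I M m _) = lcι I 1 (ModuleCat.of R M) n (conn I M n f)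
      rw [conn_restrict I M h, lcι_proj])
  refine ⟨{ toFun := Φ, map_add' := Φ.map_add, map_smul' := ?_ }, hΦ⟩
  intro r x
  obtain ⟨n, φ, rfl⟩ := DT.ι_surj x
  rw [← map_smul, hΦ, hΦ]
  simp

/-- The canonical map `D_I(M) → H^1_I(M)`. -/
noncomputable def dtToH1 : LocCoh.DT I M →ₗ[R] (localCohomology I 1).obj (ModuleCat.of R M) :=
  (exists_dtToH1 I M).choose

theorem dtToH1_ι (n : ℕ) (φ : ↥(I ^ n) →ₗ[R] M) :
    dtToH1 I M (DT.ι I M n φ) = lcι I 1 (ModuleCat.of R M) n (conn I M n φ) :=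
  (exists_dtToH1 I M).choose_spec n φ

theorem dtToH1_surjective : Function.Surjective (dtToH1 I M) := by
  intro z
  obtain ⟨n, y, rfl⟩ := lcι_surj z
  obtain ⟨φ, rfl⟩ := conn_surjective I M n y
  exact ⟨_, dtToH1_ι I M n φ⟩

theorem ker_dtToH1 : LinearMap.ker (dtToH1 I M) = LinearMap.range (LocCoh.toDT I M) := by
  ext z
  rw [LinearMap.mem_ker, LinearMap.mem_range]
  constructor
  · intro hz
    obtain ⟨n, φ, rfl⟩ := DT.ι_surj z
    rw [dtToH1_ι, lcι_eq_zero_iff] at hz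
    obtain ⟨m, hnm, hm⟩ := hz
    rw [← conn_restrict, conn_eq_zero_iff] at hm
    obtain ⟨x, hx⟩ := hm
    refine ⟨x, ?_⟩
    rw [DT.toDT_eq' (n := m), ← hx, DT.ι_restrict hnm]
  · rintro ⟨x, rfl⟩
    rw [DT.toDT_eq, dtToH1_ι, (conn_eq_zero_iff I M 0 _).mpr ⟨x, rfl⟩, map_zero]

/-- `coker (M → D_I(M)) ≃ H^1_I(M)`. -/
noncomputable def cokerToDTEquiv :
    (LocCoh.DT I M ⧸ LinearMap.range (LocCoh.toDT I M)) ≃ₗ[R]
      (localCohomology I 1).obj (ModuleCat.of R M) :=
  (Submodule.quotEquivOfEq _ _ (ker_dtToH1 I M).symm).trans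
    ((dtToH1 I M).quotKerEquivOfSurjective (dtToH1_surjective I M))

end LC

end Groth.Agent.H6
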