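import Groth.Agent.Lib.Helper6.PSCotB

set_option autoImplicit false

universe u

namespace Groth.Agent.H6.PSCot

open IsLocalRing

variable {k : Type u} [Field k]

theorem ringKrullDim_mvPowerSeries_ge : ∀ d : ℕ, (d : WithBot ℕ∞) ≤ ringKrullDim (MvPowerSeries (Fin d) k) := by
  intro d
  induction d with
  | zero =>
    simpa using ringKrullDim_nonneg_of_nontrivial (R := MvPowerSeries (Fin 0) k)
  | succ n ih =>
    rw [ringKrullDim_eq_of_ringEquiv (MvPowerSeries.finSuccEquiv k n).toRingEquiv]
    refine le_trans ?_ ringKrullDim_succ_le_ringKrullDim_powerseries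
    push_cast
    gcongr

theorem spanFinrank_maximalIdeal_le (d : ℕ) :
    (maximalIdeal (MvPowerSeries (Fin d) k)).spanFinrank ≤ d := by
  rw [Groth.Agent.H4.MvPSVars.maximalIdeal_eq_span_range_X]
  refine (Submodule.spanFinrank_span_le_ncard_of_finite (Set.finite_range _)).trans ?_
  calc (Set.range (MvPowerSeries.X : Fin d → MvPowerSeries (Fin d) k)).ncard
      ≤ Nat.card (Fin d) := by
        rw [← Set.image_univ]
        refine (Set.ncard_image_le (Set.finite_univ)).trans ?_
        rw [Set.ncard_univ]
    _ = d := by simp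

theorem ringKrullDim_mvPowerSeries_le (d : ℕ) :
    ringKrullDim (MvPowerSeries (Fin d) k) ≤ (d : WithBot ℕ∞) := by
  refine (ringKrullDim_le_spanFinrank_maximalIdeal _).trans ?_
  exact_mod_cast spanFinrank_maximalIdeal_le d

theorem isRegularLocalRing_mvPowerSeries (d : ℕ) : IsRegularLocalRing (MvPowerSeries (Fin d) k) := by
  apply IsRegularLocalRing.of_spanFinrank_maximalIdeal_le
  refine le_trans ?_ (ringKrullDim_mvPowerSeries_ge d)
  exact_mod_cast spanFinrank_maximalIdeal_le d

section Psi

variable {d : ℕ} {R : Type u} [CommRing R] [IsLocalRing R] [IsNoetherianRing R] [Algebra k R]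
  [IsAdicComplete (maximalIdeal R) R]

omit [IsNoetherianRing R] [IsAdicComplete (maximalIdeal R) R] in
theorem finrank_cotangentSpace (b : Fin d → R) (hb : ∀ i, b i ∈ maximalIdeal R)
    (hli : LinearIndependent (ResidueField R)
      (fun i : Fin d => (maximalIdeal R).toCotangent ⟨b i, hb i⟩))
    (hsp : Submodule.span (ResidueField R)
      (Set.range (fun i : Fin d => (maximalIdeal R).toCotangent ⟨b i, hb i⟩)) = ⊤) :
    Module.finrank (ResidueField R) (CotangentSpace R) = d := by
  have B : Module.Basis (Fin d) (ResidueField R) (CotangentSpace R) := Module.Basis.mk hli hsp.ge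
  rw [Module.finrank_eq_card_basis B]
  simp

theorem regular_iff_bijective (χR : R →ₐ[k] k) (ψ : MvPowerSeries (Fin d) k →ₐ[k] R)
    (hψ : ∀ i, ψ (MvPowerSeries.X i) ∈ maximalIdeal R)
    (hb : LinearIndependent (ResidueField R)
      (fun i : Fin d => (maximalIdeal R).toCotangent ⟨ψ (MvPowerSeries.X i), hψ i⟩))
    (hsp : Submodule.span (ResidueField R)
      (Set.range (fun i : Fin d => (maximalIdeal R).toCotangent ⟨ψ (MvPowerSeries.X i), hψ i⟩)) = ⊤) :
    IsRegularLocalRing R ↔ Function.Bijective ψ := by
  have hsurj := psi_surjective χR ψ hψ hsp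
  have hfr := finrank_cotangentSpace _ hψ hb hsp
  constructor
  · intro hreg
    refine ⟨?_, hsurj⟩
    rw [injective_iff_map_eq_zero]
    intro f hf
    by_contra hne
    have hdimR : ringKrullDim R = (d : WithBot ℕ∞) := by
      rw [← (IsRegularLocalRing.iff_finrank_cotangentSpace R).1 hreg, hfr]
    have h1 := ringKrullDim_succ_le_of_surjective (ψ : MvPowerSeries (Fin d) k →+* R) hsurj
      (mem_nonZeroDivisors_of_ne_zero hne) hf
    rw [hdimR] at h1
    have h2 := h1.trans (ringKrullDim_mvPowerSeries_le d)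
    have : ((d + 1 : ℕ) : WithBot ℕ∞) ≤ (d : WithBot ℕ∞) := by
      push_cast
      exact h2
    have := (WithBot.coe_le_coe.1 this)
    have := (ENat.natCast_le_natCast.1 this)
    omega
  · intro hbij
    have e : MvPowerSeries (Fin d) k ≃+* R := RingEquiv.ofBijective (ψ : MvPowerSeries (Fin d) k →+* R) hbij
    have := isRegularLocalRing_mvPowerSeries (k := k) d
    exact IsRegularLocalRing.of_ringEquiv e

end Psi

end Groth.Agent.H6.PSCot
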