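import Mathlib

/-!
# helper6: adically complete rings with finitely generated ideal of definition are Noetherian

If `R` is `I`-adically complete, `I` is finitely generated and `R ⧸ I` is a finitely generated
algebra over a Noetherian ring `Λ`, then `R` is Noetherian (it is a quotient of a power series ring
over a polynomial ring over `Λ`).
-/

set_option autoImplicit false

namespace Groth.Agent.H6

open Ideal

/-- A ring which is adically complete for a finitely generated ideal `I`, such that `R ⧸ I` is a
finitely generated algebra over a Noetherian ring, is Noetherian. -/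
theorem isNoetherianRing_of_isAdicComplete_of_fg
    {Λ R : Type*} [CommRing Λ] [IsNoetherianRing Λ] [CommRing R] [Algebra Λ R]
    (I : Ideal R) [IsAdicComplete I R] (hI : I.FG)
    (hfin : Algebra.FiniteType Λ (R ⧸ I)) : IsNoetherianRing R := by
  classical
  obtain ⟨n, x, hx⟩ := Submodule.fg_iff_exists_fin_generating_family.mp hI
  obtain ⟨m, f, hf⟩ := Algebra.FiniteType.iff_quotient_mvPolynomial''.mp hfin
  choose y hy using fun j => Ideal.Quotient.mk_surjective (f (MvPolynomial.X j))
  let g : MvPolynomial (Fin m) Λ →ₐ[Λ] R := MvPolynomial.aeval y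
  have hg : ∀ p, Ideal.Quotient.mk I (g p) = f p := by
    intro p
    have : (Ideal.Quotient.mkₐ Λ I).comp g = f := by
      apply MvPolynomial.algHom_ext
      intro j
      simp [g, hy]
    exact congrArg (fun h => h p) this
  let e : MvPolynomial (Fin n) (MvPolynomial (Fin m) Λ) →+* R :=
    MvPolynomial.eval₂Hom (g : MvPolynomial (Fin m) Λ →+* R) x
  have heX : ∀ i, e (MvPolynomial.X i) = x i := fun i => by simp [e]
  have heC : ∀ p, e (MvPolynomial.C p) = g p := fun p => by simp [e]
  have he : (MvPolynomial.idealOfVars (Fin n) (MvPolynomial (Fin m) Λ)).map e = I := by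
    rw [MvPolynomial.idealOfVars, Ideal.map_span, ← Set.range_comp, ← hx]
    congr 1
    ext r
    simp [heX]
  have hek : ∀ N, (MvPolynomial.idealOfVars (Fin n) (MvPolynomial (Fin m) Λ)) ^ N ≤
      RingHom.ker ((Ideal.Quotient.mk (I ^ N)).comp e) := by
    intro N p hp
    rw [RingHom.mem_ker, RingHom.comp_apply, Ideal.Quotient.eq_zero_iff_mem, ← he, ← Ideal.map_pow]
    exact Ideal.mem_map_of_mem _ hp
  let fN : ∀ N, MvPowerSeries (Fin n) (MvPolynomial (Fin m) Λ) →+* R ⧸ I ^ N := fun N =>
    (Ideal.Quotient.lift _ ((Ideal.Quotient.mk (I ^ N)).comp e) (fun p hp => hek N hp)).comp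
      (MvPowerSeries.truncTotalAlgHom (Fin n) (MvPolynomial (Fin m) Λ) N).toRingHom
  have hfN : ∀ N p, fN N p = Ideal.Quotient.mk (I ^ N) (e (MvPowerSeries.truncTotal N p)) := by
    intro N p
    rfl
  have hcompat : ∀ {a b : ℕ} (hle : a ≤ b), (Ideal.Quotient.factorPow I hle).comp (fN b) = fN a := by
    intro a b hle
    ext p
    rw [RingHom.comp_apply, hfN, hfN, Ideal.Quotient.factorPow, Ideal.Quotient.factor_mk,
      Ideal.Quotient.eq, ← map_sub, ← he, ← Ideal.map_pow]
    exact Ideal.mem_map_of_mem _
      (MvPowerSeries.truncTotal_sub_truncTotal_mem_pow_idealOfVars hle le_rfl p)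
  let Φ : MvPowerSeries (Fin n) (MvPolynomial (Fin m) Λ) →+* R :=
    IsAdicComplete.liftRingHom I fN hcompat
  have hΦ : ∀ p : MvPolynomial (Fin n) (MvPolynomial (Fin m) Λ),
      Φ (p : MvPowerSeries (Fin n) (MvPolynomial (Fin m) Λ)) = e p := by
    intro p
    rw [IsHausdorff.eq_iff_smodEq (I := I)]
    intro N
    rw [SModEq, smul_eq_mul, Ideal.mul_top]
    change Ideal.Quotient.mk (I ^ N) _ = Ideal.Quotient.mk (I ^ N) _
    rw [IsAdicComplete.mk_liftRingHom]
    have := (MvPowerSeries.truncTotalAlgHom (Fin n) (MvPolynomial (Fin m) Λ) N).commutes p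
    change Ideal.Quotient.lift _ ((Ideal.Quotient.mk (I ^ N)).comp e) (fun p hp => hek N hp)
      ((MvPowerSeries.truncTotalAlgHom (Fin n) (MvPolynomial (Fin m) Λ) N) (algebraMap _ _ p)) = _
    rw [this]
    rfl
  have hΦX : ∀ i, Φ (MvPowerSeries.X i) = x i := by
    intro i
    rw [← heX, ← hΦ, MvPolynomial.coe_X]
  have hΦC : ∀ p, Φ (MvPowerSeries.C p) = g p := by
    intro p
    rw [← heC, ← hΦ, MvPolynomial.coe_C]
  have hmap : (Ideal.span (Set.range (MvPowerSeries.X : Fin n → _))).map Φ = I := by
    rw [Ideal.map_span, ← Set.range_comp, ← hx]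
    congr 1
    ext r
    simp [hΦX]
  have hsurj : Function.Surjective Φ := by
    have : IsHausdorff ((Ideal.span (Set.range (MvPowerSeries.X : Fin n → _))).map Φ) R := by
      rw [hmap]; infer_instance
    apply surjective_of_mk_map_comp_surjective
      (I := Ideal.span (Set.range (MvPowerSeries.X : Fin n → _))) Φ
    intro r
    obtain ⟨r, rfl⟩ := Ideal.Quotient.mk_surjective r
    obtain ⟨p, hp⟩ := hf (Ideal.Quotient.mk I r)
    refine ⟨MvPowerSeries.C p, ?_⟩
    rw [RingHom.comp_apply, hΦC, Ideal.Quotient.eq, hmap, ← Ideal.Quotient.eq, hg, hp]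
  exact isNoetherianRing_of_surjective _ _ Φ hsurj

/-- A quotient module of a precomplete module is precomplete. -/
theorem isPrecomplete_of_surjective {R M N : Type*} [CommRing R] (I : Ideal R)
    [AddCommGroup M] [Module R M] [AddCommGroup N] [Module R N] [IsPrecomplete I M]
    (f : M →ₗ[R] N) (hf : Function.Surjective f) : IsPrecomplete I N := by
  rw [← AdicCompletion.of_surjective_iff]
  intro y
  obtain ⟨x, rfl⟩ := AdicCompletion.map_surjective I hf y
  obtain ⟨m, rfl⟩ := AdicCompletion.of_surjective I M x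
  exact ⟨f m, (AdicCompletion.map_of I f m).symm⟩

/-- A quotient of a complete Noetherian local ring is complete. -/
theorem isAdicComplete_quotient {S : Type*} [CommRing S] [IsLocalRing S] [IsNoetherianRing S]
    [IsAdicComplete (IsLocalRing.maximalIdeal S) S] (J : Ideal S) [IsLocalRing (S ⧸ J)] :
    IsAdicComplete (IsLocalRing.maximalIdeal (S ⧸ J)) (S ⧸ J) := by
  haveI : IsPrecomplete (IsLocalRing.maximalIdeal S) (S ⧸ J) :=
    isPrecomplete_of_surjective (IsLocalRing.maximalIdeal S) (Submodule.mkQ J)
      (Submodule.mkQ_surjective J)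
  have h1 : IsPrecomplete ((IsLocalRing.maximalIdeal S).map (algebraMap S (S ⧸ J))) (S ⧸ J) :=
    IsPrecomplete.map_algebraMap_iff.2 inferInstance
  have h2 : (IsLocalRing.maximalIdeal S).map (algebraMap S (S ⧸ J)) =
      IsLocalRing.maximalIdeal (S ⧸ J) :=
    IsLocalRing.map_maximalIdeal_of_surjective (Ideal.Quotient.mk J) Ideal.Quotient.mk_surjective
  rw [h2] at h1
  exact { toIsHausdorff := inferInstance, toIsPrecomplete := h1 }

end Groth.Agent.H6
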