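import Mathlib
import Groth.Prelude.Def_EGA4b
import Groth.Agent.Lib.Helper6.SkLift
import Groth.Agent.Lib.Helper6.Catenary
import Groth.Agent.Lib.Helper6.CMKit
import Groth.Agent.Lib.Helper6.SkKit

/-! Chains of primes in a ring carrying a Cohen–Macaulay module with full support. -/

universe u
set_option linter.style.haveILetI false
open scoped Pointwise

namespace Groth.Agent.H6

namespace CMChain

variable {R : Type u} [CommRing R] [IsNoetherianRing R]

/-- for a covering `x ⋖ y` in `Spec R`, the ring `R_y / x R_y` has dimension one -/
theorem ringKrullDim_quotient_of_covBy {x y : PrimeSpectrum R} (hxy : x ⋖ y) :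
    ringKrullDim (Localization.AtPrime y.asIdeal ⧸
      x.asIdeal.map (algebraMap R (Localization.AtPrime y.asIdeal))) = 1 := by
  have hle : x.asIdeal ≤ y.asIdeal := hxy.le
  have hd : Disjoint (y.asIdeal.primeCompl : Set R) (x.asIdeal : Set R) := by
    rw [Set.disjoint_left]
    intro a ha hax
    exact ha (hle hax)
  haveI hP : (x.asIdeal.map (algebraMap R (Localization.AtPrime y.asIdeal))).IsPrime :=
    IsLocalization.isPrime_of_isPrime_disjoint y.asIdeal.primeCompl _ _ x.2 hd
  have hc : (x.asIdeal.map (algebraMap R (Localization.AtPrime y.asIdeal))).comap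
      (algebraMap R (Localization.AtPrime y.asIdeal)) = x.asIdeal :=
    IsLocalization.under_map_of_isPrime_disjoint y.asIdeal.primeCompl _ x.2 hd
  have h1 := Cat.ringKrullDim_quotient_eq_coheight
    (⟨_, hP⟩ : PrimeSpectrum (Localization.AtPrime y.asIdeal))
  change ringKrullDim (Localization.AtPrime y.asIdeal ⧸
      x.asIdeal.map (algebraMap R (Localization.AtPrime y.asIdeal))) = _ at h1
  rw [h1]
  have hcm : ∀ z : PrimeSpectrum (Localization.AtPrime y.asIdeal),
      z.asIdeal.comap (algebraMap R (Localization.AtPrime y.asIdeal)) = y.asIdeal →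
        z = IsLocalRing.closedPoint _ := by
    intro z hz
    apply PrimeSpectrum.ext
    change z.asIdeal = IsLocalRing.maximalIdeal _
    have hm : Ideal.map (algebraMap R (Localization.AtPrime y.asIdeal))
        (Ideal.comap (algebraMap R (Localization.AtPrime y.asIdeal)) z.asIdeal) = z.asIdeal :=
      IsLocalization.map_comap y.asIdeal.primeCompl (Localization.AtPrime y.asIdeal) z.asIdeal
    rw [← hm, hz, Localization.AtPrime.map_eq_maximalIdeal]
  have key : Order.coheight (⟨_, hP⟩ : PrimeSpectrum (Localization.AtPrime y.asIdeal)) = 1 := by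
    apply le_antisymm
    · have : Order.coheight (⟨_, hP⟩ : PrimeSpectrum (Localization.AtPrime y.asIdeal)) ≤
          ((1 : ℕ) : ℕ∞) := by
        rw [Order.coheight_le_coe_iff]
        intro z hz
        have hz' : x.asIdeal.map (algebraMap R (Localization.AtPrime y.asIdeal)) < z.asIdeal := hz
        set z' : PrimeSpectrum R := ⟨z.asIdeal.comap (algebraMap R (Localization.AtPrime y.asIdeal)),
          inferInstance⟩ with hz'def
        have hxz : x < z' := by
          refine lt_of_le_of_ne ?_ ?_
          · change x.asIdeal ≤ z'.asIdeal
            rw [← hc]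
            exact Ideal.comap_mono hz'.le
          · intro heq
            have hm : Ideal.map (algebraMap R (Localization.AtPrime y.asIdeal))
                (Ideal.comap (algebraMap R (Localization.AtPrime y.asIdeal)) z.asIdeal) =
                z.asIdeal :=
              IsLocalization.map_comap y.asIdeal.primeCompl (Localization.AtPrime y.asIdeal)
                z.asIdeal
            have h2 : z.asIdeal = x.asIdeal.map (algebraMap R (Localization.AtPrime y.asIdeal)) := by
              rw [← hm]
              change Ideal.map _ z'.asIdeal = _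
              rw [← heq]
            exact hz'.ne h2.symm
        have hzy : z' ≤ y := SkLift.comap_le (p := y.asIdeal) z
        have hzy' : z' = y := by
          by_contra hne
          exact hxy.2 hxz (lt_of_le_of_ne hzy hne)
        have := hcm z (congrArg PrimeSpectrum.asIdeal hzy')
        rw [this]
        have h0 : Order.coheight (IsLocalRing.closedPoint (Localization.AtPrime y.asIdeal)) = 0 := by
          rw [Order.coheight_eq_zero]
          intro w hw
          exact IsLocalRing.le_maximalIdeal w.2.ne_top
        rw [h0]
        exact_mod_cast zero_lt_one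
      exact_mod_cast this
    · have hlt : (⟨_, hP⟩ : PrimeSpectrum (Localization.AtPrime y.asIdeal)) <
          IsLocalRing.closedPoint _ := by
        refine lt_of_le_of_ne (IsLocalRing.le_maximalIdeal hP.ne_top) ?_
        intro heq
        have h2 : (x.asIdeal.map (algebraMap R (Localization.AtPrime y.asIdeal))).comap
            (algebraMap R (Localization.AtPrime y.asIdeal)) =
            (IsLocalRing.maximalIdeal (Localization.AtPrime y.asIdeal)).comap
              (algebraMap R (Localization.AtPrime y.asIdeal)) := by
          have := congrArg PrimeSpectrum.asIdeal heq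
          change x.asIdeal.map _ = IsLocalRing.maximalIdeal _ at this
          rw [this]
        have h3 : Ideal.comap (algebraMap R (Localization.AtPrime y.asIdeal))
            (IsLocalRing.maximalIdeal (Localization.AtPrime y.asIdeal)) = y.asIdeal :=
          IsLocalization.AtPrime.under_maximalIdeal (Localization.AtPrime y.asIdeal) y.asIdeal
        rw [hc, h3] at h2
        exact hxy.lt.ne (PrimeSpectrum.ext h2)
      have := Order.coheight_add_one_le hlt
      exact le_trans le_add_self this
  rw [key]
  rfl

section Full

variable {M : Type u} [AddCommGroup M] [Module R M]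

omit [IsNoetherianRing R] in
theorem supportDim_eq_of_support_eq_univ (h : Module.support R M = Set.univ) :
    Module.supportDim R M = ringKrullDim R := by
  unfold Module.supportDim ringKrullDim
  rw [h]
  exact Order.krullDim_eq_of_orderIso OrderIso.Set.univ

omit [IsNoetherianRing R] in
theorem support_localized_eq_univ (h : Module.support R M = Set.univ) (p : Ideal R) [p.IsPrime] :
    Module.support (Localization.AtPrime p) (LocalizedModule p.primeCompl M) = Set.univ := by
  rw [Set.eq_univ_iff_forall]
  intro Q
  rw [Sk.mem_support_localizedModule_iff, h]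
  trivial

/-- `dim R = dim R/p + ht p` when `R` carries a Cohen–Macaulay module with full support -/
theorem ringKrullDim_eq_add [IsLocalRing R] [Module.Finite R M]
    (hM : LocCoh.IsCohenMacaulayModule R M) (hsupp : Module.support R M = Set.univ)
    (p : PrimeSpectrum R) :
    ringKrullDim R = ringKrullDim (R ⧸ p.asIdeal) + (p.asIdeal.height : WithBot ℕ∞) := by
  obtain ⟨-, h2, h3⟩ := CM.cm_localization_aux M hM p (by rw [hsupp]; trivial)
  rw [supportDim_eq_of_support_eq_univ hsupp, h3,
    supportDim_eq_of_support_eq_univ (support_localized_eq_univ hsupp p.asIdeal),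
    IsLocalization.AtPrime.ringKrullDim_eq_height p.asIdeal (Localization.AtPrime p.asIdeal)] at h2
  exact h2

/-- heights go up by one along covering relations -/
theorem height_eq_add_one [IsLocalRing R] [Module.Finite R M]
    (hM : LocCoh.IsCohenMacaulayModule R M) (hsupp : Module.support R M = Set.univ)
    {x y : PrimeSpectrum R} (hxy : x ⋖ y) : y.asIdeal.height = x.asIdeal.height + 1 := by
  obtain ⟨h1, -, -⟩ := CM.cm_localization_aux M hM y (by rw [hsupp]; trivial)
  have hsupp' := support_localized_eq_univ hsupp y.asIdeal
  have hle : x.asIdeal ≤ y.asIdeal := hxy.le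
  have hd : Disjoint (y.asIdeal.primeCompl : Set R) (x.asIdeal : Set R) := by
    rw [Set.disjoint_left]
    intro a ha hax
    exact ha (hle hax)
  haveI hP : (x.asIdeal.map (algebraMap R (Localization.AtPrime y.asIdeal))).IsPrime :=
    IsLocalization.isPrime_of_isPrime_disjoint y.asIdeal.primeCompl _ _ x.2 hd
  haveI : IsNoetherianRing (Localization.AtPrime y.asIdeal) :=
    IsLocalization.isNoetherianRing y.asIdeal.primeCompl _ inferInstance
  haveI : Module.Finite (Localization.AtPrime y.asIdeal)
      (LocalizedModule y.asIdeal.primeCompl M) :=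
    Module.Finite.of_isLocalizedModule y.asIdeal.primeCompl
      (LocalizedModule.mkLinearMap y.asIdeal.primeCompl M)
  have key := ringKrullDim_eq_add h1 hsupp'
    (⟨_, hP⟩ : PrimeSpectrum (Localization.AtPrime y.asIdeal))
  change _ = ringKrullDim (Localization.AtPrime y.asIdeal ⧸
      x.asIdeal.map (algebraMap R (Localization.AtPrime y.asIdeal))) +
    (((x.asIdeal.map (algebraMap R (Localization.AtPrime y.asIdeal))).height : ℕ∞) :
      WithBot ℕ∞) at key
  rw [ringKrullDim_quotient_of_covBy hxy,
    IsLocalization.AtPrime.ringKrullDim_eq_height y.asIdeal (Localization.AtPrime y.asIdeal),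
    IsLocalization.height_map_of_disjoint y.asIdeal.primeCompl x.asIdeal hd] at key
  have : ((y.asIdeal.height : ℕ∞) : WithBot ℕ∞) = ((x.asIdeal.height + 1 : ℕ∞) : WithBot ℕ∞) := by
    rw [key, add_comm]
    rfl
  exact WithBot.coe_injective this

/-- every saturated chain from a minimal prime to the maximal ideal has length `dim R` -/
theorem length_eq_ringKrullDim [IsLocalRing R] [Module.Finite R M]
    (hM : LocCoh.IsCohenMacaulayModule R M) (hsupp : Module.support R M = Set.univ)
    (s : LTSeries (PrimeSpectrum R))
    (hhead : s.head.asIdeal ∈ minimalPrimes R) (hlast : s.last.asIdeal = IsLocalRing.maximalIdeal R)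
    (hsat : ∀ i : Fin s.length, s (Fin.castSucc i) ⋖ s (Fin.succ i)) :
    (s.length : WithBot ℕ∞) = ringKrullDim R := by
  have hind : ∀ (i : ℕ) (hi : i < s.length + 1), (s ⟨i, hi⟩).asIdeal.height = i := by
    intro i
    induction i with
    | zero =>
      intro hi
      have : (s ⟨0, hi⟩) = s.head := rfl
      rw [this, Nat.cast_zero, Ideal.height_eq_zero_iff]
      exact hhead
    | succ n ih =>
      intro hi
      have hn : n < s.length := by omega
      have h1 := hsat ⟨n, hn⟩
      have h2 := height_eq_add_one hM hsupp h1
      have e1 : s (Fin.castSucc ⟨n, hn⟩) = s ⟨n, by omega⟩ := rfl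
      have e2 : s (Fin.succ ⟨n, hn⟩) = s ⟨n + 1, hi⟩ := rfl
      rw [e1, e2, ih (by omega)] at h2
      rw [h2]
      push_cast
      rfl
  have hl := hind s.length (by omega)
  have : s ⟨s.length, by omega⟩ = s.last := rfl
  rw [this, hlast] at hl
  rw [← IsLocalRing.maximalIdeal_height_eq_ringKrullDim, hl]
  rfl

end Full

end CMChain

end Groth.Agent.H6
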