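import Mathlib
import Groth.Prelude.Def_CAlg
import Groth.Prelude.Def_Found
import Groth.Agent.Lib.Helper1.Cat1
import Groth.Agent.Lib.Helper6.CMChain

set_option autoImplicit false
universe u

namespace Groth.Agent.H6.CMCat

open Order Groth.Agent.H5

section Ord
variable {α : Type*} [PartialOrder α]

theorem height_last_eq (hdim : ∀ p q : α, p ⋖ q → height q = height p + 1)
    (s : LTSeries α) (hs : ∀ i : Fin s.length, s i.castSucc ⋖ s i.succ)
    (i : Fin (s.length + 1)) : height (s i) = height s.head + (i : ℕ) := by
  induction i using Fin.induction with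
  | zero => simp [RelSeries.head]
  | succ i ih =>
    rw [hdim _ _ (hs i), ih]
    simp only [Fin.val_castSucc, Fin.val_succ, Nat.cast_add, Nat.cast_one]
    rw [add_assoc]

theorem orderCatenary_of_heightFun (hfin : ∀ p : α, height p ≠ ⊤)
    (hdim : ∀ p q : α, p ⋖ q → height q = height p + 1) : OrderCatenary α := by
  refine ⟨fun p q _ => ⟨(height q).toNat, fun s _ hl => ?_⟩, fun s t hh hl hs ht => ?_⟩
  · have h1 : (s.length : ℕ∞) ≤ height s.last := length_le_height_last
    rw [hl] at h1
    rw [← ENat.natCast_toNat (hfin q)] at h1
    exact_mod_cast h1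
  · have e1 := height_last_eq hdim s hs (Fin.last _)
    have e2 := height_last_eq hdim t ht (Fin.last _)
    simp only [Fin.val_last] at e1 e2
    change height s.last = height s.head + _ at e1
    change height t.last = height t.head + _ at e2
    rw [hh, hl, e2] at e1
    have h2 : height t.head ≠ ⊤ := hfin _
    have := (ENat.add_right_injective_of_ne_top h2) e1
    exact_mod_cast this.symm

end Ord

theorem isCatenary_of_cmLocal (A : Type u) [CommRing A] [hA : LocCoh.IsCohenMacaulayLocalRing A] :
    CAlg.IsCatenary A := by
  rw [isCatenary_iff_orderCatenary]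
  have hh : ∀ p : PrimeSpectrum A, height p = p.asIdeal.height := by
    intro p
    exact (PrimeSpectrum.height_eq_orderHeight p).symm
  apply orderCatenary_of_heightFun
  · intro p
    rw [hh]
    exact Ideal.height_ne_top_of_isPrime
  · intro p q hpq
    rw [hh, hh]
    have hM : LocCoh.IsCohenMacaulayModule A A := hA.supportDim_eq_depth
    have hsupp : Module.support A A = Set.univ := by
      rw [Module.support_eq_zeroLocus, Module.annihilator_eq_bot.mpr inferInstance]
      simp
    exact Groth.Agent.H6.CMChain.height_eq_add_one hM hsupp hpq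

theorem isCatenary_of_cm (P : Type u) [CommRing P] [hP : LocCoh.IsCohenMacaulayRing P] :
    CAlg.IsCatenary P := by
  apply Groth.Agent.Lib.Helper1.Cat.isCatenary_of_localization_cover
  intro p
  refine ⟨p.asIdeal.primeCompl, Localization.AtPrime p.asIdeal, inferInstance, inferInstance,
    inferInstance, ?_, ?_⟩
  · rw [Set.disjoint_left]
    intro a ha hap
    exact ha hap
  · have := hP.isCohenMacaulayLocalRing_localization p.asIdeal
    exact isCatenary_of_cmLocal _

theorem isCatenary_of_ringEquiv {A B : Type u} [CommRing A] [CommRing B] (e : A ≃+* B)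
    (hA : CAlg.IsCatenary A) : CAlg.IsCatenary B := by
  rw [isCatenary_iff_orderCatenary] at hA ⊢
  exact OrderCatenary.of_orderIso (PrimeSpectrum.comapEquiv e).symm hA

end Groth.Agent.H6.CMCat
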