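import Mathlib
import Groth.Agent.Lib.Helper6.SkQuot
import Groth.Agent.Lib.Helper6.SkSurj
import Groth.Agent.Lib.Helper6.CMKit
import Groth.Agent.Lib.Helper6.SemiLin

universe u
set_option linter.style.haveILetI false
open scoped Pointwise

namespace Groth.Agent.H6.Liai

section cmsk
variable {A : Type u} [CommRing A]

/-- the localized module `A_p` of `A` is `A_p` -/
noncomputable def locSelf (p : Ideal A) [p.IsPrime] :
    LocalizedModule p.primeCompl A ≃ₗ[Localization.AtPrime p] Localization.AtPrime p :=
  (IsLocalizedModule.iso p.primeCompl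
    (Algebra.linearMap A (Localization.AtPrime p))).extendScalarsOfIsLocalization p.primeCompl
      (Localization.AtPrime p)

theorem hasSk_of_cm [hA : LocCoh.IsCohenMacaulayRing A] (k : ℕ) : LocCoh.HasSk k A A := by
  intro p hp
  haveI := hA.isCohenMacaulayLocalRing_localization p
  have h1 := (hA.isCohenMacaulayLocalRing_localization p).supportDim_eq_depth
  rw [Module.supportDim_eq_of_equiv (locSelf p)]
  have h2 : LocCoh.depth (Localization.AtPrime p) (LocalizedModule p.primeCompl A) =
      LocCoh.depth (Localization.AtPrime p) (Localization.AtPrime p) :=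
    CM.idealDepth_eq_of_linearEquiv _ (locSelf p)
  rw [h2, h1]
  exact min_le_right _ _

theorem cm_of_hasSk [IsNoetherianRing A] (h : ∀ k : ℕ, LocCoh.HasSk k A A) :
    LocCoh.IsCohenMacaulayRing A where
  isCohenMacaulayLocalRing_localization p hp := by
    haveI : IsNoetherianRing (Localization.AtPrime p) :=
      IsLocalization.isNoetherianRing p.primeCompl _ inferInstance
    refine { supportDim_eq_depth := ?_ }
    obtain ⟨d, hd1, hd2⟩ := Depth.exists_depth_eq (R := Localization.AtPrime p)
      (Localization.AtPrime p)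
    apply le_antisymm _ (by rw [hd1]; exact hd2)
    obtain ⟨n, hn⟩ := LC.exists_supportDim_eq (R := Localization.AtPrime p)
      (Localization.AtPrime p)
    have h1 := h n p
    rw [Module.supportDim_eq_of_equiv (locSelf p), hn, min_self] at h1
    have h2 : LocCoh.depth (Localization.AtPrime p) (LocalizedModule p.primeCompl A) =
        LocCoh.depth (Localization.AtPrime p) (Localization.AtPrime p) :=
      CM.idealDepth_eq_of_linearEquiv _ (locSelf p)
    rw [hn, ← h2]
    exact h1

/-- a CM ring modulo a regular element is CM -/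
theorem cm_quot_of_regular [hA : LocCoh.IsCohenMacaulayRing A] (f : A) (hf : IsSMulRegular A f) :
    LocCoh.IsCohenMacaulayRing (A ⧸ Ideal.span {f}) := by
  apply cm_of_hasSk
  intro k
  have h1 : LocCoh.HasSk k A (QuotSMulTop f A) :=
    Sk.hasSk_quotSMulTop k A f hf (hasSk_of_cm (k + 1))
  have e : (A ⧸ Ideal.span {f}) ≃ₗ[A] QuotSMulTop f A := by
    have h : Ideal.span {f} = f • (⊤ : Ideal A) := by
      simp [← Submodule.ideal_span_singleton_smul]
    exact Submodule.quotEquivOfEq _ _ h
  have h2 : LocCoh.HasSk k A (A ⧸ Ideal.span {f}) := Sk.hasSk_of_linearEquiv k e.symm h1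
  exact (SkSurj.hasSk_iff (A := A) (C := A ⧸ Ideal.span {f}) Ideal.Quotient.mk_surjective
    (A ⧸ Ideal.span {f}) k).mpr h2

end cmsk

theorem cmLocal_of_ringEquiv {R₁ R₂ : Type u} [CommRing R₁] [CommRing R₂] (σ : R₁ ≃+* R₂)
    [h : LocCoh.IsCohenMacaulayLocalRing R₁] : LocCoh.IsCohenMacaulayLocalRing R₂ := by
  haveI : IsNoetherianRing R₂ := isNoetherianRing_of_ringEquiv R₁ σ
  haveI : IsLocalRing R₂ := σ.isLocalRing
  obtain ⟨h1, h2⟩ := SemiLin.depth_and_dim_eq (M₁ := R₁) (M₂ := R₂) σ σ.toAddEquiv
    (fun r m => by simp)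
  exact { supportDim_eq_depth := by rw [← h1, ← h2]; exact h.supportDim_eq_depth }

theorem cm_of_ringEquiv {A B : Type u} [CommRing A] [CommRing B] (e : A ≃+* B)
    [hA : LocCoh.IsCohenMacaulayRing A] : LocCoh.IsCohenMacaulayRing B := by
  haveI : IsNoetherianRing B := isNoetherianRing_of_ringEquiv A e
  refine { isCohenMacaulayLocalRing_localization := fun P hP => ?_ }
  let p : Ideal A := P.comap e.toRingHom
  haveI : p.IsPrime := Ideal.comap_isPrime _ _
  have H : p.primeCompl.map e.toMonoidHom = P.primeCompl := by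
    ext y
    constructor
    · rintro ⟨x, hx, rfl⟩
      exact hx
    · intro hy
      refine ⟨e.symm y, ?_, by simp⟩
      change e.symm y ∉ p
      intro h
      apply hy
      have : e (e.symm y) ∈ P := h
      simpa using this
  haveI := hA.isCohenMacaulayLocalRing_localization p
  exact cmLocal_of_ringEquiv (IsLocalization.ringEquivOfRingEquiv (Localization.AtPrime p)
    (Localization.AtPrime P) e H)


/-- `R/(J + fR)` is CM if `R/J` is CM and `J : f = J` -/
theorem cm_quot_sup {R : Type u} [CommRing R] (J : Ideal R) [hJ : LocCoh.IsCohenMacaulayRing (R ⧸ J)]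
    (f : R) (hJf : J.colon {f} = J) : LocCoh.IsCohenMacaulayRing (R ⧸ (J ⊔ Ideal.span {f})) := by
  have hreg : IsSMulRegular (R ⧸ J) (Ideal.Quotient.mk J f) := by
    rw [isSMulRegular_iff_right_eq_zero_of_smul]
    intro x hx
    obtain ⟨x, rfl⟩ := Ideal.Quotient.mk_surjective x
    rw [smul_eq_mul, ← map_mul, Ideal.Quotient.eq_zero_iff_mem] at hx
    rw [Ideal.Quotient.eq_zero_iff_mem, ← hJf, Submodule.mem_colon_singleton, smul_eq_mul, mul_comm]
    exact hx
  haveI := cm_quot_of_regular (Ideal.Quotient.mk J f) hreg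
  have hmap : (Ideal.span {f}).map (Ideal.Quotient.mk J) = Ideal.span {Ideal.Quotient.mk J f} := by
    rw [Ideal.map_span, Set.image_singleton]
  exact cm_of_ringEquiv ((Ideal.quotEquivOfEq hmap.symm).trans
    (DoubleQuot.quotQuotEquivQuotSup J (Ideal.span {f})))

end Groth.Agent.H6.Liai
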