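import Mathlib

/-! Natural transformations between right exact additive functors on modules which are
isomorphisms on `R` are isomorphisms on all finite modules (Noetherian `R`). -/

universe u
open CategoryTheory CategoryTheory.Limits

namespace Groth.Agent.H6.EW

variable {R : Type u} [CommRing R]

/-- right exactness on short exact sequences of finite modules -/
structure RightExactFin (F : ModuleCat.{u} R ⥤ ModuleCat.{u} R) : Prop where
  surj : ∀ (S : ShortComplex (ModuleCat.{u} R)), S.ShortExact → Module.Finite R S.X₁ →
    Module.Finite R S.X₂ → Module.Finite R S.X₃ → Function.Surjective (F.map S.g).hom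
  exact : ∀ (S : ShortComplex (ModuleCat.{u} R)), S.ShortExact → Module.Finite R S.X₁ →
    Module.Finite R S.X₂ → Module.Finite R S.X₃ → ∀ y : F.obj S.X₂, (F.map S.g).hom y = 0 →
      ∃ x : F.obj S.X₁, (F.map S.f).hom x = y

variable {T D : ModuleCat.{u} R ⥤ ModuleCat.{u} R} (σ : T ⟶ D)

theorem naturality_apply {M M' : ModuleCat.{u} R} (f : M ⟶ M') (x : T.obj M) :
    (σ.app M').hom ((T.map f).hom x) = (D.map f).hom ((σ.app M).hom x) := by
  have := σ.naturality f
  exact congrArg (fun g => g.hom x) this

/-- `σ` bijective on `A` and `B` implies bijective on `A × B`. -/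
theorem bijective_prod [T.Additive] [D.Additive] (A B : Type u) [AddCommGroup A] [Module R A]
    [AddCommGroup B] [Module R B]
    (hA : Function.Bijective (σ.app (ModuleCat.of R A)).hom)
    (hB : Function.Bijective (σ.app (ModuleCat.of R B)).hom) :
    Function.Bijective (σ.app (ModuleCat.of R (A × B))).hom := by
  let i₁ : ModuleCat.of R A ⟶ ModuleCat.of R (A × B) := ModuleCat.ofHom (LinearMap.inl R A B)
  let i₂ : ModuleCat.of R B ⟶ ModuleCat.of R (A × B) := ModuleCat.ofHom (LinearMap.inr R A B)
  let p₁ : ModuleCat.of R (A × B) ⟶ ModuleCat.of R A := ModuleCat.ofHom (LinearMap.fst R A B)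
  let p₂ : ModuleCat.of R (A × B) ⟶ ModuleCat.of R B := ModuleCat.ofHom (LinearMap.snd R A B)
  have hsum : p₁ ≫ i₁ + p₂ ≫ i₂ = 𝟙 _ := by
    apply ModuleCat.hom_ext
    apply LinearMap.ext
    rintro ⟨a, b⟩
    change ((a, (0 : B)) : A × B) + ((0 : A), b) = (a, b)
    simp
  have hT : ∀ x : T.obj (ModuleCat.of R (A × B)),
      (T.map i₁).hom ((T.map p₁).hom x) + (T.map i₂).hom ((T.map p₂).hom x) = x := by
    intro x
    have h := congrArg (fun g => (T.map g).hom x) hsum
    simp only [Functor.map_add, Functor.map_comp] at h
    simpa using h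
  have hD : ∀ x : D.obj (ModuleCat.of R (A × B)),
      (D.map i₁).hom ((D.map p₁).hom x) + (D.map i₂).hom ((D.map p₂).hom x) = x := by
    intro x
    have h := congrArg (fun g => (D.map g).hom x) hsum
    simp only [Functor.map_add, Functor.map_comp] at h
    simpa using h
  constructor
  · rw [injective_iff_map_eq_zero]
    intro x hx
    have h1 : (T.map p₁).hom x = 0 := by
      apply hA.1
      rw [naturality_apply, hx, map_zero, map_zero]
    have h2 : (T.map p₂).hom x = 0 := by
      apply hB.1
      rw [naturality_apply, hx, map_zero, map_zero]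
    rw [← hT x, h1, h2, map_zero, map_zero, add_zero]
  · intro y
    obtain ⟨x₁, hx₁⟩ := hA.2 ((D.map p₁).hom y)
    obtain ⟨x₂, hx₂⟩ := hB.2 ((D.map p₂).hom y)
    refine ⟨(T.map i₁).hom x₁ + (T.map i₂).hom x₂, ?_⟩
    rw [map_add, naturality_apply, naturality_apply, hx₁, hx₂, hD y]


/-- bijectivity of `σ` is invariant under isomorphism -/
theorem bijective_of_iso {M M' : ModuleCat.{u} R} (e : M ≅ M')
    (h : Function.Bijective (σ.app M).hom) : Function.Bijective (σ.app M').hom := by
  have h1 : IsIso (σ.app M) := (ConcreteCategory.isIso_iff_bijective _).mpr h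
  have h2 : IsIso (σ.app M') := (NatTrans.isIso_app_iff_of_iso σ e).mp h1
  exact (ConcreteCategory.isIso_iff_bijective _).mp h2

theorem bijective_of_subsingleton [T.Additive] [D.Additive] (M : ModuleCat.{u} R)
    [Subsingleton M] : Function.Bijective (σ.app M).hom := by
  have hz : IsZero M := ModuleCat.isZero_of_subsingleton M
  haveI : Subsingleton (T.obj M) := ModuleCat.subsingleton_of_isZero (T.map_isZero hz)
  haveI : Subsingleton (D.obj M) := ModuleCat.subsingleton_of_isZero (D.map_isZero hz)
  exact ⟨fun a b _ => Subsingleton.elim a b, fun y => ⟨0, Subsingleton.elim _ _⟩⟩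

/-- `σ` is bijective on finite free modules. -/
theorem bijective_free [T.Additive] [D.Additive]
    (h1 : Function.Bijective (σ.app (ModuleCat.of R R)).hom) (b : ℕ) :
    Function.Bijective (σ.app (ModuleCat.of R (Fin b → R))).hom := by
  induction b with
  | zero => exact bijective_of_subsingleton σ _
  | succ b ih =>
    have h := bijective_prod σ R (Fin b → R) h1 ih
    exact bijective_of_iso σ
      (Fin.consLinearEquiv R (fun _ : Fin (b + 1) => R)).toModuleIso h

/-- **Five lemma**: a natural transformation between right exact functors which is bijective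
on `R` is bijective on all finite modules. -/
theorem bijective_of_finite [IsNoetherianRing R] [T.Additive] [D.Additive]
    (hT : RightExactFin T) (hD : RightExactFin D)
    (h1 : Function.Bijective (σ.app (ModuleCat.of R R)).hom)
    (M : Type u) [AddCommGroup M] [Module R M] [Module.Finite R M] :
    Function.Bijective (σ.app (ModuleCat.of R M)).hom := by
  have hfree := bijective_free σ h1
  -- surjectivity, for all finite modules
  have hsurj : ∀ (M : Type u) [AddCommGroup M] [Module R M] [Module.Finite R M],
      Function.Surjective (σ.app (ModuleCat.of R M)).hom := by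
    intro M _ _ _
    obtain ⟨b, π, hπ⟩ := Module.Finite.exists_fin' R M
    have hS := LinearMap.shortExact_shortComplexKer hπ
    haveI : IsNoetherian R (Fin b → R) := isNoetherian_of_isNoetherianRing_of_finite R _
    have hfinK : Module.Finite R (LinearMap.ker π) := Module.IsNoetherian.finite R _
    have hDs := hD.surj _ hS hfinK (Module.Finite.pi) ‹Module.Finite R M›
    intro y
    obtain ⟨z, rfl⟩ := hDs y
    obtain ⟨w, rfl⟩ := (hfree b).2 z
    exact ⟨(T.map (ModuleCat.ofHom π)).hom w, naturality_apply σ _ w⟩
  refine ⟨?_, hsurj M⟩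
  rw [injective_iff_map_eq_zero]
  intro x hx
  obtain ⟨b, π, hπ⟩ := Module.Finite.exists_fin' R M
  have hS := LinearMap.shortExact_shortComplexKer hπ
  haveI : IsNoetherian R (Fin b → R) := isNoetherian_of_isNoetherianRing_of_finite R _
  have hfinK : Module.Finite R (LinearMap.ker π) := Module.IsNoetherian.finite R _
  have hTs := hT.surj _ hS hfinK (Module.Finite.pi) ‹Module.Finite R M›
  obtain ⟨y, rfl⟩ := hTs x
  have h2 : (D.map π.shortComplexKer.g).hom ((σ.app _).hom y) = 0 := by
    rw [← naturality_apply]; exact hx
  obtain ⟨z, hz⟩ := hD.exact _ hS hfinK (Module.Finite.pi) ‹Module.Finite R M› _ h2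
  obtain ⟨w, rfl⟩ := hsurj (LinearMap.ker π) z
  have h3 : y = (T.map π.shortComplexKer.f).hom w := by
    apply (hfree b).1
    rw [naturality_apply]; exact hz.symm
  rw [h3, ← ModuleCat.comp_apply, ← T.map_comp, π.shortComplexKer.zero, T.map_zero]
  rfl

end Groth.Agent.H6.EW
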