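import Mathlib
import Groth.Agent.Lib.Helper6.NatFin

/-! Eilenberg–Watts for right exact linear functors on finite modules. -/

universe u
open CategoryTheory CategoryTheory.Limits TensorProduct

namespace Groth.Agent.H6.EW

variable {R : Type u} [CommRing R]

/-- the functor `M ↦ M ⊗ X` -/
noncomputable def tens (X : Type u) [AddCommGroup X] [Module R X] :
    ModuleCat.{u} R ⥤ ModuleCat.{u} R where
  obj M := ModuleCat.of R (M ⊗[R] X)
  map {M M'} f := ModuleCat.ofHom (f.hom.rTensor X)
  map_id M := by
    apply ModuleCat.hom_ext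
    change LinearMap.rTensor X LinearMap.id = LinearMap.id
    exact LinearMap.rTensor_id X M
  map_comp f g := by
    apply ModuleCat.hom_ext
    change LinearMap.rTensor X (g.hom ∘ₗ f.hom) = (LinearMap.rTensor X g.hom) ∘ₗ (LinearMap.rTensor X f.hom)
    exact LinearMap.rTensor_comp X g.hom f.hom

variable (X : Type u) [AddCommGroup X] [Module R X]

instance tensAdditive : (tens (R := R) X).Additive where
  map_add {M M' f g} := by
    apply ModuleCat.hom_ext
    change LinearMap.rTensor X (f + g).hom = LinearMap.rTensor X f.hom + LinearMap.rTensor X g.hom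
    rw [ModuleCat.hom_add, LinearMap.rTensor_add]

theorem tens_rightExactFin : RightExactFin (tens (R := R) X) where
  surj S hS _ _ _ := LinearMap.rTensor_surjective X hS.moduleCat_surjective_g
  exact S hS _ _ _ y hy := by
    have hex : Function.Exact S.f.hom S.g.hom :=
      (ShortComplex.ShortExact.moduleCat_exact_iff_function_exact S).mp hS.exact
    have := rTensor_exact X hex hS.moduleCat_surjective_g
    exact (this y).mp hy

variable {F : ModuleCat.{u} R ⥤ ModuleCat.{u} R} [F.Additive] [F.Linear R]

/-- `ρ_m : R → M`, `1 ↦ m` -/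
noncomputable def rho {M : ModuleCat.{u} R} (m : M) : ModuleCat.of R R ⟶ M :=
  ModuleCat.ofHom (LinearMap.toSpanSingleton R M m)

theorem rho_add {M : ModuleCat.{u} R} (m m' : M) : rho (m + m') = rho m + rho m' := by
  apply ModuleCat.hom_ext
  ext
  simp [rho]

theorem rho_smul {M : ModuleCat.{u} R} (r : R) (m : M) : rho (r • m) = r • rho m := by
  apply ModuleCat.hom_ext
  ext
  simp [rho]

theorem rho_comp {M M' : ModuleCat.{u} R} (f : M ⟶ M') (m : M) : rho m ≫ f = rho (f.hom m) := by
  apply ModuleCat.hom_ext
  ext
  simp [rho]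

variable (F)

/-- the Eilenberg–Watts map `M ⊗ F(R) → F(M)` -/
noncomputable def nuApp (M : ModuleCat.{u} R) :
    M ⊗[R] F.obj (ModuleCat.of R R) →ₗ[R] F.obj M :=
  TensorProduct.lift
    { toFun := fun m => (F.map (rho m)).hom
      map_add' := fun m m' => by rw [rho_add, F.map_add, ModuleCat.hom_add]
      map_smul' := fun r m => by rw [rho_smul, F.map_smul, ModuleCat.hom_smul]; rfl }

theorem nuApp_tmul (M : ModuleCat.{u} R) (m : M) (x : F.obj (ModuleCat.of R R)) :
    nuApp F M (m ⊗ₜ x) = (F.map (rho m)).hom x := rfl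

/-- the Eilenberg–Watts natural transformation -/
noncomputable def nu : tens (R := R) (F.obj (ModuleCat.of R R)) ⟶ F where
  app M := ModuleCat.ofHom (nuApp F M)
  naturality M M' f := by
    apply ModuleCat.hom_ext
    apply TensorProduct.ext'
    intro m x
    change nuApp F M' ((f.hom m) ⊗ₜ x) = (F.map f).hom (nuApp F M (m ⊗ₜ x))
    rw [nuApp_tmul, nuApp_tmul, ← rho_comp, F.map_comp]
    rfl

theorem nu_bijective_self : Function.Bijective ((nu F).app (ModuleCat.of R R)).hom := by
  have h : ((nu F).app (ModuleCat.of R R)).hom =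
      (TensorProduct.lid R (F.obj (ModuleCat.of R R))).toLinearMap := by
    apply TensorProduct.ext'
    intro (r : R) x
    change nuApp F (ModuleCat.of R R) (r ⊗ₜ x) = r • x
    rw [nuApp_tmul]
    have : rho (M := ModuleCat.of R R) r = r • 𝟙 (ModuleCat.of R R) := by
      apply ModuleCat.hom_ext
      ext
      simp [rho]
    rw [this, F.map_smul, F.map_id]
    rfl
  rw [h]
  exact (TensorProduct.lid R _).bijective

/-- **Eilenberg–Watts**: `M ⊗ F(R) ≃ F(M)` for finite `M`. -/
theorem nu_bijective [IsNoetherianRing R] (hF : RightExactFin F) (M : Type u) [AddCommGroup M]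
    [Module R M] [Module.Finite R M] : Function.Bijective ((nu F).app (ModuleCat.of R M)).hom :=
  bijective_of_finite (nu F) (tens_rightExactFin _) hF (nu_bijective_self F) M

end Groth.Agent.H6.EW
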