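import Mathlib
import Groth.Agent.Lib.Helper6.NatFin
import Groth.Agent.Lib.Helper6.LCExact
import Groth.Agent.Lib.Helper6.LCProps
import Groth.Agent.Lib.Helper6.LCGroVanish

universe u
open CategoryTheory CategoryTheory.Limits

namespace Groth.Agent.H6.EW

variable {R : Type u} [CommRing R]

/-- local cohomology is an additive functor -/
instance lcAdditive (I : Ideal R) (i : ℕ) : (localCohomology I i).Additive where
  map_add {X Y f g} := by
    ext x
    exact LC.map_add_hom f g x

/-- `H^n_I` is right exact on finite modules if `dim R ≤ n`. -/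
theorem lc_rightExactFin [IsNoetherianRing R] (I : Ideal R) (n : ℕ)
    (hn : ringKrullDim R ≤ (n : WithBot ℕ∞)) : RightExactFin (localCohomology I n) where
  surj S hS h1 h2 h3 := by
    intro z
    apply LC.exact₃ hS z
    haveI : Subsingleton ((localCohomology I (n + 1)).obj S.X₁) := by
      haveI : Module.Finite R S.X₁ := h1
      apply LC.subsingleton_of_supportDim_lt I S.X₁ (n + 1)
      refine lt_of_le_of_lt ((Module.supportDim_le_ringKrullDim R S.X₁).trans hn) ?_
      exact_mod_cast Nat.lt_succ_self n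
    exact Subsingleton.elim _ _
  exact S hS h1 h2 h3 y hy := LC.exact₂ hS y hy

/-- the double dual functor `M ↦ Hom(Hom(M, P), Q)` -/
noncomputable def ddual (P Q : Type u) [AddCommGroup P] [Module R P] [AddCommGroup Q] [Module R Q] :
    ModuleCat.{u} R ⥤ ModuleCat.{u} R where
  obj M := ModuleCat.of R ((M →ₗ[R] P) →ₗ[R] Q)
  map {M M'} f := ModuleCat.ofHom
    { toFun := fun y => y ∘ₗ (LinearMap.lcomp R P f.hom)
      map_add' := fun y y' => by ext φ; rfl
      map_smul' := fun r y => by ext φ; rfl }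
  map_id M := by
    ext y φ
    rfl
  map_comp f g := by
    ext y φ
    rfl

variable (P Q : Type u) [AddCommGroup P] [Module R P] [AddCommGroup Q] [Module R Q]

theorem ddual_map_apply {M M' : ModuleCat.{u} R} (f : M ⟶ M') (y : (M →ₗ[R] P) →ₗ[R] Q)
    (φ : M' →ₗ[R] P) :
    (show (M' →ₗ[R] P) →ₗ[R] Q from ((ddual P Q).map f).hom y) φ = y (φ ∘ₗ f.hom) :=
  rfl

instance ddualAdditive : (ddual (R := R) P Q).Additive where
  map_add {X Y f g} := by
    apply ModuleCat.hom_ext
    apply LinearMap.ext
    intro (y : (X →ₗ[R] P) →ₗ[R] Q)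
    apply LinearMap.ext
    intro (φ : Y →ₗ[R] P)
    change y (φ ∘ₗ (f + g).hom) = y (φ ∘ₗ f.hom) + y (φ ∘ₗ g.hom)
    rw [ModuleCat.hom_add, LinearMap.comp_add, map_add]

theorem ddual_rightExactFin [Module.Injective R Q] : RightExactFin (ddual (R := R) P Q) where
  surj S hS _ _ _ := by
    intro (z : (S.X₃ →ₗ[R] P) →ₗ[R] Q)
    -- `Hom(X₃, P) → Hom(X₂, P)` is injective
    have hinj : Function.Injective (LinearMap.lcomp R P S.g.hom) := by
      intro φ ψ h
      ext x
      obtain ⟨x', rfl⟩ := hS.moduleCat_surjective_g x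
      exact LinearMap.congr_fun h x'
    obtain ⟨y, hy⟩ := Module.Injective.extension_property R Q _ _ (LinearMap.lcomp R P S.g.hom)
      hinj z
    exact ⟨y, hy⟩
  exact S hS _ _ _ := by
    intro (y : (S.X₂ →ₗ[R] P) →ₗ[R] Q) hy
    have hy' : ∀ φ : S.X₃ →ₗ[R] P, y (φ ∘ₗ S.g.hom) = 0 := fun φ => LinearMap.congr_fun hy φ
    -- `y` vanishes on the kernel of `Hom(X₂, P) → Hom(X₁, P)`
    have hker : LinearMap.ker (LinearMap.lcomp R P S.f.hom) ≤ LinearMap.ker y := by
      intro φ hφ
      rw [LinearMap.mem_ker] at hφ ⊢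
      -- `φ` factors through `X₃`
      have hφ' : ∀ x : S.X₁, φ (S.f.hom x) = 0 := fun x => LinearMap.congr_fun hφ x
      have hle : LinearMap.ker S.g.hom ≤ LinearMap.ker φ := by
        intro x hx
        obtain ⟨x₁, rfl⟩ := (ShortComplex.moduleCat_exact_iff S).mp hS.exact x hx
        exact hφ' x₁
      let ψ : S.X₃ →ₗ[R] P :=
        ((LinearMap.ker S.g.hom).liftQ φ hle).comp
          (S.g.hom.quotKerEquivOfSurjective hS.moduleCat_surjective_g).symm.toLinearMap
      have hψ : ψ ∘ₗ S.g.hom = φ := by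
        ext x
        change ((LinearMap.ker S.g.hom).liftQ φ hle)
          ((S.g.hom.quotKerEquivOfSurjective hS.moduleCat_surjective_g).symm (S.g.hom x)) = φ x
        have : (S.g.hom.quotKerEquivOfSurjective hS.moduleCat_surjective_g).symm (S.g.hom x) =
            Submodule.Quotient.mk x := by
          apply (S.g.hom.quotKerEquivOfSurjective hS.moduleCat_surjective_g).injective
          rw [LinearEquiv.apply_symm_apply]
          rfl
        rw [this, Submodule.liftQ_apply]
      rw [← hψ]
      exact hy' ψ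
    -- factor through the range
    let y' : LinearMap.range (LinearMap.lcomp R P S.f.hom) →ₗ[R] Q :=
      ((LinearMap.ker (LinearMap.lcomp R P S.f.hom)).liftQ y hker).comp
        (LinearMap.quotKerEquivRange (LinearMap.lcomp R P S.f.hom)).symm.toLinearMap
    obtain ⟨x, hx⟩ := Module.Injective.extension_property R Q _ _
      (LinearMap.range (LinearMap.lcomp R P S.f.hom)).subtype (Submodule.injective_subtype _) y'
    refine ⟨x, ?_⟩
    apply LinearMap.ext
    intro φ
    change x (φ ∘ₗ S.f.hom) = y φ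
    have h1 : x (φ ∘ₗ S.f.hom) = y' ⟨φ ∘ₗ S.f.hom, ⟨φ, rfl⟩⟩ := by
      rw [← hx]; rfl
    rw [h1]
    change ((LinearMap.ker (LinearMap.lcomp R P S.f.hom)).liftQ y hker)
      ((LinearMap.quotKerEquivRange (LinearMap.lcomp R P S.f.hom)).symm ⟨φ ∘ₗ S.f.hom, ⟨φ, rfl⟩⟩) = y φ
    have h2 : (LinearMap.quotKerEquivRange (LinearMap.lcomp R P S.f.hom)).symm
        ⟨φ ∘ₗ S.f.hom, ⟨φ, rfl⟩⟩ = Submodule.Quotient.mk φ := by
      apply (LinearMap.quotKerEquivRange (LinearMap.lcomp R P S.f.hom)).injective
      rw [LinearEquiv.apply_symm_apply]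
      rfl
    rw [h2, Submodule.liftQ_apply]


section Sigma

variable (I : Ideal R) (n : ℕ)

/-- the value of `σ` at `M` -/
noncomputable def sigmaApp (M : ModuleCat.{u} R) :
    (localCohomology I n).obj M →ₗ[R]
      ((M →ₗ[R] R) →ₗ[R] (localCohomology I n).obj (ModuleCat.of R R)) where
  toFun t :=
    { toFun := fun φ => ((localCohomology I n).map (ModuleCat.ofHom φ)).hom t
      map_add' := fun φ ψ => by
        rw [ModuleCat.ofHom_add]
        exact LC.map_add_hom _ _ t
      map_smul' := fun r φ => by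
        have : ModuleCat.ofHom (r • φ) = r • ModuleCat.ofHom φ := rfl
        rw [this]
        exact LC.map_smul_hom r _ t }
  map_add' t t' := by
    ext φ
    exact map_add ((localCohomology I n).map (ModuleCat.ofHom φ)).hom t t'
  map_smul' r t := by
    ext φ
    exact map_smul ((localCohomology I n).map (ModuleCat.ofHom φ)).hom r t

theorem sigmaApp_apply (M : ModuleCat.{u} R) (t : (localCohomology I n).obj M)
    (φ : M →ₗ[R] R) :
    sigmaApp I n M t φ = ((localCohomology I n).map (ModuleCat.ofHom φ)).hom t := rfl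

/-- the natural transformation `H^n_I(M) → Hom(Hom(M, R), H^n_I(R))` -/
noncomputable def sigma :
    localCohomology I n ⟶ ddual (R := R) R ((localCohomology I n).obj (ModuleCat.of R R)) where
  app M := ModuleCat.ofHom (sigmaApp I n M)
  naturality M M' f := by
    apply ModuleCat.hom_ext
    apply LinearMap.ext
    intro t
    apply LinearMap.ext
    intro (φ : M' →ₗ[R] R)
    change sigmaApp I n M' (((localCohomology I n).map f).hom t) φ =
      sigmaApp I n M t (φ ∘ₗ f.hom)
    rw [sigmaApp_apply, sigmaApp_apply, ← ModuleCat.comp_apply, ← Functor.map_comp]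
    rfl

theorem sigma_bijective_self :
    Function.Bijective ((sigma I n).app (ModuleCat.of R R)).hom := by
  constructor
  · rw [injective_iff_map_eq_zero]
    intro t ht
    have h1 : sigmaApp I n (ModuleCat.of R R) t LinearMap.id = 0 := by
      have := LinearMap.congr_fun ht (LinearMap.id : R →ₗ[R] R)
      exact this
    rw [sigmaApp_apply] at h1
    have h2 : ModuleCat.ofHom (LinearMap.id : R →ₗ[R] R) = 𝟙 (ModuleCat.of R R) := rfl
    rw [h2, CategoryTheory.Functor.map_id] at h1
    exact h1
  · intro (y : (R →ₗ[R] R) →ₗ[R] (localCohomology I n).obj (ModuleCat.of R R))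
    refine ⟨y LinearMap.id, ?_⟩
    apply LinearMap.ext
    intro (φ : R →ₗ[R] R)
    change sigmaApp I n (ModuleCat.of R R) (y LinearMap.id) φ = y φ
    rw [sigmaApp_apply]
    have h1 : φ = φ 1 • (LinearMap.id : R →ₗ[R] R) := by
      ext
      simp
    have h2 : ModuleCat.ofHom φ = φ 1 • 𝟙 (ModuleCat.of R R) := by
      conv_lhs => rw [h1]
      rfl
    rw [h2, LC.map_smul_id, ← map_smul, ← h1]

end Sigma

end Groth.Agent.H6.EW
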