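import Mathlib
import Groth.Agent.Lib.Helper6.EWatts
import Groth.Agent.Lib.Helper6.LDSigma

universe u
open CategoryTheory CategoryTheory.Limits TensorProduct

namespace Groth.Agent.H6.EW

variable {R : Type u} [CommRing R] [IsNoetherianRing R]

section Compare

variable (F G : ModuleCat.{u} R ⥤ ModuleCat.{u} R) [F.Additive] [F.Linear R] [G.Additive]
  [G.Linear R] (hF : RightExactFin F) (hG : RightExactFin G)
  (c : F.obj (ModuleCat.of R R) ≃ₗ[R] G.obj (ModuleCat.of R R))

/-- two right exact linear functors which agree on `R` agree on finite modules -/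
noncomputable def theta (M : Type u) [AddCommGroup M] [Module R M] [Module.Finite R M] :
    F.obj (ModuleCat.of R M) ≃ₗ[R] G.obj (ModuleCat.of R M) :=
  (LinearEquiv.ofBijective (nuApp F (ModuleCat.of R M)) (nu_bijective F hF M)).symm.trans
    ((TensorProduct.congr (LinearEquiv.refl R M) c).trans
      (LinearEquiv.ofBijective (nuApp G (ModuleCat.of R M)) (nu_bijective G hG M)))

theorem theta_nu (M : Type u) [AddCommGroup M] [Module R M] [Module.Finite R M]
    (s : M ⊗[R] F.obj (ModuleCat.of R R)) :
    theta F G hF hG c M (nuApp F (ModuleCat.of R M) s) =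
      nuApp G (ModuleCat.of R M) (TensorProduct.congr (LinearEquiv.refl R M) c s) := by
  unfold theta
  rw [LinearEquiv.trans_apply, LinearEquiv.trans_apply]
  have : (LinearEquiv.ofBijective (nuApp F (ModuleCat.of R M)) (nu_bijective F hF M)).symm
      (nuApp F (ModuleCat.of R M) s) = s :=
    (LinearEquiv.ofBijective (nuApp F (ModuleCat.of R M)) (nu_bijective F hF M)).symm_apply_apply s
  rw [this]
  rfl

theorem theta_naturality {M M' : Type u} [AddCommGroup M] [Module R M] [Module.Finite R M]
    [AddCommGroup M'] [Module R M'] [Module.Finite R M']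
    (f : ModuleCat.of R M ⟶ ModuleCat.of R M') (t : F.obj (ModuleCat.of R M)) :
    theta F G hF hG c M' ((F.map f).hom t) = (G.map f).hom (theta F G hF hG c M t) := by
  have hcomm : ∀ s : M ⊗[R] F.obj (ModuleCat.of R R),
      TensorProduct.congr (LinearEquiv.refl R M') c (f.hom.rTensor _ s) =
        f.hom.rTensor _ (TensorProduct.congr (LinearEquiv.refl R M) c s) := by
    intro s
    induction s using TensorProduct.induction_on with
    | zero => simp
    | tmul m x => rfl
    | add a b ha hb => simp only [map_add, ha, hb]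
  obtain ⟨s', hs'⟩ := (nu_bijective F hF M).2 t
  obtain ⟨s, rfl⟩ : ∃ s : M ⊗[R] F.obj (ModuleCat.of R R), s = s' := ⟨s', rfl⟩
  have ht : t = nuApp F (ModuleCat.of R M) s := hs'.symm
  subst ht
  have h1 : (F.map f).hom (nuApp F (ModuleCat.of R M) s) =
      nuApp F (ModuleCat.of R M') (f.hom.rTensor _ s) :=
    (naturality_apply (nu F) f s).symm
  rw [h1, theta_nu, theta_nu]
  have h2 : (G.map f).hom (nuApp G (ModuleCat.of R M)
      (TensorProduct.congr (LinearEquiv.refl R M) c s)) =
      nuApp G (ModuleCat.of R M') (f.hom.rTensor _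
        (TensorProduct.congr (LinearEquiv.refl R M) c s)) :=
    (naturality_apply (nu G) f _).symm
  rw [h2, hcomm]

end Compare


instance lcLinear (I : Ideal R) (i : ℕ) : (localCohomology I i).Linear R where
  map_smul {X Y} f r := by
    ext x
    exact LC.map_smul_hom r f x

instance ddualLinear (P Q : Type u) [AddCommGroup P] [Module R P] [AddCommGroup Q] [Module R Q] :
    (ddual (R := R) P Q).Linear R where
  map_smul {X Y} f r := by
    apply ModuleCat.hom_ext
    apply LinearMap.ext
    intro (y : (X →ₗ[R] P) →ₗ[R] Q)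
    apply LinearMap.ext
    intro (φ : Y →ₗ[R] P)
    change y (φ ∘ₗ (r • f).hom) = r • y (φ ∘ₗ f.hom)
    rw [ModuleCat.hom_smul, LinearMap.comp_smul, map_smul]

section Canonical

variable (I : Ideal R) (n : ℕ) (hdim : ringKrullDim R ≤ (n : WithBot ℕ∞))
  (E K : Type u) [AddCommGroup E] [Module R E] [Module.Injective R E]
  [AddCommGroup K] [Module R K]
  (eK : (K →ₗ[R] E) ≃ₗ[R] (localCohomology I n).obj (ModuleCat.of R R))

/-- the identification `H^n_I(R) ≃ Hom(Hom(R, K), E)` -/
noncomputable def cK : (localCohomology I n).obj (ModuleCat.of R R) ≃ₗ[R]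
    (ddual (R := R) K E).obj (ModuleCat.of R R) :=
  eK.symm.trans (LinearEquiv.congrLeft E R (LinearMap.ringLmapEquivSelf R R K).symm)

/-- **S7698 with naturality**: `H^n_I(M) ≃ Hom(Hom(M, K), E)` -/
noncomputable def canEquiv (M : Type u) [AddCommGroup M] [Module R M] [Module.Finite R M] :
    (localCohomology I n).obj (ModuleCat.of R M) ≃ₗ[R] ((M →ₗ[R] K) →ₗ[R] E) :=
  theta (localCohomology I n) (ddual (R := R) K E) (lc_rightExactFin I n hdim)
    (ddual_rightExactFin K E) (cK I n E K eK) M

theorem canEquiv_naturality {M M' : Type u} [AddCommGroup M] [Module R M] [Module.Finite R M]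
    [AddCommGroup M'] [Module R M'] [Module.Finite R M']
    (f : ModuleCat.of R M ⟶ ModuleCat.of R M') (t : (localCohomology I n).obj (ModuleCat.of R M))
    (φ : M' →ₗ[R] K) :
    canEquiv I n hdim E K eK M' (((localCohomology I n).map f).hom t) φ =
      canEquiv I n hdim E K eK M t (φ ∘ₗ f.hom) := by
  have := theta_naturality (localCohomology I n) (ddual (R := R) K E) (lc_rightExactFin I n hdim)
    (ddual_rightExactFin K E) (cK I n E K eK) f t
  exact LinearMap.congr_fun this φ

end Canonical

end Groth.Agent.H6.EW
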