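import Mathlib
import Groth.Agent.Lib.Helper6.LCLib
import Groth.Agent.Lib.Helper6.LCProps
import Groth.Agent.Lib.Helper6.LCZero

/-! Reduction of local cohomology of arbitrary modules to finitely generated submodules:
every class in `Ext^i(F, N)` (`F` finitely generated, `R` Noetherian) and every class in
`H^i_I(N)` comes from a finitely generated submodule of `N`. -/

set_option backward.isDefEq.respectTransparency false

universe u
open CategoryTheory CategoryTheory.Limits Opposite CategoryTheory.Abelian

namespace Groth.Agent.H6

namespace LC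

variable {R : Type u} [CommRing R]

/-- Over a Noetherian ring, every class in `Ext^i(F, N)` with `F` finitely generated comes from a
finitely generated submodule of `N`. -/
theorem ext_exists_fg [IsNoetherianRing R] (i : ℕ) :
    ∀ (F : Type u) [AddCommGroup F] [Module R F] [Module.Finite R F] (N : ModuleCat.{u} R)
      (x : Ext (ModuleCat.of R F) N i),
      ∃ (N' : Submodule R N) (_ : N'.FG) (x' : Ext (ModuleCat.of R F) (ModuleCat.of R N') i),
        x'.comp (Ext.mk₀ (ModuleCat.ofHom N'.subtype)) (add_zero i) = x := by
  induction i with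
  | zero =>
    intro F _ _ _ N x
    obtain ⟨f, rfl⟩ := exists_mk₀ x
    refine ⟨LinearMap.range f.hom, ?_, Ext.mk₀ (ModuleCat.ofHom f.hom.rangeRestrict), ?_⟩
    · rw [LinearMap.range_eq_map]
      exact Submodule.FG.map _ Module.Finite.fg_top
    · rw [Ext.mk₀_comp_mk₀]
      congr 1
  | succ i ih =>
    intro F _ _ _ N x
    obtain ⟨n, π, hπ⟩ := Module.Finite.exists_fin' R F
    have hS := LinearMap.shortExact_shortComplexKer (f := π) hπ
    haveI : IsNoetherian R (Fin n → R) := isNoetherian_of_isNoetherianRing_of_finite R _
    haveI : Module.Finite R (LinearMap.ker π) := Module.Finite.of_fg (IsNoetherian.noetherian _)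
    haveI : Projective (ModuleCat.of R (Fin n → R)) :=
      (ModuleCat.of R (Fin n → R)).projective_of_categoryTheory_projective
    have h0 : (Ext.mk₀ (ModuleCat.ofHom π)).comp x (zero_add (i + 1)) = 0 :=
      Ext.eq_zero_of_projective _
    obtain ⟨x₁, hx₁⟩ := Ext.contravariant_sequence_exact₃ hS N x h0 (add_comm 1 i)
    obtain ⟨N', hN', x₁', hx₁'⟩ := ih (LinearMap.ker π) N x₁
    refine ⟨N', hN', hS.extClass.comp x₁' (add_comm 1 i), ?_⟩
    rw [Ext.comp_assoc_of_third_deg_zero, hx₁', hx₁]

/-- Every local cohomology class of a module over a Noetherian ring comes from a finitely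
generated submodule. -/
theorem exists_fg_lift [IsNoetherianRing R] (I : Ideal R) (i : ℕ) (N : ModuleCat.{u} R)
    (x : (localCohomology I i).obj N) :
    ∃ (N' : Submodule R N) (_ : N'.FG) (x' : (localCohomology I i).obj (ModuleCat.of R N')),
      ((localCohomology I i).map (ModuleCat.ofHom N'.subtype)).hom x' = x := by
  obtain ⟨n, y, rfl⟩ := lcι_surj x
  obtain ⟨N', hN', y', hy'⟩ := ext_exists_fg i (R ⧸ I ^ n) N y
  exact ⟨N', hN', lcι I i _ n y', by rw [map_lcι, hy']⟩

/-- Vanishing of `H^i_I` on all finitely generated submodules implies vanishing on the module. -/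
theorem subsingleton_of_forall_fg [IsNoetherianRing R] (I : Ideal R) (i : ℕ) (N : Type u)
    [AddCommGroup N] [Module R N]
    (h : ∀ N' : Submodule R N, N'.FG → Subsingleton (LocCoh.H I i N')) :
    Subsingleton (LocCoh.H I i N) := by
  refine ⟨fun x y => ?_⟩
  have h0 : ∀ z : LocCoh.H I i N, z = 0 := by
    intro z
    obtain ⟨N', hN', z', rfl⟩ := exists_fg_lift I i (ModuleCat.of R N) z
    haveI := h N' hN'
    have : z' = 0 := Subsingleton.elim _ _
    rw [this, map_zero]
  rw [h0 x, h0 y]

/-- Vanishing of `H^i_I` on all finitely generated modules implies vanishing on all modules. -/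
theorem subsingleton_of_forall_finite [IsNoetherianRing R] (I : Ideal R) (i : ℕ)
    (h : ∀ (F : Type u) [AddCommGroup F] [Module R F] [Module.Finite R F],
      Subsingleton (LocCoh.H I i F)) (N : Type u) [AddCommGroup N] [Module R N] :
    Subsingleton (LocCoh.H I i N) := by
  apply subsingleton_of_forall_fg
  intro N' hN'
  haveI : Module.Finite R N' := Module.Finite.of_fg hN'
  exact h N'

end LC

end Groth.Agent.H6
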