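import Mathlib
import Groth.Prelude.Def_Wider
import Groth.Agent.Lib.Helper6.LCFg
import Groth.Agent.Lib.Helper6.LCNonvanish
import Groth.Agent.S0326
import Groth.Agent.S0325
import Groth.Agent.Lib.Helper6.DimLemmas

/-! Cohomological dimension: reduction to the ring itself and to the top-dimensional primes. -/

universe u
open CategoryTheory CategoryTheory.Limits Opposite CategoryTheory.Abelian
open Pointwise

namespace Groth.Agent.H6

namespace LC

variable {R : Type u} [CommRing R] [IsNoetherianRing R]

/-- vanishing of the outer terms of an exact sequence implies vanishing of the middle term -/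
theorem subsingleton_of_exact (I : Ideal R) (i : ℕ) {N₁ N₂ N₃ : Type u} [AddCommGroup N₁]
    [Module R N₁] [AddCommGroup N₂] [Module R N₂] [AddCommGroup N₃] [Module R N₃]
    (f : N₁ →ₗ[R] N₂) (g : N₂ →ₗ[R] N₃) (hf : Function.Injective f) (hg : Function.Surjective g)
    (hex : Function.Exact f g) (h1 : Subsingleton (LocCoh.H I i N₁))
    (h3 : Subsingleton (LocCoh.H I i N₃)) : Subsingleton (LocCoh.H I i N₂) := by
  have w : ModuleCat.ofHom f ≫ ModuleCat.ofHom g = 0 := by
    apply ModuleCat.hom_ext
    apply LinearMap.ext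
    intro x
    exact (hex _).mpr ⟨x, rfl⟩
  have hS : (ShortComplex.mk (ModuleCat.ofHom f) (ModuleCat.ofHom g) w).ShortExact :=
    ModuleCat.shortComplex_shortExact _ hex hf hg
  refine ⟨fun a b => ?_⟩
  have h0 : ∀ y : LocCoh.H I i N₂, y = 0 := by
    intro y
    obtain ⟨x, rfl⟩ := exact₂ hS y (Subsingleton.elim (h := h3) _ _)
    rw [Subsingleton.elim (h := h1) x 0, map_zero]
  rw [h0 a, h0 b]

/-- `H^i_I(R) = 0` implies `H^i_I(R^n) = 0` -/
theorem subsingleton_free (I : Ideal R) (i : ℕ) (h : Subsingleton (LocCoh.H I i R)) (n : ℕ) :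
    Subsingleton (LocCoh.H I i (Fin n → R)) := by
  have h1 : Subsingleton ((localCohomology I i).obj (ModuleCat.of R (Fin n →₀ R))) := by
    refine ⟨fun a b => ?_⟩
    have h0 : ∀ y : (localCohomology I i).obj (ModuleCat.of R (Fin n →₀ R)), y = 0 := by
      intro y
      have := smul_eq_zero_finsupp (I := I) (i := i) (X := R) (1 : R)
        (fun x => by rw [one_smul]; exact Subsingleton.elim (h := h) _ _) n y
      rwa [one_smul] at this
    rw [h0 a, h0 b]
  exact subsingleton_of_linearEquiv (Finsupp.linearEquivFunOnFinite R R (Fin n)) h1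

/-- one step of the descending induction: if `H^i_I(R) = 0` and `H^{i+1}_I` vanishes on all
finitely generated modules, then `H^i_I` vanishes on all modules. -/
theorem subsingleton_of_ring_of_succ (I : Ideal R) (i : ℕ) (h : Subsingleton (LocCoh.H I i R))
    (hsucc : ∀ (F : Type u) [AddCommGroup F] [Module R F] [Module.Finite R F],
      Subsingleton (LocCoh.H I (i + 1) F))
    (N : Type u) [AddCommGroup N] [Module R N] : Subsingleton (LocCoh.H I i N) := by
  apply subsingleton_of_forall_finite
  intro F _ _ _
  obtain ⟨n, π, hπ⟩ := Module.Finite.exists_fin' R F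
  have hS := LinearMap.shortExact_shortComplexKer (f := π) hπ
  haveI : IsNoetherian R (Fin n → R) := isNoetherian_of_isNoetherianRing_of_finite R _
  haveI : Module.Finite R (LinearMap.ker π) := Module.Finite.of_fg (IsNoetherian.noetherian _)
  have hsurj := map_g_surjective (I := I) hS i (hsucc (LinearMap.ker π))
  have hfree := subsingleton_free I i h n
  refine ⟨fun a b => ?_⟩
  have h0 : ∀ y : LocCoh.H I i F, y = 0 := by
    intro y
    obtain ⟨x, rfl⟩ := hsurj y
    rw [Subsingleton.elim (h := hfree) x 0, map_zero]
  rw [h0 a, h0 b]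

/-- the cohomological dimension is detected on the ring itself -/
theorem cdLE_of_ring (I : Ideal R) (d : ℕ)
    (h : ∀ i : ℕ, d < i → Subsingleton (LocCoh.H I i R)) : LocCoh.CdLE R I d := by
  classical
  obtain ⟨s, hs⟩ := (isNoetherianRing_iff_ideal_fg R).mp inferInstance I
  have hcard := Groth.Agent.S0326.result R s
  rw [hs] at hcard
  have key : ∀ k : ℕ, ∀ i : ℕ, d < i → s.card < i + k →
      ∀ (N : Type u) [AddCommGroup N] [Module R N], Subsingleton (LocCoh.H I i N) := by
    intro k
    induction k with
    | zero =>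
      intro i _ hi N _ _
      exact hcard N i (by omega)
    | succ k ih =>
      intro i hdi hi N _ _
      apply subsingleton_of_ring_of_succ I i (h i hdi)
      intro F _ _ _
      exact ih (i + 1) (by omega) (by omega) F
  intro N _ _ i hi
  exact key (s.card + 1) i hi (by omega) N

/-- if `H^n_I(M) = 0` for a finitely generated module `M` of dimension `≤ n`, then
`H^n_I(R/p) = 0` for every prime `p` in the support of `M` with `dim R/p = n`. -/
theorem subsingleton_quot_of_subsingleton (I : Ideal R) (n : ℕ) (M : Type u) [AddCommGroup M]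
    [Module R M] [Module.Finite R M] (hn : Module.supportDim R M ≤ n) (p : Ideal R)
    [hp : p.IsPrime] (hann : Module.annihilator R M ≤ p)
    (hdim : ringKrullDim (R ⧸ p) = (n : WithBot ℕ∞)) (hM : Subsingleton (LocCoh.H I n M)) :
    Subsingleton (LocCoh.H I n (R ⧸ p)) := by
  obtain ⟨f, hf⟩ := exists_ne_zero_hom_quot M p hann
  -- `H^n(M) → H^n(range f)` is surjective
  have hK : Subsingleton (LocCoh.H I (n + 1) (LinearMap.ker f)) := by
    haveI : IsNoetherian R M := isNoetherian_of_isNoetherianRing_of_finite R M
    apply subsingleton_of_supportDim_lt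
    refine lt_of_le_of_lt (Module.supportDim_le_of_injective (LinearMap.ker f).subtype
      (Submodule.injective_subtype _)) ?_
    refine lt_of_le_of_lt hn ?_
    exact_mod_cast Nat.lt_succ_self n
  have hsurj1 := map_rangeRestrict_surjective (I := I) f n hK
  -- `H^n(range f) → H^n(R/p)` is surjective
  have hS2 := subSES_shortExact (LinearMap.range f)
  have hC : Subsingleton (LocCoh.H I n ((R ⧸ p) ⧸ LinearMap.range f)) := by
    apply subsingleton_of_supportDim_lt
    -- a nonzero element of the range
    obtain ⟨m, hm⟩ : ∃ m : M, f m ≠ 0 := by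
      by_contra hcon
      push_neg at hcon
      exact hf (LinearMap.ext hcon)
    obtain ⟨y, hy⟩ := Submodule.Quotient.mk_surjective p (f m)
    have hyp : y ∉ p := fun h => hm (by rw [← hy]; exact (Submodule.Quotient.mk_eq_zero p).mpr h)
    -- `(R/p)/range f` is a quotient of `(R/p)/y(R/p)`
    have hle : y • (⊤ : Submodule R (R ⧸ p)) ≤ LinearMap.range f := by
      intro z hz
      obtain ⟨d, -, rfl⟩ := (Submodule.mem_smul_pointwise_iff_exists _ _ _).mp hz
      obtain ⟨c, rfl⟩ := Submodule.Quotient.mk_surjective p d
      refine ⟨c • m, ?_⟩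
      rw [map_smul, ← hy]
      change c • Submodule.Quotient.mk y = y • Submodule.Quotient.mk c
      rw [← Submodule.Quotient.mk_smul, ← Submodule.Quotient.mk_smul, smul_eq_mul, smul_eq_mul,
        mul_comm]
    have h1 : Module.supportDim R ((R ⧸ p) ⧸ LinearMap.range f) ≤
        Module.supportDim R (QuotSMulTop y (R ⧸ p)) :=
      Module.supportDim_le_of_surjective (Submodule.mapQ _ _ LinearMap.id hle)
        (fun q => by
          obtain ⟨d, rfl⟩ := Submodule.Quotient.mk_surjective _ q
          exact ⟨Submodule.Quotient.mk d, rfl⟩)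
    have h2 : Module.supportDim R (QuotSMulTop y (R ⧸ p)) + 1 ≤ Module.supportDim R (R ⧸ p) := by
      apply Module.supportDim_quotSMulTop_succ_le_of_notMem_minimalPrimes
      intro q hq
      rw [Ideal.annihilator_quotient, Ideal.minimalPrimes_eq_subsingleton_self] at hq
      rw [Set.mem_singleton_iff.mp hq]
      exact hyp
    rw [Module.supportDim_quotient_eq_ringKrullDim, hdim] at h2
    exact lt_of_le_of_lt h1 (withBot_lt_of_add_one_le _ n h2)
  have hsurj2 := map_f_surjective (I := I) hS2 n hC
  refine ⟨fun a b => ?_⟩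
  have h0 : ∀ c : LocCoh.H I n (R ⧸ p), c = 0 := by
    intro c
    obtain ⟨z, rfl⟩ := hsurj2 c
    obtain ⟨w, rfl⟩ := hsurj1 z
    rw [Subsingleton.elim (h := hM) w 0, map_zero, map_zero]
  rw [h0 a, h0 b]

/-- if `dim R = d` and `H^d_I(M) = 0` for one finitely generated module `M` whose support contains
all the primes `p` with `dim R/p = d`, then `H^d_I` vanishes on all modules. -/
theorem subsingleton_top_of_support (I : Ideal R) (d : ℕ) (hd : ringKrullDim R = d) (M : Type u)
    [AddCommGroup M] [Module R M] [Module.Finite R M]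
    (hsupp : ∀ p : Ideal R, p.IsPrime → ringKrullDim (R ⧸ p) = (d : WithBot ℕ∞) →
      Module.annihilator R M ≤ p)
    (hvan : Subsingleton (LocCoh.H I d M)) (N : Type u) [AddCommGroup N] [Module R N] :
    Subsingleton (LocCoh.H I d N) := by
  apply subsingleton_of_forall_finite
  intro F _ _ hF
  have hMd : Module.supportDim R M ≤ d := hd ▸ Module.supportDim_le_ringKrullDim R M
  refine IsNoetherianRing.induction_on_isQuotientEquivQuotientPrime R hF
    (motive := fun N _ _ _ => Subsingleton (LocCoh.H I d N)) ?_ ?_ ?_
  · intro N _ _ _ _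
    exact subsingleton_of_subsingleton I d N
  · intro N _ _ _ p e
    haveI := p.2
    have hle : ringKrullDim (R ⧸ p.1) ≤ (d : WithBot ℕ∞) := hd ▸ ringKrullDim_quotient_le p.1
    have hq : Subsingleton (LocCoh.H I d (R ⧸ p.1)) := by
      rcases lt_or_eq_of_le hle with hlt | heq
      · apply subsingleton_of_supportDim_lt
        rw [Module.supportDim_quotient_eq_ringKrullDim]
        exact hlt
      · exact subsingleton_quot_of_subsingleton I d M hMd p.1 (hsupp p.1 p.2 heq) heq hvan
    exact subsingleton_of_linearEquiv e.symm hq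
  · intro N₁ _ _ _ N₂ _ _ _ N₃ _ _ _ f g hf hg hex h1 h3
    exact subsingleton_of_exact I d f g hf hg hex h1 h3

/-- an element avoiding the top-dimensional minimal primes cuts down the dimension of every
finitely generated module below `dim R` -/
theorem supportDim_quotSMulTop_lt (d : ℕ) (hd : ringKrullDim R = d) (f : R)
    (hf : ∀ p ∈ minimalPrimes R, ringKrullDim (R ⧸ p) = (d : WithBot ℕ∞) → f ∉ p) (M : Type u)
    [AddCommGroup M] [Module R M] [Module.Finite R M] :
    Module.supportDim R (QuotSMulTop f M) < (d : WithBot ℕ∞) := by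
  have hle : Module.supportDim R (QuotSMulTop f M) ≤ d :=
    hd ▸ Module.supportDim_le_ringKrullDim R _
  rcases lt_or_eq_of_le hle with h | h
  · exact h
  · exfalso
    obtain ⟨q, hq, hann, hdim⟩ := exists_prime_ringKrullDim_eq (QuotSMulTop f M) d h
    haveI := hq
    have hmin := Dim.mem_minimalPrimes_of_ringKrullDim_quotient_eq d hd q hdim
    apply hf q hmin hdim
    apply hann
    rw [Module.mem_annihilator]
    intro y
    obtain ⟨m, rfl⟩ := Submodule.Quotient.mk_surjective _ y
    rw [← Submodule.Quotient.mk_smul, Submodule.Quotient.mk_eq_zero]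
    exact Submodule.smul_mem_pointwise_smul m f ⊤ Submodule.mem_top

end LC

end Groth.Agent.H6
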