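import Mathlib
import Groth.Agent.Lib.Helper6.LCExact

universe u
open CategoryTheory CategoryTheory.Abelian

namespace Groth.Agent.H6.LD

variable {R : Type u} [CommRing R]

section LinAlg

variable {A A' B B' C Q : Type*} [AddCommGroup A] [Module R A] [AddCommGroup A'] [Module R A']
  [AddCommGroup B] [Module R B] [AddCommGroup B'] [Module R B'] [AddCommGroup C] [Module R C]
  [AddCommGroup Q] [Module R Q]

/-- transport of kernels along an equivalence -/
noncomputable def kerEquiv (e : A ≃ₗ[R] A') (f : A →ₗ[R] B) (f' : A' →ₗ[R] B')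
    (h : ∀ x, f x = 0 ↔ f' (e x) = 0) : LinearMap.ker f ≃ₗ[R] LinearMap.ker f' :=
  e.ofSubmodules (LinearMap.ker f) (LinearMap.ker f') (by
    ext y
    constructor
    · rintro ⟨x, hx, rfl⟩
      exact (h x).mp hx
    · intro hy
      refine ⟨e.symm y, ?_, e.apply_symm_apply y⟩
      change f (e.symm y) = 0
      rw [h, e.apply_symm_apply]
      exact hy)

/-- the dual of a cokernel is the kernel of the dual -/
noncomputable def dualCokerEquiv (a : A →ₗ[R] B) (b : B →ₗ[R] C) (hb : Function.Surjective b)
    (hab : LinearMap.ker b = LinearMap.range a) (Q : Type*) [AddCommGroup Q] [Module R Q] :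
    (C →ₗ[R] Q) ≃ₗ[R] LinearMap.ker (LinearMap.lcomp R Q a) :=
  LinearEquiv.ofBijective
    ((LinearMap.lcomp R Q b).codRestrict _ (fun z => by
      rw [LinearMap.mem_ker]
      ext x
      change z (b (a x)) = 0
      have : a x ∈ LinearMap.ker b := by rw [hab]; exact ⟨x, rfl⟩
      rw [LinearMap.mem_ker.mp this, map_zero]))
    (by
      constructor
      · rw [← LinearMap.ker_eq_bot, eq_bot_iff]
        intro z hz
        rw [LinearMap.mem_ker] at hz
        rw [Submodule.mem_bot]
        ext c
        obtain ⟨y, rfl⟩ := hb c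
        have := congrArg Subtype.val hz
        exact LinearMap.congr_fun this y
      · rintro ⟨y, hy⟩
        rw [LinearMap.mem_ker] at hy
        have hle : LinearMap.ker b ≤ LinearMap.ker y := by
          rw [hab]
          rintro _ ⟨x, rfl⟩
          exact LinearMap.congr_fun hy x
        refine ⟨((LinearMap.ker b).liftQ y hle).comp
          (b.quotKerEquivOfSurjective hb).symm.toLinearMap, ?_⟩
        apply Subtype.ext
        ext x
        change ((LinearMap.ker b).liftQ y hle) ((b.quotKerEquivOfSurjective hb).symm (b x)) = y x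
        have : (b.quotKerEquivOfSurjective hb).symm (b x) = Submodule.Quotient.mk x := by
          apply (b.quotKerEquivOfSurjective hb).injective
          rw [LinearEquiv.apply_symm_apply]
          rfl
        rw [this, Submodule.liftQ_apply])

end LinAlg

section LC

variable {I : Ideal R} {S : ShortComplex (ModuleCat.{u} R)} (hS : S.ShortExact)

/-- Lemma A: `H^j(X₃) ≃ ker (H^{j+1}(X₁) → H^{j+1}(X₂))` when `H^j(X₂) = 0`. -/
noncomputable def lcKerEquiv (j : ℕ) (h0 : Subsingleton ((localCohomology I j).obj S.X₂)) :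
    (localCohomology I j).obj S.X₃ ≃ₗ[R] LinearMap.ker ((localCohomology I (j + 1)).map S.f).hom :=
  LinearEquiv.ofBijective
    ((LC.δ hS I j).codRestrict _ (fun z => by
      rw [LinearMap.mem_ker]
      exact LC.map_δ hS z))
    (by
      constructor
      · rw [← LinearMap.ker_eq_bot, eq_bot_iff]
        intro z hz
        rw [LinearMap.mem_ker] at hz
        have hz' : LC.δ hS I j z = 0 := congrArg Subtype.val hz
        obtain ⟨y, rfl⟩ := LC.exact₃ hS z hz'
        rw [h0.elim y 0, map_zero]
        exact Submodule.zero_mem _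
      · rintro ⟨x, hx⟩
        rw [LinearMap.mem_ker] at hx
        obtain ⟨z, hz⟩ := LC.exact₁ hS x hx
        exact ⟨z, Subtype.ext hz⟩)

end LC

section ExtSide

variable {S : ShortComplex (ModuleCat.{u} R)} (hS : S.ShortExact) (Y : ModuleCat.{u} R)

/-- restriction `Ext^i(X₂, Y) → Ext^i(X₁, Y)` -/
noncomputable abbrev res (i : ℕ) : Ext S.X₂ Y i →ₗ[R] Ext S.X₁ Y i :=
  (Ext.mk₀ S.f).precompOfLinear R Y (zero_add i)

/-- Lemma B: `Hom(Ext^{i+1}(X₃, Y), Q) ≃ ker (Hom(Ext^i(X₁, Y), Q) → Hom(Ext^i(X₂, Y), Q))` when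
`Ext^{i+1}(X₂, Y) = 0`. -/
noncomputable def extKerEquiv (i : ℕ) (h0 : Subsingleton (Ext S.X₂ Y (i + 1)))
    (Q : Type u) [AddCommGroup Q] [Module R Q] :
    (Ext S.X₃ Y (i + 1) →ₗ[R] Q) ≃ₗ[R] LinearMap.ker (LinearMap.lcomp R Q (res (S := S) Y i)) :=
  dualCokerEquiv (res (S := S) Y i) (hS.extClass.precompOfLinear R Y (add_comm 1 i))
    (by
      intro x₃
      exact Ext.contravariant_sequence_exact₃ hS Y x₃ (h0.elim _ _) (add_comm 1 i))
    (by
      ext x₁
      constructor
      · intro hx
        rw [LinearMap.mem_ker] at hx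
        exact Ext.contravariant_sequence_exact₁ hS Y x₁ (add_comm 1 i) hx
      · rintro ⟨x₂, rfl⟩
        rw [LinearMap.mem_ker]
        change hS.extClass.comp ((Ext.mk₀ S.f).comp x₂ (zero_add i)) (add_comm 1 i) = 0
        rw [← Ext.comp_assoc_of_second_deg_zero, hS.extClass_comp, Ext.zero_comp])
    Q

end ExtSide

end Groth.Agent.H6.LD
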