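import Mathlib
import Groth.Agent.Lib.Helper6.LDSigma
import Groth.Agent.Lib.Helper6.LDKer
import Groth.Agent.Lib.Helper6.LCCd

universe u
open CategoryTheory CategoryTheory.Abelian

namespace Groth.Agent.H6.LD

variable {R : Type u} [CommRing R] [IsNoetherianRing R] (I : Ideal R) (N : ℕ)

/-- `Ext^0(X, R) ≃ Hom(X, R)` -/
noncomputable def c (X : ModuleCat.{u} R) : Ext X (ModuleCat.of R R) 0 ≃ₗ[R] (X →ₗ[R] R) :=
  Ext.linearEquiv₀.trans ModuleCat.homLinearEquiv

theorem c_mk₀ (X : ModuleCat.{u} R) (g : X ⟶ ModuleCat.of R R) : c X (Ext.mk₀ g) = g.hom := by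
  change (Ext.linearEquiv₀ (R := R) (Ext.mk₀ g)).hom = g.hom
  congr 1
  apply (Ext.mk₀_bijective _ _).1
  rw [Ext.mk₀_linearEquiv₀_apply]

theorem c_comp {X X' : ModuleCat.{u} R} (f : X ⟶ X') (x' : Ext X' (ModuleCat.of R R) 0) :
    c X ((Ext.mk₀ f).comp x' (zero_add 0)) = (c X' x') ∘ₗ f.hom := by
  obtain ⟨g, rfl⟩ := (Ext.mk₀_bijective _ _).2 x'
  rw [Ext.mk₀_comp_mk₀, c_mk₀, c_mk₀]
  rfl

variable (hdim : ringKrullDim R ≤ (N : WithBot ℕ∞))
  [hinj : Module.Injective R ((localCohomology I N).obj (ModuleCat.of R R))]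

include hdim in
theorem sigma_bijective (M : Type u) [AddCommGroup M] [Module R M] [Module.Finite R M] :
    Function.Bijective ((EW.sigma I N).app (ModuleCat.of R M)).hom :=
  EW.bijective_of_finite (EW.sigma I N) (EW.lc_rightExactFin I N hdim)
    (EW.ddual_rightExactFin _ _) (EW.sigma_bijective_self I N) M

/-- the degree zero duality isomorphism -/
noncomputable def e0 (M : Type u) [AddCommGroup M] [Module R M] [Module.Finite R M] :
    (localCohomology I N).obj (ModuleCat.of R M) ≃ₗ[R]
      (Ext (ModuleCat.of R M) (ModuleCat.of R R) 0 →ₗ[R]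
        (localCohomology I N).obj (ModuleCat.of R R)) :=
  (LinearEquiv.ofBijective (EW.sigmaApp I N (ModuleCat.of R M)) (sigma_bijective I N hdim M)).trans
    (LinearEquiv.congrLeft _ R (c (ModuleCat.of R M)).symm)

theorem e0_apply (M : Type u) [AddCommGroup M] [Module R M] [Module.Finite R M]
    (t : (localCohomology I N).obj (ModuleCat.of R M))
    (x : Ext (ModuleCat.of R M) (ModuleCat.of R R) 0) :
    e0 I N hdim M t x = EW.sigmaApp I N (ModuleCat.of R M) t (c _ x) := by
  rfl


/-- naturality property of `e0` -/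
theorem e0_prop {M M' : Type u} [AddCommGroup M] [Module R M] [Module.Finite R M]
    [AddCommGroup M'] [Module R M'] [Module.Finite R M'] (f : ModuleCat.of R M ⟶ ModuleCat.of R M')
    (t : (localCohomology I N).obj (ModuleCat.of R M)) :
    ((localCohomology I N).map f).hom t = 0 ↔
      LinearMap.lcomp R _ ((Ext.mk₀ f).precompOfLinear R (ModuleCat.of R R) (zero_add 0))
        (e0 I N hdim M t) = 0 := by
  have hinjσ := (sigma_bijective I N hdim M').1
  constructor
  · intro h
    apply LinearMap.ext
    intro x'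
    change e0 I N hdim M t ((Ext.mk₀ f).comp x' (zero_add 0)) = 0
    rw [e0_apply, c_comp, EW.sigmaApp_apply]
    have : ModuleCat.ofHom ((c (ModuleCat.of R M') x') ∘ₗ f.hom) =
        f ≫ ModuleCat.ofHom (c (ModuleCat.of R M') x') := rfl
    rw [this, Functor.map_comp, ModuleCat.comp_apply, h, map_zero]
  · intro h
    apply hinjσ
    rw [map_zero]
    apply LinearMap.ext
    intro (φ : M' →ₗ[R] R)
    change EW.sigmaApp I N (ModuleCat.of R M') (((localCohomology I N).map f).hom t) φ = 0
    rw [EW.sigmaApp_apply, ← ModuleCat.comp_apply, ← Functor.map_comp]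
    have h1 := LinearMap.congr_fun h ((c (ModuleCat.of R M')).symm φ)
    change e0 I N hdim M t ((Ext.mk₀ f).comp ((c (ModuleCat.of R M')).symm φ) (zero_add 0)) = 0
      at h1
    rw [e0_apply, c_comp, EW.sigmaApp_apply, LinearEquiv.apply_symm_apply] at h1
    exact h1

/-- the dimension shifting step -/
theorem step {S : ShortComplex (ModuleCat.{u} R)} (hS : S.ShortExact) (i j : ℕ)
    (Q : Type u) [AddCommGroup Q] [Module R Q] (Y : ModuleCat.{u} R)
    (h0 : Subsingleton ((localCohomology I j).obj S.X₂))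
    (h0' : Subsingleton (Ext S.X₂ Y (i + 1)))
    (eK : (localCohomology I (j + 1)).obj S.X₁ ≃ₗ[R] (Ext S.X₁ Y i →ₗ[R] Q))
    (hK : ∀ t, ((localCohomology I (j + 1)).map S.f).hom t = 0 ↔
      LinearMap.lcomp R Q (res (S := S) Y i) (eK t) = 0) :
    Nonempty ((localCohomology I j).obj S.X₃ ≃ₗ[R] (Ext S.X₃ Y (i + 1) →ₗ[R] Q)) :=
  ⟨(lcKerEquiv hS j h0).trans ((kerEquiv eK _ _ hK).trans (extKerEquiv hS Y i h0' Q).symm)⟩


include hdim in
/-- **Local duality**: if `H^j_I(R)` vanishes for `j ≠ N`, `dim R ≤ N` and `E' = H^N_I(R)` is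
injective then `H^j_I(M) ≃ Hom(Ext^i(M, R), E')` for `i + j = N` and finite `M`. -/
theorem local_duality
    (hvan : ∀ j, j ≠ N → Subsingleton ((localCohomology I j).obj (ModuleCat.of R R))) (i : ℕ) :
    ∀ (j : ℕ), i + j = N → ∀ (M : Type u) [AddCommGroup M] [Module R M] [Module.Finite R M],
      Nonempty ((localCohomology I j).obj (ModuleCat.of R M) ≃ₗ[R]
        (Ext (ModuleCat.of R M) (ModuleCat.of R R) i →ₗ[R]
          (localCohomology I N).obj (ModuleCat.of R R))) := by
  induction i with
  | zero =>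
    intro j hj M _ _ _
    obtain rfl : j = N := by omega
    exact ⟨e0 I j hdim M⟩
  | succ i ih =>
    intro j hj M _ _ _
    obtain ⟨b, π, hπ⟩ := Module.Finite.exists_fin' R M
    have hS := LinearMap.shortExact_shortComplexKer hπ
    haveI : IsNoetherian R (Fin b → R) := isNoetherian_of_isNoetherianRing_of_finite R _
    haveI hfinK : Module.Finite R (LinearMap.ker π) := Module.IsNoetherian.finite R _
    haveI : Projective (ModuleCat.of R (Fin b → R)) :=
      (ModuleCat.of R (Fin b → R)).projective_of_categoryTheory_projective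
    have hfree : ∀ k, k ≠ N →
        Subsingleton ((localCohomology I k).obj (ModuleCat.of R (Fin b → R))) :=
      fun k hk => LC.subsingleton_free I k (hvan k hk) b
    have h0 : Subsingleton ((localCohomology I j).obj π.shortComplexKer.X₂) :=
      hfree j (by omega)
    have h0' : Subsingleton (Ext π.shortComplexKer.X₂ (ModuleCat.of R R) (i + 1)) :=
      Ext.subsingleton_of_projective (ModuleCat.of R (Fin b → R)) _ i
    cases i with
    | zero =>
      obtain rfl : N = j + 1 := by omega
      exact step I hS 0 j _ (ModuleCat.of R R) h0 h0' (e0 I (j + 1) hdim (LinearMap.ker π))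
        (fun t => e0_prop I (j + 1) hdim π.shortComplexKer.f t)
    | succ i' =>
      obtain ⟨eK⟩ := ih (j + 1) (by omega) (LinearMap.ker π)
      refine step I hS (i' + 1) j _ (ModuleCat.of R R) h0 h0' eK (fun t => ?_)
      haveI h1 : Subsingleton ((localCohomology I (j + 1)).obj π.shortComplexKer.X₂) :=
        hfree (j + 1) (by omega)
      haveI h2 : Subsingleton (Ext π.shortComplexKer.X₂ (ModuleCat.of R R) (i' + 1)) :=
        Ext.subsingleton_of_projective (ModuleCat.of R (Fin b → R)) _ i'
      constructor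
      · intro _
        apply LinearMap.ext
        intro x
        rw [Subsingleton.elim x 0, map_zero, map_zero]
      · intro _
        exact Subsingleton.elim _ _

end Groth.Agent.H6.LD
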