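import Mathlib
import Groth.Agent.Lib.Helper6.LDMain
import Groth.Agent.Lib.Helper6.LCZero

universe u
open CategoryTheory CategoryTheory.Abelian

namespace Groth.Agent.H6.LD

variable {R : Type u} [CommRing R] [IsNoetherianRing R] (I : Ideal R) (N : ℕ)
  (Y : ModuleCat.{u} R) (Q : Type u) [AddCommGroup Q] [Module R Q]
  (e0 : ∀ (M : Type u) [AddCommGroup M] [Module R M] [Module.Finite R M],
    (localCohomology I N).obj (ModuleCat.of R M) ≃ₗ[R] (Ext (ModuleCat.of R M) Y 0 →ₗ[R] Q))
  (hprop : ∀ (M M' : Type u) [AddCommGroup M] [Module R M] [Module.Finite R M]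
    [AddCommGroup M'] [Module R M'] [Module.Finite R M'] (f : ModuleCat.of R M ⟶ ModuleCat.of R M')
    (t : (localCohomology I N).obj (ModuleCat.of R M)),
    ((localCohomology I N).map f).hom t = 0 ↔
      LinearMap.lcomp R Q ((Ext.mk₀ f).precompOfLinear R Y (zero_add 0)) (e0 M t) = 0)
  (hvan : ∀ j, j ≠ N → Subsingleton ((localCohomology I j).obj (ModuleCat.of R R)))

include hprop hvan in
/-- **Local duality, general form.** -/
theorem local_duality_gen (i : ℕ) :
    ∀ (j : ℕ), i + j = N → ∀ (M : Type u) [AddCommGroup M] [Module R M] [Module.Finite R M],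
      Nonempty ((localCohomology I j).obj (ModuleCat.of R M) ≃ₗ[R]
        (Ext (ModuleCat.of R M) Y i →ₗ[R] Q)) := by
  induction i with
  | zero =>
    intro j hj M _ _ _
    obtain rfl : j = N := by omega
    exact ⟨e0 M⟩
  | succ i ih =>
    intro j hj M _ _ _
    obtain ⟨b, π, hπ⟩ := Module.Finite.exists_fin' R M
    have hS := LinearMap.shortExact_shortComplexKer hπ
    haveI : IsNoetherian R (Fin b → R) := isNoetherian_of_isNoetherianRing_of_finite R _
    haveI hfinK : Module.Finite R (LinearMap.ker π) := Module.IsNoetherian.finite R _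
    haveI : Projective (ModuleCat.of R (Fin b → R)) :=
      (ModuleCat.of R (Fin b → R)).projective_of_categoryTheory_projective
    have hfree : ∀ k, k ≠ N →
        Subsingleton ((localCohomology I k).obj (ModuleCat.of R (Fin b → R))) :=
      fun k hk => LC.subsingleton_free I k (hvan k hk) b
    have h0 : Subsingleton ((localCohomology I j).obj π.shortComplexKer.X₂) :=
      hfree j (by omega)
    have h0' : Subsingleton (Ext π.shortComplexKer.X₂ Y (i + 1)) :=
      Ext.subsingleton_of_projective (ModuleCat.of R (Fin b → R)) _ i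
    cases i with
    | zero =>
      obtain rfl : N = j + 1 := by omega
      exact step I hS 0 j _ Y h0 h0' (e0 (LinearMap.ker π))
        (fun t => hprop (LinearMap.ker π) (Fin b → R) π.shortComplexKer.f t)
    | succ i' =>
      obtain ⟨eK⟩ := ih (j + 1) (by omega) (LinearMap.ker π)
      refine step I hS (i' + 1) j _ Y h0 h0' eK (fun t => ?_)
      haveI h1 : Subsingleton ((localCohomology I (j + 1)).obj π.shortComplexKer.X₂) :=
        hfree (j + 1) (by omega)
      haveI h2 : Subsingleton (Ext π.shortComplexKer.X₂ Y (i' + 1)) :=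
        Ext.subsingleton_of_projective (ModuleCat.of R (Fin b → R)) _ i'
      constructor
      · intro _
        apply LinearMap.ext
        intro x
        rw [Subsingleton.elim x 0, map_zero, map_zero]
      · intro _
        exact Subsingleton.elim _ _

omit [IsNoetherianRing R] in
/-- `H^0_I` preserves injections -/
theorem lc_zero_map_injective {M M' : ModuleCat.{u} R} (f : M ⟶ M')
    (hf : Function.Injective f.hom) :
    Function.Injective ((localCohomology I 0).map f).hom := by
  intro a b hab
  apply LC.zeroToSelf_injective (I := I) M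
  apply hf
  rw [← LC.zeroToSelf_naturality, ← LC.zeroToSelf_naturality, hab]

include hprop hvan in
/-- the dual of `Ext^{N+1}(M, Y)` vanishes -/
theorem dual_ext_succ_subsingleton (M : Type u) [AddCommGroup M] [Module R M] [Module.Finite R M] :
    Subsingleton (Ext (ModuleCat.of R M) Y (N + 1) →ₗ[R] Q) := by
  obtain ⟨b, π, hπ⟩ := Module.Finite.exists_fin' R M
  have hS := LinearMap.shortExact_shortComplexKer hπ
  haveI : IsNoetherian R (Fin b → R) := isNoetherian_of_isNoetherianRing_of_finite R _
  haveI hfinK : Module.Finite R (LinearMap.ker π) := Module.IsNoetherian.finite R _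
  haveI : Projective (ModuleCat.of R (Fin b → R)) :=
    (ModuleCat.of R (Fin b → R)).projective_of_categoryTheory_projective
  have h0' : Subsingleton (Ext π.shortComplexKer.X₂ Y (N + 1)) :=
    Ext.subsingleton_of_projective (ModuleCat.of R (Fin b → R)) _ N
  have e := extKerEquiv hS Y N h0' Q
  have hinj : Function.Injective ((localCohomology I 0).map π.shortComplexKer.f).hom :=
    lc_zero_map_injective I _ (LinearMap.ker π).injective_subtype
  suffices Subsingleton (LinearMap.ker (LinearMap.lcomp R Q (res (S := π.shortComplexKer) Y N))) from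
    e.toEquiv.subsingleton
  cases N with
  | zero =>
    have e2 := kerEquiv (e0 (LinearMap.ker π)) ((localCohomology I 0).map π.shortComplexKer.f).hom
      (LinearMap.lcomp R Q (res (S := π.shortComplexKer) Y 0))
      (fun t => hprop (LinearMap.ker π) (Fin b → R) π.shortComplexKer.f t)
    haveI : Subsingleton (LinearMap.ker ((localCohomology I 0).map π.shortComplexKer.f).hom) := by
      rw [LinearMap.ker_eq_bot.mpr hinj]
      infer_instance
    exact e2.symm.toEquiv.subsingleton
  | succ N' =>
    obtain ⟨eK⟩ := local_duality_gen I (N' + 1) Y Q e0 hprop hvan (N' + 1) 0 (by omega)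
      (LinearMap.ker π)
    haveI h1 : Subsingleton ((localCohomology I 0).obj π.shortComplexKer.X₂) :=
      LC.subsingleton_free I 0 (hvan 0 (by omega)) b
    haveI h2 : Subsingleton ((localCohomology I 0).obj (ModuleCat.of R (LinearMap.ker π))) :=
      ⟨fun a b => hinj (Subsingleton.elim _ _)⟩
    haveI : Subsingleton (Ext (ModuleCat.of R (LinearMap.ker π)) Y (N' + 1) →ₗ[R] Q) :=
      eK.symm.toEquiv.subsingleton
    exact ⟨fun a b => Subtype.ext (Subsingleton.elim _ _)⟩

end Groth.Agent.H6.LD
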