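import Mathlib
import Groth.Agent.Lib.Helper6.LDGen
import Groth.Agent.Lib.Helper6.EWCompare

universe u
open CategoryTheory CategoryTheory.Abelian

namespace Groth.Agent.H6.Can

variable {R : Type u} [CommRing R] [IsNoetherianRing R]

/-- `Ext^0(X, Y) ≃ Hom(X, Y)` -/
noncomputable def cY (X Y : ModuleCat.{u} R) : Ext X Y 0 ≃ₗ[R] (X →ₗ[R] Y) :=
  Ext.linearEquiv₀.trans ModuleCat.homLinearEquiv

omit [IsNoetherianRing R] in
theorem cY_mk₀ (X Y : ModuleCat.{u} R) (g : X ⟶ Y) : cY X Y (Ext.mk₀ g) = g.hom := by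
  change (Ext.linearEquiv₀ (R := R) (Ext.mk₀ g)).hom = g.hom
  congr 1
  apply (Ext.mk₀_bijective _ _).1
  rw [Ext.mk₀_linearEquiv₀_apply]

omit [IsNoetherianRing R] in
theorem cY_comp {X X' : ModuleCat.{u} R} (Y : ModuleCat.{u} R) (f : X ⟶ X') (x' : Ext X' Y 0) :
    cY X Y ((Ext.mk₀ f).comp x' (zero_add 0)) = (cY X' Y x') ∘ₗ f.hom := by
  obtain ⟨g, rfl⟩ := (Ext.mk₀_bijective _ _).2 x'
  rw [Ext.mk₀_comp_mk₀, cY_mk₀, cY_mk₀]
  rfl

section Gen

variable (I : Ideal R) (n : ℕ) (hdim : ringKrullDim R ≤ (n : WithBot ℕ∞))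
  (E K : Type u) [AddCommGroup E] [Module R E] [Module.Injective R E]
  [AddCommGroup K] [Module R K]
  (eK : (K →ₗ[R] E) ≃ₗ[R] (localCohomology I n).obj (ModuleCat.of R R))

/-- degree zero duality for a canonical module -/
noncomputable def e0 (M : Type u) [AddCommGroup M] [Module R M] [Module.Finite R M] :
    (localCohomology I n).obj (ModuleCat.of R M) ≃ₗ[R]
      (Ext (ModuleCat.of R M) (ModuleCat.of R K) 0 →ₗ[R] E) :=
  (EW.canEquiv I n hdim E K eK M).trans
    (LinearEquiv.congrLeft E R (cY (ModuleCat.of R M) (ModuleCat.of R K)).symm)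

theorem e0_apply (M : Type u) [AddCommGroup M] [Module R M] [Module.Finite R M]
    (t : (localCohomology I n).obj (ModuleCat.of R M))
    (x : Ext (ModuleCat.of R M) (ModuleCat.of R K) 0) :
    e0 I n hdim E K eK M t x = EW.canEquiv I n hdim E K eK M t (cY _ _ x) := rfl

theorem e0_prop (M M' : Type u) [AddCommGroup M] [Module R M] [Module.Finite R M]
    [AddCommGroup M'] [Module R M'] [Module.Finite R M'] (f : ModuleCat.of R M ⟶ ModuleCat.of R M')
    (t : (localCohomology I n).obj (ModuleCat.of R M)) :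
    ((localCohomology I n).map f).hom t = 0 ↔
      LinearMap.lcomp R E ((Ext.mk₀ f).precompOfLinear R (ModuleCat.of R K) (zero_add 0))
        (e0 I n hdim E K eK M t) = 0 := by
  constructor
  · intro h
    apply LinearMap.ext
    intro x'
    change e0 I n hdim E K eK M t ((Ext.mk₀ f).comp x' (zero_add 0)) = 0
    rw [e0_apply, cY_comp, ← EW.canEquiv_naturality, h, map_zero]
    rfl
  · intro h
    apply (EW.canEquiv I n hdim E K eK M').injective
    rw [map_zero]
    apply LinearMap.ext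
    intro (φ : M' →ₗ[R] K)
    rw [EW.canEquiv_naturality]
    have h1 := LinearMap.congr_fun h ((cY (ModuleCat.of R M') (ModuleCat.of R K)).symm φ)
    change e0 I n hdim E K eK M t
      ((Ext.mk₀ f).comp ((cY (ModuleCat.of R M') (ModuleCat.of R K)).symm φ) (zero_add 0)) = 0 at h1
    rw [e0_apply, cY_comp, LinearEquiv.apply_symm_apply] at h1
    exact h1


end Gen

section CM

variable {A : Type u} [CommRing A]

/-- depth of a Cohen–Macaulay local ring -/
theorem depth_of_cm [hCM : LocCoh.IsCohenMacaulayLocalRing A] (n : ℕ)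
    (hn : ringKrullDim A = (n : WithBot ℕ∞)) : LocCoh.depth A A = (n : ℕ∞) := by
  have h := hCM.supportDim_eq_depth
  rw [Module.supportDim_self_eq_ringKrullDim, hn] at h
  have : ((n : ℕ∞) : WithBot ℕ∞) = ((LocCoh.depth A A : ℕ∞) : WithBot ℕ∞) := by exact_mod_cast h
  exact (WithBot.coe_injective this).symm

/-- vanishing of local cohomology of a Cohen–Macaulay local ring outside the dimension -/
theorem lc_vanish_of_cm [hCM : LocCoh.IsCohenMacaulayLocalRing A] (n : ℕ)
    (hn : ringKrullDim A = (n : WithBot ℕ∞)) (i : ℕ) (hi : i ≠ n) :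
    Subsingleton (LocCoh.H (IsLocalRing.maximalIdeal A) i A) := by
  have hdepth := depth_of_cm (A := A) n hn
  rcases Nat.lt_or_gt_of_ne hi with hlt | hgt
  · have hIM : IsLocalRing.maximalIdeal A • (⊤ : Submodule A A) ≠ ⊤ := by
      rw [smul_eq_mul, Ideal.mul_top]
      exact (IsLocalRing.maximalIdeal.isMaximal A).ne_top
    have hle : ((n : ℕ) : ℕ∞) ≤ LocCoh.idealDepth (IsLocalRing.maximalIdeal A) A :=
      le_of_eq hdepth.symm
    exact (LC.le_idealDepth_iff _ A hIM n).mp hle i hlt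
  · apply LC.subsingleton_of_supportDim_lt
    rw [Module.supportDim_self_eq_ringKrullDim, hn]
    exact_mod_cast hgt

variable [LocCoh.IsCohenMacaulayLocalRing A] (n : ℕ) (hn : ringKrullDim A = (n : WithBot ℕ∞))
  (E K : Type u) [AddCommGroup E] [Module A E] [Module.Injective A E]
  [AddCommGroup K] [Module A K]
  (eK : (K →ₗ[A] E) ≃ₗ[A] LocCoh.H (IsLocalRing.maximalIdeal A) n A)

include hn eK in
/-- **S7699**: local duality with a canonical module over a Cohen–Macaulay local ring -/
theorem local_duality_can (M : Type u) [AddCommGroup M] [Module A M] [Module.Finite A M]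
    (i j : ℕ) (hij : i + j = n) :
    Nonempty (LocCoh.H (IsLocalRing.maximalIdeal A) j M ≃ₗ[A]
      (Ext (ModuleCat.of A M) (ModuleCat.of A K) i →ₗ[A] E)) :=
  LD.local_duality_gen (IsLocalRing.maximalIdeal A) n (ModuleCat.of A K) E
    (fun M _ _ _ => e0 (IsLocalRing.maximalIdeal A) n (le_of_eq hn) E K eK M)
    (fun M M' _ _ _ _ _ _ f t => e0_prop (IsLocalRing.maximalIdeal A) n (le_of_eq hn) E K eK M M' f t)
    (lc_vanish_of_cm n hn) i j hij M

include hn eK in
theorem dual_ext_succ_subsingleton_can (M : Type u) [AddCommGroup M] [Module A M]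
    [Module.Finite A M] :
    Subsingleton (Ext (ModuleCat.of A M) (ModuleCat.of A K) (n + 1) →ₗ[A] E) :=
  LD.dual_ext_succ_subsingleton (IsLocalRing.maximalIdeal A) n (ModuleCat.of A K) E
    (fun M _ _ _ => e0 (IsLocalRing.maximalIdeal A) n (le_of_eq hn) E K eK M)
    (fun M M' _ _ _ _ _ _ f t => e0_prop (IsLocalRing.maximalIdeal A) n (le_of_eq hn) E K eK M M' f t)
    (lc_vanish_of_cm n hn) M

end CM

end Groth.Agent.H6.Can
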