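import Mathlib
import Groth.Prelude.Def_Wider
import Groth.Agent.Lib.Helper6.Ischebeck
import Groth.Agent.Lib.Helper1.RegGlobal

/-!
# Bass's lemmas on vanishing of `Ext^i(A/p, M)` (Bruns–Herzog 3.1.13, 3.1.14)
-/

universe u
open CategoryTheory CategoryTheory.Limits CategoryTheory.Abelian

namespace Groth.Agent.H6

namespace Bass

variable {A : Type u} [CommRing A]

/-- `X` vanishes at the prime `q`: every element is killed by some `s ∉ q`. -/
def Van (q : Ideal A) (X : Type*) [AddCommGroup X] [Module A X] : Prop :=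
  ∀ x : X, ∃ s : A, s ∉ q ∧ s • x = 0

theorem van_of_subsingleton (q : Ideal A) [q.IsPrime] (X : Type*) [AddCommGroup X] [Module A X]
    [Subsingleton X] : Van q X := fun x =>
  ⟨1, fun h => (Ideal.IsPrime.ne_top ‹_›) ((Ideal.eq_top_iff_one q).mpr h), Subsingleton.elim _ _⟩

theorem van_mono {p q : Ideal A} (h : p ≤ q) {X : Type*} [AddCommGroup X] [Module A X]
    (hq : Van q X) : Van p X := fun x => by
  obtain ⟨s, hs, hx⟩ := hq x
  exact ⟨s, fun hp => hs (h hp), hx⟩

theorem van_of_smul_eq_zero (q : Ideal A) {X : Type*} [AddCommGroup X] [Module A X]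
    (s : A) (hs : s ∉ q) (h : ∀ x : X, s • x = 0) : Van q X := fun x => ⟨s, hs, h x⟩

theorem van_iff_subsingleton (q : Ideal A) [q.IsPrime] (X : Type*) [AddCommGroup X] [Module A X] :
    Van q X ↔ Subsingleton (LocalizedModule q.primeCompl X) := by
  rw [LocalizedModule.subsingleton_iff]
  constructor
  · intro h x
    obtain ⟨s, hs, hx⟩ := h x
    exact ⟨s, hs, hx⟩
  · intro h x
    obtain ⟨s, hs, hx⟩ := h x
    exact ⟨s, hs, hx⟩

/-- over a local ring, vanishing at the maximal ideal is vanishing -/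
theorem subsingleton_of_van [IsLocalRing A] {X : Type*} [AddCommGroup X] [Module A X]
    (h : Van (IsLocalRing.maximalIdeal A) X) : Subsingleton X := by
  refine ⟨fun a b => ?_⟩
  have h0 : ∀ x : X, x = 0 := by
    intro x
    obtain ⟨s, hs, hx⟩ := h x
    have hu : IsUnit s := by
      by_contra hnu
      exact hs ((IsLocalRing.mem_maximalIdeal s).mpr hnu)
    obtain ⟨u, rfl⟩ := hu
    have := congrArg (fun z => (↑u⁻¹ : A) • z) hx
    simpa [smul_smul] using this
  rw [h0 a, h0 b]

/-- Nakayama at a prime. -/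
theorem van_of_nakayama (q : Ideal A) [q.IsPrime] (Y : Type*) [AddCommGroup Y] [Module A Y]
    [Module.Finite A Y] (x : A) (hx : x ∈ q)
    (h : ∀ y : Y, ∃ s : A, s ∉ q ∧ ∃ z : Y, s • y = x • z) : Van q Y := by
  rw [van_iff_subsingleton]
  let Aq := Localization.AtPrime q
  let Yq := LocalizedModule q.primeCompl Y
  haveI : Module.Finite Aq Yq := Module.Finite.of_isLocalizedModule q.primeCompl
    (LocalizedModule.mkLinearMap q.primeCompl Y)
  have htop : (⊤ : Submodule Aq Yq) ≤ IsLocalRing.maximalIdeal Aq • (⊤ : Submodule Aq Yq) := by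
    intro y _
    induction y using LocalizedModule.induction_on with
    | h y t =>
      obtain ⟨s, hs, z, hz⟩ := h y
      have hxm : algebraMap A Aq x ∈ IsLocalRing.maximalIdeal Aq := by
        rw [← Localization.AtPrime.comap_maximalIdeal (I := q)] at hx
        exact hx
      have : LocalizedModule.mk y t =
          algebraMap A Aq x • LocalizedModule.mk z (⟨s, hs⟩ * t) := by
        rw [algebraMap_smul, LocalizedModule.smul'_mk, ← hz, LocalizedModule.mk_eq]
        refine ⟨1, ?_⟩
        simp only [one_smul, Submonoid.smul_def, Submonoid.coe_mul, smul_smul]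
        congr 1
        ring
      rw [this]
      exact Submodule.smul_mem_smul hxm Submodule.mem_top
  have hbot := Submodule.eq_bot_of_le_smul_of_le_jacobson_bot (IsLocalRing.maximalIdeal Aq)
    (⊤ : Submodule Aq Yq) Module.Finite.fg_top htop
    (IsLocalRing.jacobson_eq_maximalIdeal ⊥ bot_ne_top).ge
  exact (Submodule.subsingleton_iff Aq).mp (subsingleton_of_bot_eq_top hbot.symm)

theorem ext_subsingleton_of_subsingleton (N M : ModuleCat.{u} A) [Subsingleton N] (i : ℕ) :
    Subsingleton (Ext N M i) := by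
  refine ⟨fun α β => ?_⟩
  have h0 : 𝟙 N = 0 := by
    ext x
    exact Subsingleton.elim _ _
  have hα : α = 0 := by
    rw [← Ext.mk₀_id_comp α, h0, Ext.mk₀_zero, Ext.zero_comp]
  have hβ : β = 0 := by
    rw [← Ext.mk₀_id_comp β, h0, Ext.mk₀_zero, Ext.zero_comp]
  rw [hα, hβ]

theorem mk₀_smul_id_comp (N M : ModuleCat.{u} A) (x : A) (i : ℕ) (z : Ext N M i) :
    (Ext.mk₀ (x • 𝟙 N)).comp z (zero_add i) = x • z := by
  rw [Ext.mk₀_smul, Ext.smul_comp, Ext.mk₀_id_comp]

/-- elements annihilating `N` kill `Ext(N, M)` -/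
theorem smul_ext_eq_zero (N M : ModuleCat.{u} A) (s : A) (hs : ∀ n : N, s • n = 0) (j : ℕ)
    (α : Ext N M j) : s • α = 0 := by
  have h0 : s • 𝟙 N = 0 := by
    ext n
    exact hs n
  rw [← Ext.mk₀_id_comp α, ← Ext.smul_comp, ← Ext.mk₀_smul, h0, Ext.mk₀_zero, Ext.zero_comp]

theorem van_ext_of_linearEquiv (q : Ideal A) {N N' : Type u} [AddCommGroup N] [Module A N]
    [AddCommGroup N'] [Module A N'] (e : N ≃ₗ[A] N') (M : ModuleCat.{u} A) (j : ℕ)
    (h : Van q (Ext (ModuleCat.of A N') M j)) : Van q (Ext (ModuleCat.of A N) M j) := by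
  intro α
  let E : ModuleCat.of A N ≅ ModuleCat.of A N' := e.toModuleIso
  obtain ⟨s, hs, hβ⟩ := h ((Ext.mk₀ E.inv).comp α (zero_add j))
  refine ⟨s, hs, ?_⟩
  have h1 : α = (Ext.mk₀ E.hom).comp ((Ext.mk₀ E.inv).comp α (zero_add j)) (zero_add j) := by
    rw [← Ext.comp_assoc (Ext.mk₀ E.hom) (Ext.mk₀ E.inv) α (zero_add 0) (zero_add j) (by omega),
      Ext.mk₀_comp_mk₀, E.hom_inv_id, Ext.mk₀_id_comp]
  rw [h1, ← Ext.comp_smul, hβ, Ext.comp_zero]

theorem van_ext_of_shortExact (q : Ideal A) [q.IsPrime] {S : ShortComplex (ModuleCat.{u} A)}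
    (hS : S.ShortExact) (M : ModuleCat.{u} A) (j : ℕ) (h1 : Van q (Ext S.X₁ M j))
    (h3 : Van q (Ext S.X₃ M j)) : Van q (Ext S.X₂ M j) := by
  intro α
  obtain ⟨s, hs, hs0⟩ := h1 ((Ext.mk₀ S.f).comp α (zero_add j))
  rw [← Ext.comp_smul] at hs0
  obtain ⟨β, hβ⟩ := Ext.contravariant_sequence_exact₂ hS M (s • α) hs0
  obtain ⟨t, ht, ht0⟩ := h3 β
  refine ⟨t * s, fun hts => (Ideal.IsPrime.mem_or_mem ‹_› hts).elim ht hs, ?_⟩
  rw [mul_smul, ← hβ, ← Ext.comp_smul, ht0, Ext.comp_zero]

variable [IsNoetherianRing A]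

/-- prime filtration argument -/
theorem van_ext_of_forall_prime (M : ModuleCat.{u} A) (j : ℕ) (I : Ideal A) (q : Ideal A)
    [q.IsPrime]
    (h : ∀ q' : PrimeSpectrum A, I ≤ q'.1 → Van q (Ext (ModuleCat.of A (A ⧸ q'.1)) M j))
    (N : Type u) [AddCommGroup N] [Module A N] [hfin : Module.Finite A N]
    (hN : ∀ a ∈ I, ∀ n : N, a • n = 0) : Van q (Ext (ModuleCat.of A N) M j) := by
  revert hN
  refine IsNoetherianRing.induction_on_isQuotientEquivQuotientPrime A hfin
    (motive := fun N _ _ _ => (∀ a ∈ I, ∀ n : N, a • n = 0) →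
      Van q (Ext (ModuleCat.of A N) M j)) ?_ ?_ ?_
  · intro N _ _ _ _ _
    haveI := ext_subsingleton_of_subsingleton (ModuleCat.of A N) M j
    exact van_of_subsingleton q _
  · intro N _ _ _ p e hN
    have hIp : I ≤ p.1 := by
      intro a ha
      have h1 := hN a ha (e.symm 1)
      have h2 : a • (1 : A ⧸ p.1) = 0 := by
        have := congrArg e h1
        rwa [map_smul, e.apply_symm_apply, map_zero] at this
      rw [← Ideal.Quotient.eq_zero_iff_mem]
      rw [Algebra.smul_def, mul_one] at h2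
      exact h2
    exact van_ext_of_linearEquiv q e M j (h p hIp)
  · intro N₁ _ _ _ N₂ _ _ _ N₃ _ _ _ f g hf hg hfg ih1 ih3 hN
    have hS : (ShortComplex.mk (ModuleCat.ofHom f) (ModuleCat.ofHom g) (by
        ext y; exact hfg.apply_apply_eq_zero y)).ShortExact :=
      ModuleCat.shortComplex_shortExact _ hfg hf hg
    refine van_ext_of_shortExact q hS M j (ih1 ?_) (ih3 ?_)
    · intro a ha n
      apply hf
      rw [map_smul, hN a ha, map_zero]
    · intro a ha n
      obtain ⟨n', rfl⟩ := hg n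
      rw [← map_smul, hN a ha, map_zero]

/-- **Bass's lemma** (Bruns–Herzog 3.1.13), localized form: if `Ext^{i+1}(A/q', M)` vanishes at
`q` for all primes `p < q' ≤ q`, then `Ext^i(A/p, M)` vanishes at `q`. -/
theorem van_ext_quotient_prime (M : ModuleCat.{u} A) [Module.Finite A M] (p q : Ideal A)
    [hp : p.IsPrime] [q.IsPrime] (hpq : p < q) (i : ℕ)
    (h : ∀ q' : PrimeSpectrum A, p < q'.1 → q'.1 ≤ q →
      Van q (Ext (ModuleCat.of A (A ⧸ q'.1)) M (i + 1))) :
    Van q (Ext (ModuleCat.of A (A ⧸ p)) M i) := by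
  obtain ⟨x, hxq, hxp⟩ := SetLike.exists_of_lt hpq
  let N := ModuleCat.of A (A ⧸ p)
  have hreg : IsSMulRegular N x := by
    intro y y' hyy
    obtain ⟨z, rfl⟩ := Ideal.Quotient.mk_surjective y
    obtain ⟨z', rfl⟩ := Ideal.Quotient.mk_surjective y'
    have h2 : Ideal.Quotient.mk p (x * z) = Ideal.Quotient.mk p (x * z') := hyy
    rw [Ideal.Quotient.eq, ← mul_sub] at h2
    rw [Ideal.Quotient.eq]
    exact (hp.mem_or_mem h2).resolve_left hxp
  have hV : Van q (Ext (ModuleCat.of A (QuotSMulTop x N)) M (i + 1)) := by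
    apply van_ext_of_forall_prime M (i + 1) (p ⊔ Ideal.span {x}) q
    · intro q' hq'
      have hxq' : x ∈ q'.1 := hq' (Ideal.mem_sup_right (Ideal.mem_span_singleton_self x))
      by_cases hle : q'.1 ≤ q
      · refine h q' (lt_of_le_of_ne (le_sup_left.trans hq') ?_) hle
        intro heq
        apply hxp
        rw [heq]
        exact hxq'
      · obtain ⟨s, hs, hsq⟩ := Set.not_subset.mp hle
        refine van_of_smul_eq_zero q s hsq (fun α => smul_ext_eq_zero _ _ s (fun n => ?_) _ α)
        obtain ⟨z, rfl⟩ := Ideal.Quotient.mk_surjective n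
        change Ideal.Quotient.mk q'.1 (s * z) = 0
        exact Ideal.Quotient.eq_zero_iff_mem.mpr (Ideal.mul_mem_right _ _ hs)
    · intro a ha n
      obtain ⟨n', rfl⟩ := Submodule.mkQ_surjective _ n
      obtain ⟨z, rfl⟩ := Ideal.Quotient.mk_surjective n'
      obtain ⟨b, hb, c, hc, rfl⟩ := Submodule.mem_sup.mp ha
      obtain ⟨c', rfl⟩ := Ideal.mem_span_singleton'.mp hc
      rw [← map_smul, Submodule.mkQ_apply, Submodule.Quotient.mk_eq_zero]
      have h1 : (b + c' * x) • (Ideal.Quotient.mk p z : N) = x • (Ideal.Quotient.mk p (c' * z) : N) := by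
        change Ideal.Quotient.mk p ((b + c' * x) * z) = Ideal.Quotient.mk p (x * (c' * z))
        rw [Ideal.Quotient.eq]
        have : (b + c' * x) * z - x * (c' * z) = b * z := by ring
        rw [this]
        exact Ideal.mul_mem_right _ _ hb
      rw [h1]
      exact Submodule.smul_mem_pointwise_smul _ _ _ Submodule.mem_top
  have hS := hreg.smulShortComplex_shortExact
  haveI : Module.Finite A N := Module.Finite.quotient A p
  apply van_of_nakayama q _ x hxq
  intro (y : Ext (N.smulShortComplex x).X₁ M i)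
  obtain ⟨s, hs, hs0⟩ := hV (hS.extClass.comp y (add_comm 1 i))
  have hs1 : hS.extClass.comp (s • y) (add_comm 1 i) = 0 := by
    rw [Ext.comp_smul]
    exact hs0
  obtain ⟨z, hz⟩ := Ext.contravariant_sequence_exact₁ hS M (s • y) (add_comm 1 i) hs1
  refine ⟨s, hs, z, ?_⟩
  refine hz.symm.trans ?_
  exact mk₀_smul_id_comp N M x i z

section Local

variable [IsLocalRing A]

/-- **Bass's lemma** (Bruns–Herzog 3.1.13). -/
theorem ext_subsingleton_quotient_prime (M : ModuleCat.{u} A) [Module.Finite A M] (p : Ideal A)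
    [hp : p.IsPrime] (hpm : p ≠ IsLocalRing.maximalIdeal A) (i : ℕ)
    (h : ∀ q' : PrimeSpectrum A, p < q'.1 →
      Subsingleton (Ext (ModuleCat.of A (A ⧸ q'.1)) M (i + 1))) :
    Subsingleton (Ext (ModuleCat.of A (A ⧸ p)) M i) := by
  apply subsingleton_of_van (A := A)
  apply van_ext_quotient_prime M p (IsLocalRing.maximalIdeal A)
    (lt_of_le_of_ne (IsLocalRing.le_maximalIdeal hp.ne_top) hpm) i
  intro q' hq' _
  haveI := h q' hq'
  exact van_of_subsingleton _ _

/-- Bruns–Herzog 3.1.14, for primes. -/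
theorem ext_subsingleton_quotient_prime_of_residue (M : ModuleCat.{u} A) [Module.Finite A M]
    (n : ℕ)
    (h : ∀ j, n ≤ j →
      Subsingleton (Ext (ModuleCat.of A (A ⧸ IsLocalRing.maximalIdeal A)) M j)) :
    ∀ (p : Ideal A), p.IsPrime → ∀ j : ℕ, n ≤ j →
      Subsingleton (Ext (ModuleCat.of A (A ⧸ p)) M j) := by
  intro p
  induction p using IsNoetherian.induction with
  | hgt p ih =>
    intro hp j hj
    by_cases hpm : p = IsLocalRing.maximalIdeal A
    · subst hpm
      exact h j hj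
    · exact ext_subsingleton_quotient_prime M p hpm j
        (fun q' hq' => ih q'.1 hq' q'.2 (j + 1) (by omega))

/-- Bruns–Herzog 3.1.14: vanishing of `Ext^j(k, M)` for `j ≥ n` gives vanishing of `Ext^j(N, M)`
for all finite `N`. -/
theorem ext_subsingleton_of_residue (M : ModuleCat.{u} A) [Module.Finite A M] (n : ℕ)
    (h : ∀ j, n ≤ j →
      Subsingleton (Ext (ModuleCat.of A (A ⧸ IsLocalRing.maximalIdeal A)) M j))
    (N : Type u) [AddCommGroup N] [Module A N] [Module.Finite A N] (j : ℕ) (hj : n ≤ j) :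
    Subsingleton (Ext (ModuleCat.of A N) M j) := by
  apply subsingleton_of_van (A := A)
  apply van_ext_of_forall_prime M j ⊥ (IsLocalRing.maximalIdeal A)
  · intro q' _
    haveI := ext_subsingleton_quotient_prime_of_residue M n h q'.1 q'.2 j hj
    exact van_of_subsingleton _ _
  · intro a ha n
    rw [Ideal.mem_bot] at ha
    rw [ha, zero_smul]

theorem hasInjectiveDimensionLT_of_residue (M : ModuleCat.{u} A) [Module.Finite A M] (n : ℕ)
    (h : ∀ j, n + 1 ≤ j →
      Subsingleton (Ext (ModuleCat.of A (A ⧸ IsLocalRing.maximalIdeal A)) M j)) :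
    HasInjectiveDimensionLT M (n + 1) := by
  apply Groth.Agent.H1.Reg.hasInjectiveDimensionLT_of_ext_cyclic
  intro I
  exact ext_subsingleton_of_residue M (n + 1) h (A ⧸ I) (n + 1) le_rfl

end Local

end Bass

end Groth.Agent.H6

namespace Groth.Agent.H6.Bass

open CategoryTheory CategoryTheory.Abelian

/-- S0339: finite injective dimension is detected by `Ext^i(κ, M)` for large `i`. -/
theorem finite_injdim_iff {A : Type u} [CommRing A] [IsLocalRing A] [IsNoetherianRing A]
    (M : Type u) [AddCommGroup M] [Module A M] [Module.Finite A M] :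
    (∃ n : ℕ, HasInjectiveDimensionLT (ModuleCat.of A M) n) ↔
      ∃ N : ℕ, ∀ i : ℕ, N ≤ i → Subsingleton
        (Abelian.Ext (ModuleCat.of A (IsLocalRing.ResidueField A)) (ModuleCat.of A M) i) := by
  constructor
  · rintro ⟨n, hn⟩
    exact ⟨n, fun i hi => HasInjectiveDimensionLT.subsingleton (ModuleCat.of A M) n i hi _⟩
  · rintro ⟨N, hN⟩
    refine ⟨N + 1, ?_⟩
    haveI : Module.Finite A (ModuleCat.of A M) := ‹Module.Finite A M›
    apply hasInjectiveDimensionLT_of_residue (ModuleCat.of A M) N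
    intro j hj
    exact hN j (by omega)

end Groth.Agent.H6.Bass
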