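import Mathlib
import Groth.Agent.Lib.Helper6.LCExtVanish
import Groth.Agent.Lib.Helper6.LCTorsion
import Groth.Agent.Lib.Helper6.LCArtinian

universe u
open CategoryTheory CategoryTheory.Abelian

namespace Groth.Agent.H6.ExtLin

variable {R : Type u} [CommRing R]

/-- transport of `Ext` along an isomorphism in the second variable -/
noncomputable def postcompEquiv {Y Y' : ModuleCat.{u} R} (e : Y ≅ Y') (X : ModuleCat.{u} R)
    (n : ℕ) : Ext X Y n ≃ₗ[R] Ext X Y' n :=
  LinearEquiv.ofLinearMap ((Ext.mk₀ e.hom).postcompOfLinear R X (add_zero n))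
    ((Ext.mk₀ e.inv).postcompOfLinear R X (add_zero n))
    (by
      ext x
      change ((x.comp (Ext.mk₀ e.inv) (add_zero n)).comp (Ext.mk₀ e.hom) (add_zero n)) = x
      rw [Ext.comp_assoc_of_third_deg_zero, Ext.mk₀_comp_mk₀, e.inv_hom_id, Ext.comp_mk₀_id])
    (by
      ext x
      change ((x.comp (Ext.mk₀ e.hom) (add_zero n)).comp (Ext.mk₀ e.inv) (add_zero n)) = x
      rw [Ext.comp_assoc_of_third_deg_zero, Ext.mk₀_comp_mk₀, e.hom_inv_id, Ext.comp_mk₀_id])

/-- transport of `Ext` along an isomorphism in the first variable -/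
noncomputable def precompEquiv {X X' : ModuleCat.{u} R} (e : X ≅ X') (Y : ModuleCat.{u} R)
    (n : ℕ) : Ext X' Y n ≃ₗ[R] Ext X Y n :=
  LinearEquiv.ofLinearMap ((Ext.mk₀ e.hom).precompOfLinear R Y (zero_add n))
    ((Ext.mk₀ e.inv).precompOfLinear R Y (zero_add n))
    (by
      ext x
      change (Ext.mk₀ e.hom).comp ((Ext.mk₀ e.inv).comp x (zero_add n)) (zero_add n) = x
      rw [← Ext.comp_assoc_of_second_deg_zero, Ext.mk₀_comp_mk₀, e.hom_inv_id, Ext.mk₀_id_comp])
    (by
      ext x
      change (Ext.mk₀ e.inv).comp ((Ext.mk₀ e.hom).comp x (zero_add n)) (zero_add n) = x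
      rw [← Ext.comp_assoc_of_second_deg_zero, Ext.mk₀_comp_mk₀, e.inv_hom_id, Ext.mk₀_id_comp])

variable {S : ShortComplex (ModuleCat.{u} R)} (hS : S.ShortExact)

/-- the connecting isomorphism when `Ext(F, X₂)` vanishes -/
noncomputable def δEquiv (F : ModuleCat.{u} R) (h : ∀ i, Subsingleton (Ext F S.X₂ i)) (i : ℕ) :
    Ext F S.X₃ i ≃ₗ[R] Ext F S.X₁ (i + 1) :=
  LinearEquiv.ofBijective (hS.extClass.postcompOfLinear R F rfl) (by
    constructor
    · rw [← LinearMap.ker_eq_bot, eq_bot_iff]
      intro x hx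
      rw [LinearMap.mem_ker] at hx
      obtain ⟨x₂, rfl⟩ := Ext.covariant_sequence_exact₃ F hS x rfl hx
      rw [(h i).elim x₂ 0, Ext.zero_comp]
      exact Submodule.zero_mem _
    · intro x₁
      exact Ext.covariant_sequence_exact₁ F hS x₁ ((h (i + 1)).elim _ _) rfl)

/-- `Ext(F, X₁) ≃ Ext(F, X₂)` when `Ext(F, X₃)` vanishes -/
noncomputable def fEquiv (F : ModuleCat.{u} R) (h : ∀ i, Subsingleton (Ext F S.X₃ i)) (i : ℕ) :
    Ext F S.X₁ i ≃ₗ[R] Ext F S.X₂ i :=
  LinearEquiv.ofBijective ((Ext.mk₀ S.f).postcompOfLinear R F (add_zero i)) (by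
    constructor
    · cases i with
      | zero =>
        haveI := hS.mono_f
        exact Ext.postcomp_mk₀_injective_of_mono F S.f
      | succ j =>
        rw [← LinearMap.ker_eq_bot, eq_bot_iff]
        intro x hx
        rw [LinearMap.mem_ker] at hx
        obtain ⟨x₃, rfl⟩ := Ext.covariant_sequence_exact₁ F hS x hx rfl
        rw [(h j).elim x₃ 0, Ext.zero_comp]
        exact Submodule.zero_mem _
    · intro x₂
      exact Ext.covariant_sequence_exact₂ F hS x₂ ((h i).elim _ _))


open LC in
/-- **Collapse of the local-cohomology spectral sequence**: if `H^i_J(G)` vanishes for `i ≠ d`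
then `Ext^{d+p}(F, G) ≃ Ext^p(F, H^d_J(G))` for `F` killed by a power of `J`. -/
theorem collapse [IsNoetherianRing R] (J : Ideal R) (F : ModuleCat.{u} R)
    (hF : ∃ k : ℕ, ∀ a ∈ J ^ k, ∀ x : F, a • x = 0) (d : ℕ) :
    ∀ (G : ModuleCat.{u} R), (∀ i, i ≠ d → Subsingleton ((localCohomology J i).obj G)) →
      ∀ p, Nonempty (Ext F G (d + p) ≃ₗ[R] Ext F ((localCohomology J d).obj G) p) := by
  induction d with
  | zero =>
    intro G hG p
    -- `0 → Γ(G) → G → G/Γ(G) → 0`
    have hS := torsionSES_shortExact J G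
    set Q : ModuleCat.{u} R := ModuleCat.of R (G ⧸ DRing.torsionSub J G) with hQ
    have hQ0 : DRing.torsionSub J Q = ⊥ := torsionSub_quot_eq_bot J G
    have hQlc : ∀ i, Subsingleton ((localCohomology J i).obj Q) := by
      intro i
      cases i with
      | zero =>
        have : Subsingleton (DRing.torsionSub J Q) := by
          rw [hQ0]; infer_instance
        exact (zeroEquiv J Q).toEquiv.subsingleton
      | succ i =>
        have hb := map_mkQ_torsionSub_bijective J G i
        have := hG (i + 1) (Nat.succ_ne_zero i)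
        exact (Equiv.ofBijective _ hb).symm.subsingleton
    have hQext : ∀ i, Subsingleton (Ext F Q i) := fun i =>
      ext_vanish_of_lc_vanish J F hF (i + 1) Q (fun j _ => hQlc j) i (Nat.lt_succ_self i)
    have e1 := fEquiv hS F hQext p
    have e2 : Ext F (ModuleCat.of R (DRing.torsionSub J G)) p ≃ₗ[R]
        Ext F ((localCohomology J 0).obj G) p :=
      postcompEquiv (zeroEquiv J G).symm.toModuleIso F p
    rw [zero_add]
    exact ⟨e1.symm.trans e2⟩
  | succ d ih =>
    intro G hG p
    have hG0 : DRing.torsionSub J G = ⊥ := by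
      have := hG 0 (Nat.succ_ne_zero d).symm
      have : Subsingleton (DRing.torsionSub J G) := (zeroEquiv J G).symm.toEquiv.subsingleton
      exact Submodule.eq_bot_of_subsingleton
    obtain ⟨E, C, f, g, w, hS, hE, hEt⟩ := exists_injective_ses_of_torsionFree J G hG0
    haveI : Injective (ShortComplex.mk f g w).X₂ := hE
    have hEext : ∀ i, Subsingleton (Ext F (ShortComplex.mk f g w).X₂ i) := fun i =>
      ext_subsingleton_of_injective_torsionFree F E hF hEt i
    have hC : ∀ i, i ≠ d → Subsingleton ((localCohomology J i).obj C) := by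
      intro i hi
      exact (lc_shift_iff hS hEt i).mp (hG (i + 1) (by omega))
    obtain ⟨e1⟩ := ih C hC p
    have e2 : Ext F C (d + p) ≃ₗ[R] Ext F G (d + p + 1) := δEquiv hS F hEext (d + p)
    have e3 : (localCohomology J d).obj C ≃ₗ[R] (localCohomology J (d + 1)).obj G :=
      LinearEquiv.ofBijective (δ hS J d) (δ_bijective hS hEt d)
    have e4 := postcompEquiv e3.toModuleIso F p
    have hdeg : d + 1 + p = d + p + 1 := by omega
    rw [hdeg]
    exact ⟨e2.symm.trans (e1.trans e4)⟩

end Groth.Agent.H6.ExtLin
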