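import Mathlib
import Groth.Prelude.Def_Wider
import Groth.Agent.Lib.Helper6.Bass1
import Groth.Agent.Lib.Helper6.CMKit
import Groth.Agent.Lib.Helper6.DepthMax
import Groth.Agent.Lib.Helper1.AusBuch

/-!
# Bass numbers climb along saturated chains; `dim ≤ injdim = depth`
-/

universe u
open CategoryTheory CategoryTheory.Limits CategoryTheory.Abelian

namespace Groth.Agent.H6

namespace Bass

variable {A : Type u} [CommRing A] [IsNoetherianRing A]

/-- Bass numbers climb: if `μ_i(p, M) ≠ 0` and `q` covers `p` then `μ_{i+1}(q, M) ≠ 0`. -/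
theorem not_van_succ (M : ModuleCat.{u} A) [Module.Finite A M] (p q : Ideal A) [p.IsPrime]
    [q.IsPrime] (hpq : p < q)
    (hcov : ∀ q' : PrimeSpectrum A, p < q'.1 → q'.1 ≤ q → q'.1 = q) (i : ℕ)
    (h : ¬ Van p (Ext (ModuleCat.of A (A ⧸ p)) M i)) :
    ¬ Van q (Ext (ModuleCat.of A (A ⧸ q)) M (i + 1)) := by
  intro hq
  apply h
  apply van_mono hpq.le
  apply van_ext_quotient_prime M p q hpq i
  intro q' h1 h2
  have h3 := hcov q' h1 h2
  obtain ⟨q'', hq''⟩ := q'
  change q'' = q at h3
  subst h3
  exact hq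

section Local

variable [IsLocalRing A]

theorem not_subsingleton_of_coheight (M : ModuleCat.{u} A) [Module.Finite A M] :
    ∀ (k : ℕ) (p : PrimeSpectrum A), Order.coheight p = k → ∀ i : ℕ,
      ¬ Van p.1 (Ext (ModuleCat.of A (A ⧸ p.1)) M i) →
      ¬ Subsingleton (Ext (ModuleCat.of A (A ⧸ IsLocalRing.maximalIdeal A)) M (i + k)) := by
  intro k
  induction k with
  | zero =>
    intro p hp i h hsub
    apply h
    have hmax : IsMax p := Order.coheight_eq_zero.mp (by exact_mod_cast hp)
    have hpm : p.1 = IsLocalRing.maximalIdeal A := by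
      have h1 : p ≤ IsLocalRing.closedPoint A := IsLocalRing.le_maximalIdeal p.2.ne_top
      have h2 := hmax h1
      exact le_antisymm h1 h2
    rw [hpm]
    haveI := hsub
    exact van_of_subsingleton _ _
  | succ k ih =>
    intro p hp i h
    have hp' : Order.coheight p = (k : ℕ∞) + 1 := by exact_mod_cast hp
    obtain ⟨-, ⟨q, hpq, hq⟩, hall⟩ := Order.coheight_eq_coe_add_one_iff.mp hp'
    haveI := p.2
    haveI := q.2
    have hcov : ∀ q' : PrimeSpectrum A, p.1 < q'.1 → q'.1 ≤ q.1 → q'.1 = q.1 := by
      intro q' h1 h2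
      by_contra hne
      have hlt : q' < q := lt_of_le_of_ne h2 (fun h => hne (congrArg _ h))
      have h3 := Order.coheight_add_one_le hlt
      have h4 := hall q' h1
      rw [hq] at h3
      have : (k : ℕ∞) + 1 ≤ k := h3.trans h4
      exact absurd this (by
        rw [not_le]
        exact_mod_cast Nat.lt_succ_self k)
    have := not_van_succ M p.1 q.1 hpq hcov i h
    have h5 := ih q hq (i + 1) this
    rwa [show i + 1 + k = i + (k + 1) by omega] at h5

/-- for an associated prime `p` of `M`, `Hom(A/p, M)` does not vanish at `p` -/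
theorem not_van_of_mem_associatedPrimes (M : ModuleCat.{u} A) (p : Ideal A)
    (hp : p ∈ associatedPrimes A M) :
    ¬ Van p (Ext (ModuleCat.of A (A ⧸ p)) M 0) := by
  obtain ⟨hpp, x, hx⟩ := isAssociatedPrime_iff.mp hp
  have hmem : ∀ a : A, a ∈ p ↔ a • x = 0 := by
    intro a
    rw [hx, Submodule.mem_colon_singleton, Submodule.mem_bot]
  let φ : (A ⧸ p) →ₗ[A] M := Submodule.liftQ p (LinearMap.toSpanSingleton A M x) (by
    intro a ha
    rw [LinearMap.mem_ker, LinearMap.toSpanSingleton_apply]
    exact (hmem a).mp ha)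
  have hφ : φ (Submodule.Quotient.mk 1) = x := by
    change Submodule.liftQ p (LinearMap.toSpanSingleton A M x) _ (Submodule.Quotient.mk 1) = x
    rw [Submodule.liftQ_apply, LinearMap.toSpanSingleton_apply, one_smul]
  intro hV
  obtain ⟨s, hs, hs0⟩ := hV (Ext.mk₀ (ModuleCat.ofHom φ))
  rw [← Ext.mk₀_smul] at hs0
  have h1 : s • ModuleCat.ofHom φ = 0 := (Ext.mk₀_bijective _ _).1 (by rw [hs0, Ext.mk₀_zero])
  have h2 : s • x = 0 := by
    have := congrArg (fun g => g.hom (Submodule.Quotient.mk 1)) h1
    change s • φ (Submodule.Quotient.mk 1) = 0 at this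
    rwa [hφ] at this
  exact hs ((hmem s).mpr h2)

theorem exists_prime_not_van (d : ℕ) (hd : ringKrullDim A = d) :
    ∃ p : PrimeSpectrum A, Order.coheight p = d ∧
      ¬ Van p.1 (Ext (ModuleCat.of A (A ⧸ p.1)) (ModuleCat.of A A) 0) := by
  have hd' : Order.krullDim (PrimeSpectrum A) = d := hd
  obtain ⟨l, hl⟩ := Order.le_krullDim_iff.mp (le_of_eq hd'.symm)
  have h1 : (d : ℕ∞) ≤ Order.coheight l.head := by
    rw [← hl]
    exact Order.length_le_coheight_head
  have h2 : Order.coheight l.head ≤ (d : ℕ∞) := by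
    have := Order.coheight_le_krullDim l.head
    rw [hd'] at this
    exact_mod_cast this
  have hco : Order.coheight l.head = d := le_antisymm h2 h1
  refine ⟨l.head, hco, ?_⟩
  have hmin : IsMin l.head := by
    intro q hq
    by_contra hne
    have hlt : q < l.head := lt_of_le_of_ne hq (fun h => hne (h ▸ le_rfl))
    have h3 := Order.coheight_add_one_le hlt
    have h4 : Order.coheight q ≤ (d : ℕ∞) := by
      have := Order.coheight_le_krullDim q
      rw [hd'] at this
      exact_mod_cast this
    rw [hco] at h3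
    have : (d : ℕ∞) + 1 ≤ d := h3.trans h4
    exact absurd this (by
      rw [not_le]
      exact_mod_cast Nat.lt_succ_self d)
  have hmp : l.head.asIdeal ∈ minimalPrimes A := PrimeSpectrum.isMin_iff.mp hmin
  apply not_van_of_mem_associatedPrimes
  apply Module.associatedPrimes.minimalPrimes_annihilator_subset_associatedPrimes A A
  have : Module.annihilator A A = ⊥ := by
    rw [Module.annihilator_eq_bot]
    infer_instance
  rw [this]
  exact hmp

/-- if no element of the maximal ideal is `Q`-regular, the residue field embeds into `Q` -/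
theorem exists_injective_residue (Q : Type u) [AddCommGroup Q] [Module A Q] [Module.Finite A Q]
    (h : ∀ r ∈ IsLocalRing.maximalIdeal A, ¬ IsSMulRegular Q r) :
    ∃ g : (A ⧸ IsLocalRing.maximalIdeal A) →ₗ[A] Q, Function.Injective g := by
  have h1 : ∃ P ∈ associatedPrimes A Q, IsLocalRing.maximalIdeal A ≤ P := by
    by_contra hcon
    push Not at hcon
    obtain ⟨x, hx, hreg⟩ := CM.exists_isSMulRegular_of_forall_ass (IsLocalRing.maximalIdeal A) Q hcon
    exact h x hx hreg
  obtain ⟨P, hP, hle⟩ := h1
  obtain ⟨hPp, x, hx⟩ := isAssociatedPrime_iff.mp hP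
  have hPm : P = IsLocalRing.maximalIdeal A :=
    ((IsLocalRing.maximalIdeal.isMaximal A).eq_of_le hPp.ne_top hle).symm
  have hmem : ∀ a : A, a ∈ IsLocalRing.maximalIdeal A ↔ a • x = 0 := by
    intro a
    rw [← hPm, hx, Submodule.mem_colon_singleton, Submodule.mem_bot]
  refine ⟨Submodule.liftQ _ (LinearMap.toSpanSingleton A Q x) (by
    intro a ha
    rw [LinearMap.mem_ker, LinearMap.toSpanSingleton_apply]
    exact (hmem a).mp ha), ?_⟩
  rw [← LinearMap.ker_eq_bot, Submodule.ker_liftQ_eq_bot']
  ext a
  rw [LinearMap.mem_ker, LinearMap.toSpanSingleton_apply]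
  exact hmem a

open RingTheory.Sequence in
/-- **Bass**: for a local ring of finite injective dimension over itself,
`dim A ≤ depth A`, and `Ext^j(k, A) = 0` for `j > dim A` while `Ext^{dim A}(k, A) ≠ 0`. -/
theorem bass_main (n : ℕ) (hn : HasInjectiveDimensionLT (ModuleCat.of A A) n) (d : ℕ)
    (hd : ringKrullDim A = d) :
    LocCoh.depth A A = d ∧
    (∀ j, d + 1 ≤ j →
      Subsingleton (Ext (ModuleCat.of A (A ⧸ IsLocalRing.maximalIdeal A)) (ModuleCat.of A A) j)) ∧
    ¬ Subsingleton (Ext (ModuleCat.of A (A ⧸ IsLocalRing.maximalIdeal A)) (ModuleCat.of A A) d) := by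
  haveI hfinA : Module.Finite A (ModuleCat.of A A) := Module.Finite.self A
  -- Step 1
  obtain ⟨p, hco, hnv⟩ := exists_prime_not_van d hd
  have h1 := not_subsingleton_of_coheight (ModuleCat.of A A) d p hco 0 hnv
  rw [zero_add] at h1
  -- Step 2
  have hIM : IsLocalRing.maximalIdeal A • (⊤ : Submodule A A) ≠ ⊤ := by
    rw [Ideal.smul_top_eq_map, Algebra.algebraMap_self, Ideal.map_id]
    intro h
    exact (IsLocalRing.maximalIdeal.isMaximal A).ne_top (by
      rw [Submodule.restrictScalars_eq_top_iff] at h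
      exact h)
  obtain ⟨rs, -, hreg, hmem, hmax⟩ := Depth.exists_maximal_extension
    (IsLocalRing.maximalIdeal A) A hIM [] (IsWeaklyRegular.nil A A) (by simp)
  obtain ⟨t, ht⟩ : ∃ t, rs.length = t := ⟨_, rfl⟩
  have hpd : HasProjectiveDimensionLT
      (ModuleCat.of A (A ⧸ (Ideal.ofList rs • (⊤ : Submodule A A)))) (t + 1) := by
    have h0 := ModuleCat.projectiveDimension_quotient_eq_add_length_of_isWeaklyRegular
      (ModuleCat.of A A) rs hreg hmem
    have hA0 : projectiveDimension (ModuleCat.of A A) ≤ ((0 : ℕ) : WithBot ℕ∞) := by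
      rw [projectiveDimension_le_iff]
      haveI : Projective (ModuleCat.of A A) :=
        (ModuleCat.of A A).projective_of_categoryTheory_projective
      infer_instance
    have h2 : projectiveDimension
        (ModuleCat.of A (A ⧸ (Ideal.ofList rs • (⊤ : Submodule A A)))) ≤ (t : WithBot ℕ∞) := by
      have h3 : projectiveDimension (ModuleCat.of A A) + (rs.length : WithBot ℕ∞) ≤
          ((0 : ℕ) : WithBot ℕ∞) + (rs.length : WithBot ℕ∞) := add_le_add_left hA0 _
      rw [Nat.cast_zero, zero_add, ht] at h3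
      rw [ht] at h0
      exact h0.le.trans h3
    exact (projectiveDimension_le_iff _ t).mp h2
  have hnoreg : ∀ r ∈ IsLocalRing.maximalIdeal A,
      ¬ IsSMulRegular (A ⧸ (Ideal.ofList rs • (⊤ : Submodule A A))) r := by
    intro r hr hreg'
    apply hmax r hr
    rw [isWeaklyRegular_append_iff, isWeaklyRegular_singleton_iff]
    exact ⟨hreg, hreg'⟩
  obtain ⟨g, hg⟩ := exists_injective_residue _ hnoreg
  have hS : (ShortComplex.mk (ModuleCat.ofHom g) (ModuleCat.ofHom (LinearMap.range g).mkQ) (by
      apply ModuleCat.hom_ext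
      apply LinearMap.ext
      intro y
      exact (Submodule.Quotient.mk_eq_zero _).mpr ⟨y, rfl⟩)).ShortExact := by
    apply ModuleCat.shortComplex_shortExact
    · intro y
      constructor
      · intro hy
        exact (Submodule.Quotient.mk_eq_zero _).mp hy
      · rintro ⟨z, rfl⟩
        exact (Submodule.Quotient.mk_eq_zero _).mpr ⟨z, rfl⟩
    · exact hg
    · exact Submodule.mkQ_surjective _
  -- Step 3
  have key : ∀ c j : ℕ, t + 1 ≤ j → n ≤ j + c → ∀ j', j ≤ j' →
      Subsingleton (Ext (ModuleCat.of A (A ⧸ IsLocalRing.maximalIdeal A)) (ModuleCat.of A A) j') := by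
    intro c
    induction c with
    | zero =>
      intro j _ hnj j' hj'
      exact HasInjectiveDimensionLT.subsingleton (ModuleCat.of A A) n j' (by omega) _
    | succ c ih =>
      intro j htj hnj j' hj'
      have hP := ih (j + 1) (by omega) (by omega)
      rcases Nat.eq_or_lt_of_le hj' with rfl | hlt
      · refine ⟨fun x y => ?_⟩
        have hz : ∀ x : Ext (ModuleCat.of A (A ⧸ IsLocalRing.maximalIdeal A)) (ModuleCat.of A A) j,
            x = 0 := by
          intro x
          haveI hC := ext_subsingleton_of_residue (ModuleCat.of A A) (j + 1) hP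
            ((A ⧸ (Ideal.ofList rs • (⊤ : Submodule A A))) ⧸ LinearMap.range g) (j + 1) le_rfl
          obtain ⟨x₂, hx₂⟩ := Ext.contravariant_sequence_exact₁ hS (ModuleCat.of A A) x
            (add_comm 1 j) (@Subsingleton.elim _ hC _ _)
          haveI := HasProjectiveDimensionLT.subsingleton
            (ModuleCat.of A (A ⧸ (Ideal.ofList rs • (⊤ : Submodule A A)))) (t + 1) j htj
            (ModuleCat.of A A)
          rw [← hx₂, Subsingleton.elim x₂ 0, Ext.comp_zero]
        rw [hz x, hz y]
      · exact hP j' (by omega)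
  have hP := key n (t + 1) le_rfl (by omega)
  have hdt : d ≤ t := by
    by_contra hcon
    exact h1 (hP d (by omega))
  have htdepth : (t : ℕ∞) ≤ LocCoh.depth A A := by
    rw [← ht]
    exact Depth.length_le_idealDepth _ _ hIM rs hreg hmem
  obtain ⟨d', hd', hd'le⟩ := Depth.exists_depth_eq (R := A) A
  have hd'd : d' ≤ d := by
    rw [Module.supportDim_self_eq_ringKrullDim, hd] at hd'le
    exact_mod_cast hd'le
  have htd' : t ≤ d' := by
    rw [hd'] at htdepth
    exact_mod_cast htdepth
  have htd : t = d := by omega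
  refine ⟨?_, ?_, h1⟩
  · rw [hd']
    have : d' = d := by omega
    rw [this]
  · intro j hj
    exact hP j (by omega)

theorem exists_ringKrullDim_eq : ∃ d : ℕ, ringKrullDim A = d := by
  obtain ⟨d, hd⟩ := LC.exists_supportDim_eq (R := A) A
  exact ⟨d, by rw [← Module.supportDim_self_eq_ringKrullDim, hd]⟩

/-- S0341: Gorenstein local rings are Cohen–Macaulay. -/
theorem isCohenMacaulayLocalRing_of_gorenstein (n : ℕ)
    (hn : HasInjectiveDimensionLT (ModuleCat.of A A) n) : LocCoh.IsCohenMacaulayLocalRing A := by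
  obtain ⟨d, hd⟩ := exists_ringKrullDim_eq (A := A)
  obtain ⟨h1, -, -⟩ := bass_main n hn d hd
  exact { supportDim_eq_depth := by rw [Module.supportDim_self_eq_ringKrullDim, hd, h1]; rfl }

/-- over a Gorenstein local ring of dimension `d`, `Ext^j(N, A) = 0` for `j > d`, finite `N` -/
theorem ext_subsingleton_of_gorenstein (n : ℕ)
    (hn : HasInjectiveDimensionLT (ModuleCat.of A A) n) (d : ℕ) (hd : ringKrullDim A = d)
    (N : Type u) [AddCommGroup N] [Module A N] [Module.Finite A N] (j : ℕ) (hj : d + 1 ≤ j) :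
    Subsingleton (Ext (ModuleCat.of A N) (ModuleCat.of A A) j) := by
  obtain ⟨-, h2, -⟩ := bass_main n hn d hd
  haveI hfinA : Module.Finite A (ModuleCat.of A A) := Module.Finite.self A
  exact ext_subsingleton_of_residue (ModuleCat.of A A) (d + 1) h2 N j hj

/-- a Gorenstein local ring of dimension `d` has injective dimension `d` -/
theorem hasInjectiveDimensionLT_of_gorenstein (n : ℕ)
    (hn : HasInjectiveDimensionLT (ModuleCat.of A A) n) (d : ℕ) (hd : ringKrullDim A = d) :
    HasInjectiveDimensionLT (ModuleCat.of A A) (d + 1) := by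
  obtain ⟨-, h2, -⟩ := bass_main n hn d hd
  haveI hfinA : Module.Finite A (ModuleCat.of A A) := Module.Finite.self A
  exact hasInjectiveDimensionLT_of_residue (ModuleCat.of A A) d h2

/-- S11642: over a Gorenstein local ring of dimension `d`, a nonzero finite module `M` has
positive depth iff `Ext^d(M, A) = 0`. -/
theorem depth_pos_iff_of_gorenstein (n : ℕ)
    (hn : HasInjectiveDimensionLT (ModuleCat.of A A) n) (d : ℕ) (hd : ringKrullDim A = d)
    (M : Type u) [AddCommGroup M] [Module A M] [Module.Finite A M] [Nontrivial M] :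
    0 < LocCoh.depth A M ↔ Subsingleton (Ext (ModuleCat.of A M) (ModuleCat.of A A) d) := by
  haveI hfinA : Module.Finite A (ModuleCat.of A A) := Module.Finite.self A
  haveI hfinM : Module.Finite A (ModuleCat.of A M) := ‹Module.Finite A M›
  obtain ⟨-, h2, h3⟩ := bass_main n hn d hd
  constructor
  · intro hpos
    obtain ⟨x, hx, hreg⟩ := Groth.Agent.H1.AB.exists_isSMulRegular_of_depth_ne_zero M hpos.ne'
    refine Isch.ext_subsingleton_of_quotSMulTop (ModuleCat.of A M) (ModuleCat.of A A) hx hreg d ?_
    exact ext_subsingleton_of_gorenstein n hn d hd _ (d + 1) le_rfl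
  · intro hsub
    by_contra hcon
    have h0 : LocCoh.depth A M = 0 := by
      rw [not_lt] at hcon
      exact le_antisymm hcon bot_le
    have hnoreg : ∀ r ∈ IsLocalRing.maximalIdeal A, ¬ IsSMulRegular M r := by
      intro r hr hreg
      exact Groth.Agent.H1.AB.depth_ne_zero_of_isSMulRegular M r hr hreg h0
    obtain ⟨g, hg⟩ := exists_injective_residue M hnoreg
    have hS : (ShortComplex.mk (ModuleCat.ofHom g) (ModuleCat.ofHom (LinearMap.range g).mkQ) (by
        apply ModuleCat.hom_ext
        apply LinearMap.ext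
        intro y
        exact (Submodule.Quotient.mk_eq_zero _).mpr ⟨y, rfl⟩)).ShortExact := by
      apply ModuleCat.shortComplex_shortExact
      · intro y
        constructor
        · intro hy
          exact (Submodule.Quotient.mk_eq_zero _).mp hy
        · rintro ⟨z, rfl⟩
          exact (Submodule.Quotient.mk_eq_zero _).mpr ⟨z, rfl⟩
      · exact hg
      · exact Submodule.mkQ_surjective _
    apply h3
    refine ⟨fun x y => ?_⟩
    have hz : ∀ x : Ext (ModuleCat.of A (A ⧸ IsLocalRing.maximalIdeal A)) (ModuleCat.of A A) d,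
        x = 0 := by
      intro x
      haveI hC := ext_subsingleton_of_gorenstein n hn d hd (M ⧸ LinearMap.range g) (d + 1) le_rfl
      obtain ⟨x₂, hx₂⟩ := Ext.contravariant_sequence_exact₁ hS (ModuleCat.of A A) x
        (add_comm 1 d) (@Subsingleton.elim _ hC _ _)
      haveI := hsub
      rw [← hx₂, Subsingleton.elim x₂ 0, Ext.comp_zero]
    rw [hz x, hz y]

end Local

end Bass

end Groth.Agent.H6
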