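import Mathlib
import Groth.Agent.Lib.Helper6.Bass1

universe u
open CategoryTheory CategoryTheory.Limits CategoryTheory.Abelian

namespace Groth.Agent.H6

namespace CR

variable (A B : Type u) [CommRing A] [CommRing B] [Algebra A B]

/-- restriction of scalars along `A → B` -/
noncomputable abbrev rsF : ModuleCat.{u} B ⥤ ModuleCat.{u} A :=
  ModuleCat.restrictScalars (algebraMap A B)

variable {A B}

variable (M : ModuleCat.{u} A) (Mb : ModuleCat.{u} B) (δ : Ext ((rsF A B).obj Mb) M 1)

/-- the comparison map `Ext_B^i(N, M̄) → Ext_A^{i+1}(N, M)` -/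
noncomputable def Φ (N : ModuleCat.{u} B) (i : ℕ) (α : Ext N Mb i) :
    Ext ((rsF A B).obj N) M (i + 1) :=
  (α.mapExactFunctor (rsF A B)).comp δ rfl

variable {M Mb}

theorem Φ_add (N : ModuleCat.{u} B) (i : ℕ) (α β : Ext N Mb i) :
    Φ M Mb δ N i (α + β) = Φ M Mb δ N i α + Φ M Mb δ N i β := by
  unfold Φ
  rw [Ext.mapExactFunctor_add, Ext.add_comp]

theorem Φ_zero (N : ModuleCat.{u} B) (i : ℕ) : Φ M Mb δ N i 0 = 0 := by
  unfold Φ
  rw [Ext.mapExactFunctor_zero, Ext.zero_comp]

theorem Φ_sub (N : ModuleCat.{u} B) (i : ℕ) (α β : Ext N Mb i) :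
    Φ M Mb δ N i (α - β) = Φ M Mb δ N i α - Φ M Mb δ N i β := by
  have h := Φ_add δ N i (α - β) β
  rw [sub_add_cancel] at h
  rw [h, add_sub_cancel_right]

theorem Φ_comp {N' N : ModuleCat.{u} B} {a i c : ℕ} (e : Ext N' N a) (α : Ext N Mb i)
    (h : a + i = c) :
    Φ M Mb δ N' c (e.comp α h) =
      (e.mapExactFunctor (rsF A B)).comp (Φ M Mb δ N i α) (by omega) := by
  unfold Φ
  rw [Ext.mapExactFunctor_comp, Ext.comp_assoc]
  omega

/-- Dimension shifting: if `Φ` is bijective in degree `0` and `Ext_A^{≥2}(P, M) = 0` for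
finite free `B`-modules `P`, then `Φ` is bijective in all degrees (on finite modules). -/
theorem Φ_bijective [IsNoetherianRing B]
    (h0 : ∀ (N : ModuleCat.{u} B) [Module.Finite B N], Function.Bijective (Φ M Mb δ N 0))
    (hfree : ∀ (P : ModuleCat.{u} B) [Module.Free B P] [Module.Finite B P] (j : ℕ), 2 ≤ j →
      Subsingleton (Ext ((rsF A B).obj P) M j)) (i : ℕ) :
    ∀ (N : ModuleCat.{u} B) [Module.Finite B N], Function.Bijective (Φ M Mb δ N i) := by
  induction i with
  | zero => exact h0
  | succ i ih =>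
    intro N _
    rcases Module.exists_finite_presentation B N with ⟨P, _, _, _, _, f, surjf⟩
    let S := f.shortComplexKer
    have hS : S.ShortExact := LinearMap.shortExact_shortComplexKer surjf
    have hRS := hS.map_of_exact (rsF A B)
    have hclass : hS.extClass.mapExactFunctor (rsF A B) = hRS.extClass :=
      Ext.mapExactFunctor_extClass (rsF A B) hS
    haveI : Module.Finite B S.X₁ := by
      change Module.Finite B (LinearMap.ker f)
      infer_instance
    haveI : Module.Finite B S.X₂ := by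
      change Module.Finite B P
      infer_instance
    haveI : Module.Free B S.X₂ := by
      change Module.Free B P
      infer_instance
    haveI : Projective S.X₂ := S.X₂.projective_of_categoryTheory_projective
    have hA2 : ∀ z : Ext ((rsF A B).obj S.X₂) M (i + 1 + 1), z = 0 := fun z =>
      @Subsingleton.elim _ (hfree S.X₂ (i + 1 + 1) (by omega)) _ _
    have hB2 : ∀ z : Ext S.X₂ Mb (i + 1), z = 0 := fun z => Ext.eq_zero_of_projective z
    constructor
    · -- injectivity
      intro x x' hxx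
      have key : ∀ x : Ext S.X₃ Mb (i + 1), Φ M Mb δ S.X₃ (i + 1) x = 0 → x = 0 := by
        intro x hx
        obtain ⟨x₁, rfl⟩ := Ext.contravariant_sequence_exact₃ hS Mb x (hB2 _) (add_comm 1 i)
        rw [Φ_comp, hclass] at hx
        obtain ⟨z, hz⟩ := Ext.contravariant_sequence_exact₁ hRS M (Φ M Mb δ S.X₁ i x₁)
          (add_comm 1 (i + 1)) hx
        obtain ⟨z', rfl⟩ := (ih S.X₂).2 z
        have h1 : Φ M Mb δ S.X₁ i ((Ext.mk₀ S.f).comp z' (zero_add i)) = Φ M Mb δ S.X₁ i x₁ := by
          rw [Φ_comp, Ext.mapExactFunctor_mk₀]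
          exact hz
        have h2 := (ih S.X₁).1 h1
        rw [← h2, ← Ext.comp_assoc hS.extClass (Ext.mk₀ S.f) z' (add_zero 1) (zero_add i)
          (by omega), hS.extClass_comp, Ext.zero_comp]
      have := key (x - x') (by rw [Φ_sub]; exact sub_eq_zero.mpr hxx)
      exact sub_eq_zero.mp this
    · -- surjectivity
      intro y
      obtain ⟨y₁, hy₁⟩ := Ext.contravariant_sequence_exact₃ hRS M y (hA2 _)
        (add_comm 1 (i + 1))
      obtain ⟨x₁, rfl⟩ := (ih S.X₁).2 y₁
      refine ⟨hS.extClass.comp x₁ (add_comm 1 i), ?_⟩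
      rw [Φ_comp, hclass]
      exact hy₁

section Concrete

variable (hsurj : Function.Surjective (algebraMap A B)) (f : A)
  (hker : RingHom.ker (algebraMap A B) = Ideal.span {f})

theorem rs_smul (N : ModuleCat.{u} B) (a : A) (n : (rsF A B).obj N) :
    a • n = (algebraMap A B a • (n : N) : N) := rfl

include hker in
theorem rs_f_smul (N : ModuleCat.{u} B) (n : (rsF A B).obj N) : f • n = 0 := by
  have h0 : algebraMap A B f = 0 := by
    rw [← RingHom.mem_ker, hker]
    exact Ideal.mem_span_singleton_self f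
  rw [rs_smul, h0, zero_smul]

include hsurj in
/-- restriction of scalars along a surjection is full -/
theorem rs_full (N Mb : ModuleCat.{u} B) (g' : (rsF A B).obj N ⟶ (rsF A B).obj Mb) :
    ∃ g : N ⟶ Mb, (rsF A B).map g = g' := by
  refine ⟨ModuleCat.ofHom
    { toFun := fun n => g'.hom n
      map_add' := fun x y => g'.hom.map_add x y
      map_smul' := fun b n => ?_ }, ?_⟩
  · obtain ⟨a, rfl⟩ := hsurj b
    exact g'.hom.map_smul a n
  · ext n
    rfl

include hsurj hker in
/-- `Ext_A^j(P, M) = 0` for `j ≥ 2` and `P` a finite free `A/f`-module, `f` a non-zero-divisor. -/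
theorem ext_rs_free_subsingleton (hreg : IsSMulRegular A f) (M : ModuleCat.{u} A)
    (P : ModuleCat.{u} B) [Module.Free B P] [Module.Finite B P] (j : ℕ) (hj : 2 ≤ j) :
    Subsingleton (Ext ((rsF A B).obj P) M j) := by
  let ι := Module.Free.ChooseBasisIndex B P
  let b : Module.Basis ι B P := Module.Free.chooseBasis B P
  let v : ι → (rsF A B).obj P := fun i => b i
  let π' : (ι → A) →ₗ[A] (rsF A B).obj P := Fintype.linearCombination A v
  have hπ' : ∀ a : ι → A, π' a = (∑ i, algebraMap A B (a i) • b i : P) := by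
    intro a
    simp only [π', Fintype.linearCombination_apply]
    rfl
  have hsurjπ : Function.Surjective π' := by
    intro p
    choose c hc using fun i => hsurj (b.repr p i)
    refine ⟨c, ?_⟩
    rw [hπ']
    simp_rw [hc]
    exact b.sum_repr p
  let μ : (ι → A) →ₗ[A] (ι → A) := LinearMap.lsmul A (ι → A) f
  have hinjμ : Function.Injective μ := by
    intro a a' haa
    funext i
    have := congrFun haa i
    exact hreg this
  have hex : Function.Exact μ π' := by
    intro a
    constructor
    · intro ha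
      rw [hπ'] at ha
      have h0 : ∀ i, algebraMap A B (a i) = 0 := by
        intro i
        have := (Fintype.linearIndependent_iff.mp b.linearIndependent) _ ha i
        exact this
      have h1 : ∀ i, ∃ c, c * f = a i := by
        intro i
        have := h0 i
        rw [← RingHom.mem_ker, hker] at this
        exact Ideal.mem_span_singleton'.mp this
      choose c hc using h1
      refine ⟨c, ?_⟩
      funext i
      change f • c i = a i
      rw [smul_eq_mul, mul_comm, hc]
    · rintro ⟨c, rfl⟩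
      rw [hπ']
      apply Finset.sum_eq_zero
      intro i _
      have : algebraMap A B (μ c i) = 0 := by
        change algebraMap A B (f • c i) = 0
        rw [← RingHom.mem_ker, hker, smul_eq_mul]
        exact Ideal.mul_mem_right _ _ (Ideal.mem_span_singleton_self f)
      rw [this, zero_smul]
      rfl
  have hS : (ShortComplex.mk (ModuleCat.ofHom μ) (ModuleCat.ofHom π') (by
      apply ModuleCat.hom_ext
      apply LinearMap.ext
      intro y
      exact hex.apply_apply_eq_zero y)).ShortExact :=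
    ModuleCat.shortComplex_shortExact _ hex hinjμ hsurjπ
  haveI : Projective (ModuleCat.of A (ι → A)) :=
    (ModuleCat.of A (ι → A)).projective_of_categoryTheory_projective
  refine ⟨fun x y => ?_⟩
  have key : ∀ x : Ext ((rsF A B).obj P) M j, x = 0 := by
    intro x
    obtain ⟨j', rfl⟩ : ∃ j', j = 1 + (j' + 1) := ⟨j - 2, by omega⟩
    obtain ⟨x₁, hx₁⟩ := Ext.contravariant_sequence_exact₃ hS M x (Ext.eq_zero_of_projective _) rfl
    rw [← hx₁, Ext.eq_zero_of_projective x₁, Ext.comp_zero]
  rw [key x, key y]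

section Base

variable {f}
variable {M : ModuleCat.{u} A} {Mb : ModuleCat.{u} B} {π : M ⟶ (rsF A B).obj Mb}
  {w : (f • 𝟙 M) ≫ π = 0} (hS : (ShortComplex.mk (f • 𝟙 M) π w).ShortExact)

include hsurj hker in
theorem Φ_zero_bijective (N : ModuleCat.{u} B) :
    Function.Bijective (Φ M Mb hS.extClass N 0) := by
  have hregM : ∀ m : M, f • m = 0 → m = 0 := by
    intro m hm
    have hinj := hS.moduleCat_injective_f
    apply hinj
    rw [map_zero]
    exact hm
  have hhom : ∀ h : (rsF A B).obj N ⟶ M, h = 0 := by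
    intro h
    ext n
    apply hregM
    rw [← map_smul, rs_f_smul f hker N n, map_zero]
  constructor
  · intro α α' hαα
    have key : ∀ α : Ext N Mb 0, Φ M Mb hS.extClass N 0 α = 0 → α = 0 := by
      intro α hα
      obtain ⟨g, rfl⟩ := (Ext.mk₀_bijective N Mb).2 α
      unfold Φ at hα
      rw [Ext.mapExactFunctor_mk₀] at hα
      obtain ⟨x₂, hx₂⟩ := Ext.covariant_sequence_exact₃ _ hS (Ext.mk₀ ((rsF A B).map g)) rfl hα
      obtain ⟨h, rfl⟩ := (Ext.mk₀_bijective _ _).2 x₂
      rw [hhom h, Ext.mk₀_zero, Ext.zero_comp] at hx₂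
      have h1 : (rsF A B).map g = 0 := (Ext.mk₀_bijective _ _).1 (by rw [← hx₂, Ext.mk₀_zero])
      have h2 : g = 0 := (rsF A B).map_injective (by rw [h1, Functor.map_zero])
      rw [h2, Ext.mk₀_zero]
    have := key (α - α') (by rw [Φ_sub]; exact sub_eq_zero.mpr hαα)
    exact sub_eq_zero.mp this
  · intro y
    have hy : y.comp (Ext.mk₀ (f • 𝟙 M)) (add_zero 1) = 0 := by
      rw [Ext.mk₀_smul, Ext.comp_smul, Ext.comp_mk₀_id]
      exact Bass.smul_ext_eq_zero _ _ f (fun n => rs_f_smul f hker N n) 1 y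
    obtain ⟨x₃, hx₃⟩ := Ext.covariant_sequence_exact₁ _ hS y hy (zero_add 1)
    obtain ⟨g', rfl⟩ := (Ext.mk₀_bijective _ _).2 x₃
    obtain ⟨g, rfl⟩ := rs_full hsurj N Mb g'
    refine ⟨Ext.mk₀ g, ?_⟩
    unfold Φ
    rw [Ext.mapExactFunctor_mk₀]
    exact hx₃

include hsurj hker in
/-- **Change of rings** (Bruns–Herzog 3.1.16): for `f` regular on `A` and on `M`,
`Ext_{A/f}^i(N, M/fM) ≅ Ext_A^{i+1}(N, M)` for finite `A/f`-modules `N`. -/
theorem Φ_bijective_of_regular [IsNoetherianRing B] (hreg : IsSMulRegular A f) (i : ℕ)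
    (N : ModuleCat.{u} B) [Module.Finite B N] :
    Function.Bijective (Φ M Mb hS.extClass N i) :=
  Φ_bijective hS.extClass (fun N _ => Φ_zero_bijective hsurj hker hS N)
    (fun P _ _ j hj => ext_rs_free_subsingleton hsurj f hker hreg M P j hj) i N

include hsurj hker hS in
theorem subsingleton_ext_iff [IsNoetherianRing B] (hreg : IsSMulRegular A f) (i : ℕ)
    (N : ModuleCat.{u} B) [Module.Finite B N] :
    Subsingleton (Ext N Mb i) ↔ Subsingleton (Ext ((rsF A B).obj N) M (i + 1)) :=
  (Equiv.ofBijective _ (Φ_bijective_of_regular hsurj hker hS hreg i N)).subsingleton_congr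

end Base

end Concrete

section Iso

theorem ext_subsingleton_of_iso {C : Type*} [Category C] [Abelian C] [HasExt C] {X X' : C}
    (e : X ≅ X') (Y : C) (n : ℕ) (h : Subsingleton (Ext X' Y n)) : Subsingleton (Ext X Y n) := by
  refine ⟨fun α β => ?_⟩
  have key : ∀ α : Ext X Y n, α = 0 := by
    intro α
    have h1 : α = (Ext.mk₀ e.hom).comp ((Ext.mk₀ e.inv).comp α (zero_add n)) (zero_add n) := by
      rw [← Ext.comp_assoc (Ext.mk₀ e.hom) (Ext.mk₀ e.inv) α (zero_add 0) (zero_add n) (by omega),
        Ext.mk₀_comp_mk₀, e.hom_inv_id, Ext.mk₀_id_comp]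
    rw [h1, Subsingleton.elim ((Ext.mk₀ e.inv).comp α (zero_add n)) 0, Ext.comp_zero]
  rw [key α, key β]

theorem ext_subsingleton_iff_of_iso {C : Type*} [Category C] [Abelian C] [HasExt C] {X X' : C}
    (e : X ≅ X') (Y : C) (n : ℕ) : Subsingleton (Ext X Y n) ↔ Subsingleton (Ext X' Y n) :=
  ⟨ext_subsingleton_of_iso e.symm Y n, ext_subsingleton_of_iso e Y n⟩

/-- restriction of scalars agrees with a compatible module structure -/
noncomputable def rsIso (N : Type u) [AddCommGroup N] [Module A N] [Module B N]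
    [IsScalarTower A B N] : (rsF A B).obj (ModuleCat.of B N) ≅ ModuleCat.of A N :=
  LinearEquiv.toModuleIso (X₁ := ((rsF A B).obj (ModuleCat.of B N))) (X₂ := N)
    (AddEquiv.toLinearEquiv (M := ((rsF A B).obj (ModuleCat.of B N))) (M₂ := N)
      (AddEquiv.refl N) (fun a n => algebraMap_smul B a (show N from n)))

end Iso

section Quot

variable {A : Type u} [CommRing A] (f : A)

/-- the quotient map `A → A/f` as a morphism to the restricted module -/
noncomputable def quotπ : ModuleCat.of A A ⟶ (rsF A (A ⧸ Ideal.span {f})).obj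
    (ModuleCat.of (A ⧸ Ideal.span {f}) (A ⧸ Ideal.span {f})) :=
  ModuleCat.ofHom (Algebra.linearMap A (A ⧸ Ideal.span {f})) ≫
    (rsIso (A := A) (B := A ⧸ Ideal.span {f}) (A ⧸ Ideal.span {f})).inv

theorem quotπ_apply (a : A) : (quotπ f).hom a = (Ideal.Quotient.mk (Ideal.span {f}) a) := rfl

theorem quot_w : (f • 𝟙 (ModuleCat.of A A)) ≫ quotπ f = 0 := by
  ext
  change (quotπ f).hom (f • (1 : A)) = 0
  rw [quotπ_apply, smul_eq_mul, mul_one]
  exact Ideal.Quotient.eq_zero_iff_mem.mpr (Ideal.mem_span_singleton_self f)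

theorem quot_shortExact (hreg : IsSMulRegular A f) :
    (ShortComplex.mk (f • 𝟙 (ModuleCat.of A A)) (quotπ f) (quot_w f)).ShortExact := by
  apply ModuleCat.shortComplex_shortExact
  · intro a
    change (Ideal.Quotient.mk (Ideal.span {f}) a : A ⧸ Ideal.span {f}) = 0 ↔ ∃ c : A, f • c = a
    rw [Ideal.Quotient.eq_zero_iff_mem, Ideal.mem_span_singleton']
    constructor
    · rintro ⟨c, rfl⟩
      exact ⟨c, by rw [smul_eq_mul, mul_comm]⟩
    · rintro ⟨c, rfl⟩
      exact ⟨c, by rw [smul_eq_mul, mul_comm]⟩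
  · intro a b hab
    exact hreg hab
  · intro b
    obtain ⟨a, rfl⟩ := Ideal.Quotient.mk_surjective b
    exact ⟨a, rfl⟩

/-- Change of rings for `A → A/f` and the module `A`. -/
theorem quot_subsingleton_ext_iff [IsNoetherianRing A] (hreg : IsSMulRegular A f)
    (N : Type u) [AddCommGroup N] [Module A N] [Module (A ⧸ Ideal.span {f}) N]
    [IsScalarTower A (A ⧸ Ideal.span {f}) N] [Module.Finite (A ⧸ Ideal.span {f}) N] (i : ℕ) :
    Subsingleton (Ext (ModuleCat.of (A ⧸ Ideal.span {f}) N)
        (ModuleCat.of (A ⧸ Ideal.span {f}) (A ⧸ Ideal.span {f})) i) ↔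
      Subsingleton (Ext (ModuleCat.of A N) (ModuleCat.of A A) (i + 1)) := by
  have hsurj : Function.Surjective (algebraMap A (A ⧸ Ideal.span {f})) :=
    Ideal.Quotient.mk_surjective
  have hker : RingHom.ker (algebraMap A (A ⧸ Ideal.span {f})) = Ideal.span {f} :=
    Ideal.mk_ker
  haveI : Module.Finite (A ⧸ Ideal.span {f}) (ModuleCat.of (A ⧸ Ideal.span {f}) N) :=
    ‹Module.Finite (A ⧸ Ideal.span {f}) N›
  rw [subsingleton_ext_iff hsurj hker (quot_shortExact f hreg) hreg i
    (ModuleCat.of (A ⧸ Ideal.span {f}) N)]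
  exact ext_subsingleton_iff_of_iso (rsIso N) _ _

end Quot

end CR

end Groth.Agent.H6

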