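import Mathlib
import Groth.Prelude.Def_Wider
import Groth.Agent.Lib.Helper6.ChangeRings

universe u
open CategoryTheory CategoryTheory.Abelian

namespace Groth.Agent.H6.CR

variable {A : Type u} [CommRing A] [IsLocalRing A]

/-- the residue fields of `A` and of a nontrivial quotient agree as `A`-modules -/
theorem nonempty_residue_equiv (J : Ideal A) [IsLocalRing (A ⧸ J)] :
    Nonempty ((A ⧸ IsLocalRing.maximalIdeal A) ≃ₗ[A]
      ((A ⧸ J) ⧸ IsLocalRing.maximalIdeal (A ⧸ J))) := by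
  let φ : A →ₗ[A] ((A ⧸ J) ⧸ IsLocalRing.maximalIdeal (A ⧸ J)) :=
    Algebra.linearMap A _
  have hφ : Function.Surjective φ := by
    intro y
    obtain ⟨b, rfl⟩ := Ideal.Quotient.mk_surjective y
    obtain ⟨a, rfl⟩ := Ideal.Quotient.mk_surjective b
    exact ⟨a, rfl⟩
  have hmax : (Ideal.comap (Ideal.Quotient.mk J) (IsLocalRing.maximalIdeal (A ⧸ J))).IsMaximal :=
    Ideal.comap_isMaximal_of_surjective _ Ideal.Quotient.mk_surjective
  have hker : LinearMap.ker φ = IsLocalRing.maximalIdeal A := by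
    have := IsLocalRing.eq_maximalIdeal hmax
    rw [← this]
    ext a
    rw [LinearMap.mem_ker, Ideal.mem_comap]
    change Ideal.Quotient.mk _ (Ideal.Quotient.mk J a) = 0 ↔ _
    rw [Ideal.Quotient.eq_zero_iff_mem]
  exact ⟨(Submodule.quotEquivOfEq _ _ hker.symm).trans (φ.quotKerEquivOfSurjective hφ)⟩

/-- S0343 -/
theorem gorenstein_quot_iff [IsNoetherianRing A] (f : A) (hf : f ∈ IsLocalRing.maximalIdeal A)
    (hreg : IsSMulRegular A f) :
    LocCoh.IsGorensteinLocalRing A ↔ LocCoh.IsGorensteinLocalRing (A ⧸ Ideal.span {f}) := by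
  have hne : Ideal.span {f} ≠ ⊤ := by
    intro h
    have : Ideal.span {f} ≤ IsLocalRing.maximalIdeal A :=
      (Ideal.span_singleton_le_iff_mem _).mpr hf
    rw [h] at this
    exact (IsLocalRing.maximalIdeal.isMaximal A).ne_top (top_le_iff.mp this)
  haveI : Nontrivial (A ⧸ Ideal.span {f}) := Ideal.Quotient.nontrivial_iff.mpr hne
  haveI : IsLocalRing (A ⧸ Ideal.span {f}) :=
    IsLocalRing.of_surjective' (Ideal.Quotient.mk (Ideal.span {f})) Ideal.Quotient.mk_surjective
  constructor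
  · intro h
    obtain ⟨n, hn⟩ := h.exists_hasInjectiveDimensionLT
    refine { exists_hasInjectiveDimensionLT := ⟨n + 1, ?_⟩ }
    apply Groth.Agent.H1.Reg.hasInjectiveDimensionLT_of_ext_cyclic
    intro I
    rw [quot_subsingleton_ext_iff f hreg ((A ⧸ Ideal.span {f}) ⧸ I) (n + 1)]
    exact HasInjectiveDimensionLT.subsingleton (ModuleCat.of A A) n (n + 1 + 1) (by omega) _
  · intro h
    obtain ⟨n, hn⟩ := h.exists_hasInjectiveDimensionLT
    refine { exists_hasInjectiveDimensionLT := ?_ }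
    refine (Bass.finite_injdim_iff (A := A) A).mpr ⟨n + 1, fun i hi => ?_⟩
    obtain ⟨i, rfl⟩ : ∃ i', i = i' + 1 := ⟨i - 1, by omega⟩
    obtain ⟨e⟩ := nonempty_residue_equiv (A := A) (Ideal.span {f})
    refine ext_subsingleton_of_iso e.toModuleIso _ _ ?_
    rw [← quot_subsingleton_ext_iff f hreg
      ((A ⧸ Ideal.span {f}) ⧸ IsLocalRing.maximalIdeal (A ⧸ Ideal.span {f})) i]
    exact HasInjectiveDimensionLT.subsingleton _ n i (by omega) _

end Groth.Agent.H6.CR
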