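import Mathlib
import Groth.Agent.Lib.Helper6.Bass2
import Groth.Agent.Lib.Helper6.GorQuot
import Groth.Agent.Lib.Helper6.InjHull
import Groth.Agent.Lib.Helper6.InjHullQuot
import Groth.Agent.Lib.Helper6.InjHullLocal
import Groth.Agent.Lib.Helper6.LCZero
import Groth.Agent.Lib.Helper6.LCExact
import Groth.Agent.Lib.Helper6.LCProps
import Groth.Agent.Lib.Helper6.LCDepth
import Groth.Agent.Lib.Helper6.LCGroVanish
import Groth.Agent.Lib.Helper6.LCNonvanish
import Groth.Agent.S11614

/-! The top local cohomology of a Gorenstein local ring is an injective hull of the residue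
field (S11665, S5160). -/

universe u
open CategoryTheory CategoryTheory.Abelian InjHull

namespace Groth.Agent.H6.GorLC

variable {R : Type u} [CommRing R]

/-- Extending an identification of the `x`-torsion to an isomorphism. -/
theorem exists_equiv_of_torsion (x : R)
    {E E' T : Type u} [AddCommGroup E] [Module R E] [AddCommGroup E'] [Module R E']
    [AddCommGroup T] [Module R T] [Module.Injective R E']
    (hE : ∀ e : E, ∃ t : ℕ, x ^ t • e = 0) (hE' : ∀ e : E', ∃ t : ℕ, x ^ t • e = 0)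
    (hsurj : ∀ e : E, ∃ e₁ : E, x • e₁ = e)
    (a : T →ₗ[R] E) (b : T →ₗ[R] E') (hb : Function.Injective b)
    (hra : ∀ e : E, x • e = 0 → ∃ t, a t = e)
    (hrb : ∀ e : E', x • e = 0 → ∃ t, b t = e) (ha : Function.Injective a) :
    Nonempty (E ≃ₗ[R] E') := by
  obtain ⟨φ, hφ⟩ := Module.Injective.extension_property R E' T E a ha b
  have hφa : ∀ t, φ (a t) = b t := fun t => LinearMap.congr_fun hφ t
  have hinj : Function.Injective φ := by
    rw [← LinearMap.ker_eq_bot, eq_bot_iff]
    intro e he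
    rw [LinearMap.mem_ker] at he
    rw [Submodule.mem_bot]
    by_contra hne
    classical
    have hex := hE e
    have hpos : 0 < Nat.find hex := by
      rw [Nat.pos_iff_ne_zero]
      intro h0
      have := Nat.find_spec hex
      rw [h0, pow_zero, one_smul] at this
      exact hne this
    obtain ⟨s, hs⟩ : ∃ s, Nat.find hex = s + 1 := ⟨Nat.find hex - 1, by omega⟩
    have h1 : x • (x ^ s • e) = 0 := by
      rw [← mul_smul, ← pow_succ', ← hs]
      exact Nat.find_spec hex
    have h2 : x ^ s • e ≠ 0 := Nat.find_min hex (by omega)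
    obtain ⟨t, ht⟩ := hra _ h1
    have h3 : b t = 0 := by
      rw [← hφa, ht, map_smul, he, smul_zero]
    have h4 : t = 0 := hb (h3.trans (map_zero b).symm)
    apply h2
    rw [← ht, h4, map_zero]
  have hsur : ∀ (t : ℕ) (e' : E'), x ^ t • e' = 0 → ∃ e, φ e = e' := by
    intro t
    induction t with
    | zero =>
      intro e' he'
      rw [pow_zero, one_smul] at he'
      exact ⟨0, by rw [map_zero, he']⟩
    | succ t ih =>
      intro e' he'
      have h1 : x ^ t • (x • e') = 0 := by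
        rw [← mul_smul, ← pow_succ]
        exact he'
      obtain ⟨e, he⟩ := ih _ h1
      obtain ⟨e₁, he₁⟩ := hsurj e
      have h2 : x • (e' - φ e₁) = 0 := by
        rw [smul_sub, ← map_smul, he₁, he, sub_self]
      obtain ⟨t', ht'⟩ := hrb _ h2
      refine ⟨a t' + e₁, ?_⟩
      rw [map_add, hφa, ht', sub_add_cancel]
  exact ⟨LinearEquiv.ofBijective φ ⟨hinj, fun e' => by
    obtain ⟨t, ht⟩ := hE' e'
    exact hsur t e' ht⟩⟩

/-- Postcomposing an injective hull with an isomorphism gives an injective hull. -/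
theorem hull_equiv_comp {M E E' : Type u} [AddCommGroup M] [Module R M] [AddCommGroup E]
    [Module R E] [AddCommGroup E'] [Module R E'] {f : M →ₗ[R] E} (hf : IsInjectiveHull f)
    (e : E ≃ₗ[R] E') : IsInjectiveHull (e.toLinearMap ∘ₗ f) := by
  haveI := hf.isInjective
  refine ⟨(IH.isEssentialInj_iff _).mpr ⟨e.injective.comp hf.injective, fun y hy => ?_⟩,
    IH.injective_of_equiv e⟩
  have hx : e.symm y ≠ 0 := fun h => hy (by simpa using congrArg e h)
  obtain ⟨r, hr0, m, hm⟩ := ((IH.isEssentialInj_iff f).mp hf.toIsEssentialInj).2 _ hx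
  refine ⟨r, fun h => hr0 ?_, m, ?_⟩
  · rw [← map_smul, h, map_zero]
  · change e (f m) = r • y
    rw [hm, map_smul, e.apply_symm_apply]

/-- A local ring is indecomposable as a module over itself. -/
theorem indecomposable_self [IsLocalRing R] : IsIndecomposable R R := by
  refine ⟨inferInstance, fun N N' h => ?_⟩
  have h1 : (1 : R) ∈ N ⊔ N' := by rw [h.sup_eq_top]; trivial
  obtain ⟨a, ha, b, hb, hab⟩ := Submodule.mem_sup.mp h1
  rcases IsLocalRing.isUnit_or_isUnit_of_add_one hab with hu | hu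
  · right
    have hN : N = ⊤ := Ideal.eq_top_of_isUnit_mem N ha hu
    have := h.inf_eq_bot
    rwa [hN, top_inf_eq] at this
  · left
    have hN : N' = ⊤ := Ideal.eq_top_of_isUnit_mem N' hb hu
    have := h.inf_eq_bot
    rwa [hN, inf_top_eq] at this

theorem base_case [LocCoh.IsGorensteinLocalRing R] (hd : ringKrullDim R = (0 : ℕ)) :
    ∃ g : IsLocalRing.ResidueField R →ₗ[R] LocCoh.H (IsLocalRing.maximalIdeal R) 0 R,
      IsInjectiveHull g := by
  obtain ⟨N, hN⟩ := LocCoh.IsGorensteinLocalRing.exists_hasInjectiveDimensionLT (A := R)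
  have h1 := Bass.hasInjectiveDimensionLT_of_gorenstein N hN 0 hd
  rw [zero_add] at h1
  haveI : Injective (ModuleCat.of R R) := injective_iff_hasInjectiveDimensionLT_one.mpr h1
  haveI : Module.Injective R R := Module.injective_module_of_injective_object R (ModuleCat.of R R)
  obtain ⟨p, hp, f, hf⟩ := IH.exists_hull_quot_of_indecomposable (indecomposable_self (R := R))
  haveI hK : Ring.KrullDimLE 0 R := Ring.krullDimLE_iff.mpr (le_of_eq hd)
  have hpm : p = IsLocalRing.maximalIdeal R :=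
    IsLocalRing.eq_maximalIdeal (Ideal.isMaximal_of_isPrime p)
  subst hpm
  haveI : IsArtinianRing R := isArtinianRing_iff_krullDimLE_zero.mpr hK
  obtain ⟨k, hk⟩ := (isArtinianRing_iff_isNilpotent_maximalIdeal R).mp inferInstance
  have htop : DRing.torsionSub (IsLocalRing.maximalIdeal R) (ModuleCat.of R R) = ⊤ := by
    rw [eq_top_iff]
    intro r _
    refine ⟨k, fun a ha => ?_⟩
    rw [hk] at ha
    rw [(Submodule.mem_bot R).mp ha, zero_smul]
  let e : LocCoh.H (IsLocalRing.maximalIdeal R) 0 R ≃ₗ[R] R :=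
    (LC.zeroEquiv (IsLocalRing.maximalIdeal R) (ModuleCat.of R R)).trans
      ((LinearEquiv.ofEq _ _ htop).trans Submodule.topEquiv)
  exact ⟨e.symm.toLinearMap ∘ₗ f, hull_equiv_comp hf e.symm⟩

/-- the sequence `0 → R → R → R/x → 0` -/
noncomputable def quotSC (x : R) : ShortComplex (ModuleCat.{u} R) :=
  ShortComplex.mk (x • 𝟙 (ModuleCat.of R R))
    (ModuleCat.ofHom (Algebra.linearMap R (R ⧸ Ideal.span {x}))) (by
      ext
      change (Ideal.Quotient.mk (Ideal.span {x}) (x • (1 : R)) : R ⧸ Ideal.span {x}) = 0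
      rw [smul_eq_mul, mul_one]
      exact Ideal.Quotient.eq_zero_iff_mem.mpr (Ideal.mem_span_singleton_self x))

theorem quotSC_shortExact (x : R) (hreg : IsSMulRegular R x) : (quotSC x).ShortExact := by
  apply ModuleCat.shortComplex_shortExact
  · intro (a : R)
    change (Ideal.Quotient.mk (Ideal.span {x}) a : R ⧸ Ideal.span {x}) = 0 ↔ ∃ c : R, x • c = a
    rw [Ideal.Quotient.eq_zero_iff_mem, Ideal.mem_span_singleton']
    constructor
    · rintro ⟨c, rfl⟩
      exact ⟨c, by rw [smul_eq_mul, mul_comm]⟩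
    · rintro ⟨c, rfl⟩
      exact ⟨c, by rw [smul_eq_mul, mul_comm]⟩
  · intro (a : R) (b : R) hab
    exact hreg hab
  · intro (b : R ⧸ Ideal.span {x})
    obtain ⟨a, rfl⟩ := Ideal.Quotient.mk_surjective b
    exact ⟨a, rfl⟩

theorem step (n : ℕ) [hG : LocCoh.IsGorensteinLocalRing R] (hd : ringKrullDim R = ((n + 1 : ℕ) : WithBot ℕ∞))
    (ih : ∀ (B : Type u) [CommRing B] [LocCoh.IsGorensteinLocalRing B], ringKrullDim B = (n : WithBot ℕ∞) →
      ∃ g : IsLocalRing.ResidueField B →ₗ[B] LocCoh.H (IsLocalRing.maximalIdeal B) n B,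
        IsInjectiveHull g) :
    ∃ g : IsLocalRing.ResidueField R →ₗ[R] LocCoh.H (IsLocalRing.maximalIdeal R) (n + 1) R,
      IsInjectiveHull g := by
  obtain ⟨N, hN⟩ := LocCoh.IsGorensteinLocalRing.exists_hasInjectiveDimensionLT (A := R)
  obtain ⟨hdepth, -, -⟩ := Bass.bass_main N hN (n + 1) hd
  have hdne : LocCoh.depth R R ≠ 0 := by
    rw [hdepth]; exact_mod_cast Nat.succ_ne_zero n
  obtain ⟨x, hx, hreg⟩ := Groth.Agent.H1.AB.exists_isSMulRegular_of_depth_ne_zero R hdne
  set m := IsLocalRing.maximalIdeal R with hm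
  -- the quotient ring
  have hne : Ideal.span {x} ≠ ⊤ := by
    intro h
    have : Ideal.span {x} ≤ m := (Ideal.span_singleton_le_iff_mem _).mpr hx
    rw [h] at this
    exact (IsLocalRing.maximalIdeal.isMaximal R).ne_top (top_le_iff.mp this)
  haveI : Nontrivial (R ⧸ Ideal.span {x}) := Ideal.Quotient.nontrivial_iff.mpr hne
  haveI : IsLocalRing (R ⧸ Ideal.span {x}) :=
    IsLocalRing.of_surjective' (Ideal.Quotient.mk (Ideal.span {x})) Ideal.Quotient.mk_surjective
  haveI hGB : LocCoh.IsGorensteinLocalRing (R ⧸ Ideal.span {x}) :=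
    (CR.gorenstein_quot_iff x hx hreg).mp hG
  have hdB : ringKrullDim (R ⧸ Ideal.span {x}) = (n : WithBot ℕ∞) := by
    apply LC.withBot_eq_of_add_one_eq
    rw [ringKrullDim_quotient_span_singleton_succ_eq_ringKrullDim hreg hx, hd]
  have hmap : Ideal.map (algebraMap R (R ⧸ Ideal.span {x})) m =
      IsLocalRing.maximalIdeal (R ⧸ Ideal.span {x}) := by
    have h1 : Ideal.comap (Ideal.Quotient.mk (Ideal.span {x}))
        (IsLocalRing.maximalIdeal (R ⧸ Ideal.span {x})) = m :=
      IsLocalRing.eq_maximalIdeal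
        (Ideal.comap_isMaximal_of_surjective _ Ideal.Quotient.mk_surjective)
    rw [← h1]
    exact Ideal.map_comap_of_surjective _ Ideal.Quotient.mk_surjective _
  obtain ⟨gB, hgB⟩ : ∃ g : IsLocalRing.ResidueField (R ⧸ Ideal.span {x}) →ₗ[R ⧸ Ideal.span {x}]
      LocCoh.H (Ideal.map (algebraMap R (R ⧸ Ideal.span {x})) m) n (R ⧸ Ideal.span {x}),
      IsInjectiveHull g := by
    rw [hmap]
    exact ih (R ⧸ Ideal.span {x}) hdB
  obtain ⟨φ, hφ⟩ := Groth.Agent.S11614.result R (R ⧸ Ideal.span {x}) m (R ⧸ Ideal.span {x}) n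
  -- the long exact sequence
  have hS := quotSC_shortExact x hreg
  have hIM : m • (⊤ : Submodule R R) ≠ ⊤ := by
    rw [smul_eq_mul, Ideal.mul_top]
    exact (IsLocalRing.maximalIdeal.isMaximal R).ne_top
  have hvan : Subsingleton (LocCoh.H m n R) := by
    have hle : ((n + 1 : ℕ) : ℕ∞) ≤ LocCoh.idealDepth m R := le_of_eq hdepth.symm
    exact (LC.le_idealDepth_iff m R hIM (n + 1)).mp hle n (Nat.lt_succ_self n)
  have hvanB : Subsingleton (LocCoh.H m (n + 1) (R ⧸ Ideal.span {x})) := by
    apply LC.subsingleton_of_supportDim_lt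
    rw [Module.supportDim_quotient_eq_ringKrullDim, hdB]
    exact_mod_cast Nat.lt_succ_self n
  let a : LocCoh.H m n (R ⧸ Ideal.span {x}) →ₗ[R] LocCoh.H m (n + 1) R := LC.δ hS m n
  have ha : Function.Injective a := by
    rw [← LinearMap.ker_eq_bot, eq_bot_iff]
    intro z hz
    rw [LinearMap.mem_ker] at hz
    obtain ⟨y, rfl⟩ := LC.exact₃ hS z hz
    have : y = 0 := hvan.elim _ _
    rw [this, map_zero]
    exact Submodule.zero_mem _
  have hra : ∀ e : LocCoh.H m (n + 1) R, x • e = 0 → ∃ t, a t = e := by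
    intro e he
    exact LC.exact₁ hS e ((LC.map_smul_id (M := ModuleCat.of R R) x e).trans he)
  have hsurj : ∀ e : LocCoh.H m (n + 1) R, ∃ e₁ : LocCoh.H m (n + 1) R, x • e₁ = e := by
    intro e
    obtain ⟨e₁, he₁⟩ := LC.exact₂ hS e (hvanB.elim _ _)
    exact ⟨e₁, (LC.map_smul_id (M := ModuleCat.of R R) x e₁).symm.trans he₁⟩
  have hE : ∀ e : LocCoh.H m (n + 1) R, ∃ t : ℕ, x ^ t • e = 0 := by
    intro e
    obtain ⟨k, hk⟩ := LC.isPowerTorsion m (n + 1) (ModuleCat.of R R) e
    exact ⟨k, hk _ (Ideal.pow_mem_pow hx k)⟩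
  -- the injective hull over `R`
  obtain ⟨E', _, _, f', hf'⟩ := IH.exists_injectiveHull (R := R) (R ⧸ m)
  haveI : Module.Injective R E' := hf'.isInjective
  have hE' : ∀ e : E', ∃ t : ℕ, x ^ t • e = 0 := by
    intro e
    obtain ⟨k, hk⟩ := IH.powerTorsion_of_hull m hf' e
    exact ⟨k, hk _ (Ideal.pow_mem_pow hx k)⟩
  obtain ⟨g', hg'⟩ := IH.exists_hull_torsionBySet_residue (Ideal.span {x}) hf'
  obtain ⟨e, -⟩ := IH.exists_equiv_of_hulls hgB hg'
  have hφs : ∀ (r : R) (t : LocCoh.H m n (R ⧸ Ideal.span {x})),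
      φ.symm (r • t) = algebraMap R (R ⧸ Ideal.span {x}) r • φ.symm t := by
    intro r t
    apply φ.injective
    rw [hφ, φ.apply_symm_apply, φ.apply_symm_apply]
  let b : LocCoh.H m n (R ⧸ Ideal.span {x}) →ₗ[R] E' :=
    { toFun := fun t => ((e (φ.symm t) : Submodule.torsionBySet R E' (Ideal.span {x} : Set R)) : E')
      map_add' := fun t t' => by rw [map_add, map_add]; rfl
      map_smul' := fun r t => by
        rw [hφs, map_smul]
        rfl }
  have hb : Function.Injective b := by
    intro t t' h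
    exact φ.symm.injective (e.injective (Subtype.ext h))
  have hrb : ∀ e' : E', x • e' = 0 → ∃ t, b t = e' := by
    intro e' he'
    have hmem : e' ∈ Submodule.torsionBySet R E' (Ideal.span {x} : Set R) := by
      rw [Submodule.mem_torsionBySet_iff]
      rintro ⟨c, hc⟩
      obtain ⟨c', rfl⟩ := Ideal.mem_span_singleton'.mp hc
      change (c' * x) • e' = 0
      rw [mul_smul, he', smul_zero]
    refine ⟨φ (e.symm ⟨e', hmem⟩), ?_⟩
    change ((e (φ.symm (φ (e.symm ⟨e', hmem⟩))) : Submodule.torsionBySet R E' _) : E') = e'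
    rw [φ.symm_apply_apply, e.apply_symm_apply]
  obtain ⟨ee⟩ := exists_equiv_of_torsion x hE hE' hsurj a b hb hra hrb ha
  exact ⟨ee.symm.toLinearMap ∘ₗ f', hull_equiv_comp hf' ee.symm⟩

/-- **S11665**: `H^n_m(R)` is an injective hull of `k` for a Gorenstein local ring of
dimension `n`. -/
theorem top_lc_hull (n : ℕ) : ∀ (R : Type u) [CommRing R] [LocCoh.IsGorensteinLocalRing R],
    ringKrullDim R = (n : WithBot ℕ∞) →
    ∃ g : IsLocalRing.ResidueField R →ₗ[R] LocCoh.H (IsLocalRing.maximalIdeal R) n R,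
      IsInjectiveHull g := by
  induction n with
  | zero => intro R _ _ hd; exact base_case hd
  | succ n ih => intro R _ _ hd; exact step n hd ih

end Groth.Agent.H6.GorLC
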