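import Mathlib
import Groth.Agent.Lib.Helper6.GorLC
import Groth.Agent.Lib.Helper6.ExtCollapse
import Groth.Agent.Lib.Helper6.Bass1

universe u
open CategoryTheory CategoryTheory.Abelian InjHull

namespace Groth.Agent.H6.GorLC

variable {A : Type u} [CommRing A]

/-- `k` is killed by `m`. -/
theorem residue_killed [IsLocalRing A] :
    ∃ k : ℕ, ∀ a ∈ IsLocalRing.maximalIdeal A ^ k,
      ∀ x : (ModuleCat.of A (IsLocalRing.ResidueField A)), a • x = 0 := by
  refine ⟨1, fun a ha x => ?_⟩
  rw [pow_one] at ha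
  obtain ⟨y, rfl⟩ := Ideal.Quotient.mk_surjective (I := IsLocalRing.maximalIdeal A) x
  change (Ideal.Quotient.mk (IsLocalRing.maximalIdeal A) (a * y) : A ⧸ IsLocalRing.maximalIdeal A) = 0
  exact Ideal.Quotient.eq_zero_iff_mem.mpr (Ideal.mul_mem_right _ _ ha)

/-- S11175 -/
theorem gorenstein_iff_lc [IsLocalRing A] [IsNoetherianRing A] :
    LocCoh.IsGorensteinLocalRing A ↔ ∃ d : ℕ,
      (∀ i : ℕ, i ≠ d → Subsingleton (LocCoh.H (IsLocalRing.maximalIdeal A) i A)) ∧
      Module.Injective A (LocCoh.H (IsLocalRing.maximalIdeal A) d A) := by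
  constructor
  · intro hG
    obtain ⟨d, hd⟩ := Bass.exists_ringKrullDim_eq (A := A)
    obtain ⟨N, hN⟩ := hG.exists_hasInjectiveDimensionLT
    obtain ⟨hdepth, -, -⟩ := Bass.bass_main N hN d hd
    refine ⟨d, fun i hi => ?_, ?_⟩
    · rcases Nat.lt_or_gt_of_ne hi with hlt | hgt
      · have hIM : IsLocalRing.maximalIdeal A • (⊤ : Submodule A A) ≠ ⊤ := by
          rw [smul_eq_mul, Ideal.mul_top]
          exact (IsLocalRing.maximalIdeal.isMaximal A).ne_top
        have hle : ((d : ℕ) : ℕ∞) ≤ LocCoh.idealDepth (IsLocalRing.maximalIdeal A) A :=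
          le_of_eq hdepth.symm
        exact (LC.le_idealDepth_iff _ A hIM d).mp hle i hlt
      · apply LC.subsingleton_of_supportDim_lt
        rw [Module.supportDim_self_eq_ringKrullDim, hd]
        exact_mod_cast hgt
    · obtain ⟨g, hg⟩ := top_lc_hull d A hd
      exact hg.isInjective
  · rintro ⟨d, hvan, hinj⟩
    refine { exists_hasInjectiveDimensionLT := ?_ }
    refine (Bass.finite_injdim_iff (A := A) A).mpr ⟨d + 1, fun i hi => ?_⟩
    obtain ⟨p, rfl⟩ : ∃ p, i = d + (p + 1) := ⟨i - d - 1, by omega⟩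
    obtain ⟨e⟩ := ExtLin.collapse (IsLocalRing.maximalIdeal A)
      (ModuleCat.of A (IsLocalRing.ResidueField A)) residue_killed d (ModuleCat.of A A) hvan (p + 1)
    haveI : Injective ((localCohomology (IsLocalRing.maximalIdeal A) d).obj (ModuleCat.of A A)) :=
      Module.injective_object_of_injective_module A _
    haveI := Ext.subsingleton_of_injective (ModuleCat.of A (IsLocalRing.ResidueField A))
      ((localCohomology (IsLocalRing.maximalIdeal A) d).obj (ModuleCat.of A A)) p
    exact e.toEquiv.subsingleton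

end Groth.Agent.H6.GorLC
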