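import Mathlib
import Groth.Agent.Lib.Helper6.CanDual
import Groth.Agent.Lib.Helper6.InjHullLocal
import Groth.Agent.Lib.Helper6.LCNonvanish
import Groth.Agent.Lib.Helper6.LCExtVanish
import Groth.Agent.Lib.Helper6.GorLC2
import Groth.Agent.Lib.Helper1.RegGlobal

universe u
open CategoryTheory CategoryTheory.Abelian InjHull

namespace Groth.Agent.H6.Can

variable {A : Type u} [CommRing A]

/-- a module with zero Matlis dual is zero -/
theorem subsingleton_of_dual_subsingleton [IsLocalRing A] {E : Type u} [AddCommGroup E]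
    [Module A E] {f : (A ⧸ IsLocalRing.maximalIdeal A) →ₗ[A] E} (hf : IsInjectiveHull f)
    (X : Type u) [AddCommGroup X] [Module A X] (h : Subsingleton (X →ₗ[A] E)) :
    Subsingleton X := by
  have hinj := IH.eval_injective hf X
  refine ⟨fun a b => hinj ?_⟩
  apply LinearMap.ext
  intro φ
  change φ a = φ b
  rw [Subsingleton.elim φ 0]
  rfl

variable [LocCoh.IsCohenMacaulayLocalRing A] (n : ℕ) (hn : ringKrullDim A = (n : WithBot ℕ∞))
  (E K : Type u) [AddCommGroup E] [Module A E]
  (f : IsLocalRing.ResidueField A →ₗ[A] E) (hf : IsInjectiveHull f)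
  [AddCommGroup K] [Module A K] [Module.Finite A K]
  (eK : (K →ₗ[A] E) ≃ₗ[A] LocCoh.H (IsLocalRing.maximalIdeal A) n A)

omit [Module.Finite A K] in
include hn eK in
theorem can_nontrivial : Nontrivial K := by
  have h1 : Nontrivial (LocCoh.H (IsLocalRing.maximalIdeal A) n A) :=
    LC.nontrivial_H_of_supportDim_eq n A (by rw [Module.supportDim_self_eq_ringKrullDim, hn])
  have h2 : Nontrivial (K →ₗ[A] E) := eK.toEquiv.nontrivial
  by_contra hK
  rw [not_nontrivial_iff_subsingleton] at hK
  haveI := hK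
  exact not_subsingleton (K →ₗ[A] E) ⟨fun a b => LinearMap.ext fun x => by
    rw [Subsingleton.elim x 0, map_zero, map_zero]⟩

include hn hf eK in
/-- **S7700** -/
theorem can_injdim_cm :
    HasInjectiveDimensionLT (ModuleCat.of A K) (n + 1) ∧
      ¬ HasInjectiveDimensionLT (ModuleCat.of A K) n ∧
      LocCoh.IsCohenMacaulayModule A K ∧ Module.supportDim A K = (n : WithBot ℕ∞) := by
  haveI : Module.Injective A E := hf.isInjective
  haveI hKnt : Nontrivial K := can_nontrivial n hn E K eK
  -- (1)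
  have h1 : HasInjectiveDimensionLT (ModuleCat.of A K) (n + 1) := by
    apply Groth.Agent.H1.Reg.hasInjectiveDimensionLT_of_ext_cyclic
    intro I
    have := dual_ext_succ_subsingleton_can n hn E K eK (A ⧸ I)
    exact subsingleton_of_dual_subsingleton hf _ this
  -- `Ext^i(k, K) = 0` for `i < n`
  have hk : ∀ x : (ModuleCat.of A (A ⧸ IsLocalRing.maximalIdeal A)),
      x ∈ DRing.torsionSub (IsLocalRing.maximalIdeal A)
        (ModuleCat.of A (A ⧸ IsLocalRing.maximalIdeal A)) := by
    intro x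
    refine ⟨1, fun a ha => ?_⟩
    rw [pow_one] at ha
    obtain ⟨y, rfl⟩ := Ideal.Quotient.mk_surjective (I := IsLocalRing.maximalIdeal A) x
    change (Ideal.Quotient.mk (IsLocalRing.maximalIdeal A) (a * y) :
      A ⧸ IsLocalRing.maximalIdeal A) = 0
    exact Ideal.Quotient.eq_zero_iff_mem.mpr (Ideal.mul_mem_right _ _ ha)
  have hext : ∀ i < n, Subsingleton (Ext (ModuleCat.of A (A ⧸ IsLocalRing.maximalIdeal A))
      (ModuleCat.of A K) i) := by
    intro i hi
    obtain ⟨e⟩ := local_duality_can n hn E K eK (A ⧸ IsLocalRing.maximalIdeal A) i (n - i)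
      (by omega)
    obtain ⟨j, hj⟩ : ∃ j, n - i = j + 1 := ⟨n - i - 1, by omega⟩
    rw [hj] at e
    haveI := LC.subsingleton_of_torsion (IsLocalRing.maximalIdeal A) j
      (ModuleCat.of A (A ⧸ IsLocalRing.maximalIdeal A)) hk
    exact subsingleton_of_dual_subsingleton hf _ e.symm.toEquiv.subsingleton
  -- (2)
  have h2 : ¬ HasInjectiveDimensionLT (ModuleCat.of A K) n := by
    intro hlt
    have hs : Subsingleton (Ext (ModuleCat.of A (A ⧸ IsLocalRing.maximalIdeal A))
        (ModuleCat.of A K) n) := HasInjectiveDimensionLT.subsingleton _ n n le_rfl _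
    obtain ⟨e⟩ := local_duality_can n hn E K eK (A ⧸ IsLocalRing.maximalIdeal A) n 0 (by omega)
    haveI : Subsingleton (Ext (ModuleCat.of A (A ⧸ IsLocalRing.maximalIdeal A))
        (ModuleCat.of A K) n →ₗ[A] E) :=
      ⟨fun a b => LinearMap.ext fun x => by rw [Subsingleton.elim x 0, map_zero, map_zero]⟩
    have h0 : Subsingleton (LocCoh.H (IsLocalRing.maximalIdeal A) 0
        (A ⧸ IsLocalRing.maximalIdeal A)) := e.toEquiv.subsingleton
    have h0' : Subsingleton (DRing.torsionSub (IsLocalRing.maximalIdeal A)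
        (ModuleCat.of A (A ⧸ IsLocalRing.maximalIdeal A))) :=
      (LC.zeroEquiv _ _).symm.toEquiv.subsingleton
    have h1 : (⟨1, hk 1⟩ : DRing.torsionSub (IsLocalRing.maximalIdeal A)
        (ModuleCat.of A (A ⧸ IsLocalRing.maximalIdeal A))) = ⟨0, hk 0⟩ := Subsingleton.elim _ _
    have h2 : (1 : A ⧸ IsLocalRing.maximalIdeal A) = 0 := congrArg Subtype.val h1
    haveI : Nontrivial (A ⧸ IsLocalRing.maximalIdeal A) :=
      Ideal.Quotient.nontrivial_iff.mpr (IsLocalRing.maximalIdeal.isMaximal A).ne_top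
    exact one_ne_zero h2
  -- depth
  have hsupp : Module.support A (ModuleCat.of A (A ⧸ IsLocalRing.maximalIdeal A)) =
      PrimeSpectrum.zeroLocus (IsLocalRing.maximalIdeal A : Set A) := by
    haveI : Module.Finite A (ModuleCat.of A (A ⧸ IsLocalRing.maximalIdeal A)) :=
      Module.Finite.quotient A _
    rw [Module.support_eq_zeroLocus]
    congr 1
    exact congrArg _ (Ideal.annihilator_quotient (I := IsLocalRing.maximalIdeal A))
  haveI : Module.Finite A (ModuleCat.of A (A ⧸ IsLocalRing.maximalIdeal A)) :=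
    Module.Finite.quotient A _
  have hlc := LC.lc_vanish_of_ext_vanish (IsLocalRing.maximalIdeal A)
    (ModuleCat.of A (A ⧸ IsLocalRing.maximalIdeal A)) hsupp n (ModuleCat.of A K) hext
  have hIM := Groth.Agent.H3.DepthAux.smul_top_ne_top_of_nontrivial (R := A) K
  have hdepth : ((n : ℕ) : ℕ∞) ≤ LocCoh.depth A K :=
    (LC.le_idealDepth_iff (IsLocalRing.maximalIdeal A) K hIM n).mpr hlc
  obtain ⟨d, hd, hdle⟩ := Depth.exists_depth_eq (R := A) K
  have hle : Module.supportDim A K ≤ (n : WithBot ℕ∞) := by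
    rw [← hn]
    exact Module.supportDim_le_ringKrullDim A K
  have hnd : n ≤ d := by
    rw [hd] at hdepth
    exact_mod_cast hdepth
  have hdn : ((d : ℕ) : WithBot ℕ∞) ≤ (n : WithBot ℕ∞) := hdle.trans hle
  have hdn' : d ≤ n := by exact_mod_cast hdn
  have hdn'' : d = n := le_antisymm hdn' hnd
  subst hdn''
  have hdim : Module.supportDim A K = (d : WithBot ℕ∞) := le_antisymm hle hdle
  refine ⟨h1, h2, ?_, hdim⟩
  unfold LocCoh.IsCohenMacaulayModule
  rw [hdim, hd]
  rfl

end Groth.Agent.H6.Can
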