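import Mathlib
import Groth.Agent.Lib.Helper6.CanInj

universe u
open CategoryTheory CategoryTheory.Abelian InjHull

namespace Groth.Agent.H6.Can

variable {A : Type u} [CommRing A]

/-- If `Hom(K, E) ≃ E` for a finite module `K` then `K ≃ A`. -/
theorem equiv_self_of_dual_equiv [IsLocalRing A] [IsNoetherianRing A] {E : Type u}
    [AddCommGroup E] [Module A E] {f : (A ⧸ IsLocalRing.maximalIdeal A) →ₗ[A] E}
    (hf : IsInjectiveHull f) (K : Type u) [AddCommGroup K] [Module A K] [Module.Finite A K]
    (e : (K →ₗ[A] E) ≃ₗ[A] E) : Nonempty (K ≃ₗ[A] A) := by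
  -- the annihilator of `K` is zero
  have hann : Module.annihilator A K = ⊥ := by
    rw [IH.annihilator_dual_eq hf K, eq_bot_iff]
    intro a ha
    rw [Module.mem_annihilator] at ha
    have h1 : a ∈ Module.annihilator A A := by
      rw [IH.annihilator_dual_eq hf A, Module.mem_annihilator]
      intro φ
      ext
      rw [LinearMap.smul_apply, LinearMap.zero_apply]
      have := ha (e.symm (φ 1))
      have h2 : a • φ 1 = 0 := by
        have h3 := congrArg e this
        rw [map_smul, e.apply_symm_apply, map_zero] at h3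
        exact h3
      exact h2
    rw [Module.mem_annihilator] at h1
    have := h1 1
    rw [smul_eq_mul, mul_one] at this
    rw [this]
    exact Submodule.zero_mem _
  -- `K` is cyclic
  have hgen := IH.spanFinrank_eq_length_socle_dual hf K
  have hsocle : Module.length A (Submodule.torsionBySet A (K →ₗ[A] E)
      (IsLocalRing.maximalIdeal A : Set A)) = 1 := by
    have e' : Submodule.torsionBySet A (K →ₗ[A] E) (IsLocalRing.maximalIdeal A : Set A) ≃ₗ[A]
        Submodule.torsionBySet A E (IsLocalRing.maximalIdeal A : Set A) :=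
      e.ofSubmodules _ _ (by
        ext y
        constructor
        · rintro ⟨x, hx, rfl⟩
          have hx' := (Submodule.mem_torsionBySet_iff _ _).mp hx
          rw [Submodule.mem_torsionBySet_iff]
          intro a
          rw [← map_smul, hx' a, map_zero]
        · intro hy
          refine ⟨e.symm y, ?_, e.apply_symm_apply y⟩
          have hy' := (Submodule.mem_torsionBySet_iff _ _).mp hy
          change e.symm y ∈ Submodule.torsionBySet A (K →ₗ[A] E) _
          rw [Submodule.mem_torsionBySet_iff]
          intro a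
          rw [← map_smul, hy' a, map_zero])
    rw [e'.length_eq, IH.torsionBySet_eq_range (IsLocalRing.maximalIdeal A) hf.toIsEssentialInj,
      ← (LinearEquiv.ofInjective f hf.injective).length_eq]
    haveI : IsSimpleModule A (A ⧸ IsLocalRing.maximalIdeal A) := IH.isSimpleModule_residue
    exact Module.length_eq_one A _
  rw [hsocle] at hgen
  have h1 : (⊤ : Submodule A K).spanFinrank = 1 := by exact_mod_cast hgen
  obtain ⟨⟨x, hx⟩, -⟩ := (Submodule.spanFinrank_eq_one_iff _).mp h1
  let φ : A →ₗ[A] K := LinearMap.toSpanSingleton A K x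
  have hsurj : Function.Surjective φ := by
    intro y
    have : y ∈ Submodule.span A {x} := by rw [← hx]; trivial
    obtain ⟨r, rfl⟩ := Submodule.mem_span_singleton.mp this
    exact ⟨r, rfl⟩
  have hinj : Function.Injective φ := by
    rw [injective_iff_map_eq_zero]
    intro r hr
    have hr' : r • x = 0 := hr
    have : r ∈ Module.annihilator A K := by
      rw [Module.mem_annihilator]
      intro y
      obtain ⟨s, rfl⟩ := hsurj y
      change r • (s • x) = 0
      rw [smul_comm, hr', smul_zero]
    rw [hann] at this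
    exact this
  exact ⟨(LinearEquiv.ofBijective φ ⟨hinj, hsurj⟩).symm⟩

variable [LocCoh.IsCohenMacaulayLocalRing A] (n : ℕ) (hn : ringKrullDim A = (n : WithBot ℕ∞))
  (E K : Type u) [AddCommGroup E] [Module A E]
  (f : IsLocalRing.ResidueField A →ₗ[A] E) (hf : IsInjectiveHull f)
  [AddCommGroup K] [Module A K] [Module.Finite A K]
  (eK : (K →ₗ[A] E) ≃ₗ[A] LocCoh.H (IsLocalRing.maximalIdeal A) n A)

include hn hf eK in
/-- **S7701** -/
theorem gorenstein_iff_can_equiv_self :
    LocCoh.IsGorensteinLocalRing A ↔ Nonempty (K ≃ₗ[A] A) := by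
  constructor
  · intro hG
    obtain ⟨g, hg⟩ := GorLC.top_lc_hull n A hn
    obtain ⟨e2, -⟩ := IH.exists_equiv_of_hulls hg hf
    exact equiv_self_of_dual_equiv hf K (eK.trans e2)
  · rintro ⟨e⟩
    haveI := hf.isInjective
    have e1 : E ≃ₗ[A] LocCoh.H (IsLocalRing.maximalIdeal A) n A :=
      (LinearMap.ringLmapEquivSelf A A E).symm.trans
        ((LinearEquiv.congrLeft E A e.symm).trans eK)
    have hinj : Module.Injective A (LocCoh.H (IsLocalRing.maximalIdeal A) n A) :=
      IH.injective_of_equiv e1
    exact GorLC.gorenstein_iff_lc.mpr ⟨n, lc_vanish_of_cm n hn, hinj⟩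

end Groth.Agent.H6.Can
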