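import Mathlib
import Groth.Agent.Lib.Helper6.CanGor
import Groth.Agent.Lib.Helper6.CMKit
import Groth.Agent.Lib.Helper6.LDKer

universe u
set_option linter.style.haveILetI false
open CategoryTheory CategoryTheory.Abelian InjHull
open scoped Pointwise

namespace Groth.Agent.H6.CanQ

variable {R : Type u} [CommRing R] [IsNoetherianRing R] [IsLocalRing R]
  {E : Type u} [AddCommGroup E] [Module R E]

/-- the invariant: `P` is Cohen–Macaulay of dimension `j` and `Q` is "dual" to `P` -/
structure Inv (R : Type u) [CommRing R] [IsNoetherianRing R] [IsLocalRing R] (E : Type u) [AddCommGroup E] [Module R E] (P Q : Type u) [AddCommGroup P] [Module R P]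
    [AddCommGroup Q] [Module R Q] (j : ℕ) : Prop where
  finP : Module.Finite R P
  finQ : Module.Finite R Q
  cm : LocCoh.IsCohenMacaulayModule R P
  dim : Module.supportDim R P = (j : WithBot ℕ∞)
  dual : Nonempty ((Q →ₗ[R] E) ≃ₗ[R] LocCoh.H (IsLocalRing.maximalIdeal R) j P)

section Facts

variable {P Q : Type u} [AddCommGroup P] [Module R P] [AddCommGroup Q] [Module R Q] {j : ℕ}

theorem Inv.nontrivialP (h : Inv R E P Q j) : Nontrivial P := CM.nontrivial_of_cm h.cm

theorem Inv.depth (h : Inv R E P Q j) : LocCoh.depth R P = (j : ℕ∞) := by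
  have h1 := h.cm
  unfold LocCoh.IsCohenMacaulayModule at h1
  rw [h.dim] at h1
  have : ((j : ℕ∞) : WithBot ℕ∞) = ((LocCoh.depth R P : ℕ∞) : WithBot ℕ∞) := by exact_mod_cast h1
  exact (WithBot.coe_injective this).symm

theorem Inv.vanish (h : Inv R E P Q j) (i : ℕ) (hi : i ≠ j) :
    Subsingleton (LocCoh.H (IsLocalRing.maximalIdeal R) i P) := by
  haveI := h.finP
  haveI := h.nontrivialP
  rcases Nat.lt_or_gt_of_ne hi with hlt | hgt
  · have hIM : IsLocalRing.maximalIdeal R • (⊤ : Submodule R P) ≠ ⊤ :=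
      Groth.Agent.H3.DepthAux.smul_top_ne_top_of_nontrivial _ 
    have hle : ((j : ℕ) : ℕ∞) ≤ LocCoh.idealDepth (IsLocalRing.maximalIdeal R) P :=
      le_of_eq h.depth.symm
    exact (LC.le_idealDepth_iff _ P hIM j).mp hle i hlt
  · apply LC.subsingleton_of_supportDim_lt
    rw [h.dim]
    exact_mod_cast hgt

theorem Inv.nontrivialH (h : Inv R E P Q j) :
    Nontrivial (LocCoh.H (IsLocalRing.maximalIdeal R) j P) := by
  haveI := h.finP
  exact LC.nontrivial_H_of_supportDim_eq j P h.dim

theorem Inv.nontrivialQ (h : Inv R E P Q j) : Nontrivial Q := by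
  obtain ⟨e⟩ := h.dual
  haveI := h.nontrivialH
  have h2 : Nontrivial (Q →ₗ[R] E) := e.toEquiv.nontrivial
  by_contra hK
  rw [not_nontrivial_iff_subsingleton] at hK
  haveI := hK
  exact not_subsingleton (Q →ₗ[R] E) ⟨fun a b => LinearMap.ext fun x => by
    rw [Subsingleton.elim x 0, map_zero, map_zero]⟩

end Facts


section Dual

variable [Module.Injective R E]

omit [IsNoetherianRing R] [IsLocalRing R] in
/-- if `a` is injective on `X` then `a` is surjective on `Hom(X, E)` for `E` injective -/
theorem dual_smul_surjective (a : R) (X : Type u) [AddCommGroup X] [Module R X]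
    (h : IsSMulRegular X a) (φ : X →ₗ[R] E) : ∃ ψ : X →ₗ[R] E, a • ψ = φ := by
  obtain ⟨ψ, hψ⟩ := Module.Injective.extension_property R E X X (LinearMap.lsmul R X a) h φ
  refine ⟨ψ, ?_⟩
  ext x
  have := LinearMap.congr_fun hψ x
  rw [LinearMap.smul_apply, ← map_smul]
  exact this

omit [IsNoetherianRing R] in
/-- if `a` is surjective on the Matlis dual of `X` then `a` is injective on `X` -/
theorem isSMulRegular_of_dual_smul_surjective
    {f : (R ⧸ IsLocalRing.maximalIdeal R) →ₗ[R] E} (hf : IsInjectiveHull f)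
    (a : R) (X : Type u) [AddCommGroup X] [Module R X]
    (h : ∀ φ : X →ₗ[R] E, ∃ ψ : X →ₗ[R] E, a • ψ = φ) : IsSMulRegular X a := by
  have hN : Subsingleton (LinearMap.ker (LinearMap.lsmul R X a) →ₗ[R] E) := by
    refine ⟨fun φ₁ φ₂ => ?_⟩
    obtain ⟨χ, hχ⟩ := Module.Injective.extension_property R E _ _
      (LinearMap.ker (LinearMap.lsmul R X a)).subtype Subtype.val_injective (φ₁ - φ₂)
    obtain ⟨ψ, hψ⟩ := h χ
    rw [← sub_eq_zero]
    ext n
    have h1 := LinearMap.congr_fun hχ n
    rw [← h1, ← hψ]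
    change (a • ψ) (n : X) = 0
    rw [LinearMap.smul_apply, ← map_smul]
    have hn : a • (n : X) = 0 := LinearMap.mem_ker.mp n.2
    rw [hn, map_zero]
  have hsub := Can.subsingleton_of_dual_subsingleton hf _ hN
  intro x y hxy
  have hmem : x - y ∈ LinearMap.ker (LinearMap.lsmul R X a) := by
    rw [LinearMap.mem_ker]
    change a • (x - y) = 0
    rw [smul_sub]
    exact sub_eq_zero.mpr hxy
  have := hsub.elim ⟨x - y, hmem⟩ 0
  have h0 : x - y = 0 := congrArg Subtype.val this
  exact sub_eq_zero.mp h0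

end Dual


section Step

variable {P Q : Type u} [AddCommGroup P] [Module R P] [AddCommGroup Q] [Module R Q] {j : ℕ}
  {f : (R ⧸ IsLocalRing.maximalIdeal R) →ₗ[R] E} (hf : IsInjectiveHull f)

include hf in
/-- Step A: a `P`-regular element of the maximal ideal is `Q`-regular, and the invariant
passes to the quotients. -/
theorem stepA (h : Inv R E P Q j) (a : R) (ha : a ∈ IsLocalRing.maximalIdeal R)
    (hreg : IsSMulRegular P a) :
    ∃ d : ℕ, j = d + 1 ∧ IsSMulRegular Q a ∧ Inv R E (QuotSMulTop a P) (QuotSMulTop a Q) d := by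
  haveI : Module.Injective R E := hf.isInjective
  haveI := h.finP
  haveI := h.finQ
  have hcm' := CM.cm_quotSMulTop P h.cm a ha hreg
  have hdim' := Module.supportDim_quotSMulTop_succ_eq_supportDim hreg ha
  rw [h.dim] at hdim'
  haveI := CM.nontrivial_of_cm hcm'
  obtain ⟨d, hd⟩ := LC.exists_supportDim_eq (R := R) (QuotSMulTop a P)
  rw [hd] at hdim'
  have hj : j = d + 1 := by
    have : ((d + 1 : ℕ) : WithBot ℕ∞) = (j : WithBot ℕ∞) := by exact_mod_cast hdim'
    have := WithBot.coe_injective this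
    exact_mod_cast this.symm
  subst hj
  obtain ⟨e⟩ := h.dual
  have hreg' : IsSMulRegular (ModuleCat.of R P) a := hreg
  have hS := hreg'.smulShortComplex_shortExact
  have hfmap : ∀ (i : ℕ) (y : LocCoh.H (IsLocalRing.maximalIdeal R) i P),
      ((localCohomology (IsLocalRing.maximalIdeal R) i).map
        ((ModuleCat.of R P).smulShortComplex a).f).hom y = a • y := by
    intro i y
    rw [ModuleCat.smulShortComplex_f_eq_smul_id]
    exact LC.map_smul_id a y
  -- `H^{d+1}(P/aP) = 0`
  have hvan : Subsingleton (LocCoh.H (IsLocalRing.maximalIdeal R) (d + 1) (QuotSMulTop a P)) := by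
    apply LC.subsingleton_of_supportDim_lt
    rw [hd]
    exact_mod_cast Nat.lt_succ_self d
  -- `a` is surjective on `H^{d+1}(P)`
  have hsurj : ∀ y : LocCoh.H (IsLocalRing.maximalIdeal R) (d + 1) P, ∃ x, a • x = y := by
    intro y
    obtain ⟨x, hx⟩ := LC.exact₂ hS (I := IsLocalRing.maximalIdeal R) (i := d + 1) y
      (@Subsingleton.elim _ hvan _ _)
    exact ⟨x, (hfmap _ x).symm.trans hx⟩
  have hQreg : IsSMulRegular Q a := by
    apply isSMulRegular_of_dual_smul_surjective hf
    intro φ
    obtain ⟨x, hx⟩ := hsurj (e φ)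
    refine ⟨e.symm x, ?_⟩
    rw [← map_smul, hx, e.symm_apply_apply]
  refine ⟨d, rfl, hQreg, ?_⟩
  refine ⟨inferInstance, inferInstance, hcm', hd, ?_⟩
  -- the duality isomorphism
  have e1 := LD.dualCokerEquiv (LinearMap.lsmul R Q a) (a • (⊤ : Submodule R Q)).mkQ
    (Submodule.mkQ_surjective _)
    ((LinearMap.exact_iff).mp (LinearMap.exact_lsmul_mkQ_smul_top Q a)) E
  have e2 := LD.kerEquiv e (LinearMap.lcomp R E (LinearMap.lsmul R Q a))
    ((localCohomology (IsLocalRing.maximalIdeal R) (d + 1)).map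
      ((ModuleCat.of R P).smulShortComplex a).f).hom (by
      intro φ
      have h1 : LinearMap.lcomp R E (LinearMap.lsmul R Q a) φ = a • φ := by
        ext q
        change φ (a • q) = a • φ q
        rw [map_smul]
      rw [h1]
      have h2 := hfmap (d + 1) (e φ)
      rw [← map_smul] at h2
      constructor
      · intro h0
        refine h2.trans ?_
        rw [h0]
        exact map_zero e
      · intro h0
        have : e (a • φ) = 0 := h2.symm.trans h0
        exact (LinearEquiv.map_eq_zero_iff e).mp this)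
  have e3 := LD.lcKerEquiv hS (I := IsLocalRing.maximalIdeal R) d
    (h.vanish d (by omega))
  exact ⟨e1.trans (e2.trans e3.symm)⟩

include hf in
/-- Step B: a `Q`-regular element of the maximal ideal is `P`-regular. -/
theorem stepB (h : Inv R E P Q j) (a : R) (ha : a ∈ IsLocalRing.maximalIdeal R)
    (hreg : IsSMulRegular Q a) : IsSMulRegular P a := by
  haveI : Module.Injective R E := hf.isInjective
  haveI := h.finP
  haveI := h.finQ
  obtain ⟨e⟩ := h.dual
  have hsurj : ∀ y : LocCoh.H (IsLocalRing.maximalIdeal R) j P, ∃ x, a • x = y := by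
    intro y
    obtain ⟨ψ, hψ⟩ := dual_smul_surjective a Q hreg (e.symm y)
    exact ⟨e ψ, by rw [← map_smul, hψ, e.apply_symm_apply]⟩
  have hπ : Function.Surjective (a • (⊤ : Submodule R P)).mkQ := Submodule.mkQ_surjective _
  have hS := LinearMap.shortExact_shortComplexKer hπ
  have hker : Subsingleton (LocCoh.H (IsLocalRing.maximalIdeal R) (j + 1)
      (LinearMap.ker (a • (⊤ : Submodule R P)).mkQ)) := by
    apply LC.subsingleton_of_supportDim_lt
    refine lt_of_le_of_lt (Module.supportDim_le_of_injective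
      (LinearMap.ker (a • (⊤ : Submodule R P)).mkQ).subtype Subtype.val_injective) ?_
    rw [h.dim]
    exact_mod_cast Nat.lt_succ_self j
  have hvan : Subsingleton (LocCoh.H (IsLocalRing.maximalIdeal R) j (QuotSMulTop a P)) := by
    have h0 : ∀ z : LocCoh.H (IsLocalRing.maximalIdeal R) j (QuotSMulTop a P), z = 0 := by
      intro z
      obtain ⟨y, rfl⟩ := LC.exact₃ hS (I := IsLocalRing.maximalIdeal R) (i := j) z
        (@Subsingleton.elim _ hker _ _)
      obtain ⟨x, rfl⟩ := hsurj y
      rw [map_smul]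
      refine LC.smul_eq_zero_of_smul_eq_zero a (fun m => ?_) _
      change a • (m : QuotSMulTop a P) = 0
      obtain ⟨p, rfl⟩ := Submodule.mkQ_surjective _ m
      rw [← map_smul, Submodule.mkQ_apply, Submodule.Quotient.mk_eq_zero]
      exact Submodule.smul_mem_pointwise_smul p a ⊤ Submodule.mem_top
    exact ⟨fun x y => by rw [h0 x, h0 y]⟩
  rw [CM.isSMulRegular_iff_of_cm P h.cm a ha]
  apply le_antisymm
  · -- `dim P/aP + 1 ≤ dim P`
    have hle : Module.supportDim R (QuotSMulTop a P) ≤ Module.supportDim R P :=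
      Module.supportDim_le_of_surjective _ hπ
    rw [h.dim] at hle ⊢
    by_cases hnt : Nontrivial (QuotSMulTop a P)
    · obtain ⟨d, hd⟩ := LC.exists_supportDim_eq (R := R) (QuotSMulTop a P)
      rw [hd] at hle ⊢
      have hdj : d ≤ j := by exact_mod_cast hle
      have hne : d ≠ j := by
        rintro rfl
        haveI := LC.nontrivial_H_of_supportDim_eq d (QuotSMulTop a P) hd
        exact not_subsingleton _ hvan
      have : d + 1 ≤ j := by omega
      exact_mod_cast this
    · rw [not_nontrivial_iff_subsingleton] at hnt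
      haveI := hnt
      rw [Module.supportDim_eq_bot_of_subsingleton]
      simp
  · exact Module.supportDim_le_supportDim_quotSMulTop_succ ha

end Step

section Main

open RingTheory.Sequence

omit [IsNoetherianRing R] [IsLocalRing R] in
/-- local cohomology of linearly equivalent modules -/
noncomputable def lcCongr (I : Ideal R) (i : ℕ) {M N : Type u} [AddCommGroup M] [Module R M]
    [AddCommGroup N] [Module R N] (e : M ≃ₗ[R] N) : LocCoh.H I i M ≃ₗ[R] LocCoh.H I i N :=
  ((localCohomology I i).mapIso e.toModuleIso).toLinearEquiv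

variable {f : (R ⧸ IsLocalRing.maximalIdeal R) →ₗ[R] E} (hf : IsInjectiveHull f)

include hf in
theorem main (as : List R) :
    ∀ (P Q : Type u) [AddCommGroup P] [Module R P] [AddCommGroup Q] [Module R Q] (j : ℕ),
      Inv R E P Q j → (∀ a ∈ as, a ∈ IsLocalRing.maximalIdeal R) →
      (IsRegular P as ↔ IsRegular Q as) ∧
      (IsRegular P as → Nonempty (((Q ⧸ (Ideal.ofList as • (⊤ : Submodule R Q))) →ₗ[R] E) ≃ₗ[R]
        LocCoh.H (IsLocalRing.maximalIdeal R) (j - as.length)
          (P ⧸ (Ideal.ofList as • (⊤ : Submodule R P))))) := by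
  induction as with
  | nil =>
    intro P Q _ _ _ _ j h _
    haveI := h.nontrivialP
    haveI := h.nontrivialQ
    refine ⟨⟨fun _ => IsRegular.nil R Q, fun _ => IsRegular.nil R P⟩, fun _ => ?_⟩
    obtain ⟨e⟩ := h.dual
    have hP : Ideal.ofList ([] : List R) • (⊤ : Submodule R P) = ⊥ := by
      rw [Ideal.ofList_nil, Submodule.bot_smul]
    have hQ : Ideal.ofList ([] : List R) • (⊤ : Submodule R Q) = ⊥ := by
      rw [Ideal.ofList_nil, Submodule.bot_smul]
    have eP := Submodule.quotEquivOfEqBot _ hP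
    have eQ := Submodule.quotEquivOfEqBot _ hQ
    exact ⟨(LinearEquiv.congrLeft E R eQ).trans
      (e.trans (lcCongr (IsLocalRing.maximalIdeal R) j eP.symm))⟩
  | cons a as ih =>
    intro P Q _ _ _ _ j h has
    have ha : a ∈ IsLocalRing.maximalIdeal R := has a (by simp)
    have has' : ∀ b ∈ as, b ∈ IsLocalRing.maximalIdeal R := fun b hb => has b (by simp [hb])
    rw [isRegular_cons_iff, isRegular_cons_iff]
    refine ⟨⟨?_, ?_⟩, ?_⟩
    · rintro ⟨h1, h2⟩
      obtain ⟨d, -, hQa, hinv⟩ := stepA hf h a ha h1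
      exact ⟨hQa, (ih _ _ d hinv has').1.mp h2⟩
    · rintro ⟨h1, h2⟩
      have hPa := stepB hf h a ha h1
      obtain ⟨d, -, -, hinv⟩ := stepA hf h a ha hPa
      exact ⟨hPa, (ih _ _ d hinv has').1.mpr h2⟩
    · rintro ⟨h1, h2⟩
      obtain ⟨d, rfl, -, hinv⟩ := stepA hf h a ha h1
      obtain ⟨e⟩ := (ih _ _ d hinv has').2 h2
      have hidx : d + 1 - (a :: as).length = d - as.length := by simp
      rw [hidx]
      have eP := Submodule.quotOfListConsSMulTopEquivQuotSMulTopInner P a as
      have eQ := Submodule.quotOfListConsSMulTopEquivQuotSMulTopInner Q a as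
      exact ⟨(LinearEquiv.congrLeft E R eQ).trans
        (e.trans (lcCongr (IsLocalRing.maximalIdeal R) _ eP.symm))⟩

end Main

section Final

open RingTheory.Sequence

variable {A : Type u} [CommRing A] [hCM : LocCoh.IsCohenMacaulayLocalRing A] (n : ℕ)
  (hn : ringKrullDim A = (n : WithBot ℕ∞))
  (E K : Type u) [AddCommGroup E] [Module A E]
  (f : IsLocalRing.ResidueField A →ₗ[A] E) (hf : IsInjectiveHull f)
  [AddCommGroup K] [Module A K] [Module.Finite A K]
  (eK : (K →ₗ[A] E) ≃ₗ[A] LocCoh.H (IsLocalRing.maximalIdeal A) n A)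

include hn eK in
theorem inv_can : Inv A E A K n :=
  ⟨inferInstance, inferInstance, hCM.supportDim_eq_depth,
    (Module.supportDim_self_eq_ringKrullDim (R := A)).trans hn, ⟨eK⟩⟩

include hn hf eK in
/-- **S7702** -/
theorem can_quot (as : List A) (has : ∀ a ∈ as, a ∈ IsLocalRing.maximalIdeal A) :
    (IsRegular A as ↔ IsRegular K as) ∧
      (IsRegular A as → Nonempty (((K ⧸ (Ideal.ofList as • (⊤ : Submodule A K))) →ₗ[A] E) ≃ₗ[A]
        LocCoh.H (IsLocalRing.maximalIdeal A) (n - as.length) (A ⧸ Ideal.ofList as))) := by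
  obtain ⟨h1, h2⟩ := main hf as A K n (inv_can n hn E K eK) has
  refine ⟨h1, fun h => ?_⟩
  obtain ⟨e⟩ := h2 h
  have eA : (A ⧸ (Ideal.ofList as • (⊤ : Submodule A A))) ≃ₗ[A] (A ⧸ Ideal.ofList as) :=
    Submodule.quotEquivOfEq _ _ (by rw [smul_eq_mul, Ideal.mul_top])
  exact ⟨e.trans (lcCongr (IsLocalRing.maximalIdeal A) _ eA)⟩

end Final

end Groth.Agent.H6.CanQ
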