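import Mathlib
import Groth.Agent.Lib.Helper6.CanQuot
import Groth.Agent.S11614

universe u
open CategoryTheory CategoryTheory.Abelian TensorProduct

namespace Groth.Agent.H6.LDL

variable {R A : Type u} [CommRing R] [CommRing A] [Algebra R A] [IsNoetherianRing R]
  [IsNoetherianRing A]

attribute [local instance] Localization.AtPrime.algebraOfLiesOver

section Transfer

variable (hπ : Function.Surjective (algebraMap R A))
  (M : Type u) [AddCommGroup M] [Module A M] [Module R M] [IsScalarTower R A M]
  (p : Ideal A) [p.IsPrime]

include hπ in
theorem map_maximalIdeal_eq :
    Ideal.map (algebraMap (Localization.AtPrime (p.under R)) (Localization.AtPrime p))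
      (IsLocalRing.maximalIdeal (Localization.AtPrime (p.under R))) =
      IsLocalRing.maximalIdeal (Localization.AtPrime p) := by
  have hsurj : Function.Surjective
      (algebraMap (Localization.AtPrime (p.under R)) (Localization.AtPrime p)) :=
    RingHom.surjective_localRingHom_of_surjective (algebraMap R A) hπ p
  rcases Ideal.map_eq_top_or_isMaximal_of_surjective _ hsurj
    (IsLocalRing.maximalIdeal.isMaximal (Localization.AtPrime (p.under R))) with h | h
  · exfalso
    haveI : IsLocalHom
        (algebraMap (Localization.AtPrime (p.under R)) (Localization.AtPrime p)) :=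
      Localization.isLocalHom_localRingHom _ _ _ Ideal.LiesOver.over
    have hle := ((IsLocalRing.local_hom_TFAE
      (algebraMap (Localization.AtPrime (p.under R)) (Localization.AtPrime p))).out 0 2).mp this
    rw [h] at hle
    exact (IsLocalRing.maximalIdeal.isMaximal (Localization.AtPrime p)).ne_top (top_le_iff.mp hle)
  · exact (IsLocalRing.eq_maximalIdeal h)


include hπ in
/-- independence of the base for local cohomology of localisations -/
theorem transfer (j : ℕ) :
    Subsingleton (LocCoh.H (IsLocalRing.maximalIdeal (Localization.AtPrime p)) j
        (LocalizedModule p.primeCompl M)) ↔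
      Subsingleton (LocCoh.H (IsLocalRing.maximalIdeal (Localization.AtPrime (p.under R))) j
        (LocalizedModule (p.under R).primeCompl M)) := by
  have hR : ∀ (r : R) (y : LocalizedModule p.primeCompl M), r • y = (algebraMap R A r) • y :=
    fun r y => (algebraMap_smul A r y).symm
  -- the `T`-module structure on `M_p`
  letI mT : Module (Localization.AtPrime (p.under R)) (LocalizedModule p.primeCompl M) :=
    Module.compHom (LocalizedModule p.primeCompl M)
      (algebraMap (Localization.AtPrime (p.under R)) (Localization.AtPrime p))
  have hT : ∀ (t : Localization.AtPrime (p.under R)) (y : LocalizedModule p.primeCompl M),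
      t • y = (algebraMap (Localization.AtPrime (p.under R)) (Localization.AtPrime p) t) • y :=
    fun t y => rfl
  haveI tTT : IsScalarTower (Localization.AtPrime (p.under R)) (Localization.AtPrime p)
      (LocalizedModule p.primeCompl M) :=
    ⟨fun t a x => by rw [hT, Algebra.smul_def, mul_smul]⟩
  haveI tRT : IsScalarTower R (Localization.AtPrime (p.under R))
      (LocalizedModule p.primeCompl M) :=
    ⟨fun r t x => by
      rw [hT, hR, hT, Algebra.smul_def, map_mul, mul_smul,
        ← IsScalarTower.algebraMap_apply R (Localization.AtPrime (p.under R))
          (Localization.AtPrime p),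
        IsScalarTower.algebraMap_apply R A (Localization.AtPrime p), algebraMap_smul]⟩
  obtain ⟨φ, -⟩ := Groth.Agent.S11614.result (Localization.AtPrime (p.under R))
    (Localization.AtPrime p) (IsLocalRing.maximalIdeal (Localization.AtPrime (p.under R)))
    (LocalizedModule p.primeCompl M) j
  have h1 := φ.toEquiv.subsingleton_congr
  rw [map_maximalIdeal_eq hπ p] at h1
  rw [h1]
  -- `M_p` is the localisation of `M` at `Q`
  have hS : Algebra.algebraMapSubmonoid A (p.under R).primeCompl = p.primeCompl :=
    Submonoid.map_comap_eq_of_surjective hπ p.primeCompl
  haveI hloc : IsLocalizedModule (Algebra.algebraMapSubmonoid A (p.under R).primeCompl)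
      (LocalizedModule.mkLinearMap p.primeCompl M) := by
    rw [hS]; infer_instance
  haveI := IsLocalizedModule.restrictScalars (R := R) (p.under R).primeCompl
    (LocalizedModule.mkLinearMap p.primeCompl M)
  let e0 := IsLocalizedModule.iso (p.under R).primeCompl
    ((LocalizedModule.mkLinearMap p.primeCompl M).restrictScalars R)
  let e := e0.extendScalarsOfIsLocalization (p.under R).primeCompl
    (Localization.AtPrime (p.under R))
  exact (CanQ.lcCongr (IsLocalRing.maximalIdeal (Localization.AtPrime (p.under R))) j
    e).toEquiv.subsingleton_congr.symm

end Transfer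

end Groth.Agent.H6.LDL
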