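import Mathlib
import Groth.Agent.Lib.Helper6.GorLC2
import Groth.Agent.Lib.Helper6.ExtCmp

universe u
open CategoryTheory CategoryTheory.Abelian InjHull

namespace Groth.Agent.H6.GorLC

variable {A : Type u} [CommRing A]

/-- A finite length module over a Noetherian local ring is killed by a power of `m`. -/
theorem exists_pow_smul_eq_zero_of_finiteLength [IsLocalRing A] [IsNoetherianRing A]
    (M : Type u) [AddCommGroup M] [Module A M] (hM : IsFiniteLength A M) :
    ∃ k : ℕ, ∀ a ∈ IsLocalRing.maximalIdeal A ^ k, ∀ x : M, a • x = 0 := by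
  obtain ⟨hN, hA⟩ := isFiniteLength_iff_isNoetherian_isArtinian.mp hM
  let N : ℕ →o Submodule A M :=
    ⟨fun k => Submodule.torsionBySet A M ((IsLocalRing.maximalIdeal A ^ k : Ideal A) : Set A),
      fun a b hab x hx => by
        rw [Submodule.mem_torsionBySet_iff] at hx ⊢
        rintro ⟨r, hr⟩
        exact hx ⟨r, Ideal.pow_le_pow_right hab hr⟩⟩
  obtain ⟨k, hk⟩ := monotone_stabilizes_iff_noetherian.mpr hN N
  refine ⟨k, fun a ha x => ?_⟩
  obtain ⟨j, hj⟩ := IH.powerTorsion_of_isArtinian (R := A) M x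
  have hx : x ∈ N (max j k) := by
    change x ∈ Submodule.torsionBySet A M _
    rw [Submodule.mem_torsionBySet_iff]
    rintro ⟨r, hr⟩
    exact hj r (Ideal.pow_le_pow_right (le_max_left j k) hr)
  rw [← hk (max j k) (le_max_right j k)] at hx
  change x ∈ Submodule.torsionBySet A M _ at hx
  rw [Submodule.mem_torsionBySet_iff] at hx
  exact hx ⟨a, ha⟩

/-- vanishing of local cohomology of a Gorenstein local ring outside the dimension -/
theorem lc_vanish_of_gorenstein [hG : LocCoh.IsGorensteinLocalRing A] (d : ℕ)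
    (hd : ringKrullDim A = (d : WithBot ℕ∞)) (i : ℕ) (hi : i ≠ d) :
    Subsingleton (LocCoh.H (IsLocalRing.maximalIdeal A) i A) := by
  obtain ⟨N, hN⟩ := hG.exists_hasInjectiveDimensionLT
  obtain ⟨hdepth, -, -⟩ := Bass.bass_main N hN d hd
  rcases Nat.lt_or_gt_of_ne hi with hlt | hgt
  · have hIM : IsLocalRing.maximalIdeal A • (⊤ : Submodule A A) ≠ ⊤ := by
      rw [smul_eq_mul, Ideal.mul_top]
      exact (IsLocalRing.maximalIdeal.isMaximal A).ne_top
    have hle : ((d : ℕ) : ℕ∞) ≤ LocCoh.idealDepth (IsLocalRing.maximalIdeal A) A :=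
      le_of_eq hdepth.symm
    exact (LC.le_idealDepth_iff _ A hIM d).mp hle i hlt
  · apply LC.subsingleton_of_supportDim_lt
    rw [Module.supportDim_self_eq_ringKrullDim, hd]
    exact_mod_cast hgt

/-- Duality for finite length modules over a Gorenstein local ring. -/
theorem ext_dual_of_gorenstein [LocCoh.IsGorensteinLocalRing A] (n : ℕ)
    (hn : ringKrullDim A = (n : WithBot ℕ∞)) (M : Type u) [AddCommGroup M] [Module A M]
    (hM : IsFiniteLength A M) :
    (∀ i : ℕ, i ≠ n → Subsingleton (Ext (ModuleCat.of A M) (ModuleCat.of A A) i)) ∧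
      Module.length A (Ext (ModuleCat.of A M) (ModuleCat.of A A) n) = Module.length A M := by
  have hvan := lc_vanish_of_gorenstein (A := A) n hn
  obtain ⟨g, hg⟩ := top_lc_hull n A hn
  haveI hinj : Module.Injective A (LocCoh.H (IsLocalRing.maximalIdeal A) n A) := hg.isInjective
  haveI : Injective ((localCohomology (IsLocalRing.maximalIdeal A) n).obj (ModuleCat.of A A)) :=
    Module.injective_object_of_injective_module A _
  have hF := exists_pow_smul_eq_zero_of_finiteLength M hM
  have hcol := ExtLin.collapse (IsLocalRing.maximalIdeal A) (ModuleCat.of A M) hF n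
    (ModuleCat.of A A) hvan
  refine ⟨fun i hi => ?_, ?_⟩
  · rcases Nat.lt_or_gt_of_ne hi with hlt | hgt
    · exact LC.ext_vanish_of_lc_vanish (IsLocalRing.maximalIdeal A) (ModuleCat.of A M) hF n
        (ModuleCat.of A A) (fun j hj => hvan j (Nat.ne_of_lt hj)) i hlt
    · obtain ⟨p, rfl⟩ : ∃ p, i = n + (p + 1) := ⟨i - n - 1, by omega⟩
      obtain ⟨e⟩ := hcol (p + 1)
      haveI := Ext.subsingleton_of_injective (ModuleCat.of A M)
        ((localCohomology (IsLocalRing.maximalIdeal A) n).obj (ModuleCat.of A A)) p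
      exact e.toEquiv.subsingleton
  · obtain ⟨e⟩ := hcol 0
    rw [add_zero] at e
    have e2 : Ext (ModuleCat.of A M)
        ((localCohomology (IsLocalRing.maximalIdeal A) n).obj (ModuleCat.of A A)) 0 ≃ₗ[A]
        (M →ₗ[A] LocCoh.H (IsLocalRing.maximalIdeal A) n A) :=
      Ext.linearEquiv₀.trans ModuleCat.homLinearEquiv
    rw [(e.trans e2).length_eq]
    exact IH.length_hom_eq hg M hM

end Groth.Agent.H6.GorLC
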