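import Mathlib
import Groth.Agent.Lib.Helper6.LDMain
import Groth.Agent.Lib.Helper6.GorDual

universe u
open CategoryTheory CategoryTheory.Abelian InjHull

namespace Groth.Agent.H6.LD

variable {A : Type u} [CommRing A]

/-- **Local duality over a Gorenstein local ring.** -/
theorem local_duality_gorenstein [LocCoh.IsGorensteinLocalRing A] (r : ℕ)
    (hr : ringKrullDim A = (r : WithBot ℕ∞)) (E : Type u) [AddCommGroup E] [Module A E]
    (f : IsLocalRing.ResidueField A →ₗ[A] E) (hf : IsInjectiveHull f)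
    (M : Type u) [AddCommGroup M] [Module A M] [Module.Finite A M] (i j : ℕ) (hij : i + j = r) :
    Nonempty (LocCoh.H (IsLocalRing.maximalIdeal A) j M ≃ₗ[A]
      (Ext (ModuleCat.of A M) (ModuleCat.of A A) i →ₗ[A] E)) := by
  obtain ⟨g, hg⟩ := GorLC.top_lc_hull r A hr
  haveI : Module.Injective A
      ((localCohomology (IsLocalRing.maximalIdeal A) r).obj (ModuleCat.of A A)) := hg.isInjective
  obtain ⟨e1⟩ := local_duality (IsLocalRing.maximalIdeal A) r (le_of_eq hr)
    (GorLC.lc_vanish_of_gorenstein r hr) i j hij M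
  obtain ⟨e2, -⟩ := IH.exists_equiv_of_hulls hf hg
  exact ⟨e1.trans (LinearEquiv.arrowCongr (LinearEquiv.refl A _) e2.symm)⟩

end Groth.Agent.H6.LD
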