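import Mathlib
import Groth.Agent.Lib.Helper6.LDGor
import Groth.Agent.Lib.Helper6.CMChain
import Groth.Agent.Lib.Helper6.ExtCmp

universe u
set_option linter.style.haveILetI false
open CategoryTheory CategoryTheory.Abelian InjHull Opposite

namespace Groth.Agent.H6.CanG

variable {S : Type u} [CommRing S]

/-- `ht I + dim S/I = dim S` in a ring carrying a Cohen–Macaulay structure on itself -/
theorem height_add_dim [IsNoetherianRing S] [IsLocalRing S]
    (hcm : LocCoh.IsCohenMacaulayModule S S) (I : Ideal S) (g d N : ℕ)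
    (hg : I.height = g) (hd : ringKrullDim (S ⧸ I) = (d : WithBot ℕ∞))
    (hN : ringKrullDim S = (N : WithBot ℕ∞)) : g + d = N := by
  have hsupp : Module.support S S = Set.univ := by
    rw [Module.support_eq_zeroLocus, Module.annihilator_eq_bot.mpr inferInstance]
    simp
  -- a prime of maximal coheight
  have hd' : Module.supportDim S (S ⧸ I) = (d : WithBot ℕ∞) := by
    rw [Module.supportDim_quotient_eq_ringKrullDim, hd]
  obtain ⟨p₁, hp₁, hIp₁, hdim₁⟩ := LC.exists_prime_ringKrullDim_eq (S ⧸ I) d hd'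
  rw [Ideal.annihilator_quotient] at hIp₁
  have h1 := CMChain.ringKrullDim_eq_add hcm hsupp ⟨p₁, hp₁⟩
  change ringKrullDim S = ringKrullDim (S ⧸ p₁) + ((p₁.height : ℕ∞) : WithBot ℕ∞) at h1
  rw [hN, hdim₁] at h1
  have hle₁ : I.height ≤ p₁.height := Ideal.height_mono hIp₁
  -- a prime of minimal height
  obtain ⟨p₀, hp₀, hIp₀, hht₀⟩ := Ideal.exists_isPrime_height_eq hg
  have h0 := CMChain.ringKrullDim_eq_add hcm hsupp ⟨p₀, hp₀⟩
  change ringKrullDim S = ringKrullDim (S ⧸ p₀) + ((p₀.height : ℕ∞) : WithBot ℕ∞) at h0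
  rw [hN, hht₀] at h0
  have hle₀ : ringKrullDim (S ⧸ p₀) ≤ (d : WithBot ℕ∞) := by
    rw [← hd]
    exact ringKrullDim_le_of_surjective (Ideal.Quotient.factor hIp₀)
      (Ideal.Quotient.factor_surjective hIp₀)
  -- conclude
  have hA : ((d + g : ℕ) : WithBot ℕ∞) ≤ (N : WithBot ℕ∞) := by
    rw [h1]
    rw [hg] at hle₁
    have : ((g : ℕ∞) : WithBot ℕ∞) ≤ ((p₁.height : ℕ∞) : WithBot ℕ∞) := by exact_mod_cast hle₁
    calc ((d + g : ℕ) : WithBot ℕ∞) = (d : WithBot ℕ∞) + ((g : ℕ∞) : WithBot ℕ∞) := by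
          push_cast; rfl
      _ ≤ _ := add_le_add_right this _
  have hB : (N : WithBot ℕ∞) ≤ ((d + g : ℕ) : WithBot ℕ∞) := by
    rw [h0]
    calc ringKrullDim (S ⧸ p₀) + (((g : ℕ) : ℕ∞) : WithBot ℕ∞)
        ≤ (d : WithBot ℕ∞) + (((g : ℕ) : ℕ∞) : WithBot ℕ∞) := add_le_add_left hle₀ _
      _ = ((d + g : ℕ) : WithBot ℕ∞) := by push_cast; rfl
  have hA' : d + g ≤ N := by exact_mod_cast hA
  have hB' : N ≤ d + g := by exact_mod_cast hB
  omega

/-- **S17774** -/
theorem ext_dual_gorenstein [LocCoh.IsGorensteinLocalRing S] (I : Ideal S) (g : ℕ)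
    (hg : I.height = g) (d : ℕ) (hd : ringKrullDim (S ⧸ I) = d) (E : Type u) [AddCommGroup E]
    [Module S E] (f : IsLocalRing.ResidueField S →ₗ[S] E) (hf : IsInjectiveHull f) :
    Nonempty ((((Ext S (ModuleCat.{u} S) g).obj (op (ModuleCat.of S (S ⧸ I)))).obj
      (ModuleCat.of S S) →ₗ[S] E) ≃ₗ[S] LocCoh.H (IsLocalRing.maximalIdeal S) d (S ⧸ I)) := by
  obtain ⟨N, hN⟩ := Bass.exists_ringKrullDim_eq (A := S)
  obtain ⟨m, hm⟩ := LocCoh.IsGorensteinLocalRing.exists_hasInjectiveDimensionLT (A := S)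
  obtain ⟨hdepth, -, -⟩ := Bass.bass_main m hm N hN
  have hcm : LocCoh.IsCohenMacaulayModule S S := by
    unfold LocCoh.IsCohenMacaulayModule
    rw [Module.supportDim_self_eq_ringKrullDim, hN, hdepth]
    rfl
  have hgd := height_add_dim hcm I g d N hg hd hN
  obtain ⟨e⟩ := LD.local_duality_gorenstein N hN E f hf (S ⧸ I) g d hgd
  exact ⟨(LinearEquiv.congrLeft E S (ExtCmp.cmp g (ModuleCat.of S (S ⧸ I))
    (ModuleCat.of S S))).trans e.symm⟩

end Groth.Agent.H6.CanG
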