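import Mathlib
import Groth.Prelude.Def_Wider
import Groth.Agent.Lib.Helper6.Bass2

/-! S0345: finite injective dimension of a Noetherian ring over itself. -/

universe u
open CategoryTheory CategoryTheory.Limits CategoryTheory.Abelian

namespace Groth.Agent.H6

namespace Bass

variable {A : Type u} [CommRing A] [IsNoetherianRing A]

/-- the localization of `A` as a module, in `ModuleCat` -/
noncomputable def locIso (p : Ideal A) [p.IsPrime] :
    (ModuleCat.of A A).localizedModule p.primeCompl ≅
      ModuleCat.of (Localization.AtPrime p) (Localization.AtPrime p) :=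
  ((Shrink.linearEquiv (Localization p.primeCompl) (LocalizedModule p.primeCompl A)).trans
    ((IsLocalizedModule.iso p.primeCompl
      (Algebra.linearMap A (Localization.AtPrime p))).extendScalarsOfIsLocalization p.primeCompl
        (Localization.AtPrime p))).toModuleIso

theorem hasInjectiveDimensionLT_localization (n : ℕ)
    (h : HasInjectiveDimensionLT (ModuleCat.of A A) (n + 1)) (p : Ideal A) [p.IsPrime] :
    HasInjectiveDimensionLT (ModuleCat.of (Localization.AtPrime p) (Localization.AtPrime p))
      (n + 1) := by
  haveI : HasInjectiveDimensionLT ((ModuleCat.of A A).localizedModule p.primeCompl) (n + 1) :=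
    ((ModuleCat.of A A).hasInjectiveDimensionLE_iff_forall_primeSpectrum n).mp h ⟨p, ‹_›⟩
  exact hasInjectiveDimensionLT_of_iso (locIso p) (n + 1)

/-- S0345 -/
theorem finite_injdim_self_iff :
    (∃ n : ℕ, HasInjectiveDimensionLT (ModuleCat.of A A) n) ↔
      (LocCoh.IsGorensteinRing A ∧ ringKrullDim A < ⊤) := by
  constructor
  · rintro ⟨n, hn⟩
    haveI hn1 : HasInjectiveDimensionLT (ModuleCat.of A A) (n + 1) :=
      hasInjectiveDimensionLT_of_ge _ n (n + 1) (Nat.le_succ n)
    have hloc := hasInjectiveDimensionLT_localization n hn1
    constructor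
    · refine { isGorensteinLocalRing_localization := fun p _ => ?_ }
      haveI : IsNoetherianRing (Localization.AtPrime p) :=
        IsLocalization.isNoetherianRing p.primeCompl _ inferInstance
      exact { exists_hasInjectiveDimensionLT := ⟨n + 1, hloc p⟩ }
    · have hle : ringKrullDim A ≤ ((n : ℕ∞) : WithBot ℕ∞) := by
        rw [ringKrullDim_le_iff_height_le]
        intro p hp
        haveI := hp
        haveI : IsNoetherianRing (Localization.AtPrime p) :=
          IsLocalization.isNoetherianRing p.primeCompl _ inferInstance
        obtain ⟨d, hd⟩ := exists_ringKrullDim_eq (A := Localization.AtPrime p)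
        obtain ⟨-, -, h3⟩ := bass_main (n + 1) (hloc p) d hd
        have hdn : d ≤ n := by
          by_contra hcon
          apply h3
          haveI := hloc p
          exact HasInjectiveDimensionLT.subsingleton _ (n + 1) d (by omega) _
        rw [← IsLocalization.AtPrime.ringKrullDim_eq_height p (Localization.AtPrime p), hd]
        exact_mod_cast hdn
      exact lt_of_le_of_lt hle (by
        rw [← WithBot.coe_top]
        exact WithBot.coe_lt_coe.mpr (ENat.natCast_lt_top n))
  · rintro ⟨hG, hdim⟩
    obtain ⟨d, hd⟩ : ∃ d : ℕ, ringKrullDim A ≤ ((d : ℕ∞) : WithBot ℕ∞) := by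
      induction h : ringKrullDim A using WithBot.recBotCoe with
      | bot => exact ⟨0, bot_le⟩
      | coe b =>
        rw [h] at hdim
        induction b using ENat.recTopCoe with
        | top => exact absurd hdim (lt_irrefl _)
        | coe m => exact ⟨m, le_rfl⟩
    refine ⟨d + 1, ?_⟩
    refine ((ModuleCat.of A A).hasInjectiveDimensionLE_iff_forall_primeSpectrum d).mpr ?_
    intro p
    haveI := p.2
    haveI hGp := hG.isGorensteinLocalRing_localization p.asIdeal
    obtain ⟨n, hn⟩ := hGp.exists_hasInjectiveDimensionLT
    obtain ⟨dp, hdp⟩ := exists_ringKrullDim_eq (A := Localization.AtPrime p.asIdeal)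
    have h1 := hasInjectiveDimensionLT_of_gorenstein n hn dp hdp
    have hdpd : dp ≤ d := by
      have h2 : ringKrullDim (Localization.AtPrime p.asIdeal) ≤ ringKrullDim A := by
        rw [IsLocalization.AtPrime.ringKrullDim_eq_height p.asIdeal (Localization.AtPrime p.asIdeal)]
        exact Ideal.height_le_ringKrullDim_of_ne_top p.2.ne_top
      rw [hdp] at h2
      have := h2.trans hd
      exact_mod_cast this
    haveI := h1
    haveI : HasInjectiveDimensionLT
        (ModuleCat.of (Localization.AtPrime p.asIdeal) (Localization.AtPrime p.asIdeal)) (d + 1) :=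
      hasInjectiveDimensionLT_of_ge _ (dp + 1) (d + 1) (by omega)
    exact hasInjectiveDimensionLT_of_iso (locIso p.asIdeal).symm (d + 1)

end Bass

end Groth.Agent.H6
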