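import Mathlib
import Groth.Prelude.Def_Wider
import Groth.Agent.Lib.Helper6.GorGlobal
import Groth.Agent.Lib.Helper6.DimLemmas
import Groth.Agent.S0342

universe u
open CategoryTheory CategoryTheory.Limits CategoryTheory.Abelian

namespace Groth.Agent.H6

namespace Bass

theorem height_add_ringKrullDim_quotient_le {R : Type u} [CommRing R] (p : PrimeSpectrum R) :
    ringKrullDim (R ⧸ p.asIdeal) + (p.asIdeal.height : WithBot ℕ∞) ≤ ringKrullDim R := by
  haveI : Nonempty (PrimeSpectrum R) := ⟨p⟩
  rw [Dim.ringKrullDim_quotient_eq_coheight, PrimeSpectrum.height_eq_orderHeight]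
  change _ ≤ Order.krullDim (PrimeSpectrum R)
  rw [Order.krullDim_eq_iSup_height_add_coheight_of_nonempty]
  have : Order.coheight p + Order.height p ≤ ⨆ a : PrimeSpectrum R, Order.height a + Order.coheight a := by
    rw [add_comm]
    exact le_iSup (fun a : PrimeSpectrum R => Order.height a + Order.coheight a) p
  exact_mod_cast this

/-- S11496 -/
theorem regular_ext_support (A : Type u) [CommRing A] [IsRegularLocalRing A]
    (M : Type u) [AddCommGroup M] [Module A M] [Module.Finite A M] (i : ℕ) (p : Ideal A) [p.IsPrime]
    (h : Nontrivial (Abelian.Ext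
      (ModuleCat.of (Localization.AtPrime p) (LocalizedModule p.primeCompl M))
      (ModuleCat.of (Localization.AtPrime p) (Localization.AtPrime p)) i)) :
    ringKrullDim (A ⧸ p) + (i : WithBot ℕ∞) ≤ ringKrullDim A := by
  haveI hG : LocCoh.IsGorensteinLocalRing A := Groth.Agent.S0342.result A
  obtain ⟨n, hn⟩ := hG.exists_hasInjectiveDimensionLT
  haveI hn1 : HasInjectiveDimensionLT (ModuleCat.of A A) (n + 1) :=
    hasInjectiveDimensionLT_of_ge _ n (n + 1) (Nat.le_succ n)
  have hloc := hasInjectiveDimensionLT_localization n hn1 p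
  haveI : IsNoetherianRing (Localization.AtPrime p) :=
    IsLocalization.isNoetherianRing p.primeCompl _ inferInstance
  obtain ⟨d, hd⟩ := exists_ringKrullDim_eq (A := Localization.AtPrime p)
  haveI : Module.Finite (Localization.AtPrime p) (LocalizedModule p.primeCompl M) :=
    Module.Finite.of_isLocalizedModule p.primeCompl (LocalizedModule.mkLinearMap p.primeCompl M)
  have hid : i ≤ d := by
    by_contra hcon
    have := ext_subsingleton_of_gorenstein (n + 1) hloc d hd (LocalizedModule p.primeCompl M) i
      (by omega)
    exact not_subsingleton _ this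
  have hht : ((p.height : ℕ∞) : WithBot ℕ∞) = d := by
    rw [← IsLocalization.AtPrime.ringKrullDim_eq_height p (Localization.AtPrime p), hd]
  have := height_add_ringKrullDim_quotient_le (⟨p, ‹_›⟩ : PrimeSpectrum A)
  change ringKrullDim (A ⧸ p) + ((p.height : ℕ∞) : WithBot ℕ∞) ≤ _ at this
  rw [hht] at this
  refine le_trans ?_ this
  gcongr

end Bass

end Groth.Agent.H6
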