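import Mathlib

/-! Flat base change for `Ext` of a finite module over a Noetherian ring. -/

set_option autoImplicit false
set_option linter.style.haveILetI false
set_option linter.unusedSectionVars false
universe u

open CategoryTheory CategoryTheory.Limits CategoryTheory.Abelian TensorProduct

namespace Groth.Agent.H6.ExtBC

variable (A B : Type u) [CommRing A] [CommRing B] [Algebra A B]

/-- the base change functor `X ↦ B ⊗[A] X` -/
noncomputable def bcF : ModuleCat.{u} A ⥤ ModuleCat.{u} B where
  obj X := ModuleCat.of B (B ⊗[A] X)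
  map f := ModuleCat.ofHom (f.hom.baseChange B)
  map_id X := by
    ext : 1
    simp
  map_comp f g := by
    ext : 1
    simp [LinearMap.baseChange_comp]

variable {A B}

@[simp] theorem bcF_map_hom {X Y : ModuleCat.{u} A} (f : X ⟶ Y) :
    ((bcF A B).map f).hom = f.hom.baseChange B := rfl

instance : (bcF A B).Additive where
  map_add {X Y f g} := by
    ext : 1
    change (f.hom + g.hom).baseChange B = f.hom.baseChange B + g.hom.baseChange B
    exact LinearMap.baseChange_add _ _

open ModuleCat.Algebra in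
instance : (bcF A B).Linear A where
  map_smul {X Y} f a := by
    ext : 1
    refine TensorProduct.AlgebraTensorModule.curry_injective ?_
    ext x
    change (1 : B) ⊗ₜ[A] (a • f.hom x) = algebraMap A B a • ((1 : B) ⊗ₜ[A] f.hom x)
    rw [TensorProduct.smul_tmul', TensorProduct.tmul_smul, Algebra.smul_def (algebraMap A B a),
      Algebra.algebraMap_self, RingHom.id_apply, ← Algebra.smul_def,
      TensorProduct.smul_tmul']

theorem bcF_shortExact [Module.Flat A B] (S : ShortComplex (ModuleCat.{u} A)) (hS : S.ShortExact) :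
    (S.map (bcF A B)).ShortExact := by
  have hinj := hS.moduleCat_injective_f
  have hsurj := hS.moduleCat_surjective_g
  have hex := (ShortComplex.ShortExact.moduleCat_exact_iff_function_exact S).mp hS.exact
  have h1 : Function.Injective ((S.map (bcF A B)).f) := by
    change Function.Injective (S.f.hom.baseChange B)
    exact Module.Flat.lTensor_preserves_injective_linearMap (M := B) S.f.hom hinj
  have h2 : Function.Surjective ((S.map (bcF A B)).g) := by
    change Function.Surjective (S.g.hom.baseChange B)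
    exact LinearMap.lTensor_surjective B hsurj
  have h3 : Function.Exact ((S.map (bcF A B)).f) ((S.map (bcF A B)).g) := by
    change Function.Exact (S.f.hom.baseChange B) (S.g.hom.baseChange B)
    exact lTensor_exact B hex hsurj
  exact
    { exact := (ShortComplex.ShortExact.moduleCat_exact_iff_function_exact _).mpr h3
      mono_f := (ModuleCat.mono_iff_injective _).mpr h1
      epi_g := (ModuleCat.epi_iff_surjective _).mpr h2 }


section Main

variable [Module.Flat A B]

theorem bcF_preserves : PreservesFiniteLimits (bcF A B) ∧ PreservesFiniteColimits (bcF A B) := by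
  have h := (Functor.exact_tfae (bcF A B)).out 0 3
  exact h.mp bcF_shortExact

instance : PreservesFiniteLimits (bcF A B) := bcF_preserves.1

instance : PreservesFiniteColimits (bcF A B) := bcF_preserves.2

attribute [local instance] ModuleCat.Algebra.instLinear

open ModuleCat.Algebra in
instance (X Y : ModuleCat.{u} B) (n : ℕ) : IsScalarTower A B (Ext X Y n) where
  smul_assoc a b x := by
    rw [Ext.smul_eq_comp_mk₀ (R := B), Ext.smul_eq_comp_mk₀ (R := A), Ext.smul_eq_comp_mk₀ (R := B),
      Ext.comp_assoc_of_third_deg_zero, Ext.mk₀_comp_mk₀]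
    congr 2
    ext y
    change (a • b) • y = a • (b • y)
    rw [smul_assoc]

/-- the base change map on `Ext` -/
noncomputable def γ (X Y : ModuleCat.{u} A) (n : ℕ) :
    Ext X Y n →ₗ[A] Ext (ModuleCat.of B (B ⊗[A] X)) (ModuleCat.of B (B ⊗[A] Y)) n :=
  (bcF A B).mapExtLinearMap A X Y n

theorem γ_apply (X Y : ModuleCat.{u} A) (n : ℕ) (x : Ext X Y n) :
    γ (B := B) X Y n x = x.mapExactFunctor (bcF A B) := rfl


/-- `Hom` as `Ext^0`, linearly -/
noncomputable def homEquivExt₀ {R : Type u} [CommRing R] (X Y : ModuleCat.{u} R) :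
    (X →ₗ[R] Y) ≃ₗ[R] Ext X Y 0 :=
  (ModuleCat.homLinearEquiv (S := R)).symm ≪≫ₗ (Ext.linearEquiv₀ (R := R)).symm

theorem homEquivExt₀_apply {R : Type u} [CommRing R] (X Y : ModuleCat.{u} R) (f : X →ₗ[R] Y) :
    homEquivExt₀ X Y f = Ext.mk₀ (ModuleCat.ofHom f) := rfl

theorem γ_comm_zero (X Y : ModuleCat.{u} A) :
    (γ (B := B) X Y 0).comp (homEquivExt₀ X Y).toLinearMap =
      (((homEquivExt₀ (ModuleCat.of B (B ⊗[A] X)) (ModuleCat.of B (B ⊗[A] Y))).restrictScalars A)).toLinearMap.comp
        (LinearMap.baseChangeHom A B X Y) := by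
  ext f
  change γ (B := B) X Y 0 (Ext.mk₀ (ModuleCat.ofHom f)) = Ext.mk₀ (ModuleCat.ofHom (f.baseChange B))
  rw [γ_apply, Ext.mapExactFunctor_mk₀]
  rfl

theorem isBaseChange_γ_zero [IsNoetherianRing A] (X Y : ModuleCat.{u} A) [Module.Finite A X] :
    IsBaseChange B (γ (B := B) X Y 0) := by
  haveI : Module.FinitePresentation A X := Module.finitePresentation_of_finite A X
  have hbc := Module.FinitePresentation.isBaseChange_map A X Y B
  exact (IsBaseChange.iff_of_equiv_comm (homEquivExt₀ X Y)
    (homEquivExt₀ (ModuleCat.of B (B ⊗[A] X)) (ModuleCat.of B (B ⊗[A] Y))) (γ_comm_zero X Y)).mp hbc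


theorem isBaseChange_γ [IsNoetherianRing A] (Y : ModuleCat.{u} A) (n : ℕ) :
    ∀ (X : ModuleCat.{u} A) [Module.Finite A X], IsBaseChange B (γ (B := B) X Y n) := by
  induction n with
  | zero => intro X _; exact isBaseChange_γ_zero X Y
  | succ n ih =>
    intro X _
    rcases Module.exists_finite_presentation A X with ⟨P, _, _, _, _, f, surjf⟩
    let S := f.shortComplexKer
    have hS : S.ShortExact := LinearMap.shortExact_shortComplexKer surjf
    have hSB : (S.map (bcF A B)).ShortExact := bcF_shortExact S hS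
    haveI proj : Projective S.X₂ := ModuleCat.projective_of_categoryTheory_projective S.X₂
    haveI projB : Projective (S.map (bcF A B)).X₂ := by
      change Projective (ModuleCat.of B (B ⊗[A] P))
      infer_instance
    haveI : Module.Finite A S.X₁ := by
      change Module.Finite A (LinearMap.ker f)
      infer_instance
    haveI : Module.Finite A S.X₂ := by
      change Module.Finite A P
      infer_instance
    have isb₁ := ih S.X₂
    have isb₂ := ih S.X₁
    let f₁ : Ext S.X₂ Y n →ₗ[A] Ext S.X₁ Y n := (Ext.mk₀ S.f).precompOfLinear A Y (zero_add n)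
    let g₁ : Ext S.X₁ Y n →ₗ[A] Ext S.X₃ Y (n + 1) := hS.extClass.precompOfLinear A Y (add_comm 1 n)
    let f₂ : Ext (S.map (bcF A B)).X₂ ((bcF A B).obj Y) n →ₗ[B] Ext (S.map (bcF A B)).X₁ ((bcF A B).obj Y) n :=
      (Ext.mk₀ (S.map (bcF A B)).f).precompOfLinear B _ (zero_add n)
    let g₂ : Ext (S.map (bcF A B)).X₁ ((bcF A B).obj Y) n →ₗ[B]
        Ext (S.map (bcF A B)).X₃ ((bcF A B).obj Y) (n + 1) :=
      hSB.extClass.precompOfLinear B _ (add_comm 1 n)
    refine IsBaseChange.of_right_exact B (γ (B := B) S.X₂ Y n) (γ (B := B) S.X₁ Y n)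
      (γ (B := B) S.X₃ Y (n + 1)) (f := f₁) (g := g₁) (f' := f₂) (g' := g₂) ?_ ?_ isb₁ isb₂ ?_ ?_ ?_ ?_
    · ext x
      change (γ (B := B) S.X₁ Y n) ((Ext.mk₀ S.f).comp x (zero_add n)) =
        (Ext.mk₀ ((bcF A B).map S.f)).comp (γ (B := B) S.X₂ Y n x) (zero_add n)
      rw [γ_apply, γ_apply, Ext.mapExactFunctor_comp, Ext.mapExactFunctor_mk₀]
      rfl
    · ext x
      change (γ (B := B) S.X₃ Y (n + 1)) (hS.extClass.comp x (add_comm 1 n)) =
        hSB.extClass.comp (γ (B := B) S.X₁ Y n x) (add_comm 1 n)
      rw [γ_apply, γ_apply, Ext.mapExactFunctor_comp, Ext.mapExactFunctor_extClass]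
      rfl
    · exact (ShortComplex.ab_exact_iff_function_exact _).1
        (Ext.contravariant_sequence_exact₁' hS Y n (n + 1) (add_comm 1 n))
    · intro x₃
      exact Ext.contravariant_sequence_exact₃ hS _ x₃ (Ext.eq_zero_of_projective _) (add_comm 1 n)
    · exact (ShortComplex.ab_exact_iff_function_exact _).1
        (Ext.contravariant_sequence_exact₁' hSB _ n (n + 1) (add_comm 1 n))
    · intro x₃
      exact Ext.contravariant_sequence_exact₃ hSB _ x₃ (Ext.eq_zero_of_projective _) (add_comm 1 n)


theorem main [IsNoetherianRing A] (M N : Type u) [AddCommGroup M] [Module A M] [Module.Finite A M]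
    [AddCommGroup N] [Module A N] (r : ℕ) :
    IsBaseChange B (γ (B := B) (ModuleCat.of A M) (ModuleCat.of A N) r) :=
  isBaseChange_γ (ModuleCat.of A N) r (ModuleCat.of A M)

theorem nonempty_equiv [IsNoetherianRing A] (M N : Type u) [AddCommGroup M] [Module A M]
    [Module.Finite A M] [AddCommGroup N] [Module A N] (r : ℕ) :
    Nonempty ((B ⊗[A] Abelian.Ext (ModuleCat.of A M) (ModuleCat.of A N) r) ≃ₗ[B]
      Abelian.Ext (ModuleCat.of B (B ⊗[A] M)) (ModuleCat.of B (B ⊗[A] N)) r) :=
  ⟨(main (A := A) (B := B) M N r).equiv⟩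

end Main

end Groth.Agent.H6.ExtBC
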