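import Mathlib
import Groth.Agent.Lib.Helper6.LDGor
import Groth.Agent.Lib.Helper6.ExtBaseChange
import Groth.Agent.Lib.Helper6.CanInj
import Groth.Agent.Lib.Helper6.ChangeRings

universe u
open CategoryTheory CategoryTheory.Abelian InjHull TensorProduct

namespace Groth.Agent.H6.LDL

theorem ext_subsingleton_of_iso₂ {C : Type*} [Category C] [Abelian C] [HasExt C] (X : C) {Y Y' : C}
    (e : Y ≅ Y') (n : ℕ) (h : Subsingleton (Ext X Y' n)) : Subsingleton (Ext X Y n) := by
  refine ⟨fun α β => ?_⟩
  have key : ∀ α : Ext X Y n, α = 0 := by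
    intro α
    have h1 : α.comp (Ext.mk₀ e.hom) (add_zero n) = 0 := Subsingleton.elim _ _
    have h2 : (α.comp (Ext.mk₀ e.hom) (add_zero n)).comp (Ext.mk₀ e.inv) (add_zero n) = α := by
      rw [Ext.comp_assoc_of_third_deg_zero, Ext.mk₀_comp_mk₀, e.hom_inv_id, Ext.comp_mk₀_id]
    rw [← h2, h1, Ext.zero_comp]
  rw [key α, key β]

theorem ext_subsingleton_iff_of_iso₂ {C : Type*} [Category C] [Abelian C] [HasExt C] (X : C)
    {Y Y' : C} (e : Y ≅ Y') (n : ℕ) : Subsingleton (Ext X Y n) ↔ Subsingleton (Ext X Y' n) :=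
  ⟨ext_subsingleton_of_iso₂ X e.symm n, ext_subsingleton_of_iso₂ X e n⟩

variable {R : Type u} [CommRing R] [IsNoetherianRing R]

/-- localisation of `Ext^i(N, R)` at a prime -/
theorem locExt_subsingleton_iff (N : Type u) [AddCommGroup N] [Module R N] [Module.Finite R N]
    (Q : Ideal R) [Q.IsPrime] (i : ℕ) :
    Subsingleton (LocalizedModule Q.primeCompl (Ext (ModuleCat.of R N) (ModuleCat.of R R) i)) ↔
      Subsingleton (Ext (ModuleCat.of (Localization.AtPrime Q) (LocalizedModule Q.primeCompl N))
        (ModuleCat.of (Localization.AtPrime Q) (Localization.AtPrime Q)) i) := by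
  obtain ⟨e⟩ := ExtBC.nonempty_equiv (A := R) (B := Localization.AtPrime Q) N R i
  have e1 := (IsLocalizedModule.isBaseChange Q.primeCompl (Localization.AtPrime Q)
    (LocalizedModule.mkLinearMap Q.primeCompl
      (Ext (ModuleCat.of R N) (ModuleCat.of R R) i))).equiv
  have e2 := (IsLocalizedModule.isBaseChange Q.primeCompl (Localization.AtPrime Q)
    (LocalizedModule.mkLinearMap Q.primeCompl N)).equiv
  have e3 : (Localization.AtPrime Q) ⊗[R] R ≃ₗ[Localization.AtPrime Q] Localization.AtPrime Q :=
    TensorProduct.AlgebraTensorModule.rid R (Localization.AtPrime Q) (Localization.AtPrime Q)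
  rw [← e1.toEquiv.subsingleton_congr, e.toEquiv.subsingleton_congr,
    CR.ext_subsingleton_iff_of_iso e2.toModuleIso _ i,
    ext_subsingleton_iff_of_iso₂ _ e3.toModuleIso i]


/-- **Key lemma**: over a ring whose localisation at `Q` is Gorenstein, the local cohomology
of `N_Q` vanishes in degree `j` iff `Ext^{ht Q - j}(N, R)` vanishes at `Q`. -/
theorem KL (N : Type u) [AddCommGroup N] [Module R N] [Module.Finite R N]
    (Q : Ideal R) [Q.IsPrime] [LocCoh.IsGorensteinLocalRing (Localization.AtPrime Q)]
    (h : ℕ) (hh : Q.height = h) (i j : ℕ) (hij : i + j = h) :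
    Subsingleton (LocCoh.H (IsLocalRing.maximalIdeal (Localization.AtPrime Q)) j
        (LocalizedModule Q.primeCompl N)) ↔
      Subsingleton (LocalizedModule Q.primeCompl
        (Ext (ModuleCat.of R N) (ModuleCat.of R R) i)) := by
  rw [locExt_subsingleton_iff]
  have hdim : ringKrullDim (Localization.AtPrime Q) = (h : WithBot ℕ∞) := by
    rw [IsLocalization.AtPrime.ringKrullDim_eq_height Q (Localization.AtPrime Q), hh]
    rfl
  obtain ⟨E, _, _, f, hf⟩ := IH.exists_injectiveHull (R := Localization.AtPrime Q)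
    (IsLocalRing.ResidueField (Localization.AtPrime Q))
  haveI : Module.Finite (Localization.AtPrime Q) (LocalizedModule Q.primeCompl N) :=
    Module.Finite.of_isLocalizedModule Q.primeCompl (LocalizedModule.mkLinearMap Q.primeCompl N)
  obtain ⟨e⟩ := LD.local_duality_gorenstein h hdim E f hf (LocalizedModule Q.primeCompl N) i j hij
  rw [e.toEquiv.subsingleton_congr]
  constructor
  · intro hs
    exact Can.subsingleton_of_dual_subsingleton hf _ hs
  · intro hs
    refine ⟨fun a b => LinearMap.ext fun x => ?_⟩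
    rw [Subsingleton.elim x 0, map_zero, map_zero]

end Groth.Agent.H6.LDL
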