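import Mathlib
import Groth.Agent.Lib.Helper6.InjHullLocal
import Groth.Agent.Lib.Helper6.SemiLocalDim

universe u
open CategoryTheory CategoryTheory.Abelian InjHull TensorProduct IsLocalRing

namespace Groth.Agent.H6.LDL

section Matlis

variable {R : Type u} [CommRing R] [IsNoetherianRing R] [IsLocalRing R]
  {E : Type u} [AddCommGroup E] [Module R E] {f : (R ⧸ maximalIdeal R) →ₗ[R] E}

/-- Matlis duality preserves and reflects finite length -/
theorem isFiniteLength_dual_iff (hf : IsInjectiveHull f) (X : Type u) [AddCommGroup X]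
    [Module R X] : IsFiniteLength R (X →ₗ[R] E) ↔ IsFiniteLength R X := by
  have key : ∀ (Y : Type u) [AddCommGroup Y] [Module R Y], IsFiniteLength R Y →
      IsFiniteLength R (Y →ₗ[R] E) := by
    intro Y _ _ hY
    rw [← Module.length_ne_top_iff, IH.length_hom_eq hf Y hY, Module.length_ne_top_iff]
    exact hY
  refine ⟨fun h => ?_, key X⟩
  exact (key _ h).of_injective (IH.eval_injective hf X)

omit [IsNoetherianRing R] in
theorem subsingleton_dual_iff (hf : IsInjectiveHull f) (X : Type u) [AddCommGroup X]
    [Module R X] : Subsingleton (X →ₗ[R] E) ↔ Subsingleton X := by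
  constructor
  · intro h
    have hinj := IH.eval_injective hf X
    refine ⟨fun a b => hinj ?_⟩
    apply LinearMap.ext
    intro φ
    change φ a = φ b
    rw [Subsingleton.elim φ 0]
    rfl
  · intro hs
    refine ⟨fun a b => LinearMap.ext fun x => ?_⟩
    rw [Subsingleton.elim x 0, map_zero, map_zero]

/-- a finite module over a local ring has finite length iff it vanishes on the punctured
spectrum -/
theorem isFiniteLength_iff_forall_localization (X : Type u) [AddCommGroup X] [Module R X]
    [Module.Finite R X] :
    IsFiniteLength R X ↔ ∀ (Q : Ideal R) [Q.IsPrime], Q ≠ maximalIdeal R →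
      Subsingleton (LocalizedModule Q.primeCompl X) := by
  rw [SLD.isFiniteLength_iff_supportDim_le_zero R X]
  unfold Module.supportDim
  rw [Order.krullDim_nonpos_iff_forall_isMax]
  constructor
  · intro h Q _ hQ
    by_contra hne
    rw [not_subsingleton_iff_nontrivial] at hne
    have hQs : (⟨Q, ‹_›⟩ : PrimeSpectrum R) ∈ Module.support R X := hne
    have hle : (⟨Q, ‹_›⟩ : PrimeSpectrum R) ≤ closedPoint R := le_maximalIdeal (Ideal.IsPrime.ne_top ‹_›)
    have hms : closedPoint R ∈ Module.support R X := Module.mem_support_mono hle hQs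
    have := h ⟨⟨Q, ‹_›⟩, hQs⟩ (b := ⟨closedPoint R, hms⟩) hle
    have h2 : closedPoint R ≤ (⟨Q, ‹_›⟩ : PrimeSpectrum R) := this
    exact hQ (le_antisymm hle h2)
  · intro h x y hxy
    have hx : x.1.asIdeal = maximalIdeal R := by
      by_contra hne
      have := h x.1.asIdeal hne
      exact (not_subsingleton_iff_nontrivial.mpr x.2) this
    change y.1.asIdeal ≤ x.1.asIdeal
    rw [hx]
    exact le_maximalIdeal y.1.2.ne_top

end Matlis

end Groth.Agent.H6.LDL
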