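import Mathlib
import Groth.Agent.Lib.Helper6.CanGorExt
import Groth.Agent.Lib.Helper6.GorReg
import Groth.Agent.Lib.Helper6.LCGroVanish
import Groth.Agent.Lib.Helper6.LDLoc1
import Groth.Agent.Lib.Helper6.LDLoc3

universe u
set_option linter.style.haveILetI false
open CategoryTheory CategoryTheory.Abelian InjHull TensorProduct IsLocalRing

namespace Groth.Agent.H6.LDL

section Gor

variable {S : Type u} [CommRing S]

theorem gor_cm [hG : LocCoh.IsGorensteinLocalRing S] : LocCoh.IsCohenMacaulayModule S S := by
  obtain ⟨N, hN⟩ := Bass.exists_ringKrullDim_eq (A := S)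
  obtain ⟨m, hm⟩ := hG.exists_hasInjectiveDimensionLT
  obtain ⟨hdepth, -, -⟩ := Bass.bass_main m hm N hN
  unfold LocCoh.IsCohenMacaulayModule
  rw [Module.supportDim_self_eq_ringKrullDim, hN, hdepth]
  rfl

theorem gor_localization [hG : LocCoh.IsGorensteinLocalRing S] (Q : Ideal S) [Q.IsPrime] :
    LocCoh.IsGorensteinLocalRing (Localization.AtPrime Q) := by
  obtain ⟨n, hn⟩ := hG.exists_hasInjectiveDimensionLT
  haveI hn1 : HasInjectiveDimensionLT (ModuleCat.of S S) (n + 1) :=
    hasInjectiveDimensionLT_of_ge _ n (n + 1) (Nat.le_succ n)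
  have hloc := Bass.hasInjectiveDimensionLT_localization n hn1 Q
  haveI : IsNoetherianRing (Localization.AtPrime Q) :=
    IsLocalization.isNoetherianRing Q.primeCompl _ inferInstance
  exact { exists_hasInjectiveDimensionLT := ⟨n + 1, hloc⟩ }

/-- vanishing of local cohomology of a localisation above the height -/
theorem lc_loc_vanish [IsNoetherianRing S] (N : Type u) [AddCommGroup N] [Module S N]
    [Module.Finite S N] (Q : Ideal S) [Q.IsPrime] (h : ℕ) (hh : Q.height = h) (j : ℕ)
    (hj : h < j) :
    Subsingleton (LocCoh.H (maximalIdeal (Localization.AtPrime Q)) j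
      (LocalizedModule Q.primeCompl N)) := by
  haveI : IsNoetherianRing (Localization.AtPrime Q) :=
    IsLocalization.isNoetherianRing Q.primeCompl _ inferInstance
  haveI : Module.Finite (Localization.AtPrime Q) (LocalizedModule Q.primeCompl N) :=
    Module.Finite.of_isLocalizedModule Q.primeCompl (LocalizedModule.mkLinearMap Q.primeCompl N)
  apply LC.subsingleton_of_supportDim_lt
  refine lt_of_le_of_lt (Module.supportDim_le_ringKrullDim _ _) ?_
  rw [IsLocalization.AtPrime.ringKrullDim_eq_height Q (Localization.AtPrime Q), hh]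
  exact_mod_cast hj

end Gor

section FL

variable {S : Type u} [CommRing S] [hG : LocCoh.IsGorensteinLocalRing S]

theorem ht_add_dim (d : ℕ) (hd : ringKrullDim S = d) (Q : Ideal S) [Q.IsPrime] :
    ∃ h e : ℕ, Q.height = h ∧ ringKrullDim (S ⧸ Q) = e ∧ h + e = d := by
  obtain ⟨h, hh⟩ := ENat.ne_top_iff_exists.mp (Ideal.height_ne_top_of_isPrime (I := Q))
  haveI : IsLocalRing (S ⧸ Q) :=
    IsLocalRing.of_surjective' (Ideal.Quotient.mk Q) Ideal.Quotient.mk_surjective
  obtain ⟨e, he⟩ := Bass.exists_ringKrullDim_eq (A := S ⧸ Q)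
  exact ⟨h, e, hh.symm, he, CanG.height_add_dim gor_cm Q h e d hh.symm he hd⟩

variable (N : Type u) [AddCommGroup N] [Module S N] [Module.Finite S N]

/-- **Finiteness of local cohomology over a Gorenstein local ring**, via local duality -/
theorem fl_iff (d : ℕ) (hd : ringKrullDim S = d) (i : ℕ) :
    IsFiniteLength S (LocCoh.H (maximalIdeal S) i N) ↔
      ∀ (Q : Ideal S) [Q.IsPrime], Q ≠ maximalIdeal S → ∀ e j : ℕ,
        ringKrullDim (S ⧸ Q) = e → j + e = i →
        Subsingleton (LocCoh.H (maximalIdeal (Localization.AtPrime Q)) j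
          (LocalizedModule Q.primeCompl N)) := by
  by_cases hi : i ≤ d
  · obtain ⟨k, hk⟩ : ∃ k, k + i = d := ⟨d - i, by omega⟩
    obtain ⟨E, _, _, f, hf⟩ := IH.exists_injectiveHull (R := S) (IsLocalRing.ResidueField S)
    obtain ⟨e0⟩ := LD.local_duality_gorenstein d hd E f hf N k i hk
    have h0 : IsFiniteLength S (LocCoh.H (maximalIdeal S) i N) ↔
        IsFiniteLength S (Ext (ModuleCat.of S N) (ModuleCat.of S S) k →ₗ[S] E) :=
      ⟨e0.isFiniteLength, e0.symm.isFiniteLength⟩
    rw [h0, isFiniteLength_dual_iff hf, isFiniteLength_iff_forall_localization]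
    refine forall_congr' fun Q => forall_congr' fun hQp => forall_congr' fun hQ => ?_
    haveI := hQp
    obtain ⟨h, e, hh, he, hsum⟩ := ht_add_dim d hd Q
    haveI := gor_localization Q
    constructor
    · intro hX e' j he' hj
      have hee : e' = e := by
        rw [he] at he'
        exact_mod_cast he'.symm
      subst hee
      exact (KL N Q h hh k j (by omega)).mpr hX
    · intro hall
      by_cases hke : e ≤ i
      · obtain ⟨j, hj⟩ : ∃ j, j + e = i := ⟨i - e, by omega⟩
        exact (KL N Q h hh k j (by omega)).mp (hall e j he hj)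
      · rw [not_le] at hke
        rw [locExt_subsingleton_iff]
        obtain ⟨n, hn⟩ := (gor_localization Q).exists_hasInjectiveDimensionLT
        haveI : Module.Finite (Localization.AtPrime Q) (LocalizedModule Q.primeCompl N) :=
          Module.Finite.of_isLocalizedModule Q.primeCompl
            (LocalizedModule.mkLinearMap Q.primeCompl N)
        have hdimQ : ringKrullDim (Localization.AtPrime Q) = (h : WithBot ℕ∞) := by
          rw [IsLocalization.AtPrime.ringKrullDim_eq_height Q (Localization.AtPrime Q), hh]
          rfl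
        exact Bass.ext_subsingleton_of_gorenstein n hn h hdimQ
          (LocalizedModule Q.primeCompl N) k (by omega)
  · rw [not_le] at hi
    have hvan : Subsingleton (LocCoh.H (maximalIdeal S) i N) := by
      apply LC.subsingleton_of_supportDim_lt
      refine lt_of_le_of_lt (Module.supportDim_le_ringKrullDim _ _) ?_
      rw [hd]
      exact_mod_cast hi
    constructor
    · intro _ Q _ hQ e j he hj
      obtain ⟨h, e', hh, he', hsum⟩ := ht_add_dim d hd Q
      have hee : e' = e := by
        rw [he] at he'
        exact_mod_cast he'.symm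
      subst hee
      exact lc_loc_vanish N Q h hh j (by omega)
    · intro _
      exact IsFiniteLength.of_subsingleton

end FL

end Groth.Agent.H6.LDL
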