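import Mathlib
import Groth.Agent.Lib.Helper6.LDLoc2
import Groth.Agent.Lib.Helper6.LDLoc4

universe u
set_option linter.style.haveILetI false
open CategoryTheory CategoryTheory.Abelian InjHull TensorProduct IsLocalRing

namespace Groth.Agent.H6.LDL

section Surj

variable {S A : Type u} [CommRing S] [CommRing A] [Algebra S A]

theorem isNoetherian_of_surjective_algebraMap (hπ : Function.Surjective (algebraMap S A))
    (X : Type*) [AddCommGroup X] [Module A X] [Module S X] [IsScalarTower S A X]
    [IsNoetherian A X] : IsNoetherian S X := by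
  rw [isNoetherian_iff']
  apply (OrderEmbedding.wellFoundedGT (β := Submodule A X))
  refine ⟨⟨?_, ?_⟩, ?_⟩
  · intro N
    refine { toAddSubmonoid := N.toAddSubmonoid, smul_mem' := ?_ }
    intro c x hx
    obtain ⟨r, rfl⟩ := hπ c
    rw [algebraMap_smul]
    exact N.smul_mem _ hx
  · intro N1 N2 h
    rwa [Submodule.ext_iff] at h ⊢
  · intro N1 N2
    rfl

theorem isFiniteLength_iff_of_surjective (hπ : Function.Surjective (algebraMap S A))
    (X : Type*) [AddCommGroup X] [Module A X] [Module S X] [IsScalarTower S A X] :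
    IsFiniteLength S X ↔ IsFiniteLength A X := by
  rw [isFiniteLength_iff_isNoetherian_isArtinian, isFiniteLength_iff_isNoetherian_isArtinian]
  constructor
  · rintro ⟨h1, h2⟩
    exact ⟨isNoetherian_of_tower S h1, isArtinian_of_tower S h2⟩
  · rintro ⟨h1, h2⟩
    exact ⟨isNoetherian_of_surjective_algebraMap hπ X, isArtinian_of_surjective_algebraMap hπ⟩

theorem ringKrullDim_quotient_under (hπ : Function.Surjective (algebraMap S A)) (p : Ideal A) :
    ringKrullDim (S ⧸ p.under S) = ringKrullDim (A ⧸ p) := by
  have hs : Function.Surjective ((Ideal.Quotient.mk p).comp (algebraMap S A)) :=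
    Ideal.Quotient.mk_surjective.comp hπ
  have hker : RingHom.ker ((Ideal.Quotient.mk p).comp (algebraMap S A)) = p.under S := by
    ext x
    rw [RingHom.mem_ker, RingHom.comp_apply, Ideal.Quotient.eq_zero_iff_mem, Ideal.under_def,
      Ideal.mem_comap]
  exact ringKrullDim_eq_of_ringEquiv
    ((Ideal.quotEquivOfEq hker.symm).trans (RingHom.quotientKerEquivOfSurjective hs))

theorem map_maximalIdeal_of_surjective [IsLocalRing S] [IsLocalRing A]
    (hπ : Function.Surjective (algebraMap S A)) :
    Ideal.map (algebraMap S A) (maximalIdeal S) = maximalIdeal A := by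
  rcases Ideal.map_eq_top_or_isMaximal_of_surjective _ hπ (maximalIdeal.isMaximal S) with h | h
  · exfalso
    haveI : IsLocalHom (algebraMap S A) := hπ.isLocalHom
    have hle := ((IsLocalRing.local_hom_TFAE (algebraMap S A)).out 0 2).mp this
    rw [h] at hle
    exact (maximalIdeal.isMaximal A).ne_top (top_le_iff.mp hle)
  · exact IsLocalRing.eq_maximalIdeal h

theorem under_maximalIdeal [IsLocalRing S] [IsLocalRing A]
    (hπ : Function.Surjective (algebraMap S A)) :
    (maximalIdeal A).under S = maximalIdeal S := by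
  haveI : IsLocalHom (algebraMap S A) := hπ.isLocalHom
  exact ((IsLocalRing.local_hom_TFAE (algebraMap S A)).out 0 4).mp this

end Surj

section Pred

/-- the vanishing predicate at a prime -/
def Pred {A : Type u} [CommRing A] (M : Type u) [AddCommGroup M] [Module A M] (i : ℕ)
    (p : Ideal A) [p.IsPrime] : Prop :=
  ∀ e j : ℕ, ringKrullDim (A ⧸ p) = e → j + e = i →
    Subsingleton (LocCoh.H (maximalIdeal (Localization.AtPrime p)) j
      (LocalizedModule p.primeCompl M))

variable {S A : Type u} [CommRing S] [CommRing A] [Algebra S A] [IsNoetherianRing S]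
  [IsNoetherianRing A] (hπ : Function.Surjective (algebraMap S A))
  (M : Type u) [AddCommGroup M] [Module A M] [Module S M] [IsScalarTower S A M]

include hπ in
theorem pred_under (i : ℕ) (p : Ideal A) [p.IsPrime] :
    Pred (A := A) M i p ↔ Pred (A := S) M i (p.under S) := by
  unfold Pred
  rw [ringKrullDim_quotient_under hπ p]
  refine forall_congr' fun e => forall_congr' fun j => forall_congr' fun _ =>
    forall_congr' fun _ => ?_
  exact transfer hπ M p j

omit [IsNoetherianRing S] [IsNoetherianRing A] in
theorem localizedModule_subsingleton_of_not_le (Q : Ideal S) [Q.IsPrime]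
    (hQ : ¬ RingHom.ker (algebraMap S A) ≤ Q) :
    Subsingleton (LocalizedModule Q.primeCompl M) := by
  obtain ⟨s, hs, hsQ⟩ := SetLike.not_le_iff_exists.mp hQ
  rw [LocalizedModule.subsingleton_iff]
  intro m
  refine ⟨s, hsQ, ?_⟩
  rw [← algebraMap_smul A s m, (RingHom.mem_ker).mp hs, zero_smul]

omit [IsNoetherianRing S] [IsNoetherianRing A] in
theorem pred_of_not_le (i : ℕ) (Q : Ideal S) [Q.IsPrime]
    (hQ : ¬ RingHom.ker (algebraMap S A) ≤ Q) : Pred (A := S) M i Q := by
  intro e j _ _
  haveI := localizedModule_subsingleton_of_not_le M Q hQ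
  exact LC.subsingleton_of_subsingleton _ j _

omit [IsNoetherianRing S] [IsNoetherianRing A] in
include hπ in
theorem exists_prime_under (Q : Ideal S) [Q.IsPrime] (hQ : RingHom.ker (algebraMap S A) ≤ Q) :
    ∃ (p : Ideal A) (_ : p.IsPrime), p.under S = Q := by
  refine ⟨Q.map (algebraMap S A), Ideal.map_isPrime_of_surjective hπ hQ, ?_⟩
  rw [Ideal.under_def, Ideal.comap_map_of_surjective _ hπ]
  refine le_antisymm (sup_le le_rfl ?_) le_sup_left
  exact hQ

end Pred

section Main

variable {S A : Type u} [CommRing S] [CommRing A] [Algebra S A]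
  [hG : LocCoh.IsGorensteinLocalRing S] [IsLocalRing A] [IsNoetherianRing A]
  (hπ : Function.Surjective (algebraMap S A))
  (M : Type u) [AddCommGroup M] [Module A M] [Module S M] [IsScalarTower S A M]

include hπ in
/-- a semilinear comparison of the local cohomology over `A` and over `S` -/
theorem exists_semilinear (i : ℕ) :
    ∃ φ : LocCoh.H (maximalIdeal A) i M ≃+ LocCoh.H (maximalIdeal S) i M,
      ∀ (s : S) (x : LocCoh.H (maximalIdeal A) i M), φ (algebraMap S A s • x) = s • φ x := by
  have key : ∀ I : Ideal A, I = maximalIdeal A →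
      (∃ φ : LocCoh.H I i M ≃+ LocCoh.H (maximalIdeal S) i M,
        ∀ (s : S) (x : LocCoh.H I i M), φ (algebraMap S A s • x) = s • φ x) →
      ∃ φ : LocCoh.H (maximalIdeal A) i M ≃+ LocCoh.H (maximalIdeal S) i M,
        ∀ (s : S) (x : LocCoh.H (maximalIdeal A) i M), φ (algebraMap S A s • x) = s • φ x := by
    intro I hI h
    subst hI
    exact h
  exact key _ (map_maximalIdeal_of_surjective hπ)
    (Groth.Agent.S11614.result S A (maximalIdeal S) M i)

include hπ in
theorem fl_transfer (i : ℕ) :
    IsFiniteLength A (LocCoh.H (maximalIdeal A) i M) ↔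
      IsFiniteLength S (LocCoh.H (maximalIdeal S) i M) := by
  obtain ⟨φ, hφ⟩ := exists_semilinear hπ M i
  letI mS : Module S (LocCoh.H (maximalIdeal A) i M) :=
    Module.compHom (LocCoh.H (maximalIdeal A) i M) (algebraMap S A)
  haveI : IsScalarTower S A (LocCoh.H (maximalIdeal A) i M) :=
    ⟨fun s a x => by
      change (s • a) • x = algebraMap S A s • (a • x)
      rw [Algebra.smul_def, mul_smul]⟩
  let φ' : LocCoh.H (maximalIdeal A) i M ≃ₗ[S] LocCoh.H (maximalIdeal S) i M :=
    { φ with
      map_smul' := fun s x => hφ s x }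
  rw [← isFiniteLength_iff_of_surjective hπ]
  exact ⟨φ'.isFiniteLength, φ'.symm.isFiniteLength⟩

include hπ in
/-- **S2934 (general form)**: finiteness of local cohomology over a quotient of a Gorenstein
local ring -/
theorem fl_iff_A [Module.Finite A M] (i : ℕ) :
    IsFiniteLength A (LocCoh.H (maximalIdeal A) i M) ↔
      ∀ (p : Ideal A) [p.IsPrime], p ≠ maximalIdeal A → Pred (A := A) M i p := by
  haveI : Module.Finite S A := Module.Finite.of_surjective (Algebra.linearMap S A) hπ
  haveI : Module.Finite S M := Module.Finite.trans A M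
  rw [fl_transfer hπ M i]
  obtain ⟨d, hd⟩ := Bass.exists_ringKrullDim_eq (A := S)
  rw [fl_iff M d hd i]
  constructor
  · intro h p _ hp
    rw [pred_under hπ M i p]
    apply h (p.under S)
    intro heq
    apply hp
    rw [← under_maximalIdeal hπ] at heq
    exact Ideal.comap_injective_of_surjective _ hπ heq
  · intro h Q _ hQ
    by_cases hk : RingHom.ker (algebraMap S A) ≤ Q
    · obtain ⟨p, hp, rfl⟩ := exists_prime_under hπ Q hk
      have := h p (by rintro rfl; exact hQ (under_maximalIdeal hπ))
      rw [pred_under hπ M i p] at this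
      exact this
    · exact pred_of_not_le M i Q hk

end Main

end Groth.Agent.H6.LDL
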