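import Mathlib
import Groth.Agent.Lib.Helper6.LDLoc5
import Groth.Agent.Lib.Helper6.LCDepth

universe u
set_option linter.style.haveILetI false
open CategoryTheory CategoryTheory.Abelian InjHull TensorProduct IsLocalRing

namespace Groth.Agent.H6.LDL

section Depth

variable {T : Type u} [CommRing T] [IsLocalRing T] [IsNoetherianRing T]
  (X : Type u) [AddCommGroup X] [Module T X] [Module.Finite T X]

theorem lt_depth_add_iff (e n : ℕ) :
    (n : ℕ∞) < LocCoh.depth T X + e ↔
      ∀ j : ℕ, j + e ≤ n → Subsingleton (LocCoh.H (maximalIdeal T) j X) := by
  unfold LocCoh.depth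
  by_cases hIM : maximalIdeal T • (⊤ : Submodule T X) = ⊤
  · have hX : Subsingleton X := by
      have h1 : (⊤ : Submodule T X) = ⊥ :=
        Submodule.eq_bot_of_le_smul_of_le_jacobson_bot (maximalIdeal T) ⊤ Module.Finite.fg_top
          (le_of_eq hIM.symm) (IsLocalRing.maximalIdeal_le_jacobson ⊥)
      exact (Submodule.subsingleton_iff T).mp (subsingleton_of_bot_eq_top h1.symm)
    constructor
    · intro _ j _
      exact LC.subsingleton_of_subsingleton _ j X
    · intro _
      unfold LocCoh.idealDepth
      rw [if_pos hIM]
      simp
  · by_cases hen : e ≤ n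
    · have h1 : (n : ℕ∞) < LocCoh.idealDepth (maximalIdeal T) X + e ↔
          ((n - e + 1 : ℕ) : ℕ∞) ≤ LocCoh.idealDepth (maximalIdeal T) X := by
        generalize LocCoh.idealDepth (maximalIdeal T) X = D
        induction D using ENat.recTopCoe with
        | top => simp
        | coe D =>
          constructor
          · intro h
            have h' : n < D + e := by exact_mod_cast h
            have : n - e + 1 ≤ D := by omega
            exact_mod_cast this
          · intro h
            have h' : n - e + 1 ≤ D := by exact_mod_cast h
            have : n < D + e := by omega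
            exact_mod_cast this
      rw [h1, LC.le_idealDepth_iff _ X hIM]
      constructor
      · intro h j hj
        exact h j (by omega)
      · intro h j hj
        exact h j (by omega)
    · rw [not_le] at hen
      constructor
      · intro _ j hj
        omega
      · intro _
        have : (n : ℕ∞) < (e : ℕ∞) := by exact_mod_cast hen
        exact lt_of_lt_of_le this le_add_self

end Depth

section Main

variable {S A : Type u} [CommRing S] [CommRing A] [Algebra S A]
  [hG : LocCoh.IsGorensteinLocalRing S] [IsLocalRing A] [IsNoetherianRing A]
  (hπ : Function.Surjective (algebraMap S A))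
  (M : Type u) [AddCommGroup M] [Module A M] [Module S M] [IsScalarTower S A M]
  [Module.Finite A M]

include hπ in
/-- **S5167 (general form)** -/
theorem fl_le_iff_A (n : ℕ) :
    (∀ i : ℕ, i ≤ n → IsFiniteLength A (LocCoh.H (maximalIdeal A) i M)) ↔
      ∀ (p : Ideal A) [p.IsPrime], p ≠ maximalIdeal A → ∀ e : ℕ, ringKrullDim (A ⧸ p) = e →
        (n : ℕ∞) < LocCoh.depth (Localization.AtPrime p) (LocalizedModule p.primeCompl M) + e := by
  constructor
  · intro h p _ hp e he
    haveI : IsNoetherianRing (Localization.AtPrime p) :=
      IsLocalization.isNoetherianRing p.primeCompl _ inferInstance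
    haveI : Module.Finite (Localization.AtPrime p) (LocalizedModule p.primeCompl M) :=
      Module.Finite.of_isLocalizedModule p.primeCompl (LocalizedModule.mkLinearMap p.primeCompl M)
    rw [lt_depth_add_iff]
    intro j hj
    exact (fl_iff_A hπ M (j + e)).mp (h (j + e) hj) p hp e j he rfl
  · intro h i hi
    rw [fl_iff_A hπ M i]
    intro p _ hp e j he hj
    haveI : IsNoetherianRing (Localization.AtPrime p) :=
      IsLocalization.isNoetherianRing p.primeCompl _ inferInstance
    haveI : Module.Finite (Localization.AtPrime p) (LocalizedModule p.primeCompl M) :=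
      Module.Finite.of_isLocalizedModule p.primeCompl (LocalizedModule.mkLinearMap p.primeCompl M)
    exact (lt_depth_add_iff _ e n).mp (h p hp e he) j (by omega)

end Main

end Groth.Agent.H6.LDL
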