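import Mathlib
import Groth.Agent.Lib.Helper6.LDLoc6

universe u
set_option linter.style.haveILetI false
open CategoryTheory CategoryTheory.Abelian InjHull TensorProduct IsLocalRing

namespace Groth.Agent.H6.LDL

section Core

variable {S : Type u} [CommRing S] [hG : LocCoh.IsGorensteinLocalRing S]
  (N : Type u) [AddCommGroup N] [Module S N] [Module.Finite S N]

/-- the core equivalence at a prime -/
theorem core_iff (d : ℕ) (hd : ringKrullDim S = d) (i k : ℕ) (hk : k + i = d)
    (Q : Ideal S) [Q.IsPrime] :
    Subsingleton (LocalizedModule Q.primeCompl (Ext (ModuleCat.of S N) (ModuleCat.of S S) k)) ↔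
      Pred (A := S) N i Q := by
  obtain ⟨h, e, hh, he, hsum⟩ := ht_add_dim d hd Q
  haveI := gor_localization Q
  constructor
  · intro hX e' j he' hj
    have hee : e' = e := by
      rw [he] at he'
      exact_mod_cast he'.symm
    subst hee
    exact (KL N Q h hh k j (by omega)).mpr hX
  · intro hall
    by_cases hke : e ≤ i
    · obtain ⟨j, hj⟩ : ∃ j, j + e = i := ⟨i - e, by omega⟩
      exact (KL N Q h hh k j (by omega)).mp (hall e j he hj)
    · rw [not_le] at hke
      rw [locExt_subsingleton_iff]
      obtain ⟨n, hn⟩ := (gor_localization Q).exists_hasInjectiveDimensionLT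
      haveI : Module.Finite (Localization.AtPrime Q) (LocalizedModule Q.primeCompl N) :=
        Module.Finite.of_isLocalizedModule Q.primeCompl
          (LocalizedModule.mkLinearMap Q.primeCompl N)
      have hdimQ : ringKrullDim (Localization.AtPrime Q) = (h : WithBot ℕ∞) := by
        rw [IsLocalization.AtPrime.ringKrullDim_eq_height Q (Localization.AtPrime Q), hh]
        rfl
      exact Bass.ext_subsingleton_of_gorenstein n hn h hdimQ
        (LocalizedModule Q.primeCompl N) k (by omega)

theorem core_vanish (d : ℕ) (hd : ringKrullDim S = d) (i : ℕ) (hi : d < i)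
    (Q : Ideal S) [Q.IsPrime] : Pred (A := S) N i Q := by
  intro e j he hj
  obtain ⟨h, e', hh, he', hsum⟩ := ht_add_dim d hd Q
  have hee : e' = e := by
    rw [he] at he'
    exact_mod_cast he'.symm
  subst hee
  exact lc_loc_vanish N Q h hh j (by omega)

/-- `J ⊆ √Ann X` iff `X` vanishes at the primes not containing `J` -/
theorem le_radical_annihilator_iff {R : Type u} [CommRing R] (X : Type u) [AddCommGroup X]
    [Module R X] [Module.Finite R X] (J : Ideal R) :
    J ≤ (Module.annihilator R X).radical ↔
      ∀ (Q : Ideal R) [Q.IsPrime], ¬ J ≤ Q → Subsingleton (LocalizedModule Q.primeCompl X) := by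
  rw [Ideal.radical_eq_sInf]
  constructor
  · intro h Q _ hJQ
    by_contra hne
    rw [not_subsingleton_iff_nontrivial] at hne
    have hQs : (⟨Q, ‹_›⟩ : PrimeSpectrum R) ∈ Module.support R X := hne
    rw [Module.mem_support_iff_of_finite] at hQs
    exact hJQ (h.trans (sInf_le ⟨hQs, ‹_›⟩))
  · intro h
    refine le_sInf ?_
    rintro Q ⟨hQ, hQp⟩
    by_contra hJQ
    haveI := hQp
    have := h Q hJQ
    have hQs : (⟨Q, hQp⟩ : PrimeSpectrum R) ∈ Module.support R X :=
      Module.mem_support_iff_of_finite.mpr hQ
    exact (not_subsingleton_iff_nontrivial.mpr hQs) this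

/-- **annihilators of local cohomology over a Gorenstein local ring** -/
theorem ann_iff (J : Ideal S) (i : ℕ) :
    J ≤ (Module.annihilator S (LocCoh.H (maximalIdeal S) i N)).radical ↔
      ∀ (Q : Ideal S) [Q.IsPrime], ¬ J ≤ Q → Pred (A := S) N i Q := by
  obtain ⟨d, hd⟩ := Bass.exists_ringKrullDim_eq (A := S)
  by_cases hi : i ≤ d
  · obtain ⟨k, hk⟩ : ∃ k, k + i = d := ⟨d - i, by omega⟩
    obtain ⟨E, _, _, f, hf⟩ := IH.exists_injectiveHull (R := S) (IsLocalRing.ResidueField S)
    obtain ⟨e0⟩ := LD.local_duality_gorenstein d hd E f hf N k i hk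
    rw [e0.annihilator_eq, ← IH.annihilator_dual_eq hf, le_radical_annihilator_iff]
    refine forall_congr' fun Q => forall_congr' fun hQp => forall_congr' fun hQ => ?_
    haveI := hQp
    exact core_iff N d hd i k hk Q
  · rw [not_le] at hi
    have hvan : Subsingleton (LocCoh.H (maximalIdeal S) i N) := by
      apply LC.subsingleton_of_supportDim_lt
      refine lt_of_le_of_lt (Module.supportDim_le_ringKrullDim _ _) ?_
      rw [hd]
      exact_mod_cast hi
    constructor
    · intro _ Q _ _
      exact core_vanish N d hd i hi Q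
    · intro _
      have : Module.annihilator S (LocCoh.H (maximalIdeal S) i N) = ⊤ := by
        rw [Module.annihilator_eq_top_iff]
        exact hvan
      rw [this, Ideal.radical_top]
      exact le_top

end Core

section MainAnn

variable {S A : Type u} [CommRing S] [CommRing A] [Algebra S A]
  [hG : LocCoh.IsGorensteinLocalRing S] [IsLocalRing A] [IsNoetherianRing A]
  (hπ : Function.Surjective (algebraMap S A))
  (M : Type u) [AddCommGroup M] [Module A M] [Module S M] [IsScalarTower S A M]
  [Module.Finite A M]

include hπ in
/-- **S17762 (general form)** -/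
theorem ann_iff_A (J : Ideal A) (i : ℕ) :
    J ≤ (Module.annihilator A (LocCoh.H (maximalIdeal A) i M)).radical ↔
      ∀ (p : Ideal A) [p.IsPrime], ¬ J ≤ p → Pred (A := A) M i p := by
  haveI : Module.Finite S A := Module.Finite.of_surjective (Algebra.linearMap S A) hπ
  haveI : Module.Finite S M := Module.Finite.trans A M
  obtain ⟨φ, hφ⟩ := exists_semilinear hπ M i
  have hann : Module.annihilator S (LocCoh.H (maximalIdeal S) i M) =
      (Module.annihilator A (LocCoh.H (maximalIdeal A) i M)).comap (algebraMap S A) := by
    ext s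
    rw [Ideal.mem_comap, Module.mem_annihilator, Module.mem_annihilator]
    constructor
    · intro h x
      have := h (φ x)
      rw [← hφ] at this
      exact φ.injective (this.trans (map_zero φ).symm)
    · intro h y
      obtain ⟨x, rfl⟩ := φ.surjective y
      rw [← hφ, h x, map_zero]
  have h1 : J ≤ (Module.annihilator A (LocCoh.H (maximalIdeal A) i M)).radical ↔
      J.comap (algebraMap S A) ≤
        (Module.annihilator S (LocCoh.H (maximalIdeal S) i M)).radical := by
    rw [hann, ← Ideal.comap_radical, Ideal.comap_le_comap_iff_of_surjective _ hπ]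
  rw [h1, ann_iff]
  constructor
  · intro h p _ hJp
    rw [pred_under hπ M i p]
    apply h (p.under S)
    intro hle
    apply hJp
    rwa [Ideal.under_def, Ideal.comap_le_comap_iff_of_surjective _ hπ] at hle
  · intro h Q _ hJQ
    by_cases hk : RingHom.ker (algebraMap S A) ≤ Q
    · obtain ⟨p, hp, rfl⟩ := exists_prime_under hπ Q hk
      have := h p (fun hle => hJQ (Ideal.comap_mono hle))
      rw [pred_under hπ M i p] at this
      exact this
    · exact pred_of_not_le M i Q hk

end MainAnn

end Groth.Agent.H6.LDL
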