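import Mathlib
import Groth.Agent.Lib.Helper6.LDLoc7
import Groth.Agent.S0342
import Groth.Prelude.Def_SGA2
import Groth.Agent.Lib.Helper6.Catenary

universe u
set_option linter.style.haveILetI false
open CategoryTheory CategoryTheory.Abelian InjHull TensorProduct IsLocalRing

namespace Groth.Agent.H6.LDL

section Height

variable {R : Type u} [CommRing R] [IsNoetherianRing R]

/-- heights go up by one along a covering whose upper end has a Cohen–Macaulay local ring -/
theorem height_covBy {x y : PrimeSpectrum R} (hxy : x ⋖ y)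
    (hcm : LocCoh.IsCohenMacaulayModule (Localization.AtPrime y.asIdeal)
      (Localization.AtPrime y.asIdeal)) :
    y.asIdeal.height = x.asIdeal.height + 1 := by
  have hle : x.asIdeal ≤ y.asIdeal := hxy.le
  have hd : Disjoint (y.asIdeal.primeCompl : Set R) (x.asIdeal : Set R) := by
    rw [Set.disjoint_left]
    intro a ha hax
    exact ha (hle hax)
  haveI hP : (x.asIdeal.map (algebraMap R (Localization.AtPrime y.asIdeal))).IsPrime :=
    IsLocalization.isPrime_of_isPrime_disjoint y.asIdeal.primeCompl _ _ x.2 hd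
  haveI : IsNoetherianRing (Localization.AtPrime y.asIdeal) :=
    IsLocalization.isNoetherianRing y.asIdeal.primeCompl _ inferInstance
  have hsupp : Module.support (Localization.AtPrime y.asIdeal) (Localization.AtPrime y.asIdeal) =
      Set.univ := by
    rw [Module.support_eq_zeroLocus, Module.annihilator_eq_bot.mpr inferInstance]
    simp
  have key := CMChain.ringKrullDim_eq_add hcm hsupp
    (⟨_, hP⟩ : PrimeSpectrum (Localization.AtPrime y.asIdeal))
  change _ = ringKrullDim (Localization.AtPrime y.asIdeal ⧸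
      x.asIdeal.map (algebraMap R (Localization.AtPrime y.asIdeal))) +
    (((x.asIdeal.map (algebraMap R (Localization.AtPrime y.asIdeal))).height : ℕ∞) :
      WithBot ℕ∞) at key
  rw [CMChain.ringKrullDim_quotient_of_covBy hxy,
    IsLocalization.AtPrime.ringKrullDim_eq_height y.asIdeal (Localization.AtPrime y.asIdeal),
    IsLocalization.height_map_of_disjoint y.asIdeal.primeCompl x.asIdeal hd] at key
  have : ((y.asIdeal.height : ℕ∞) : WithBot ℕ∞) = ((x.asIdeal.height + 1 : ℕ∞) : WithBot ℕ∞) := by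
    rw [key, add_comm]
    rfl
  exact WithBot.coe_injective this

theorem height_covBy' (Q Q' : Ideal R) [hQ : Q.IsPrime] [hQ' : Q'.IsPrime]
    (hcov : (⟨Q, hQ⟩ : PrimeSpectrum R) ⋖ ⟨Q', hQ'⟩)
    (hcm : LocCoh.IsCohenMacaulayModule (Localization.AtPrime Q')
      (Localization.AtPrime Q')) :
    Q'.height = Q.height + 1 :=
  height_covBy (x := ⟨Q, hQ⟩) (y := ⟨Q', hQ'⟩) hcov hcm

end Height

section StepR

variable {R : Type u} [CommRing R] [IsNoetherianRing R]
  (N : Type u) [AddCommGroup N] [Module R N] [Module.Finite R N]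

/-- non-vanishing of local cohomology propagates along coverings, with a shift by one
(over a ring with Gorenstein local rings) -/
theorem step_R (Q Q' : Ideal R) [hQ : Q.IsPrime] [hQ' : Q'.IsPrime]
    (hcov : (⟨Q, hQ⟩ : PrimeSpectrum R) ⋖ ⟨Q', hQ'⟩)
    [gQ : LocCoh.IsGorensteinLocalRing (Localization.AtPrime Q)]
    [gQ' : LocCoh.IsGorensteinLocalRing (Localization.AtPrime Q')]
    (j : ℕ)
    (hne : ¬ Subsingleton (LocCoh.H (maximalIdeal (Localization.AtPrime Q)) j
      (LocalizedModule Q.primeCompl N))) :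
    ¬ Subsingleton (LocCoh.H (maximalIdeal (Localization.AtPrime Q')) (j + 1)
      (LocalizedModule Q'.primeCompl N)) := by
  obtain ⟨hh, hhh⟩ := ENat.ne_top_iff_exists.mp
    (Ideal.height_ne_top_of_isPrime (I := Q))
  have hcm : LocCoh.IsCohenMacaulayModule (Localization.AtPrime Q') (Localization.AtPrime Q') :=
    gor_cm
  have hht : Q'.height = Q.height + 1 := height_covBy' Q Q' hcov hcm
  by_cases hj : j ≤ hh
  · obtain ⟨k, hk⟩ : ∃ k, k + j = hh := ⟨hh - j, by omega⟩
    rw [KL N Q hh hhh.symm k j hk, not_subsingleton_iff_nontrivial] at hne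
    rw [KL N Q' (hh + 1) (by rw [hht, ← hhh]; rfl) k (j + 1) (by omega),
      not_subsingleton_iff_nontrivial]
    have h1 : (⟨Q, hQ⟩ : PrimeSpectrum R) ∈
        Module.support R (Ext (ModuleCat.of R N) (ModuleCat.of R R) k) := hne
    exact Module.mem_support_mono hcov.le h1
  · rw [not_le] at hj
    exact absurd (lc_loc_vanish N Q hh hhh.symm j hj) hne

end StepR

section Step

variable {R A : Type u} [CommRing R] [CommRing A] [Algebra R A] [IsRegularRing R]
  [IsNoetherianRing A] (hπ : Function.Surjective (algebraMap R A))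
  (M : Type u) [AddCommGroup M] [Module A M] [Module R M] [IsScalarTower R A M]
  [Module.Finite A M]

omit [IsRegularRing R] [IsNoetherianRing A] [Module.Finite A M] in
include hπ in
theorem covBy_under {p p' : PrimeSpectrum A} (h : p ⋖ p') :
    (⟨p.asIdeal.under R, inferInstance⟩ : PrimeSpectrum R) ⋖
      ⟨p'.asIdeal.under R, inferInstance⟩ := by
  constructor
  · refine lt_of_le_of_ne (Ideal.comap_mono h.le) ?_
    intro heq
    have h1 : p.asIdeal.under R = p'.asIdeal.under R := congrArg PrimeSpectrum.asIdeal heq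
    have h2 : p.asIdeal = p'.asIdeal := Ideal.comap_injective_of_surjective _ hπ h1
    exact h.lt.ne (PrimeSpectrum.ext h2)
  · intro z hz1 hz2
    have hk : RingHom.ker (algebraMap R A) ≤ z.asIdeal := by
      refine le_trans ?_ hz1.le
      intro r hr
      change algebraMap R A r ∈ p.asIdeal
      rw [RingHom.mem_ker.mp hr]
      exact zero_mem _
    haveI := z.2
    obtain ⟨w, hw, hwz⟩ := exists_prime_under hπ z.asIdeal hk
    have e1 : p < (⟨w, hw⟩ : PrimeSpectrum A) := by
      have : p.asIdeal.under R < w.under R := by rw [hwz]; exact hz1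
      refine lt_of_le_of_ne ?_ ?_
      · change p.asIdeal ≤ w
        rw [← Ideal.comap_le_comap_iff_of_surjective _ hπ]
        exact this.le
      · intro heq
        have h3 : p.asIdeal = w := congrArg PrimeSpectrum.asIdeal heq
        rw [h3] at this
        exact lt_irrefl _ this
    have e2 : (⟨w, hw⟩ : PrimeSpectrum A) < p' := by
      have : w.under R < p'.asIdeal.under R := by rw [hwz]; exact hz2
      refine lt_of_le_of_ne ?_ ?_
      · change w ≤ p'.asIdeal
        rw [← Ideal.comap_le_comap_iff_of_surjective _ hπ]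
        exact this.le
      · intro heq
        have h3 : w = p'.asIdeal := congrArg PrimeSpectrum.asIdeal heq
        rw [h3] at this
        exact lt_irrefl _ this
    exact h.2 e1 e2

include hπ in
/-- non-vanishing of local cohomology propagates along coverings, with a shift by one -/
theorem step {p p' : PrimeSpectrum A} (h : p ⋖ p') (j : ℕ)
    (hne : ¬ Subsingleton (LocCoh.H (maximalIdeal (Localization.AtPrime p.asIdeal)) j
      (LocalizedModule p.asIdeal.primeCompl M))) :
    ¬ Subsingleton (LocCoh.H (maximalIdeal (Localization.AtPrime p'.asIdeal)) (j + 1)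
      (LocalizedModule p'.asIdeal.primeCompl M)) := by
  haveI : Module.Finite R A := Module.Finite.of_surjective (Algebra.linearMap R A) hπ
  haveI : Module.Finite R M := Module.Finite.trans A M
  rw [transfer hπ M p.asIdeal j] at hne
  rw [transfer hπ M p'.asIdeal (j + 1)]
  haveI gQ : LocCoh.IsGorensteinLocalRing (Localization.AtPrime (p.asIdeal.under R)) :=
    Groth.Agent.S0342.result _
  haveI gQ' : LocCoh.IsGorensteinLocalRing (Localization.AtPrime (p'.asIdeal.under R)) :=
    Groth.Agent.S0342.result _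
  exact step_R M (p.asIdeal.under R) (p'.asIdeal.under R) (covBy_under hπ h) j hne

end Step

section OrderAux

variable {α : Type*} [PartialOrder α]

theorem height_Ici_of_covBy {x y : α} (h : x ⋖ y) :
    Order.height (⟨y, h.le⟩ : Set.Ici x) = 1 := by
  apply le_antisymm
  · have h1 : ((1 : ℕ) : ℕ∞) = 1 := rfl
    rw [← h1, Order.height_le_coe_iff]
    intro z hz
    have hz1 : x ≤ z.1 := z.2
    have hz2 : z.1 < y := hz
    have : z.1 = x := by
      rcases h.eq_or_eq hz1 hz2.le with h1 | h1
      · exact h1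
      · exact absurd h1 hz2.ne
    have hmin : IsMin z := by
      intro w _
      change z.1 ≤ w.1
      rw [this]
      exact w.2
    rw [Order.height_eq_zero.mpr hmin]
    exact_mod_cast zero_lt_one
  · have hlt : (⟨x, le_refl x⟩ : Set.Ici x) < ⟨y, h.le⟩ := h.lt
    have := Order.height_add_one_le hlt
    exact le_trans (by simp) this

theorem covBy_of_covBy_Ici {x : α} {a b : Set.Ici x} (h : a ⋖ b) : a.1 ⋖ b.1 := by
  refine ⟨h.lt, ?_⟩
  intro z hz1 hz2
  have hxz : x ≤ z := le_trans a.2 hz1.le
  exact h.2 (c := ⟨z, hxz⟩) hz1 hz2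

end OrderAux

section Main

variable {R A : Type u} [CommRing R] [CommRing A] [Algebra R A] [IsRegularRing R]
  [IsNoetherianRing A] (hπ : Function.Surjective (algebraMap R A))
  (M : Type u) [AddCommGroup M] [Module A M] [Module R M] [IsScalarTower R A M]
  [Module.Finite A M]

/-- non-vanishing of the `j`-th local cohomology of the stalk at `p` -/
def NV (p : PrimeSpectrum A) (j : ℕ) : Prop :=
  ¬ Subsingleton (LocCoh.H (maximalIdeal (Localization.AtPrime p.asIdeal)) j
    (LocalizedModule p.asIdeal.primeCompl M))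

include hπ in
theorem chain_step {p : PrimeSpectrum A} (s : LTSeries (Set.Ici p))
    (hcov : ∀ i : Fin s.length, s i.castSucc ⋖ s i.succ) (j : ℕ) (hne : NV M (s.head).1 j) :
    ∀ (k : ℕ) (hk : k < s.length + 1), NV M (s ⟨k, hk⟩).1 (j + k) := by
  intro k
  induction k with
  | zero => intro hk; exact hne
  | succ k ih =>
    intro hk
    have h1 := ih (by omega)
    have h2 := covBy_of_covBy_Ici (hcov ⟨k, by omega⟩)
    exact step hπ M h2 (j + k) h1

include hπ in
theorem codim_reduction (I : Ideal A) (i : ℕ)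
    (H1 : ∀ p : PrimeSpectrum A, ¬ I ≤ p.asIdeal → SGA2.relCodim I p = 1 → ∀ j : ℕ, j + 1 = i →
      Subsingleton (LocCoh.H (maximalIdeal (Localization.AtPrime p.asIdeal)) j
        (LocalizedModule p.asIdeal.primeCompl M)))
    (p : PrimeSpectrum A) (hp : ¬ I ≤ p.asIdeal) (c j : ℕ) (hc : SGA2.relCodim I p = c)
    (hj : j + c = i) :
    Subsingleton (LocCoh.H (maximalIdeal (Localization.AtPrime p.asIdeal)) j
      (LocalizedModule p.asIdeal.primeCompl M)) := by
  by_contra hne
  haveI hne' : Nonempty {q : PrimeSpectrum A // p ≤ q ∧ I ≤ q.asIdeal} := by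
    by_contra hemp
    rw [not_nonempty_iff] at hemp
    unfold SGA2.relCodim at hc
    rw [iInf_of_empty] at hc
    exact ENat.top_ne_natCast c hc
  obtain ⟨⟨q, hpq, hIq⟩, hq⟩ := ENat.exists_eq_iInf
    (fun q : {q : PrimeSpectrum A // p ≤ q ∧ I ≤ q.asIdeal} =>
      Order.height (⟨q.1, q.2.1⟩ : Set.Ici p))
  have hq' : Order.height (⟨q, hpq⟩ : Set.Ici p) = c := hq.trans hc
  obtain ⟨s, hlast, hlen, hmin, hcov⟩ :=
    Cat.exists_saturated_height (⟨q, hpq⟩ : Set.Ici p) hq'
  have hc1 : 1 ≤ c := by
    by_contra h0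
    have h00 : c = 0 := by omega
    subst h00
    have hm : IsMin (⟨q, hpq⟩ : Set.Ici p) := Order.height_eq_zero.mp (by exact_mod_cast hq')
    have h2 : (⟨q, hpq⟩ : Set.Ici p) ≤ ⟨p, le_refl p⟩ :=
      hm (show (⟨p, le_refl p⟩ : Set.Ici p) ≤ ⟨q, hpq⟩ from hpq)
    have hqp : q ≤ p := h2
    exact hp (le_trans hIq hqp)
  have hhead : (s.head).1 = p := by
    have h2 : s.head ≤ ⟨p, le_refl p⟩ :=
      hmin (show (⟨p, le_refl p⟩ : Set.Ici p) ≤ s.head from s.head.2)
    exact le_antisymm h2 s.head.2
  have hne0 : NV M (s.head).1 j := by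
    rw [hhead]
    exact hne
  have hchain := chain_step hπ M s hcov j hne0
  have hk : c - 1 < s.length + 1 := by omega
  have hcl := hcov ⟨c - 1, by omega⟩
  have hsucc : (⟨c - 1, by omega⟩ : Fin s.length).succ = Fin.last s.length := by
    apply Fin.ext
    simp only [Fin.val_succ, Fin.val_last]
    omega
  rw [hsucc] at hcl
  change s ⟨c - 1, hk⟩ ⋖ s.last at hcl
  have hnv := hchain (c - 1) hk
  generalize s ⟨c - 1, hk⟩ = p' at hcl hnv
  rw [hlast] at hcl
  have hcov' : p'.1 ⋖ q := covBy_of_covBy_Ici hcl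
  -- `p'` does not contain `I`
  have hI' : ¬ I ≤ p'.1.asIdeal := by
    intro hI
    have h1 : SGA2.relCodim I p ≤ Order.height p' :=
      iInf_le (fun q : {q : PrimeSpectrum A // p ≤ q ∧ I ≤ q.asIdeal} =>
        Order.height (⟨q.1, q.2.1⟩ : Set.Ici p)) ⟨p'.1, p'.2, hI⟩
    have h2 := Order.height_add_one_le hcl.lt
    rw [hq'] at h2
    rw [hc] at h1
    have h3 : ((c + 1 : ℕ) : ℕ∞) ≤ c := by
      push_cast
      exact le_trans (add_le_add_left h1 1) h2
    have h4 : c + 1 ≤ c := by exact_mod_cast h3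
    omega
  have hrel : SGA2.relCodim I p'.1 = 1 := by
    apply le_antisymm
    · have h1 : SGA2.relCodim I p'.1 ≤ Order.height (⟨q, hcov'.le⟩ : Set.Ici p'.1) :=
        iInf_le (fun q : {q : PrimeSpectrum A // p'.1 ≤ q ∧ I ≤ q.asIdeal} =>
          Order.height (⟨q.1, q.2.1⟩ : Set.Ici p'.1)) ⟨q, hcov'.le, hIq⟩
      rw [height_Ici_of_covBy hcov'] at h1
      exact h1
    · apply le_iInf
      rintro ⟨q', h1, h2⟩
      rw [Order.one_le_iff_ne_zero, Order.height_ne_zero]
      intro hm
      have h3 : (⟨q', h1⟩ : Set.Ici p'.1) ≤ ⟨p'.1, le_refl p'.1⟩ :=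
        hm (show (⟨p'.1, le_refl p'.1⟩ : Set.Ici p'.1) ≤ ⟨q', h1⟩ from h1)
      have h4 : q' ≤ p'.1 := h3
      exact hI' (le_trans h2 h4)
  exact hnv (H1 p'.1 hI' hrel (j + (c - 1)) (by omega))

end Main

end Groth.Agent.H6.LDL
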