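import Mathlib
import Groth.Agent.Lib.Helper6.LDLoc8
import Groth.Agent.Lib.Helper6.PdReg
import Groth.Agent.Lib.Helper6.DepthKit
import Groth.Agent.Lib.Helper6.LCTop

universe u
set_option linter.style.haveILetI false
open CategoryTheory CategoryTheory.Abelian IsLocalRing

namespace Groth.Agent.H6.Codepth

section Local

variable {T : Type u} [CommRing T] [IsLocalRing T] [IsNoetherianRing T]
  (X : Type u) [AddCommGroup X] [Module T X] [Module.Finite T X]

/-- codepth bound via the range of non-vanishing local cohomology -/
theorem codepth_le_iff (n : ℕ) :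
    Module.supportDim T X ≤ ((LocCoh.depth T X : ℕ∞) : WithBot ℕ∞) + n ↔
      ∀ j j' : ℕ, ¬ Subsingleton (LocCoh.H (maximalIdeal T) j X) →
        ¬ Subsingleton (LocCoh.H (maximalIdeal T) j' X) → j' ≤ j + n := by
  by_cases hX : Subsingleton X
  · constructor
    · intro _ j j' hj
      exact absurd (LC.subsingleton_of_subsingleton (maximalIdeal T) j X) hj
    · intro _
      rw [Module.supportDim_eq_bot_of_subsingleton]
      exact bot_le
  · rw [not_subsingleton_iff_nontrivial] at hX
    obtain ⟨δ, hδ⟩ := LC.exists_supportDim_eq (R := T) X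
    obtain ⟨t, ht, -⟩ := Depth.exists_depth_eq (R := T) X
    have hnonδ := LC.nontrivial_H_of_supportDim_eq δ X hδ
    have hvan : ∀ j : ℕ, δ < j → Subsingleton (LocCoh.H (maximalIdeal T) j X) := by
      intro j hj
      apply LC.subsingleton_of_supportDim_lt
      rw [hδ]
      exact_mod_cast hj
    have hIM : maximalIdeal T • (⊤ : Submodule T X) ≠ ⊤ := by
      intro h
      have := Submodule.eq_bot_of_le_smul_of_le_jacobson_bot (maximalIdeal T) (⊤ : Submodule T X)
        Module.Finite.fg_top h.ge (IsLocalRing.jacobson_eq_maximalIdeal ⊥ bot_ne_top).ge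
      exact top_ne_bot this
    have hdep := (LC.idealDepth_eq_iff (maximalIdeal T) X hIM t).mp ht
    rw [hδ, ht]
    constructor
    · intro h j j' hj hj'
      have h1 : t ≤ j := by
        by_contra hlt
        rw [not_le] at hlt
        exact hj (hdep.1 j hlt)
      have h2 : j' ≤ δ := by
        by_contra hlt
        rw [not_le] at hlt
        exact hj' (hvan j' hlt)
      have h3 : δ ≤ t + n := by exact_mod_cast h
      omega
    · intro h
      have := h t δ (not_subsingleton_iff_nontrivial.mpr hdep.2)
        (not_subsingleton_iff_nontrivial.mpr hnonδ)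
      exact_mod_cast this

end Local

section Reg

variable {R : Type u} [CommRing R] [IsNoetherianRing R]
  (N : Type u) [AddCommGroup N] [Module R N] [Module.Finite R N]

theorem locExt_vanish (Q : Ideal R) [Q.IsPrime]
    [hG : LocCoh.IsGorensteinLocalRing (Localization.AtPrime Q)] (h : ℕ) (hh : Q.height = h)
    (i : ℕ) (hi : h < i) :
    Subsingleton (LocalizedModule Q.primeCompl (Ext (ModuleCat.of R N) (ModuleCat.of R R) i)) := by
  rw [LDL.locExt_subsingleton_iff]
  have hdim : ringKrullDim (Localization.AtPrime Q) = (h : WithBot ℕ∞) := by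
    rw [IsLocalization.AtPrime.ringKrullDim_eq_height Q (Localization.AtPrime Q), hh]
    rfl
  haveI : Module.Finite (Localization.AtPrime Q) (LocalizedModule Q.primeCompl N) :=
    Module.Finite.of_isLocalizedModule Q.primeCompl (LocalizedModule.mkLinearMap Q.primeCompl N)
  obtain ⟨m, hm⟩ := hG.exists_hasInjectiveDimensionLT
  exact Bass.ext_subsingleton_of_gorenstein m hm h hdim _ i (by omega)

/-- codepth bound at a prime via the supports of the modules `Ext^i(N, R)` -/
theorem codepth_le_iff_ext (Q : Ideal R) [Q.IsPrime]
    [hG : LocCoh.IsGorensteinLocalRing (Localization.AtPrime Q)] (n : ℕ) :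
    Module.supportDim (Localization.AtPrime Q) (LocalizedModule Q.primeCompl N) ≤
        ((LocCoh.depth (Localization.AtPrime Q) (LocalizedModule Q.primeCompl N) : ℕ∞) :
          WithBot ℕ∞) + n ↔
      ∀ i i' : ℕ,
        ¬ Subsingleton (LocalizedModule Q.primeCompl
          (Ext (ModuleCat.of R N) (ModuleCat.of R R) i)) →
        ¬ Subsingleton (LocalizedModule Q.primeCompl
          (Ext (ModuleCat.of R N) (ModuleCat.of R R) i')) → i ≤ i' + n := by
  haveI : IsNoetherianRing (Localization.AtPrime Q) :=
    IsLocalization.isNoetherianRing Q.primeCompl _ inferInstance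
  haveI : Module.Finite (Localization.AtPrime Q) (LocalizedModule Q.primeCompl N) :=
    Module.Finite.of_isLocalizedModule Q.primeCompl (LocalizedModule.mkLinearMap Q.primeCompl N)
  rw [codepth_le_iff]
  obtain ⟨h, hh⟩ := ENat.ne_top_iff_exists.mp (Ideal.height_ne_top_of_isPrime (I := Q))
  have ha : ∀ j : ℕ, ¬ Subsingleton (LocCoh.H (maximalIdeal (Localization.AtPrime Q)) j
      (LocalizedModule Q.primeCompl N)) → j ≤ h := by
    intro j hj
    by_contra hlt
    rw [not_le] at hlt
    exact hj (LDL.lc_loc_vanish N Q h hh.symm j hlt)
  have hb : ∀ i : ℕ, ¬ Subsingleton (LocalizedModule Q.primeCompl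
      (Ext (ModuleCat.of R N) (ModuleCat.of R R) i)) → i ≤ h := by
    intro i hi
    by_contra hlt
    rw [not_le] at hlt
    exact hi (locExt_vanish N Q h hh.symm i hlt)
  constructor
  · intro H i i' hi hi'
    have h1 := hb i hi
    have h2 := hb i' hi'
    have e1 := (LDL.KL N Q h hh.symm i (h - i) (by omega)).not.mpr hi
    have e2 := (LDL.KL N Q h hh.symm i' (h - i') (by omega)).not.mpr hi'
    have := H (h - i) (h - i') e1 e2
    omega
  · intro H j j' hj hj'
    have h1 := ha j hj
    have h2 := ha j' hj'
    have e1 := (LDL.KL N Q h hh.symm (h - j) j (by omega)).not.mp hj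
    have e2 := (LDL.KL N Q h hh.symm (h - j') j' (by omega)).not.mp hj'
    have := H (h - j) (h - j') e1 e2
    omega

end Reg

section RegOpen

variable {R : Type u} [CommRing R] [IsRegularRing R]
  (N : Type u) [AddCommGroup N] [Module R N] [Module.Finite R N]

theorem isOpen_codepth_le (n : ℕ) :
    IsOpen {Q : PrimeSpectrum R |
      Module.supportDim (Localization.AtPrime Q.asIdeal)
          (LocalizedModule Q.asIdeal.primeCompl N) ≤
        ((LocCoh.depth (Localization.AtPrime Q.asIdeal)
          (LocalizedModule Q.asIdeal.primeCompl N) : ℕ∞) : WithBot ℕ∞) + n} := by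
  obtain ⟨d, hd⟩ := PdReg.exists_bound R N
  haveI hfinE : ∀ i, Module.Finite R (Ext (ModuleCat.of R N) (ModuleCat.of R R) i) :=
    fun i => ModuleCat.finite_ext R (ModuleCat.of R N) (ModuleCat.of R R) i
  have hvan : ∀ i : ℕ, d < i → Subsingleton (Ext (ModuleCat.of R N) (ModuleCat.of R R) i) :=
    fun i hi => HasProjectiveDimensionLT.subsingleton (ModuleCat.of R N) (d + 1) i (by omega) _
  have hG : ∀ Q : PrimeSpectrum R, LocCoh.IsGorensteinLocalRing
      (Localization.AtPrime Q.asIdeal) := fun Q => Groth.Agent.S0342.result _
  -- the complement is a finite union of closed sets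
  have key : {Q : PrimeSpectrum R |
      Module.supportDim (Localization.AtPrime Q.asIdeal)
          (LocalizedModule Q.asIdeal.primeCompl N) ≤
        ((LocCoh.depth (Localization.AtPrime Q.asIdeal)
          (LocalizedModule Q.asIdeal.primeCompl N) : ℕ∞) : WithBot ℕ∞) + n} =
      (⋃ i ∈ Finset.range (d + 1), ⋃ i' ∈ Finset.range (d + 1),
        if i' + n < i then
          (Module.support R (Ext (ModuleCat.of R N) (ModuleCat.of R R) i) ∩
            Module.support R (Ext (ModuleCat.of R N) (ModuleCat.of R R) i'))
        else ∅)ᶜ := by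
    ext Q
    haveI := hG Q
    rw [Set.mem_ofPred_eq, codepth_le_iff_ext N Q.asIdeal n]
    simp only [Set.mem_compl_iff, Set.mem_iUnion, Finset.mem_range, not_exists]
    constructor
    · intro H i hi i' hi' hmem
      split_ifs at hmem with hlt
      · have h1 := (Module.mem_support_iff (p := Q)).mp hmem.1
        have h2 := (Module.mem_support_iff (p := Q)).mp hmem.2
        have := H i i' (not_subsingleton_iff_nontrivial.mpr h1)
          (not_subsingleton_iff_nontrivial.mpr h2)
        omega
      · exact hmem
    · intro H i i' hi hi'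
      by_contra hlt
      rw [not_le] at hlt
      have hid : i ≤ d := by
        by_contra hh
        rw [not_le] at hh
        haveI := hvan i hh
        exact hi inferInstance
      have hid' : i' ≤ d := by
        by_contra hh
        rw [not_le] at hh
        haveI := hvan i' hh
        exact hi' inferInstance
      apply H i (by omega) i' (by omega)
      rw [if_pos hlt]
      exact ⟨(Module.mem_support_iff (p := Q)).mpr (not_subsingleton_iff_nontrivial.mp hi),
        (Module.mem_support_iff (p := Q)).mpr (not_subsingleton_iff_nontrivial.mp hi')⟩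
  rw [key, isOpen_compl_iff]
  refine Set.Finite.isClosed_biUnion (Finset.finite_toSet _) (fun i _ => ?_)
  refine Set.Finite.isClosed_biUnion (Finset.finite_toSet _) (fun i' _ => ?_)
  split_ifs
  · exact Module.isClosed_support.inter Module.isClosed_support
  · exact isClosed_empty

end RegOpen

section Quot

variable {R A : Type u} [CommRing R] [CommRing A] [IsRegularRing R] [Algebra R A]
  (hπ : Function.Surjective (algebraMap R A))
  (M : Type u) [AddCommGroup M] [Module A M] [Module.Finite A M]

include hπ in
theorem isOpen_codepth_le_quot (n : ℕ) :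
    IsOpen {p : PrimeSpectrum A |
      Module.supportDim (Localization.AtPrime p.asIdeal)
          (LocalizedModule p.asIdeal.primeCompl M) ≤
        ((LocCoh.depth (Localization.AtPrime p.asIdeal)
          (LocalizedModule p.asIdeal.primeCompl M) : ℕ∞) : WithBot ℕ∞) + n} := by
  letI : Module R M := Module.compHom M (algebraMap R A)
  haveI : IsScalarTower R A M :=
    ⟨fun r a m => by
      change (r • a) • m = algebraMap R A r • (a • m)
      rw [Algebra.smul_def, mul_smul]⟩
  haveI : IsNoetherianRing A := isNoetherianRing_of_surjective R A (algebraMap R A) hπ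
  haveI : Module.Finite R A := Module.Finite.of_surjective (Algebra.linearMap R A) hπ
  haveI : Module.Finite R M := Module.Finite.trans A M
  have hopen := isOpen_codepth_le (R := R) M n
  have hcont := PrimeSpectrum.continuous_comap (algebraMap R A)
  convert hopen.preimage hcont using 1
  ext p
  rw [Set.mem_ofPred_eq, Set.mem_preimage, Set.mem_ofPred_eq]
  haveI : IsNoetherianRing (Localization.AtPrime p.asIdeal) :=
    IsLocalization.isNoetherianRing p.asIdeal.primeCompl _ inferInstance
  haveI : Module.Finite (Localization.AtPrime p.asIdeal)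
      (LocalizedModule p.asIdeal.primeCompl M) :=
    Module.Finite.of_isLocalizedModule p.asIdeal.primeCompl
      (LocalizedModule.mkLinearMap p.asIdeal.primeCompl M)
  haveI : IsNoetherianRing (Localization.AtPrime (p.asIdeal.under R)) :=
    IsLocalization.isNoetherianRing (p.asIdeal.under R).primeCompl _ inferInstance
  haveI : Module.Finite (Localization.AtPrime (p.asIdeal.under R))
      (LocalizedModule (p.asIdeal.under R).primeCompl M) :=
    Module.Finite.of_isLocalizedModule (p.asIdeal.under R).primeCompl
      (LocalizedModule.mkLinearMap (p.asIdeal.under R).primeCompl M)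
  change _ ↔ Module.supportDim (Localization.AtPrime (p.asIdeal.under R))
      (LocalizedModule (p.asIdeal.under R).primeCompl M) ≤
    ((LocCoh.depth (Localization.AtPrime (p.asIdeal.under R))
      (LocalizedModule (p.asIdeal.under R).primeCompl M) : ℕ∞) : WithBot ℕ∞) + n
  rw [codepth_le_iff, codepth_le_iff]
  simp only [LDL.transfer hπ M p.asIdeal]

end Quot

end Groth.Agent.H6.Codepth
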