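import Mathlib
import Groth.Agent.Lib.Helper6.CodepthOpen
import Groth.Agent.Lib.Helper1.AusBuch

universe u
set_option linter.style.haveILetI false
open CategoryTheory IsLocalRing

namespace Groth.Agent.H6.Codepth

theorem cmLocal_iff {S : Type u} [CommRing S] [IsNoetherianRing S] (q : Ideal S) [q.IsPrime] :
    LocCoh.IsCohenMacaulayLocalRing (Localization.AtPrime q) ↔
      Module.supportDim (Localization.AtPrime q) (LocalizedModule q.primeCompl S) ≤
        ((LocCoh.depth (Localization.AtPrime q) (LocalizedModule q.primeCompl S) : ℕ∞) :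
          WithBot ℕ∞) + (0 : ℕ) := by
  haveI : IsNoetherianRing (Localization.AtPrime q) :=
    IsLocalization.isNoetherianRing q.primeCompl _ inferInstance
  let e0 : LocalizedModule q.primeCompl S ≃ₗ[S] Localization.AtPrime q :=
    IsLocalizedModule.linearEquiv q.primeCompl (LocalizedModule.mkLinearMap q.primeCompl S)
      (Algebra.linearMap S (Localization.AtPrime q))
  let e : LocalizedModule q.primeCompl S ≃ₗ[Localization.AtPrime q] Localization.AtPrime q :=
    LinearEquiv.extendScalarsOfIsLocalization q.primeCompl (Localization.AtPrime q) e0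
  rw [Module.supportDim_eq_of_equiv e, Groth.Agent.H1.AB.depth_eq_of_linearEquiv e]
  obtain ⟨d, hd, hle⟩ := Depth.exists_depth_eq (R := Localization.AtPrime q)
    (Localization.AtPrime q)
  constructor
  · intro h
    rw [h.supportDim_eq_depth]
    simp
  · intro h
    refine { supportDim_eq_depth := le_antisymm ?_ ?_ }
    · simpa using h
    · rw [hd]
      exact hle

theorem isOpen_cm_finiteType (k S : Type u) [Field k] [CommRing S] [Algebra k S]
    [Algebra.FiniteType k S] :
    IsOpen {q : PrimeSpectrum S |
      LocCoh.IsCohenMacaulayLocalRing (Localization.AtPrime q.asIdeal)} := by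
  obtain ⟨n, f, hf⟩ := Algebra.FiniteType.iff_quotient_mvPolynomial''.mp
    (inferInstance : Algebra.FiniteType k S)
  haveI : IsRegularRing k := inferInstance
  letI : Algebra (MvPolynomial (Fin n) k) S := f.toRingHom.toAlgebra
  have hπ : Function.Surjective (algebraMap (MvPolynomial (Fin n) k) S) := hf
  haveI : IsNoetherianRing S :=
    isNoetherianRing_of_surjective (MvPolynomial (Fin n) k) S (algebraMap _ S) hπ
  have hopen := isOpen_codepth_le_quot hπ S 0
  convert hopen using 1
  ext q
  rw [Set.mem_ofPred_eq, Set.mem_ofPred_eq]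
  exact cmLocal_iff q.asIdeal

end Groth.Agent.H6.Codepth
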