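import Groth.Agent.Lib.Helper6.GrEssUngr

/-! The torsion functor of a homogeneous ideal on graded modules; the grading on the graded local
cohomology computed from a *injective resolution. -/

universe u
open DirectSum
set_option linter.unusedSectionVars false

namespace Groth.Agent.H6

namespace Gr

variable {ι : Type} [AddCommGroup ι] [DecidableEq ι]
variable {R : Type u} [CommRing R] (𝒜 : ι → AddSubgroup R) [GradedRing 𝒜]

theorem pow_isHomogeneous (a : HomogeneousIdeal 𝒜) (n : ℕ) :
    (a.toIdeal ^ n).IsHomogeneous 𝒜 := by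
  induction n with
  | zero =>
    rw [pow_zero, Ideal.one_eq_top]
    exact Ideal.IsHomogeneous.top 𝒜
  | succ n ih =>
    rw [pow_succ]
    exact ih.mul a.isHomogeneous

section

variable {X : Type u} [AddCommGroup X] [Module R X] (𝒳 : ι → AddSubgroup X)
  [DirectSum.Decomposition 𝒳] [SetLike.GradedSMul 𝒜 𝒳]

/-- if a homogeneous ideal kills `x` it kills its components -/
theorem smul_proj_eq_zero_of_isHomogeneous {b : Ideal R} (hb : b.IsHomogeneous 𝒜) {x : X}
    (hx : ∀ r ∈ b, r • x = 0) (g : ι) : ∀ r ∈ b, r • proj 𝒳 g x = 0 := by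
  intro r hr
  classical
  rw [← DirectSum.sum_support_decompose 𝒜 r, Finset.sum_smul]
  refine Finset.sum_eq_zero fun h _ => ?_
  have h1 : ((DirectSum.decompose 𝒜 r h : R)) ∈ b := hb h hr
  rw [← proj_smul_of_mem 𝒜 𝒳 (DirectSum.decompose 𝒜 r h).2, hx _ h1, map_zero]

theorem gam_isHomogeneous (a : HomogeneousIdeal 𝒜) :
    (GrLC.gam a.toIdeal X).IsHomogeneous 𝒳 := by
  rintro g x ⟨n, hn⟩
  exact ⟨n, smul_proj_eq_zero_of_isHomogeneous 𝒜 𝒳 (pow_isHomogeneous 𝒜 a n) hn g⟩

end

section H

variable {M : Type u} [AddCommGroup M] [Module R M] (ℳ : ι → AddSubgroup M)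
  [DirectSum.Decomposition ℳ] [SetLike.GradedSMul 𝒜 ℳ]
variable (E : GrLC.StarInjRes 𝒜 ℳ) (a : HomogeneousIdeal 𝒜)

theorem cocyc_isHomogeneous (i : ℕ) : (E.cocyc a i).IsHomogeneous (E.X i).gr :=
  isHomogeneous_inf _ (gam_isHomogeneous 𝒜 (E.X i).gr a)
    (ker_isHomogeneous (E.X i).gr (E.X (i + 1)).gr (E.d_grHom i))

theorem cobdy_isHomogeneous (i : ℕ) : (E.cobdy a i).IsHomogeneous (E.X i).gr := by
  cases i with
  | zero => exact isHomogeneous_bot _
  | succ n =>
    exact map_isHomogeneous (E.X n).gr (E.X (n + 1)).gr (E.d_grHom n)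
      (gam_isHomogeneous 𝒜 (E.X n).gr a)

/-- the pieces of the graded local cohomology form an internal direct sum decomposition -/
theorem isInternal_Hgr (i : ℕ) : DirectSum.IsInternal (E.Hgr a i) := by
  have hP := cocyc_isHomogeneous 𝒜 ℳ E a i
  letI : DirectSum.Decomposition (subGr (E.X i).gr (E.cocyc a i)) :=
    subDecomposition (E.X i).gr hP
  have hker : (LinearMap.ker (E.toH a i)).IsHomogeneous (subGr (E.X i).gr (E.cocyc a i)) := by
    rw [Submodule.ker_mkQ]
    intro g x hx
    change ((proj (subGr (E.X i).gr (E.cocyc a i)) g x : E.cocyc a i) : (E.X i).carrier) ∈ E.cobdy a i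
    have h1 : ((proj (subGr (E.X i).gr (E.cocyc a i)) g x : E.cocyc a i) : (E.X i).carrier) =
        proj (E.X i).gr g (x : (E.X i).carrier) := by
      have := isGrHom_proj (subGr (E.X i).gr (E.cocyc a i)) (E.X i).gr
        (f := (E.cocyc a i).subtype) (fun _ _ h => h) g x
      exact this
    rw [h1]
    exact cobdy_isHomogeneous 𝒜 ℳ E a i g hx
  have h := quot_isInternal (subGr (E.X i).gr (E.cocyc a i)) (q := E.toH a i)
    (Submodule.mkQ_surjective _) hker
  have heq : quotGr (subGr (E.X i).gr (E.cocyc a i)) (E.toH a i) = E.Hgr a i := by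
    funext g
    ext x
    constructor
    · rintro ⟨z, hz, rfl⟩
      exact ⟨z, hz, rfl⟩
    · rintro ⟨z, hz, rfl⟩
      exact ⟨z, hz, rfl⟩
  rw [← heq]
  exact h

end H

end Gr

end Groth.Agent.H6
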