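import Mathlib
import Groth.Prelude.Def_GrLC

/-! Basic API for graded modules over graded rings (in the style of `Def_GrLC`):
homogeneous components as additive maps, homogeneous maps, a constructor for decompositions
from projections, graded structures on homogeneous submodules and quotients. -/

universe u
open DirectSum

namespace Groth.Agent.H6

namespace Gr

variable {ι : Type} [DecidableEq ι]

section Proj

variable {M : Type*} [AddCommGroup M] (ℳ : ι → AddSubgroup M) [DirectSum.Decomposition ℳ]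

/-- the homogeneous component of degree `g`, as an additive endomorphism -/
noncomputable def proj (g : ι) : M →+ M :=
  (ℳ g).subtype.comp ((DFinsupp.evalAddMonoidHom g).comp
    (DirectSum.decomposeAddEquiv ℳ).toAddMonoidHom)

theorem proj_apply (g : ι) (m : M) : proj ℳ g m = (DirectSum.decompose ℳ m g : M) := rfl

theorem proj_mem (g : ι) (m : M) : proj ℳ g m ∈ ℳ g := (DirectSum.decompose ℳ m g).2

theorem proj_of_mem {g : ι} {m : M} (hm : m ∈ ℳ g) : proj ℳ g m = m := by
  rw [proj_apply, DirectSum.decompose_of_mem_same ℳ hm]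

theorem proj_of_mem_ne {g h : ι} {m : M} (hm : m ∈ ℳ g) (hne : g ≠ h) : proj ℳ h m = 0 := by
  rw [proj_apply, DirectSum.decompose_of_mem_ne ℳ hm hne]

theorem proj_proj_same (g : ι) (m : M) : proj ℳ g (proj ℳ g m) = proj ℳ g m :=
  proj_of_mem ℳ (proj_mem ℳ g m)

theorem proj_proj_ne {g h : ι} (hne : g ≠ h) (m : M) : proj ℳ h (proj ℳ g m) = 0 :=
  proj_of_mem_ne ℳ (proj_mem ℳ g m) hne

open Classical in
theorem sum_proj (m : M) : ∑ g ∈ (DirectSum.decompose ℳ m).support, proj ℳ g m = m :=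
  DirectSum.sum_support_decompose ℳ m

open Classical in
theorem proj_eq_zero_of_notMem_support {g : ι} {m : M}
    (hg : g ∉ (DirectSum.decompose ℳ m).support) : proj ℳ g m = 0 := by
  rw [proj_apply]
  rw [DFinsupp.notMem_support_iff] at hg
  rw [hg]; rfl

/-- every element is a finite sum of its components -/
theorem exists_finset_sum_proj (m : M) : ∃ s : Finset ι, ∑ g ∈ s, proj ℳ g m = m := by
  classical
  exact ⟨_, sum_proj ℳ m⟩

theorem eq_zero_of_proj_eq_zero {m : M} (h : ∀ g, proj ℳ g m = 0) : m = 0 := by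
  obtain ⟨s, hs⟩ := exists_finset_sum_proj ℳ m
  rw [← hs]
  exact Finset.sum_eq_zero fun g _ => h g

theorem ext_proj {m m' : M} (h : ∀ g, proj ℳ g m = proj ℳ g m') : m = m' := by
  rw [← sub_eq_zero]
  apply eq_zero_of_proj_eq_zero ℳ
  intro g
  rw [map_sub, h g, sub_self]

/-- induction principle: a property closed under addition holding for homogeneous elements holds
for all elements -/
theorem induction_on {motive : M → Prop} (zero : motive 0)
    (homogeneous : ∀ g (m : M), m ∈ ℳ g → motive m)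
    (add : ∀ m m' : M, motive m → motive m' → motive (m + m')) (m : M) : motive m :=
  DirectSum.Decomposition.inductionOn ℳ zero (fun {g} x => homogeneous g x x.2) add m

end Proj

section Hom

variable {R : Type u} [CommRing R]
variable {M : Type u} [AddCommGroup M] [Module R M] (ℳ : ι → AddSubgroup M)
  [DirectSum.Decomposition ℳ]
variable {N : Type u} [AddCommGroup N] [Module R N] (𝒩 : ι → AddSubgroup N)
  [DirectSum.Decomposition 𝒩]

theorem isGrHom_proj {f : M →ₗ[R] N} (hf : GrLC.IsGrHom ℳ 𝒩 f) (g : ι) (m : M) :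
    f (proj ℳ g m) = proj 𝒩 g (f m) := by
  induction m using induction_on ℳ with
  | zero => simp
  | homogeneous h m hm =>
    by_cases hgh : h = g
    · subst hgh
      rw [proj_of_mem ℳ hm, proj_of_mem 𝒩 (hf h m hm)]
    · rw [proj_of_mem_ne ℳ hm hgh, proj_of_mem_ne 𝒩 (hf h m hm) hgh, map_zero]
  | add m m' h1 h2 => rw [map_add, map_add, map_add, map_add, h1, h2]

theorem isGrHom_of_proj {f : M →ₗ[R] N} (hf : ∀ g m, f (proj ℳ g m) = proj 𝒩 g (f m)) :
    GrLC.IsGrHom ℳ 𝒩 f := by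
  intro g m hm
  rw [← proj_of_mem ℳ hm, hf]
  exact proj_mem 𝒩 g _

theorem ker_isHomogeneous {f : M →ₗ[R] N} (hf : GrLC.IsGrHom ℳ 𝒩 f) :
    (LinearMap.ker f).IsHomogeneous ℳ := by
  intro g m hm
  rw [LinearMap.mem_ker] at hm ⊢
  change f (proj ℳ g m) = 0
  rw [isGrHom_proj ℳ 𝒩 hf, hm, map_zero]

theorem range_isHomogeneous {f : M →ₗ[R] N} (hf : GrLC.IsGrHom ℳ 𝒩 f) :
    (LinearMap.range f).IsHomogeneous 𝒩 := by
  rintro g _ ⟨m, rfl⟩
  exact ⟨proj ℳ g m, isGrHom_proj ℳ 𝒩 hf g m⟩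

theorem isGrHom_id : GrLC.IsGrHom ℳ ℳ (LinearMap.id : M →ₗ[R] M) := fun _ _ h => h

theorem isGrHom_comp {P : Type u} [AddCommGroup P] [Module R P] (𝒞 : ι → AddSubgroup P)
    {f : M →ₗ[R] N} {f' : N →ₗ[R] P}
    (hf : GrLC.IsGrHom ℳ 𝒩 f) (hf' : GrLC.IsGrHom 𝒩 𝒞 f') : GrLC.IsGrHom ℳ 𝒞 (f' ∘ₗ f) :=
  fun g m hm => hf' g _ (hf g m hm)

end Hom

section Homog

variable {R : Type u} [CommRing R]
variable {M : Type u} [AddCommGroup M] [Module R M] (ℳ : ι → AddSubgroup M)
  [DirectSum.Decomposition ℳ]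

theorem isHomogeneous_iff (P : Submodule R M) :
    P.IsHomogeneous ℳ ↔ ∀ g m, m ∈ P → proj ℳ g m ∈ P := Iff.rfl

theorem isHomogeneous_bot : (⊥ : Submodule R M).IsHomogeneous ℳ := by
  intro g m hm
  rw [Submodule.mem_bot] at hm ⊢
  subst hm
  exact map_zero (proj ℳ g)

theorem isHomogeneous_top : (⊤ : Submodule R M).IsHomogeneous ℳ := fun _ _ _ => trivial

theorem isHomogeneous_inf {P Q : Submodule R M} (hP : P.IsHomogeneous ℳ)
    (hQ : Q.IsHomogeneous ℳ) : (P ⊓ Q).IsHomogeneous ℳ :=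
  fun g _ hm => ⟨hP g hm.1, hQ g hm.2⟩

theorem isHomogeneous_sup {P Q : Submodule R M} (hP : P.IsHomogeneous ℳ)
    (hQ : Q.IsHomogeneous ℳ) : (P ⊔ Q).IsHomogeneous ℳ := by
  intro g m hm
  obtain ⟨x, hx, y, hy, rfl⟩ := Submodule.mem_sup.mp hm
  change proj ℳ g (x + y) ∈ P ⊔ Q
  rw [map_add]
  exact Submodule.add_mem_sup (hP g hx) (hQ g hy)

theorem isHomogeneous_sSup_of_directed {S : Set (Submodule R M)} (hS : S.Nonempty)
    (hdir : DirectedOn (· ≤ ·) S)
    (h : ∀ P ∈ S, P.IsHomogeneous ℳ) : (sSup S).IsHomogeneous ℳ := by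
  intro g m hm
  rw [Submodule.mem_sSup_of_directed hS hdir] at hm
  obtain ⟨P, hP, hmP⟩ := hm
  exact (le_sSup hP : P ≤ sSup S) (h P hP g hmP)

/-- a nonzero homogeneous submodule contains a nonzero homogeneous element -/
theorem exists_homogeneous_ne_zero {P : Submodule R M} (hP : P.IsHomogeneous ℳ) (hne : P ≠ ⊥) :
    ∃ g m, m ∈ P ∧ m ∈ ℳ g ∧ m ≠ 0 := by
  obtain ⟨m, hm, hm0⟩ := Submodule.exists_mem_ne_zero_of_ne_bot hne
  by_contra hcon
  push Not at hcon
  apply hm0
  apply eq_zero_of_proj_eq_zero ℳ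
  intro g
  by_contra h
  exact h (hcon g _ (hP g hm) (proj_mem ℳ g m))

/-- the submodule generated by a homogeneous element is homogeneous -/
theorem span_singleton_isHomogeneous {σ : Type*} [SetLike σ R] [AddSubgroupClass σ R]
    (𝒜 : ι → σ) [AddMonoid ι] [GradedRing 𝒜] [SetLike.GradedSMul 𝒜 ℳ]
    {g : ι} {m : M} (hm : m ∈ ℳ g) : (Submodule.span R {m}).IsHomogeneous ℳ := by
  intro h x hx
  obtain ⟨r, rfl⟩ := Submodule.mem_span_singleton.mp hx
  change proj ℳ h (r • m) ∈ _
  clear hx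
  induction r using DirectSum.Decomposition.inductionOn 𝒜 with
  | zero => simp
  | homogeneous r =>
    rename_i i
    have hrm : (r : R) • m ∈ ℳ (i + g) := SetLike.GradedSMul.smul_mem r.2 hm
    by_cases hh : i + g = h
    · rw [← hh, proj_of_mem ℳ hrm]
      exact Submodule.smul_mem _ _ (Submodule.mem_span_singleton_self m)
    · rw [proj_of_mem_ne ℳ hrm hh]
      exact zero_mem _
  | add r r' h1 h2 =>
    rw [add_smul, map_add]
    exact add_mem h1 h2

end Homog

end Gr

end Groth.Agent.H6
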