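import Groth.Agent.Lib.Helper6.GrSubQuot
import Groth.Agent.Lib.Helper6.GrBasic

/-! Transfer of graded notions from a grading by an arbitrary `SetLike` family of additive
subgroups to the grading by the underlying `AddSubgroup`s. -/

universe u
open DirectSum
set_option linter.unusedSectionVars false

namespace Groth.Agent.H6

namespace ToAdd

variable {ι : Type} [AddCommGroup ι] [DecidableEq ι]
variable {R : Type u} [CommRing R] {σ : Type u} [SetLike σ R] [AddSubgroupClass σ R]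
variable (𝒲 : ι → σ) [GradedRing 𝒲]

/-- the underlying additive subgroups -/
def toAdd : ι → AddSubgroup R := fun n => AddSubgroup.ofClass (𝒲 n)

theorem mem_toAdd {n : ι} {x : R} : x ∈ toAdd 𝒲 n ↔ x ∈ 𝒲 n := Iff.rfl

theorem gradedMonoid_toAdd : SetLike.GradedMonoid (toAdd 𝒲) where
  one_mem := SetLike.GradedOne.one_mem (A := 𝒲)
  mul_mem := fun _ _ _ _ hx hy => SetLike.GradedMul.mul_mem (A := 𝒲) hx hy

theorem isInternal_toAdd : DirectSum.IsInternal (toAdd 𝒲) := by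
  refine Gr.isInternal_of_proj (toAdd 𝒲) (fun g => GradedRing.proj 𝒲 g) ?_ ?_ ?_
  · intro g x hx
    change ((DirectSum.decompose 𝒲 x g : 𝒲 g) : R) = x
    rw [DirectSum.decompose_of_mem_same 𝒲 hx]
  · intro g h x hx hne
    change ((DirectSum.decompose 𝒲 x h : 𝒲 h) : R) = 0
    rw [DirectSum.decompose_of_mem_ne 𝒲 hx hne]
  · intro x
    classical
    rw [← DirectSum.sum_support_decompose 𝒲 x]
    refine sum_mem fun g _ => ?_
    exact AddSubgroup.mem_iSup_of_mem g (DirectSum.decompose 𝒲 x g).2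

/-- the graded ring structure on the underlying additive subgroups -/
@[instance_reducible]
noncomputable def gradedRing_toAdd : GradedRing (toAdd 𝒲) :=
  { gradedMonoid_toAdd 𝒲, (isInternal_toAdd 𝒲).chooseDecomposition with }

theorem proj_toAdd [GradedRing (toAdd 𝒲)] (g : ι) (x : R) :
    Gr.proj (toAdd 𝒲) g x = ((DirectSum.decompose 𝒲 x g : 𝒲 g) : R) := by
  refine Gr.proj_eq_of_proj (toAdd 𝒲) (fun g => GradedRing.proj 𝒲 g) ?_ ?_ g x
  · intro g x hx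
    change ((DirectSum.decompose 𝒲 x g : 𝒲 g) : R) = x
    rw [DirectSum.decompose_of_mem_same 𝒲 hx]
  · intro g h x hx hne
    change ((DirectSum.decompose 𝒲 x h : 𝒲 h) : R) = 0
    rw [DirectSum.decompose_of_mem_ne 𝒲 hx hne]

theorem isHomogeneous_iff [GradedRing (toAdd 𝒲)] (I : Ideal R) :
    I.IsHomogeneous (toAdd 𝒲) ↔ I.IsHomogeneous 𝒲 := by
  constructor
  · intro h g x hx
    have := h g hx
    change Gr.proj (toAdd 𝒲) g x ∈ I at this
    rwa [proj_toAdd] at this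
  · intro h g x hx
    change Gr.proj (toAdd 𝒲) g x ∈ I
    rw [proj_toAdd]
    exact h g hx


section Coatom

variable {σ' : Type u} [SetLike σ' R] [AddSubgroupClass σ' R] (𝒱 : ι → σ') [GradedRing 𝒱]

theorem isCoatom_iff_ideal (a : HomogeneousIdeal 𝒱) :
    IsCoatom a ↔ a.toIdeal ≠ ⊤ ∧
      ∀ J : Ideal R, J.IsHomogeneous 𝒱 → a.toIdeal < J → J = ⊤ := by
  constructor
  · rintro ⟨h1, h2⟩
    refine ⟨?_, ?_⟩
    · intro h
      apply h1
      apply HomogeneousIdeal.toIdeal_injective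
      rw [h, HomogeneousIdeal.toIdeal_top]
    · intro J hJ hlt
      have := h2 (⟨J, hJ⟩ : HomogeneousIdeal 𝒱) hlt
      have h3 := congrArg HomogeneousIdeal.toIdeal this
      rwa [HomogeneousIdeal.toIdeal_top] at h3
  · rintro ⟨h1, h2⟩
    refine ⟨?_, ?_⟩
    · intro h
      apply h1
      rw [h, HomogeneousIdeal.toIdeal_top]
    · intro (b : HomogeneousIdeal 𝒱) hb
      apply HomogeneousIdeal.toIdeal_injective
      rw [HomogeneousIdeal.toIdeal_top]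
      exact h2 b.toIdeal b.isHomogeneous hb

end Coatom

section Ideal

variable [hA : GradedRing (toAdd 𝒲)]

/-- a homogeneous ideal, for the underlying additive subgroups -/
def idealTo (m : HomogeneousIdeal 𝒲) : HomogeneousIdeal (toAdd 𝒲) :=
  ⟨m.toIdeal, (isHomogeneous_iff 𝒲 _).mpr m.isHomogeneous⟩

/-- a homogeneous ideal, back from the underlying additive subgroups -/
def idealOf (m : HomogeneousIdeal (toAdd 𝒲)) : HomogeneousIdeal 𝒲 :=
  ⟨m.toIdeal, (isHomogeneous_iff 𝒲 _).mp m.isHomogeneous⟩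

theorem idealTo_toIdeal (m : HomogeneousIdeal 𝒲) : (idealTo 𝒲 m).toIdeal = m.toIdeal := rfl

theorem idealOf_toIdeal (m : HomogeneousIdeal (toAdd 𝒲)) : (idealOf 𝒲 m).toIdeal = m.toIdeal := rfl

theorem isCoatom_idealTo (m : HomogeneousIdeal 𝒲) (hm : IsCoatom m) : IsCoatom (idealTo 𝒲 m) := by
  rw [isCoatom_iff_ideal] at hm ⊢
  refine ⟨hm.1, fun J hJ hlt => hm.2 J ((isHomogeneous_iff 𝒲 J).mp hJ) hlt⟩

theorem isCoatom_idealOf (m : HomogeneousIdeal (toAdd 𝒲)) (hm : IsCoatom m) :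
    IsCoatom (idealOf 𝒲 m) := by
  rw [isCoatom_iff_ideal] at hm ⊢
  refine ⟨hm.1, fun J hJ hlt => hm.2 J ((isHomogeneous_iff 𝒲 J).mpr hJ) hlt⟩

theorem isStarLocal_idealTo (m : HomogeneousIdeal 𝒲) (hm : GrLC.IsStarLocal 𝒲 m) :
    GrLC.IsStarLocal (toAdd 𝒲) (idealTo 𝒲 m) := by
  refine ⟨isCoatom_idealTo 𝒲 m hm.1, fun n hn => ?_⟩
  have := hm.2 (idealOf 𝒲 n) (isCoatom_idealOf 𝒲 n hn)
  apply HomogeneousIdeal.toIdeal_injective
  have h2 : (idealOf 𝒲 n).toIdeal = m.toIdeal := congrArg HomogeneousIdeal.toIdeal this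
  exact h2

end Ideal


section Mod

variable [hA : GradedRing (toAdd 𝒲)]

theorem gradedSMul_to {M : Type u} [AddCommGroup M] [Module R M] (ℳ : ι → AddSubgroup M)
    [SetLike.GradedSMul 𝒲 ℳ] : SetLike.GradedSMul (toAdd 𝒲) ℳ where
  smul_mem := fun _ _ _ _ hr hx => SetLike.GradedSMul.smul_mem (A := 𝒲) (B := ℳ) hr hx

theorem gradedSMul_of {M : Type u} [AddCommGroup M] [Module R M] (ℳ : ι → AddSubgroup M)
    [SetLike.GradedSMul (toAdd 𝒲) ℳ] : SetLike.GradedSMul 𝒲 ℳ where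
  smul_mem := fun _ _ _ _ hr hx => SetLike.GradedSMul.smul_mem (A := toAdd 𝒲) (B := ℳ) hr hx

/-- a graded module, over the underlying additive subgroups -/
def gmodTo (X : GrLC.GMod.{u} 𝒲) : GrLC.GMod.{u} (toAdd 𝒲) :=
  letI := gradedSMul_to 𝒲 X.gr
  { carrier := X.carrier, gr := X.gr }

/-- a graded module, back from the underlying additive subgroups -/
def gmodOf (X : GrLC.GMod.{u} (toAdd 𝒲)) : GrLC.GMod.{u} 𝒲 :=
  letI := gradedSMul_of 𝒲 X.gr
  { carrier := X.carrier, gr := X.gr }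

theorem isStarInj_to {M : Type u} [AddCommGroup M] [Module R M] (ℳ : ι → AddSubgroup M)
    [DirectSum.Decomposition ℳ] [SetLike.GradedSMul 𝒲 ℳ] [SetLike.GradedSMul (toAdd 𝒲) ℳ]
    (h : GrLC.IsStarInj 𝒲 ℳ) : GrLC.IsStarInj (toAdd 𝒲) ℳ := by
  intro A B f hf hinj g hg
  exact h (gmodOf 𝒲 A) (gmodOf 𝒲 B) f hf hinj g hg

/-- a *injective resolution of the ring, over the underlying additive subgroups -/
def resTo (I : GrLC.StarInjRes 𝒲 𝒲) : GrLC.StarInjRes (toAdd 𝒲) (toAdd 𝒲) where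
  X n := gmodTo 𝒲 (I.X n)
  d := I.d
  ε := I.ε
  d_grHom := I.d_grHom
  ε_grHom := I.ε_grHom
  ε_injective := I.ε_injective
  exact_zero := I.exact_zero
  exact_succ := I.exact_succ
  starInj n :=
    haveI := gradedSMul_to 𝒲 (I.X n).gr
    isStarInj_to 𝒲 (I.X n).gr (I.starInj n)

variable (m : HomogeneousIdeal 𝒲)
variable {E' : Type u} [AddCommGroup E'] [Module R E'] (𝓔 : ι → AddSubgroup E')
  [DirectSum.Decomposition 𝓔] [SetLike.GradedSMul 𝒲 𝓔] [SetLike.GradedSMul (toAdd 𝒲) 𝓔]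

theorem isStarInjHull_to (e : (R ⧸ m.toIdeal) →ₗ[R] E')
    (he : GrLC.IsStarInjHull 𝒲 (GrLC.quotGr 𝒲 m) 𝓔 e) :
    GrLC.IsStarInjHull (toAdd 𝒲) (GrLC.quotGr (toAdd 𝒲) (idealTo 𝒲 m)) 𝓔 e := by
  refine ⟨⟨he.injective, ?_, he.essential⟩, isStarInj_to 𝒲 𝓔 he.starInj⟩
  rintro g _ ⟨r, hr, rfl⟩
  exact he.grHom g _ ⟨r, hr, rfl⟩

variable {C : Type u} [AddCommGroup C] [Module R C] (𝒞 : ι → AddSubgroup C)
  [DirectSum.Decomposition 𝒞] [SetLike.GradedSMul 𝒲 𝒞] [SetLike.GradedSMul (toAdd 𝒲) 𝒞]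

theorem isStarCanonical_to (n : ℕ) (I : GrLC.StarInjRes 𝒲 𝒲)
    (hC : GrLC.IsStarCanonical 𝒲 𝒞 𝓔 m n I) :
    GrLC.IsStarCanonical (toAdd 𝒲) 𝒞 𝓔 (idealTo 𝒲 m) n (resTo 𝒲 I) := by
  obtain ⟨hfin, φ, hφ⟩ := hC
  exact ⟨hfin, φ, fun d u hu => hφ d u hu⟩

end Mod

end ToAdd

end Groth.Agent.H6
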