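import Groth.Agent.Lib.Helper6.GrCMCrit2
import Groth.Agent.Lib.Helper6.CMOpen
import Groth.Agent.Lib.Helper6.GrToAdd
import Groth.Agent.Lib.Helper6.GrGamma

/-! The Cohen–Macaulay criterion: ring version, and versions for gradings by subspaces. -/

universe u
set_option linter.unusedSectionVars false

namespace Groth.Agent.H6

namespace GrCM

open Gr

section RingLocal

variable {R : Type u} [CommRing R] [IsNoetherianRing R]

theorem cmLocal_iff_module (q : Ideal R) [q.IsPrime] :
    LocCoh.IsCohenMacaulayLocalRing (Localization.AtPrime q) ↔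
      LocCoh.IsCohenMacaulayModule (Localization.AtPrime q) (LocalizedModule q.primeCompl R) := by
  haveI : IsNoetherianRing (Localization.AtPrime q) :=
    IsLocalization.isNoetherianRing q.primeCompl _ inferInstance
  let e0 : LocalizedModule q.primeCompl R ≃ₗ[R] Localization.AtPrime q :=
    IsLocalizedModule.linearEquiv q.primeCompl (LocalizedModule.mkLinearMap q.primeCompl R)
      (Algebra.linearMap R (Localization.AtPrime q))
  let e : LocalizedModule q.primeCompl R ≃ₗ[Localization.AtPrime q] Localization.AtPrime q :=
    LinearEquiv.extendScalarsOfIsLocalization q.primeCompl (Localization.AtPrime q) e0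
  unfold LocCoh.IsCohenMacaulayModule
  rw [Module.supportDim_eq_of_equiv e, Groth.Agent.H1.AB.depth_eq_of_linearEquiv e]
  exact ⟨fun h => h.supportDim_eq_depth, fun h => { supportDim_eq_depth := h }⟩

theorem cmRing_iff_module :
    LocCoh.IsCohenMacaulayRing R ↔
      ∀ (p : Ideal R) [p.IsPrime], Subsingleton (LocalizedModule p.primeCompl R) ∨
        LocCoh.IsCohenMacaulayModule (Localization.AtPrime p)
          (LocalizedModule p.primeCompl R) := by
  constructor
  · intro h p hp
    exact Or.inr ((cmLocal_iff_module p).mp (h.isCohenMacaulayLocalRing_localization p))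
  · intro h
    refine { isCohenMacaulayLocalRing_localization := fun p hp => ?_ }
    rcases h p with h1 | h1
    · exfalso
      let e0 : LocalizedModule p.primeCompl R ≃ₗ[R] Localization.AtPrime p :=
        IsLocalizedModule.linearEquiv p.primeCompl (LocalizedModule.mkLinearMap p.primeCompl R)
          (Algebra.linearMap R (Localization.AtPrime p))
      have : Subsingleton (Localization.AtPrime p) := e0.symm.toEquiv.subsingleton
      exact not_subsingleton _ this
    · exact (cmLocal_iff_module p).mpr h1

end RingLocal

section Pieces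

variable {R : Type u} [CommRing R] (𝒜 : ℤ → AddSubgroup R) [GradedRing 𝒜]
variable {M : Type u} [AddCommGroup M] [Module R M] (ℳ : ℤ → AddSubgroup M)
  [DirectSum.Decomposition ℳ] [SetLike.GradedSMul 𝒜 ℳ]

theorem nontrivial_H_iff (E : GrLC.StarInjRes 𝒜 ℳ) (a : HomogeneousIdeal 𝒜) (q : ℕ) :
    Nontrivial (E.H a q) ↔ ∃ d : ℤ, E.Hcomp a q d ≠ ⊥ := by
  constructor
  · intro h
    by_contra hcon
    push Not at hcon
    rw [← not_subsingleton_iff_nontrivial] at h
    apply h
    refine ⟨fun x y => ?_⟩
    suffices ∀ z : E.H a q, z = 0 by rw [this x, this y]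
    intro z
    letI : DirectSum.Decomposition (E.Hgr a q) :=
      (isInternal_Hgr 𝒜 ℳ E a q).chooseDecomposition
    obtain ⟨s, hs⟩ := exists_finset_sum_proj (E.Hgr a q) z
    rw [← hs]
    refine Finset.sum_eq_zero fun d _ => ?_
    have h1 : proj (E.Hgr a q) d z ∈ E.Hcomp a q d := proj_mem (E.Hgr a q) d z
    rw [hcon d, Submodule.mem_bot] at h1
    exact h1
  · rintro ⟨d, hd⟩
    by_contra hcon
    rw [not_nontrivial_iff_subsingleton] at hcon
    apply hd
    rw [eq_bot_iff]
    intro x _
    rw [Submodule.mem_bot]
    exact Subsingleton.elim _ _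

end Pieces

end GrCM

end Groth.Agent.H6
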