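import Mathlib
set_option autoImplicit false
universe u
open CategoryTheory CategoryTheory.Limits AlgebraicGeometry Order
namespace Groth.Agent.H6.TD

section Top

variable {T : Type*} [TopologicalSpace T] [QuasiSober T] [T0Space T]

attribute [local instance] specializationOrder

lemma topologicalKrullDim_eq_iSup_coheight :
    topologicalKrullDim T = ⨆ x : T, (coheight x : WithBot ℕ∞) := by
  unfold topologicalKrullDim
  rw [krullDim_eq_of_orderIso (irreducibleSetEquivPoints (α := T)), krullDim_eq_iSup_coheight]

end Top

/-- the dimension of a local ring is at most the dimension of the scheme. -/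
theorem ringKrullDim_stalk_le (X : Scheme.{u}) (x : X) :
    ringKrullDim (X.presheaf.stalk x) ≤ topologicalKrullDim X := by
  rw [ringKrullDim_stalk_eq_coheight, topologicalKrullDim_eq_iSup_coheight]
  exact le_iSup (fun x : X => (coheight x : WithBot ℕ∞)) x

theorem topologicalKrullDim_eq_iSup_stalk (X : Scheme.{u}) :
    topologicalKrullDim X = ⨆ x : X, ringKrullDim (X.presheaf.stalk x) := by
  rw [topologicalKrullDim_eq_iSup_coheight]
  congr 1
  funext x
  rw [ringKrullDim_stalk_eq_coheight]

end Groth.Agent.H6.TD
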