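import Mathlib
import Groth.Prelude.Def_Curv2
import Groth.Agent.Lib.Helper1.StalkGen
import Groth.Agent.Lib.Helper1.SmoothReg2
import Groth.Agent.Lib.Helper1.BCStalkRed
import Groth.Agent.Lib.Helper1.BCStalkReg2
import Groth.Agent.Lib.Helper1.SmoothGeom
import Groth.Agent.Lib.Helper9.Misc.FlatDense
import Groth.Agent.Lib.Helper5.AG.Kunneth
import Groth.Agent.Lib.Helper5.DF.DF11

/-! Helper6: smoothness at maximal points of geometrically reduced schemes over a field
(S1549, S7775). -/

set_option autoImplicit false
set_option linter.style.haveILetI false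
universe u
open CategoryTheory CategoryTheory.Limits AlgebraicGeometry IsLocalRing TensorProduct

namespace Groth.Agent.H6.GenSmooth

open Groth.Agent.H9.FlatDense Groth.Agent.H1.SmoothReg Groth.Agent.H1.BCStalk

/-- the local ring at a maximal point has dimension zero. -/
theorem krullDimLE_zero_stalk_of_isMaxPt {X : Scheme.{u}} (x : X) (hmax : IsMaxPt x) :
    Ring.KrullDimLE 0 (X.presheaf.stalk x) := by
  refine Ring.KrullDimLE.mk₀ fun I hI => ?_
  have h1 : X.fromSpecStalk x ⟨I, hI⟩ ⤳ x :=
    Groth.Agent.H1.StalkGen.fromSpecStalk_specializes x _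
  have h2 : x ⤳ X.fromSpecStalk x ⟨I, hI⟩ := hmax _ h1
  have h3 : X.fromSpecStalk x ⟨I, hI⟩ = x := (h1.antisymm h2).eq
  have h4 : X.fromSpecStalk x (IsLocalRing.closedPoint (X.presheaf.stalk x)) = x :=
    Scheme.fromSpecStalk_closedPoint
  have h5 : (⟨I, hI⟩ : PrimeSpectrum (X.presheaf.stalk x)) =
      IsLocalRing.closedPoint (X.presheaf.stalk x) :=
    Groth.Agent.H1.StalkGen.fromSpecStalk_injective x (h3.trans h4.symm)
  have h6 : I = IsLocalRing.maximalIdeal (X.presheaf.stalk x) :=
    congrArg PrimeSpectrum.asIdeal h5
  rw [h6]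
  exact IsLocalRing.maximalIdeal.isMaximal _

/-- the generic point of an irreducible component is a maximal point. -/
theorem isMaxPt_of_isGenericPoint {W : Type*} [TopologicalSpace W] {Z : Set W}
    (hZ : Z ∈ irreducibleComponents W) {η : W} (hη : IsGenericPoint η Z) : IsMaxPt η := by
  intro z hz
  have h1 : Z ⊆ closure {z} := by
    rw [← hη.def]
    exact closure_minimal (Set.singleton_subset_iff.2 (specializes_iff_mem_closure.1 hz))
      isClosed_closure
  have h2 : closure {z} ⊆ Z := hZ.2 isIrreducible_singleton.closure h1
  rw [specializes_iff_mem_closure, hη.def]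
  exact h2 (subset_closure rfl)

/-- **Key lemma**: a maximal point of a scheme locally of finite presentation over a field whose
local ring is geometrically reduced is a smooth point. -/
theorem mem_smoothLocus_of_isMaxPt (K : Type u) [Field K] {X : Scheme.{u}}
    (f : X ⟶ Spec (CommRingCat.of K)) [LocallyOfFinitePresentation f] (x : X)
    (hmax : IsMaxPt x)
    (hgr : @Algebra.IsGeometricallyReduced K (X.presheaf.stalk x) _ _
      (stalkMapK f x).toAlgebra) : x ∈ f.smoothLocus := by
  letI : Algebra K (X.presheaf.stalk x) := (stalkMapK f x).toAlgebra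
  haveI : Algebra.IsGeometricallyReduced K (X.presheaf.stalk x) := hgr
  haveI : IsReduced (X.presheaf.stalk x) := Algebra.isReduced_of_isGeometricallyReduced K
  haveI : Ring.KrullDimLE 0 (X.presheaf.stalk x) := krullDimLE_zero_stalk_of_isMaxPt x hmax
  have hfield : IsField (X.presheaf.stalk x) := Ring.KrullDimLE.isField_of_isReduced
  haveI : IsDomain (X.presheaf.stalk x) := hfield.isDomain
  haveI : IsPrincipalIdealRing (X.presheaf.stalk x) := hfield.isPrincipalIdealRing
  have hreg : IsRegularLocalRing (X.presheaf.stalk x) := inferInstance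
  apply mem_smoothLocus_of_isRegularLocalRing_of_geomRed K f x hreg
  letI : Algebra K (X.residueField x) := ((X.residue x).hom.comp (stalkMapK f x)).toAlgebra
  have hmaxid : IsLocalRing.maximalIdeal (X.presheaf.stalk x) = ⊥ :=
    IsLocalRing.isField_iff_maximalIdeal_eq.mp hfield
  have hinj : Function.Injective (IsLocalRing.residue (X.presheaf.stalk x)) := by
    rw [RingHom.injective_iff_ker_eq_bot, IsLocalRing.ker_residue, hmaxid]
  have hsurj : Function.Surjective (IsLocalRing.residue (X.presheaf.stalk x)) :=
    IsLocalRing.residue_surjective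
  let φ : X.presheaf.stalk x →ₐ[K] X.residueField x :=
    { toRingHom := (X.residue x).hom
      commutes' := fun c => rfl }
  have hbij : Function.Bijective φ := ⟨hinj, hsurj⟩
  let e : X.presheaf.stalk x ≃ₐ[K] X.residueField x := AlgEquiv.ofBijective φ hbij
  exact Algebra.IsGeometricallyReduced.of_injective e.symm.toAlgHom e.symm.injective

attribute [local instance] Curv2.resAlgebra Curv2.stalkAlgebra

/-- statement shape of S1549. -/
theorem s1549 (k : Type u) [Field k] (X : Scheme.{u}) [X.Over (Spec (CommRingCat.of k))]
    [IsReduced X] [LocallyOfFiniteType (X ↘ (Spec (CommRingCat.of k)))] :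
    GeometricallyReduced (X ↘ (Spec (CommRingCat.of k))) ↔
      ∃ U : X.Opens, Dense (U : Set X) ∧ Smooth (U.ι ≫ (X ↘ (Spec (CommRingCat.of k)))) := by
  haveI : IsLocallyNoetherian X :=
    LocallyOfFiniteType.isLocallyNoetherian (X ↘ (Spec (CommRingCat.of k)))
  constructor
  · intro h
    have hall := (geometricallyReduced_iff_forall k X).mp h
    refine ⟨(X ↘ (Spec (CommRingCat.of k))).smoothLocus, ?_, ?_⟩
    · intro x
      obtain ⟨ξ, hξx, hξmax⟩ := exists_maxPt x
      have hξ : ξ ∈ (X ↘ (Spec (CommRingCat.of k))).smoothLocus :=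
        mem_smoothLocus_of_isMaxPt k (X ↘ (Spec (CommRingCat.of k))) ξ hξmax
          ((s1541 k X ξ).mp (hall ξ))
      exact hξx.mem_closed isClosed_closure (subset_closure hξ)
    · rw [← Scheme.Hom.smoothLocus_eq_top_iff, ← Scheme.Hom.preimage_smoothLocus_eq]
      exact Scheme.Opens.ι_preimage_self _
  · rintro ⟨U, hUd, hUs⟩
    apply s1543 k X
    intro Z hZ η hη
    have hmax : IsMaxPt η := isMaxPt_of_isGenericPoint hZ hη
    have hηU : η ∈ U := maxPt_mem_of_dense_scheme hmax U hUd
    haveI : Smooth ((U : Scheme.{u}) ↘ Spec (CommRingCat.of k)) := hUs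
    have hU := (Groth.Agent.H1.SmoothGeom.s1628 k (U : Scheme.{u})).1
    set w : U := ⟨η, hηU⟩ with hw
    have hgrU : Algebra.IsGeometricallyReduced k ((U : Scheme.{u}).presheaf.stalk w) :=
      (s1541 k (U : Scheme.{u}) w).mp
        ((geometricallyReduced_iff_forall k (U : Scheme.{u})).mp hU w)
    have hcomp := stalkMap_comp_stalkMap k (U : Scheme.{u}) X U.ι rfl w
    have hgoal : Algebra.IsGeometricallyReduced k (X.presheaf.stalk (U.ι w)) := by
      let φ : X.presheaf.stalk (U.ι w) →ₐ[k] (U : Scheme.{u}).presheaf.stalk w :=
        { toRingHom := (U.ι.stalkMap w).hom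
          commutes' := fun c => congr($(hcomp) c) }
      have hinj : Function.Injective φ :=
        ((ConcreteCategory.isIso_iff_bijective (U.ι.stalkMap w)).mp inferInstance).1
      exact Algebra.IsGeometricallyReduced.of_injective φ hinj
    exact (s1541 k X η).mpr hgoal

/-- the local ring of an integral scheme at its generic point is a field. -/
theorem isField_stalk_of_eq_genericPoint {Y : Scheme.{u}} [IsIntegral Y] (y : Y)
    (hy : y = genericPoint Y) : IsField (Y.presheaf.stalk y) := by
  subst hy
  exact Field.toIsField Y.functionField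

/-- a dominant morphism of integral schemes maps the generic point to the generic point. -/
theorem map_genericPoint_of_isDominant {X Y : Scheme.{u}} [IsIntegral X] [IsIntegral Y]
    (f : X ⟶ Y) [IsDominant f] : f (genericPoint X) = genericPoint Y := by
  have h1 : IsGenericPoint (f (genericPoint X)) (closure (f '' ⊤)) :=
    (genericPoint_spec X).image f.continuous
  have h2 : closure (f '' (⊤ : Set X)) = (⊤ : Set Y) := by
    rw [Set.top_eq_univ, Set.image_univ]
    exact f.denseRange.closure_range
  rw [h2] at h1
  exact h1.eq (genericPoint_spec Y)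

/-- statement shape of S7775. -/
theorem s7775 (X Y : Scheme.{u}) [IsIntegral X] [IsIntegral Y]
    (f : X ⟶ Y) [IsDominant f] [LocallyOfFinitePresentation f]
    (hsep : GeometricallyReduced (f.fiberToSpecResidueField (f.base (genericPoint X)))) :
    Dense (f.smoothLocus : Set X) := by
  suffices h : genericPoint X ∈ f.smoothLocus by
    have hd : Dense ({genericPoint X} : Set X) := by
      rw [dense_iff_closure_eq, ← Set.top_eq_univ]
      exact (genericPoint_spec X).def
    exact hd.mono (Set.singleton_subset_iff.mpr h)
  haveI : LocallyOfFinitePresentation (f.fiberToSpecResidueField (f (genericPoint X))) :=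
    MorphismProperty.pullback_snd (P := @LocallyOfFinitePresentation) _ _ ‹_›
  have hz : f.fiberι (f (genericPoint X)) (f.asFiber (genericPoint X)) = genericPoint X :=
    Scheme.Hom.fiberι_asFiber f (genericPoint X)
  rw [H5.DF.mem_smoothLocus_iff_fiber f (genericPoint X) (f (genericPoint X)) rfl
    (f.asFiber (genericPoint X)) hz]
  constructor
  · exact Groth.Agent.H5.Kunneth.flat_of_field_source
      (isField_stalk_of_eq_genericPoint _ (map_genericPoint_of_isDominant f)) _
  · have hzmax : IsMaxPt (f.asFiber (genericPoint X)) := by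
      intro z' hz'
      have h1 : f.fiberι (f (genericPoint X)) z' ⤳
          f.fiberι (f (genericPoint X)) (f.asFiber (genericPoint X)) :=
        hz'.map (f.fiberι (f (genericPoint X))).continuous
      rw [hz] at h1
      have h2 : genericPoint X ⤳ f.fiberι (f (genericPoint X)) z' :=
        (genericPoint_spec X).specializes (Set.mem_univ _)
      have h3 : f.fiberι (f (genericPoint X)) z' =
          f.fiberι (f (genericPoint X)) (f.asFiber (genericPoint X)) := by
        rw [hz]; exact (h1.antisymm h2).eq
      have h4 : z' = f.asFiber (genericPoint X) :=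
        (f.fiberι (f (genericPoint X))).isEmbedding.injective h3
      rw [h4]
    letI : (f.fiber (f (genericPoint X))).Over
        (Spec (CommRingCat.of (Y.residueField (f (genericPoint X))))) :=
      ⟨f.fiberToSpecResidueField (f (genericPoint X))⟩
    have hall := (geometricallyReduced_iff_forall (Y.residueField (f (genericPoint X)))
      (f.fiber (f (genericPoint X)))).mp hsep
    exact mem_smoothLocus_of_isMaxPt (Y.residueField (f (genericPoint X)))
      (f.fiberToSpecResidueField (f (genericPoint X))) (f.asFiber (genericPoint X)) hzmax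
      ((s1541 _ _ (f.asFiber (genericPoint X))).mp (hall (f.asFiber (genericPoint X))))

end Groth.Agent.H6.GenSmooth
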