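import Mathlib

set_option autoImplicit false
open TensorProduct LinearMap Module

namespace Groth.Agent.H6.Tr

section alg
variable (R : Type*) [CommRing R] (M : Type*) [AddCommGroup M] [Module R M]
  [Module.Finite R M] [Module.Projective R M]

/-- the trace of an endomorphism of a finite projective module. -/
noncomputable def ptrace : Module.End R M →ₗ[R] R :=
  contractLeft R M ∘ₗ (dualTensorHomEquiv R M M).symm.toLinearMap

variable {R M}

lemma ptrace_dualTensorHom (x : Module.Dual R M ⊗[R] M) :
    ptrace R M (dualTensorHom R M M x) = contractLeft R M x := by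
  unfold ptrace
  rw [LinearMap.comp_apply]
  congr 1
  exact (dualTensorHomEquiv R M M).symm_apply_apply x

lemma ptrace_eq_trace [Module.Free R M] : ptrace R M = LinearMap.trace R M :=
  (LinearMap.trace_eq_contract' R M).symm

lemma exists_lift_tensor {R' : Type*} [CommRing R'] [Algebra R R'] {M' : Type*}
    [AddCommGroup M'] [Module R M'] [Module R' M'] [IsScalarTower R R' M']
    (l : M →ₗ[R] M') (hl : IsBaseChange R' l) (x : Module.Dual R M ⊗[R] M) :
    ∃ y : Module.Dual R' M' ⊗[R'] M',
      (∀ m, dualTensorHom R' M' M' y (l m) = l (dualTensorHom R M M x m)) ∧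
      contractLeft R' M' y = algebraMap R R' (contractLeft R M x) := by
  induction x using TensorProduct.induction_on with
  | zero => exact ⟨0, by simp, by simp⟩
  | tmul g m =>
    refine ⟨(hl.lift ((Algebra.linearMap R R') ∘ₗ g)) ⊗ₜ l m, fun m₀ => ?_, ?_⟩
    · rw [dualTensorHom_apply, dualTensorHom_apply, hl.lift_eq, LinearMap.comp_apply,
        Algebra.linearMap_apply, algebraMap_smul, map_smul]
    · rw [contractLeft_apply, contractLeft_apply, hl.lift_eq, LinearMap.comp_apply,
        Algebra.linearMap_apply]
  | add x y hx hy =>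
    obtain ⟨x', hx1, hx2⟩ := hx
    obtain ⟨y', hy1, hy2⟩ := hy
    refine ⟨x' + y', fun m => ?_, ?_⟩
    · rw [map_add, map_add, LinearMap.add_apply, LinearMap.add_apply, hx1, hy1, map_add]
    · rw [map_add, map_add, hx2, hy2, map_add]

lemma ptrace_of_isBaseChange {R' : Type*} [CommRing R'] [Algebra R R'] {M' : Type*}
    [AddCommGroup M'] [Module R M'] [Module R' M'] [IsScalarTower R R' M']
    [Module.Finite R' M'] [Module.Projective R' M'] (l : M →ₗ[R] M') (hl : IsBaseChange R' l)
    (φ : Module.End R M) (φ' : Module.End R' M') (h : ∀ m, φ' (l m) = l (φ m)) :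
    ptrace R' M' φ' = algebraMap R R' (ptrace R M φ) := by
  obtain ⟨x, rfl⟩ := (dualTensorHomEquiv R M M).surjective φ
  obtain ⟨y, hy1, hy2⟩ := exists_lift_tensor l hl x
  have : φ' = dualTensorHom R' M' M' y := by
    apply hl.algHom_ext
    intro m
    rw [h, hy1]
    rfl
  rw [this, ptrace_dualTensorHom, hy2]
  congr 1
  exact (ptrace_dualTensorHom x).symm

end alg

end Groth.Agent.H6.Tr
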