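import Mathlib
import Groth.Agent.Lib.Helper6.Tr1
import Groth.Agent.Lib.Helper6.QA1
import Groth.Agent.Lib.Lead.QC.LocFree3
import Groth.Agent.Lib.Lead.QC.HomAffine
import Groth.Prelude.Def_FinCov

set_option autoImplicit false
set_option linter.style.haveILetI false
open CategoryTheory AlgebraicGeometry CategoryTheory.Limits TopologicalSpace Opposite
open TensorProduct LinearMap Module

noncomputable section

namespace Groth.Agent.H6.Tr

universe u
open Groth.Agent.LD.QC Groth.Agent.H6.QA

variable {X : Scheme.{u}} (A : RelSpec.QCAlg X)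

/-- the algebra structure on the sections of a quasi-coherent algebra. -/
@[reducible] def secAlg (U : X.Opens) : Algebra Γ(X, U) (A.presheaf.obj (op U)) :=
  (A.str.app (op U)).hom.toAlgebra

variable {A}

lemma finite_sec (hA : FlatMod.IsFinLocFree A.toModule) (U : X.Opens) (hU : IsAffineOpen U) :
    Module.Finite Γ(X, U) Γ(A.toModule, U) := by
  have := ((isFinLocFree_iff_sections A.toModule).mp hA U hU).1
  infer_instance

lemma projective_sec (hA : FlatMod.IsFinLocFree A.toModule) (U : X.Opens) (hU : IsAffineOpen U) :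
    Module.Projective Γ(X, U) Γ(A.toModule, U) := by
  have h1 := ((isFinLocFree_iff_sections A.toModule).mp hA U hU).1
  have h2 := ((isFinLocFree_iff_sections A.toModule).mp hA U hU).2
  exact Module.Flat.projective_of_finitePresentation

variable (A) in
/-- multiplication by a section, as an endomorphism of the module of sections. -/
def mulL (U : X.Opens) : Γ(A.toModule, U) →ₗ[Γ(X, U)] Module.End Γ(X, U) Γ(A.toModule, U) where
  toFun s :=
    { toFun := fun t => ofRing A U (toRing A U s * toRing A U t)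
      map_add' := fun t t' => mul_add (toRing A U s) (toRing A U t) (toRing A U t')
      map_smul' := fun r t => mul_left_comm (toRing A U s) ((A.str.app (op U)).hom r) (toRing A U t) }
  map_add' := fun s s' => by
    ext t
    exact add_mul (toRing A U s) (toRing A U s') (toRing A U t)
  map_smul' := fun r s => by
    ext t
    exact mul_assoc ((A.str.app (op U)).hom r) (toRing A U s) (toRing A U t)

lemma mulL_apply (U : X.Opens) (s t : Γ(A.toModule, U)) :
    toRing A U (mulL A U s t) = toRing A U s * toRing A U t := rfl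

/-- the trace on an affine open. -/
def trU (hA : FlatMod.IsFinLocFree A.toModule) (U : X.affineOpens) :
    Γ(A.toModule, U.1) →ₗ[Γ(X, U.1)] Γ(X, U.1) :=
  haveI := finite_sec hA U.1 U.2
  haveI := projective_sec hA U.1 U.2
  (ptrace Γ(X, U.1) Γ(A.toModule, U.1)).comp (mulL A U.1)

lemma trU_basicOpen (hA : FlatMod.IsFinLocFree A.toModule) (U : X.affineOpens) (f : Γ(X, U.1))
    (s : Γ(A.toModule, U.1)) :
    X.presheaf.map (homOfLE (X.basicOpen_le f)).op (trU hA U s) =
      trU hA ⟨X.basicOpen f, U.2.basicOpen f⟩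
        (A.toModule.presheaf.map (homOfLE (X.basicOpen_le f)).op s) := by
  haveI := finite_sec hA U.1 U.2
  haveI := projective_sec hA U.1 U.2
  haveI := finite_sec hA _ (U.2.basicOpen f)
  haveI := projective_sec hA _ (U.2.basicOpen f)
  letI : Algebra Γ(X, U.1) Γ(X, X.basicOpen f) := resAlgebra (X.basicOpen_le f)
  letI : Module Γ(X, U.1) Γ(A.toModule, X.basicOpen f) := resModule A.toModule (X.basicOpen_le f)
  haveI : IsScalarTower Γ(X, U.1) Γ(X, X.basicOpen f) Γ(A.toModule, X.basicOpen f) :=
    resModule_isScalarTower A.toModule (X.basicOpen_le f)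
  haveI : IsLocalization.Away f Γ(X, X.basicOpen f) := U.2.isLocalization_basicOpen f
  haveI : IsLocalizedModule.Away f (resLinear A.toModule (X.basicOpen_le f)) :=
    isLocalizedModule_basicOpen A.toModule U.2 f
  have hbc : IsBaseChange Γ(X, X.basicOpen f) (resLinear A.toModule (X.basicOpen_le f)) :=
    IsLocalizedModule.isBaseChange (Submonoid.powers f) _ _
  have := ptrace_of_isBaseChange (resLinear A.toModule (X.basicOpen_le f)) hbc (mulL A U.1 s)
    (mulL A _ (A.toModule.presheaf.map (homOfLE (X.basicOpen_le f)).op s)) (fun m => ?_)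
  · exact this.symm
  · exact (map_mul (A.presheaf.map (homOfLE (X.basicOpen_le f)).op).hom (toRing A U.1 s)
      (toRing A U.1 m)).symm


lemma trU_basicOpen' (hA : FlatMod.IsFinLocFree A.toModule) (U W : X.affineOpens) (f : Γ(X, U.1))
    (hW : W.1 = X.basicOpen f) (hWU : W.1 ≤ U.1) (s : Γ(A.toModule, U.1)) :
    (unitMod X).presheaf.map (homOfLE hWU).op (trU hA U s) =
      trU hA W (A.toModule.presheaf.map (homOfLE hWU).op s) := by
  obtain ⟨W, hWa⟩ := W
  dsimp only at hW hWU ⊢
  subst hW
  exact trU_basicOpen hA U f s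

lemma trU_res (hA : FlatMod.IsFinLocFree A.toModule) (U V : X.affineOpens) (h : V.1 ≤ U.1)
    (s : Γ(A.toModule, U.1)) :
    (unitMod X).presheaf.map (homOfLE h).op (trU hA U s) =
      trU hA V (A.toModule.presheaf.map (homOfLE h).op s) := by
  apply section_ext_of_cover (unitMod X)
    (fun p : {p : Γ(X, U.1) × Γ(X, V.1) // X.basicOpen p.1 = X.basicOpen p.2} =>
      X.basicOpen p.1.2) (fun p => X.basicOpen_le _) ?_ _ _ ?_
  · intro x hx
    obtain ⟨f, g, hfg, hxf⟩ := exists_basicOpen_le_affine_inter U.2 V.2 x ⟨h hx, hx⟩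
    exact Opens.mem_iSup.mpr ⟨⟨(f, g), hfg⟩, hfg ▸ hxf⟩
  · rintro ⟨⟨f, g⟩, hfg⟩
    dsimp only at hfg ⊢
    rw [res_res (unitMod X)]
    rw [trU_basicOpen' hA U ⟨X.basicOpen g, V.2.basicOpen g⟩ f hfg.symm
      ((X.basicOpen_le g).trans h) s]
    rw [trU_basicOpen' hA V ⟨X.basicOpen g, V.2.basicOpen g⟩ g rfl (X.basicOpen_le g),
      res_res A.toModule]

variable (A) in
/-- the trace morphism of a finite locally free quasi-coherent algebra. -/
def trHom (hA : FlatMod.IsFinLocFree A.toModule) : A.toModule ⟶ Coh.structureModule X :=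
  homOfAffine A.toModule (unitMod X) (fun U => trU hA U) (fun U V h s => trU_res hA U V h s)

lemma trHom_app (hA : FlatMod.IsFinLocFree A.toModule) (U : X.affineOpens)
    (s : Γ(A.toModule, U.1)) : (trHom A hA).app U.1 s = trU hA U s :=
  homOfAffine_app _ _ _ _ U s


lemma isTrace_trHom (hA : FlatMod.IsFinLocFree A.toModule) : FinCov.IsTrace A (trHom A hA) := by
  intro U hU
  intro hfree hfin a
  letI := secAlg A U
  have h1 : (trHom A hA).app U a = trU hA ⟨U, hU⟩ a := trHom_app hA ⟨U, hU⟩ a
  refine h1.trans ?_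
  haveI : Module.Free Γ(X, U) Γ(A.toModule, U) := hfree
  haveI := finite_sec hA U hU
  haveI := projective_sec hA U hU
  change ptrace Γ(X, U) Γ(A.toModule, U) (mulL A U a) = _
  rw [ptrace_eq_trace, Algebra.trace_apply]
  rfl

lemma isTrace_unique (hA : FlatMod.IsFinLocFree A.toModule)
    (τ τ' : A.toModule ⟶ Coh.structureModule X) (h : FinCov.IsTrace A τ)
    (h' : FinCov.IsTrace A τ') : τ = τ' := by
  apply hom_ext_affine
  intro U s
  have hfp := ((isFinLocFree_iff_sections A.toModule).mp hA U.1 U.2).1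
  have key : ∀ x : U.1, ∃ r : Γ(X, U.1), x.1 ∈ X.basicOpen r ∧
      Module.Free Γ(X, X.basicOpen r) Γ(A.toModule, X.basicOpen r) := fun x =>
    exists_free_basicOpen A.toModule U.2 hfp x.1 x.2 (free_stalk_of_isFinLocFree _ hA x.1)
  choose r hxr hfree using key
  apply section_ext_of_cover (unitMod X) (fun x : U.1 => X.basicOpen (r x))
    (fun x => X.basicOpen_le _) (fun x hx => Opens.mem_iSup.mpr ⟨⟨x, hx⟩, hxr ⟨x, hx⟩⟩)
  intro x
  rw [← app_res, ← app_res]
  have hfin := finite_sec hA _ (U.2.basicOpen (r x))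
  exact (h _ (U.2.basicOpen (r x)) (hfree x) hfin _).trans
    (h' _ (U.2.basicOpen (r x)) (hfree x) hfin _).symm

theorem main (A : RelSpec.QCAlg X) (hA : FlatMod.IsFinLocFree A.toModule) :
    ∃! τ : A.toModule ⟶ Coh.structureModule X, FinCov.IsTrace A τ :=
  ⟨trHom A hA, isTrace_trHom hA, fun τ hτ => isTrace_unique hA τ _ hτ (isTrace_trHom hA)⟩

end Groth.Agent.H6.Tr
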