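import Mathlib
import Groth.Agent.Lib.Helper6.Tr2

set_option autoImplicit false
set_option linter.style.haveILetI false
open CategoryTheory AlgebraicGeometry CategoryTheory.Limits TopologicalSpace Opposite
open TensorProduct LinearMap Module

noncomputable section

namespace Groth.Agent.H6.Tr

universe u
open Groth.Agent.LD.QC Groth.Agent.H6.QA

variable {X : Scheme.{u}}

/-- a module locally free of rank `d` is free of rank `d` over small affine opens. -/
lemma exists_affine_equiv_of_rank (d : ℕ) (M : X.Modules) [M.IsQuasicoherent]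
    (h : FlatMod.IsFinLocFreeOfRank d M) (U₀ : X.Opens) (x : X) (hx : x ∈ U₀) :
    ∃ U : X.Opens, IsAffineOpen U ∧ x ∈ U ∧ U ≤ U₀ ∧
      Nonempty (Γ(M, U) ≃ₗ[Γ(X, U)] (Fin d → Γ(X, U))) := by
  obtain ⟨W, hxW, ⟨e⟩⟩ := h x
  obtain ⟨U, hU, hxU, hUW⟩ := exists_isAffineOpen_mem_and_subset (x := x) (U := W ⊓ U₀)
    ⟨hxW, hx⟩
  have hr : Set.range hU.fromSpec ⊆ Set.range W.ι := by
    rw [hU.range_fromSpec, Scheme.Opens.range_ι]; exact fun y hy => (hUW hy).1
  have h1 := freeMod_of_range_subset M W.ι hU.fromSpec hr d e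
  exact ⟨U, hU, hxU, fun y hy => (hUW hy).2, (restrict_fromSpec_iso_freeMod_iff M hU d).mp h1⟩

lemma isFinLocFree_of_rank (d : ℕ) (M : X.Modules) (h : FlatMod.IsFinLocFreeOfRank d M) :
    FlatMod.IsFinLocFree M := fun x => by
  obtain ⟨U, hx, e⟩ := h x
  exact ⟨U, d, hx, e⟩

theorem s19695 (A : RelSpec.QCAlg X) (d : ℕ)
    (hA : FlatMod.IsFinLocFreeOfRank d A.toModule)
    (τ : A.toModule ⟶ Coh.structureModule X) (hτ : FinCov.IsTrace A τ) :
    FinCov.strMod A ≫ τ = d • 𝟙 (Coh.structureModule X) := by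
  apply Scheme.Modules.hom_ext
  intro U
  ext s
  have key : ∀ x : U, ∃ W : X.Opens, IsAffineOpen W ∧ x.1 ∈ W ∧ W ≤ U ∧
      Nonempty (Γ(A.toModule, W) ≃ₗ[Γ(X, W)] (Fin d → Γ(X, W))) := fun x =>
    exists_affine_equiv_of_rank d A.toModule hA U x.1 x.2
  choose W hW hxW hWU e using key
  apply section_ext_of_cover (unitMod X) W hWU
    (fun x hx => Opens.mem_iSup.mpr ⟨⟨x, hx⟩, hxW ⟨x, hx⟩⟩)
  intro x
  rw [← app_res, ← app_res]
  generalize (unitMod X).presheaf.map (homOfLE (hWU x)).op s = t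
  obtain ⟨ℓ⟩ := e x
  letI := secAlg A (W x)
  let b : Basis (Fin d) Γ(X, W x) (A.presheaf.obj (op (W x))) := Basis.ofEquivFun ℓ
  have h1 := hτ (W x) (hW x) (Module.Free.of_basis b) (Module.Finite.of_basis b)
    ((A.str.app (op (W x))).hom t)
  have h2 := Algebra.trace_algebraMap_of_basis b t
  rw [Fintype.card_fin] at h2
  have h3 : ∀ n : ℕ, (Scheme.Modules.Hom.app (n • 𝟙 (Coh.structureModule X)) (W x)) t = n • t := by
    intro n
    induction n with
    | zero => rw [zero_nsmul, zero_nsmul]; rfl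
    | succ n ih =>
      rw [succ_nsmul, succ_nsmul, Scheme.Modules.Hom.add_app]
      exact congrArg (· + t) ih
  rw [h3]
  exact h1.trans h2

end Groth.Agent.H6.Tr
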