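import Mathlib
import Groth.Agent.Lib.Helper6.Tr3
import Groth.Agent.Lib.Lead.QC.LocFree3
import Groth.Prelude.Def_FinCov

set_option autoImplicit false
set_option linter.style.haveILetI false
open CategoryTheory AlgebraicGeometry CategoryTheory.Limits TopologicalSpace Opposite

noncomputable section

namespace Groth.Agent.H6.Cov

universe u
open Groth.Agent.LD.QC Groth.Agent.H6.Tr

variable {X Y : Scheme.{u}}

/-- the chart square of an affine morphism over an affine open is a pullback. -/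
theorem isPullback_affine (f : X ⟶ Y) [IsAffineHom f] (V : Y.Opens) (hV : IsAffineOpen V) :
    IsPullback (hV.preimage f).fromSpec (Spec.map (f.app V)) f hV.fromSpec :=
  (IsOpenImmersion.isPullback (Spec.map (f.app V)) (hV.preimage f).fromSpec hV.fromSpec f
    (by rw [Scheme.Hom.app_eq_appLE]; exact (IsAffineOpen.SpecMap_appLE_fromSpec f hV _ _).symm)
    (by rw [hV.opensRange_fromSpec, (hV.preimage f).opensRange_fromSpec])).flip

/-- the rank of a finite flat morphism at a point of an affine open over which the direct image of the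
structure sheaf is free of rank `n`. -/
theorem finrank_eq_of_equiv (f : X ⟶ Y) [IsFinite f] [Flat f] (V : Y.Opens) (hV : IsAffineOpen V)
    (y : Y) (hy : y ∈ V) (n : ℕ)
    (ℓ : Γ((Scheme.Modules.pushforward f).obj (SheafOfModules.unit X.ringCatSheaf), V)
      ≃ₗ[Γ(Y, V)] (Fin n → Γ(Y, V))) : f.finrank y = n := by
  obtain ⟨z, hz⟩ : y ∈ Set.range hV.fromSpec.base := by rw [hV.range_fromSpec]; exact hy
  have hpb := isPullback_affine f V hV
  have h1 := Scheme.Hom.finrank_of_isPullback _ _ _ _ hpb z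
  have hfin : (f.app V).hom.Finite := f.finite_app V hV
  have hflat : (f.app V).hom.Flat := by
    have := HasRingHomProperty.appLE (P := @Flat) f inferInstance ⟨V, hV⟩
      ⟨f ⁻¹ᵁ V, hV.preimage f⟩ le_rfl
    rwa [← Scheme.Hom.app_eq_appLE] at this
  rw [← hz, ← h1, Scheme.Hom.finrank_SpecMap_eq_finrank hfin hflat]
  letI := (f.app V).hom.toAlgebra
  change Module.rankAtStalk Γ(X, f ⁻¹ᵁ V) z = n
  haveI : Nontrivial Γ(Y, V) := z.nontrivial
  rw [Module.rankAtStalk_eq_of_equiv ((pushUnitEquiv f V).symm ≪≫ₗ ℓ)]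
  haveI : Module.Free Γ(Y, V) (Fin n → Γ(Y, V)) := inferInstance
  rw [Module.rankAtStalk_eq_finrank_of_free]
  simp only [Module.finrank_fin_fun]
  rfl


theorem s19692 (f : X ⟶ Y) (d : ℕ) :
    FinCov.IsCover f d ↔
      IsAffineHom f ∧ FlatMod.IsFinLocFreeOfRank d
        ((Scheme.Modules.pushforward f).obj (Coh.structureModule X)) := by
  constructor
  · rintro ⟨⟨hfin, hflat, hfp⟩, hrank⟩
    obtain ⟨haff, hlf⟩ := (affine_finLocFree_pushforward_iff f).mpr ⟨hfin, hflat, hfp⟩
    refine ⟨haff, ?_⟩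
    haveI := qc_of_isFinLocFree _ hlf
    intro y
    obtain ⟨V, n, hV, hyV, ⟨ℓ⟩⟩ := (isFinLocFree_iff _).mp hlf y
    have hn : n = d := by rw [← finrank_eq_of_equiv f V hV y hyV n ℓ, hrank y]
    subst hn
    obtain ⟨e⟩ := (restrict_fromSpec_iso_freeMod_iff _ hV n).mpr ⟨ℓ⟩
    exact ⟨V, hyV, freeMod_of_range_subset _ hV.fromSpec V.ι (range_ι_subset_range_fromSpec hV) n e⟩
  · rintro ⟨haff, hrk⟩
    have hlf := isFinLocFree_of_rank d _ hrk
    obtain ⟨hfin, hflat, hfp⟩ := (affine_finLocFree_pushforward_iff f).mp ⟨haff, hlf⟩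
    refine ⟨⟨hfin, hflat, hfp⟩, fun y => ?_⟩
    haveI := qc_of_isFinLocFree _ hlf
    obtain ⟨V, hV, hyV, -, ⟨ℓ⟩⟩ := exists_affine_equiv_of_rank d _ hrk ⊤ y trivial
    exact finrank_eq_of_equiv f V hV y hyV d ℓ

end Groth.Agent.H6.Cov
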