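import Mathlib
import Groth.Agent.Lib.Helper1.EtNhd2
set_option autoImplicit false
universe u
open CategoryTheory AlgebraicGeometry

namespace Groth.Agent.H6.GenEt

theorem flat_of_field (K : Type u) [Field K] (S : Type u) [CommRing S] (φ : K →+* S) :
    φ.Flat := by
  rw [RingHom.Flat]
  letI := φ.toAlgebra
  infer_instance

theorem flat_of_eq_genericPoint (Y : Scheme.{u}) [IsIntegral Y] (y : Y) (hy : y = genericPoint Y)
    (S : Type u) [CommRing S] (φ : Y.presheaf.stalk y →+* S) : φ.Flat := by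
  subst hy
  exact flat_of_field Y.functionField S φ

theorem isIso_stalkSpecializes_of_eq (Y : Scheme.{u}) (y y' : Y) (hy : y = y') :
    IsIso (Y.presheaf.stalkSpecializes (specializes_of_eq hy)) := by
  subst hy
  have : Y.presheaf.stalkSpecializes (specializes_of_eq (rfl : y = y)) = 𝟙 _ :=
    TopCat.Presheaf.stalkSpecializes_refl _ _
  rw [this]
  infer_instance

theorem sep_iff (K L : Type u) [Field K] [Field L] (φ : K →+* L) (h : φ.EssFiniteType) :
    (letI := φ.toAlgebra; Algebra.IsSeparable K L) ↔ φ.FormallyUnramified := by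
  letI := φ.toAlgebra
  haveI : Algebra.EssFiniteType K L := h
  exact (Algebra.FormallyUnramified.iff_isSeparable K L).symm

theorem s7863 (k : Type u) [Field k]
    (X Y : Scheme.{u}) [X.Over (Spec (CommRingCat.of k))] [Y.Over (Spec (CommRingCat.of k))]
    [IsIntegral X] [LocallyOfFiniteType (X ↘ (Spec (CommRingCat.of k)))]
    [IsIntegral Y] [LocallyOfFiniteType (Y ↘ (Spec (CommRingCat.of k)))]
    (f : X ⟶ Y) (hf : f ≫ (Y ↘ (Spec (CommRingCat.of k))) = X ↘ (Spec (CommRingCat.of k))) (e : f (genericPoint X) = genericPoint Y) :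
    letI := ((Y.presheaf.stalkSpecializes (specializes_of_eq e) ≫ f.stalkMap (genericPoint X)).hom).toAlgebra
    ((∃ U : X.Opens, (U : Set X).Nonempty ∧ FormallyUnramified (U.ι ≫ f)) ↔
      (∃ U : X.Opens, (U : Set X).Nonempty ∧ Etale (U.ι ≫ f))) ∧
    ((∃ U : X.Opens, (U : Set X).Nonempty ∧ Etale (U.ι ≫ f)) ↔
      Algebra.IsSeparable Y.functionField X.functionField) := by
  haveI : LocallyOfFiniteType (f ≫ (Y ↘ (Spec (CommRingCat.of k)))) := by rw [hf]; infer_instance
  haveI : LocallyOfFiniteType f := locallyOfFiniteType_of_comp f (Y ↘ (Spec (CommRingCat.of k)))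
  haveI : IsLocallyNoetherian Y :=
    LocallyOfFiniteType.isLocallyNoetherian (Y ↘ (Spec (CommRingCat.of k)))
  haveI : LocallyOfFinitePresentation f := Groth.Agent.H1.EtNhd.lfp_of_lft_of_noetherian f
  -- the generic point lies in every nonempty open
  have hmem : ∀ U : X.Opens, (U : Set X).Nonempty → genericPoint X ∈ U := by
    intro U hU
    have := ((genericPoint_spec X).mem_open_set_iff U.2).mpr (by simpa using hU)
    exact this
  have hflat : (f.stalkMap (genericPoint X)).hom.Flat :=
    flat_of_eq_genericPoint Y _ e _ _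
  haveI hiso : IsIso (Y.presheaf.stalkSpecializes (specializes_of_eq e)) :=
    isIso_stalkSpecializes_of_eq Y _ _ e
  -- (i) ⇔ stalk FU
  have h1 : (∃ U : X.Opens, (U : Set X).Nonempty ∧ Etale (U.ι ≫ f)) ↔
      (f.stalkMap (genericPoint X)).hom.FormallyUnramified := by
    constructor
    · rintro ⟨U, hU, hE⟩
      exact (Groth.Agent.H1.EtNhd.stalk_of_etale_nhd f _ ⟨U, hmem U hU, hE⟩).2
    · intro h
      obtain ⟨U, hxU, hE⟩ := Groth.Agent.H1.EtNhd.exists_etale_nhd f _ hflat h
      exact ⟨U, ⟨_, hxU⟩, hE⟩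
  have h2 : (∃ U : X.Opens, (U : Set X).Nonempty ∧ FormallyUnramified (U.ι ≫ f)) ↔
      (f.stalkMap (genericPoint X)).hom.FormallyUnramified := by
    constructor
    · rintro ⟨U, hU, hE⟩
      exact Groth.Agent.H1.EtNhd.stalk_of_unramified_nhd f _ ⟨U, hmem U hU, hE⟩
    · intro h
      obtain ⟨U, hxU, hE⟩ := Groth.Agent.H1.EtNhd.exists_unramified_nhd f _ h
      exact ⟨U, ⟨_, hxU⟩, hE⟩
  refine ⟨h2.trans h1.symm, h1.trans ?_⟩
  have hess : ((Y.presheaf.stalkSpecializes (specializes_of_eq e) ≫
      f.stalkMap (genericPoint X)).hom).EssFiniteType := by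
    rw [CommRingCat.hom_comp]
    exact (RingHom.EssFiniteType.respectsIso.cancel_left_isIso _ _).mpr
      (LocallyOfFiniteType.stalkMap f _)
  refine Iff.trans ?_ (sep_iff Y.functionField X.functionField _ hess).symm
  rw [CommRingCat.hom_comp]
  exact (RingHom.FormallyUnramified.respectsIso.cancel_left_isIso _ _).symm

end Groth.Agent.H6.GenEt
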