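import Mathlib
import Groth.Agent.Lib.Helper1.ClosureDim
import Groth.Agent.Lib.Helper1.FibDimTot
import Groth.Agent.Lib.Helper1.CycPush
import Groth.Agent.Lib.Helper1.EtNhd
import Groth.Agent.Lib.Helper5.FibDim.Spec
import Groth.Agent.Lib.Helper5.GF.GF4
import Groth.Agent.Lib.Helper5.Gro.HypDom
import Groth.Agent.Lib.Helper3.GenFlatSch
import Groth.Agent.Lib.Helper2.HomSh5
import Groth.Agent.Lib.Helper2.IsoLocus
import Groth.Agent.Lib.Helper6.GenEt

set_option autoImplicit false
set_option linter.style.haveILetI false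
universe u
open CategoryTheory CategoryTheory.Limits AlgebraicGeometry TopologicalSpace

namespace Groth.Agent.H6.GenFin

open Groth.Agent.H1.DimFormula

/-! ### dimension theory: the generic fibre -/

theorem dim_closure_genericPoint (X : Scheme.{u}) [IrreducibleSpace X] :
    topologicalKrullDim ↥(closure ({genericPoint X} : Set X)) = topologicalKrullDim X := by
  have h : closure ({genericPoint X} : Set X) = Set.univ := (genericPoint_spec X).def
  rw [h]
  exact IsHomeomorph.topologicalKrullDim_eq _ (Homeomorph.Set.univ X).isHomeomorph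

theorem map_genericPoint_of_isDominant {X Y : Scheme.{u}} [IrreducibleSpace X] [IrreducibleSpace Y]
    (f : X ⟶ Y) [IsDominant f] : f (genericPoint X) = genericPoint Y := by
  apply ((genericPoint_spec Y).eq _).symm
  have h := (genericPoint_spec X).image f.continuous
  have h2 : closure (f '' (Set.univ : Set X)) = (Set.univ : Set Y) := by
    rw [Set.image_univ]
    exact f.denseRange.closure_range
  rw [h2] at h
  exact h

section P1

variable {k : Type u} [Field k] {X Y : Scheme.{u}}

theorem trdeg_generic_eq_zero (qX : X ⟶ Spec (CommRingCat.of k)) (qY : Y ⟶ Spec (CommRingCat.of k))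
    [LocallyOfFiniteType qX] [LocallyOfFiniteType qY] [IsIntegral X] [IsIntegral Y]
    (f : X ⟶ Y) (hf : f ≫ qY = qX) (hgen : f (genericPoint X) = genericPoint Y)
    (hdim : topologicalKrullDim X = topologicalKrullDim Y) :
    @Algebra.trdeg (Y.residueField (f (genericPoint X))) (X.residueField (genericPoint X)) _ _
      (f.residueFieldMap (genericPoint X)).hom.toAlgebra = 0 := by
  subst hf
  obtain ⟨tX, htX, hdX⟩ :=
    Groth.Agent.H1.ClosureDim.exists_trdeg_eq_dim_closure (f ≫ qY) (genericPoint X)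
  obtain ⟨tY, htY, hdY⟩ :=
    Groth.Agent.H1.ClosureDim.exists_trdeg_eq_dim_closure qY (f (genericPoint X))
  rw [dim_closure_genericPoint] at hdX
  rw [hgen, dim_closure_genericPoint] at hdY
  have ht : tX = tY := by
    have : (tX : WithBot ℕ∞) = tY := by rw [← hdX, ← hdY, hdim]
    exact_mod_cast this
  have hadd := Groth.Agent.H1.FibDimTot.trdeg_residueField_add qY f (genericPoint X)
  rw [htY, htX, ht] at hadd
  exact Cardinal.eq_of_add_eq_add_left (by rw [hadd, add_zero]) (Cardinal.natCast_lt_aleph0)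

theorem fibre_generic_eq (qX : X ⟶ Spec (CommRingCat.of k)) (qY : Y ⟶ Spec (CommRingCat.of k))
    [LocallyOfFiniteType qX] [LocallyOfFiniteType qY] [IsIntegral X] [IsIntegral Y]
    (f : X ⟶ Y) (hf : f ≫ qY = qX) (hgen : f (genericPoint X) = genericPoint Y)
    (hdim : topologicalKrullDim X = topologicalKrullDim Y) (x : X) (hx : f x = genericPoint Y) :
    x = genericPoint X := by
  by_contra hne
  haveI : LocallyOfFiniteType (f ≫ qY) := by rw [hf]; infer_instance
  haveI : LocallyOfFiniteType f := locallyOfFiniteType_of_comp f qY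
  have hsp : genericPoint X ⤳ x := genericPoint_specializes x
  have h1 := H5FibDim.main9381 f (genericPoint X) x hsp (fun h => hne h.symm) (by rw [hgen, hx])
  have h0 := trdeg_generic_eq_zero qX qY f hf hgen hdim
  exact absurd (lt_of_lt_of_eq h1 h0) (not_lt.mpr zero_le)

theorem finite_residueField_generic (qX : X ⟶ Spec (CommRingCat.of k))
    (qY : Y ⟶ Spec (CommRingCat.of k))
    [LocallyOfFiniteType qX] [LocallyOfFiniteType qY] [IsIntegral X] [IsIntegral Y]
    (f : X ⟶ Y) (hf : f ≫ qY = qX) (hgen : f (genericPoint X) = genericPoint Y)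
    (hdim : topologicalKrullDim X = topologicalKrullDim Y) :
    letI := (f.residueFieldMap (genericPoint X)).hom.toAlgebra
    Module.Finite (Y.residueField (f (genericPoint X))) (X.residueField (genericPoint X)) := by
  haveI : LocallyOfFiniteType (f ≫ qY) := by rw [hf]; infer_instance
  haveI : LocallyOfFiniteType f := locallyOfFiniteType_of_comp f qY
  letI := (f.residueFieldMap (genericPoint X)).hom.toAlgebra
  have h0 := trdeg_generic_eq_zero qX qY f hf hgen hdim
  haveI : Algebra.IsAlgebraic (Y.residueField (f (genericPoint X)))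
      (X.residueField (genericPoint X)) := trdeg_eq_zero_iff.mp h0
  haveI : Algebra.EssFiniteType (Y.residueField (f (genericPoint X)))
      (X.residueField (genericPoint X)) := by
    have h1 : (f.stalkMap (genericPoint X)).hom.EssFiniteType :=
      LocallyOfFiniteType.stalkMap f (genericPoint X)
    exact RingHom.EssFiniteType.residueFieldMap h1
  exact Algebra.finite_of_essFiniteType_of_isAlgebraic

end P1

/-! ### generic flatness in stalk form -/

theorem stalkMap_flat_of_isFlatOverAt {X Y : Scheme.{u}} (f : X ⟶ Y) (x : X)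
    (h : FlatMod.IsFlatOverAt f (Coh.structureModule X) x) : (f.stalkMap x).hom.Flat := by
  obtain ⟨u, -⟩ : ∃ u : X.presheaf.stalk x ≃ₗ[X.presheaf.stalk x]
      (Coh.structureModule X).presheaf.stalk x, True :=
    ⟨Groth.Agent.H2.HomSh.unitStalkEquiv x, trivial⟩
  letI a1 : Algebra (Y.presheaf.stalk (f.base x)) (X.presheaf.stalk x) :=
    (f.stalkMap x).hom.toAlgebra
  letI m1 : Module (Y.presheaf.stalk (f.base x)) ((Coh.structureModule X).presheaf.stalk x) :=
    FlatMod.moduleStalkOver f (Coh.structureModule X) x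
  haveI : Module.Flat (Y.presheaf.stalk (f.base x)) ((Coh.structureModule X).presheaf.stalk x) := h
  let e : X.presheaf.stalk x ≃ₗ[Y.presheaf.stalk (f.base x)]
      (Coh.structureModule X).presheaf.stalk x :=
    { toFun := u
      invFun := u.symm
      map_add' := u.map_add
      map_smul' := fun a b => by
        show u ((f.stalkMap x).hom a * b) = (f.stalkMap x).hom a • u b
        rw [← smul_eq_mul, u.map_smul]
      left_inv := u.left_inv
      right_inv := u.right_inv }
  show Module.Flat (Y.presheaf.stalk (f.base x)) (X.presheaf.stalk x)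
  exact Module.Flat.of_linearEquiv e

theorem exists_open_flat_stalk {X Y : Scheme.{u}} (f : X ⟶ Y) [IsIntegral Y]
    [LocallyOfFiniteType f] [QuasiCompact f] :
    ∃ U : Y.Opens, (U : Set Y).Nonempty ∧ ∀ x : X, f x ∈ U → (f.stalkMap x).hom.Flat := by
  obtain ⟨U, hU, h⟩ := Groth.Agent.H3.GenFlatSch.generic_flat f (Coh.structureModule X)
    (Groth.Agent.H2.IsoLocus.isFiniteType_structureModule X)
  exact ⟨U, hU, fun x hx => stalkMap_flat_of_isFlatOverAt f x (h x hx)⟩

/-! ### squares of open immersions -/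

section Square

variable {X Y X'' Y'' : Scheme.{u}} (f : X ⟶ Y) (i : X'' ⟶ X) (j : Y'' ⟶ Y) (f'' : X'' ⟶ Y'')

theorem stalkMap_flat_of_square [IsOpenImmersion i] [IsOpenImmersion j] (h : i ≫ f = f'' ≫ j)
    (x : X'') (hx : (f.stalkMap (i x)).hom.Flat) : (f''.stalkMap x).hom.Flat := by
  have h1 : ((i ≫ f).stalkMap x).hom.Flat := by
    have := (RingHom.Flat.respectsIso.cancel_right_isIso (f.stalkMap (i x)) (i.stalkMap x)).mpr hx
    rw [← CommRingCat.hom_comp, ← Scheme.Hom.stalkMap_comp] at this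
    exact this
  have h2 : ((f'' ≫ j).stalkMap x).hom.Flat := by
    have : ∀ g : X'' ⟶ Y, g = f'' ≫ j → (g.stalkMap x).hom.Flat →
        ((f'' ≫ j).stalkMap x).hom.Flat := by
      rintro _ rfl h; exact h
    exact this _ h h1
  refine (RingHom.Flat.respectsIso.cancel_left_isIso (j.stalkMap (f'' x)) (f''.stalkMap x)).mp ?_
  rw [← CommRingCat.hom_comp, ← Scheme.Hom.stalkMap_comp]
  exact h2

theorem flat_of_square [IsOpenImmersion i] [IsOpenImmersion j] (h : i ≫ f = f'' ≫ j)
    (hfl : ∀ x : X'', (f.stalkMap (i x)).hom.Flat) : Flat f'' := by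
  rw [Flat.iff_flat_stalkMap]
  exact fun x => stalkMap_flat_of_square f i j f'' h x (hfl x)

theorem residueDegree_isOpenImmersion {X Y : Scheme.{u}} (j : X ⟶ Y) [IsOpenImmersion j] (x : X) :
    j.residueDegree x = 1 := by
  unfold Scheme.Hom.residueDegree
  letI := (j.residueFieldMap x).hom.toAlgebra
  have hb : Function.Bijective (algebraMap (Y.residueField (j x)) (X.residueField x)) :=
    ConcreteCategory.bijective_of_isIso (j.residueFieldMap x)
  exact ((AlgEquiv.ofBijective (Algebra.ofId _ _) hb).toLinearEquiv.finrank_eq).symm.trans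
    (Module.finrank_self _)

theorem residueDegree_square [IsOpenImmersion i] [IsOpenImmersion j] (h : i ≫ f = f'' ≫ j)
    (x : X'') : f''.residueDegree x = f.residueDegree (i x) := by
  have h1 := Groth.Agent.H1.CycPush.residueDegree_comp i f x
  have h2 := Groth.Agent.H1.CycPush.residueDegree_comp f'' j x
  rw [residueDegree_isOpenImmersion i x, mul_one] at h1
  rw [residueDegree_isOpenImmersion j (f'' x), one_mul] at h2
  calc f''.residueDegree x = (f'' ≫ j).residueDegree x := h2.symm
    _ = (i ≫ f).residueDegree x := by rw [h]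
    _ = _ := h1

end Square

theorem isFinite_restrict_of_le {X Y : Scheme.{u}} (f : X ⟶ Y) {U V : Y.Opens} (hUV : U ≤ V)
    [IsFinite (f ∣_ V)] : IsFinite (f ∣_ U) := by
  have hle : f ⁻¹ᵁ U ≤ f ⁻¹ᵁ V := fun x hx => hUV hx
  have sq : IsPullback (X.homOfLE hle) (f ∣_ U) (f ∣_ V) (Y.homOfLE hUV) := by
    refine IsPullback.of_right ?_ ?_ (isPullback_morphismRestrict f V).flip
    · rw [Scheme.homOfLE_ι, Scheme.homOfLE_ι]
      exact (isPullback_morphismRestrict f U).flip
    · rw [← cancel_mono V.ι]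
      simp only [Category.assoc, morphismRestrict_ι, Scheme.homOfLE_ι, Scheme.homOfLE_ι_assoc]
  exact MorphismProperty.of_isPullback (P := @IsFinite) sq inferInstance

/-! ### rank of a finite scheme over a field -/

theorem finrank_specMap_field (K : Type u) [Field K] (R : CommRingCat.{u})
    (ψ : CommRingCat.of K ⟶ R) [IsFinite (Spec.map ψ)] (pt : Spec (CommRingCat.of K)) :
    (Spec.map ψ).finrank pt = (letI := ψ.hom.toAlgebra; Module.finrank K R) := by
  have hfin : ψ.hom.Finite := (IsFinite.SpecMap_iff ψ).mp inferInstance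
  have hflat : ψ.hom.Flat := Groth.Agent.H6.GenEt.flat_of_field K R ψ.hom
  rw [Scheme.Hom.finrank_SpecMap_eq_finrank hfin hflat]
  letI := ψ.hom.toAlgebra
  show Module.rankAtStalk (R := K) R pt = Module.finrank K R
  rw [Module.rankAtStalk_eq_finrank_of_free]
  rfl

theorem finrank_over_field (K : Type u) [Field K] {P : Scheme.{u}}
    (p : P ⟶ Spec (CommRingCat.of K)) [IsFinite p] (pt : Spec (CommRingCat.of K)) :
    p.finrank pt = (letI := ((Scheme.ΓSpecIso (CommRingCat.of K)).inv ≫ p.appTop).hom.toAlgebra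
      Module.finrank K Γ(P, ⊤)) := by
  haveI : IsAffine P := isAffine_of_isAffineHom p
  obtain ⟨ψ, hψ⟩ : ∃ ψ : CommRingCat.of K ⟶ Γ(P, ⊤),
      ψ = (Scheme.ΓSpecIso (CommRingCat.of K)).inv ≫ p.appTop := ⟨_, rfl⟩
  have hp : p = P.isoSpec.hom ≫ Spec.map ψ := by
    rw [hψ, Spec.map_comp, ← Category.assoc, Scheme.isoSpec_hom_naturality, Category.assoc,
      Scheme.isoSpec_Spec_hom, ← Spec.map_comp, Iso.inv_hom_id, Spec.map_id, Category.comp_id]
  haveI : IsFinite (P.isoSpec.hom ≫ Spec.map ψ) := hp ▸ ‹IsFinite p›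
  haveI : IsFinite (Spec.map ψ) :=
    (MorphismProperty.cancel_left_of_respectsIso @IsFinite P.isoSpec.hom (Spec.map ψ)).mp
      inferInstance
  haveI : Flat (Spec.map ψ) :=
    Flat.SpecMap_iff.mpr (Groth.Agent.H6.GenEt.flat_of_field K _ ψ.hom)
  rw [← hψ, ← finrank_specMap_field K _ ψ pt]
  conv_lhs => rw [hp]
  rw [Scheme.Hom.finrank_comp_left_of_isIso]

/-! ### the rank of a fibre -/

theorem fibre_rank {X Y X'' Y'' : Scheme.{u}} (f : X ⟶ Y) (i : X'' ⟶ X) (j : Y'' ⟶ Y)
    (f'' : X'' ⟶ Y'') [IsOpenImmersion j] (hpb : IsPullback i f'' f j) [IsFinite f''] [Flat f'']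
    (y : Y) (y'' : Y'') (hy : j y'' = y) :
    IsFinite (pullback.snd f (Y.fromSpecResidueField y)) ∧
    (letI := ((Scheme.ΓSpecIso (CommRingCat.of (Y.residueField y))).inv ≫
        (pullback.snd f (Y.fromSpecResidueField y)).appTop).hom.toAlgebra;
      Module.finrank (Y.residueField y) Γ(pullback f (Y.fromSpecResidueField y), ⊤)) =
        f''.finrank y'' := by
  subst hy
  have hrange : Set.range (Y.fromSpecResidueField (j y'')) ⊆ Set.range j := by
    rw [Scheme.range_fromSpecResidueField]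
    rintro _ rfl
    exact ⟨y'', rfl⟩
  obtain ⟨g', hg'⟩ : ∃ g' : Spec (CommRingCat.of (Y.residueField (j y''))) ⟶ Y'',
      g' ≫ j = Y.fromSpecResidueField (j y'') :=
    ⟨IsOpenImmersion.lift j _ hrange, IsOpenImmersion.lift_fac j _ hrange⟩
  obtain ⟨p1, hp1i, hp1f⟩ : ∃ p1 : pullback f (Y.fromSpecResidueField (j y'')) ⟶ X'',
      p1 ≫ i = pullback.fst f (Y.fromSpecResidueField (j y'')) ∧
      p1 ≫ f'' = pullback.snd f (Y.fromSpecResidueField (j y'')) ≫ g' :=
    ⟨hpb.lift (pullback.fst f _) (pullback.snd f _ ≫ g')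
      (by rw [Category.assoc, hg', pullback.condition]), hpb.lift_fst _ _ _, hpb.lift_snd _ _ _⟩
  have sq : IsPullback p1 (pullback.snd f (Y.fromSpecResidueField (j y''))) f'' g' := by
    refine IsPullback.of_right ?_ hp1f hpb
    rw [hp1i, hg']
    exact IsPullback.of_hasPullback f _
  haveI hfin : IsFinite (pullback.snd f (Y.fromSpecResidueField (j y''))) :=
    MorphismProperty.of_isPullback (P := @IsFinite) sq inferInstance
  refine ⟨hfin, ?_⟩
  obtain ⟨pt, hpt⟩ : ∃ pt, (Y.fromSpecResidueField (j y'')) pt = j y'' := by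
    have : j y'' ∈ Set.range (Y.fromSpecResidueField (j y'')) := by
      rw [Scheme.range_fromSpecResidueField]; rfl
    exact this
  refine (finrank_over_field (Y.residueField (j y''))
    (pullback.snd f (Y.fromSpecResidueField (j y''))) pt).symm.trans ?_
  rw [Scheme.Hom.finrank_of_isPullback p1 _ f'' g' sq pt]
  congr 1
  apply j.isOpenEmbedding.injective
  rw [← Scheme.Hom.comp_apply, hg', hpt]

/-! ### the rank of a finite flat dominant morphism of integral schemes -/

theorem finrank_eq_residueDegree' {X Y : Scheme.{u}} [IsIntegral X] [IsIntegral Y] (f : X ⟶ Y)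
    [IsFinite f] [Flat f] (hgen : f (genericPoint X) = genericPoint Y) (y : Y) :
    f.finrank y = f.residueDegree (genericPoint X) := by
  obtain ⟨V, hV, hy⟩ : ∃ V : Y.Opens, IsAffineOpen V ∧ y ∈ V := by
    obtain ⟨_, ⟨V, hV, rfl⟩, hz, -⟩ :=
      Y.isBasis_affineOpens.exists_subset_of_mem_open (Set.mem_univ y) isOpen_univ
    exact ⟨V, hV, hz⟩
  obtain ⟨z, hz⟩ : y ∈ Set.range hV.fromSpec.base := by rw [hV.range_fromSpec]; exact hy
  have hpb := Groth.Agent.H6.Cov.isPullback_affine f V hV
  have h1 := Scheme.Hom.finrank_of_isPullback _ _ _ _ hpb z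
  have hfin : (f.app V).hom.Finite := f.finite_app V hV
  have hflat : (f.app V).hom.Flat := by
    have := HasRingHomProperty.appLE (P := @Flat) f inferInstance ⟨V, hV⟩
      ⟨f ⁻¹ᵁ V, hV.preimage f⟩ le_rfl
    rwa [← Scheme.Hom.app_eq_appLE] at this
  have hηV : f (genericPoint X) ∈ V := by
    rw [hgen]
    exact ((genericPoint_spec Y).mem_open_set_iff V.isOpen).mpr ⟨y, trivial, hy⟩
  rw [← hz, ← h1, Scheme.Hom.finrank_SpecMap_eq_finrank hfin hflat,
    ← Groth.Agent.H5.Gro.HypDom.finrank_app_eq_residueDegree f hgen V hV hηV]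
  letI : Algebra Γ(Y, V) Γ(X, f ⁻¹ᵁ V) := (f.app V).hom.toAlgebra
  change Module.rankAtStalk Γ(X, f ⁻¹ᵁ V) z = _
  haveI : Nonempty V := ⟨⟨y, hy⟩⟩
  haveI : IsDomain Γ(Y, V) := inferInstance
  haveI : Module.Finite Γ(Y, V) Γ(X, f ⁻¹ᵁ V) := hfin
  haveI : Module.Flat Γ(Y, V) Γ(X, f ⁻¹ᵁ V) := hflat
  rw [Module.rankAtStalk_eq, Ideal.finrank_fiber_eq_finrank]

/-! ### the main theorem -/

theorem s14041 (k : Type u) [Field k] {X Y : Scheme.{u}}
    (qX : X ⟶ Spec (CommRingCat.of k)) (qY : Y ⟶ Spec (CommRingCat.of k))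
    [LocallyOfFiniteType qX] [QuasiCompact qX] [LocallyOfFiniteType qY]
    [IsIntegral X] [IsIntegral Y] (f : X ⟶ Y) [IsDominant f] (hf : f ≫ qY = qX)
    (hdim : topologicalKrullDim ↥X = topologicalKrullDim ↥Y) :
    (letI := (f.residueFieldMap (genericPoint ↥X)).hom.toAlgebra;
      Module.Finite (Y.residueField (f.base (genericPoint ↥X))) (X.residueField (genericPoint ↥X))) ∧
    ∃ U : Y.Opens, Nonempty ↥U ∧ ∀ y : Y, y ∈ U →
      IsFinite (pullback.snd f (Y.fromSpecResidueField y)) ∧
        (letI := ((Scheme.ΓSpecIso (CommRingCat.of (Y.residueField y))).inv ≫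
            (pullback.snd f (Y.fromSpecResidueField y)).appTop).hom.toAlgebra;
          Module.finrank (Y.residueField y) ↑(Γ(pullback f (Y.fromSpecResidueField y), ⊤))) =
        (letI := (f.residueFieldMap (genericPoint ↥X)).hom.toAlgebra;
          Module.finrank (Y.residueField (f.base (genericPoint ↥X)))
            (X.residueField (genericPoint ↥X))) := by
  have hgen : f (genericPoint X) = genericPoint Y := map_genericPoint_of_isDominant f
  haveI : LocallyOfFiniteType (f ≫ qY) := by rw [hf]; infer_instance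
  haveI hlft : LocallyOfFiniteType f := locallyOfFiniteType_of_comp f qY
  haveI : IsLocallyNoetherian X := LocallyOfFiniteType.isLocallyNoetherian qX
  haveI : CompactSpace X := QuasiCompact.compactSpace_of_compactSpace qX
  haveI : IsNoetherian X := {}
  haveI : QuasiCompact f := inferInstance
  refine ⟨finite_residueField_generic qX qY f hf hgen hdim, ?_⟩
  obtain ⟨V₁, hV₁, hηV₁, hfinV₁⟩ := Groth.Agent.H5.GF.exists_isFinite_of_fiber_generic f
    (by rw [irreducibleComponents_eq_singleton]; exact Set.finite_singleton _)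
    (genericPoint Y)
    (by
      rw [irreducibleComponents_eq_singleton, Set.mem_singleton_iff]
      exact (genericPoint_spec Y).def)
    (fun x hx => by
      rw [fibre_generic_eq qX qY f hf hgen hdim x hx, irreducibleComponents_eq_singleton,
        Set.mem_singleton_iff]
      exact (genericPoint_spec X).def)
  obtain ⟨U₀, hU₀, hflat⟩ := exists_open_flat_stalk f
  have hηU₀ : genericPoint Y ∈ U₀ :=
    ((genericPoint_spec Y).mem_open_set_iff U₀.2).mpr (by simpa using hU₀)
  obtain ⟨U, hU⟩ : ∃ U : Y.Opens, U = V₁ ⊓ U₀ := ⟨_, rfl⟩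
  have hηU : genericPoint Y ∈ U := by rw [hU]; exact ⟨hηV₁, hηU₀⟩
  have hUV : U ≤ V₁ := by rw [hU]; exact inf_le_left
  have hUU₀ : U ≤ U₀ := by rw [hU]; exact inf_le_right
  haveI : IsFinite (f ∣_ U) := isFinite_restrict_of_le f hUV
  haveI : Flat (f ∣_ U) :=
    flat_of_square f (f ⁻¹ᵁ U).ι U.ι (f ∣_ U) (morphismRestrict_ι f U).symm
      (fun x => hflat _ (hUU₀ (show f ((f ⁻¹ᵁ U).ι x) ∈ U from x.2)))
  haveI : Nonempty ↥U := ⟨⟨_, hηU⟩⟩
  haveI : Nonempty ↥(f ⁻¹ᵁ U) :=
    ⟨⟨genericPoint X, by show f (genericPoint X) ∈ U; rw [hgen]; exact hηU⟩⟩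
  haveI : Nonempty ↥(U.toScheme) := ⟨⟨genericPoint Y, hηU⟩⟩
  haveI : Nonempty ↥((f ⁻¹ᵁ U).toScheme) :=
    ⟨⟨genericPoint X, by show f (genericPoint X) ∈ U; rw [hgen]; exact hηU⟩⟩
  haveI : IsIntegral (U : Scheme.{u}) := isIntegral_of_isOpenImmersion U.ι
  haveI : IsIntegral ((f ⁻¹ᵁ U : X.Opens) : Scheme.{u}) :=
    isIntegral_of_isOpenImmersion (f ⁻¹ᵁ U).ι
  refine ⟨U, inferInstance, fun y hy => ?_⟩
  obtain ⟨h1, h2⟩ := fibre_rank f (f ⁻¹ᵁ U).ι U.ι (f ∣_ U) (isPullback_morphismRestrict f U).flip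
    y ⟨y, hy⟩ rfl
  refine ⟨h1, h2.trans ?_⟩
  have hgen'' : (f ∣_ U) (genericPoint ((f ⁻¹ᵁ U).toScheme)) = genericPoint (U.toScheme) := by
    apply U.ι.isOpenEmbedding.injective
    rw [← Scheme.Hom.comp_apply, morphismRestrict_ι, Scheme.Hom.comp_apply,
      genericPoint_eq_of_isOpenImmersion (f ⁻¹ᵁ U).ι, genericPoint_eq_of_isOpenImmersion U.ι, hgen]
  rw [finrank_eq_residueDegree' (f ∣_ U) hgen'' ⟨y, hy⟩,
    residueDegree_square f (f ⁻¹ᵁ U).ι U.ι (f ∣_ U) (morphismRestrict_ι f U).symm,
    genericPoint_eq_of_isOpenImmersion (f ⁻¹ᵁ U).ι]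
  rfl

end Groth.Agent.H6.GenFin
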