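import Groth.Agent.Lib.Helper5.DF.DF10
import Groth.Agent.Lib.Helper5.DF.DF11
import Groth.Agent.Lib.Helper7.FlatLocBC
import Groth.Agent.Lib.Helper1.CritFib4

/-!
# Smoothness / étaleness at a point via the fibre map `X_s → Y_s` (for `X → S` flat at the point)
-/

set_option autoImplicit false
universe u
open CategoryTheory CategoryTheory.Limits AlgebraicGeometry

namespace Groth.Agent.H6.FibSm

open Groth.Agent.H7.FlatLocBC Groth.Agent.H1.CritFib

theorem fiberMapOver_eq {X Y S : Scheme.{u}} (f : X ⟶ Y) (g : Y ⟶ S) (s : S) :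
    CohIII.fiberMapOver f (f ≫ g) g rfl s = MoreMor.fiberMap f g s := by
  apply pullback.hom_ext
  · have h1 := (H5.DF.isPullback_fiberMapOver g (f ≫ g) f rfl s).w
    change CohIII.fiberMapOver f (f ≫ g) g rfl s ≫ g.fiberι s = MoreMor.fiberMap f g s ≫ g.fiberι s
    rw [← h1, fiberMap_fiberι]
  · change CohIII.fiberMapOver f (f ≫ g) g rfl s ≫ g.fiberToSpecResidueField s =
      MoreMor.fiberMap f g s ≫ g.fiberToSpecResidueField s
    rw [fiberMap_fiberToSpecResidueField]
    unfold CohIII.fiberMapOver Scheme.Hom.fiberToSpecResidueField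
    exact (pullback.lift_snd _ _ _).trans (Category.comp_id _)

/-- flatness at a point passes between `f` and the fibre map, when `X → S` is flat at the point. -/
theorem flatAt_fiberMapOver_iff {X Y S : Scheme.{u}} (g : Y ⟶ S) (h : X ⟶ S)
    [LocallyOfFinitePresentation g] [LocallyOfFinitePresentation h] (f : X ⟶ Y) (w : f ≫ g = h)
    (x : X) (hflat : (h.stalkMap x).hom.Flat)
    (x' : h.fiber (h x)) (hx' : h.fiberι (h x) x' = x) :
    ((CohIII.fiberMapOver f h g w (h x)).stalkMap x').hom.Flat ↔ (f.stalkMap x).hom.Flat := by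
  subst w
  haveI : LocallyOfFinitePresentation f := locallyOfFinitePresentation_of_comp f g
  have H := H5.DF.isPullback_fiberMapOver g (f ≫ g) f rfl ((f ≫ g) x)
  constructor
  · intro hφ
    have hx'' : x' = (f ≫ g).asFiber x :=
      ((f ≫ g).fiberι _).isEmbedding.injective (hx'.trans ((f ≫ g).fiberι_asFiber x).symm)
    subst hx''
    rw [fiberMapOver_eq] at hφ
    exact ((crit_stalk_iff f g x).mp ⟨hflat, hφ⟩).2
  · intro hf
    have h1 : FlatAt f ((f ≫ g).fiberι _ x') := by rw [hx']; exact hf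
    exact FlatAt.baseChange f H x' h1

/-- étale on a neighbourhood = flat and unramified at the point. -/
theorem exists_etale_nhd_iff {X Y : Scheme.{u}} (f : X ⟶ Y) [LocallyOfFinitePresentation f]
    (x : X) :
    (∃ U : X.Opens, x ∈ U ∧ Etale (U.ι ≫ f)) ↔
      (f.stalkMap x).hom.Flat ∧ (f.stalkMap x).hom.FormallyUnramified := by
  constructor
  · rintro ⟨U, hxU, het⟩
    refine ⟨FlatAt.of_restrict f U inferInstance x hxU, ?_⟩
    exact (H5.LL.exists_unramified_nhd_iff f x).1 ⟨U, hxU, inferInstance⟩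
  · rintro ⟨hfl, hun⟩
    obtain ⟨U, hxU, hU⟩ := (H5.LL.exists_unramified_nhd_iff f x).2 hun
    have hopen : IsOpen {x : X | (f.stalkMap x).hom.Flat} := Groth.Agent.S0386.result f
    let N : X.Opens := ⟨_, hopen⟩
    refine ⟨N ⊓ U, ⟨hfl, hxU⟩, ?_⟩
    haveI : Flat ((N ⊓ U).ι ≫ f) := flat_restrict_of_forall f (N ⊓ U) fun a ha => ha.1
    haveI : FormallyUnramified ((N ⊓ U).ι ≫ f) := by
      have e : (N ⊓ U).ι ≫ f = X.homOfLE (inf_le_right : N ⊓ U ≤ U) ≫ U.ι ≫ f := by
        rw [← Category.assoc, Scheme.homOfLE_ι]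
      rw [e]
      exact IsZariskiLocalAtSource.comp (P := @FormallyUnramified) hU _
    haveI : LocallyOfFinitePresentation ((N ⊓ U).ι ≫ f) := inferInstance
    exact Etale.of_formallyUnramified_of_flat _

/-- smoothness at a point from flatness at the point and smoothness of a base change at a point
above. -/
theorem mem_smoothLocus_of_isPullback {X Y X' Y' : Scheme.{u}} {p : X' ⟶ X} {φ : X' ⟶ Y'}
    {f : X ⟶ Y} {j : Y' ⟶ Y} (H : IsPullback p φ f j) [LocallyOfFinitePresentation f]
    (x' : X') (hfl : (f.stalkMap (p x')).hom.Flat)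
    (hsm' : (φ.stalkMap x').hom.FormallySmooth) :
    p x' ∈ f.smoothLocus := by
  haveI : LocallyOfFinitePresentation φ :=
    MorphismProperty.of_isPullback (P := @LocallyOfFinitePresentation) H ‹_›
  have hsm : x' ∈ φ.smoothLocus := Scheme.Hom.mem_smoothLocus.2 hsm'
  set y' : Y' := φ x' with hy'
  haveI : LocallyOfFinitePresentation (φ.fiberToSpecResidueField y') :=
    MorphismProperty.pullback_snd (P := @LocallyOfFinitePresentation) _ _ ‹_›
  haveI : LocallyOfFinitePresentation (f.fiberToSpecResidueField (j y')) :=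
    MorphismProperty.pullback_snd (P := @LocallyOfFinitePresentation) _ _ ‹_›
  have hy : f (p x') = j y' := by
    rw [← Scheme.Hom.comp_apply, H.w, Scheme.Hom.comp_apply]
  -- the point of the fibre of `φ`
  have hz' : φ.asFiber x' ∈ (φ.fiberToSpecResidueField y').smoothLocus :=
    ((H5.DF.mem_smoothLocus_iff_fiber φ x' y' rfl (φ.asFiber x') (φ.fiberι_asFiber x')).1 hsm).2
  -- the map of residue fields
  let ρ : Spec (Y'.residueField y') ⟶ Spec (Y.residueField (j y')) :=
    Spec.map (j.residueFieldMap y')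
  have hρ : ρ ≫ Y.fromSpecResidueField (j y') = Y'.fromSpecResidueField y' ≫ j :=
    Scheme.Hom.SpecMap_residueFieldMap_fromSpecResidueField j y'
  have hρfl : Flat ρ := by
    rw [Flat.SpecMap_iff]
    letI alg : Algebra (Y.residueField (j y')) (Y'.residueField y') :=
      (j.residueFieldMap y').hom.toAlgebra
    exact (inferInstance : Module.Flat (Y.residueField (j y')) (Y'.residueField y'))
  -- pullback squares
  have big : IsPullback (φ.fiberι y' ≫ p) (φ.fiberToSpecResidueField y') f
      (Y'.fromSpecResidueField y' ≫ j) :=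
    (IsPullback.of_hasPullback φ (Y'.fromSpecResidueField y')).paste_horiz H
  have R : IsPullback (f.fiberι (j y')) (f.fiberToSpecResidueField (j y')) f
      (Y.fromSpecResidueField (j y')) := IsPullback.of_hasPullback _ _
  have comm : (φ.fiberι y' ≫ p) ≫ f =
      (φ.fiberToSpecResidueField y' ≫ ρ) ≫ Y.fromSpecResidueField (j y') := by
    rw [Category.assoc _ ρ, hρ]
    exact big.w
  let q : φ.fiber y' ⟶ f.fiber (j y') := R.lift _ _ comm
  have hq1 : q ≫ f.fiberι (j y') = φ.fiberι y' ≫ p := R.lift_fst _ _ _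
  have hq2 : q ≫ f.fiberToSpecResidueField (j y') = φ.fiberToSpecResidueField y' ≫ ρ :=
    R.lift_snd _ _ _
  have HP : IsPullback q (φ.fiberToSpecResidueField y') (f.fiberToSpecResidueField (j y')) ρ := by
    refine IsPullback.of_right ?_ hq2 R
    rw [hq1, hρ]
    exact big
  have hs : ((φ.fiberToSpecResidueField y').stalkMap (φ.asFiber x')).hom.FormallySmooth := by
    rwa [← Scheme.Hom.mem_smoothLocus]
  have key := H5.DF.formallySmooth_stalkMap_of_isPullback_flat HP (φ.asFiber x')
    (Flat.stalkMap ρ _) hs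
  rw [← Scheme.Hom.mem_smoothLocus] at key
  have hz : f.fiberι (j y') (q (φ.asFiber x')) = p x' := by
    rw [← Scheme.Hom.comp_apply, hq1, Scheme.Hom.comp_apply, φ.fiberι_asFiber x']
  exact (H5.DF.mem_smoothLocus_iff_fiber f (p x') (j y') hy _ hz).2 ⟨hfl, key⟩

theorem main16763 {X Y S : Scheme.{u}} (g : Y ⟶ S) (h : X ⟶ S)
    [LocallyOfFinitePresentation g] [LocallyOfFinitePresentation h] (f : X ⟶ Y) (w : f ≫ g = h)
    (x : X) (hflat : (h.stalkMap x).hom.Flat)
    (x' : h.fiber (h x)) (hx' : (h.fiberι (h x)) x' = x) :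
    (∃ U : X.Opens, x ∈ U ∧ Smooth (U.ι ≫ f)) ↔
      ∃ V : (h.fiber (h x)).Opens, x' ∈ V ∧
        Smooth (V.ι ≫ CohIII.fiberMapOver f h g w (h x)) := by
  haveI : LocallyOfFinitePresentation (f ≫ g) := by rw [w]; infer_instance
  haveI : LocallyOfFinitePresentation f := locallyOfFinitePresentation_of_comp f g
  have H := H5.DF.isPullback_fiberMapOver g h f w (h x)
  haveI : LocallyOfFinitePresentation (CohIII.fiberMapOver f h g w (h x)) :=
    MorphismProperty.of_isPullback (P := @LocallyOfFinitePresentation) H ‹_›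
  constructor
  · rintro ⟨U, hxU, hsm⟩
    refine ⟨h.fiberι (h x) ⁻¹ᵁ U, ?_, H5.DF.nhd_baseChange @Smooth H U hsm⟩
    change h.fiberι (h x) x' ∈ U
    rw [hx']
    exact hxU
  · intro hV
    have hφfl := H5.DS.flat_stalkMap_of_smooth_nhd _ x' hV
    have hfl : (f.stalkMap x).hom.Flat :=
      (flatAt_fiberMapOver_iff g h f w x hflat x' hx').1 hφfl
    rw [H5.DS.exists_smooth_nhd_iff_lfp] at hV
    rw [H5.DS.exists_smooth_nhd_iff_lfp, ← Scheme.Hom.mem_smoothLocus]
    have key := mem_smoothLocus_of_isPullback H x' (by rw [hx']; exact hfl) hV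
    rwa [hx'] at key

theorem main16764 {X Y S : Scheme.{u}} (g : Y ⟶ S) (h : X ⟶ S)
    [LocallyOfFinitePresentation g] [LocallyOfFinitePresentation h] (f : X ⟶ Y) (w : f ≫ g = h)
    (x : X) (hflat : (h.stalkMap x).hom.Flat)
    (x' : h.fiber (h x)) (hx' : (h.fiberι (h x)) x' = x) :
    (∃ U : X.Opens, x ∈ U ∧ Etale (U.ι ≫ f)) ↔
      ∃ V : (h.fiber (h x)).Opens, x' ∈ V ∧
        Etale (V.ι ≫ CohIII.fiberMapOver f h g w (h x)) := by
  haveI : LocallyOfFinitePresentation (f ≫ g) := by rw [w]; infer_instance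
  haveI : LocallyOfFinitePresentation f := locallyOfFinitePresentation_of_comp f g
  have H := H5.DF.isPullback_fiberMapOver g h f w (h x)
  haveI : LocallyOfFinitePresentation (CohIII.fiberMapOver f h g w (h x)) :=
    MorphismProperty.of_isPullback (P := @LocallyOfFinitePresentation) H ‹_›
  rw [exists_etale_nhd_iff, exists_etale_nhd_iff,
    flatAt_fiberMapOver_iff g h f w x hflat x' hx',
    H5.DF.formallyUnramified_stalkMap_iff_of_isPullback H x', hx']

end Groth.Agent.H6.FibSm
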