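import Mathlib

set_option autoImplicit false
set_option linter.unusedSectionVars false
universe u

open TopologicalSpace Topology
open CategoryTheory CategoryTheory.Limits Opposite

namespace Groth.Agent.H6.SpecLim

/-- a finite topological space is quasi-sober -/
theorem quasiSober_of_finite (Y : Type u) [TopologicalSpace Y] [Finite Y] : QuasiSober Y := by
  constructor
  intro S hS hcl
  classical
  have hfin : S.Finite := Set.toFinite S
  let t : Finset (Set Y) := hfin.toFinset.image (fun x => closure {x})
  have h1 : ∀ z ∈ t, IsClosed z := by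
    intro z hz
    obtain ⟨x, -, rfl⟩ := Finset.mem_image.1 hz
    exact isClosed_closure
  have h2 : S ⊆ ⋃₀ (t : Set (Set Y)) := by
    intro x hx
    refine ⟨closure {x}, ?_, subset_closure rfl⟩
    exact Finset.mem_coe.2 (Finset.mem_image.2 ⟨x, hfin.mem_toFinset.2 hx, rfl⟩)
  obtain ⟨z, hz, hSz⟩ := isIrreducible_iff_sUnion_isClosed.1 hS t h1 h2
  obtain ⟨x, hx, rfl⟩ := Finset.mem_image.1 hz
  refine ⟨x, ?_⟩
  apply Set.Subset.antisymm
  · exact hcl.closure_subset_iff.2 (Set.singleton_subset_iff.2 (hfin.mem_toFinset.1 hx))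
  · exact hSz

variable (X : Type u) [TopologicalSpace X]

/-- finite intersection property for constructible-closed sets -/
theorem fip [CompactSpace X] [QuasiSober X] [PrespectralSpace X] [QuasiSeparatedSpace X]
    {ι : Type*} (t : ι → Set X) (ht : ∀ i, IsClosed[constructibleTopology X] (t i))
    (hfin : ∀ u : Finset ι, (⋂ i ∈ u, t i).Nonempty) : (⋂ i, t i).Nonempty := by
  let t' : ι → Set (WithConstructibleTopology X) := fun i => WithTopology.ofTopology ⁻¹' (t i)
  have ht' : ∀ i, IsClosed (t' i) := by
    intro i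
    rw [WithConstructibleTopology.isClosed_iff]
    exact ht i
  have hfin' : ∀ u : Finset ι, (Set.univ ∩ ⋂ i ∈ u, t' i).Nonempty := by
    intro u
    obtain ⟨x, hx⟩ := hfin u
    refine ⟨WithTopology.toTopology _ x, Set.mem_univ _, ?_⟩
    simp only [Set.mem_iInter] at hx ⊢
    exact hx
  obtain ⟨y, -, hy⟩ := isCompact_univ.inter_iInter_nonempty t' ht' hfin'
  refine ⟨WithTopology.ofTopology y, ?_⟩
  simp only [Set.mem_iInter] at hy ⊢
  exact hy


section Main

open CategoryTheory CategoryTheory.Limits Opposite

variable [SpectralSpace X]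

/-- evaluation map -/
def ev (F : Finset (CompactOpens X)) (x : X) : (↥F → Prop) := fun U => x ∈ (U.1 : CompactOpens X)

/-- the finite quotient space -/
def Xf (F : Finset (CompactOpens X)) : Type u := Set.range (ev X F)

instance (F : Finset (CompactOpens X)) : TopologicalSpace (Xf X F) :=
  inferInstanceAs (TopologicalSpace (Set.range (ev X F)))

instance (F : Finset (CompactOpens X)) : Finite (Xf X F) :=
  inferInstanceAs (Finite (Set.range (ev X F)))

instance (F : Finset (CompactOpens X)) : T0Space (Xf X F) :=
  inferInstanceAs (T0Space (Set.range (ev X F)))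

theorem continuous_ev (F : Finset (CompactOpens X)) : Continuous (ev X F) := by
  apply continuous_pi
  intro U
  exact continuous_Prop.2 U.1.isOpen

/-- the projection -/
def proj (F : Finset (CompactOpens X)) : C(X, Xf X F) :=
  ⟨fun x => ⟨ev X F x, x, rfl⟩, (continuous_ev X F).subtype_mk _⟩

/-- restriction -/
def res {F F' : Finset (CompactOpens X)} (h : F' ≤ F) : C(Xf X F, Xf X F') :=
  ⟨fun p => ⟨fun U => p.1 ⟨U.1, h U.2⟩, by
    obtain ⟨x, hx⟩ := p.2
    exact ⟨x, by funext U; rw [← hx]; rfl⟩⟩, by
    apply Continuous.subtype_mk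
    apply continuous_pi
    intro U
    exact (continuous_apply (⟨U.1, h U.2⟩ : ↥F)).comp continuous_subtype_val⟩

/-- the diagram -/
def Fun : (Finset (CompactOpens X))ᵒᵖ ⥤ TopCat.{u} where
  obj j := TopCat.of (Xf X j.unop)
  map {j j'} f := TopCat.ofHom (res X (leOfHom f.unop))
  map_id j := by
    apply TopCat.ext
    intro p
    rfl
  map_comp f g := by
    apply TopCat.ext
    intro p
    rfl

/-- the cone -/
def cone : Cone (Fun X) where
  pt := TopCat.of X
  π :=
    { app := fun j => TopCat.ofHom (proj X j.unop)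
      naturality := by
        intro j j' f
        apply TopCat.ext
        intro x
        rfl }

variable {X}

/-- the membership function attached to a point of a cone -/
def q (s : Cone (Fun X)) (y : s.pt) : CompactOpens X → Prop :=
  fun U => (s.π.app (op {U}) y).1 ⟨U, Finset.mem_singleton_self U⟩

theorem q_spec (s : Cone (Fun X)) (y : s.pt) (F : Finset (CompactOpens X)) (U : CompactOpens X)
    (hU : U ∈ F) : (s.π.app (op F) y).1 ⟨U, hU⟩ = q s y U := by
  have hle : ({U} : Finset (CompactOpens X)) ≤ F := Finset.singleton_subset_iff.2 hU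
  have h := s.w (homOfLE hle).op
  have h2 := congrArg (fun f => (ConcreteCategory.hom f) y) h
  simp only [q]
  rw [← h2]
  rfl

theorem exists_point (s : Cone (Fun X)) (y : s.pt) :
    ∃ x : X, ∀ U : CompactOpens X, (x ∈ U) = q s y U := by
  let t : CompactOpens X → Set X := fun U => {x | (x ∈ U) = q s y U}
  have ht : ∀ U, IsClosed[constructibleTopology X] (t U) := by
    intro U
    by_cases hq : q s y U
    · have : t U = (U : Set X) := by
        ext x
        simp only [t, Set.mem_ofPred_eq, hq, eq_iff_iff, iff_true]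
        rfl
      rw [this, ← @isOpen_compl_iff _ _ (constructibleTopology X)]
      apply IsCompact.isOpen_constructibleTopology_of_isClosed
      · rw [compl_compl]; exact U.isCompact
      · exact U.isOpen.isClosed_compl
    · have : t U = (U : Set X)ᶜ := by
        ext x
        simp only [t, Set.mem_ofPred_eq, hq, eq_iff_iff, iff_false]
        rfl
      rw [this, ← @isOpen_compl_iff _ _ (constructibleTopology X), compl_compl]
      exact IsCompact.isOpen_constructibleTopology_of_isOpen U.isCompact U.isOpen
  have hfin : ∀ u : Finset (CompactOpens X), (⋂ i ∈ u, t i).Nonempty := by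
    intro u
    obtain ⟨x, hx⟩ := (s.π.app (op u) y).2
    refine ⟨x, ?_⟩
    simp only [Set.mem_iInter]
    intro U hU
    change (x ∈ U) = q s y U
    rw [← q_spec s y u U hU, ← hx]
    rfl
  obtain ⟨x, hx⟩ := fip X t ht hfin
  refine ⟨x, fun U => ?_⟩
  exact Set.mem_iInter.1 hx U

theorem unique_point (x x' : X) (h : ∀ U : CompactOpens X, (x ∈ U) = (x' ∈ U)) : x = x' := by
  apply Inseparable.eq
  rw [(PrespectralSpace.isTopologicalBasis (X := X)).inseparable_iff]
  rintro U ⟨hU, hUc⟩
  have := h ⟨⟨U, hUc⟩, hU⟩
  exact iff_of_eq this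

/-- the lift as a function -/
noncomputable def liftFun (s : Cone (Fun X)) (y : s.pt) : X := (exists_point s y).choose

theorem liftFun_spec (s : Cone (Fun X)) (y : s.pt) (U : CompactOpens X) :
    (liftFun s y ∈ U) = q s y U := (exists_point s y).choose_spec U

theorem continuous_liftFun (s : Cone (Fun X)) : Continuous (liftFun s) := by
  rw [(PrespectralSpace.isTopologicalBasis (X := X)).continuous_iff]
  rintro U ⟨hU, hUc⟩
  let U' : CompactOpens X := ⟨⟨U, hUc⟩, hU⟩
  have : liftFun s ⁻¹' U = {y | q s y U'} := by
    ext y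
    simp only [Set.mem_preimage, Set.mem_ofPred_eq]
    exact iff_of_eq (liftFun_spec s y U')
  rw [this]
  have hcont : Continuous (fun y : s.pt => (s.π.app (op {U'}) y).1 ⟨U', Finset.mem_singleton_self U'⟩) :=
    (continuous_apply _).comp (continuous_subtype_val.comp (s.π.app (op {U'})).hom.continuous)
  exact continuous_Prop.1 hcont

/-- the cone is a limit -/
noncomputable def isLimit : IsLimit (cone X) where
  lift s := TopCat.ofHom ⟨liftFun s, continuous_liftFun s⟩
  fac s j := by
    apply TopCat.ext
    intro y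
    apply Subtype.ext
    funext U
    change (liftFun s y ∈ (U.1 : CompactOpens X)) = (s.π.app j y).1 U
    rw [liftFun_spec, ← q_spec s y j.unop U.1 U.2]
  uniq s m hm := by
    apply TopCat.ext
    intro y
    refine unique_point (X := X) _ _ ?_
    intro U
    change (m y ∈ U) = (liftFun s y ∈ U)
    rw [liftFun_spec]
    have := congrArg (fun f => (ConcreteCategory.hom f) y) (hm (op {U}))
    simp only [q]
    rw [← this]
    rfl

end Main

theorem main (X : Type u) [TopologicalSpace X] [SpectralSpace X] :
    ∃ (J : Type u) (_ : Preorder J) (_ : Nonempty J) (_ : IsDirected J (· ≤ ·))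
      (F : Jᵒᵖ ⥤ TopCat.{u})
      (c : CategoryTheory.Limits.Cone F), Nonempty (CategoryTheory.Limits.IsLimit c) ∧
        (∀ j : Jᵒᵖ, Finite (F.obj j) ∧ T0Space (F.obj j) ∧ QuasiSober (F.obj j)) ∧
        Nonempty (c.pt ≅ TopCat.of X) := by
  classical
  refine ⟨Finset (CompactOpens X), inferInstance, ⟨∅⟩, inferInstance, Fun X, cone X, ⟨isLimit⟩, ?_,
    ⟨CategoryTheory.Iso.refl _⟩⟩
  intro j
  refine ⟨inferInstanceAs (Finite (Xf X j.unop)), inferInstanceAs (T0Space (Xf X j.unop)), ?_⟩
  exact quasiSober_of_finite (Xf X j.unop)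

end Groth.Agent.H6.SpecLim
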