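import Groth.Agent.Lib.Helper6.GrBasic

/-! Constructing gradings: from projections; on homogeneous submodules; on quotients
(images of surjections with homogeneous kernel). -/

universe u
open DirectSum
set_option linter.unusedSectionVars false

namespace Groth.Agent.H6

namespace Gr

variable {ι : Type} [DecidableEq ι]

section Construct

variable {N : Type*} [AddCommGroup N] (𝒩 : ι → AddSubgroup N) (π : ι → N →+ N)

theorem proj_coe_of_proj (hsame : ∀ g x, x ∈ 𝒩 g → π g x = x)
    (hne : ∀ g h x, x ∈ 𝒩 g → g ≠ h → π h x = 0) (g : ι) (y : ⨁ i, 𝒩 i) :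
    π g (DirectSum.coeAddMonoidHom 𝒩 y) = y g := by
  induction y using DirectSum.induction_on with
  | zero => simp
  | of h z =>
    rw [DirectSum.coeAddMonoidHom_of]
    by_cases hgh : h = g
    · subst hgh
      rw [hsame h z z.2, DirectSum.of_eq_same]
    · rw [hne h g z z.2 hgh, DirectSum.of_eq_of_ne _ _ _ (Ne.symm hgh)]
      rfl
  | add y y' h1 h2 =>
    rw [map_add, map_add, h1, h2, DirectSum.add_apply]
    rfl

theorem isInternal_of_proj (hsame : ∀ g x, x ∈ 𝒩 g → π g x = x)
    (hne : ∀ g h x, x ∈ 𝒩 g → g ≠ h → π h x = 0) (hspan : ∀ x : N, x ∈ ⨆ g, 𝒩 g) :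
    DirectSum.IsInternal 𝒩 := by
  constructor
  · rw [injective_iff_map_eq_zero]
    intro y hy
    ext g
    have := proj_coe_of_proj 𝒩 π hsame hne g y
    rw [hy, map_zero] at this
    rw [← this]
    rfl
  · intro x
    have hx := hspan x
    induction hx using AddSubgroup.iSup_induction' with
    | hp g x hx => exact ⟨DirectSum.of (fun i => 𝒩 i) g ⟨x, hx⟩, DirectSum.coeAddMonoidHom_of 𝒩 g ⟨x, hx⟩⟩
    | h1 => exact ⟨0, map_zero _⟩
    | hadd x y _ _ hx hy =>
      obtain ⟨a, rfl⟩ := hx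
      obtain ⟨b, rfl⟩ := hy
      exact ⟨a + b, map_add _ _ _⟩

/-- for any decomposition instance on `𝒩`, the components are computed by the projections -/
theorem proj_eq_of_proj [DirectSum.Decomposition 𝒩] (hsame : ∀ g x, x ∈ 𝒩 g → π g x = x)
    (hne : ∀ g h x, x ∈ 𝒩 g → g ≠ h → π h x = 0) (g : ι) (x : N) :
    proj 𝒩 g x = π g x := by
  have := proj_coe_of_proj 𝒩 π hsame hne g (DirectSum.decompose 𝒩 x)
  rw [proj_apply, ← this]
  congr 1
  exact ((DirectSum.decompose 𝒩).symm_apply_apply x)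

end Construct

section Sub

variable {R : Type u} [CommRing R] (𝒜 : ι → AddSubgroup R) [AddCommGroup ι] [GradedRing 𝒜]
variable {M : Type u} [AddCommGroup M] [Module R M] (ℳ : ι → AddSubgroup M)
  [DirectSum.Decomposition ℳ] [SetLike.GradedSMul 𝒜 ℳ]
variable (P : Submodule R M)

/-- the pieces of a submodule -/
def subGr (g : ι) : AddSubgroup P := (ℳ g).comap P.subtype.toAddMonoidHom

theorem mem_subGr {g : ι} {x : P} : x ∈ subGr ℳ P g ↔ (x : M) ∈ ℳ g := Iff.rfl

variable {P} (hP : P.IsHomogeneous ℳ)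

/-- projections on a homogeneous submodule -/
noncomputable def subProj (g : ι) : P →+ P :=
  AddMonoidHom.codRestrict ((proj ℳ g).comp P.subtype.toAddMonoidHom) P.toAddSubgroup
    (fun x => hP g x.2)

theorem coe_subProj (g : ι) (x : P) : (subProj ℳ hP g x : M) = proj ℳ g x := rfl

include hP in
theorem sub_isInternal : DirectSum.IsInternal (subGr ℳ P) := by
  refine isInternal_of_proj (subGr ℳ P) (subProj ℳ hP) ?_ ?_ ?_
  · intro g x hx
    apply Subtype.ext
    rw [coe_subProj]
    exact proj_of_mem ℳ hx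
  · intro g h x hx hne
    apply Subtype.ext
    rw [coe_subProj]
    exact proj_of_mem_ne ℳ hx hne
  · intro x
    obtain ⟨s, hs⟩ := exists_finset_sum_proj ℳ (x : M)
    have : x = ∑ g ∈ s, subProj ℳ hP g x := by
      apply Subtype.ext
      rw [AddSubmonoidClass.coe_finsetSum]
      simp only [coe_subProj]
      exact hs.symm
    rw [this]
    refine sum_mem fun g _ => ?_
    exact AddSubgroup.mem_iSup_of_mem g (proj_mem ℳ g _)

/-- the decomposition of a homogeneous submodule -/
@[instance_reducible]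
noncomputable def subDecomposition : DirectSum.Decomposition (subGr ℳ P) :=
  (sub_isInternal ℳ hP).chooseDecomposition

theorem sub_gradedSMul : SetLike.GradedSMul 𝒜 (subGr ℳ P) where
  smul_mem := by
    intro i j r x hr hx
    exact SetLike.GradedSMul.smul_mem (A := 𝒜) (B := ℳ) hr hx

/-- a homogeneous submodule as a bundled graded module -/
noncomputable def GMod.ofSub : GrLC.GMod.{u} 𝒜 :=
  @GrLC.GMod.mk ι _ _ R _ _ _ _ 𝒜 _ P _ _ (subGr ℳ P) (subDecomposition ℳ hP)
    (sub_gradedSMul 𝒜 ℳ (P := P))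

/-- a homogeneous submodule is the image of an injective homogeneous map from a bundled graded
module -/
theorem exists_gmod_sub (P : Submodule R M) (hP : P.IsHomogeneous ℳ) :
    ∃ (Pm : GrLC.GMod.{u} 𝒜) (j : Pm.carrier →ₗ[R] M), Function.Injective j ∧
      LinearMap.range j = P ∧ GrLC.IsGrHom Pm.gr ℳ j := by
  refine ⟨GMod.ofSub 𝒜 ℳ hP, (show (GMod.ofSub 𝒜 ℳ hP).carrier →ₗ[R] M from P.subtype), ?_, ?_, ?_⟩
  · exact Subtype.val_injective
  · exact Submodule.range_subtype P
  · intro g x hx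
    exact hx

end Sub

section Quot

variable {R : Type u} [CommRing R] (𝒜 : ι → AddSubgroup R) [AddCommGroup ι] [GradedRing 𝒜]
variable {M : Type u} [AddCommGroup M] [Module R M] (ℳ : ι → AddSubgroup M)
  [DirectSum.Decomposition ℳ] [SetLike.GradedSMul 𝒜 ℳ]
variable {Q : Type u} [AddCommGroup Q] [Module R Q] (q : M →ₗ[R] Q)

/-- the pieces of a quotient -/
def quotGr (g : ι) : AddSubgroup Q := (ℳ g).map q.toAddMonoidHom

theorem mem_quotGr {g : ι} {x : Q} : x ∈ quotGr ℳ q g ↔ ∃ m ∈ ℳ g, q m = x := Iff.rfl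

variable {q} (hq : Function.Surjective q) (hker : (LinearMap.ker q).IsHomogeneous ℳ)

/-- projections on a quotient -/
noncomputable def quotProj (g : ι) : Q →+ Q :=
  q.toAddMonoidHom.liftOfSurjective hq
    ⟨q.toAddMonoidHom.comp (proj ℳ g), fun x hx => by
      rw [AddMonoidHom.mem_ker] at hx ⊢
      exact hker g hx⟩

theorem quotProj_apply (g : ι) (m : M) : quotProj ℳ hq hker g (q m) = q (proj ℳ g m) :=
  AddMonoidHom.liftOfRightInverse_comp_apply _ _ _ _ m

include hq hker in
theorem quot_isInternal : DirectSum.IsInternal (quotGr ℳ q) := by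
  refine isInternal_of_proj (quotGr ℳ q) (quotProj ℳ hq hker) ?_ ?_ ?_
  · rintro g _ ⟨m, hm, rfl⟩
    change quotProj ℳ hq hker g (q m) = q m
    rw [quotProj_apply, proj_of_mem ℳ hm]
  · rintro g h _ ⟨m, hm, rfl⟩ hne
    change quotProj ℳ hq hker h (q m) = 0
    rw [quotProj_apply, proj_of_mem_ne ℳ hm hne, map_zero]
  · intro x
    obtain ⟨m, rfl⟩ := hq x
    obtain ⟨s, hs⟩ := exists_finset_sum_proj ℳ m
    rw [← hs, map_sum]
    refine sum_mem fun g _ => ?_
    exact AddSubgroup.mem_iSup_of_mem g ⟨_, proj_mem ℳ g m, rfl⟩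

/-- the decomposition of a quotient -/
@[instance_reducible]
noncomputable def quotDecomposition : DirectSum.Decomposition (quotGr ℳ q) :=
  (quot_isInternal ℳ hq hker).chooseDecomposition

theorem quot_gradedSMul : SetLike.GradedSMul 𝒜 (quotGr ℳ q) where
  smul_mem := by
    rintro i j r _ hr ⟨m, hm, rfl⟩
    exact ⟨r • m, SetLike.GradedSMul.smul_mem (A := 𝒜) (B := ℳ) hr hm, map_smul q r m⟩

/-- the target of a surjection with homogeneous kernel as a bundled graded module -/
noncomputable def GMod.ofQuot : GrLC.GMod.{u} 𝒜 :=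
  @GrLC.GMod.mk ι _ _ R _ _ _ _ 𝒜 _ Q _ _ (quotGr ℳ q) (quotDecomposition ℳ hq hker)
    (quot_gradedSMul 𝒜 ℳ (q := q))

/-- the quotient by a homogeneous submodule as a bundled graded module -/
theorem exists_gmod_quot (K : Submodule R M) (hK : K.IsHomogeneous ℳ) :
    ∃ (Qm : GrLC.GMod.{u} 𝒜) (q : M →ₗ[R] Qm.carrier), Function.Surjective q ∧
      LinearMap.ker q = K ∧ GrLC.IsGrHom ℳ Qm.gr q := by
  have hker : (LinearMap.ker K.mkQ).IsHomogeneous ℳ := by rw [Submodule.ker_mkQ]; exact hK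
  refine ⟨GMod.ofQuot 𝒜 ℳ (Submodule.mkQ_surjective K) hker,
    (show M →ₗ[R] (GMod.ofQuot 𝒜 ℳ (Submodule.mkQ_surjective K) hker).carrier from K.mkQ),
    ?_, ?_, ?_⟩
  · exact Submodule.mkQ_surjective K
  · exact Submodule.ker_mkQ K
  · intro g m hm
    exact ⟨m, hm, rfl⟩

end Quot

end Gr

end Groth.Agent.H6
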