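import Groth.Agent.Lib.Helper6.GrToAdd
import Groth.Agent.S0342
import Groth.Agent.Lib.Helper6.Bass2

/-! Basic facts on weighted polynomial rings over a field as graded rings. -/

universe u
open DirectSum
set_option linter.unusedSectionVars false
attribute [local instance] MvPolynomial.weightedGradedAlgebra

namespace Groth.Agent.H6

namespace PolyGr

variable (k : Type u) [Field k] (N : ℕ) (w : Fin N → ℤ) (hw : ∀ i, 0 < w i)

/-- the grading of the weighted polynomial ring by additive subgroups -/
noncomputable abbrev gr : ℤ → AddSubgroup (MvPolynomial (Fin N) k) :=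
  ToAdd.toAdd (MvPolynomial.weightedHomogeneousSubmodule k w)

theorem mem_gr {n : ℤ} {p : MvPolynomial (Fin N) k} :
    p ∈ gr k N w n ↔ MvPolynomial.IsWeightedHomogeneous w p n := Iff.rfl

include hw in
theorem weight_nonneg (d : Fin N →₀ ℕ) : 0 ≤ Finsupp.weight w d := by
  rw [Finsupp.weight_apply]
  apply Finset.sum_nonneg
  intro i _
  exact smul_nonneg (Nat.zero_le _) (le_of_lt (hw i))

include hw in
theorem weight_eq_zero_iff (d : Fin N →₀ ℕ) : Finsupp.weight w d = 0 ↔ d = 0 := by
  constructor
  · intro h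
    rw [Finsupp.weight_apply] at h
    ext i
    by_contra hi
    have hi' : i ∈ d.support := Finsupp.mem_support_iff.mpr hi
    have h1 : ∀ j ∈ d.support, 0 ≤ d j • w j := fun j _ =>
      smul_nonneg (Nat.zero_le _) (le_of_lt (hw j))
    have h2 := (Finset.sum_eq_zero_iff_of_nonneg h1).mp h i hi'
    rw [nsmul_eq_mul] at h2
    rcases mul_eq_zero.mp h2 with h3 | h3
    · exact hi (by exact_mod_cast h3)
    · exact absurd h3 (ne_of_gt (hw i))
  · intro h
    rw [h, map_zero]

include hw in
theorem gr_neg (n : ℤ) (hn : n < 0) : gr k N w n = ⊥ := by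
  rw [eq_bot_iff]
  intro p hp
  rw [AddSubgroup.mem_bot]
  ext d
  rw [MvPolynomial.coeff_zero]
  by_contra hd
  have := (mem_gr k N w).mp hp hd
  have h2 := weight_nonneg N w hw d
  omega

include hw in
/-- weighted homogeneous of degree zero means constant -/
theorem eq_C_of_mem_zero {p : MvPolynomial (Fin N) k} (hp : p ∈ gr k N w 0) :
    p = MvPolynomial.C (MvPolynomial.coeff 0 p) := by
  ext d
  rw [MvPolynomial.coeff_C]
  by_cases hd : 0 = d
  · rw [if_pos hd, hd]
  · rw [if_neg hd]
    by_contra hne
    have := (mem_gr k N w).mp hp hne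
    exact hd ((weight_eq_zero_iff N w hw d).mp this).symm

theorem C_mem_zero (c : k) : MvPolynomial.C c ∈ gr k N w 0 :=
  (mem_gr k N w).mpr (MvPolynomial.isWeightedHomogeneous_C w c)

theorem X_mem (i : Fin N) : (MvPolynomial.X i : MvPolynomial (Fin N) k) ∈ gr k N w (w i) :=
  (mem_gr k N w).mpr (MvPolynomial.isWeightedHomogeneous_X k w i)


section Field

variable [hA : GradedRing (gr k N w)]

include hw in
theorem isField_deg0 : IsField (GrLC.deg0 (gr k N w)) := by
  refine ⟨⟨0, 1, ?_⟩, fun a b => mul_comm a b, ?_⟩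
  · intro h
    have := congrArg Subtype.val h
    exact zero_ne_one this
  · intro a ha
    have ha0 : (a : MvPolynomial (Fin N) k) ∈ gr k N w 0 := a.2
    have hC := eq_C_of_mem_zero k N w hw ha0
    have hc : MvPolynomial.coeff 0 (a : MvPolynomial (Fin N) k) ≠ 0 := by
      intro h0
      apply ha
      apply Subtype.ext
      rw [hC, h0, map_zero]
      rfl
    refine ⟨⟨MvPolynomial.C (MvPolynomial.coeff 0 (a : MvPolynomial (Fin N) k))⁻¹,
      C_mem_zero k N w _⟩, ?_⟩
    apply Subtype.ext
    change (a : MvPolynomial (Fin N) k) * MvPolynomial.C _ = 1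
    rw [hC, ← map_mul, MvPolynomial.coeff_C, if_pos rfl, mul_inv_cancel₀ hc, map_one]

end Field

section Ring

instance instGor : LocCoh.IsGorensteinRing (MvPolynomial (Fin N) k) where
  isGorensteinLocalRing_localization := fun p _ => Groth.Agent.S0342.result _

instance instCM : LocCoh.IsCohenMacaulayRing (MvPolynomial (Fin N) k) where
  isCohenMacaulayLocalRing_localization := fun p _ => by
    haveI hG : LocCoh.IsGorensteinLocalRing (Localization.AtPrime p) := Groth.Agent.S0342.result _
    obtain ⟨n, hn⟩ := hG.exists_hasInjectiveDimensionLT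
    exact Bass.isCohenMacaulayLocalRing_of_gorenstein n hn

theorem ringKrullDim_eq : ringKrullDim (MvPolynomial (Fin N) k) = (N : WithBot ℕ∞) := by
  rw [MvPolynomial.ringKrullDim_of_isNoetherianRing, ringKrullDim_eq_zero_of_field, zero_add,
    Nat.card_eq_fintype_card, Fintype.card_fin]

end Ring

section Irrelevant

include hw in
/-- the ideal generated by the elements of positive degree is generated by the variables -/
theorem span_pos_eq :
    Ideal.span (⋃ n ∈ Set.Ioi (0 : ℤ), ((gr k N w n : AddSubgroup _) : Set (MvPolynomial (Fin N) k))) =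
      Ideal.span (Set.range (MvPolynomial.X : Fin N → MvPolynomial (Fin N) k)) := by
  apply le_antisymm
  · rw [Ideal.span_le]
    intro p hp
    simp only [Set.mem_iUnion] at hp
    obtain ⟨n, hn, hp⟩ := hp
    rw [← Set.image_univ, SetLike.mem_coe, MvPolynomial.mem_ideal_span_X_image]
    intro d hd
    have hd' : MvPolynomial.coeff d p ≠ 0 := MvPolynomial.mem_support_iff.mp hd
    have h1 := (mem_gr k N w).mp hp hd'
    have hd0 : d ≠ 0 := by
      intro h0
      rw [h0, map_zero] at h1
      have : (0 : ℤ) < n := hn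
      omega
    obtain ⟨i, hi⟩ : ∃ i, d i ≠ 0 := by
      by_contra hcon
      push Not at hcon
      apply hd0
      ext i
      exact hcon i
    exact ⟨i, trivial, hi⟩
  · rw [Ideal.span_le]
    rintro _ ⟨i, rfl⟩
    apply Ideal.subset_span
    simp only [Set.mem_iUnion]
    exact ⟨w i, hw i, X_mem k N w i⟩

end Irrelevant


section Regular

theorem mem_take_ofFn_X (i : ℕ) (r : MvPolynomial (Fin N) k) :
    r ∈ (List.ofFn (fun j : Fin N => (MvPolynomial.X j : MvPolynomial (Fin N) k))).take i ↔
      ∃ j : Fin N, j.val < i ∧ MvPolynomial.X j = r := by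
  rw [List.mem_take_iff_getElem]
  constructor
  · rintro ⟨a, ha, rfl⟩
    rw [List.length_ofFn] at ha
    refine ⟨⟨a, (lt_min_iff.mp ha).2⟩, (lt_min_iff.mp ha).1, ?_⟩
    rw [List.getElem_ofFn]
  · rintro ⟨j, hj, rfl⟩
    refine ⟨j.val, ?_, ?_⟩
    · rw [List.length_ofFn]
      exact lt_min hj j.2
    · rw [List.getElem_ofFn]

theorem mem_ofList_take_smul_top (i : ℕ) (q : MvPolynomial (Fin N) k) :
    q ∈ (Ideal.ofList ((List.ofFn (fun j : Fin N =>
        (MvPolynomial.X j : MvPolynomial (Fin N) k))).take i) •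
        (⊤ : Submodule (MvPolynomial (Fin N) k) (MvPolynomial (Fin N) k))) ↔
      ∀ d ∈ q.support, ∃ j : Fin N, j.val < i ∧ d j ≠ 0 := by
  rw [smul_eq_mul, Ideal.mul_top]
  have hset : {r | r ∈ (List.ofFn (fun j : Fin N =>
      (MvPolynomial.X j : MvPolynomial (Fin N) k))).take i} =
      MvPolynomial.X '' {j : Fin N | j.val < i} := by
    ext r
    rw [Set.mem_ofPred_eq, mem_take_ofFn_X]
    rfl
  unfold Ideal.ofList
  rw [hset, MvPolynomial.mem_ideal_span_X_image]
  rfl

theorem isRegular_X : RingTheory.Sequence.IsRegular (MvPolynomial (Fin N) k)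
    (List.ofFn (fun j : Fin N => (MvPolynomial.X j : MvPolynomial (Fin N) k))) := by
  refine ⟨⟨fun i hi => ?_⟩, ?_⟩
  · rw [isSMulRegular_quotient_iff_mem_of_smul_mem]
    intro p hp
    rw [mem_ofList_take_smul_top] at hp ⊢
    intro d hd
    rw [List.length_ofFn] at hi
    rw [List.getElem_ofFn, smul_eq_mul] at hp
    have hd' : MvPolynomial.coeff d p ≠ 0 := MvPolynomial.mem_support_iff.mp hd
    have h1 : Finsupp.single (⟨i, hi⟩ : Fin N) 1 + d ∈
        (MvPolynomial.X (⟨i, hi⟩ : Fin N) * p).support := by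
      rw [MvPolynomial.mem_support_iff, MvPolynomial.coeff_X_mul]
      exact hd'
    obtain ⟨j, hj, hne⟩ := hp _ h1
    refine ⟨j, hj, ?_⟩
    intro h0
    apply hne
    rw [Finsupp.add_apply, h0, add_zero, Finsupp.single_apply, if_neg]
    intro heq
    rw [← heq] at hj
    exact lt_irrefl _ hj
  · intro h
    have h1 : (1 : MvPolynomial (Fin N) k) ∈ (Ideal.ofList ((List.ofFn (fun j : Fin N =>
        (MvPolynomial.X j : MvPolynomial (Fin N) k))).take N) •
        (⊤ : Submodule (MvPolynomial (Fin N) k) (MvPolynomial (Fin N) k))) := by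
      have h2 : (List.ofFn (fun j : Fin N =>
          (MvPolynomial.X j : MvPolynomial (Fin N) k))).take N = List.ofFn (fun j : Fin N =>
          (MvPolynomial.X j : MvPolynomial (Fin N) k)) := by
        apply List.take_of_length_le
        rw [List.length_ofFn]
      rw [h2, ← h]
      trivial
    rw [mem_ofList_take_smul_top] at h1
    have h3 : (0 : Fin N →₀ ℕ) ∈ (1 : MvPolynomial (Fin N) k).support := by
      rw [MvPolynomial.mem_support_iff, MvPolynomial.coeff_zero_one]
      exact one_ne_zero
    obtain ⟨j, -, hj⟩ := h1 0 h3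
    exact hj rfl

end Regular

end PolyGr

end Groth.Agent.H6
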