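import Mathlib

/-! A finitely presented module whose localization is projective is, up to an element of the
multiplicative set, a retract of a finite free module. -/

universe u

namespace Groth.Agent.H6

/-- If `M` is finitely presented and `S⁻¹M` is projective over `S⁻¹R`, there are maps
`M → R^k → M` composing to multiplication by some `s ∈ S`. -/
theorem exists_split_of_localized_projective {R : Type u} [CommRing R] (S : Submonoid R)
    (M : Type u) [AddCommGroup M] [Module R M] [Module.FinitePresentation R M]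
    (Rₛ : Type u) [CommRing Rₛ] [Algebra R Rₛ] [IsLocalization S Rₛ]
    (Mₛ : Type u) [AddCommGroup Mₛ] [Module R Mₛ] [Module Rₛ Mₛ] [IsScalarTower R Rₛ Mₛ]
    (l : M →ₗ[R] Mₛ) [IsLocalizedModule S l] [Module.Projective Rₛ Mₛ] :
    ∃ (k : ℕ) (f : (Fin k →₀ R) →ₗ[R] M) (g : M →ₗ[R] (Fin k →₀ R)) (s : S),
      f ∘ₗ g = (s : R) • LinearMap.id := by
  have hfin : Module.Finite Rₛ Mₛ := Module.Finite.of_isLocalizedModule S (Rₚ := Rₛ) l
  obtain ⟨k, π', hπ'⟩ := Module.Finite.exists_fin' Rₛ Mₛ
  let π : (Fin k →₀ Rₛ) →ₗ[Rₛ] Mₛ :=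
    π' ∘ₗ (Finsupp.linearEquivFunOnFinite Rₛ Rₛ (Fin k)).toLinearMap
  have hπ : Function.Surjective π :=
    hπ'.comp (Finsupp.linearEquivFunOnFinite Rₛ Rₛ (Fin k)).surjective
  obtain ⟨σ, hσ⟩ := Module.projective_lifting_property π LinearMap.id hπ
  let locN : (Fin k →₀ R) →ₗ[R] (Fin k →₀ Rₛ) :=
    Finsupp.mapRange.linearMap (Algebra.linearMap R Rₛ)
  obtain ⟨g, s1, hg⟩ := Module.FinitePresentation.exists_lift_of_isLocalizedModule S locN
    ((σ.restrictScalars R) ∘ₗ l)
  have : Module.FinitePresentation R (Fin k →₀ R) := Module.finitePresentation_of_projective _ _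
  obtain ⟨f, s2, hf⟩ := Module.FinitePresentation.exists_lift_of_isLocalizedModule S l
    ((π.restrictScalars R) ∘ₗ locN)
  have hcomp : l ∘ₗ (f ∘ₗ g) = l ∘ₗ (((s2 : R) * (s1 : R)) • LinearMap.id) := by
    ext m
    have h1 := LinearMap.congr_fun hf (g m)
    have h2 := LinearMap.congr_fun hg m
    simp only [LinearMap.coe_comp, Function.comp_apply, LinearMap.smul_apply,
      LinearMap.coe_restrictScalars, Submonoid.smul_def] at h1 h2
    simp only [LinearMap.coe_comp, Function.comp_apply, LinearMap.smul_apply, LinearMap.id_coe,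
      id_eq, map_smul]
    rw [h1, h2]
    have h3 : π (σ (l m)) = l m := LinearMap.congr_fun hσ (l m)
    rw [← algebraMap_smul Rₛ (s1 : R) (σ (l m)), map_smul, h3, algebraMap_smul, mul_smul]
  obtain ⟨s3, hs3⟩ := Module.Finite.exists_smul_of_comp_eq_of_isLocalizedModule S l _ _ hcomp
  refine ⟨k, (s3 : R) • f, g, s3 * s2 * s1, ?_⟩
  ext m
  have h4 := LinearMap.congr_fun hs3 m
  simp only [LinearMap.smul_apply, Submonoid.smul_def, LinearMap.coe_comp, Function.comp_apply,
    LinearMap.id_coe, id_eq] at h4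
  simp only [LinearMap.coe_comp, Function.comp_apply, LinearMap.smul_apply, LinearMap.id_coe,
    id_eq, Submonoid.coe_mul]
  rw [h4, mul_smul, mul_smul, mul_smul]

end Groth.Agent.H6
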