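import Mathlib
import Groth.Prelude.Def_Wider
import Groth.Agent.Lib.Helper6.LCProps
import Groth.Agent.Lib.Helper6.LocSplit
import Groth.Agent.Lib.Helper6.LCDepth

/-! Uniform annihilation of local cohomology `H^i_b(M)` below `depth_b(R) - pd(M_p)`. -/

universe u
open CategoryTheory CategoryTheory.Limits Opposite CategoryTheory.Abelian

namespace Groth.Agent.H6

namespace LC

variable {R : Type u} [CommRing R]

/-- `H^i_b(R) = 0` for `i < depth_b(R)` (`b` proper, `R` Noetherian). -/
theorem subsingleton_of_lt_idealDepth [IsNoetherianRing R] (b : Ideal R) (hb : b ≠ ⊤) (i : ℕ)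
    (hi : (i : ℕ∞) < LocCoh.idealDepth b R) : Subsingleton (LocCoh.H b i R) := by
  have hbR : b • (⊤ : Submodule R R) ≠ ⊤ := by
    rw [smul_eq_mul, Ideal.mul_top]
    exact hb
  have h1 : ((i + 1 : ℕ) : ℕ∞) ≤ LocCoh.idealDepth b R := by
    have := Order.add_one_le_of_lt hi
    exact_mod_cast this
  exact (le_idealDepth_iff b R hbR (i + 1)).mp h1 i (Nat.lt_succ_self i)

/-- `H^i_b(R^k) = 0` for `i < depth_b(R)`. -/
theorem subsingleton_free_of_lt_idealDepth [IsNoetherianRing R] (b : Ideal R) (hb : b ≠ ⊤)
    (i : ℕ) (hi : (i : ℕ∞) < LocCoh.idealDepth b R) (k : ℕ) :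
    Subsingleton ((localCohomology b i).obj (ModuleCat.of R (Fin k →₀ R))) := by
  have h0 := subsingleton_of_lt_idealDepth b hb i hi
  have ha : ∀ y : (localCohomology b i).obj (ModuleCat.of R R), (1 : R) • y = 0 := fun y => by
    rw [one_smul]
    exact Subsingleton.elim _ _
  have h2 := smul_eq_zero_finsupp (I := b) (i := i) (X := R) 1 ha k
  refine ⟨fun x y => ?_⟩
  have hx := h2 x
  have hy := h2 y
  rw [one_smul] at hx hy
  rw [hx, hy]

/-- The localization of a short exact sequence, as a short exact sequence over `S⁻¹R`. -/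
theorem localized_shortExact (S : Submonoid R) {K F M : Type u} [AddCommGroup K] [Module R K]
    [AddCommGroup F] [Module R F] [AddCommGroup M] [Module R M] (f : K →ₗ[R] F) (g : F →ₗ[R] M)
    (hf : Function.Injective f) (hg : Function.Surjective g) (hex : Function.Exact f g) :
    ∃ w, (ShortComplex.mk (ModuleCat.ofHom (LocalizedModule.map S f))
      (ModuleCat.ofHom (LocalizedModule.map S g)) w).ShortExact := by
  have hex' : Function.Exact (LocalizedModule.map S f) (LocalizedModule.map S g) :=
    LocalizedModule.map_exact S f g hex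
  have w : ModuleCat.ofHom (LocalizedModule.map S f) ≫ ModuleCat.ofHom (LocalizedModule.map S g)
      = 0 := by
    apply ModuleCat.hom_ext
    apply LinearMap.ext
    intro x
    exact (hex' _).mpr ⟨x, rfl⟩
  exact ⟨w, ModuleCat.shortComplex_shortExact _ hex' (LocalizedModule.map_injective S f hf)
    (LocalizedModule.map_surjective S g hg)⟩

/-- **S11656**: if `pd_{R_p}(M_p) ≤ h` there is `s ∉ p` killing `H^i_b(M)` for all proper `b` and
all `i` with `i + h < depth_b(R)`. -/
theorem exists_smul_eq_zero_of_pd [IsNoetherianRing R] (p : Ideal R) [p.IsPrime] (h : ℕ) :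
    ∀ (M : Type u) [AddCommGroup M] [Module R M] [Module.Finite R M],
      HasProjectiveDimensionLE
        (ModuleCat.of (Localization.AtPrime p) (LocalizedModule p.primeCompl M)) h →
      ∃ s : R, s ∉ p ∧ ∀ (b : Ideal R), b ≠ ⊤ → ∀ i : ℕ,
        ((i + h : ℕ) : ℕ∞) < LocCoh.idealDepth b R → ∀ x : LocCoh.H b i M, s • x = 0 := by
  induction h with
  | zero =>
    intro M _ _ _ hpd
    have hproj : Projective
        (ModuleCat.of (Localization.AtPrime p) (LocalizedModule p.primeCompl M)) :=
      (projective_iff_hasProjectiveDimensionLE_zero _).mpr hpd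
    have : Module.Projective (Localization.AtPrime p) (LocalizedModule p.primeCompl M) :=
      (IsProjective.iff_projective _).mpr hproj
    have : Module.FinitePresentation R M := Module.finitePresentation_of_finite R M
    obtain ⟨k, f, g, s, hfg⟩ := exists_split_of_localized_projective p.primeCompl M
      (Localization.AtPrime p) (LocalizedModule p.primeCompl M)
      (LocalizedModule.mkLinearMap p.primeCompl M)
    refine ⟨s, s.2, fun b hb i hi x => ?_⟩
    have h0 := subsingleton_free_of_lt_idealDepth b hb i (by simpa using hi) k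
    have hfg' : ModuleCat.ofHom g ≫ ModuleCat.ofHom f = (s : R) • 𝟙 (ModuleCat.of R M) := by
      apply ModuleCat.hom_ext
      exact hfg
    have h3 := smul_eq_zero_of_split (I := b) (i := i) (ModuleCat.ofHom f)
      (ModuleCat.ofHom g) (s : R) 1 hfg' (fun y => by rw [one_smul]; exact Subsingleton.elim _ _) x
    rwa [one_mul] at h3
  | succ h ih =>
    intro M _ _ _ hpd
    -- a finite free cover of `M`
    obtain ⟨k, π, hπ⟩ := Module.Finite.exists_fin' R M
    let K : Submodule R (Fin k → R) := LinearMap.ker π
    have hKfin : Module.Finite R K := inferInstance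
    have hex : Function.Exact K.subtype π := by
      intro x
      constructor
      · intro hx
        exact ⟨⟨x, hx⟩, rfl⟩
      · rintro ⟨y, rfl⟩
        exact y.2
    obtain ⟨w, hSloc⟩ := localized_shortExact p.primeCompl (K := ↥K) (F := Fin k → R) (M := M)
      K.subtype π (Submodule.injective_subtype _) hπ hex
    have hprojF : Projective (ModuleCat.of (Localization.AtPrime p)
        (LocalizedModule p.primeCompl (Fin k → R))) :=
      (IsProjective.iff_projective _).mp inferInstance
    have hpdK : HasProjectiveDimensionLE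
        (ModuleCat.of (Localization.AtPrime p) (LocalizedModule p.primeCompl K)) h :=
      (hSloc.hasProjectiveDimensionLT_X₃_iff h hprojF).mp hpd
    obtain ⟨s, hs, hsK⟩ := ih K hpdK
    refine ⟨s, hs, fun b hb i hi x => ?_⟩
    -- the short exact sequence `0 → K → F → M → 0`
    have hS : (ShortComplex.mk (ModuleCat.ofHom K.subtype) (ModuleCat.ofHom π) (by
        apply ModuleCat.hom_ext
        apply LinearMap.ext
        intro y
        exact y.2)).ShortExact :=
      ModuleCat.shortComplex_shortExact _ hex (Submodule.injective_subtype _) hπ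
    have hi1 : (((i + 1) + h : ℕ) : ℕ∞) < LocCoh.idealDepth b R := by
      have : i + 1 + h = i + (h + 1) := by omega
      rw [this]
      exact hi
    have hi0 : (i : ℕ∞) < LocCoh.idealDepth b R := by
      refine lt_of_le_of_lt ?_ hi
      exact_mod_cast Nat.le_add_right i (h + 1)
    have h0 : Subsingleton ((localCohomology b i).obj (ModuleCat.of R (Fin k → R))) :=
      subsingleton_of_linearEquiv (Finsupp.linearEquivFunOnFinite R R (Fin k))
        (subsingleton_free_of_lt_idealDepth b hb i hi0 k)
    have hδ : δ hS b i (s • x) = 0 := by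
      rw [map_smul]
      exact hsK b hb (i + 1) hi1 _
    obtain ⟨y, hy⟩ := exact₃ hS (s • x) hδ
    rw [← hy, Subsingleton.elim y 0, map_zero]

end LC

end Groth.Agent.H6
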