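import Groth.Agent.Lib.Helper6.QCBC
import Groth.Agent.Lib.Lead.QC.PullbackUnit

/-!
# Base change of the symmetric algebra: `V(g^*E) = V(E) ×_S S'` (helper6)
-/

set_option autoImplicit false
set_option linter.style.haveILetI false
universe u

open CategoryTheory CategoryTheory.Limits AlgebraicGeometry TopologicalSpace Opposite

noncomputable section

namespace Groth.Agent.H6.Sym

open Groth.Agent.LD.QC Groth.Agent.H6.PA SymmetricAlgebra

variable {S S' : Scheme.{u}} (g : S' ⟶ S) {E : S.Modules} [E.IsQuasicoherent]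
  {A : RelSpec.QCAlg S} {j : E ⟶ A.toModule}
  {B : RelSpec.QCAlg S'} {j' : (Scheme.Modules.pullback g).obj E ⟶ B.toModule}

/-- the symmetric algebra of the inverse image is the inverse image of the symmetric algebra. -/
theorem isQBaseChange_sym (hA : RelSpec.IsSymAlg E A j)
    (hB : RelSpec.IsSymAlg ((Scheme.Modules.pullback g).obj E) B j')
    (u : RelSpec.QHom g A B)
    (hu : ∀ (U : S.Opens) (x : Γ(E, U)),
      (u.app U).hom ((j.app U) x) =
        (j'.app (g ⁻¹ᵁ U)) (((Scheme.Modules.pullbackPushforwardAdjunction g).unit.app E).app U x)) :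
    RelSpec.IsQBaseChange u := by
  intro U hU U' hU' hle
  haveI : ((Scheme.Modules.pullback g).obj E).IsQuasicoherent := qc_pullback g E
  have hsec : ∀ m : Γ(E, U), (u.appLE U U' hle).hom (QA.sec j U m) =
      QA.sec j' U' (pbSec g E hle m) := by
    intro m
    change (B.presheaf.map (homOfLE hle).op).hom ((u.app U).hom (QA.sec j U m)) = _
    have h1 : (u.app U).hom (QA.sec j U m) = QA.sec j' (g ⁻¹ᵁ U) (unitSec g E U m) := hu U m
    rw [h1, QA.sec_res j' hle]
    rfl
  have hw : g.appLE U U' hle ≫ B.str.app (op U') = A.str.app (op U) ≫ u.appLE U U' hle :=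
    (u.str_appLE U U' hle).symm
  have hdesc : ∀ s : PushoutCocone (g.appLE U U' hle) (A.str.app (op U)),
      ∃ c : B.presheaf.obj (op U') ⟶ s.pt, B.str.app (op U') ≫ c = s.inl ∧
        u.appLE U U' hle ≫ c = s.inr := by
    intro s
    have hcond : ∀ r : Γ(S, U), s.inl.hom ((g.appLE U U' hle).hom r) =
        s.inr.hom ((A.str.app (op U)).hom r) := fun r => congr($(s.condition) r)
    letI : Algebra Γ(S, U) Γ(S', U') := (g.appLE U U' hle).hom.toAlgebra
    letI := pbModule g E hle
    haveI := pbModule_isScalarTower g E hle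
    letI : Algebra Γ(S', U') s.pt := s.inl.hom.toAlgebra
    letI : Module Γ(S, U) s.pt := Module.compHom s.pt (g.appLE U U' hle).hom
    haveI : IsScalarTower Γ(S, U) Γ(S', U') s.pt := ⟨fun a b x => by
      change s.inl.hom ((g.appLE U U' hle).hom a * b) * x =
        s.inl.hom ((g.appLE U U' hle).hom a) * (s.inl.hom b * x)
      rw [map_mul, mul_assoc]⟩
    let ℓ₀ : Γ(E, U) →ₗ[Γ(S, U)] s.pt :=
      { toFun := fun m => s.inr.hom (QA.sec j U m)
        map_add' := fun m m' => by rw [QA.sec_add, map_add]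
        map_smul' := fun r m => by
          rw [QA.sec_smul, map_mul, ← hcond]
          rfl }
    let ℓ := (isBaseChange_pbSec g hU' hU hle E).lift ℓ₀
    have hℓ : ∀ m, ℓ (pbSec g E hle m) = s.inr.hom (QA.sec j U m) := fun m =>
      (isBaseChange_pbSec g hU' hU hle E).lift_eq ℓ₀ m
    obtain ⟨c, hc1, hc2⟩ := exists_ringHom_sec hB U' hU' s.inl.hom ℓ.toAddMonoidHom (fun r m => by
      change ℓ (r • m) = _
      rw [map_smul, Algebra.smul_def]
      rfl)
    refine ⟨CommRingCat.ofHom c, ?_, ?_⟩
    · ext r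
      exact hc1 r
    · ext : 1
      refine ringHom_ext_sec hA U hU (fun r => ?_) (fun m => ?_)
      · change c ((u.appLE U U' hle).hom ((A.str.app (op U)).hom r)) = _
        have h2 : (u.appLE U U' hle).hom ((A.str.app (op U)).hom r) =
            (B.str.app (op U')).hom ((g.appLE U U' hle).hom r) := congr($hw r).symm
        rw [h2, hc1, hcond]
      · change c ((u.appLE U U' hle).hom (QA.sec j U m)) = _
        rw [hsec, hc2]
        exact hℓ m
  choose c hc1 hc2 using hdesc
  refine ⟨⟨hw⟩, ⟨PushoutCocone.IsColimit.mk _ c hc1 hc2 ?_⟩⟩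
  intro s m hm1 hm2
  ext : 1
  refine ringHom_ext_sec hB U' hU' (fun r => ?_) (fun x => ?_)
  · change (B.str.app (op U') ≫ m).hom r = (B.str.app (op U') ≫ c s).hom r
    rw [hm1, hc1]
  · have hx : x ∈ Submodule.span Γ(S', U') (Set.range (pbSec g E hle)) := by
      rw [span_range_pbSec g hU' hU hle E]; trivial
    induction hx using Submodule.span_induction with
    | mem y hy =>
      obtain ⟨m₀, rfl⟩ := hy
      rw [← hsec]
      change (u.appLE U U' hle ≫ m).hom _ = (u.appLE U U' hle ≫ c s).hom _
      rw [hm2, hc2]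
    | zero => rw [QA.sec_zero, map_zero, map_zero]
    | add a b _ _ ha hb => rw [QA.sec_add, map_add, map_add, ha, hb]
    | smul r a _ ha =>
      rw [QA.sec_smul, map_mul, map_mul, ha]
      congr 1
      change (B.str.app (op U') ≫ m).hom r = (B.str.app (op U') ≫ c s).hom r
      rw [hm1, hc1]

end Groth.Agent.H6.Sym
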