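import Mathlib
import Groth.Agent.Lib.Helper7.FlatLocBC
import Groth.Agent.Lib.Helper1.ClImmNear
import Groth.Agent.Lib.Helper1.CMQF
import Groth.Agent.Lib.Helper1.EtNhd

/-! A morphism of proper `S`-schemes with flat source which is an isomorphism on the fibre over `s`
is an isomorphism over a neighbourhood of `s` (Noetherian base). -/

universe u
set_option linter.style.haveILetI false
open CategoryTheory CategoryTheory.Limits AlgebraicGeometry TopologicalSpace MorphismProperty

namespace Groth.Agent.H6.FibIso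

open Groth.Agent.H7.FlatLocBC

section General

/-- restriction to a smaller open of a property local at the target. -/
theorem restrict_of_le (P : MorphismProperty Scheme.{u}) [IsZariskiLocalAtTarget P]
    {X Y : Scheme.{u}} (f : X ⟶ Y) {U V : Y.Opens} (hVU : V ≤ U) (h : P (f ∣_ U)) :
    P (f ∣_ V) := by
  have h1 : P (f ∣_ U ∣_ U.ι ⁻¹ᵁ V) := IsZariskiLocalAtTarget.restrict h _
  have h2 : P (f ∣_ U.ι ''ᵁ (U.ι ⁻¹ᵁ V)) :=
    (P.arrow_mk_iso_iff (morphismRestrictRestrict f U _)).mp h1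
  have e : U.ι ''ᵁ (U.ι ⁻¹ᵁ V) = V := by
    rw [Scheme.Hom.image_preimage_eq_opensRange_inf, Scheme.Opens.opensRange_ι]
    exact inf_eq_right.mpr hVU
  exact (P.arrow_mk_iso_iff (morphismRestrictEq f e)).mp h2

/-- a property local at the target holds over an open as soon as it holds near every point of
the open. -/
theorem restrict_of_forall_exists (P : MorphismProperty Scheme.{u}) [IsZariskiLocalAtTarget P]
    {X Y : Scheme.{u}} (f : X ⟶ Y) (H : Y.Opens)
    (hH : ∀ y ∈ H, ∃ O : Y.Opens, y ∈ O ∧ P (f ∣_ O)) : P (f ∣_ H) := by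
  apply IsZariskiLocalAtTarget.of_forall_exists_morphismRestrict
  intro y'
  obtain ⟨O, hyO, hO⟩ := hH y'.1 y'.2
  refine ⟨H.ι ⁻¹ᵁ O, hyO, ?_⟩
  have h1 : P (f ∣_ H.ι ''ᵁ (H.ι ⁻¹ᵁ O)) := by
    refine restrict_of_le P f ?_ hO
    rw [Scheme.Hom.image_preimage_eq_opensRange_inf]
    exact inf_le_right
  exact (P.arrow_mk_iso_iff (morphismRestrictRestrict f H _)).mpr h1

/-- the base change of `p : X ⟶ Y` over `S` along `φ : T ⟶ S` is a base change of `p` along
`Y_T ⟶ Y`. -/
theorem bc_isPullback {S X Y T : Scheme.{u}} (h : Y ⟶ S) (p : X ⟶ Y) (φ : T ⟶ S)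
    (e1 : (p ≫ h) ≫ 𝟙 S = p ≫ h) (e2 : φ ≫ 𝟙 S = 𝟙 T ≫ φ) :
    IsPullback (pullback.fst (p ≫ h) φ) (pullback.map (p ≫ h) φ h φ p (𝟙 _) (𝟙 _) e1 e2) p
      (pullback.fst h φ) := by
  have big : IsPullback (pullback.map (p ≫ h) φ h φ p (𝟙 _) (𝟙 _) e1 e2 ≫ pullback.snd h φ)
      (pullback.fst (p ≫ h) φ) φ (p ≫ h) := by
    have : pullback.map (p ≫ h) φ h φ p (𝟙 _) (𝟙 _) e1 e2 ≫ pullback.snd h φ =
        pullback.snd (p ≫ h) φ :=
      (pullback.lift_snd _ _ _).trans (Category.comp_id _)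
    rw [this]
    exact (IsPullback.of_hasPullback (p ≫ h) φ).flip
  have hr : IsPullback (pullback.snd h φ) (pullback.fst h φ) φ h :=
    (IsPullback.of_hasPullback h φ).flip
  exact (IsPullback.of_right big (pullback.lift_fst _ _ _) hr).flip

end General

section Fibre

variable {S X Y : Scheme.{u}} (h : Y ⟶ S) (p : X ⟶ Y)

/-- if the base change of `p` to the fibre over `h y` is an isomorphism, then the fibre of `p`
over `y` is the spectrum of the residue field. -/
theorem isIso_fiberToSpecResidueField (y : Y)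
    (e1 : (p ≫ h) ≫ 𝟙 S = p ≫ h)
    (e2 : S.fromSpecResidueField (h y) ≫ 𝟙 S = 𝟙 _ ≫ S.fromSpecResidueField (h y))
    (hs : IsIso (pullback.map (p ≫ h) (S.fromSpecResidueField (h y)) h
      (S.fromSpecResidueField (h y)) p (𝟙 _) (𝟙 _) e1 e2)) :
    IsIso (p.fiberToSpecResidueField y) := by
  have sqA := bc_isPullback h p (S.fromSpecResidueField (h y)) e1 e2
  let τ : Spec (Y.residueField y) ⟶ pullback h (S.fromSpecResidueField (h y)) :=
    pullback.lift (Y.fromSpecResidueField y) (Spec.map (h.residueFieldMap y))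
      (Scheme.Hom.SpecMap_residueFieldMap_fromSpecResidueField h y).symm
  have hτ : τ ≫ pullback.fst h (S.fromSpecResidueField (h y)) = Y.fromSpecResidueField y :=
    pullback.lift_fst _ _ _
  have hw : p.fiberι y ≫ p = (p.fiberToSpecResidueField y ≫ τ) ≫
      pullback.fst h (S.fromSpecResidueField (h y)) := by
    rw [Category.assoc, hτ]
    exact p.fiber_fac y
  have big : IsPullback (sqA.lift (p.fiberι y) (p.fiberToSpecResidueField y ≫ τ) hw ≫
      pullback.fst (p ≫ h) (S.fromSpecResidueField (h y)))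
      (p.fiberToSpecResidueField y) p (τ ≫ pullback.fst h (S.fromSpecResidueField (h y))) := by
    rw [sqA.lift_fst, hτ]
    exact IsPullback.of_hasPullback p (Y.fromSpecResidueField y)
  have sqB := IsPullback.of_right big (sqA.lift_snd _ _ hw) sqA
  exact sqB.isIso_snd_of_isIso

/-- if the base change of `p` to the fibre over `s` is an isomorphism and the source is flat and
locally of finite presentation over `S`, then `p` is flat at the points over `s`. -/
theorem flatAt_of_isIso_bc [LocallyOfFinitePresentation (p ≫ h)] [Flat (p ≫ h)]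
    [LocallyOfFiniteType h] (s : S)
    (e1 : (p ≫ h) ≫ 𝟙 S = p ≫ h)
    (e2 : S.fromSpecResidueField s ≫ 𝟙 S = 𝟙 _ ≫ S.fromSpecResidueField s)
    (hs : IsIso (pullback.map (p ≫ h) (S.fromSpecResidueField s) h
      (S.fromSpecResidueField s) p (𝟙 _) (𝟙 _) e1 e2))
    (x : X) (hx : (p ≫ h) x = s) : FlatAt p x := by
  have sqA := bc_isPullback h p (S.fromSpecResidueField s) e1 e2
  obtain ⟨ξ, hξ⟩ : ∃ ξ : ↥(pullback (p ≫ h) (S.fromSpecResidueField s)),
      (pullback.fst (p ≫ h) (S.fromSpecResidueField s)) ξ = x := by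
    have : x ∈ Set.range ((p ≫ h).fiberι s) := by
      rw [Scheme.Hom.range_fiberι]
      exact hx
    exact this
  have h1 : FlatAt (p ≫ h) ((pullback.fst (p ≫ h) (S.fromSpecResidueField s)) ξ) :=
    FlatAt.of_flat _ _
  have h2 : FlatAt (pullback.map (p ≫ h) (S.fromSpecResidueField s) h
      (S.fromSpecResidueField s) p (𝟙 _) (𝟙 _) e1 e2) ξ := FlatAt.of_flat _ _
  have h3 := flatAt_of_flatAt_fieldFibre p h (S.residueField s) (S.fromSpecResidueField s)
    (IsPullback.of_hasPullback h (S.fromSpecResidueField s)) sqA ξ h1 h2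
  rw [hξ] at h3
  exact h3

end Fibre

section Local

variable {X Y : Scheme.{u}} [IsLocallyNoetherian Y] (p : X ⟶ Y) [IsProper p]

/-- a proper morphism to a locally Noetherian scheme whose fibre over `y` is `Spec κ(y)` and which
is flat at the points over `y` is an isomorphism over a neighbourhood of `y`. -/
theorem exists_isIso_restrict (y : Y) (hfib : IsIso (p.fiberToSpecResidueField y))
    (hflat : ∀ x : X, p x = y → FlatAt p x) : ∃ O : Y.Opens, y ∈ O ∧ IsIso (p ∣_ O) := by
  haveI : LocallyOfFinitePresentation p := Groth.Agent.H1.EtNhd.lfp_of_lft_of_noetherian p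
  -- closed immersion near `y`
  obtain ⟨U₁, hyU₁, hcl⟩ := (Groth.Agent.H1.ClImmNear.exists_isClosedImmersion_iff p y).mpr
    ⟨Or.inr hfib, ⊤, trivial, inferInstance⟩
  -- the point over `y`
  let ξ₀ : p.fiber y := (inv (p.fiberToSpecResidueField y)) (IsLocalRing.closedPoint _)
  let x : X := p.fiberι y ξ₀
  have hx : p x = y := by
    have : x ∈ Set.range (p.fiberι y) := ⟨ξ₀, rfl⟩
    rw [Scheme.Hom.range_fiberι] at this
    exact this
  have huniq : ∀ x' : X, p x' = y → x' = x := by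
    intro x' hx'
    have : x' ∈ Set.range (p.fiberι y) := by
      rw [Scheme.Hom.range_fiberι]; exact hx'
    obtain ⟨ξ', rfl⟩ := this
    have hinj : Function.Injective (p.fiberToSpecResidueField y) :=
      (ConcreteCategory.bijective_of_isIso (p.fiberToSpecResidueField y).base).1
    have : ξ' = ξ₀ := hinj (Subsingleton.elim (α := PrimeSpectrum _) _ _)
    rw [this]
  -- flat neighbourhood of `x`
  obtain ⟨N, hxN, hNflat⟩ := Groth.Agent.H1.CMQF.exists_flat_nhd p x (hflat x hx)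
  -- shrink
  have hclosed : IsClosed (p '' (N : Set X)ᶜ) := p.isClosedMap _ N.2.isClosed_compl
  let C : Y.Opens := ⟨(p '' (N : Set X)ᶜ)ᶜ, hclosed.isOpen_compl⟩
  have hyC : y ∈ C := by
    rintro ⟨x', hx'N, hx'⟩
    exact hx'N (huniq x' hx' ▸ hxN)
  let O₁ : Y.Opens := U₁ ⊓ C
  have hyO₁ : y ∈ O₁ := ⟨hyU₁, hyC⟩
  have hsub : ∀ x' : X, p x' ∈ O₁ → x' ∈ N := by
    intro x' hx'
    by_contra hn
    exact hx'.2 ⟨x', hn, rfl⟩
  haveI hq1 : IsClosedImmersion (p ∣_ O₁) :=
    restrict_of_le @IsClosedImmersion p (inf_le_left : O₁ ≤ U₁) hcl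
  haveI hq2 : Flat (p ∣_ O₁) := by
    refine Flat.of_stalkMap (f := p ∣_ O₁) fun x' => ?_
    refine (RingHom.Flat.respectsIso.arrow_mk_iso_iff (morphismRestrictStalkMap p O₁ x')).mpr ?_
    exact FlatAt.of_restrict p N hNflat x'.1 (hsub x'.1 x'.2)
  haveI hq3 : IsOpenImmersion (p ∣_ O₁) := IsOpenImmersion.of_flat_of_mono _
  -- the image
  refine ⟨O₁.ι ''ᵁ (p ∣_ O₁).opensRange, ?_, ?_⟩
  · refine ⟨⟨y, hyO₁⟩, ?_, rfl⟩
    have hx' : x ∈ p ⁻¹ᵁ O₁ := by
      change p x ∈ O₁
      rw [hx]; exact hyO₁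
    refine ⟨⟨x, hx'⟩, ?_⟩
    apply Subtype.ext
    rw [morphismRestrict_base_coe]
    exact hx
  · have h1 : IsIso (p ∣_ O₁ ∣_ (p ∣_ O₁).opensRange) := by
      rw [isIso_iff_isOpenImmersion_and_surjective]
      refine ⟨inferInstance, ⟨?_⟩⟩
      rintro ⟨z, x', rfl⟩
      refine ⟨⟨x', ⟨x', rfl⟩⟩, ?_⟩
      apply Subtype.ext
      rw [morphismRestrict_base_coe]
    exact ((isomorphisms Scheme.{u}).arrow_mk_iso_iff
      (morphismRestrictRestrict p O₁ _)).mp h1

end Local

/-- **S6712**. -/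
theorem s6712 {S X Y : Scheme.{u}} [IsNoetherian S] (s : S) (g : X ⟶ S) (h : Y ⟶ S) (p : X ⟶ Y)
    (w : p ≫ h = g) [IsProper g] [IsProper h] [Flat g]
    (hs : IsIso (pullback.map g (S.fromSpecResidueField s) h (S.fromSpecResidueField s) p (𝟙 _)
      (𝟙 _) ((Category.comp_id g).trans w.symm)
      ((Category.comp_id _).trans (Category.id_comp _).symm))) :
    ∃ U : S.Opens, s ∈ U ∧
      IsIso (pullback.map g U.ι h U.ι p (𝟙 _) (𝟙 _) ((Category.comp_id g).trans w.symm)
        ((Category.comp_id _).trans (Category.id_comp _).symm)) := by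
  subst w
  haveI : IsLocallyNoetherian Y := LocallyOfFiniteType.isLocallyNoetherian h
  haveI : IsProper p := IsProper.of_comp p h
  haveI : LocallyOfFinitePresentation (p ≫ h) :=
    Groth.Agent.H1.EtNhd.lfp_of_lft_of_noetherian (p ≫ h)
  have key : ∀ y : Y, h y = s → ∃ O : Y.Opens, y ∈ O ∧ IsIso (p ∣_ O) := by
    intro y hy
    subst hy
    refine exists_isIso_restrict p y (isIso_fiberToSpecResidueField h p y _ _ hs) ?_
    intro x hx
    refine flatAt_of_isIso_bc h p (h y) _ _ hs x ?_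
    rw [Scheme.Hom.comp_apply, hx]
  -- the good locus
  let W : Set Y := {y | ∃ O : Y.Opens, y ∈ O ∧ IsIso (p ∣_ O)}
  have hWo : IsOpen W := by
    rw [isOpen_iff_forall_mem_open]
    rintro y ⟨O, hyO, hO⟩
    exact ⟨O, fun z hz => ⟨O, hz, hO⟩, O.2, hyO⟩
  have hcl : IsClosed (h '' Wᶜ) := h.isClosedMap _ hWo.isClosed_compl
  let U : S.Opens := ⟨(h '' Wᶜ)ᶜ, hcl.isOpen_compl⟩
  have hsU : s ∈ U := by
    rintro ⟨y, hyW, hy⟩
    exact hyW (key y hy)
  refine ⟨U, hsU, ?_⟩
  have hH : (isomorphisms Scheme.{u}) (p ∣_ (h ⁻¹ᵁ U)) := by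
    apply restrict_of_forall_exists
    intro y hy
    by_contra hn
    exact hy ⟨y, fun hyW => hn hyW, rfl⟩
  have e1 := morphismRestrictOpensRange p (pullback.fst h U.ι)
  have hr : (pullback.fst h U.ι).opensRange = h ⁻¹ᵁ U := by
    rw [Scheme.Hom.opensRange_pullbackFst, Scheme.Opens.opensRange_ι]
  haveI : IsIso (pullback.snd p (pullback.fst h U.ι)) := by
    refine ((isomorphisms Scheme.{u}).arrow_mk_iso_iff e1).mp ?_
    rw [hr]
    exact hH
  have sq := bc_isPullback h p U.ι ((Category.comp_id (p ≫ h)).trans rfl)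
    ((Category.comp_id _).trans (Category.id_comp _).symm)
  rw [← sq.isoPullback_hom_snd]
  infer_instance

end Groth.Agent.H6.FibIso
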