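import Mathlib
import Groth.Agent.Lib.Helper6.FibIso
import Groth.Agent.Lib.Helper1.CritFib2

/-! The locus of points of the base over which a morphism of proper finitely presented schemes
(with flat source) induces an isomorphism of fibres is open, and the morphism is an isomorphism
over it (no Noetherian hypothesis). -/

universe u
set_option linter.style.haveILetI false
open CategoryTheory CategoryTheory.Limits AlgebraicGeometry TopologicalSpace MorphismProperty

namespace Groth.Agent.H6.FibIso2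

open Groth.Agent.H6.FibIso
open Groth.Agent.H7.FlatLocBC

section Local

variable {X Y : Scheme.{u}} (p : X ⟶ Y) [IsProper p] [LocallyOfFinitePresentation p]

/-- a proper finitely presented morphism whose fibre over `y` is `Spec κ(y)` and which
is flat at the points over `y` is an isomorphism over a neighbourhood of `y`. -/
theorem exists_isIso_restrict (y : Y) (hfib : IsIso (p.fiberToSpecResidueField y))
    (hflat : ∀ x : X, p x = y → FlatAt p x) : ∃ O : Y.Opens, y ∈ O ∧ IsIso (p ∣_ O) := by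
  -- closed immersion near `y`
  obtain ⟨U₁, hyU₁, hcl⟩ := (Groth.Agent.H1.ClImmNear.exists_isClosedImmersion_iff p y).mpr
    ⟨Or.inr hfib, ⊤, trivial, inferInstance⟩
  -- the point over `y`
  let ξ₀ : p.fiber y := (inv (p.fiberToSpecResidueField y)) (IsLocalRing.closedPoint _)
  let x : X := p.fiberι y ξ₀
  have hx : p x = y := by
    have : x ∈ Set.range (p.fiberι y) := ⟨ξ₀, rfl⟩
    rw [Scheme.Hom.range_fiberι] at this
    exact this
  have huniq : ∀ x' : X, p x' = y → x' = x := by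
    intro x' hx'
    have : x' ∈ Set.range (p.fiberι y) := by
      rw [Scheme.Hom.range_fiberι]; exact hx'
    obtain ⟨ξ', rfl⟩ := this
    have hinj : Function.Injective (p.fiberToSpecResidueField y) :=
      (ConcreteCategory.bijective_of_isIso (p.fiberToSpecResidueField y).base).1
    have : ξ' = ξ₀ := hinj (Subsingleton.elim (α := PrimeSpectrum _) _ _)
    rw [this]
  -- flat neighbourhood of `x`
  obtain ⟨N, hxN, hNflat⟩ := Groth.Agent.H1.CMQF.exists_flat_nhd p x (hflat x hx)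
  -- shrink
  have hclosed : IsClosed (p '' (N : Set X)ᶜ) := p.isClosedMap _ N.2.isClosed_compl
  let C : Y.Opens := ⟨(p '' (N : Set X)ᶜ)ᶜ, hclosed.isOpen_compl⟩
  have hyC : y ∈ C := by
    rintro ⟨x', hx'N, hx'⟩
    exact hx'N (huniq x' hx' ▸ hxN)
  let O₁ : Y.Opens := U₁ ⊓ C
  have hyO₁ : y ∈ O₁ := ⟨hyU₁, hyC⟩
  have hsub : ∀ x' : X, p x' ∈ O₁ → x' ∈ N := by
    intro x' hx'
    by_contra hn
    exact hx'.2 ⟨x', hn, rfl⟩
  haveI hq1 : IsClosedImmersion (p ∣_ O₁) :=
    restrict_of_le @IsClosedImmersion p (inf_le_left : O₁ ≤ U₁) hcl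
  haveI hq2 : Flat (p ∣_ O₁) := by
    refine Flat.of_stalkMap (f := p ∣_ O₁) fun x' => ?_
    refine (RingHom.Flat.respectsIso.arrow_mk_iso_iff (morphismRestrictStalkMap p O₁ x')).mpr ?_
    exact FlatAt.of_restrict p N hNflat x'.1 (hsub x'.1 x'.2)
  haveI hq3 : IsOpenImmersion (p ∣_ O₁) := IsOpenImmersion.of_flat_of_mono _
  -- the image
  refine ⟨O₁.ι ''ᵁ (p ∣_ O₁).opensRange, ?_, ?_⟩
  · refine ⟨⟨y, hyO₁⟩, ?_, rfl⟩
    have hx' : x ∈ p ⁻¹ᵁ O₁ := by
      change p x ∈ O₁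
      rw [hx]; exact hyO₁
    refine ⟨⟨x, hx'⟩, ?_⟩
    apply Subtype.ext
    rw [morphismRestrict_base_coe]
    exact hx
  · have h1 : IsIso (p ∣_ O₁ ∣_ (p ∣_ O₁).opensRange) := by
      rw [isIso_iff_isOpenImmersion_and_surjective]
      refine ⟨inferInstance, ⟨?_⟩⟩
      rintro ⟨z, x', rfl⟩
      refine ⟨⟨x', ⟨x', rfl⟩⟩, ?_⟩
      apply Subtype.ext
      rw [morphismRestrict_base_coe]
    exact ((isomorphisms Scheme.{u}).arrow_mk_iso_iff
      (morphismRestrictRestrict p O₁ _)).mp h1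

end Local

/-- the base change of `f` to a fibre of `h` is an isomorphism as soon as `f` is an isomorphism
over an open containing that fibre. -/
theorem isIso_fibreMap_of_isIso_restrict {X Y S : Scheme.{u}} (h : Y ⟶ S) (f : X ⟶ Y) (s : S)
    (O : Y.Opens) (hO : ∀ y : Y, h y = s → y ∈ O) [IsIso (f ∣_ O)]
    (e1 : (f ≫ h) ≫ 𝟙 S = f ≫ h)
    (e2 : S.fromSpecResidueField s ≫ 𝟙 S = 𝟙 _ ≫ S.fromSpecResidueField s) :
    IsIso (pullback.map (f ≫ h) (S.fromSpecResidueField s) h (S.fromSpecResidueField s) f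
      (𝟙 _) (𝟙 _) e1 e2) := by
  have sqA := bc_isPullback h f (S.fromSpecResidueField s) e1 e2
  have sqO := (isPullback_morphismRestrict f O).flip
  have hrange : Set.range (pullback.fst h (S.fromSpecResidueField s)) ⊆ Set.range O.ι := by
    rintro _ ⟨ξ, rfl⟩
    rw [Scheme.Opens.range_ι]
    apply hO
    have : (pullback.fst h (S.fromSpecResidueField s)) ξ ∈ Set.range (h.fiberι s) := ⟨ξ, rfl⟩
    rw [Scheme.Hom.range_fiberι] at this
    exact this
  let l : pullback h (S.fromSpecResidueField s) ⟶ (O : Scheme.{u}) :=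
    IsOpenImmersion.lift O.ι (pullback.fst h (S.fromSpecResidueField s)) hrange
  have hl : l ≫ O.ι = pullback.fst h (S.fromSpecResidueField s) :=
    IsOpenImmersion.lift_fac _ _ _
  set φ := pullback.map (f ≫ h) (S.fromSpecResidueField s) h (S.fromSpecResidueField s) f
      (𝟙 _) (𝟙 _) e1 e2 with hφdef
  let k : pullback (f ≫ h) (S.fromSpecResidueField s) ⟶ ((f ⁻¹ᵁ O : X.Opens) : Scheme.{u}) :=
    sqO.lift (pullback.fst (f ≫ h) (S.fromSpecResidueField s)) (φ ≫ l)
      (by rw [Category.assoc, hl]; exact sqA.w)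
  have hk1 : k ≫ (f ⁻¹ᵁ O).ι = pullback.fst (f ≫ h) (S.fromSpecResidueField s) :=
    sqO.lift_fst _ _ _
  have hk2 : k ≫ (f ∣_ O) = φ ≫ l := sqO.lift_snd _ _ _
  have big : IsPullback (k ≫ (f ⁻¹ᵁ O).ι) φ f (l ≫ O.ι) := by
    rw [hk1, hl]; exact sqA
  have small : IsPullback k φ (f ∣_ O) l := IsPullback.of_right big hk2 sqO
  exact small.isIso_snd_of_isIso

/-- **S10888**. -/
theorem s10888 {X Y S : Scheme.{u}} (g : X ⟶ S) (h : Y ⟶ S)
    [IsProper g] [LocallyOfFinitePresentation g] [Flat g] [IsProper h]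
    [LocallyOfFinitePresentation h]
    (f : X ⟶ Y) (w : f ≫ h = g) :
    ∃ U : S.Opens, (∀ s : S, s ∈ U ↔ ∃ e : g.fiber s ≅ h.fiber s,
        e.hom ≫ h.fiberι s = g.fiberι s ≫ f) ∧
      IsIso (f ∣_ (h ⁻¹ᵁ U)) := by
  subst w
  haveI : IsProper f := IsProper.of_comp f h
  haveI : LocallyOfFinitePresentation f :=
    Groth.Agent.H1.CritFib.locallyOfFinitePresentation_of_comp f h
  have e1 : (f ≫ h) ≫ 𝟙 S = f ≫ h := Category.comp_id _
  have e2 : ∀ s : S, S.fromSpecResidueField s ≫ 𝟙 S = 𝟙 _ ≫ S.fromSpecResidueField s :=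
    fun s => (Category.comp_id _).trans (Category.id_comp _).symm
  let φ : ∀ s : S, (f ≫ h).fiber s ⟶ h.fiber s := fun s =>
    pullback.map (f ≫ h) (S.fromSpecResidueField s) h (S.fromSpecResidueField s) f
      (𝟙 _) (𝟙 _) e1 (e2 s)
  have hφ : ∀ s : S, φ s ≫ h.fiberι s = (f ≫ h).fiberι s ≫ f := fun s =>
    pullback.lift_fst _ _ _
  have key : ∀ s : S, IsIso (φ s) → ∀ y : Y, h y = s →
      ∃ O : Y.Opens, y ∈ O ∧ IsIso (f ∣_ O) := by
    intro s hs y hy
    subst hy
    refine exists_isIso_restrict f y (isIso_fiberToSpecResidueField h f y _ _ hs) ?_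
    intro x hx
    refine flatAt_of_isIso_bc h f (h y) _ _ hs x ?_
    rw [Scheme.Hom.comp_apply, hx]
  -- the good locus
  let W : Set Y := {y | ∃ O : Y.Opens, y ∈ O ∧ IsIso (f ∣_ O)}
  have hWo : IsOpen W := by
    rw [isOpen_iff_forall_mem_open]
    rintro y ⟨O, hyO, hO⟩
    exact ⟨O, fun z hz => ⟨O, hz, hO⟩, O.2, hyO⟩
  have hcl : IsClosed (h '' Wᶜ) := h.isClosedMap _ hWo.isClosed_compl
  let U : S.Opens := ⟨(h '' Wᶜ)ᶜ, hcl.isOpen_compl⟩
  have hH : (isomorphisms Scheme.{u}) (f ∣_ (h ⁻¹ᵁ U)) := by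
    apply restrict_of_forall_exists
    intro y hy
    by_contra hn
    exact hy ⟨y, fun hyW => hn hyW, rfl⟩
  haveI : IsIso (f ∣_ (h ⁻¹ᵁ U)) := hH
  refine ⟨U, ?_, hH⟩
  intro s
  constructor
  · intro hs
    have hO : ∀ y : Y, h y = s → y ∈ h ⁻¹ᵁ U := by
      intro y hy
      change h y ∈ U
      rw [hy]; exact hs
    haveI : IsIso (φ s) := isIso_fibreMap_of_isIso_restrict h f s (h ⁻¹ᵁ U) hO e1 (e2 s)
    exact ⟨asIso (φ s), hφ s⟩
  · rintro ⟨e, he⟩
    have hee : e.hom = φ s := by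
      rw [← cancel_mono (h.fiberι s), he, hφ]
    have hiso : IsIso (φ s) := by rw [← hee]; infer_instance
    rintro ⟨y, hyW, hy⟩
    exact hyW (key s hiso y hy)

end Groth.Agent.H6.FibIso2
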