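import Mathlib
import Groth.Agent.Lib.Helper6.KInjG1

/-!
# Monomorphic quasi-isomorphisms of cochain complexes in a Grothendieck abelian category:
stability properties and the small object argument.
-/

set_option autoImplicit false

namespace Groth.Agent.H6.KInjG

open CategoryTheory Category Limits MorphismProperty ZeroObject

universe w w' v u

section ColimQis

variable {A : Type u} [Category.{v} A] [Abelian A] {ι : Type*} {c : ComplexShape ι}
variable {J : Type w} [Category.{w'} J]

/-- a functor to complexes as a complex of functors -/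
@[simps]
def cxF (F : J ⥤ HomologicalComplex A c) : HomologicalComplex (J ⥤ A) c where
  X i := F ⋙ HomologicalComplex.eval A c i
  d i i' :=
    { app := fun j => (F.obj j).d i i'
      naturality := fun j j' g => (F.map g).comm i i' }
  shape i i' h := by
    ext j
    exact (F.obj j).shape i i' h
  d_comp_d' i i' i'' _ _ := by
    ext j
    exact (F.obj j).d_comp_d i i' i''

/-- a natural transformation as a morphism of complexes of functors -/
@[simps]
def cxMap {F₁ F₂ : J ⥤ HomologicalComplex A c} (f : F₁ ⟶ F₂) : cxF F₁ ⟶ cxF F₂ where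
  f i := Functor.whiskerRight f (HomologicalComplex.eval A c i)
  comm' i i' _ := by
    ext j
    exact (f.app j).comm i i'

/-- evaluating the complex of functors gives back the values -/
def evalCxIso (F : J ⥤ HomologicalComplex A c) (j : J) :
    (((evaluation J A).obj j).mapHomologicalComplex c).obj (cxF F) ≅ F.obj j :=
  HomologicalComplex.Hom.isoOfComponents (fun i => Iso.refl _) (by
    intro i i' _
    exact (Category.id_comp _).trans (Category.comp_id _).symm)

lemma quasiIso_cxMap {F₁ F₂ : J ⥤ HomologicalComplex A c} (f : F₁ ⟶ F₂)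
    (hf : ∀ j, QuasiIso (f.app j)) : QuasiIso (cxMap f) := by
  rw [HomologicalComplex.quasiIso_iff_evaluation]
  intro j
  have : (((evaluation J A).obj j).mapHomologicalComplex c).map (cxMap f) =
      (evalCxIso F₁ j).hom ≫ f.app j ≫ (evalCxIso F₂ j).inv := by
    ext i
    exact ((Category.id_comp _).trans (Category.comp_id _)).symm
  rw [this]
  have := hf j
  infer_instance

variable [HasColimitsOfShape J A]

/-- the termwise colimit -/
noncomputable abbrev colimCx (F : J ⥤ HomologicalComplex A c) : HomologicalComplex A c :=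
  ((colim : (J ⥤ A) ⥤ A).mapHomologicalComplex c).obj (cxF F)

/-- the inclusions into the termwise colimit -/
@[simps]
noncomputable def colimCxι (F : J ⥤ HomologicalComplex A c) (j : J) : F.obj j ⟶ colimCx F where
  f i := colimit.ι ((cxF F).X i) j
  comm' i i' _ := by
    change colimit.ι ((cxF F).X i) j ≫ colimMap ((cxF F).d i i') = _
    rw [ι_colimMap]
    rfl

/-- the cocone of the termwise colimit -/
noncomputable def colimCxCocone (F : J ⥤ HomologicalComplex A c) : Cocone F where
  pt := colimCx F
  ι :=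
    { app := colimCxι F
      naturality := fun j j' g => by
        ext i
        refine Eq.trans ?_ (Eq.trans (colimit.w ((cxF F).X i) g) ?_)
        · rfl
        · simp }

/-- the termwise colimit is a colimit -/
noncomputable def isColimitColimCxCocone (F : J ⥤ HomologicalComplex A c) :
    IsColimit (colimCxCocone F) :=
  HomologicalComplex.isColimitOfEval _ _ (fun i =>
    IsColimit.ofIsoColimit (colimit.isColimit ((cxF F).X i))
      (Cocone.ext (Iso.refl _) (fun j => Category.comp_id _)))

/-- quasi-isomorphisms are stable under colimits of shape `J` when these are exact -/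
theorem quasiIso_of_isColimit [HasExactColimitsOfShape J A]
    {F₁ F₂ : J ⥤ HomologicalComplex A c}
    {c₁ : Cocone F₁} {c₂ : Cocone F₂} (h₁ : IsColimit c₁) (h₂ : IsColimit c₂) (f : F₁ ⟶ F₂)
    (hf : ∀ j, QuasiIso (f.app j)) (φ : c₁.pt ⟶ c₂.pt)
    (hφ : ∀ j, c₁.ι.app j ≫ φ = f.app j ≫ c₂.ι.app j) : QuasiIso φ := by
  let e₁ : colimCx F₁ ≅ c₁.pt := (isColimitColimCxCocone F₁).coconePointUniqueUpToIso h₁
  let e₂ : colimCx F₂ ≅ c₂.pt := (isColimitColimCxCocone F₂).coconePointUniqueUpToIso h₂
  have he₁ : ∀ j, colimCxι F₁ j ≫ e₁.hom = c₁.ι.app j := fun j =>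
    (isColimitColimCxCocone F₁).comp_coconePointUniqueUpToIso_hom h₁ j
  have he₂ : ∀ j, colimCxι F₂ j ≫ e₂.hom = c₂.ι.app j := fun j =>
    (isColimitColimCxCocone F₂).comp_coconePointUniqueUpToIso_hom h₂ j
  have hmap : ∀ j, colimCxι F₁ j ≫
      ((colim : (J ⥤ A) ⥤ A).mapHomologicalComplex c).map (cxMap f) =
        f.app j ≫ colimCxι F₂ j := by
    intro j
    ext i
    change colimit.ι ((cxF F₁).X i) j ≫ colimMap ((cxMap f).f i) = _
    rw [ι_colimMap]
    rfl
  have h : e₁.hom ≫ φ =
      ((colim : (J ⥤ A) ⥤ A).mapHomologicalComplex c).map (cxMap f) ≫ e₂.hom := by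
    apply (isColimitColimCxCocone F₁).hom_ext
    intro j
    change colimCxι F₁ j ≫ _ = colimCxι F₁ j ≫ _
    rw [reassoc_of% (he₁ j), hφ, reassoc_of% (hmap j), he₂]
  have h' : φ = e₁.inv ≫
      ((colim : (J ⥤ A) ⥤ A).mapHomologicalComplex c).map (cxMap f) ≫ e₂.hom := by
    rw [← h, Iso.inv_hom_id_assoc]
  have := quasiIso_cxMap f hf
  rw [h']
  infer_instance

end ColimQis

section W

variable (A : Type u) [Category.{v} A] [Abelian A]

/-- monomorphisms that are quasi-isomorphisms -/
def monoQis : MorphismProperty (CochainComplex A ℤ) :=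
  monomorphisms (CochainComplex A ℤ) ⊓ HomologicalComplex.quasiIso A (ComplexShape.up ℤ)

variable {A}

lemma monoQis_iff {X Y : CochainComplex A ℤ} (f : X ⟶ Y) :
    monoQis A f ↔ Mono f ∧ QuasiIso f := Iff.rfl

instance : (monoQis A).RespectsIso := by unfold monoQis; infer_instance
instance : (monoQis A).IsMultiplicative := by unfold monoQis; infer_instance
instance : (monoQis A).IsStableUnderRetracts := by unfold monoQis; infer_instance

lemma quasiIso_of_acyclic {K L : CochainComplex A ℤ} (hK : K.Acyclic) (hL : L.Acyclic)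
    (f : K ⟶ L) : QuasiIso f := by
  rw [quasiIso_iff]
  intro i
  rw [quasiIsoAt_iff_exactAt' f i (hL i)]
  exact hK i

lemma quasiIso_f_of_acyclic (S : ShortComplex (CochainComplex A ℤ)) (hS : S.ShortExact)
    (h : S.X₃.Acyclic) : QuasiIso S.f := by
  rw [quasiIso_iff]
  intro i
  rw [quasiIsoAt_iff_isIso_homologyMap]
  have h3 : ∀ j, IsZero (S.X₃.homology j) := fun j => by
    rw [← HomologicalComplex.exactAt_iff_isZero_homology]
    exact h j
  have hm : Mono (HomologicalComplex.homologyMap S.f i) :=
    (hS.homology_exact₁ (i - 1) i (by simp)).mono_g ((h3 _).eq_of_src _ _)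
  have he : Epi (HomologicalComplex.homologyMap S.f i) :=
    (hS.homology_exact₂ i).epi_f ((h3 _).eq_of_tgt _ _)
  exact isIso_of_mono_of_epi _

lemma quasiIso_of_isPushout {X X' Y Y' : CochainComplex A ℤ} {f : X ⟶ X'} {g : X ⟶ Y}
    {f' : Y ⟶ Y'} {g' : X' ⟶ Y'} (sq : IsPushout g f f' g') [Mono f] (hf : QuasiIso f) :
    QuasiIso f' := by
  have hmono : Mono f' :=
    IsStableUnderCobaseChange.of_isPushout (P := monomorphisms _) sq (inferInstanceAs (Mono f))
  let π := cokernel.π f
  let π' : Y' ⟶ cokernel f := sq.desc 0 π (by simp [π])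
  have h1 : f' ≫ π' = 0 := sq.inl_desc _ _ _
  have h2 : g' ≫ π' = π := sq.inr_desc _ _ _
  have hepi : Epi π' := epi_of_epi_fac h2
  let S : ShortComplex (CochainComplex A ℤ) := ShortComplex.mk f π (cokernel.condition f)
  have hS : S.ShortExact := ShortComplex.ShortExact.mk' (ShortComplex.exact_cokernel f)
    (inferInstanceAs (Mono f)) (inferInstanceAs (Epi (cokernel.π f)))
  have hQ : (cokernel f).Acyclic := hS.acyclic_X₃ hf
  let S' : ShortComplex (CochainComplex A ℤ) := ShortComplex.mk f' π' h1
  have hS' : S'.ShortExact := by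
    refine ShortComplex.ShortExact.mk' (S'.exact_of_g_is_cokernel ?_) hmono hepi
    refine CokernelCofork.IsColimit.ofπ' π' h1
      (fun {Z} k hk => ⟨cokernel.desc f (g' ≫ k) ?_, ?_⟩)
    · rw [← sq.w_assoc, hk, comp_zero]
    · apply sq.hom_ext
      · rw [reassoc_of% h1, zero_comp, hk]
      · rw [reassoc_of% h2]
        simp [π]
  exact quasiIso_f_of_acyclic S' hS' hQ

instance : (monoQis A).IsStableUnderCobaseChange where
  of_isPushout sq hf := by
    haveI := hf.1
    exact ⟨IsStableUnderCobaseChange.of_isPushout (P := monomorphisms _) sq hf.1,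
      quasiIso_of_isPushout sq hf.2⟩

lemma monoQis_stableColim (J : Type w) [Category.{w'} J] [HasColimitsOfShape J A]
    [HasExactColimitsOfShape J A]
    [(monomorphisms (CochainComplex A ℤ)).IsStableUnderColimitsOfShape J] :
    (monoQis A).IsStableUnderColimitsOfShape J where
  condition X₁ X₂ c₁ c₂ h₁ h₂ f hf φ hφ :=
    ⟨IsStableUnderColimitsOfShape.condition (W := monomorphisms _) X₁ X₂ c₁ c₂ h₁ h₂ f
      (fun j => (hf j).1) φ hφ,
      quasiIso_of_isColimit h₁ h₂ f (fun j => (hf j).2) φ hφ⟩

variable [IsGrothendieckAbelian.{v} A]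

instance : IsStableUnderFilteredColimits.{v, v} (monoQis A) where
  isStableUnderColimitsOfShape J _ _ := monoQis_stableColim J

instance : IsStableUnderCoproducts.{v} (monoQis A) where
  isStableUnderCoproductsOfShape J := monoQis_stableColim (Discrete J)

attribute [local instance] IsFiltered.isConnected

set_option backward.defeqAttrib.useBackward true in
set_option backward.isDefEq.respectTransparency false in
lemma quasiIso_of_isColimit_monoOver {X : CochainComplex A ℤ} {J : Type v} [SmallCategory J]
    [IsFiltered J] (F : J ⥤ MonoOver X)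
    {c : Cocone (F ⋙ MonoOver.forget _ ⋙ Over.forget _)} (hc : IsColimit c) (f : c.pt ⟶ X)
    (hf : ∀ j, c.ι.app j ≫ f = (F.obj j).obj.hom) (hq : ∀ j, QuasiIso (F.obj j).obj.hom) :
    QuasiIso f := by
  let α : F ⋙ MonoOver.forget _ ⋙ Over.forget _ ⟶ (Functor.const _).obj X :=
    { app j := (F.obj j).obj.hom }
  exact quasiIso_of_isColimit hc (isColimitConstCocone J X) α hq f (by simpa using hf)

lemma quasiIso_iSup_arrow {X : CochainComplex A ℤ} (K : Type v) [LinearOrder K] [Nonempty K]
    (a : K → Subobject X) (ha : Monotone a) (hq : ∀ k, QuasiIso (a k).arrow) :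
    QuasiIso (⨆ k, a k).arrow := by
  let F : K ⥤ MonoOver X :=
    { obj := fun k => MonoOver.mk (a k).arrow
      map := fun {k k'} g => MonoOver.homMk (Subobject.ofLE _ _ (ha (leOfHom g))) }
  let D := F ⋙ MonoOver.forget X ⋙ Over.forget X
  let f : colimit D ⟶ X := colimit.desc D (Cocone.mk X
    { app := fun k => (F.obj k).obj.hom
      naturality := fun k k' g => by simp [D, F, MonoOver.forget] })
  have hf : ∀ k, colimit.ι D k ≫ f = (F.obj k).obj.hom := fun k => by simp [f]
  haveI := IsGrothendieckAbelian.mono_of_isColimit_monoOver F (colimit.isColimit _) f hf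
  have h1 := IsGrothendieckAbelian.subobjectMk_of_isColimit_eq_iSup F (colimit.isColimit _) f hf
  have h2 : QuasiIso f := quasiIso_of_isColimit_monoOver F (colimit.isColimit _) f hf hq
  have h3 : (⨆ k, a k) = Subobject.mk f := by
    rw [h1]
    congr 1
    funext k
    exact (Subobject.mk_arrow _).symm
  rw [h3, ← Subobject.underlyingIso_hom_comp_eq_mk]
  infer_instance

end W

section Adaptor

variable {A : Type u} [Category.{v} A] [Abelian A] [IsGrothendieckAbelian.{v} A]
variable (E : CochainComplex A ℤ)

/-- the generating family: inclusions of the acyclic subobjects of `E` -/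
def genJ : MorphismProperty (CochainComplex A ℤ) :=
  MorphismProperty.ofHoms
    (fun (S : {S : Subobject E // HomologicalComplex.Acyclic (S : CochainComplex A ℤ)}) =>
      S.1.arrow)

instance : MorphismProperty.IsSmall.{v} (genJ E) := by
  dsimp [genJ]
  infer_instance

lemma genJ_mk (S : Subobject E) (hS : HomologicalComplex.Acyclic (S : CochainComplex A ℤ)) :
    genJ E S.arrow :=
  ofHoms.mk (f := fun (S : {S : Subobject E //
    HomologicalComplex.Acyclic (S : CochainComplex A ℤ)}) => S.1.arrow) ⟨S, hS⟩

lemma genJ_le_monoQis (hE : E.Acyclic) : genJ E ≤ monoQis A := by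
  rintro _ _ _ ⟨S⟩
  exact ⟨inferInstanceAs (Mono S.1.arrow), quasiIso_of_acyclic S.2 hE _⟩

/-- the local hypothesis: every proper monomorphic quasi-isomorphism can be enlarged along `E` -/
def LSHyp : Prop :=
  ∀ {V₀ V : CochainComplex A ℤ} (p : V₀ ⟶ V), Mono p → QuasiIso p → ¬ IsIso p →
    ∃ (T : CochainComplex A ℤ) (t : T ⟶ V₀) (m : T ⟶ E) (ψ : E ⟶ V),
      IsPullback t m p ψ ∧ T.Acyclic ∧ ¬ ∃ a : E ⟶ V₀, a ≫ p = ψ

variable {E}

set_option backward.defeqAttrib.useBackward true in
set_option backward.isDefEq.respectTransparency false in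
lemma exists_larger (hE : E.Acyclic) (hLS : LSHyp E) {X : CochainComplex A ℤ}
    (S : Subobject X) (hS : S ≠ ⊤) (hq : QuasiIso S.arrow) :
    ∃ (S' : Subobject X) (h : S < S'), QuasiIso S'.arrow ∧
      (genJ E).pushouts (Subobject.ofLE S S' h.le) := by
  induction S using Subobject.ind with | _ g
  have hg : QuasiIso g := by
    have e : g = (Subobject.underlyingIso g).inv ≫ (Subobject.mk g).arrow := by
      rw [← Subobject.underlyingIso_hom_comp_eq_mk, Iso.inv_hom_id_assoc]
    rw [e]
    infer_instance
  have hni : ¬ IsIso g := by simpa only [Subobject.isIso_iff_mk_eq_top] using hS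
  obtain ⟨T, t, m, ψ, sq, hT, hψ⟩ := hLS g inferInstance hg hni
  haveI : Mono m := sq.mono_snd_of_mono
  have hm : QuasiIso m := quasiIso_of_acyclic hT hE m
  let i := pushout.inl t m
  let p' : pushout t m ⟶ X := pushout.desc g ψ sq.w
  have fac : i ≫ p' = g := pushout.inl_desc _ _ _
  have fac' : pushout.inr t m ≫ p' = ψ := pushout.inr_desc _ _ _
  haveI : Mono p' :=
    (IsPushout.of_hasPushout t m).mono_of_isPullback_of_mono sq p' fac fac'
  have hi : QuasiIso i := quasiIso_of_isPushout (IsPushout.of_hasPushout t m) hm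
  have hp' : QuasiIso p' := by
    haveI : QuasiIso (i ≫ p') := by rw [fac]; exact hg
    exact quasiIso_of_comp_left i p'
  have hi' : ¬ IsIso i := by
    intro h
    exact hψ ⟨pushout.inr t m ≫ inv i, by
      rw [assoc, ← fac, IsIso.inv_hom_id_assoc, fac']⟩
  have hJ : (genJ E).pushouts i := by
    refine ⟨_, _, (Subobject.mk m).arrow, (Subobject.underlyingIso _).hom ≫ t, pushout.inr t m,
      genJ_mk E (Subobject.mk m) (fun k => (hT k).of_iso (Subobject.underlyingIso m).symm),
      (IsPushout.of_hasPushout t m).of_iso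
        ((Subobject.underlyingIso _).symm) (Iso.refl _) (Iso.refl _)
        (Iso.refl _) (by simp [i]) (by simp [i]) (by simp [i]) (by simp [i])⟩
  refine ⟨Subobject.mk p', Subobject.mk_lt_mk_of_comm i fac hi', ?_, ?_⟩
  · rw [← Subobject.underlyingIso_hom_comp_eq_mk]
    infer_instance
  · refine (MorphismProperty.arrow_mk_iso_iff _ ?_).2 hJ
    refine Arrow.isoMk (Subobject.underlyingIso g) (Subobject.underlyingIso p') ?_
    dsimp
    simp only [← cancel_mono p', assoc, fac,
      Subobject.underlyingIso_hom_comp_eq_mk, Subobject.ofLE_arrow]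

theorem monoQis_le_llp_rlp_genJ (hE : E.Acyclic) (hLS : LSHyp E) :
    monoQis A ≤ (genJ E).rlp.llp := by
  intro Y X f hf
  haveI : Mono f := hf.1
  rw [← rlp_pushouts]
  refine llp_rlp_of_iterate.{v} (genJ E).pushouts (fun S : Subobject X => QuasiIso S.arrow)
    ?_ (fun S hS hq => exists_larger hE hLS S hS hq)
    (fun K _ _ a ha hq => quasiIso_iSup_arrow K a ha hq) f ?_
  · intro Z
    refine isomorphisms_le_pushouts _ (fun Z' => ?_) (𝟙 Z) (isomorphisms.infer_property _)
    exact ⟨_, _, (⊤ : Subobject E).arrow,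
      genJ_mk E ⊤ (fun k => (hE k).of_iso (asIso (⊤ : Subobject E).arrow).symm), 0,
      inferInstanceAs (IsIso (⊤ : Subobject E).arrow)⟩
  · show QuasiIso (Subobject.mk f).arrow
    rw [← Subobject.underlyingIso_hom_comp_eq_mk]
    haveI : QuasiIso f := hf.2
    infer_instance

/-- The small object argument output: every complex embeds by a monomorphic quasi-isomorphism
into a complex having the extension property against all monomorphic quasi-isomorphisms. -/
theorem exists_fibrant_replacement (hE : E.Acyclic) (hLS : LSHyp E) (M : CochainComplex A ℤ) :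
    ∃ (I : CochainComplex A ℤ) (i : M ⟶ I), Mono i ∧ QuasiIso i ∧
      ∀ {X Y : CochainComplex A ℤ} (w : X ⟶ Y), Mono w → QuasiIso w → ∀ g : X ⟶ I,
        ∃ l : Y ⟶ I, w ≫ l = g := by
  haveI : HasSmallObjectArgument.{v} (genJ E) :=
    hasSmallObjectArgument_of_le_monomorphisms _ (fun _ _ f hf => (genJ_le_monoQis E hE _ hf).1)
  have hllp : (genJ E).rlp.llp ≤ monoQis A := by
    rw [llp_rlp_of_hasSmallObjectArgument]
    trans (transfiniteCompositions.{v} (coproducts.{v} (monoQis A)).pushouts).retracts
    · apply retracts_monotone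
      apply transfiniteCompositions_monotone
      apply pushouts_monotone
      apply coproducts_monotone
      exact genJ_le_monoQis E hE
    · simp
  let fac := (functorialFactorizationData (genJ E).rlp.llp (genJ E).rlp).factorizationData
    (0 : M ⟶ 0)
  refine ⟨fac.Z, fac.i, (hllp _ fac.hi).1, (hllp _ fac.hi).2, ?_⟩
  intro X Y w hw hq g
  have hw' : (genJ E).rlp.llp w := monoQis_le_llp_rlp_genJ hE hLS _ ⟨hw, hq⟩
  haveI : HasLiftingProperty w fac.p := hw' _ fac.hp
  have sq : CommSq g w fac.p (0 : Y ⟶ 0) := ⟨(isZero_zero _).eq_of_tgt _ _⟩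
  exact ⟨sq.lift, sq.fac_left⟩

end Adaptor

end Groth.Agent.H6.KInjG
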