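import Mathlib
import Groth.Agent.Lib.Helper2.CoprodCx2

/-! # Limits of towers of complexes which are eventually exact in each degree -/

universe v u
open CategoryTheory Limits Opposite

namespace Groth.Agent.H6.KRes

section SplitEpi

variable {𝒜 : Type u} [Category.{v} 𝒜] [Preadditive 𝒜]
  {X : ℕ → 𝒜} (τ : ∀ n, X (n + 1) ⟶ X n) (σ : ∀ n, X n ⟶ X (n + 1))
  {P : 𝒜} (pr : ∀ n, P ⟶ X n)

/-- components of the section of `1 - shift` -/
def secComp : ∀ n, P ⟶ X n
  | 0 => 0
  | (n + 1) => (secComp n - pr n) ≫ σ n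

lemma exists_section (hσ : ∀ n, σ n ≫ τ n = 𝟙 _)
    (hext : ∀ (a b : P ⟶ P), (∀ n, a ≫ pr n = b ≫ pr n) → a = b)
    (hlift : ∀ (g : ∀ n, P ⟶ X n), ∃ l : P ⟶ P, ∀ n, l ≫ pr n = g n)
    (S : P ⟶ P) (hS : ∀ n, S ≫ pr n = pr (n + 1) ≫ τ n) :
    ∃ h : P ⟶ P, h ≫ (𝟙 _ - S) = 𝟙 _ := by
  obtain ⟨h, hh⟩ := hlift (secComp σ pr)
  refine ⟨h, hext _ _ (fun n => ?_)⟩
  rw [Category.assoc, Preadditive.sub_comp, Category.id_comp, hS, Preadditive.comp_sub,
    hh, ← Category.assoc, hh]
  change secComp σ pr n - ((secComp σ pr n - pr n) ≫ σ n) ≫ τ n = pr n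
  rw [Category.assoc, hσ, Category.comp_id]
  abel

lemma isIso_one_sub_of_pow {E : 𝒜} (u : E ⟶ E) (N : ℕ)
    (up : ℕ → (E ⟶ E)) (h0 : up 0 = 𝟙 E) (hs : ∀ k, up (k + 1) = u ≫ up k) (hN : up N = 0) :
    IsIso (𝟙 E - u) := by
  have hp : ∀ k, ((End.of u) ^ k) = up k := by
    intro k
    induction k with
    | zero => rw [pow_zero, h0]; rfl
    | succ k ih => rw [pow_succ, End.mul_def, ih, hs]
  have hnil : IsNilpotent (End.of u) := ⟨N, by rw [hp, hN]⟩
  exact (isUnit_iff_isIso (X := E) ((1 : End E) - End.of u)).1 hnil.isUnit_one_sub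

end SplitEpi

section Pi

variable {A : Type u} [Category.{v} A] [Abelian A] [HasLimitsOfShape (Discrete ℕ) A]
  {ι : Type*} {c : ComplexShape ι}

open Groth.Agent.H2.CoprodCx

/-- the termwise product of a sequence of complexes -/
noncomputable abbrev pi (K : ℕ → HomologicalComplex A c) : HomologicalComplex A c :=
  ((lim : (Discrete ℕ ⥤ A) ⥤ A).mapHomologicalComplex c).obj (fam K)

/-- the projections -/
noncomputable def piπ (K : ℕ → HomologicalComplex A c) (n : ℕ) : pi K ⟶ K n where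
  f i := limit.π ((fam K).X i) ⟨n⟩
  comm' i i' _ := by
    change limit.π ((fam K).X i) ⟨n⟩ ≫ (K n).d i i' =
      limMap ((fam K).d i i') ≫ limit.π ((fam K).X i') ⟨n⟩
    rw [limMap_π]
    rfl

lemma pi_hom_ext (i : ι) (K : ℕ → HomologicalComplex A c) {W : A} (a b : W ⟶ (pi K).X i)
    (h : ∀ n, a ≫ (piπ K n).f i = b ≫ (piπ K n).f i) : a = b := by
  refine limit.hom_ext (F := (fam K).X i) ?_
  rintro ⟨n⟩
  exact h n

lemma pi_exists_lift (i : ι) (K : ℕ → HomologicalComplex A c) {W : A}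
    (g : ∀ n, W ⟶ (K n).X i) : ∃ l : W ⟶ (pi K).X i, ∀ n, l ≫ (piπ K n).f i = g n :=
  ⟨limit.lift ((fam K).X i) { pt := W, π := Discrete.natTrans (fun ⟨j⟩ => g j) },
    fun n => limit.lift_π _ _⟩

/-- the cone used to lift to the product -/
@[reducible] def piLiftCone (K : ℕ → HomologicalComplex A c) {W : HomologicalComplex A c}
    (g : ∀ n, W ⟶ K n) (i : ι) : Cone ((fam K).X i) where
  pt := W.X i
  π := Discrete.natTrans (fun ⟨j⟩ => (g j).f i)

/-- the lift to the product -/
noncomputable def piLift (K : ℕ → HomologicalComplex A c) {W : HomologicalComplex A c}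
    (g : ∀ n, W ⟶ K n) : W ⟶ pi K where
  f i := limit.lift ((fam K).X i) (piLiftCone K g i)
  comm' i i' _ := by
    apply pi_hom_ext i' K
    intro n
    change (limit.lift ((fam K).X i) (piLiftCone K g i) ≫ limMap ((fam K).d i i')) ≫
        limit.π ((fam K).X i') ⟨n⟩ =
      (W.d i i' ≫ limit.lift ((fam K).X i') (piLiftCone K g i')) ≫
        limit.π ((fam K).X i') ⟨n⟩
    rw [Category.assoc, limMap_π, limit.lift_π_assoc, Category.assoc, limit.lift_π]
    exact (g n).comm i i'

@[reassoc (attr := simp)]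
lemma piLift_π (K : ℕ → HomologicalComplex A c) {W : HomologicalComplex A c}
    (g : ∀ n, W ⟶ K n) (n : ℕ) : piLift K g ≫ piπ K n = g n := by
  ext i
  exact limit.lift_π _ _

lemma pi_hom_ext' (K : ℕ → HomologicalComplex A c) {W : HomologicalComplex A c}
    (a b : W ⟶ pi K) (h : ∀ n, a ≫ piπ K n = b ≫ piπ K n) : a = b := by
  ext i
  exact pi_hom_ext i K _ _ (fun n => HomologicalComplex.congr_hom (h n) i)

lemma exactAt_fam (K : ℕ → HomologicalComplex A c) (i : ι) (h : ∀ n, (K n).ExactAt i) :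
    (fam K).ExactAt i := by
  rw [HomologicalComplex.exactAt_iff, ShortComplex.exact_iff_isZero_homology,
    Functor.isZero_iff]
  rintro ⟨n⟩
  have e := ((fam K).sc i).mapHomologyIso ((evaluation (Discrete ℕ) A).obj ⟨n⟩)
  refine IsZero.of_iso ?_ e.symm
  have h' := h n
  rw [HomologicalComplex.exactAt_iff, ShortComplex.exact_iff_isZero_homology] at h'
  exact h'

variable [HasExactLimitsOfShape (Discrete ℕ) A]

lemma exactAt_pi (K : ℕ → HomologicalComplex A c) (i : ι) (h : ∀ n, (K n).ExactAt i) :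
    (pi K).ExactAt i := by
  have h1 := exactAt_fam K i h
  rw [HomologicalComplex.exactAt_iff] at h1 ⊢
  exact h1.map (lim : (Discrete ℕ ⥤ A) ⥤ A)

section Nil

variable (M : ℕ → HomologicalComplex A c) (t : ∀ n, M (n + 1) ⟶ M n)

/-- the shift endomorphism of the product -/
noncomputable def sh : pi M ⟶ pi M := piLift M (fun n => piπ M (n + 1) ≫ t n)

@[reassoc]
lemma sh_π (n : ℕ) : sh M t ≫ piπ M n = piπ M (n + 1) ≫ t n := piLift_π _ _ _

/-- iterated transition maps -/
def tt : ∀ (N n : ℕ), M (n + N) ⟶ M n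
  | 0, _ => 𝟙 _
  | (N + 1), n => t (n + N) ≫ tt N n

/-- iterates of the shift -/
noncomputable def shPow : ℕ → (pi M ⟶ pi M)
  | 0 => 𝟙 _
  | (N + 1) => sh M t ≫ shPow N

lemma shPow_π (N n : ℕ) : shPow M t N ≫ piπ M n = piπ M (n + N) ≫ tt M t N n := by
  induction N generalizing n with
  | zero =>
    change 𝟙 _ ≫ piπ M n = piπ M n ≫ 𝟙 _
    rw [Category.id_comp, Category.comp_id]
  | succ N ih =>
    change (sh M t ≫ shPow M t N) ≫ piπ M n = piπ M (n + N + 1) ≫ t (n + N) ≫ tt M t N n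
    rw [Category.assoc, ih, sh_π_assoc]

lemma homologyMap_shPow_eq_zero (j : ι) (N : ℕ) (h : ∀ n, (M (n + N)).ExactAt j) :
    HomologicalComplex.homologyMap (shPow M t N) j = 0 := by
  have hfac : shPow M t N = piLift (fun n => M (n + N)) (fun n => piπ M (n + N)) ≫
      piLift M (fun n => piπ (fun n => M (n + N)) n ≫ tt M t N n) := by
    apply pi_hom_ext'
    intro n
    rw [shPow_π, Category.assoc, piLift_π, piLift_π_assoc]
  rw [hfac, HomologicalComplex.homologyMap_comp]
  have hz : IsZero ((pi (fun n => M (n + N))).homology j) := by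
    rw [← HomologicalComplex.exactAt_iff_isZero_homology]
    exact exactAt_pi _ j h
  rw [hz.eq_of_tgt (HomologicalComplex.homologyMap _ j) 0, zero_comp]

lemma quasiIso_one_sub_sh (hM : ∀ j : ι, ∃ N : ℕ, ∀ n, (M (n + N)).ExactAt j) :
    QuasiIso (𝟙 (pi M) - sh M t) := by
  rw [quasiIso_iff]
  intro j
  rw [quasiIsoAt_iff_isIso_homologyMap]
  obtain ⟨N, hN⟩ := hM j
  have h1 : HomologicalComplex.homologyMap (𝟙 (pi M) - sh M t) j =
      𝟙 _ - HomologicalComplex.homologyMap (sh M t) j := by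
    have : (HomologicalComplex.homologyFunctor A c j).map (𝟙 (pi M) - sh M t) =
        (HomologicalComplex.homologyFunctor A c j).map (𝟙 (pi M)) -
          (HomologicalComplex.homologyFunctor A c j).map (sh M t) := Functor.map_sub _
    rw [CategoryTheory.Functor.map_id] at this
    exact this
  rw [h1]
  exact isIso_one_sub_of_pow _ N (fun k => HomologicalComplex.homologyMap (shPow M t k) j)
    (HomologicalComplex.homologyMap_id _ _) (fun k => HomologicalComplex.homologyMap_comp _ _ _)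
    (homologyMap_shPow_eq_zero M t j N hN)

/-- A complex which is degreewise the limit of a tower of complexes with degreewise split
epimorphic transition maps, eventually exact in each degree, is acyclic. -/
theorem acyclic_of_degreewise_limit
    (hsplit : ∀ n i, ∃ σ : (M n).X i ⟶ (M (n + 1)).X i, σ ≫ (t n).f i = 𝟙 _)
    (hM : ∀ j : ι, ∃ N : ℕ, ∀ n, (M (n + N)).ExactAt j)
    (X : HomologicalComplex A c) (γ : ∀ n, X ⟶ M n) (hγ : ∀ n, γ (n + 1) ≫ t n = γ n)
    (hext : ∀ (i : ι) (W : A) (a b : W ⟶ X.X i),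
      (∀ n, a ≫ (γ n).f i = b ≫ (γ n).f i) → a = b)
    (hlift : ∀ (i : ι) (W : A) (g : ∀ n, W ⟶ (M n).X i),
      (∀ n, g (n + 1) ≫ (t n).f i = g n) → ∃ l : W ⟶ X.X i, ∀ n, l ≫ (γ n).f i = g n) :
    X.Acyclic := by
  classical
  have hfD : piLift M γ ≫ (𝟙 _ - sh M t) = 0 := by
    apply pi_hom_ext'
    intro n
    rw [Category.assoc, Preadditive.sub_comp, Category.id_comp, sh_π, Preadditive.comp_sub,
      piLift_π, piLift_π_assoc, hγ, sub_self, zero_comp]
  let S : ShortComplex (HomologicalComplex A c) := ShortComplex.mk _ _ hfD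
  have hS : S.ShortExact := by
    apply HomologicalComplex.shortExact_of_degreewise_shortExact
    intro i
    have hfi : ∀ n, (piLift M γ).f i ≫ (piπ M n).f i = (γ n).f i := fun n => by
      rw [← HomologicalComplex.comp_f, piLift_π]
    have hshi : ∀ n, (sh M t).f i ≫ (piπ M n).f i = (piπ M (n + 1)).f i ≫ (t n).f i :=
      fun n => by rw [← HomologicalComplex.comp_f, sh_π, HomologicalComplex.comp_f]
    have hmono : Mono ((piLift M γ).f i) := ⟨fun a b hab => hext i _ a b (fun n => by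
      rw [← hfi n, ← Category.assoc, hab, Category.assoc])⟩
    have hepi : Epi ((𝟙 (pi M) - sh M t).f i) := by
      choose σ hσ using fun n => hsplit n i
      obtain ⟨h, hh⟩ := exists_section (fun n => (t n).f i) σ (fun n => (piπ M n).f i) hσ
        (pi_hom_ext i M) (pi_exists_lift i M) ((sh M t).f i) hshi
      haveI : IsSplitEpi ((𝟙 (pi M) - sh M t).f i) :=
        IsSplitEpi.mk' { section_ := h, id := (by
          rw [HomologicalComplex.sub_f_apply, HomologicalComplex.id_f]; exact hh) }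
      infer_instance
    refine ShortComplex.ShortExact.mk' ?_ hmono hepi
    refine ShortComplex.exact_of_f_is_kernel _ ?_
    haveI : Mono (S.map (HomologicalComplex.eval A c i)).f := hmono
    refine KernelFork.IsLimit.ofι' _ _ (fun {W} k hk => ?_)
    change W ⟶ (pi M).X i at k
    change k ≫ (𝟙 ((pi M).X i) - (sh M t).f i) = 0 at hk
    rw [Preadditive.comp_sub, Category.comp_id, sub_eq_zero] at hk
    have hc : ∀ n, (k ≫ (piπ M (n + 1)).f i) ≫ (t n).f i = k ≫ (piπ M n).f i := fun n => by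
      rw [Category.assoc, ← hshi, ← Category.assoc, ← hk]
    refine ⟨(hlift i W (fun n => k ≫ (piπ M n).f i) hc).choose, ?_⟩
    apply pi_hom_ext i M
    intro n
    change (_ ≫ (piLift M γ).f i) ≫ _ = _
    rw [Category.assoc, hfi]
    exact (hlift i W (fun n => k ≫ (piπ M n).f i) hc).choose_spec n
  exact hS.acyclic_X₁ (quasiIso_one_sub_sh M t hM)

end Nil

end Pi

end Groth.Agent.H6.KRes
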