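import Mathlib

/-! # Limits of towers: dropping the first term -/

universe v u
open CategoryTheory Limits Opposite

namespace Groth.Agent.H6.TowLim

variable {D : Type u} [Category.{v} D] (F : ℕ → D) (t : ∀ n, F (n + 1) ⟶ F n)

/-- the cone over a tower given by compatible maps -/
def coneOf {A : D} (α : ∀ n, A ⟶ F n) (hα : ∀ n, α (n + 1) ≫ t n = α n) :
    Cone (Functor.ofOpSequence t) where
  pt := A
  π := NatTrans.ofOpSequence (F := (Functor.const ℕᵒᵖ).obj A) (G := Functor.ofOpSequence t)
    (fun n => α n) (fun n => by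
      rw [Functor.ofOpSequence_map_homOfLE_succ]
      change 𝟙 A ≫ α n = α (n + 1) ≫ t n
      rw [Category.id_comp, hα])

variable [HasLimit (Functor.ofOpSequence t)]

/-- the projections of the limit of a tower -/
noncomputable def π (n : ℕ) : limit (Functor.ofOpSequence t) ⟶ F n :=
  limit.π (Functor.ofOpSequence t) (op n)

lemma π_succ (n : ℕ) : π F t (n + 1) ≫ t n = π F t n := by
  have h := limit.w (Functor.ofOpSequence t) (homOfLE (Nat.le_add_right n 1)).op
  rwa [Functor.ofOpSequence_map_homOfLE_succ] at h

/-- the map to the limit of a tower given by compatible maps -/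
noncomputable def lift {A : D} (α : ∀ n, A ⟶ F n) (hα : ∀ n, α (n + 1) ≫ t n = α n) :
    A ⟶ limit (Functor.ofOpSequence t) :=
  limit.lift (Functor.ofOpSequence t) (coneOf F t α hα)

lemma lift_π {A : D} (α : ∀ n, A ⟶ F n) (hα : ∀ n, α (n + 1) ≫ t n = α n) (n : ℕ) :
    lift F t α hα ≫ π F t n = α n :=
  limit.lift_π (coneOf F t α hα) (op n)

lemma hom_ext {A : D} (f g : A ⟶ limit (Functor.ofOpSequence t))
    (h : ∀ n, f ≫ π F t n = g ≫ π F t n) : f = g := by
  apply limit.hom_ext
  rintro ⟨n⟩
  exact h n

variable [HasLimit (Functor.ofOpSequence (X := fun n => F (n + 1)) (fun n => t (n + 1)))]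

/-- dropping the first term of a tower does not change the limit -/
noncomputable def shiftIso :
    limit (Functor.ofOpSequence t) ≅ limit (Functor.ofOpSequence (X := fun n => F (n + 1)) (fun n => t (n + 1))) where
  hom := lift (fun n => F (n + 1)) (fun n => t (n + 1)) (fun n => π F t (n + 1))
    (fun n => π_succ F t (n + 1))
  inv := lift F t (fun n => π (fun n => F (n + 1)) (fun n => t (n + 1)) n ≫ t n) (fun n => by
    rw [π_succ (fun n => F (n + 1)) (fun n => t (n + 1)) n])
  hom_inv_id := by
    apply hom_ext F t
    intro n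
    rw [Category.assoc, lift_π, ← Category.assoc, lift_π, π_succ, Category.id_comp]
  inv_hom_id := by
    apply hom_ext (fun n => F (n + 1)) (fun n => t (n + 1))
    intro n
    rw [Category.assoc, lift_π, lift_π, π_succ (fun n => F (n + 1)) (fun n => t (n + 1)) n,
      Category.id_comp]

end Groth.Agent.H6.TowLim
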