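import Mathlib
import Groth.Agent.Lib.Helper6.KRes1
import Groth.Agent.Lib.Helper6.TowLim
import Groth.Agent.Lib.Helper2.Tower4
import Groth.Agent.Lib.Helper2.KInjLim

/-! # K-injective resolutions when countable products are exact -/

universe v u
open CategoryTheory Limits Opposite CochainComplex ZeroObject

namespace Groth.Agent.H6.KRes

lemma hasLimitsOfShape_nat_op (A : Type u) [Category.{v} A] [HasLimitsOfShape (Discrete ℕ) A]
    [HasEqualizers A] : HasLimitsOfShape ℕᵒᵖ A := by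
  haveI : HasLimitsOfShape (Discrete ℕᵒᵖ) A :=
    hasLimitsOfShape_of_equivalence (Discrete.equivalence (Opposite.equivToOpposite (α := ℕ)))
  haveI : Countable (Σ p : ℕᵒᵖ × ℕᵒᵖ, p.1 ⟶ p.2) := by
    have hinj : Function.Injective
        (fun x : (Σ p : ℕᵒᵖ × ℕᵒᵖ, p.1 ⟶ p.2) => (x.1.1.unop, x.1.2.unop)) := by
      rintro ⟨⟨a, b⟩, f⟩ ⟨⟨a', b'⟩, f'⟩ h
      simp only [Prod.mk.injEq] at h
      obtain ⟨h1, h2⟩ := h
      obtain rfl : a = a' := Opposite.unop_injective h1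
      obtain rfl : b = b' := Opposite.unop_injective h2
      congr 1
      exact Quiver.Hom.unop_inj (Subsingleton.elim _ _)
    exact hinj.countable
  haveI : Infinite (Σ p : ℕᵒᵖ × ℕᵒᵖ, p.1 ⟶ p.2) :=
    Infinite.of_injective
      (fun n : ℕ => (⟨(op n, op n), 𝟙 _⟩ : Σ p : ℕᵒᵖ × ℕᵒᵖ, p.1 ⟶ p.2)) (fun m n h => by
        have := congr_arg (fun x : (Σ p : ℕᵒᵖ × ℕᵒᵖ, p.1 ⟶ p.2) => x.1.1.unop) h
        exact this)
  obtain ⟨e⟩ : Nonempty (ℕ ≃ (Σ p : ℕᵒᵖ × ℕᵒᵖ, p.1 ⟶ p.2)) := nonempty_equiv_of_countable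
  haveI : HasLimitsOfShape (Discrete (Σ p : ℕᵒᵖ × ℕᵒᵖ, p.1 ⟶ p.2)) A :=
    hasLimitsOfShape_of_equivalence (Discrete.equivalence e)
  exact ⟨fun F => hasLimit_of_equalizer_and_product F⟩

variable {A : Type u} [Category.{v} A] [Abelian A]

section Cone
open mappingCone HomComplex

variable {K₁ L₁ K₂ L₂ : CochainComplex A ℤ} (φ₁ : K₁ ⟶ L₁) (φ₂ : K₂ ⟶ L₂)
  (a : K₁ ⟶ K₂) (b : L₁ ⟶ L₂) (comm : φ₁ ≫ b = a ≫ φ₂)

lemma map_f_fst (i j : ℤ) (hij : i + 1 = j) :
    (mappingCone.map φ₁ φ₂ a b comm).f i ≫ (fst φ₂).1.v i j hij =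
      (fst φ₁).1.v i j hij ≫ a.f j := by
  subst hij
  simp [ext_from_iff _ (i + 1) i rfl, mappingCone.map]

lemma map_f_snd (i : ℤ) :
    (mappingCone.map φ₁ φ₂ a b comm).f i ≫ (snd φ₂).v i i (add_zero i) =
      (snd φ₁).v i i (add_zero i) ≫ b.f i := by
  simp [ext_from_iff _ (i + 1) i rfl, mappingCone.map]

lemma map_congr' {a a' : K₁ ⟶ K₂} {b b' : L₁ ⟶ L₂} (ha : a = a') (hb : b = b')
    (comm : φ₁ ≫ b = a ≫ φ₂) (comm' : φ₁ ≫ b' = a' ≫ φ₂) :
    mappingCone.map φ₁ φ₂ a b comm = mappingCone.map φ₁ φ₂ a' b' comm' := by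
  subst ha hb
  rfl

end Cone

section Derived

attribute [local instance] HasDerivedCategory.standard
open DerivedCategory

lemma isIso_homologyFunctor_map_Q_iff {K L : CochainComplex A ℤ} (φ : K ⟶ L) (j : ℤ) :
    IsIso ((DerivedCategory.homologyFunctor A j).map (Q.map φ)) ↔ QuasiIsoAt φ j := by
  rw [quasiIsoAt_iff_isIso_homologyMap]
  exact NatIso.isIso_map_iff (homologyFunctorFactors A j) φ

lemma exactAt_mappingCone {K L : CochainComplex A ℤ} (φ : K ⟶ L) (j : ℤ)
    (h1 : QuasiIsoAt φ j) (h2 : QuasiIsoAt φ (j + 1)) : (mappingCone φ).ExactAt j := by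
  have hT := mappingCone_triangle_distinguished φ
  have i1 : IsIso ((DerivedCategory.homologyFunctor A j).map
      (Q.mapTriangle.obj (mappingCone.triangle φ)).mor₁) :=
    (isIso_homologyFunctor_map_Q_iff φ j).2 h1
  have i2 : IsIso ((DerivedCategory.homologyFunctor A (j + 1)).map
      (Q.mapTriangle.obj (mappingCone.triangle φ)).mor₁) :=
    (isIso_homologyFunctor_map_Q_iff φ (j + 1)).2 h2
  have z2 := (HomologySequence.epi_homologyMap_mor₁_iff _ hT j).1 inferInstance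
  have zδ := (HomologySequence.mono_homologyMap_mor₁_iff _ hT j (j + 1) rfl).1 inferInstance
  have hz := (HomologySequence.exact₃ _ hT j (j + 1) rfl).isZero_X₂ z2 zδ
  rw [HomologicalComplex.exactAt_iff_isZero_homology]
  exact IsZero.of_iso hz ((homologyFunctorFactors A j).app (mappingCone φ)).symm

lemma quasiIso_of_acyclic_mappingCone {K L : CochainComplex A ℤ} (φ : K ⟶ L)
    (h : (mappingCone φ).Acyclic) : QuasiIso φ := by
  rw [← isIso_Q_map_iff_quasiIso]
  have hT := mappingCone_triangle_distinguished φ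
  refine (Pretriangulated.Triangle.isZero₃_iff_isIso₁ _ hT).1 ?_
  change IsZero (Q.obj (mappingCone φ))
  have hq : QuasiIso (0 : mappingCone φ ⟶ 0) := by
    rw [quasiIso_iff]
    intro i
    rw [quasiIsoAt_iff_exactAt' _ _ (HomologicalComplex.ExactAt.of_isZero
      (Functor.map_isZero (HomologicalComplex.eval A (ComplexShape.up ℤ) i) (isZero_zero _)))]
    exact h i
  have := (isIso_Q_map_iff_quasiIso (C := A) (φ := (0 : mappingCone φ ⟶ 0))).2 hq
  exact IsZero.of_iso (Q.map_isZero (isZero_zero _)) (asIso (Q.map (0 : mappingCone φ ⟶ 0)))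

end Derived

section ConeTower
open mappingCone HomComplex

variable (K : CochainComplex A ℤ) (Q : ℕ → CochainComplex A ℤ) (p : ∀ n, Q (n + 1) ⟶ Q n)
  (φ : ∀ n, K ⟶ Q n) (hφ : ∀ n, φ (n + 1) ≫ p n = φ n)

/-- transition maps of the tower of cones -/
noncomputable def cTrans (n : ℕ) : mappingCone (φ (n + 1)) ⟶ mappingCone (φ n) :=
  mappingCone.map (φ (n + 1)) (φ n) (𝟙 K) (p n) (by rw [hφ, Category.id_comp])

lemma cTrans_split (n : ℕ) (i : ℤ) (s : (Q n).X i ⟶ (Q (n + 1)).X i)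
    (hs : s ≫ (p n).f i = 𝟙 _) :
    ∃ σ : (mappingCone (φ n)).X i ⟶ (mappingCone (φ (n + 1))).X i,
      σ ≫ (cTrans K Q p φ hφ n).f i = 𝟙 _ := by
  refine ⟨(fst (φ n)).1.v i (i + 1) rfl ≫ (inl (φ (n + 1))).v (i + 1) i (by omega) +
      (snd (φ n)).v i i (add_zero i) ≫ s ≫ (inr (φ (n + 1))).f i, ?_⟩
  apply ext_to (φ n) i (i + 1) rfl
  · simp [cTrans, map_f_fst]
  · simp [cTrans, map_f_snd, hs]

lemma exists_exactAt_cone (hq : ∀ (n : ℕ) (j : ℤ), -(n : ℤ) ≤ j → QuasiIsoAt (φ n) j) (j : ℤ) :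
    ∃ N : ℕ, ∀ n, (mappingCone (φ (n + N))).ExactAt j :=
  ⟨(-j).toNat, fun n => exactAt_mappingCone _ j (hq _ _ (by push_cast; omega))
    (hq _ _ (by push_cast; omega))⟩

variable [HasLimitsOfShape ℕᵒᵖ A]

lemma lim_hext (i : ℤ) (W : A) (x y : W ⟶ (limit (Functor.ofOpSequence p)).X i)
    (h : ∀ n, x ≫ (TowLim.π Q p n).f i = y ≫ (TowLim.π Q p n).f i) : x = y := by
  have hl := isLimitOfPreserves (HomologicalComplex.eval A (ComplexShape.up ℤ) i)
    (limit.isLimit (Functor.ofOpSequence p))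
  apply hl.hom_ext
  rintro ⟨n⟩
  exact h n

lemma lim_hlift (i : ℤ) (W : A) (g : ∀ n, W ⟶ (Q n).X i)
    (hg : ∀ n, g (n + 1) ≫ (p n).f i = g n) :
    ∃ l : W ⟶ (limit (Functor.ofOpSequence p)).X i,
      ∀ n, l ≫ (TowLim.π Q p n).f i = g n := by
  have hl := isLimitOfPreserves (HomologicalComplex.eval A (ComplexShape.up ℤ) i)
    (limit.isLimit (Functor.ofOpSequence p))
  let s : Cone (Functor.ofOpSequence p ⋙ HomologicalComplex.eval A (ComplexShape.up ℤ) i) :=
    { pt := W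
      π := NatTrans.ofOpSequence (F := (Functor.const ℕᵒᵖ).obj W)
        (G := Functor.ofOpSequence p ⋙ HomologicalComplex.eval A (ComplexShape.up ℤ) i)
        (fun n => g n) (fun n => by
          change 𝟙 W ≫ g n =
            g (n + 1) ≫ ((Functor.ofOpSequence p).map (homOfLE (Nat.le_add_right n 1)).op).f i
          rw [Functor.ofOpSequence_map_homOfLE_succ, Category.id_comp]
          exact (hg n).symm) }
  exact ⟨hl.lift s, fun n => hl.fac s (op n)⟩

/-- the maps from the cone of the map to the limit to the tower of cones -/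
noncomputable def cγ (n : ℕ) :
    mappingCone (TowLim.lift Q p φ hφ) ⟶ mappingCone (φ n) :=
  mappingCone.map (TowLim.lift Q p φ hφ) (φ n) (𝟙 K) (TowLim.π Q p n)
    (by rw [TowLim.lift_π, Category.id_comp])

lemma cγ_succ (n : ℕ) : cγ K Q p φ hφ (n + 1) ≫ cTrans K Q p φ hφ n = cγ K Q p φ hφ n := by
  rw [cγ, cTrans, ← mappingCone.map_comp]
  exact map_congr' _ _ (Category.id_comp _) (TowLim.π_succ Q p n) _ _

lemma cone_hext (i : ℤ) (W : A) (x y : W ⟶ (mappingCone (TowLim.lift Q p φ hφ)).X i)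
    (h : ∀ n, x ≫ (cγ K Q p φ hφ n).f i = y ≫ (cγ K Q p φ hφ n).f i) : x = y := by
  apply ext_to (TowLim.lift Q p φ hφ) i (i + 1) rfl
  · have h0 := congr_arg (fun q => q ≫ (fst (φ 0)).1.v i (i + 1) rfl) (h 0)
    simp only [Category.assoc, cγ, map_f_fst, HomologicalComplex.id_f, Category.comp_id] at h0
    exact h0
  · apply lim_hext Q p i W
    intro n
    have hn := congr_arg (fun q => q ≫ (snd (φ n)).v i i (add_zero i)) (h n)
    simp only [Category.assoc, cγ, map_f_snd] at hn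
    rw [Category.assoc, Category.assoc]
    exact hn

lemma cone_hlift (i : ℤ) (W : A) (g : ∀ n, W ⟶ (mappingCone (φ n)).X i)
    (hg : ∀ n, g (n + 1) ≫ (cTrans K Q p φ hφ n).f i = g n) :
    ∃ l : W ⟶ (mappingCone (TowLim.lift Q p φ hφ)).X i,
      ∀ n, l ≫ (cγ K Q p φ hφ n).f i = g n := by
  have ha : ∀ n, g n ≫ (fst (φ n)).1.v i (i + 1) rfl =
      g 0 ≫ (fst (φ 0)).1.v i (i + 1) rfl := by
    intro n
    induction n with
    | zero => rfl
    | succ n ih =>
      rw [← ih, ← hg n, Category.assoc, cTrans, map_f_fst, HomologicalComplex.id_f,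
        Category.comp_id]
  obtain ⟨bl, hbl⟩ := lim_hlift Q p i W (fun n => g n ≫ (snd (φ n)).v i i (add_zero i))
    (fun n => by
      rw [← hg n, Category.assoc, Category.assoc, cTrans, map_f_snd])
  refine ⟨(g 0 ≫ (fst (φ 0)).1.v i (i + 1) rfl) ≫
      (inl (TowLim.lift Q p φ hφ)).v (i + 1) i (by omega) +
      bl ≫ (inr (TowLim.lift Q p φ hφ)).f i, fun n => ?_⟩
  apply ext_to (φ n) i (i + 1) rfl
  · rw [Category.assoc, cγ, map_f_fst, ha n]
    simp
  · rw [Category.assoc, cγ, map_f_snd]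
    simp [hbl]

end ConeTower

section Main

/-- injective objects, as an object property -/
def injP (A : Type u) [Category.{v} A] : ObjectProperty A := fun X => Injective X

instance : (injP A).IsClosedUnderIsomorphisms where
  of_iso e h := Injective.of_iso e h

theorem main [EnoughInjectives A] [HasLimitsOfShape (Discrete ℕ) A]
    [HasExactLimitsOfShape (Discrete ℕ) A] (K : CochainComplex A ℤ) :
    ∃ (I : CochainComplex A ℤ) (f : K ⟶ I), I.IsKInjective ∧ QuasiIso f := by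
  haveI : HasLimitsOfShape ℕᵒᵖ A := hasLimitsOfShape_nat_op A
  obtain ⟨Q, p, π, h1, h2, h3, h4, h5⟩ := Groth.Agent.H2.Tower.main (injP A)
    ⟨0, isZero_zero _, (inferInstance : Injective (0 : A))⟩
    (fun X Y (hX : Injective X) (hY : Injective Y) => (inferInstance : Injective (X ⊞ Y)))
    (fun X => ⟨Injective.under X, Injective.ι X, (inferInstance : Injective (Injective.under X)),
      inferInstance⟩) K
  let φ : ∀ n : ℕ, K ⟶ Q n := fun n => K.πTruncGE (-(n : ℤ)) ≫ π n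
  have hφ : ∀ n, φ (n + 1) ≫ p n = φ n := fun n => by
    change (K.πTruncGE (-((n + 1 : ℕ) : ℤ)) ≫ π (n + 1)) ≫ p n = K.πTruncGE (-(n : ℤ)) ≫ π n
    rw [Category.assoc]
    exact h5 n
  have hq : ∀ (n : ℕ) (j : ℤ), -(n : ℤ) ≤ j → QuasiIsoAt (φ n) j := fun n j hj => by
    haveI := K.quasiIsoAt_πTruncGE (-(n : ℤ)) j hj
    haveI := (h1 n).1
    change QuasiIsoAt (K.πTruncGE (-(n : ℤ)) ≫ π n) j
    infer_instance
  haveI : ∀ n, (Q n).IsKInjective := fun n => by
    obtain ⟨a, ha⟩ := h2 n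
    haveI := ha
    haveI : ∀ i, Injective ((Q n).X i) := h3 n
    exact isKInjective_of_injective (Q n) a
  have hmap : ∀ n : ℕ, (Functor.ofOpSequence p).map (homOfLE (Nat.le_succ n)).op = p n :=
    fun n => Functor.ofOpSequence_map_homOfLE_succ p n
  have hKI : (limit (Functor.ofOpSequence p)).IsKInjective :=
    Groth.Agent.H2.KInjLim.isKInjective_limit (Functor.ofOpSequence p)
      (fun n => (inferInstance : (Q n).IsKInjective))
      (fun n m => by
        rw [hmap]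
        obtain ⟨s, hs⟩ := (h4 n m).1
        exact IsSplitEpi.mk' { section_ := s, id := hs })
  refine ⟨limit (Functor.ofOpSequence p), TowLim.lift Q p φ hφ, hKI, ?_⟩
  apply quasiIso_of_acyclic_mappingCone
  exact acyclic_of_degreewise_limit (fun n => mappingCone (φ n)) (cTrans K Q p φ hφ)
    (fun n i => by
      obtain ⟨s, hs⟩ := (h4 n i).1
      exact cTrans_split K Q p φ hφ n i s hs)
    (exists_exactAt_cone K Q φ hq)
    (mappingCone (TowLim.lift Q p φ hφ)) (cγ K Q p φ hφ) (cγ_succ K Q p φ hφ)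
    (cone_hext K Q p φ hφ) (cone_hlift K Q p φ hφ)

end Main

end Groth.Agent.H6.KRes
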