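import Mathlib
import Groth.Agent.Lib.Helper6.KRes2

/-!
# Complexes with the extension property against monomorphic quasi-isomorphisms are
K-injective with injective terms.
-/

set_option autoImplicit false

namespace Groth.Agent.H6.KInjG

open CategoryTheory Category Limits CochainComplex HomComplex

universe v u

variable {A : Type u} [Category.{v} A] [Abelian A]

lemma quasiIso_of_acyclic' {K L : CochainComplex A ℤ} (hK : K.Acyclic) (hL : L.Acyclic)
    (f : K ⟶ L) : QuasiIso f := by
  rw [quasiIso_iff]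
  intro i
  rw [quasiIsoAt_iff_exactAt' f i (hL i)]
  exact hK i

lemma acyclic_mappingCone_id (Z : CochainComplex A ℤ) : (mappingCone (𝟙 Z)).Acyclic := by
  intro j
  exact KRes.exactAt_mappingCone (𝟙 Z) j inferInstance inferInstance

section Disk

open HomologicalComplex

variable (X : A) (n : ℤ)

/-- the disk complex `X = X` in degrees `n`, `n + 1` -/
noncomputable abbrev disk : CochainComplex A ℤ :=
  double (𝟙 X) (show (ComplexShape.up ℤ).Rel n (n + 1) from rfl)

lemma n_ne (n : ℤ) : n ≠ n + 1 := by omega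

lemma acyclic_disk : (disk X n).Acyclic := by
  have hrel : (ComplexShape.up ℤ).Rel n (n + 1) := rfl
  have hd : IsIso ((disk X n).d n (n + 1)) := by
    rw [double_d _ hrel (n_ne n)]
    infer_instance
  intro k
  by_cases h0 : k = n
  · subst h0
    rw [(disk X k).exactAt_iff' (k - 1) k (k + 1) (by simp) (by simp)]
    rw [ShortComplex.exact_iff_mono _ (double_d_eq_zero₀ _ hrel (k - 1) k (by omega))]
    show Mono ((disk X k).d k (k + 1))
    infer_instance
  · by_cases h1 : k = n + 1
    · subst h1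
      rw [(disk X n).exactAt_iff' n (n + 1) (n + 1 + 1) (by simp) (by simp)]
      rw [ShortComplex.exact_iff_epi _
        (double_d_eq_zero₀ _ hrel (n + 1) (n + 1 + 1) (by omega))]
      show Epi ((disk X n).d n (n + 1))
      infer_instance
    · exact ExactAt.of_isZero (isZero_double_X _ hrel k h0 h1)

variable {X} {Y : A} (a : X ⟶ Y)

/-- the map of disks induced by a morphism -/
noncomputable def diskMap : disk X n ⟶ disk Y n :=
  mkHomFromDouble (show (ComplexShape.up ℤ).Rel n (n + 1) from rfl) (n_ne n)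
    (a ≫ (doubleXIso₀ (𝟙 Y) (show (ComplexShape.up ℤ).Rel n (n + 1) from rfl)).inv)
    (a ≫ (doubleXIso₁ (𝟙 Y) (show (ComplexShape.up ℤ).Rel n (n + 1) from rfl) (n_ne n)).inv)
    (by simp [double_d _ (show (ComplexShape.up ℤ).Rel n (n + 1) from rfl) (n_ne n)])
    (by
      intro k _
      rw [assoc, double_d_eq_zero₀ _ _ (n + 1) k (by omega), comp_zero, comp_zero])

lemma mono_diskMap [Mono a] : Mono (diskMap n a) := by
  have hrel : (ComplexShape.up ℤ).Rel n (n + 1) := rfl
  apply HomologicalComplex.mono_of_mono_f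
  intro k
  by_cases h0 : k = n
  · subst h0
    rw [diskMap, mkHomFromDouble_f₀]
    infer_instance
  · by_cases h1 : k = n + 1
    · subst h1
      rw [diskMap, mkHomFromDouble_f₁]
      infer_instance
    · exact ⟨fun g h _ => (isZero_double_X _ hrel k h0 h1).eq_of_tgt _ _⟩

end Disk

section

variable {I : CochainComplex A ℤ}

theorem isKInjective_of_ext
    (hI : ∀ {X Y : CochainComplex A ℤ} (w : X ⟶ Y), Mono w → QuasiIso w → ∀ g : X ⟶ I,
      ∃ l : Y ⟶ I, w ≫ l = g) : I.IsKInjective := by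
  refine ⟨fun {Z} g hZ => ?_⟩
  have hw : Mono (mappingCone.inr (𝟙 Z)) := by
    apply HomologicalComplex.mono_of_mono_f
    intro k
    exact mono_of_mono_fac (mappingCone.inr_f_snd_v (𝟙 Z) k)
  have hq : QuasiIso (mappingCone.inr (𝟙 Z)) :=
    quasiIso_of_acyclic' hZ (acyclic_mappingCone_id Z) _
  obtain ⟨l, hl⟩ := hI _ hw hq g
  let α : Cochain Z I (-1) := (mappingCone.inl (𝟙 Z)).comp (Cochain.ofHom l) (add_zero (-1))
  have hα : δ (-1) 0 α = Cochain.ofHom g := by
    dsimp only [α]
    rw [δ_comp_ofHom, mappingCone.δ_inl, ← Cochain.ofHom_comp, id_comp, hl]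
  exact ⟨(Cochain.equivHomotopy g 0).symm ⟨α, by rw [hα]; simp⟩⟩

theorem injective_of_ext
    (hI : ∀ {X Y : CochainComplex A ℤ} (w : X ⟶ Y), Mono w → QuasiIso w → ∀ g : X ⟶ I,
      ∃ l : Y ⟶ I, w ≫ l = g) (n : ℤ) : Injective (I.X n) := by
  have hrel : (ComplexShape.up ℤ).Rel n (n + 1) := rfl
  constructor
  intro X Y g a _
  let t : disk X n ⟶ I :=
    HomologicalComplex.mkHomFromDouble hrel (n_ne n) g (g ≫ I.d n (n + 1)) (by simp)
      (by intro k _; simp)
  obtain ⟨l, hl⟩ := hI (diskMap n a) (mono_diskMap n a)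
    (quasiIso_of_acyclic' (acyclic_disk X n) (acyclic_disk Y n) _) t
  refine ⟨(HomologicalComplex.doubleXIso₀ (𝟙 Y) hrel).inv ≫ l.f n, ?_⟩
  have h1 : (diskMap n a).f n ≫ l.f n = t.f n := by
    rw [← HomologicalComplex.comp_f, hl]
  rw [diskMap, HomologicalComplex.mkHomFromDouble_f₀] at h1
  have h2 : t.f n = (HomologicalComplex.doubleXIso₀ (𝟙 X) hrel).hom ≫ g :=
    HomologicalComplex.mkHomFromDouble_f₀ _ _ _ _ _ _
  rw [h2, assoc, assoc] at h1
  exact (cancel_epi (HomologicalComplex.doubleXIso₀ (𝟙 X) hrel).hom).1 h1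

end

end Groth.Agent.H6.KInjG
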