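import Mathlib

/-!
# A Löwenheim–Skolem type lemma for complexes of modules

Given a cochain complex `K` of `R`-modules and a family of elements `x₀`, we construct
a family of elements `E m : TT R → K.X m`, indexed by a fixed type depending only on `R`,
generating a subcomplex containing `x₀` in which every element that is a boundary in `K`
is a boundary of an element of the subcomplex.
-/

set_option autoImplicit false

namespace Groth.Agent.H6.KInjG

open CategoryTheory

universe v

section Alg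

variable (R : Type v) [Ring R]

/-- stage index types -/
def Tst : ℕ → Type v
  | 0 => PUnit.{v + 1}
  | (k + 1) => Tst k ⊕ ((Tst k ⊕ Tst k) →₀ R)

/-- the total index type -/
def TT : Type v := Σ k, Tst R k

variable {R} (K : CochainComplex (ModuleCat.{v} R) ℤ)

lemma d_d_apply (i j k : ℤ) (y : K.X i) : (K.d j k).hom ((K.d i j).hom y) = 0 := by
  rw [← LinearMap.comp_apply, ← ModuleCat.hom_comp, K.d_comp_d, ModuleCat.hom_zero,
    LinearMap.zero_apply]

/-- the submodule generated by a family and its differentials -/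
def Sst {α : Type v} (e : ∀ m : ℤ, α → K.X m) (m : ℤ) : Submodule R (K.X m) :=
  Submodule.span R (Set.range (e m)) ⊔
    ⨆ i : ℤ, (Submodule.span R (Set.range (e i))).map (K.d i m).hom

lemma d_mem_Sst {α : Type v} (e : ∀ m : ℤ, α → K.X m) (i j : ℤ) (y : K.X i)
    (hy : y ∈ Sst K e i) : (K.d i j).hom y ∈ Sst K e j := by
  have : (Sst K e i).map (K.d i j).hom ≤ Sst K e j := by
    rw [Sst, Submodule.map_sup, Submodule.map_iSup]
    refine sup_le ?_ (iSup_le fun i' => ?_)
    · exact le_sup_of_le_right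
        (le_iSup (fun i => (Submodule.span R (Set.range (e i))).map (K.d i j).hom) i)
    · rw [← Submodule.map_comp]
      have h0 : (K.d i j).hom ∘ₗ (K.d i' i).hom = 0 := by
        rw [← ModuleCat.hom_comp, K.d_comp_d, ModuleCat.hom_zero]
      rw [h0, Submodule.map_zero]
      exact bot_le
  exact this (Submodule.mem_map_of_mem hy)

lemma iSup_map_d (N : ∀ i : ℤ, Submodule R (K.X i)) (i₀ j : ℤ) (h : i₀ + 1 = j) :
    ⨆ i, (N i).map (K.d i j).hom = (N i₀).map (K.d i₀ j).hom := by
  apply le_antisymm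
  · refine iSup_le fun i => ?_
    by_cases hi : i = i₀
    · subst hi
      exact le_rfl
    · have h0 : K.d i j = 0 := K.shape i j (by
        intro h'
        apply hi
        have : i + 1 = j := h'
        omega)
      rw [h0, ModuleCat.hom_zero, Submodule.map_zero]
      exact bot_le
  · exact le_iSup (fun i => (N i).map (K.d i j).hom) i₀

lemma Sst_eq {α : Type v} (e : ∀ m : ℤ, α → K.X m) (i₀ j : ℤ) (h : i₀ + 1 = j) :
    Sst K e j = Submodule.span R (Set.range (e j)) ⊔
      (Submodule.span R (Set.range (e i₀))).map (K.d i₀ j).hom := by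
  rw [Sst, iSup_map_d K _ i₀ j h]

variable (x₀ : ∀ m : ℤ, K.X m) (ρ : ∀ m : ℤ, K.X (m + 1) → K.X m)

/-- the linear combination map attached to a family -/
noncomputable def lc {α : Type v} (m : ℤ) (e : ∀ m : ℤ, α → K.X m) :
    ((α ⊕ α) →₀ R) →ₗ[R] K.X (m + 1) :=
  Finsupp.linearCombination R (Sum.elim (e (m + 1)) (fun t => (K.d m (m + 1)).hom (e m t)))

lemma range_lc {α : Type v} (m : ℤ) (e : ∀ m : ℤ, α → K.X m) :
    LinearMap.range (lc K m e) = Submodule.span R (Set.range (e (m + 1))) ⊔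
      (Submodule.span R (Set.range (e m))).map (K.d m (m + 1)).hom := by
  rw [lc, Finsupp.range_linearCombination, Set.Sum.elim_range, Submodule.span_union,
    ← Submodule.span_image]
  congr 2
  exact Set.range_comp (K.d m (m + 1)).hom (e m)

/-- the stagewise families -/
noncomputable def ev : (k : ℕ) → (m : ℤ) → Tst R k → K.X m
  | 0 => fun m _ => x₀ m
  | (k + 1) => fun m =>
      (Sum.elim (ev k m) (fun c => ρ m (lc K m (ev k) c)) :
        Tst R k ⊕ ((Tst R k ⊕ Tst R k) →₀ R) → K.X m)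

/-- the total family -/
noncomputable def EE (m : ℤ) : TT R → K.X m := fun p => ev K x₀ ρ p.1 m p.2

lemma x₀_mem (m : ℤ) : x₀ m ∈ Sst K (EE K x₀ ρ) m :=
  le_sup_left (α := Submodule R (K.X m))
    (Submodule.subset_span ⟨(⟨0, PUnit.unit⟩ : TT R), rfl⟩)

lemma exists_prim
    (hρ : ∀ (m : ℤ) (c : K.X (m + 1)), (∃ v, (K.d m (m + 1)).hom v = c) →
      (K.d m (m + 1)).hom (ρ m c) = c)
    (m : ℤ) (c : K.X (m + 1)) (hc : c ∈ Sst K (EE K x₀ ρ) (m + 1))
    (hv : ∃ v, (K.d m (m + 1)).hom v = c) :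
    ∃ s ∈ Sst K (EE K x₀ ρ) m, (K.d m (m + 1)).hom s = c := by
  have hmono : Monotone (fun k => LinearMap.range (lc K m (ev K x₀ ρ k))) := by
    apply monotone_nat_of_le_succ
    intro k
    rw [range_lc, range_lc]
    have h1 : ∀ j, Submodule.span R (Set.range (ev K x₀ ρ k j)) ≤
        Submodule.span R (Set.range (ev K x₀ ρ (k + 1) j)) := fun j =>
      Submodule.span_mono (by
        rintro _ ⟨t, rfl⟩
        exact ⟨Sum.inl t, rfl⟩)
    exact sup_le_sup (h1 _) (Submodule.map_mono (h1 _))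
  have hspan : ∀ j, Submodule.span R (Set.range (EE K x₀ ρ j)) =
      ⨆ k, Submodule.span R (Set.range (ev K x₀ ρ k j)) := fun j => by
    rw [← Submodule.span_iUnion]
    congr 1
    exact Set.range_sigma_eq_iUnion_range _
  have hsup : Sst K (EE K x₀ ρ) (m + 1) =
      ⨆ k, LinearMap.range (lc K m (ev K x₀ ρ k)) := by
    rw [Sst_eq K _ m (m + 1) rfl, hspan, hspan, Submodule.map_iSup, ← iSup_sup_eq]
    congr 1
    funext k
    rw [range_lc]
  rw [hsup] at hc
  obtain ⟨k, hk⟩ := (Submodule.mem_iSup_of_directed _ hmono.directed_le).1 hc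
  obtain ⟨γ, rfl⟩ := hk
  refine ⟨ev K x₀ ρ (k + 1) m (Sum.inr γ), ?_, hρ m _ hv⟩
  exact le_sup_left (α := Submodule R (K.X m))
    (Submodule.subset_span ⟨(⟨k + 1, Sum.inr γ⟩ : TT R), rfl⟩)

/-- The Löwenheim–Skolem lemma. -/
theorem exists_family : ∃ (E : ∀ m : ℤ, TT R → K.X m),
    (∃ t₀ : TT R, ∀ m, E m t₀ = x₀ m) ∧
    (∀ (m : ℤ) (c : K.X (m + 1)), c ∈ Sst K E (m + 1) →
      (∃ v, (K.d m (m + 1)).hom v = c) → ∃ s ∈ Sst K E m, (K.d m (m + 1)).hom s = c) := by
  classical
  let ρ : ∀ m : ℤ, K.X (m + 1) → K.X m := fun m c =>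
    if h : ∃ v, (K.d m (m + 1)).hom v = c then h.choose else 0
  have hρ : ∀ (m : ℤ) (c : K.X (m + 1)), (∃ v, (K.d m (m + 1)).hom v = c) →
      (K.d m (m + 1)).hom (ρ m c) = c := by
    intro m c h
    simp only [ρ, dif_pos h]
    exact h.choose_spec
  exact ⟨EE K x₀ ρ, ⟨(⟨0, PUnit.unit⟩ : TT R), fun _ => rfl⟩, exists_prim K x₀ ρ hρ⟩

end Alg

end Groth.Agent.H6.KInjG
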