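import Mathlib
import Groth.Agent.Lib.Helper6.KInjG2
import Groth.Agent.Lib.Helper6.KInjG4

/-!
# The local enlargement step in complexes of modules, relative to an exact functor
-/

set_option autoImplicit false

namespace Groth.Agent.H6.KInjG

open CategoryTheory Category Limits

universe w v u

section Basic

variable {R : Type v} [Ring R]

lemma capp {M N P : ModuleCat.{v} R} {f : M ⟶ N} {g : N ⟶ P} {k : M ⟶ P} (h : f ≫ g = k)
    (x : M) : g.hom (f.hom x) = k.hom x := by
  subst h
  rfl

lemma surj_of_epi {M N : ModuleCat.{v} R} (f : M ⟶ N) [Epi f] : Function.Surjective f.hom :=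
  (ModuleCat.epi_iff_surjective f).1 inferInstance

lemma inj_of_mono {M N : ModuleCat.{v} R} (f : M ⟶ N) [Mono f] : Function.Injective f.hom :=
  (ModuleCat.mono_iff_injective f).1 inferInstance

end Basic

section FreeCx

variable (R : Type v) [Ring R]

/-- finitely supported functions on the index type -/
abbrev PP := TT R →₀ R

/-- the differential `(a, b) ↦ (0, a)` -/
noncomputable def dFF : (PP R × PP R) →ₗ[R] (PP R × PP R) :=
  (LinearMap.inr R (PP R) (PP R)).comp (LinearMap.fst R (PP R) (PP R))

lemma dFF_apply (x : PP R × PP R) : dFF R x = (0, x.1) := rfl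

lemma dFF_comp_dFF : (dFF R).comp (dFF R) = 0 :=
  LinearMap.ext fun x => by
    rw [LinearMap.comp_apply, dFF_apply, dFF_apply]
    rfl

/-- the free acyclic complex -/
noncomputable def FF : CochainComplex (ModuleCat.{v} R) ℤ where
  X _ := ModuleCat.of R (PP R × PP R)
  d i j := if i + 1 = j then ModuleCat.ofHom (dFF R) else 0
  shape i j h := if_neg h
  d_comp_d' i j k hij hjk := by
    have hij' : i + 1 = j := hij
    have hjk' : j + 1 = k := hjk
    rw [if_pos hij', if_pos hjk', ← ModuleCat.ofHom_comp, dFF_comp_dFF]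
    rfl

lemma FF_d' (i j : ℤ) (h : i + 1 = j) : (FF R).d i j = ModuleCat.ofHom (dFF R) := if_pos h

lemma acyclic_FF : (FF R).Acyclic := by
  intro j
  rw [(FF R).exactAt_iff' (j - 1) j (j + 1) (by simp) (by simp)]
  rw [ShortComplex.moduleCat_exact_iff_ker_sub_range]
  intro x hx
  change x ∈ LinearMap.ker ((FF R).d j (j + 1)).hom at hx
  rw [FF_d' R j (j + 1) rfl] at hx
  have hx' : dFF R x = 0 := LinearMap.mem_ker.1 hx
  rw [dFF_apply] at hx'
  have h1 : x.1 = 0 := (Prod.ext_iff.1 hx').2
  change x ∈ LinearMap.range ((FF R).d (j - 1) j).hom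
  rw [FF_d' R (j - 1) j (by omega)]
  refine ⟨(x.2, 0), ?_⟩
  change dFF R (x.2, 0) = x
  rw [dFF_apply]
  exact Prod.ext h1.symm rfl

variable {R} {V : CochainComplex (ModuleCat.{v} R) ℤ}

/-- the components of the map out of the free complex determined by a family of elements -/
noncomputable def mapOutF (E : ∀ m : ℤ, TT R → V.X m) (m : ℤ) : (PP R × PP R) →ₗ[R] V.X m :=
  (Finsupp.linearCombination R (E m)).comp (LinearMap.fst R (PP R) (PP R)) +
    ((V.d (m - 1) m).hom.comp (Finsupp.linearCombination R (E (m - 1)))).comp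
      (LinearMap.snd R (PP R) (PP R))

lemma mapOutF_apply (E : ∀ m : ℤ, TT R → V.X m) (m : ℤ) (x : PP R × PP R) :
    mapOutF E m x = Finsupp.linearCombination R (E m) x.1 +
      (V.d (m - 1) m).hom (Finsupp.linearCombination R (E (m - 1)) x.2) := rfl

/-- the map out of the free complex determined by a family of elements -/
noncomputable def mapOut (E : ∀ m : ℤ, TT R → V.X m) : FF R ⟶ V where
  f m := ModuleCat.ofHom (mapOutF E m)
  comm' i j hij := by
    have hij' : i + 1 = j := hij
    obtain rfl : i = j - 1 := by omega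
    apply ModuleCat.hom_ext
    apply LinearMap.ext
    intro x
    rw [FF_d' R (j - 1) j hij']
    change (V.d (j - 1) j).hom (mapOutF E (j - 1) x) = mapOutF E j (dFF R x)
    rw [mapOutF_apply, mapOutF_apply, map_add, d_d_apply, add_zero, dFF_apply]
    simp

lemma mapOut_f_apply (E : ∀ m : ℤ, TT R → V.X m) (m : ℤ) (x : PP R × PP R) :
    ((mapOut E).f m).hom x = mapOutF E m x := rfl

lemma mapOut_comp {V' : CochainComplex (ModuleCat.{v} R) ℤ} (E : ∀ m : ℤ, TT R → V.X m)
    (g : V ⟶ V') : mapOut E ≫ g = mapOut (fun m t => (g.f m).hom (E m t)) := by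
  ext m : 1
  apply ModuleCat.hom_ext
  apply LinearMap.ext
  intro x
  change (g.f m).hom (mapOutF E m x) = mapOutF (fun m t => (g.f m).hom (E m t)) m x
  rw [mapOutF_apply, mapOutF_apply, map_add, Finsupp.apply_linearCombination,
    capp (g.comm (m - 1) m).symm, ModuleCat.hom_comp, LinearMap.comp_apply,
    Finsupp.apply_linearCombination]
  rfl

end FreeCx

section SubCx

variable {R : Type v} [Ring R] (V : CochainComplex (ModuleCat.{v} R) ℤ)
  (S : ∀ m : ℤ, Submodule R (V.X m))
  (hS : ∀ i j : ℤ, ∀ y ∈ S i, (V.d i j).hom y ∈ S j)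

/-- the subcomplex determined by a stable family of submodules -/
noncomputable def subCx : CochainComplex (ModuleCat.{v} R) ℤ where
  X m := ModuleCat.of R (S m)
  d i j := ModuleCat.ofHom ((V.d i j).hom.restrict (hS i j))
  shape i j h := by
    apply ModuleCat.hom_ext
    apply LinearMap.ext
    intro y
    apply Subtype.ext
    change (V.d i j).hom y.1 = 0
    rw [V.shape i j h]
    rfl
  d_comp_d' i j k _ _ := by
    apply ModuleCat.hom_ext
    apply LinearMap.ext
    intro y
    apply Subtype.ext
    change (V.d j k).hom ((V.d i j).hom y.1) = 0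
    exact d_d_apply V i j k y.1

/-- the inclusion of the subcomplex -/
noncomputable def subι : subCx V S hS ⟶ V where
  f m := ModuleCat.ofHom (S m).subtype
  comm' i j _ := rfl

instance : Mono (subι V S hS) := by
  apply HomologicalComplex.mono_of_mono_f
  intro m
  rw [ModuleCat.mono_iff_injective]
  exact Subtype.val_injective

theorem mono_homologyMap_subι
    (hprim : ∀ (m : ℤ) (c : V.X (m + 1)), c ∈ S (m + 1) →
      (∃ v, (V.d m (m + 1)).hom v = c) → ∃ s ∈ S m, (V.d m (m + 1)).hom s = c) (j : ℤ) :
    Mono (HomologicalComplex.homologyMap (subι V S hS) j) := by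
  obtain ⟨m, rfl⟩ : ∃ m, j = m + 1 := ⟨j - 1, by omega⟩
  rw [ModuleCat.mono_iff_injective]
  refine (injective_iff_map_eq_zero
    (HomologicalComplex.homologyMap (subι V S hS) (m + 1)).hom).2 ?_
  intro h hh
  obtain ⟨z, rfl⟩ := surj_of_epi ((subCx V S hS).homologyπ (m + 1)) h
  have h1 : (V.homologyπ (m + 1)).hom
      ((HomologicalComplex.cyclesMap (subι V S hS) (m + 1)).hom z) = 0 :=
    (capp (HomologicalComplex.homologyπ_naturality (subι V S hS) (m + 1)) z).symm.trans hh
  have hex : (ShortComplex.mk (V.toCycles m (m + 1)) (V.homologyπ (m + 1))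
      (V.toCycles_comp_homologyπ m (m + 1))).Exact :=
    ShortComplex.exact_of_g_is_cokernel _ (V.homologyIsCokernel m (m + 1) (by simp))
  rw [ShortComplex.moduleCat_exact_iff_ker_sub_range] at hex
  obtain ⟨v, hv⟩ := hex (LinearMap.mem_ker.2 h1)
  have hv' : (V.toCycles m (m + 1)).hom v =
      (HomologicalComplex.cyclesMap (subι V S hS) (m + 1)).hom z := hv
  obtain ⟨c, hc⟩ : ∃ c : S (m + 1), c = ((subCx V S hS).iCycles (m + 1)).hom z := ⟨_, rfl⟩
  have h2 : (V.d m (m + 1)).hom v = (c : V.X (m + 1)) := by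
    have e1 := capp (V.toCycles_i m (m + 1)) v
    have e2 := capp (HomologicalComplex.cyclesMap_i (subι V S hS) (m + 1)) z
    rw [← e1, hv', e2, hc]
    rfl
  obtain ⟨s, hs, hds⟩ := hprim m _ c.2 ⟨v, h2⟩
  have h3 : ((subCx V S hS).toCycles m (m + 1)).hom (⟨s, hs⟩ : S m) = z := by
    apply inj_of_mono ((subCx V S hS).iCycles (m + 1))
    rw [capp ((subCx V S hS).toCycles_i m (m + 1)) (⟨s, hs⟩ : S m), ← hc]
    exact Subtype.ext hds
  rw [← h3]
  exact capp ((subCx V S hS).toCycles_comp_homologyπ m (m + 1)) (⟨s, hs⟩ : S m)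

end SubCx

section Exactness

variable {B₁ : Type*} {B₂ : Type*} [Category B₁] [Category B₂] [Abelian B₁] [Abelian B₂]
  (F : B₁ ⥤ B₂) [F.Additive]

lemma preservesFiniteLimits_mapHC {ι : Type*} (c : ComplexShape ι) [PreservesFiniteLimits F] :
    PreservesFiniteLimits (F.mapHomologicalComplex c) :=
  ⟨fun J _ _ => HomologicalComplex.preservesLimitsOfShape_of_eval _ (fun i => by
    have : PreservesLimitsOfShape J (HomologicalComplex.eval B₁ c i ⋙ F) := inferInstance
    exact preservesLimitsOfShape_of_natIso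
      (NatIso.ofComponents (fun K => Iso.refl _)
        (fun f => (Category.comp_id _).trans (Category.id_comp _).symm) :
        HomologicalComplex.eval B₁ c i ⋙ F ≅
          F.mapHomologicalComplex c ⋙ HomologicalComplex.eval B₂ c i))⟩

lemma preservesFiniteColimits_mapHC {ι : Type*} (c : ComplexShape ι)
    [PreservesFiniteColimits F] :
    PreservesFiniteColimits (F.mapHomologicalComplex c) :=
  ⟨fun J _ _ => HomologicalComplex.preservesColimitsOfShape_of_eval _ (fun i => by
    have : PreservesColimitsOfShape J (HomologicalComplex.eval B₁ c i ⋙ F) := inferInstance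
    exact preservesColimitsOfShape_of_natIso
      (NatIso.ofComponents (fun K => Iso.refl _)
        (fun f => (Category.comp_id _).trans (Category.id_comp _).symm) :
        HomologicalComplex.eval B₁ c i ⋙ F ≅
          F.mapHomologicalComplex c ⋙ HomologicalComplex.eval B₂ c i))⟩

variable [F.PreservesHomology]

lemma acyclic_map (K : CochainComplex B₁ ℤ) (hK : K.Acyclic) :
    ((F.mapHomologicalComplex _).obj K).Acyclic := by
  intro j
  exact (hK j).map F

lemma acyclic_of_mono_homology [F.PreservesMonomorphisms] {K L : CochainComplex B₁ ℤ}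
    (φ : K ⟶ L) (hφ : ∀ j, Mono (HomologicalComplex.homologyMap φ j))
    (hL : ((F.mapHomologicalComplex _).obj L).Acyclic) :
    ((F.mapHomologicalComplex _).obj K).Acyclic := by
  intro j
  rw [HomologicalComplex.exactAt_iff_isZero_homology]
  have eK : ((F.mapHomologicalComplex _).obj K).homology j ≅ F.obj (K.homology j) :=
    (K.sc j).mapHomologyIso F
  have eL : ((F.mapHomologicalComplex _).obj L).homology j ≅ F.obj (L.homology j) :=
    (L.sc j).mapHomologyIso F
  have hzL' : IsZero (((F.mapHomologicalComplex _).obj L).homology j) := by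
    rw [← HomologicalComplex.exactAt_iff_isZero_homology]
    exact hL j
  have hzL : IsZero (F.obj (L.homology j)) := IsZero.of_iso hzL' eL.symm
  haveI := hφ j
  exact IsZero.of_iso (IsZero.of_mono (F.map (HomologicalComplex.homologyMap φ j)) hzL) eK

end Exactness

section LSCore

variable {R : Type v} [Ring R] {B : Type u} [Category.{w} B] [Abelian B]
  (F : ModuleCat.{v} R ⥤ B) [F.Additive] [PreservesFiniteLimits F] [PreservesFiniteColimits F]

/-- The local enlargement step: given a monomorphism `p` of complexes of modules which becomes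
a quasi-isomorphism after applying the exact functor `F`, and an element `x` not in the image
of `p`, there is a map `ψ` from the fixed free complex `FF R`, not landing in the image of `p`,
such that the pullback of `p` along `ψ` becomes acyclic after applying `F`. -/
theorem ls_core {V₀ V : CochainComplex (ModuleCat.{v} R) ℤ} (p : V₀ ⟶ V) [Mono p]
    (hp : QuasiIso ((F.mapHomologicalComplex (ComplexShape.up ℤ)).map p)) (n₀ : ℤ) (x : V.X n₀)
    (hx : x ∉ LinearMap.range (p.f n₀).hom) :
    ∃ ψ : FF R ⟶ V, (∃ y, (ψ.f n₀).hom y ∉ LinearMap.range (p.f n₀).hom) ∧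
      ((F.mapHomologicalComplex (ComplexShape.up ℤ)).obj (pullback p ψ)).Acyclic := by
  classical
  haveI := preservesFiniteLimits_mapHC F (ComplexShape.up ℤ)
  haveI := preservesFiniteColimits_mapHC F (ComplexShape.up ℤ)
  have hS₀ : (ShortComplex.mk p (cokernel.π p) (cokernel.condition p)).ShortExact :=
    ShortComplex.ShortExact.mk' (ShortComplex.exact_cokernel p) (inferInstanceAs (Mono p))
      (inferInstanceAs (Epi (cokernel.π p)))
  have hVbar : ((F.mapHomologicalComplex (ComplexShape.up ℤ)).obj (cokernel p)).Acyclic :=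
    (hS₀.map_of_exact (F.mapHomologicalComplex (ComplexShape.up ℤ))).acyclic_X₃ hp
  have hqsurj : ∀ m, Function.Surjective ((cokernel.π p).f m).hom := fun m => surj_of_epi _
  have hker : ∀ m (v : V.X m), ((cokernel.π p).f m).hom v = 0 →
      v ∈ LinearMap.range (p.f m).hom := by
    intro m v hv
    have hex := (hS₀.map_of_exact (HomologicalComplex.eval _ _ m)).exact
    rw [ShortComplex.moduleCat_exact_iff_ker_sub_range] at hex
    exact hex (LinearMap.mem_ker.2 hv)
  have hqp : ∀ m (u : V₀.X m), ((cokernel.π p).f m).hom ((p.f m).hom u) = 0 := by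
    intro m u
    have h0 : p.f m ≫ (cokernel.π p).f m = 0 := by
      rw [← HomologicalComplex.comp_f, cokernel.condition]
      rfl
    exact capp h0 u
  obtain ⟨E, ⟨t₀, ht₀⟩, hEprim⟩ :=
    exists_family (cokernel p) (Pi.single n₀ (((cokernel.π p).f n₀).hom x))
  have hS : ∀ i j : ℤ, ∀ y ∈ Sst (cokernel p) E i,
      ((cokernel p).d i j).hom y ∈ Sst (cokernel p) E j :=
    fun i j y hy => d_mem_Sst (cokernel p) E i j y hy
  have hmonoH := mono_homologyMap_subι (cokernel p) (fun m => Sst (cokernel p) E m) hS hEprim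
  have h𝕊 : ((F.mapHomologicalComplex (ComplexShape.up ℤ)).obj
      (subCx (cokernel p) (fun m => Sst (cokernel p) E m) hS)).Acyclic :=
    acyclic_of_mono_homology F (subι (cokernel p) (fun m => Sst (cokernel p) E m) hS) hmonoH hVbar
  have hEmem : ∀ m t, E m t ∈ Sst (cokernel p) E m := fun m t =>
    le_sup_left (α := Submodule R ((cokernel p).X m)) (Submodule.subset_span ⟨t, rfl⟩)
  let E' : ∀ m : ℤ, TT R → (subCx (cokernel p) (fun m => Sst (cokernel p) E m) hS).X m :=
    fun m t => (⟨E m t, hEmem m t⟩ : Sst (cokernel p) E m)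
  let e : FF R ⟶ subCx (cokernel p) (fun m => Sst (cokernel p) E m) hS := mapOut E'
  have he_comp : e ≫ subι (cokernel p) (fun m => Sst (cokernel p) E m) hS = mapOut E := by
    rw [mapOut_comp]
    rfl
  choose Et hEt using fun (m : ℤ) (t : TT R) => hqsurj m (E m t)
  let ψ : FF R ⟶ V := mapOut Et
  have hψq : ψ ≫ cokernel.π p = mapOut E := by
    rw [mapOut_comp]
    congr 1
    funext m t
    exact hEt m t
  have hepi : Epi e := by
    apply HomologicalComplex.epi_of_epi_f
    intro m
    rw [ModuleCat.epi_iff_surjective]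
    rintro ⟨s, hs⟩
    have hs' : s ∈ Sst (cokernel p) E m := hs
    rw [Sst_eq (cokernel p) E (m - 1) m (by omega)] at hs'
    obtain ⟨u, hu, w, hw, huw⟩ := Submodule.mem_sup.1 hs'
    obtain ⟨a, ha⟩ := Finsupp.mem_span_range_iff_exists_finsupp.1 hu
    obtain ⟨w', hw', hww⟩ := Submodule.mem_map.1 hw
    obtain ⟨b, hb⟩ := Finsupp.mem_span_range_iff_exists_finsupp.1 hw'
    refine ⟨(a, b), Subtype.ext ?_⟩
    have h := congrArg (fun g => (g.f m).hom (a, b)) he_comp
    refine Eq.trans ?_ (Eq.trans h ?_)
    · rfl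
    · change mapOutF E m (a, b) = s
      rw [mapOutF_apply, Finsupp.linearCombination_apply, Finsupp.linearCombination_apply,
        ha, hb, hww, huw]
  refine ⟨ψ, ⟨(Finsupp.single t₀ 1, 0), ?_⟩, ?_⟩
  · intro hmem
    have hy : (ψ.f n₀).hom (Finsupp.single t₀ 1, 0) = Et n₀ t₀ := by
      rw [mapOut_f_apply, mapOutF_apply]
      simp
    rw [hy] at hmem
    obtain ⟨u, hu⟩ := hmem
    have h1 : ((cokernel.π p).f n₀).hom (Et n₀ t₀) = 0 := by
      rw [← hu]
      exact hqp n₀ u
    rw [hEt, ht₀, Pi.single_eq_same] at h1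
    exact hx (hker n₀ x h1)
  · have hz : pullback.snd p ψ ≫ e = 0 := by
      rw [← cancel_mono (subι (cokernel p) (fun m => Sst (cokernel p) E m) hS), assoc, he_comp,
        ← hψq, ← assoc, ← pullback.condition, assoc, cokernel.condition, comp_zero, zero_comp]
    have hS₁ : (ShortComplex.mk (pullback.snd p ψ) e hz).ShortExact := by
      refine ShortComplex.ShortExact.mk' (ShortComplex.exact_of_f_is_kernel _ ?_)
        (inferInstanceAs (Mono (pullback.snd p ψ))) hepi
      refine KernelFork.IsLimit.ofι' _ hz (fun {Z} k hk => ?_)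
      have h1 : (k ≫ ψ) ≫ cokernel.π p = 0 := by
        rw [assoc, hψq, ← he_comp, ← assoc, hk, zero_comp]
      exact ⟨pullback.lift (Abelian.monoLift p (k ≫ ψ) h1) k
        (Abelian.monoLift_comp p (k ≫ ψ) h1), pullback.lift_snd _ _ _⟩
    have hFF : ((F.mapHomologicalComplex (ComplexShape.up ℤ)).obj (FF R)).Acyclic :=
      acyclic_map F _ (acyclic_FF R)
    have hqe : QuasiIso ((F.mapHomologicalComplex (ComplexShape.up ℤ)).map e) :=
      quasiIso_of_acyclic hFF h𝕊 _
    exact (hS₁.map_of_exact (F.mapHomologicalComplex (ComplexShape.up ℤ))).acyclic_X₁ hqe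

end LSCore

end Groth.Agent.H6.KInjG
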