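import Mathlib
import Groth.Agent.Lib.Helper6.KInjG2
import Groth.Agent.Lib.Helper6.KInjG3
import Groth.Agent.Lib.Helper6.KInjG5

/-!
# K-injective resolutions in Grothendieck abelian categories

Transfer of the local enlargement step along the Gabriel–Popescu embedding, and the
existence of K-injective resolutions with injective terms.
-/

set_option autoImplicit false

namespace Groth.Agent.H6.KInjG

open CategoryTheory Category Limits IsGrothendieckAbelian Opposite

universe v u

variable {A : Type u} [Category.{v} A] [Abelian A] [IsGrothendieckAbelian.{v} A]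

instance instAdditiveTensorObj (G : A) : (tensorObj G).Additive :=
  (tensorObjPreadditiveCoyonedaObjAdjunction G).left_adjoint_additive

/-- `· ⊗ G` on complexes -/
noncomputable abbrev Fc (G : A) :
    CochainComplex (ModuleCat.{v} (End G)ᵐᵒᵖ) ℤ ⥤ CochainComplex A ℤ :=
  (tensorObj G).mapHomologicalComplex (ComplexShape.up ℤ)

/-- `Hom(G, ·)` on complexes -/
noncomputable abbrev Hc (G : A) :
    CochainComplex A ℤ ⥤ CochainComplex (ModuleCat.{v} (End G)ᵐᵒᵖ) ℤ :=
  (preadditiveCoyonedaObj G).mapHomologicalComplex (ComplexShape.up ℤ)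

section Transfer

variable (G : A) (hG : IsSeparator G)

include hG in
lemma isIso_counit_app (X : A) :
    IsIso ((tensorObjPreadditiveCoyonedaObjAdjunction G).counit.app X) := by
  haveI : (preadditiveCoyonedaObj G).Full := GabrielPopescu.full G hG
  haveI : (preadditiveCoyonedaObj G).Faithful :=
    (isSeparator_iff_faithful_preadditiveCoyonedaObj G).1 hG
  infer_instance

/-- the counit on complexes -/
noncomputable def εc (V : CochainComplex A ℤ) : (Fc G).obj ((Hc G).obj V) ≅ V :=
  HomologicalComplex.Hom.isoOfComponents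
    (fun n => @asIso _ _ _ _ _ (isIso_counit_app G hG (V.X n)))
    (by
      intro i j _
      exact ((tensorObjPreadditiveCoyonedaObjAdjunction G).counit.naturality (V.d i j)).symm)

lemma εc_hom_f (V : CochainComplex A ℤ) (n : ℤ) :
    (εc G hG V).hom.f n = (tensorObjPreadditiveCoyonedaObjAdjunction G).counit.app (V.X n) := rfl

lemma εc_naturality {V V' : CochainComplex A ℤ} (g : V ⟶ V') :
    (Fc G).map ((Hc G).map g) ≫ (εc G hG V').hom = (εc G hG V).hom ≫ g := by
  ext n
  exact (tensorObjPreadditiveCoyonedaObjAdjunction G).counit.naturality (g.f n)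

include hG in
theorem lsHyp : LSHyp ((Fc G).obj (FF (End G)ᵐᵒᵖ)) := by
  intro V₀ V pA hmono hqis hniso
  haveI := hmono
  haveI : PreservesFiniteLimits (tensorObj G) := GabrielPopescu.preservesFiniteLimits G hG
  haveI : PreservesFiniteColimits (tensorObj G) := inferInstance
  -- a degree where `pA` is not an isomorphism, and a witness
  obtain ⟨n₀, hn₀⟩ : ∃ n₀, ¬ IsIso (pA.f n₀) := by
    by_contra hcon
    push Not at hcon
    haveI : ∀ n, IsIso (pA.f n) := hcon
    exact hniso (HomologicalComplex.Hom.isIso_of_components pA)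
  rw [hG.isDetector.isIso_iff_of_mono] at hn₀
  simp only [ObjectProperty.singleton_iff, Function.Surjective, Functor.flip_obj_map, forall_eq',
    not_forall, not_exists] at hn₀
  obtain ⟨x, hx⟩ := hn₀
  -- the monomorphism of complexes of modules
  haveI : Mono ((Hc G).map pA) := by
    apply HomologicalComplex.mono_of_mono_f
    intro n
    rw [ModuleCat.mono_iff_injective]
    intro a b hab
    exact (cancel_mono (pA.f n)).1 hab
  have hp : QuasiIso ((Fc G).map ((Hc G).map pA)) := by
    have h : (Fc G).map ((Hc G).map pA) = (εc G hG V₀).hom ≫ pA ≫ (εc G hG V).inv := by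
      rw [← assoc, ← εc_naturality, assoc, Iso.hom_inv_id, comp_id]
    rw [h]
    infer_instance
  have hx' : (x : ((Hc G).obj V).X n₀) ∉ LinearMap.range (((Hc G).map pA).f n₀).hom := by
    rintro ⟨a, ha⟩
    exact hx a ha
  obtain ⟨ψ, ⟨y, hy⟩, hacyc⟩ := ls_core (tensorObj G) ((Hc G).map pA) hp n₀ x hx'
  refine ⟨(Fc G).obj (pullback ((Hc G).map pA) ψ),
    (Fc G).map (pullback.fst _ _) ≫ (εc G hG V₀).hom, (Fc G).map (pullback.snd _ _),
    (Fc G).map ψ ≫ (εc G hG V).hom, ?_, hacyc, ?_⟩
  · haveI := preservesFiniteLimits_mapHC (tensorObj G) (ComplexShape.up ℤ)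
    exact ((IsPullback.of_hasPullback ((Hc G).map pA) ψ).map (Fc G)).of_iso
      (Iso.refl _) (εc G hG V₀) (Iso.refl _) (εc G hG V)
      (by simp) (by simp) (εc_naturality G hG pA) (by simp)
  · rintro ⟨a', ha'⟩
    apply hy
    have h1 : a'.f n₀ ≫ pA.f n₀ = (tensorObj G).map (ψ.f n₀) ≫
        (tensorObjPreadditiveCoyonedaObjAdjunction G).counit.app (V.X n₀) := by
      have := congrArg (fun g => g.f n₀) ha'
      exact this
    have h2 : ψ.f n₀ = (tensorObjPreadditiveCoyonedaObjAdjunction G).homEquiv
        ((FF (End G)ᵐᵒᵖ).X n₀) (V₀.X n₀) (a'.f n₀) ≫ ((Hc G).map pA).f n₀ :=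
      (((tensorObjPreadditiveCoyonedaObjAdjunction G).homEquiv
        ((FF (End G)ᵐᵒᵖ).X n₀) (V.X n₀)).apply_symm_apply (ψ.f n₀)).symm.trans
        ((congrArg ((tensorObjPreadditiveCoyonedaObjAdjunction G).homEquiv
          ((FF (End G)ᵐᵒᵖ).X n₀) (V.X n₀)) h1.symm).trans
          ((tensorObjPreadditiveCoyonedaObjAdjunction G).homEquiv_naturality_right
            (a'.f n₀) (pA.f n₀)))
    rw [h2]
    exact ⟨_, rfl⟩

end Transfer

/-- **K-injective resolutions in Grothendieck abelian categories.** -/
theorem main (M : CochainComplex A ℤ) :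
    ∃ (I : CochainComplex A ℤ) (f : M ⟶ I), I.IsKInjective ∧ QuasiIso f ∧
      (∀ n, Mono (f.f n)) ∧ ∀ n, Injective (I.X n) := by
  have hG := isSeparator_separator A
  haveI : PreservesFiniteLimits (tensorObj (separator A)) :=
    GabrielPopescu.preservesFiniteLimits _ hG
  haveI : PreservesFiniteColimits (tensorObj (separator A)) := inferInstance
  have hE : ((Fc (separator A)).obj (FF (End (separator A))ᵐᵒᵖ)).Acyclic :=
    acyclic_map (tensorObj (separator A)) _ (acyclic_FF _)
  obtain ⟨I, i, hi1, hi2, hI⟩ := exists_fibrant_replacement hE (lsHyp (separator A) hG) M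
  haveI := hi1
  exact ⟨I, i, isKInjective_of_ext (fun w => hI w), hi2, fun n => inferInstance,
    fun n => injective_of_ext (fun w => hI w) n⟩

end Groth.Agent.H6.KInjG
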