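import Mathlib
import Groth.Agent.Lib.Helper1.DescProj

/-!
# Formal smoothness descends along faithfully flat base change (S9447), no finiteness hypotheses.
Uses the Raynaud–Gruson descent of projectivity (helper1 `DescProj`).
-/

set_option autoImplicit false
universe u

open TensorProduct

namespace Groth.Agent.H6.FSmDesc

attribute [local instance] Algebra.TensorProduct.rightAlgebra

theorem formallySmooth_of_baseChange (R : Type u) [CommRing R]
    (S : Type u) [CommRing S] [Algebra R S] (R' : Type u) [CommRing R'] [Algebra R R']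
    [Module.FaithfullyFlat R R'] [Algebra.FormallySmooth R' (R' ⊗[R] S)] :
    Algebra.FormallySmooth R S := by
  -- H¹ of the cotangent complex
  have h1 : Subsingleton (Algebra.H1Cotangent R S) := by
    haveI : Subsingleton (R' ⊗[R] Algebra.H1Cotangent R S) :=
      (Algebra.tensorH1CotangentOfFlat R S R').toEquiv.subsingleton
    exact Module.FaithfullyFlat.lTensor_reflects_triviality R R' (Algebra.H1Cotangent R S)
  -- differentials
  haveI : Algebra.IsPushout R S R' (R' ⊗[R] S) := inferInstance
  haveI : Module.FaithfullyFlat S (R' ⊗[R] S) :=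
    Module.FaithfullyFlat.of_linearEquiv S (S ⊗[R] R')
      (Algebra.IsPushout.equiv R S R' (R' ⊗[R] S)).symm.toLinearEquiv
  haveI : Module.Projective (R' ⊗[R] S) ((R' ⊗[R] S) ⊗[S] Ω[S⁄R]) :=
    Module.Projective.of_equiv (KaehlerDifferential.tensorKaehlerEquiv R R' S (R' ⊗[R] S)).symm
  have h2 : Module.Projective S Ω[S⁄R] :=
    Groth.Agent.H1.DescProj.projective_of_baseChange (R := S) (S := R' ⊗[R] S) (M := Ω[S⁄R])
  exact ⟨h2, h1⟩

theorem main9447 (R : Type u) [CommRing R]
    (S : Type u) [CommRing S] [Algebra R S] (R' : Type u) [CommRing R'] [Algebra R R']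
    [Module.FaithfullyFlat R R'] :
    Algebra.FormallySmooth R S ↔ Algebra.FormallySmooth R' (R' ⊗[R] S) :=
  ⟨fun _ => inferInstance, fun _ => formallySmooth_of_baseChange R S R'⟩

end Groth.Agent.H6.FSmDesc
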