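import Groth.Agent.Lib.Helper6.VC2

universe u
open CategoryTheory CategoryTheory.Limits AlgebraicGeometry IsLocalRing

namespace Groth.Agent.H6.VC

theorem existence_of_key {X Y : Scheme.{u}} (f : Y ⟶ X)
    (P : ∀ (y : Y) (A : ValuationSubring (Y.residueField y)) (i₂ : Spec (CommRingCat.of A) ⟶ X),
      Spec.map (CommRingCat.ofHom A.subtype) ≫ i₂ = Y.fromSpecResidueField y ≫ f →
      ∃ l : Spec (CommRingCat.of A) ⟶ Y,
        Spec.map (CommRingCat.ofHom A.subtype) ≫ l = Y.fromSpecResidueField y ∧ l ≫ f = i₂) :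
    ValuativeCriterion.Existence f := by
  classical
  rintro ⟨R, K, i₁, i₂, ⟨w⟩⟩
  let y : Y := i₁.base (closedPoint K)
  let ψ : Y.presheaf.stalk y ⟶ CommRingCat.of K := Scheme.stalkClosedPointTo i₁
  have hψloc : IsLocalHom ψ.hom := Scheme.isLocalHom_stalkClosedPointTo' i₁
  have hi₁ : Spec.map ψ ≫ Y.fromSpecStalk y = i₁ := Scheme.Spec_stalkClosedPointTo_fromSpecStalk i₁
  let j : Y.residueField y ⟶ CommRingCat.of K := Scheme.descResidueField ψ
  have hj : Y.residue y ≫ j = ψ := Scheme.residue_descResidueField ψ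
  have hji : Spec.map j ≫ Y.fromSpecResidueField y = i₁ :=
    Scheme.descResidueField_stalkClosedPointTo_fromSpecResidueField K Y i₁
  let VR : ValuationSubring K := ⟨(algebraMap R K).range, ValuationRing.isInteger_or_isInteger R⟩
  let A₀ : ValuationSubring (Y.residueField y) := VR.comap j.hom
  have hinj : Function.Injective (algebraMap R K) := IsFractionRing.injective R K
  let eR : R ≃+* (algebraMap R K).range :=
    RingEquiv.ofBijective (algebraMap R K).rangeRestrict
      ⟨fun a b hab => hinj (congrArg Subtype.val hab), (algebraMap R K).rangeRestrict_surjective⟩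
  let ρ0 : A₀ →+* (algebraMap R K).range :=
    (j.hom.comp A₀.subtype).codRestrict (algebraMap R K).range (fun a => a.2)
  let ρ : A₀ →+* R := eR.symm.toRingHom.comp ρ0
  have hρ : ∀ a : A₀, algebraMap R K (ρ a) = j.hom (a : Y.residueField y) := by
    intro a
    have : eR (ρ a) = ρ0 a := eR.apply_symm_apply _
    exact congrArg Subtype.val this
  -- the bottom morphism
  let x' : X := i₂.base (closedPoint R)
  let χ : X.presheaf.stalk x' ⟶ CommRingCat.of R := Scheme.stalkClosedPointTo i₂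
  have hi₂ : Spec.map χ ≫ X.fromSpecStalk x' = i₂ := Scheme.Spec_stalkClosedPointTo_fromSpecStalk i₂
  let b0 : X.presheaf.stalk (f.base y) ⟶ CommRingCat.of K := f.stalkMap y ≫ ψ
  have hb0 : IsLocalHom b0.hom := by
    change IsLocalHom (ψ.hom.comp (f.stalkMap y).hom)
    infer_instance
  have h0 : Spec.map (χ ≫ CommRingCat.ofHom (algebraMap R K)) ≫ X.fromSpecStalk x' =
      Spec.map b0 ≫ X.fromSpecStalk (f.base y) := by
    rw [Spec.map_comp, Category.assoc, hi₂, ← w, ← hi₁, Category.assoc,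
      ← Scheme.SpecMap_stalkMap_fromSpecStalk, ← Spec.map_comp_assoc]
  obtain ⟨hsx, hχ⟩ := specializes_and_eq _ _ h0
  let χ₀' : X.presheaf.stalk x' ⟶ Y.residueField y :=
    X.presheaf.stalkSpecializes hsx ≫ f.stalkMap y ≫ Y.residue y
  have hχ₀' : ∀ s, j.hom (χ₀'.hom s) = algebraMap R K (χ.hom s) := by
    intro s
    have h1 := congrArg (fun q => q.hom s) hχ
    have h2 := congrArg (fun q => q.hom ((f.stalkMap y).hom ((X.presheaf.stalkSpecializes hsx).hom s))) hj
    exact h2.trans h1.symm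
  have hχ₀'A : ∀ s, χ₀'.hom s ∈ A₀ := by
    intro s
    change j.hom (χ₀'.hom s) ∈ VR
    rw [hχ₀']
    exact ⟨_, rfl⟩
  let χ₀ : X.presheaf.stalk x' ⟶ CommRingCat.of A₀ :=
    CommRingCat.ofHom (χ₀'.hom.codRestrict A₀.toSubring hχ₀'A)
  have hχ₀sub : χ₀ ≫ CommRingCat.ofHom A₀.subtype = χ₀' := rfl
  have hρχ : ∀ s, ρ (χ₀.hom s) = χ.hom s := by
    intro s
    apply hinj
    rw [hρ]
    exact hχ₀' s
  have hχ₀loc : IsLocalHom χ₀.hom := by
    constructor
    intro s hs
    have h2 : IsUnit (ρ (χ₀.hom s)) := hs.map _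
    rw [hρχ] at h2
    exact (Scheme.isLocalHom_stalkClosedPointTo i₂).map_nonunit _ h2
  let i₂₀ : Spec (CommRingCat.of A₀) ⟶ X := Spec.map χ₀ ≫ X.fromSpecStalk x'
  have hi : Spec.map (CommRingCat.ofHom A₀.subtype) ≫ i₂₀ = Y.fromSpecResidueField y ≫ f := by
    change Spec.map (CommRingCat.ofHom A₀.subtype) ≫ Spec.map χ₀ ≫ X.fromSpecStalk x' = _
    rw [← Spec.map_comp_assoc, hχ₀sub]
    simp only [χ₀', Spec.map_comp, Category.assoc, Scheme.SpecMap_stalkSpecializes_fromSpecStalk,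
      Scheme.SpecMap_stalkMap_fromSpecStalk]
    rfl
  obtain ⟨l₀, hl1, hl2⟩ := P y A₀ i₂₀ hi
  refine ⟨⟨⟨Spec.map (CommRingCat.ofHom ρ) ≫ l₀, ?_, ?_⟩⟩⟩
  · have e1 : CommRingCat.ofHom ρ ≫ CommRingCat.ofHom (algebraMap R K) =
        CommRingCat.ofHom A₀.subtype ≫ j := by
      ext a
      exact hρ a
    rw [← Spec.map_comp_assoc, e1, Spec.map_comp_assoc, hl1, hji]
  · have e2 : χ₀ ≫ CommRingCat.ofHom ρ = χ := by
      ext s
      exact hρχ s
    rw [Category.assoc, hl2]
    change Spec.map _ ≫ Spec.map χ₀ ≫ X.fromSpecStalk x' = _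
    rw [← Spec.map_comp_assoc, e2, hi₂]

end Groth.Agent.H6.VC
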