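import Mathlib

universe u
open CategoryTheory CategoryTheory.Limits AlgebraicGeometry TopologicalSpace Opposite IsLocalRing

set_option linter.unusedSectionVars false
set_option linter.unusedSimpArgs false
namespace Groth.Agent.H6.NZ

section

variable {X : Scheme.{u}} [IsIntegral X] {R : CommRingCat.{u}} [IsLocalRing R]
  (ψ : X.presheaf.stalk (genericPoint X) ⟶ R) (g : Spec R ⟶ X)
  (hg : g = Spec.map ψ ≫ X.fromSpecStalk (genericPoint X))

include hg in
theorem g_apply (x : Spec R) : g.base x = genericPoint X := by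
  have h1 : g.base x ∈ Set.range (X.fromSpecStalk (genericPoint X)).base := by
    rw [hg]
    exact ⟨(Spec.map ψ).base x, rfl⟩
  rw [Scheme.range_fromSpecStalk] at h1
  exact (Specializes.antisymm h1 ((genericPoint_spec X).specializes trivial)).eq

include hg in
theorem preimage_eq_top (U : X.Opens) (hU : genericPoint X ∈ U) : g ⁻¹ᵁ U = ⊤ := by
  ext x
  simp only [Scheme.Hom.mem_preimage, Opens.coe_top, Set.mem_univ, iff_true]
  change g.base x ∈ U
  rw [g_apply ψ g hg x]
  exact hU

include hg in
theorem preimage_eq_bot (U : X.Opens) (hU : genericPoint X ∉ U) : g ⁻¹ᵁ U = ⊥ := by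
  ext x
  simp only [Opens.coe_bot, Set.mem_empty_iff_false, iff_false]
  change ¬ (g.base x ∈ U)
  rw [g_apply ψ g hg x]
  exact hU

theorem isLocalHom_of_isField (hF : IsField (X.presheaf.stalk (genericPoint X))) :
    IsLocalHom ψ.hom := by
  constructor
  intro a ha
  have ha0 : a ≠ 0 := by
    rintro rfl
    rw [map_zero] at ha
    exact not_isUnit_zero ha
  obtain ⟨b, hb⟩ := hF.mul_inv_cancel ha0
  exact IsUnit.of_mul_eq_one b hb

/-- the sections of `Spec R` over the preimage of an open containing the generic point. -/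
noncomputable def secIso (U : X.Opens) (hU : genericPoint X ∈ U) :
    Γ(Spec R, g ⁻¹ᵁ U) ≅ R :=
  (Spec R).presheaf.mapIso (eqToIso (preimage_eq_top ψ g hg U hU).symm).op ≪≫ Scheme.ΓSpecIso R

theorem app_secIso (U : X.Opens) (hU : genericPoint X ∈ U) :
    g.app U ≫ (secIso ψ g hg U hU).hom = X.presheaf.germ U (genericPoint X) hU ≫ ψ := by
  have hloc : IsLocalHom ψ.hom :=
    isLocalHom_of_isField ψ (Field.toIsField X.functionField)
  have hcp : g.base (closedPoint R) = genericPoint X := g_apply ψ g hg _
  have hU' : g.base (closedPoint R) ∈ U := by rw [hcp]; exact hU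
  have h1 := Scheme.germ_stalkClosedPointTo g U hU'
  subst hg
  have h2 := Scheme.germ_stalkClosedPointTo_Spec_fromSpecStalk ψ U hU'
  rw [← h2, h1]
  rfl

end

end Groth.Agent.H6.NZ
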