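import Mathlib
import Groth.Agent.Lib.Helper6.NZ1
import Groth.Agent.Lib.Helper8.Japanese.NormFin4
import Groth.Agent.Lib.Helper8.Japanese.NagFT17
import Groth.Agent.Lib.Helper8.Japanese.CompleteNagata

universe u
open CategoryTheory CategoryTheory.Limits AlgebraicGeometry TopologicalSpace Opposite IsLocalRing

set_option linter.unusedSectionVars false
set_option linter.unusedSimpArgs false
set_option linter.style.haveILetI false
namespace Groth.Agent.H6.NZ

theorem isNagata_field (k : Type u) [Field k] : CAlg.IsNagata k := by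
  have : IsAdicComplete (maximalIdeal k) k := by
    rw [IsLocalRing.maximalIdeal_eq_bot]
    infer_instance
  exact Groth.Agent.H8.Jap.isNagata_of_complete_local k

theorem isNagata_sections (k : Type u) [Field k] {X : Scheme.{u}}
    (f : X ⟶ Spec (CommRingCat.of k)) [LocallyOfFiniteType f] (U : X.Opens)
    (hU : IsAffineOpen U) : CAlg.IsNagata Γ(X, U) := by
  have h1 : (f.appLE ⊤ U le_top).hom.FiniteType :=
    f.finiteType_appLE (isAffineOpen_top _) hU le_top
  let θ : k →+* Γ(X, U) :=
    (f.appLE ⊤ U le_top).hom.comp (Scheme.ΓSpecIso (CommRingCat.of k)).inv.hom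
  have h2 : θ.FiniteType := by
    refine RingHom.FiniteType.comp h1 ?_
    exact RingHom.FiniteType.of_surjective _
      (ConcreteCategory.bijective_of_isIso (Scheme.ΓSpecIso (CommRingCat.of k)).inv).2
  let _ := θ.toAlgebra
  have : Algebra.FiniteType k Γ(X, U) := h2
  exact Groth.Agent.H8.Jap.NagFT.isNagata_of_finiteType k Γ(X, U) (isNagata_field k)

end Groth.Agent.H6.NZ

namespace Groth.Agent.H6.NZ

section

variable {X : Scheme.{u}} [IsIntegral X] {R : CommRingCat.{u}} [IsLocalRing R]
  (ψ : X.presheaf.stalk (genericPoint X) ⟶ R) (g : Spec R ⟶ X)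
  (hg : g = Spec.map ψ ≫ X.fromSpecStalk (genericPoint X))

include hg in
/-- finiteness of the integral closure of `Γ(X, U)` in `Γ(Spec R, g⁻¹ U)` when `R` is a finite
field extension of the function field and `Γ(X, U)` is Nagata. -/
theorem finite_integralClosure_app (hR : IsField R) (hψ : ψ.hom.Finite)
    (U : X.Opens) (hU : IsAffineOpen U) (hN : CAlg.IsNagata Γ(X, U)) :
    letI := (g.app U).hom.toAlgebra
    Module.Finite Γ(X, U) (integralClosure Γ(X, U) Γ(Spec R, g ⁻¹ᵁ U)) := by
  letI := (g.app U).hom.toAlgebra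
  have := hN.1
  by_cases hξ : genericPoint X ∈ U
  · have hne : Nonempty U := ⟨⟨_, hξ⟩⟩
    have hfrac : IsFractionRing Γ(X, U) X.functionField :=
      functionField_isFractionRing_of_isAffineOpen X U hU
    letI : Field R := hR.toField
    letI algkK : Algebra X.functionField R := ψ.hom.toAlgebra
    letI algAK : Algebra Γ(X, U) R :=
      (ψ.hom.comp (algebraMap Γ(X, U) X.functionField)).toAlgebra
    have : IsScalarTower Γ(X, U) X.functionField R := IsScalarTower.of_algebraMap_eq (fun r => rfl)
    have hfin : Module.Finite X.functionField R := hψ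
    have hess : Algebra.EssFiniteType X.functionField R := inferInstance
    have hk : ∀ z : X.functionField, ∃ a s : Γ(X, U), algebraMap Γ(X, U) X.functionField s ≠ 0 ∧
        z * algebraMap Γ(X, U) X.functionField s = algebraMap Γ(X, U) X.functionField a := by
      intro z
      obtain ⟨⟨a, s⟩, h⟩ := IsLocalization.surj (nonZeroDivisors Γ(X, U)) z
      refine ⟨a, s.1, ?_, h⟩
      exact IsLocalization.to_map_ne_zero_of_mem_nonZeroDivisors X.functionField le_rfl s.2
    have h1 : Module.Finite Γ(X, U) (integralClosure Γ(X, U) R) :=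
      Groth.Agent.H8.Jap.NormFin.finite_integralClosure_field Γ(X, U) hN X.functionField R hk
    let e : Γ(Spec R, g ⁻¹ᵁ U) →ₐ[Γ(X, U)] R :=
      { (secIso ψ g hg U hξ).hom.hom with
        commutes' := fun r => by
          have := congrArg (fun q => q.hom r) (app_secIso ψ g hg U hξ)
          exact this }
    refine Groth.Agent.H8.Jap.NormFin.finite_integralClosure_of_pi_injective Γ(X, U)
      Γ(Spec R, g ⁻¹ᵁ U) (fun _ : Unit => R) (fun _ => e) ?_ (fun _ => h1)
    intro b hb
    have h2 := hb ()
    have hinj : Function.Injective (secIso ψ g hg U hξ).hom.hom :=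
      (ConcreteCategory.bijective_of_isIso (secIso ψ g hg U hξ).hom).1
    exact hinj (h2.trans (map_zero _).symm)
  · have h0 : g ⁻¹ᵁ U = ⊥ := preimage_eq_bot ψ g hg U hξ
    have hsub : Subsingleton Γ(Spec R, g ⁻¹ᵁ U) := by
      rw [h0]
      infer_instance
    have : Subsingleton (integralClosure Γ(X, U) Γ(Spec R, g ⁻¹ᵁ U)) :=
      Subtype.val_injective.subsingleton
    infer_instance

end

end Groth.Agent.H6.NZ
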