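import Mathlib
import Groth.Prelude.Def_Pi1
import Groth.Agent.Lib.Helper6.NZ2
import Groth.Agent.Lib.Helper8.Japanese.NormFin2

universe u
open CategoryTheory CategoryTheory.Limits AlgebraicGeometry TopologicalSpace Opposite IsLocalRing

set_option linter.unusedSectionVars false
set_option linter.unusedSimpArgs false
set_option linter.style.haveILetI false
namespace Groth.Agent.H6.NZ

section

variable {X : Scheme.{u}} [IsIntegral X] {R : CommRingCat.{u}} [IsLocalRing R]
  (ψ : X.presheaf.stalk (genericPoint X) ⟶ R) (g : Spec R ⟶ X)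
  (hg : g = Spec.map ψ ≫ X.fromSpecStalk (genericPoint X))

include hg in
theorem isFinite_fromNormalization (k : Type u) [Field k] (f : X ⟶ Spec (CommRingCat.of k))
    [LocallyOfFiniteType f] (hR : IsField R) (hψ : ψ.hom.Finite)
    [QuasiCompact g] [QuasiSeparated g] : IsFinite g.fromNormalization :=
  Groth.Agent.H8.Jap.NormFin.isFinite_fromNormalization_of_forall_finite g
    (fun U hU => finite_integralClosure_app ψ g hg hR hψ U hU (isNagata_sections k f U hU))

include hg in
theorem isField_sections (hR : IsField R) (U : X.Opens) (hU : genericPoint X ∈ U) :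
    IsField Γ(Spec R, g ⁻¹ᵁ U) :=
  (secIso ψ g hg U hU).commRingCatIsoToRingEquiv.toMulEquiv.isField hR

theorem isIntegrallyClosed_integralClosure_of_isField (A L : Type u) [CommRing A] [CommRing L]
    [Algebra A L] (hL : IsField L) : IsIntegrallyClosed (integralClosure A L) := by
  letI := hL.toField
  exact IsIntegrallyClosed.of_isIntegrallyClosedIn (integralClosure A L) L

include hg in
theorem isIntegrallyClosed_sections (hR : IsField R) [QuasiCompact g] [QuasiSeparated g]
    (U : X.Opens) (hU : IsAffineOpen U) (hξ : genericPoint X ∈ U) :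
    IsIntegrallyClosed Γ(g.normalization, g.fromNormalization ⁻¹ᵁ U) := by
  letI := (g.app U).hom.toAlgebra
  have h1 : IsIntegrallyClosed (integralClosure Γ(X, U) Γ(Spec R, g ⁻¹ᵁ U)) :=
    isIntegrallyClosed_integralClosure_of_isField _ _ (isField_sections ψ g hg hR U hξ)
  exact IsIntegrallyClosed.of_equiv (g.normalizationObjIso hU).commRingCatIsoToRingEquiv.symm

include hg in
theorem isNormalScheme_normalization (hR : IsField R) [QuasiCompact g] [QuasiSeparated g] :
    ∃ (_ : IsIntegral g.normalization), Pi1.IsNormalScheme g.normalization := by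
  have : IsDomain R := hR.isDomain
  have hint : IsIntegral g.normalization := inferInstance
  refine ⟨hint, ?_⟩
  intro x'
  obtain ⟨_, ⟨U, hU, rfl⟩, hxU, -⟩ := X.isBasis_affineOpens.exists_subset_of_mem_open
    (Set.mem_univ (g.fromNormalization.base x')) isOpen_univ
  have hξ : genericPoint X ∈ U :=
    ((genericPoint_spec X).mem_open_set_iff U.isOpen).mpr ⟨_, trivial, hxU⟩
  have hV : IsAffineOpen (g.fromNormalization ⁻¹ᵁ U) := hU.preimage g.fromNormalization
  have hx'V : x' ∈ g.fromNormalization ⁻¹ᵁ U := hxU
  have hic := isIntegrallyClosed_sections ψ g hg hR U hU hξ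
  have hne : Nonempty (g.fromNormalization ⁻¹ᵁ U : g.normalization.Opens) := ⟨⟨x', hx'V⟩⟩
  let _ := TopCat.Presheaf.algebra_section_stalk g.normalization.presheaf
    (⟨x', hx'V⟩ : (g.fromNormalization ⁻¹ᵁ U : g.normalization.Opens))
  have hloc := hV.isLocalization_stalk ⟨x', hx'V⟩
  refine ⟨inferInstance, ?_⟩
  exact isIntegrallyClosed_of_isLocalization (g.normalization.presheaf.stalk x')
    (hV.primeIdealOf ⟨x', hx'V⟩).asIdeal.primeCompl
    (Ideal.primeCompl_le_nonZeroDivisors _)

end

end Groth.Agent.H6.NZ
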