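import Mathlib
import Groth.Agent.Lib.Helper6.NZ3
import Groth.Agent.Lib.Helper5.AG.NormalAffine

universe u
open CategoryTheory CategoryTheory.Limits AlgebraicGeometry TopologicalSpace Opposite IsLocalRing

set_option linter.unusedSectionVars false
set_option linter.unusedSimpArgs false
set_option linter.style.haveILetI false
namespace Groth.Agent.H6.NZ

section

variable {X : Scheme.{u}} [IsIntegral X] {R : CommRingCat.{u}} [IsLocalRing R]
  (ψ : X.presheaf.stalk (genericPoint X) ⟶ R) (g : Spec R ⟶ X)
  (hg : g = Spec.map ψ ≫ X.fromSpecStalk (genericPoint X))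

include hg in
/-- variant of `finite_integralClosure_app` with the finiteness in `R` as a hypothesis. -/
theorem finite_integralClosure_app' (U : X.Opens) [IsNoetherianRing Γ(X, U)]
    (h1 : ∀ hξ : genericPoint X ∈ U,
      letI : Nonempty U := ⟨⟨_, hξ⟩⟩
      letI := (ψ.hom.comp (algebraMap Γ(X, U) X.functionField)).toAlgebra
      Module.Finite Γ(X, U) (integralClosure Γ(X, U) R)) :
    letI := (g.app U).hom.toAlgebra
    Module.Finite Γ(X, U) (integralClosure Γ(X, U) Γ(Spec R, g ⁻¹ᵁ U)) := by
  letI := (g.app U).hom.toAlgebra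
  by_cases hξ : genericPoint X ∈ U
  · have hne : Nonempty U := ⟨⟨_, hξ⟩⟩
    letI algAK : Algebra Γ(X, U) R :=
      (ψ.hom.comp (algebraMap Γ(X, U) X.functionField)).toAlgebra
    have h1' := h1 hξ
    let e : Γ(Spec R, g ⁻¹ᵁ U) →ₐ[Γ(X, U)] R :=
      { (secIso ψ g hg U hξ).hom.hom with
        commutes' := fun r => by
          have := congrArg (fun q => q.hom r) (app_secIso ψ g hg U hξ)
          exact this }
    refine Groth.Agent.H8.Jap.NormFin.finite_integralClosure_of_pi_injective Γ(X, U)
      Γ(Spec R, g ⁻¹ᵁ U) (fun _ : Unit => R) (fun _ => e) ?_ (fun _ => h1')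
    intro b hb
    have h2 := hb ()
    have hinj : Function.Injective (secIso ψ g hg U hξ).hom.hom :=
      (ConcreteCategory.bijective_of_isIso (secIso ψ g hg U hξ).hom).1
    exact hinj (h2.trans (map_zero _).symm)
  · have h0 : g ⁻¹ᵁ U = ⊥ := preimage_eq_bot ψ g hg U hξ
    have hsub : Subsingleton Γ(Spec R, g ⁻¹ᵁ U) := by
      rw [h0]
      infer_instance
    have : Subsingleton (integralClosure Γ(X, U) Γ(Spec R, g ⁻¹ᵁ U)) :=
      Subtype.val_injective.subsingleton
    infer_instance

end

/-- the normalization of a normal Noetherian integral scheme in a finite separable extension of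
its function field is finite. -/
theorem isFinite_fromNormalization_of_separable {X : Scheme.{u}} [IsIntegral X]
    [IsLocallyNoetherian X]
    (hX : Pi1.IsNormalScheme X) (L : Type u) [Field L] [Algebra X.functionField L]
    [FiniteDimensional X.functionField L] [Algebra.IsSeparable X.functionField L]
    (g : Spec (CommRingCat.of L) ⟶ X)
    (hg : g = Spec.map (CommRingCat.ofHom (algebraMap X.functionField L)) ≫
      X.fromSpecStalk (genericPoint X))
    [QuasiCompact g] [QuasiSeparated g] : IsFinite g.fromNormalization := by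
  let ψ : X.presheaf.stalk (genericPoint X) ⟶ CommRingCat.of L :=
    CommRingCat.ofHom (algebraMap X.functionField L)
  refine Groth.Agent.H8.Jap.NormFin.isFinite_fromNormalization_of_forall_finite g
    (fun U hU => ?_)
  have hN : IsNoetherianRing Γ(X, U) := IsLocallyNoetherian.component_noetherian ⟨U, hU⟩
  refine finite_integralClosure_app' ψ g hg U ?_
  intro hξ
  have hne : Nonempty U := ⟨⟨_, hξ⟩⟩
  have hfrac : IsFractionRing Γ(X, U) X.functionField :=
    functionField_isFractionRing_of_isAffineOpen X U hU
  have hic : IsIntegrallyClosed Γ(X, U) :=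
    (Groth.Agent.H5.AG.isNormalScheme_iff_affine X).1 hX U hU
  letI algAL : Algebra Γ(X, U) L :=
    ((algebraMap X.functionField L).comp (algebraMap Γ(X, U) X.functionField)).toAlgebra
  have : IsScalarTower Γ(X, U) X.functionField L := IsScalarTower.of_algebraMap_eq (fun r => rfl)
  exact IsIntegralClosure.finite Γ(X, U) X.functionField L (integralClosure Γ(X, U) L)

end Groth.Agent.H6.NZ
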