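import Mathlib
import Groth.Agent.Lib.Helper9.Misc.GDH

universe u
open CategoryTheory CategoryTheory.Limits AlgebraicGeometry TopologicalSpace Opposite IsLocalRing

set_option linter.unusedSectionVars false
set_option linter.unusedSimpArgs false
set_option linter.style.haveILetI false
namespace Groth.Agent.H6.NZ

/-- the local ring at a point over a point with one-dimensional local ring, for an integral
dominant morphism of integral schemes, has dimension one. -/
theorem dim_stalk_eq_one {X' X : Scheme.{u}} [IsIntegral X'] [IsIntegral X] (f : X' ⟶ X)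
    [IsIntegralHom f] [IsDominant f] (x' : X')
    (h : ringKrullDim (X.presheaf.stalk (f.base x')) = 1) :
    ringKrullDim (X'.presheaf.stalk x') = 1 := by
  obtain ⟨_, ⟨U, hU, rfl⟩, hxU, -⟩ := X.isBasis_affineOpens.exists_subset_of_mem_open
    (Set.mem_univ (f.base x')) isOpen_univ
  have hV : IsAffineOpen (f ⁻¹ᵁ U) := hU.preimage f
  have hx'V : x' ∈ f ⁻¹ᵁ U := hxU
  have hneV : Nonempty (f ⁻¹ᵁ U : X'.Opens) := ⟨⟨x', hx'V⟩⟩
  have hneU : Nonempty U := ⟨⟨_, hxU⟩⟩
  have hsd : IsSchemeTheoreticallyDominant f := .of_isDominant f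
  have hinj : Function.Injective (f.app U).hom := f.app_injective U
  have hint : (f.app U).hom.IsIntegral := IsIntegralHom.isIntegral_app f U hU
  letI alg : Algebra Γ(X, U) Γ(X', f ⁻¹ᵁ U) := (f.app U).hom.toAlgebra
  have : Algebra.IsIntegral Γ(X, U) Γ(X', f ⁻¹ᵁ U) := ⟨hint⟩
  -- the primes
  let p' := (hV.primeIdealOf ⟨x', hx'V⟩).asIdeal
  let p := (hU.primeIdealOf ⟨f.base x', hxU⟩).asIdeal
  have hpp' : p'.under Γ(X, U) = p := by
    have := IsAffineOpen.comap_primeIdealOf_appLE (f := f) U hU (f ⁻¹ᵁ U) hV le_rfl hx'V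
    have h2 := congrArg PrimeSpectrum.asIdeal this
    rw [← Scheme.Hom.app_eq_appLE] at h2
    exact h2
  -- dimension of stalks as heights
  let _ := TopCat.Presheaf.algebra_section_stalk X'.presheaf
    (⟨x', hx'V⟩ : (f ⁻¹ᵁ U : X'.Opens))
  have hloc' := hV.isLocalization_stalk ⟨x', hx'V⟩
  let _ := TopCat.Presheaf.algebra_section_stalk X.presheaf (⟨f.base x', hxU⟩ : U)
  have hloc := hU.isLocalization_stalk ⟨f.base x', hxU⟩
  rw [IsLocalization.AtPrime.ringKrullDim_eq_height p' (X'.presheaf.stalk x')]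
  rw [IsLocalization.AtPrime.ringKrullDim_eq_height p (X.presheaf.stalk (f.base x'))] at h
  have hp1 : p.height = 1 := by exact_mod_cast h
  have hle : p'.height ≤ 1 := by
    rw [← hp1, ← hpp']
    exact Groth.Agent.H9.GDH.height_le_height_under p'
  have hne : p'.height ≠ 0 := by
    rw [Ne, Ideal.height_eq_zero_iff_eq_bot]
    intro h0
    have hp0 : p = ⊥ := by
      rw [← hpp', h0]
      ext a
      simp only [Ideal.under, Ideal.mem_comap, Ideal.mem_bot]
      constructor
      · intro ha
        exact hinj (by rw [map_zero]; exact ha)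
      · rintro rfl
        exact map_zero _
    exact Ideal.ne_bot_of_height_eq_one hp1 hp0
  have : p'.height = 1 := le_antisymm hle (Order.one_le_iff_pos.mpr (pos_iff_ne_zero.mpr hne))
  exact_mod_cast this

end Groth.Agent.H6.NZ
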