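import Mathlib
import Groth.Agent.Lib.Helper6.NZ3
import Groth.Agent.Lib.Helper6.NZ4

universe u
open CategoryTheory CategoryTheory.Limits AlgebraicGeometry TopologicalSpace Opposite IsLocalRing

set_option linter.unusedSectionVars false
set_option linter.unusedSimpArgs false
set_option linter.style.haveILetI false
namespace Groth.Agent.H6.NZ

section

variable {X : Scheme.{u}} [IsIntegral X] {R : CommRingCat.{u}} [IsLocalRing R]
  (ψ : X.presheaf.stalk (genericPoint X) ⟶ R) (g : Spec R ⟶ X)
  (hg : g = Spec.map ψ ≫ X.fromSpecStalk (genericPoint X))

include hg in
theorem isDominant_g : IsDominant g := by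
  constructor
  rw [DenseRange]
  have h1 : ({genericPoint X} : Set X) ⊆ Set.range g.base := by
    rintro _ rfl
    exact ⟨closedPoint R, g_apply ψ g hg _⟩
  refine Dense.mono h1 ?_
  rw [dense_iff_closure_eq]
  exact (genericPoint_spec X).def

include hg in
theorem isDominant_fromNormalization [QuasiCompact g] [QuasiSeparated g] :
    IsDominant g.fromNormalization := by
  have h1 : IsDominant (g.toNormalization ≫ g.fromNormalization) := by
    rw [Scheme.Hom.toNormalization_fromNormalization]
    exact isDominant_g ψ g hg
  exact IsDominant.of_comp g.toNormalization g.fromNormalization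

include hg in
/-- closed points of the normalization of a curve in a finite extension of its function field
have one-dimensional local rings. -/
theorem dim_closed_points (hR : IsField R) [QuasiCompact g] [QuasiSeparated g]
    (hfin : IsFinite g.fromNormalization)
    (hX : ∀ x : X, IsClosed ({x} : Set X) → ringKrullDim (X.presheaf.stalk x) = 1)
    (x' : g.normalization) (hx' : IsClosed ({x'} : Set g.normalization)) :
    ringKrullDim (g.normalization.presheaf.stalk x') = 1 := by
  obtain ⟨hint, -⟩ := isNormalScheme_normalization ψ g hg hR
  have hdom := isDominant_fromNormalization ψ g hg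
  have hcl : IsClosed ({g.fromNormalization.base x'} : Set X) := by
    have := g.fromNormalization.isClosedMap _ hx'
    rwa [Set.image_singleton] at this
  exact dim_stalk_eq_one g.fromNormalization x' (hX _ hcl)

end

end Groth.Agent.H6.NZ
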