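import Mathlib
import Groth.Prelude.Def_Pi1
import Groth.Prelude.Def_Curv2
import Groth.Agent.Lib.Helper6.NZ10
import Groth.Agent.Lib.Helper6.NZ5

/-! S1585: the normalization of an integral scheme locally of finite type over a field. -/

set_option autoImplicit false
set_option linter.style.haveILetI false
set_option linter.unusedSectionVars false
universe u
open CategoryTheory CategoryTheory.Limits AlgebraicGeometry TopologicalSpace

namespace Groth.Agent.H6.NormVar

/-- common denominators for a finite integral closure -/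
theorem exists_denominator (A K : Type u) [CommRing A] [IsDomain A] [Field K] [Algebra A K]
    [IsFractionRing A K] [Module.Finite A (integralClosure A K)] :
    ∃ s : A, s ≠ 0 ∧ ∀ z : K, IsIntegral A z →
      ∃ a : A, algebraMap A K s * z = algebraMap A K a := by
  classical
  obtain ⟨S, hS⟩ := (Module.Finite.fg_top : (⊤ : Submodule A (integralClosure A K)).FG)
  obtain ⟨s, hs⟩ := IsLocalization.exist_integer_multiples_of_finset (nonZeroDivisors A)
    (Finset.image (fun b : integralClosure A K => (b : K)) S)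
  refine ⟨s.1, nonZeroDivisors.ne_zero s.2, ?_⟩
  intro z hz
  have hmem : (⟨z, hz⟩ : integralClosure A K) ∈
      Submodule.span A (S : Set (integralClosure A K)) := by rw [hS]; trivial
  have key : ∀ b ∈ Submodule.span A (S : Set (integralClosure A K)),
      ∃ a : A, algebraMap A K s.1 * (b : K) = algebraMap A K a := by
    intro b hb
    induction hb using Submodule.span_induction with
    | mem x hx =>
      obtain ⟨a, ha⟩ := hs (x : K) (Finset.mem_image_of_mem _ hx)
      refine ⟨a, ?_⟩
      rw [ha]
      simp only [Algebra.smul_def]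
    | zero => exact ⟨0, by simp⟩
    | add x y _ _ hx hy =>
      obtain ⟨a, ha⟩ := hx
      obtain ⟨b, hb⟩ := hy
      exact ⟨a + b, by rw [Subalgebra.coe_add, mul_add, ha, hb, map_add]⟩
    | smul r x _ hx =>
      obtain ⟨a, ha⟩ := hx
      refine ⟨r * a, ?_⟩
      rw [map_mul, ← ha]
      rw [Subalgebra.coe_smul, Algebra.smul_def]
      ring
  exact key _ hmem

theorem mem_range_of_isIntegral_away (A A' K : Type u) [CommRing A] [Field K]
    [Algebra A K] [CommRing A'] [Algebra A A'] [Algebra A' K]
    [IsScalarTower A A' K] (s : A) [IsLocalization.Away s A']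
    (hs : ∀ z : K, IsIntegral A z → ∃ a : A, algebraMap A K s * z = algebraMap A K a)
    (z : K) (hz : IsIntegral A' z) : z ∈ Set.range (algebraMap A' K) := by
  obtain ⟨⟨m, n, rfl⟩, hm⟩ :=
    IsIntegral.exists_multiple_integral_of_isLocalization (Submonoid.powers s) z hz
  obtain ⟨a, ha⟩ := hs _ hm
  have hunit : IsUnit (algebraMap A A' s) := IsLocalization.Away.algebraMap_isUnit s
  obtain ⟨u, hu⟩ := hunit
  refine ⟨algebraMap A A' a * ((u⁻¹ ^ (n + 1) : A'ˣ) : A'), ?_⟩
  have hd : algebraMap A K s = algebraMap A' K (u : A') := by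
    rw [hu, ← IsScalarTower.algebraMap_apply]
  have h1 : algebraMap A K s * algebraMap A' K ((u⁻¹ : A'ˣ) : A') = 1 := by
    rw [hd, ← map_mul, Units.mul_inv, map_one]
  have h2 : algebraMap A K a = algebraMap A K s ^ (n + 1) * z := by
    rw [← ha]
    show algebraMap A K s * ((s ^ n) • z) = _
    rw [Algebra.smul_def, map_pow, pow_succ]
    ring
  rw [map_mul, ← IsScalarTower.algebraMap_apply, h2, Units.val_pow_eq_pow_val, map_pow]
  calc algebraMap A K s ^ (n + 1) * z * algebraMap A' K ((u⁻¹ : A'ˣ) : A') ^ (n + 1)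
      = (algebraMap A K s * algebraMap A' K ((u⁻¹ : A'ˣ) : A')) ^ (n + 1) * z := by ring
    _ = z := by rw [h1, one_pow, one_mul]

section

variable {X : Scheme.{u}} [IsIntegral X] {R : CommRingCat.{u}} [IsLocalRing R]
  (ψ : X.presheaf.stalk (genericPoint X) ⟶ R) (g : Spec R ⟶ X)
  (hg : g = Spec.map ψ ≫ X.fromSpecStalk (genericPoint X))

include hg in
theorem app_injective (hψ : Function.Injective ψ.hom) (W : X.Opens) (hξ : genericPoint X ∈ W) :
    Function.Injective (g.app W).hom := by
  have h1 := Groth.Agent.H6.NZ.app_secIso ψ g hg W hξ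
  have h2 : Function.Injective (X.presheaf.germ W (genericPoint X) hξ ≫ ψ).hom := by
    rw [CommRingCat.hom_comp]
    exact hψ.comp (germ_injective_of_isIntegral X (genericPoint X) hξ)
  rw [← h1, CommRingCat.hom_comp, RingHom.coe_comp] at h2
  exact Function.Injective.of_comp h2

end

section

theorem exists_open_isIso_aux (k : Type u) [Field k] (X : Scheme.{u})
    [X.Over (Spec (CommRingCat.of k))] [IsIntegral X]
    [LocallyOfFiniteType (X ↘ (Spec (CommRingCat.of k)))]
    (g : Spec (X.presheaf.stalk (genericPoint X)) ⟶ X)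
    (hg0 : g = X.fromSpecStalk (genericPoint X)) [QuasiCompact g] [QuasiSeparated g] :
    ∃ V : X.Opens, (V : Set X).Nonempty ∧ IsIso (g.fromNormalization ∣_ V) := by
  let ψ : X.presheaf.stalk (genericPoint X) ⟶ X.presheaf.stalk (genericPoint X) := 𝟙 _
  have hg : g = Spec.map ψ ≫ X.fromSpecStalk (genericPoint X) := by
    rw [hg0]; simp [ψ]
  obtain ⟨_, ⟨W, hW, rfl⟩, hηW, -⟩ := X.isBasis_affineOpens.exists_subset_of_mem_open
    (Set.mem_univ (genericPoint X)) isOpen_univ
  have hW : IsAffineOpen W := hW
  have hηW : genericPoint X ∈ W := hηW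
  haveI hneW : Nonempty W := ⟨⟨_, hηW⟩⟩
  haveI hfrac : IsFractionRing Γ(X, W) X.functionField :=
    functionField_isFractionRing_of_isAffineOpen X W hW
  have hN : CAlg.IsNagata Γ(X, W) :=
    Groth.Agent.H6.NZ.isNagata_sections k (X ↘ (Spec (CommRingCat.of k))) W hW
  have hk : ∀ z : X.functionField, ∃ a s : Γ(X, W), algebraMap Γ(X, W) X.functionField s ≠ 0 ∧
      z * algebraMap Γ(X, W) X.functionField s = algebraMap Γ(X, W) X.functionField a := by
    intro z
    obtain ⟨⟨a, s⟩, h⟩ := IsLocalization.surj (nonZeroDivisors Γ(X, W)) z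
    refine ⟨a, s.1, ?_, h⟩
    exact IsLocalization.to_map_ne_zero_of_mem_nonZeroDivisors X.functionField le_rfl s.2
  haveI hfin : Module.Finite Γ(X, W) (integralClosure Γ(X, W) X.functionField) :=
    Groth.Agent.H8.Jap.NormFin.finite_integralClosure_field Γ(X, W) hN X.functionField
      X.functionField hk
  obtain ⟨s, hs0, hs⟩ := exists_denominator Γ(X, W) X.functionField
  -- the basic open
  have hV : IsAffineOpen (X.basicOpen s) := hW.basicOpen s
  have hVne : X.basicOpen s ≠ ⊥ := by
    intro h
    exact hs0 ((AlgebraicGeometry.basicOpen_eq_bot_iff s).mp h)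
  have hηV : genericPoint X ∈ X.basicOpen s := by
    refine ((genericPoint_spec X).mem_open_set_iff (X.basicOpen s).2).mpr ?_
    obtain ⟨x, hx⟩ : ((X.basicOpen s : X.Opens) : Set X).Nonempty := by
      rw [Set.nonempty_iff_ne_empty]
      intro h
      apply hVne
      ext y
      simp only [Opens.coe_bot, Set.mem_empty_iff_false, iff_false]
      intro hy
      have : y ∈ ((X.basicOpen s : X.Opens) : Set X) := hy
      rw [h] at this
      exact this
    exact ⟨x, trivial, hx⟩
  haveI hneV : Nonempty (X.basicOpen s) := ⟨⟨_, hηV⟩⟩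
  refine ⟨X.basicOpen s, ⟨_, hηV⟩, ?_⟩
  rw [isIso_morphismRestrict_iff_isIso_app _ hV]
  -- integrally closed
  haveI : IsLocalization.Away s Γ(X, X.basicOpen s) := hW.isLocalization_basicOpen s
  haveI : IsScalarTower Γ(X, W) Γ(X, X.basicOpen s) X.functionField := by
    refine IsScalarTower.of_algebraMap_eq (fun r => ?_)
    exact (TopCat.Presheaf.germ_res_apply X.presheaf (homOfLE (X.basicOpen_le s))
      (genericPoint X) hηV r).symm
  have hclosed : ∀ z : X.functionField, IsIntegral Γ(X, X.basicOpen s) z →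
      z ∈ Set.range (algebraMap Γ(X, X.basicOpen s) X.functionField) :=
    fun z hz => mem_range_of_isIntegral_away Γ(X, W) Γ(X, X.basicOpen s) X.functionField s hs z hz
  -- the section ring of the normalization
  have hν := g.fromNormalization_app hV
  letI alg : Algebra Γ(X, X.basicOpen s) Γ(Spec (X.presheaf.stalk (genericPoint X)),
    g ⁻¹ᵁ X.basicOpen s) := (g.app (X.basicOpen s)).hom.toAlgebra
  have hsec := Groth.Agent.H6.NZ.app_secIso ψ g hg (X.basicOpen s) hηV
  let e : Γ(Spec (X.presheaf.stalk (genericPoint X)), g ⁻¹ᵁ X.basicOpen s)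
      →ₐ[Γ(X, X.basicOpen s)] X.functionField :=
    { (Groth.Agent.H6.NZ.secIso ψ g hg (X.basicOpen s) hηV).hom.hom with
      commutes' := fun r => by
        have := congrArg (fun q => q.hom r) hsec
        exact this }
  have heinj : Function.Injective e :=
    (ConcreteCategory.bijective_of_isIso
      (Groth.Agent.H6.NZ.secIso ψ g hg (X.basicOpen s) hηV).hom).1
  have hbij : Function.Bijective (algebraMap Γ(X, X.basicOpen s)
      (integralClosure Γ(X, X.basicOpen s)
        Γ(Spec (X.presheaf.stalk (genericPoint X)), g ⁻¹ᵁ X.basicOpen s))) := by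
    constructor
    · intro a b hab
      apply app_injective ψ g hg (fun a b h => h) (X.basicOpen s) hηV
      exact congrArg Subtype.val hab
    · intro y
      have hy : IsIntegral Γ(X, X.basicOpen s) (e y.1) := y.2.map e
      obtain ⟨c, hc⟩ := hclosed _ hy
      refine ⟨c, ?_⟩
      apply Subtype.ext
      apply heinj
      rw [← hc]
      exact e.commutes c
  rw [hν]
  haveI : IsIso (CommRingCat.ofHom (algebraMap Γ(X, X.basicOpen s)
      (integralClosure Γ(X, X.basicOpen s)
        Γ(Spec (X.presheaf.stalk (genericPoint X)), g ⁻¹ᵁ X.basicOpen s)))) :=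
    (ConcreteCategory.isIso_iff_bijective _).mpr hbij
  infer_instance

/-- **S1585**. -/
theorem s1585 (k : Type u) [Field k] (X : Scheme.{u})
    [X.Over (Spec (CommRingCat.of k))] [IsIntegral X]
    [LocallyOfFiniteType (X ↘ (Spec (CommRingCat.of k)))]
    [QuasiCompact (X.fromSpecStalk (genericPoint X))]
    [QuasiSeparated (X.fromSpecStalk (genericPoint X))] :
    IsFinite (Curv2.normalizationι X) ∧ IsDominant (Curv2.normalizationι X) ∧
      (∃ V : X.Opens, (V : Set X).Nonempty ∧ IsIso (Curv2.normalizationι X ∣_ V)) ∧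
      IsIntegral (Curv2.normalization X) ∧ Pi1.IsNormalScheme (Curv2.normalization X) := by
  let ψ : X.presheaf.stalk (genericPoint X) ⟶ X.presheaf.stalk (genericPoint X) := 𝟙 _
  have hg : X.fromSpecStalk (genericPoint X) = Spec.map ψ ≫ X.fromSpecStalk (genericPoint X) := by
    simp [ψ]
  have hR : IsField (X.presheaf.stalk (genericPoint X)) := Field.toIsField X.functionField
  have hψ : ψ.hom.Finite := RingHom.Finite.id _
  obtain ⟨hint, hnorm⟩ := Groth.Agent.H6.NZ.isNormalScheme_normalization ψ
    (X.fromSpecStalk (genericPoint X)) hg hR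
  refine ⟨?_, ?_, exists_open_isIso_aux k X _ rfl, hint, hnorm⟩
  · exact Groth.Agent.H6.NZ.isFinite_fromNormalization ψ (X.fromSpecStalk (genericPoint X)) hg k
      (X ↘ (Spec (CommRingCat.of k))) hR hψ
  · exact Groth.Agent.H6.NZ.isDominant_fromNormalization ψ (X.fromSpecStalk (genericPoint X)) hg

end

end Groth.Agent.H6.NormVar
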