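import Mathlib
import Groth.Agent.Lib.Helper6.LCDT
import Groth.Agent.Lib.Helper8.LC.DTDerived

/-! Exactness properties of the ideal transform `D_I`. -/

set_option autoImplicit false
set_option linter.unusedSectionVars false

universe u
open CategoryTheory CategoryTheory.Limits Opposite

namespace Groth.Agent.H6

namespace DTEx

open LocCoh DT

variable {R : Type u} [CommRing R] [IsNoetherianRing R] (I : Ideal R)

/-- `D_I` is left exact on short exact sequences. -/
theorem map_exact_mono (S : ShortComplex (ModuleCat.{u} R)) (hS : S.ShortExact) :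
    (S.map (idealTransform I)).Exact ∧ Mono ((idealTransform I).map S.f) := by
  have hinj : Function.Injective S.f.hom := hS.moduleCat_injective_f
  have hex := (ShortComplex.ShortExact.moduleCat_exact_iff_function_exact S).1 hS.exact
  constructor
  · rw [ShortComplex.moduleCat_exact_iff]
    intro y hy
    obtain ⟨n, h, rfl⟩ := ι_surj (I := I) (M := S.X₂) y
    have hy' : ((idealTransform I).map (ModuleCat.ofHom S.g.hom)).hom (ι I S.X₂ n h) = 0 := hy
    rw [map_ι, ι_eq_zero_iff] at hy'
    obtain ⟨k, hk, h0⟩ := hy'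
    set h' := h ∘ₗ Submodule.inclusion (Ideal.pow_le_pow_right hk) with hh'
    have hrange : LinearMap.range h' ≤ LinearMap.range S.f.hom := by
      rintro _ ⟨c, rfl⟩
      have := LinearMap.congr_fun h0 c
      exact (hex _).1 this
    obtain ⟨k', hk', h'', hh''⟩ := exists_lift (I := I) S.f.hom (fun m hm => by
      rw [LinearMap.ker_eq_bot.2 hinj] at hm
      rw [(Submodule.mem_bot R).1 hm]
      exact ⟨0, fun a _ => smul_zero a⟩) h' hrange
    refine ⟨ι I S.X₁ k' h'', ?_⟩
    change ((idealTransform I).map (ModuleCat.ofHom S.f.hom)).hom (ι I S.X₁ k' h'') = _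
    rw [map_ι, hh'', ι_restrict hk', hh', ι_restrict hk]
  · rw [ModuleCat.mono_iff_injective]
    exact map_injective (I := I) S.f.hom (by
      rw [LinearMap.ker_eq_bot.2 hinj]; exact bot_le)

instance preservesFiniteLimits : PreservesFiniteLimits (idealTransform I) :=
  ((idealTransform I).preservesFiniteLimits_tfae.out 0 3).1 (map_exact_mono I)

section General

variable {C : Type*} [Category C] [Abelian C] [HasInjectiveResolutions C]
  {D : Type*} [Category D] [Abelian D]

lemma isZero_rightDerived_succ_of_exact (F : C ⥤ D) [F.Additive] [PreservesFiniteLimits F]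
    [PreservesFiniteColimits F] (X : C) (n : ℕ) :
    IsZero ((F.rightDerived (n + 1)).obj X) := by
  let P := injectiveResolution X
  refine IsZero.of_iso ?_ (P.isoRightDerivedObj F (n + 1))
  have h := P.cocomplex_exactAt_succ n
  change IsZero (((F.mapHomologicalComplex _).obj P.cocomplex).homology (n + 1))
  rw [← HomologicalComplex.exactAt_iff_isZero_homology]
  exact (h.map F : ((P.cocomplex.sc (n + 1)).map F).Exact)

end General

open Groth.Agent.H8.LC in
theorem cdLE_of_exact [PreservesFiniteLimits (idealTransform I)]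
    [PreservesFiniteColimits (idealTransform I)] : LocCoh.CdLE R I 1 := by
  intro M _ _ i hi
  obtain ⟨n, rfl⟩ : ∃ n, i = n + 2 := ⟨i - 2, by omega⟩
  have e := (rightDerivedDTIso I n).app (ModuleCat.of R M)
  have hz := isZero_rightDerived_succ_of_exact (idealTransform I) (ModuleCat.of R M) n
  have hz' : IsZero ((localCohomology I (n + 2)).obj (ModuleCat.of R M)) := hz.of_iso e.symm
  exact ModuleCat.subsingleton_of_isZero hz'

open LC in
/-- Naturality of `D_I(M) → H¹_I(M)`. -/
theorem dtToH1_naturality {M M' : Type u} [AddCommGroup M] [Module R M] [AddCommGroup M']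
    [Module R M'] (e : M →ₗ[R] M') (x : LocCoh.DT I M) :
    ((localCohomology I 1).map (ModuleCat.ofHom e)).hom (dtToH1 I M x) =
      dtToH1 I M' (((idealTransform I).map (ModuleCat.ofHom e)).hom x) := by
  obtain ⟨n, φ, rfl⟩ := ι_surj x
  rw [dtToH1_ι, map_ι, dtToH1_ι, map_lcι, conn_apply, conn_apply]
  congr 1
  rw [Abelian.Ext.comp_assoc_of_second_deg_zero, Abelian.Ext.mk₀_comp_mk₀]
  rfl

open LC Groth.Agent.H8.LC in
/-- If `H²_I` of the kernel vanishes, `D_I` of a surjection is surjective. -/
theorem map_surjective_of_H2 (S : ShortComplex (ModuleCat.{u} R)) (hS : S.ShortExact)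
    (h2 : Subsingleton ((localCohomology I 2).obj S.X₁)) :
    Function.Surjective ((idealTransform I).map S.g).hom := by
  have hex := (lcDelta I).exact₃ hS 1
  rw [ShortComplex.moduleCat_exact_iff] at hex
  have hsurj := hS.moduleCat_surjective_g
  intro z
  obtain ⟨w', hw'⟩ := hex (dtToH1 I S.X₃ z) (h2.elim _ _)
  obtain ⟨y, rfl⟩ := dtToH1_surjective I S.X₂ w'
  have hw'' : ((localCohomology I 1).map (ModuleCat.ofHom S.g.hom)).hom (dtToH1 I S.X₂ y) =
      dtToH1 I S.X₃ z := hw'
  rw [dtToH1_naturality] at hw''
  have hk : z - ((idealTransform I).map (ModuleCat.ofHom S.g.hom)).hom y ∈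
      LinearMap.ker (dtToH1 I S.X₃) := by
    rw [LinearMap.mem_ker, map_sub, hw'', sub_self]
  rw [ker_dtToH1] at hk
  obtain ⟨c, hc⟩ := hk
  obtain ⟨b, rfl⟩ := hsurj c
  refine ⟨y + toDT I S.X₂ b, ?_⟩
  change ((idealTransform I).map (ModuleCat.ofHom S.g.hom)).hom (y + toDT I S.X₂ b) = z
  rw [map_add, toDT_naturality, hc]
  abel

/-- `D_I` is exact as soon as it preserves surjections. -/
theorem exact_of_map_surjective
    (h : ∀ (S : ShortComplex (ModuleCat.{u} R)), S.ShortExact →
      Function.Surjective ((idealTransform I).map S.g).hom) :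
    PreservesFiniteLimits (idealTransform I) ∧ PreservesFiniteColimits (idealTransform I) := by
  refine ((idealTransform I).exact_tfae.out 0 3).1 (fun S hS => ?_)
  have h1 := map_exact_mono I S hS
  exact
    { exact := h1.1
      mono_f := h1.2
      epi_g := (ModuleCat.epi_iff_surjective _).2 (h S hS) }

/-- **S11628**: `D_I` is exact iff `cd(I) ≤ 1`. -/
theorem exact_iff_cdLE :
    (PreservesFiniteLimits (idealTransform I) ∧ PreservesFiniteColimits (idealTransform I)) ↔
      LocCoh.CdLE R I 1 := by
  constructor
  · rintro ⟨h1, h2⟩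
    exact cdLE_of_exact I
  · intro hcd
    apply exact_of_map_surjective
    intro S hS
    exact map_surjective_of_H2 I S hS (hcd S.X₁ 2 (by norm_num))

end DTEx

end Groth.Agent.H6
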