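import Mathlib
import Groth.Agent.Lib.Helper1.GeomNum
import Groth.Agent.Lib.Helper5.AlgSp.PointsTop

set_option autoImplicit false
set_option linter.style.haveILetI false
open CategoryTheory AlgebraicGeometry CategoryTheory.Limits

namespace Groth.Agent.H6.GN

universe u

theorem card_connectedComponents_of_discrete (Z : Type*) [TopologicalSpace Z] [DiscreteTopology Z] :
    ENat.card (_root_.ConnectedComponents Z) = ENat.card Z := by
  have hinj : Function.Injective (ConnectedComponents.mk : Z → _root_.ConnectedComponents Z) := by
    intro a b h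
    have h1 := ConnectedComponents.coe_eq_coe.mp h
    rw [connectedComponent_eq_singleton, connectedComponent_eq_singleton] at h1
    exact Set.singleton_injective h1
  exact (ENat.card_congr (Equiv.ofBijective _ ⟨hinj, ConnectedComponents.surjective_coe⟩)).symm

theorem discreteTopology_geomFiber {X Y : Scheme.{u}} (f : X ⟶ Y) [LocallyQuasiFinite f] (y : Y) :
    DiscreteTopology ↥(MoreMor.geomFiber f y) := by
  unfold MoreMor.geomFiber
  set j := Spec.map (CommRingCat.ofHom
      (algebraMap (Y.residueField y) (SeparableClosure (Y.residueField y)))) with hj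
  haveI : LocallyQuasiFinite (f.fiberToSpecResidueField y) := by
    unfold Scheme.Hom.fiberToSpecResidueField
    exact MorphismProperty.pullback_snd (P := @LocallyQuasiFinite) f _ inferInstance
  let g := pullback.snd (f.fiberToSpecResidueField y) j
  haveI : LocallyQuasiFinite g :=
    MorphismProperty.pullback_snd (P := @LocallyQuasiFinite) _ _ inferInstance
  let pt : Spec (CommRingCat.of (SeparableClosure (Y.residueField y))) :=
    (⊥ : PrimeSpectrum (SeparableClosure (Y.residueField y)))
  have h1 := g.isDiscrete_preimage_singleton pt
  have h2 : g ⁻¹' {pt} = Set.univ := by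
    ext z
    simp only [Set.mem_preimage, Set.mem_singleton_iff, Set.mem_univ, iff_true]
    exact Subsingleton.elim (α := PrimeSpectrum (SeparableClosure (Y.residueField y))) _ _
  rw [h2] at h1
  exact isDiscrete_univ_iff.mp h1

theorem card_geomFiber_eq {X Y : Scheme.{u}} (f : X ⟶ Y) [LocallyQuasiFinite f] (y : Y) :
    ENat.card ↥(MoreMor.geomFiber f y) = MoreMor.nGeomConnComp f y := by
  haveI := discreteTopology_geomFiber f y
  unfold MoreMor.nGeomConnComp
  exact (card_connectedComponents_of_discrete _).symm

theorem s5051 {X Y : Scheme.{u}} (f : X ⟶ Y) [Etale f] [IsSeparated f]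
    [LocallyOfFiniteType f] [QuasiCompact f] :
    LowerSemicontinuous (fun y : Y => ENat.card ↥(MoreMor.geomFiber f y)) := by
  haveI : LocallyQuasiFinite f := Groth.Agent.H5.AlgSp.locallyQuasiFinite_of_etale f
  have h := (Groth.Agent.H1.GeomNum.s3418 f).1
  have : (fun y : Y => ENat.card ↥(MoreMor.geomFiber f y)) =
      fun z : Y => MoreMor.nGeomConnComp f z := funext fun y => card_geomFiber_eq f y
  rw [this]
  exact h

end Groth.Agent.H6.GN
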