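import Mathlib

/-! Helper6: locally exact short complexes of presheaves of abelian groups become exact after sheafification. -/

set_option autoImplicit false
open CategoryTheory CategoryTheory.Limits Opposite

universe u

namespace Groth.Agent.H6.ShLocEx

variable {D : Type u} [SmallCategory D] (J : GrothendieckTopology D)

/-- a presheaf of abelian groups all of whose sections are locally zero has zero sheafification -/
theorem isZero_sheafify_of_locally_zero (N : Dᵒᵖ ⥤ AddCommGrpCat.{u})
    (h : ∀ (U : D) (s : N.obj (op U)), ∃ S : Sieve U, S ∈ J U ∧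
      ∀ ⦃V : D⦄ (f : V ⟶ U), S f → N.map f.op s = 0) :
    IsZero ((presheafToSheaf J AddCommGrpCat.{u}).obj N) := by
  let Z : Dᵒᵖ ⥤ AddCommGrpCat.{u} := (Functor.const Dᵒᵖ).obj (AddCommGrpCat.of PUnit.{u + 1})
  have hZ : IsZero Z := Functor.isZero _ (fun _ => by
    haveI : Subsingleton (AddCommGrpCat.of PUnit.{u + 1}) := inferInstanceAs (Subsingleton PUnit.{u + 1})
    exact AddCommGrpCat.isZero_of_subsingleton (AddCommGrpCat.of PUnit.{u + 1}))
  let f : N ⟶ Z := 0
  haveI : Presheaf.IsLocallyInjective J f := by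
    constructor
    intro X x y _
    obtain ⟨S, hS, hz⟩ := h X.unop (x - y)
    refine J.superset_covering ?_ hS
    intro V g hg
    have := hz g hg
    rw [map_sub, sub_eq_zero] at this
    exact this
  haveI : Presheaf.IsLocallySurjective J f := by
    constructor
    intro U s
    refine J.superset_covering ?_ (J.top_mem U)
    intro V g _
    exact ⟨0, @Subsingleton.elim PUnit.{u + 1} _ _ _⟩
  have hW : J.W f := J.W_of_isLocallyBijective f
  have hiso : IsIso ((presheafToSheaf J AddCommGrpCat.{u}).map f) := (J.W_iff f).1 hW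
  exact IsZero.of_iso ((presheafToSheaf J AddCommGrpCat.{u}).map_isZero hZ)
    (asIso ((presheafToSheaf J AddCommGrpCat.{u}).map f))

/-- the homology presheaf of a locally exact short complex of presheaves is locally zero -/
theorem homology_locally_zero (S₀ : ShortComplex (Dᵒᵖ ⥤ AddCommGrpCat.{u}))
    (h : ∀ (U : D) (z : S₀.X₂.obj (op U)), S₀.g.app (op U) z = 0 → ∃ S : Sieve U, S ∈ J U ∧
      ∀ ⦃V : D⦄ (f : V ⟶ U), S f → ∃ w : S₀.X₁.obj (op V), S₀.f.app (op V) w = S₀.X₂.map f.op z)
    (U : D) (s : S₀.homology.obj (op U)) :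
    ∃ S : Sieve U, S ∈ J U ∧ ∀ ⦃V : D⦄ (f : V ⟶ U), S f → S₀.homology.map f.op s = 0 := by
  have hπ : Function.Surjective (S₀.homologyπ.app (op U)) :=
    (AddCommGrpCat.epi_iff_surjective _).1 inferInstance
  obtain ⟨c, rfl⟩ := hπ s
  have hgz : S₀.g.app (op U) (S₀.iCycles.app (op U) c) = 0 := by
    have := ConcreteCategory.congr_hom (congrArg (fun t => t.app (op U)) S₀.iCycles_g) c
    exact this
  obtain ⟨S, hS, H⟩ := h U _ hgz
  refine ⟨S, hS, ?_⟩
  intro V f hf
  obtain ⟨w, hw⟩ := H f hf
  have hinj : Function.Injective (S₀.iCycles.app (op V)) :=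
    (AddCommGrpCat.mono_iff_injective _).1 inferInstance
  have e1 : S₀.toCycles.app (op V) w = S₀.cycles.map f.op c := by
    apply hinj
    have h1 := ConcreteCategory.congr_hom (congrArg (fun t => t.app (op V)) S₀.toCycles_i) w
    have h2 := NatTrans.naturality_apply S₀.iCycles f.op c
    exact (h1.trans hw).trans h2.symm
  have h3 := NatTrans.naturality_apply S₀.homologyπ f.op c
  rw [← h3, ← e1]
  exact ConcreteCategory.congr_hom (congrArg (fun t => t.app (op V)) S₀.toCycles_comp_homologyπ) w

/-- a locally exact short complex of presheaves of abelian groups becomes exact after sheafification -/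
theorem exact_map_sheafify (S₀ : ShortComplex (Dᵒᵖ ⥤ AddCommGrpCat.{u}))
    (h : ∀ (U : D) (z : S₀.X₂.obj (op U)), S₀.g.app (op U) z = 0 → ∃ S : Sieve U, S ∈ J U ∧
      ∀ ⦃V : D⦄ (f : V ⟶ U), S f → ∃ w : S₀.X₁.obj (op V), S₀.f.app (op V) w = S₀.X₂.map f.op z) :
    (S₀.map (presheafToSheaf J AddCommGrpCat.{u})).Exact := by
  rw [ShortComplex.exact_iff_isZero_homology]
  exact IsZero.of_iso (isZero_sheafify_of_locally_zero J _ (homology_locally_zero J S₀ h))
    (S₀.mapHomologyIso (presheafToSheaf J AddCommGrpCat.{u}))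

/-- a locally surjective map of presheaves becomes an epimorphism after sheafification -/
theorem epi_map_sheafify {P Q : Dᵒᵖ ⥤ AddCommGrpCat.{u}} (f : P ⟶ Q)
    (h : ∀ (U : D) (s : Q.obj (op U)), ∃ S : Sieve U, S ∈ J U ∧
      ∀ ⦃V : D⦄ (g : V ⟶ U), S g → ∃ t : P.obj (op V), f.app (op V) t = Q.map g.op s) :
    Epi ((presheafToSheaf J AddCommGrpCat.{u}).map f) := by
  haveI : Presheaf.IsLocallySurjective J f := by
    constructor
    intro U s
    obtain ⟨S, hS, H⟩ := h U s
    refine J.superset_covering ?_ hS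
    intro V g hg
    exact H g hg
  have h1 : Sheaf.IsLocallySurjective ((presheafToSheaf J AddCommGrpCat.{u}).map f) :=
    (Presheaf.isLocallySurjective_presheafToSheaf_map_iff (J := J) (φ := f)).2 inferInstance
  exact (Sheaf.isLocallySurjective_iff_epi' _ _).1 h1

end Groth.Agent.H6.ShLocEx
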