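import Mathlib
import Groth.Agent.Lib.Helper2.RDer7
import Groth.Agent.Lib.Lead.PE.Shift

/-! Helper6: low-degree consequences of the Grothendieck spectral sequence of a composite functor,
proved by dimension shifting. -/

set_option autoImplicit false
universe v v' v'' u u' u''
open CategoryTheory Limits
open Groth.Agent.H2.RDer

namespace Groth.Agent.H6.ScHA

section basics

variable {𝒜 : Type u} [Category.{v} 𝒜] [Abelian 𝒜] [EnoughInjectives 𝒜]
  {ℬ : Type u'} [Category.{v'} ℬ] [Abelian ℬ]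
  (F : 𝒜 ⥤ ℬ) [F.Additive]

theorem isIso_δ {S : ShortComplex 𝒜} (hS : S.ShortExact) (q : ℕ)
    (h1 : IsZero ((F.rightDerived q).obj S.X₂))
    (h2 : IsZero ((F.rightDerived (q + 1)).obj S.X₂)) :
    IsIso (LES.δ F hS q) := by
  haveI : Mono (LES.δ F hS q) := (LES.exact₃ F hS q).mono_g (h1.eq_of_src _ _)
  haveI : Epi (LES.δ F hS q) := (LES.exact₁ F hS q).epi_f (h2.eq_of_tgt _ _)
  exact isIso_of_mono_of_epi _

/-- dimension shifting iso for a short exact sequence with injective middle term -/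
theorem nonempty_shift_iso {S : ShortComplex 𝒜} (hS : S.ShortExact) [Injective S.X₂] (q : ℕ) :
    Nonempty ((F.rightDerived (q + 1)).obj S.X₃ ≅ (F.rightDerived (q + 2)).obj S.X₁) := by
  haveI := isIso_δ F hS (q + 1) (F.isZero_rightDerived_obj_injective_succ q S.X₂)
    (F.isZero_rightDerived_obj_injective_succ (q + 1) S.X₂)
  exact ⟨asIso (LES.δ F hS (q + 1))⟩

/-- the first cosyzygy sequence -/
noncomputable abbrev cosyzSC (A : 𝒜) : ShortComplex 𝒜 :=
  ShortComplex.mk (Injective.ι A) (cokernel.π (Injective.ι A)) (cokernel.condition _)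

lemma cosyzSC_shortExact (A : 𝒜) : (cosyzSC A).ShortExact :=
  { exact := ShortComplex.exact_of_g_is_cokernel _ (cokernelIsCokernel _)
    mono_f := inferInstanceAs (Mono (Injective.ι A))
    epi_g := inferInstanceAs (Epi (cokernel.π (Injective.ι A))) }

instance (A : 𝒜) : Injective (cosyzSC A).X₂ := inferInstanceAs (Injective (Injective.under A))

/-- the first cosyzygy -/
noncomputable abbrev cosyz (A : 𝒜) : 𝒜 := (cosyzSC A).X₃

theorem nonempty_R1_iso_cokernel [PreservesFiniteLimits F] {S : ShortComplex 𝒜}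
    (hS : S.ShortExact) (h : IsZero ((F.rightDerived 1).obj S.X₂)) :
    Nonempty ((F.rightDerived 1).obj S.X₁ ≅ cokernel (F.map S.g)) := by
  haveI : Epi (LES.δ F hS 0) := (LES.exact₁ F hS 0).epi_f (h.eq_of_tgt _ _)
  have hc := (LES.exact₃ F hS 0).gIsCokernel
  let e1 : (F.rightDerived 1).obj S.X₁ ≅ cokernel ((F.rightDerived 0).map S.g) :=
    IsColimit.coconePointUniqueUpToIso hc (colimit.isColimit _)
  let e := F.rightDerivedZeroIsoSelf
  let e2 : cokernel ((F.rightDerived 0).map S.g) ≅ cokernel (F.map S.g) :=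
    cokernel.mapIso _ _ (e.app S.X₂) (e.app S.X₃) (e.hom.naturality S.g)
  exact ⟨e1 ≪≫ e2⟩

end basics

section PD

variable {𝒜 : Type u} [Category.{v} 𝒜] [Abelian 𝒜] [EnoughInjectives 𝒜]
  {ℬ : Type u'} [Category.{v'} ℬ] [Abelian ℬ] [EnoughInjectives ℬ]
  {𝒞 : Type u''} [Category.{v''} 𝒞] [Abelian 𝒞]
  (T : 𝒜 ⥤ ℬ) [T.Additive] [PreservesFiniteLimits T] [T.PreservesInjectiveObjects]
  (S : ℬ ⥤ 𝒞) [S.Additive] [PreservesFiniteLimits S]

omit [EnoughInjectives ℬ] [T.PreservesInjectiveObjects] in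
lemma shortExact_map_cosyz (A : 𝒜) (h : IsZero ((T.rightDerived 1).obj A)) :
    ((cosyzSC A).map T).ShortExact :=
  Groth.Agent.LD.PE.shortExact_map_of_isZero_R1 T (cosyzSC_shortExact A) h

omit [EnoughInjectives ℬ] [T.PreservesInjectiveObjects] in
lemma isZero_rightDerived_cosyz (A : 𝒜) (n : ℕ)
    (hA : ∀ q, 1 ≤ q → q ≤ n + 1 → IsZero ((T.rightDerived q).obj A)) :
    ∀ q, 1 ≤ q → q ≤ n → IsZero ((T.rightDerived q).obj (cosyz A)) := by
  intro q hq1 hqn
  obtain ⟨q', rfl⟩ : ∃ q', q = q' + 1 := ⟨q - 1, by omega⟩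
  exact Groth.Agent.LD.PE.isZero_rightDerived_X₃ T (cosyzSC_shortExact A) q'
    (hA (q' + 2) (by omega) (by omega))

instance (A : 𝒜) : Injective ((cosyzSC A).map T).X₂ :=
  T.injective_obj_of_injective (inferInstanceAs (Injective (cosyzSC A).X₂))

/-- partial degeneration of the Grothendieck spectral sequence -/
theorem nonempty_iso_comp (n : ℕ) : ∀ (A : 𝒜),
    (∀ q, 1 ≤ q → q ≤ n → IsZero ((T.rightDerived q).obj A)) →
    ∀ i, i ≤ n →
      Nonempty ((S.rightDerived i).obj (T.obj A) ≅ ((T ⋙ S).rightDerived i).obj A) := by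
  induction n with
  | zero =>
    intro A _ i hi
    obtain rfl : i = 0 := by omega
    exact ⟨S.rightDerivedZeroIsoSelf.app _ ≪≫ ((T ⋙ S).rightDerivedZeroIsoSelf.app A).symm⟩
  | succ n ih =>
    intro A hA i hi
    have hSg := cosyzSC_shortExact A
    have hTSg := shortExact_map_cosyz T A (hA 1 le_rfl (by omega))
    have hA' := isZero_rightDerived_cosyz T A n hA
    rcases i with _ | _ | j
    · exact ⟨S.rightDerivedZeroIsoSelf.app _ ≪≫ ((T ⋙ S).rightDerivedZeroIsoSelf.app A).symm⟩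
    · obtain ⟨e1⟩ := nonempty_R1_iso_cokernel S hTSg
        (S.isZero_rightDerived_obj_injective_succ 0 _)
      obtain ⟨e2⟩ := nonempty_R1_iso_cokernel (T ⋙ S) hSg
        ((T ⋙ S).isZero_rightDerived_obj_injective_succ 0 _)
      exact ⟨e1 ≪≫ e2.symm⟩
    · obtain ⟨e1⟩ := nonempty_shift_iso S hTSg j
      obtain ⟨e2⟩ := ih (cosyz A) hA' (j + 1) (by omega)
      obtain ⟨e3⟩ := nonempty_shift_iso (T ⋙ S) hSg j
      exact ⟨e1.symm ≪≫ e2 ≪≫ e3⟩

end PD

section coker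

variable {𝒞 : Type u} [Category.{v} 𝒞] [Abelian 𝒞] {X Y Z W : 𝒞} (p : X ⟶ Y) (q : Y ⟶ Z)

/-- `coker p ⟶ coker (p ≫ q)` -/
noncomputable def cokA : cokernel p ⟶ cokernel (p ≫ q) :=
  cokernel.desc p (q ≫ cokernel.π (p ≫ q)) (by rw [← Category.assoc, cokernel.condition])

/-- `coker (p ≫ q) ⟶ coker q` -/
noncomputable def cokC : cokernel (p ≫ q) ⟶ cokernel q :=
  cokernel.desc (p ≫ q) (cokernel.π q) (by rw [Category.assoc, cokernel.condition, comp_zero])

@[reassoc]
lemma π_cokA : cokernel.π p ≫ cokA p q = q ≫ cokernel.π (p ≫ q) := cokernel.π_desc _ _ _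

@[reassoc]
lemma π_cokC : cokernel.π (p ≫ q) ≫ cokC p q = cokernel.π q := cokernel.π_desc _ _ _

lemma cokA_cokC : cokA p q ≫ cokC p q = 0 := by
  rw [← cancel_epi (cokernel.π p), π_cokA_assoc, π_cokC, cokernel.condition, comp_zero]

lemma mono_cokA [Mono q] : Mono (cokA p q) := by
  apply Preadditive.mono_of_cancel_zero
  intro W x hx
  obtain ⟨W₁, p₁, hp₁, y, hy⟩ := surjective_up_to_refinements_of_epi (cokernel.π p) x
  have h1 : (y ≫ q) ≫ cokernel.π (p ≫ q) = 0 := by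
    rw [Category.assoc, ← π_cokA, ← Category.assoc, ← hy, Category.assoc, hx, comp_zero]
  obtain ⟨W₂, p₂, hp₂, x', hx'⟩ :=
    (CokernelCofork.IsColimit.comp_π_eq_zero_iff_up_to_refinements
      (cokernelIsCokernel (p ≫ q)) (y ≫ q)).1 h1
  have h2 : p₂ ≫ y = x' ≫ p := by
    rw [← cancel_mono q, Category.assoc, Category.assoc, hx']
  have h3 : (p₂ ≫ p₁) ≫ x = 0 := by
    rw [Category.assoc, hy, ← Category.assoc, h2, Category.assoc, cokernel.condition, comp_zero]
  haveI : Epi (p₂ ≫ p₁) := epi_comp _ _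
  exact (cancel_epi (p₂ ≫ p₁)).1 (h3.trans comp_zero.symm)

lemma exact_cokA_cokC : (ShortComplex.mk (cokA p q) (cokC p q) (cokA_cokC p q)).Exact := by
  rw [ShortComplex.exact_iff_exact_up_to_refinements]
  intro W x₂ hx₂
  change x₂ ≫ cokC p q = 0 at hx₂
  obtain ⟨W₁, p₁, hp₁, z, hz⟩ := surjective_up_to_refinements_of_epi (cokernel.π (p ≫ q)) x₂
  have h1 : z ≫ cokernel.π q = 0 := by
    rw [← π_cokC p q, ← Category.assoc, ← hz, Category.assoc, hx₂, comp_zero]
  obtain ⟨W₂, p₂, hp₂, y, hy⟩ :=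
    (CokernelCofork.IsColimit.comp_π_eq_zero_iff_up_to_refinements
      (cokernelIsCokernel q) z).1 h1
  haveI : Epi (p₂ ≫ p₁) := epi_comp _ _
  refine ⟨W₂, p₂ ≫ p₁, inferInstance, y ≫ cokernel.π p, ?_⟩
  change (p₂ ≫ p₁) ≫ x₂ = (y ≫ cokernel.π p) ≫ cokA p q
  rw [Category.assoc, hz, ← Category.assoc, hy, Category.assoc, Category.assoc, π_cokA]

/-- if `q ≫ r = 0` is exact with `q` mono, then
`0 → coker p → coker (p ≫ q) → target of r` is exact -/
theorem exists_exact_of_exact [Mono q] (r : Z ⟶ W) (w : q ≫ r = 0)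
    (hr : (ShortComplex.mk q r w).Exact) :
    ∃ (a : cokernel p ⟶ cokernel (p ≫ q)) (b : cokernel (p ≫ q) ⟶ W) (w' : a ≫ b = 0),
      Mono a ∧ (ShortComplex.mk a b w').Exact := by
  haveI : Mono (cokernel.desc q r w) := hr.mono_cokernelDesc
  have w' : cokA p q ≫ cokC p q ≫ cokernel.desc q r w = 0 := by
    rw [← Category.assoc, cokA_cokC, zero_comp]
  refine ⟨cokA p q, cokC p q ≫ cokernel.desc q r w, w', mono_cokA p q, ?_⟩
  rw [ShortComplex.exact_iff_exact_up_to_refinements]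
  intro A x₂ hx₂
  change x₂ ≫ cokC p q ≫ cokernel.desc q r w = 0 at hx₂
  have h : x₂ ≫ cokC p q = 0 := by
    rw [← cancel_mono (cokernel.desc q r w), Category.assoc, hx₂, zero_comp]
  exact (exact_cokA_cokC p q).exact_up_to_refinements x₂ h

lemma exists_transport {X Y Z X₀ Y₀ Z₀ : 𝒞} (α : X ≅ X₀) (β : Y ≅ Y₀) (γ : Z ≅ Z₀)
    (h : ∃ (a₀ : X₀ ⟶ Y₀) (b₀ : Y₀ ⟶ Z₀) (w : a₀ ≫ b₀ = 0),
      Mono a₀ ∧ (ShortComplex.mk a₀ b₀ w).Exact) :
    ∃ (a : X ⟶ Y) (b : Y ⟶ Z) (w : a ≫ b = 0), Mono a ∧ (ShortComplex.mk a b w).Exact := by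
  obtain ⟨a₀, b₀, w, hm, hex⟩ := h
  have w' : (α.hom ≫ a₀ ≫ β.inv) ≫ β.hom ≫ b₀ ≫ γ.inv = 0 := by
    simp only [Category.assoc, Iso.inv_hom_id_assoc, reassoc_of% w, zero_comp, comp_zero]
  refine ⟨α.hom ≫ a₀ ≫ β.inv, β.hom ≫ b₀ ≫ γ.inv, w', ?_, ?_⟩
  · haveI : Mono (a₀ ≫ β.inv) := mono_comp _ _
    exact mono_comp _ _
  · refine (ShortComplex.exact_iff_of_iso (ShortComplex.isoMk α β γ ?_ ?_)).2 hex
    · change α.hom ≫ a₀ = (α.hom ≫ a₀ ≫ β.inv) ≫ β.hom
      simp only [Category.assoc, Iso.inv_hom_id, Category.comp_id]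
    · change β.hom ≫ b₀ = (β.hom ≫ b₀ ≫ γ.inv) ≫ γ.hom
      simp only [Category.assoc, Iso.inv_hom_id, Category.comp_id]

end coker

section step

variable {𝒜 : Type u} [Category.{v} 𝒜] [Abelian 𝒜] [EnoughInjectives 𝒜]
  {ℬ : Type u'} [Category.{v'} ℬ] [Abelian ℬ]
  (T : 𝒜 ⥤ ℬ) [T.Additive] [PreservesFiniteLimits T] (A : 𝒜)

/-- the canonical epimorphism `T(ΣA) ⟶ R¹T(A)` -/
noncomputable def dT : T.obj (cosyz A) ⟶ (T.rightDerived 1).obj A :=
  T.rightDerivedZeroIsoSelf.inv.app (cosyz A) ≫ LES.δ T (cosyzSC_shortExact A) 0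

lemma map_g_dT : T.map (cosyzSC A).g ≫ dT T A = 0 := by
  unfold dT
  rw [← Category.assoc, T.rightDerivedZeroIsoSelf.inv.naturality, Category.assoc,
    LES.map_g_δ, comp_zero]

instance epi_dT : Epi (dT T A) := by
  haveI : Epi (LES.δ T (cosyzSC_shortExact A) 0) :=
    (LES.exact₁ T (cosyzSC_shortExact A) 0).epi_f
      ((T.isZero_rightDerived_obj_injective_succ 0 (cosyzSC A).X₂).eq_of_tgt _ _)
  unfold dT
  exact epi_comp _ _

lemma exact_dT : (ShortComplex.mk (T.map (cosyzSC A).g) (dT T A) (map_g_dT T A)).Exact := by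
  refine (ShortComplex.exact_iff_of_iso ?_).1 (LES.exact₃ T (cosyzSC_shortExact A) 0)
  refine ShortComplex.isoMk (T.rightDerivedZeroIsoSelf.app _) (T.rightDerivedZeroIsoSelf.app _)
    (Iso.refl _) ?_ ?_
  · exact (T.rightDerivedZeroIsoSelf.hom.naturality _).symm
  · change T.rightDerivedZeroIsoSelf.hom.app _ ≫ dT T A =
      LES.δ T (cosyzSC_shortExact A) 0 ≫ 𝟙 _
    unfold dT
    rw [Category.comp_id, Iso.hom_inv_id_app_assoc]

/-- `T I ⟶ ker (T(ΣA) ⟶ R¹T(A))` -/
noncomputable def eT : T.obj (cosyzSC A).X₂ ⟶ kernel (dT T A) :=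
  kernel.lift (dT T A) (T.map (cosyzSC A).g) (map_g_dT T A)

@[reassoc]
lemma eT_ι : eT T A ≫ kernel.ι (dT T A) = T.map (cosyzSC A).g := kernel.lift_ι _ _ _

instance epi_eT : Epi (eT T A) := (exact_dT T A).epi_kernelLift

lemma map_f_eT : T.map (cosyzSC A).f ≫ eT T A = 0 := by
  rw [← cancel_mono (kernel.ι (dT T A)), Category.assoc, eT_ι, zero_comp, ← T.map_comp,
    (cosyzSC A).zero, T.map_zero]

/-- `0 → T A → T I → B → 0` -/
noncomputable abbrev E1 : ShortComplex ℬ := ShortComplex.mk (T.map (cosyzSC A).f) (eT T A) (map_f_eT T A)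

lemma E1_shortExact : (E1 T A).ShortExact := by
  have hSg := cosyzSC_shortExact A
  haveI := hSg.mono_f
  have hex : ((cosyzSC A).map T).Exact :=
    hSg.exact.map_of_mono_of_preservesKernel T hSg.mono_f inferInstance
  haveI : Mono (E1 T A).f := inferInstanceAs (Mono (T.map (cosyzSC A).f))
  haveI : Epi (E1 T A).g := inferInstanceAs (Epi (eT T A))
  refine ShortComplex.ShortExact.mk ?_
  rw [ShortComplex.exact_iff_exact_up_to_refinements]
  intro W x₂ hx₂
  change x₂ ≫ eT T A = 0 at hx₂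
  have h : x₂ ≫ ((cosyzSC A).map T).g = 0 := by
    change x₂ ≫ T.map (cosyzSC A).g = 0
    have e : x₂ ≫ T.map (cosyzSC A).g = (x₂ ≫ eT T A) ≫ kernel.ι (dT T A) := by
      rw [Category.assoc, eT_ι]
    rw [e, hx₂, zero_comp]
  exact hex.exact_up_to_refinements x₂ h

/-- `0 → B → T(ΣA) → R¹T(A) → 0` -/
noncomputable abbrev E2 : ShortComplex ℬ :=
  ShortComplex.mk (kernel.ι (dT T A)) (dT T A) (kernel.condition _)

lemma E2_shortExact : (E2 T A).ShortExact := by
  haveI : Mono (E2 T A).f := inferInstanceAs (Mono (kernel.ι (dT T A)))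
  haveI : Epi (E2 T A).g := inferInstanceAs (Epi (dT T A))
  exact ShortComplex.ShortExact.mk (ShortComplex.exact_of_f_is_kernel _ (kernelIsKernel _))

end step

section PDseq

variable {𝒜 : Type u} [Category.{v} 𝒜] [Abelian 𝒜] [EnoughInjectives 𝒜]
  {ℬ : Type u'} [Category.{v'} ℬ] [Abelian ℬ] [EnoughInjectives ℬ]
  {𝒞 : Type u''} [Category.{v''} 𝒞] [Abelian 𝒞]
  (T : 𝒜 ⥤ ℬ) [T.Additive] [PreservesFiniteLimits T] [T.PreservesInjectiveObjects]
  (S : ℬ ⥤ 𝒞) [S.Additive] [PreservesFiniteLimits S]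

instance (A : 𝒜) : Injective (E1 T A).X₂ :=
  T.injective_obj_of_injective (inferInstanceAs (Injective (cosyzSC A).X₂))

/-- the low degree exact sequence `0 → Rⁿ⁺¹S(TA) → Rⁿ⁺¹(ST)(A) → S(Rⁿ⁺¹T A)` when
`R^qT A = 0` for `1 ≤ q ≤ n` -/
theorem exists_exact_comp (n : ℕ) : ∀ (A : 𝒜),
    (∀ q, 1 ≤ q → q ≤ n → IsZero ((T.rightDerived q).obj A)) →
    ∃ (a : (S.rightDerived (n + 1)).obj (T.obj A) ⟶ ((T ⋙ S).rightDerived (n + 1)).obj A)
      (b : ((T ⋙ S).rightDerived (n + 1)).obj A ⟶ S.obj ((T.rightDerived (n + 1)).obj A))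
      (w : a ≫ b = 0), Mono a ∧ (ShortComplex.mk a b w).Exact := by
  induction n with
  | zero =>
    intro A _
    have hE1 := E1_shortExact T A
    have hE2 := E2_shortExact T A
    obtain ⟨e1⟩ := nonempty_R1_iso_cokernel S hE1
      (S.isZero_rightDerived_obj_injective_succ 0 _)
    obtain ⟨e2⟩ := nonempty_R1_iso_cokernel (T ⋙ S) (cosyzSC_shortExact A)
      ((T ⋙ S).isZero_rightDerived_obj_injective_succ 0 _)
    have heq : (T ⋙ S).map (cosyzSC A).g =
        S.map (eT T A) ≫ S.map (kernel.ι (dT T A)) := by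
      rw [← S.map_comp, eT_ι]; rfl
    let e3 : cokernel ((T ⋙ S).map (cosyzSC A).g) ≅
        cokernel (S.map (eT T A) ≫ S.map (kernel.ι (dT T A))) := cokernelIsoOfEq heq
    haveI := hE2.mono_f
    haveI : Mono (S.map (kernel.ι (dT T A))) := inferInstance
    have hS2 : ((E2 T A).map S).Exact :=
      hE2.exact.map_of_mono_of_preservesKernel S hE2.mono_f inferInstance
    have := exists_exact_of_exact (S.map (eT T A)) (S.map (kernel.ι (dT T A)))
      (S.map (dT T A)) ((E2 T A).map S).zero hS2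
    exact exists_transport e1 (e2 ≪≫ e3) (Iso.refl _) this
  | succ n ih =>
    intro A hA
    have hSg := cosyzSC_shortExact A
    have hTSg := shortExact_map_cosyz T A (hA 1 le_rfl (by omega))
    have hA' := isZero_rightDerived_cosyz T A n hA
    obtain ⟨α⟩ := nonempty_shift_iso S hTSg n
    obtain ⟨β⟩ := nonempty_shift_iso (T ⋙ S) hSg n
    obtain ⟨γ⟩ := nonempty_shift_iso T hSg n
    exact exists_transport α.symm β.symm (S.mapIso γ.symm) (ih (cosyz A) hA')

/-- the recursive hypothesis for the injectivity of the edge map -/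
def EHyp : ℕ → 𝒜 → Prop
  | 0, _ => True
  | (n + 1), A => (n = 0 → Epi (S.map (dT T A))) ∧
      (1 ≤ n → IsZero ((S.rightDerived n).obj ((T.rightDerived 1).obj A))) ∧
      EHyp n (cosyz A)

omit [T.PreservesInjectiveObjects] in
lemma eHyp_succ (n : ℕ) (A : 𝒜) : EHyp T S (n + 1) A ↔
    ((n = 0 → Epi (S.map (dT T A))) ∧
      (1 ≤ n → IsZero ((S.rightDerived n).obj ((T.rightDerived 1).obj A))) ∧
      EHyp T S n (cosyz A)) := Iff.rfl

/-- injectivity of the edge map `Rⁿ⁺¹S(TA) → Rⁿ⁺¹(ST)(A)` -/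
theorem exists_mono_comp (n : ℕ) : ∀ (A : 𝒜), EHyp T S n A →
    ∃ a : (S.rightDerived (n + 1)).obj (T.obj A) ⟶ ((T ⋙ S).rightDerived (n + 1)).obj A,
      Mono a := by
  induction n with
  | zero =>
    intro A _
    obtain ⟨a, _, _, ha, _⟩ := exists_exact_comp T S 0 A (fun q h1 h2 => by omega)
    exact ⟨a, ha⟩
  | succ n ih =>
    intro A hA
    obtain ⟨h0, h1, hrec⟩ := hA
    obtain ⟨a', ha'⟩ := ih (cosyz A) hrec
    have hE1 := E1_shortExact T A
    have hE2 := E2_shortExact T A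
    have hSg := cosyzSC_shortExact A
    obtain ⟨α⟩ := nonempty_shift_iso S hE1 n
    obtain ⟨β⟩ := nonempty_shift_iso (T ⋙ S) hSg n
    have hδ : LES.δ S hE2 n = 0 := by
      rcases Nat.eq_zero_or_pos n with hn | hn
      · subst hn
        haveI : Epi (S.map (dT T A)) := h0 rfl
        haveI : Epi ((S.rightDerived 0).map (E2 T A).g) := by
          have e : (S.rightDerived 0).map (E2 T A).g =
              S.rightDerivedZeroIsoSelf.hom.app _ ≫ S.map (dT T A) ≫
                S.rightDerivedZeroIsoSelf.inv.app _ := by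
            rw [← Category.assoc, ← S.rightDerivedZeroIsoSelf.hom.naturality, Category.assoc,
              Iso.hom_inv_id_app, Category.comp_id]
          rw [e]
          infer_instance
        exact (cancel_epi ((S.rightDerived 0).map (E2 T A).g)).1
          ((LES.map_g_δ S hE2 0).trans comp_zero.symm)
      · exact (h1 hn).eq_of_src _ _
    haveI : Mono ((S.rightDerived (n + 1)).map (E2 T A).f) := (LES.exact₁ S hE2 n).mono_g hδ
    refine ⟨α.inv ≫ (S.rightDerived (n + 1)).map (E2 T A).f ≫ a' ≫ β.hom, ?_⟩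
    haveI : Mono (a' ≫ β.hom) := mono_comp _ _
    haveI : Mono ((S.rightDerived (n + 1)).map (E2 T A).f ≫ a' ≫ β.hom) := mono_comp _ _
    exact mono_comp _ _

variable (PP : ObjectProperty 𝒞) [PP.IsClosedUnderIsomorphisms]
  (hcok : ∀ {X Y : 𝒞} (f : X ⟶ Y), PP X → PP Y → PP (cokernel f))
  (hepi : ∀ {Y H : ℬ} (d : Y ⟶ H), Epi d → PP (cokernel (S.map d)) → Epi (S.map d))

include hcok hepi in
omit [T.PreservesInjectiveObjects] [EnoughInjectives ℬ] in
theorem epi_map_dT (A : 𝒜) (h1 : PP (((T ⋙ S).rightDerived 1).obj A))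
    (h2 : PP (S.obj ((T.rightDerived 1).obj A))) : Epi (S.map (dT T A)) := by
  obtain ⟨e2⟩ := nonempty_R1_iso_cokernel (T ⋙ S) (cosyzSC_shortExact A)
    ((T ⋙ S).isZero_rightDerived_obj_injective_succ 0 _)
  have hK : PP (cokernel ((T ⋙ S).map (cosyzSC A).g)) := PP.prop_of_iso e2 h1
  have w : (T ⋙ S).map (cosyzSC A).g ≫ S.map (dT T A) = 0 := by
    change S.map (T.map (cosyzSC A).g) ≫ S.map (dT T A) = 0
    rw [← S.map_comp, map_g_dT, S.map_zero]
  let c : cokernel ((T ⋙ S).map (cosyzSC A).g) ⟶ S.obj ((T.rightDerived 1).obj A) :=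
    cokernel.desc _ (S.map (dT T A)) w
  have hc : cokernel.π ((T ⋙ S).map (cosyzSC A).g) ≫ c = S.map (dT T A) :=
    cokernel.π_desc _ _ _
  have h3 : PP (cokernel c) := hcok c hK h2
  have e : cokernel (cokernel.π ((T ⋙ S).map (cosyzSC A).g) ≫ c) ≅ cokernel c :=
    cokernelEpiComp _ _
  have h4 : PP (cokernel (S.map (dT T A))) := by
    rw [← hc]
    exact PP.prop_of_iso e.symm h3
  exact hepi _ inferInstance h4

include hcok hepi in
omit [T.PreservesInjectiveObjects] in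
theorem eHyp_of (n : ℕ) : ∀ (A : 𝒜),
    (∀ p q, 1 ≤ p → 1 ≤ q → p + q = n →
      IsZero ((S.rightDerived p).obj ((T.rightDerived q).obj A))) →
    (1 ≤ n → PP (((T ⋙ S).rightDerived n).obj A) ∧ PP (S.obj ((T.rightDerived n).obj A))) →
    EHyp T S n A := by
  induction n with
  | zero => intro A _ _; trivial
  | succ n ih =>
    intro A hz hP
    have hSg := cosyzSC_shortExact A
    refine ⟨?_, ?_, ?_⟩
    · intro hn
      subst hn
      obtain ⟨h1, h2⟩ := hP le_rfl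
      exact epi_map_dT T S PP hcok hepi A h1 h2
    · intro hn
      exact hz n 1 hn le_rfl rfl
    · apply ih
      · intro p q hp hq hpq
        obtain ⟨q', rfl⟩ : ∃ q', q = q' + 1 := ⟨q - 1, by omega⟩
        obtain ⟨γ⟩ := nonempty_shift_iso T hSg q'
        exact (hz p (q' + 2) hp (by omega) (by omega)).of_iso
          ((S.rightDerived p).mapIso γ)
      · intro hn
        obtain ⟨n', rfl⟩ : ∃ n', n = n' + 1 := ⟨n - 1, by omega⟩
        obtain ⟨γ⟩ := nonempty_shift_iso T hSg n'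
        obtain ⟨β⟩ := nonempty_shift_iso (T ⋙ S) hSg n'
        obtain ⟨h1, h2⟩ := hP (by omega)
        exact ⟨PP.prop_of_iso β.symm h1, PP.prop_of_iso (S.mapIso γ.symm) h2⟩

end PDseq

end Groth.Agent.H6.ScHA
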