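import Mathlib

/-! Reflexive modules with `End = S` over a Noetherian ring of dimension ≤ 1 are locally free of
rank one (S17990). -/

universe u
set_option autoImplicit false

namespace Groth.Agent.H6.ReflOne

variable {S : Type u} [CommRing S]

/-- division of a linear map by an element acting injectively on the target -/
theorem exists_div_map {A B : Type*} [AddCommGroup A] [AddCommGroup B] [Module S A] [Module S B]
    (x : S) (hx : ∀ b : B, x • b = 0 → b = 0) (f : A →ₗ[S] B) (h : ∀ a, ∃ b, x • b = f a) :
    ∃ g : A →ₗ[S] B, ∀ a, x • g a = f a := by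
  choose g hg using h
  have hinj : ∀ b b' : B, x • b = x • b' → b = b' := by
    intro b b' hbb
    have := hx (b - b') (by rw [smul_sub, hbb, sub_self])
    exact sub_eq_zero.mp this
  refine ⟨{ toFun := g, map_add' := ?_, map_smul' := ?_ }, hg⟩
  · intro a a'
    apply hinj
    rw [hg, smul_add, hg, hg, map_add]
  · intro r a
    apply hinj
    rw [hg, RingHom.id_apply, smul_comm, hg, map_smul]

variable [IsNoetherianRing S] (hdim : ringKrullDim S ≤ 1)
  (M : Type u) [AddCommGroup M] [Module S M] [Module.Finite S M] [Module.IsReflexive S M]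
  (hα : Function.Bijective (algebraMap S (Module.End S M)))

include hdim hα in
/-- the trace ideal of `M` is contained in no prime -/
theorem exists_dual_notMem (P : Ideal S) [hP : P.IsPrime] :
    ∃ (φ : Module.Dual S M) (m : M), φ m ∉ P := by
  by_contra hcon
  push Not at hcon
  have hev := Module.bijective_dual_eval S M
  -- `M` is faithful
  have hfaith : ∀ a : S, (∀ m : M, a • m = 0) → a = 0 := by
    intro a ha
    apply hα.1
    rw [map_zero]
    ext m
    simp [ha m]
  -- `M` is torsionless
  have htl : ∀ m : M, (∀ φ : Module.Dual S M, φ m = 0) → m = 0 := by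
    intro m hm
    apply hev.1
    rw [map_zero]
    ext φ
    simpa using hm φ
  set J : Ideal S := Ideal.span (Set.range fun p : Module.Dual S M × M => p.1 p.2) with hJ
  have hJP : J ≤ P := by
    rw [hJ, Ideal.span_le]
    rintro _ ⟨p, rfl⟩
    exact hcon p.1 p.2
  -- a nonzerodivisor in `J`
  obtain ⟨x, hxJ, hxreg⟩ : ∃ x ∈ J, x ∈ nonZeroDivisors S := by
    by_contra hno
    push Not at hno
    have hdisj : Disjoint (J : Set S) (nonZeroDivisors S) := by
      rw [Set.disjoint_left]
      exact fun a ha => hno a ha
    have hlt := Ideal.bot_lt_annihilator_of_disjoint_nonZeroDivisors hdisj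
    obtain ⟨a, ha, ha0⟩ := SetLike.exists_of_lt hlt
    apply ha0
    rw [Submodule.mem_bot]
    apply hfaith
    intro m
    apply htl
    intro φ
    rw [map_smul, smul_eq_mul]
    have hmem : φ m ∈ J := Ideal.subset_span ⟨(φ, m), rfl⟩
    have := (Module.mem_annihilator.mp ha) ⟨φ m, hmem⟩
    simpa using congrArg Subtype.val this
  have hxP : x ∈ P := hJP hxJ
  have hxinj : ∀ b : S, x • b = 0 → b = 0 := by
    intro b hb
    rw [smul_eq_mul, mul_comm] at hb
    exact (mem_nonZeroDivisors_iff.mp hxreg).2 b hb |> fun h => h
  -- `P` is minimal over `(x)`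
  have hPmin : P ∈ (Ideal.span {x}).minimalPrimes := by
    refine ⟨⟨hP, (Ideal.span_singleton_le_iff_mem _).mpr hxP⟩, ?_⟩
    rintro Q ⟨hQ, hxQ⟩ hQP
    by_contra hPQ
    have hlt : Q < P := lt_of_le_not_ge hQP hPQ
    haveI := hQ
    have h1 : Q.height < P.height := Ideal.height_strict_mono_of_isPrime hlt
    have h2 : ((P.height : ℕ∞) : WithBot ℕ∞) ≤ 1 :=
      (Ideal.height_le_ringKrullDim_of_ne_top hP.ne_top).trans hdim
    have h2' : P.height ≤ 1 := by exact_mod_cast h2
    have h3 : Q.height = 0 := by
      have : Q.height < 1 := lt_of_lt_of_le h1 h2'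
      exact Order.lt_one_iff.mp this
    have hQmin : Q ∈ minimalPrimes S := Ideal.height_eq_zero_iff.mp h3
    have hQass : Q ∈ associatedPrimes S S := by
      apply Module.associatedPrimes.minimalPrimes_annihilator_subset_associatedPrimes S S
      rw [Module.annihilator_eq_bot.mpr inferInstance]
      exact hQmin
    have hxz : x ∈ (nonZeroDivisors S : Set S)ᶜ := by
      rw [← biUnion_associatedPrimes_eq_compl_nonZeroDivisors S]
      exact Set.mem_biUnion hQass ((Ideal.span_singleton_le_iff_mem _).mp hxQ)
    exact hxz hxreg
  have hPass : P ∈ associatedPrimes S (S ⧸ Ideal.span {x}) := by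
    apply Module.associatedPrimes.minimalPrimes_annihilator_subset_associatedPrimes S (S ⧸ Ideal.span {x})
    rw [Ideal.annihilator_quotient]
    exact hPmin
  obtain ⟨-, ybar, hy⟩ := (isAssociatedPrime_iff (M := S ⧸ Ideal.span {x})).mp hPass
  obtain ⟨y, rfl⟩ := Ideal.Quotient.mk_surjective ybar
  have hmemP : ∀ a : S, a ∈ P ↔ a * y ∈ Ideal.span {x} := by
    intro a
    rw [hy, Submodule.mem_colon_singleton, Submodule.mem_bot, ← Ideal.Quotient.eq_zero_iff_mem]
    rfl
  have hynot : y ∉ Ideal.span {x} := by
    intro hyx
    apply hP.ne_top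
    rw [Ideal.eq_top_iff_one, hmemP, one_mul]
    exact hyx
  -- division of `y φ` by `x`
  have hdiv1 : ∀ φ : Module.Dual S M, ∃ φ' : Module.Dual S M,
      x • φ' = (y • LinearMap.id : Module.Dual S M →ₗ[S] Module.Dual S M) φ := by
    intro φ
    obtain ⟨φ', hφ'⟩ := exists_div_map (A := M) (B := S) x hxinj (y • φ) (by
      intro m
      have := (hmemP (φ m)).mp (hcon φ m)
      obtain ⟨c, hc⟩ := Ideal.mem_span_singleton'.mp this
      refine ⟨c, ?_⟩
      rw [smul_eq_mul, LinearMap.smul_apply, smul_eq_mul, mul_comm x c, hc, mul_comm])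
    refine ⟨φ', ?_⟩
    ext m
    simpa using hφ' m
  have hxinjD : ∀ φ : Module.Dual S M, x • φ = 0 → φ = 0 := by
    intro φ hφ
    ext m
    apply hxinj
    have := LinearMap.congr_fun hφ m
    simpa using this
  obtain ⟨Ψ, hΨ⟩ := exists_div_map (A := Module.Dual S M) (B := Module.Dual S M) x hxinjD
    (y • LinearMap.id) hdiv1
  have hxinjM : ∀ m : M, x • m = 0 → m = 0 := by
    intro m hm
    apply htl
    intro φ
    apply hxinj
    rw [smul_eq_mul, ← smul_eq_mul, ← map_smul, hm, map_zero]
  have hdiv2 : ∀ m : M, ∃ m' : M, x • m' = (y • LinearMap.id : M →ₗ[S] M) m := by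
    intro m
    obtain ⟨m', hm'⟩ := hev.2 ((Module.Dual.eval S M m) ∘ₗ Ψ)
    refine ⟨m', ?_⟩
    rw [← sub_eq_zero]
    apply htl
    intro φ
    have h1 : φ m' = (Ψ φ) m := by
      have := LinearMap.congr_fun hm' φ
      simpa using this
    have h2 : x * (Ψ φ) m = y * φ m := by
      have := LinearMap.congr_fun (hΨ φ) m
      simpa using this
    rw [map_sub, map_smul, h1, smul_eq_mul, h2]
    simp
  obtain ⟨g, hg⟩ := exists_div_map (A := M) (B := M) x hxinjM (y • LinearMap.id) hdiv2
  obtain ⟨r, hr⟩ := hα.2 g
  apply hynot
  rw [Ideal.mem_span_singleton']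
  refine ⟨r, ?_⟩
  rw [← sub_eq_zero]
  apply hfaith
  intro m
  have h1 : g m = r • m := by rw [← hr]; rfl
  have h2 := hg m
  rw [h1] at h2
  rw [sub_smul, mul_smul, smul_comm, h2]
  simp


omit [IsNoetherianRing S] [Module.Finite S M] [Module.IsReflexive S M] in
include hα in
/-- a dual vector taking a value outside `P` makes `M_P` free of rank one -/
theorem equiv_of_notMem (P : Ideal S) [hP : P.IsPrime] (φ : Module.Dual S M) (m : M)
    (hu : φ m ∉ P) :
    Nonempty (LocalizedModule P.primeCompl M ≃ₗ[Localization.AtPrime P] Localization.AtPrime P) := by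
  obtain ⟨a, ha⟩ := hα.2 ((LinearMap.toSpanSingleton S M m) ∘ₗ φ)
  have hax : ∀ x : M, φ x • m = a • x := by
    intro x
    have := LinearMap.congr_fun ha x
    simpa using this.symm
  have haP : a ∉ P := by
    intro haP
    have h1 := congrArg φ (hax m)
    rw [map_smul, map_smul, smul_eq_mul, smul_eq_mul] at h1
    have : φ m * φ m ∈ P := by rw [h1]; exact P.mul_mem_right _ haP
    exact hu ((hP.mem_or_mem this).elim id id)
  let L : Localization.AtPrime P →ₗ[Localization.AtPrime P] LocalizedModule P.primeCompl M :=
    LinearMap.toSpanSingleton _ _ (LocalizedModule.mk m 1)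
  have hLinj : Function.Injective L := by
    rw [← LinearMap.ker_eq_bot, LinearMap.ker_eq_bot']
    intro r hr
    induction r using Localization.induction_on with
    | H bt =>
      obtain ⟨b, t⟩ := bt
      change (Localization.mk b t : Localization.AtPrime P) •
        (LocalizedModule.mk m 1 : LocalizedModule P.primeCompl M) = 0 at hr
      rw [LocalizedModule.mk_smul_mk, ← LocalizedModule.zero_mk (M := M) (t * 1),
        LocalizedModule.mk_eq] at hr
      obtain ⟨v, hv⟩ := hr
      simp only [Submonoid.smul_def, smul_zero] at hv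
      have h1 := congrArg φ hv
      rw [map_smul, map_smul, map_smul, map_zero, smul_eq_mul, smul_eq_mul, smul_eq_mul] at h1
      change Localization.mk b t = 0
      rw [Localization.mk_eq_mk'_apply, IsLocalization.mk'_eq_zero_iff]
      refine ⟨⟨((v * (t * 1) : P.primeCompl) : S) * φ m,
        P.primeCompl.mul_mem (v * (t * 1) : P.primeCompl).2 hu⟩, ?_⟩
      change ((v * (t * 1) : P.primeCompl) : S) * φ m * b = 0
      rw [← h1]
      simp only [Submonoid.coe_mul, Submonoid.coe_one]
      ring
  have hLsurj : Function.Surjective L := by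
    intro z
    induction z using LocalizedModule.induction_on with
    | h x s =>
      refine ⟨Localization.mk (φ x) (s * ⟨a, haP⟩), ?_⟩
      change (Localization.mk (φ x) (s * ⟨a, haP⟩) : Localization.AtPrime P) •
        (LocalizedModule.mk m 1 : LocalizedModule P.primeCompl M) = _
      rw [LocalizedModule.mk_smul_mk, hax x, mul_one, LocalizedModule.mk_eq]
      refine ⟨1, ?_⟩
      simp only [one_smul, Submonoid.smul_def, Submonoid.coe_mul]
      rw [smul_smul]
  exact ⟨(LinearEquiv.ofBijective L ⟨hLinj, hLsurj⟩).symm⟩


omit [IsNoetherianRing S] [Module.IsReflexive S M] in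
/-- locally free of rank one implies `End = S` -/
theorem bijective_of_locally_free
    (h : ∀ (P : Ideal S) (_ : P.IsPrime),
      Nonempty (LocalizedModule P.primeCompl M ≃ₗ[Localization.AtPrime P] Localization.AtPrime P)) :
    Function.Bijective (algebraMap S (Module.End S M)) := by
  constructor
  · rw [injective_iff_map_eq_zero]
    intro a ha
    apply eq_zero_of_localization
    intro J hJ
    haveI := hJ.isPrime
    obtain ⟨e⟩ := h J hJ.isPrime
    have hkill : ∀ z : LocalizedModule J.primeCompl M, a • z = 0 := by
      intro z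
      induction z using LocalizedModule.induction_on with
      | h x s =>
        rw [LocalizedModule.smul'_mk]
        have : a • x = 0 := by
          have := LinearMap.congr_fun ha x
          simpa using this
        rw [this, LocalizedModule.zero_mk]
    have h1 := hkill (e.symm 1)
    rw [← algebraMap_smul (Localization.AtPrime J) a (e.symm 1)] at h1
    have h2 := congrArg e h1
    rw [map_smul, LinearEquiv.apply_symm_apply, map_zero, smul_eq_mul, mul_one] at h2
    exact h2
  · intro f
    set I : Ideal S := (LinearMap.range (Algebra.linearMap S (Module.End S M))).colon {f} with hI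
    have hItop : I = ⊤ := by
      by_contra hne
      obtain ⟨J, hJ, hIJ⟩ := Ideal.exists_le_maximal I hne
      haveI := hJ.isPrime
      obtain ⟨e⟩ := h J hJ.isPrime
      set fJ := LocalizedModule.map J.primeCompl f with hfJ
      set z0 := e.symm 1 with hz0
      set r := e (fJ z0) with hr
      have hz : ∀ z : LocalizedModule J.primeCompl M, z = e z • z0 := by
        intro z
        apply e.injective
        rw [map_smul, hz0, LinearEquiv.apply_symm_apply, smul_eq_mul, mul_one]
      have hfz : ∀ z : LocalizedModule J.primeCompl M, fJ z = r • z := by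
        intro z
        have h0 : fJ z0 = r • z0 := by
          rw [hz (fJ z0)]
        conv_lhs => rw [hz z, map_smul, h0]
        conv_rhs => rw [hz z]
        rw [smul_comm]
      obtain ⟨⟨a, t⟩, hat⟩ : ∃ at' : S × J.primeCompl, Localization.mk at'.1 at'.2 = r := by
        induction r using Localization.induction_on with
        | H y => exact ⟨y, rfl⟩
      simp only at hat
      have hcomp : (LocalizedModule.mkLinearMap J.primeCompl M).comp ((t : S) • f) =
          (LocalizedModule.mkLinearMap J.primeCompl M).comp (a • LinearMap.id) := by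
        ext x
        have h1 := hfz (LocalizedModule.mk x 1)
        rw [hfJ, LocalizedModule.map_mk, ← hat, LocalizedModule.mk_smul_mk, mul_one] at h1
        simp only [LinearMap.coe_comp, Function.comp_apply, LinearMap.smul_apply,
          LocalizedModule.mkLinearMap_apply, LinearMap.id_coe, id_eq]
        have h2 : ((t : S) • LocalizedModule.mk (f x) (1 : J.primeCompl) :
            LocalizedModule J.primeCompl M) = (t : S) • LocalizedModule.mk (a • x) t := by
          rw [h1]
        rw [LocalizedModule.smul'_mk, LocalizedModule.smul'_mk] at h2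
        rw [h2]
        rw [LocalizedModule.mk_eq]
        refine ⟨1, ?_⟩
        simp only [one_smul, Submonoid.smul_def]
      obtain ⟨u, hu⟩ := Module.Finite.exists_smul_of_comp_eq_of_isLocalizedModule J.primeCompl
        (LocalizedModule.mkLinearMap J.primeCompl M) _ _ hcomp
      have hmem : (u : S) * t ∈ I := by
        rw [hI, Submodule.mem_colon_singleton]
        refine ⟨(u : S) * a, ?_⟩
        rw [Algebra.linearMap_apply]
        ext x
        have := LinearMap.congr_fun hu x
        simp only [Submonoid.smul_def, LinearMap.smul_apply, LinearMap.id_coe, id_eq] at this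
        simp only [Module.algebraMap_end_apply, LinearMap.smul_apply, mul_smul]
        exact this.symm
      exact (J.primeCompl.mul_mem u.2 t.2) (hIJ hmem)
    have h1 : (1 : S) ∈ I := by rw [hItop]; trivial
    rw [hI, Submodule.mem_colon_singleton, one_smul] at h1
    obtain ⟨a, ha⟩ := h1
    exact ⟨a, ha⟩

end Groth.Agent.H6.ReflOne
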