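import Mathlib
import Groth.Prelude.Def_Wider
import Groth.Agent.Lib.Helper6.SkQuot

/-! Associated primes and local depth for arbitrary modules; a bijectivity criterion. -/

universe u
set_option linter.style.haveILetI false
open CategoryTheory CategoryTheory.Limits Opposite CategoryTheory.Abelian
open scoped Pointwise

namespace Groth.Agent.H6

namespace Depth

variable {R : Type u} [CommRing R] [IsNoetherianRing R]

/-- local depth at least one at non-associated primes (no finiteness assumption) -/
theorem locDepthGE_one_of_not_mem_associatedPrimes' (N : Type u) [AddCommGroup N] [Module R N]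
    (p : Ideal R) [hp : p.IsPrime] (h : p ∉ associatedPrimes R N) : LocDepthGE N p 1 := by
  intro i hi
  have hi0 : i = 0 := by omega
  subst hi0
  rw [LocalizedModule.subsingleton_iff]
  intro ζ
  by_contra hcon
  push_neg at hcon
  apply h
  set x : N := LC.zeroToSelf p (ModuleCat.of R N) ζ with hx
  obtain ⟨k, hk⟩ := LC.zeroToSelf_mem (I := p) (ModuleCat.of R N) ζ
  have hann : ∀ a : R, a • x = 0 → a ∈ p := by
    intro a ha
    by_contra hap
    apply hcon a hap
    apply LC.zeroToSelf_injective (I := p) (ModuleCat.of R N)
    rw [map_smul, map_zero]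
    exact ha
  have hAnn : Module.annihilator R (Submodule.span R {x}) = (Submodule.span R {x}).annihilator :=
    rfl
  have hmin : p ∈ (Module.annihilator R (Submodule.span R {x})).minimalPrimes := by
    refine ⟨⟨hp, ?_⟩, ?_⟩
    · intro a ha
      apply hann
      have := Module.mem_annihilator.mp ha ⟨x, Submodule.mem_span_singleton_self x⟩
      have h2 := congrArg Subtype.val this
      simpa using h2
    · rintro q ⟨hq, hqann⟩ hqp
      apply hq.le_of_pow_le (n := k)
      refine le_trans ?_ hqann
      intro a ha
      rw [Module.mem_annihilator]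
      rintro ⟨y, hy⟩
      obtain ⟨c, rfl⟩ := Submodule.mem_span_singleton.mp hy
      apply Subtype.ext
      rw [Submodule.coe_smul, Submodule.coe_zero, smul_comm, hk a ha, smul_zero]
  have h1 := Module.associatedPrimes.minimalPrimes_annihilator_subset_associatedPrimes R
    (Submodule.span R {x}) hmin
  exact associatedPrimes.subset_of_injective (Submodule.injective_subtype (Submodule.span R {x})) h1

/-- **bijectivity criterion**: a map which at each prime is either bijective or has source of
depth at least two and the prime not associated to the target, is bijective. -/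
theorem bijective_of_forall_prime {M N : Type u} [AddCommGroup M] [Module R M] [Module.Finite R M]
    [AddCommGroup N] [Module R N] (φ : M →ₗ[R] N)
    (h : ∀ (p : Ideal R) [p.IsPrime],
      Function.Bijective (LocalizedModule.map p.primeCompl φ) ∨
        (LocDepthGE M p 2 ∧ p ∉ associatedPrimes R N)) :
    Function.Bijective φ := by
  -- injectivity
  have hinj : Function.Injective φ := by
    rw [← LinearMap.ker_eq_bot]
    by_contra hK
    haveI : Nontrivial (LinearMap.ker φ) := Submodule.nontrivial_iff_ne_bot.mpr hK
    obtain ⟨p, hp⟩ := associatedPrimes.nonempty R (LinearMap.ker φ)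
    haveI hprime : p.IsPrime := hp.isPrime
    obtain ⟨-, f, hf⟩ := (isAssociatedPrime_iff_exists_injective_linearMap p _).mp hp
    rcases h p with hb | ⟨hd, -⟩
    · -- the kernel dies at `p`
      have h1 : LocalizedModule.map p.primeCompl φ (LocalizedModule.mk (f 1).1 1) = 0 := by
        rw [LocalizedModule.map_mk, (f 1).2, LocalizedModule.zero_mk]
      have h2 := hb.1 (h1.trans (map_zero _).symm)
      rw [← LocalizedModule.zero_mk 1, LocalizedModule.mk_eq] at h2
      obtain ⟨t, ht⟩ := h2
      simp only [one_smul, smul_zero] at ht
      have h3 : t.1 • f 1 = 0 := by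
        apply Subtype.ext
        rw [Submodule.coe_smul, Submodule.coe_zero]
        exact ht
      rw [← map_smul] at h3
      have h4 : t.1 • (1 : R ⧸ p) = 0 := hf (h3.trans (map_zero f).symm)
      rw [Algebra.smul_def, mul_one] at h4
      exact t.2 (Ideal.Quotient.eq_zero_iff_mem.mp h4)
    · have h1 : p ∈ associatedPrimes R M :=
        associatedPrimes.subset_of_injective (Submodule.injective_subtype (LinearMap.ker φ)) hp
      exact not_mem_associatedPrimes_of_locDepthGE M p (locDepthGE_mono p one_le_two hd) h1
  refine ⟨hinj, ?_⟩
  -- surjectivity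
  rw [← LinearMap.range_eq_top]
  by_contra hQ
  haveI : Nontrivial (N ⧸ LinearMap.range φ) := Submodule.Quotient.nontrivial_iff.mpr hQ
  obtain ⟨p, hp⟩ := associatedPrimes.nonempty R (N ⧸ LinearMap.range φ)
  haveI hprime : p.IsPrime := hp.isPrime
  obtain ⟨-, f, hf⟩ := (isAssociatedPrime_iff_exists_injective_linearMap p _).mp hp
  rcases h p with hb | ⟨hd, hN⟩
  · obtain ⟨y, hy⟩ := Submodule.Quotient.mk_surjective _ (f 1)
    obtain ⟨z, hz⟩ := hb.2 (LocalizedModule.mk y 1)
    induction z using LocalizedModule.induction_on with
    | h m s =>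
      rw [LocalizedModule.map_mk, LocalizedModule.mk_eq] at hz
      obtain ⟨t, ht⟩ := hz
      simp only [one_smul] at ht
      -- `t s y ∈ range φ`
      have h1 : (t.1 * s.1) • (Submodule.Quotient.mk y : N ⧸ LinearMap.range φ) = 0 := by
        rw [← Submodule.Quotient.mk_smul, Submodule.Quotient.mk_eq_zero]
        refine ⟨t.1 • m, ?_⟩
        rw [map_smul, mul_smul]
        exact ht
      rw [hy, ← map_smul] at h1
      have h4 : (t.1 * s.1) • (1 : R ⧸ p) = 0 := hf (h1.trans (map_zero f).symm)
      rw [Algebra.smul_def, mul_one] at h4
      exact (Submonoid.mul_mem _ t.2 s.2) (Ideal.Quotient.eq_zero_iff_mem.mp h4)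
  · obtain ⟨w, hS⟩ := shortExact_mk φ (LinearMap.range φ).mkQ hinj
      (Submodule.mkQ_surjective _) (by
        intro y
        rw [Submodule.mkQ_apply, Submodule.Quotient.mk_eq_zero]
        rfl)
    have hN1 := locDepthGE_one_of_not_mem_associatedPrimes' N p hN
    have h0 := hN1 0 Nat.zero_lt_one
    have h1 := hd 1 (by omega)
    rw [LocalizedModule.subsingleton_iff] at h0 h1
    have h2 := loc_vanish_of_shortExact hS p p.primeCompl 0 h0 h1
    have h3 : LocDepthGE (N ⧸ LinearMap.range φ) p 1 := by
      intro i hi
      have hi0 : i = 0 := by omega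
      subst hi0
      rw [LocalizedModule.subsingleton_iff]
      exact h2
    exact not_mem_associatedPrimes_of_locDepthGE _ p h3 hp

end Depth

end Groth.Agent.H6
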