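import Mathlib
import Groth.Prelude.Def_EGA4c

/-! Elementary description of the restriction map `Γ(Spec A, M~) → Γ(Spec A ∖ V(J), M~)`. -/

universe u
set_option linter.style.haveILetI false
open AlgebraicGeometry CategoryTheory Opposite TopologicalSpace

namespace Groth.Agent.H6

namespace ZCl

variable (A : Type u) [CommRing A] (J : Ideal A) (M : Type u) [AddCommGroup M] [Module A M]

/-- sections of `M~` over the complement of `V(J)` -/
abbrev SecU : Type u := ((EGA4.tildeOf A M).val.obj (op (EGA4.openCompl A J)) : Type u)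

/-- global sections of `M~` -/
abbrev SecT : Type u := ((EGA4.tildeOf A M).val.obj (op ⊤) : Type u)

variable {A M}

theorem mem_openCompl {x : PrimeSpectrum A} :
    x ∈ EGA4.openCompl A J ↔ ¬ ((J : Set A) ⊆ x.asIdeal) := by
  change x ∈ (PrimeSpectrum.zeroLocus (J : Set A))ᶜ ↔ _
  rw [Set.mem_compl_iff, PrimeSpectrum.mem_zeroLocus]

theorem mem_openCompl_of {x : PrimeSpectrum A} {c : A} (hc : c ∈ J) (hx : c ∉ x.asIdeal) :
    x ∈ EGA4.openCompl A J := by
  rw [mem_openCompl]
  exact fun h => hx (h hc)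

theorem exists_of_mem_openCompl {x : PrimeSpectrum A} (hx : x ∈ EGA4.openCompl A J) :
    ∃ c ∈ J, c ∉ x.asIdeal := by
  rw [mem_openCompl, Set.not_subset] at hx
  obtain ⟨c, hc, hcx⟩ := hx
  exact ⟨c, hc, hcx⟩

/-- radical lemma -/
theorem exists_pow_smul_eq_zero (f : A) (m : M)
    (h : ∀ x : PrimeSpectrum A, f ∉ x.asIdeal →
      (LocalizedModule.mk m 1 : LocalizedModule x.asIdeal.primeCompl M) = 0) :
    ∃ n : ℕ, f ^ n • m = 0 := by
  have hmem : f ∈ Ideal.radical (LinearMap.ker (LinearMap.toSpanSingleton A M m) : Ideal A) := by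
    rw [Ideal.radical_eq_sInf, Ideal.mem_sInf]
    rintro P ⟨hle, hP⟩
    by_contra hf
    have h0 := h ⟨P, hP⟩ hf
    rw [← LocalizedModule.zero_mk 1, LocalizedModule.mk_eq] at h0
    obtain ⟨u, hu⟩ := h0
    have : (u : A) ∈ LinearMap.ker (LinearMap.toSpanSingleton A M m) := by
      rw [LinearMap.mem_ker, LinearMap.toSpanSingleton_apply]
      have h2 : u • m = 0 := by simpa using hu
      exact h2
    exact u.2 (hle this)
  obtain ⟨n, hn⟩ := hmem
  exact ⟨n, by simpa [LinearMap.mem_ker, LinearMap.toSpanSingleton_apply] using hn⟩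

/-- equality of fractions on `D(f)` -/
theorem exists_pow_smul_sub_eq_zero (f : A) (m m' : M) (s s' : A)
    (h : ∀ x : PrimeSpectrum A, f ∉ x.asIdeal → ∃ (hs : s ∉ x.asIdeal) (hs' : s' ∉ x.asIdeal),
      (LocalizedModule.mk m ⟨s, hs⟩ : LocalizedModule x.asIdeal.primeCompl M) =
        LocalizedModule.mk m' ⟨s', hs'⟩) :
    ∃ n : ℕ, f ^ n • (s' • m - s • m') = 0 := by
  apply exists_pow_smul_eq_zero
  intro x hx
  obtain ⟨hs, hs', e⟩ := h x hx
  rw [LocalizedModule.mk_eq] at e
  obtain ⟨u, hu⟩ := e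
  rw [← LocalizedModule.zero_mk 1, LocalizedModule.mk_eq]
  refine ⟨u, ?_⟩
  have h1 : u • s' • m = u • s • m' := hu
  rw [one_smul, smul_zero, smul_zero, smul_sub, h1, sub_self]

variable (A M) in
/-- the global section attached to an element -/
noncomputable def gl (m : M) : SecT A M := StructureSheaf.toOpenₗ A M ⊤ m

theorem gl_apply (m : M) (x : (⊤ : Opens (PrimeSpectrum.Top A))) :
    (gl A M m).1 x = LocalizedModule.mk m 1 := rfl

theorem exists_gl (s : SecT A M) : ∃ m : M, s = gl A M m := by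
  obtain ⟨m, hm⟩ := (StructureSheaf.toOpenₗ_top_bijective (R := A) (M := M)).2 s
  exact ⟨m, hm.symm⟩

theorem restr_apply (s : SecT A M) (x : EGA4.openCompl A J) :
    (EGA4.restrCompl A J M s).1 x = s.1 ⟨x.1, trivial⟩ := rfl

theorem secT_ext {s t : SecT A M} (h : ∀ x, s.1 x = t.1 x) : s = t :=
  Subtype.ext (funext h)

theorem secU_ext {s t : SecU A J M} (h : ∀ x, s.1 x = t.1 x) : s = t :=
  Subtype.ext (funext h)

theorem gl_injective : Function.Injective (gl A M) :=
  (StructureSheaf.toOpenₗ_top_bijective (R := A) (M := M)).1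

theorem injective_iff : Function.Injective (EGA4.restrCompl A J M) ↔
    ∀ m : M, (∀ x : PrimeSpectrum A, x ∈ EGA4.openCompl A J →
      (LocalizedModule.mk m 1 : LocalizedModule x.asIdeal.primeCompl M) = 0) → m = 0 := by
  constructor
  · intro hinj m hm
    apply gl_injective (A := A) (M := M)
    apply hinj
    apply secU_ext (J := J)
    intro x
    rw [restr_apply, restr_apply, gl_apply, gl_apply]
    rw [hm x.1 x.2, LocalizedModule.zero_mk]
  · intro h s t hst
    obtain ⟨m, rfl⟩ := exists_gl s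
    obtain ⟨m', rfl⟩ := exists_gl t
    have : m - m' = 0 := by
      apply h
      intro x hx
      have h1 := congrArg (fun z => z.1 ⟨x, hx⟩) hst
      simp only [restr_apply, gl_apply] at h1
      rw [← LocalizedModule.mkLinearMap_apply, map_sub, LocalizedModule.mkLinearMap_apply,
        LocalizedModule.mkLinearMap_apply, h1, sub_self]
    rw [sub_eq_zero.mp this]

theorem surjective_iff : Function.Surjective (EGA4.restrCompl A J M) ↔
    ∀ s : SecU A J M, ∃ m : M, ∀ x : EGA4.openCompl A J,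
      s.1 x = (LocalizedModule.mk m 1 : LocalizedModule x.1.asIdeal.primeCompl M) := by
  constructor
  · intro hs s
    obtain ⟨t, ht⟩ := hs s
    obtain ⟨m, rfl⟩ := exists_gl t
    refine ⟨m, fun x => ?_⟩
    have h1 := congrArg (fun z => z.1 x) ht
    simp only [restr_apply, gl_apply] at h1
    exact h1.symm
  · intro h s
    obtain ⟨m, hm⟩ := h s
    refine ⟨gl A M m, ?_⟩
    apply secU_ext (J := J)
    intro x
    rw [restr_apply, gl_apply, hm x]

variable (M) in
/-- elementary `J`-purity: no nonzero element is killed by powers of every element of `J` -/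
def Pure : Prop := ∀ m : M, (∀ c ∈ J, ∃ n : ℕ, c ^ n • m = 0) → m = 0

theorem forall_mk_eq_zero_iff (m : M) :
    (∀ x : PrimeSpectrum A, x ∈ EGA4.openCompl A J →
      (LocalizedModule.mk m 1 : LocalizedModule x.asIdeal.primeCompl M) = 0) ↔
    ∀ c ∈ J, ∃ n : ℕ, c ^ n • m = 0 := by
  constructor
  · intro h c hc
    apply exists_pow_smul_eq_zero
    intro x hx
    exact h x (mem_openCompl_of J hc hx)
  · intro h x hx
    obtain ⟨c, hc, hcx⟩ := exists_of_mem_openCompl J hx
    obtain ⟨n, hn⟩ := h c hc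
    rw [← LocalizedModule.zero_mk 1, LocalizedModule.mk_eq]
    refine ⟨⟨c ^ n, fun hmem => hcx (x.2.mem_of_pow_mem n hmem)⟩, ?_⟩
    rw [one_smul, smul_zero, smul_zero]
    exact hn

theorem injective_iff_pure : Function.Injective (EGA4.restrCompl A J M) ↔ Pure J M := by
  rw [injective_iff]
  unfold Pure
  constructor
  · intro h m hm
    exact h m ((forall_mk_eq_zero_iff J m).mpr hm)
  · intro h m hm
    exact h m ((forall_mk_eq_zero_iff J m).mp hm)

/-- local description of a section over `D(c)`, `c ∈ J` -/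
theorem exists_local (s : SecU A J M) (c : A) (hc : c ∈ J) :
    ∃ (m : M) (n : ℕ), ∀ (x : PrimeSpectrum A) (hx : c ∉ x.asIdeal),
      s.1 ⟨x, mem_openCompl_of J hc hx⟩ =
        (LocalizedModule.mk m ⟨c ^ n, fun hmem => hx (x.2.mem_of_pow_mem n hmem)⟩ :
          LocalizedModule x.asIdeal.primeCompl M) := by
  have hle : PrimeSpectrum.basicOpen c ≤ EGA4.openCompl A J := fun x hx => mem_openCompl_of J hc hx
  let t := (structureSheafInType A M).1.map (homOfLE hle).op s
  obtain ⟨⟨m, ⟨_, n, rfl⟩⟩, hmn⟩ := IsLocalizedModule.surj (Submonoid.powers c)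
    (StructureSheaf.toOpenₗ A M (PrimeSpectrum.basicOpen c)) t
  refine ⟨m, n, fun x hx => ?_⟩
  have h1 := congrArg (fun z => z.1 ⟨x, hx⟩) hmn
  have h2 : c ^ n • s.1 ⟨x, mem_openCompl_of J hc hx⟩ =
      (LocalizedModule.mk m 1 : LocalizedModule x.asIdeal.primeCompl M) := h1
  have hcn : c ^ n ∈ x.asIdeal.primeCompl := fun hmem => hx (x.2.mem_of_pow_mem n hmem)
  apply IsLocalizedModule.smul_injective (LocalizedModule.mkLinearMap x.asIdeal.primeCompl M)
    ⟨c ^ n, hcn⟩
  change c ^ n • s.1 ⟨x, mem_openCompl_of J hc hx⟩ =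
    c ^ n • (LocalizedModule.mk m ⟨c ^ n, hcn⟩ : LocalizedModule x.asIdeal.primeCompl M)
  rw [h2, LocalizedModule.smul'_mk, ← LocalizedModule.mk_cancel ⟨c ^ n, hcn⟩ m]
  rfl

/-- `b` regular modulo `a` implies `b` regular modulo `a ^ n` -/
theorem reg_pow_aux (a b : A) (hreg : IsSMulRegular M a)
    (hb' : ∀ y z : M, b • y = a • z → ∃ w, y = a • w) (n : ℕ) :
    ∀ y z : M, b • y = a ^ n • z → ∃ w, y = a ^ n • w := by
  induction n with
  | zero => intro y z _; exact ⟨y, by rw [pow_zero, one_smul]⟩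
  | succ n ih =>
    intro y z h
    obtain ⟨w, rfl⟩ := ih y (a • z) (by rw [h, pow_succ, mul_smul])
    have h1 : a ^ n • (b • w) = a ^ n • (a • z) := by
      rw [smul_comm, h, pow_succ, mul_smul]
    have h2 : b • w = a • z := (hreg.pow n) h1
    obtain ⟨w', rfl⟩ := hb' w z h2
    exact ⟨w', by rw [pow_succ, mul_smul]⟩

theorem reg_pow_aux' (a b : A) (hreg : IsSMulRegular M a)
    (hb' : ∀ y z : M, b • y = a • z → ∃ w, y = a • w) (n j : ℕ) :
    ∀ y z : M, b ^ j • y = a ^ n • z → ∃ w, y = a ^ n • w := by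
  induction j with
  | zero => intro y z h; exact ⟨z, by rw [← h, pow_zero, one_smul]⟩
  | succ j ih =>
    intro y z h
    obtain ⟨w, hw⟩ := reg_pow_aux a b hreg hb' n (b ^ j • y) z (by rw [← h, pow_succ', mul_smul])
    exact ih y w hw

/-- a regular pair in `J` forces `M → Γ(Spec A ∖ V(J), M~)` to be bijective -/
theorem closed_of_regular (a b : A) (ha : a ∈ J) (hb : b ∈ J) (hreg : IsSMulRegular M a)
    (hb' : ∀ y z : M, b • y = a • z → ∃ w, y = a • w) :
    Pure J M ∧ ∀ s : SecU A J M, ∃ m : M, ∀ x : EGA4.openCompl A J,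
      s.1 x = (LocalizedModule.mk m 1 : LocalizedModule x.1.asIdeal.primeCompl M) := by
  refine ⟨?_, ?_⟩
  · intro m hm
    obtain ⟨n, hn⟩ := hm a ha
    exact (hreg.pow n) (by change a ^ n • m = a ^ n • 0; rw [hn, smul_zero])
  · intro s
    obtain ⟨m, n, hmn⟩ := exists_local J s a ha
    obtain ⟨m', k, hmk⟩ := exists_local J s b hb
    obtain ⟨N, hN⟩ := exists_pow_smul_sub_eq_zero (a * b) m m' (a ^ n) (b ^ k) (by
      intro x hx
      have hxa : a ∉ x.asIdeal := fun h => hx (x.asIdeal.mul_mem_right b h)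
      have hxb : b ∉ x.asIdeal := fun h => hx (x.asIdeal.mul_mem_left a h)
      refine ⟨fun hmem => hxa (x.2.mem_of_pow_mem n hmem),
        fun hmem => hxb (x.2.mem_of_pow_mem k hmem), ?_⟩
      rw [← hmn x hxa, ← hmk x hxb])
    have h1 : b ^ N • (b ^ k • m - a ^ n • m') = 0 := by
      apply hreg.pow N
      change a ^ N • (b ^ N • (b ^ k • m - a ^ n • m')) = a ^ N • 0
      rw [smul_zero, ← mul_smul, ← mul_pow]
      exact hN
    have h2 : b ^ (N + k) • m = a ^ n • (b ^ N • m') := by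
      rw [smul_sub, sub_eq_zero] at h1
      rw [pow_add, mul_smul, h1, smul_comm]
    obtain ⟨m₀, rfl⟩ := reg_pow_aux' a b hreg hb' n (N + k) m _ h2
    refine ⟨m₀, fun x => ?_⟩
    obtain ⟨c, hc, hcx⟩ := exists_of_mem_openCompl J x.2
    obtain ⟨mc, l, hl⟩ := exists_local J s c hc
    obtain ⟨N', hN'⟩ := exists_pow_smul_sub_eq_zero (a * c) mc m₀ (c ^ l) 1 (by
      intro y hy
      have hya : a ∉ y.asIdeal := fun h => hy (y.asIdeal.mul_mem_right c h)
      have hyc : c ∉ y.asIdeal := fun h => hy (y.asIdeal.mul_mem_left a h)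
      refine ⟨fun hmem => hyc (y.2.mem_of_pow_mem l hmem), y.asIdeal.primeCompl.one_mem, ?_⟩
      rw [← hl y hyc]
      have hcn : a ^ n ∈ y.asIdeal.primeCompl := fun hmem => hya (y.2.mem_of_pow_mem n hmem)
      exact (hmn y hya).trans (LocalizedModule.mk_cancel ⟨a ^ n, hcn⟩ m₀))
    have h3 : c ^ N' • (mc - c ^ l • m₀) = 0 := by
      apply hreg.pow N'
      change a ^ N' • (c ^ N' • (mc - c ^ l • m₀)) = a ^ N' • 0
      rw [smul_zero, ← mul_smul, ← mul_pow]
      rw [one_smul] at hN'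
      exact hN'
    have hlx : s.1 x = (LocalizedModule.mk mc ⟨c ^ l, fun hmem => hcx (x.1.2.mem_of_pow_mem l hmem)⟩ :
        LocalizedModule x.1.asIdeal.primeCompl M) := hl x.1 hcx
    rw [hlx, LocalizedModule.mk_eq]
    refine ⟨⟨c ^ N', fun hmem => hcx (x.1.2.mem_of_pow_mem N' hmem)⟩, ?_⟩
    rw [one_smul]
    rw [smul_sub, sub_eq_zero] at h3
    exact h3

/-- gluing: if `J m ⊆ a M` with `a ∈ J` regular, and `M` is `J`-closed, then `m ∈ a M` -/
theorem mem_of_closed (hpure : Pure J M)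
    (hsurj : ∀ s : SecU A J M, ∃ m : M, ∀ x : EGA4.openCompl A J,
      s.1 x = (LocalizedModule.mk m 1 : LocalizedModule x.1.asIdeal.primeCompl M))
    (a : A) (hreg : IsSMulRegular M a) (m : M)
    (hm : ∀ c ∈ J, ∃ w : M, c • m = a • w) : ∃ w : M, m = a • w := by
  choose c hcJ hcx using fun x : EGA4.openCompl A J => exists_of_mem_openCompl J x.2
  choose w hw using fun x : EGA4.openCompl A J => hm (c x) (hcJ x)
  have key : ∀ x y : EGA4.openCompl A J, c x • w y = c y • w x := by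
    intro x y
    apply hreg
    change a • c x • w y = a • c y • w x
    rw [smul_comm a, ← hw y, smul_comm a, ← hw x, smul_comm]
  let f : ∀ x : EGA4.openCompl A J, LocalizedModule x.1.asIdeal.primeCompl M :=
    fun x => LocalizedModule.mk (w x) ⟨c x, hcx x⟩
  have hf : (StructureSheaf.isLocallyFraction A M).pred f := by
    intro x
    have hle : PrimeSpectrum.basicOpen (c x) ≤ EGA4.openCompl A J :=
      fun y hy => mem_openCompl_of J (hcJ x) hy
    refine ⟨PrimeSpectrum.basicOpen (c x), hcx x, homOfLE hle, w x, c x, fun y => ⟨y.2, ?_⟩⟩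
    change LocalizedModule.mk (w ⟨y.1, hle y.2⟩) ⟨c ⟨y.1, hle y.2⟩, _⟩ = LocalizedModule.mk (w x) ⟨c x, _⟩
    rw [LocalizedModule.mk_eq]
    refine ⟨1, ?_⟩
    rw [one_smul, one_smul]
    exact key x ⟨y.1, hle y.2⟩
  obtain ⟨m₀, hm₀⟩ := hsurj ⟨f, hf⟩
  refine ⟨m₀, ?_⟩
  have : m - a • m₀ = 0 := by
    apply hpure
    rw [← forall_mk_eq_zero_iff]
    intro x hx
    have h1 : f ⟨x, hx⟩ = (LocalizedModule.mk m₀ 1 : LocalizedModule x.asIdeal.primeCompl M) :=
      hm₀ ⟨x, hx⟩
    have h2 : a • f ⟨x, hx⟩ = (LocalizedModule.mk m 1 : LocalizedModule x.asIdeal.primeCompl M) := by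
      change a • LocalizedModule.mk (w ⟨x, hx⟩) ⟨c ⟨x, hx⟩, hcx ⟨x, hx⟩⟩ = _
      rw [LocalizedModule.smul'_mk, ← hw ⟨x, hx⟩]
      exact LocalizedModule.mk_cancel ⟨c ⟨x, hx⟩, hcx ⟨x, hx⟩⟩ m
    rw [← LocalizedModule.mkLinearMap_apply, map_sub, LocalizedModule.mkLinearMap_apply, ← h2, h1,
      LocalizedModule.smul'_mk, LocalizedModule.mkLinearMap_apply, sub_self]
  exact sub_eq_zero.mp this

end ZCl

end Groth.Agent.H6
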