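import Mathlib
import Groth.Prelude.Def_EGA4c
import Groth.Prelude.Def_CAlg
import Groth.Agent.Lib.Helper6.ZClosed
import Groth.Agent.Lib.Helper6.DepthInf
import Groth.Agent.Lib.Helper6.DepthAss
import Groth.Agent.Lib.Helper6.DepthKer
import Groth.Agent.Lib.Helper6.DepthLocalHom

/-! `Z`-pure and `Z`-closed modules in terms of associated primes and depth. -/

universe u
set_option linter.style.haveILetI false
open AlgebraicGeometry CategoryTheory Opposite TopologicalSpace
open scoped Pointwise

namespace Groth.Agent.H6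

namespace ZCl

variable {A : Type u} [CommRing A] [IsNoetherianRing A] (J : Ideal A)
  (M : Type u) [AddCommGroup M] [Module A M]

theorem pure_iff_torsionSub : Pure J M ↔ DRing.torsionSub J M = ⊥ := by
  constructor
  · intro h
    rw [Submodule.eq_bot_iff]
    rintro m ⟨n, hn⟩
    apply h
    intro c hc
    exact ⟨n, hn _ (Ideal.pow_mem_pow hc n)⟩
  · intro h m hm
    have hle : J ≤ Ideal.radical (LinearMap.ker (LinearMap.toSpanSingleton A M m) : Ideal A) := by
      intro c hc
      obtain ⟨n, hn⟩ := hm c hc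
      exact ⟨n, by rw [LinearMap.mem_ker, LinearMap.toSpanSingleton_apply]; exact hn⟩
    obtain ⟨k, hk⟩ := Ideal.exists_pow_le_of_le_radical_of_fg hle (IsNoetherian.noetherian J)
    have : m ∈ DRing.torsionSub J M := by
      refine ⟨k, fun a ha => ?_⟩
      have := hk ha
      rw [LinearMap.mem_ker, LinearMap.toSpanSingleton_apply] at this
      exact this
    rw [h] at this
    exact (Submodule.mem_bot A).mp this

theorem pure_iff_ass : Pure J M ↔ ∀ p ∈ associatedPrimes A M, ¬ J ≤ p := by
  rw [pure_iff_torsionSub]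
  constructor
  · intro h p hp hJp
    obtain ⟨hprime, x, hx⟩ := isAssociatedPrime_iff.mp hp
    have hxT : x ∈ DRing.torsionSub J M := by
      refine ⟨1, fun a ha => ?_⟩
      rw [pow_one] at ha
      have := hJp ha
      rw [hx, Submodule.mem_colon_singleton] at this
      exact (Submodule.mem_bot A).mp this
    rw [h] at hxT
    have hx0 : x = 0 := (Submodule.mem_bot A).mp hxT
    apply hprime.ne_top
    rw [hx, hx0, Ideal.eq_top_iff_one, Submodule.mem_colon_singleton, smul_zero]
    exact Submodule.zero_mem _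
  · intro h
    by_contra hT
    obtain ⟨P, hP, hIP⟩ := CM.exists_ass_ge_of_torsionSub_ne_bot J M hT
    exact h P hP hIP

variable {M} in
theorem zeroLocus_subset_of_mem {Z : Set (PrimeSpectrum A)} (hZ : StableUnderSpecialization Z)
    {p : PrimeSpectrum A} (hp : p ∈ Z) : PrimeSpectrum.zeroLocus (p.asIdeal : Set A) ⊆ Z := by
  intro x hx
  rw [PrimeSpectrum.mem_zeroLocus] at hx
  have hle : p ≤ x := hx
  exact hZ ((PrimeSpectrum.le_iff_specializes p x).mp hle) hp

/-- `Z`-purity in terms of associated primes -/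
theorem isPureAlong_iff_ass (Z : Set (PrimeSpectrum A)) (hZ : StableUnderSpecialization Z) :
    EGA4.IsPureAlong Z M ↔
      ∀ p : PrimeSpectrum A, p.asIdeal ∈ associatedPrimes A M → p ∉ Z := by
  constructor
  · intro h p hp hpZ
    have h1 := h p.asIdeal (zeroLocus_subset_of_mem hZ hpZ)
    rw [injective_iff_pure, pure_iff_ass] at h1
    exact h1 p.asIdeal hp le_rfl
  · intro h J hJ
    rw [injective_iff_pure, pure_iff_ass]
    intro p hp hJp
    haveI : p.IsPrime := hp.isPrime
    exact h ⟨p, hp.isPrime⟩ hp (hJ (by rw [PrimeSpectrum.mem_zeroLocus]; exact hJp))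

section Finite

variable [Module.Finite A M]

theorem one_le_depth_iff (p : PrimeSpectrum A) :
    (1 : ℕ∞) ≤ LocCoh.depth (Localization.AtPrime p.asIdeal)
      (LocalizedModule p.asIdeal.primeCompl M) ↔ p.asIdeal ∉ associatedPrimes A M := by
  have h := Depth.locDepthGE_iff M p.asIdeal 1
  rw [Nat.cast_one] at h
  rw [← h]
  exact ⟨Depth.not_mem_associatedPrimes_of_locDepthGE M p.asIdeal,
    Depth.locDepthGE_one_of_not_mem_associatedPrimes' M p.asIdeal⟩

/-- `Z`-purity in terms of depth -/
theorem isPureAlong_iff_depth (Z : Set (PrimeSpectrum A)) (hZ : StableUnderSpecialization Z) :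
    EGA4.IsPureAlong Z M ↔ ∀ p : PrimeSpectrum A, p ∈ Z →
      (1 : ℕ∞) ≤ LocCoh.depth (Localization.AtPrime p.asIdeal)
        (LocalizedModule p.asIdeal.primeCompl M) := by
  rw [isPureAlong_iff_ass M Z hZ]
  constructor
  · intro h p hp
    rw [one_le_depth_iff]
    exact fun hass => h p hass hp
  · intro h p hass hp
    exact (one_le_depth_iff M p).mp (h p hp) hass

theorem exists_regular_pair (h : 2 ≤ LocCoh.idealDepth J M) :
    ∃ a ∈ J, ∃ b ∈ J, IsSMulRegular M a ∧ ∀ y z : M, b • y = a • z → ∃ w, y = a • w := by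
  rw [Depth.two_le_idealDepth_iff] at h
  obtain ⟨h0, h1⟩ := h
  have hT : DRing.torsionSub J M = ⊥ := (Depth.subsingleton_H_zero_iff J M).mp h0
  obtain ⟨a, ha, hreg⟩ := LC.exists_isSMulRegular_of_torsionSub_eq_bot J M hT
  have hv := (Depth.quotSMulTop_vanish_iff J M a ha hreg 1).mpr (by
    intro i hi
    interval_cases i
    · exact h0
    · exact h1)
  have hT' : DRing.torsionSub J (QuotSMulTop a M) = ⊥ :=
    (Depth.subsingleton_H_zero_iff J (QuotSMulTop a M)).mp (hv 0 Nat.zero_lt_one)
  obtain ⟨b, hb, hregb⟩ := LC.exists_isSMulRegular_of_torsionSub_eq_bot J (QuotSMulTop a M) hT'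
  refine ⟨a, ha, b, hb, hreg, fun y z hyz => ?_⟩
  have h2 : b • (Submodule.Quotient.mk y : QuotSMulTop a M) = b • 0 := by
    rw [smul_zero]
    change (Submodule.Quotient.mk (b • y) : M ⧸ (a • (⊤ : Submodule A M))) = 0
    rw [hyz, Submodule.Quotient.mk_eq_zero]
    exact Submodule.smul_mem_pointwise_smul z a ⊤ Submodule.mem_top
  have h3 : (Submodule.Quotient.mk y : M ⧸ (a • (⊤ : Submodule A M))) = 0 := hregb h2
  rw [Submodule.Quotient.mk_eq_zero, Submodule.mem_smul_pointwise_iff_exists] at h3
  obtain ⟨w, -, hw⟩ := h3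
  exact ⟨w, hw.symm⟩

theorem two_le_idealDepth_of_closed (hpure : Pure J M)
    (hsurj : ∀ s : SecU A J M, ∃ m : M, ∀ x : EGA4.openCompl A J,
      s.1 x = (LocalizedModule.mk m 1 : LocalizedModule x.1.asIdeal.primeCompl M)) :
    2 ≤ LocCoh.idealDepth J M := by
  have hT : DRing.torsionSub J M = ⊥ := (pure_iff_torsionSub J M).mp hpure
  obtain ⟨a, ha, hreg⟩ := LC.exists_isSMulRegular_of_torsionSub_eq_bot J M hT
  have hT' : DRing.torsionSub J (QuotSMulTop a M) = ⊥ := by
    rw [Submodule.eq_bot_iff]
    rintro q ⟨n, hn⟩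
    induction n generalizing q with
    | zero =>
      have := hn 1 (by rw [pow_zero, Ideal.one_eq_top]; exact Submodule.mem_top)
      rwa [one_smul] at this
    | succ n ih =>
      have hJq : ∀ c ∈ J, c • q = 0 := by
        intro c hc
        apply ih
        intro d hd
        rw [← mul_smul]
        apply hn
        rw [pow_succ]
        exact Ideal.mul_mem_mul hd hc
      obtain ⟨m, rfl⟩ := Submodule.Quotient.mk_surjective _ q
      rw [Submodule.Quotient.mk_eq_zero]
      obtain ⟨w, hw⟩ := mem_of_closed J hpure hsurj a hreg m (by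
        intro c hc
        have := hJq c hc
        change (Submodule.Quotient.mk (c • m) : M ⧸ (a • (⊤ : Submodule A M))) = 0 at this
        rw [Submodule.Quotient.mk_eq_zero,
          Submodule.mem_smul_pointwise_iff_exists] at this
        obtain ⟨w, -, hw⟩ := this
        exact ⟨w, hw.symm⟩)
      rw [hw]
      exact Submodule.smul_mem_pointwise_smul w a ⊤ Submodule.mem_top
  have h0 : Subsingleton (LocCoh.H J 0 M) := (Depth.subsingleton_H_zero_iff J M).mpr hT
  have h0' : Subsingleton (LocCoh.H J 0 (QuotSMulTop a M)) :=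
    (Depth.subsingleton_H_zero_iff J (QuotSMulTop a M)).mpr hT'
  have hv := (Depth.quotSMulTop_vanish_iff J M a ha hreg 1).mp (by
    intro i hi
    interval_cases i
    exact h0')
  rw [Depth.two_le_idealDepth_iff]
  exact ⟨hv 0 (by omega), hv 1 (by omega)⟩

/-- `Z`-closedness in terms of depth -/
theorem isClosedAlong_iff_depth (Z : Set (PrimeSpectrum A)) (hZ : StableUnderSpecialization Z) :
    EGA4.IsClosedAlong Z M ↔ ∀ p : PrimeSpectrum A, p ∈ Z →
      (2 : ℕ∞) ≤ LocCoh.depth (Localization.AtPrime p.asIdeal)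
        (LocalizedModule p.asIdeal.primeCompl M) := by
  constructor
  · intro h p hp
    have h1 := h p.asIdeal (zeroLocus_subset_of_mem hZ hp)
    have h2 := two_le_idealDepth_of_closed p.asIdeal M ((injective_iff_pure _).mp h1.1)
      ((surjective_iff _).mp h1.2)
    rw [Depth.idealDepth_eq_iInf] at h2
    exact h2.trans (iInf₂_le p le_rfl)
  · intro h J hJ
    have h2 : 2 ≤ LocCoh.idealDepth J M := by
      rw [Depth.idealDepth_eq_iInf]
      refine le_iInf₂ fun p hp => h p (hJ ?_)
      rw [PrimeSpectrum.mem_zeroLocus]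
      exact hp
    obtain ⟨a, ha, b, hb, hreg, hb'⟩ := exists_regular_pair J M h2
    obtain ⟨h3, h4⟩ := closed_of_regular J a b ha hb hreg hb'
    exact ⟨(injective_iff_pure _).mpr h3, (surjective_iff _).mpr h4⟩

end Finite

end ZCl

end Groth.Agent.H6
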