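import Mathlib
import Groth.Prelude.Def_CAlg
import Groth.Prelude.Def_GrSyz
import Groth.Agent.Lib.Helper6.CMKit
import Groth.Agent.Lib.Helper2.DimFG
import Groth.Agent.Lib.Helper2.GrSyzBasic

universe u
set_option linter.style.haveILetI false
open scoped Pointwise

namespace Groth.Agent.H6.Liai

section general
variable {A : Type u} [CommRing A]

/-- in a CM ring, associated primes of the ring are minimal primes -/
theorem mem_minimalPrimes_of_mem_associatedPrimes [hA : LocCoh.IsCohenMacaulayRing A]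
    {p : Ideal A} (hp : p ∈ associatedPrimes A A) : p ∈ minimalPrimes A := by
  haveI hpp : p.IsPrime := hp.1
  haveI hcm := hA.isCohenMacaulayLocalRing_localization p
  let B := Localization.AtPrime p
  have h1 : IsLocalRing.maximalIdeal B ∈ associatedPrimes B B := by
    apply Module.associatedPrimes.mem_associatedPrimes_of_comap_mem_associatedPrimes_of_isLocalizedModule
      p.primeCompl (Algebra.linearMap A B)
    rw [← Ideal.under_def, Localization.AtPrime.under_maximalIdeal]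
    exact hp
  have h2 := CM.ringKrullDim_quotient_eq_of_cm B hcm.supportDim_eq_depth _ h1
  rw [Module.supportDim_self_eq_ringKrullDim,
    IsLocalization.AtPrime.ringKrullDim_eq_height p B] at h2
  have h3 : ringKrullDim (B ⧸ IsLocalRing.maximalIdeal B) = 0 := by
    letI := Ideal.Quotient.field (IsLocalRing.maximalIdeal B)
    exact ringKrullDim_eq_zero_of_field _
  rw [h3] at h2
  rw [← Ideal.height_eq_zero_iff]
  exact_mod_cast h2.symm

end general



section general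
variable {A : Type u} [CommRing A]

/-- f.g. algebra over a field, `𝔫` maximal with `A_𝔫` CM: `dim A/p = dim A_𝔫` for associated
`p ≤ 𝔫`. -/
theorem ringKrullDim_quotient_eq_of_le_maximal (K : Type u) [Field K] [Algebra K A]
    [Algebra.FiniteType K A] (𝔫 : Ideal A) [h𝔫 : 𝔫.IsMaximal]
    (hcm : LocCoh.IsCohenMacaulayLocalRing (Localization.AtPrime 𝔫))
    {p : Ideal A} (hp : p ∈ associatedPrimes A A) (hp𝔫 : p ≤ 𝔫) :
    ringKrullDim (A ⧸ p) = ringKrullDim (Localization.AtPrime 𝔫) := by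
  haveI hpp : p.IsPrime := hp.1
  let B := Localization.AtPrime 𝔫
  let p' : Ideal B := p.map (algebraMap A B)
  have hdisj : Disjoint (𝔫.primeCompl : Set A) (p : Set A) := by
    rw [Set.disjoint_left]
    intro x hx hxp
    exact hx (hp𝔫 hxp)
  have hcomap : p'.comap (algebraMap A B) = p :=
    IsLocalization.under_map_of_isPrime_disjoint 𝔫.primeCompl B hpp hdisj
  have h1 : p' ∈ associatedPrimes B B := by
    apply Module.associatedPrimes.mem_associatedPrimes_of_comap_mem_associatedPrimes_of_isLocalizedModule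
      𝔫.primeCompl (Algebra.linearMap A B)
    rw [hcomap]
    exact hp
  have h2 := CM.ringKrullDim_quotient_eq_of_cm B hcm.supportDim_eq_depth _ h1
  rw [Module.supportDim_self_eq_ringKrullDim] at h2
  rw [← h2]
  -- `B ⧸ p'` is the localization of `A ⧸ p` at `𝔫 / p`
  let 𝔫' : Ideal (A ⧸ p) := 𝔫.map (Ideal.Quotient.mk p)
  haveI h𝔫' : 𝔫'.IsMaximal := by
    refine Ideal.IsMaximal.map_of_surjective_of_ker_le Ideal.Quotient.mk_surjective ?_
    rwa [Ideal.mk_ker]
  have hsub : Algebra.algebraMapSubmonoid (A ⧸ p) 𝔫.primeCompl = 𝔫'.primeCompl := by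
    ext y
    constructor
    · rintro ⟨x, hx, rfl⟩ hy
      apply hx
      have : x ∈ (𝔫.map (Ideal.Quotient.mk p)).comap (Ideal.Quotient.mk p) := hy
      rw [Ideal.comap_map_of_surjective _ Ideal.Quotient.mk_surjective, ← RingHom.ker_eq_comap_bot,
        Ideal.mk_ker, sup_eq_left.mpr hp𝔫] at this
      exact this
    · intro hy
      obtain ⟨x, rfl⟩ := Ideal.Quotient.mk_surjective y
      refine ⟨x, ?_, rfl⟩
      intro hx
      exact hy (Ideal.mem_map_of_mem _ hx)
  haveI : IsLocalization.AtPrime (B ⧸ p') 𝔫' := by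
    have : IsLocalization (Algebra.algebraMapSubmonoid (A ⧸ p) 𝔫.primeCompl) (B ⧸ p') :=
      inferInstance
    rw [hsub] at this
    exact this
  rw [IsLocalization.AtPrime.ringKrullDim_eq_height 𝔫' (B ⧸ p')]
  haveI : IsDomain (A ⧸ p) := Ideal.Quotient.isDomain p
  rw [Groth.Agent.H2.DimFG.height_eq_ringKrullDim_of_isMaximal K (A ⧸ p) 𝔫']

end general



section graded
variable (K : Type u) [Field K] (σ : Type*)

theorem decompose_zero (x : MvPolynomial σ K) :
    (DirectSum.decompose (GrSyz.stdGr K σ) x 0 : MvPolynomial σ K) =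
      MvPolynomial.C (MvPolynomial.constantCoeff x) := by
  classical
  have h1 : (DirectSum.decompose (GrSyz.stdGr K σ) x 0 : MvPolynomial σ K) =
      MvPolynomial.weightedHomogeneousComponent (fun _ : σ => (1 : ℤ)) 0 x :=
    MvPolynomial.weightedDecomposition.decompose'_apply K (fun _ : σ => (1 : ℤ)) x 0
  rw [h1]
  ext d
  rw [MvPolynomial.coeff_weightedHomogeneousComponent, MvPolynomial.coeff_C]
  by_cases hd : d = 0
  · subst hd
    simp [MvPolynomial.constantCoeff_eq]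
  · have : ¬ (Finsupp.weight (fun _ : σ => (1 : ℤ)) d = 0) := by
      rw [Groth.Agent.H2.GrSyzBasic.weight_one_eq_zero_iff]
      exact hd
    rw [if_neg this, if_neg (Ne.symm hd)]

theorem le_irrel (P : Ideal (MvPolynomial σ K)) (hP : P.IsHomogeneous (GrSyz.stdGr K σ))
    (hne : P ≠ ⊤) : P ≤ (GrSyz.irrel (GrSyz.stdGr K σ)).toIdeal := by
  intro x hx
  rw [Groth.Agent.H2.GrSyzBasic.mem_irrel_iff]
  by_contra hc
  have h1 : (DirectSum.decompose (GrSyz.stdGr K σ) x 0 : MvPolynomial σ K) ∈ P := hP 0 hx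
  rw [decompose_zero] at h1
  apply hne
  apply Ideal.eq_top_of_isUnit_mem _ h1
  exact (isUnit_iff_ne_zero.mpr hc).map MvPolynomial.C

instance irrel_isMaximal : (GrSyz.irrel (GrSyz.stdGr K σ)).toIdeal.IsMaximal := by
  rw [Groth.Agent.H2.GrSyzBasic.irrel_toIdeal_eq]
  refine RingHom.ker_isMaximal_of_surjective _ (fun c => ⟨MvPolynomial.C c, ?_⟩)
  simp

theorem isHomogeneous_of_mem_minimalPrimes {I q : Ideal (MvPolynomial σ K)}
    (hI : I.IsHomogeneous (GrSyz.stdGr K σ))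
    (hq : q ∈ I.minimalPrimes) : q.IsHomogeneous (GrSyz.stdGr K σ) := by
  have hqp : q.IsPrime := hq.1.1
  have h1 : ((q.homogeneousCore (GrSyz.stdGr K σ)).toIdeal).IsPrime :=
    Ideal.IsPrime.homogeneousCore hqp
  have h2 : I ≤ (q.homogeneousCore (GrSyz.stdGr K σ)).toIdeal := by
    rw [← hI.toIdeal_homogeneousCore_eq_self]
    exact Ideal.homogeneousCore_mono (GrSyz.stdGr K σ) hq.1.2
  have h3 : (q.homogeneousCore (GrSyz.stdGr K σ)).toIdeal ≤ q :=
    Ideal.toIdeal_homogeneousCore_le (GrSyz.stdGr K σ) q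
  have h4 : q ≤ (q.homogeneousCore (GrSyz.stdGr K σ)).toIdeal := hq.2 ⟨h1, h2⟩ h3
  rw [Ideal.IsHomogeneous.iff_eq]
  exact le_antisymm h3 h4

end graded



section assoc
variable {R : Type u} [CommRing R] [IsNoetherianRing R]

/-- associated primes of the `R`-module `R/I` give associated primes of the ring `R/I` -/
theorem map_mem_associatedPrimes (I : Ideal R) {P : Ideal R}
    (hP : P ∈ associatedPrimes R (R ⧸ I)) :
    P.map (Ideal.Quotient.mk I) ∈ associatedPrimes (R ⧸ I) (R ⧸ I) ∧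
      (P.map (Ideal.Quotient.mk I)).comap (Ideal.Quotient.mk I) = P ∧ I ≤ P := by
  obtain ⟨hPp, x, hx⟩ := (isAssociatedPrime_iff (I := P) (M := R ⧸ I)).mp hP
  have hIP : I ≤ P := by
    intro r hr
    rw [hx, Submodule.mem_colon_singleton, Submodule.mem_bot]
    obtain ⟨y, rfl⟩ := Ideal.Quotient.mk_surjective x
    change Ideal.Quotient.mk I (r * y) = 0
    exact Ideal.Quotient.eq_zero_iff_mem.mpr (I.mul_mem_right _ hr)
  have hcomap : (P.map (Ideal.Quotient.mk I)).comap (Ideal.Quotient.mk I) = P := by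
    rw [Ideal.comap_map_of_surjective _ Ideal.Quotient.mk_surjective, ← RingHom.ker_eq_comap_bot,
      Ideal.mk_ker, sup_eq_left.mpr hIP]
  refine ⟨?_, hcomap, hIP⟩
  rw [AssociatedPrimes.mem_iff, isAssociatedPrime_iff]
  refine ⟨Ideal.map_isPrime_of_surjective Ideal.Quotient.mk_surjective (by rwa [Ideal.mk_ker]),
    x, ?_⟩
  ext a
  obtain ⟨r, rfl⟩ := Ideal.Quotient.mk_surjective a
  rw [Submodule.mem_colon_singleton, Submodule.mem_bot]
  have h1 : Ideal.Quotient.mk I r ∈ P.map (Ideal.Quotient.mk I) ↔ r ∈ P := by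
    rw [← Ideal.mem_comap, hcomap]
  rw [h1, hx, Submodule.mem_colon_singleton, Submodule.mem_bot]
  rfl

end assoc


section main
variable (K : Type u) [Field K] (n : ℕ)

local notation "R" => MvPolynomial (Fin (n + 1)) K
local notation "𝔪" => HomogeneousIdeal.toIdeal (GrSyz.irrel (GrSyz.stdGr K (Fin (n + 1))))

theorem withBot_cancel {a b : ℕ∞} {D : WithBot ℕ∞} {N : ℕ}
    (ha : (a : WithBot ℕ∞) + D = (N : WithBot ℕ∞)) (hb : (b : WithBot ℕ∞) + D = (N : WithBot ℕ∞)) :
    a = b := by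
  induction D with
  | bot =>
    rw [WithBot.add_bot] at ha
    exact absurd ha.symm (WithBot.natCast_ne_bot N)
  | coe d =>
    have ha' : a + d = (N : ℕ∞) := by exact_mod_cast ha
    have hb' : b + d = (N : ℕ∞) := by exact_mod_cast hb
    have hd : d ≠ ⊤ := by
      rintro rfl
      simp at ha'
    have ha'' : a ≠ ⊤ := by
      rintro rfl
      simp at ha'
    have hb'' : b ≠ ⊤ := by
      rintro rfl
      simp at hb'
    lift a to ℕ using ha''
    lift b to ℕ using hb''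
    lift d to ℕ using hd
    have h1 : a + d = N := by exact_mod_cast ha'
    have h2 : b + d = N := by exact_mod_cast hb'
    have : a = b := by omega
    rw [this]

/-- associated primes of `R/𝔠` (`𝔠` homogeneous, `R/𝔠` CM) are minimal over `𝔠` and lie in the
irrelevant ideal -/
theorem mem_minimalPrimes_and_le_irrel (𝔠 : Ideal R)
    (h𝔠 : 𝔠.IsHomogeneous (GrSyz.stdGr K (Fin (n + 1))))
    [hcm : LocCoh.IsCohenMacaulayRing (R ⧸ 𝔠)]
    {P : Ideal R} (hP : P ∈ associatedPrimes R (R ⧸ 𝔠)) :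
    P ∈ 𝔠.minimalPrimes ∧ P ≤ 𝔪 := by
  obtain ⟨h1, h2, h3⟩ := map_mem_associatedPrimes 𝔠 hP
  haveI hPp : P.IsPrime := hP.1
  have h4 := mem_minimalPrimes_of_mem_associatedPrimes h1
  have h5 : P ∈ 𝔠.minimalPrimes := by
    rw [Ideal.minimalPrimes_eq_comap]
    exact ⟨_, h4, h2⟩
  exact ⟨h5, le_irrel K _ P (isHomogeneous_of_mem_minimalPrimes K _ h𝔠 h5) hPp.ne_top⟩

/-- the key dimension identity: for `P` associated to `R/𝔠` with `𝔠` homogeneous and `R/𝔠` CM,
`ht P + dim (R/𝔠)_𝔪 = n + 1`. -/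
theorem height_add_dim (𝔠 : Ideal R) (h𝔠 : 𝔠.IsHomogeneous (GrSyz.stdGr K (Fin (n + 1))))
    [hcm : LocCoh.IsCohenMacaulayRing (R ⧸ 𝔠)] (𝔫 : Ideal (R ⧸ 𝔠)) [h𝔫 : 𝔫.IsPrime]
    (h𝔫eq : 𝔫 = Ideal.map (Ideal.Quotient.mk 𝔠) 𝔪)
    {P : Ideal R} (hP : P ∈ associatedPrimes R (R ⧸ 𝔠)) :
    (P.height : WithBot ℕ∞) + ringKrullDim (Localization.AtPrime 𝔫) = ((n + 1 : ℕ) : WithBot ℕ∞) ∧
      P ∈ 𝔠.minimalPrimes ∧ P ≤ 𝔪 := by
  obtain ⟨h1, h2, h3⟩ := map_mem_associatedPrimes 𝔠 hP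
  haveI hPp : P.IsPrime := hP.1
  have h4 := mem_minimalPrimes_of_mem_associatedPrimes h1
  have h5 : P ∈ 𝔠.minimalPrimes := by
    rw [Ideal.minimalPrimes_eq_comap]
    exact ⟨_, h4, h2⟩
  have h6 : P ≤ 𝔪 := le_irrel K _ P (isHomogeneous_of_mem_minimalPrimes K _ h𝔠 h5) hPp.ne_top
  refine ⟨?_, h5, h6⟩
  have h𝔠𝔪 : 𝔠 ≤ 𝔪 := h3.trans h6
  haveI h𝔫max : 𝔫.IsMaximal := by
    rw [h𝔫eq]
    refine Ideal.IsMaximal.map_of_surjective_of_ker_le Ideal.Quotient.mk_surjective ?_
    rwa [Ideal.mk_ker]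
  have h7 := ringKrullDim_quotient_eq_of_le_maximal K 𝔫
    (hcm.isCohenMacaulayLocalRing_localization 𝔫) h1 (by rw [h𝔫eq]; exact Ideal.map_mono h6)
  rw [← h7, ringKrullDim_eq_of_ringEquiv (DoubleQuot.quotQuotEquivQuotOfLE h3),
    Groth.Agent.H2.DimFG.height_add_ringKrullDim_quotient K R P,
    Groth.Agent.H2.DimFG.ringKrullDim_mvPolynomial_fin]


theorem mem_associatedPrimes_of_mem_minimalPrimes (𝔠 : Ideal R) {Q : Ideal R}
    (hQ : Q ∈ 𝔠.minimalPrimes) : Q ∈ associatedPrimes R (R ⧸ 𝔠) := by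
  apply Module.associatedPrimes.minimalPrimes_annihilator_subset_associatedPrimes
  rwa [Ideal.annihilator_quotient]

/-- unmixedness: all associated primes of `R/𝔠` have height `ht 𝔠`. -/
theorem height_eq_of_mem_associatedPrimes (𝔠 : Ideal R)
    (h𝔠 : 𝔠.IsHomogeneous (GrSyz.stdGr K (Fin (n + 1))))
    [hcm : LocCoh.IsCohenMacaulayRing (R ⧸ 𝔠)]
    {P : Ideal R} (hP : P ∈ associatedPrimes R (R ⧸ 𝔠)) : P.height = 𝔠.height := by
  obtain ⟨hmin, hle⟩ := mem_minimalPrimes_and_le_irrel K n 𝔠 h𝔠 hP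
  have h𝔠𝔪 : 𝔠 ≤ 𝔪 := hmin.1.2.trans hle
  haveI h𝔫max : (Ideal.map (Ideal.Quotient.mk 𝔠) 𝔪).IsMaximal := by
    refine Ideal.IsMaximal.map_of_surjective_of_ker_le Ideal.Quotient.mk_surjective ?_
    rwa [Ideal.mk_ker]
  have h1 := (height_add_dim K n 𝔠 h𝔠 _ rfl hP).1
  apply le_antisymm
  · rw [Ideal.height_eq_inf_minimalPrimes 𝔠]
    refine le_iInf₂ (fun Q hQ => ?_)
    have h2 := (height_add_dim K n 𝔠 h𝔠 _ rfl
      (mem_associatedPrimes_of_mem_minimalPrimes K n 𝔠 hQ)).1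
    exact (withBot_cancel h1 h2).le
  · exact Ideal.height_mono hmin.1.2

end main

end Groth.Agent.H6.Liai
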