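import Groth.Agent.Lib.Helper6.GrBassStar

universe u
open CategoryTheory CategoryTheory.Abelian
open scoped TensorProduct
set_option linter.unusedSectionVars false

namespace Groth.Agent.H6

namespace BassGlobal

variable {R : Type u} [CommRing R] [IsNoetherianRing R]

theorem subsingleton_ext_of_linearEquiv {N N' : Type u} [AddCommGroup N] [Module R N]
    [AddCommGroup N'] [Module R N'] (e : N ≃ₗ[R] N') (M : ModuleCat.{u} R) (j : ℕ)
    (h : Subsingleton (Ext (ModuleCat.of R N') M j)) : Subsingleton (Ext (ModuleCat.of R N) M j) :=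
  (ExtLin.precompEquiv e.toModuleIso M j).symm.subsingleton

theorem subsingleton_ext_of_shortExact {S : ShortComplex (ModuleCat.{u} R)}
    (hS : S.ShortExact) (M : ModuleCat.{u} R) (j : ℕ) (h1 : Subsingleton (Ext S.X₁ M j))
    (h3 : Subsingleton (Ext S.X₃ M j)) : Subsingleton (Ext S.X₂ M j) := by
  refine subsingleton_of_forall_eq 0 fun α => ?_
  obtain ⟨β, hβ⟩ := Ext.contravariant_sequence_exact₂ hS M α (Subsingleton.elim _ _)
  rw [← hβ, Subsingleton.elim β 0, Ext.comp_zero]

/-- prime filtration argument -/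
theorem subsingleton_ext_of_forall_prime (M : ModuleCat.{u} R) (j : ℕ) (I : Ideal R)
    (h : ∀ q' : PrimeSpectrum R, I ≤ q'.1 → Subsingleton (Ext (ModuleCat.of R (R ⧸ q'.1)) M j))
    (N : Type u) [AddCommGroup N] [Module R N] [hfin : Module.Finite R N]
    (hN : ∀ a ∈ I, ∀ n : N, a • n = 0) : Subsingleton (Ext (ModuleCat.of R N) M j) := by
  revert hN
  refine IsNoetherianRing.induction_on_isQuotientEquivQuotientPrime R hfin
    (motive := fun N _ _ _ => (∀ a ∈ I, ∀ n : N, a • n = 0) →
      Subsingleton (Ext (ModuleCat.of R N) M j)) ?_ ?_ ?_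
  · intro N _ _ _ _ _
    exact Bass.ext_subsingleton_of_subsingleton (ModuleCat.of R N) M j
  · intro N _ _ _ p e hN
    have hIp : I ≤ p.1 := by
      intro a ha
      have h1 := hN a ha (e.symm 1)
      have h2 : a • (1 : R ⧸ p.1) = 0 := by
        have := congrArg e h1
        rwa [map_smul, e.apply_symm_apply, map_zero] at this
      rw [← Ideal.Quotient.eq_zero_iff_mem]
      rw [Algebra.smul_def, mul_one] at h2
      exact h2
    exact subsingleton_ext_of_linearEquiv e M j (h p hIp)
  · intro N₁ _ _ _ N₂ _ _ _ N₃ _ _ _ f g hf hg hfg ih1 ih3 hN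
    have hS : (ShortComplex.mk (ModuleCat.ofHom f) (ModuleCat.ofHom g) (by
        ext y; exact hfg.apply_apply_eq_zero y)).ShortExact :=
      ModuleCat.shortComplex_shortExact _ hfg hf hg
    refine subsingleton_ext_of_shortExact hS M j (ih1 ?_) (ih3 ?_)
    · intro a ha n
      apply hf
      rw [map_smul, hN a ha, map_zero]
    · intro a ha n
      obtain ⟨n', rfl⟩ := hg n
      rw [← map_smul, hN a ha, map_zero]


/-- `R_P ⊗ Ext^j_R(R/P, M) ≃ Ext^j_{R_P}(k(P), M_P)` -/
theorem nonempty_locEquiv (P : Ideal R) [P.IsPrime] (M : Type u) [AddCommGroup M] [Module R M]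
    (j : ℕ) :
    Nonempty (((Localization.AtPrime P) ⊗[R] Ext.{u} (ModuleCat.of R (R ⧸ P)) (ModuleCat.of R M) j)
      ≃ₗ[Localization.AtPrime P]
      Ext.{u} (ModuleCat.of (Localization.AtPrime P)
        (IsLocalRing.ResidueField (Localization.AtPrime P)))
        (ModuleCat.of (Localization.AtPrime P) (LocalizedModule P.primeCompl M)) j) := by
  haveI : Module.Flat R (Localization.AtPrime P) := IsLocalization.flat _ P.primeCompl
  obtain ⟨e1⟩ := ExtBC.nonempty_equiv (A := R) (B := Localization.AtPrime P) (R ⧸ P) M j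
  obtain ⟨eK⟩ := BassStar.nonempty_residue_equiv P
  have e2 := ExtLin.postcompEquiv (LocalizedModule.equivTensorProduct P.primeCompl M).toModuleIso
    (ModuleCat.of (Localization.AtPrime P) (IsLocalRing.ResidueField (Localization.AtPrime P))) j
  have e3 := ExtLin.precompEquiv eK.toModuleIso
    (ModuleCat.of (Localization.AtPrime P) ((Localization.AtPrime P) ⊗[R] M)) j
  exact ⟨e1.trans (e3.symm.trans e2.symm)⟩

theorem bassNum_eq_zero_iff (P : Ideal R) [P.IsPrime] (M : Type u) [AddCommGroup M] [Module R M]
    (j : ℕ) : GrLC.bassNum P M j = 0 ↔ Subsingleton (Ext.{u} (ModuleCat.of (Localization.AtPrime P)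
        (IsLocalRing.ResidueField (Localization.AtPrime P)))
        (ModuleCat.of (Localization.AtPrime P) (LocalizedModule P.primeCompl M)) j) :=
  Module.length_eq_zero_iff

/-- vanishing of `Ext^j(R/P, M)` implies vanishing of the Bass number -/
theorem bassNum_eq_zero_of_subsingleton (P : Ideal R) [P.IsPrime] (M : Type u) [AddCommGroup M]
    [Module R M] (j : ℕ)
    (h : Subsingleton (Ext.{u} (ModuleCat.of R (R ⧸ P)) (ModuleCat.of R M) j)) :
    GrLC.bassNum P M j = 0 := by
  rw [bassNum_eq_zero_iff]
  obtain ⟨e⟩ := nonempty_locEquiv P M j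
  exact e.symm.subsingleton

/-- if `Ext^j(R/P', M) = 0` for all primes `P' > P` and `μ^j(P, M) = 0` then `Ext^j(R/P, M) = 0` -/
theorem subsingleton_ext_quotient_prime (P : Ideal R) [hP : P.IsPrime] (M : Type u)
    [AddCommGroup M] [Module R M] (j : ℕ) (h0 : GrLC.bassNum P M j = 0)
    (h : ∀ q' : PrimeSpectrum R, P < q'.1 →
      Subsingleton (Ext.{u} (ModuleCat.of R (R ⧸ q'.1)) (ModuleCat.of R M) j)) :
    Subsingleton (Ext.{u} (ModuleCat.of R (R ⧸ P)) (ModuleCat.of R M) j) := by
  rw [bassNum_eq_zero_iff] at h0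
  obtain ⟨e⟩ := nonempty_locEquiv P M j
  haveI : Subsingleton ((Localization.AtPrime P) ⊗[R]
      Ext.{u} (ModuleCat.of R (R ⧸ P)) (ModuleCat.of R M) j) := e.subsingleton
  let N := ModuleCat.of R (R ⧸ P)
  -- elements outside `P` act injectively
  have hinj : ∀ s : R, s ∉ P → ∀ y : Ext.{u} N (ModuleCat.of R M) j, s • y = 0 → y = 0 := by
    intro s hs y hy
    have hreg : IsSMulRegular N s := by
      intro y y' hyy
      obtain ⟨z, rfl⟩ := Ideal.Quotient.mk_surjective y
      obtain ⟨z', rfl⟩ := Ideal.Quotient.mk_surjective y'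
      have h2 : Ideal.Quotient.mk P (s * z) = Ideal.Quotient.mk P (s * z') := hyy
      rw [Ideal.Quotient.eq, ← mul_sub] at h2
      rw [Ideal.Quotient.eq]
      exact (hP.mem_or_mem h2).resolve_left hs
    have hS := hreg.smulShortComplex_shortExact
    haveI : Module.Finite R N := Module.Finite.quotient R P
    haveI hV : Subsingleton (Ext.{u} (ModuleCat.of R (QuotSMulTop s N)) (ModuleCat.of R M) j) := by
      apply subsingleton_ext_of_forall_prime (ModuleCat.of R M) j (P ⊔ Ideal.span {s})
      · intro q' hq'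
        have hxq' : s ∈ q'.1 := hq' (Ideal.mem_sup_right (Ideal.mem_span_singleton_self s))
        refine h q' (lt_of_le_of_ne (le_sup_left.trans hq') ?_)
        intro heq
        apply hs
        rw [heq]
        exact hxq'
      · intro a ha n
        obtain ⟨n', rfl⟩ := Submodule.mkQ_surjective _ n
        obtain ⟨z, rfl⟩ := Ideal.Quotient.mk_surjective n'
        obtain ⟨b, hb, c, hc, rfl⟩ := Submodule.mem_sup.mp ha
        obtain ⟨c', rfl⟩ := Ideal.mem_span_singleton'.mp hc
        rw [← map_smul, Submodule.mkQ_apply, Submodule.Quotient.mk_eq_zero]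
        have h1 : (b + c' * s) • (Ideal.Quotient.mk P z : N) =
            s • (Ideal.Quotient.mk P (c' * z) : N) := by
          change Ideal.Quotient.mk P ((b + c' * s) * z) = Ideal.Quotient.mk P (s * (c' * z))
          rw [Ideal.Quotient.eq]
          have : (b + c' * s) * z - s * (c' * z) = b * z := by ring
          rw [this]
          exact Ideal.mul_mem_right _ _ hb
        rw [h1]
        exact Submodule.smul_mem_pointwise_smul _ _ _ Submodule.mem_top
    have h1 : (Ext.mk₀ (N.smulShortComplex s).f).comp y (zero_add j) = 0 := by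
      have := Bass.mk₀_smul_id_comp N (ModuleCat.of R M) s j y
      exact this.trans hy
    obtain ⟨β, hβ⟩ := Ext.contravariant_sequence_exact₂ hS (ModuleCat.of R M) y h1
    have hβ0 : β = 0 := hV.elim _ _
    rw [← hβ, hβ0, Ext.comp_zero]
    rfl
  refine subsingleton_of_forall_eq 0 fun y => ?_
  haveI : IsLocalizedModule P.primeCompl (TensorProduct.mk R (Localization.AtPrime P)
      (Ext.{u} N (ModuleCat.of R M) j) 1) :=
    (isLocalizedModule_iff_isBaseChange P.primeCompl (Localization.AtPrime P) _).mpr
      (TensorProduct.isBaseChange R _ (Localization.AtPrime P))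
  have h1 : TensorProduct.mk R (Localization.AtPrime P) (Ext.{u} N (ModuleCat.of R M) j) 1 y = 0 :=
    Subsingleton.elim _ _
  obtain ⟨s, hs⟩ := (IsLocalizedModule.eq_zero_iff P.primeCompl _).mp h1
  exact hinj s.1 s.2 y hs

section Main

variable (M : Type u) [AddCommGroup M] [Module R M] (j : ℕ)
  (h : ∀ (P : Ideal R) [P.IsPrime], GrLC.bassNum P M j = 0)

include h in
theorem subsingleton_ext_prime_of_bassNum : ∀ (P : Ideal R), P.IsPrime →
    Subsingleton (Ext.{u} (ModuleCat.of R (R ⧸ P)) (ModuleCat.of R M) j) := by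
  intro P
  induction P using IsNoetherian.induction with
  | hgt P ih =>
    intro hP
    exact subsingleton_ext_quotient_prime P M j (h P) (fun q' hq' => ih q'.1 hq' q'.2)

include h in
/-- if the `j`-th Bass numbers of `M` all vanish then `Ext^j(N, M) = 0` for all finite `N` -/
theorem subsingleton_ext_of_bassNum (N : Type u) [AddCommGroup N] [Module R N]
    [Module.Finite R N] : Subsingleton (Ext.{u} (ModuleCat.of R N) (ModuleCat.of R M) j) := by
  apply subsingleton_ext_of_forall_prime (ModuleCat.of R M) j ⊥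
  · intro q' _
    exact subsingleton_ext_prime_of_bassNum M j h q'.1 q'.2
  · intro a ha n
    rw [Ideal.mem_bot] at ha
    rw [ha, zero_smul]

end Main

theorem hasInjectiveDimensionLT_of_bassNum (M : Type u) [AddCommGroup M] [Module R M] (n : ℕ)
    (h : ∀ (P : Ideal R) [P.IsPrime], GrLC.bassNum P M (n + 1) = 0) :
    HasInjectiveDimensionLT (ModuleCat.of R M) (n + 1) := by
  apply Groth.Agent.H1.Reg.hasInjectiveDimensionLT_of_ext_cyclic
  intro I
  exact subsingleton_ext_of_bassNum M (n + 1) h (R ⧸ I)

theorem injective_of_bassNum (M : Type u) [AddCommGroup M] [Module R M]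
    (h : ∀ (P : Ideal R) [P.IsPrime], GrLC.bassNum P M 1 = 0) : Module.Injective R M := by
  haveI : Injective (ModuleCat.of R M) :=
    Groth.Agent.H1.Reg.injective_of_ext_one (ModuleCat.of R M)
      (fun I => subsingleton_ext_of_bassNum M 1 h (R ⧸ I))
  exact Module.injective_module_of_injective_object R M

/-- for an injective module the positive Bass numbers vanish -/
theorem bassNum_eq_zero_of_injective (M : Type u) [AddCommGroup M] [Module R M]
    [Module.Injective R M] (P : Ideal R) [P.IsPrime] (n : ℕ) : GrLC.bassNum P M (n + 1) = 0 := by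
  apply bassNum_eq_zero_of_subsingleton
  haveI : Injective (ModuleCat.of R M) := Module.injective_object_of_injective_module R M
  exact subsingleton_of_forall_eq 0 fun x => Ext.eq_zero_of_injective x


end BassGlobal

end Groth.Agent.H6
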