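import Mathlib
import Groth.Agent.Lib.Helper6.LCDepth
import Groth.Agent.Lib.Helper6.ExtBaseChange
import Groth.Agent.Lib.Helper6.LDLoc1

universe u
set_option linter.style.haveILetI false
open CategoryTheory CategoryTheory.Abelian TensorProduct

namespace Groth.Agent.H6.DepthExt

variable {R : Type u} [CommRing R] [IsNoetherianRing R]

/-- **Rees**: depth via `Ext(R/I, M)` -/
theorem le_idealDepth_iff_ext (I : Ideal R) (M : Type u) [AddCommGroup M]
    [Module R M] [Module.Finite R M] (hIM : I • (⊤ : Submodule R M) ≠ ⊤) (n : ℕ) :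
    (n : ℕ∞) ≤ LocCoh.idealDepth I M ↔
      ∀ i < n, Subsingleton (Ext (ModuleCat.of R (R ⧸ I)) (ModuleCat.of R M) i) := by
  have smul_lt : I • (⊤ : Submodule R (ModuleCat.of R M)) < ⊤ := lt_top_iff_ne_top.mpr hIM
  haveI hfin : Module.Finite R (ModuleCat.of R M) := ‹Module.Finite R M›
  rw [LC.le_idealDepth_iff I M hIM n]
  have key := LC.exists_isRegular_iff I (ModuleCat.of R M) smul_lt n
  have tf := ((ModuleCat.exists_isRegular_tfae I n (ModuleCat.of R M) smul_lt).out 1 3)
  have e : ModuleCat.of R (Shrink.{u} (R ⧸ I)) ≅ ModuleCat.of R (R ⧸ I) :=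
    (Shrink.linearEquiv R (R ⧸ I)).toModuleIso
  change (∀ i < n, Subsingleton ((localCohomology I i).obj (ModuleCat.of R M))) ↔ _
  rw [← key, ← tf]
  refine forall_congr' (fun i => forall_congr' (fun _ => ?_))
  exact CR.ext_subsingleton_iff_of_iso e _ i

/-- localisation of `Ext^i(R/I, M)` at a prime -/
theorem locExt_quot_subsingleton_iff (I : Ideal R) (M : Type u) [AddCommGroup M] [Module R M]
    (Q : Ideal R) [Q.IsPrime] (i : ℕ) :
    Subsingleton (LocalizedModule Q.primeCompl
        (Ext (ModuleCat.of R (R ⧸ I)) (ModuleCat.of R M) i)) ↔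
      Subsingleton (Ext (ModuleCat.of (Localization.AtPrime Q)
          (Localization.AtPrime Q ⧸ I.map (algebraMap R (Localization.AtPrime Q))))
        (ModuleCat.of (Localization.AtPrime Q) (LocalizedModule Q.primeCompl M)) i) := by
  obtain ⟨e⟩ := ExtBC.nonempty_equiv (A := R) (B := Localization.AtPrime Q) (R ⧸ I) M i
  have e1 := (IsLocalizedModule.isBaseChange Q.primeCompl (Localization.AtPrime Q)
    (LocalizedModule.mkLinearMap Q.primeCompl
      (Ext (ModuleCat.of R (R ⧸ I)) (ModuleCat.of R M) i))).equiv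
  have e2 := (IsLocalizedModule.isBaseChange Q.primeCompl (Localization.AtPrime Q)
    (LocalizedModule.mkLinearMap Q.primeCompl M)).equiv
  have e3 : (Localization.AtPrime Q) ⊗[R] (R ⧸ I) ≃ₗ[Localization.AtPrime Q]
      (Localization.AtPrime Q ⧸ I.map (algebraMap R (Localization.AtPrime Q))) :=
    (Ideal.qoutMapEquivTensorQout (Localization.AtPrime Q) (I := I)).symm
  rw [← e1.toEquiv.subsingleton_congr, e.toEquiv.subsingleton_congr,
    CR.ext_subsingleton_iff_of_iso e3.toModuleIso _ i,
    LDL.ext_subsingleton_iff_of_iso₂ _ e2.toModuleIso i]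

theorem depth_open (I : Ideal R) (M : Type u) [AddCommGroup M] [Module R M] [Module.Finite R M]
    (p : PrimeSpectrum R) (e : ℕ)
    (he : LocCoh.idealDepth (I.map (algebraMap R (Localization.AtPrime p.asIdeal)))
      (LocalizedModule p.asIdeal.primeCompl M) = e) :
    ∃ U : Set (PrimeSpectrum R), IsOpen U ∧ p ∈ U ∧ ∀ q : PrimeSpectrum R, q ∈ U →
      (e : ℕ∞) ≤ LocCoh.idealDepth (I.map (algebraMap R (Localization.AtPrime q.asIdeal)))
        (LocalizedModule q.asIdeal.primeCompl M) := by
  have inst1 : ∀ q : PrimeSpectrum R, IsNoetherianRing (Localization.AtPrime q.asIdeal) :=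
    fun q => IsLocalization.isNoetherianRing q.asIdeal.primeCompl _ inferInstance
  have inst2 : ∀ q : PrimeSpectrum R, Module.Finite (Localization.AtPrime q.asIdeal)
      (LocalizedModule q.asIdeal.primeCompl M) :=
    fun q => Module.Finite.of_isLocalizedModule q.asIdeal.primeCompl
      (LocalizedModule.mkLinearMap q.asIdeal.primeCompl M)
  haveI hfinE : ∀ i, Module.Finite R (Ext (ModuleCat.of R (R ⧸ I)) (ModuleCat.of R M) i) :=
    fun i => ModuleCat.finite_ext R (ModuleCat.of R (R ⧸ I)) (ModuleCat.of R M) i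
  refine ⟨(⋃ i ∈ Finset.range e,
    Module.support R (Ext (ModuleCat.of R (R ⧸ I)) (ModuleCat.of R M) i))ᶜ, ?_, ?_, ?_⟩
  · rw [isOpen_compl_iff]
    exact Set.Finite.isClosed_biUnion (Finset.finite_toSet _)
      (fun i _ => Module.isClosed_support)
  · haveI := inst1 p
    haveI := inst2 p
    have hIM : (I.map (algebraMap R (Localization.AtPrime p.asIdeal))) •
        (⊤ : Submodule (Localization.AtPrime p.asIdeal)
          (LocalizedModule p.asIdeal.primeCompl M)) ≠ ⊤ := by
      intro h
      unfold LocCoh.idealDepth at he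
      rw [if_pos h] at he
      exact ENat.top_ne_natCast e he
    have hext := (le_idealDepth_iff_ext _ _ hIM e).mp (le_of_eq he.symm)
    simp only [Set.mem_compl_iff, Set.mem_iUnion, Finset.mem_range, not_exists]
    intro i hi
    rw [Module.notMem_support_iff, locExt_quot_subsingleton_iff]
    exact hext i hi
  · intro q hq
    haveI := inst1 q
    haveI := inst2 q
    by_cases hIM : (I.map (algebraMap R (Localization.AtPrime q.asIdeal))) •
        (⊤ : Submodule (Localization.AtPrime q.asIdeal)
          (LocalizedModule q.asIdeal.primeCompl M)) = ⊤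
    · unfold LocCoh.idealDepth
      rw [if_pos hIM]
      exact le_top
    · rw [le_idealDepth_iff_ext _ _ hIM e]
      intro i hi
      rw [← locExt_quot_subsingleton_iff, ← Module.notMem_support_iff]
      simp only [Set.mem_compl_iff, Set.mem_iUnion, Finset.mem_range, not_exists] at hq
      exact hq i hi

end Groth.Agent.H6.DepthExt
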