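import Groth.Agent.Lib.Helper6.GrRankInd
import Groth.Agent.Lib.Helper6.BassGlobal
import Groth.Agent.Lib.Helper6.DepthExt
import Groth.Agent.Lib.Helper3.DepthAux

/-! Depth via Bass numbers; depth at a prime versus at its homogeneous core. -/

universe u
open CategoryTheory CategoryTheory.Abelian
set_option linter.unusedSectionVars false

namespace Groth.Agent.H6

namespace DepthBass

section Local

variable {A : Type u} [CommRing A] [IsLocalRing A] [IsNoetherianRing A]
  (N : Type u) [AddCommGroup N] [Module A N] [Module.Finite A N]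

theorem le_depth_iff (n : ℕ) : (n : ℕ∞) ≤ LocCoh.depth A N ↔
    ∀ i < n, Subsingleton (Ext.{u} (ModuleCat.of A (IsLocalRing.ResidueField A))
      (ModuleCat.of A N) i) := by
  by_cases hN : Subsingleton N
  · have h1 : LocCoh.depth A N = ⊤ := by
      unfold LocCoh.depth LocCoh.idealDepth
      rw [if_pos (Subsingleton.elim _ _)]
    rw [h1]
    refine ⟨fun _ i _ => ?_, fun _ => le_top⟩
    have hz : Limits.IsZero (ModuleCat.of A N) := ModuleCat.isZero_of_subsingleton _
    refine subsingleton_of_forall_eq 0 fun x => ?_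
    rw [← Ext.comp_mk₀_id x, hz.eq_of_tgt (𝟙 _) 0, Ext.mk₀_zero, Ext.comp_zero]
  · rw [not_subsingleton_iff_nontrivial] at hN
    have hIM := Groth.Agent.H3.DepthAux.smul_top_ne_top_of_nontrivial (R := A) N
    exact DepthExt.le_idealDepth_iff_ext (IsLocalRing.maximalIdeal A) N hIM n

end Local

variable {R : Type u} [CommRing R] [IsNoetherianRing R]

theorem le_depth_iff_bassNum (p : Ideal R) [p.IsPrime] (M : Type u) [AddCommGroup M] [Module R M]
    [Module.Finite R M] (n : ℕ) :
    (n : ℕ∞) ≤ LocCoh.depth (Localization.AtPrime p) (LocalizedModule p.primeCompl M) ↔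
      ∀ i < n, GrLC.bassNum p M i = 0 := by
  rw [le_depth_iff]
  refine forall_congr' fun i => forall_congr' fun _ => ?_
  exact (BassGlobal.bassNum_eq_zero_iff p M i).symm

section Graded

variable {ι : Type} [AddCommGroup ι] [DecidableEq ι] [Module.Free ℤ ι] [Module.Finite ℤ ι]
variable {R : Type u} [CommRing R] [IsNoetherianRing R] (𝒜 : ι → AddSubgroup R) [GradedRing 𝒜]
variable (p : Ideal R) [hp : p.IsPrime] [hc : (Ideal.homogeneousCore 𝒜 p).toIdeal.IsPrime]
variable (d : ℕ)
  (hd : (p.map (Ideal.Quotient.mk (Ideal.homogeneousCore 𝒜 p).toIdeal)).height = d)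

include hd in
theorem depth_core (M : Type u) [AddCommGroup M] [Module R M] (ℳ : ι → AddSubgroup M)
    [DirectSum.Decomposition ℳ] [SetLike.GradedSMul 𝒜 ℳ] [Module.Finite R M] :
    LocCoh.depth (Localization.AtPrime p) (LocalizedModule p.primeCompl M) =
      LocCoh.depth (Localization.AtPrime (Ideal.homogeneousCore 𝒜 p).toIdeal)
        (LocalizedModule (Ideal.homogeneousCore 𝒜 p).toIdeal.primeCompl M) + d := by
  obtain ⟨h1, h2⟩ := RankInd.bassNum_core 𝒜 p d hd M ℳ
  apply le_antisymm
  · rw [← ENat.forall_natCast_le_iff_le]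
    intro n hn
    rw [le_depth_iff_bassNum] at hn
    have h3 : ((n - d : ℕ) : ℕ∞) ≤ LocCoh.depth
        (Localization.AtPrime (Ideal.homogeneousCore 𝒜 p).toIdeal)
        (LocalizedModule (Ideal.homogeneousCore 𝒜 p).toIdeal.primeCompl M) := by
      rw [le_depth_iff_bassNum]
      intro i hi
      rw [← h2 i]
      exact hn (i + d) (by omega)
    calc (n : ℕ∞) ≤ ((n - d : ℕ) : ℕ∞) + d := by
          rw [← Nat.cast_add]; exact_mod_cast (show n ≤ n - d + d by omega)
      _ ≤ _ := add_le_add_left h3 _
  · rw [← ENat.forall_natCast_le_iff_le]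
    intro n hn
    rw [le_depth_iff_bassNum]
    intro i hi
    by_cases hid : i < d
    · exact h1 i hid
    · obtain ⟨j, rfl⟩ : ∃ j, i = j + d := ⟨i - d, by omega⟩
      rw [h2 j]
      have h3 : ((j + 1 : ℕ) : ℕ∞) ≤ LocCoh.depth
          (Localization.AtPrime (Ideal.homogeneousCore 𝒜 p).toIdeal)
          (LocalizedModule (Ideal.homogeneousCore 𝒜 p).toIdeal.primeCompl M) := by
        by_contra hcon
        rw [not_le] at hcon
        have h4 : LocCoh.depth (Localization.AtPrime (Ideal.homogeneousCore 𝒜 p).toIdeal)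
            (LocalizedModule (Ideal.homogeneousCore 𝒜 p).toIdeal.primeCompl M) ≤ (j : ℕ∞) := by
          rw [Nat.cast_add, Nat.cast_one] at hcon
          exact Order.le_of_lt_add_one hcon
        have h5 : (n : ℕ∞) ≤ ((j + d : ℕ) : ℕ∞) := by
          rw [Nat.cast_add]
          exact hn.trans (add_le_add_left h4 _)
        have h6 : n ≤ j + d := by exact_mod_cast h5
        omega
      rw [le_depth_iff_bassNum] at h3
      exact h3 j (Nat.lt_succ_self j)

end Graded

end DepthBass

end Groth.Agent.H6
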