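import Groth.Agent.Lib.Helper6.GrSummand

/-! Associated primes of graded modules (torsion-free grading group): existence of a homogeneous
element whose annihilator is a homogeneous prime. -/

universe u
open DirectSum
set_option linter.unusedSectionVars false

namespace Groth.Agent.H6

namespace Gr

/-- a finitely generated free abelian group carries a linear order compatible with addition -/
theorem exists_linearOrder_isOrderedCancelAddMonoid (ι : Type) [AddCommGroup ι] [Module.Free ℤ ι]
    [Module.Finite ℤ ι] :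
    ∃ lo : LinearOrder ι, @IsOrderedCancelAddMonoid ι _ lo.toPartialOrder.toPreorder := by
  let e : ι ≃ₗ[ℤ] (Fin (Module.finrank ℤ ι) → ℤ) := (Module.finBasis ℤ ι).equivFun
  let f : ι → Lex (Fin (Module.finrank ℤ ι) → ℤ) := fun x => toLex (e x)
  have hf : Function.Injective f := fun x y h => e.injective (toLex.injective h)
  let lo : LinearOrder ι := LinearOrder.lift' f hf
  refine ⟨lo, ?_⟩
  exact Function.Injective.isOrderedCancelAddMonoid f (fun x y => by
    change toLex (e (x + y)) = toLex (e x) + toLex (e y)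
    rw [map_add]; rfl) Iff.rfl

variable {ι : Type} [AddCommGroup ι] [instDec : DecidableEq ι] [Module.Free ℤ ι]
  [Module.Finite ℤ ι]
variable {R : Type u} [CommRing R] (𝒜 : ι → AddSubgroup R) [GradedRing 𝒜]

/-- a homogeneous ideal which is prime on homogeneous elements is prime -/
theorem isPrime_of_homogeneous_mem_or_mem {I : Ideal R} (hI : I.IsHomogeneous 𝒜)
    (I_ne_top : I ≠ ⊤)
    (h : ∀ {x y : R}, SetLike.IsHomogeneousElem 𝒜 x → SetLike.IsHomogeneousElem 𝒜 y →
      x * y ∈ I → x ∈ I ∨ y ∈ I) : I.IsPrime := by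
  obtain ⟨lo, hlo⟩ := exists_linearOrder_isOrderedCancelAddMonoid ι
  have hdec : instDec = lo.toDecidableEq := Subsingleton.elim _ _
  subst hdec
  exact Ideal.IsHomogeneous.isPrime_of_homogeneous_mem_or_mem hI I_ne_top h

section Ann

variable {I : Type u} [AddCommGroup I] [Module R I] (ℐ : ι → AddSubgroup I)
  [DirectSum.Decomposition ℐ] [SetLike.GradedSMul 𝒜 ℐ]

omit [Module.Free ℤ ι] [Module.Finite ℤ ι] in
/-- the annihilator of a homogeneous element is a homogeneous ideal -/
theorem annihilator_isHomogeneous {g : ι} {m : I} (hm : m ∈ ℐ g) :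
    ((Submodule.span R {m}).annihilator).IsHomogeneous 𝒜 := by
  intro h r hr
  rw [Submodule.mem_annihilator_span_singleton] at hr ⊢
  have h1 := proj_smul_of_mem 𝒜 ℐ (DirectSum.decompose 𝒜 r h).2 g m
  -- component of degree `h + g` of `r • m`
  have h2 : proj ℐ (h + g) (r • m) = ((DirectSum.decompose 𝒜 r h : R)) • m := by
    classical
    conv_lhs => rw [← DirectSum.sum_support_decompose 𝒜 r, Finset.sum_smul, map_sum]
    rw [Finset.sum_eq_single h]
    · exact proj_of_mem ℐ (SetLike.GradedSMul.smul_mem (A := 𝒜) (B := ℐ)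
        (DirectSum.decompose 𝒜 r h).2 hm)
    · intro e _ hed
      have hmem : ((DirectSum.decompose 𝒜 r e : R)) • m ∈ ℐ (e + g) :=
        SetLike.GradedSMul.smul_mem (A := 𝒜) (B := ℐ) (DirectSum.decompose 𝒜 r e).2 hm
      exact proj_of_mem_ne ℐ hmem fun heq => hed (add_right_cancel heq)
    · intro hdn
      rw [DFinsupp.notMem_support_iff] at hdn
      have : ((DirectSum.decompose 𝒜 r h : R)) = 0 := by rw [hdn]; rfl
      rw [this, zero_smul, map_zero]
  rw [← h2, hr, map_zero]

/-- a nonzero graded module over a Noetherian graded ring has a homogeneous element whose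
annihilator is a (homogeneous) prime -/
theorem exists_homogeneous_prime_ann [IsNoetherianRing R] [Nontrivial I] :
    ∃ (q : HomogeneousIdeal 𝒜) (g₀ : ι) (m : I), q.toIdeal.IsPrime ∧ m ∈ ℐ g₀ ∧
      (Submodule.span R {m}).annihilator = q.toIdeal := by
  let S : Set (Ideal R) := {J | ∃ (g : ι) (y : I), y ∈ ℐ g ∧ y ≠ 0 ∧
    J = (Submodule.span R {y}).annihilator}
  have hS : S.Nonempty := by
    have htop : (⊤ : Submodule R I) ≠ ⊥ := top_ne_bot
    obtain ⟨g, y, _, hy, hy0⟩ := exists_homogeneous_ne_zero ℐ (isHomogeneous_top ℐ) htop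
    exact ⟨_, g, y, hy, hy0, rfl⟩
  obtain ⟨J, ⟨g₀, m, hm, hm0, rfl⟩, hmax⟩ := set_has_maximal_iff_noetherian.mpr
    (inferInstance : IsNoetherian R R) S hS
  have hhom := annihilator_isHomogeneous 𝒜 ℐ hm
  have hne : (Submodule.span R {m}).annihilator ≠ ⊤ := by
    intro h
    apply hm0
    have : (1 : R) ∈ (Submodule.span R {m}).annihilator := by rw [h]; exact Submodule.mem_top
    rw [Submodule.mem_annihilator_span_singleton, one_smul] at this
    exact this
  have hprime : ((Submodule.span R {m}).annihilator).IsPrime := by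
    apply isPrime_of_homogeneous_mem_or_mem 𝒜 hhom hne
    intro x y _ hy hxy
    by_contra hcon
    push Not at hcon
    obtain ⟨d, hyd⟩ := hy
    have hym0 : y • m ≠ 0 := by
      intro h
      exact hcon.2 ((Submodule.mem_annihilator_span_singleton _ _).mpr h)
    have hymem : y • m ∈ ℐ (d + g₀) := SetLike.GradedSMul.smul_mem (A := 𝒜) (B := ℐ) hyd hm
    have hle : (Submodule.span R {m}).annihilator ≤ (Submodule.span R {y • m}).annihilator := by
      intro r hr
      rw [Submodule.mem_annihilator_span_singleton] at hr ⊢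
      rw [smul_comm, hr, smul_zero]
    have hnotlt := hmax _ ⟨d + g₀, y • m, hymem, hym0, rfl⟩
    have heq : (Submodule.span R {m}).annihilator = (Submodule.span R {y • m}).annihilator := by
      by_contra hne'
      exact hnotlt (lt_of_le_of_ne hle hne')
    apply hcon.1
    rw [heq, Submodule.mem_annihilator_span_singleton, smul_smul]
    exact (Submodule.mem_annihilator_span_singleton _ _).mp hxy
  exact ⟨⟨_, hhom⟩, g₀, m, hprime, hm, rfl⟩

end Ann

end Gr

end Groth.Agent.H6
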