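import Groth.Agent.Lib.Helper6.GrHomDecomp

/-! Graded free modules of finite rank and graded free covers of finitely generated graded
modules. -/

universe u
open DirectSum
set_option linter.unusedSectionVars false

namespace Groth.Agent.H6

namespace Gr

variable {ι : Type} [AddCommGroup ι] [DecidableEq ι]
variable {R : Type u} [CommRing R] (𝒜 : ι → AddSubgroup R) [GradedRing 𝒜]

section Free

variable {κ : Type u} [Fintype κ] [DecidableEq κ] (d : κ → ι)

/-- the pieces of the graded free module with basis elements in degrees `d j` -/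
def freeGr (k : ι) : AddSubgroup (κ → R) where
  carrier := {v | ∀ j, v j ∈ 𝒜 (k - d j)}
  zero_mem' := fun j => zero_mem _
  add_mem' := fun hv hw j => add_mem (hv j) (hw j)
  neg_mem' := fun hv j => neg_mem (hv j)

theorem mem_freeGr {k : ι} {v : κ → R} : v ∈ freeGr 𝒜 d k ↔ ∀ j, v j ∈ 𝒜 (k - d j) := Iff.rfl

/-- the projections -/
noncomputable def freeProj (k : ι) : (κ → R) →+ (κ → R) where
  toFun v j := proj 𝒜 (k - d j) (v j)
  map_zero' := by
    funext j
    exact map_zero _
  map_add' v w := by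
    funext j
    exact map_add _ _ _

theorem freeProj_apply (k : ι) (v : κ → R) (j : κ) :
    freeProj 𝒜 d k v j = proj 𝒜 (k - d j) (v j) := rfl

theorem single_mem_freeGr (j : κ) {g : ι} {r : R} (hr : r ∈ 𝒜 g) :
    Pi.single j r ∈ freeGr 𝒜 d (g + d j) := by
  intro j'
  by_cases hj : j' = j
  · subst hj
    rw [Pi.single_eq_same, add_sub_cancel_right]
    exact hr
  · rw [Pi.single_eq_of_ne hj]
    exact zero_mem _

theorem free_isInternal : DirectSum.IsInternal (freeGr 𝒜 d) := by
  refine isInternal_of_proj (freeGr 𝒜 d) (freeProj 𝒜 d) ?_ ?_ ?_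
  · intro k v hv
    funext j
    rw [freeProj_apply]
    exact proj_of_mem 𝒜 (hv j)
  · intro k h v hv hne
    funext j
    rw [freeProj_apply]
    exact proj_of_mem_ne 𝒜 (hv j) fun heq => hne (sub_left_injective heq)
  · intro v
    rw [← Finset.univ_sum_single v]
    refine sum_mem fun j _ => ?_
    obtain ⟨s, hs⟩ := exists_finset_sum_proj 𝒜 (v j)
    rw [← hs]
    have : (Pi.single j (∑ g ∈ s, proj 𝒜 g (v j)) : κ → R) =
        ∑ g ∈ s, Pi.single j (proj 𝒜 g (v j)) := by
      exact map_sum (AddMonoidHom.single (fun _ : κ => R) j) _ _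
    rw [this]
    refine sum_mem fun g _ => ?_
    exact AddSubgroup.mem_iSup_of_mem (g + d j) (single_mem_freeGr 𝒜 d j (proj_mem 𝒜 g _))

/-- the decomposition of a graded free module -/
@[instance_reducible]
noncomputable def freeDecomposition : DirectSum.Decomposition (freeGr 𝒜 d) :=
  (free_isInternal 𝒜 d).chooseDecomposition

theorem free_gradedSMul : SetLike.GradedSMul 𝒜 (freeGr 𝒜 d) where
  smul_mem := by
    intro h k r v hr hv j
    change r * v j ∈ 𝒜 (h + k - d j)
    rw [add_sub_assoc]
    exact SetLike.GradedMul.mul_mem hr (hv j)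

/-- the graded free module, bundled -/
noncomputable def GMod.free : GrLC.GMod.{u} 𝒜 :=
  @GrLC.GMod.mk ι _ _ R _ _ _ _ 𝒜 _ (κ → R) _ _ (freeGr 𝒜 d) (freeDecomposition 𝒜 d)
    (free_gradedSMul 𝒜 d)

variable {M : Type u} [AddCommGroup M] [Module R M] (ℳ : ι → AddSubgroup M)
  [DirectSum.Decomposition ℳ] [SetLike.GradedSMul 𝒜 ℳ]

theorem linearCombination_isGrHom {x : κ → M} (hx : ∀ j, x j ∈ ℳ (d j)) :
    GrLC.IsGrHom (freeGr 𝒜 d) ℳ (Fintype.linearCombination R x) := by
  intro k v hv
  rw [Fintype.linearCombination_apply]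
  refine sum_mem fun j _ => ?_
  have := SetLike.GradedSMul.smul_mem (A := 𝒜) (B := ℳ) (hv j) (hx j)
  rwa [vadd_eq_add, sub_add_cancel] at this

end Free

section Cover

variable {M : Type u} [AddCommGroup M] [Module R M] (ℳ : ι → AddSubgroup M)
  [DirectSum.Decomposition ℳ] [SetLike.GradedSMul 𝒜 ℳ]

/-- a finitely generated graded module is generated by finitely many homogeneous elements -/
theorem exists_homogeneous_generators [Module.Finite R M] :
    ∃ (κ : Type u) (_ : Fintype κ) (x : κ → M) (d : κ → ι), (∀ j, x j ∈ ℳ (d j)) ∧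
      Submodule.span R (Set.range x) = ⊤ := by
  classical
  obtain ⟨S, hS⟩ := (Module.Finite.fg_top : (⊤ : Submodule R M).FG)
  let T : Finset (ULift.{u} ι × M) := S.biUnion fun s =>
    (DirectSum.decompose ℳ s).support.image fun g => (ULift.up g, proj ℳ g s)
  have hT : ∀ t ∈ T, t.2 ∈ ℳ t.1.down := by
    intro t ht
    obtain ⟨s, _, ht2⟩ := Finset.mem_biUnion.mp ht
    obtain ⟨g, _, rfl⟩ := Finset.mem_image.mp ht2
    exact proj_mem ℳ g s
  refine ⟨{t // t ∈ T}, inferInstance, fun t => t.1.2, fun t => t.1.1.down, fun t => hT t.1 t.2, ?_⟩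
  rw [eq_top_iff, ← hS, Submodule.span_le]
  intro s hs
  rw [SetLike.mem_coe, ← sum_proj ℳ s]
  refine sum_mem fun g hg => ?_
  apply Submodule.subset_span
  refine ⟨⟨(ULift.up g, proj ℳ g s), ?_⟩, rfl⟩
  exact Finset.mem_biUnion.mpr ⟨s, hs, Finset.mem_image.mpr ⟨g, hg, rfl⟩⟩

/-- graded free covers -/
theorem exists_graded_free_cover [Module.Finite R M] :
    ∃ (F : GrLC.GMod.{u} 𝒜) (π : F.carrier →ₗ[R] M), Module.Projective R F.carrier ∧
      Module.Finite R F.carrier ∧ Function.Surjective π ∧ GrLC.IsGrHom F.gr ℳ π := by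
  classical
  obtain ⟨κ, _, x, d, hx, hspan⟩ := exists_homogeneous_generators (R := R) ℳ
  refine ⟨GMod.free 𝒜 d,
    (show (GMod.free 𝒜 d).carrier →ₗ[R] M from Fintype.linearCombination R x),
    (show Module.Projective R (κ → R) from inferInstance),
    (show Module.Finite R (κ → R) from inferInstance), ?_, ?_⟩
  · have : LinearMap.range (Fintype.linearCombination R x) = ⊤ := by
      rw [Fintype.range_linearCombination, hspan]
    exact LinearMap.range_eq_top.mp this
  · exact linearCombination_isGrHom 𝒜 d ℳ hx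

end Cover

end Gr

end Groth.Agent.H6
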