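import Groth.Agent.Lib.Helper6.GrStepZ

/-! Primes versus their homogeneous cores: induction on the rank of the grading group. -/

universe u
set_option linter.unusedSectionVars false

namespace Groth.Agent.H6

namespace RankInd

open RelHt

/-- the combined statement for a grading group -/
def Good (ι : Type) [AddCommGroup ι] [DecidableEq ι] : Prop :=
  ∀ (R : Type u) [CommRing R] [IsNoetherianRing R] (𝒜 : ι → AddSubgroup R) [GradedRing 𝒜]
    (p c : Ideal R) [p.IsPrime] [c.IsPrime], c = Ideal.homogeneousCore' 𝒜 p →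
    ∃ (d' : ℕ) (hcp : c ≤ p),
      (∀ (a : Ideal R), a.IsHomogeneous 𝒜 → ∀ hac : a ≤ c,
        relHt a p (hac.trans hcp) ≤ relHt a c hac + d') ∧
      ((d' : ℕ∞) ≤ relHt c p hcp) ∧
      (∀ (M : Type u) [AddCommGroup M] [Module R M] (ℳ : ι → AddSubgroup M)
        [DirectSum.Decomposition ℳ] [SetLike.GradedSMul 𝒜 ℳ],
        (∀ i < d', GrLC.bassNum p M i = 0) ∧
          ∀ i, GrLC.bassNum p M (i + d') = GrLC.bassNum c M i)

theorem good_of_subsingleton (ι : Type) [AddCommGroup ι] [DecidableEq ι] [Subsingleton ι] :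
    Good.{u} ι := by
  intro R _ _ 𝒜 _ p c hp hc hcp
  have hall : ∀ x : R, x ∈ 𝒜 0 := by
    intro x
    obtain ⟨s, hs⟩ := Gr.exists_finset_sum_proj 𝒜 x
    rw [← hs]
    refine sum_mem fun g _ => ?_
    have h0 : g = 0 := Subsingleton.elim g 0
    subst h0
    exact Gr.proj_mem 𝒜 0 x
  have hph : p.IsHomogeneous 𝒜 := by
    intro g x hx
    change Gr.proj 𝒜 g x ∈ p
    rw [Subsingleton.elim g 0, Gr.proj_of_mem 𝒜 (hall x)]
    exact hx
  have h1 : (Ideal.homogeneousCore 𝒜 p).toIdeal = p := hph.toIdeal_homogeneousCore_eq_self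
  have hcp' : c = p := hcp.trans h1
  subst hcp'
  refine ⟨0, le_rfl, ?_, ?_, ?_⟩
  · intro a _ hac
    rw [Nat.cast_zero, add_zero]
  · rw [Nat.cast_zero]; exact bot_le
  · intro M _ _ ℳ _ _
    exact ⟨fun i hi => absurd hi (Nat.not_lt_zero i), fun i => rfl⟩

/-- a splitting of a free group of rank `r + 1` -/
theorem exists_splitting (ι : Type) [AddCommGroup ι] [Module.Free ℤ ι] [Module.Finite ℤ ι] (r : ℕ)
    (hr : Module.finrank ℤ ι = r + 1) :
    ∃ (φ : ι →+ ℤ) (ψ : ι →+ (Fin r → ℤ)), ∀ g g', φ g = φ g' → ψ g = ψ g' → g = g' := by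
  let b := Module.finBasisOfFinrankEq ℤ ι hr
  refine ⟨(b.coord 0).toAddMonoidHom,
    AddMonoidHom.mk' (fun g j => b.repr g j.succ) (by intro g g'; ext j; simp), ?_⟩
  intro g g' h1 h2
  apply b.repr.injective
  ext i
  refine Fin.cases ?_ (fun j => ?_) i
  · exact h1
  · exact congrFun h2 j

/-- the inductive step -/
theorem good_step (ι κ' : Type) [AddCommGroup ι] [DecidableEq ι] [AddCommGroup κ']
    [DecidableEq κ'] (φ : ι →+ ℤ) (ψ : ι →+ κ')
    (hinj : ∀ g g', φ g = φ g' → ψ g = ψ g' → g = g') (hκ : Good.{u} κ') : Good.{u} ι := by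
  intro R _ _ 𝒜 _ p c hp hc hcp
  letI i1 : GradedRing (Gr.coarse φ 𝒜) := Gr.coarseGradedRing φ 𝒜
  letI i2 : GradedRing (Gr.coarse ψ 𝒜) := Gr.coarseGradedRing ψ 𝒜
  -- the intermediate prime
  obtain ⟨q, hq⟩ : ∃ q : Ideal R, q = Ideal.homogeneousCore' (Gr.coarse φ 𝒜) p := ⟨_, rfl⟩
  haveI hqprime : q.IsPrime := by
    rw [hq]
    exact Ideal.IsPrime.homogeneousCore (𝒜 := Gr.coarse φ 𝒜) hp
  have hcq : c = Ideal.homogeneousCore' (Gr.coarse ψ 𝒜) q := by
    rw [hcp, hq, Gr.core_coarse_core φ ψ 𝒜 hinj p]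
  obtain ⟨d₁, hqle, hZ1, hZ2, hZ3⟩ := stepZ (Gr.coarse φ 𝒜) p q hq
  obtain ⟨d₂, hcq', hI1, hI2, hI3⟩ := hκ R (Gr.coarse ψ 𝒜) q c hcq
  refine ⟨d₂ + d₁, hcq'.trans hqle, ?_, ?_, ?_⟩
  · intro a ha hac
    have h1 := hZ1 a (Gr.isHomogeneous_coarse φ 𝒜 ha) (hac.trans hcq')
    have h2 := hI1 a (Gr.isHomogeneous_coarse ψ 𝒜 ha) hac
    calc relHt a p _ ≤ relHt a q (hac.trans hcq') + d₁ := h1
      _ ≤ relHt a c hac + d₂ + d₁ := add_le_add_left h2 _
      _ = relHt a c hac + ((d₂ + d₁ : ℕ) : ℕ∞) := by rw [Nat.cast_add, add_assoc]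
  · by_cases hqp : q = p
    · subst hqp
      have hd1 : d₁ = 0 := by
        have := hZ2
        rw [relHt_self] at this
        exact_mod_cast nonpos_iff_eq_zero.mp this
      rw [hd1, add_zero]
      exact hI2
    · have hlt : q < p := lt_of_le_of_ne hqle hqp
      have h1 := relHt_add_one_le c hcq' hlt
      have hd1 : d₁ ≤ 1 := by
        have := hZ2.trans (relHt_core_le_one (Gr.coarse φ 𝒜) p q
          (hq ▸ Gr.core_isHomogeneous (Gr.coarse φ 𝒜) p) hqle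
          (fun s hs hsp => hq ▸ mem_coreI_of_homogeneous (Gr.coarse φ 𝒜) hs hsp))
        exact_mod_cast this
      calc ((d₂ + d₁ : ℕ) : ℕ∞) ≤ (d₂ : ℕ∞) + 1 := by
            rw [Nat.cast_add]; exact add_le_add_right (by exact_mod_cast hd1) _
        _ ≤ relHt c q hcq' + 1 := add_le_add_left hI2 _
        _ ≤ relHt c p _ := h1
  · intro M _ _ ℳ _ _
    letI j1 : DirectSum.Decomposition (Gr.coarse φ ℳ) := Gr.coarseDecomposition φ ℳ
    letI j2 : DirectSum.Decomposition (Gr.coarse ψ ℳ) := Gr.coarseDecomposition ψ ℳ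
    haveI k1 : SetLike.GradedSMul (Gr.coarse φ 𝒜) (Gr.coarse φ ℳ) := Gr.coarse_gradedSMul φ 𝒜 ℳ
    haveI k2 : SetLike.GradedSMul (Gr.coarse ψ 𝒜) (Gr.coarse ψ ℳ) := Gr.coarse_gradedSMul ψ 𝒜 ℳ
    obtain ⟨hZa, hZb⟩ := hZ3 M (Gr.coarse φ ℳ)
    obtain ⟨hIa, hIb⟩ := hI3 M (Gr.coarse ψ ℳ)
    refine ⟨fun i hi => ?_, fun i => ?_⟩
    · by_cases hi1 : i < d₁
      · exact hZa i hi1
      · obtain ⟨j, rfl⟩ : ∃ j, i = j + d₁ := ⟨i - d₁, by omega⟩
        rw [hZb j]
        exact hIa j (by omega)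
    · rw [← add_assoc, hZb (i + d₂), hIb i]


theorem good_of_finrank : ∀ (r : ℕ) (ι : Type) [AddCommGroup ι] [DecidableEq ι] [Module.Free ℤ ι]
    [Module.Finite ℤ ι], Module.finrank ℤ ι = r → Good.{u} ι := by
  intro r
  induction r with
  | zero =>
    intro ι _ _ _ _ hr
    haveI : Subsingleton ι := Module.finrank_zero_iff.mp hr
    exact good_of_subsingleton ι
  | succ r ih =>
    intro ι _ _ _ _ hr
    obtain ⟨φ, ψ, hinj⟩ := exists_splitting ι r hr
    exact good_step ι (Fin r → ℤ) φ ψ hinj (ih (Fin r → ℤ) (by simp))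

theorem good (ι : Type) [AddCommGroup ι] [DecidableEq ι] [Module.Free ℤ ι] [Module.Finite ℤ ι] :
    Good.{u} ι := good_of_finrank _ ι rfl

section Main

variable {ι : Type} [AddCommGroup ι] [DecidableEq ι] [Module.Free ℤ ι] [Module.Finite ℤ ι]
variable {R : Type u} [CommRing R] [IsNoetherianRing R] (𝒜 : ι → AddSubgroup R) [GradedRing 𝒜]
variable (p : Ideal R) [hp : p.IsPrime] [hc : (Ideal.homogeneousCore 𝒜 p).toIdeal.IsPrime]
variable (d : ℕ)
  (hd : (p.map (Ideal.Quotient.mk (Ideal.homogeneousCore 𝒜 p).toIdeal)).height = d)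

include hd in
/-- Bass numbers at a prime and at its homogeneous core -/
theorem bassNum_core (M : Type u) [AddCommGroup M] [Module R M] (ℳ : ι → AddSubgroup M)
    [DirectSum.Decomposition ℳ] [SetLike.GradedSMul 𝒜 ℳ] :
    (∀ i < d, GrLC.bassNum p M i = 0) ∧
      ∀ i, GrLC.bassNum p M (i + d) = GrLC.bassNum (Ideal.homogeneousCore 𝒜 p).toIdeal M i := by
  obtain ⟨d', hcp, h1, h2, h3⟩ := good.{u} ι R 𝒜 p (Ideal.homogeneousCore 𝒜 p).toIdeal rfl
  have h4 := h1 _ (Ideal.homogeneousCore 𝒜 p).isHomogeneous le_rfl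
  rw [relHt_self, zero_add] at h4
  have h5 : relHt _ p hcp = d' := le_antisymm h4 h2
  rw [relHt_eq_height, hd] at h5
  have h6 : d = d' := by exact_mod_cast h5
  subst h6
  exact h3 M ℳ

include hd in
/-- relative heights of a prime and of its homogeneous core -/
theorem relHt_le_core (a : Ideal R) (ha : a.IsHomogeneous 𝒜)
    (hac : a ≤ (Ideal.homogeneousCore 𝒜 p).toIdeal) :
    relHt a p (hac.trans (Ideal.toIdeal_homogeneousCore_le 𝒜 p)) ≤
      relHt a (Ideal.homogeneousCore 𝒜 p).toIdeal hac + d := by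
  obtain ⟨d', hcp, h1, h2, h3⟩ := good.{u} ι R 𝒜 p (Ideal.homogeneousCore 𝒜 p).toIdeal rfl
  have h4 := h1 _ (Ideal.homogeneousCore 𝒜 p).isHomogeneous le_rfl
  rw [relHt_self, zero_add] at h4
  have h5 : relHt _ p hcp = d' := le_antisymm h4 h2
  rw [relHt_eq_height, hd] at h5
  have h6 : d = d' := by exact_mod_cast h5
  subst h6
  exact h1 a ha hac

end Main

end RankInd

end Groth.Agent.H6
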