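import Groth.Agent.Lib.Helper6.RelHtSupp
import Groth.Agent.Lib.Helper6.GrRankInd
import Groth.Agent.Lib.Helper6.GrFree
import Groth.Agent.Lib.Helper6.GrAss

/-! Dimension of `M_p` versus `M_{p*}`. -/

universe u
set_option linter.unusedSectionVars false

namespace Groth.Agent.H6

namespace DimCore

open RelHt

section Ann

variable {ι : Type} [AddCommGroup ι] [DecidableEq ι]
variable {R : Type u} [CommRing R] (𝒜 : ι → AddSubgroup R) [GradedRing 𝒜]
variable {M : Type u} [AddCommGroup M] [Module R M] (ℳ : ι → AddSubgroup M)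
  [DirectSum.Decomposition ℳ] [SetLike.GradedSMul 𝒜 ℳ]

include ℳ in
/-- the annihilator of a finitely generated graded module is homogeneous -/
theorem annihilator_isHomogeneous [Module.Finite R M] :
    (Module.annihilator R M).IsHomogeneous 𝒜 := by
  obtain ⟨κ, _, x, d, hx, hspan⟩ := Gr.exists_homogeneous_generators (R := R) ℳ
  intro h r hr
  rw [Module.mem_annihilator] at hr ⊢
  have hkill : ∀ j, (DirectSum.decompose 𝒜 r h : R) • x j = 0 := by
    intro j
    have h1 : r ∈ (Submodule.span R {x j}).annihilator := by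
      rw [Submodule.mem_annihilator_span_singleton]
      exact hr (x j)
    have h2 := Gr.annihilator_isHomogeneous 𝒜 ℳ (hx j) h h1
    rw [Submodule.mem_annihilator_span_singleton] at h2
    exact h2
  intro m
  have hm : m ∈ Submodule.span R (Set.range x) := by rw [hspan]; exact Submodule.mem_top
  induction hm using Submodule.span_induction with
  | mem y hy =>
    obtain ⟨j, rfl⟩ := hy
    exact hkill j
  | zero => rw [smul_zero]
  | add y z _ _ h1 h2 => rw [smul_add, h1, h2, add_zero]
  | smul c y _ h1 => rw [smul_comm, h1, smul_zero]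

omit [AddCommGroup ι] [DecidableEq ι] in
theorem annihilator_le_of_nontrivial (p : Ideal R) [p.IsPrime]
    (h : Nontrivial (LocalizedModule p.primeCompl M)) : Module.annihilator R M ≤ p := by
  by_contra hcon
  obtain ⟨s, hs, hsp⟩ := Set.not_subset.mp hcon
  rw [← not_subsingleton_iff_nontrivial] at h
  apply h
  refine ⟨fun x y => ?_⟩
  suffices ∀ z : LocalizedModule p.primeCompl M, z = 0 by rw [this x, this y]
  intro z
  induction z using LocalizedModule.induction_on with
  | h m t =>
    have := LocalizedModule.mk_cancel_common_left (⟨s, hsp⟩ : p.primeCompl) t m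
    rw [← this]
    have h1 : (⟨s, hsp⟩ : p.primeCompl) • m = 0 := Module.mem_annihilator.mp hs m
    rw [h1, LocalizedModule.zero_mk]

end Ann

section Main

variable {ι : Type} [AddCommGroup ι] [DecidableEq ι] [Module.Free ℤ ι] [Module.Finite ℤ ι]
variable {R : Type u} [CommRing R] [IsNoetherianRing R] (𝒜 : ι → AddSubgroup R) [GradedRing 𝒜]
variable {M : Type u} [AddCommGroup M] [Module R M] (ℳ : ι → AddSubgroup M)
  [DirectSum.Decomposition ℳ] [SetLike.GradedSMul 𝒜 ℳ] [Module.Finite R M]
variable (p : Ideal R) [hp : p.IsPrime] [hc : (Ideal.homogeneousCore 𝒜 p).toIdeal.IsPrime]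
variable (d : ℕ)
  (hd : (p.map (Ideal.Quotient.mk (Ideal.homogeneousCore 𝒜 p).toIdeal)).height = d)

include ℳ hd in
theorem supportDim_core (hsupp : Nontrivial (LocalizedModule p.primeCompl M)) :
    Module.supportDim (Localization.AtPrime p) (LocalizedModule p.primeCompl M) =
      Module.supportDim (Localization.AtPrime (Ideal.homogeneousCore 𝒜 p).toIdeal)
        (LocalizedModule (Ideal.homogeneousCore 𝒜 p).toIdeal.primeCompl M) + (d : WithBot ℕ∞) := by
  have ha := annihilator_isHomogeneous 𝒜 ℳ
  have hap := annihilator_le_of_nontrivial p hsupp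
  have hac : Module.annihilator R M ≤ (Ideal.homogeneousCore 𝒜 p).toIdeal :=
    Gr.le_core_of_isHomogeneous 𝒜 ha hap
  have hcp : (Ideal.homogeneousCore 𝒜 p).toIdeal ≤ p := Ideal.toIdeal_homogeneousCore_le 𝒜 p
  rw [supportDim_localized_eq_relHt M p hap, supportDim_localized_eq_relHt M _ hac]
  have h1 := RankInd.relHt_le_core 𝒜 p d hd _ ha hac
  have h2 := relHt_add_le _ _ p hac hcp
  rw [relHt_eq_height (Ideal.homogeneousCore 𝒜 p).toIdeal p hcp, hd] at h2
  have h3 : relHt (Module.annihilator R M) p hap =
      relHt (Module.annihilator R M) (Ideal.homogeneousCore 𝒜 p).toIdeal hac + d :=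
    le_antisymm h1 h2
  rw [h3]
  rfl

end Main

end DimCore

end Groth.Agent.H6
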