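import Groth.Agent.Lib.Helper6.GrEssUngr

/-! A non-homogeneous prime `p` of a `ℤ`-graded ring is, modulo its homogeneous core `q` and up to
homogeneous elements outside `q`, generated by one element. -/

universe u
open DirectSum
set_option linter.unusedSectionVars false

namespace Groth.Agent.H6

namespace Gr

variable {R : Type u} [CommRing R] (𝒜 : ℤ → AddSubgroup R) [GradedRing 𝒜]
variable (q p : Ideal R)

/-- the components of `x` outside `[lo, lo + n]` lie in `q` -/
def Wd (x : R) (lo : ℤ) (n : ℕ) : Prop :=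
  ∀ j : ℤ, (j < lo ∨ lo + n < j) → proj 𝒜 j x ∈ q

theorem exists_wd (x : R) : ∃ (lo : ℤ) (n : ℕ), Wd 𝒜 q x lo n := by
  classical
  obtain ⟨T, hT⟩ : ∃ T : Finset ℤ, ∀ j, j ∉ T → proj 𝒜 j x = 0 :=
    ⟨(DirectSum.decompose 𝒜 x).support, fun j hj => proj_eq_zero_of_notMem_support 𝒜 hj⟩
  by_cases hne : T.Nonempty
  · refine ⟨T.min' hne, (T.max' hne - T.min' hne).toNat, ?_⟩
    intro j hj
    have hjT : j ∉ T := by
      intro hjT
      have h1 := T.min'_le j hjT
      have h2 := T.le_max' j hjT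
      have h3 : T.min' hne ≤ T.max' hne := le_trans h1 h2
      rcases hj with hj | hj
      · omega
      · rw [Int.toNat_of_nonneg (by omega)] at hj
        omega
    rw [hT j hjT]
    exact zero_mem _
  · refine ⟨0, 0, fun j _ => ?_⟩
    rw [hT j (fun h => hne ⟨j, h⟩)]
    exact zero_mem _

variable {q}

theorem mem_of_forall_proj_mem {x : R} (h : ∀ j, proj 𝒜 j x ∈ q) : x ∈ q := by
  obtain ⟨T, hT⟩ := exists_finset_sum_proj 𝒜 x
  rw [← hT]
  exact Ideal.sum_mem _ fun j _ => h j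

variable (hq : q.IsHomogeneous 𝒜) (hqp : q ≤ p)
  (hhom : ∀ x : R, (∃ d, x ∈ 𝒜 d) → x ∈ p → x ∈ q)

include hq hqp hhom in
theorem mem_of_wd_zero {x : R} (hx : x ∈ p) {lo : ℤ} (hw : Wd 𝒜 q x lo 0) : x ∈ q := by
  have h1 : x - proj 𝒜 lo x ∈ q := by
    apply mem_of_forall_proj_mem 𝒜
    intro j
    rw [map_sub]
    by_cases hj : j = lo
    · subst hj
      rw [proj_proj_same, sub_self]
      exact zero_mem _
    · rw [proj_proj_ne 𝒜 (Ne.symm hj), sub_zero]
      apply hw j
      rcases lt_or_gt_of_ne hj with h | h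
      · exact Or.inl h
      · right; simpa using h
  have h2 : proj 𝒜 lo x ∈ p := by
    have := p.sub_mem hx (hqp h1)
    rwa [sub_sub_cancel] at this
  have h3 : proj 𝒜 lo x ∈ q := hhom _ ⟨lo, proj_mem 𝒜 lo x⟩ h2
  have := q.add_mem h1 h3
  rwa [sub_add_cancel] at this

include hq hqp hhom in
/-- **the key generation statement** -/
theorem exists_generator [hqprime : q.IsPrime] (hne : ∃ x ∈ p, x ∉ q) :
    ∃ a ∈ p, a ∉ q ∧ ∀ x ∈ p, ∃ s, (∃ d, s ∈ 𝒜 d) ∧ s ∉ q ∧ ∃ y, s * x - y * a ∈ q := by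
  classical
  have hex : ∃ n : ℕ, ∃ a ∈ p, a ∉ q ∧ ∃ lo, Wd 𝒜 q a lo n := by
    obtain ⟨x, hxp, hxq⟩ := hne
    obtain ⟨lo, n, hw⟩ := exists_wd 𝒜 q x
    exact ⟨n, x, hxp, hxq, lo, hw⟩
  obtain ⟨a, hap, haq, loa, hwa⟩ := Nat.find_spec hex
  have hmin : ∀ n, (∃ a ∈ p, a ∉ q ∧ ∃ lo, Wd 𝒜 q a lo n) → Nat.find hex ≤ n :=
    fun n h => Nat.find_min' hex h
  set n₀ := Nat.find hex with hn₀
  have hn₀pos : 1 ≤ n₀ := by
    by_contra h
    have h0 : n₀ = 0 := by omega
    rw [h0] at hwa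
    exact haq (mem_of_wd_zero 𝒜 p hq hqp hhom hap hwa)
  set α : ℤ := loa + n₀ with hα
  have hatop : proj 𝒜 α a ∉ q := by
    intro h
    have : Wd 𝒜 q a loa (n₀ - 1) := by
      intro j hj
      by_cases hjα : j = α
      · rw [hjα]; exact h
      · apply hwa j
        rcases hj with hj | hj
        · exact Or.inl hj
        · right
          have : ((n₀ - 1 : ℕ) : ℤ) = (n₀ : ℤ) - 1 := by omega
          omega
    have := hmin (n₀ - 1) ⟨a, hap, haq, loa, this⟩
    omega
  refine ⟨a, hap, haq, ?_⟩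
  -- the induction
  have key : ∀ n : ℕ, ∀ x ∈ p, ∀ lo, Wd 𝒜 q x lo n →
      ∃ s, (∃ d, s ∈ 𝒜 d) ∧ s ∉ q ∧ ∃ y, s * x - y * a ∈ q := by
    intro n
    induction n with
    | zero =>
      intro x hx lo hw
      refine ⟨1, ⟨0, SetLike.GradedOne.one_mem⟩,
        fun h => hqprime.ne_top ((Ideal.eq_top_iff_one q).mpr h), 0, ?_⟩
      rw [one_mul, zero_mul, sub_zero]
      exact mem_of_wd_zero 𝒜 p hq hqp hhom hx hw
    | succ n ih =>
      intro x hx lo hw
      by_cases hxq : x ∈ q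
      · refine ⟨1, ⟨0, SetLike.GradedOne.one_mem⟩,
          fun h => hqprime.ne_top ((Ideal.eq_top_iff_one q).mpr h), 0, ?_⟩
        rw [one_mul, zero_mul, sub_zero]
        exact hxq
      · have hn : n₀ ≤ n + 1 := hmin (n + 1) ⟨x, hx, hxq, lo, hw⟩
        set ξ : ℤ := lo + (n + 1 : ℕ) with hξ
        set x' := proj 𝒜 α a * x - proj 𝒜 ξ x * a with hx'
        have hx'p : x' ∈ p :=
          p.sub_mem (p.mul_mem_left _ hx) (p.mul_mem_left _ hap)
        have hcomp : ∀ j, proj 𝒜 j x' =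
            proj 𝒜 α a * proj 𝒜 (j - α) x - proj 𝒜 ξ x * proj 𝒜 (j - ξ) a := by
          intro j
          rw [hx', map_sub]
          have h1 := proj_smul_of_mem' 𝒜 𝒜 (proj_mem 𝒜 α a) j x
          have h2 := proj_smul_of_mem' 𝒜 𝒜 (proj_mem 𝒜 ξ x) j a
          rw [smul_eq_mul, smul_eq_mul] at h1 h2
          rw [h1, h2]
        have hw' : Wd 𝒜 q x' (α + lo) n := by
          intro j hj
          rw [hcomp j]
          rcases hj with hj | hj
          · refine q.sub_mem (q.mul_mem_left _ (hw _ (Or.inl (by omega))))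
              (q.mul_mem_left _ (hwa _ (Or.inl ?_)))
            have : ((n + 1 : ℕ) : ℤ) = (n : ℤ) + 1 := by omega
            omega
          · by_cases hjt : j = α + ξ
            · have e1 : j - α = ξ := by omega
              have e2 : j - ξ = α := by omega
              rw [e1, e2, mul_comm, sub_self]
              exact zero_mem _
            · have : ((n + 1 : ℕ) : ℤ) = (n : ℤ) + 1 := by omega
              refine q.sub_mem (q.mul_mem_left _ (hw _ (Or.inr (by omega))))
                (q.mul_mem_left _ (hwa _ (Or.inr (by omega))))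
        obtain ⟨s', ⟨d', hd'⟩, hs', y', hy'⟩ := ih x' hx'p (α + lo) hw'
        refine ⟨s' * proj 𝒜 α a, ⟨d' + α, SetLike.GradedMul.mul_mem hd' (proj_mem 𝒜 α a)⟩, ?_,
          s' * proj 𝒜 ξ x + y', ?_⟩
        · intro h
          rcases hqprime.mem_or_mem h with h | h
          · exact hs' h
          · exact hatop h
        · have : s' * proj 𝒜 α a * x - (s' * proj 𝒜 ξ x + y') * a = s' * x' - y' * a := by
            rw [hx']; ring
          rw [this]
          exact hy'
  intro x hx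
  obtain ⟨lo, n, hw⟩ := exists_wd 𝒜 q x
  exact key n x hx lo hw

end Gr

end Groth.Agent.H6
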