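import Groth.Agent.Lib.Helper6.RelHt
import Groth.Agent.Lib.Helper6.GrWidth

/-! `ℤ`-graded rings: a non-homogeneous prime has height one over its core. -/

universe u
set_option linter.unusedSectionVars false

namespace Groth.Agent.H6

namespace RelHt

variable {R : Type u} [CommRing R] [IsNoetherianRing R] (𝒜 : ℤ → AddSubgroup R) [GradedRing 𝒜]

/-- data describing a prime and its core for a `ℤ`-grading -/
theorem relHt_core_le_one (P q : Ideal R) [hP : P.IsPrime] [hq : q.IsPrime]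
    (hqh : q.IsHomogeneous 𝒜) (hqP : q ≤ P)
    (hhom : ∀ s : R, (∃ d, s ∈ 𝒜 d) → s ∈ P → s ∈ q) : relHt q P hqP ≤ 1 := by
  by_cases hne : ∃ x ∈ P, x ∉ q
  · obtain ⟨a, haP, haq, hgen⟩ := Gr.exists_generator 𝒜 P hqh hqP hhom hne
    rw [relHt_eq_height]
    haveI hP' : (P.map (Ideal.Quotient.mk q)).IsPrime :=
      Ideal.map_isPrime_of_surjective Ideal.Quotient.mk_surjective (by rwa [Ideal.mk_ker])
    apply Ideal.height_le_one_of_isPrincipal_of_mem_minimalPrimes
      (Ideal.span {Ideal.Quotient.mk q a})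
    refine ⟨⟨hP', ?_⟩, ?_⟩
    · rw [Ideal.span_le, Set.singleton_subset_iff]
      exact Ideal.mem_map_of_mem _ haP
    · rintro Q' ⟨hQ'prime, hQ'a⟩ hQ'P
      rw [Ideal.span_le, Set.singleton_subset_iff] at hQ'a
      rw [Ideal.map_le_iff_le_comap]
      intro x hx
      obtain ⟨s, hs, hsq, y, hy⟩ := hgen x hx
      rw [Ideal.mem_comap]
      have h1 : Ideal.Quotient.mk q s * Ideal.Quotient.mk q x =
          Ideal.Quotient.mk q y * Ideal.Quotient.mk q a := by
        rw [← map_mul, ← map_mul, Ideal.Quotient.eq]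
        exact hy
      have h2 : Ideal.Quotient.mk q s * Ideal.Quotient.mk q x ∈ Q' := by
        rw [h1]
        exact Q'.mul_mem_left _ hQ'a
      rcases hQ'prime.mem_or_mem h2 with h3 | h3
      · exfalso
        have h4 : Ideal.Quotient.mk q s ∈ P.map (Ideal.Quotient.mk q) := hQ'P h3
        have h5 : s ∈ P := by
          have := Ideal.mem_comap.mpr h4
          rwa [Ideal.comap_map_of_surjective _ Ideal.Quotient.mk_surjective,
            ← RingHom.ker_eq_comap_bot, Ideal.mk_ker, sup_eq_left.mpr hqP] at this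
        exact hsq (hhom s hs h5)
      · exact h3
  · push Not at hne
    have : q = P := le_antisymm hqP hne
    subst this
    rw [relHt_self]
    exact bot_le

section Core

/-- the core of a prime, as an ideal -/
abbrev coreI (P : Ideal R) : Ideal R := (Ideal.homogeneousCore 𝒜 P).toIdeal

instance (P : Ideal R) [hP : P.IsPrime] : (coreI 𝒜 P).IsPrime := Ideal.IsPrime.homogeneousCore hP

omit [IsNoetherianRing R] in
theorem le_coreI {a P : Ideal R} (ha : a.IsHomogeneous 𝒜) (haP : a ≤ P) : a ≤ coreI 𝒜 P := by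
  have h1 : (Ideal.homogeneousCore 𝒜 a).toIdeal = a := ha.toIdeal_homogeneousCore_eq_self
  rw [← h1]
  exact Ideal.homogeneousCore_mono 𝒜 haP

omit [IsNoetherianRing R] in
theorem coreI_le (P : Ideal R) : coreI 𝒜 P ≤ P := Ideal.toIdeal_homogeneousCore_le 𝒜 P

omit [IsNoetherianRing R] in
theorem coreI_isHomogeneous (P : Ideal R) : (coreI 𝒜 P).IsHomogeneous 𝒜 :=
  (Ideal.homogeneousCore 𝒜 P).isHomogeneous

omit [IsNoetherianRing R] in
theorem mem_coreI_of_homogeneous {P : Ideal R} {s : R} (hs : ∃ d, s ∈ 𝒜 d) (hsP : s ∈ P) :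
    s ∈ coreI 𝒜 P := by
  obtain ⟨d, hd⟩ := hs
  exact Ideal.mem_homogeneousCore_of_homogeneous_of_mem ⟨d, hd⟩ hsP

theorem relHt_coreI_le_one (P : Ideal R) [hP : P.IsPrime] :
    relHt (coreI 𝒜 P) P (coreI_le 𝒜 P) ≤ 1 :=
  relHt_core_le_one 𝒜 P (coreI 𝒜 P) (coreI_isHomogeneous 𝒜 P) (coreI_le 𝒜 P)
    (fun s hs hsP => mem_coreI_of_homogeneous 𝒜 hs hsP)

theorem relHt_le_succ_aux (a : Ideal R) (ha : a.IsHomogeneous 𝒜) :
    ∀ (n : ℕ) (P : Ideal R) [P.IsPrime] (haP : a ≤ P),
      relHt a (coreI 𝒜 P) (le_coreI 𝒜 ha haP) ≤ n → relHt a P haP ≤ (n + 1 : ℕ) := by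
  intro n
  induction n using Nat.strong_induction_on with
  | _ n ih =>
    intro P hP haP hn
    rw [relHt_le_iff]
    intro Q hQ haQ hQP
    rw [Nat.cast_add, Nat.cast_one, ENat.lt_add_one_iff (ENat.natCast_ne_top n)]
    have hcore_le : coreI 𝒜 Q ≤ coreI 𝒜 P := Ideal.homogeneousCore_mono 𝒜 hQP.le
    by_cases hQh : Q.IsHomogeneous 𝒜
    · have hQle : Q ≤ coreI 𝒜 P := le_coreI 𝒜 hQh hQP.le
      exact (relHt_mono a haQ hQle).trans hn
    · have hne : coreI 𝒜 Q ≠ coreI 𝒜 P := by
        intro heq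
        have h1 : coreI 𝒜 P < Q := by
          refine lt_of_le_of_ne (heq ▸ coreI_le 𝒜 Q) ?_
          intro h2
          apply hQh
          rw [← h2]
          exact coreI_isHomogeneous 𝒜 P
        have h3 := relHt_add_one_le (coreI 𝒜 P) le_rfl h1
        have h4 := relHt_add_one_le (coreI 𝒜 P) h1.le hQP
        have h5 := relHt_coreI_le_one 𝒜 P
        rw [relHt_self, zero_add] at h3
        have h6 : (1 : ℕ∞) + 1 ≤ 1 := (add_le_add_left h3 1).trans (h4.trans h5)
        exact absurd h6 (by decide)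
      have hlt : coreI 𝒜 Q < coreI 𝒜 P := lt_of_le_of_ne hcore_le hne
      have h7 := (relHt_add_one_le a (le_coreI 𝒜 ha haQ) hlt).trans hn
      cases n with
      | zero =>
        exfalso
        have : (1 : ℕ∞) ≤ 0 := le_trans le_add_self h7
        exact absurd this (by decide)
      | succ m =>
        rw [Nat.cast_add, Nat.cast_one] at h7
        have h8 : relHt a (coreI 𝒜 Q) (le_coreI 𝒜 ha haQ) ≤ m :=
          (ENat.add_le_add_iff_right ENat.one_ne_top).mp h7
        exact ih m (Nat.lt_succ_self m) Q haQ h8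

/-- **the height of a prime exceeds that of its core by at most one** (relative version) -/
theorem relHt_le_coreI_add_one (a : Ideal R) (ha : a.IsHomogeneous 𝒜) (P : Ideal R) [P.IsPrime]
    (haP : a ≤ P) : relHt a P haP ≤ relHt a (coreI 𝒜 P) (le_coreI 𝒜 ha haP) + 1 := by
  have hfin := relHt_lt_top a (coreI 𝒜 P) (le_coreI 𝒜 ha haP)
  obtain ⟨n, hn⟩ := ENat.ne_top_iff_exists.mp hfin.ne
  have := relHt_le_succ_aux 𝒜 a ha n P haP (le_of_eq hn.symm)
  rw [← hn]
  exact_mod_cast this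

end Core

end RelHt

end Groth.Agent.H6
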