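import Mathlib

/-!
# Gluing the relative spectrum of a family of subrings of `p_* O_{T'}` (helper6)

Generalisation of Mathlib's construction of the relative normalization: for a qcqs morphism
`p : T' ⟶ Y` and a family of subrings `C U ⊆ Γ(T', p⁻¹ U)` containing the image of `Γ(Y, U)`,
stable under restriction and compatible with localisation on affine opens, we glue the affine
schemes `Spec (C U)` to a scheme `T` affine over `Y`, together with `T' ⟶ T`.
-/

set_option autoImplicit false
set_option linter.style.haveILetI false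
open CategoryTheory AlgebraicGeometry CategoryTheory.Limits

noncomputable section

namespace Groth.Agent.H6.FZ

universe u

open AlgebraicGeometry.Scheme AlgebraicGeometry.Scheme.AffineZariskiSite

variable {T' Y : Scheme.{u}} (p : T' ⟶ Y)

/-- A family of subrings of the sections of `p_* O_{T'}`, containing the image of `O_Y` and
stable under restriction. -/
structure SubFam where
  /-- the subring over each open -/
  C : ∀ U : Y.Opens, Subring Γ(T', p ⁻¹ᵁ U)
  range_le : ∀ (U : Y.Opens) (a : Γ(Y, U)), (p.app U).hom a ∈ C U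
  map_mem : ∀ {U V : Y.Opens} (h : V ≤ U) (x : Γ(T', p ⁻¹ᵁ U)), x ∈ C U →
    (T'.presheaf.map (homOfLE (p.preimage_mono h)).op).hom x ∈ C V

variable {p} (𝒞 : SubFam p)

namespace SubFam

/-- the presheaf of rings `U ↦ C U`. -/
def diagram : Y.Opensᵒᵖ ⥤ CommRingCat where
  obj U := .of (𝒞.C U.unop)
  map {V U} i :=
    CommRingCat.ofHom ((T'.presheaf.map (homOfLE (p.preimage_mono i.unop.le)).op).hom.restrict
      _ _ fun x hx ↦ 𝒞.map_mem i.unop.le x hx)
  map_id U := by simp; rfl
  map_comp i j := by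
    simp only [← CommRingCat.ofHom_comp]
    rw [← homOfLE_comp (p.preimage_mono j.unop.le) (p.preimage_mono i.unop.le), op_comp]
    simp_rw [T'.presheaf.map_comp]
    rfl

/-- the structure map `O_Y ⟶ C`. -/
def diagramMap : Y.presheaf ⟶ 𝒞.diagram where
  app U := CommRingCat.ofHom ((p.app U.unop).hom.codRestrict (𝒞.C U.unop) (𝒞.range_le U.unop))
  naturality {U V} i := by ext x; exact Subtype.ext congr($(p.naturality i) x)

/-- compatibility with localisation over affine opens. -/
def IsQC : Prop :=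
  ((toOpensFunctor Y).op.whiskerLeft 𝒞.diagramMap).Coequifibered

variable {𝒞}

theorem isQC_iff : 𝒞.IsQC ↔ ∀ (U : Y.AffineZariskiSite) (r : Γ(Y, U.1)),
    letI := (𝒞.diagram.map (homOfLE (Y.basicOpen_le r)).op).hom.toAlgebra
    IsLocalization.Away (𝒞.diagramMap.app (.op U.1) r) (𝒞.diagram.obj (.op (Y.basicOpen r))) :=
  coequifibered_iff_forall_isLocalizationAway

variable (h𝒞 : 𝒞.IsQC)

/-- the gluing datum. -/
def glueData : (directedCover Y).RelativeGluingData := relativeGluingData h𝒞

instance : ((glueData h𝒞).functor ⋙ Scheme.forget).IsLocallyDirected :=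
  Cover.RelativeGluingData.instIsLocallyDirectedI₀CompFunctorForgetOfIsThin ..

/-- the relative spectrum of the family. -/
def spec : Scheme.{u} := (glueData h𝒞).glued

/-- the cover of `spec` by the `Spec (C U)`. -/
def cover : (spec h𝒞).OpenCover := (glueData h𝒞).cover

/-- the structure morphism. -/
def π : spec h𝒞 ⟶ Y := (glueData h𝒞).toBase

@[reassoc]
lemma ι_π (U : Y.affineOpens) :
    (cover h𝒞).f U ≫ π h𝒞 = Spec.map (𝒞.diagramMap.app (.op U.1)) ≫ U.2.fromSpec :=
  colimit.ι_desc _ _

set_option backward.isDefEq.respectTransparency.types false in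
lemma π_preimage (U : Y.affineOpens) :
    π h𝒞 ⁻¹ᵁ U = ((cover h𝒞).f U).opensRange := by
  simpa using! (glueData h𝒞).toBase_preimage_eq_opensRange_ι U

set_option backward.defeqAttrib.useBackward true in
set_option backward.isDefEq.respectTransparency false in
/-- The morphism into the relative spectrum. -/
def toSpec : T' ⟶ spec h𝒞 :=
  Scheme.OpenCover.glueMorphismsOfLocallyDirected
    ((directedCover Y).pullback₁ p)
    (fun U ↦
      (pullbackRestrictIsoRestrict p _).hom ≫
      (p ⁻¹ᵁ U.1).toSpecΓ ≫ Spec.map (CommRingCat.ofHom (𝒞.C U.1).subtype) ≫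
        (cover h𝒞).f U) fun {U V : Y.AffineZariskiSite} i ↦ by
  have : (pullbackRestrictIsoRestrict p U.1).inv ≫
      Cover.trans ((directedCover Y).pullback₁ p) i ≫
      (pullbackRestrictIsoRestrict p V.1).hom = T'.homOfLE
        (p.preimage_mono (toOpens_mono i.1.1)) := by
    rw [← cancel_mono (Scheme.Opens.ι _)]
    simp +instances [Cover.trans, Cover.locallyDirectedPullbackCover]
  rw [← Iso.inv_comp_eq, reassoc_of% this, ← Scheme.Opens.toSpecΓ_SpecMap_presheaf_map_assoc,
    ← Spec.map_comp_assoc]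
  dsimp [cover]
  rw [← colimit.w (glueData h𝒞).functor i]
  dsimp [glueData, relativeGluingData]
  rw [← Spec.map_comp_assoc]
  rfl

set_option backward.isDefEq.respectTransparency.types false in
set_option backward.defeqAttrib.useBackward true in
@[reassoc]
lemma ι_toSpec (U : Y.affineOpens) :
    (p ⁻¹ᵁ U.1).ι ≫ toSpec h𝒞 = (p ⁻¹ᵁ U.1).toSpecΓ ≫
      Spec.map (CommRingCat.ofHom (𝒞.C U.1).subtype) ≫ (cover h𝒞).f U := by
  rw [← cancel_epi (pullbackRestrictIsoRestrict p U.1).hom, ← Category.assoc]
  trans ((directedCover Y).pullback₁ p).f U ≫ toSpec h𝒞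
  · congr 1; simp
  delta toSpec
  generalize_proofs _ _ _ _ H
  exact Scheme.OpenCover.map_glueMorphismsOfLocallyDirected _ _ H _

set_option backward.isDefEq.respectTransparency false in
@[reassoc (attr := simp)]
lemma toSpec_π : toSpec h𝒞 ≫ π h𝒞 = p := by
  refine Scheme.Cover.hom_ext (T'.openCoverOfIsOpenCover _
    (.comap (iSup_affineOpens_eq_top Y) p.base.1)) _ _ fun U ↦ ?_
  refine (ι_toSpec_assoc h𝒞 _ _).trans ?_
  rw [ι_π, ← Spec.map_comp_assoc]
  change (p ⁻¹ᵁ U.1).toSpecΓ ≫ Spec.map (p.app _) ≫ U.2.fromSpec = (p ⁻¹ᵁ U.1).ι ≫ _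
  simp

set_option backward.isDefEq.respectTransparency false in
theorem isFinite_π (hfin : ∀ U : Y.affineOpens, (𝒞.diagramMap.app (.op U.1)).hom.Finite) :
    IsFinite (π h𝒞) := by
  rw [IsZariskiLocalAtTarget.iff_of_iSup_eq_top (P := @IsFinite) _
    (iSup_affineOpens_eq_top _)]
  intro U
  let e := IsOpenImmersion.isoOfRangeEq (π h𝒞 ⁻¹ᵁ U).ι ((cover h𝒞).f U)
      (by simpa using congr($(π_preimage h𝒞 U).1))
  rw [← MorphismProperty.cancel_left_of_respectsIso @IsFinite e.inv,
    ← MorphismProperty.cancel_right_of_respectsIso @IsFinite _ U.2.isoSpec.hom]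
  convert! (IsFinite.SpecMap_iff _).mpr (hfin U)
  rw [← cancel_mono U.2.fromSpec]
  simp [IsAffineOpen.isoSpec_hom, e, ι_π]

end SubFam

end Groth.Agent.H6.FZ
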