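import Mathlib
import Groth.Agent.Lib.Helper6.FZ2

/-!
# Local analysis of `toSpec` on basic opens (helper6)
-/

set_option autoImplicit false
set_option linter.style.haveILetI false
open CategoryTheory AlgebraicGeometry CategoryTheory.Limits

noncomputable section

namespace Groth.Agent.H6.FZ

universe u

open AlgebraicGeometry.Scheme AlgebraicGeometry.Scheme.AffineZariskiSite

variable {T' Y : Scheme.{u}} {p : T' ⟶ Y} [IsAffineHom p] {𝒞 : SubFam p} (h𝒞 : 𝒞.IsQC)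

namespace SubFam

/-- the chart `Spec (C U) ⟶ spec`. -/
def chart (U : Y.affineOpens) : Spec (CommRingCat.of (𝒞.C U.1)) ⟶ spec h𝒞 := (cover h𝒞).f U

instance (U : Y.affineOpens) : IsOpenImmersion (chart h𝒞 U) :=
  inferInstanceAs (IsOpenImmersion ((cover h𝒞).f U))

lemma chart_π (U : Y.affineOpens) :
    chart h𝒞 U ≫ π h𝒞 = Spec.map (𝒞.diagramMap.app (.op U.1)) ≫ U.2.fromSpec := ι_π h𝒞 U

lemma fromSpec_toSpec (U : Y.affineOpens) :
    (U.2.preimage p).fromSpec ≫ toSpec h𝒞 =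
      Spec.map (CommRingCat.ofHom (𝒞.C U.1).subtype) ≫ chart h𝒞 U := by
  rw [← IsAffineOpen.isoSpec_inv_ι, Category.assoc, ι_toSpec, ← Category.assoc, ← Category.assoc,
    IsAffineOpen.isoSpec_inv_toSpecΓ, Category.id_comp]
  rfl

/-- `toSpec x` lies in the basic open `D(b) ⊆ Spec (C U)` iff `x ∈ D(b)`. -/
lemma toSpec_mem_iff (U : Y.affineOpens) (b : Γ(T', p ⁻¹ᵁ U.1)) (hb : b ∈ 𝒞.C U.1) (x : T') :
    (∃ q : Spec (CommRingCat.of (𝒞.C U.1)), q ∈ PrimeSpectrum.basicOpen (⟨b, hb⟩ : 𝒞.C U.1) ∧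
        chart h𝒞 U q = toSpec h𝒞 x) ↔ x ∈ T'.basicOpen b := by
  have hV : IsAffineOpen (p ⁻¹ᵁ U.1) := U.2.preimage p
  have hinj : Function.Injective (chart h𝒞 U) :=
    (chart h𝒞 U).isOpenEmbedding.injective
  have key : ∀ q : Spec Γ(T', p ⁻¹ᵁ U.1),
      ((∃ q' : Spec (CommRingCat.of (𝒞.C U.1)),
          q' ∈ PrimeSpectrum.basicOpen (⟨b, hb⟩ : 𝒞.C U.1) ∧
          chart h𝒞 U q' = toSpec h𝒞 (hV.fromSpec q)) ↔
      hV.fromSpec q ∈ T'.basicOpen b) := by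
    intro q
    have h1 : toSpec h𝒞 (hV.fromSpec q) =
        chart h𝒞 U (Spec.map (CommRingCat.ofHom (𝒞.C U.1).subtype) q) := by
      rw [← Scheme.Hom.comp_apply, fromSpec_toSpec, Scheme.Hom.comp_apply]
    have h2 : hV.fromSpec q ∈ T'.basicOpen b ↔ q ∈ PrimeSpectrum.basicOpen b := by
      rw [← hV.fromSpec_preimage_basicOpen b]
      rfl
    rw [h1, h2]
    constructor
    · rintro ⟨q', hq', e⟩
      obtain rfl := hinj e
      exact hq'
    · intro hq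
      exact ⟨_, hq, rfl⟩
  constructor
  · intro hx
    have hxU : x ∈ p ⁻¹ᵁ U.1 := by
      obtain ⟨y, -, hy⟩ := hx
      have h3 : π h𝒞 (toSpec h𝒞 x) ∈ U.1 := by
        rw [← hy, ← Scheme.Hom.comp_apply, chart_π]
        exact U.2.opensRange_fromSpec.le ⟨_, rfl⟩
      rw [← Scheme.Hom.comp_apply, toSpec_π] at h3
      exact h3
    obtain ⟨q, rfl⟩ : ∃ q, hV.fromSpec q = x := by
      have : x ∈ Set.range hV.fromSpec := by rw [hV.range_fromSpec]; exact hxU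
      exact this
    exact (key q).mp hx
  · intro hx
    have hxU : x ∈ p ⁻¹ᵁ U.1 := T'.basicOpen_le b hx
    obtain ⟨q, rfl⟩ : ∃ q, hV.fromSpec q = x := by
      have : x ∈ Set.range hV.fromSpec := by rw [hV.range_fromSpec]; exact hxU
      exact this
    exact (key q).mpr hx

set_option backward.isDefEq.respectTransparency false in
/-- If `Γ(T', D(b)) = (C U)[1/b]`, then `toSpec` restricted to `D(b)` is an open immersion. -/
lemma isOpenImmersion_basicOpen_ι_toSpec (U : Y.affineOpens) (b : Γ(T', p ⁻¹ᵁ U.1))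
    (hb : b ∈ 𝒞.C U.1)
    (hloc : letI := ((T'.presheaf.map (homOfLE (T'.basicOpen_le b)).op).hom.comp
        (𝒞.C U.1).subtype).toAlgebra
      IsLocalization.Away (⟨b, hb⟩ : 𝒞.C U.1) Γ(T', T'.basicOpen b)) :
    IsOpenImmersion ((T'.basicOpen b).ι ≫ toSpec h𝒞) := by
  have hV : IsAffineOpen (p ⁻¹ᵁ U.1) := U.2.preimage p
  have hD : IsAffineOpen (T'.basicOpen b) := hV.basicOpen b
  letI alg : Algebra (𝒞.C U.1) Γ(T', T'.basicOpen b) :=
    ((T'.presheaf.map (homOfLE (T'.basicOpen_le b)).op).hom.comp (𝒞.C U.1).subtype).toAlgebra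
  haveI : IsLocalization.Away (⟨b, hb⟩ : 𝒞.C U.1) Γ(T', T'.basicOpen b) := hloc
  have h1 : (T'.basicOpen b).ι ≫ toSpec h𝒞 =
      (T'.basicOpen b).toSpecΓ ≫
        Spec.map (CommRingCat.ofHom (algebraMap (𝒞.C U.1) Γ(T', T'.basicOpen b))) ≫
          chart h𝒞 U := by
    have h2 : (T'.basicOpen b).ι = T'.homOfLE (T'.basicOpen_le b) ≫ (p ⁻¹ᵁ U.1).ι := by simp
    rw [h2, Category.assoc, ι_toSpec, ← Scheme.Opens.toSpecΓ_SpecMap_presheaf_map_assoc,
      ← Spec.map_comp_assoc]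
    rfl
  rw [h1]
  haveI : IsIso (T'.basicOpen b).toSpecΓ := by
    rw [← IsAffineOpen.isoSpec_hom hD]; infer_instance
  haveI : IsOpenImmersion
      (Spec.map (CommRingCat.ofHom (algebraMap (𝒞.C U.1) Γ(T', T'.basicOpen b)))) :=
    IsOpenImmersion.of_isLocalization (⟨b, hb⟩ : 𝒞.C U.1)
  infer_instance

/-- **Criterion**: if the image of the open immersion `j : X ⟶ T'` is covered by basic opens
`D(b_i)`, `b_i ∈ C (U_i)`, with `Γ(T', D(b_i)) = (C U_i)[1/b_i]`, then `j ≫ toSpec` is an open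
immersion. -/
theorem isOpenImmersion_comp_toSpec {X : Scheme.{u}} (j : X ⟶ T') [IsOpenImmersion j]
    {ι : Type*} (U : ι → Y.affineOpens) (b : ∀ i, Γ(T', p ⁻¹ᵁ (U i).1))
    (hb : ∀ i, b i ∈ 𝒞.C (U i).1)
    (hloc : ∀ i, letI := ((T'.presheaf.map (homOfLE (T'.basicOpen_le (b i))).op).hom.comp
        (𝒞.C (U i).1).subtype).toAlgebra
      IsLocalization.Away (⟨b i, hb i⟩ : 𝒞.C (U i).1) Γ(T', T'.basicOpen (b i)))
    (hcov : ∀ x : X, ∃ i, j x ∈ T'.basicOpen (b i)) :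
    IsOpenImmersion (j ≫ toSpec h𝒞) := by
  have hoi : ∀ i, IsOpenImmersion ((T'.basicOpen (b i)).ι ≫ toSpec h𝒞) := fun i =>
    isOpenImmersion_basicOpen_ι_toSpec h𝒞 (U i) (b i) (hb i) (hloc i)
  refine IsOpenImmersion.of_forall_source_exists _ ?_ ?_
  · intro x x' hxx'
    rw [Scheme.Hom.comp_apply, Scheme.Hom.comp_apply] at hxx'
    obtain ⟨i, hi⟩ := hcov x
    obtain ⟨q, hq, hq'⟩ := (toSpec_mem_iff h𝒞 (U i) (b i) (hb i) (j x)).mpr hi
    have hi' : j x' ∈ T'.basicOpen (b i) :=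
      (toSpec_mem_iff h𝒞 (U i) (b i) (hb i) (j x')).mp ⟨q, hq, hq'.trans hxx'⟩
    have hinj : Function.Injective ((T'.basicOpen (b i)).ι ≫ toSpec h𝒞) :=
      ((T'.basicOpen (b i)).ι ≫ toSpec h𝒞).isOpenEmbedding.injective
    have h3 : (⟨j x, hi⟩ : T'.basicOpen (b i)) = ⟨j x', hi'⟩ := by
      apply hinj
      rw [Scheme.Hom.comp_apply, Scheme.Hom.comp_apply]
      exact hxx'
    exact j.isOpenEmbedding.injective (congrArg Subtype.val h3)
  · intro x
    obtain ⟨i, hi⟩ := hcov x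
    refine ⟨(j ⁻¹ᵁ T'.basicOpen (b i) : X.Opens), (j ⁻¹ᵁ T'.basicOpen (b i)).ι, inferInstance,
      ?_, ?_⟩
    · rw [Scheme.Opens.opensRange_ι]
      exact hi
    · rw [← Category.assoc, ← morphismRestrict_ι, Category.assoc]
      infer_instance

end SubFam

end Groth.Agent.H6.FZ
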