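import Mathlib
import Groth.Agent.Lib.Helper6.FZ1
import Groth.Agent.Lib.Helper6.FZ3
import Groth.Agent.Lib.Lead.QC.SubSup
import Groth.Agent.Lib.Lead.QC.UnitIso
import Groth.Prelude.Def_RelSpec

/-!
# The family of subrings generated by a quasi-coherent submodule of `p_* O_{T'}` (helper6)
-/

set_option autoImplicit false
set_option linter.style.haveILetI false
open CategoryTheory AlgebraicGeometry CategoryTheory.Limits TopologicalSpace Opposite

noncomputable section

namespace Groth.Agent.H6.FZ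

universe u

open Groth.Agent.LD.QC

variable {T' Y : Scheme.{u}} (p : T' ⟶ Y)

/-- `p_* O_{T'}` as an `O_Y`-module. -/
abbrev pushO : Y.Modules := (Scheme.Modules.pushforward p).obj (unitMod T')

variable {p} {ℳ : Y.Modules} (u : ℳ ⟶ pushO p)

/-- the section `u(m)` as a function on `p⁻¹ U`. -/
def sec (U : Y.Opens) (m : Γ(ℳ, U)) : Γ(T', p ⁻¹ᵁ U) := u.app U m

lemma sec_res {U V : Y.Opens} (h : V ≤ U) (m : Γ(ℳ, U)) :
    (T'.presheaf.map (homOfLE (p.preimage_mono h)).op).hom (sec u U m) =
      sec u V (ℳ.presheaf.map (homOfLE h).op m) := by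
  have := app_res u h m
  exact this.symm

lemma sec_add (U : Y.Opens) (m m' : Γ(ℳ, U)) : sec u U (m + m') = sec u U m + sec u U m' :=
  map_add _ _ _

lemma sec_smul (U : Y.Opens) (a : Γ(Y, U)) (m : Γ(ℳ, U)) :
    sec u U (a • m) = (p.app U).hom a * sec u U m := by
  have := (appLinear u U).map_smul a m
  exact this

/-- the family of subrings generated by `O_Y` and the sections of `ℳ`. -/
def famOf : SubFam p where
  C U := Subring.closure (Set.range (p.app U).hom ∪ Set.range (sec u U))
  range_le U a := Subring.subset_closure (Or.inl ⟨a, rfl⟩)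
  map_mem {U V} h x hx := by
    induction hx using Subring.closure_induction with
    | mem x hx =>
      rcases hx with ⟨a, rfl⟩ | ⟨m, rfl⟩
      · refine Subring.subset_closure (Or.inl ⟨(Y.presheaf.map (homOfLE h).op).hom a, ?_⟩)
        have := p.naturality (homOfLE h).op
        exact congr($this a)
      · rw [sec_res u h]
        exact Subring.subset_closure (Or.inr ⟨_, rfl⟩)
    | zero => rw [map_zero]; exact Subring.zero_mem _
    | one => rw [map_one]; exact Subring.one_mem _
    | add x y _ _ hx hy => rw [map_add]; exact Subring.add_mem _ hx hy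
    | neg x _ hx => rw [map_neg]; exact Subring.neg_mem _ hx
    | mul x y _ _ hx hy => rw [map_mul]; exact Subring.mul_mem _ hx hy

set_option backward.isDefEq.respectTransparency false in
theorem famOf_isQC [QuasiCompact p] [QuasiSeparated p] [ℳ.IsQuasicoherent] : (famOf u).IsQC := by
  rw [SubFam.isQC_iff]
  intro U r
  have hU : IsAffineOpen U.1 := U.2
  -- the ambient localisation
  have hloc := RelSpec.QCAlg.isQC_pushforward p U.1 hU r
  set ψ : Γ(T', p ⁻¹ᵁ U.1) →+* Γ(T', p ⁻¹ᵁ Y.basicOpen r) :=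
    (T'.presheaf.map (homOfLE (p.preimage_mono (Y.basicOpen_le r))).op).hom with hψ
  set ρ : Γ(Y, U.1) →+* Γ(Y, Y.basicOpen r) :=
    (Y.presheaf.map (homOfLE (Y.basicOpen_le r)).op).hom with hρ
  have hcomm : ψ.comp (p.app U.1).hom = (p.app (Y.basicOpen r)).hom.comp ρ := by
    have := p.naturality (homOfLE (Y.basicOpen_le r)).op
    exact congrArg CommRingCat.Hom.hom this.symm
  have hb : (p.app U.1).hom r ∈ (famOf u).C U.1 := (famOf u).range_le U.1 r
  have hCC' : ∀ x ∈ (famOf u).C U.1, ψ x ∈ (famOf u).C (Y.basicOpen r) :=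
    fun x hx => (famOf u).map_mem (Y.basicOpen_le r) x hx
  -- the inverse of `r`
  have hinv : ∃ v ∈ (famOf u).C (Y.basicOpen r), ψ ((p.app U.1).hom r) * v = 1 := by
    have hunit : IsUnit (ρ r) := Y.toRingedSpace.isUnit_res_basicOpen r
    obtain ⟨w, hw⟩ := hunit.exists_right_inv
    refine ⟨(p.app (Y.basicOpen r)).hom w, (famOf u).range_le _ w, ?_⟩
    have h1 : ψ ((p.app U.1).hom r) = (p.app (Y.basicOpen r)).hom (ρ r) :=
      RingHom.congr_fun hcomm r
    rw [h1, ← map_mul, hw, map_one]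
  have hsurj : ∀ z ∈ (famOf u).C (Y.basicOpen r), ∃ x ∈ (famOf u).C U.1, ∃ m : ℕ,
      z * ψ ((p.app U.1).hom r) ^ m = ψ x := by
    refine closure_surj (p.app U.1).hom (p.app (Y.basicOpen r)).hom ρ ψ hcomm r
      (hU.isLocalization_basicOpen r) _ _ ?_
    rintro _ ⟨m', rfl⟩
    obtain ⟨n, m, hm⟩ := affine_surj ℳ hU r m'
    refine ⟨sec u U.1 m, ⟨m, rfl⟩, n, ?_⟩
    have h1 : ψ ((p.app U.1).hom r) = (p.app (Y.basicOpen r)).hom (ρ r) :=
      RingHom.congr_fun hcomm r
    have h2 : ψ (sec u U.1 m) = sec u (Y.basicOpen r) (ℳ.presheaf.map (homOfLE (Y.basicOpen_le r)).op m) :=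
      sec_res u (Y.basicOpen_le r) m
    rw [h2, hm, sec_smul, h1, map_pow, mul_comm]
  exact isLocalization_away_subring ψ ((p.app U.1).hom r) hloc ((famOf u).C U.1)
    ((famOf u).C (Y.basicOpen r)) hb hCC' hinv hsurj

lemma sec_zero (U : Y.Opens) : sec u U 0 = 0 := map_zero _

theorem famOf_finite [IsIntegralHom p] [ℳ.IsQuasicoherent] (hFT : ℳ.IsFiniteType)
    (U : Y.affineOpens) : ((famOf u).diagramMap.app (.op U.1)).hom.Finite := by
  haveI : Module.Finite Γ(Y, U.1) Γ(ℳ, U.1) := finite_sections_of_isFiniteType ℳ hFT U.2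
  have hint : (p.app U.1).hom.IsIntegral := IsIntegralHom.isIntegral_app p U.1 U.2
  let e : Γ(ℳ, U.1) →+ Γ(T', p ⁻¹ᵁ U.1) :=
    { toFun := sec u U.1
      map_zero' := sec_zero u U.1
      map_add' := sec_add u U.1 }
  exact finite_codRestrict_closure (p.app U.1).hom hint e (fun r m => sec_smul u U.1 r m)
    ((famOf u).C U.1) rfl ((famOf u).range_le U.1)

end Groth.Agent.H6.FZ
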