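import Mathlib
import Groth.Agent.Lib.Helper6.FZ4

/-!
# Finite approximation of integral morphisms and the finite form of Zariski's main theorem
(helper6)
-/

set_option autoImplicit false
set_option linter.style.haveILetI false
open CategoryTheory AlgebraicGeometry CategoryTheory.Limits TopologicalSpace Opposite

noncomputable section

namespace Groth.Agent.H6.FZ

universe u

open Groth.Agent.LD.QC

variable {X T' Y : Scheme.{u}}

/-- finite type of sections over an affine open contained in the image of an open immersion. -/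
theorem finiteType_appLE_of_le_opensRange (j : X ⟶ T') [IsOpenImmersion j] (p : T' ⟶ Y)
    [LocallyOfFiniteType (j ≫ p)] {V : Y.Opens} (hV : IsAffineOpen V) {D : T'.Opens}
    (hD : IsAffineOpen D) (hDr : D ≤ j.opensRange) (e : D ≤ p ⁻¹ᵁ V) :
    (p.appLE V D e).hom.FiniteType := by
  have hD' : IsAffineOpen (j ⁻¹ᵁ D) := hD.preimage_of_isOpenImmersion j hDr
  have e' : j ⁻¹ᵁ D ≤ (j ≫ p) ⁻¹ᵁ V := fun x hx => e hx
  have h1 : ((j ≫ p).appLE V (j ⁻¹ᵁ D) e').hom.FiniteType :=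
    (j ≫ p).finiteType_appLE hV hD' e'
  have h2 : (j ≫ p).appLE V (j ⁻¹ᵁ D) e' = p.appLE V D e ≫ j.app D := by
    rw [Scheme.Hom.app_eq_appLE, Scheme.Hom.appLE_comp_appLE]
  haveI : IsIso (j.app D) := j.isIso_app D hDr
  have h3 : p.appLE V D e = (j ≫ p).appLE V (j ⁻¹ᵁ D) e' ≫ inv (j.app D) := by
    rw [h2, Category.assoc, IsIso.hom_inv_id, Category.comp_id]
  rw [h3, CommRingCat.hom_comp]
  refine RingHom.FiniteType.comp ?_ h1
  exact RingHom.FiniteType.of_surjective _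
    (ConcreteCategory.bijective_of_isIso (inv (j.app D))).2

/-- a compact open inside an affine open is a finite union of basic opens. -/
theorem exists_finset_basicOpen {A W : T'.Opens} (hA : IsAffineOpen A) (hWA : W ≤ A)
    (hW : IsCompact (W : Set T')) :
    ∃ s : Finset Γ(T', A), (∀ b ∈ s, T'.basicOpen b ≤ W) ∧
      ∀ x ∈ W, ∃ b ∈ s, x ∈ T'.basicOpen b := by
  classical
  have h1 : ∀ x : W, ∃ f : Γ(T', A), T'.basicOpen f ≤ W ∧ (x : T') ∈ T'.basicOpen f :=
    fun x => hA.exists_basicOpen_le x (hWA x.2)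
  choose f hf₁ hf₂ using h1
  obtain ⟨t, ht⟩ := hW.elim_finite_subcover (fun x : W => (T'.basicOpen (f x) : Set T'))
    (fun x => (T'.basicOpen (f x)).isOpen) (fun x hx => Set.mem_iUnion.mpr ⟨⟨x, hx⟩, hf₂ ⟨x, hx⟩⟩)
  refine ⟨t.image f, ?_, ?_⟩
  · intro b hb
    obtain ⟨x, -, rfl⟩ := Finset.mem_image.mp hb
    exact hf₁ x
  · intro x hx
    obtain ⟨y, hy, hxy⟩ := Set.mem_iUnion₂.mp (ht hx)
    exact ⟨f y, Finset.mem_image_of_mem f hy, hxy⟩

/-- **Finite approximation of an integral morphism.**  Let `p : T' ⟶ Y` be integral over a qcqs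
base and `j : X ⟶ T'` an open immersion with `X` quasi-compact and of finite type over `Y`.  Then
`p` factors through a finite `π : T ⟶ Y` such that `X ⟶ T' ⟶ T` is still an open immersion. -/
theorem exists_finite_approx [CompactSpace Y] [QuasiSeparatedSpace Y] (p : T' ⟶ Y)
    [IsIntegralHom p] (j : X ⟶ T') [IsOpenImmersion j] [LocallyOfFiniteType (j ≫ p)]
    [QuasiCompact (j ≫ p)] :
    ∃ (T : Scheme.{u}) (g : T' ⟶ T) (π : T ⟶ Y),
      IsFinite π ∧ g ≫ π = p ∧ IsOpenImmersion (j ≫ g) := by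
  classical
  haveI : IsAffineHom p := inferInstance
  -- step 1: basic opens covering the image of `j` over each affine open
  have hstep1 : ∀ V : Y.affineOpens, ∃ s : Finset Γ(T', p ⁻¹ᵁ V.1),
      (∀ b ∈ s, T'.basicOpen b ≤ j.opensRange) ∧
      ∀ x : X, p (j x) ∈ V.1 → ∃ b ∈ s, j x ∈ T'.basicOpen b := by
    intro V
    have hA : IsAffineOpen (p ⁻¹ᵁ V.1) := V.2.preimage p
    let W : T'.Opens := j.opensRange ⊓ p ⁻¹ᵁ V.1
    have hW : IsCompact (W : Set T') := by
      have h1 : IsCompact (((j ≫ p) ⁻¹ᵁ V.1 : X.Opens) : Set X) :=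
        (j ≫ p).isCompact_preimage V.2.isCompact
      have h2 : (W : Set T') = j '' (((j ≫ p) ⁻¹ᵁ V.1 : X.Opens) : Set X) := by
        ext x
        constructor
        · rintro ⟨⟨y, rfl⟩, hy⟩
          exact ⟨y, hy, rfl⟩
        · rintro ⟨y, hy, rfl⟩
          exact ⟨⟨y, rfl⟩, hy⟩
      rw [h2]
      exact h1.image j.continuous
    obtain ⟨s, hs1, hs2⟩ := exists_finset_basicOpen hA (inf_le_right : W ≤ p ⁻¹ᵁ V.1) hW
    exact ⟨s, fun b hb => (hs1 b hb).trans inf_le_left,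
      fun x hx => hs2 (j x) ⟨⟨x, rfl⟩, hx⟩⟩
  choose s hs1 hs2 using hstep1
  -- step 2: finitely many generators for each basic open
  have hstep2 : ∀ (V : Y.affineOpens) (b : Γ(T', p ⁻¹ᵁ V.1)),
      ∃ F : Finset Γ(T', p ⁻¹ᵁ V.1), b ∈ s V → ∀ C : Subring Γ(T', p ⁻¹ᵁ V.1),
      (∀ a, (p.app V.1).hom a ∈ C) → ∀ hb : b ∈ C, (↑F : Set Γ(T', p ⁻¹ᵁ V.1)) ⊆ C →
      letI := ((T'.presheaf.map (homOfLE (T'.basicOpen_le b)).op).hom.comp C.subtype).toAlgebra
      IsLocalization.Away (⟨b, hb⟩ : C) Γ(T', T'.basicOpen b) := by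
    intro V b
    by_cases hb : b ∈ s V
    · have hA : IsAffineOpen (p ⁻¹ᵁ V.1) := V.2.preimage p
      obtain ⟨F, hF⟩ := exists_finset_away (p.app V.1).hom
        (T'.presheaf.map (homOfLE (T'.basicOpen_le b)).op).hom b
        (hA.isLocalization_basicOpen b)
        (finiteType_appLE_of_le_opensRange j p V.2 (hA.basicOpen b) (hs1 V b hb)
          (T'.basicOpen_le b))
      exact ⟨F, fun _ => hF⟩
    · exact ⟨∅, fun h => absurd h hb⟩
  choose F hF using hstep2
  let E : ∀ V : Y.affineOpens, Finset Γ(T', p ⁻¹ᵁ V.1) := fun V => s V ∪ (s V).biUnion (F V)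
  -- step 3: a finite affine cover
  obtain ⟨t, ht⟩ : ∃ t : Finset Y.affineOpens, ∀ y : Y, ∃ V ∈ t, y ∈ V.1 := by
    obtain ⟨t, ht⟩ := isCompact_univ.elim_finite_subcover
      (fun V : Y.affineOpens => (V.1 : Set Y)) (fun V => V.1.isOpen) (fun y _ => by
        obtain ⟨_, ⟨V, hV, rfl⟩, hyV, -⟩ := Y.isBasis_affineOpens.exists_subset_of_mem_open
          (Set.mem_univ y) isOpen_univ
        exact Set.mem_iUnion.mpr ⟨⟨V, hV⟩, hyV⟩)
    refine ⟨t, fun y => ?_⟩
    obtain ⟨V, hV, hy⟩ := Set.mem_iUnion₂.mp (ht (Set.mem_univ y))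
    exact ⟨V, hV, hy⟩
  -- step 4: the finite type quasi-coherent submodule
  haveI hGq : (pushO p).IsQuasicoherent := qc_pushforward p (unitMod T')
  let S : Finset (Σ V : Y.affineOpens, Γ(T', p ⁻¹ᵁ V.1)) := t.sigma E
  obtain ⟨ℳ, u, hmono, hqc, hft, hsec⟩ := exists_sub_finiteType_of_sections (pushO p) S
    (fun a => a.1) (fun a => (show Γ(pushO p, a.1.1) from a.2))
  haveI := hqc
  have hmem : ∀ V ∈ t, ∀ x ∈ E V, x ∈ (famOf u).C V.1 := by
    intro V hV x hx
    obtain ⟨g, hg⟩ := hsec ⟨V, x⟩ (Finset.mem_sigma.mpr ⟨hV, hx⟩)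
    exact Subring.subset_closure (Or.inr ⟨g, hg⟩)
  have h𝒞 : (famOf u).IsQC := famOf_isQC u
  refine ⟨SubFam.spec h𝒞, SubFam.toSpec h𝒞, SubFam.π h𝒞,
    SubFam.isFinite_π h𝒞 (famOf_finite u hft), SubFam.toSpec_π h𝒞, ?_⟩
  -- step 5: the open immersion
  let I := {a : Σ V : Y.affineOpens, Γ(T', p ⁻¹ᵁ V.1) // a.1 ∈ t ∧ a.2 ∈ s a.1}
  have hbI : ∀ i : I, i.1.2 ∈ (famOf u).C i.1.1.1 := fun i =>
    hmem i.1.1 i.2.1 i.1.2 (Finset.mem_union_left _ i.2.2)
  refine SubFam.isOpenImmersion_comp_toSpec h𝒞 j (ι := I) (fun i => i.1.1) (fun i => i.1.2)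
    hbI (fun i => ?_) (fun x => ?_)
  · refine hF i.1.1 i.1.2 i.2.2 ((famOf u).C i.1.1.1) ((famOf u).range_le i.1.1.1) (hbI i) ?_
    intro x hx
    exact hmem i.1.1 i.2.1 x
      (Finset.mem_union_right _ (Finset.mem_biUnion.mpr ⟨i.1.2, i.2.2, hx⟩))
  · obtain ⟨V, hV, hy⟩ := ht (p (j x))
    obtain ⟨b, hb, hxb⟩ := hs2 V x hy
    exact ⟨⟨⟨V, b⟩, hV, hb⟩, hxb⟩

/-- **Zariski's main theorem, finite form** (Stacks 05K0): a quasi-finite separated morphism to a
qcqs scheme is a quasi-compact open immersion followed by a finite morphism. -/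
theorem s0385 {X S : Scheme.{u}} (f : X ⟶ S) [CompactSpace S] [QuasiSeparatedSpace S]
    [LocallyQuasiFinite f] [LocallyOfFiniteType f] [QuasiCompact f] [IsSeparated f] :
    ∃ (T : Scheme.{u}) (j : X ⟶ T) (π : T ⟶ S),
      IsOpenImmersion j ∧ QuasiCompact j ∧ IsFinite π ∧ j ≫ π = f := by
  haveI : LocallyOfFiniteType (f.toNormalization ≫ f.fromNormalization) := by
    rw [Scheme.Hom.toNormalization_fromNormalization]; infer_instance
  haveI : QuasiCompact (f.toNormalization ≫ f.fromNormalization) := by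
    rw [Scheme.Hom.toNormalization_fromNormalization]; infer_instance
  obtain ⟨T, g, π, hπ, hgπ, hoi⟩ := exists_finite_approx f.fromNormalization f.toNormalization
  have hcomp : (f.toNormalization ≫ g) ≫ π = f := by
    rw [Category.assoc, hgπ, Scheme.Hom.toNormalization_fromNormalization]
  refine ⟨T, f.toNormalization ≫ g, π, hoi, ?_, hπ, hcomp⟩
  apply MorphismProperty.of_postcomp (W := @QuasiCompact) (W' := @QuasiSeparated) _ π
  · infer_instance
  · rw [hcomp]; infer_instance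

end Groth.Agent.H6.FZ
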