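import Mathlib
import Groth.Agent.Lib.Helper6.Tr3
import Groth.Agent.Lib.Lead.QC.FreeHom
import Groth.Agent.Lib.Lead.QC.LocFree2

set_option autoImplicit false
set_option linter.style.haveILetI false
open CategoryTheory AlgebraicGeometry CategoryTheory.Limits TopologicalSpace Opposite
open TensorProduct LinearMap Module

noncomputable section

namespace Groth.Agent.H6.Tr

universe u
open Groth.Agent.LD.QC Groth.Agent.H6.QA

variable {X : Scheme.{u}}

lemma nsmul_id_app (n : ℕ) (U : X.Opens) (t : Γ(unitMod X, U)) :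
    (Scheme.Modules.Hom.app (n • 𝟙 (Coh.structureModule X)) U) t = n • t := by
  induction n with
  | zero => rw [zero_nsmul, zero_nsmul]; rfl
  | succ n ih =>
    rw [succ_nsmul, succ_nsmul, Scheme.Modules.Hom.add_app]
    exact congrArg (· + t) ih

/-- a section of the trace when the rank is invertible. -/
theorem exists_section (A : RelSpec.QCAlg X) (d : ℕ)
    (τ : A.toModule ⟶ Coh.structureModule X)
    (hτ : FinCov.strMod A ≫ τ = d • 𝟙 (Coh.structureModule X))
    (hd : IsUnit ((d : Γ(X, ⊤)))) :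
    ∃ σ : Coh.structureModule X ⟶ A.toModule, σ ≫ τ = 𝟙 _ := by
  obtain ⟨u, hu⟩ := hd.exists_right_inv
  let u' : Γ(unitMod X, ⊤) := u
  refine ⟨homOfSection A.toModule ((FinCov.strMod A).app ⊤ u'), ?_⟩
  rw [homOfSection_comp]
  have h1 : τ.app ⊤ ((FinCov.strMod A).app ⊤ u') = (FinCov.strMod A ≫ τ).app ⊤ u' := rfl
  have h2 : d • u' = sectionOfHom (𝟙 (unitMod X)) := by
    change d • (u : Γ(X, ⊤)) = 1
    rw [nsmul_eq_mul, hu]
  rw [h1, hτ, nsmul_id_app, h2, homOfSection_sectionOfHom]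

/-- the kernel of a split epimorphism onto `O_X` from a locally free module of rank `d` is locally
free of rank `d - 1`. -/
theorem kernel_rank (M : X.Modules) (d : ℕ) (hM : FlatMod.IsFinLocFreeOfRank d M)
    (τ : M ⟶ unitMod X) (σ : unitMod X ⟶ M) (hσ : σ ≫ τ = 𝟙 _) :
    FlatMod.IsFinLocFreeOfRank (d - 1) (kernel τ) := by
  haveI := qc_of_isFinLocFree M (isFinLocFree_of_rank d M hM)
  -- the retraction
  let π : M ⟶ kernel τ := kernel.lift τ (𝟙 M - τ ≫ σ) (by
    rw [Preadditive.sub_comp, Category.id_comp, Category.assoc, hσ, Category.comp_id, sub_self])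
  have hπι : π ≫ kernel.ι τ = 𝟙 M - τ ≫ σ := kernel.lift_ι _ _ _
  have hιπ : kernel.ι τ ≫ π = 𝟙 _ := by
    rw [← cancel_mono (kernel.ι τ), Category.assoc, hπι, Preadditive.comp_sub, Category.comp_id,
      kernel.condition_assoc, Limits.zero_comp, sub_zero, Category.id_comp]
  have hσπ : σ ≫ π = 0 := by
    rw [← cancel_mono (kernel.ι τ), Category.assoc, hπι, Preadditive.comp_sub, Category.comp_id,
      reassoc_of% hσ, sub_self, Limits.zero_comp]
  have hK : FlatMod.IsFinLocFree (kernel τ) :=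
    isFinLocFree_of_retract (kernel.ι τ) π hιπ (isFinLocFree_of_rank d M hM)
  haveI := qc_of_isFinLocFree _ hK
  intro x
  obtain ⟨W₁, n, hxW₁, ⟨e⟩⟩ := hK x
  obtain ⟨U, hU, hxU, hUW, ⟨ℓ⟩⟩ := exists_affine_equiv_of_rank d M hM W₁ x hxW₁
  have hr : Set.range hU.fromSpec ⊆ Set.range W₁.ι := by
    rw [hU.range_fromSpec, Scheme.Opens.range_ι]; exact hUW
  have h1 := freeMod_of_range_subset (kernel τ) W₁.ι hU.fromSpec hr n e
  obtain ⟨ℓK⟩ := (restrict_fromSpec_iso_freeMod_iff (kernel τ) hU n).mp h1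
  haveI : Nontrivial Γ(X, U) := (hU.primeIdealOf ⟨x, hxU⟩).nontrivial
  -- rank count
  have hn : n = d - 1 := by
    have hadd : π ≫ kernel.ι τ + τ ≫ σ = 𝟙 M := by rw [hπι, sub_add_cancel]
    have ha : ∀ a : Γ(M, U), (kernel.ι τ).app U (π.app U a) + σ.app U (τ.app U a) = a :=
      fun a => congrArg (fun f : M ⟶ M => f.app U a) hadd
    have hb : ∀ k : Γ(kernel τ, U), π.app U ((kernel.ι τ).app U k) = k :=
      fun k => congrArg (fun f : kernel τ ⟶ kernel τ => f.app U k) hιπ
    have hc : ∀ r : Γ(unitMod X, U), π.app U (σ.app U r) = 0 :=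
      fun r => congrArg (fun f : unitMod X ⟶ kernel τ => f.app U r) hσπ
    have hd' : ∀ k : Γ(kernel τ, U), τ.app U ((kernel.ι τ).app U k) = 0 :=
      fun k => congrArg (fun f : kernel τ ⟶ unitMod X => f.app U k) (kernel.condition τ)
    have he : ∀ r : Γ(unitMod X, U), τ.app U (σ.app U r) = r :=
      fun r => congrArg (fun f : unitMod X ⟶ unitMod X => f.app U r) hσ
    let E : Γ(M, U) ≃ₗ[Γ(X, U)] (Γ(kernel τ, U) × Γ(unitMod X, U)) :=
      LinearEquiv.ofLinearMap ((appLinear π U).prod (appLinear τ U))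
        ((appLinear (kernel.ι τ) U).coprod (appLinear σ U))
        (LinearMap.ext fun p => by
          obtain ⟨k, r⟩ := p
          apply Prod.ext
          · change π.app U ((kernel.ι τ).app U k + σ.app U r) = k
            rw [map_add, hb, hc, add_zero]
          · change τ.app U ((kernel.ι τ).app U k + σ.app U r) = r
            rw [map_add, hd', he, zero_add])
        (LinearMap.ext fun a => ha a)
    have e1 : (Fin d → Γ(X, U)) ≃ₗ[Γ(X, U)] ((Fin n → Γ(X, U)) × Γ(X, U)) :=
      ℓ.symm ≪≫ₗ E ≪≫ₗ (LinearEquiv.prodCongr ℓK (LinearEquiv.refl _ _))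
    have := e1.finrank_eq
    rw [Module.finrank_prod, Module.finrank_fin_fun, Module.finrank_fin_fun,
      Module.finrank_self] at this
    omega
  subst hn
  exact ⟨U, hxU, freeMod_of_range_subset (kernel τ) hU.fromSpec U.ι
    (range_ι_subset_range_fromSpec hU) _ h1.some⟩


theorem s19696 (A : RelSpec.QCAlg X) (d : ℕ) (hA : FlatMod.IsFinLocFreeOfRank d A.toModule)
    (τ : A.toModule ⟶ Coh.structureModule X) (hτ : FinCov.IsTrace A τ)
    (hd : IsUnit ((d : Γ(X, ⊤)))) :
    IsSplitEpi τ ∧ FlatMod.IsFinLocFreeOfRank (d - 1) (kernel τ) := by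
  obtain ⟨σ, hσ⟩ := exists_section A d τ (s19695 A d hA τ hτ) hd
  exact ⟨⟨⟨σ, hσ⟩⟩, kernel_rank A.toModule d hA τ σ hσ⟩

end Groth.Agent.H6.Tr
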