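import Mathlib
import Groth.Agent.Lib.Helper6.Tr4
import Groth.Agent.Lib.Lead.QC.FiniteFree

set_option autoImplicit false
set_option linter.style.haveILetI false
open CategoryTheory AlgebraicGeometry CategoryTheory.Limits TopologicalSpace Opposite
open TensorProduct LinearMap Module

noncomputable section

namespace Groth.Agent.H6.Tr

universe u
open Groth.Agent.LD.QC Groth.Agent.H6.QA

variable {X : Scheme.{u}}

/-- the decomposition `A(U) = O(U) ⊕ L(U)` of a double algebra. -/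
def dblEquiv {L : X.Modules} {m : CohB1.tensorMod L L ⟶ Coh.structureModule X}
    {A : RelSpec.QCAlg X} {j : L ⟶ A.toModule} (h : FinCov.IsDblAlg L m A j) (U : X.Opens) :
    (Γ(unitMod X, U) × Γ(L, U)) ≃ₗ[Γ(X, U)] Γ(A.toModule, U) :=
  LinearEquiv.ofBijective ((appLinear (FinCov.strMod A) U).coprod (appLinear j U)) (h.1 U)

lemma dblEquiv_apply {L : X.Modules} {m : CohB1.tensorMod L L ⟶ Coh.structureModule X}
    {A : RelSpec.QCAlg X} {j : L ⟶ A.toModule} (h : FinCov.IsDblAlg L m A j) (U : X.Opens)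
    (s : Γ(unitMod X, U)) (l : Γ(L, U)) :
    dblEquiv h U (s, l) = (FinCov.strMod A).app U s + j.app U l := rfl

theorem s19698 (L : X.Modules) (hL : PicF.IsInvertible L)
    (m : CohB1.tensorMod L L ⟶ Coh.structureModule X) (A : RelSpec.QCAlg X) (j : L ⟶ A.toModule)
    (h : FinCov.IsDblAlg L m A j) : FlatMod.IsFinLocFreeOfRank 2 A.toModule := by
  have hL1 := (isInvertible_iff L).mp hL
  haveI := qc_of_isFinLocFree L (isFinLocFree_of_rank 1 L hL1)
  intro x
  obtain ⟨U, hU, hxU, -, ⟨ℓ⟩⟩ := exists_affine_equiv_of_rank 1 L hL1 ⊤ x trivial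
  let e : Γ(A.toModule, U) ≃ₗ[Γ(X, U)] (Fin 2 → Γ(X, U)) :=
    (dblEquiv h U).symm ≪≫ₗ
      (LinearEquiv.prodCongr (LinearEquiv.refl Γ(X, U) Γ(X, U))
        (ℓ ≪≫ₗ LinearEquiv.funUnique (Fin 1) Γ(X, U) Γ(X, U))) ≪≫ₗ
      (LinearEquiv.piFinTwo Γ(X, U) (fun _ => Γ(X, U))).symm
  obtain ⟨e'⟩ := (restrict_fromSpec_iso_freeMod_iff A.toModule hU 2).mpr ⟨e⟩
  exact ⟨U, hxU, freeMod_of_range_subset A.toModule hU.fromSpec U.ι
    (range_ι_subset_range_fromSpec hU) 2 e'⟩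

end Groth.Agent.H6.Tr
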