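import Mathlib
import Groth.Agent.Lib.Helper6.Tr5

set_option autoImplicit false
set_option linter.style.haveILetI false
open CategoryTheory AlgebraicGeometry CategoryTheory.Limits TopologicalSpace Opposite
open TensorProduct LinearMap Module

noncomputable section

namespace Groth.Agent.H6.Tr

universe u
open Groth.Agent.LD.QC Groth.Agent.H6.QA

section alg
variable {R M N : Type*} [CommRing R] [AddCommGroup M] [AddCommGroup N] [Module R M] [Module R N]
  [Module.Free R M] [Module.Finite R M] [Module.Free R N] [Module.Finite R N]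

/-- an off-diagonal endomorphism of a product has trace zero. -/
lemma trace_offdiag (φ : Module.End R (M × N))
    (h1 : ∀ m, (φ (m, 0)).1 = 0) (h2 : ∀ n, (φ (0, n)).2 = 0) : LinearMap.trace R (M × N) φ = 0 := by
  have hφ : φ = (φ ∘ₗ LinearMap.inl R M N) ∘ₗ LinearMap.fst R M N +
      (φ ∘ₗ LinearMap.inr R M N) ∘ₗ LinearMap.snd R M N := by
    rw [LinearMap.comp_assoc, LinearMap.comp_assoc, ← LinearMap.comp_add]
    have : LinearMap.inl R M N ∘ₗ LinearMap.fst R M N + LinearMap.inr R M N ∘ₗ LinearMap.snd R M N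
        = LinearMap.id := by
      ext <;> simp
    rw [this, LinearMap.comp_id]
  rw [hφ, map_add, LinearMap.trace_comp_comm', LinearMap.trace_comp_comm' (LinearMap.snd R M N)]
  have e1 : LinearMap.fst R M N ∘ₗ φ ∘ₗ LinearMap.inl R M N = 0 := by
    ext m
    exact h1 m
  have e2 : LinearMap.snd R M N ∘ₗ φ ∘ₗ LinearMap.inr R M N = 0 := by
    ext n
    exact h2 n
  rw [e1, e2, map_zero, map_zero, add_zero]

/-- the trace of an element of the odd part of a `ℤ/2`-graded algebra `M ⊕ N` vanishes. -/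
lemma algebra_trace_odd {S : Type*} [CommRing S] [Algebra R S] (E : (M × N) ≃ₗ[R] S) (x : S)
    (h1 : ∀ m, (E.symm (x * E (m, 0))).1 = 0) (h2 : ∀ n, (E.symm (x * E (0, n))).2 = 0) :
    Algebra.trace R S x = 0 := by
  rw [Algebra.trace_apply, ← LinearMap.trace_conj' _ E.symm]
  exact trace_offdiag _ h1 h2

end alg


variable {X : Scheme.{u}}

lemma trace_j_affine {L : X.Modules} {m : CohB1.tensorMod L L ⟶ Coh.structureModule X}
    {A : RelSpec.QCAlg X} {j : L ⟶ A.toModule} (h : FinCov.IsDblAlg L m A j)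
    (τ : A.toModule ⟶ Coh.structureModule X) (hτ : FinCov.IsTrace A τ) (W : X.Opens)
    (hW : IsAffineOpen W) (ℓ : Γ(L, W) ≃ₗ[Γ(X, W)] (Fin 1 → Γ(X, W))) (l : Γ(L, W)) :
    τ.app W (j.app W l) = 0 := by
  letI := secAlg A W
  haveI : Module.Free Γ(X, W) Γ(L, W) := Module.Free.of_equiv ℓ.symm
  haveI : Module.Finite Γ(X, W) Γ(L, W) := Module.Finite.equiv ℓ.symm
  haveI : Module.Free Γ(X, W) Γ(unitMod X, W) := inferInstanceAs (Module.Free Γ(X, W) Γ(X, W))
  haveI : Module.Finite Γ(X, W) Γ(unitMod X, W) :=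
    inferInstanceAs (Module.Finite Γ(X, W) Γ(X, W))
  let E : (Γ(unitMod X, W) × Γ(L, W)) ≃ₗ[Γ(X, W)] (A.presheaf.obj (op W)) := dblEquiv h W
  have hfree : Module.Free Γ(X, W) (A.presheaf.obj (op W)) := Module.Free.of_equiv E
  have hfin : Module.Finite Γ(X, W) (A.presheaf.obj (op W)) := Module.Finite.equiv E
  refine (hτ W hW hfree hfin _).trans ?_
  refine algebra_trace_odd E _ (fun s => ?_) (fun n => ?_)
  · have : toRing A W (j.app W l) * E (s, 0) = E (0, (show Γ(X, W) from s) • l) := by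
      change toRing A W (j.app W l) * toRing A W ((FinCov.strMod A).app W s + j.app W 0) =
        toRing A W ((FinCov.strMod A).app W 0 + j.app W ((show Γ(X, W) from s) • l))
      rw [map_zero, map_zero, add_zero, zero_add]
      have := (appLinear j W).map_smul (show Γ(X, W) from s) l
      rw [appLinear_apply, appLinear_apply] at this
      rw [this]
      exact mul_comm _ _
    change (E.symm (toRing A W (j.app W l) * E (s, 0))).1 = 0
    rw [this, LinearEquiv.symm_apply_apply]
  · have : toRing A W (j.app W l) * E (0, n) =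
        E ((m.val.app (op W)).hom (SecTwist.tmul L L W l n), 0) := by
      change toRing A W (j.app W l) * toRing A W ((FinCov.strMod A).app W 0 + j.app W n) =
        toRing A W ((FinCov.strMod A).app W _ + j.app W 0)
      rw [map_zero, map_zero, add_zero, zero_add]
      exact h.2 W l n
    change (E.symm (toRing A W (j.app W l) * E (0, n))).2 = 0
    rw [this, LinearEquiv.symm_apply_apply]

lemma trace_j {L : X.Modules} (hL : PicF.IsInvertible L)
    {m : CohB1.tensorMod L L ⟶ Coh.structureModule X}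
    {A : RelSpec.QCAlg X} {j : L ⟶ A.toModule} (h : FinCov.IsDblAlg L m A j)
    (τ : A.toModule ⟶ Coh.structureModule X) (hτ : FinCov.IsTrace A τ) (U : X.Opens)
    (l : Γ(L, U)) : τ.app U (j.app U l) = 0 := by
  have hL1 := (isInvertible_iff L).mp hL
  haveI := qc_of_isFinLocFree L (isFinLocFree_of_rank 1 L hL1)
  have key : ∀ x : U, ∃ W : X.Opens, IsAffineOpen W ∧ x.1 ∈ W ∧ W ≤ U ∧
      Nonempty (Γ(L, W) ≃ₗ[Γ(X, W)] (Fin 1 → Γ(X, W))) := fun x =>
    exists_affine_equiv_of_rank 1 L hL1 U x.1 x.2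
  choose W hW hxW hWU e using key
  apply section_ext_of_cover (unitMod X) W hWU
    (fun x hx => Opens.mem_iSup.mpr ⟨⟨x, hx⟩, hxW ⟨x, hx⟩⟩)
  intro x
  rw [← app_res, ← app_res, map_zero]
  exact trace_j_affine h τ hτ (W x) (hW x) (e x).some _

theorem s19700 (L : X.Modules) (hL : PicF.IsInvertible L)
    (m : CohB1.tensorMod L L ⟶ Coh.structureModule X) (A : RelSpec.QCAlg X) (j : L ⟶ A.toModule)
    (h : FinCov.IsDblAlg L m A j) (h2 : IsUnit (2 : Γ(X, ⊤)))
    (τ : A.toModule ⟶ Coh.structureModule X) (hτ : FinCov.IsTrace A τ)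
    (U : X.Opens) (a : A.toModule.val.obj (op U)) :
    (τ.val.app (op U)).hom a = 0 ↔ a ∈ Set.range (j.val.app (op U)).hom := by
  constructor
  · intro ha
    obtain ⟨⟨s, l⟩, rfl⟩ := (dblEquiv h U).surjective a
    have h3 : τ.app U ((FinCov.strMod A).app U s + j.app U l) = 0 := ha
    rw [map_add, trace_j hL h τ hτ U l, add_zero] at h3
    have h4 : (FinCov.strMod A ≫ τ).app U s = 0 := h3
    rw [s19695 A 2 (s19698 L hL m A j h) τ hτ, nsmul_id_app] at h4
    have h5 : IsUnit (2 : Γ(X, U)) := by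
      have := h2.map (X.presheaf.map (homOfLE (le_top : U ≤ ⊤)).op).hom
      rwa [map_ofNat] at this
    let s' : Γ(X, U) := s
    have h6 : (2 : Γ(X, U)) * s' = 0 := by
      rw [two_nsmul] at h4
      rw [two_mul]
      exact h4
    have hs : s = 0 := (h5.mul_right_eq_zero).mp h6
    refine ⟨l, ?_⟩
    rw [dblEquiv_apply, hs, map_zero, zero_add]
    rfl
  · rintro ⟨l, rfl⟩
    exact trace_j hL h τ hτ U l

end Groth.Agent.H6.Tr
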