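import Mathlib

set_option autoImplicit false
open Polynomial

namespace Groth.Agent.H6.Tr

section alg
variable {R S : Type*} [CommRing R] [CommRing S] [Algebra R S]

/-- in a free algebra of rank two, the square of a trace-zero element is a scalar. -/
lemma sq_mem_range_of_trace_eq_zero (b : Module.Basis (Fin 2) R S) (x : S)
    (hx : Algebra.trace R S x = 0) : x * x ∈ Set.range (algebraMap R S) := by
  rcases subsingleton_or_nontrivial R with hR | hR
  · haveI : Subsingleton S := Module.subsingleton R S
    exact ⟨0, Subsingleton.elim _ _⟩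
  set Mx := Algebra.leftMulMatrix b x with hMx
  have h1 := Matrix.aeval_self_charpoly Mx
  have htr : Mx.trace = 0 := by rw [← Algebra.trace_eq_matrix_trace b x, hx]
  rw [Matrix.charpoly_fin_two, htr] at h1
  simp only [map_zero, zero_mul, sub_zero, map_add, map_pow, aeval_X, aeval_C] at h1
  have h2 : Algebra.leftMulMatrix b (x * x + algebraMap R S Mx.det) = 0 := by
    rw [map_add, map_mul, ← hMx, ← pow_two, AlgHom.commutes]
    exact h1
  have h3 := (Algebra.leftMulMatrix_injective b) (h2.trans (map_zero _).symm)
  exact ⟨-Mx.det, by rw [map_neg]; exact (eq_neg_of_add_eq_zero_left h3).symm⟩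

/-- in a free algebra of rank two over a ring in which `2` is invertible, the product of two
trace-zero elements is a scalar. -/
lemma mul_mem_range_of_trace_eq_zero (b : Module.Basis (Fin 2) R S) (h2 : IsUnit (2 : R)) (x y : S)
    (hx : Algebra.trace R S x = 0) (hy : Algebra.trace R S y = 0) :
    x * y ∈ Set.range (algebraMap R S) := by
  obtain ⟨a, ha⟩ := sq_mem_range_of_trace_eq_zero b x hx
  obtain ⟨c, hc⟩ := sq_mem_range_of_trace_eq_zero b y hy
  obtain ⟨d, hd⟩ := sq_mem_range_of_trace_eq_zero b (x + y) (by rw [map_add, hx, hy, add_zero])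
  obtain ⟨u, hu⟩ := h2.exists_left_inv
  refine ⟨u * (d - a - c), ?_⟩
  have : (2 : S) * (x * y) = algebraMap R S (d - a - c) := by
    rw [map_sub, map_sub, hd, ha, hc]; ring
  rw [map_mul, ← this, ← mul_assoc]
  have h2' : algebraMap R S u * 2 = 1 := by
    rw [← map_ofNat (algebraMap R S) 2, ← map_mul, hu, map_one]
  rw [h2', one_mul]

end alg

end Groth.Agent.H6.Tr
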