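import Mathlib
import Groth.Agent.Lib.Helper6.Tr6
import Groth.Agent.Lib.Helper6.Tr7
import Groth.Agent.Lib.Lead.QC.TensorDesc
import Groth.Agent.Lib.Lead.QC.SubExt

set_option autoImplicit false
set_option linter.style.haveILetI false
open CategoryTheory AlgebraicGeometry CategoryTheory.Limits TopologicalSpace Opposite
open TensorProduct LinearMap Module

noncomputable section

namespace Groth.Agent.H6.Tr

universe u
open Groth.Agent.LD.QC Groth.Agent.H6.QA

variable {X : Scheme.{u}}

/-- restriction of a global function. -/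
def resTop (u : Γ(X, ⊤)) (U : X.Opens) : Γ(X, U) :=
  (X.presheaf.map (homOfLE (le_top : U ≤ ⊤)).op).hom u

lemma resTop_res (u : Γ(X, ⊤)) {U V : X.Opens} (h : V ≤ U) :
    (X.presheaf.map (homOfLE h).op).hom (resTop u U) = resTop u V := by
  unfold resTop
  rw [← CommRingCat.comp_apply, ← Functor.map_comp]
  rfl

lemma two_mul_resTop (u : Γ(X, ⊤)) (hu : 2 * u = 1) (U : X.Opens) : 2 * resTop u U = 1 := by
  unfold resTop
  rw [← map_ofNat (X.presheaf.map (homOfLE (le_top : U ≤ ⊤)).op).hom 2, ← map_mul, hu, map_one]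

variable {A : RelSpec.QCAlg X}

lemma mulL_res {U V : X.Opens} (h : V ≤ U) (x y : Γ(A.toModule, U)) :
    A.toModule.presheaf.map (homOfLE h).op (mulL A U x y) =
      mulL A V (A.toModule.presheaf.map (homOfLE h).op x)
        (A.toModule.presheaf.map (homOfLE h).op y) :=
  map_mul (A.presheaf.map (homOfLE h).op).hom (toRing A U x) (toRing A U y)

lemma mulL_comm (U : X.Opens) (x y : Γ(A.toModule, U)) : mulL A U x y = mulL A U y x :=
  mul_comm (toRing A U x) (toRing A U y)

lemma strMod_res {U V : X.Opens} (h : V ≤ U) (r : Γ(unitMod X, U)) :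
    A.toModule.presheaf.map (homOfLE h).op ((FinCov.strMod A).app U r) =
      (FinCov.strMod A).app V ((unitMod X).presheaf.map (homOfLE h).op r) :=
  (app_res (FinCov.strMod A) h r).symm

/-- the product of two trace-zero sections is a function. -/
theorem mul_eq_str_of_trace_zero (hA : FlatMod.IsFinLocFreeOfRank 2 A.toModule)
    (τ : A.toModule ⟶ Coh.structureModule X) (hτ : FinCov.IsTrace A τ) (u : Γ(X, ⊤))
    (hu : 2 * u = 1) (U : X.Opens) (x y : Γ(A.toModule, U)) (hx : τ.app U x = 0)
    (hy : τ.app U y = 0) :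
    mulL A U x y = (FinCov.strMod A).app U
      ((show Γ(unitMod X, U) from resTop u U * (show Γ(X, U) from τ.app U (mulL A U x y)))) := by
  have key : ∀ z : U, ∃ W : X.Opens, IsAffineOpen W ∧ z.1 ∈ W ∧ W ≤ U ∧
      Nonempty (Γ(A.toModule, W) ≃ₗ[Γ(X, W)] (Fin 2 → Γ(X, W))) := fun z =>
    exists_affine_equiv_of_rank 2 A.toModule hA U z.1 z.2
  choose W hW hzW hWU e using key
  apply section_ext_of_cover A.toModule W hWU
    (fun z hz => Opens.mem_iSup.mpr ⟨⟨z, hz⟩, hzW ⟨z, hz⟩⟩)
  intro z
  rw [mulL_res, strMod_res]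
  have e1 : (unitMod X).presheaf.map (homOfLE (hWU z)).op
      (show Γ(unitMod X, U) from resTop u U * (show Γ(X, U) from τ.app U (mulL A U x y))) =
      (show Γ(unitMod X, W z) from resTop u (W z) * (show Γ(X, W z) from τ.app (W z)
        (mulL A (W z) (A.toModule.presheaf.map (homOfLE (hWU z)).op x)
          (A.toModule.presheaf.map (homOfLE (hWU z)).op y)))) := by
    rw [← mulL_res, app_res τ (hWU z)]
    refine (map_mul (X.presheaf.map (homOfLE (hWU z)).op).hom _ _).trans ?_
    rw [resTop_res]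
    rfl
  rw [e1]
  set x' := A.toModule.presheaf.map (homOfLE (hWU z)).op x with hx'
  set y' := A.toModule.presheaf.map (homOfLE (hWU z)).op y with hy'
  have hx0 : τ.app (W z) x' = 0 := by rw [hx', app_res, hx, map_zero]
  have hy0 : τ.app (W z) y' = 0 := by rw [hy', app_res, hy, map_zero]
  obtain ⟨ℓ⟩ := e z
  letI := secAlg A (W z)
  let b : Basis (Fin 2) Γ(X, W z) (A.presheaf.obj (op (W z))) := Basis.ofEquivFun ℓ
  have hfree := Module.Free.of_basis b
  have hfin := Module.Finite.of_basis b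
  have tx : Algebra.trace Γ(X, W z) (A.presheaf.obj (op (W z))) (toRing A _ x') = 0 :=
    (hτ (W z) (hW z) hfree hfin _).symm.trans hx0
  have ty : Algebra.trace Γ(X, W z) (A.presheaf.obj (op (W z))) (toRing A _ y') = 0 :=
    (hτ (W z) (hW z) hfree hfin _).symm.trans hy0
  have h2W : IsUnit (2 : Γ(X, W z)) :=
    IsUnit.of_mul_eq_one _ (two_mul_resTop u hu (W z))
  obtain ⟨r, hr⟩ := mul_mem_range_of_trace_eq_zero b h2W _ _ tx ty
  have hr' : mulL A (W z) x' y' = (FinCov.strMod A).app (W z) (show Γ(unitMod X, W z) from r) :=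
    hr.symm
  rw [hr']
  congr 1
  have h3 : τ.app (W z) ((FinCov.strMod A).app (W z) (show Γ(unitMod X, W z) from r)) =
      (FinCov.strMod A ≫ τ).app (W z) (show Γ(unitMod X, W z) from r) := rfl
  rw [h3, s19695 A 2 hA τ hτ, nsmul_id_app, two_nsmul]
  change r = resTop u (W z) * (r + r)
  rw [← two_mul, ← mul_assoc, mul_comm (resTop u (W z)), two_mul_resTop u hu, one_mul]


/-- the bilinear form `(l, l') ↦ u · τ(l l')` on the kernel of the trace. -/
def Bform (τ : A.toModule ⟶ Coh.structureModule X) (u : Γ(X, ⊤)) (U : X.Opens) :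
    Γ(kernel τ, U) →ₗ[Γ(X, U)] Γ(kernel τ, U) →ₗ[Γ(X, U)] Γ(unitMod X, U) :=
  LinearMap.compr₂ (LinearMap.compl₁₂ (mulL A U) (appLinear (kernel.ι τ) U)
    (appLinear (kernel.ι τ) U)) ((resTop u U) • appLinear τ U)

lemma Bform_apply (τ : A.toModule ⟶ Coh.structureModule X) (u : Γ(X, ⊤)) (U : X.Opens)
    (l l' : Γ(kernel τ, U)) :
    Bform τ u U l l' = (show Γ(unitMod X, U) from resTop u U * (show Γ(X, U) from
      τ.app U (mulL A U ((kernel.ι τ).app U l) ((kernel.ι τ).app U l')))) := rfl

lemma Bform_res (τ : A.toModule ⟶ Coh.structureModule X) (u : Γ(X, ⊤)) {U V : X.Opens}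
    (h : V ≤ U) (l l' : Γ(kernel τ, U)) :
    (unitMod X).presheaf.map (homOfLE h).op (Bform τ u U l l') =
      Bform τ u V ((kernel τ).presheaf.map (homOfLE h).op l)
        ((kernel τ).presheaf.map (homOfLE h).op l') := by
  rw [Bform_apply, Bform_apply, app_res (kernel.ι τ) h, app_res (kernel.ι τ) h, ← mulL_res,
    app_res τ h]
  refine (map_mul (X.presheaf.map (homOfLE h).op).hom _ _).trans ?_
  rw [resTop_res]
  rfl


theorem s19699 (A : RelSpec.QCAlg X)
    (hA : FlatMod.IsFinLocFreeOfRank 2 A.toModule)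
    (τ : A.toModule ⟶ Coh.structureModule X) (hτ : FinCov.IsTrace A τ) (h2 : IsUnit (2 : Γ(X, ⊤))) :
    ∃ m : CohB1.tensorMod (kernel τ) (kernel τ) ⟶ Coh.structureModule X,
      FinCov.IsDblAlg (kernel τ) m A (kernel.ι τ) := by
  obtain ⟨u, hu⟩ := h2.exists_right_inv
  have hst := s19695 A 2 hA τ hτ
  obtain ⟨σ, hσ⟩ := exists_section A 2 τ hst (by simpa using h2)
  have hK : FlatMod.IsFinLocFreeOfRank 1 (kernel τ) := kernel_rank A.toModule 2 hA τ σ hσ
  haveI := qc_of_isFinLocFree _ (isFinLocFree_of_rank 1 _ hK)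
  let m : CohB1.tensorMod (kernel τ) (kernel τ) ⟶ Coh.structureModule X :=
    tensorDesc (kernel τ) (kernel τ) (unitMod X) (fun U => Bform τ u U.1)
      (fun U V h l l' => Bform_res τ u h l l')
  have hm : ∀ (U : X.affineOpens) (l l' : Γ(kernel τ, U.1)),
      m.app U.1 (SecTwist.tmul _ _ U.1 l l') = Bform τ u U.1 l l' := fun U l l' =>
    tensorDesc_app_tmul _ _ _ _ _ U l l'
  have hτs : ∀ (U : X.Opens) (s : Γ(unitMod X, U)),
      τ.app U ((FinCov.strMod A).app U s) = s + s := fun U s => by
    have h3 : τ.app U ((FinCov.strMod A).app U s) = (FinCov.strMod A ≫ τ).app U s := rfl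
    rw [h3, hst, nsmul_id_app, two_nsmul]
  have hinj2 : ∀ (U : X.Opens) (s : Γ(unitMod X, U)), s + s = 0 → s = 0 := fun U s hs => by
    have h5 : IsUnit (2 : Γ(X, U)) := IsUnit.of_mul_eq_one _ (two_mul_resTop u hu U)
    have h6 : (2 : Γ(X, U)) * (show Γ(X, U) from s) = 0 := by rw [two_mul]; exact hs
    exact (h5.mul_right_eq_zero).mp h6
  refine ⟨m, ?_, ?_⟩
  · intro U
    constructor
    · rintro ⟨s, l⟩ ⟨s', l'⟩ hp
      have hp' : (FinCov.strMod A).app U s + (kernel.ι τ).app U l =
          (FinCov.strMod A).app U s' + (kernel.ι τ).app U l' := hp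
      have h4 := congrArg (τ.app U) hp'
      rw [map_add, map_add, kernel_ι_app_comp, kernel_ι_app_comp, add_zero, add_zero, hτs, hτs]
        at h4
      have hs : s = s' := by
        let t : Γ(unitMod X, U) := s
        let t' : Γ(unitMod X, U) := s'
        have h4' : t + t = t' + t' := h4
        have : (t - t') + (t - t') = 0 := by
          rw [sub_add_sub_comm, h4', sub_self]
        exact sub_eq_zero.mp (hinj2 U _ this)
      subst hs
      have hl : l = l' := mono_app (kernel.ι τ) U (add_left_cancel hp')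
      rw [hl]
    · intro a
      let a' : Γ(A.toModule, U) := a
      let s : Γ(unitMod X, U) := resTop u U * (show Γ(X, U) from τ.app U a')
      have hs2 : s + s = τ.app U a' := by
        change resTop u U * (show Γ(X, U) from τ.app U a') +
          resTop u U * (show Γ(X, U) from τ.app U a') = _
        rw [← two_mul, ← mul_assoc, two_mul_resTop u hu, one_mul]
      have hker : τ.app U (a' - (FinCov.strMod A).app U s) = 0 := by
        rw [map_sub, hτs, hs2, sub_self]
      obtain ⟨l, hl⟩ := exists_kernel_section τ U _ hker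
      refine ⟨(s, l), ?_⟩
      change (FinCov.strMod A).app U s + (kernel.ι τ).app U l = a'
      rw [hl, add_sub_cancel]
  · intro U l l'
    change mulL A U ((kernel.ι τ).app U l) ((kernel.ι τ).app U l') =
      (FinCov.strMod A).app U (m.app U (SecTwist.tmul _ _ U l l'))
    apply section_ext_of_cover A.toModule (fun V : {V : X.affineOpens // V.1 ≤ U} => V.1.1)
      (fun V => V.2) (le_iSup_affineOpens U)
    intro V
    rw [mulL_res, strMod_res, ← app_res m, tmul_res, hm, Bform_apply, ← app_res, ← app_res]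
    exact mul_eq_str_of_trace_zero hA τ hτ u hu _ _ _ (kernel_ι_app_comp _ _ _)
      (kernel_ι_app_comp _ _ _)

end Groth.Agent.H6.Tr
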