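import Mathlib
import Groth.Prelude.Def_Wider
import Groth.Agent.Lib.Helper6.LCArtinian
import Groth.Agent.Lib.Helper6.LCTorsion
import Groth.Agent.Lib.Helper6.LCZero

/-! Faltings' lemma: if a power of `I` kills `H^i_I(M)` for all `i ≤ n` (`M` finitely generated over a
Noetherian ring), then these modules are finitely generated. -/

universe u
open CategoryTheory CategoryTheory.Limits Opposite CategoryTheory.Abelian

namespace Groth.Agent.H6

namespace LC

variable {R : Type u} [CommRing R] [IsNoetherianRing R]

/-- `H^0_I(M)` is finitely generated -/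
theorem finite_H_zero (I : Ideal R) (M : Type u) [AddCommGroup M] [Module R M]
    [Module.Finite R M] : Module.Finite R (LocCoh.H I 0 M) := by
  haveI : IsNoetherian R M := isNoetherian_of_isNoetherianRing_of_finite R M
  haveI : Module.Finite R (DRing.torsionSub I (ModuleCat.of R M)) :=
    Module.Finite.of_fg (IsNoetherian.noetherian (DRing.torsionSub I M))
  exact Module.Finite.equiv (zeroEquiv I (ModuleCat.of R M)).symm

/-- annihilators along the long exact sequence -/
theorem mul_smul_eq_zero_of_les {S : ShortComplex (ModuleCat.{u} R)} (hS : S.ShortExact)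
    (I : Ideal R) (i : ℕ) (a b : R)
    (ha : ∀ w : (localCohomology I i).obj S.X₂, a • w = 0)
    (hb : ∀ v : (localCohomology I (i + 1)).obj S.X₁, b • v = 0)
    (z : (localCohomology I i).obj S.X₃) : (a * b) • z = 0 := by
  have h1 : δ hS I i (b • z) = 0 := by
    rw [(δ hS I i).map_smul]
    exact hb _
  obtain ⟨w, hw⟩ := exact₃ hS (b • z) h1
  rw [mul_smul, ← hw, ← map_smul, ha w, map_zero]

/-- **Faltings' lemma** -/
theorem finite_H_of_pow_smul_eq_zero (I : Ideal R) (n : ℕ) :
    ∀ (M : Type u) [AddCommGroup M] [Module R M] [Module.Finite R M] (k : ℕ),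
      (∀ i ≤ n, ∀ a ∈ I ^ k, ∀ x : LocCoh.H I i M, a • x = 0) →
      ∀ i ≤ n, Module.Finite R (LocCoh.H I i M) := by
  induction n with
  | zero =>
    intro M _ _ _ k _ i hi
    have : i = 0 := by omega
    subst this
    exact finite_H_zero I M
  | succ n ih =>
    intro M _ _ _ k hkill i hi
    cases i with
    | zero => exact finite_H_zero I M
    | succ j =>
      -- pass to `N = M/Γ_I(M)`
      have hbij := map_mkQ_torsionSub_bijective I M
      have hNtf := torsionSub_quot_eq_bot I M
      obtain ⟨x, hxI, hxreg⟩ := exists_isSMulRegular_of_torsionSub_eq_bot I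
        (M ⧸ DRing.torsionSub I M) hNtf
      -- annihilation for `N` in positive degrees
      have hkillN : ∀ i, i + 1 ≤ n + 1 → ∀ a ∈ I ^ k,
          ∀ z : LocCoh.H I (i + 1) (M ⧸ DRing.torsionSub I M), a • z = 0 := by
        intro i hi' a ha z
        obtain ⟨w, rfl⟩ := (hbij i).2 z
        rw [← map_smul, hkill (i + 1) hi' a ha w, map_zero]
      have hH0N : ∀ z : LocCoh.H I 0 (M ⧸ DRing.torsionSub I M), z = 0 := by
        intro z
        apply zeroToSelf_injective (ModuleCat.of R (M ⧸ DRing.torsionSub I M))
        rw [map_zero]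
        have := zeroToSelf_mem (I := I) (ModuleCat.of R (M ⧸ DRing.torsionSub I M)) z
        change _ ∈ DRing.torsionSub I (M ⧸ DRing.torsionSub I M) at this
        rw [hNtf] at this
        exact this
      have hkillN' : ∀ i ≤ n + 1, ∀ a ∈ I ^ k,
          ∀ z : LocCoh.H I i (M ⧸ DRing.torsionSub I M), a • z = 0 := by
        intro i hi' a ha z
        cases i with
        | zero => rw [hH0N z, smul_zero]
        | succ i' => exact hkillN i' hi' a ha z
      -- the regular element `y = x^k`
      have hyI : x ^ k ∈ I ^ k := Ideal.pow_mem_pow hxI k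
      have hyreg : IsSMulRegular (ModuleCat.of R (M ⧸ DRing.torsionSub I M)) (x ^ k) :=
        hxreg.pow k
      have hS := hyreg.smulShortComplex_shortExact
      -- annihilation for the quotient `Q = N/yN`
      have hkillQ : ∀ i ≤ n, ∀ c ∈ I ^ (k + k),
          ∀ z : LocCoh.H I i (QuotSMulTop (x ^ k) (M ⧸ DRing.torsionSub I M)), c • z = 0 := by
        intro i hi' c hc z
        rw [pow_add] at hc
        refine Submodule.mul_induction_on hc ?_ ?_
        · intro a ha b hb
          exact mul_smul_eq_zero_of_les hS I i a b (fun w => hkillN' i (by omega) a ha w)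
            (fun v => hkillN' (i + 1) (by omega) b hb v) z
        · intro c₁ c₂ h₁ h₂
          rw [add_smul, h₁, h₂, add_zero]
      have hfinQ := ih (QuotSMulTop (x ^ k) (M ⧸ DRing.torsionSub I M)) (k + k) hkillQ j (by omega)
      -- `δ : H^j(Q) → H^{j+1}(N)` is surjective
      have hδsurj : Function.Surjective (δ hS I j) := by
        intro z
        apply exact₁ hS z
        rw [ModuleCat.smulShortComplex_f_eq_smul_id]
        exact (map_smul_id (x ^ k) z).trans (hkillN' (j + 1) hi (x ^ k) hyI z)
      have hfinN : Module.Finite R (LocCoh.H I (j + 1) (M ⧸ DRing.torsionSub I M)) := by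
        haveI : Module.Finite R ((localCohomology I j).obj
            ((ModuleCat.of R (M ⧸ DRing.torsionSub I M)).smulShortComplex (x ^ k)).X₃) := hfinQ
        exact Module.Finite.of_surjective (δ hS I j) hδsurj
      exact Module.Finite.equiv (LinearEquiv.ofBijective _ (hbij j)).symm

end LC

end Groth.Agent.H6
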