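import Mathlib
import Groth.Agent.Lib.Helper6.InjHullLocal

/-! Completion-like extensions `R → R'` of local rings (flat, `m R' = m'`, every element of `R'`
is approximated by elements of `R` modulo any power of `m`): torsion modules and injective hulls. -/

universe u
set_option linter.unusedSectionVars false
open IsLocalRing InjHull TensorProduct

namespace Groth.Agent.H6.CanCompl

variable (R R' : Type u) [CommRing R] [CommRing R'] [Algebra R R']

/-- restriction of scalars along a flat map preserves injective modules -/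
theorem injective_restrict_of_flat [Module.Flat R R'] (Q : Type u) [AddCommGroup Q] [Module R' Q]
    [Module R Q] [IsScalarTower R R' Q] [Module.Injective R' Q] : Module.Injective R Q := by
  apply Module.Baer.injective
  intro I g
  -- the base change of the inclusion `I → R`
  have hinj : Function.Injective (I.subtype.baseChange R') :=
    Module.Flat.lTensor_preserves_injective_linearMap I.subtype Subtype.val_injective
  obtain ⟨h, hh⟩ := Module.Injective.extension_property R' Q _ _ (I.subtype.baseChange R') hinj
    (LinearMap.liftBaseChange R' g)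
  refine ⟨(h.restrictScalars R) ∘ₗ (TensorProduct.mk R R' R 1), fun x hx => ?_⟩
  have := LinearMap.congr_fun hh ((1 : R') ⊗ₜ[R] (⟨x, hx⟩ : I))
  simp only [LinearMap.comp_apply, LinearMap.baseChange_tmul, Submodule.subtype_apply,
    LinearMap.liftBaseChange_tmul, one_smul] at this
  simpa using this

variable [IsLocalRing R] [IsLocalRing R']

/-- completion-like extension of local rings -/
structure IsComplLike : Prop where
  flat : Module.Flat R R'
  map_max : (maximalIdeal R).map (algebraMap R R') = maximalIdeal R'
  approx : ∀ (k : ℕ) (r' : R'), ∃ r : R,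
    r' - algebraMap R R' r ∈ ((maximalIdeal R) ^ k).map (algebraMap R R')

variable {R R'}

namespace IsComplLike

variable (hc : IsComplLike R R')
include hc

theorem isLocalHom : IsLocalHom (algebraMap R R') := by
  apply ((IsLocalRing.local_hom_TFAE (algebraMap R R')).out 0 2).mpr
  rw [hc.map_max]

theorem faithfullyFlat : Module.FaithfullyFlat R R' := by
  haveI := hc.flat
  haveI := hc.isLocalHom
  exact Module.FaithfullyFlat.of_flat_of_isLocalHom

/-- elements of `(m^k) R'` kill elements killed by `m^k` -/
theorem smul_eq_zero_of_mem {X : Type*} [AddCommGroup X] [Module R' X] [Module R X]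
    [IsScalarTower R R' X] (k : ℕ) (x : X) (hx : ∀ a ∈ maximalIdeal R ^ k, a • x = 0)
    (s : R') (hs : s ∈ ((maximalIdeal R) ^ k).map (algebraMap R R')) : s • x = 0 := by
  unfold Ideal.map at hs
  induction hs using Submodule.span_induction with
  | mem s hs =>
    obtain ⟨a, ha, rfl⟩ := hs
    rw [algebraMap_smul]
    exact hx a ha
  | zero => exact zero_smul _ _
  | add s t _ _ hs ht => rw [add_smul, hs, ht, add_zero]
  | smul c s _ hs => rw [smul_eq_mul, mul_smul, hs, smul_zero]

/-- on torsion elements, scalars of `R'` act through approximations in `R` -/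
theorem exists_smul_eq {X : Type*} [AddCommGroup X] [Module R' X] [Module R X]
    [IsScalarTower R R' X] (k : ℕ) (r' : R') :
    ∃ r : R, ∀ x : X, (∀ a ∈ maximalIdeal R ^ k, a • x = 0) → r' • x = r • x := by
  obtain ⟨r, hr⟩ := hc.approx k r'
  refine ⟨r, fun x hx => ?_⟩
  have := hc.smul_eq_zero_of_mem k x hx _ hr
  rw [sub_smul, algebraMap_smul, sub_eq_zero] at this
  exact this

/-- **L1**: `R`-linear maps out of torsion `R'`-modules are `R'`-linear -/
theorem map_smul_of_powerTorsion {X Y : Type*} [AddCommGroup X] [Module R' X] [Module R X]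
    [IsScalarTower R R' X] [AddCommGroup Y] [Module R' Y] [Module R Y] [IsScalarTower R R' Y]
    (hX : LocCoh.IsPowerTorsion (maximalIdeal R) X) (φ : X →ₗ[R] Y) (r' : R') (x : X) :
    φ (r' • x) = r' • φ x := by
  obtain ⟨k, hk⟩ := hX x
  obtain ⟨r, hr⟩ := hc.approx k r'
  have h1 := hc.smul_eq_zero_of_mem k x hk _ hr
  have h2 := hc.smul_eq_zero_of_mem k (φ x) (fun a ha => by rw [← map_smul, hk a ha, map_zero]) _ hr
  rw [sub_smul, algebraMap_smul, sub_eq_zero] at h1 h2
  rw [h1, h2, map_smul]

/-- **L2**: a torsion module is its own base change -/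
theorem mk_bijective {H : Type u} [AddCommGroup H] [Module R H]
    (hH : LocCoh.IsPowerTorsion (maximalIdeal R) H) :
    Function.Bijective (TensorProduct.mk R R' H 1) := by
  haveI := hc.faithfullyFlat
  refine ⟨Module.FaithfullyFlat.tensorProduct_mk_injective (A := R) (B := R') H, ?_⟩
  intro z
  induction z using TensorProduct.induction_on with
  | zero => exact ⟨0, map_zero _⟩
  | tmul r' x =>
    obtain ⟨k, hk⟩ := hH x
    obtain ⟨r, hr⟩ := hc.approx k r'
    refine ⟨r • x, ?_⟩
    have key : ∀ s ∈ ((maximalIdeal R) ^ k).map (algebraMap R R'), s ⊗ₜ[R] x = 0 := by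
      intro s hs
      unfold Ideal.map at hs
      induction hs using Submodule.span_induction with
      | mem s hs =>
        obtain ⟨a, ha, rfl⟩ := hs
        rw [Algebra.algebraMap_eq_smul_one, TensorProduct.smul_tmul, hk a ha,
          TensorProduct.tmul_zero]
      | zero => exact TensorProduct.zero_tmul _ _
      | add s t _ _ hs ht => rw [TensorProduct.add_tmul, hs, ht, add_zero]
      | smul c s _ hs =>
        rw [smul_eq_mul, ← smul_eq_mul, ← TensorProduct.smul_tmul', hs, smul_zero]
    have := key _ hr
    rw [TensorProduct.sub_tmul, sub_eq_zero] at this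
    rw [this, TensorProduct.mk_apply, Algebra.algebraMap_eq_smul_one, TensorProduct.smul_tmul]
  | add a b ha hb =>
    obtain ⟨x, rfl⟩ := ha
    obtain ⟨y, rfl⟩ := hb
    exact ⟨x + y, map_add _ _ _⟩

variable [IsNoetherianRing R] [IsNoetherianRing R']

/-- **A1**: an injective hull of the residue field of `R'` is, over `R`, an injective hull of the
residue field of `R` -/
theorem exists_hull_restrict (E' : Type u) [AddCommGroup E'] [Module R' E'] [Module R E']
    [IsScalarTower R R' E'] (f' : (R' ⧸ maximalIdeal R') →ₗ[R'] E') (hf' : IsInjectiveHull f') :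
    ∃ f'' : (R ⧸ maximalIdeal R) →ₗ[R] E', IsInjectiveHull f'' := by
  haveI := hc.flat
  haveI := hf'.isInjective
  haveI : Module.Injective R E' := injective_restrict_of_flat R R' E'
  -- the map `R/m → R'/m'`
  have hle : maximalIdeal R ≤ (maximalIdeal R').comap (algebraMap R R') := by
    rw [← Ideal.map_le_iff_le_comap, hc.map_max]
  let ι : (R ⧸ maximalIdeal R) →ₗ[R] (R' ⧸ maximalIdeal R') :=
    Submodule.liftQ _ (((maximalIdeal R').mkQ.restrictScalars R) ∘ₗ (Algebra.linearMap R R')) (by
      intro a ha
      rw [LinearMap.mem_ker, LinearMap.comp_apply, Algebra.linearMap_apply,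
        LinearMap.restrictScalars_apply, Submodule.mkQ_apply, Submodule.Quotient.mk_eq_zero]
      exact hle ha)
  have hι : ∀ a : R, ι (Ideal.Quotient.mk _ a) = Ideal.Quotient.mk _ (algebraMap R R' a) :=
    fun a => rfl
  have hιsurj : Function.Surjective ι := by
    intro y
    obtain ⟨r', rfl⟩ := Ideal.Quotient.mk_surjective y
    obtain ⟨r, hr⟩ := hc.approx 1 r'
    rw [pow_one, hc.map_max] at hr
    refine ⟨Ideal.Quotient.mk _ r, ?_⟩
    rw [hι]
    exact (Ideal.Quotient.eq.mpr hr).symm
  have hιinj : Function.Injective ι := by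
    rw [← LinearMap.ker_eq_bot, eq_bot_iff]
    intro y hy
    obtain ⟨a, rfl⟩ := Ideal.Quotient.mk_surjective y
    rw [LinearMap.mem_ker, hι, Ideal.Quotient.eq_zero_iff_mem] at hy
    rw [Submodule.mem_bot, Ideal.Quotient.eq_zero_iff_mem]
    by_contra ha
    have hu : IsUnit a := by
      by_contra hnu
      exact ha ((IsLocalRing.mem_maximalIdeal a).mpr hnu)
    have := hu.map (algebraMap R R')
    exact ((IsLocalRing.mem_maximalIdeal _).mp hy) this
  refine ⟨(f'.restrictScalars R) ∘ₗ ι, ⟨⟨?_, ?_⟩, inferInstance⟩⟩
  · exact hf'.injective.comp hιinj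
  · intro N hN
    obtain ⟨x, hxN, hx0⟩ := (Submodule.ne_bot_iff N).mp hN
    -- the `R'`-span of `x` meets the socle
    have hne : (Submodule.span R' {x}) ≠ ⊥ := by
      rw [Ne, Submodule.span_singleton_eq_bot]
      exact hx0
    have h1 := hf'.essential _ hne
    obtain ⟨y, hy, hy0⟩ := (Submodule.ne_bot_iff _).mp h1
    obtain ⟨hy1, c, hc'⟩ := hy
    obtain ⟨r', hr'⟩ := Submodule.mem_span_singleton.mp hy1
    subst hr'
    -- `x` is torsion
    obtain ⟨k, hk⟩ := IH.powerTorsion_of_hull (maximalIdeal R') hf' x
    have hk' : ∀ a ∈ maximalIdeal R ^ k, a • x = 0 := by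
      intro a ha
      rw [← algebraMap_smul R' a x]
      apply hk
      rw [← hc.map_max, ← Ideal.map_pow]
      exact Ideal.mem_map_of_mem _ ha
    obtain ⟨r, hr⟩ := hc.exists_smul_eq (X := E') k r'
    have hrx := hr x hk'
    rw [Ne, Submodule.eq_bot_iff]
    intro hbot
    apply hy0
    apply hbot
    refine ⟨?_, ?_⟩
    · rw [hrx]
      exact N.smul_mem r hxN
    · obtain ⟨c₀, rfl⟩ := hιsurj c
      exact ⟨c₀, hc'⟩

end IsComplLike

end Groth.Agent.H6.CanCompl
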