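import Groth.Agent.Lib.Helper6.CanGQ1
import Groth.Agent.Lib.Helper6.LDGor
import Groth.Agent.Lib.Helper6.Bass2
import Groth.Agent.S11614

/-! Existence of the canonical module for a homomorphic image of a Gorenstein local ring. -/

universe u
set_option linter.unusedSectionVars false
open InjHull IsLocalRing CategoryTheory CategoryTheory.Abelian TensorProduct

namespace Groth.Agent.H6

namespace CanGQ

theorem H_congr_ideal {R : Type u} [CommRing R] (M : Type u) [AddCommGroup M] [Module R M]
    (n : ℕ) {I J : Ideal R} (h : I = J) : Nonempty (LocCoh.H I n M ≃ₗ[R] LocCoh.H J n M) := by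
  subst h
  exact ⟨LinearEquiv.refl R _⟩

set_option maxHeartbeats 800000 in
/-- **S7708** -/
theorem exists_canonical (R : Type u) [CommRing R] [IsNoetherianRing R] [IsLocalRing R] (n : ℕ)
    (hn : ringKrullDim R = n) (E : Type u) [AddCommGroup E] [Module R E]
    (f : IsLocalRing.ResidueField R →ₗ[R] E) (hf : InjHull.IsInjectiveHull f) (S : Type u)
    [CommRing S] [LocCoh.IsGorensteinLocalRing S] (g : S →+* R) (hg : Function.Surjective g) :
    ∃ K : ModuleCat.{u} R, Module.Finite R K ∧
      Nonempty ((K →ₗ[R] E) ≃ₗ[R] LocCoh.H (IsLocalRing.maximalIdeal R) n R) := by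
  letI : Algebra S R := g.toAlgebra
  have hg' : Function.Surjective (algebraMap S R) := hg
  haveI : Module.Finite S R := Module.Finite.of_surjective (Algebra.linearMap S R) hg'
  letI : Module S E := Module.compHom E (algebraMap S R)
  haveI : IsScalarTower S R E := ⟨fun s r x => by
    change (s • r) • x = (algebraMap S R s) • (r • x)
    rw [Algebra.smul_def, mul_smul]⟩
  obtain ⟨N, hN⟩ := Bass.exists_ringKrullDim_eq (A := S)
  have hnN : n ≤ N := by
    have := ringKrullDim_le_of_surjective (algebraMap S R) hg'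
    rw [hn, hN] at this
    exact_mod_cast this
  obtain ⟨ES, _, _, fS, hfS⟩ := IH.exists_injectiveHull (R := S) (S ⧸ maximalIdeal S)
  obtain ⟨ld⟩ := LD.local_duality_gorenstein N hN ES fS hfS R (N - n) n (by omega)
  -- `X` is killed by the kernel
  have hIX : ∀ s ∈ RingHom.ker (algebraMap S R),
      ∀ α : Ext (ModuleCat.of S R) (ModuleCat.of S S) (N - n), s • α = 0 := fun s hs α =>
    Bass.smul_ext_eq_zero (ModuleCat.of S R) (ModuleCat.of S S) s (fun r => by
      change s • (r : R) = 0
      rw [Algebra.smul_def, hs, zero_mul]) (N - n) α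
  obtain ⟨c⟩ := CanGQ.exists_hull_equiv_torsion hg' hf hfS
  -- the kernel-torsion part of `ES`
  let T : Submodule S ES :=
    Submodule.torsionBySet S ES ((RingHom.ker (algebraMap S R) : Ideal S) : Set S)
  -- `Hom(X, T) ≅ Hom(X, ES)`
  let e2 : (Ext (ModuleCat.of S R) (ModuleCat.of S S) (N - n) →ₗ[S] T) ≃ₗ[S]
      (Ext (ModuleCat.of S R) (ModuleCat.of S S) (N - n) →ₗ[S] ES) :=
    LinearEquiv.ofBijective (LinearMap.compRight S T.subtype) (by
      constructor
      · intro l l' h
        ext x
        exact LinearMap.congr_fun h x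
      · intro l
        refine ⟨LinearMap.codRestrict T l (fun x => ?_), ?_⟩
        · rw [Submodule.mem_torsionBySet_iff]
          rintro ⟨s, hs⟩
          change s • l x = 0
          rw [← map_smul, hIX s hs, map_zero]
        · ext x
          rfl)
  let e1' : (Ext (ModuleCat.of S R) (ModuleCat.of S S) (N - n) →ₗ[S] E) ≃ₗ[S]
      (Ext (ModuleCat.of S R) (ModuleCat.of S S) (N - n) →ₗ[S] T) :=
    LinearEquiv.arrowCongr (LinearEquiv.refl S _) c
  let K := R ⊗[S] (Ext (ModuleCat.of S R) (ModuleCat.of S S) (N - n))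
  let e1 : (Ext (ModuleCat.of S R) (ModuleCat.of S S) (N - n) →ₗ[S] E) ≃ₗ[R] (K →ₗ[R] E) :=
    LinearMap.liftBaseChangeEquiv R
  -- independence of the base
  obtain ⟨φ, hφ⟩ := Groth.Agent.S11614.result S R (maximalIdeal S) R n
  have hmap : Ideal.map (algebraMap S R) (maximalIdeal S) = maximalIdeal R := by
    rcases Ideal.map_eq_top_or_isMaximal_of_surjective _ hg' (maximalIdeal.isMaximal S) with h | h
    · exfalso
      haveI : IsLocalHom (algebraMap S R) := IsLocalHom.of_surjective _ hg'
      have hle := IsLocalRing.map_maximalIdeal_le (algebraMap S R)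
      rw [h] at hle
      exact (maximalIdeal.isMaximal R).ne_top (top_le_iff.mp hle)
    · exact IsLocalRing.eq_maximalIdeal h
  obtain ⟨cst⟩ := H_congr_ideal R n hmap
  -- the chain
  let Ψ : (K →ₗ[R] E) ≃+ LocCoh.H (maximalIdeal R) n R :=
    e1.symm.toAddEquiv.trans (e1'.toAddEquiv.trans (e2.toAddEquiv.trans
      (ld.symm.toAddEquiv.trans (φ.symm.trans cst.toAddEquiv))))
  refine ⟨ModuleCat.of R K, inferInstanceAs (Module.Finite R (R ⊗[S] _)), ⟨?_⟩⟩
  refine AddEquiv.toLinearEquiv Ψ (fun r ψ => ?_)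
  obtain ⟨s, rfl⟩ := hg' r
  have h1 : e1.symm (algebraMap S R s • ψ) = s • e1.symm ψ := by
    rw [map_smul]
    ext x
    exact algebraMap_smul R s ((e1.symm ψ) x)
  have h2 : ∀ z : LocCoh.H (maximalIdeal S) n R, φ.symm (s • z) = algebraMap S R s • φ.symm z := by
    intro z
    apply φ.injective
    rw [hφ, AddEquiv.apply_symm_apply, AddEquiv.apply_symm_apply]
  change cst (φ.symm (ld.symm (e2 (e1' (e1.symm (algebraMap S R s • ψ)))))) =
    algebraMap S R s • cst (φ.symm (ld.symm (e2 (e1' (e1.symm ψ)))))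
  rw [h1, map_smul, map_smul, map_smul, h2, map_smul]

end CanGQ

end Groth.Agent.H6
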