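import Mathlib
import Groth.Agent.Lib.Helper6.CanCompl1
import Groth.Agent.Lib.Helper6.CanGQ2
import Groth.Agent.Lib.Helper6.LCProps
import Groth.Agent.Lib.Helper6.CanQuot
import Groth.Agent.S11617

/-! Base change of the canonical module along a completion-like extension. -/

universe u
set_option linter.unusedSectionVars false
open IsLocalRing InjHull TensorProduct

namespace Groth.Agent.H6.CanCompl

variable {R R' : Type u} [CommRing R] [CommRing R'] [Algebra R R'] [IsLocalRing R] [IsLocalRing R']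
  [IsNoetherianRing R] [IsNoetherianRing R']

set_option maxHeartbeats 800000 in
/-- **Theorem A**: `R' ⊗ K` is a canonical module of `R'` -/
theorem can_baseChange (hc : IsComplLike R R') (n : ℕ)
    (E : Type u) [AddCommGroup E] [Module R E]
    (f : IsLocalRing.ResidueField R →ₗ[R] E) (hf : IsInjectiveHull f)
    (K : Type u) [AddCommGroup K] [Module R K]
    (eK : (K →ₗ[R] E) ≃ₗ[R] LocCoh.H (maximalIdeal R) n R)
    (E' : Type u) [AddCommGroup E'] [Module R' E']
    (f' : IsLocalRing.ResidueField R' →ₗ[R'] E') (hf' : IsInjectiveHull f') :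
    Nonempty ((R' ⊗[R] K →ₗ[R'] E') ≃ₗ[R'] LocCoh.H (maximalIdeal R') n R') := by
  haveI := hc.flat
  letI : Module R E' := Module.compHom E' (algebraMap R R')
  haveI : IsScalarTower R R' E' := IsScalarTower.of_algebraMap_smul fun _ _ => rfl
  obtain ⟨f'', hf''⟩ := hc.exists_hull_restrict E' f' hf'
  obtain ⟨eE, -⟩ := IH.exists_equiv_of_hulls hf hf''
  let e1 : (R' ⊗[R] K →ₗ[R'] E') ≃ₗ[R'] (K →ₗ[R] E') := (LinearMap.liftBaseChangeEquiv R').symm
  let eX : (K →ₗ[R] E') ≃ₗ[R] LocCoh.H (maximalIdeal R) n R :=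
    (LinearEquiv.arrowCongr (LinearEquiv.refl R K) eE.symm).trans eK
  have hH : LocCoh.IsPowerTorsion (maximalIdeal R) (LocCoh.H (maximalIdeal R) n R) :=
    LC.isPowerTorsion (maximalIdeal R) n (ModuleCat.of R R)
  have hX : LocCoh.IsPowerTorsion (maximalIdeal R) (K →ₗ[R] E') := by
    intro x
    obtain ⟨k, hk⟩ := hH (eX x)
    refine ⟨k, fun a ha => ?_⟩
    apply eX.injective
    rw [map_smul, hk a ha, map_zero]
  let eH : LocCoh.H (maximalIdeal R) n R ≃ₗ[R] R' ⊗[R] LocCoh.H (maximalIdeal R) n R :=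
    LinearEquiv.ofBijective (TensorProduct.mk R R' _ 1) (hc.mk_bijective hH)
  let Φ : (K →ₗ[R] E') ≃ₗ[R] R' ⊗[R] LocCoh.H (maximalIdeal R) n R := eX.trans eH
  let Φ' : (K →ₗ[R] E') ≃ₗ[R'] R' ⊗[R] LocCoh.H (maximalIdeal R) n R :=
    { Φ with
      map_smul' := fun r' x => hc.map_smul_of_powerTorsion hX Φ.toLinearMap r' x }
  obtain ⟨e2⟩ := Groth.Agent.S11617.result R R' (maximalIdeal R) R n
  obtain ⟨e3⟩ := CanGQ.H_congr_ideal (R' ⊗[R] R) n hc.map_max
  let e4 : LocCoh.H (maximalIdeal R') n (R' ⊗[R] R) ≃ₗ[R'] LocCoh.H (maximalIdeal R') n R' :=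
    CanQ.lcCongr (maximalIdeal R') n (TensorProduct.AlgebraTensorModule.rid R R' R')
  exact ⟨e1.trans (Φ'.trans (e2.trans (e3.trans e4)))⟩

end Groth.Agent.H6.CanCompl
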