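import Mathlib
import Groth.Agent.Lib.Helper6.CanCompl2
import Groth.Agent.Lib.Helper6.FiberDict
import Groth.Agent.Lib.Helper6.FlatLoc
import Groth.Agent.Lib.Helper6.SkQuot
import Groth.Agent.Lib.Helper1.ComplFlat2
import Groth.Agent.Lib.Helper5.CA.Cohen9
import Groth.Agent.Lib.Helper5.FSm.PSReg
import Groth.Agent.S0342
import Groth.Agent.S0543

/-! Completion-like extensions: primes with zero-dimensional fibre, dimensions; the completion is
completion-like and a quotient of a Gorenstein local ring. -/

universe u
set_option linter.unusedSectionVars false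
open IsLocalRing InjHull TensorProduct

namespace Groth.Agent.H6.CanCompl

section Abstract

variable {R R' : Type u} [CommRing R] [CommRing R'] [Algebra R R'] [IsLocalRing R] [IsLocalRing R']
  [IsNoetherianRing R] [IsNoetherianRing R']

/-- a prime over `p` with zero-dimensional fibre: dimensions of localized modules are preserved -/
theorem IsComplLike.exists_prime_over (hc : IsComplLike R R') (p : Ideal R) [p.IsPrime] :
    ∃ (t : Ideal R') (_ : t.IsPrime), t.comap (algebraMap R R') = p ∧
      ∀ (M : Type u) [AddCommGroup M] [Module R M] [Module.Finite R M],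
        Module.supportDim (Localization.AtPrime t) (LocalizedModule t.primeCompl (R' ⊗[R] M)) =
          Module.supportDim (Localization.AtPrime (t.comap (algebraMap R R')))
            (LocalizedModule (t.comap (algebraMap R R')).primeCompl M) := by
  haveI := hc.flat
  haveI := hc.faithfullyFlat
  obtain ⟨t, ht, htp, -, h0⟩ := FiberDict.exists_fibre_zero (B := R) (C := R') p
  refine ⟨t, ht, htp, fun M _ _ _ => ?_⟩
  have := (FlatLoc.depth_and_dim_localized_tensor (A := R) (B := R') M R' t).2
  rw [this, h0, add_zero]

/-- the closed fibre of a completion-like extension has dimension zero -/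
theorem IsComplLike.supportDim_fib (hc : IsComplLike R R') :
    Module.supportDim R' (FlatDepth.Fib R R' R') = 0 := by
  have h1 : (FlatDepth.mS R R' • (⊤ : Submodule R' R')) = maximalIdeal R' := by
    unfold FlatDepth.mS
    rw [hc.map_max, smul_eq_mul, Ideal.mul_top]
  unfold FlatDepth.Fib
  rw [h1]
  change Module.supportDim R' (R' ⧸ maximalIdeal R') = 0
  rw [Module.supportDim_quotient_eq_ringKrullDim]
  letI : Field (R' ⧸ maximalIdeal R') := Ideal.Quotient.field _
  exact ringKrullDim_eq_zero_of_field _

/-- dimension of the base change of a finite module -/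
theorem IsComplLike.supportDim_tensor (hc : IsComplLike R R') (M : Type u) [AddCommGroup M]
    [Module R M] [Module.Finite R M] :
    Module.supportDim R' (R' ⊗[R] M) = Module.supportDim R M := by
  haveI := hc.flat
  haveI := hc.isLocalHom
  rw [FlatDim.supportDim_tensor R' M, hc.supportDim_fib, add_zero]

theorem IsComplLike.ringKrullDim_eq (hc : IsComplLike R R') : ringKrullDim R' = ringKrullDim R := by
  have h := hc.supportDim_tensor R
  rw [Module.supportDim_self_eq_ringKrullDim,
    Module.supportDim_eq_of_equiv (TensorProduct.AlgebraTensorModule.rid R R' R'),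
    Module.supportDim_self_eq_ringKrullDim] at h
  exact h

theorem IsComplLike.ringKrullDim_quotient_map (hc : IsComplLike R R') (I : Ideal R) :
    ringKrullDim (R' ⧸ I.map (algebraMap R R')) = ringKrullDim (R ⧸ I) := by
  have h := hc.supportDim_tensor (R ⧸ I)
  rw [Module.supportDim_quotient_eq_ringKrullDim,
    ← Module.supportDim_eq_of_equiv
      (Algebra.TensorProduct.quotIdealMapEquivTensorQuot R' I).toLinearEquiv,
    Module.supportDim_quotient_eq_ringKrullDim] at h
  exact h

end Abstract

section Completion

variable (R : Type u) [CommRing R] [IsLocalRing R] [IsNoetherianRing R]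

/-- the completion of a Noetherian local ring is completion-like -/
theorem complLike_adicCompletion :
    IsComplLike R (AdicCompletion (maximalIdeal R) R) where
  flat := inferInstance
  map_max := (AdicCompletion.maximalIdeal_eq_map (R := R)).symm
  approx := by
    intro k r'
    have hfg : (maximalIdeal R).FG := IsNoetherian.noetherian _
    obtain ⟨r, hr⟩ := Ideal.Quotient.mk_surjective (AdicCompletion.evalₐ (maximalIdeal R) k r')
    refine ⟨r, ?_⟩
    rw [Ideal.map_pow, ← Groth.Agent.H1.ComplFlat.evalₐ_eq_zero_iff (maximalIdeal R) hfg k,
      map_sub, ← hr, sub_eq_zero]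
    exact ((AdicCompletion.evalₐ (maximalIdeal R) k).commutes r).symm

/-- a complete Noetherian local ring is a quotient of a Gorenstein local ring -/
theorem exists_gorenstein_surj (A : Type u) [CommRing A] [IsNoetherianRing A] [IsLocalRing A]
    [IsAdicComplete (maximalIdeal A) A] :
    ∃ (S : Type u) (_ : CommRing S) (_ : LocCoh.IsGorensteinLocalRing S) (g : S →+* A),
      Function.Surjective g := by
  obtain ⟨Λ, _, n, f, hΛ, hsurj⟩ :=
    Groth.Agent.H5.Cohen9.cohen_structure A (IsNoetherian.noetherian _)
  have key : ∀ [IsRegularLocalRing Λ], ∃ (S : Type u) (_ : CommRing S)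
      (_ : LocCoh.IsGorensteinLocalRing S) (g : S →+* A), Function.Surjective g := by
    intro _
    haveI : IsRegularLocalRing (MvPowerSeries (Fin n) Λ) :=
      (Groth.Agent.H5.FSm.isRegularLocalRing_mvPowerSeries Λ n).1
    exact ⟨MvPowerSeries (Fin n) Λ, inferInstance, Groth.Agent.S0342.result _, f, hsurj⟩
  rcases hΛ with hΛ | hΛ
  · letI := hΛ.toField
    exact key
  · obtain ⟨hdom, hdvr, -, -⟩ := hΛ
    exact key

/-- the completion is complete with respect to its maximal ideal -/
theorem isAdicComplete_completion :
    IsAdicComplete (maximalIdeal (AdicCompletion (maximalIdeal R) R))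
      (AdicCompletion (maximalIdeal R) R) := by
  have hfg : (maximalIdeal R).FG := IsNoetherian.noetherian _
  rw [AdicCompletion.maximalIdeal_eq_map (R := R)]
  exact (IsAdicComplete.map_algebraMap_iff (R := R) (S := AdicCompletion (maximalIdeal R) R)
    (M := AdicCompletion (maximalIdeal R) R) (I := maximalIdeal R)).mpr
    (AdicCompletion.isAdicComplete hfg)

end Completion

end Groth.Agent.H6.CanCompl
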