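import Mathlib
import Groth.Agent.S0547
import Groth.Agent.S0543
import Groth.Agent.S0325
import Groth.Agent.S11617
import Groth.Agent.S11614
import Groth.Agent.Lib.Helper6.LCNonvanish
import Groth.Agent.Lib.Helper6.LCProps
import Groth.Agent.Lib.Helper6.DimLemmas
import Groth.Agent.Lib.Helper6.LCTorsion

set_option autoImplicit false
universe u
open IsLocalRing CategoryTheory TensorProduct

namespace Groth.Agent.H6.HLV

section General

variable {S : Type u} [CommRing S] [IsNoetherianRing S]

/-- for a module killed by `P`, local cohomology w.r.t. `a` and `a ⊔ P` have the same vanishing -/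
theorem subsingleton_sup_iff (a P : Ideal S) (i : ℕ) :
    Subsingleton (LocCoh.H a i (S ⧸ P)) ↔ Subsingleton (LocCoh.H (a ⊔ P) i (S ⧸ P)) := by
  obtain ⟨φ1, -⟩ := Groth.Agent.S11614.result S (S ⧸ P) a (S ⧸ P) i
  obtain ⟨φ2, -⟩ := Groth.Agent.S11614.result S (S ⧸ P) (a ⊔ P) (S ⧸ P) i
  have e : Ideal.map (algebraMap S (S ⧸ P)) (a ⊔ P) = Ideal.map (algebraMap S (S ⧸ P)) a := by
    rw [Ideal.map_sup]
    have : Ideal.map (algebraMap S (S ⧸ P)) P = ⊥ := by
      change Ideal.map (Ideal.Quotient.mk P) P = ⊥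
      exact Ideal.map_quotient_self P
    rw [this, sup_bot_eq]
  have key : ∀ J : Ideal (S ⧸ P), J = Ideal.map (algebraMap S (S ⧸ P)) a →
      LocCoh.H J i (S ⧸ P) ≃+ LocCoh.H (a ⊔ P) i (S ⧸ P) →
      (Subsingleton (LocCoh.H a i (S ⧸ P)) ↔ Subsingleton (LocCoh.H (a ⊔ P) i (S ⧸ P))) := by
    intro J hJ φ
    subst hJ
    exact ⟨fun h => (φ1.symm.trans φ).symm.toEquiv.subsingleton, fun h => (φ.symm.trans φ1).symm.toEquiv.subsingleton⟩
  exact key _ e φ2

end General

variable {R : Type u} [CommRing R] [IsNoetherianRing R] [IsLocalRing R]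

theorem main (n : ℕ) (hn : ringKrullDim R = n) (a : Ideal R) (ha : a ≠ ⊤)
    (hvan : Subsingleton (LocCoh.H a n R))
    (P : Ideal (AdicCompletion (maximalIdeal R) R)) [P.IsPrime]
    (hP : ringKrullDim ((AdicCompletion (maximalIdeal R) R) ⧸ P) = n) :
    1 ≤ ringKrullDim ((AdicCompletion (maximalIdeal R) R) ⧸
      (a.map (algebraMap R (AdicCompletion (maximalIdeal R) R)) ⊔ P)) := by
  set R' := AdicCompletion (maximalIdeal R) R with hR'
  haveI : IsNoetherianRing R' := Groth.Agent.S0543.result R _
  have hdim' : ringKrullDim R' = n := by rw [← hn]; exact Groth.Agent.S0547.result R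
  set a' := a.map (algebraMap R R') with ha'
  -- step 1: vanishing over the completion
  have h1 : Subsingleton (LocCoh.H a' n R') := by
    obtain ⟨e⟩ := Groth.Agent.S11617.result R R' a R n
    have h0 : Subsingleton (R' ⊗[R] LocCoh.H a n R) := by
      refine ⟨fun x y => ?_⟩
      have h0 : ∀ z : R' ⊗[R] LocCoh.H a n R, z = 0 := by
        intro z
        induction z using TensorProduct.induction_on with
        | zero => rfl
        | tmul r y => rw [Subsingleton.elim y 0, TensorProduct.tmul_zero]
        | add x y hx hy => rw [hx, hy, add_zero]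
      rw [h0 x, h0 y]
    have h2 : Subsingleton (LocCoh.H a' n (R' ⊗[R] R)) := e.symm.toEquiv.subsingleton
    exact LC.subsingleton_of_linearEquiv (TensorProduct.AlgebraTensorModule.rid R R' R') h2
  -- step 2: vanishing for R'/P
  have h2 : Subsingleton (LocCoh.H a' n (R' ⧸ P)) := by
    have hSC := LC.subSES_shortExact (R := R') (N := R') P
    have hvan : Subsingleton (LocCoh.H a' (n + 1) P) :=
      Groth.Agent.S0325.result R' a' n (le_of_eq hdim') P (n + 1) (Nat.lt_succ_self n)
    have hsurj := LC.map_g_surjective (I := a') hSC n hvan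
    refine ⟨fun x y => ?_⟩
    obtain ⟨x', rfl⟩ := hsurj x
    obtain ⟨y', rfl⟩ := hsurj y
    rw [Subsingleton.elim x' y']
  -- step 3: suppose the dimension is < 1
  by_contra hlt
  rw [not_le] at hlt
  set J := a' ⊔ P with hJ
  have hJm : J ≤ maximalIdeal R' := by
    refine sup_le ?_ (IsLocalRing.le_maximalIdeal (Ideal.IsPrime.ne_top'))
    have : a ≤ maximalIdeal R := IsLocalRing.le_maximalIdeal ha
    calc a' ≤ (maximalIdeal R).map (algebraMap R R') := Ideal.map_mono this
      _ = maximalIdeal R' := (AdicCompletion.maximalIdeal_eq_map (R := R)).symm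
  have hrad : J.radical = (maximalIdeal R').radical := by
    rw [Ideal.IsPrime.radical (maximalIdeal.isMaximal R').isPrime]
    apply le_antisymm
    · rw [Ideal.IsPrime.radical_le_iff (maximalIdeal.isMaximal R').isPrime]
      exact hJm
    · rw [Ideal.radical_eq_sInf]
      refine le_sInf ?_
      rintro q ⟨hJq, hq⟩
      haveI := hq
      -- q is maximal since dim R'/J ≤ 0
      by_contra hne
      have hqlt : q < maximalIdeal R' :=
        lt_of_le_of_ne (IsLocalRing.le_maximalIdeal hq.ne_top) (fun h => hne (h ▸ le_rfl))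
      have h3 := Dim.ringKrullDim_quotient_add_one_le hqlt
      have h4 : (0 : WithBot ℕ∞) ≤ ringKrullDim (R' ⧸ maximalIdeal R') := by
        haveI : Nontrivial (R' ⧸ maximalIdeal R') :=
          Ideal.Quotient.nontrivial_iff.mpr (Ideal.IsPrime.ne_top')
        exact ringKrullDim_nonneg_of_nontrivial
      have h5 : (1 : WithBot ℕ∞) ≤ ringKrullDim (R' ⧸ q) := by
        calc (1 : WithBot ℕ∞) = 0 + 1 := by simp
          _ ≤ ringKrullDim (R' ⧸ maximalIdeal R') + 1 := by gcongr
          _ ≤ _ := h3
      have h6 : ringKrullDim (R' ⧸ q) ≤ ringKrullDim (R' ⧸ J) :=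
        ringKrullDim_le_of_surjective (Ideal.Quotient.factor hJq)
          (Ideal.Quotient.factor_surjective hJq)
      exact absurd (lt_of_le_of_lt (h5.trans h6) hlt) (lt_irrefl _)
  -- step 4
  have h3 : Subsingleton (LocCoh.H J n (R' ⧸ P)) := (subsingleton_sup_iff a' P n).mp h2
  have e := (localCohomology.isoOfSameRadical hrad n).app (ModuleCat.of R' (R' ⧸ P))
  have h4 : Subsingleton (LocCoh.H (maximalIdeal R') n (R' ⧸ P)) :=
    e.toLinearEquiv.symm.toEquiv.subsingleton
  have h5 : Nontrivial (LocCoh.H (maximalIdeal R') n (R' ⧸ P)) := by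
    apply LC.nontrivial_H_of_supportDim_eq n (R' ⧸ P)
    rw [Module.supportDim_quotient_eq_ringKrullDim, hP]
  exact not_subsingleton _ h4

end Groth.Agent.H6.HLV
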