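import Mathlib
import Groth.Agent.Lib.Helper6.LCFaltings
import Groth.Agent.Lib.Helper6.LCTop
import Groth.Agent.Lib.Helper6.HLVEasy
import Groth.Agent.Lib.Helper6.DimLemmas
import Groth.Agent.Lib.Helper6.CMKit

/-! Towards `f_a^b(M) ≤ λ_a^b(M)`: the local claim. -/

universe u
set_option linter.style.haveILetI false
open CategoryTheory CategoryTheory.Limits Opposite CategoryTheory.Abelian
open Pointwise

namespace Groth.Agent.H6.AdjD

open LC

variable {R : Type u} [CommRing R] [IsNoetherianRing R]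

/-- `c` kills `H^i_a(M)` -/
def Kills (a : Ideal R) (c : R) (i : ℕ) (M : Type u) [AddCommGroup M] [Module R M] : Prop :=
  ∀ y : LocCoh.H a i M, c • y = 0

/-- a finitely generated module without `I`-torsion has a regular element in `I` avoiding finitely
many primes not containing `I` -/
theorem exists_regular_avoiding (I : Ideal R) (N : Type u) [AddCommGroup N]
    [Module R N] [Module.Finite R N] (h : DRing.torsionSub I N = ⊥)
    (F : Finset (Ideal R)) (hF : ∀ Q ∈ F, Q.IsPrime ∧ ¬ I ≤ Q) :
    ∃ x ∈ I, IsSMulRegular N x ∧ ∀ Q ∈ F, x ∉ Q := by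
  classical
  by_contra hcon
  push Not at hcon
  have hfin : (associatedPrimes R N).Finite := associatedPrimes.finite R N
  have hsub : (I : Set R) ⊆ ⋃ p ∈ ((hfin.toFinset ∪ F : Finset (Ideal R)) : Set (Ideal R)),
      (p : Set R) := by
    intro x hx
    by_cases hreg : IsSMulRegular N x
    · obtain ⟨Q, hQ, hxQ⟩ := hcon x hx hreg
      simp only [Finset.coe_union, Set.mem_union, Set.mem_iUnion]
      exact ⟨Q, Or.inr hQ, hxQ⟩
    · have hx' : x ∈ ⋃ p ∈ associatedPrimes R N, (p : Set R) := by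
        rw [biUnion_associatedPrimes_eq_compl_regular]
        exact hreg
      simp only [Set.mem_iUnion] at hx'
      obtain ⟨Q, hQ, hxQ⟩ := hx'
      simp only [Finset.coe_union, Set.mem_union, Set.mem_iUnion]
      exact ⟨Q, Or.inl (by simpa using hQ), hxQ⟩
  obtain ⟨p, hp, hle⟩ := (Ideal.subset_union_prime (s := hfin.toFinset ∪ F) (f := fun p => p) ⊥ ⊥
    (fun p hp _ _ => by
      rcases Finset.mem_union.mp hp with h1 | h1
      · exact (hfin.mem_toFinset.mp h1).isPrime
      · exact (hF p h1).1)).mp hsub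
  rcases Finset.mem_union.mp hp with hp | hp
  · rw [Set.Finite.mem_toFinset] at hp
    obtain ⟨hprime, n, hn⟩ := (isAssociatedPrime_iff).mp hp
    have hn0 : n ∈ DRing.torsionSub I N := by
      refine ⟨1, fun r hr => ?_⟩
      rw [pow_one] at hr
      have : r ∈ p := hle hr
      rw [hn, Submodule.mem_colon_singleton, Submodule.mem_bot] at this
      exact this
    rw [h, Submodule.mem_bot] at hn0
    apply hprime.ne_top
    rw [hn, hn0, Ideal.eq_top_iff_one, Submodule.mem_colon_singleton, smul_zero]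
    exact Submodule.zero_mem _
  · exact (hF p hp).2 hle

/-- an associated prime containing `a` yields a class in `H^0_a` not killed by elements outside
the prime -/
theorem not_kills_zero (a p : Ideal R) [hp : p.IsPrime] (M : Type u) [AddCommGroup M] [Module R M]
    (hass : p ∈ associatedPrimes R M) (c : R) (hc : c ∉ p) (hle : a ≤ p) : ¬ Kills a c 0 M := by
  intro hk
  obtain ⟨-, f, hf⟩ := (isAssociatedPrime_iff_exists_injective_linearMap p M).mp hass
  set z : M := f 1 with hz
  have hzT : z ∈ DRing.torsionSub a (ModuleCat.of R M) := by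
    refine ⟨1, fun r hr => ?_⟩
    rw [pow_one] at hr
    rw [hz, ← map_smul]
    have : r • (1 : R ⧸ p) = 0 := by
      rw [Algebra.smul_def, mul_one]
      exact Ideal.Quotient.eq_zero_iff_mem.mpr (hle hr)
    rw [this, map_zero]
  obtain ⟨ζ, hζ⟩ := LC.exists_of_mem_torsionSub (I := a) (ModuleCat.of R M) z hzT
  have h1 : c • z = 0 := by
    rw [← hζ, ← map_smul, hk ζ, map_zero]
  rw [hz, ← map_smul] at h1
  have h2 : c • (1 : R ⧸ p) = 0 := hf (h1.trans (map_zero f).symm)
  rw [Algebra.smul_def, mul_one] at h2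
  exact hc (Ideal.Quotient.eq_zero_iff_mem.mp h2)

section Local

variable [IsLocalRing R]

open IsLocalRing

/-- the case `dim R/p = 1` -/
theorem claimA_one (a p : Ideal R) [hp : p.IsPrime] (M : Type u) [AddCommGroup M] [Module R M]
    [Module.Finite R M] (hass : p ∈ associatedPrimes R M) (c : R) (hc : c ∉ p)
    (hrad : (a ⊔ p).radical = maximalIdeal R)
    (hdim : ringKrullDim (R ⧸ p) = ((1 : ℕ) : WithBot ℕ∞)) : ¬ Kills a c 1 M := by
  intro hk
  obtain ⟨-, f, hf⟩ := (isAssociatedPrime_iff_exists_injective_linearMap p M).mp hass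
  have hsd : Module.supportDim R (R ⧸ p) = ((1 : ℕ) : WithBot ℕ∞) := by
    rw [Module.supportDim_quotient_eq_ringKrullDim, hdim]
  -- `p` is not maximal
  have hpm : ¬ maximalIdeal R ≤ p := not_maximalIdeal_le_of_dim p 0 hdim
  obtain ⟨t, htm, htp⟩ := SetLike.not_le_iff_exists.mp hpm
  -- non-vanishing of `X = H^1_a(R/p)`
  have hX : Nontrivial (LocCoh.H a 1 (R ⧸ p)) := by
    by_contra hcon
    rw [not_nontrivial_iff_subsingleton, HLV.subsingleton_sup_iff a p 1] at hcon
    have hrad' : (a ⊔ p).radical = (maximalIdeal R).radical := by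
      rw [hrad, (Ideal.IsPrime.isRadical inferInstance).radical]
    have e := (localCohomology.isoOfSameRadical hrad' 1).app (ModuleCat.of R (R ⧸ p))
    have h4 : Subsingleton (LocCoh.H (maximalIdeal R) 1 (R ⧸ p)) :=
      e.toLinearEquiv.symm.toEquiv.subsingleton
    have h5 := LC.nontrivial_H_of_supportDim_eq 1 (R ⧸ p) hsd
    exact not_subsingleton _ h4
  -- divisibility by elements of the maximal ideal outside `p`
  have hdiv : ∀ t' ∈ maximalIdeal R, t' ∉ p → ∀ y : LocCoh.H a 1 (R ⧸ p),
      ∃ y' : LocCoh.H a 1 (R ⧸ p), t' • y' = y := by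
    intro t' ht'm ht'p y
    apply LC.smul_surjective_of_supportDim_lt a (R ⧸ p) 1 hsd.le t'
    have hreg : IsSMulRegular (R ⧸ p) t' := isSMulRegular_quot_prime p ht'p
    have h1 := Module.supportDim_quotSMulTop_succ_eq_supportDim hreg ht'm
    rw [hsd] at h1
    exact LC.withBot_lt_of_add_one_le _ 1 h1.le
  -- divisibility by `c`
  have hdivc : ∀ y : LocCoh.H a 1 (R ⧸ p), ∃ y' : LocCoh.H a 1 (R ⧸ p), c • y' = y := by
    by_cases hcm : c ∈ maximalIdeal R
    · exact hdiv c hcm hc
    · intro y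
      have hu : IsUnit c := by
        by_contra hnu
        exact hcm ((IsLocalRing.mem_maximalIdeal c).mpr hnu)
      obtain ⟨u, rfl⟩ := hu
      exact ⟨(↑u⁻¹ : R) • y, by rw [smul_smul, Units.mul_inv, one_smul]⟩
  -- the short exact sequence `0 → R/p → M → C → 0`
  have hS : (ShortComplex.mk (ModuleCat.ofHom f) (ModuleCat.ofHom (LinearMap.range f).mkQ)
      (by
        apply ModuleCat.hom_ext
        apply LinearMap.ext
        intro x
        exact (Submodule.Quotient.mk_eq_zero _).mpr ⟨x, rfl⟩)).ShortExact := by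
    refine ModuleCat.shortComplex_shortExact _ ?_ hf (Submodule.mkQ_surjective _)
    intro r
    change Submodule.mkQ _ r = 0 ↔ r ∈ Set.range f
    rw [Submodule.mkQ_apply, Submodule.Quotient.mk_eq_zero]
    rfl
  -- the connecting map is surjective
  have hδ : Function.Surjective (δ hS a 0) := by
    intro y
    apply exact₁ hS y
    obtain ⟨y', rfl⟩ := hdivc y
    rw [map_smul]
    exact hk _
  haveI : Module.Finite R (LocCoh.H a 0 (M ⧸ LinearMap.range f)) := finite_H_zero a _
  haveI hfinX : Module.Finite R (LocCoh.H a 1 (R ⧸ p)) := Module.Finite.of_surjective _ hδ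
  -- Nakayama
  have htop : (⊤ : Submodule R (LocCoh.H a 1 (R ⧸ p))) = ⊥ := by
    apply Submodule.eq_bot_of_le_smul_of_le_jacobson_bot (maximalIdeal R) _ Module.Finite.fg_top
    · intro y _
      obtain ⟨y', rfl⟩ := hdiv t htm htp y
      exact Submodule.smul_mem_smul htm trivial
    · exact IsLocalRing.maximalIdeal_le_jacobson ⊥
  have : Subsingleton (LocCoh.H a 1 (R ⧸ p)) :=
    (Submodule.subsingleton_iff R).mp (subsingleton_of_bot_eq_top htop.symm)
  exact not_subsingleton _ this

/-- a prime over `p + cR` of dimension one less -/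
theorem exists_prime_dim_pred (p : Ideal R) [hp : p.IsPrime] (n : ℕ)
    (hdim : ringKrullDim (R ⧸ p) = ((n + 1 : ℕ) : WithBot ℕ∞)) (c : R) (hcm : c ∈ maximalIdeal R)
    (hc : c ∉ p) :
    ∃ P : Ideal R, P.IsPrime ∧ p ⊔ Ideal.span {c} ≤ P ∧ ringKrullDim (R ⧸ P) = (n : WithBot ℕ∞) := by
  have hsd : Module.supportDim R (R ⧸ p) = ((n + 1 : ℕ) : WithBot ℕ∞) := by
    rw [Module.supportDim_quotient_eq_ringKrullDim, hdim]
  have hreg : IsSMulRegular (R ⧸ p) c := isSMulRegular_quot_prime p hc
  have h1 := Module.supportDim_quotSMulTop_succ_eq_supportDim hreg hcm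
  rw [hsd] at h1
  have h2 := withBot_eq_of_add_one_eq _ n h1
  obtain ⟨P, hP, hann, hdimP⟩ := exists_prime_ringKrullDim_eq (QuotSMulTop c (R ⧸ p)) n h2
  refine ⟨P, hP, ?_, hdimP⟩
  refine le_trans (sup_le ?_ ?_) hann
  · intro r hr
    rw [Module.mem_annihilator]
    intro w
    obtain ⟨w, rfl⟩ := Submodule.Quotient.mk_surjective _ w
    obtain ⟨d, rfl⟩ := Submodule.Quotient.mk_surjective _ w
    rw [← Submodule.Quotient.mk_smul, ← Submodule.Quotient.mk_smul, smul_eq_mul]
    have : (Submodule.Quotient.mk (r * d) : R ⧸ p) = 0 := by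
      rw [Submodule.Quotient.mk_eq_zero]
      exact p.mul_mem_right d hr
    rw [this]
    rfl
  · rw [Ideal.span_le, Set.singleton_subset_iff]
    change c ∈ Module.annihilator R (QuotSMulTop c (R ⧸ p))
    rw [Module.mem_annihilator]
    intro w
    obtain ⟨w, rfl⟩ := Submodule.Quotient.mk_surjective _ w
    rw [← Submodule.Quotient.mk_smul, Submodule.Quotient.mk_eq_zero]
    exact Submodule.smul_mem_pointwise_smul w c ⊤ trivial

/-- elements of `Γ_a(M)` are killed by anything killing `H^0_a(M)` -/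
theorem smul_torsionSub_eq_zero (a : Ideal R) (M : Type u) [AddCommGroup M] [Module R M] (c : R)
    (hk : Kills a c 0 M) (w : M) (hw : w ∈ DRing.torsionSub a M) : c • w = 0 := by
  obtain ⟨ζ, hζ⟩ := LC.exists_of_mem_torsionSub (I := a) (ModuleCat.of R M) w hw
  rw [← hζ, ← map_smul, hk ζ, map_zero]

/-- the inductive step -/
theorem claimA_step (a : Ideal R) (h : ℕ)
    (ih : ∀ (P : Ideal R) [P.IsPrime] (M' : Type u) [AddCommGroup M'] [Module R M']
      [Module.Finite R M'], P ∈ associatedPrimes R M' → ∀ c' : R, c' ∉ P →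
      (a ⊔ P).radical = maximalIdeal R →
      ringKrullDim (R ⧸ P) = ((h + 1 : ℕ) : WithBot ℕ∞) → ¬ ∀ i ≤ h + 1, Kills a c' i M')
    (p : Ideal R) [hp : p.IsPrime] (M : Type u) [AddCommGroup M] [Module R M]
    [Module.Finite R M] (hass : p ∈ associatedPrimes R M) (c : R) (hc : c ∉ p)
    (hrad : (a ⊔ p).radical = maximalIdeal R)
    (hdim : ringKrullDim (R ⧸ p) = ((h + 2 : ℕ) : WithBot ℕ∞)) :
    ¬ ∀ i ≤ h + 2, Kills a c i M := by
  classical
  intro hk
  haveI : IsNoetherian R M := isNoetherian_of_isNoetherianRing_of_finite R M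
  -- Step 1: pass to `Mb = M/Γ_a(M)`
  have hbij := map_mkQ_torsionSub_bijective a M
  have hNtf := torsionSub_quot_eq_bot a M
  have hH0N : ∀ z : LocCoh.H a 0 (M ⧸ DRing.torsionSub a M), z = 0 := by
    intro z
    apply zeroToSelf_injective (ModuleCat.of R (M ⧸ DRing.torsionSub a M))
    rw [map_zero]
    have := zeroToSelf_mem (I := a) (ModuleCat.of R (M ⧸ DRing.torsionSub a M)) z
    change _ ∈ DRing.torsionSub a (M ⧸ DRing.torsionSub a M) at this
    rw [hNtf] at this
    exact this
  have hkb : ∀ i ≤ h + 2, Kills a c i (M ⧸ DRing.torsionSub a M) := by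
    intro i hi z
    cases i with
    | zero => rw [hH0N z, smul_zero]
    | succ i' =>
      obtain ⟨w, rfl⟩ := (hbij i').2 z
      rw [← map_smul, hk (i' + 1) hi w, map_zero]
  -- `p` is associated to `Mb`
  obtain ⟨-, f, hf⟩ := (isAssociatedPrime_iff_exists_injective_linearMap p M).mp hass
  set fb : R ⧸ p →ₗ[R] (M ⧸ DRing.torsionSub a M) := (DRing.torsionSub a M).mkQ ∘ₗ f with hfb
  have hfbinj : Function.Injective fb := by
    rw [← LinearMap.ker_eq_bot, eq_bot_iff]
    intro d hd
    rw [LinearMap.mem_ker, hfb, LinearMap.comp_apply, Submodule.mkQ_apply,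
      Submodule.Quotient.mk_eq_zero] at hd
    have h1 := smul_torsionSub_eq_zero a M c (hk 0 (Nat.zero_le _)) (f d) hd
    rw [← map_smul] at h1
    have h2 : c • d = 0 := hf (h1.trans (map_zero f).symm)
    have hreg : IsSMulRegular (R ⧸ p) c := isSMulRegular_quot_prime p hc
    rw [Submodule.mem_bot]
    exact hreg (h2.trans (smul_zero c).symm)
  -- `a ≤ m`
  have ham : a ≤ maximalIdeal R := by
    rw [← hrad]
    exact le_trans le_sup_left Ideal.le_radical
  have hpm : p ≤ maximalIdeal R := IsLocalRing.le_maximalIdeal hp.ne_top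
  -- Step 2: the primes to avoid
  have hfinF := Ideal.finite_minimalPrimes_of_isNoetherianRing R (p ⊔ Ideal.span {c})
  have hF : ∀ Q ∈ hfinF.toFinset, Q.IsPrime ∧ ¬ a ≤ Q := by
    intro Q hQ
    rw [Set.Finite.mem_toFinset] at hQ
    haveI := hQ.1.1
    refine ⟨hQ.1.1, fun haQ => ?_⟩
    have h1 : a ⊔ p ≤ Q := sup_le haQ (le_trans le_sup_left hQ.1.2)
    have h2 : maximalIdeal R ≤ Q := by
      rw [← hrad]
      exact (Ideal.IsPrime.radical_le_iff hQ.1.1).mpr h1
    have hcQ : c ∈ Q := hQ.1.2 (Ideal.mem_sup_right (Ideal.mem_span_singleton_self c))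
    have hcm : c ∈ maximalIdeal R := IsLocalRing.le_maximalIdeal hQ.1.1.ne_top hcQ
    obtain ⟨P₃, hP₃, hle₃, hdim₃⟩ := exists_prime_dim_pred p (h + 1) hdim c hcm hc
    have h3 : Q ≤ P₃ := hQ.2 ⟨hP₃, hle₃⟩
      (le_trans (IsLocalRing.le_maximalIdeal hP₃.ne_top) h2)
    have h4 : ¬ maximalIdeal R ≤ P₃ := not_maximalIdeal_le_of_dim P₃ h hdim₃
    exact h4 (le_trans h2 h3)
  -- Step 3: the regular element
  obtain ⟨x, hxa, hxreg, hxF⟩ := exists_regular_avoiding a (M ⧸ DRing.torsionSub a M) hNtf
    hfinF.toFinset hF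
  have hxm : x ∈ maximalIdeal R := ham hxa
  -- Step 4: the submodule `L = (0 :_Mb p)`
  set L : Submodule R (M ⧸ DRing.torsionSub a M) :=
    Submodule.torsionBySet R (M ⧸ DRing.torsionSub a M) (p : Set R) with hL
  have hzL : fb 1 ∈ L := by
    rw [hL, Submodule.mem_torsionBySet_iff]
    rintro ⟨r, hr⟩
    change r • fb 1 = 0
    rw [← map_smul]
    have : r • (1 : R ⧸ p) = 0 := by
      rw [Algebra.smul_def, mul_one]
      exact Ideal.Quotient.eq_zero_iff_mem.mpr hr
    rw [this, map_zero]
  have hannL : Module.annihilator R L = p := by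
    apply le_antisymm
    · intro r hr
      rw [Module.mem_annihilator] at hr
      have h1 := hr ⟨fb 1, hzL⟩
      have h2 : r • fb 1 = 0 := congrArg Subtype.val h1
      rw [← map_smul] at h2
      have h3 : r • (1 : R ⧸ p) = 0 := hfbinj (h2.trans (map_zero fb).symm)
      rw [Algebra.smul_def, mul_one] at h3
      exact Ideal.Quotient.eq_zero_iff_mem.mp h3
    · intro r hr
      rw [Module.mem_annihilator]
      rintro ⟨w, hw⟩
      rw [hL, Submodule.mem_torsionBySet_iff] at hw
      exact Subtype.ext (hw ⟨r, hr⟩)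
  have hsdL : Module.supportDim R L = ((h + 1 + 1 : ℕ) : WithBot ℕ∞) := by
    rw [Module.supportDim_eq_ringKrullDim_quotient_annihilator, hannL, hdim]
  have hxregL : IsSMulRegular L x := by
    intro w w' hww'
    apply Subtype.ext
    apply hxreg
    exact congrArg Subtype.val hww'
  have h1 := Module.supportDim_quotSMulTop_succ_eq_supportDim (M := L) hxregL hxm
  rw [hsdL] at h1
  have hsdL₁ := withBot_eq_of_add_one_eq _ (h + 1) h1
  -- the map `L/xL → Mb/xMb` is injective
  have hginj : Function.Injective (QuotSMulTop.map x L.subtype) := by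
    rw [← LinearMap.ker_eq_bot, eq_bot_iff]
    intro w hw
    obtain ⟨⟨w, hwL⟩, rfl⟩ := Submodule.Quotient.mk_surjective _ w
    rw [LinearMap.mem_ker, QuotSMulTop.map_apply_mk, Submodule.Quotient.mk_eq_zero,
      Submodule.mem_smul_pointwise_iff_exists] at hw
    obtain ⟨v, -, hv⟩ := hw
    change x • v = w at hv
    have hvL : v ∈ L := by
      rw [hL, Submodule.mem_torsionBySet_iff]
      rintro ⟨r, hr⟩
      change r • v = 0
      apply hxreg
      change x • r • v = x • 0
      rw [smul_zero, smul_comm, hv]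
      rw [hL, Submodule.mem_torsionBySet_iff] at hwL
      exact hwL ⟨r, hr⟩
    rw [Submodule.mem_bot, Submodule.Quotient.mk_eq_zero,
      Submodule.mem_smul_pointwise_iff_exists]
    exact ⟨⟨v, hvL⟩, trivial, Subtype.ext hv⟩
  -- Step 5: the prime `P`
  obtain ⟨P, hP, hannP, hdimP⟩ := exists_prime_ringKrullDim_eq (QuotSMulTop x L) (h + 1) hsdL₁
  haveI := hP
  have hPmin : P ∈ (Module.annihilator R (QuotSMulTop x L)).minimalPrimes := by
    refine ⟨⟨hP, hannP⟩, ?_⟩
    rintro P' ⟨hP', hle'⟩ hP'P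
    by_contra hnot
    have hlt : P' < P := lt_of_le_not_ge hP'P hnot
    haveI := hP'
    have h2 := Dim.ringKrullDim_quotient_add_one_le hlt
    have h3 := CM.ringKrullDim_quotient_le_supportDim (QuotSMulTop x L) P' hle'
    rw [hdimP] at h2
    rw [hsdL₁] at h3
    have h4 := le_trans h2 h3
    have h5 : ((h + 1 + 1 : ℕ) : WithBot ℕ∞) ≤ ((h + 1 : ℕ) : WithBot ℕ∞) := by
      exact_mod_cast h4
    have h6 : h + 1 + 1 ≤ h + 1 := by exact_mod_cast h5
    omega
  have hassP : P ∈ associatedPrimes R (QuotSMulTop x (M ⧸ DRing.torsionSub a M)) :=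
    associatedPrimes.subset_of_injective hginj
      (Module.associatedPrimes.minimalPrimes_annihilator_subset_associatedPrimes R _ hPmin)
  have hpP : p ≤ P := by
    refine le_trans ?_ hannP
    intro r hr
    rw [Module.mem_annihilator]
    intro w
    obtain ⟨w, rfl⟩ := Submodule.Quotient.mk_surjective _ w
    rw [← Submodule.Quotient.mk_smul]
    have : r • w = 0 := by
      have := hannL.ge hr
      rw [Module.mem_annihilator] at this
      exact this w
    rw [this]
    rfl
  have hxP : x ∈ P := by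
    apply hannP
    rw [Module.mem_annihilator]
    intro w
    obtain ⟨w, rfl⟩ := Submodule.Quotient.mk_surjective _ w
    rw [← Submodule.Quotient.mk_smul, Submodule.Quotient.mk_eq_zero]
    exact Submodule.smul_mem_pointwise_smul w x ⊤ trivial
  -- Step 6: `c ∉ P`
  have hcP : c ∉ P := by
    intro hcP
    have hle : p ⊔ Ideal.span {c} ≤ P :=
      sup_le hpP (by rw [Ideal.span_le, Set.singleton_subset_iff]; exact hcP)
    obtain ⟨Q, hQ, hQP⟩ := Ideal.exists_minimalPrimes_le hle
    haveI := hQ.1.1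
    have hxQ : x ∉ Q := hxF Q (by rw [Set.Finite.mem_toFinset]; exact hQ)
    have hQltP : Q < P := lt_of_le_of_ne hQP (fun heq => hxQ (heq ▸ hxP))
    have hcQ : c ∈ Q := hQ.1.2 (Ideal.mem_sup_right (Ideal.mem_span_singleton_self c))
    have hpltQ : p < Q :=
      lt_of_le_of_ne (le_trans le_sup_left hQ.1.2) (fun heq => hc (heq ▸ hcQ))
    have h2 := Dim.ringKrullDim_quotient_add_one_le hQltP
    have h3 := Dim.ringKrullDim_quotient_add_one_le hpltQ
    rw [hdimP] at h2
    rw [hdim] at h3
    have h4 : ((h + 1 : ℕ) : WithBot ℕ∞) + 1 + 1 ≤ ((h + 2 : ℕ) : WithBot ℕ∞) :=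
      le_trans (by gcongr) h3
    have h5 : ((h + 1 + 1 + 1 : ℕ) : WithBot ℕ∞) ≤ ((h + 2 : ℕ) : WithBot ℕ∞) := by
      exact_mod_cast h4
    have h6 : h + 1 + 1 + 1 ≤ h + 2 := by exact_mod_cast h5
    omega
  -- Step 7: killing for `Mb/xMb`
  have hxreg' : IsSMulRegular (ModuleCat.of R (M ⧸ DRing.torsionSub a M)) x := hxreg
  have hS := hxreg'.smulShortComplex_shortExact
  have hkQ : ∀ i ≤ h + 1, Kills a (c * c) i (QuotSMulTop x (M ⧸ DRing.torsionSub a M)) := by
    intro i hi z
    exact mul_smul_eq_zero_of_les hS a i c c (fun w => hkb i (by omega) w)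
      (fun v => hkb (i + 1) (by omega) v) z
  -- Step 8: the radical
  have hradP : (a ⊔ P).radical = maximalIdeal R := by
    apply le_antisymm
    · rw [Ideal.IsPrime.radical_le_iff inferInstance]
      exact sup_le ham (IsLocalRing.le_maximalIdeal hP.ne_top)
    · rw [← hrad]
      exact Ideal.radical_mono (sup_le_sup_left hpP a)
  -- Step 9
  exact ih P (QuotSMulTop x (M ⧸ DRing.torsionSub a M)) hassP (c * c)
    (fun hcc => hcP ((hP.mem_or_mem hcc).elim id id)) hradP hdimP hkQ

/-- **Claim A**: in a local ring, with `a + p` primary to the maximal ideal and `p` associated to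
`M`, an element outside `p` cannot kill all `H^i_a(M)`, `i ≤ dim R/p`. -/
theorem claimA (a : Ideal R) : ∀ (h : ℕ) (p : Ideal R) [p.IsPrime] (M : Type u) [AddCommGroup M]
    [Module R M] [Module.Finite R M], p ∈ associatedPrimes R M → ∀ c : R, c ∉ p →
    (a ⊔ p).radical = maximalIdeal R →
    ringKrullDim (R ⧸ p) = ((h : ℕ) : WithBot ℕ∞) → ¬ ∀ i ≤ h, Kills a c i M := by
  intro h
  induction h with
  | zero =>
    intro p hp M _ _ _ hass c hc hrad hdim hk
    have hpm : p = maximalIdeal R := by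
      by_contra hne
      have hlt : p < maximalIdeal R :=
        lt_of_le_of_ne (IsLocalRing.le_maximalIdeal hp.ne_top) hne
      have h1 := Dim.ringKrullDim_quotient_add_one_le hlt
      rw [hdim] at h1
      have h2 : (0 : WithBot ℕ∞) ≤ ringKrullDim (R ⧸ maximalIdeal R) := by
        haveI : Nontrivial (R ⧸ maximalIdeal R) :=
          Ideal.Quotient.nontrivial_iff.mpr (Ideal.IsPrime.ne_top')
        exact ringKrullDim_nonneg_of_nontrivial
      have h3 : (0 : WithBot ℕ∞) + 1 ≤ ((0 : ℕ) : WithBot ℕ∞) := le_trans (by gcongr) h1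
      have h4 : ((1 : ℕ) : WithBot ℕ∞) ≤ ((0 : ℕ) : WithBot ℕ∞) := by
        simpa using h3
      have h5 : (1 : ℕ) ≤ 0 := by exact_mod_cast h4
      omega
    have hle : a ≤ p := by
      rw [hpm, ← hrad]
      exact le_trans le_sup_left Ideal.le_radical
    exact not_kills_zero a p M hass c hc hle (hk 0 le_rfl)
  | succ h ih =>
    intro p hp M _ _ _ hass c hc hrad hdim hk
    cases h with
    | zero => exact claimA_one a p M hass c hc hrad hdim (hk 1 le_rfl)
    | succ h =>
      exact claimA_step a h (fun P _ M' _ _ _ hassP c' hc' hradP hdimP =>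
        ih P M' hassP c' hc' hradP hdimP) p M hass c hc hrad hdim hk

end Local

end Groth.Agent.H6.AdjD
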