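import Mathlib
import Groth.Agent.Lib.Helper6.AdjD1
import Groth.Agent.S11618

/-! Towards `f_a^b(M) ≤ λ_a^b(M)`: localization at a minimal prime of `a + p`. -/

universe u
set_option linter.style.haveILetI false
open CategoryTheory CategoryTheory.Limits Opposite CategoryTheory.Abelian
open Pointwise

namespace Groth.Agent.H6.AdjD

open LC IsLocalRing

variable {R : Type u} [CommRing R] [IsNoetherianRing R]

/-- the dimension of `R_q/pR_q` is the height of `q/p` -/
theorem ringKrullDim_localization_quotient (p q : Ideal R) [hp : p.IsPrime] [hq : q.IsPrime]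
    (hpq : p ≤ q) :
    ringKrullDim (Localization.AtPrime q ⧸ p.map (algebraMap R (Localization.AtPrime q))) =
      (q.map (Ideal.Quotient.mk p)).height := by
  have hker : RingHom.ker (Ideal.Quotient.mk p) ≤ q := by rw [Ideal.mk_ker]; exact hpq
  haveI hQ : (q.map (Ideal.Quotient.mk p)).IsPrime :=
    Ideal.map_isPrime_of_surjective Ideal.Quotient.mk_surjective hker
  have hcomap : (q.map (Ideal.Quotient.mk p)).comap (Ideal.Quotient.mk p) = q := by
    rw [Ideal.comap_map_of_surjective _ Ideal.Quotient.mk_surjective, ← RingHom.ker_eq_comap_bot]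
    exact sup_eq_left.mpr hker
  have heq : Algebra.algebraMapSubmonoid (R ⧸ p) q.primeCompl =
      (q.map (Ideal.Quotient.mk p)).primeCompl := by
    ext d
    constructor
    · rintro ⟨x, hx, rfl⟩
      intro hmem
      apply hx
      rw [← hcomap]
      exact hmem
    · intro hd
      obtain ⟨x, rfl⟩ := Ideal.Quotient.mk_surjective d
      refine ⟨x, ?_, rfl⟩
      intro hxq
      exact hd (Ideal.mem_map_of_mem _ hxq)
  haveI : IsLocalization.AtPrime
      (Localization.AtPrime q ⧸ p.map (algebraMap R (Localization.AtPrime q)))
      (q.map (Ideal.Quotient.mk p)) := by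
    unfold IsLocalization.AtPrime
    rw [← heq]
    infer_instance
  exact IsLocalization.AtPrime.ringKrullDim_eq_height (q.map (Ideal.Quotient.mk p)) _

/-- killing passes to localizations -/
theorem kills_localization (a : Ideal R) (q : Ideal R) [hq : q.IsPrime] (M : Type u)
    [AddCommGroup M] [Module R M] (c : R) (i : ℕ) (hk : Kills a c i M) :
    Kills (a.map (algebraMap R (Localization.AtPrime q))) (algebraMap R (Localization.AtPrime q) c) i
      (LocalizedModule q.primeCompl M) := by
  obtain ⟨e⟩ := Groth.Agent.S11618.result R a q.primeCompl M i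
  intro y
  obtain ⟨w, rfl⟩ := e.surjective y
  rw [← map_smul]
  have : algebraMap R (Localization.AtPrime q) c • w = 0 := by
    induction w using LocalizedModule.induction_on with
    | h m s =>
      rw [algebraMap_smul, LocalizedModule.smul'_mk, hk m, LocalizedModule.zero_mk]
  rw [this, map_zero]

/-- **Claim B, base case**: for an associated prime `p` of `M` and `c ∉ p` killing `H^i_a(M)` for
`i < r`, one has `r ≤ ht((a+p)/p)`. -/
theorem claimB_zero (a p : Ideal R) [hp : p.IsPrime] (M : Type u) [AddCommGroup M] [Module R M]
    [Module.Finite R M] (hass : p ∈ associatedPrimes R M) (c : R) (hc : c ∉ p) (r : ℕ)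
    (hk : ∀ i < r, Kills a c i M) :
    (r : ℕ∞) ≤ ((a ⊔ p).map (Ideal.Quotient.mk p)).height := by
  set I := (a ⊔ p).map (Ideal.Quotient.mk p) with hI
  by_cases htop : I.height = ⊤
  · rw [htop]; exact le_top
  obtain ⟨h, hh⟩ := ENat.ne_top_iff_exists.mp htop
  obtain ⟨Qb, hQb, hIQb, hQbh⟩ := Ideal.exists_isPrime_height_eq hh.symm
  have hQbmin : Qb ∈ I.minimalPrimes :=
    Ideal.mem_minimalPrimes_of_height_le hIQb (by rw [hQbh, ← hh])
  -- the prime `q` of `R`
  set q : Ideal R := Qb.comap (Ideal.Quotient.mk p) with hq
  haveI hqprime : q.IsPrime := Ideal.comap_isPrime _ _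
  have hpq : p ≤ q := by
    intro x hx
    rw [hq, Ideal.mem_comap, Ideal.Quotient.eq_zero_iff_mem.mpr hx]
    exact zero_mem _
  have hapq : a ⊔ p ≤ q := by
    rw [hq, ← Ideal.map_le_iff_le_comap]
    exact hIQb
  have hmapq : q.map (Ideal.Quotient.mk p) = Qb :=
    Ideal.map_comap_of_surjective _ Ideal.Quotient.mk_surjective Qb
  have hker : RingHom.ker (Ideal.Quotient.mk p) = p := Ideal.mk_ker
  -- minimality of `q` over `a + p`
  have hqmin : ∀ P : Ideal R, P.IsPrime → a ⊔ p ≤ P → P ≤ q → P = q := by
    intro P hP haP hPq
    have hkP : RingHom.ker (Ideal.Quotient.mk p) ≤ P := by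
      rw [hker]; exact le_trans le_sup_right haP
    have hPb : (P.map (Ideal.Quotient.mk p)).IsPrime :=
      Ideal.map_isPrime_of_surjective Ideal.Quotient.mk_surjective hkP
    have h1 : Qb ≤ P.map (Ideal.Quotient.mk p) :=
      hQbmin.2 ⟨hPb, Ideal.map_mono haP⟩ (by rw [← hmapq]; exact Ideal.map_mono hPq)
    apply le_antisymm hPq
    intro x hx
    have h2 : Ideal.Quotient.mk p x ∈ P.map (Ideal.Quotient.mk p) := h1 hx
    have h3 : x ∈ (P.map (Ideal.Quotient.mk p)).comap (Ideal.Quotient.mk p) := h2
    rw [Ideal.comap_map_of_surjective _ Ideal.Quotient.mk_surjective,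
      ← RingHom.ker_eq_comap_bot, sup_eq_left.mpr hkP] at h3
    exact h3
  -- the localization
  haveI : IsNoetherianRing (Localization.AtPrime q) :=
    IsLocalization.isNoetherianRing q.primeCompl _ inferInstance
  haveI : Module.Finite (Localization.AtPrime q) (LocalizedModule q.primeCompl M) :=
    Module.Finite.of_isLocalizedModule q.primeCompl (LocalizedModule.mkLinearMap q.primeCompl M)
  have hd : Disjoint (q.primeCompl : Set R) (p : Set R) := by
    rw [Set.disjoint_left]
    intro x hx hxp
    exact hx (hpq hxp)
  haveI hpT : (p.map (algebraMap R (Localization.AtPrime q))).IsPrime :=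
    IsLocalization.isPrime_of_isPrime_disjoint q.primeCompl _ _ hp hd
  have hcomap : (p.map (algebraMap R (Localization.AtPrime q))).comap
      (algebraMap R (Localization.AtPrime q)) = p :=
    IsLocalization.under_map_of_isPrime_disjoint q.primeCompl _ hp hd
  have hassT : p.map (algebraMap R (Localization.AtPrime q)) ∈
      associatedPrimes (Localization.AtPrime q) (LocalizedModule q.primeCompl M) := by
    apply Module.associatedPrimes.mem_associatedPrimes_of_comap_mem_associatedPrimes_of_isLocalizedModule
      q.primeCompl (LocalizedModule.mkLinearMap q.primeCompl M)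
    rw [hcomap]
    exact hass
  have hcT : algebraMap R (Localization.AtPrime q) c ∉
      p.map (algebraMap R (Localization.AtPrime q)) := by
    intro hmem
    apply hc
    rw [← hcomap]
    exact hmem
  have hradT : (a.map (algebraMap R (Localization.AtPrime q)) ⊔
      p.map (algebraMap R (Localization.AtPrime q))).radical =
      maximalIdeal (Localization.AtPrime q) := by
    rw [← Ideal.map_sup, ← Localization.AtPrime.map_eq_maximalIdeal]
    apply le_antisymm
    · have hprime : (q.map (algebraMap R (Localization.AtPrime q))).IsPrime := by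
        rw [Localization.AtPrime.map_eq_maximalIdeal]; infer_instance
      rw [Ideal.IsPrime.radical_le_iff hprime]
      exact Ideal.map_mono hapq
    · rw [Ideal.radical_eq_sInf]
      apply le_sInf
      rintro P' ⟨hle', hP'⟩
      have h1 : a ⊔ p ≤ P'.comap (algebraMap R (Localization.AtPrime q)) :=
        Ideal.map_le_iff_le_comap.mp hle'
      haveI := hP'
      have h2 : P'.comap (algebraMap R (Localization.AtPrime q)) ≤ q := by
        intro x hx
        by_contra hxq
        have hu : IsUnit (algebraMap R (Localization.AtPrime q) x) :=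
          IsLocalization.map_units _ (⟨x, hxq⟩ : q.primeCompl)
        exact hP'.ne_top (Ideal.eq_top_of_isUnit_mem _ hx hu)
      have h3 := hqmin _ (Ideal.comap_isPrime _ _) h1 h2
      have h4 : (P'.comap (algebraMap R (Localization.AtPrime q))).map
          (algebraMap R (Localization.AtPrime q)) = P' :=
        IsLocalization.map_comap q.primeCompl _ P'
      rw [← h4]
      exact Ideal.map_mono h3.ge
  have hdimT : ringKrullDim (Localization.AtPrime q ⧸
      p.map (algebraMap R (Localization.AtPrime q))) = ((h : ℕ) : WithBot ℕ∞) := by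
    rw [ringKrullDim_localization_quotient p q hpq, hmapq, hQbh]
    rfl
  have hA := claimA (a.map (algebraMap R (Localization.AtPrime q))) h
    (p.map (algebraMap R (Localization.AtPrime q))) (LocalizedModule q.primeCompl M) hassT
    (algebraMap R (Localization.AtPrime q) c) hcT hradT hdimT
  rw [← hh]
  by_contra hcon
  rw [not_le] at hcon
  have hlt : h < r := by exact_mod_cast hcon
  exact hA (fun i hi => kills_localization a q M c i (hk i (by omega)))

end Groth.Agent.H6.AdjD
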