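import Mathlib
import Groth.Agent.Lib.Helper6.AdjD2
import Groth.Agent.Lib.Helper6.DepthInf
import Groth.Agent.Lib.Helper6.DepthKit
import Groth.Prelude.Def_W4bk5brsh7111920

/-! Towards `f_a^b(M) ≤ λ_a^b(M)`: induction on the depth of `M_p`. -/

universe u
set_option linter.style.haveILetI false
open CategoryTheory CategoryTheory.Limits Opposite CategoryTheory.Abelian
open Pointwise

namespace Groth.Agent.H6.AdjD

open LC IsLocalRing

variable {R : Type u} [CommRing R] [IsNoetherianRing R]

/-- a prime at which the local depth is zero is an associated prime -/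
theorem mem_ass_of_not_locDepthGE (p : Ideal R) [hp : p.IsPrime] (M : Type u) [AddCommGroup M]
    [Module R M] [Module.Finite R M] (hnot : ¬ Depth.LocDepthGE M p 1) :
    p ∈ associatedPrimes R M := by
  by_contra hass
  apply hnot
  intro i hi
  have hi0 : i = 0 := by omega
  subst hi0
  rw [LocalizedModule.subsingleton_iff]
  intro ζ
  by_contra hcon
  push Not at hcon
  set z : M := zeroToSelf p (ModuleCat.of R M) ζ with hz
  have hzmem : z ∈ DRing.torsionSub p M := zeroToSelf_mem (I := p) (ModuleCat.of R M) ζ
  obtain ⟨k, hk⟩ := hzmem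
  have hann : ∀ u : R, u • z = 0 → u ∈ p := by
    intro u hu
    by_contra hup
    apply hcon u hup
    apply zeroToSelf_injective (I := p) (ModuleCat.of R M)
    rw [map_smul, map_zero]
    exact hu
  haveI : IsNoetherian R M := isNoetherian_of_isNoetherianRing_of_finite R M
  haveI : Module.Finite R (Submodule.span R {z}) :=
    Module.Finite.of_fg (IsNoetherian.noetherian _)
  have hmin : p ∈ (Module.annihilator R (Submodule.span R {z})).minimalPrimes := by
    refine ⟨⟨hp, ?_⟩, ?_⟩
    · intro u hu
      rw [Module.mem_annihilator] at hu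
      have h1 := hu ⟨z, Submodule.mem_span_singleton_self z⟩
      exact hann u (congrArg Subtype.val h1)
    · rintro P' ⟨hP', hle'⟩ _
      apply hP'.le_of_pow_le (n := k)
      refine le_trans ?_ hle'
      intro u hu
      rw [Module.mem_annihilator]
      rintro ⟨w, hw⟩
      obtain ⟨b, rfl⟩ := Submodule.mem_span_singleton.mp hw
      apply Subtype.ext
      change u • b • z = 0
      rw [smul_comm, hk u hu, smul_zero]
  have h1 := Module.associatedPrimes.minimalPrimes_annihilator_subset_associatedPrimes R _ hmin
  exact hass (associatedPrimes.subset_of_injective (Submodule.injective_subtype _) h1)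

/-- positive local depth gives an element of `p` regular on `M_p` -/
theorem exists_loc_regular (p : Ideal R) [hp : p.IsPrime] (M : Type u) [AddCommGroup M]
    [Module R M] [Module.Finite R M]
    (h1 : (1 : ℕ∞) ≤ LocCoh.depth (Localization.AtPrime p) (LocalizedModule p.primeCompl M)) :
    ∃ x ∈ p, IsSMulRegular (LocalizedModule p.primeCompl M)
      (algebraMap R (Localization.AtPrime p) x) := by
  haveI : IsNoetherianRing (Localization.AtPrime p) :=
    IsLocalization.isNoetherianRing p.primeCompl _ inferInstance
  haveI : Module.Finite (Localization.AtPrime p) (LocalizedModule p.primeCompl M) :=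
    Module.Finite.of_isLocalizedModule p.primeCompl (LocalizedModule.mkLinearMap p.primeCompl M)
  unfold LocCoh.depth at h1
  have h0 : Subsingleton (LocCoh.H (maximalIdeal (Localization.AtPrime p)) 0
      (LocalizedModule p.primeCompl M)) :=
    (Depth.le_idealDepth_iff (maximalIdeal (Localization.AtPrime p))
      (LocalizedModule p.primeCompl M) 1).mp (by exact_mod_cast h1) 0 Nat.zero_lt_one
  have htf : DRing.torsionSub (maximalIdeal (Localization.AtPrime p))
      (LocalizedModule p.primeCompl M) = ⊥ := by
    rw [eq_bot_iff]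
    intro w hw
    obtain ⟨ζ, hζ⟩ := LC.exists_of_mem_torsionSub (I := maximalIdeal (Localization.AtPrime p))
      (ModuleCat.of (Localization.AtPrime p) (LocalizedModule p.primeCompl M)) w hw
    rw [Submodule.mem_bot, ← hζ, Subsingleton.elim ζ 0, map_zero]
  obtain ⟨ξ, hξm, hξreg⟩ := exists_isSMulRegular_of_torsionSub_eq_bot
    (maximalIdeal (Localization.AtPrime p)) (LocalizedModule p.primeCompl M) htf
  obtain ⟨x, s, hxs⟩ := IsLocalization.exists_mk'_eq p.primeCompl ξ
  have hspec : ξ * algebraMap R (Localization.AtPrime p) s =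
      algebraMap R (Localization.AtPrime p) x := by
    rw [← hxs]
    exact IsLocalization.mk'_spec _ x s
  refine ⟨x, ?_, ?_⟩
  · rw [← IsLocalization.AtPrime.to_map_mem_maximal_iff (Localization.AtPrime p) p x, ← hspec]
    exact Ideal.mul_mem_right _ _ hξm
  · rw [← hspec]
    have hu : IsUnit (algebraMap R (Localization.AtPrime p) (s : R)) :=
      IsLocalization.map_units _ s
    exact hξreg.mul (hu.isSMulRegular _)

/-- the kernel of multiplication by an element regular on `M_p` is killed by an element
outside `p` -/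
theorem exists_kill_ker (p : Ideal R) [hp : p.IsPrime] (M : Type u) [AddCommGroup M]
    [Module R M] [Module.Finite R M] (x : R)
    (hreg : IsSMulRegular (LocalizedModule p.primeCompl M)
      (algebraMap R (Localization.AtPrime p) x)) :
    ∃ u : R, u ∉ p ∧ ∀ w ∈ LinearMap.ker (LinearMap.lsmul R M x), u • w = 0 := by
  haveI : IsNoetherian R M := isNoetherian_of_isNoetherianRing_of_finite R M
  set K := LinearMap.ker (LinearMap.lsmul R M x) with hK
  haveI : Module.Finite R K := Module.Finite.of_fg (IsNoetherian.noetherian _)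
  have hsub : Subsingleton (LocalizedModule p.primeCompl K) := by
    rw [LocalizedModule.subsingleton_iff]
    rintro ⟨w, hw⟩
    rw [hK, LinearMap.mem_ker, LinearMap.lsmul_apply] at hw
    have h1 : algebraMap R (Localization.AtPrime p) x • LocalizedModule.mk w (1 : p.primeCompl) =
        algebraMap R (Localization.AtPrime p) x • (0 : LocalizedModule p.primeCompl M) := by
      rw [algebraMap_smul, LocalizedModule.smul'_mk, hw, LocalizedModule.zero_mk, smul_zero]
    have h2 := hreg h1
    rw [← LocalizedModule.zero_mk (1 : p.primeCompl), LocalizedModule.mk_eq] at h2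
    obtain ⟨u, hu⟩ := h2
    rw [one_smul, one_smul, smul_zero] at hu
    exact ⟨u.1, u.2, Subtype.ext hu⟩
  have hnot : ¬ Module.annihilator R K ≤ p := by
    intro hle
    have h1 : (⟨p, hp⟩ : PrimeSpectrum R) ∈ Module.support R K := by
      rw [Module.mem_support_iff_of_finite]
      exact hle
    have h2 : Nontrivial (LocalizedModule p.primeCompl K) := h1
    exact not_subsingleton _ hsub
  obtain ⟨u, hu, hup⟩ := SetLike.not_le_iff_exists.mp hnot
  refine ⟨u, hup, fun w hw => ?_⟩
  rw [Module.mem_annihilator] at hu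
  exact congrArg Subtype.val (hu ⟨w, hw⟩)

/-- killing passes to the quotient by an element regular on `M_p` -/
theorem kills_quot (a : Ideal R) (M : Type u) [AddCommGroup M] [Module R M] (x c u : R) (r : ℕ)
    (hk : ∀ i < r, Kills a c i M)
    (hu : ∀ w ∈ LinearMap.ker (LinearMap.lsmul R M x), u • w = 0) :
    ∀ i, i + 1 < r → Kills a (c * (c * u)) i (M ⧸ LinearMap.range (LinearMap.lsmul R M x)) := by
  set φ : M →ₗ[R] M := LinearMap.lsmul R M x with hφ
  have hS1 := LinearMap.shortExact_shortComplexKer (f := φ.rangeRestrict)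
    φ.surjective_rangeRestrict
  have hS2 := subSES_shortExact (LinearMap.range φ)
  have hkerkill : ∀ (j : ℕ) (v : LocCoh.H a j (LinearMap.ker φ.rangeRestrict)), u • v = 0 := by
    intro j v
    apply LC.smul_eq_zero_of_smul_eq_zero (I := a) (i := j)
      (M := ModuleCat.of R (LinearMap.ker φ.rangeRestrict)) u
    rintro ⟨w, hw⟩
    rw [LinearMap.ker_rangeRestrict] at hw
    exact Subtype.ext (hu w hw)
  have hrange : ∀ i < r, ∀ z : LocCoh.H a i (LinearMap.range φ), (c * u) • z = 0 := by
    intro i hi z
    exact mul_smul_eq_zero_of_les hS1 a i c u (fun w => hk i hi w) (fun v => hkerkill (i + 1) v) z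
  intro i hi z
  exact mul_smul_eq_zero_of_les hS2 a i c (c * u) (fun w => hk i (by omega) w)
    (fun v => hrange (i + 1) hi v) z

/-- the depth of the localization drops by one modulo an element regular on `M_p` -/
theorem depth_quot (p : Ideal R) [hp : p.IsPrime] (M : Type u) [AddCommGroup M]
    [Module R M] [Module.Finite R M] (x : R) (hx : x ∈ p)
    (hreg : IsSMulRegular (LocalizedModule p.primeCompl M)
      (algebraMap R (Localization.AtPrime p) x)) :
    LocCoh.depth (Localization.AtPrime p)
        (LocalizedModule p.primeCompl (M ⧸ LinearMap.range (LinearMap.lsmul R M x))) + 1 =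
      LocCoh.depth (Localization.AtPrime p) (LocalizedModule p.primeCompl M) := by
  haveI : IsNoetherianRing (Localization.AtPrime p) :=
    IsLocalization.isNoetherianRing p.primeCompl _ inferInstance
  haveI : Module.Finite (Localization.AtPrime p) (LocalizedModule p.primeCompl M) :=
    Module.Finite.of_isLocalizedModule p.primeCompl (LocalizedModule.mkLinearMap p.primeCompl M)
  haveI : Module.Finite (Localization.AtPrime p)
      (LocalizedModule p.primeCompl (M ⧸ LinearMap.range (LinearMap.lsmul R M x))) :=
    Module.Finite.of_isLocalizedModule p.primeCompl (LocalizedModule.mkLinearMap p.primeCompl _)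
  set φ : M →ₗ[R] M := LinearMap.lsmul R M x with hφ
  set ξ := algebraMap R (Localization.AtPrime p) x with hξ
  have hξm : ξ ∈ maximalIdeal (Localization.AtPrime p) :=
    (IsLocalization.AtPrime.to_map_mem_maximal_iff (Localization.AtPrime p) p x).mpr hx
  have hsub : (LinearMap.range φ).localized p.primeCompl =
      ξ • (⊤ : Submodule (Localization.AtPrime p) (LocalizedModule p.primeCompl M)) := by
    ext y
    rw [Submodule.localized, Submodule.mem_localized', Submodule.mem_smul_pointwise_iff_exists]
    constructor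
    · rintro ⟨m, ⟨m', rfl⟩, s, rfl⟩
      refine ⟨IsLocalizedModule.mk' (LocalizedModule.mkLinearMap p.primeCompl M) m' s, trivial, ?_⟩
      rw [hξ, algebraMap_smul, ← IsLocalizedModule.mk'_smul]
      rfl
    · rintro ⟨n, -, rfl⟩
      obtain ⟨⟨m', s⟩, rfl⟩ := IsLocalizedModule.mk'_surjective p.primeCompl
        (LocalizedModule.mkLinearMap p.primeCompl M) n
      refine ⟨x • m', ⟨m', rfl⟩, s, ?_⟩
      rw [hξ, algebraMap_smul]
      exact IsLocalizedModule.mk'_smul _ x m' s
  have e1 := localizedQuotientEquiv p.primeCompl (LinearMap.range φ)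
  have e2 := Submodule.quotEquivOfEq _ _ hsub
  have hd := CM.idealDepth_eq_of_linearEquiv (maximalIdeal (Localization.AtPrime p))
    (e1.symm.trans e2)
  unfold LocCoh.depth
  rw [hd]
  exact Depth.idealDepth_quotSMulTop_add_one (maximalIdeal (Localization.AtPrime p))
    (LocalizedModule p.primeCompl M) ξ hξm hreg

/-- **Claim B** -/
theorem claimB (a p : Ideal R) [hp : p.IsPrime] : ∀ (t : ℕ) (M : Type u) [AddCommGroup M]
    [Module R M] [Module.Finite R M],
    LocCoh.depth (Localization.AtPrime p) (LocalizedModule p.primeCompl M) = (t : ℕ∞) →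
    ∀ c : R, c ∉ p → ∀ r : ℕ, (∀ i < r, Kills a c i M) →
    (r : ℕ∞) ≤ (t : ℕ∞) + ((a ⊔ p).map (Ideal.Quotient.mk p)).height := by
  intro t
  induction t with
  | zero =>
    intro M _ _ _ hdepth c hc r hk
    have hnot : ¬ Depth.LocDepthGE M p 1 := by
      rw [Depth.locDepthGE_iff, hdepth]
      simp
    have hass := mem_ass_of_not_locDepthGE p M hnot
    have := claimB_zero a p M hass c hc r hk
    simpa using this
  | succ t ih =>
    intro M _ _ _ hdepth c hc r hk
    have h1 : (1 : ℕ∞) ≤ LocCoh.depth (Localization.AtPrime p)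
        (LocalizedModule p.primeCompl M) := by
      rw [hdepth]
      exact_mod_cast Nat.le_add_left 1 t
    obtain ⟨x, hx, hreg⟩ := exists_loc_regular p M h1
    obtain ⟨u, hup, hu⟩ := exists_kill_ker p M x hreg
    have hd := depth_quot p M x hx hreg
    rw [hdepth] at hd
    have hd' : LocCoh.depth (Localization.AtPrime p)
        (LocalizedModule p.primeCompl (M ⧸ LinearMap.range (LinearMap.lsmul R M x))) =
        (t : ℕ∞) := by
      have h2 : ((t + 1 : ℕ) : ℕ∞) = (t : ℕ∞) + 1 := by push_cast; rfl
      rw [h2] at hd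
      exact (ENat.add_left_injective_of_ne_top ENat.one_ne_top) hd
    cases r with
    | zero => simp
    | succ r' =>
      have hc1 : c * (c * u) ∉ p := by
        intro hmem
        rcases hp.mem_or_mem hmem with h | h
        · exact hc h
        · rcases hp.mem_or_mem h with h | h
          · exact hc h
          · exact hup h
      have hk1 : ∀ i < r', Kills a (c * (c * u)) i
          (M ⧸ LinearMap.range (LinearMap.lsmul R M x)) :=
        fun i hi => kills_quot a M x c u (r' + 1) hk hu i (by omega)
      have := ih (M ⧸ LinearMap.range (LinearMap.lsmul R M x)) hd' (c * (c * u)) hc1 r' hk1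
      calc ((r' + 1 : ℕ) : ℕ∞) = (r' : ℕ∞) + 1 := by push_cast; rfl
        _ ≤ ((t : ℕ∞) + ((a ⊔ p).map (Ideal.Quotient.mk p)).height) + 1 := by gcongr
        _ = ((t + 1 : ℕ) : ℕ∞) + ((a ⊔ p).map (Ideal.Quotient.mk p)).height := by
          push_cast
          rw [add_right_comm]

/-- **B–S 9.3.5**: `f_a^b(M) ≤ λ_a^b(M)` -/
theorem main (a b : Ideal R) (M : Type u) [AddCommGroup M] [Module R M] [Module.Finite R M] :
    LocCoh.finDimRel a b M ≤ LocCoh.minAdjDepth a b M := by
  classical
  unfold LocCoh.minAdjDepth
  apply le_iInf₂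
  intro p hbp
  unfold LocCoh.adjDepth
  haveI := p.2
  by_contra hcon
  rw [not_le] at hcon
  have hne : LocCoh.depth (Localization.AtPrime p.asIdeal)
      (LocalizedModule p.asIdeal.primeCompl M) +
      ((a ⊔ p.asIdeal).map (Ideal.Quotient.mk p.asIdeal)).height ≠ ⊤ := ne_top_of_lt hcon
  rw [Ne, ENat.add_eq_top, not_or] at hne
  obtain ⟨t, ht⟩ := ENat.ne_top_iff_exists.mp hne.1
  obtain ⟨h, hh⟩ := ENat.ne_top_iff_exists.mp hne.2
  rw [← ht, ← hh] at hcon
  have hrad : ∀ i < t + h + 1, b ≤ (Module.annihilator R (LocCoh.H a i M)).radical := by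
    intro i hi
    by_contra hnot
    have h1 : LocCoh.finDimRel a b M ≤ (i : ℕ∞) := by
      unfold LocCoh.finDimRel
      exact iInf₂_le i hnot
    have h2 : ((t : ℕ∞) + (h : ℕ∞)) < (i : ℕ∞) := lt_of_lt_of_le hcon h1
    have h3 : t + h < i := by exact_mod_cast h2
    omega
  obtain ⟨s, hsb, hsp⟩ := SetLike.not_le_iff_exists.mp hbp
  have hex : ∀ i : ℕ, ∃ N : ℕ, i < t + h + 1 → s ^ N ∈ Module.annihilator R (LocCoh.H a i M) := by
    intro i
    by_cases hi : i < t + h + 1
    · obtain ⟨N, hN⟩ := hrad i hi hsb
      exact ⟨N, fun _ => hN⟩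
    · exact ⟨0, fun h' => absurd h' hi⟩
  choose Nf hNf using hex
  set N := (Finset.range (t + h + 1)).sup Nf with hN
  have hk : ∀ i < t + h + 1, Kills a (s ^ N) i M := by
    intro i hi y
    have h1 : Nf i ≤ N := Finset.le_sup (Finset.mem_range.mpr hi)
    have h2 := hNf i hi
    rw [Module.mem_annihilator] at h2
    obtain ⟨k, hk⟩ := Nat.exists_eq_add_of_le h1
    rw [hk, pow_add, mul_comm, mul_smul, h2 y, smul_zero]
  have hcp : s ^ N ∉ p.asIdeal := fun hmem => hsp (p.2.mem_of_pow_mem N hmem)
  have hB := claimB a p.asIdeal t M ht.symm (s ^ N) hcp (t + h + 1) hk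
  rw [← hh] at hB
  have h3 : t + h + 1 ≤ t + h := by exact_mod_cast hB
  omega

end Groth.Agent.H6.AdjD
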