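import Mathlib
import Groth.Agent.Lib.Helper1.AusBuchReg
import Groth.Agent.Lib.Helper6.LDLoc8
import Groth.Agent.Lib.Helper6.AdjD2
import Groth.Agent.S0342
import Groth.Prelude.Def_W4bk5brsh7111920

/-! Faltings' annihilator theorem over regular rings: preliminaries. -/

universe u
set_option linter.style.haveILetI false
open CategoryTheory CategoryTheory.Limits Opposite CategoryTheory.Abelian
open Pointwise

namespace Groth.Agent.H6.FR

open IsLocalRing

variable {S : Type u} [CommRing S] [IsRegularRing S]

/-- Auslander–Buchsbaum at a prime of a regular ring: `pd M_P ≥ t` forces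
`t + depth M_P ≤ ht P` -/
theorem ab_ineq (M : Type u) [AddCommGroup M] [Module S M] [Module.Finite S M]
    (P : Ideal S) [hP : P.IsPrime] (t : ℕ)
    (h : ¬ HasProjectiveDimensionLT
      (ModuleCat.of (Localization.AtPrime P) (LocalizedModule P.primeCompl M)) t) :
    (t : ℕ∞) + LocCoh.depth (Localization.AtPrime P) (LocalizedModule P.primeCompl M) ≤
      P.height := by
  haveI : Module.Finite (Localization.AtPrime P) (LocalizedModule P.primeCompl M) :=
    Module.Finite.of_isLocalizedModule P.primeCompl (LocalizedModule.mkLinearMap P.primeCompl M)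
  obtain ⟨hh, hhh⟩ := ENat.ne_top_iff_exists.mp (Ideal.height_ne_top_of_isPrime (I := P))
  have hT : ringKrullDim (Localization.AtPrime P) = ((hh : ℕ) : WithBot ℕ∞) := by
    rw [IsLocalization.AtPrime.ringKrullDim_eq_height P (Localization.AtPrime P), ← hhh]
    rfl
  haveI : Nontrivial (LocalizedModule P.primeCompl M) := by
    by_contra hcon
    rw [not_nontrivial_iff_subsingleton] at hcon
    apply h
    have hz : IsZero (ModuleCat.of (Localization.AtPrime P) (LocalizedModule P.primeCompl M)) :=
      ModuleCat.isZero_of_subsingleton _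
    haveI := (hasProjectiveDimensionLT_zero_iff_isZero
      (X := ModuleCat.of (Localization.AtPrime P) (LocalizedModule P.primeCompl M))).mpr hz
    exact hasProjectiveDimensionLT_of_ge _ 0 t (Nat.zero_le t)
  obtain ⟨e, -, h1, h2⟩ := Groth.Agent.H1.AB.exists_pd hh hT (LocalizedModule P.primeCompl M)
  have hte : t ≤ e := by
    by_contra hcon
    apply h
    haveI := h1
    exact hasProjectiveDimensionLT_of_ge _ (e + 1) t (by omega)
  have hab := Groth.Agent.H1.AB.auslander_buchsbaum (LocalizedModule P.primeCompl M) e h1 h2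
  rw [Groth.Agent.H1.AB.depth_eq_of_isRegularLocalRing hh hT] at hab
  rw [← hhh, hab]
  gcongr

/-- additivity of heights in a regular ring -/
theorem height_eq_add (P q : Ideal S) [hP : P.IsPrime] [hq : q.IsPrime] (hPq : P ≤ q) :
    q.height = P.height + (q.map (Ideal.Quotient.mk P)).height := by
  haveI : LocCoh.IsGorensteinLocalRing (Localization.AtPrime q) := Groth.Agent.S0342.result _
  obtain ⟨d, hd⟩ := ENat.ne_top_iff_exists.mp (Ideal.height_ne_top_of_isPrime (I := q))
  have hT : ringKrullDim (Localization.AtPrime q) = ((d : ℕ) : WithBot ℕ∞) := by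
    rw [IsLocalization.AtPrime.ringKrullDim_eq_height q (Localization.AtPrime q), ← hd]
    rfl
  have hdisj : Disjoint (q.primeCompl : Set S) (P : Set S) := by
    rw [Set.disjoint_left]
    intro x hx hxp
    exact hx (hPq hxp)
  haveI hPT : (P.map (algebraMap S (Localization.AtPrime q))).IsPrime :=
    IsLocalization.isPrime_of_isPrime_disjoint q.primeCompl _ _ hP hdisj
  obtain ⟨h, e, hh, he, hsum⟩ := LDL.ht_add_dim d hT (P.map (algebraMap S (Localization.AtPrime q)))
  rw [IsLocalization.height_map_of_disjoint q.primeCompl P hdisj] at hh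
  rw [AdjD.ringKrullDim_localization_quotient P q hPq] at he
  have he' : (q.map (Ideal.Quotient.mk P)).height = (e : ℕ∞) := by
    have : (((q.map (Ideal.Quotient.mk P)).height : ℕ∞) : WithBot ℕ∞) = ((e : ℕ∞) : WithBot ℕ∞) := he
    exact WithBot.coe_injective this
  rw [← hd, hh, he', ← hsum]
  push_cast
  rfl

/-- **S11659** -/
theorem vanishingIdeal_pd (R : Type u) [CommRing R] [IsRegularLocalRing R] (d : ℕ)
    (hd : ringKrullDim R = d) (M : Type u) [AddCommGroup M] [Module R M] [Module.Finite R M]
    (b : Ideal R) (t : ℕ)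
    (ht : (d : ℕ∞) ≤ (t : ℕ∞) + LocCoh.minAdjDepth (IsLocalRing.maximalIdeal R) b M) :
    b ≤ (PrimeSpectrum.vanishingIdeal {p : PrimeSpectrum R | ¬ HasProjectiveDimensionLE
      (ModuleCat.of (Localization.AtPrime p.asIdeal)
        (LocalizedModule p.asIdeal.primeCompl M)) t}) := by
  haveI : IsRegularRing R :=
    { isRegularLocalRing_localization := fun p _ =>
        Groth.Agent.H1.Reg.isRegularLocalRing_localization R p }
  haveI : LocCoh.IsGorensteinLocalRing R := Groth.Agent.S0342.result R
  rw [PrimeSpectrum.vanishingIdeal, le_iInf₂_iff]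
  intro p hp
  haveI := p.2
  by_contra hbp
  have hlam : LocCoh.minAdjDepth (IsLocalRing.maximalIdeal R) b M ≤
      LocCoh.adjDepth (IsLocalRing.maximalIdeal R) M p := by
    unfold LocCoh.minAdjDepth
    exact iInf₂_le p hbp
  have hab := ab_ineq M p.asIdeal (t + 1) hp
  obtain ⟨h, e, hh, he, hsum⟩ := LDL.ht_add_dim d hd p.asIdeal
  -- the height of `m/p`
  have hmax : (maximalIdeal R ⊔ p.asIdeal) = maximalIdeal R :=
    sup_eq_left.mpr (IsLocalRing.le_maximalIdeal p.2.ne_top)
  haveI : IsLocalRing (R ⧸ p.asIdeal) :=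
    IsLocalRing.of_surjective' (Ideal.Quotient.mk p.asIdeal) Ideal.Quotient.mk_surjective
  have hmap : (maximalIdeal R).map (Ideal.Quotient.mk p.asIdeal) = maximalIdeal (R ⧸ p.asIdeal) :=
    LDL.map_maximalIdeal_of_surjective (S := R) (A := R ⧸ p.asIdeal) Ideal.Quotient.mk_surjective
  have hht : ((maximalIdeal R ⊔ p.asIdeal).map (Ideal.Quotient.mk p.asIdeal)).height = (e : ℕ∞) := by
    rw [hmax, hmap]
    have h1 := IsLocalRing.maximalIdeal_height_eq_ringKrullDim (R := R ⧸ p.asIdeal)
    rw [he] at h1
    have : (((maximalIdeal (R ⧸ p.asIdeal)).height : ℕ∞) : WithBot ℕ∞) =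
        ((e : ℕ∞) : WithBot ℕ∞) := h1
    exact WithBot.coe_injective this
  unfold LocCoh.adjDepth at hlam
  rw [hht] at hlam
  rw [hh] at hab
  generalize LocCoh.depth (Localization.AtPrime p.asIdeal)
    (LocalizedModule p.asIdeal.primeCompl M) = D at hab hlam
  generalize LocCoh.minAdjDepth (maximalIdeal R) b M = L at ht hlam
  induction D using ENat.recTopCoe with
  | top => simp at hab
  | coe D =>
    induction L using ENat.recTopCoe with
    | top => simp at hlam
    | coe L =>
      have h1 : t + 1 + D ≤ h := by exact_mod_cast hab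
      have h2 : L ≤ D + e := by exact_mod_cast hlam
      have h3 : d ≤ t + L := by exact_mod_cast ht
      omega

end Groth.Agent.H6.FR
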