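import Mathlib
import Groth.Agent.Lib.Helper6.FaltReg
import Groth.Agent.Lib.Helper6.AdjD3
import Groth.Agent.S11682
import Groth.Agent.S11658
import Groth.Agent.Lib.Helper6.DepthOne
import Groth.Agent.Lib.Helper2.ProjDimOpen

/-! Faltings' annihilator theorem over regular rings. -/

universe u
set_option linter.style.haveILetI false
open CategoryTheory CategoryTheory.Limits Opposite CategoryTheory.Abelian
open Pointwise

namespace Groth.Agent.H6.FR

open IsLocalRing LC

section Descend

variable {R : Type u} [CommRing R] [IsNoetherianRing R]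

/-- powers of `x` act injectively on the local cohomology of `M_x` -/
theorem smul_pow_injective_away (a : Ideal R) (x : R) (M : Type u) [AddCommGroup M] [Module R M]
    (i n : ℕ) (z : LocCoh.H a i (LocalizedModule (Submonoid.powers x) M))
    (hz : x ^ n • z = 0) : z = 0 := by
  have hu : IsUnit (algebraMap R (Module.End R (LocalizedModule (Submonoid.powers x) M)) (x ^ n)) :=
    IsLocalizedModule.map_units (LocalizedModule.mkLinearMap (Submonoid.powers x) M)
      (⟨x ^ n, n, rfl⟩ : Submonoid.powers x)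
  obtain ⟨v, hv⟩ := hu
  have hcomp : (x ^ n • 𝟙 (ModuleCat.of R (LocalizedModule (Submonoid.powers x) M))) ≫
      ModuleCat.ofHom (↑v⁻¹ : Module.End R (LocalizedModule (Submonoid.powers x) M)) =
      𝟙 (ModuleCat.of R (LocalizedModule (Submonoid.powers x) M)) := by
    apply ModuleCat.hom_ext
    apply LinearMap.ext
    intro w
    change (↑v⁻¹ : Module.End R (LocalizedModule (Submonoid.powers x) M)) (x ^ n • w) = w
    have h1 : x ^ n • w = (v : Module.End R (LocalizedModule (Submonoid.powers x) M)) w := by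
      rw [hv]; rfl
    rw [h1, ← Module.End.mul_apply, Units.inv_mul, Module.End.one_apply]
  have h2 := map_comp_hom (I := a) (i := i)
    (x ^ n • 𝟙 (ModuleCat.of R (LocalizedModule (Submonoid.powers x) M)))
    (ModuleCat.ofHom (↑v⁻¹ : Module.End R (LocalizedModule (Submonoid.powers x) M))) z
  rw [hcomp, map_smul_id] at h2
  have h3 : ((localCohomology a i).map
      (𝟙 (ModuleCat.of R (LocalizedModule (Submonoid.powers x) M)))).hom z = z := by
    rw [CategoryTheory.Functor.map_id]; rfl
  rw [h3] at h2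
  rw [h2, hz, map_zero]

/-- descending along `a ⊆ a + Rx` -/
theorem descend (a : Ideal R) (x : R) (M : Type u) [AddCommGroup M] [Module R M] (i : ℕ)
    (u u' : R) (n : ℕ) (h1 : ∀ y : LocCoh.H a i M, (u * x ^ n) • y = 0)
    (h2 : ∀ w : LocCoh.H (a ⊔ Ideal.span {x}) i M, u' • w = 0) (y : LocCoh.H a i M) :
    (u' * u) • y = 0 := by
  obtain ⟨hex, -, -⟩ := Groth.Agent.S11682.result R a x M i
  have h3 : ((localCohomology a i).map (ModuleCat.ofHom
      (LocalizedModule.mkLinearMap (Submonoid.powers x) M))).hom (u • y) = 0 := by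
    apply smul_pow_injective_away a x M i n
    rw [← map_smul, smul_smul, mul_comm, h1 y, map_zero]
  obtain ⟨w, hw⟩ := (hex (u • y)).mp h3
  rw [mul_smul, ← hw, ← map_smul, h2 w, map_zero]

/-- transport along an equality of ideals -/
theorem kills_of_eq {I I' : Ideal R} (h : I = I') (M : Type u) [AddCommGroup M] [Module R M]
    (i : ℕ) (s : R) (hk : ∃ n : ℕ, ∀ y : LocCoh.H I i M, s ^ n • y = 0) :
    ∃ n : ℕ, ∀ y : LocCoh.H I' i M, s ^ n • y = 0 := by
  subst h; exact hk

/-- descending along `a ⊆ a + J` -/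
theorem descend_ideal (M : Type u) [AddCommGroup M] [Module R M] (i : ℕ) (s : R)
    (F : Finset R) :
    ∀ a : Ideal R,
      (∀ a' : Ideal R, a ≤ a' → ∀ x ∈ F, ∃ n : ℕ, ∀ y : LocCoh.H a' i M, (s ^ n * x ^ n) • y = 0) →
      (∃ n : ℕ, ∀ y : LocCoh.H (a ⊔ Ideal.span (F : Set R)) i M, s ^ n • y = 0) →
      ∃ n : ℕ, ∀ y : LocCoh.H a i M, s ^ n • y = 0 := by
  classical
  induction F using Finset.induction_on with
  | empty =>
    intro a _ h2
    refine kills_of_eq ?_ M i s h2
    simp
  | insert x F' hx ih =>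
    intro a h1 h2
    have h3 : ∃ n : ℕ, ∀ y : LocCoh.H (a ⊔ Ideal.span {x}) i M, s ^ n • y = 0 := by
      apply ih (a ⊔ Ideal.span {x})
      · intro a' ha' z hz
        exact h1 a' (le_trans le_sup_left ha') z (Finset.mem_insert_of_mem hz)
      · refine kills_of_eq ?_ M i s h2
        rw [Finset.coe_insert, Ideal.span_insert, sup_assoc]
    obtain ⟨n', hn'⟩ := h3
    obtain ⟨n, hn⟩ := h1 a le_rfl x (Finset.mem_insert_self x F')
    refine ⟨n' + n, fun y => ?_⟩
    rw [pow_add]
    exact descend a x M i (s ^ n) (s ^ n') n hn hn' y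

end Descend

section Closed

variable {R : Type u} [CommRing R] [IsNoetherianRing R]

/-- the locus where the projective dimension of the stalk is at least `t` -/
def Zset (R : Type u) [CommRing R] (M : Type u) [AddCommGroup M] [Module R M] (t : ℕ) :
    Set (PrimeSpectrum R) :=
  {P | ¬ HasProjectiveDimensionLT (ModuleCat.of (Localization.AtPrime P.asIdeal)
    (LocalizedModule P.asIdeal.primeCompl M)) t}

theorem isClosed_Zset (M : Type u) [AddCommGroup M] [Module R M] [Module.Finite R M] (t : ℕ) :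
    IsClosed (Zset R M t) := by
  cases t with
  | zero =>
    have : Zset R M 0 = Module.support R M := by
      ext P
      change ¬ HasProjectiveDimensionLT _ 0 ↔ _
      rw [hasProjectiveDimensionLT_zero_iff_isZero, ModuleCat.isZero_iff_subsingleton,
        not_subsingleton_iff_nontrivial]
      rfl
    rw [this, Module.support_eq_zeroLocus]
    exact PrimeSpectrum.isClosed_zeroLocus _
  | succ k =>
    rw [← isOpen_compl_iff]
    have hopen := Groth.Agent.H2.isOpen_projectiveDimension_le R k M
    convert hopen using 1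
    ext P
    change ¬ ¬ HasProjectiveDimensionLT _ (k + 1) ↔ _
    rw [not_not, Set.mem_ofPred_eq, projectiveDimension_le_iff]

/-- a prime containing the vanishing ideal of `Z ∖ V(b)`, `Z` closed, contains a point of
`Z ∖ V(b)` -/
theorem exists_prime_le (Z : Set (PrimeSpectrum R)) (hZ : IsClosed Z) (b : Ideal R) (q : Ideal R)
    [hq : q.IsPrime]
    (hle : PrimeSpectrum.vanishingIdeal {P | P ∈ Z ∧ ¬ b ≤ P.asIdeal} ≤ q) :
    ∃ P₀ : PrimeSpectrum R, P₀ ∈ Z ∧ ¬ b ≤ P₀.asIdeal ∧ P₀.asIdeal ≤ q := by
  classical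
  set W : Set (PrimeSpectrum R) := {P | P ∈ Z ∧ ¬ b ≤ P.asIdeal} with hW
  set c' := PrimeSpectrum.vanishingIdeal W with hc'
  obtain ⟨P₀, hP₀min, hP₀q⟩ := Ideal.exists_minimalPrimes_le hle
  haveI hP₀ : P₀.IsPrime := hP₀min.1.1
  refine ⟨⟨P₀, hP₀⟩, ?_, ?_, hP₀q⟩
  · have h1 : PrimeSpectrum.vanishingIdeal Z ≤ c' :=
      PrimeSpectrum.vanishingIdeal_anti_mono (fun P hP => hP.1)
    have h2 : (⟨P₀, hP₀⟩ : PrimeSpectrum R) ∈
        PrimeSpectrum.zeroLocus (PrimeSpectrum.vanishingIdeal Z : Set R) := by
      rw [PrimeSpectrum.mem_zeroLocus]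
      exact le_trans h1 hP₀min.1.2
    rw [PrimeSpectrum.zeroLocus_vanishingIdeal_eq_closure, hZ.closure_eq] at h2
    exact h2
  · intro hb
    have hfin := Ideal.finite_minimalPrimes_of_isNoetherianRing R c'
    set F := hfin.toFinset.erase P₀ with hF
    have he : F.inf id ≤ c' := by
      intro x hx
      rw [hc', PrimeSpectrum.mem_vanishingIdeal]
      intro P hP
      have hcP : c' ≤ P.asIdeal := by
        intro y hy
        rw [hc', PrimeSpectrum.mem_vanishingIdeal] at hy
        exact hy P hP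
      obtain ⟨P₁, hP₁, hP₁P⟩ := Ideal.exists_minimalPrimes_le hcP
      have hne : P₁ ≠ P₀ := by
        rintro rfl
        exact hP.2 (le_trans hb hP₁P)
      have hmem : P₁ ∈ F := by
        rw [hF, Finset.mem_erase, Set.Finite.mem_toFinset]
        exact ⟨hne, hP₁⟩
      exact hP₁P ((Finset.inf_le hmem : F.inf id ≤ id P₁) hx)
    obtain ⟨P₁, hP₁F, hP₁le⟩ := (hP₀.inf_le' (s := F) (f := id)).mp (le_trans he hP₀min.1.2)
    rw [hF, Finset.mem_erase, Set.Finite.mem_toFinset] at hP₁F
    have : P₀ ≤ P₁ := hP₀min.2 hP₁F.2.1 hP₁le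
    exact hP₁F.1 (le_antisymm hP₁le this)

end Closed

section Regular

variable {S : Type u} [CommRing S] [IsRegularRing S]

/-- in a regular ring the grade of an ideal is the infimum of the heights of the primes over it -/
theorem idealDepth_self_eq (d : Ideal S) :
    LocCoh.idealDepth d S =
      ⨅ (q : PrimeSpectrum S) (_ : d ≤ q.asIdeal), q.asIdeal.height := by
  rw [Depth.idealDepth_eq_iInf]
  refine iInf_congr fun q => iInf_congr fun hq => ?_
  haveI := q.2
  rw [← DepthOne.depth_self_eq]
  obtain ⟨hh, hhh⟩ := ENat.ne_top_iff_exists.mp (Ideal.height_ne_top_of_isPrime (I := q.asIdeal))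
  have hT : ringKrullDim (Localization.AtPrime q.asIdeal) = ((hh : ℕ) : WithBot ℕ∞) := by
    rw [IsLocalization.AtPrime.ringKrullDim_eq_height q.asIdeal
      (Localization.AtPrime q.asIdeal), ← hhh]
    rfl
  rw [Groth.Agent.H1.AB.depth_eq_of_isRegularLocalRing hh hT, hhh]

/-- the primes over `a + c'` have large height -/
theorem height_ge (M : Type u) [AddCommGroup M] [Module S M] [Module.Finite S M]
    (a b : Ideal S) (r t : ℕ) (hr : (r : ℕ∞) ≤ LocCoh.minAdjDepth a b M)
    (q : Ideal S) [hq : q.IsPrime]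
    (hle : a ⊔ PrimeSpectrum.vanishingIdeal {P | P ∈ Zset S M t ∧ ¬ b ≤ P.asIdeal} ≤ q) :
    ((r + t : ℕ) : ℕ∞) ≤ q.height := by
  obtain ⟨P₀, hZ, hb, hP₀q⟩ := exists_prime_le (Zset S M t) (isClosed_Zset M t) b q
    (le_trans le_sup_right hle)
  haveI := P₀.2
  have h1 := ab_ineq M P₀.asIdeal t hZ
  have h2 : (r : ℕ∞) ≤ LocCoh.adjDepth a M P₀ := by
    refine le_trans hr ?_
    unfold LocCoh.minAdjDepth
    exact iInf₂_le P₀ hb
  unfold LocCoh.adjDepth at h2
  have h3 := height_eq_add P₀.asIdeal q hP₀q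
  have h4 : ((a ⊔ P₀.asIdeal).map (Ideal.Quotient.mk P₀.asIdeal)).height ≤
      (q.map (Ideal.Quotient.mk P₀.asIdeal)).height :=
    Ideal.height_mono (Ideal.map_mono (sup_le (le_trans le_sup_left hle) hP₀q))
  rw [h3]
  calc ((r + t : ℕ) : ℕ∞) = (r : ℕ∞) + (t : ℕ∞) := by push_cast; rfl
    _ ≤ (LocCoh.depth (Localization.AtPrime P₀.asIdeal)
          (LocalizedModule P₀.asIdeal.primeCompl M) +
          ((a ⊔ P₀.asIdeal).map (Ideal.Quotient.mk P₀.asIdeal)).height) + (t : ℕ∞) := by gcongr
    _ = ((t : ℕ∞) + LocCoh.depth (Localization.AtPrime P₀.asIdeal)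
          (LocalizedModule P₀.asIdeal.primeCompl M)) +
          ((a ⊔ P₀.asIdeal).map (Ideal.Quotient.mk P₀.asIdeal)).height := by
        rw [add_comm, add_assoc]
    _ ≤ P₀.asIdeal.height + (q.map (Ideal.Quotient.mk P₀.asIdeal)).height := by gcongr

/-- uniform annihilation of the local cohomology below `r` by powers of elements of `b` -/
def Good (M : Type u) [AddCommGroup M] [Module S M] (a b : Ideal S) (r : ℕ) : Prop :=
  ∀ i < r, ∀ s ∈ b, ∃ n : ℕ, ∀ y : LocCoh.H a i M, s ^ n • y = 0

omit [IsRegularRing S] in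
theorem adjDepth_mono (M : Type u) [AddCommGroup M] [Module S M] {a a' : Ideal S} (h : a ≤ a')
    (P : PrimeSpectrum S) : LocCoh.adjDepth a M P ≤ LocCoh.adjDepth a' M P := by
  unfold LocCoh.adjDepth
  gcongr

/-- the key induction on the bound for the projective dimensions off `V(b)` -/
theorem key : ∀ (t : ℕ) (M : Type u) [AddCommGroup M] [Module S M] [Module.Finite S M]
    (a b : Ideal S) (r : ℕ),
    (∀ P : PrimeSpectrum S, ¬ b ≤ P.asIdeal → HasProjectiveDimensionLT
      (ModuleCat.of (Localization.AtPrime P.asIdeal)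
        (LocalizedModule P.asIdeal.primeCompl M)) t) →
    (r : ℕ∞) ≤ LocCoh.minAdjDepth a b M → Good M a b r := by
  intro t
  induction t with
  | zero =>
    intro M _ _ _ a b r hpd hr i hi s hs
    have hrad : s ∈ (Module.annihilator S M).radical := by
      rw [Ideal.radical_eq_sInf, Ideal.mem_sInf]
      rintro P ⟨hle, hP⟩
      by_contra hsP
      have hbP : ¬ b ≤ P := fun h => hsP (h hs)
      have h1 := hpd ⟨P, hP⟩ hbP
      rw [hasProjectiveDimensionLT_zero_iff_isZero, ModuleCat.isZero_iff_subsingleton] at h1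
      have h2 : (⟨P, hP⟩ : PrimeSpectrum S) ∈ Module.support S M := by
        rw [Module.mem_support_iff_of_finite]
        exact hle
      have h3 : Nontrivial (LocalizedModule P.primeCompl M) := h2
      exact not_subsingleton _ h1
    obtain ⟨n, hn⟩ := hrad
    refine ⟨n, fun y => ?_⟩
    exact LC.smul_eq_zero_of_smul_eq_zero (I := a) (i := i) (M := ModuleCat.of S M) (s ^ n)
      (fun m => Module.mem_annihilator.mp hn m) y
  | succ t ih =>
    intro M _ _ _ a b r hpd hr i hi s hs
    set c' := PrimeSpectrum.vanishingIdeal {P | P ∈ Zset S M t ∧ ¬ b ≤ P.asIdeal} with hc'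
    -- (α)
    have hα : ∀ a' : Ideal S, a ≤ a' → Good M a' (b * c') r := by
      intro a' ha'
      apply ih M a' (b * c') r
      · intro P hP
        by_contra hnot
        have hbP : ¬ b ≤ P.asIdeal := fun h => hP (le_trans Ideal.mul_le_left h)
        have hcP : c' ≤ P.asIdeal := by
          intro x hx
          rw [hc', PrimeSpectrum.mem_vanishingIdeal] at hx
          exact hx P ⟨hnot, hbP⟩
        exact hP (le_trans Ideal.mul_le_right hcP)
      · unfold LocCoh.minAdjDepth
        apply le_iInf₂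
        intro P hP
        have hbP : ¬ b ≤ P.asIdeal := fun h => hP (le_trans Ideal.mul_le_left h)
        refine le_trans hr (le_trans ?_ (adjDepth_mono M ha' P))
        unfold LocCoh.minAdjDepth
        exact iInf₂_le P hbP
    -- (γ)
    have hγ : ∃ n : ℕ, ∀ y : LocCoh.H (a ⊔ c') i M, s ^ n • y = 0 := by
      by_cases htop : a ⊔ c' = ⊤
      · haveI : Subsingleton (LocCoh.H (a ⊔ c') i M) := by
          apply Depth.subsingleton_H_of_smul_top_eq_top
          rw [htop, Submodule.top_smul]
        exact ⟨0, fun y => Subsingleton.elim _ _⟩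
      · obtain ⟨n₀, hn₀⟩ := Groth.Agent.S11658.result S M t
        have hdepth : ((i + t : ℕ) : ℕ∞) < LocCoh.idealDepth (a ⊔ c') S := by
          rw [idealDepth_self_eq]
          refine lt_of_lt_of_le ?_ (le_iInf₂ (fun q hq => by
            haveI := q.2
            exact height_ge M a b r t hr q.asIdeal hq))
          exact_mod_cast (by omega : i + t < r + t)
        have h1 := hn₀ (a ⊔ c') htop i hdepth
        have hsc : s ∈ PrimeSpectrum.vanishingIdeal {p : PrimeSpectrum S |
            ¬ HasProjectiveDimensionLE (ModuleCat.of (Localization.AtPrime p.asIdeal)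
              (LocalizedModule p.asIdeal.primeCompl M)) t} := by
          rw [PrimeSpectrum.mem_vanishingIdeal]
          intro P hP
          by_contra hsP
          exact hP (hpd P (fun h => hsP (h hs)))
        refine ⟨n₀, fun y => ?_⟩
        exact Module.mem_annihilator.mp (h1 (Ideal.pow_mem_pow hsc n₀)) y
    -- (δ)
    obtain ⟨F, hF⟩ := (IsNoetherian.noetherian c' : c'.FG)
    apply descend_ideal M i s F a
    · intro a' ha' x hx
      have hxc : x ∈ c' := by rw [← hF]; exact Ideal.subset_span hx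
      obtain ⟨n, hn⟩ := hα a' ha' i hi (s * x) (Ideal.mul_mem_mul hs hxc)
      exact ⟨n, fun y => by rw [← mul_pow]; exact hn y⟩
    · have hF' : Ideal.span (F : Set S) = c' := hF
      rw [hF']
      exact hγ

/-- a uniform bound for the projective dimensions of the stalks -/
theorem exists_pd_bound (M : Type u) [AddCommGroup M] [Module S M] [Module.Finite S M] :
    ∃ t : ℕ, ∀ P : PrimeSpectrum S, HasProjectiveDimensionLT
      (ModuleCat.of (Localization.AtPrime P.asIdeal)
        (LocalizedModule P.asIdeal.primeCompl M)) t := by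
  have hopen : ∀ t : ℕ, IsOpen (Zset S M t)ᶜ := fun t => (isClosed_Zset M t).isOpen_compl
  have hmono : Monotone (fun t : ℕ => (Zset S M t)ᶜ) := by
    intro t t' htt' P hP
    change ¬ ¬ HasProjectiveDimensionLT _ t at hP
    change ¬ ¬ HasProjectiveDimensionLT _ t'
    rw [not_not] at hP ⊢
    haveI := hP
    exact hasProjectiveDimensionLT_of_ge _ t t' htt'
  have hcover : (Set.univ : Set (PrimeSpectrum S)) ⊆ ⋃ t : ℕ, (Zset S M t)ᶜ := by
    intro P _
    haveI := P.2
    obtain ⟨hh, hhh⟩ := ENat.ne_top_iff_exists.mp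
      (Ideal.height_ne_top_of_isPrime (I := P.asIdeal))
    have hT : ringKrullDim (Localization.AtPrime P.asIdeal) = ((hh : ℕ) : WithBot ℕ∞) := by
      rw [IsLocalization.AtPrime.ringKrullDim_eq_height P.asIdeal
        (Localization.AtPrime P.asIdeal), ← hhh]
      rfl
    rw [Set.mem_iUnion]
    refine ⟨hh + 1, ?_⟩
    change ¬ ¬ HasProjectiveDimensionLT _ (hh + 1)
    rw [not_not]
    exact Groth.Agent.H1.Reg.hasProjectiveDimensionLT_of_isRegularLocalRing _ hh hT _
  obtain ⟨T, hT⟩ := isCompact_univ.elim_directed_cover (fun t : ℕ => (Zset S M t)ᶜ) hopen hcover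
    hmono.directed_le
  refine ⟨T, fun P => ?_⟩
  have := hT (Set.mem_univ P)
  change ¬ ¬ HasProjectiveDimensionLT _ T at this
  exact not_not.mp this

/-- **Faltings' annihilator theorem**, second inequality, over a regular ring -/
theorem main_reg (a b : Ideal S) (M : Type u) [AddCommGroup M] [Module S M] [Module.Finite S M] :
    LocCoh.minAdjDepth a b M ≤ LocCoh.finDimRel a b M := by
  unfold LocCoh.finDimRel
  apply le_iInf₂
  intro i hi
  by_contra hlt
  rw [not_le] at hlt
  have hr : ((i + 1 : ℕ) : ℕ∞) ≤ LocCoh.minAdjDepth a b M := by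
    have := Order.add_one_le_of_lt hlt
    exact_mod_cast this
  obtain ⟨t, ht⟩ := exists_pd_bound (S := S) M
  have hgood := key t M a b (i + 1) (fun P _ => ht P) hr
  apply hi
  intro s hs
  obtain ⟨n, hn⟩ := hgood i (Nat.lt_succ_self i) s hs
  exact ⟨n, Module.mem_annihilator.mpr hn⟩

end Regular

end Groth.Agent.H6.FR
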