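import Mathlib
import Groth.Agent.Lib.Helper6.FaltReg2
import Groth.Agent.Lib.Helper6.LDLoc5
import Groth.Agent.S11614

/-! Faltings' annihilator theorem: transfer along a surjection from a regular ring. -/

universe u
set_option linter.style.haveILetI false
open CategoryTheory CategoryTheory.Limits Opposite CategoryTheory.Abelian
open Pointwise

namespace Groth.Agent.H6.FR

open IsLocalRing LC

section Transfer

variable {S A : Type u} [CommRing S] [CommRing A] [Algebra S A] [IsNoetherianRing S]
  [IsNoetherianRing A] (hπ : Function.Surjective (algebraMap S A))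
  (M : Type u) [AddCommGroup M] [Module A M] [Module S M] [IsScalarTower S A M]

include hπ in
/-- the finiteness dimension does not increase on passing to the regular ring -/
theorem finDimRel_under_le (a b : Ideal A) :
    LocCoh.finDimRel (a.comap (algebraMap S A)) (b.comap (algebraMap S A)) M ≤
      LocCoh.finDimRel a b M := by
  have hmap : Ideal.map (algebraMap S A) (a.comap (algebraMap S A)) = a :=
    Ideal.map_comap_of_surjective _ hπ a
  unfold LocCoh.finDimRel
  apply le_iInf₂
  intro i hi
  refine iInf₂_le i ?_
  intro hle
  apply hi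
  have hφ : ∃ φ : LocCoh.H a i M ≃+ LocCoh.H (a.comap (algebraMap S A)) i M,
      ∀ (r : S) (x : LocCoh.H a i M), φ (algebraMap S A r • x) = r • φ x := by
    have := Groth.Agent.S11614.result S A (a.comap (algebraMap S A)) M i
    rw [hmap] at this
    exact this
  obtain ⟨φ, hφ⟩ := hφ
  intro x hx
  obtain ⟨s, rfl⟩ := hπ x
  have hs : s ∈ b.comap (algebraMap S A) := hx
  obtain ⟨n, hn⟩ := hle hs
  refine ⟨n, ?_⟩
  rw [Module.mem_annihilator] at hn ⊢
  intro y
  apply φ.injective
  rw [← map_pow, hφ, hn, map_zero]

include hπ in
/-- depths of the stalks agree -/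
theorem depth_under [Module.Finite A M] (p : Ideal A) [p.IsPrime] :
    LocCoh.depth (Localization.AtPrime p) (LocalizedModule p.primeCompl M) =
      LocCoh.depth (Localization.AtPrime (p.under S))
        (LocalizedModule (p.under S).primeCompl M) := by
  haveI : Module.Finite S A := Module.Finite.of_surjective (Algebra.linearMap S A) hπ
  haveI : Module.Finite S M := Module.Finite.trans A M
  haveI : IsNoetherianRing (Localization.AtPrime p) :=
    IsLocalization.isNoetherianRing p.primeCompl _ inferInstance
  haveI : Module.Finite (Localization.AtPrime p) (LocalizedModule p.primeCompl M) :=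
    Module.Finite.of_isLocalizedModule p.primeCompl (LocalizedModule.mkLinearMap p.primeCompl M)
  haveI : IsNoetherianRing (Localization.AtPrime (p.under S)) :=
    IsLocalization.isNoetherianRing (p.under S).primeCompl _ inferInstance
  haveI : Module.Finite (Localization.AtPrime (p.under S))
      (LocalizedModule (p.under S).primeCompl M) :=
    Module.Finite.of_isLocalizedModule (p.under S).primeCompl
      (LocalizedModule.mkLinearMap (p.under S).primeCompl M)
  apply ENat.eq_of_forall_natCast_le_iff
  intro k
  unfold LocCoh.depth
  rw [Depth.le_idealDepth_iff, Depth.le_idealDepth_iff]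
  exact forall_congr' fun i => forall_congr' fun _ => LDL.transfer hπ M p i

include hπ in
/-- the heights agree -/
theorem height_under (a : Ideal A) (p : Ideal A) [hp : p.IsPrime] :
    ((a.comap (algebraMap S A) ⊔ p.under S).map (Ideal.Quotient.mk (p.under S))).height =
      ((a ⊔ p).map (Ideal.Quotient.mk p)).height := by
  have hs : Function.Surjective ((Ideal.Quotient.mk p).comp (algebraMap S A)) :=
    Ideal.Quotient.mk_surjective.comp hπ
  have hker : RingHom.ker ((Ideal.Quotient.mk p).comp (algebraMap S A)) = p.under S := by
    ext x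
    rw [RingHom.mem_ker, RingHom.comp_apply, Ideal.Quotient.eq_zero_iff_mem, Ideal.under_def,
      Ideal.mem_comap]
  set e : (S ⧸ p.under S) ≃+* (A ⧸ p) :=
    (Ideal.quotEquivOfEq hker.symm).trans (RingHom.quotientKerEquivOfSurjective hs) with he
  have hcomp : (e : (S ⧸ p.under S) →+* (A ⧸ p)).comp (Ideal.Quotient.mk (p.under S)) =
      (Ideal.Quotient.mk p).comp (algebraMap S A) := by
    apply RingHom.ext
    intro x
    rfl
  rw [← RingEquiv.height_map e]
  congr 1
  have h1 : Ideal.map (e : (S ⧸ p.under S) →+* (A ⧸ p))
      (Ideal.map (Ideal.Quotient.mk (p.under S)) (a.comap (algebraMap S A) ⊔ p.under S)) =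
      Ideal.map (Ideal.Quotient.mk p) (a ⊔ p) := by
    rw [Ideal.map_map, hcomp, ← Ideal.map_map, Ideal.map_sup,
      Ideal.map_comap_of_surjective _ hπ a, Ideal.under_def,
      Ideal.map_comap_of_surjective _ hπ p]
  exact h1

include hπ in
/-- the minimum adjusted depth does not decrease on passing to the regular ring -/
theorem minAdjDepth_le_under [Module.Finite A M] (a b : Ideal A) :
    LocCoh.minAdjDepth a b M ≤
      LocCoh.minAdjDepth (a.comap (algebraMap S A)) (b.comap (algebraMap S A)) M := by
  unfold LocCoh.minAdjDepth
  apply le_iInf₂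
  intro P hP
  haveI := P.2
  by_cases hker : RingHom.ker (algebraMap S A) ≤ P.asIdeal
  · obtain ⟨p, hp, hpP⟩ := LDL.exists_prime_under hπ P.asIdeal hker
    have hbp : ¬ b ≤ p := by
      intro hle
      apply hP
      rw [← hpP]
      exact Ideal.comap_mono hle
    refine le_trans (iInf₂_le (⟨p, hp⟩ : PrimeSpectrum A) hbp) ?_
    unfold LocCoh.adjDepth
    have hPeq : P = ⟨p.under S, inferInstance⟩ := PrimeSpectrum.ext hpP.symm
    subst hPeq
    rw [depth_under hπ M p, height_under hπ a p]
  · haveI := LDL.localizedModule_subsingleton_of_not_le (A := A) M P.asIdeal hker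
    unfold LocCoh.adjDepth
    have : LocCoh.depth (Localization.AtPrime P.asIdeal)
        (LocalizedModule P.asIdeal.primeCompl M) = ⊤ := by
      unfold LocCoh.depth LocCoh.idealDepth
      rw [if_pos (Subsingleton.elim _ _)]
    rw [this, top_add]
    exact le_top

end Transfer

end Groth.Agent.H6.FR
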