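import Mathlib
import Groth.Agent.Lib.Helper6.FaltReg3
import Groth.Agent.Lib.Helper6.LCFaltings
import Groth.Agent.Lib.Helper6.DimLemmas
import Groth.Prelude.Def_SGA2
import Groth.Agent.S5172

/-! Grothendieck's finiteness theorem from Faltings' annihilator theorem. -/

universe u
set_option linter.style.haveILetI false
open CategoryTheory CategoryTheory.Limits Opposite CategoryTheory.Abelian
open Pointwise

namespace Groth.Agent.H6.FinThm

open IsLocalRing LC

section Height

variable {A : Type u} [CommRing A]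

/-- the height of `q/p` in `A/p` is the height of `q` in the interval above `p` -/
theorem height_map_eq_height_Ici (p q : PrimeSpectrum A) (hpq : p ≤ q) :
    (q.asIdeal.map (Ideal.Quotient.mk p.asIdeal)).height = Order.height (⟨q, hpq⟩ : Set.Ici p) := by
  have hker : RingHom.ker (Ideal.Quotient.mk p.asIdeal) ≤ q.asIdeal := by
    rw [Ideal.mk_ker]; exact hpq
  haveI hQ : (q.asIdeal.map (Ideal.Quotient.mk p.asIdeal)).IsPrime :=
    Ideal.map_isPrime_of_surjective Ideal.Quotient.mk_surjective hker
  have h1 := PrimeSpectrum.height_eq_orderHeight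
    (⟨q.asIdeal.map (Ideal.Quotient.mk p.asIdeal), hQ⟩ : PrimeSpectrum (A ⧸ p.asIdeal))
  change (q.asIdeal.map (Ideal.Quotient.mk p.asIdeal)).height = _ at h1
  rw [h1]
  let e1 := p.asIdeal.primeSpectrumQuotientOrderIsoZeroLocus
  let e2 : (PrimeSpectrum.zeroLocus (R := A) (p.asIdeal : Set A)) ≃o Set.Ici p :=
    OrderIso.setCongr _ _ (Dim.zeroLocus_eq_Ici p)
  rw [← Order.height_orderIso (e1.trans e2)]
  congr 1
  apply Subtype.ext
  apply PrimeSpectrum.ext
  change (q.asIdeal.map (Ideal.Quotient.mk p.asIdeal)).comap (Ideal.Quotient.mk p.asIdeal) = q.asIdeal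
  rw [Ideal.comap_map_of_surjective _ Ideal.Quotient.mk_surjective, ← RingHom.ker_eq_comap_bot]
  exact sup_eq_left.mpr hker

/-- `ht((I+p)/p) = c(p)` -/
theorem height_eq_relCodim (I : Ideal A) (p : PrimeSpectrum A) :
    ((I ⊔ p.asIdeal).map (Ideal.Quotient.mk p.asIdeal)).height = SGA2.relCodim I p := by
  apply le_antisymm
  · unfold SGA2.relCodim
    apply le_iInf
    rintro ⟨q, hpq, hIq⟩
    rw [← height_map_eq_height_Ici p q hpq]
    exact Ideal.height_mono (Ideal.map_mono (sup_le hIq hpq))
  · rw [Ideal.height_eq_inf_minimalPrimes]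
    apply le_iInf₂
    intro Qb hQb
    haveI := hQb.1.1
    set q : PrimeSpectrum A := ⟨Qb.comap (Ideal.Quotient.mk p.asIdeal), Ideal.comap_isPrime _ _⟩
      with hq
    have hle : I ⊔ p.asIdeal ≤ q.asIdeal := by
      change _ ≤ Qb.comap _
      rw [← Ideal.map_le_iff_le_comap]
      exact hQb.1.2
    have hpq : p ≤ q := by
      change p.asIdeal ≤ q.asIdeal
      exact le_trans le_sup_right hle
    have hmap : q.asIdeal.map (Ideal.Quotient.mk p.asIdeal) = Qb :=
      Ideal.map_comap_of_surjective _ Ideal.Quotient.mk_surjective Qb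
    unfold SGA2.relCodim
    refine le_trans (iInf_le _ ⟨q, hpq, le_trans le_sup_left hle⟩) ?_
    rw [← height_map_eq_height_Ici p q hpq, hmap]

end Height

section Fin

variable {A : Type u} [CommRing A] [IsNoetherianRing A]

/-- a finitely generated power-torsion module is killed by a power of the ideal -/
theorem exists_pow_le_annihilator (I : Ideal A) (H : Type u) [AddCommGroup H] [Module A H]
    [Module.Finite A H] (htor : ∀ x : H, ∃ n : ℕ, ∀ a ∈ I ^ n, a • x = 0) :
    ∃ k : ℕ, I ^ k ≤ Module.annihilator A H := by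
  classical
  obtain ⟨G, hG⟩ := (Module.Finite.fg_top : (⊤ : Submodule A H).FG)
  choose nf hnf using htor
  refine ⟨G.sup nf, ?_⟩
  intro a ha
  rw [Module.mem_annihilator]
  intro x
  have hx : x ∈ Submodule.span A (G : Set H) := by rw [hG]; trivial
  induction hx using Submodule.span_induction with
  | mem y hy =>
    exact hnf y a (Ideal.pow_le_pow_right (Finset.le_sup hy) ha)
  | zero => exact smul_zero a
  | add y z _ _ hy hz => rw [smul_add, hy, hz, add_zero]
  | smul c y _ hy => rw [smul_comm, hy, smul_zero]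

/-- **Faltings' lemma** as a statement about the finiteness dimension -/
theorem finite_iff_lt_finDimRel (I : Ideal A) (M : Type u) [AddCommGroup M] [Module A M]
    [Module.Finite A M] (n : ℕ) :
    (∀ i : ℕ, i ≤ n → Module.Finite A (LocCoh.H I i M)) ↔
      (n : ℕ∞) < LocCoh.finDimRel I I M := by
  classical
  constructor
  · intro hfin
    have h1 : ((n + 1 : ℕ) : ℕ∞) ≤ LocCoh.finDimRel I I M := by
      unfold LocCoh.finDimRel
      apply le_iInf₂
      intro i hi
      by_contra hlt
      rw [not_le] at hlt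
      have hin : i ≤ n := by
        have : i < n + 1 := by exact_mod_cast hlt
        omega
      haveI := hfin i hin
      obtain ⟨k, hk⟩ := exists_pow_le_annihilator I (LocCoh.H I i M)
        (LC.isPowerTorsion I i (ModuleCat.of A M))
      apply hi
      intro x hx
      exact ⟨k, hk (Ideal.pow_mem_pow hx k)⟩
    exact lt_of_lt_of_le (by exact_mod_cast Nat.lt_succ_self n) h1
  · intro hlt
    have hrad : ∀ i ≤ n, I ≤ (Module.annihilator A (LocCoh.H I i M)).radical := by
      intro i hi
      by_contra hnot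
      have h1 : LocCoh.finDimRel I I M ≤ (i : ℕ∞) := by
        unfold LocCoh.finDimRel
        exact iInf₂_le i hnot
      have h2 : (n : ℕ∞) < (i : ℕ∞) := lt_of_lt_of_le hlt h1
      have h3 : n < i := by exact_mod_cast h2
      omega
    have hex : ∀ i : ℕ, ∃ k : ℕ, i ≤ n → I ^ k ≤ Module.annihilator A (LocCoh.H I i M) := by
      intro i
      by_cases hi : i ≤ n
      · obtain ⟨k, hk⟩ := Ideal.exists_pow_le_of_le_radical_of_fg (hrad i hi)
          (IsNoetherian.noetherian I)
        exact ⟨k, fun _ => hk⟩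
      · exact ⟨0, fun h => absurd h hi⟩
    choose kf hkf using hex
    set k := (Finset.range (n + 1)).sup kf with hk
    apply LC.finite_H_of_pow_smul_eq_zero I n M k
    intro i hi a ha x
    have h1 : kf i ≤ k := Finset.le_sup (Finset.mem_range.mpr (by omega))
    have h2 := hkf i hi (Ideal.pow_le_pow_right h1 ha)
    exact Module.mem_annihilator.mp h2 x

end Fin

section Codim

variable {A : Type u} [CommRing A]

theorem relCodim_eq_one_iff (I : Ideal A) (p : PrimeSpectrum A) (hp : ¬ I ≤ p.asIdeal) :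
    SGA2.relCodim I p = 1 ↔ ∃ q : PrimeSpectrum A, I ≤ q.asIdeal ∧ p ⋖ q := by
  have hge : ∀ q : {q : PrimeSpectrum A // p ≤ q ∧ I ≤ q.asIdeal},
      (1 : ℕ∞) ≤ Order.height (⟨q.1, q.2.1⟩ : Set.Ici p) := by
    rintro ⟨q, hpq, hIq⟩
    have hne : p ≠ q := by
      rintro rfl
      exact hp hIq
    have hlt' : p < q := lt_of_le_of_ne hpq hne
    have hlt : (⟨p, le_refl p⟩ : Set.Ici p) < ⟨q, hpq⟩ := hlt'
    have := Order.height_add_one_le hlt
    exact le_trans (by simp) this
  constructor
  · intro h1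
    haveI hne' : Nonempty {q : PrimeSpectrum A // p ≤ q ∧ I ≤ q.asIdeal} := by
      by_contra hemp
      rw [not_nonempty_iff] at hemp
      unfold SGA2.relCodim at h1
      rw [iInf_of_empty] at h1
      exact ENat.top_ne_one h1
    obtain ⟨⟨q, hpq, hIq⟩, hq⟩ := ENat.exists_eq_iInf
      (fun q : {q : PrimeSpectrum A // p ≤ q ∧ I ≤ q.asIdeal} =>
        Order.height (⟨q.1, q.2.1⟩ : Set.Ici p))
    have hq' : Order.height (⟨q, hpq⟩ : Set.Ici p) = 1 := hq.trans h1
    refine ⟨q, hIq, ?_⟩
    have hne : p ≠ q := by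
      rintro rfl
      exact hp hIq
    refine ⟨lt_of_le_of_ne hpq hne, ?_⟩
    intro z hz1 hz2
    have hlt1 : (⟨p, le_refl p⟩ : Set.Ici p) < ⟨z, hz1.le⟩ := hz1
    have hlt2 : (⟨z, hz1.le⟩ : Set.Ici p) < ⟨q, hpq⟩ := hz2
    have h2 := Order.height_add_one_le hlt1
    have h3 := Order.height_add_one_le hlt2
    rw [hq'] at h3
    have h4 : (1 : ℕ∞) ≤ Order.height (⟨z, hz1.le⟩ : Set.Ici p) := le_trans (by simp) h2
    have h5 : (1 : ℕ∞) + 1 ≤ 1 := le_trans (by gcongr) h3
    exact absurd h5 (by decide)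
  · rintro ⟨q, hIq, hcov⟩
    apply le_antisymm
    · unfold SGA2.relCodim
      refine le_trans (iInf_le _ ⟨q, hcov.le, hIq⟩) ?_
      rw [LDL.height_Ici_of_covBy hcov]
    · unfold SGA2.relCodim
      exact le_iInf hge

end Codim

section Main

variable (R : Type u) [CommRing R] [IsRegularRing R] (A : Type u) [CommRing A]
  [IsNoetherianRing A] (π : R →+* A) (hπ : Function.Surjective π)

include hπ in
/-- Faltings' annihilator theorem for a quotient of a regular ring -/
theorem finDimRel_eq_minAdjDepth (a b : Ideal A) (M : Type u) [AddCommGroup M] [Module A M]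
    [Module.Finite A M] : LocCoh.finDimRel a b M = LocCoh.minAdjDepth a b M := by
  apply le_antisymm (AdjD.main a b M)
  letI : Algebra R A := π.toAlgebra
  letI : Module R M := Module.compHom M π
  haveI : IsScalarTower R A M := ⟨fun x y m => by
    change (x • y) • m = π x • (y • m)
    rw [Algebra.smul_def, mul_smul]
    rfl⟩
  haveI : Module.Finite R A := Module.Finite.of_surjective (Algebra.linearMap R A) hπ
  haveI : Module.Finite R M := Module.Finite.trans A M
  have hπ' : Function.Surjective (algebraMap R A) := hπ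
  exact (FR.minAdjDepth_le_under hπ' M a b).trans
    ((FR.main_reg _ _ M).trans (FR.finDimRel_under_le hπ' M a b))

omit [IsNoetherianRing A] in
theorem nat_lt_iInf₂_iff {ι : Type*} {κ : ι → Prop} (f : ι → ℕ∞) (n : ℕ) :
    (n : ℕ∞) < ⨅ (i : ι) (_ : κ i), f i ↔ ∀ i, κ i → (n : ℕ∞) < f i := by
  have h : ∀ x : ℕ∞, (n : ℕ∞) < x ↔ ((n + 1 : ℕ) : ℕ∞) ≤ x := by
    intro x
    rw [Nat.cast_add, Nat.cast_one, ENat.add_one_le_iff (ENat.natCast_ne_top n)]
  rw [h, le_iInf₂_iff]
  exact forall_congr' fun i => forall_congr' fun _ => (h _).symm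

include hπ in
/-- **Grothendieck's finiteness theorem** in terms of adjusted depths -/
theorem finite_iff_adj (I : Ideal A) (M : Type u) [AddCommGroup M] [Module A M]
    [Module.Finite A M] (n : ℕ) :
    (∀ i : ℕ, i ≤ n → Module.Finite A (LocCoh.H I i M)) ↔
      ∀ p : PrimeSpectrum A, ¬ I ≤ p.asIdeal →
        (n : ℕ∞) < LocCoh.depth (Localization.AtPrime p.asIdeal)
          (LocalizedModule p.asIdeal.primeCompl M) + SGA2.relCodim I p := by
  rw [finite_iff_lt_finDimRel, finDimRel_eq_minAdjDepth R A π hπ]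
  unfold LocCoh.minAdjDepth
  rw [nat_lt_iInf₂_iff]
  refine forall_congr' fun p => forall_congr' fun _ => ?_
  unfold LocCoh.adjDepth
  rw [height_eq_relCodim]

include hπ in
/-- **S2930** -/
theorem finite_iff_covBy (I : Ideal A) (M : Type u) [AddCommGroup M] [Module A M]
    [Module.Finite A M] (n : ℕ) :
    (∀ i : ℕ, i ≤ n → Module.Finite A (LocCoh.H I i M)) ↔
      ∀ p q : PrimeSpectrum A, ¬ I ≤ p.asIdeal → I ≤ q.asIdeal → p ⋖ q →
        (n : ℕ∞) ≤ LocCoh.depth (Localization.AtPrime p.asIdeal)
          (LocalizedModule p.asIdeal.primeCompl M) := by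
  rw [finite_iff_adj R A π hπ, Groth.Agent.S5172.result R A π hπ I M n]
  constructor
  · intro h p q hp hq hcov
    exact h p hp ((relCodim_eq_one_iff I p hp).mpr ⟨q, hq, hcov⟩)
  · intro h p hp hc
    obtain ⟨q, hq, hcov⟩ := (relCodim_eq_one_iff I p hp).mp hc
    exact h p q hp hq hcov

end Main

end Groth.Agent.H6.FinThm
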