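import Groth.Prelude.Def_DeRham
import Mathlib.RingTheory.Kaehler.Basic
import Mathlib.LinearAlgebra.ExteriorPower.Basic

/-!
# Ring-level de Rham helpers (helper6)

The elements `DeRham.gen δ p b₀ b` generate `⋀[A]^p M` additively when `δ(A)` spans `M`.
-/

universe v u

open exteriorPower

namespace Groth.Agent.H6.DR

section Gen

variable {R : Type v} {A M : Type u} [CommRing R] [CommRing A] [Algebra R A]
  [AddCommGroup M] [Module A M] [Module R M]

theorem gen_induction (δ : Derivation R A M) (hδ : Submodule.span A (Set.range δ) = ⊤) (p : ℕ)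
    {P : ↥(⋀[A]^p M) → Prop} (h0 : P 0) (hadd : ∀ x y, P x → P y → P (x + y))
    (hgen : ∀ (b₀ : A) (b : Fin p → A), P (DeRham.gen δ p b₀ b)) (x : ↥(⋀[A]^p M)) : P x := by
  have hx : x ∈ Submodule.span A (ιMulti A p '' {a : Fin p → M | Set.range a ⊆ Set.range δ}) := by
    rw [ιMulti_span_of_span A p M hδ]; trivial
  suffices h : ∀ a : A, P (a • x) by simpa using h 1
  induction hx using Submodule.span_induction with
  | mem y hy =>
    obtain ⟨m, hm, rfl⟩ := hy
    intro a
    obtain ⟨c, rfl⟩ : ∃ c : Fin p → A, (fun i => δ (c i)) = m := by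
      choose c hc using fun i => hm (Set.mem_range_self i)
      exact ⟨c, funext hc⟩
    exact hgen a c
  | zero => intro a; simpa using h0
  | add y z _ _ hy hz => intro a; rw [smul_add]; exact hadd _ _ (hy a) (hz a)
  | smul c y _ hy => intro a; rw [smul_smul]; exact hy _

theorem addHom_ext (δ : Derivation R A M) (hδ : Submodule.span A (Set.range δ) = ⊤) (p : ℕ)
    {N : Type*} [AddZeroClass N] {f g : ↥(⋀[A]^p M) →+ N}
    (h : ∀ (b₀ : A) (b : Fin p → A), f (DeRham.gen δ p b₀ b) = g (DeRham.gen δ p b₀ b)) : f = g := by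
  ext x
  induction x using gen_induction δ hδ p with
  | h0 => simp
  | hadd x y hx hy => simp [hx, hy]
  | hgen b₀ b => exact h b₀ b

/-- `δ b₀ ∧ δ b₁ ∧ … ∧ δ b_p` is the generator `1 · δ(b₀) ∧ …`. -/
theorem ιMulti_cons_eq_gen (δ : Derivation R A M) (p : ℕ) (b₀ : A) (b : Fin p → A) :
    ιMulti A (p + 1) (Fin.cons (δ b₀) (fun i => δ (b i))) =
      DeRham.gen δ (p + 1) 1 (Fin.cons b₀ b) := by
  unfold DeRham.gen
  rw [one_smul]
  congr 1
  funext i
  refine Fin.cases ?_ (fun j => ?_) i <;> simp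

end Gen

end Groth.Agent.H6.DR

namespace Groth.Agent.H6.DR

section Gen2

variable {R : Type v} {A M : Type u} [CommRing R] [CommRing A] [Algebra R A]
  [AddCommGroup M] [Module A M] [Module R M]

theorem smul_gen (δ : Derivation R A M) (p : ℕ) (a b₀ : A) (b : Fin p → A) :
    a • DeRham.gen δ p b₀ b = DeRham.gen δ p (a * b₀) b := by
  unfold DeRham.gen
  rw [smul_smul]

/-- `x ↦ x ∧ m₁ ∧ … ∧ m_p` as an `A`-linear map. -/
noncomputable def wedgeLeft (p : ℕ) (m : Fin p → M) : M →ₗ[A] ↥(⋀[A]^(p + 1) M) where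
  toFun x := (ιMulti A (p + 1)).curryLeft x m
  map_add' x y := by rw [map_add]; rfl
  map_smul' a x := by rw [map_smul]; rfl

theorem wedgeLeft_apply (p : ℕ) (m : Fin p → M) (x : M) :
    wedgeLeft (A := A) p m x = ιMulti A (p + 1) (Fin.cons x m) := rfl

end Gen2

end Groth.Agent.H6.DR
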