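import Mathlib

universe u
open CategoryTheory CategoryTheory.Limits AlgebraicGeometry IsLocalRing

namespace Groth.Agent.H6.VC

/-- (C2) comparing two morphisms from a local scheme given by stalk maps. -/
lemma specializes_and_eq {Y : Scheme.{u}} {R : CommRingCat.{u}} [IsLocalRing R] {y y'' : Y}
    (a : Y.presheaf.stalk y'' ⟶ R) (b : Y.presheaf.stalk y ⟶ R) [IsLocalHom b.hom]
    (hab : Spec.map a ≫ Y.fromSpecStalk y'' = Spec.map b ≫ Y.fromSpecStalk y) :
    ∃ hs : y ⤳ y'', a = Y.presheaf.stalkSpecializes hs ≫ b := by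
  have hy : (Spec.map b ≫ Y.fromSpecStalk y).base (closedPoint R) = y := by
    change (Y.fromSpecStalk y).base ((Spec.map b).base (closedPoint R)) = y
    rw [Spec_closedPoint, Scheme.fromSpecStalk_closedPoint]
  have hs : y ⤳ y'' := by
    have : y ∈ Set.range (Y.fromSpecStalk y'') := by
      rw [← hy, ← hab]
      exact ⟨(Spec.map a).base (closedPoint R), rfl⟩
    rw [Scheme.range_fromSpecStalk] at this
    exact this
  refine ⟨hs, ?_⟩
  apply Spec.map_injective
  rw [← cancel_mono (Y.fromSpecStalk y''), hab, Spec.map_comp, Category.assoc,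
    Scheme.SpecMap_stalkSpecializes_fromSpecStalk]

/-- (C1) an injective local homomorphism of local rings induces an "epimorphism" on spectra,
tested against arbitrary schemes. -/
lemma eq_of_SpecMap_comp_eq {X : Scheme.{u}} {A A' : CommRingCat.{u}} [IsLocalRing A]
    [IsLocalRing A'] (ι : A ⟶ A') [IsLocalHom ι.hom] (hι : Function.Injective ι.hom)
    (g₁ g₂ : Spec A ⟶ X) (h : Spec.map ι ≫ g₁ = Spec.map ι ≫ g₂) : g₁ = g₂ := by
  rw [← Scheme.Spec_stalkClosedPointTo_fromSpecStalk g₁,
    ← Scheme.Spec_stalkClosedPointTo_fromSpecStalk g₂] at h ⊢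
  rw [← Spec.map_comp_assoc, ← Spec.map_comp_assoc] at h
  have : IsLocalHom (Scheme.stalkClosedPointTo g₂ ≫ ι).hom := by
    rw [CommRingCat.hom_comp]; infer_instance
  obtain ⟨hs, he⟩ := specializes_and_eq _ _ h
  have hmono : Mono ι := by
    apply ConcreteCategory.mono_of_injective; exact hι
  rw [← Category.assoc, cancel_mono] at he
  rw [he, Spec.map_comp, Category.assoc, Scheme.SpecMap_stalkSpecializes_fromSpecStalk]

variable {L : Type u} [Field L] (B : ValuationSubring L)
  (A' : ValuationSubring (ResidueField B))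

/-- composite valuation subring -/
noncomputable def comp : ValuationSubring L where
  carrier := {x | ∃ hx : x ∈ B, residue B ⟨x, hx⟩ ∈ A'}
  mul_mem' := by
    rintro x y ⟨hx, hx'⟩ ⟨hy, hy'⟩
    refine ⟨B.mul_mem _ _ hx hy, ?_⟩
    have : (⟨x * y, B.mul_mem _ _ hx hy⟩ : B) = ⟨x, hx⟩ * ⟨y, hy⟩ := rfl
    rw [this, map_mul]
    exact A'.mul_mem _ _ hx' hy'
  one_mem' := by
    refine ⟨B.one_mem, ?_⟩
    have : (⟨1, B.one_mem⟩ : B) = 1 := rfl
    rw [this, map_one]
    exact A'.one_mem
  add_mem' := by
    rintro x y ⟨hx, hx'⟩ ⟨hy, hy'⟩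
    refine ⟨B.add_mem _ _ hx hy, ?_⟩
    have : (⟨x + y, B.add_mem _ _ hx hy⟩ : B) = ⟨x, hx⟩ + ⟨y, hy⟩ := rfl
    rw [this, map_add]
    exact A'.add_mem _ _ hx' hy'
  zero_mem' := by
    refine ⟨B.zero_mem, ?_⟩
    have : (⟨0, B.zero_mem⟩ : B) = 0 := rfl
    rw [this, map_zero]
    exact A'.zero_mem
  neg_mem' := by
    rintro x ⟨hx, hx'⟩
    refine ⟨B.neg_mem _ hx, ?_⟩
    have : (⟨-x, B.neg_mem _ hx⟩ : B) = -⟨x, hx⟩ := rfl
    rw [this, map_neg]
    exact A'.neg_mem _ hx'
  mem_or_inv_mem' := by
    intro x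
    by_cases hx0 : x = 0
    · left
      subst hx0
      refine ⟨B.zero_mem, ?_⟩
      have : (⟨0, B.zero_mem⟩ : B) = 0 := rfl
      rw [this, map_zero]
      exact A'.zero_mem
    rcases B.mem_or_inv_mem x with hx | hx
    · by_cases hu : IsUnit (⟨x, hx⟩ : B)
      · -- unit of B
        have hxi : x⁻¹ ∈ B := by
          obtain ⟨⟨u, v, huv, hvu⟩, hu'⟩ := hu
          have hux : u = ⟨x, hx⟩ := hu'
          have : x * (v : L) = 1 := by
            have := congrArg Subtype.val huv
            rw [hux] at this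
            simpa using this
          have hv : (v : L) = x⁻¹ := eq_inv_of_mul_eq_one_right this
          rw [← hv]; exact v.2
        have hmul : (⟨x, hx⟩ : B) * ⟨x⁻¹, hxi⟩ = 1 := by
          apply Subtype.ext
          change x * x⁻¹ = 1
          exact mul_inv_cancel₀ hx0
        have hres : residue B ⟨x, hx⟩ * residue B ⟨x⁻¹, hxi⟩ = 1 := by
          rw [← map_mul, hmul, map_one]
        rcases A'.mem_or_inv_mem (residue B ⟨x, hx⟩) with h1 | h1
        · left; exact ⟨hx, h1⟩
        · right
          refine ⟨hxi, ?_⟩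
          have : residue B ⟨x⁻¹, hxi⟩ = (residue B ⟨x, hx⟩)⁻¹ :=
            eq_inv_of_mul_eq_one_right hres
          rw [this]; exact h1
      · left
        refine ⟨hx, ?_⟩
        have : residue B ⟨x, hx⟩ = 0 := by
          rw [residue_eq_zero_iff]
          exact (mem_maximalIdeal _).2 hu
        rw [this]; exact A'.zero_mem
    · by_cases hu : IsUnit (⟨x⁻¹, hx⟩ : B)
      · have hxi : x ∈ B := by
          obtain ⟨⟨u, v, huv, hvu⟩, hu'⟩ := hu
          have hux : u = ⟨x⁻¹, hx⟩ := hu'
          have : x⁻¹ * (v : L) = 1 := by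
            have := congrArg Subtype.val huv
            rw [hux] at this
            simpa using this
          have hv : (v : L) = x := by
            have := eq_inv_of_mul_eq_one_right this
            rwa [inv_inv] at this
          rw [← hv]; exact v.2
        have hmul : (⟨x, hxi⟩ : B) * ⟨x⁻¹, hx⟩ = 1 := by
          apply Subtype.ext
          change x * x⁻¹ = 1
          exact mul_inv_cancel₀ hx0
        have hres : residue B ⟨x, hxi⟩ * residue B ⟨x⁻¹, hx⟩ = 1 := by
          rw [← map_mul, hmul, map_one]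
        rcases A'.mem_or_inv_mem (residue B ⟨x, hxi⟩) with h1 | h1
        · left; exact ⟨hxi, h1⟩
        · right
          refine ⟨hx, ?_⟩
          have : residue B ⟨x⁻¹, hx⟩ = (residue B ⟨x, hxi⟩)⁻¹ :=
            eq_inv_of_mul_eq_one_right hres
          rw [this]; exact h1
      · right
        refine ⟨hx, ?_⟩
        have : residue B ⟨x⁻¹, hx⟩ = 0 := by
          rw [residue_eq_zero_iff]
          exact (mem_maximalIdeal _).2 hu
        rw [this]; exact A'.zero_mem

lemma mem_comp {x : L} : x ∈ comp B A' ↔ ∃ hx : x ∈ B, residue B ⟨x, hx⟩ ∈ A' := Iff.rfl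

lemma comp_le : comp B A' ≤ B := fun _ hx => hx.1

/-- the inclusion `C → B` -/
noncomputable def compIncl : comp B A' →+* B := Subring.inclusion (comp_le B A')

/-- the projection `C → A'` -/
noncomputable def compProj : comp B A' →+* A' where
  toFun c := ⟨residue B ⟨c.1, c.2.1⟩, c.2.2⟩
  map_one' := by apply Subtype.ext; exact map_one (residue B)
  map_mul' c d := by apply Subtype.ext; exact map_mul (residue B) ⟨c.1, c.2.1⟩ ⟨d.1, d.2.1⟩
  map_zero' := by apply Subtype.ext; exact map_zero (residue B)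
  map_add' c d := by apply Subtype.ext; exact map_add (residue B) ⟨c.1, c.2.1⟩ ⟨d.1, d.2.1⟩

lemma compProj_coe (c : comp B A') :
    ((compProj B A' c : A') : ResidueField B) = residue B (compIncl B A' c) := rfl

lemma compIncl_coe (c : comp B A') : ((compIncl B A' c : B) : L) = (c : L) := rfl

instance isLocalHom_compProj : IsLocalHom (compProj B A') := by
  constructor
  intro c hc
  obtain ⟨⟨u, v, huv, hvu⟩, hu'⟩ := hc
  have hux : u = compProj B A' c := hu'
  have h1 : residue B (compIncl B A' c) * (v : ResidueField B) = 1 := by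
    have := congrArg Subtype.val huv
    rw [hux] at this
    exact this
  have hunit : IsUnit (compIncl B A' c) := by
    by_contra hn
    have : residue B (compIncl B A' c) = 0 := by
      rw [residue_eq_zero_iff]; exact (mem_maximalIdeal _).2 hn
    rw [this, zero_mul] at h1
    exact zero_ne_one h1
  obtain ⟨⟨b, b', hbb', hb'b⟩, hb⟩ := hunit
  have hbc : b = compIncl B A' c := hb
  have h2 : residue B b' = (v : ResidueField B) := by
    have e1 : residue B (compIncl B A' c) * residue B b' = 1 := by
      rw [← hbc, ← map_mul, hbb', map_one]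
    have := eq_inv_of_mul_eq_one_right e1
    rw [this]
    exact (eq_inv_of_mul_eq_one_right h1).symm
  have hb'C : (b' : L) ∈ comp B A' := ⟨b'.2, by
    have : (⟨(b' : L), b'.2⟩ : B) = b' := rfl
    rw [this, h2]; exact v.2⟩
  refine IsUnit.of_mul_eq_one ⟨(b' : L), hb'C⟩ ?_
  apply Subtype.ext
  have := congrArg Subtype.val hbb'
  rw [hbc] at this
  exact this

end Groth.Agent.H6.VC
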