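import Groth.Agent.Lib.Helper6.GrEss
import Groth.Prelude.Def_Wider

/-! *essential extensions are essential (with gradings forgotten). -/

universe u
open DirectSum
set_option linter.unusedSectionVars false

namespace Groth.Agent.H6

namespace Gr

variable {ι : Type} [AddCommGroup ι] [DecidableEq ι]
variable {R : Type u} [CommRing R] (𝒜 : ι → AddSubgroup R) [GradedRing 𝒜]

section

variable {L : Type u} [AddCommGroup L] [Module R L] (𝓛 : ι → AddSubgroup L)
  [DirectSum.Decomposition 𝓛] [SetLike.GradedSMul 𝒜 𝓛]

/-- components of a homogeneous multiple -/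
theorem proj_smul_of_mem {d : ι} {r : R} (hr : r ∈ 𝒜 d) (g : ι) (z : L) :
    proj 𝓛 (d + g) (r • z) = r • proj 𝓛 g z := by
  induction z using induction_on 𝓛 with
  | zero => simp
  | homogeneous k z hz =>
    have hrz : r • z ∈ 𝓛 (d + k) := SetLike.GradedSMul.smul_mem (A := 𝒜) (B := 𝓛) hr hz
    by_cases hkg : k = g
    · subst hkg
      rw [proj_of_mem 𝓛 hrz, proj_of_mem 𝓛 hz]
    · have hne : d + k ≠ d + g := fun h => hkg (add_left_cancel h)
      rw [proj_of_mem_ne 𝓛 hrz hne, proj_of_mem_ne 𝓛 hz hkg, smul_zero]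
  | add z z' h1 h2 => rw [smul_add, map_add, map_add, smul_add, h1, h2]

/-- components of a homogeneous multiple, in degrees not of the form `d + g` -/
theorem proj_smul_of_mem' {d : ι} {r : R} (hr : r ∈ 𝒜 d) (k : ι) (z : L) :
    proj 𝓛 k (r • z) = r • proj 𝓛 (k - d) z := by
  have := proj_smul_of_mem 𝒜 𝓛 hr (k - d) z
  rwa [add_sub_cancel] at this

/-- the key lemma: if the homogeneous submodule `N` meets every nonzero homogeneous submodule,
then every nonzero element has a nonzero homogeneous multiple in `N` -/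
theorem exists_homogeneous_smul_mem {N : Submodule R L} (hN : N.IsHomogeneous 𝓛)
    (hess : ∀ P : Submodule R L, P.IsHomogeneous 𝓛 → P ≠ ⊥ → P ⊓ N ≠ ⊥) :
    ∀ (n : ℕ) (s : Finset ι), s.card = n → ∀ x : L, (∀ g, g ∉ s → proj 𝓛 g x = 0) → x ≠ 0 →
      ∃ (d : ι) (r : R), r ∈ 𝒜 d ∧ r • x ≠ 0 ∧ r • x ∈ N := by
  intro n
  induction n using Nat.strong_induction_on with
  | _ n ih =>
    intro s hs x hx hx0
    -- choose a nonzero component
    have hex : ∃ g, proj 𝓛 g x ≠ 0 := by
      by_contra hcon
      push Not at hcon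
      exact hx0 (eq_zero_of_proj_eq_zero 𝓛 hcon)
    obtain ⟨g, hg⟩ := hex
    have hgs : g ∈ s := by
      by_contra hgs
      exact hg (hx g hgs)
    set xg := proj 𝓛 g x with hxg
    have hxgmem : xg ∈ 𝓛 g := proj_mem 𝓛 g x
    -- the span of `xg` is homogeneous and nonzero
    have hspan := span_singleton_isHomogeneous 𝓛 𝒜 (R := R) hxgmem
    have hspan0 : Submodule.span R {xg} ≠ ⊥ := by
      intro h
      apply hg
      have : xg ∈ Submodule.span R {xg} := Submodule.mem_span_singleton_self xg
      rw [h] at this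
      exact this
    obtain ⟨y, ⟨hy1, hy2⟩, hy0⟩ := Submodule.exists_mem_ne_zero_of_ne_bot (hess _ hspan hspan0)
    obtain ⟨r, rfl⟩ := Submodule.mem_span_singleton.mp hy1
    -- a homogeneous component of `r`
    have hex2 : ∃ d, (GradedRing.proj 𝒜 d r) • xg ≠ 0 := by
      by_contra hcon
      push Not at hcon
      apply hy0
      classical
      rw [← DirectSum.sum_support_decompose 𝒜 r, Finset.sum_smul]
      exact Finset.sum_eq_zero fun d _ => hcon d
    obtain ⟨d, hd⟩ := hex2
    set r' : R := GradedRing.proj 𝒜 d r with hr'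
    have hr'mem : r' ∈ 𝒜 d := (DirectSum.decompose 𝒜 r d).2
    have hr'xg : r' • xg ∈ N := by
      -- `r' • xg` is the component of degree `d + g` of `r • xg`
      have h1 : proj 𝓛 (d + g) (r • xg) = r' • xg := by
        classical
        conv_lhs => rw [← DirectSum.sum_support_decompose 𝒜 r, Finset.sum_smul, map_sum]
        rw [Finset.sum_eq_single d]
        · have : ((DirectSum.decompose 𝒜 r d : R)) = r' := rfl
          rw [this]
          exact proj_of_mem 𝓛 (SetLike.GradedSMul.smul_mem (A := 𝒜) (B := 𝓛) hr'mem hxgmem)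
        · intro e _ hed
          have hmem : ((DirectSum.decompose 𝒜 r e : R)) • xg ∈ 𝓛 (e + g) :=
            SetLike.GradedSMul.smul_mem (A := 𝒜) (B := 𝓛) (DirectSum.decompose 𝒜 r e).2 hxgmem
          exact proj_of_mem_ne 𝓛 hmem fun h => hed (add_right_cancel h)
        · intro hdn
          rw [DFinsupp.notMem_support_iff] at hdn
          have : ((DirectSum.decompose 𝒜 r d : R)) = 0 := by rw [hdn]; rfl
          rw [this, zero_smul, map_zero]
      rw [← h1]
      exact hN (d + g) hy2
    -- now consider `y = r' • (x - xg)`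
    set y := r' • (x - xg) with hy
    by_cases hy0' : y = 0
    · refine ⟨d, r', hr'mem, ?_, ?_⟩
      · have : r' • x = r' • xg := by
          have h2 : r' • x = r' • xg + y := by rw [hy, ← smul_add, add_sub_cancel]
          rw [h2, hy0', add_zero]
        rw [this]; exact hd
      · have : r' • x = r' • xg := by
          have h2 : r' • x = r' • xg + y := by rw [hy, ← smul_add, add_sub_cancel]
          rw [h2, hy0', add_zero]
        rw [this]; exact hr'xg
    · -- the support of `y` is contained in the translate of `s.erase g`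
      let s' : Finset ι := (s.erase g).image (fun k => d + k)
      have hs'card : s'.card < n := by
        calc s'.card ≤ (s.erase g).card := Finset.card_image_le
          _ < s.card := Finset.card_erase_lt_of_mem hgs
          _ = n := hs
      have hys' : ∀ k, k ∉ s' → proj 𝓛 k y = 0 := by
        intro k hk
        rw [hy, proj_smul_of_mem' 𝒜 𝓛 hr'mem, map_sub]
        by_cases hkg : k - d = g
        · rw [hkg, hxg, proj_proj_same, sub_self, smul_zero]
        · have hks : k - d ∉ s := by
            intro hks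
            apply hk
            refine Finset.mem_image.mpr ⟨k - d, Finset.mem_erase.mpr ⟨hkg, hks⟩, ?_⟩
            abel
          rw [hx _ hks, hxg, proj_proj_ne 𝓛 (Ne.symm hkg), sub_zero, smul_zero]
      obtain ⟨d', t, ht, hty0, htyN⟩ := ih s'.card hs'card s' rfl y hys' hy0'
      refine ⟨d' + d, t * r', SetLike.GradedMul.mul_mem ht hr'mem, ?_, ?_⟩
      · intro hzero
        apply hty0
        -- `t • y` is homogeneous of degree `d' + d + g`, and its component there vanishes
        have h2 : (t * r') • x = t • (r' • xg) + t • y := by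
          rw [hy, ← smul_add, ← smul_add, add_sub_cancel, mul_smul]
        have h3 : t • y = - (t • (r' • xg)) := by
          rw [hzero] at h2
          exact eq_neg_of_add_eq_zero_right h2.symm
        have h4 : t • y ∈ 𝓛 (d' + (d + g)) := by
          rw [h3]
          exact neg_mem (SetLike.GradedSMul.smul_mem (A := 𝒜) (B := 𝓛) ht
            (SetLike.GradedSMul.smul_mem (A := 𝒜) (B := 𝓛) hr'mem hxgmem))
        rw [← proj_of_mem 𝓛 h4, proj_smul_of_mem 𝒜 𝓛 ht, hy, proj_smul_of_mem 𝒜 𝓛 hr'mem,
          map_sub, hxg, proj_proj_same, sub_self, smul_zero, smul_zero]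
      · have h2 : (t * r') • x = t • (r' • xg) + t • y := by
          rw [hy, ← smul_add, ← smul_add, add_sub_cancel, mul_smul]
        rw [h2]
        exact add_mem (N.smul_mem t hr'xg) htyN

include 𝒜 in
/-- a *essential extension is essential (general source family, range assumed homogeneous) -/
theorem isEssentialInj_of_isStarEss' {M : Type u} [AddCommGroup M] [Module R M] {τ : Type u}
    [SetLike τ M] [AddSubgroupClass τ M] (ℳ : ι → τ)
    {f : M →ₗ[R] L} (hf : GrLC.IsStarEss ℳ 𝓛 f) (hrange : (LinearMap.range f).IsHomogeneous 𝓛) :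
    InjHull.IsEssentialInj f := by
  refine ⟨hf.injective, ?_⟩
  intro P hP
  obtain ⟨x, hxP, hx0⟩ := Submodule.exists_mem_ne_zero_of_ne_bot hP
  classical
  obtain ⟨d, r, _, hrx0, hrxN⟩ := exists_homogeneous_smul_mem 𝒜 𝓛
    hrange hf.essential _ (DirectSum.decompose 𝓛 x).support rfl x
    (fun g hg => proj_eq_zero_of_notMem_support 𝓛 hg) hx0
  intro hbot
  apply hrx0
  have : r • x ∈ P ⊓ LinearMap.range f := ⟨P.smul_mem r hxP, hrxN⟩
  rw [hbot] at this
  exact this

include 𝒜 in
/-- a *essential extension is essential -/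
theorem isEssentialInj_of_isStarEss {M : Type u} [AddCommGroup M] [Module R M]
    (ℳ : ι → AddSubgroup M) [DirectSum.Decomposition ℳ]
    {f : M →ₗ[R] L} (hf : GrLC.IsStarEss ℳ 𝓛 f) : InjHull.IsEssentialInj f :=
  isEssentialInj_of_isStarEss' 𝒜 𝓛 ℳ hf (range_isHomogeneous ℳ 𝓛 hf.grHom)

end

end Gr

end Groth.Agent.H6
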