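import Groth.Agent.Lib.Helper6.GrHullEx

/-! Shifts of graded modules and maps homogeneous of a given degree. -/

universe u
open DirectSum
set_option linter.unusedSectionVars false

namespace Groth.Agent.H6

namespace Gr

variable {ι : Type} [AddCommGroup ι] [DecidableEq ι]
variable {R : Type u} [CommRing R] (𝒜 : ι → AddSubgroup R) [GradedRing 𝒜]

section Shift

variable {M : Type u} [AddCommGroup M] [Module R M] (ℳ : ι → AddSubgroup M)
  [DirectSum.Decomposition ℳ] [SetLike.GradedSMul 𝒜 ℳ]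

/-- the shifted family of pieces: `(shiftGr ℳ d) k = ℳ (k - d)` -/
def shiftGr (d : ι) : ι → AddSubgroup M := fun k => ℳ (k - d)

theorem shift_isInternal (d : ι) : DirectSum.IsInternal (shiftGr ℳ d) := by
  refine isInternal_of_proj (shiftGr ℳ d) (fun k => proj ℳ (k - d)) ?_ ?_ ?_
  · intro k x hx
    exact proj_of_mem ℳ hx
  · intro k h x hx hne
    exact proj_of_mem_ne ℳ hx fun heq => hne (sub_left_injective heq)
  · intro x
    obtain ⟨s, hs⟩ := exists_finset_sum_proj ℳ x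
    rw [← hs]
    refine sum_mem fun g _ => ?_
    refine AddSubgroup.mem_iSup_of_mem (g + d) ?_
    change proj ℳ g x ∈ ℳ (g + d - d)
    rw [add_sub_cancel_right]
    exact proj_mem ℳ g x

/-- the decomposition of the shifted family -/
@[instance_reducible]
noncomputable def shiftDecomposition (d : ι) : DirectSum.Decomposition (shiftGr ℳ d) :=
  (shift_isInternal ℳ d).chooseDecomposition

theorem shift_gradedSMul (d : ι) : SetLike.GradedSMul 𝒜 (shiftGr ℳ d) where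
  smul_mem := by
    intro i j r x hr hx
    change r • x ∈ ℳ (i + j - d)
    rw [add_sub_assoc]
    exact SetLike.GradedSMul.smul_mem (A := 𝒜) (B := ℳ) hr hx

/-- the shifted graded module, bundled -/
noncomputable def GMod.ofShift (d : ι) : GrLC.GMod.{u} 𝒜 :=
  @GrLC.GMod.mk ι _ _ R _ _ _ _ 𝒜 _ M _ _ (shiftGr ℳ d) (shiftDecomposition ℳ d)
    (shift_gradedSMul 𝒜 ℳ d)

/-- existence of shifts, in a form convenient for use -/
theorem exists_gmod_shift (d : ι) :
    ∃ (Y : GrLC.GMod.{u} 𝒜) (e : M ≃ₗ[R] Y.carrier), ∀ k x, e x ∈ Y.gr k ↔ x ∈ ℳ (k - d) :=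
  ⟨GMod.ofShift 𝒜 ℳ d, (show M ≃ₗ[R] (GMod.ofShift 𝒜 ℳ d).carrier from LinearEquiv.refl R M),
    fun _ _ => Iff.rfl⟩

end Shift

section Deg

variable {M : Type u} [AddCommGroup M] [Module R M] (ℳ : ι → AddSubgroup M)
  [DirectSum.Decomposition ℳ]
variable {N : Type u} [AddCommGroup N] [Module R N] (𝒩 : ι → AddSubgroup N)
  [DirectSum.Decomposition 𝒩]

theorem isGrHomDeg_proj {f : M →ₗ[R] N} {d : ι} (hf : GrLC.IsGrHomDeg ℳ 𝒩 f d) (k : ι) (m : M) :
    f (proj ℳ k m) = proj 𝒩 (k + d) (f m) := by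
  induction m using induction_on ℳ with
  | zero => simp
  | homogeneous h m hm =>
    by_cases hhk : h = k
    · subst hhk
      rw [proj_of_mem ℳ hm, proj_of_mem 𝒩 (hf h m hm)]
    · rw [proj_of_mem_ne ℳ hm hhk, proj_of_mem_ne 𝒩 (hf h m hm) fun heq =>
        hhk (add_right_cancel heq), map_zero]
  | add m m' h1 h2 => rw [map_add, map_add, map_add, map_add, h1, h2]

theorem isGrHomDeg_proj' {f : M →ₗ[R] N} {d : ι} (hf : GrLC.IsGrHomDeg ℳ 𝒩 f d) (k : ι) (m : M) :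
    proj 𝒩 k (f m) = f (proj ℳ (k - d) m) := by
  rw [isGrHomDeg_proj ℳ 𝒩 hf, sub_add_cancel]

theorem ker_isHomogeneous_deg {f : M →ₗ[R] N} {d : ι} (hf : GrLC.IsGrHomDeg ℳ 𝒩 f d) :
    (LinearMap.ker f).IsHomogeneous ℳ := by
  intro g m hm
  rw [LinearMap.mem_ker] at hm ⊢
  change f (proj ℳ g m) = 0
  rw [isGrHomDeg_proj ℳ 𝒩 hf, hm, map_zero]

theorem range_isHomogeneous_deg {f : M →ₗ[R] N} {d : ι} (hf : GrLC.IsGrHomDeg ℳ 𝒩 f d) :
    (LinearMap.range f).IsHomogeneous 𝒩 := by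
  rintro g _ ⟨m, rfl⟩
  exact ⟨proj ℳ (g - d) m, (isGrHomDeg_proj' ℳ 𝒩 hf g m).symm⟩

end Deg

section Extend

variable {E : Type u} [AddCommGroup E] [Module R E] (𝓔 : ι → AddSubgroup E)
  [DirectSum.Decomposition 𝓔] [SetLike.GradedSMul 𝒜 𝓔]

/-- the extension property of a *injective module for maps homogeneous of degree `d` -/
theorem starInj_extend_deg (hE : GrLC.IsStarInj 𝒜 𝓔) (A B : GrLC.GMod.{u} 𝒜)
    (f : A.carrier →ₗ[R] B.carrier) (hf : GrLC.IsGrHom A.gr B.gr f) (hfinj : Function.Injective f)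
    (d : ι) (γ : A.carrier →ₗ[R] E) (hγ : GrLC.IsGrHomDeg A.gr 𝓔 γ d) :
    ∃ h : B.carrier →ₗ[R] E, GrLC.IsGrHomDeg B.gr 𝓔 h d ∧ h ∘ₗ f = γ := by
  obtain ⟨A', eA, hA⟩ := exists_gmod_shift 𝒜 A.gr d
  obtain ⟨B', eB, hB⟩ := exists_gmod_shift 𝒜 B.gr d
  let f' : A'.carrier →ₗ[R] B'.carrier := eB.toLinearMap ∘ₗ f ∘ₗ eA.symm.toLinearMap
  have hf' : GrLC.IsGrHom A'.gr B'.gr f' := by
    intro k x hx
    change eB (f (eA.symm x)) ∈ B'.gr k
    rw [hB]
    apply hf
    rw [← hA, LinearEquiv.apply_symm_apply]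
    exact hx
  have hf'inj : Function.Injective f' := by
    intro x y hxy
    have h1 : f (eA.symm x) = f (eA.symm y) := eB.injective hxy
    exact eA.symm.injective (hfinj h1)
  let γ' : A'.carrier →ₗ[R] E := γ ∘ₗ eA.symm.toLinearMap
  have hγ' : GrLC.IsGrHom A'.gr 𝓔 γ' := by
    intro k x hx
    have h1 : eA.symm x ∈ A.gr (k - d) := by
      rw [← hA, LinearEquiv.apply_symm_apply]
      exact hx
    have h2 := hγ (k - d) _ h1
    rwa [sub_add_cancel] at h2
  obtain ⟨h', hh', hh'f⟩ := hE A' B' f' hf' hf'inj γ' hγ'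
  refine ⟨h' ∘ₗ eB.toLinearMap, ?_, ?_⟩
  · intro k x hx
    apply hh'
    change eB x ∈ B'.gr (k + d)
    rw [hB, add_sub_cancel_right]
    exact hx
  · ext a
    have := LinearMap.congr_fun hh'f (eA a)
    change h' (eB (f (eA.symm (eA a)))) = γ (eA.symm (eA a)) at this
    rw [LinearEquiv.symm_apply_apply] at this
    exact this

end Extend

end Gr

end Groth.Agent.H6
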