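import Groth.Agent.Lib.Helper6.GrEssUngr

/-! A graded module killed by a homogeneous prime `q` is "free over `R ⧸ q` up to homogeneous
torsion": there is a family of homogeneous elements, linearly independent over `R ⧸ q`, whose span
contains a homogeneous multiple (by an element outside `q`) of every element. -/

universe u
open DirectSum
set_option linter.unusedSectionVars false

namespace Groth.Agent.H6

namespace Gr

variable {ι : Type} [AddCommGroup ι] [DecidableEq ι]
variable {R : Type u} [CommRing R] (𝒜 : ι → AddSubgroup R) [GradedRing 𝒜]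
variable {E : Type u} [AddCommGroup E] [Module R E] (ℰ : ι → AddSubgroup E)
  [DirectSum.Decomposition ℰ] [SetLike.GradedSMul 𝒜 ℰ]

/-- the component of a multiple of a homogeneous element -/
theorem proj_smul_homogeneous {g : ι} {x : E} (hx : x ∈ ℰ g) (r : R) (j : ι) :
    proj ℰ (j + g) (r • x) = (proj 𝒜 j r) • x := by
  induction r using DirectSum.Decomposition.inductionOn 𝒜 with
  | zero => rw [zero_smul, map_zero, map_zero, zero_smul]
  | add r r' h1 h2 => rw [add_smul, map_add, map_add, add_smul, h1, h2]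
  | homogeneous r =>
    rename_i k
    have hrx : (r : R) • x ∈ ℰ (k + g) := SetLike.GradedSMul.smul_mem (A := 𝒜) (B := ℰ) r.2 hx
    by_cases hkj : k = j
    · subst hkj
      rw [proj_of_mem ℰ hrx, proj_of_mem 𝒜 r.2]
    · have hne : k + g ≠ j + g := fun h => hkj (add_right_cancel h)
      rw [proj_of_mem_ne ℰ hrx hne, proj_of_mem_ne 𝒜 r.2 hkj, zero_smul]

include 𝒜 in
/-- the span of a set of homogeneous elements is homogeneous -/
theorem span_isHomogeneous (S : Set E) (hS : ∀ x ∈ S, ∃ g, x ∈ ℰ g) :
    (Submodule.span R S).IsHomogeneous ℰ := by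
  intro g m hm
  change proj ℰ g m ∈ Submodule.span R S
  revert g
  induction hm using Submodule.span_induction with
  | mem x hx =>
    intro g
    obtain ⟨k, hk⟩ := hS x hx
    by_cases hkg : k = g
    · subst hkg
      rw [proj_of_mem ℰ hk]
      exact Submodule.subset_span hx
    · rw [proj_of_mem_ne ℰ hk hkg]
      exact zero_mem _
  | zero => intro g; rw [map_zero]; exact zero_mem _
  | add x y _ _ h1 h2 => intro g; rw [map_add]; exact add_mem (h1 g) (h2 g)
  | smul r x _ h =>
    intro g
    induction r using DirectSum.Decomposition.inductionOn 𝒜 with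
    | zero => rw [zero_smul, map_zero]; exact zero_mem _
    | add r r' h1 h2 => rw [add_smul, map_add]; exact add_mem h1 h2
    | homogeneous r =>
      rw [proj_smul_of_mem' 𝒜 ℰ r.2]
      exact Submodule.smul_mem _ _ (h _)

variable (q : Ideal R) [hqp : q.IsPrime]

include hqp 𝒜 ℰ in
/-- the quasi-basis of a graded module over `R ⧸ q` -/
theorem exists_quasi_basis (hqE : ∀ r ∈ q, ∀ x : E, r • x = 0) :
    ∃ (B : Type u) (φ : (B →₀ R ⧸ q) →ₗ[R] E), Function.Injective φ ∧
      ∀ x : E, ∃ s : R, (∃ d, s ∈ 𝒜 d) ∧ s ∉ q ∧ s • x ∈ LinearMap.range φ := by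
  classical
  have htors : Module.IsTorsionBySet R E (q : Set R) := fun x a => hqE a a.2 x
  letI : Module (R ⧸ q) E := htors.module
  haveI : IsScalarTower R (R ⧸ q) E := htors.isScalarTower
  let H := {x : E // ∃ g, x ∈ ℰ g}
  let v : H → E := Subtype.val
  obtain ⟨s, hs, hmax⟩ := exists_maximal_linearIndepOn (R ⧸ q) v
  let φD : (s →₀ R ⧸ q) →ₗ[R ⧸ q] E := Finsupp.linearCombination (R ⧸ q) (fun b : s => v b)
  let φ : (s →₀ R ⧸ q) →ₗ[R] E := φD.restrictScalars R
  have hφinj : Function.Injective φ := hs
  have hrange : LinearMap.range φ = Submodule.span R (v '' s) := by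
    apply le_antisymm
    · rintro _ ⟨c, rfl⟩
      change Finsupp.linearCombination (R ⧸ q) (fun b : s => v b) c ∈ _
      rw [Finsupp.linearCombination_apply]
      refine Submodule.sum_mem _ fun b _ => ?_
      obtain ⟨r, hr⟩ := Ideal.Quotient.mk_surjective (c b)
      change (c b) • v b ∈ _
      rw [← hr, htors.mk_smul]
      exact Submodule.smul_mem _ _ (Submodule.subset_span ⟨b.1, b.2, rfl⟩)
    · rw [Submodule.span_le]
      rintro _ ⟨b, hb, rfl⟩
      refine ⟨Finsupp.single ⟨b, hb⟩ 1, ?_⟩
      change Finsupp.linearCombination (R ⧸ q) (fun b : s => v b) _ = _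
      rw [Finsupp.linearCombination_single, one_smul]
  have hNhom : (LinearMap.range φ).IsHomogeneous ℰ := by
    rw [hrange]
    apply span_isHomogeneous 𝒜 ℰ
    rintro _ ⟨b, _, rfl⟩
    exact b.2
  refine ⟨s, φ, hφinj, ?_⟩
  intro x
  induction x using induction_on ℰ with
  | zero =>
    exact ⟨1, ⟨0, SetLike.GradedOne.one_mem⟩, fun h => hqp.ne_top ((Ideal.eq_top_iff_one q).mpr h),
      by rw [smul_zero]; exact zero_mem _⟩
  | add x y hx hy =>
    obtain ⟨s1, ⟨d1, hd1⟩, hs1, h1⟩ := hx
    obtain ⟨s2, ⟨d2, hd2⟩, hs2, h2⟩ := hy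
    refine ⟨s1 * s2, ⟨d1 + d2, SetLike.GradedMul.mul_mem hd1 hd2⟩, ?_, ?_⟩
    · intro h
      rcases hqp.mem_or_mem h with h | h
      · exact hs1 h
      · exact hs2 h
    · rw [smul_add]
      refine add_mem ?_ ?_
      · rw [mul_comm, mul_smul]
        exact Submodule.smul_mem _ _ h1
      · rw [mul_smul]
        exact Submodule.smul_mem _ _ h2
  | homogeneous g x hx =>
    by_cases hxs : (⟨x, g, hx⟩ : H) ∈ s
    · refine ⟨1, ⟨0, SetLike.GradedOne.one_mem⟩,
        fun h => hqp.ne_top ((Ideal.eq_top_iff_one q).mpr h), ?_⟩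
      rw [one_smul, hrange]
      exact Submodule.subset_span ⟨⟨x, g, hx⟩, hxs, rfl⟩
    · obtain ⟨a, ha0, ha⟩ := hmax ⟨x, g, hx⟩ hxs
      obtain ⟨r, rfl⟩ := Ideal.Quotient.mk_surjective a
      have hrq : r ∉ q := fun h => ha0 (Ideal.Quotient.eq_zero_iff_mem.mpr h)
      have hrx : r • x ∈ LinearMap.range φ := by
        rw [hrange]
        have h1 : (Ideal.Quotient.mk q r) • v ⟨x, g, hx⟩ = r • x := htors.mk_smul r x
        rw [← h1]
        have hspan : ∀ y, y ∈ Submodule.span (R ⧸ q) (v '' s) → y ∈ Submodule.span R (v '' s) := by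
          intro y hy
          induction hy using Submodule.span_induction with
          | mem x hx => exact Submodule.subset_span hx
          | zero => exact zero_mem _
          | add x y _ _ h1 h2 => exact add_mem h1 h2
          | smul a x _ h =>
            obtain ⟨r', rfl⟩ := Ideal.Quotient.mk_surjective a
            rw [htors.mk_smul]
            exact Submodule.smul_mem _ _ h
        exact hspan _ ha
      -- some component of `r` is outside `q`
      have hex : ∃ j, proj 𝒜 j r ∉ q := by
        by_contra hcon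
        push Not at hcon
        apply hrq
        obtain ⟨T, hT⟩ := exists_finset_sum_proj 𝒜 r
        rw [← hT]
        exact Ideal.sum_mem _ fun j _ => hcon j
      obtain ⟨j, hj⟩ := hex
      refine ⟨proj 𝒜 j r, ⟨j, proj_mem 𝒜 j r⟩, hj, ?_⟩
      rw [← proj_smul_homogeneous 𝒜 ℰ hx r j]
      exact hNhom (j + g) hrx

end Gr

end Groth.Agent.H6
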