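import Groth.Agent.Lib.Helper6.SocBasic
import Groth.Agent.Lib.Helper6.GrQFree

universe u
open CategoryTheory CategoryTheory.Abelian
open scoped TensorProduct
set_option linter.unusedSectionVars false

namespace Groth.Agent.H6

namespace Soc

section Graded

variable {ι : Type} [AddCommGroup ι] [DecidableEq ι]
variable {R : Type u} [CommRing R] [IsNoetherianRing R] (𝒜 : ι → AddSubgroup R) [GradedRing 𝒜]
variable {X : Type u} [AddCommGroup X] [Module R X] (𝒳 : ι → AddSubgroup X)
  [DirectSum.Decomposition 𝒳] [SetLike.GradedSMul 𝒜 𝒳]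
variable (p : Ideal R) [hp : p.IsPrime] (hph : p.IsHomogeneous 𝒜)

omit [IsNoetherianRing R] in
/-- a common denominator -/
theorem exists_common (x : X) (F : Finset R) (h : ∀ a ∈ F, ∃ t : p.primeCompl, t • a • x = 0) :
    ∃ t : p.primeCompl, ∀ a ∈ F, t • a • x = 0 := by
  classical
  induction F using Finset.induction_on with
  | empty => exact ⟨1, fun a ha => absurd ha (Finset.notMem_empty a)⟩
  | insert b F hb ih =>
    obtain ⟨t', ht'⟩ := ih (fun a ha => h a (Finset.mem_insert_of_mem ha))
    obtain ⟨tb, htb⟩ := h b (Finset.mem_insert_self b F)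
    refine ⟨tb * t', fun a ha => ?_⟩
    rcases Finset.mem_insert.mp ha with rfl | ha
    · rw [mul_comm, mul_smul, htb, smul_zero]
    · rw [mul_smul, ht' a ha, smul_zero]

include hph in
omit [IsNoetherianRing R] hp in
/-- components of an element killed by a homogeneous ideal are killed -/
theorem smul_proj_eq_zero {x : X} (hx : ∀ a ∈ p, a • x = 0) (g : ι) :
    ∀ a ∈ p, a • Gr.proj 𝒳 g x = 0 := by
  intro a ha
  obtain ⟨s, hs⟩ := Gr.exists_finset_sum_proj 𝒜 a
  rw [← hs, Finset.sum_smul]
  apply Finset.sum_eq_zero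
  intro h _
  have hmem : Gr.proj 𝒜 h a ∈ p := hph h ha
  rw [← Gr.proj_smul_of_mem 𝒜 𝒳 (Gr.proj_mem 𝒜 h a) g x, hx _ hmem, map_zero]

include hph in
/-- the socle of `X_p` is generated by homogeneous elements of `X` killed by `p` -/
theorem soc_le (W : Submodule (Localization.AtPrime p) (LocalizedModule p.primeCompl X))
    (hW : ∀ g, ∀ y ∈ 𝒳 g, (∀ a ∈ p, a • y = 0) → LocalizedModule.mk y 1 ∈ W) :
    soc p X ≤ W := by
  intro v hv
  induction v using LocalizedModule.induction_on with
  | h x s =>
    rw [mk_mem_soc_iff] at hv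
    obtain ⟨F, hF⟩ : p.FG := (isNoetherianRing_iff_ideal_fg R).mp inferInstance p
    obtain ⟨t, ht⟩ := exists_common p x F (fun a ha => hv a (hF ▸ Ideal.subset_span ha))
    have hx' : ∀ a ∈ p, a • (t • x) = 0 := by
      intro a ha
      rw [← hF] at ha
      induction ha using Submodule.span_induction with
      | mem a ha => rw [smul_comm]; exact ht a ha
      | zero => rw [zero_smul]
      | add a b _ _ h1 h2 => rw [add_smul, h1, h2, add_zero]
      | smul r a _ h1 => rw [smul_eq_mul, mul_smul, h1, smul_zero]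
    have h1 : LocalizedModule.mk x s = (Localization.mk (1 : R) (t * s)) •
        LocalizedModule.mk (t • x) (1 : p.primeCompl) := by
      rw [LocalizedModule.mk_smul_mk, one_smul, mul_one]
      exact (LocalizedModule.mk_cancel_common_left t s x).symm
    rw [h1]
    apply W.smul_mem
    obtain ⟨D, hD⟩ := Gr.exists_finset_sum_proj 𝒳 (t • x)
    have h2 : LocalizedModule.mk (t • x) (1 : p.primeCompl) =
        ∑ g ∈ D, LocalizedModule.mkLinearMap p.primeCompl X (Gr.proj 𝒳 g (t • x)) := by
      rw [← map_sum, hD]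
      rfl
    rw [h2]
    apply W.sum_mem
    intro g _
    exact hW g _ (Gr.proj_mem 𝒳 g _) (smul_proj_eq_zero 𝒜 𝒳 p hph hx' g)

include 𝒜 in
omit [IsNoetherianRing R] in
/-- a nonzero homogeneous element has a nonzero multiple in an essential submodule -/
theorem exists_smul_mem_of_ess {N : Submodule R X}
    (hess : ∀ Q : Submodule R X, Q.IsHomogeneous 𝒳 → Q ≠ ⊥ → Q ⊓ N ≠ ⊥) {g : ι} {y : X}
    (hy : y ∈ 𝒳 g) (hy0 : y ≠ 0) : ∃ r : R, r • y ≠ 0 ∧ r • y ∈ N := by
  have hQ : (Submodule.span R {y}).IsHomogeneous 𝒳 := by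
    apply Gr.span_isHomogeneous 𝒜 𝒳
    intro x hx
    rw [Set.mem_singleton_iff] at hx
    exact ⟨g, hx ▸ hy⟩
  have hQ0 : Submodule.span R {y} ≠ ⊥ := by
    intro h
    rw [Submodule.span_singleton_eq_bot] at h
    exact hy0 h
  have := hess _ hQ hQ0
  rw [Submodule.ne_bot_iff] at this
  obtain ⟨z, hz, hz0⟩ := this
  obtain ⟨r, rfl⟩ := Submodule.mem_span_singleton.mp hz.1
  exact ⟨r, hz0, hz.2⟩

include hph in
/-- a *essential extension has the same socle at a homogeneous prime -/
theorem length_soc_eq_of_ess {M : Type u} [AddCommGroup M] [Module R M] (f : M →ₗ[R] X)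
    (hf : Function.Injective f)
    (hess : ∀ Q : Submodule R X, Q.IsHomogeneous 𝒳 → Q ≠ ⊥ → Q ⊓ LinearMap.range f ≠ ⊥) :
    Module.length (Localization.AtPrime p) (soc p M) =
      Module.length (Localization.AtPrime p) (soc p X) := by
  have hFinj : Function.Injective (LocalizedModule.map p.primeCompl f) :=
    LocalizedModule.map_injective _ f hf
  have hmap : (soc p M).map (LocalizedModule.map p.primeCompl f) = soc p X := by
    apply le_antisymm
    · rintro _ ⟨v, hv, rfl⟩
      rw [SetLike.mem_coe, mem_soc_iff] at hv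
      rw [mem_soc_iff]
      intro a ha
      rw [← map_smul, hv a ha, map_zero]
    · apply soc_le 𝒜 𝒳 p hph
      intro g y hy hpy
      by_cases hy0 : y = 0
      · subst hy0
        rw [LocalizedModule.zero_mk]
        exact Submodule.zero_mem _
      · obtain ⟨r, hr0, m, hm⟩ := exists_smul_mem_of_ess 𝒜 𝒳 hess hy hy0
        have hrp : r ∉ p := fun h => hr0 (hpy r h)
        refine ⟨LocalizedModule.mk m ⟨r, hrp⟩, ?_, ?_⟩
        · rw [SetLike.mem_coe, mk_mem_soc_iff]
          intro a ha
          refine ⟨1, ?_⟩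
          rw [one_smul]
          apply hf
          rw [map_smul, hm, map_zero, smul_comm, hpy a ha, smul_zero]
        · rw [LocalizedModule.map_mk, hm]
          have := LocalizedModule.mk_cancel_common_left (⟨r, hrp⟩ : p.primeCompl) 1 y
          rw [mul_one] at this
          exact this
  rw [← hmap]
  exact (Submodule.equivMapOfInjective _ hFinj (soc p M)).length_eq

include hph in
theorem bassNum_zero_eq_of_ess {M : Type u} [AddCommGroup M] [Module R M] (f : M →ₗ[R] X)
    (hf : Function.Injective f)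
    (hess : ∀ Q : Submodule R X, Q.IsHomogeneous 𝒳 → Q ≠ ⊥ → Q ⊓ LinearMap.range f ≠ ⊥) :
    GrLC.bassNum p M 0 = GrLC.bassNum p X 0 := by
  rw [bassNum_zero_eq, bassNum_zero_eq]
  exact length_soc_eq_of_ess 𝒜 𝒳 p hph f hf hess

end Graded

end Soc

end Groth.Agent.H6
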