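import Groth.Agent.Lib.Helper6.PolyCan
import Groth.Agent.Lib.Helper6.GrShift
import Groth.Agent.Lib.Helper6.SocGraded
import Groth.Agent.Lib.Helper6.GrEssUngr

/-! Graded Matlis duality for a graded ring defined over a field: the degree-zero trace on the
*injective envelope of the residue field and the duality `*Hom(N, E)_d ≅ Hom_k(N_{-d}, k)`. -/

universe u
open DirectSum
set_option linter.unusedSectionVars false

namespace Groth.Agent.H6

namespace GDual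

open Gr

section Pos

variable {R : Type u} [CommRing R] (𝒜 : ℤ → AddSubgroup R) [GradedRing 𝒜]
  (hpos : ∀ n : ℤ, n < 0 → 𝒜 n = ⊥)

include hpos in
theorem proj_neg_eq_zero (n : ℤ) (hn : n < 0) (r : R) : proj 𝒜 n r = 0 := by
  have h2 := proj_mem 𝒜 n r
  rw [hpos n hn] at h2
  exact h2

include hpos in
/-- the degree-zero component is multiplicative on a positively graded ring -/
theorem proj_zero_mul (r x : R) : proj 𝒜 0 (r * x) = proj 𝒜 0 r * proj 𝒜 0 x := by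
  induction x using induction_on 𝒜 with
  | zero => simp
  | homogeneous n x hx =>
    rw [proj_mul_of_mem_right 𝒜 hx]
    rcases lt_trichotomy n 0 with hn | hn | hn
    · have : x = 0 := by
        rw [hpos n hn] at hx
        exact hx
      rw [this, mul_zero, map_zero, mul_zero]
    · subst hn
      rw [sub_zero, proj_of_mem 𝒜 hx]
    · rw [proj_neg_eq_zero 𝒜 hpos (0 - n) (by omega), proj_of_mem_ne 𝒜 hx (ne_of_gt hn), zero_mul,
        mul_zero]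
  | add x x' h1 h2 => rw [mul_add, map_add, map_add, mul_add, h1, h2]

variable {M : Type u} [AddCommGroup M] [Module R M] (ℳ : ℤ → AddSubgroup M)
  [DirectSum.Decomposition ℳ] [SetLike.GradedSMul 𝒜 ℳ]

include hpos in
/-- the lowest component of a multiple -/
theorem proj_smul_of_low (d : ℤ) (x : M) (hx : ∀ i : ℤ, i < d → proj ℳ i x = 0) (r : R) :
    (∀ i : ℤ, i < d → proj ℳ i (r • x) = 0) ∧ proj ℳ d (r • x) = proj 𝒜 0 r • proj ℳ d x := by
  obtain ⟨s, hs⟩ := exists_finset_sum_proj ℳ x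
  have hterm : ∀ (t : ℤ) (i : ℤ), i ≤ d → proj ℳ i (r • proj ℳ t x) =
      if t = i then proj 𝒜 0 r • proj ℳ t x else 0 := by
    intro t i hi
    rw [proj_smul_of_mem_right 𝒜 ℳ (proj_mem ℳ t x)]
    by_cases hti : t = i
    · subst hti
      rw [sub_self, if_pos rfl]
    · rw [if_neg hti]
      rcases lt_or_gt_of_ne hti with h | h
      · -- t < i ≤ d, so proj_t x = 0
        rw [hx t (lt_of_lt_of_le h hi), smul_zero]
      · rw [proj_neg_eq_zero 𝒜 hpos (i - t) (by omega), zero_smul]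
  have hsum : ∀ i : ℤ, i ≤ d → proj ℳ i (r • x) = proj 𝒜 0 r • proj ℳ i x := by
    intro i hi
    conv_lhs => rw [← hs, Finset.smul_sum, map_sum]
    rw [Finset.sum_congr rfl (fun t _ => hterm t i hi)]
    rw [Finset.sum_ite_eq']
    split_ifs with his
    · rfl
    · have : proj ℳ i x = 0 := by
        rw [← hs, map_sum]
        apply Finset.sum_eq_zero
        intro t ht
        have hne : t ≠ i := fun h => his (h ▸ ht)
        exact proj_proj_ne ℳ hne x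
      rw [this, smul_zero]
  refine ⟨fun i hi => ?_, hsum d le_rfl⟩
  rw [hsum i (le_of_lt hi), hx i hi, smul_zero]

end Pos

section Set

variable {R : Type u} [CommRing R] (𝒜 : ℤ → AddSubgroup R) [GradedRing 𝒜]
variable (m : HomogeneousIdeal 𝒜)
variable {E' : Type u} [AddCommGroup E'] [Module R E'] (𝓔 : ℤ → AddSubgroup E')
  [DirectSum.Decomposition 𝓔] [SetLike.GradedSMul 𝒜 𝓔]
  (e : (R ⧸ m.toIdeal) →ₗ[R] E')

/-- a graded ring defined over a field, with a *injective envelope of its residue field -/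
structure Setting : Prop where
  hpos : ∀ n : ℤ, n < 0 → 𝒜 n = ⊥
  h0 : IsField (GrLC.deg0 𝒜)
  hmsp : m.toIdeal = Ideal.span (⋃ n ∈ Set.Ioi (0 : ℤ), (𝒜 n : Set R))
  he : GrLC.IsStarInjHull 𝒜 (GrLC.quotGr 𝒜 m) 𝓔 e

namespace Setting

variable {𝒜 m 𝓔 e} (S : Setting 𝒜 m 𝓔 e)

include S

theorem ω_mem : e 1 ∈ 𝓔 0 :=
  S.he.grHom 0 1 (PolyCan.mk_mem_quotGr_zero 𝒜 S.hpos m S.hmsp 1)

theorem range_le {x : E'} (hx : x ∈ LinearMap.range e) : x ∈ 𝓔 0 := by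
  obtain ⟨q, rfl⟩ := hx
  exact S.he.grHom 0 q (PolyCan.mk_mem_quotGr_zero 𝒜 S.hpos m S.hmsp q)

theorem pos_eq_bot (j : ℤ) (hj : 0 < j) : 𝓔 j = ⊥ :=
  PolyCan.hull_pos_eq_bot 𝒜 S.hpos m S.hmsp 𝓔 e S.he.toIsStarEss j hj

theorem eq_zero_of_pos {j : ℤ} (hj : 0 < j) {x : E'} (hx : x ∈ 𝓔 j) : x = 0 := by
  rw [S.pos_eq_bot j hj] at hx
  exact hx

theorem proj_zero_eq_zero_of_mem {x : R} (hx : x ∈ m.toIdeal) : proj 𝒜 0 x = 0 := by
  have key : ∀ x ∈ Submodule.span R (⋃ n ∈ Set.Ioi (0 : ℤ), (𝒜 n : Set R)), proj 𝒜 0 x = 0 := by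
    intro x hx'
    induction hx' using Submodule.span_induction with
    | mem y hy =>
      simp only [Set.mem_iUnion, Set.mem_Ioi, SetLike.mem_coe] at hy
      obtain ⟨n, hn, hyn⟩ := hy
      exact proj_of_mem_ne 𝒜 hyn (ne_of_gt hn)
    | zero => exact map_zero _
    | add y y' _ _ h1 h2 => rw [map_add, h1, h2, add_zero]
    | smul r y _ h1 => rw [smul_eq_mul, proj_zero_mul 𝒜 S.hpos, h1, mul_zero]
  rw [S.hmsp] at hx
  exact key x hx

theorem smul_ω (r : R) : r • e 1 = proj 𝒜 0 r • e 1 := by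
  have h1 : r - proj 𝒜 0 r ∈ m.toIdeal := PolyCan.sub_proj_zero_mem 𝒜 S.hpos m S.hmsp r
  have h2 : (r - proj 𝒜 0 r) • e 1 = 0 := by
    rw [← map_smul]
    have : (r - proj 𝒜 0 r) • (1 : R ⧸ m.toIdeal) = 0 := by
      change Ideal.Quotient.mk m.toIdeal ((r - proj 𝒜 0 r) * 1) = 0
      rw [mul_one]
      exact Ideal.Quotient.eq_zero_iff_mem.mpr h1
    rw [this, map_zero]
  rw [sub_smul, sub_eq_zero] at h2
  exact h2

theorem e_mk (s : R) : e (Ideal.Quotient.mk m.toIdeal s) = proj 𝒜 0 s • e 1 := by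
  have : Ideal.Quotient.mk m.toIdeal s = s • (1 : R ⧸ m.toIdeal) := by
    change _ = Ideal.Quotient.mk m.toIdeal (s * 1)
    rw [mul_one]
  rw [this, map_smul, S.smul_ω]

theorem coef_unique {c : R} (hc : c ∈ 𝒜 0) (h : c • e 1 = 0) : c = 0 := by
  have h1 : e (Ideal.Quotient.mk m.toIdeal c) = 0 := by
    rw [S.e_mk, proj_of_mem 𝒜 hc, h]
  have h2 : Ideal.Quotient.mk m.toIdeal c = 0 := S.he.injective (h1.trans (map_zero e).symm)
  have h3 : c ∈ m.toIdeal := Ideal.Quotient.eq_zero_iff_mem.mp h2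
  rw [← proj_of_mem 𝒜 hc]
  exact S.proj_zero_eq_zero_of_mem h3

theorem exists_inv {c : R} (hc : c ∈ 𝒜 0) (hc0 : c ≠ 0) : ∃ u ∈ 𝒜 0, u * c = 1 := by
  have hne : (⟨c, hc⟩ : GrLC.deg0 𝒜) ≠ 0 := fun h => hc0 (congrArg Subtype.val h)
  obtain ⟨u, hu⟩ := S.h0.mul_inv_cancel hne
  refine ⟨u.1, u.2, ?_⟩
  have := congrArg Subtype.val hu
  rw [mul_comm]
  exact this

theorem exists_coef_of_mem {y : E'} (hy : y ∈ 𝓔 0) : ∃ c ∈ 𝒜 0, y = c • e 1 := by
  by_cases hy0 : y = 0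
  · exact ⟨0, zero_mem _, by rw [hy0, zero_smul]⟩
  obtain ⟨r, hr0, hr⟩ := Soc.exists_smul_mem_of_ess 𝒜 𝓔 S.he.essential hy hy0
  have h1 : r • y = proj 𝒜 0 r • y := by
    have := proj_smul_of_mem_right 𝒜 𝓔 hy 0 r
    rw [proj_of_mem 𝓔 (S.range_le hr), sub_zero] at this
    exact this
  have hr₀ : proj 𝒜 0 r ≠ 0 := by
    intro h
    rw [h, zero_smul] at h1
    exact hr0 h1
  obtain ⟨u, hu, hur⟩ := S.exists_inv (proj_mem 𝒜 0 r) hr₀
  obtain ⟨q, hq⟩ := hr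
  obtain ⟨s, rfl⟩ := Ideal.Quotient.mk_surjective q
  rw [S.e_mk, h1] at hq
  refine ⟨u * proj 𝒜 0 s, ?_, ?_⟩
  · have := SetLike.GradedMul.mul_mem (A := 𝒜) hu (proj_mem 𝒜 0 s)
    rwa [add_zero] at this
  · rw [mul_smul, hq, ← mul_smul, hur, one_smul]

theorem exists_coef (x : E') : ∃ c ∈ 𝒜 0, proj 𝓔 0 x = c • e 1 :=
  S.exists_coef_of_mem (proj_mem 𝓔 0 x)

/-- the degree-zero trace `E → R_0` -/
noncomputable def tr (x : E') : R := (S.exists_coef x).choose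

theorem tr_mem (x : E') : S.tr x ∈ 𝒜 0 := (S.exists_coef x).choose_spec.1

theorem tr_spec (x : E') : proj 𝓔 0 x = S.tr x • e 1 := (S.exists_coef x).choose_spec.2

theorem tr_eq {x : E'} {c : R} (hc : c ∈ 𝒜 0) (h : proj 𝓔 0 x = c • e 1) : S.tr x = c := by
  have h1 : (S.tr x - c) • e 1 = 0 := by
    rw [sub_smul, ← S.tr_spec, h, sub_self]
  have := S.coef_unique (sub_mem (S.tr_mem x) hc) h1
  exact sub_eq_zero.mp this

theorem tr_add (x y : E') : S.tr (x + y) = S.tr x + S.tr y := by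
  apply S.tr_eq (add_mem (S.tr_mem x) (S.tr_mem y))
  rw [map_add, S.tr_spec, S.tr_spec, add_smul]

theorem tr_zero : S.tr (0 : E') = 0 := by
  apply S.tr_eq (zero_mem _)
  rw [map_zero, zero_smul]

theorem tr_smul {c : R} (hc : c ∈ 𝒜 0) (x : E') : S.tr (c • x) = c * S.tr x := by
  have h1 : c * S.tr x ∈ 𝒜 0 := by
    have := SetLike.GradedMul.mul_mem (A := 𝒜) hc (S.tr_mem x)
    rwa [add_zero] at this
  apply S.tr_eq h1
  rw [proj_smul_of_mem' 𝒜 𝓔 hc, sub_zero, S.tr_spec, mul_smul]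

theorem tr_ω {c : R} (hc : c ∈ 𝒜 0) : S.tr (c • e 1) = c := by
  apply S.tr_eq hc
  rw [proj_of_mem 𝓔]
  have := SetLike.GradedSMul.smul_mem (A := 𝒜) (B := 𝓔) hc S.ω_mem
  rwa [vadd_eq_add, add_zero] at this

theorem tr_of_mem_ne {j : ℤ} {x : E'} (hx : x ∈ 𝓔 j) (hj : j ≠ 0) : S.tr x = 0 := by
  apply S.tr_eq (zero_mem _)
  rw [proj_of_mem_ne 𝓔 hx hj, zero_smul]

theorem eq_of_mem_zero {x : E'} (hx : x ∈ 𝓔 0) : x = S.tr x • e 1 := by
  rw [← S.tr_spec, proj_of_mem 𝓔 hx]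

theorem eq_zero_of_tr {x : E'} (hx : x ∈ 𝓔 0) (h : S.tr x = 0) : x = 0 := by
  rw [S.eq_of_mem_zero hx, h, zero_smul]

end Setting

end Set

section D1

variable {R : Type u} [CommRing R] {𝒜 : ℤ → AddSubgroup R} [GradedRing 𝒜]
variable {m : HomogeneousIdeal 𝒜}
variable {E' : Type u} [AddCommGroup E'] [Module R E'] {𝓔 : ℤ → AddSubgroup E'}
  [DirectSum.Decomposition 𝓔] [SetLike.GradedSMul 𝒜 𝓔]
  {e : (R ⧸ m.toIdeal) →ₗ[R] E'} (S : Setting 𝒜 m 𝓔 e)
variable {N : Type u} [AddCommGroup N] [Module R N] (𝒩 : ℤ → AddSubgroup N)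
  [DirectSum.Decomposition 𝒩] [SetLike.GradedSMul 𝒜 𝒩]

include S in
/-- a homogeneous map into the *injective envelope of the residue field is determined by its
degree-zero trace -/
theorem hom_eq_zero_of_tr {d : ℤ} {f : N →ₗ[R] E'} (hf : GrLC.IsGrHomDeg 𝒩 𝓔 f d)
    (h : ∀ x ∈ 𝒩 (-d), S.tr (f x) = 0) : f = 0 := by
  by_contra hf0
  have hex : ∃ x, f x ≠ 0 := by
    by_contra hcon
    push Not at hcon
    exact hf0 (LinearMap.ext hcon)
  obtain ⟨x, hx⟩ := hex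
  have hex2 : ∃ t, f (proj 𝒩 t x) ≠ 0 := by
    by_contra hcon
    push Not at hcon
    apply hx
    obtain ⟨s, hs⟩ := exists_finset_sum_proj 𝒩 x
    rw [← hs, map_sum]
    exact Finset.sum_eq_zero fun t _ => hcon t
  obtain ⟨t, ht⟩ := hex2
  have hy : f (proj 𝒩 t x) ∈ 𝓔 (t + d) := hf t _ (proj_mem 𝒩 t x)
  obtain ⟨r, hr0, hr⟩ := Soc.exists_smul_mem_of_ess 𝒜 𝓔 S.he.essential hy ht
  have h1 : r • f (proj 𝒩 t x) = proj 𝒜 (0 - (t + d)) r • f (proj 𝒩 t x) := by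
    have := proj_smul_of_mem_right 𝒜 𝓔 hy 0 r
    rw [proj_of_mem 𝓔 (S.range_le hr)] at this
    exact this
  have h2 : proj 𝒜 (0 - (t + d)) r • proj 𝒩 t x ∈ 𝒩 (-d) := by
    have := SetLike.GradedSMul.smul_mem (A := 𝒜) (B := 𝒩) (proj_mem 𝒜 (0 - (t + d)) r)
      (proj_mem 𝒩 t x)
    rw [vadd_eq_add] at this
    have e1 : 0 - (t + d) + t = -d := by ring
    rwa [e1] at this
  apply hr0
  rw [h1, ← map_smul]
  apply S.eq_zero_of_tr
  · rw [map_smul, ← h1]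
    exact S.range_le hr
  · exact h _ h2

include S in
/-- every `R_0`-linear functional on `N_{-d}` is the trace of a homogeneous map of degree `d`
into the *injective envelope of the residue field -/
theorem exists_hom_of_functional (d : ℤ) (l : N →+ R) (hl0 : ∀ x ∈ 𝒩 (-d), l x ∈ 𝒜 0)
    (hls : ∀ c ∈ 𝒜 0, ∀ x ∈ 𝒩 (-d), l (c • x) = c * l x) :
    ∃ f : N →ₗ[R] E', GrLC.IsGrHomDeg 𝒩 𝓔 f d ∧ ∀ x ∈ 𝒩 (-d), S.tr (f x) = l x := by
  let P : Submodule R N :=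
    { carrier := {x | ∀ i : ℤ, i < -d → proj 𝒩 i x = 0}
      add_mem' := fun {x y} hx hy i hi => by rw [map_add, hx i hi, hy i hi, add_zero]
      zero_mem' := fun i _ => map_zero _
      smul_mem' := fun r x hx => (proj_smul_of_low 𝒜 S.hpos 𝒩 (-d) x hx r).1 }
  have hP : P.IsHomogeneous 𝒩 := by
    intro t x hx i hi
    change proj 𝒩 i (proj 𝒩 t x) = 0
    by_cases hti : t = i
    · subst hti
      rw [proj_proj_same, hx t hi]
    · exact proj_proj_ne 𝒩 hti x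
  let f₀ : P →ₗ[R] E' :=
    { toFun := fun x => l (proj 𝒩 (-d) x.1) • e 1
      map_add' := fun x y => by
        change l (proj 𝒩 (-d) (x.1 + y.1)) • e 1 = _
        rw [map_add, map_add, add_smul]
      map_smul' := fun r x => by
        change l (proj 𝒩 (-d) (r • x.1)) • e 1 = r • (l (proj 𝒩 (-d) x.1) • e 1)
        rw [(proj_smul_of_low 𝒜 S.hpos 𝒩 (-d) x.1 x.2 r).2,
          hls _ (proj_mem 𝒜 0 r) _ (proj_mem 𝒩 (-d) x.1), smul_comm, S.smul_ω r, mul_smul,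
          smul_comm] }
  have hf₀ : GrLC.IsGrHomDeg (subGr 𝒩 P) 𝓔 f₀ d := by
    intro t x hx
    have hxt : (x : N) ∈ 𝒩 t := hx
    change l (proj 𝒩 (-d) x.1) • e 1 ∈ 𝓔 (t + d)
    by_cases htd : t = -d
    · subst htd
      rw [proj_of_mem 𝒩 hxt, neg_add_cancel]
      have := SetLike.GradedSMul.smul_mem (A := 𝒜) (B := 𝓔) (hl0 _ hxt) S.ω_mem
      rwa [vadd_eq_add, add_zero] at this
    · rw [proj_of_mem_ne 𝒩 hxt htd, map_zero, zero_smul]
      exact zero_mem _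
  obtain ⟨h, hh, hcomp⟩ : ∃ h : N →ₗ[R] E', GrLC.IsGrHomDeg 𝒩 𝓔 h d ∧ h ∘ₗ P.subtype = f₀ :=
    starInj_extend_deg 𝒜 𝓔 S.he.starInj (GMod.ofSub 𝒜 𝒩 hP)
      (GrLC.GMod.of 𝒜 N 𝒩) P.subtype (fun _ _ hx => hx) Subtype.val_injective d f₀ hf₀
  refine ⟨h, hh, fun x hx => ?_⟩
  have hxP : x ∈ P := fun i hi => proj_of_mem_ne 𝒩 hx (by omega)
  have h1 : h x = f₀ ⟨x, hxP⟩ := LinearMap.congr_fun hcomp ⟨x, hxP⟩
  rw [h1]
  change S.tr (l (proj 𝒩 (-d) x) • e 1) = l x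
  rw [proj_of_mem 𝒩 hx]
  exact S.tr_ω (hl0 x hx)

end D1

end GDual

end Groth.Agent.H6
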