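import Groth.Agent.Lib.Helper6.LCExact
import Groth.Agent.Lib.Helper6.LCZero
import Groth.Prelude.Def_GrLC

/-! Local cohomology can be computed from a resolution by acyclic modules:
`H^i_J(M) ≅ H^i(Γ_J(X^•))`. -/

universe u
open CategoryTheory CategoryTheory.Abelian

namespace Groth.Agent.H6

namespace LC

variable {R : Type u} [CommRing R]

/-- a resolution of `M` by `Γ_J`-acyclic modules -/
structure AcycRes (J : Ideal R) (M : Type u) [AddCommGroup M] [Module R M] where
  X : ℕ → Type u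
  [acg : ∀ n, AddCommGroup (X n)]
  [mod : ∀ n, Module R (X n)]
  d : ∀ n, X n →ₗ[R] X (n + 1)
  ε : M →ₗ[R] X 0
  ε_injective : Function.Injective ε
  exact_zero : LinearMap.ker (d 0) = LinearMap.range ε
  exact_succ : ∀ n, LinearMap.ker (d (n + 1)) = LinearMap.range (d n)
  acyclic : ∀ n i, Subsingleton ((localCohomology J (i + 1)).obj (ModuleCat.of R (X n)))

namespace AcycRes

attribute [instance] AcycRes.acg AcycRes.mod

variable {J : Ideal R} {M : Type u} [AddCommGroup M] [Module R M] (E : AcycRes J M)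

/-- cocycles of `Γ_J(X^•)` -/
def cocyc (i : ℕ) : Submodule R (E.X i) :=
  GrLC.gam J (E.X i) ⊓ LinearMap.ker (E.d i)

/-- coboundaries of `Γ_J(X^•)` -/
def cobdy : (i : ℕ) → Submodule R (E.X i)
  | 0 => ⊥
  | n + 1 => (GrLC.gam J (E.X n)).map (E.d n)

/-- the cohomology of `Γ_J(X^•)` -/
abbrev H (i : ℕ) : Type u :=
  ↥(E.cocyc i) ⧸ (E.cobdy i).comap (E.cocyc i).subtype

/-- `d 0` corestricted to `ker (d 1)` -/
def d0' : E.X 0 →ₗ[R] LinearMap.ker (E.d 1) :=
  (E.d 0).codRestrict _ (fun x => by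
    rw [E.exact_succ 0]
    exact ⟨x, rfl⟩)

theorem d0'_apply (x : E.X 0) : (E.d0' x : E.X 1) = E.d 0 x := rfl

theorem d_ε (m : M) : E.d 0 (E.ε m) = 0 := by
  have : E.ε m ∈ LinearMap.ker (E.d 0) := by
    rw [E.exact_zero]
    exact ⟨m, rfl⟩
  exact this

theorem d0'_comp_ε : E.d0' ∘ₗ E.ε = 0 := by
  ext m
  exact E.d_ε m

theorem d0'_eq_zero_iff (y : E.X 0) : E.d0' y = 0 ↔ y ∈ Set.range E.ε := by
  have h1 : E.d0' y = 0 ↔ y ∈ LinearMap.ker (E.d 0) := by
    rw [LinearMap.mem_ker, ← E.d0'_apply]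
    constructor
    · intro h; rw [h]; rfl
    · intro h; exact Subtype.ext h
  rw [h1, E.exact_zero]
  rfl

theorem d0'_surjective : Function.Surjective E.d0' := by
  intro z
  have hz : (z : E.X 1) ∈ LinearMap.range (E.d 0) := by
    rw [← E.exact_succ 0]
    exact z.2
  obtain ⟨y, hy⟩ := hz
  exact ⟨y, Subtype.ext hy⟩

/-- the short exact sequence `0 → M → X 0 → ker (d 1) → 0` -/
noncomputable def ses : ShortComplex (ModuleCat.{u} R) :=
  ShortComplex.mk (ModuleCat.ofHom E.ε) (ModuleCat.ofHom E.d0') (by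
    rw [← ModuleCat.ofHom_comp, E.d0'_comp_ε]; rfl)

theorem ses_shortExact : E.ses.ShortExact :=
  ModuleCat.shortComplex_shortExact _ (fun y => E.d0'_eq_zero_iff y) E.ε_injective
    E.d0'_surjective

/-- the shifted resolution, of `ker (d 1)` -/
def shift : AcycRes J (LinearMap.ker (E.d 1)) where
  X n := E.X (n + 1)
  d n := E.d (n + 1)
  ε := (LinearMap.ker (E.d 1)).subtype
  ε_injective := Subtype.val_injective
  exact_zero := (Submodule.range_subtype _).symm
  exact_succ n := E.exact_succ (n + 1)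
  acyclic n i := E.acyclic (n + 1) i

/-- the comparison statement in degree `i` -/
def HasComparison (i : ℕ) : Prop :=
  ∃ Φ : ↥(E.cocyc i) →ₗ[R] (localCohomology J i).obj (ModuleCat.of R M),
    Function.Surjective Φ ∧ LinearMap.ker Φ = (E.cobdy i).comap (E.cocyc i).subtype

theorem mem_gam_iff {N : Type u} [AddCommGroup N] [Module R N] (x : N) :
    x ∈ GrLC.gam J N ↔ x ∈ DRing.torsionSub J N := Iff.rfl

/-- the map `Γ_J(M) → Z^0(Γ_J(X))` -/
noncomputable def ψ0 : DRing.torsionSub J M →ₗ[R] E.cocyc 0 :=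
  (E.ε ∘ₗ (DRing.torsionSub J M).subtype).codRestrict (E.cocyc 0) (fun m => by
    refine ⟨?_, ?_⟩
    · obtain ⟨n, hn⟩ := m.2
      refine ⟨n, fun a ha => ?_⟩
      change a • E.ε m.1 = 0
      rw [← map_smul, hn a ha, map_zero]
    · rw [SetLike.mem_coe, LinearMap.mem_ker]
      exact E.d_ε m.1)

theorem ψ0_apply (m : DRing.torsionSub J M) : ((E.ψ0 m : E.cocyc 0) : E.X 0) = E.ε m.1 := rfl

theorem ψ0_bijective : Function.Bijective E.ψ0 := by
  constructor
  · intro a b hab
    apply Subtype.ext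
    apply E.ε_injective
    rw [← ψ0_apply, ← ψ0_apply, hab]
  · intro x
    have hx : (x : E.X 0) ∈ LinearMap.range E.ε := by
      rw [← E.exact_zero]
      exact x.2.2
    obtain ⟨m, hm⟩ := hx
    have hmt : m ∈ DRing.torsionSub J M := by
      obtain ⟨n, hn⟩ := x.2.1
      refine ⟨n, fun a ha => ?_⟩
      apply E.ε_injective
      rw [map_smul, hm, map_zero]
      exact hn a ha
    exact ⟨⟨m, hmt⟩, Subtype.ext hm⟩

theorem hasComparison_zero : E.HasComparison 0 := by
  let e := LinearEquiv.ofBijective E.ψ0 E.ψ0_bijective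
  refine ⟨(zeroEquiv J (ModuleCat.of R M)).symm.toLinearMap ∘ₗ e.symm.toLinearMap, ?_, ?_⟩
  · exact (zeroEquiv J (ModuleCat.of R M)).symm.surjective.comp e.symm.surjective
  · have h1 : LinearMap.ker ((zeroEquiv J (ModuleCat.of R M)).symm.toLinearMap ∘ₗ
        e.symm.toLinearMap) = ⊥ := by
      rw [LinearMap.ker_eq_bot]
      exact (zeroEquiv J (ModuleCat.of R M)).symm.injective.comp e.symm.injective
    rw [h1]
    change ⊥ = Submodule.comap (E.cocyc 0).subtype ⊥
    rw [Submodule.comap_bot, Submodule.ker_subtype]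

theorem zeroToSelf_zeroEquiv_symm (N : ModuleCat.{u} R) (t : DRing.torsionSub J N) :
    zeroToSelf J N ((zeroEquiv J N).symm t) = t.1 := by
  have : (zeroEquiv J N ((zeroEquiv J N).symm t) : N) = zeroToSelf J N ((zeroEquiv J N).symm t) :=
    rfl
  rw [← this, LinearEquiv.apply_symm_apply]

/-- the map `Z^1(Γ_J(X)) → Γ_J(ker (d 1))` -/
noncomputable def κ1 : E.cocyc 1 →ₗ[R] DRing.torsionSub J (LinearMap.ker (E.d 1)) :=
  (LinearMap.codRestrict (LinearMap.ker (E.d 1)) (E.cocyc 1).subtype (fun x => x.2.2)).codRestrict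
    (DRing.torsionSub J (LinearMap.ker (E.d 1))) (fun x => by
      obtain ⟨n, hn⟩ := x.2.1
      refine ⟨n, fun a ha => ?_⟩
      apply Subtype.ext
      exact hn a ha)

theorem κ1_apply (x : E.cocyc 1) : (((E.κ1 x : DRing.torsionSub J (LinearMap.ker (E.d 1))) :
    LinearMap.ker (E.d 1)) : E.X 1) = x.1 := rfl

theorem κ1_surjective : Function.Surjective E.κ1 := by
  intro t
  have h1 : ((t : LinearMap.ker (E.d 1)) : E.X 1) ∈ E.cocyc 1 := by
    refine ⟨?_, (t : LinearMap.ker (E.d 1)).2⟩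
    obtain ⟨n, hn⟩ := t.2
    refine ⟨n, fun a ha => ?_⟩
    have := hn a ha
    exact congrArg Subtype.val this
  exact ⟨⟨_, h1⟩, Subtype.ext (Subtype.ext rfl)⟩

theorem hasComparison_one : E.HasComparison 1 := by
  have hS := E.ses_shortExact
  let Z : ModuleCat.{u} R := ModuleCat.of R (LinearMap.ker (E.d 1))
  let X0 : ModuleCat.{u} R := ModuleCat.of R (E.X 0)
  let δ0 : (localCohomology J 0).obj Z →ₗ[R] (localCohomology J 1).obj (ModuleCat.of R M) :=
    δ hS J 0
  have hδmap : ∀ y : (localCohomology J 0).obj X0,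
      δ0 (((localCohomology J 0).map (ModuleCat.ofHom E.d0')).hom y) = 0 := fun y =>
    δ_map hS y
  have hδsurj : Function.Surjective δ0 := by
    intro x
    haveI : Subsingleton ((localCohomology J (0 + 1)).obj E.ses.X₂) := E.acyclic 0 0
    exact exact₁ hS x (Subsingleton.elim _ _)
  have hδex : ∀ z : (localCohomology J 0).obj Z, δ0 z = 0 →
      ∃ y : (localCohomology J 0).obj X0,
        ((localCohomology J 0).map (ModuleCat.ofHom E.d0')).hom y = z := fun z hz =>
    exact₃ hS z hz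
  refine ⟨δ0 ∘ₗ (zeroEquiv J Z).symm.toLinearMap ∘ₗ E.κ1, ?_, ?_⟩
  · exact hδsurj.comp ((zeroEquiv J Z).symm.surjective.comp E.κ1_surjective)
  · ext x
    rw [LinearMap.mem_ker, Submodule.mem_comap]
    change δ0 ((zeroEquiv J Z).symm (E.κ1 x)) = 0 ↔ (x : E.X 1) ∈ (GrLC.gam J (E.X 0)).map (E.d 0)
    constructor
    · intro h
      obtain ⟨y, hy⟩ := hδex _ h
      have h1 := zeroToSelf_naturality (I := J) (ModuleCat.ofHom E.d0') y
      rw [hy, zeroToSelf_zeroEquiv_symm] at h1
      refine ⟨zeroToSelf J X0 y, zeroToSelf_mem X0 y, ?_⟩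
      have h2 : ((E.κ1 x : DRing.torsionSub J (LinearMap.ker (E.d 1))) :
          LinearMap.ker (E.d 1)) = E.d0' (zeroToSelf J X0 y) := h1
      rw [← E.κ1_apply x, h2]
      rfl
    · rintro ⟨y', hy', hy'x⟩
      obtain ⟨z, hz⟩ := exists_of_mem_torsionSub X0 y' hy'
      have h1 := zeroToSelf_naturality (I := J) (ModuleCat.ofHom E.d0') z
      rw [hz] at h1
      have h2 : zeroEquiv J Z (((localCohomology J 0).map (ModuleCat.ofHom E.d0')).hom z) =
          E.κ1 x := by
        apply Subtype.ext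
        apply Subtype.ext
        rw [E.κ1_apply x, ← hy'x]
        exact congrArg Subtype.val h1
      rw [← h2, LinearEquiv.symm_apply_apply]
      exact hδmap z

theorem hasComparison_succ_succ (i : ℕ) (h : E.shift.HasComparison (i + 1)) :
    E.HasComparison (i + 2) := by
  obtain ⟨Φ0, hsurj0, hker0⟩ := h
  let Z : ModuleCat.{u} R := ModuleCat.of R (LinearMap.ker (E.d 1))
  obtain ⟨Φ', hsurj, hker⟩ : ∃ Φ' : ↥(E.cocyc (i + 2)) →ₗ[R] (localCohomology J (i + 1)).obj Z,
      Function.Surjective Φ' ∧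
        LinearMap.ker Φ' = (E.cobdy (i + 2)).comap (E.cocyc (i + 2)).subtype :=
    ⟨Φ0, hsurj0, hker0⟩
  have hS := E.ses_shortExact
  let δi : (localCohomology J (i + 1)).obj Z →ₗ[R]
      (localCohomology J (i + 1 + 1)).obj (ModuleCat.of R M) := δ hS J (i + 1)
  have hδsurj : Function.Surjective δi := by
    intro x
    haveI : Subsingleton ((localCohomology J (i + 1 + 1)).obj E.ses.X₂) := E.acyclic 0 (i + 1)
    exact exact₁ hS x (Subsingleton.elim _ _)
  have hδinj : Function.Injective δi := by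
    rw [injective_iff_map_eq_zero]
    intro z hz
    haveI : Subsingleton ((localCohomology J (i + 1)).obj E.ses.X₂) := E.acyclic 0 i
    obtain ⟨y, hy⟩ := exact₃ hS z hz
    rw [← hy, Subsingleton.elim y 0]
    exact map_zero _
  refine ⟨δi ∘ₗ Φ', hδsurj.comp hsurj, ?_⟩
  rw [← hker]
  ext x
  rw [LinearMap.mem_ker, LinearMap.mem_ker, LinearMap.comp_apply]
  constructor
  · intro h
    exact hδinj (by rw [h, map_zero])
  · intro h
    rw [h, map_zero]

/-- the comparison in all degrees -/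
theorem hasComparison_succ (i : ℕ) : ∀ (M : Type u) [AddCommGroup M] [Module R M]
    (E : AcycRes J M), E.HasComparison (i + 1) := by
  induction i with
  | zero => intro M _ _ E; exact E.hasComparison_one
  | succ i ih =>
    intro M _ _ E
    exact E.hasComparison_succ_succ i (ih _ E.shift)

theorem hasComparison (i : ℕ) : E.HasComparison i := by
  cases i with
  | zero => exact E.hasComparison_zero
  | succ i => exact hasComparison_succ i M E

/-- **the cohomology of `Γ_J(X^•)` is local cohomology** -/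
theorem nonempty_equiv (i : ℕ) :
    Nonempty (E.H i ≃ₗ[R] (localCohomology J i).obj (ModuleCat.of R M)) := by
  obtain ⟨Φ, hsurj, hker⟩ := E.hasComparison i
  exact ⟨(Submodule.quotEquivOfEq _ _ hker.symm).trans (Φ.quotKerEquivOfSurjective hsurj)⟩

end AcycRes

end LC

end Groth.Agent.H6
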