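import Groth.Agent.Lib.Helper6.GrLCVanish
import Groth.Agent.Lib.Helper6.LCAcyclic
import Groth.Agent.Lib.Helper6.LCProps

/-! The graded local cohomology computed from a *injective resolution is local cohomology. -/

universe u
open DirectSum CategoryTheory CategoryTheory.Abelian
set_option linter.unusedSectionVars false

namespace Groth.Agent.H6

namespace Gr

variable {ι : Type} [AddCommGroup ι] [DecidableEq ι]
variable {R : Type u} [CommRing R] (𝒜 : ι → AddSubgroup R) [GradedRing 𝒜]
variable {M : Type u} [AddCommGroup M] [Module R M] (ℳ : ι → AddSubgroup M)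
  [DirectSum.Decomposition ℳ] [SetLike.GradedSMul 𝒜 ℳ]

/-- a *injective resolution is a resolution by `Γ_a`-acyclic modules -/
noncomputable def toAcyc [IsNoetherianRing R] (E : GrLC.StarInjRes 𝒜 ℳ) (a : HomogeneousIdeal 𝒜) :
    LC.AcycRes a.toIdeal M where
  X n := (E.X n).carrier
  d := E.d
  ε := E.ε
  ε_injective := E.ε_injective
  exact_zero := E.exact_zero
  exact_succ := E.exact_succ
  acyclic n i := lc_subsingleton_of_starInj 𝒜 (E.X n).gr (E.starInj n) a i

/-- **S13224** -/
theorem nonempty_H_equiv [IsNoetherianRing R] (E : GrLC.StarInjRes 𝒜 ℳ) (a : HomogeneousIdeal 𝒜)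
    (i : ℕ) : Nonempty (E.H a i ≃ₗ[R] LocCoh.H a.toIdeal i M) := by
  cases i with
  | zero => exact (toAcyc 𝒜 ℳ E a).nonempty_equiv 0
  | succ n => exact (toAcyc 𝒜 ℳ E a).nonempty_equiv (n + 1)

end Gr

end Groth.Agent.H6

namespace Groth.Agent.H6

namespace LC

open CategoryTheory

variable {R : Type u} [CommRing R]

/-- if an element of `J` acts bijectively on `M` then all local cohomology of `M` with support in
`J` vanishes -/
theorem subsingleton_of_smul_bijective (J : Ideal R) {f : R} (hf : f ∈ J) (M : Type u)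
    [AddCommGroup M] [Module R M] (hbij : Function.Bijective (fun x : M => f • x)) (q : ℕ) :
    Subsingleton (LocCoh.H J q M) := by
  let eμ : M ≃ₗ[R] M := LinearEquiv.ofBijective (LinearMap.lsmul R M f) hbij
  let μ : ModuleCat.of R M ⟶ ModuleCat.of R M := f • 𝟙 _
  let ν : ModuleCat.of R M ⟶ ModuleCat.of R M := ModuleCat.ofHom eμ.symm.toLinearMap
  have hμν : μ ≫ ν = 𝟙 _ := by
    apply ModuleCat.hom_ext
    apply LinearMap.ext
    intro x
    change eμ.symm (f • x) = x
    rw [LinearEquiv.symm_apply_eq]
    rfl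
  have hinj : ∀ x : LocCoh.H J q M, f • x = 0 → x = 0 := by
    intro x hx
    have h1 : ((localCohomology J q).map ν).hom (((localCohomology J q).map μ).hom x) = x := by
      rw [← ModuleCat.comp_apply, ← Functor.map_comp, hμν, CategoryTheory.Functor.map_id]
      rfl
    rw [map_smul_id, hx, map_zero] at h1
    exact h1.symm
  have hinjpow : ∀ (n : ℕ) (x : LocCoh.H J q M), f ^ n • x = 0 → x = 0 := by
    intro n
    induction n with
    | zero => intro x hx; rwa [pow_zero, one_smul] at hx
    | succ n ih =>
      intro x hx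
      rw [pow_succ, mul_smul] at hx
      exact hinj x (ih _ hx)
  refine ⟨fun x y => ?_⟩
  have h0 : ∀ z : LocCoh.H J q M, z = 0 := by
    intro z
    obtain ⟨n, hn⟩ := isPowerTorsion J q (ModuleCat.of R M) z
    exact hinjpow n z (hn _ (Ideal.pow_mem_pow hf n))
  rw [h0 x, h0 y]

end LC

end Groth.Agent.H6
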