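import Groth.Agent.S11618
import Groth.Agent.Lib.Helper6.LCProps
import Groth.Agent.Lib.Helper6.LCGroVanish
import Groth.Agent.Lib.Helper6.LCNonvanish
import Groth.Agent.Lib.Helper6.CanDual
import Mathlib.RingTheory.Regular.Flat
import Mathlib.RingTheory.KrullDimension.Regular

/-! Local cohomology with support in a maximal ideal can be computed after localizing. -/

universe u
open IsLocalRing

namespace Groth.Agent.H6.MaxLoc

variable {R : Type u} [CommRing R]

theorem subsingleton_of_localized (m : Ideal R) [hm : m.IsMaximal] (T : Type u) [AddCommGroup T]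
    [Module R T] (hT : LocCoh.IsPowerTorsion m T)
    (h : Subsingleton (LocalizedModule m.primeCompl T)) : Subsingleton T := by
  refine ⟨fun a b => ?_⟩
  have hz : ∀ x : T, x = 0 := by
    intro x
    have h0 : LocalizedModule.mkLinearMap m.primeCompl T x = 0 := Subsingleton.elim _ _
    rw [IsLocalizedModule.eq_zero_iff m.primeCompl] at h0
    obtain ⟨⟨s, hs⟩, hsx⟩ := h0
    obtain ⟨n, hn⟩ := hT x
    have hsm : s ∉ m := hs
    have htop : Ideal.span {s} ⊔ m = ⊤ := by
      by_contra hne
      have hle : m ≤ Ideal.span {s} ⊔ m := le_sup_right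
      have := hm.eq_of_le hne hle
      exact hsm (this ▸ (le_sup_left : Ideal.span {s} ≤ Ideal.span {s} ⊔ m) (Ideal.mem_span_singleton_self s))
    have htop' : Ideal.span {s} ⊔ m ^ n = ⊤ := Ideal.sup_pow_eq_top htop
    have h1 : (1 : R) ∈ Ideal.span {s} ⊔ m ^ n := by rw [htop']; trivial
    obtain ⟨y, hy, z, hz, hyz⟩ := Submodule.mem_sup.mp h1
    obtain ⟨r, rfl⟩ := Ideal.mem_span_singleton'.mp hy
    have : x = (r * s + z) • x := by rw [hyz, one_smul]
    rw [this, add_smul, mul_smul, hn z hz]
    have : s • x = 0 := hsx
    rw [this, smul_zero, add_zero]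
  rw [hz a, hz b]

/-- `H^i_m(M) = 0` iff `H^i_{mR_m}(M_m) = 0` for a maximal ideal `m` -/
theorem subsingleton_iff [IsNoetherianRing R] (m : Ideal R) [hm : m.IsMaximal] (M : Type u)
    [AddCommGroup M] [Module R M] (i : ℕ) :
    Subsingleton (LocCoh.H m i M) ↔
      Subsingleton (LocCoh.H (maximalIdeal (Localization.AtPrime m)) i
        (LocalizedModule m.primeCompl M)) := by
  obtain ⟨e⟩ := Groth.Agent.S11618.result R m m.primeCompl M i
  rw [Localization.AtPrime.map_eq_maximalIdeal] at e
  constructor
  · intro h
    have : Subsingleton (LocalizedModule m.primeCompl (LocCoh.H m i M)) := by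
      refine ⟨fun a b => ?_⟩
      induction a using LocalizedModule.induction_on with
      | h x s =>
        induction b using LocalizedModule.induction_on with
        | h y t => rw [Subsingleton.elim x 0, Subsingleton.elim y 0, LocalizedModule.zero_mk, LocalizedModule.zero_mk]
    exact e.symm.toEquiv.subsingleton
  · intro h
    have h1 : Subsingleton (LocalizedModule m.primeCompl (LocCoh.H m i M)) :=
      e.toEquiv.subsingleton
    exact subsingleton_of_localized m _ (LC.isPowerTorsion m i (ModuleCat.of R M)) h1

/-- Grothendieck vanishing after localizing at the maximal ideal -/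
theorem subsingleton_of_supportDim_lt [IsNoetherianRing R] (m : Ideal R) [hm : m.IsMaximal]
    (M : Type u) [AddCommGroup M] [Module R M] [Module.Finite R M] (j : ℕ)
    (h : Module.supportDim (Localization.AtPrime m) (LocalizedModule m.primeCompl M) <
      (j : WithBot ℕ∞)) : Subsingleton (LocCoh.H m j M) := by
  rw [subsingleton_iff]
  exact LC.subsingleton_of_supportDim_lt _ _ j h

theorem ringKrullDim_localization (m : Ideal R) [hm : m.IsMaximal] (h : ℕ) (hh : m.height = h) :
    ringKrullDim (Localization.AtPrime m) = (h : WithBot ℕ∞) := by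
  rw [IsLocalization.AtPrime.ringKrullDim_eq_height m, hh]
  rfl

/-- vanishing of `H^j_m(R)` outside the height of `m` for a Cohen–Macaulay ring -/
theorem cm_vanish [hR : LocCoh.IsCohenMacaulayRing R] (m : Ideal R) [hm : m.IsMaximal] (h : ℕ)
    (hh : m.height = h) (j : ℕ) (hj : j ≠ h) : Subsingleton (LocCoh.H m j R) := by
  rw [subsingleton_iff]
  haveI := hR.isCohenMacaulayLocalRing_localization m
  exact Can.lc_vanish_of_cm (A := Localization.AtPrime m) h (ringKrullDim_localization m h hh) j hj

/-- non-vanishing of `H^h_m(R)` for `h` the height of `m` -/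
theorem nontrivial_top [IsNoetherianRing R] (m : Ideal R) [hm : m.IsMaximal] (h : ℕ)
    (hh : m.height = h) : Nontrivial (LocCoh.H m h R) := by
  by_contra hnt
  rw [not_nontrivial_iff_subsingleton, subsingleton_iff] at hnt
  have h1 : Module.supportDim (Localization.AtPrime m) (Localization.AtPrime m) = (h : WithBot ℕ∞) := by
    rw [Module.supportDim_self_eq_ringKrullDim, ringKrullDim_localization m h hh]
  have := LC.nontrivial_H_of_supportDim_eq (R := Localization.AtPrime m) h (Localization.AtPrime m) h1
  exact not_subsingleton _ hnt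

/-- the localization at `m` of `R/xR`, `x ∈ m` regular, has dimension less than `ht m` -/
theorem supportDim_localized_quot_lt [IsNoetherianRing R] (m : Ideal R) [hm : m.IsMaximal]
    (x : R) (hx : IsSMulRegular R x) (N : Type u) [AddCommGroup N] [Module R N]
    (π : R →ₗ[R] N) (hπs : Function.Surjective π) (hπk : LinearMap.ker π = Ideal.span {x})
    (h : ℕ) (hh : m.height = h) :
    Module.supportDim (Localization.AtPrime m) (LocalizedModule m.primeCompl N) <
      (h : WithBot ℕ∞) := by
  haveI : Module.Finite R N := Module.Finite.of_surjective π hπs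
  set x' : Localization.AtPrime m := algebraMap R _ x with hx'
  have hxN : ∀ y : N, x • y = 0 := by
    intro y
    obtain ⟨r, rfl⟩ := hπs y
    rw [← map_smul, ← LinearMap.mem_ker, hπk, smul_eq_mul]
    exact Ideal.mul_mem_right _ _ (Ideal.mem_span_singleton_self x)
  have hann : Ideal.span {x'} ≤ Module.annihilator (Localization.AtPrime m)
      (LocalizedModule m.primeCompl N) := by
    rw [Ideal.span_singleton_le_iff_mem, Module.mem_annihilator]
    intro z
    induction z using LocalizedModule.induction_on with
    | h y s =>
      rw [hx', algebraMap_smul, LocalizedModule.smul'_mk, hxN, LocalizedModule.zero_mk]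
  have h1 := LC.supportDim_le_of_le_annihilator (Ideal.span {x'}) _ hann
  have hreg : x' ∈ nonZeroDivisors (Localization.AtPrime m) := by
    apply IsLocalization.map_nonZeroDivisors_le m.primeCompl
    exact Submonoid.mem_map_of_mem _ (by
      rw [mem_nonZeroDivisors_iff_right]
      intro z hz
      exact hx (by simpa [mul_comm] using hz))
  have h2 := ringKrullDim_quotient_succ_le_of_nonZeroDivisor hreg
  rw [ringKrullDim_localization m h hh] at h2
  exact LC.withBot_lt_of_add_one_le _ h (le_trans (add_le_add_left h1 1) h2)


/-- the localization at `m` of `R/(rs)`, `rs` a regular sequence in `m`, has dimension at most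
`ht m - length rs` -/
theorem supportDim_localized_quot_seq [IsNoetherianRing R] (m : Ideal R) [hm : m.IsMaximal]
    (rs : List R) (hreg : RingTheory.Sequence.IsWeaklyRegular R rs) (hmem : ∀ r ∈ rs, r ∈ m)
    (N : Type u) [AddCommGroup N] [Module R N]
    (π : R →ₗ[R] N) (hπs : Function.Surjective π) (hπk : LinearMap.ker π = Ideal.ofList rs)
    (h : ℕ) (hh : m.height = h) :
    Module.supportDim (Localization.AtPrime m) (LocalizedModule m.primeCompl N) +
      (rs.length : WithBot ℕ∞) ≤ (h : WithBot ℕ∞) := by
  haveI : Module.Finite R N := Module.Finite.of_surjective π hπs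
  set rs' : List (Localization.AtPrime m) := rs.map (algebraMap R (Localization.AtPrime m)) with hrs'
  have hreg' : RingTheory.Sequence.IsRegular (Localization.AtPrime m) rs' :=
    hreg.isRegular_of_isLocalization_of_mem (Localization.AtPrime m) m hmem
  have hdim := ringKrullDim_add_length_eq_ringKrullDim_of_isRegular rs' hreg'
  rw [ringKrullDim_localization m h hh, hrs', List.length_map] at hdim
  have hxN : ∀ r ∈ rs, ∀ y : N, r • y = 0 := by
    intro r hr y
    obtain ⟨c, rfl⟩ := hπs y
    rw [← map_smul, ← LinearMap.mem_ker, hπk, smul_eq_mul]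
    exact Ideal.mul_mem_right _ _ (Ideal.subset_span hr)
  have hann : Ideal.ofList rs' ≤ Module.annihilator (Localization.AtPrime m)
      (LocalizedModule m.primeCompl N) := by
    rw [Ideal.ofList, Ideal.span_le]
    intro r' hr'
    obtain ⟨r, hr, rfl⟩ := List.mem_map.mp hr'
    rw [SetLike.mem_coe, Module.mem_annihilator]
    intro z
    induction z using LocalizedModule.induction_on with
    | h y s =>
      rw [algebraMap_smul, LocalizedModule.smul'_mk, hxN r hr, LocalizedModule.zero_mk]
  have h1 := LC.supportDim_le_of_le_annihilator (Ideal.ofList rs') _ hann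
  rw [← hdim]
  exact add_le_add_left h1 _

end Groth.Agent.H6.MaxLoc
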