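import Groth.Agent.Lib.Helper6.GrCMCrit1
import Groth.Agent.Lib.Helper6.GrDual1
import Groth.Agent.Lib.Helper6.LCMaxLoc
import Groth.Agent.Lib.Helper6.LCTop
import Groth.Agent.Lib.Helper6.GrLCCompare
import Groth.Agent.Lib.Helper6.GrAss

/-! The Cohen–Macaulay criterion for graded modules in terms of graded local cohomology. -/

universe u
set_option linter.unusedSectionVars false

namespace Groth.Agent.H6

namespace GrCM

open Gr

section Max

variable {R : Type u} [CommRing R] (𝒜 : ℤ → AddSubgroup R) [GradedRing 𝒜]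
  (hpos : ∀ n : ℤ, n < 0 → 𝒜 n = ⊥) (h0 : IsField (GrLC.deg0 𝒜)) (m : HomogeneousIdeal 𝒜)
  (hmsp : m.toIdeal = Ideal.span (⋃ n ∈ Set.Ioi (0 : ℤ), (𝒜 n : Set R)))

include hpos hmsp in
theorem proj_zero_eq_zero_of_mem {x : R} (hx : x ∈ m.toIdeal) : proj 𝒜 0 x = 0 := by
  have key : ∀ x ∈ Submodule.span R (⋃ n ∈ Set.Ioi (0 : ℤ), (𝒜 n : Set R)), proj 𝒜 0 x = 0 := by
    intro x hx'
    induction hx' using Submodule.span_induction with
    | mem y hy =>
      simp only [Set.mem_iUnion, Set.mem_Ioi, SetLike.mem_coe] at hy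
      obtain ⟨n, hn, hyn⟩ := hy
      exact proj_of_mem_ne 𝒜 hyn (ne_of_gt hn)
    | zero => exact map_zero _
    | add y y' _ _ h1 h2 => rw [map_add, h1, h2, add_zero]
    | smul r y _ h1 => rw [smul_eq_mul, GDual.proj_zero_mul 𝒜 hpos, h1, mul_zero]
  rw [hmsp] at hx
  exact key x hx

include hpos h0 hmsp in
/-- the irrelevant ideal of a positively graded ring with degree-zero part a field is maximal -/
theorem isMaximal_irrelevant : m.toIdeal.IsMaximal := by
  haveI : Nontrivial (GrLC.deg0 𝒜) := h0.nontrivial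
  have h01 : (1 : R) ≠ 0 := by
    intro h
    have : (1 : GrLC.deg0 𝒜) = 0 := Subtype.ext h
    exact one_ne_zero this
  have hp1 : proj 𝒜 0 (1 : R) = 1 := proj_of_mem 𝒜 SetLike.GradedOne.one_mem
  rw [Ideal.isMaximal_iff]
  refine ⟨fun h1 => ?_, fun J x hmJ hx hxJ => ?_⟩
  · have := proj_zero_eq_zero_of_mem 𝒜 hpos m hmsp h1
    rw [hp1] at this
    exact h01 this
  · have hsub : x - proj 𝒜 0 x ∈ m.toIdeal := PolyCan.sub_proj_zero_mem 𝒜 hpos m hmsp x
    have hx0 : proj 𝒜 0 x ≠ 0 := by
      intro h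
      apply hx
      rw [h, sub_zero] at hsub
      exact hsub
    have hc : (⟨proj 𝒜 0 x, proj_mem 𝒜 0 x⟩ : GrLC.deg0 𝒜) ≠ 0 :=
      fun h => hx0 (congrArg Subtype.val h)
    obtain ⟨b, hb⟩ := h0.mul_inv_cancel hc
    have hb' : proj 𝒜 0 x * (b : R) = 1 := congrArg Subtype.val hb
    have hxJ0 : proj 𝒜 0 x ∈ J := by
      have : proj 𝒜 0 x = x - (x - proj 𝒜 0 x) := by ring
      rw [this]
      exact J.sub_mem hxJ (hmJ hsub)
    rw [← hb']
    exact J.mul_mem_right _ hxJ0

end Max

section Crit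

variable {R : Type u} [CommRing R] [IsNoetherianRing R] (𝒜 : ℤ → AddSubgroup R) [GradedRing 𝒜]
  (hpos : ∀ n : ℤ, n < 0 → 𝒜 n = ⊥) (h0 : IsField (GrLC.deg0 𝒜)) (m : HomogeneousIdeal 𝒜)
  (hmsp : m.toIdeal = Ideal.span (⋃ n ∈ Set.Ioi (0 : ℤ), (𝒜 n : Set R)))
variable {M : Type u} [AddCommGroup M] [Module R M] (ℳ : ℤ → AddSubgroup M)
  [DirectSum.Decomposition ℳ] [SetLike.GradedSMul 𝒜 ℳ] [Module.Finite R M]

include ℳ hpos h0 hmsp in
/-- a nonzero finitely generated graded module is supported at the irrelevant ideal -/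
theorem nontrivial_localized_irrelevant [Nontrivial M] [hm : m.toIdeal.IsPrime] :
    Nontrivial (LocalizedModule m.toIdeal.primeCompl M) := by
  have hann : Module.annihilator R M ≠ ⊤ := by
    intro h
    have h1 : (1 : R) ∈ Module.annihilator R M := by rw [h]; trivial
    rw [Module.mem_annihilator] at h1
    obtain ⟨x, hx⟩ := exists_ne (0 : M)
    exact hx (by rw [← one_smul R x, h1 x])
  have hle : Module.annihilator R M ≤ m.toIdeal :=
    Gr.le_irrelevant 𝒜 hpos h0 m.toIdeal hmsp _ (DimCore.annihilator_isHomogeneous 𝒜 ℳ) hann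
  have h1 : (⟨m.toIdeal, hm⟩ : PrimeSpectrum R) ∈ Module.support R M := by
    rw [Module.support_eq_zeroLocus, PrimeSpectrum.mem_zeroLocus]
    exact hle
  exact Module.mem_support_iff.mp h1

include hpos h0 hmsp in
/-- **the Cohen–Macaulay criterion**: a nonzero finitely generated graded module over a positively
graded ring with degree-zero part a field is Cohen–Macaulay (at all primes of its support) if and
only if exactly one of its graded local cohomology modules with support in the irrelevant ideal is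
nonzero -/
theorem cm_iff_existsUnique [Nontrivial M] (E : GrLC.StarInjRes 𝒜 ℳ) :
    (∀ (p : Ideal R) [p.IsPrime], Subsingleton (LocalizedModule p.primeCompl M) ∨
        LocCoh.IsCohenMacaulayModule (Localization.AtPrime p)
          (LocalizedModule p.primeCompl M)) ↔
      ∃! q : ℕ, Nontrivial (E.H m q) := by
  haveI hmax : m.toIdeal.IsMaximal := isMaximal_irrelevant 𝒜 hpos h0 m hmsp
  haveI hmp : m.toIdeal.IsPrime := hmax.isPrime
  haveI hMm : Nontrivial (LocalizedModule m.toIdeal.primeCompl M) :=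
    nontrivial_localized_irrelevant 𝒜 hpos h0 m hmsp ℳ
  haveI : IsNoetherianRing (Localization.AtPrime m.toIdeal) :=
    IsLocalization.isNoetherianRing m.toIdeal.primeCompl _ inferInstance
  haveI : Module.Finite (Localization.AtPrime m.toIdeal)
      (LocalizedModule m.toIdeal.primeCompl M) :=
    Module.Finite.of_isLocalizedModule m.toIdeal.primeCompl
      (LocalizedModule.mkLinearMap m.toIdeal.primeCompl M)
  have hpt : ∀ i : ℕ, Nontrivial (LocCoh.H (IsLocalRing.maximalIdeal
      (Localization.AtPrime m.toIdeal)) i (LocalizedModule m.toIdeal.primeCompl M)) ↔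
      Nontrivial (E.H m i) := by
    intro i
    obtain ⟨e⟩ := Gr.nonempty_H_equiv 𝒜 ℳ E m i
    rw [← not_subsingleton_iff_nontrivial, ← not_subsingleton_iff_nontrivial,
      ← MaxLoc.subsingleton_iff m.toIdeal M i]
    exact not_congr ⟨fun h => e.toEquiv.subsingleton, fun h => e.symm.toEquiv.subsingleton⟩
  have key : LocCoh.IsCohenMacaulayModule (Localization.AtPrime m.toIdeal)
      (LocalizedModule m.toIdeal.primeCompl M) ↔ ∃! q : ℕ, Nontrivial (E.H m q) := by
    rw [← LC.existsUnique_nontrivial_iff (R := Localization.AtPrime m.toIdeal)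
      (LocalizedModule m.toIdeal.primeCompl M)]
    exact existsUnique_congr hpt
  constructor
  · intro h
    rcases h m.toIdeal with h1 | h1
    · exact absurd h1 (not_subsingleton_iff_nontrivial.mpr hMm)
    · exact key.mp h1
  · intro h p hp
    by_cases hMp : Subsingleton (LocalizedModule p.primeCompl M)
    · exact Or.inl hMp
    · exact Or.inr (cm_of_cm_irrelevant 𝒜 ℳ hpos h0 m.toIdeal hmsp (key.mpr h) p
        (not_subsingleton_iff_nontrivial.mp hMp))

end Crit

end GrCM

end Groth.Agent.H6
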