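import Groth.Agent.Lib.Helper6.GrHullEx

/-! Existence of *injective resolutions. -/

universe u
open DirectSum
set_option linter.unusedSectionVars false

namespace Groth.Agent.H6

namespace Gr

variable {ι : Type} [AddCommGroup ι] [DecidableEq ι]
variable {R : Type u} [CommRing R] (𝒜 : ι → AddSubgroup R) [GradedRing 𝒜]

/-- one step of the construction of a *injective resolution -/
structure Step (Z : GrLC.GMod.{u} 𝒜) where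
  J : GrLC.GMod.{u} 𝒜
  i : Z.carrier →ₗ[R] J.carrier
  Q : GrLC.GMod.{u} 𝒜
  q : J.carrier →ₗ[R] Q.carrier
  hJ : GrLC.IsStarInj 𝒜 J.gr
  hi : GrLC.IsGrHom Z.gr J.gr i
  hinj : Function.Injective i
  hq : Function.Surjective q
  hker : LinearMap.ker q = LinearMap.range i
  hqgr : GrLC.IsGrHom J.gr Q.gr q

theorem nonempty_step (Z : GrLC.GMod.{u} 𝒜) : Nonempty (Step 𝒜 Z) := by
  obtain ⟨J, i, hJ, hinj, hi⟩ := exists_starInj_embedding 𝒜 Z.gr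
  obtain ⟨Q, q, hq, hker, hqgr⟩ := exists_gmod_quot 𝒜 J.gr (LinearMap.range i)
    (range_isHomogeneous Z.gr J.gr hi)
  exact ⟨⟨J, i, Q, q, hJ, hi, hinj, hq, hker, hqgr⟩⟩

/-- a chosen step -/
noncomputable def step (Z : GrLC.GMod.{u} 𝒜) : Step 𝒜 Z := Classical.choice (nonempty_step 𝒜 Z)

/-- the differential from one step to the next -/
noncomputable def dOf (Z : GrLC.GMod.{u} 𝒜) :
    (step 𝒜 Z).J.carrier →ₗ[R] (step 𝒜 (step 𝒜 Z).Q).J.carrier :=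
  (step 𝒜 (step 𝒜 Z).Q).i ∘ₗ (step 𝒜 Z).q

theorem ker_dOf (Z : GrLC.GMod.{u} 𝒜) :
    LinearMap.ker (dOf 𝒜 Z) = LinearMap.range (step 𝒜 Z).i := by
  unfold dOf
  rw [LinearMap.ker_comp, LinearMap.ker_eq_bot.mpr (step 𝒜 (step 𝒜 Z).Q).hinj,
    Submodule.comap_bot, (step 𝒜 Z).hker]

theorem range_dOf (Z : GrLC.GMod.{u} 𝒜) :
    LinearMap.range (dOf 𝒜 Z) = LinearMap.range (step 𝒜 (step 𝒜 Z).Q).i := by
  unfold dOf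
  rw [LinearMap.range_comp, LinearMap.range_eq_top.mpr (step 𝒜 Z).hq, Submodule.map_top]

theorem dOf_isGrHom (Z : GrLC.GMod.{u} 𝒜) :
    GrLC.IsGrHom (step 𝒜 Z).J.gr (step 𝒜 (step 𝒜 Z).Q).J.gr (dOf 𝒜 Z) :=
  isGrHom_comp _ (step 𝒜 Z).Q.gr _ (step 𝒜 Z).hqgr (step 𝒜 (step 𝒜 Z).Q).hi

/-- the successive cokernels -/
noncomputable def Zs (Z₀ : GrLC.GMod.{u} 𝒜) : ℕ → GrLC.GMod.{u} 𝒜 :=
  fun n => Nat.rec Z₀ (fun _ Z => (step 𝒜 Z).Q) n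

variable {M : Type u} [AddCommGroup M] [Module R M] (ℳ : ι → AddSubgroup M)
  [DirectSum.Decomposition ℳ] [SetLike.GradedSMul 𝒜 ℳ]

/-- *injective resolutions exist -/
noncomputable def starInjRes : GrLC.StarInjRes 𝒜 ℳ where
  X n := (step 𝒜 (Zs 𝒜 (GrLC.GMod.of 𝒜 M ℳ) n)).J
  d n := dOf 𝒜 (Zs 𝒜 (GrLC.GMod.of 𝒜 M ℳ) n)
  ε := (step 𝒜 (GrLC.GMod.of 𝒜 M ℳ)).i
  d_grHom n := dOf_isGrHom 𝒜 (Zs 𝒜 (GrLC.GMod.of 𝒜 M ℳ) n)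
  ε_grHom := (step 𝒜 (GrLC.GMod.of 𝒜 M ℳ)).hi
  ε_injective := (step 𝒜 (GrLC.GMod.of 𝒜 M ℳ)).hinj
  exact_zero := ker_dOf 𝒜 (GrLC.GMod.of 𝒜 M ℳ)
  exact_succ n := (ker_dOf 𝒜 (Zs 𝒜 (GrLC.GMod.of 𝒜 M ℳ) (n + 1))).trans
    (range_dOf 𝒜 (Zs 𝒜 (GrLC.GMod.of 𝒜 M ℳ) n)).symm
  starInj n := (step 𝒜 (Zs 𝒜 (GrLC.GMod.of 𝒜 M ℳ) n)).hJ

end Gr

end Groth.Agent.H6
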