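import Groth.Agent.Lib.Helper6.GrLES

/-! Shifts of *injective resolutions and the maps on graded local cohomology induced by
multiplication by homogeneous elements. -/

universe u
open DirectSum
set_option linter.unusedSectionVars false

namespace Groth.Agent.H6

namespace Gr

variable {ι : Type} [AddCommGroup ι] [DecidableEq ι]
variable {R : Type u} [CommRing R] {𝒜 : ι → AddSubgroup R} [GradedRing 𝒜]

section StarInjShift

variable {E : Type u} [AddCommGroup E] [Module R E] (𝓔 : ι → AddSubgroup E)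
  [DirectSum.Decomposition 𝓔] [SetLike.GradedSMul 𝒜 𝓔]

/-- a shift of a *injective module is *injective -/
theorem shift_starInj (hE : GrLC.IsStarInj 𝒜 𝓔) (d : ι) :
    GrLC.IsStarInj 𝒜 (GMod.ofShift 𝒜 𝓔 d).gr := by
  intro A B f hf hfinj g hg
  have hg' : GrLC.IsGrHomDeg A.gr 𝓔 (show A.carrier →ₗ[R] E from g) (-d) := by
    intro k x hx
    have := hg k x hx
    change g x ∈ 𝓔 (k - d) at this
    rwa [sub_eq_add_neg] at this
  obtain ⟨h, hh, hhf⟩ := starInj_extend_deg 𝒜 𝓔 hE A B f hf hfinj (-d) g hg'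
  refine ⟨h, ?_, hhf⟩
  intro k x hx
  have := hh k x hx
  change h x ∈ 𝓔 (k - d)
  rwa [sub_eq_add_neg]

end StarInjShift

section Res

variable {M : Type u} [AddCommGroup M] [Module R M] {ℳ : ι → AddSubgroup M}
  [DirectSum.Decomposition ℳ] [SetLike.GradedSMul 𝒜 ℳ]

/-- the shifted module `M(-d)` as a bundled graded module (pieces `k ↦ ℳ (k - d)`) -/
noncomputable abbrev Msh (ℳ : ι → AddSubgroup M) [DirectSum.Decomposition ℳ]
    [SetLike.GradedSMul 𝒜 ℳ] (d : ι) : GrLC.GMod.{u} 𝒜 := GMod.ofShift 𝒜 ℳ d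

/-- the shift of a *injective resolution: a *injective resolution of the shifted module -/
noncomputable def shiftRes (E : GrLC.StarInjRes 𝒜 ℳ) (d : ι) :
    GrLC.StarInjRes 𝒜 (Msh (𝒜 := 𝒜) ℳ d).gr where
  X n := GMod.ofShift 𝒜 (E.X n).gr d
  d n := E.d n
  ε := E.ε
  d_grHom n := fun k x hx => E.d_grHom n (k - d) x hx
  ε_grHom := fun k x hx => E.ε_grHom (k - d) x hx
  ε_injective := E.ε_injective
  exact_zero := E.exact_zero
  exact_succ := E.exact_succ
  starInj n := shift_starInj (E.X n).gr (E.starInj n) d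

variable (E : GrLC.StarInjRes 𝒜 ℳ) (a : HomogeneousIdeal 𝒜) (d : ι)

/-- the cohomology of the shifted resolution is the cohomology of the resolution -/
noncomputable def shiftH (n : ℕ) : (shiftRes E d).H a n ≃ₗ[R] E.H a n := LinearEquiv.refl R _

theorem shiftH_toH (n : ℕ) (z : (E.X n).carrier) (hz : z ∈ E.cocyc a n) :
    shiftH E a d n ((shiftRes E d).toH a n ⟨z, hz⟩) = E.toH a n ⟨z, hz⟩ := rfl

theorem shiftH_mem (n : ℕ) (k : ι) (y : (shiftRes E d).H a n) :
    y ∈ (shiftRes E d).Hgr a n k ↔ shiftH E a d n y ∈ E.Hgr a n (k - d) := by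
  constructor
  · rintro ⟨z, hz, rfl⟩
    exact ⟨z, hz, rfl⟩
  · rintro ⟨z, hz, hzy⟩
    exact ⟨z, hz, hzy⟩

/-- multiplication by a homogeneous element as a chain map from the shifted resolution -/
noncomputable def smulLift {x : R} (hx : x ∈ 𝒜 d) :
    ChainLift 𝒜 (Msh (𝒜 := 𝒜) ℳ d).gr ℳ (shiftRes E d) E (LinearMap.lsmul R M x) where
  φ n := LinearMap.lsmul R (E.X n).carrier x
  grHom n := fun k (y : (E.X n).carrier) (hy : y ∈ (E.X n).gr (k - d)) => by
    have := SetLike.GradedSMul.smul_mem (A := 𝒜) (B := (E.X n).gr) hx hy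
    rw [vadd_eq_add, add_sub_cancel] at this
    exact this
  comm_ε := fun (m : M) => (map_smul E.ε x m).symm
  comm_d := fun n (y : (E.X n).carrier) => (map_smul (E.d n) x y).symm

theorem lsmul_isGrHom_shift {x : R} (hx : x ∈ 𝒜 d) :
    GrLC.IsGrHom (Msh (𝒜 := 𝒜) ℳ d).gr ℳ (LinearMap.lsmul R M x) := by
  intro k (y : M) (hy : y ∈ ℳ (k - d))
  have := SetLike.GradedSMul.smul_mem (A := 𝒜) (B := ℳ) hx hy
  rw [vadd_eq_add, add_sub_cancel] at this
  exact this

/-- the map induced by multiplication by `x` is multiplication by `x` -/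
theorem Hmap_smul {x : R} (hx : x ∈ 𝒜 d) (n : ℕ) (y : (shiftRes E d).H a n) :
    Hmap (shiftRes E d) E a (LinearMap.lsmul R M x) (lsmul_isGrHom_shift (𝒜 := 𝒜) (ℳ := ℳ) d hx) n y =
      x • shiftH E a d n y := by
  rw [Hmap_eq_chainLift a _ (smulLift E d hx)]
  obtain ⟨z, rfl⟩ := toH_surjective (shiftRes E d) a n y
  rw [ChainLift.Hmap_toH]
  rfl

end Res

end Gr

end Groth.Agent.H6
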