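import Groth.Agent.Lib.Helper6.GrAvoid
import Groth.Agent.Lib.Helper6.GrShiftRes
import Groth.Agent.Lib.Helper6.GrLCCompare
import Groth.Agent.Lib.Helper6.GrRes
import Groth.Agent.Lib.Helper6.LCTorsion
import Groth.Agent.S0326

/-! Finiteness and vanishing of the graded components of the local cohomology of a finitely generated
graded module with respect to the irrelevant ideal of a positively graded Noetherian ring. -/

universe u
open DirectSum
set_option linter.unusedSectionVars false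

namespace Groth.Agent.H6

namespace Gr

section Basic

variable {ι : Type} [AddCommGroup ι] [DecidableEq ι]
variable {R : Type u} [CommRing R] {𝒜 : ι → AddSubgroup R} [GradedRing 𝒜]
variable {M : Type u} [AddCommGroup M] [Module R M] {ℳ : ι → AddSubgroup M}
  [DirectSum.Decomposition ℳ] [SetLike.GradedSMul 𝒜 ℳ]

/-- every class of graded local cohomology is killed by a power of the ideal -/
theorem H_torsion (E : GrLC.StarInjRes 𝒜 ℳ) (a : HomogeneousIdeal 𝒜) (i : ℕ) (y : E.H a i) :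
    ∃ k : ℕ, ∀ r ∈ a.toIdeal ^ k, r • y = 0 := by
  obtain ⟨z, rfl⟩ := toH_surjective E a i y
  obtain ⟨k, hk⟩ := z.2.1
  refine ⟨k, fun r hr => ?_⟩
  rw [← map_smul]
  have : r • z = 0 := Subtype.ext (hk r hr)
  rw [this, map_zero]

/-- the graded local cohomology of a torsion module vanishes in positive degrees -/
theorem H_eq_zero_of_torsion [IsNoetherianRing R] (E : GrLC.StarInjRes 𝒜 ℳ) (a : HomogeneousIdeal 𝒜)
    (hM : ∀ m : M, m ∈ GrLC.gam a.toIdeal M) (i : ℕ) (y : E.H a (i + 1)) : y = 0 := by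
  obtain ⟨e⟩ := nonempty_H_equiv 𝒜 ℳ E a (i + 1)
  haveI : Subsingleton (LocCoh.H a.toIdeal (i + 1) M) :=
    LC.subsingleton_of_torsion a.toIdeal i (ModuleCat.of R M) (fun t => hM t)
  apply e.injective
  exact Subsingleton.elim _ _

/-- a bijective homogeneous map identifies the pieces -/
theorem mem_Hgr_of_bijective {N : Type u} [AddCommGroup N] [Module R N] {𝒩 : ι → AddSubgroup N}
    [DirectSum.Decomposition 𝒩] [SetLike.GradedSMul 𝒜 𝒩] (E : GrLC.StarInjRes 𝒜 ℳ)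
    (F : GrLC.StarInjRes 𝒜 𝒩) (a : HomogeneousIdeal 𝒜) (i : ℕ) {φ : E.H a i →ₗ[R] F.H a i}
    (hφ : GrLC.IsGrHom (E.Hgr a i) (F.Hgr a i) φ) (hinj : Function.Injective φ) {k : ι}
    {y : E.H a i} (hy : φ y ∈ F.Hgr a i k) : y ∈ E.Hgr a i k := by
  obtain ⟨x, hx, hxy⟩ := exists_mem_of_isGrHom (E.Hgr a i) (F.Hgr a i) (isInternal_Hgr 𝒜 ℳ E a i)
    (isInternal_Hgr 𝒜 𝒩 F a i) hφ hy ⟨y, rfl⟩
  rw [← hinj hxy]
  exact hx

/-- homogeneous elements of the ring shift the pieces of graded local cohomology -/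
theorem smul_mem_Hgr (E : GrLC.StarInjRes 𝒜 ℳ) (a : HomogeneousIdeal 𝒜) (i : ℕ) {t k : ι} {x : R}
    (hx : x ∈ 𝒜 t) {y : E.H a i} (hy : y ∈ E.Hgr a i k) : x • y ∈ E.Hgr a i (t + k) := by
  obtain ⟨z, hz, rfl⟩ := hy
  refine ⟨x • z, ?_, map_smul _ _ _⟩
  exact SetLike.GradedSMul.smul_mem (A := 𝒜) (B := (E.X i).gr) hx hz

end Basic


section Main

variable {R : Type u} [CommRing R] [IsNoetherianRing R] {𝒜 : ℤ → AddSubgroup R} [GradedRing 𝒜]

omit [IsNoetherianRing R] [GradedRing 𝒜] in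
/-- a finitely generated torsion module is killed by a power of the ideal -/
theorem exists_pow_kills (a : Ideal R) (N : Type u) [AddCommGroup N] [Module R N]
    [Module.Finite R N] (h : ∀ m : N, m ∈ GrLC.gam a N) :
    ∃ k : ℕ, ∀ r ∈ a ^ k, ∀ m : N, r • m = 0 := by
  classical
  obtain ⟨S, hS⟩ := (Module.Finite.fg_top : (⊤ : Submodule R N).FG)
  choose e he using h
  refine ⟨S.sup e, fun r hr m => ?_⟩
  have hm : m ∈ Submodule.span R (S : Set N) := by rw [hS]; trivial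
  refine Submodule.span_induction ?_ ?_ ?_ ?_ hm
  · intro x hx
    exact he x r (Ideal.pow_le_pow_right (Finset.le_sup (f := e) hx) hr)
  · rw [smul_zero]
  · intro x y _ _ hx hy
    rw [smul_add, hx, hy, add_zero]
  · intro c x _ hx
    rw [smul_comm, hx, smul_zero]

/-- the statement: the pieces of `H^i` are finite over `R_0` and vanish in large degrees -/
def FinVan (a : HomogeneousIdeal 𝒜) (i : ℕ) : Prop :=
  ∀ (M : Type u) [AddCommGroup M] [Module R M] (ℳ : ℤ → AddSubgroup M)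
    [DirectSum.Decomposition ℳ] [SetLike.GradedSMul 𝒜 ℳ] [Module.Finite R M]
    (E : GrLC.StarInjRes 𝒜 ℳ),
    (∀ n : ℤ, (E.Hcomp a i n).FG) ∧ ∃ r : ℤ, ∀ n : ℤ, r ≤ n → E.Hcomp a i n = ⊥

variable (hpos : ∀ n : ℤ, n < 0 → 𝒜 n = ⊥) (a : HomogeneousIdeal 𝒜)
  (ha : a.toIdeal = Ideal.span (⋃ n ∈ Set.Ioi (0 : ℤ), (𝒜 n : Set R)))

include ha in
theorem mem_irrelevant_of_pos {n : ℤ} (hn : 0 < n) {y : R} (hy : y ∈ 𝒜 n) : y ∈ a.toIdeal := by
  rw [ha]
  apply Ideal.subset_span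
  simp only [Set.mem_iUnion, Set.mem_Ioi, SetLike.mem_coe]
  exact ⟨n, hn, hy⟩

include hpos ha in
theorem finVan_zero : FinVan a 0 := by
  classical
  intro M _ _ ℳ _ _ _ E
  haveI := deg0_isNoetherianRing 𝒜
  obtain ⟨G⟩ := exists_posGens 𝒜 a.toIdeal ha
  have ha' : ∀ n : ℤ, 0 < n → ∀ y ∈ 𝒜 n, y ∈ a.toIdeal := fun n hn y hy =>
    mem_irrelevant_of_pos a ha hn hy
  set Γ : Submodule R M := GrLC.gam a.toIdeal M with hΓdef
  have hΓ : Γ.IsHomogeneous ℳ := gam_isHomogeneous 𝒜 ℳ a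
  -- the map from the torsion to `H^0`
  have hmem : ∀ m ∈ Γ, E.ε m ∈ E.cocyc a 0 := fun m hm =>
    ⟨map_mem_gam E.ε a.toIdeal hm, d_ε E m⟩
  let f0 : Γ →ₗ[R] E.H a 0 := E.toH a 0 ∘ₗ E.ε.restrict hmem
  -- every class of degree `n` comes from a torsion element of degree `n`
  have hsurj : ∀ (n : ℤ) (y : E.H a 0), y ∈ E.Hcomp a 0 n → ∃ m : Γ, (m : M) ∈ ℳ n ∧ f0 m = y := by
    rintro n _ ⟨z, hz, rfl⟩
    obtain ⟨m, hm⟩ := exists_of_d_zero_eq_zero E (show E.d 0 z = 0 from z.2.2)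
    have hmΓ : m ∈ Γ := by
      obtain ⟨k, hk⟩ := z.2.1
      refine ⟨k, fun r hr => E.ε_injective ?_⟩
      rw [map_smul, hm, hk r hr, map_zero]
    refine ⟨⟨m, hmΓ⟩, ?_, ?_⟩
    · apply mem_of_map_mem ℳ (E.X 0).gr E.ε_grHom E.ε_injective
      rw [hm]
      exact hz
    · change E.toH a 0 (E.ε.restrict hmem ⟨m, hmΓ⟩) = E.toH a 0 z
      congr 1
      exact Subtype.ext hm
  constructor
  · intro n
    -- the torsion elements of degree `n`, as a module over `R_0`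
    let T' : Submodule (GrLC.deg0 𝒜) Γ :=
      (GrLC.comp 𝒜 ℳ n).comap (Γ.subtype.restrictScalars (GrLC.deg0 𝒜))
    have hT' : T'.FG := by
      apply Submodule.fg_of_fg_map_injective (Γ.subtype.restrictScalars (GrLC.deg0 𝒜))
        Subtype.val_injective
      apply Submodule.FG.of_le (G.comp_module_fg ℳ hpos ha' n)
      exact Submodule.map_comap_le _ _
    have heq : E.Hcomp a 0 n = T'.map (f0.restrictScalars (GrLC.deg0 𝒜)) := by
      apply le_antisymm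
      · intro y hy
        obtain ⟨m, hm, rfl⟩ := hsurj n y hy
        exact ⟨m, hm, rfl⟩
      · rintro _ ⟨m, hm, rfl⟩
        exact ⟨E.ε.restrict hmem m, E.ε_grHom n _ hm, rfl⟩
    rw [heq]
    exact hT'.map _
  · -- vanishing
    letI : DirectSum.Decomposition (subGr ℳ Γ) := subDecomposition ℳ hΓ
    letI : SetLike.GradedSMul 𝒜 (subGr ℳ Γ) := sub_gradedSMul 𝒜 ℳ
    obtain ⟨k, hk⟩ := exists_pow_kills a.toIdeal Γ (fun m => by
      obtain ⟨k, hk⟩ := m.2
      exact ⟨k, fun r hr => Subtype.ext (hk r hr)⟩)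
    obtain ⟨s, hs⟩ := G.exists_eq_bot (subGr ℳ Γ) ha' k hk
    refine ⟨s, fun n hn => ?_⟩
    rw [eq_bot_iff]
    intro y hy
    obtain ⟨m, hm, rfl⟩ := hsurj n y hy
    have : m ∈ subGr ℳ Γ n := hm
    rw [hs n hn, AddSubgroup.mem_bot] at this
    rw [this, map_zero]
    exact zero_mem _

include hpos ha in
theorem finVan_succ_aux (i : ℕ) (ih : FinVan a i) (N : Type u) [AddCommGroup N] [Module R N]
    (𝒩 : ℤ → AddSubgroup N) [DirectSum.Decomposition 𝒩] [SetLike.GradedSMul 𝒜 𝒩]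
    [Module.Finite R N] (hQtf : GrLC.gam a.toIdeal N = ⊥) (EQ : GrLC.StarInjRes 𝒜 𝒩) :
    (∀ n : ℤ, (EQ.Hcomp a (i + 1) n).FG) ∧
      ∃ r : ℤ, ∀ n : ℤ, r ≤ n → EQ.Hcomp a (i + 1) n = ⊥ := by
  classical
  haveI := deg0_isNoetherianRing 𝒜
  have ha' : ∀ n : ℤ, 0 < n → ∀ y ∈ 𝒜 n, y ∈ a.toIdeal := fun n hn y hy =>
    mem_irrelevant_of_pos a ha hn hy
  -- Step 2: a homogeneous regular element on `Q`
  have hS : ∀ x ∈ (⋃ n ∈ Set.Ioi (0 : ℤ), (𝒜 n : Set R)), ∃ n : ℤ, 0 < n ∧ x ∈ 𝒜 n := by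
    intro x hx
    simp only [Set.mem_iUnion, Set.mem_Ioi, SetLike.mem_coe] at hx
    obtain ⟨n, hn, hxn⟩ := hx
    exact ⟨n, hn, hxn⟩
  obtain ⟨t, x, ht, hxt, hxa, hreg⟩ := exists_homogeneous_regular 𝒜 _ hS (N := N)
    (by rw [← ha]; exact hQtf)
  rw [← ha] at hxa
  -- the quotient `C = Q / xQ`
  let mx : (Msh (𝒜 := 𝒜) 𝒩 t).carrier →ₗ[R] N := LinearMap.lsmul R N x
  have hxgr : GrLC.IsGrHom (Msh (𝒜 := 𝒜) 𝒩 t).gr 𝒩 mx :=
    lsmul_isGrHom_shift (𝒜 := 𝒜) (ℳ := 𝒩) t hxt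
  set K : Submodule R N := LinearMap.range (LinearMap.lsmul R N x) with hKdef
  have hK : K.IsHomogeneous 𝒩 := range_isHomogeneous (Msh (𝒜 := 𝒜) 𝒩 t).gr 𝒩 hxgr
  have hkerc : (LinearMap.ker K.mkQ).IsHomogeneous 𝒩 := by rw [Submodule.ker_mkQ]; exact hK
  let Cm : GrLC.GMod.{u} 𝒜 := GMod.ofQuot 𝒜 𝒩 (Submodule.mkQ_surjective K) hkerc
  let c : N →ₗ[R] Cm.carrier := K.mkQ
  have S2 : GrSES (Msh (𝒜 := 𝒜) 𝒩 t).gr 𝒩 Cm.gr mx c :=
    { hi := hxgr
      hp := fun g m hm => ⟨m, hm, rfl⟩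
      inj := by
        rw [injective_iff_map_eq_zero]
        intro m hm
        exact hreg m hm
      surj := Submodule.mkQ_surjective K
      exact := fun m => by
        change K.mkQ m = 0 ↔ _
        rw [Submodule.mkQ_apply, Submodule.Quotient.mk_eq_zero]
        rfl }
  let EC : GrLC.StarInjRes 𝒜 Cm.gr := starInjRes 𝒜 Cm.gr
  haveI : Module.Finite R Cm.carrier := (inferInstance : Module.Finite R (N ⧸ K))
  obtain ⟨hCfg, rC, hrC⟩ := ih Cm.carrier Cm.gr EC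
  obtain ⟨δ2, hδ2, -, -, -, hex⟩ := exists_les S2 (shiftRes EQ t) EQ EC a
  -- the key exactness statement, on pieces
  have hK1 : ∀ (m : ℤ) (y : EQ.H a (i + 1)), y ∈ EQ.Hgr a (i + 1) m → x • y = 0 →
      ∃ w, w ∈ EC.Hgr a i (m + t) ∧ shiftH EQ a t (i + 1) (δ2 i w) = y := by
    intro m y hy hxy
    set y' : (shiftRes EQ t).H a (i + 1) := (shiftH EQ a t (i + 1)).symm y with hy'
    have hy'gr : y' ∈ (shiftRes EQ t).Hgr a (i + 1) (m + t) := by
      rw [shiftH_mem, hy', LinearEquiv.apply_symm_apply, add_sub_cancel_right]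
      exact hy
    have h0 : Hmap (shiftRes EQ t) EQ a mx S2.hi (i + 1) y' = 0 := by
      have := Hmap_smul EQ a t hxt (i + 1) y'
      rw [hy', LinearEquiv.apply_symm_apply, hxy] at this
      exact this
    have hrange := (hex i y').mp h0
    obtain ⟨w, hw, hwy⟩ := exists_mem_of_isGrHom (EC.Hgr a i) ((shiftRes EQ t).Hgr a (i + 1))
      (isInternal_Hgr 𝒜 Cm.gr EC a i) (isInternal_Hgr 𝒜 _ (shiftRes EQ t) a (i + 1)) (hδ2 i) hy'gr
      hrange
    refine ⟨w, hw, ?_⟩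
    rw [hwy, hy', LinearEquiv.apply_symm_apply]
  -- multiplication by `x` is injective in large degrees
  have hinj : ∀ m : ℤ, rC - t ≤ m → ∀ y ∈ EQ.Hgr a (i + 1) m, x • y = 0 → y = 0 := by
    intro m hm y hy hxy
    obtain ⟨w, hw, rfl⟩ := hK1 m y hy hxy
    have hw' : w ∈ EC.Hcomp a i (m + t) := hw
    rw [hrC (m + t) (by omega), Submodule.mem_bot] at hw'
    rw [hw', map_zero, map_zero]
  have hpow : ∀ (k : ℕ) (m : ℤ), rC - t ≤ m → ∀ y ∈ EQ.Hgr a (i + 1) m, x ^ k • y = 0 → y = 0 := by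
    intro k
    induction k with
    | zero =>
      intro m _ y _ h
      rwa [pow_zero, one_smul] at h
    | succ k ihk =>
      intro m hm y hy h
      rw [pow_succ, mul_smul] at h
      have h1 : x • y ∈ EQ.Hgr a (i + 1) (t + m) := smul_mem_Hgr EQ a (i + 1) hxt hy
      have h2 := ihk (t + m) (by omega) (x • y) h1 h
      exact hinj m hm y hy h2
  have hvan : ∀ m : ℤ, rC - t ≤ m → EQ.Hcomp a (i + 1) m = ⊥ := by
    intro m hm
    rw [eq_bot_iff]
    intro y hy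
    obtain ⟨k, hk⟩ := H_torsion EQ a (i + 1) y
    rw [Submodule.mem_bot]
    exact hpow k m hm y hy (hk _ (Ideal.pow_mem_pow hxa k))
  refine ⟨?_, rC - t, hvan⟩
  -- finiteness, by descending induction
  have hstep : ∀ m : ℤ, (EQ.Hcomp a (i + 1) (m + t)).FG → (EQ.Hcomp a (i + 1) m).FG := by
    intro m hfg
    let f : EQ.H a (i + 1) →ₗ[GrLC.deg0 𝒜] EQ.H a (i + 1) :=
      (LinearMap.lsmul R (EQ.H a (i + 1)) x).restrictScalars (GrLC.deg0 𝒜)
    let δ' : EC.H a i →ₗ[GrLC.deg0 𝒜] EQ.H a (i + 1) :=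
      ((shiftH EQ a t (i + 1)).toLinearMap ∘ₗ δ2 i).restrictScalars (GrLC.deg0 𝒜)
    apply Submodule.fg_of_fg_map_of_fg_inf_ker f
    · apply Submodule.FG.of_le hfg
      rintro _ ⟨y, hy, rfl⟩
      have := smul_mem_Hgr EQ a (i + 1) hxt (show y ∈ EQ.Hgr a (i + 1) m from hy)
      rw [add_comm t m] at this
      exact this
    · apply Submodule.FG.of_le ((hCfg (m + t)).map δ')
      rintro y ⟨hy, hy0⟩
      obtain ⟨w, hw, rfl⟩ := hK1 m y hy hy0
      exact ⟨w, hw, rfl⟩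
  have hdesc : ∀ (k : ℕ) (m : ℤ), rC - t ≤ m + k * t → (EQ.Hcomp a (i + 1) m).FG := by
    intro k
    induction k with
    | zero =>
      intro m hm
      rw [hvan m (by simpa using hm)]
      exact Submodule.fg_bot
    | succ k ihk =>
      intro m hm
      apply hstep m
      apply ihk (m + t)
      push_cast at hm
      linarith
  intro n
  apply hdesc (rC - t - n).toNat n
  have h1 : (rC - t - n) ≤ ((rC - t - n).toNat : ℤ) := Int.self_le_toNat _
  have h2 : (0 : ℤ) ≤ ((rC - t - n).toNat : ℤ) := Int.natCast_nonneg _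
  nlinarith


include hpos ha in
theorem finVan_succ (i : ℕ) (ih : FinVan a i) : FinVan a (i + 1) := by
  classical
  intro M _ _ ℳ _ _ _ E
  haveI := deg0_isNoetherianRing 𝒜
  have ha' : ∀ n : ℤ, 0 < n → ∀ y ∈ 𝒜 n, y ∈ a.toIdeal := fun n hn y hy =>
    mem_irrelevant_of_pos a ha hn hy
  -- Step 1: pass to the quotient by the torsion
  set Γ : Submodule R M := GrLC.gam a.toIdeal M with hΓdef
  have hΓ : Γ.IsHomogeneous ℳ := gam_isHomogeneous 𝒜 ℳ a
  have hkerq : (LinearMap.ker Γ.mkQ).IsHomogeneous ℳ := by rw [Submodule.ker_mkQ]; exact hΓ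
  let Γm : GrLC.GMod.{u} 𝒜 := GMod.ofSub 𝒜 ℳ hΓ
  let Qm : GrLC.GMod.{u} 𝒜 := GMod.ofQuot 𝒜 ℳ (Submodule.mkQ_surjective Γ) hkerq
  let j : Γm.carrier →ₗ[R] M := Γ.subtype
  let q : M →ₗ[R] Qm.carrier := Γ.mkQ
  have S1 : GrSES Γm.gr ℳ Qm.gr j q :=
    { hi := fun g x hx => hx
      hp := fun g m hm => ⟨m, hm, rfl⟩
      inj := Subtype.val_injective
      surj := Submodule.mkQ_surjective Γ
      exact := fun m => by
        change Γ.mkQ m = 0 ↔ _
        rw [Submodule.mkQ_apply, Submodule.Quotient.mk_eq_zero]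
        constructor
        · intro hm
          exact ⟨⟨m, hm⟩, rfl⟩
        · rintro ⟨m', rfl⟩
          exact m'.2 }
  let EΓ : GrLC.StarInjRes 𝒜 Γm.gr := starInjRes 𝒜 Γm.gr
  let EQ : GrLC.StarInjRes 𝒜 Qm.gr := starInjRes 𝒜 Qm.gr
  obtain ⟨δ1, -, -, hex1, -, -⟩ := exists_les S1 EΓ E EQ a
  have hΓtors : ∀ m : Γm.carrier, m ∈ GrLC.gam a.toIdeal Γm.carrier := by
    rintro ⟨m, k, hk⟩
    exact ⟨k, fun r hr => Subtype.ext (hk r hr)⟩
  set φ : E.H a (i + 1) →ₗ[R] EQ.H a (i + 1) := Hmap E EQ a q S1.hp (i + 1) with hφdef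
  have hφgr : GrLC.IsGrHom (E.Hgr a (i + 1)) (EQ.Hgr a (i + 1)) φ := Hmap_isGrHom a S1.hp (i + 1)
  have hφinj : Function.Injective φ := by
    rw [injective_iff_map_eq_zero]
    intro y hy
    obtain ⟨w, rfl⟩ := (hex1 (i + 1) y).mp hy
    rw [H_eq_zero_of_torsion EΓ a hΓtors i w, map_zero]
  -- it suffices to treat `Q`
  suffices hQ : (∀ n : ℤ, (EQ.Hcomp a (i + 1) n).FG) ∧
      ∃ r : ℤ, ∀ n : ℤ, r ≤ n → EQ.Hcomp a (i + 1) n = ⊥ by
    obtain ⟨hfg, r, hr⟩ := hQ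
    constructor
    · intro n
      apply Submodule.fg_of_fg_map_injective (φ.restrictScalars (GrLC.deg0 𝒜)) hφinj
      apply Submodule.FG.of_le (hfg n)
      rintro _ ⟨y, hy, rfl⟩
      exact hφgr n y hy
    · refine ⟨r, fun n hn => ?_⟩
      rw [eq_bot_iff]
      intro y hy
      have h1 : φ y ∈ EQ.Hcomp a (i + 1) n := hφgr n y hy
      rw [hr n hn, Submodule.mem_bot] at h1
      rw [Submodule.mem_bot]
      exact hφinj (h1.trans (map_zero φ).symm)
  haveI : Module.Finite R Qm.carrier := (inferInstance : Module.Finite R (M ⧸ Γ))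
  have hQtf : GrLC.gam a.toIdeal Qm.carrier = ⊥ :=
    gam_quot_eq_bot a.toIdeal Qm.carrier q (Submodule.mkQ_surjective Γ) (Submodule.ker_mkQ Γ)
  exact finVan_succ_aux hpos a ha i ih Qm.carrier Qm.gr hQtf EQ

include hpos ha in
/-- finiteness and vanishing of the pieces of `H^i_{R_+}(M)`, for all `i` -/
theorem finVan (i : ℕ) : FinVan a i := by
  induction i with
  | zero => exact finVan_zero hpos a ha
  | succ i ih => exact finVan_succ hpos a ha i ih

include ha in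
/-- graded local cohomology vanishes above the number of generators of the ideal -/
theorem exists_H_eq_zero (M : Type u) [AddCommGroup M] [Module R M] (ℳ : ℤ → AddSubgroup M)
    [DirectSum.Decomposition ℳ] [SetLike.GradedSMul 𝒜 ℳ] (E : GrLC.StarInjRes 𝒜 ℳ) :
    ∃ c : ℕ, ∀ i : ℕ, c < i → ∀ y : E.H a i, y = 0 := by
  classical
  obtain ⟨G⟩ := exists_posGens 𝒜 a.toIdeal ha
  refine ⟨G.T.card, fun i hi y => ?_⟩
  obtain ⟨e⟩ := nonempty_H_equiv 𝒜 ℳ E a i
  have hcd := Groth.Agent.S0326.result R G.T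
  rw [← G.hspan] at hcd
  haveI : Subsingleton (LocCoh.H a.toIdeal i M) := hcd M i hi
  apply e.injective
  exact Subsingleton.elim _ _

include hpos ha in
/-- uniform vanishing -/
theorem exists_uniform_vanishing (M : Type u) [AddCommGroup M] [Module R M] [Module.Finite R M]
    (ℳ : ℤ → AddSubgroup M)
    [DirectSum.Decomposition ℳ] [SetLike.GradedSMul 𝒜 ℳ] (E : GrLC.StarInjRes 𝒜 ℳ) :
    ∃ r : ℤ, ∀ (i : ℕ) (n : ℤ), r ≤ n → E.Hcomp a i n = ⊥ := by
  classical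
  obtain ⟨c, hc⟩ := exists_H_eq_zero a ha M ℳ E
  have h : ∀ i : ℕ, ∃ r : ℤ, ∀ n : ℤ, r ≤ n → E.Hcomp a i n = ⊥ := fun i =>
    (finVan hpos a ha i M ℳ E).2
  choose r hr using h
  refine ⟨(Finset.range (c + 1)).sup' ⟨0, by simp⟩ r, fun i n hn => ?_⟩
  by_cases hi : c < i
  · rw [eq_bot_iff]
    intro y _
    rw [Submodule.mem_bot]
    exact hc i hi y
  · apply hr i n
    refine le_trans ?_ hn
    apply Finset.le_sup' r
    rw [Finset.mem_range]
    omega

end Main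

end Gr

end Groth.Agent.H6
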