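import Groth.Agent.Lib.Helper6.GrPos
import Groth.Agent.Lib.Helper6.GrEssUngr
import Groth.Agent.Lib.Helper6.GrLCCompare
import Groth.Agent.Lib.Helper6.LCArtinian
import Groth.Agent.Lib.Helper6.GrFinite

/-! Artinian graded modules over positively `ℤ`-graded rings: pieces vanish in large degrees and
are Artinian over the degree-zero subring.  Application: graded local cohomology with support in
the *maximal ideal of a positively graded *local ring. -/

universe u
open DirectSum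
set_option linter.unusedSectionVars false

namespace Groth.Agent.H6

namespace Gr

section Pos

variable {R : Type u} [CommRing R] {𝒜 : ℤ → AddSubgroup R} [GradedRing 𝒜]
variable (hpos : ∀ n : ℤ, n < 0 → 𝒜 n = ⊥)
variable {L : Type u} [AddCommGroup L] [Module R L] (𝓛 : ℤ → AddSubgroup L)
  [DirectSum.Decomposition 𝓛] [SetLike.GradedSMul 𝒜 𝓛]

include hpos in
theorem proj_neg_eq_zero {k : ℤ} (hk : k < 0) (r : R) : proj 𝒜 k r = 0 := by
  have := proj_mem 𝒜 k r
  rw [hpos k hk, AddSubgroup.mem_bot] at this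
  exact this

/-- the truncation `L_{≥ n}`, a submodule because the ring is positively graded -/
def trunc (n : ℤ) : Submodule R L where
  carrier := {y | ∀ k : ℤ, k < n → proj 𝓛 k y = 0}
  zero_mem' := fun k _ => map_zero _
  add_mem' := fun {x y} hx hy k hk => by rw [map_add, hx k hk, hy k hk, add_zero]
  smul_mem' := by
    intro c y hy k hk
    induction c using induction_on 𝒜 with
    | zero => rw [zero_smul, map_zero]
    | homogeneous g c hc =>
      rcases lt_or_ge g 0 with hg | hg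
      · rw [hpos g hg, AddSubgroup.mem_bot] at hc
        rw [hc, zero_smul, map_zero]
      · rw [proj_smul_of_mem' 𝒜 𝓛 hc k y, hy (k - g) (by omega), smul_zero]
    | add c c' h1 h2 => rw [add_smul, map_add, h1, h2, add_zero]

theorem mem_trunc {n : ℤ} {y : L} : y ∈ trunc hpos 𝓛 n ↔ ∀ k : ℤ, k < n → proj 𝓛 k y = 0 :=
  Iff.rfl

theorem trunc_antitone {n n' : ℤ} (h : n ≤ n') : trunc hpos 𝓛 n' ≤ trunc hpos 𝓛 n :=
  fun _ hy k hk => hy k (lt_of_lt_of_le hk h)

theorem mem_trunc_of_mem {n : ℤ} {y : L} (hy : y ∈ 𝓛 n) : y ∈ trunc hpos 𝓛 n :=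
  fun _ hk => proj_of_mem_ne 𝓛 hy (ne_of_gt hk)

include hpos in
/-- the pieces of an Artinian graded module vanish in large degrees -/
theorem exists_eq_bot_of_isArtinian [IsArtinian R L] : ∃ N : ℤ, ∀ n : ℤ, N ≤ n → 𝓛 n = ⊥ := by
  obtain ⟨r, hr⟩ := IsArtinian.monotone_stabilizes
    (⟨fun j : ℕ => OrderDual.toDual (trunc hpos 𝓛 (j : ℤ)), fun a b hab => by
      change trunc hpos 𝓛 (b : ℤ) ≤ trunc hpos 𝓛 (a : ℤ)
      exact trunc_antitone hpos 𝓛 (by exact_mod_cast hab)⟩ : ℕ →o (Submodule R L)ᵒᵈ)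
  have hr' : ∀ j : ℕ, r ≤ j → trunc hpos 𝓛 (r : ℤ) = trunc hpos 𝓛 (j : ℤ) := fun j hj =>
    congrArg OrderDual.ofDual (hr j hj)
  refine ⟨r, fun n hn => ?_⟩
  rw [eq_bot_iff]
  intro y hy
  rw [AddSubgroup.mem_bot]
  obtain ⟨j, rfl⟩ : ∃ j : ℕ, n = (j : ℤ) := ⟨n.toNat, (Int.toNat_of_nonneg (by omega)).symm⟩
  have hj : r ≤ j := by exact_mod_cast hn
  have h1 : y ∈ trunc hpos 𝓛 (j : ℤ) := mem_trunc_of_mem hpos 𝓛 hy
  rw [← hr' j hj, hr' (j + 1) (by omega)] at h1
  have h2 := h1 (j : ℤ) (by push_cast; omega)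
  rwa [proj_of_mem 𝓛 hy] at h2

include hpos in
/-- the pieces of an Artinian graded module are Artinian over the degree-zero subring -/
theorem isArtinian_comp_of_isArtinian [IsArtinian R L] (n : ℤ) :
    IsArtinian (GrLC.deg0 𝒜) (GrLC.comp 𝒜 𝓛 n) := by
  -- the map `U ↦ R U` is strictly monotone
  let F : Submodule (GrLC.deg0 𝒜) (GrLC.comp 𝒜 𝓛 n) → Submodule R L := fun U =>
    Submodule.span R (((↑) : GrLC.comp 𝒜 𝓛 n → L) '' (U : Set (GrLC.comp 𝒜 𝓛 n)))
  have hkey : ∀ (U : Submodule (GrLC.deg0 𝒜) (GrLC.comp 𝒜 𝓛 n)) (y : GrLC.comp 𝒜 𝓛 n),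
      (y : L) ∈ F U → y ∈ U := by
    intro U y hy
    -- the degree `n` component of an element of `R U` lies in `U`
    have hcl : ∀ z ∈ F U, ∀ c : R, ∃ u ∈ U, (u : L) = proj 𝓛 n (c • z) := by
      intro z hz
      refine Submodule.span_induction ?_ ?_ ?_ ?_ hz
      · rintro _ ⟨u, hu, rfl⟩ c
        refine ⟨(⟨proj 𝒜 0 c, proj_mem 𝒜 0 c⟩ : GrLC.deg0 𝒜) • u, U.smul_mem _ hu, ?_⟩
        rw [proj_smul_of_mem_right 𝒜 𝓛 u.2 n c, sub_self]
        rfl
      · intro c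
        exact ⟨0, zero_mem _, by simp⟩
      · rintro a b _ _ ha hb c
        obtain ⟨u, hu, hua⟩ := ha c
        obtain ⟨v, hv, hvb⟩ := hb c
        exact ⟨u + v, add_mem hu hv, by rw [smul_add, map_add, ← hua, ← hvb]; rfl⟩
      · rintro d a _ ha c
        obtain ⟨u, hu, hua⟩ := ha (c * d)
        exact ⟨u, hu, by rw [hua, mul_smul]⟩
    obtain ⟨u, hu, huy⟩ := hcl y hy 1
    have : u = y := Subtype.ext (by rw [huy, one_smul, proj_of_mem 𝓛 y.2])
    rwa [← this]
  have hmono : StrictMono F := by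
    intro U V hUV
    refine lt_of_le_of_ne (Submodule.span_mono (Set.image_mono hUV.le)) ?_
    intro heq
    apply hUV.ne
    apply le_antisymm hUV.le
    intro y hy
    apply hkey U y
    rw [heq]
    exact Submodule.subset_span ⟨y, hy, rfl⟩
  exact ⟨hmono.wellFoundedLT.wf⟩

end Pos

section StarLocal

variable {R : Type u} [CommRing R] {𝒜 : ℤ → AddSubgroup R} [GradedRing 𝒜]
variable (hpos : ∀ n : ℤ, n < 0 → 𝒜 n = ⊥)

/-- adjoining a homogeneous element to a homogeneous ideal -/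
def adjoin (m : HomogeneousIdeal 𝒜) {n : ℤ} {y : R} (hy : y ∈ 𝒜 n) : HomogeneousIdeal 𝒜 :=
  m ⊔ ⟨Ideal.span {y}, Ideal.homogeneous_span 𝒜 _ (by rintro _ rfl; exact ⟨n, hy⟩)⟩

theorem le_adjoin (m : HomogeneousIdeal 𝒜) {n : ℤ} {y : R} (hy : y ∈ 𝒜 n) : m ≤ adjoin m hy :=
  le_sup_left

theorem mem_adjoin (m : HomogeneousIdeal 𝒜) {n : ℤ} {y : R} (hy : y ∈ 𝒜 n) :
    y ∈ (adjoin m hy).toIdeal := by
  have : y ∈ m.toIdeal ⊔ Ideal.span {y} :=
    Submodule.mem_sup_right (Ideal.subset_span (Set.mem_singleton y))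
  exact this

theorem exists_of_mem_adjoin (m : HomogeneousIdeal 𝒜) {n : ℤ} {y : R} (hy : y ∈ 𝒜 n) {z : R}
    (hz : z ∈ (adjoin m hy).toIdeal) : ∃ u ∈ m.toIdeal, ∃ c : R, u + c * y = z := by
  have hz' : z ∈ m.toIdeal ⊔ Ideal.span {y} := hz
  obtain ⟨u, hu, v, hv, huv⟩ := Submodule.mem_sup.mp hz'
  obtain ⟨c, rfl⟩ := Ideal.mem_span_singleton'.mp hv
  exact ⟨u, hu, c, huv⟩

include hpos in
/-- a *maximal ideal of a positively graded ring contains all elements of positive degree -/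
theorem pos_mem_of_isCoatom (m : HomogeneousIdeal 𝒜) (hm : IsCoatom m) {n : ℤ} (hn : 0 < n)
    {y : R} (hy : y ∈ 𝒜 n) : y ∈ m.toIdeal := by
  by_cases hJ : adjoin m hy = ⊤
  · exfalso
    have h1 : (1 : R) ∈ (adjoin m hy).toIdeal := by rw [hJ]; trivial
    obtain ⟨u, hu, c, huc⟩ := exists_of_mem_adjoin m hy h1
    have h0 : proj 𝒜 0 (1 : R) = 1 := proj_of_mem 𝒜 SetLike.GradedOne.one_mem
    have h2 : proj 𝒜 0 (c * y) = 0 := by
      rw [proj_mul_of_mem_right 𝒜 hy, proj_neg_eq_zero hpos (by omega), zero_mul]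
    have h3 : proj 𝒜 0 u = 1 := by
      rw [← h0, ← huc, map_add, h2, add_zero]
    have h4 : proj 𝒜 0 u ∈ m.toIdeal := m.isHomogeneous 0 hu
    rw [h3] at h4
    apply hm.1
    apply HomogeneousIdeal.toIdeal_injective
    rw [HomogeneousIdeal.toIdeal_top]
    exact (Ideal.eq_top_iff_one _).mpr h4
  · have hle : adjoin m hy ≤ m := by
      by_contra hnot
      exact hJ (hm.2 _ (lt_of_le_not_ge (le_adjoin m hy) hnot))
    exact hle (mem_adjoin m hy)

include hpos in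
/-- the *maximal ideal of a positively graded ring is a maximal ideal -/
theorem isMaximal_of_isCoatom (m : HomogeneousIdeal 𝒜) (hm : IsCoatom m) :
    m.toIdeal.IsMaximal := by
  classical
  have hne : (1 : R) ∉ m.toIdeal := by
    intro h1
    apply hm.1
    apply HomogeneousIdeal.toIdeal_injective
    rw [HomogeneousIdeal.toIdeal_top]
    exact (Ideal.eq_top_iff_one _).mpr h1
  rw [Ideal.isMaximal_iff]
  refine ⟨hne, fun J x hmJ hx hxJ => ?_⟩
  -- the components of `x` outside degree zero lie in `m`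
  have hcomp : ∀ k : ℤ, k ≠ 0 → proj 𝒜 k x ∈ m.toIdeal := by
    intro k hk
    rcases lt_or_gt_of_ne hk with h | h
    · rw [proj_neg_eq_zero hpos h]
      exact zero_mem _
    · exact pos_mem_of_isCoatom hpos m hm h (proj_mem 𝒜 k x)
  have hx0 : proj 𝒜 0 x ∉ m.toIdeal := by
    intro h0
    apply hx
    rw [← sum_proj 𝒜 x]
    apply Ideal.sum_mem
    intro k _
    by_cases hk : k = 0
    · rw [hk]; exact h0
    · exact hcomp k hk
  have hx0J : proj 𝒜 0 x ∈ J := by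
    have : proj 𝒜 0 x = x - ∑ k ∈ (DirectSum.decompose 𝒜 x).support.erase 0, proj 𝒜 k x := by
      rw [eq_sub_iff_add_eq]
      conv_rhs => rw [← sum_proj 𝒜 x]
      by_cases h0 : (0 : ℤ) ∈ (DirectSum.decompose 𝒜 x).support
      · exact Finset.add_sum_erase _ (fun k => proj 𝒜 k x) h0
      · rw [Finset.erase_eq_of_notMem h0, proj_eq_zero_of_notMem_support 𝒜 h0, zero_add]
    rw [this]
    apply J.sub_mem hxJ
    apply Ideal.sum_mem
    intro k hk
    exact hmJ (hcomp k (Finset.ne_of_mem_erase hk))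
  have hy : proj 𝒜 0 x ∈ 𝒜 0 := proj_mem 𝒜 0 x
  have hJ : adjoin m hy = ⊤ := by
    apply hm.2
    refine lt_of_le_not_ge (le_adjoin m hy) fun hle => ?_
    exact hx0 (hle (mem_adjoin m hy))
  have h1 : (1 : R) ∈ (adjoin m hy).toIdeal := by rw [hJ]; trivial
  obtain ⟨u, hu, c, huc⟩ := exists_of_mem_adjoin m hy h1
  rw [← huc]
  exact J.add_mem (hmJ hu) (J.mul_mem_left c hx0J)

end StarLocal

section Apply

variable {R : Type u} [CommRing R] [IsNoetherianRing R] {𝒜 : ℤ → AddSubgroup R} [GradedRing 𝒜]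
variable (hpos : ∀ n : ℤ, n < 0 → 𝒜 n = ⊥)
variable {M : Type u} [AddCommGroup M] [Module R M] [Module.Finite R M] {ℳ : ℤ → AddSubgroup M}
  [DirectSum.Decomposition ℳ] [SetLike.GradedSMul 𝒜 ℳ] (E : GrLC.StarInjRes 𝒜 ℳ)
  (m : HomogeneousIdeal 𝒜) (hm : IsCoatom m)

omit [IsNoetherianRing R] [Module.Finite R M] in
theorem Hgr_gradedSMul (a : HomogeneousIdeal 𝒜) (i : ℕ) : SetLike.GradedSMul 𝒜 (E.Hgr a i) where
  smul_mem := by
    intro t k x y hx hy
    exact smul_mem_Hgr E a i hx hy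

include hpos hm in
/-- graded local cohomology with support in the *maximal ideal is Artinian -/
theorem isArtinian_H_of_isCoatom (i : ℕ) : IsArtinian R (E.H m i) := by
  haveI := isMaximal_of_isCoatom hpos m hm
  obtain ⟨e⟩ := nonempty_H_equiv 𝒜 ℳ E m i
  haveI : IsArtinian R (LocCoh.H m.toIdeal i M) := LC.isArtinian_H m.toIdeal i M
  exact isArtinian_of_injective e.toLinearMap e.injective

include hpos hm in
theorem exists_Hcomp_eq_bot_of_isCoatom (i : ℕ) :
    ∃ N : ℤ, ∀ n : ℤ, N ≤ n → E.Hcomp m i n = ⊥ := by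
  haveI := isArtinian_H_of_isCoatom hpos E m hm i
  letI : DirectSum.Decomposition (E.Hgr m i) := (isInternal_Hgr 𝒜 ℳ E m i).chooseDecomposition
  letI : SetLike.GradedSMul 𝒜 (E.Hgr m i) := Hgr_gradedSMul E m i
  obtain ⟨N, hN⟩ := exists_eq_bot_of_isArtinian hpos (E.Hgr m i)
  refine ⟨N, fun n hn => ?_⟩
  rw [eq_bot_iff]
  intro y hy
  have h1 : y ∈ E.Hgr m i n := hy
  rw [hN n hn, AddSubgroup.mem_bot] at h1
  rw [Submodule.mem_bot]
  exact h1

include hpos hm in
theorem isArtinian_Hcomp_of_isCoatom (i : ℕ) (n : ℤ) :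
    IsArtinian (GrLC.deg0 𝒜) (E.Hcomp m i n) := by
  haveI := isArtinian_H_of_isCoatom hpos E m hm i
  letI : DirectSum.Decomposition (E.Hgr m i) := (isInternal_Hgr 𝒜 ℳ E m i).chooseDecomposition
  letI : SetLike.GradedSMul 𝒜 (E.Hgr m i) := Hgr_gradedSMul E m i
  have h := isArtinian_comp_of_isArtinian hpos (E.Hgr m i) n
  have heq : GrLC.comp 𝒜 (E.Hgr m i) n = E.Hcomp m i n := by
    ext y
    rfl
  rw [← heq]
  exact h

end Apply

end Gr

end Groth.Agent.H6
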