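import Groth.Agent.Lib.Helper6.GrPos

/-! Homogeneous prime avoidance for ideals generated by homogeneous elements of positive degree in
a `ℤ`-graded ring; homogeneous regular elements. -/

universe u
open DirectSum
set_option linter.unusedSectionVars false

namespace Groth.Agent.H6

namespace Gr

section Avoid

variable {R : Type u} [CommRing R] (𝒜 : ℤ → AddSubgroup R) [GradedRing 𝒜]

/-- homogeneous prime avoidance: an ideal generated by homogeneous elements of positive degree
contains a homogeneous element of positive degree outside finitely many given primes, none of which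
contains the ideal (the primes need not be homogeneous) -/
theorem exists_homogeneous_avoid (Sgen : Set R) (hS : ∀ x ∈ Sgen, ∃ n : ℤ, 0 < n ∧ x ∈ 𝒜 n)
    (P : Finset (Ideal R)) (hP : ∀ p ∈ P, p.IsPrime ∧ ¬ Ideal.span Sgen ≤ p) :
    ∃ (n : ℤ) (z : R), 0 < n ∧ z ∈ 𝒜 n ∧ z ∈ Ideal.span Sgen ∧ ∀ p ∈ P, z ∉ p := by
  classical
  induction' hk : P.card with k ih generalizing P
  · have : P = ∅ := Finset.card_eq_zero.mp hk
    subst this
    exact ⟨1, 0, one_pos, zero_mem _, zero_mem _, fun p hp => absurd hp (Finset.notMem_empty p)⟩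
  · -- elements avoiding all primes but one
    have hz : ∀ p ∈ P, ∃ (n : ℤ) (z : R), 0 < n ∧ z ∈ 𝒜 n ∧ z ∈ Ideal.span Sgen ∧
        ∀ q ∈ P.erase p, z ∉ q := by
      intro p hp
      apply ih (P.erase p) (fun q hq => hP q (Finset.mem_of_mem_erase hq))
      rw [Finset.card_erase_of_mem hp, hk]
      rfl
    by_cases hex : ∃ p ∈ P, ∀ (n : ℤ) (z : R), 0 < n → z ∈ 𝒜 n → z ∈ Ideal.span Sgen →
        (∀ q ∈ P.erase p, z ∉ q) → z ∈ p
    swap
    · push Not at hex
      obtain ⟨p₁, hp₁⟩ : ∃ p, p ∈ P := Finset.card_pos.mp (by omega)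
      obtain ⟨n, z, hn, hzn, hzI, hzq, hzp⟩ := hex p₁ hp₁
      refine ⟨n, z, hn, hzn, hzI, fun q hq => ?_⟩
      by_cases hqp : q = p₁
      · subst hqp; exact hzp
      · exact hzq q (Finset.mem_erase.mpr ⟨hqp, hq⟩)
    -- now every such element for `p₁` lies in `p₁`
    choose! n z hn hzn hzI hzq using hz
    by_cases hall : ∀ p ∈ P, z p ∈ p
    swap
    · push Not at hall
      obtain ⟨p, hp, hzp⟩ := hall
      refine ⟨n p, z p, hn p hp, hzn p hp, hzI p hp, fun q hq => ?_⟩
      by_cases hqp : q = p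
      · subst hqp; exact hzp
      · exact hzq p hp q (Finset.mem_erase.mpr ⟨hqp, hq⟩)
    obtain ⟨p₁, hp₁⟩ : ∃ p, p ∈ P := Finset.card_pos.mp (by omega)
    by_cases hone : P.erase p₁ = ∅
    · -- a single prime
      have hPeq : ∀ q ∈ P, q = p₁ := by
        intro q hq
        by_contra hne
        have : q ∈ P.erase p₁ := Finset.mem_erase.mpr ⟨hne, hq⟩
        rw [hone] at this
        exact Finset.notMem_empty q this
      have hnot := (hP p₁ hp₁).2
      have : ∃ x ∈ Sgen, x ∉ p₁ := by
        by_contra hcon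
        push Not at hcon
        exact hnot (Ideal.span_le.mpr hcon)
      obtain ⟨x, hxS, hxp⟩ := this
      obtain ⟨m, hm, hxm⟩ := hS x hxS
      exact ⟨m, x, hm, hxm, Ideal.subset_span hxS, fun q hq => by rw [hPeq q hq]; exact hxp⟩
    · have hne : (P.erase p₁).Nonempty := Finset.nonempty_iff_ne_empty.mpr hone
      haveI := (hP p₁ hp₁).1
      set w : R := ∏ q ∈ P.erase p₁, z q with hw
      set m : ℤ := ∑ q ∈ P.erase p₁, n q with hm
      have hm0 : 0 < m := Finset.sum_pos (fun q hq => hn q (Finset.mem_of_mem_erase hq)) hne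
      have hwm : w ∈ 𝒜 m :=
        SetLike.prod_mem_graded _ _ _ (fun q hq => hzn q (Finset.mem_of_mem_erase hq))
      have hwI : w ∈ Ideal.span Sgen := by
        obtain ⟨q₀, hq₀⟩ := hne
        rw [hw, ← Finset.mul_prod_erase _ _ hq₀]
        exact Ideal.mul_mem_right _ _ (hzI q₀ (Finset.mem_of_mem_erase hq₀))
      have hwp₁ : w ∉ p₁ := by
        intro h
        rw [hw, Ideal.IsPrime.prod_mem_iff] at h
        obtain ⟨q, hq, hzq'⟩ := h
        have hq' := Finset.mem_of_mem_erase hq
        have hne' : p₁ ≠ q := fun h => (Finset.ne_of_mem_erase hq) h.symm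
        exact hzq q hq' p₁ (Finset.mem_erase.mpr ⟨hne', hp₁⟩) hzq'
      have hwq : ∀ q ∈ P.erase p₁, w ∈ q := by
        intro q hq
        rw [hw, ← Finset.mul_prod_erase _ _ hq]
        exact Ideal.mul_mem_right _ _ (hall q (Finset.mem_of_mem_erase hq))
      have hn₁ := hn p₁ hp₁
      set A : ℕ := m.toNat with hA
      set B : ℕ := (n p₁).toNat with hB
      have hA0 : A ≠ 0 := by rw [hA]; omega
      have hB0 : B ≠ 0 := by rw [hB]; omega
      have hdeg1 : z p₁ ^ A ∈ 𝒜 (m * n p₁) := by
        have := SetLike.pow_mem_graded A (hzn p₁ hp₁)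
        rw [nsmul_eq_mul, hA, Int.toNat_of_nonneg hm0.le] at this
        exact this
      have hdeg2 : w ^ B ∈ 𝒜 (m * n p₁) := by
        have := SetLike.pow_mem_graded B hwm
        rw [nsmul_eq_mul, hB, Int.toNat_of_nonneg hn₁.le, mul_comm] at this
        exact this
      refine ⟨m * n p₁, z p₁ ^ A + w ^ B, mul_pos hm0 hn₁, add_mem hdeg1 hdeg2,
        Ideal.add_mem _ (Ideal.pow_mem_of_mem _ (hzI p₁ hp₁) A (Nat.pos_of_ne_zero hA0))
          (Ideal.pow_mem_of_mem _ hwI B (Nat.pos_of_ne_zero hB0)), fun q hq hzq' => ?_⟩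
      by_cases hqp : q = p₁
      · subst hqp
        have h1 : z q ^ A ∈ q := Ideal.pow_mem_of_mem _ (hall q hq) A (Nat.pos_of_ne_zero hA0)
        have h2 : w ^ B ∈ q := (Ideal.add_mem_iff_right _ h1).mp hzq'
        exact hwp₁ (Ideal.IsPrime.mem_of_pow_mem inferInstance B h2)
      · have hq' : q ∈ P.erase p₁ := Finset.mem_erase.mpr ⟨hqp, hq⟩
        haveI := (hP q hq).1
        have h1 : w ^ B ∈ q := Ideal.pow_mem_of_mem _ (hwq q hq') B (Nat.pos_of_ne_zero hB0)
        have h2 : z p₁ ^ A ∈ q := (Ideal.add_mem_iff_left _ h1).mp hzq'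
        exact hzq p₁ hp₁ q hq' (Ideal.IsPrime.mem_of_pow_mem inferInstance A h2)

end Avoid


section Regular

variable {R : Type u} [CommRing R] [IsNoetherianRing R] (𝒜 : ℤ → AddSubgroup R) [GradedRing 𝒜]
variable {N : Type u} [AddCommGroup N] [Module R N] [Module.Finite R N]

/-- if `Γ_a(N) = 0` for an ideal `a` generated by homogeneous elements of positive degree, then `a`
contains a homogeneous element of positive degree which is a non-zerodivisor on `N` -/
theorem exists_homogeneous_regular (Sgen : Set R) (hS : ∀ x ∈ Sgen, ∃ n : ℤ, 0 < n ∧ x ∈ 𝒜 n)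
    (hN : GrLC.gam (Ideal.span Sgen) N = ⊥) :
    ∃ (n : ℤ) (z : R), 0 < n ∧ z ∈ 𝒜 n ∧ z ∈ Ideal.span Sgen ∧ ∀ m : N, z • m = 0 → m = 0 := by
  classical
  have hfin : (associatedPrimes R N).Finite := associatedPrimes.finite R N
  obtain ⟨n, z, hn, hzn, hzI, hz⟩ := exists_homogeneous_avoid 𝒜 Sgen hS hfin.toFinset (by
    intro p hp
    rw [Set.Finite.mem_toFinset] at hp
    refine ⟨hp.isPrime, fun hle => ?_⟩
    obtain ⟨hprime, m, hm⟩ := (isAssociatedPrime_iff).mp hp
    have hm0 : m ∈ GrLC.gam (Ideal.span Sgen) N := by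
      refine ⟨1, fun r hr => ?_⟩
      rw [pow_one] at hr
      have : r ∈ p := hle hr
      rw [hm, Submodule.mem_colon_singleton, Submodule.mem_bot] at this
      exact this
    rw [hN, Submodule.mem_bot] at hm0
    apply hprime.ne_top
    rw [hm, hm0, Ideal.eq_top_iff_one, Submodule.mem_colon_singleton, smul_zero]
    exact Submodule.zero_mem _)
  refine ⟨n, z, hn, hzn, hzI, fun m hm => ?_⟩
  by_contra hm0
  have : z ∈ ⋃ p ∈ associatedPrimes R N, (p : Set R) := by
    rw [biUnion_associatedPrimes_eq_zero_divisors]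
    exact ⟨m, hm0, hm⟩
  simp only [Set.mem_iUnion, SetLike.mem_coe] at this
  obtain ⟨p, hp, hzp⟩ := this
  exact hz p (hfin.mem_toFinset.mpr hp) hzp

omit [Module.Finite R N] in
/-- the quotient by the torsion submodule is torsion-free -/
theorem gam_quot_eq_bot (a : Ideal R) (Q : Type u) [AddCommGroup Q] [Module R Q]
    (q : N →ₗ[R] Q) (hq : Function.Surjective q) (hker : LinearMap.ker q = GrLC.gam a N) :
    GrLC.gam a Q = ⊥ := by
  rw [eq_bot_iff]
  rintro y ⟨k, hk⟩
  obtain ⟨m, rfl⟩ := hq y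
  rw [Submodule.mem_bot, ← LinearMap.mem_ker, hker]
  -- `a^k m` is a finitely generated submodule of the torsion
  have hfg : (a ^ k).FG := (isNoetherianRing_iff_ideal_fg R).mp inferInstance _
  obtain ⟨T, hT⟩ := hfg
  have hmem : ∀ r ∈ T, r • m ∈ GrLC.gam a N := by
    intro r hr
    rw [← hker, LinearMap.mem_ker, map_smul]
    apply hk
    rw [← hT]
    exact Ideal.subset_span hr
  choose! e he using hmem
  refine ⟨k + T.sup e, fun r hr => ?_⟩
  rw [pow_add, mul_comm] at hr
  refine Submodule.mul_induction_on hr ?_ ?_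
  · intro s hs t ht
    rw [mul_smul]
    -- `t ∈ a^k = span T`
    rw [← hT] at ht
    refine Submodule.span_induction ?_ ?_ ?_ ?_ ht
    · intro t' ht'
      apply he t' ht'
      exact Ideal.pow_le_pow_right (Finset.le_sup (f := e) ht') hs
    · rw [zero_smul, smul_zero]
    · intro x y _ _ hx hy
      rw [add_smul, smul_add, hx, hy, add_zero]
    · intro c x _ hx
      rw [smul_eq_mul, mul_smul, smul_comm, hx, smul_zero]
  · intro x y hx hy
    rw [add_smul, hx, hy, add_zero]

end Regular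

end Gr

end Groth.Agent.H6
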