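import Groth.Agent.Lib.Helper6.GrPos
import Groth.Agent.Lib.Helper6.FinThm
import Groth.Agent.Lib.Helper2.DimFG

/-! Positively graded Noetherian rings over a field: finite type, and `ht R₊ = dim R`. -/

universe u
open DirectSum
set_option linter.unusedSectionVars false

namespace Groth.Agent.H6

namespace Gr

variable {R : Type u} [CommRing R] (𝒜 : ℤ → AddSubgroup R) [GradedRing 𝒜]

/-- a positively graded Noetherian ring is of finite type over its degree-zero part -/
theorem finiteType_deg0 [IsNoetherianRing R] (hpos : ∀ n : ℤ, n < 0 → 𝒜 n = ⊥)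
    (m : Ideal R) (hmsp : m = Ideal.span (⋃ n ∈ Set.Ioi (0 : ℤ), (𝒜 n : Set R))) :
    Algebra.FiniteType (GrLC.deg0 𝒜) R := by
  classical
  obtain ⟨G⟩ := exists_posGens 𝒜 m hmsp
  refine ⟨⟨G.T, ?_⟩⟩
  have ha : ∀ n : ℤ, 0 < n → ∀ y ∈ 𝒜 n, y ∈ m := by
    intro n hn y hy
    rw [hmsp]
    refine Ideal.subset_span ?_
    simp only [Set.mem_iUnion, Set.mem_Ioi, SetLike.mem_coe]
    exact ⟨n, hn, hy⟩
  -- homogeneous elements are in the adjoin
  have key : ∀ N : ℕ, ∀ n : ℤ, n ≤ N → ∀ y ∈ 𝒜 n, y ∈ Algebra.adjoin (GrLC.deg0 𝒜) (G.T : Set R) := by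
    intro N
    induction N with
    | zero =>
      intro n hn y hy
      rcases lt_or_eq_of_le hn with h | h
      · have : 𝒜 n = ⊥ := hpos n (by exact_mod_cast h)
        rw [this, AddSubgroup.mem_bot] at hy
        rw [hy]; exact Subalgebra.zero_mem _
      · have h0 : n = 0 := by exact_mod_cast h
        subst h0
        exact Subalgebra.algebraMap_mem _ (⟨y, hy⟩ : GrLC.deg0 𝒜)
    | succ N ih =>
      intro n hn y hy
      by_cases hle : n ≤ N
      · exact ih n hle y hy
      · have hnpos : 0 < n := by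
          have : (N : ℤ) < n := not_le.mp hle
          omega
        obtain ⟨c, hc, rfl⟩ := G.exists_decomp ha hnpos hy
        refine Subalgebra.sum_mem _ fun x hx => ?_
        refine Subalgebra.mul_mem _ ?_ (Algebra.subset_adjoin hx)
        refine ih (n - G.d x) ?_ (c x) (hc x)
        have := (G.hd x hx).1
        push_cast at hn
        omega
  rw [eq_top_iff]
  intro y _
  rw [← sum_proj 𝒜 y]
  refine Subalgebra.sum_mem _ fun g _ => ?_
  exact key g.toNat g (Int.self_le_toNat g) _ (proj_mem 𝒜 g y)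

/-- a proper homogeneous ideal of a positively graded ring with degree-zero part a field lies in
the irrelevant ideal -/
theorem le_irrelevant (hpos : ∀ n : ℤ, n < 0 → 𝒜 n = ⊥) (h0 : IsField (GrLC.deg0 𝒜))
    (m : Ideal R) (hmsp : m = Ideal.span (⋃ n ∈ Set.Ioi (0 : ℤ), (𝒜 n : Set R)))
    (P : Ideal R) (hP : P.IsHomogeneous 𝒜) (hne : P ≠ ⊤) : P ≤ m := by
  intro x hx
  rw [← sum_proj 𝒜 x]
  refine Ideal.sum_mem _ fun g _ => ?_
  have hg : proj 𝒜 g x ∈ P := hP g hx
  rcases lt_trichotomy g 0 with h | h | h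
  · have : 𝒜 g = ⊥ := hpos g h
    have h1 := proj_mem 𝒜 g x
    rw [this, AddSubgroup.mem_bot] at h1
    rw [h1]; exact Ideal.zero_mem _
  · subst h
    by_cases hz : proj 𝒜 0 x = 0
    · rw [hz]; exact Ideal.zero_mem _
    · exfalso
      have hne0 : (⟨proj 𝒜 0 x, proj_mem 𝒜 0 x⟩ : GrLC.deg0 𝒜) ≠ 0 := fun h => hz (congrArg Subtype.val h)
      obtain ⟨b, hb⟩ := h0.mul_inv_cancel hne0
      apply hne
      rw [Ideal.eq_top_iff_one]
      have : (proj 𝒜 0 x) * (b : R) = 1 := congrArg Subtype.val hb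
      rw [← this]
      exact Ideal.mul_mem_right _ _ hg
  · rw [hmsp]
    refine Ideal.subset_span ?_
    simp only [Set.mem_iUnion, Set.mem_Ioi, SetLike.mem_coe]
    exact ⟨g, h, proj_mem 𝒜 g x⟩

/-- `ht R₊ = dim R` for a positively graded Noetherian ring with degree-zero part a field -/
theorem height_irrelevant [IsNoetherianRing R] (hpos : ∀ n : ℤ, n < 0 → 𝒜 n = ⊥)
    (h0 : IsField (GrLC.deg0 𝒜)) (m : Ideal R)
    (hmsp : m = Ideal.span (⋃ n ∈ Set.Ioi (0 : ℤ), (𝒜 n : Set R))) [hmax : m.IsMaximal]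
    (n : ℕ) (hn : ringKrullDim R = n) : m.height = n := by
  apply le_antisymm
  · have h1 := Ideal.height_le_ringKrullDim_of_ne_top hmax.ne_top
    rw [hn] at h1
    exact_mod_cast h1
  · haveI : Nontrivial R := ⟨⟨0, 1, fun h => hmax.ne_top (by rw [Ideal.eq_top_iff_one, ← h]; exact Ideal.zero_mem _)⟩⟩
    haveI hfin : FiniteRingKrullDim R := by
      rw [finiteRingKrullDim_iff_ne_bot_and_top, hn]
      exact ⟨WithBot.coe_ne_bot, fun h => by
        have : ((n : ℕ∞) : WithBot ℕ∞) = ((⊤ : ℕ∞) : WithBot ℕ∞) := h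
        exact ENat.coe_ne_top n (WithBot.coe_injective this)⟩
    obtain ⟨𝔫, h𝔫max, h𝔫⟩ := Ideal.exists_isMaximal_height (R := R)
    haveI := h𝔫max.isPrime
    haveI : 𝔫.FiniteHeight := by
      rw [Ideal.finiteHeight_iff_lt]
      right
      have : (𝔫.height : WithBot ℕ∞) = ((n : ℕ∞) : WithBot ℕ∞) := by rw [h𝔫, hn]; rfl
      rw [WithBot.coe_injective this]
      exact ENat.coe_lt_top n
    obtain ⟨s, hs1, hs2⟩ := Ideal.exists_ltSeries_length_eq_height 𝔫
    have hsn : s.length = n := by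
      have : ((s.length : ℕ∞) : WithBot ℕ∞) = n := by rw [hs2, h𝔫, hn]
      exact_mod_cast this
    -- a minimal prime below the head
    obtain ⟨P, hPmin, hPle⟩ := Ideal.exists_minimalPrimes_le (I := ⊥) (J := s.head.asIdeal) bot_le
    haveI hPprime : P.IsPrime := hPmin.1.1
    -- `P` is homogeneous
    have hPhom : P.IsHomogeneous 𝒜 := by
      have h1 : ((P.homogeneousCore 𝒜).toIdeal).IsPrime := Ideal.IsPrime.homogeneousCore hPprime
      have h2 : (P.homogeneousCore 𝒜).toIdeal ≤ P := Ideal.toIdeal_homogeneousCore_le 𝒜 P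
      have h3 : P ≤ (P.homogeneousCore 𝒜).toIdeal := hPmin.2 ⟨h1, bot_le⟩ h2
      have h4 : (P.homogeneousCore 𝒜).toIdeal = P := le_antisymm h2 h3
      rw [← h4]
      exact (P.homogeneousCore 𝒜).isHomogeneous
    have hPm : P ≤ m := le_irrelevant 𝒜 hpos h0 m hmsp P hPhom hPprime.ne_top
    -- dimension of `R/P`
    let pP : PrimeSpectrum R := ⟨P, hPprime⟩
    let pm : PrimeSpectrum R := ⟨m, hmax.isPrime⟩
    have hdimP : (n : WithBot ℕ∞) ≤ ringKrullDim (R ⧸ P) := by
      have h1 : ringKrullDim (R ⧸ pP.asIdeal) = Order.coheight pP := Dim.ringKrullDim_quotient_eq_coheight pP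
      change ringKrullDim (R ⧸ P) = _ at h1
      rw [h1]
      have h2 : (s.length : ℕ∞) ≤ Order.coheight pP := Order.length_le_coheight (x := pP) (p := s) hPle
      rw [hsn] at h2
      exact_mod_cast h2
    -- `R/P` is a domain of finite type over the field
    letI : Field (GrLC.deg0 𝒜) := h0.toField
    haveI : Algebra.FiniteType (GrLC.deg0 𝒜) R := finiteType_deg0 𝒜 hpos m hmsp
    haveI : Algebra.FiniteType (GrLC.deg0 𝒜) (R ⧸ P) :=
      Algebra.FiniteType.of_surjective (Ideal.Quotient.mkₐ (GrLC.deg0 𝒜) P) (Ideal.Quotient.mkₐ_surjective _ _)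
    haveI : IsDomain (R ⧸ P) := Ideal.Quotient.isDomain P
    have hker : RingHom.ker (Ideal.Quotient.mk P) ≤ m := by rw [Ideal.mk_ker]; exact hPm
    haveI hmbar : (m.map (Ideal.Quotient.mk P)).IsMaximal :=
      Ideal.IsMaximal.map_of_surjective_of_ker_le Ideal.Quotient.mk_surjective hker
    have h3 := Groth.Agent.H2.DimFG.height_eq_ringKrullDim_of_isMaximal (GrLC.deg0 𝒜) (R ⧸ P) (m.map (Ideal.Quotient.mk P))
    have h4 := FinThm.height_map_eq_height_Ici pP pm hPm
    change (m.map (Ideal.Quotient.mk P)).height = _ at h4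
    have h5 : Order.height (⟨pm, hPm⟩ : Set.Ici pP) ≤ Order.height pm :=
      Order.height_le_height_apply_of_strictMono (f := (Subtype.val : Set.Ici pP → PrimeSpectrum R))
        (fun a b hab => hab) _
    have h6 : Order.height pm = m.height := (PrimeSpectrum.height_eq_orderHeight pm).symm
    have h7 : (n : WithBot ℕ∞) ≤ ((m.map (Ideal.Quotient.mk P)).height : WithBot ℕ∞) := by
      rw [h3]; exact hdimP
    have h8 : (n : ℕ∞) ≤ (m.map (Ideal.Quotient.mk P)).height := by exact_mod_cast h7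
    calc (n : ℕ∞) ≤ (m.map (Ideal.Quotient.mk P)).height := h8
      _ = Order.height (⟨pm, hPm⟩ : Set.Ici pP) := h4
      _ ≤ Order.height pm := h5
      _ = m.height := h6

end Gr

end Groth.Agent.H6
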