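import Groth.Agent.Lib.Helper6.DimCore
import Groth.Agent.Lib.Helper6.GrDim
import Groth.Agent.Lib.Helper6.LCMaxLoc
import Groth.Agent.Lib.Helper6.LCTop
import Groth.Agent.Lib.Helper6.GrLCCompare
import Groth.Agent.Lib.Helper6.GrAvoid
import Groth.Agent.Lib.Helper6.GrCMCrit3
import Groth.Agent.Lib.Helper6.GrArtinian
import Groth.Agent.Lib.Helper6.GrEssUngr

/-! Dimension of finitely generated graded modules over a positively graded Noetherian ring with
degree-zero part a field: it is the dimension of the localization at the irrelevant ideal.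
Non-vanishing of the top local cohomology, homogeneous parameters. -/

universe u
open DirectSum
set_option linter.unusedSectionVars false

namespace Groth.Agent.H6

namespace GrMD

open RelHt

section Ungraded

variable {R : Type u} [CommRing R] (𝒜 : ℤ → AddSubgroup R) [GradedRing 𝒜] [IsNoetherianRing R]
  (hpos : ∀ n : ℤ, n < 0 → 𝒜 n = ⊥) (h0 : IsField (GrLC.deg0 𝒜)) (m : Ideal R)
  (hmsp : m = Ideal.span (⋃ n ∈ Set.Ioi (0 : ℤ), (𝒜 n : Set R))) [hmax : m.IsMaximal]

/-- minimal primes over a homogeneous ideal are homogeneous -/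
theorem minimalPrimes_isHomogeneous {a : Ideal R} (ha : a.IsHomogeneous 𝒜) {P : Ideal R}
    (hP : P ∈ a.minimalPrimes) : P.IsHomogeneous 𝒜 := by
  haveI hPprime : P.IsPrime := hP.1.1
  have h1 : ((P.homogeneousCore 𝒜).toIdeal).IsPrime := Ideal.IsPrime.homogeneousCore hPprime
  have h2 : (P.homogeneousCore 𝒜).toIdeal ≤ P := Ideal.toIdeal_homogeneousCore_le 𝒜 P
  have h3 : P ≤ (P.homogeneousCore 𝒜).toIdeal :=
    hP.2 ⟨h1, Gr.le_core_of_isHomogeneous 𝒜 ha hP.1.2⟩ h2
  have h4 : (P.homogeneousCore 𝒜).toIdeal = P := le_antisymm h2 h3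
  rw [← h4]
  exact (P.homogeneousCore 𝒜).isHomogeneous

include hpos h0 hmsp in
/-- the relative height of the irrelevant ideal over a homogeneous ideal `a` is `dim R/a` -/
theorem relHt_irrelevant {a : Ideal R} (ha : a.IsHomogeneous 𝒜) (ham : a ≤ m) (n : ℕ)
    (p : Ideal R) [hp : p.IsPrime] (hap : a ≤ p) (hpn : ringKrullDim (R ⧸ p) = n)
    (hn : ringKrullDim (R ⧸ a) ≤ n) : relHt a m ham = n := by
  apply le_antisymm
  · rw [relHt_eq_height]
    have hne : m.map (Ideal.Quotient.mk a) ≠ ⊤ := by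
      haveI : (m.map (Ideal.Quotient.mk a)).IsPrime :=
        Ideal.map_isPrime_of_surjective Ideal.Quotient.mk_surjective (by rwa [Ideal.mk_ker])
      exact Ideal.IsPrime.ne_top inferInstance
    have h1 := Ideal.height_le_ringKrullDim_of_ne_top hne
    have h2 := h1.trans hn
    exact_mod_cast h2
  · obtain ⟨P, hPmin, hPle⟩ := Ideal.exists_minimalPrimes_le (I := a) (J := p) hap
    haveI hPprime : P.IsPrime := hPmin.1.1
    have hPhom : P.IsHomogeneous 𝒜 := minimalPrimes_isHomogeneous 𝒜 ha hPmin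
    have hPm : P ≤ m := Gr.le_irrelevant 𝒜 hpos h0 m hmsp P hPhom hPprime.ne_top
    have haP : a ≤ P := hPmin.1.2
    have hdimP : (n : WithBot ℕ∞) ≤ ringKrullDim (R ⧸ P) := by
      rw [← hpn]
      exact ringKrullDim_le_of_surjective (Ideal.Quotient.factor hPle)
        (Ideal.Quotient.factor_surjective hPle)
    letI : Field (GrLC.deg0 𝒜) := h0.toField
    haveI : Algebra.FiniteType (GrLC.deg0 𝒜) R := Gr.finiteType_deg0 𝒜 hpos m hmsp
    haveI : Algebra.FiniteType (GrLC.deg0 𝒜) (R ⧸ P) :=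
      Algebra.FiniteType.of_surjective (Ideal.Quotient.mkₐ (GrLC.deg0 𝒜) P)
        (Ideal.Quotient.mkₐ_surjective _ _)
    haveI : IsDomain (R ⧸ P) := Ideal.Quotient.isDomain P
    have hker : RingHom.ker (Ideal.Quotient.mk P) ≤ m := by rw [Ideal.mk_ker]; exact hPm
    haveI hmbar : (m.map (Ideal.Quotient.mk P)).IsMaximal :=
      Ideal.IsMaximal.map_of_surjective_of_ker_le Ideal.Quotient.mk_surjective hker
    have h3 := Groth.Agent.H2.DimFG.height_eq_ringKrullDim_of_isMaximal (GrLC.deg0 𝒜) (R ⧸ P)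
      (m.map (Ideal.Quotient.mk P))
    have h7 : (n : WithBot ℕ∞) ≤ ((m.map (Ideal.Quotient.mk P)).height : WithBot ℕ∞) := by
      rw [h3]; exact hdimP
    have h8 : (n : ℕ∞) ≤ (m.map (Ideal.Quotient.mk P)).height := by exact_mod_cast h7
    have h9 := relHt_add_le a P m haP hPm
    rw [relHt_eq_height P m hPm] at h9
    calc (n : ℕ∞) ≤ (m.map (Ideal.Quotient.mk P)).height := h8
      _ ≤ relHt a P haP + (m.map (Ideal.Quotient.mk P)).height := le_add_self
      _ ≤ relHt a m ham := h9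

variable {M : Type u} [AddCommGroup M] [Module R M] (ℳ : ℤ → AddSubgroup M)
  [DirectSum.Decomposition ℳ] [SetLike.GradedSMul 𝒜 ℳ] [Module.Finite R M]

include ℳ hpos h0 hmsp in
theorem annihilator_le_irrelevant [Nontrivial M] : Module.annihilator R M ≤ m := by
  apply Gr.le_irrelevant 𝒜 hpos h0 m hmsp _ (DimCore.annihilator_isHomogeneous 𝒜 ℳ)
  intro h
  have : (1 : R) ∈ Module.annihilator R M := by rw [h]; trivial
  rw [Module.mem_annihilator] at this
  obtain ⟨x, hx⟩ := exists_ne (0 : M)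
  apply hx
  rw [← one_smul R x]
  exact this x

include ℳ hpos h0 hmsp in
/-- the dimension of a finitely generated graded module is the dimension of its localization at
the irrelevant ideal -/
theorem supportDim_localized_irrelevant (n : ℕ) (hn : Module.supportDim R M = n) :
    Module.supportDim (Localization.AtPrime m) (LocalizedModule m.primeCompl M) = n := by
  haveI : Nontrivial M := by
    rw [← Module.supportDim_ne_bot_iff_nontrivial R, hn]
    exact WithBot.coe_ne_bot
  have ham := annihilator_le_irrelevant 𝒜 hpos h0 m hmsp ℳ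
  rw [supportDim_localized_eq_relHt M m ham]
  obtain ⟨p, hp, hap, hpn⟩ := LC.exists_prime_ringKrullDim_eq M n hn
  haveI := hp
  rw [relHt_irrelevant 𝒜 hpos h0 m hmsp (DimCore.annihilator_isHomogeneous 𝒜 ℳ) ham n p hap hpn]
  · rfl
  · rw [← Module.supportDim_eq_ringKrullDim_quotient_annihilator, hn]

include ℳ hpos h0 hmsp in
/-- **Grothendieck's non-vanishing theorem** for finitely generated graded modules -/
theorem nontrivial_H_top (n : ℕ) (hn : Module.supportDim R M = n) :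
    Nontrivial (LocCoh.H m n M) := by
  by_contra hnt
  rw [not_nontrivial_iff_subsingleton, MaxLoc.subsingleton_iff] at hnt
  have h1 := supportDim_localized_irrelevant 𝒜 hpos h0 m hmsp ℳ n hn
  haveI : Module.Finite (Localization.AtPrime m) (LocalizedModule m.primeCompl M) :=
    Module.Finite.of_isLocalizedModule m.primeCompl (LocalizedModule.mkLinearMap m.primeCompl M)
  have := LC.nontrivial_H_of_supportDim_eq (R := Localization.AtPrime m) n
    (LocalizedModule m.primeCompl M) h1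
  exact not_subsingleton _ hnt

include ℳ hpos h0 hmsp in
/-- a homogeneous parameter of positive degree on a graded module of positive dimension -/
theorem exists_homogeneous_parameter (n : ℕ) (h1 : 1 ≤ n) (hn : Module.supportDim R M = n) :
    ∃ (a : ℤ) (x : R), 0 < a ∧ x ∈ 𝒜 a ∧
      Module.supportDim R (QuotSMulTop x M) < (n : WithBot ℕ∞) := by
  classical
  haveI : Nontrivial M := by
    rw [← Module.supportDim_ne_bot_iff_nontrivial R, hn]
    exact WithBot.coe_ne_bot
  have ham := annihilator_le_irrelevant 𝒜 hpos h0 m hmsp ℳ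
  have hloc := supportDim_localized_irrelevant 𝒜 hpos h0 m hmsp ℳ n hn
  rw [supportDim_localized_eq_relHt M m ham] at hloc
  have hrel : relHt (Module.annihilator R M) m ham = n := by exact_mod_cast hloc
  have hfin : (Module.annihilator R M).minimalPrimes.Finite :=
    Ideal.finite_minimalPrimes_of_isNoetherianRing R _
  have hnot : ∀ p ∈ hfin.toFinset, p.IsPrime ∧
      ¬ Ideal.span (⋃ n ∈ Set.Ioi (0 : ℤ), (𝒜 n : Set R)) ≤ p := by
    intro p hp
    rw [Set.Finite.mem_toFinset] at hp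
    refine ⟨hp.1.1, fun hle => ?_⟩
    rw [← hmsp] at hle
    have h0' : relHt (Module.annihilator R M) m ham ≤ (0 : ℕ) := by
      rw [relHt_le_iff]
      intro Q hQ haQ hQm
      exfalso
      have h2 : p ≤ Q := hp.2 ⟨hQ, haQ⟩ (hQm.le.trans hle)
      exact absurd (hle.trans h2) (not_le_of_gt hQm)
    rw [hrel] at h0'
    have : n ≤ 0 := by exact_mod_cast h0'
    omega
  obtain ⟨a, x, ha, hxa, -, hx⟩ := Gr.exists_homogeneous_avoid 𝒜
    (⋃ n ∈ Set.Ioi (0 : ℤ), (𝒜 n : Set R)) (by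
      intro x hx
      simp only [Set.mem_iUnion, Set.mem_Ioi, SetLike.mem_coe] at hx
      obtain ⟨i, hi, hxi⟩ := hx
      exact ⟨i, hi, hxi⟩) hfin.toFinset hnot
  refine ⟨a, x, ha, hxa, ?_⟩
  have h2 := Module.supportDim_quotSMulTop_succ_le_of_notMem_minimalPrimes (R := R) (M := M)
    (x := x) (fun p hp => hx p (hfin.mem_toFinset.mpr hp))
  rw [hn] at h2
  exact LC.withBot_lt_of_add_one_le _ n h2

end Ungraded

section Graded

variable {R : Type u} [CommRing R] (𝒜 : ℤ → AddSubgroup R) [GradedRing 𝒜] [IsNoetherianRing R]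
  (hpos : ∀ n : ℤ, n < 0 → 𝒜 n = ⊥) (h0 : IsField (GrLC.deg0 𝒜)) (m : HomogeneousIdeal 𝒜)
  (hmsp : m.toIdeal = Ideal.span (⋃ n ∈ Set.Ioi (0 : ℤ), (𝒜 n : Set R)))
  [hmax : m.toIdeal.IsMaximal]
variable {M : Type u} [AddCommGroup M] [Module R M] (ℳ : ℤ → AddSubgroup M)
  [DirectSum.Decomposition ℳ] [SetLike.GradedSMul 𝒜 ℳ] [Module.Finite R M]

include hpos h0 hmsp in
/-- non-vanishing of the top graded local cohomology of a finitely generated graded module -/
theorem exists_Hcomp_top_ne_bot (E : GrLC.StarInjRes 𝒜 ℳ) (n : ℕ)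
    (hn : Module.supportDim R M = n) : ∃ d : ℤ, E.Hcomp m n d ≠ ⊥ := by
  haveI := nontrivial_H_top 𝒜 hpos h0 m.toIdeal hmsp ℳ n hn
  obtain ⟨e⟩ := Gr.nonempty_H_equiv 𝒜 ℳ E m n
  haveI : Nontrivial (E.H m n) := e.toEquiv.nontrivial
  exact (GrCM.nontrivial_H_iff 𝒜 ℳ E m n).mp this

include hpos h0 hmsp in
/-- the top graded local cohomology of a graded module of positive dimension is not bounded
below: its support is stable under subtracting the degree of a homogeneous parameter -/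
theorem exists_Hcomp_top_sub (E : GrLC.StarInjRes 𝒜 ℳ) (n : ℕ) (h1 : 1 ≤ n)
    (hn : Module.supportDim R M = n) :
    ∃ a : ℤ, 0 < a ∧ ∀ d : ℤ, E.Hcomp m n d ≠ ⊥ → E.Hcomp m n (d - a) ≠ ⊥ := by
  obtain ⟨a, x, ha, hxa, hx⟩ := exists_homogeneous_parameter 𝒜 hpos h0 m.toIdeal hmsp ℳ n h1 hn
  refine ⟨a, ha, fun d hd hcon => hd ?_⟩
  have hdiv := LC.smul_surjective_of_supportDim_lt m.toIdeal M n hn.le x hx
  obtain ⟨e⟩ := Gr.nonempty_H_equiv 𝒜 ℳ E m n
  letI : DirectSum.Decomposition (E.Hgr m n) :=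
    (Gr.isInternal_Hgr 𝒜 ℳ E m n).chooseDecomposition
  haveI : SetLike.GradedSMul 𝒜 (E.Hgr m n) := Gr.Hgr_gradedSMul E m n
  rw [eq_bot_iff]
  intro y hy
  rw [Submodule.mem_bot]
  obtain ⟨y', hy'⟩ := hdiv (e y)
  have h2 : x • e.symm y' = y := by
    rw [← map_smul, hy', e.symm_apply_apply]
  have h3 : Gr.proj (E.Hgr m n) d (x • e.symm y') = x • Gr.proj (E.Hgr m n) (d - a) (e.symm y') :=
    Gr.proj_smul_of_mem' 𝒜 (E.Hgr m n) hxa d (e.symm y')
  have h4 : Gr.proj (E.Hgr m n) (d - a) (e.symm y') ∈ E.Hcomp m n (d - a) :=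
    Gr.proj_mem (E.Hgr m n) (d - a) _
  rw [hcon, Submodule.mem_bot] at h4
  rw [h4, smul_zero, h2, Gr.proj_of_mem (E.Hgr m n) (show y ∈ E.Hgr m n d from hy)] at h3
  exact h3

include hpos h0 hmsp in
theorem exists_Hcomp_top_lt (E : GrLC.StarInjRes 𝒜 ℳ) (n : ℕ) (h1 : 1 ≤ n)
    (hn : Module.supportDim R M = n) (e0 : ℤ) : ∃ d : ℤ, d < e0 ∧ E.Hcomp m n d ≠ ⊥ := by
  obtain ⟨a, ha, hstep⟩ := exists_Hcomp_top_sub 𝒜 hpos h0 m hmsp ℳ E n h1 hn
  obtain ⟨d, hd⟩ := exists_Hcomp_top_ne_bot 𝒜 hpos h0 m hmsp ℳ E n hn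
  have key : ∀ t : ℕ, E.Hcomp m n (d - t * a) ≠ ⊥ := by
    intro t
    induction t with
    | zero => simpa using hd
    | succ t ih =>
      have := hstep _ ih
      have e1 : d - (t : ℤ) * a - a = d - ((t + 1 : ℕ) : ℤ) * a := by push_cast; ring
      rwa [e1] at this
  refine ⟨d - ((d - e0).toNat + 1 : ℕ) * a, ?_, key _⟩
  have h2 : d - e0 ≤ ((d - e0).toNat : ℤ) := Int.self_le_toNat _
  have h3 : (((d - e0).toNat + 1 : ℕ) : ℤ) ≤ (((d - e0).toNat + 1 : ℕ) : ℤ) * a :=
    le_mul_of_one_le_right (by positivity) ha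
  push_cast at h3 ⊢
  linarith

end Graded

end GrMD

end Groth.Agent.H6
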