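import Mathlib
import Groth.Prelude

universe u
open CategoryTheory CategoryTheory.Limits AlgebraicGeometry TopologicalSpace Opposite

set_option linter.unusedSectionVars false
set_option linter.unusedSimpArgs false
set_option linter.style.haveILetI false
namespace Groth.Agent.H6.FEtFF

/-- pulling back clopen subsets along `g` is injective. -/
def ClopenInj {A B : Scheme.{u}} (g : A ⟶ B) : Prop :=
  ∀ Z : Set B, IsClopen Z → Set.range g.base ⊆ Z → Z = Set.univ

/-- pulling back clopen subsets along `g` is surjective. -/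
def ClopenSurj {A B : Scheme.{u}} (g : A ⟶ B) : Prop :=
  ∀ Z' : Set A, IsClopen Z' → ∃ Z : Set B, IsClopen Z ∧ g.base ⁻¹' Z = Z'

theorem ClopenInj.eq {A B : Scheme.{u}} {g : A ⟶ B} (hg : ClopenInj g) {Z₁ Z₂ : Set B}
    (h₁ : IsClopen Z₁) (h₂ : IsClopen Z₂) (h : g.base ⁻¹' Z₁ = g.base ⁻¹' Z₂) : Z₁ = Z₂ := by
  have key : ∀ Z₁ Z₂ : Set B, IsClopen Z₁ → IsClopen Z₂ → g.base ⁻¹' Z₁ = g.base ⁻¹' Z₂ →
      Z₁ ⊆ Z₂ := by
    intro Z₁ Z₂ h₁ h₂ h
    have h3 := hg (Z₁ᶜ ∪ Z₂) (h₁.compl.union h₂) (by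
      rintro _ ⟨a, rfl⟩
      by_cases ha : g.base a ∈ Z₁
      · right
        have : a ∈ g.base ⁻¹' Z₁ := ha
        rw [h] at this
        exact this
      · left; exact ha)
    intro z hz
    have : z ∈ Z₁ᶜ ∪ Z₂ := by rw [h3]; trivial
    rcases this with h4 | h4
    · exact absurd hz h4
    · exact h4
  exact Set.Subset.antisymm (key _ _ h₁ h₂ h) (key _ _ h₂ h₁ h.symm)

/-- two morphisms into a separated unramified scheme which agree after composing with a morphism
`g` along which pulling back clopen subsets is injective are equal. -/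
theorem eq_of_comp_eq {V' V W T : Scheme.{u}} (p : W ⟶ T) [IsSeparated p]
    [LocallyOfFiniteType p] [FormallyUnramified p] (a b : V ⟶ W) (h : a ≫ p = b ≫ p)
    (g : V' ⟶ V) (hg : ClopenInj g) (h' : g ≫ a = g ≫ b) : a = b := by
  let d : V ⟶ pullback p p := pullback.lift a b h
  let ι : pullback (pullback.diagonal p) d ⟶ V := pullback.snd _ _
  haveI : IsOpenImmersion ι := MorphismProperty.pullback_snd _ _ inferInstance
  haveI : IsClosedImmersion ι := MorphismProperty.pullback_snd _ _ inferInstance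
  have hcond : (g ≫ a) ≫ pullback.diagonal p = g ≫ d := by
    apply pullback.hom_ext
    · rw [Category.assoc, pullback.diagonal_fst, Category.comp_id, Category.assoc,
        pullback.lift_fst]
    · rw [Category.assoc, pullback.diagonal_snd, Category.comp_id, Category.assoc,
        pullback.lift_snd, h']
  let l : V' ⟶ pullback (pullback.diagonal p) d := pullback.lift (g ≫ a) g hcond
  have hl : l ≫ ι = g := pullback.lift_snd _ _ _
  have hclopen : IsClopen (Set.range ι.base) :=
    ⟨ι.isClosedEmbedding.isClosed_range, ι.isOpenEmbedding.isOpen_range⟩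
  have hrange : Set.range ι.base = Set.univ := by
    refine hg _ hclopen ?_
    rintro _ ⟨x, rfl⟩
    refine ⟨l.base x, ?_⟩
    rw [← hl]
    rfl
  haveI : IsIso ι := by
    have hepi : Epi ι.base := (TopCat.epi_iff_surjective _).mpr (Set.range_eq_univ.mp hrange)
    exact (isIso_iff_isOpenImmersion_and_epi_base ι).mpr ⟨inferInstance, hepi⟩
  have h1 : ι ≫ a = pullback.fst (pullback.diagonal p) d := by
    have := congrArg (fun q => q ≫ pullback.fst p p)
      (pullback.condition (f := pullback.diagonal p) (g := d))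
    simp only [Category.assoc, pullback.diagonal_fst, Category.comp_id, d,
      pullback.lift_fst] at this
    exact this.symm
  have h2 : ι ≫ b = pullback.fst (pullback.diagonal p) d := by
    have := congrArg (fun q => q ≫ pullback.snd p p)
      (pullback.condition (f := pullback.diagonal p) (g := d))
    simp only [Category.assoc, pullback.diagonal_snd, Category.comp_id, d,
      pullback.lift_snd] at this
    exact this.symm
  rw [← cancel_epi ι, h1, h2]


/-- a section of a separated étale morphism is an open and closed immersion. -/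
theorem isClopenImmersion_of_section {A B : Scheme.{u}} (p : B ⟶ A) [IsSeparated p] [Etale p]
    (σ : A ⟶ B) (hσ : σ ≫ p = 𝟙 A) : IsOpenImmersion σ ∧ IsClosedImmersion σ := by
  haveI : IsClosedImmersion (σ ≫ p) := hσ ▸ inferInstance
  haveI : Etale (σ ≫ p) := hσ ▸ inferInstance
  haveI hc : IsClosedImmersion σ := IsClosedImmersion.of_comp σ p
  haveI he : Etale σ := Etale.of_comp σ p
  exact ⟨IsOpenImmersion.of_flat_of_mono σ, hc⟩

/-- the inclusion of a clopen subset is a closed immersion. -/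
theorem isClosedImmersion_ι_of_isClosed {W : Scheme.{u}} (Z : W.Opens)
    (hZ : IsClosed (Z : Set W)) : IsClosedImmersion Z.ι :=
  IsClosedImmersion.of_isPreimmersion _ (by rw [Scheme.Opens.range_ι]; exact hZ)

theorem exists_section {X' T W : Scheme.{u}} (p : W ⟶ T) [IsFinite p] [Etale p] (g : X' ⟶ T)
    (hg : ClopenInj g) (hq : ClopenSurj (pullback.fst p g))
    (σ : X' ⟶ pullback p g) (hσ : σ ≫ pullback.snd p g = 𝟙 X') :
    ∃ s : T ⟶ W, s ≫ p = 𝟙 T ∧ g ≫ s = σ ≫ pullback.fst p g := by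
  set q := pullback.fst p g with hq_def
  set p' := pullback.snd p g with hp'_def
  obtain ⟨hσo, hσc⟩ := isClopenImmersion_of_section p' σ hσ
  have hclopen : IsClopen (Set.range σ.base) :=
    ⟨σ.isClosedEmbedding.isClosed_range, σ.isOpenEmbedding.isOpen_range⟩
  obtain ⟨Z, hZ, hZ'⟩ := hq _ hclopen
  let Zo : W.Opens := ⟨Z, hZ.isOpen⟩
  haveI : IsClosedImmersion Zo.ι := isClosedImmersion_ι_of_isClosed Zo hZ.isClosed
  let ρ : (Zo : Scheme.{u}) ⟶ T := Zo.ι ≫ p
  -- the pullback square
  have hsq1 : IsPullback (q ∣_ Zo) (q ⁻¹ᵁ Zo).ι Zo.ι q := isPullback_morphismRestrict q Zo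
  have hsq2 : IsPullback q p' p g := IsPullback.of_hasPullback p g
  have hsq : IsPullback (q ∣_ Zo) ((q ⁻¹ᵁ Zo).ι ≫ p') ρ g := hsq1.paste_vert hsq2
  -- `σ` identifies `X'` with `q ⁻¹ᵁ Zo`
  have hrange : Set.range σ.base = Set.range (q ⁻¹ᵁ Zo).ι.base := by
    rw [Scheme.Opens.range_ι]
    exact hZ'.symm
  let e : X' ≅ (q ⁻¹ᵁ Zo : Scheme.{u}) := IsOpenImmersion.isoOfRangeEq σ (q ⁻¹ᵁ Zo).ι hrange
  have he : e.hom ≫ (q ⁻¹ᵁ Zo).ι = σ := IsOpenImmersion.isoOfRangeEq_hom_fac _ _ _
  have hiso : IsIso ((q ⁻¹ᵁ Zo).ι ≫ p') := by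
    have h1 : e.hom ≫ ((q ⁻¹ᵁ Zo).ι ≫ p') = 𝟙 X' := by
      rw [← Category.assoc, he, hσ]
    have h2 : (q ⁻¹ᵁ Zo).ι ≫ p' = e.inv := by
      rw [← cancel_epi e.hom, h1, Iso.hom_inv_id]
    rw [h2]
    infer_instance
  -- the rank of `ρ` is one on the range of `g`
  have hrank : ∀ x' : X', ρ.finrank (g.base x') = 1 := by
    intro x'
    rw [← Scheme.Hom.finrank_of_isPullback _ _ _ _ hsq x',
      Scheme.Hom.finrank_eq_one_of_isIso]
    rfl
  have hlc : IsLocallyConstant ρ.finrank := Scheme.Hom.isLocallyConstant_finrank ρ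
  have hT1 : ρ.finrank ⁻¹' {1} = Set.univ := by
    refine hg _ (hlc.isClopen_fiber 1) ?_
    rintro _ ⟨x', rfl⟩
    exact hrank x'
  have hρ1 : ρ.finrank = 1 := by
    funext t
    have : t ∈ ρ.finrank ⁻¹' {1} := by rw [hT1]; trivial
    exact this
  haveI hρiso : IsIso ρ := (Scheme.Hom.isIso_iff_finrank_eq ρ).mpr hρ1
  refine ⟨inv ρ ≫ Zo.ι, ?_, ?_⟩
  · rw [Category.assoc]
    exact IsIso.inv_hom_id ρ
  · have h3 : g = (e.hom ≫ (q ∣_ Zo)) ≫ ρ := by
      have := hsq.w
      rw [Category.assoc, this, Category.assoc, ← Category.assoc, he, ← Category.assoc, hσ,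
        Category.id_comp]
    have h4 : g ≫ inv ρ = e.hom ≫ (q ∣_ Zo) := by
      rw [IsIso.comp_inv_eq]
      exact h3
    rw [← Category.assoc, h4, Category.assoc, hsq1.w, ← Category.assoc, he]

end Groth.Agent.H6.FEtFF
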