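import Mathlib
import Groth.Prelude
import Groth.Agent.Lib.Helper6.FEtFF1

universe u
open CategoryTheory CategoryTheory.Limits AlgebraicGeometry TopologicalSpace Opposite

set_option linter.unusedSectionVars false
set_option linter.unusedSimpArgs false
set_option linter.style.haveILetI false
namespace Groth.Agent.H6.FEtFF

variable {X S : Scheme.{u}} (f : X ⟶ S)

theorem restrict_map_left_fst {Y₁ Y₂ : FEt.Cat S} (a : Y₁ ⟶ Y₂) :
    ((FEt.restrict f).map a).left ≫ pullback.fst Y₂.hom f =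
      pullback.fst Y₁.hom f ≫ a.left :=
  pullback.lift_fst _ _ _

theorem restrict_map_left_snd {Y₁ Y₂ : FEt.Cat S} (a : Y₁ ⟶ Y₂) :
    ((FEt.restrict f).map a).left ≫ pullback.snd Y₂.hom f = pullback.snd Y₁.hom f :=
  pullback.lift_snd _ _ _

theorem faithful_of_clopenInj (h : ∀ Y : FEt.Cat S, ClopenInj (pullback.fst Y.hom f)) :
    (FEt.restrict f).Faithful := by
  constructor
  intro Y₁ Y₂ a b hab
  haveI : IsFinite Y₂.hom := Y₂.prop.1
  haveI : Etale Y₂.hom := Y₂.prop.2
  have h1 : pullback.fst Y₁.hom f ≫ a.left = pullback.fst Y₁.hom f ≫ b.left := by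
    rw [← restrict_map_left_fst, ← restrict_map_left_fst, hab]
  have h2 : a.left = b.left :=
    eq_of_comp_eq Y₂.hom a.left b.left (by rw [Over.w a.hom, Over.w b.hom]) _ (h Y₁) h1
  exact MorphismProperty.Over.Hom.ext h2


/-- transport of clopen-surjectivity along an isomorphism of sources. -/
theorem ClopenSurj.of_iso {A A' B : Scheme.{u}} {g : A ⟶ B} (hg : ClopenSurj g) (e : A' ≅ A)
    (g' : A' ⟶ B) (h : e.hom ≫ g = g') : ClopenSurj g' := by
  intro Z' hZ'
  have hhomeo : IsHomeomorph e.inv.base := (TopCat.homeoOfIso (Scheme.forgetToTop.mapIso e.symm)).isHomeomorph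
  obtain ⟨Z, hZ, hZe⟩ := hg (e.inv.base ⁻¹' Z') (hZ'.preimage e.inv.continuous)
  refine ⟨Z, hZ, ?_⟩
  subst h
  change e.hom.base ⁻¹' (g.base ⁻¹' Z) = Z'
  rw [hZe]
  ext x
  simp only [Set.mem_preimage]
  have : e.inv.base (e.hom.base x) = x := by
    have := congr($(e.hom_inv_id).base x)
    exact this
  rw [this]

theorem full_of_clopen (h : ∀ Y : FEt.Cat S, ClopenInj (pullback.fst Y.hom f))
    (h' : ∀ Y : FEt.Cat S, ClopenSurj (pullback.fst Y.hom f)) :
    (FEt.restrict f).Full := by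
  constructor
  intro Y₁ Y₂ c
  haveI : IsFinite Y₁.hom := Y₁.prop.1
  haveI : Etale Y₁.hom := Y₁.prop.2
  haveI : IsFinite Y₂.hom := Y₂.prop.1
  haveI : Etale Y₂.hom := Y₂.prop.2
  let g : pullback Y₁.hom f ⟶ Y₁.left := pullback.fst Y₁.hom f
  let p : pullback Y₁.hom Y₂.hom ⟶ Y₁.left := pullback.fst Y₁.hom Y₂.hom
  haveI : IsFinite p := MorphismProperty.pullback_fst _ _ inferInstance
  haveI : Etale p := MorphismProperty.pullback_fst _ _ inferInstance
  -- the object `Y₁ ×_S Y₂` of `FEt.Cat S`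
  let Wobj : FEt.Cat S := MorphismProperty.Over.mk ⊤ (p ≫ Y₁.hom) ⟨inferInstance, inferInstance⟩
  have hq : ClopenSurj (pullback.fst p g) :=
    (h' Wobj).of_iso (pullbackRightPullbackFstIso Y₁.hom f p) _
      (pullbackRightPullbackFstIso_hom_fst _ _ _)
  let cl : pullback Y₁.hom f ⟶ pullback Y₂.hom f := c.left
  have hcw : cl ≫ pullback.snd Y₂.hom f = pullback.snd Y₁.hom f := Over.w c.hom
  have hc1 : g ≫ Y₁.hom = (cl ≫ pullback.fst Y₂.hom f) ≫ Y₂.hom := by
    calc g ≫ Y₁.hom = pullback.snd Y₁.hom f ≫ f := pullback.condition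
      _ = (cl ≫ pullback.snd Y₂.hom f) ≫ f := by rw [hcw]
      _ = cl ≫ (pullback.fst Y₂.hom f ≫ Y₂.hom) := by rw [Category.assoc, pullback.condition]
      _ = _ := (Category.assoc _ _ _).symm
  let σ : pullback Y₁.hom f ⟶ pullback p g :=
    pullback.lift (pullback.lift g (cl ≫ pullback.fst Y₂.hom f) hc1) (𝟙 _)
      (by rw [pullback.lift_fst, Category.id_comp])
  have hσ : σ ≫ pullback.snd p g = 𝟙 _ := pullback.lift_snd _ _ _
  obtain ⟨s, hs1, hs2⟩ := exists_section p g (h Y₁) hq σ hσ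
  let a : Y₁.left ⟶ Y₂.left := s ≫ pullback.snd Y₁.hom Y₂.hom
  have ha : a ≫ Y₂.hom = Y₁.hom := by
    rw [Category.assoc, ← pullback.condition, ← Category.assoc]
    change (s ≫ p) ≫ _ = _
    rw [hs1, Category.id_comp]
  refine ⟨MorphismProperty.Over.homMk a ha, ?_⟩
  apply MorphismProperty.Over.Hom.ext
  change (pullback.lift (pullback.fst Y₁.hom f ≫ a) (pullback.snd Y₁.hom f)
    (by rw [Category.assoc, ha]; exact pullback.condition) :
      pullback Y₁.hom f ⟶ pullback Y₂.hom f) = cl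
  apply pullback.hom_ext
  · rw [pullback.lift_fst]
    change g ≫ s ≫ pullback.snd Y₁.hom Y₂.hom = _
    rw [← Category.assoc, hs2, Category.assoc]
    rw [← Category.assoc, pullback.lift_fst, pullback.lift_snd]
  · rw [pullback.lift_snd, hcw]

theorem full_faithful_of_clopen (h : ∀ Y : FEt.Cat S, ClopenInj (pullback.fst Y.hom f))
    (h' : ∀ Y : FEt.Cat S, ClopenSurj (pullback.fst Y.hom f)) :
    (FEt.restrict f).Full ∧ (FEt.restrict f).Faithful :=
  ⟨full_of_clopen f h h', faithful_of_clopenInj f h⟩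

end Groth.Agent.H6.FEtFF
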