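import Mathlib
import Groth.Prelude
import Groth.Agent.Lib.Helper6.FEtFF2

universe u
open CategoryTheory CategoryTheory.Limits AlgebraicGeometry TopologicalSpace Opposite

set_option linter.unusedSectionVars false
set_option linter.unusedSimpArgs false
set_option linter.style.haveILetI false
namespace Groth.Agent.H6.FEtThick

open Groth.Agent.H6.FEtFF

theorem clopenInj_of_surjective {A B : Scheme.{u}} (g : A ⟶ B) [Surjective g] : ClopenInj g := by
  intro Z _ hZ
  rw [Set.eq_univ_iff_forall]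
  intro b
  obtain ⟨a, rfl⟩ := g.surjective b
  exact hZ ⟨a, rfl⟩

theorem clopenSurj_of_thickening {A B : Scheme.{u}} (g : A ⟶ B) [IsClosedImmersion g]
    [Surjective g] : ClopenSurj g := by
  intro Z' hZ'
  have hce : Topology.IsClosedEmbedding g.base := g.isClosedEmbedding
  have hinj : Function.Injective g.base := hce.injective
  have hsurj : Function.Surjective g.base := g.surjective
  refine ⟨g.base '' Z', ⟨hce.isClosedMap _ hZ'.isClosed, ?_⟩, Set.preimage_image_eq _ hinj⟩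
  have : g.base '' Z' = (g.base '' Z'ᶜ)ᶜ := by
    rw [Set.image_compl_eq ⟨hinj, hsurj⟩, compl_compl]
  rw [this]
  exact (hce.isClosedMap _ hZ'.compl.isClosed).isOpen_compl

instance surjective_fst {A B C : Scheme.{u}} (f : A ⟶ C) (g : B ⟶ C) [Surjective g] :
    Surjective (pullback.fst f g) :=
  MorphismProperty.pullback_fst f g inferInstance

theorem full_faithful {X X' : Scheme.{u}} (i : X ⟶ X') [IsClosedImmersion i] [Surjective i] :
    (FEt.restrict i).Full ∧ (FEt.restrict i).Faithful :=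
  full_faithful_of_clopen i (fun _ => clopenInj_of_surjective _)
    (fun _ => clopenSurj_of_thickening _)

/-- unique lifting along thickenings against finite étale morphisms: existence. -/
theorem exists_lift {Z T A₀ A : Scheme.{u}} (p : Z ⟶ T) [IsFinite p] [Etale p] (j : A₀ ⟶ A)
    [IsClosedImmersion j] [Surjective j] (a₀ : A₀ ⟶ Z) (b : A ⟶ T) (h : a₀ ≫ p = j ≫ b) :
    ∃ a : A ⟶ Z, j ≫ a = a₀ ∧ a ≫ p = b := by
  let p' : pullback p b ⟶ A := pullback.snd p b
  let l : A₀ ⟶ pullback p b := pullback.lift a₀ j h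
  have hl : l ≫ p' = 𝟙 A₀ ≫ j := by rw [Category.id_comp]; exact pullback.lift_snd _ _ _
  let σ : A₀ ⟶ pullback p' j := pullback.lift l (𝟙 A₀) hl
  have hσ : σ ≫ pullback.snd p' j = 𝟙 A₀ := pullback.lift_snd _ _ _
  obtain ⟨s, hs1, hs2⟩ := exists_section p' j (clopenInj_of_surjective j)
    (clopenSurj_of_thickening _) σ hσ
  refine ⟨s ≫ pullback.fst p b, ?_, ?_⟩
  · rw [← Category.assoc, hs2, Category.assoc]
    have : σ ≫ pullback.fst p' j = l := pullback.lift_fst _ _ _
    rw [← Category.assoc, this]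
    exact pullback.lift_fst _ _ _
  · rw [Category.assoc, pullback.condition, ← Category.assoc]
    change (s ≫ p') ≫ b = b
    rw [hs1, Category.id_comp]

/-- unique lifting along thickenings against finite étale morphisms: uniqueness. -/
theorem lift_unique {Z T A₀ A : Scheme.{u}} (p : Z ⟶ T) [IsFinite p] [Etale p] (j : A₀ ⟶ A)
    [Surjective j] (a a' : A ⟶ Z) (h1 : j ≫ a = j ≫ a') (h2 : a ≫ p = a' ≫ p) : a = a' :=
  eq_of_comp_eq p a a' h2 j (clopenInj_of_surjective j) h1

/-- a finite flat finitely presented morphism which becomes an isomorphism after a surjective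
base change is an isomorphism. -/
theorem isIso_of_isPullback {A B A₀ B₀ : Scheme.{u}} (c : A ⟶ B) [IsFinite c] [Flat c]
    [LocallyOfFinitePresentation c] (g : B₀ ⟶ B) [Surjective g] (c₀ : A₀ ⟶ B₀) (g₀ : A₀ ⟶ A)
    (h : IsPullback g₀ c₀ c g) [IsIso c₀] : IsIso c := by
  rw [Scheme.Hom.isIso_iff_finrank_eq]
  funext b
  obtain ⟨b₀, rfl⟩ := g.surjective b
  rw [← Scheme.Hom.finrank_of_isPullback g₀ c₀ c g h b₀, Scheme.Hom.finrank_eq_one_of_isIso]
  rfl

/-- finite étale covers lift along `f` (pullback-square formulation of essential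
surjectivity of `FEt.restrict f`). -/
def Lifts {X S : Scheme.{u}} (f : X ⟶ S) : Prop :=
  ∀ (W : Scheme.{u}) (π : W ⟶ X), IsFinite π → Etale π →
    ∃ (Z : Scheme.{u}) (p : Z ⟶ S) (q : W ⟶ Z), IsFinite p ∧ Etale p ∧ IsPullback q π p f

theorem lifts_of_essSurj {X S : Scheme.{u}} (f : X ⟶ S) [(FEt.restrict f).EssSurj] :
    Lifts f := by
  intro W π hfin het
  let Y₀ : FEt.Cat X := MorphismProperty.Over.mk ⊤ π ⟨hfin, het⟩
  let Y' : FEt.Cat S := (FEt.restrict f).objPreimage Y₀
  let e : (FEt.restrict f).obj Y' ≅ Y₀ := (FEt.restrict f).objObjPreimageIso Y₀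
  let eL : pullback Y'.hom f ≅ W := (MorphismProperty.Over.forget _ _ _ ⋙ Over.forget _).mapIso e
  have heL : eL.hom ≫ π = pullback.snd Y'.hom f := Over.w e.hom.hom
  refine ⟨Y'.left, Y'.hom, eL.inv ≫ pullback.fst Y'.hom f, Y'.prop.1, Y'.prop.2, ?_⟩
  refine IsPullback.of_iso_pullback ⟨?_⟩ eL.symm ?_ ?_
  · rw [Category.assoc, pullback.condition, ← Category.assoc, ← heL, Iso.inv_hom_id_assoc]
  · rfl
  · change eL.inv ≫ pullback.snd Y'.hom f = π
    rw [← heL, Iso.inv_hom_id_assoc]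

theorem essSurj_of_lifts {X S : Scheme.{u}} (f : X ⟶ S) (h : Lifts f) :
    (FEt.restrict f).EssSurj := by
  refine ⟨fun Y₀ => ?_⟩
  obtain ⟨Z, p, q, hfin, het, hpb⟩ := h Y₀.left Y₀.hom Y₀.prop.1 Y₀.prop.2
  let Y' : FEt.Cat S := MorphismProperty.Over.mk ⊤ p ⟨hfin, het⟩
  refine ⟨Y', ⟨MorphismProperty.Over.isoMk hpb.isoPullback.symm ?_⟩⟩
  change hpb.isoPullback.inv ≫ Y₀.hom = pullback.snd p f
  exact hpb.isoPullback_inv_snd

/-- transport of the lifting property along an isomorphism of arrows. -/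
theorem lifts_of_arrow_iso {X S X₁ S₁ : Scheme.{u}} (f : X ⟶ S) (f₁ : X₁ ⟶ S₁)
    (e₀ : X ≅ X₁) (e : S ≅ S₁) (hc : f ≫ e.hom = e₀.hom ≫ f₁) (h : Lifts f₁) : Lifts f := by
  intro W π hfin het
  obtain ⟨Z, p₁, q, hfin₁, het₁, hpb⟩ := h W (π ≫ e₀.hom) inferInstance inferInstance
  refine ⟨Z, p₁ ≫ e.inv, q, inferInstance, inferInstance, ?_⟩
  have hsq : IsPullback f₁ e₀.inv e.inv f := IsPullback.of_vert_isIso ⟨by
    rw [← cancel_mono e.hom, Category.assoc, Category.assoc, e.inv_hom_id, Category.comp_id, hc,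
      Iso.inv_hom_id_assoc]⟩
  have := hpb.paste_vert hsq
  simpa using this

end Groth.Agent.H6.FEtThick
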