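import Mathlib
import Groth.Prelude
import Groth.Agent.Lib.Helper6.FEtFF2

universe u
open CategoryTheory CategoryTheory.Limits AlgebraicGeometry TopologicalSpace Opposite TensorProduct

set_option linter.unusedSectionVars false
set_option linter.unusedSimpArgs false
set_option linter.style.haveILetI false
namespace Groth.Agent.H6.FEtAff

/-- an affine model of a finite étale cover of an affine scheme. -/
theorem exists_affine_model (R : Type u) [CommRing R] (Y₀ : FEt.Cat (Spec (CommRingCat.of R))) :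
    ∃ (C : Type u) (_ : CommRing C) (_ : Algebra R C), Module.Finite R C ∧ Algebra.Etale R C ∧
      ∃ e₀ : Y₀.left ≅ Spec (CommRingCat.of C),
        e₀.hom ≫ Spec.map (CommRingCat.ofHom (algebraMap R C)) = Y₀.hom := by
  let π : Y₀.left ⟶ Spec (CommRingCat.of R) := Y₀.hom
  have hfin : IsFinite π := Y₀.prop.1
  have het : Etale π := Y₀.prop.2
  haveI : IsAffine Y₀.left := isAffine_of_isAffineHom π
  let φ : CommRingCat.of R ⟶ Γ(Y₀.left, ⊤) :=
    (Scheme.ΓSpecIso (CommRingCat.of R)).inv ≫ π.appTop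
  have hfac : π = Y₀.left.isoSpec.hom ≫ Spec.map φ := by
    rw [Spec.map_comp, ← Category.assoc, Scheme.isoSpec_hom_naturality, Category.assoc]
    have : (Spec (CommRingCat.of R)).isoSpec.hom ≫
        Spec.map (Scheme.ΓSpecIso (CommRingCat.of R)).inv = 𝟙 _ := by
      rw [Scheme.isoSpec_Spec_hom, ← Spec.map_comp, Iso.inv_hom_id, Spec.map_id]
    rw [this, Category.comp_id]
  have hfin' : IsFinite (Spec.map φ) := by
    have : Spec.map φ = Y₀.left.isoSpec.inv ≫ π := by rw [hfac, Iso.inv_hom_id_assoc]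
    rw [this]; infer_instance
  have het' : Etale (Spec.map φ) := by
    have : Spec.map φ = Y₀.left.isoSpec.inv ≫ π := by rw [hfac, Iso.inv_hom_id_assoc]
    rw [this]; infer_instance
  have h1 : φ.hom.Finite := (IsFinite.SpecMap_iff φ).mp hfin'
  have h2 : φ.hom.Etale := (HasRingHomProperty.Spec_iff (P := @Etale)).mp het'
  letI : Algebra R Γ(Y₀.left, ⊤) := φ.hom.toAlgebra
  refine ⟨Γ(Y₀.left, ⊤), inferInstance, inferInstance, h1, h2, Y₀.left.isoSpec, ?_⟩
  exact hfac.symm

/-- essential surjectivity of base change of finite étale covers along `Spec (R') ⟶ Spec R`,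
from an algebra-level lifting statement. -/
theorem essSurj_of_algebra_lift (R R' : Type u) [CommRing R] [CommRing R'] [Algebra R R']
    (hlift : ∀ (C : Type u) [CommRing C] [Algebra R' C] [Module.Finite R' C] [Algebra.Etale R' C],
      ∃ (B : Type u) (_ : CommRing B) (_ : Algebra R B), Module.Finite R B ∧ Algebra.Etale R B ∧
        Nonempty (R' ⊗[R] B ≃ₐ[R'] C)) :
    (FEt.restrict (Spec.map (CommRingCat.ofHom (algebraMap R R')))).EssSurj := by
  refine ⟨fun Y₀ => ?_⟩
  obtain ⟨C, _, _, hCf, hCe, e₀, he₀⟩ := exists_affine_model R' Y₀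
  obtain ⟨B, _, _, hBf, hBe, ⟨e⟩⟩ := hlift C
  have hfin : IsFinite (Spec.map (CommRingCat.ofHom (algebraMap R B))) :=
    (IsFinite.SpecMap_iff _).mpr (RingHom.finite_algebraMap.mpr hBf)
  have het : Etale (Spec.map (CommRingCat.ofHom (algebraMap R B))) :=
    (HasRingHomProperty.Spec_iff (P := @Etale)).mpr (RingHom.etale_algebraMap.mpr hBe)
  let Y' : FEt.Cat (Spec (CommRingCat.of R)) :=
    MorphismProperty.Over.mk ⊤ (Spec.map (CommRingCat.ofHom (algebraMap R B))) ⟨hfin, het⟩
  let σ : Spec (CommRingCat.of (R' ⊗[R] B)) ≅ Spec (CommRingCat.of C) :=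
    { hom := Spec.map (CommRingCat.ofHom (e.symm : C →+* R' ⊗[R] B))
      inv := Spec.map (CommRingCat.ofHom (e : R' ⊗[R] B →+* C))
      hom_inv_id := by
        rw [← Spec.map_comp, ← CommRingCat.ofHom_comp]
        have : (e.symm : C →+* R' ⊗[R] B).comp (e : R' ⊗[R] B →+* C) = RingHom.id _ := by
          apply RingHom.ext; intro x; simp
        rw [this]; exact Spec.map_id _
      inv_hom_id := by
        rw [← Spec.map_comp, ← CommRingCat.ofHom_comp]
        have : (e : R' ⊗[R] B →+* C).comp (e.symm : C →+* R' ⊗[R] B) = RingHom.id _ := by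
          apply RingHom.ext; intro x; simp
        rw [this]; exact Spec.map_id _ }
  refine ⟨Y', ⟨MorphismProperty.Over.isoMk
    (pullbackSymmetry _ _ ≪≫ pullbackSpecIso R R' B ≪≫ σ ≪≫ e₀.symm) ?_⟩⟩
  change (pullbackSymmetry _ _ ≪≫ pullbackSpecIso R R' B ≪≫ σ ≪≫ e₀.symm).hom ≫ Y₀.hom =
    pullback.snd (Spec.map (CommRingCat.ofHom (algebraMap R B)))
      (Spec.map (CommRingCat.ofHom (algebraMap R R')))
  simp only [Iso.trans_hom, Iso.symm_hom, Category.assoc]
  rw [← he₀, Iso.inv_hom_id_assoc]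
  have h3 : σ.hom ≫ Spec.map (CommRingCat.ofHom (algebraMap R' C)) =
      Spec.map (CommRingCat.ofHom (algebraMap R' (R' ⊗[R] B))) := by
    change Spec.map (CommRingCat.ofHom (e.symm : C →+* R' ⊗[R] B)) ≫ _ = _
    rw [← Spec.map_comp, ← CommRingCat.ofHom_comp]
    congr 2
    apply RingHom.ext; intro x
    simp
  rw [h3, pullbackSpecIso_hom_fst', pullbackSymmetry_hom_comp_fst]

end Groth.Agent.H6.FEtAff
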