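import Mathlib
import Groth.Prelude
import Groth.Agent.S0532
import Groth.Agent.S17971
import Groth.Agent.Lib.Helper6.FEtAff

universe u
open CategoryTheory CategoryTheory.Limits AlgebraicGeometry TopologicalSpace Opposite TensorProduct

set_option linter.unusedSectionVars false
set_option linter.unusedSimpArgs false
set_option linter.style.haveILetI false
namespace Groth.Agent.H6.HensPairFEt

open Groth.Agent.H6.FEtFF

/-- for a henselian pair, restriction of finite étale covers to the closed subscheme is fully
faithful. -/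
theorem full_faithful_of_henselian (A : Type u) [CommRing A] (I : Ideal A) [HenselianRing A I] :
    (FEt.restrict (Spec.map (CommRingCat.ofHom (Ideal.Quotient.mk I)))).Full ∧
      (FEt.restrict (Spec.map (CommRingCat.ofHom (Ideal.Quotient.mk I)))).Faithful := by
  have key : ∀ Y : FEt.Cat (Spec (CommRingCat.of A)),
      ClopenInj (pullback.fst Y.hom (Spec.map (CommRingCat.ofHom (Ideal.Quotient.mk I)))) ∧
      ClopenSurj (pullback.fst Y.hom (Spec.map (CommRingCat.ofHom (Ideal.Quotient.mk I)))) := by
    intro Y
    let π : Y.left ⟶ Spec (CommRingCat.of A) := Y.hom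
    have hfin : IsFinite π := Y.prop.1
    have c := (Groth.Agent.S17971.result A I).mp inferInstance Y.left π hfin
    constructor
    · intro Z hZ hr
      obtain ⟨U, -, hU⟩ := c Set.univ isClopen_univ
      have h0 : (pullback.fst π (Spec.map (CommRingCat.ofHom (Ideal.Quotient.mk I)))).base ⁻¹' Z =
          Set.univ := by
        rw [Set.eq_univ_iff_forall]; intro x; exact hr ⟨x, rfl⟩
      rw [hU Z ⟨hZ, h0⟩, ← hU Set.univ ⟨isClopen_univ, rfl⟩]
    · intro Z' hZ'
      obtain ⟨U, ⟨hU, hU'⟩, -⟩ := c Z' hZ'
      exact ⟨U, hU, hU'⟩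
  exact full_faithful_of_clopen _ (fun Y => (key Y).1) (fun Y => (key Y).2)

theorem s0239 (A : Type u) [CommRing A] (I : Ideal A) [HenselianRing A I] :
    (FEt.restrict (Spec.map (CommRingCat.ofHom (Ideal.Quotient.mk I)))).IsEquivalence := by
  obtain ⟨h1, h2⟩ := full_faithful_of_henselian A I
  have h3 : (FEt.restrict (Spec.map (CommRingCat.ofHom (Ideal.Quotient.mk I)))).EssSurj :=
    Groth.Agent.H6.FEtAff.essSurj_of_algebra_lift A (A ⧸ I)
      (fun C _ _ _ _ => Groth.Agent.S0532.result A I C)
  exact { faithful := h2, full := h1, essSurj := h3 }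

end Groth.Agent.H6.HensPairFEt
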