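import Mathlib
import Groth.Prelude
import Groth.Agent.S0527
import Groth.Agent.Lib.Helper6.HensPairFEt
import Groth.Agent.Lib.Helper6.FEtThick1

universe u
open CategoryTheory CategoryTheory.Limits AlgebraicGeometry TopologicalSpace Opposite

set_option linter.unusedSectionVars false
set_option linter.unusedSimpArgs false
set_option linter.style.haveILetI false
namespace Groth.Agent.H6.FEtThick

open Groth.Agent.H6.FEtFF

theorem lifts_quotient_nil (A : Type u) [CommRing A] (I : Ideal A)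
    (hI : ∀ x ∈ I, IsNilpotent x) :
    Lifts (Spec.map (CommRingCat.ofHom (Ideal.Quotient.mk I))) := by
  haveI : HenselianRing A I := Groth.Agent.S0527.result A I hI
  haveI := Groth.Agent.H6.HensPairFEt.s0239 A I
  exact lifts_of_essSurj _

/-- finite étale covers lift along a thickening with affine target. -/
theorem lifts_of_isAffine {A₀ T : Scheme.{u}} (j : A₀ ⟶ T) [IsClosedImmersion j] [Surjective j]
    [IsAffine T] : Lifts j := by
  obtain ⟨I, e, he⟩ := IsClosedImmersion.Spec_iff.mp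
    (inferInstance : IsClosedImmersion (j ≫ T.isoSpec.hom))
  have hsurj : Surjective (Spec.map (CommRingCat.ofHom (Ideal.Quotient.mk I))) := by
    have : Spec.map (CommRingCat.ofHom (Ideal.Quotient.mk I)) = e.inv ≫ j ≫ T.isoSpec.hom := by
      rw [he, Iso.inv_hom_id_assoc]
    rw [this]
    infer_instance
  have hI : ∀ x ∈ I, IsNilpotent x := by
    intro x hx
    rw [nilpotent_iff_mem_prime]
    intro 𝔭 h𝔭
    obtain ⟨𝔮, h𝔮⟩ := hsurj.surj ⟨𝔭, h𝔭⟩
    have h1 : (⟨𝔭, h𝔭⟩ : PrimeSpectrum Γ(T, ⊤)) =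
        PrimeSpectrum.comap (Ideal.Quotient.mk I) 𝔮 := h𝔮.symm
    have h2 : x ∈ (PrimeSpectrum.comap (Ideal.Quotient.mk I) 𝔮).asIdeal := by
      change Ideal.Quotient.mk I x ∈ 𝔮.asIdeal
      rw [Ideal.Quotient.eq_zero_iff_mem.mpr hx]
      exact 𝔮.asIdeal.zero_mem
    rw [← h1] at h2
    exact h2
  exact lifts_of_arrow_iso j _ e T.isoSpec he (lifts_quotient_nil Γ(T, ⊤) I hI)

end Groth.Agent.H6.FEtThick
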