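import Mathlib
import Groth.Prelude
import Groth.Agent.Lib.Helper6.FEtThick2

universe u
open CategoryTheory CategoryTheory.Limits AlgebraicGeometry TopologicalSpace Opposite

set_option linter.unusedSectionVars false
set_option linter.unusedSimpArgs false
set_option linter.style.haveILetI false
namespace Groth.Agent.H6.FEtThick

open Groth.Agent.H6.FEtFF

variable {X X' : Scheme.{u}} (i : X ⟶ X') [IsClosedImmersion i] [Surjective i]
  {W : Scheme.{u}} (π₀ : W ⟶ X) [IsFinite π₀] [Etale π₀]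

/-- a lift of the finite étale cover over an affine open of the thickening. -/
structure LocalLift (U : X'.AffineZariskiSite) where
  Z : Scheme.{u}
  p : Z ⟶ (U.1 : Scheme.{u})
  q : pullback (π₀ ≫ i) U.1.ι ⟶ Z
  fin : IsFinite p
  et : Etale p
  isPullback : IsPullback q (pullback.fst (π₀ ≫ i) U.1.ι ≫ π₀) (p ≫ U.1.ι) i

theorem nonempty_localLift (U : X'.AffineZariskiSite) : Nonempty (LocalLift i π₀ U) := by
  haveI : IsAffine (U.1 : Scheme.{u}) := U.2
  let iU : pullback i U.1.ι ⟶ (U.1 : Scheme.{u}) := pullback.snd i U.1.ι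
  let πU : pullback (π₀ ≫ i) U.1.ι ⟶ pullback i U.1.ι :=
    pullback.map (π₀ ≫ i) U.1.ι i U.1.ι π₀ (𝟙 _) (𝟙 _) (by simp) (by simp)
  have hsq : IsPullback (pullback.fst (π₀ ≫ i) U.1.ι) πU π₀ (pullback.fst i U.1.ι) := by
    refine IsPullback.of_bot (h₃₁ := U.1.ι) (v₂₁ := pullback.snd i U.1.ι) (v₂₂ := i) ?_ ?_
      (IsPullback.of_hasPullback i U.1.ι)
    · have : πU ≫ pullback.snd i U.1.ι = pullback.snd (π₀ ≫ i) U.1.ι :=
        (pullback.lift_snd _ _ _).trans (Category.comp_id _)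
      rw [this]
      exact IsPullback.of_hasPullback (π₀ ≫ i) U.1.ι
    · exact (pullback.lift_fst _ _ _).symm
  have hfin : IsFinite πU := MorphismProperty.of_isPullback hsq inferInstance
  have het : Etale πU := MorphismProperty.of_isPullback hsq inferInstance
  obtain ⟨Z, p, q, hp1, hp2, hp⟩ := lifts_of_isAffine iU _ πU hfin het
  refine ⟨⟨Z, p, q, hp1, hp2, ?_⟩⟩
  have := hp.paste_vert (IsPullback.of_hasPullback i U.1.ι).flip
  have h2 : πU ≫ pullback.fst i U.1.ι = pullback.fst (π₀ ≫ i) U.1.ι ≫ π₀ :=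
    pullback.lift_fst _ _ _
  rw [h2] at this
  exact this

variable {i π₀}
variable (L : ∀ U : X'.AffineZariskiSite, LocalLift i π₀ U)

instance (U : X'.AffineZariskiSite) : IsFinite (L U).p := (L U).fin
instance (U : X'.AffineZariskiSite) : Etale (L U).p := (L U).et
instance (U : X'.AffineZariskiSite) : IsClosedImmersion (L U).q :=
  MorphismProperty.of_isPullback (L U).isPullback.flip inferInstance
instance (U : X'.AffineZariskiSite) : Surjective (L U).q :=
  MorphismProperty.of_isPullback (L U).isPullback.flip inferInstance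

theorem q_p (U : X'.AffineZariskiSite) :
    (L U).q ≫ (L U).p = pullback.snd (π₀ ≫ i) U.1.ι := by
  rw [← cancel_mono U.1.ι, Category.assoc, (L U).isPullback.w, Category.assoc,
    pullback.condition]

theorem le' {U V : X'.AffineZariskiSite} (hUV : U ⟶ V) : U.1 ≤ V.1 :=
  ((Scheme.AffineZariskiSite.toOpensFunctor _).map hUV).le

/-- transition maps on the source side. -/
noncomputable def wt {U V : X'.AffineZariskiSite} (hUV : U ⟶ V) :
    pullback (π₀ ≫ i) U.1.ι ⟶ pullback (π₀ ≫ i) V.1.ι :=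
  pullback.map (π₀ ≫ i) U.1.ι (π₀ ≫ i) V.1.ι (𝟙 _) (X'.homOfLE (le' hUV)) (𝟙 _) (by simp) (by simp)

@[reassoc (attr := simp)]
theorem wt_fst {U V : X'.AffineZariskiSite} (hUV : U ⟶ V) :
    wt (i := i) (π₀ := π₀) hUV ≫ pullback.fst (π₀ ≫ i) V.1.ι = pullback.fst (π₀ ≫ i) U.1.ι :=
  (pullback.lift_fst _ _ _).trans (Category.comp_id _)

@[reassoc (attr := simp)]
theorem wt_snd {U V : X'.AffineZariskiSite} (hUV : U ⟶ V) :
    wt (i := i) (π₀ := π₀) hUV ≫ pullback.snd (π₀ ≫ i) V.1.ι =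
      pullback.snd (π₀ ≫ i) U.1.ι ≫ X'.homOfLE (le' hUV) :=
  pullback.lift_snd _ _ _

theorem exists_trans {U V : X'.AffineZariskiSite} (hUV : U ⟶ V) :
    ∃ t : (L U).Z ⟶ (L V).Z, (L U).q ≫ t = wt hUV ≫ (L V).q ∧
      t ≫ (L V).p = (L U).p ≫ X'.homOfLE (le' hUV) := by
  refine exists_lift (L V).p (L U).q (wt hUV ≫ (L V).q) ((L U).p ≫ X'.homOfLE (le' hUV)) ?_
  rw [Category.assoc, q_p, wt_snd, ← Category.assoc, q_p]

/-- the transition maps. -/
noncomputable def tr {U V : X'.AffineZariskiSite} (hUV : U ⟶ V) : (L U).Z ⟶ (L V).Z :=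
  (exists_trans L hUV).choose

theorem q_tr {U V : X'.AffineZariskiSite} (hUV : U ⟶ V) :
    (L U).q ≫ tr L hUV = wt hUV ≫ (L V).q := (exists_trans L hUV).choose_spec.1

theorem tr_p {U V : X'.AffineZariskiSite} (hUV : U ⟶ V) :
    tr L hUV ≫ (L V).p = (L U).p ≫ X'.homOfLE (le' hUV) := (exists_trans L hUV).choose_spec.2

theorem tr_unique {U V : X'.AffineZariskiSite} (hUV : U ⟶ V) (t : (L U).Z ⟶ (L V).Z)
    (h1 : (L U).q ≫ t = wt hUV ≫ (L V).q) (h2 : t ≫ (L V).p = (L U).p ≫ X'.homOfLE (le' hUV)) :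
    t = tr L hUV :=
  lift_unique (L V).p (L U).q t (tr L hUV) (h1.trans (q_tr L hUV).symm)
    (h2.trans (tr_p L hUV).symm)

theorem wt_id (U : X'.AffineZariskiSite) : wt (i := i) (π₀ := π₀) (𝟙 U) = 𝟙 _ := by
  apply pullback.hom_ext <;> simp [wt]

theorem wt_comp {U V T : X'.AffineZariskiSite} (hUV : U ⟶ V) (hVT : V ⟶ T) :
    wt (i := i) (π₀ := π₀) (hUV ≫ hVT) = wt hUV ≫ wt hVT := by
  apply pullback.hom_ext
  · rw [Category.assoc, wt_fst, wt_fst, wt_fst]
  · rw [Category.assoc, wt_snd, wt_snd, wt_snd_assoc, X'.homOfLE_homOfLE]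

/-- the functor of local lifts. -/
noncomputable def functor : X'.AffineZariskiSite ⥤ Scheme.{u} where
  obj U := (L U).Z
  map hUV := tr L hUV
  map_id U := by
    symm
    apply tr_unique
    · rw [wt_id, Category.comp_id, Category.id_comp]
    · rw [Category.id_comp]; simp
  map_comp {U V T} hUV hVT := by
    symm
    apply tr_unique
    · rw [← Category.assoc, q_tr, Category.assoc, q_tr, wt_comp, Category.assoc]
    · rw [Category.assoc, tr_p, ← Category.assoc, tr_p, Category.assoc]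
      simp

theorem isPullback_wt {U V : X'.AffineZariskiSite} (hUV : U ⟶ V) :
    IsPullback (wt (i := i) (π₀ := π₀) hUV) (pullback.snd (π₀ ≫ i) U.1.ι)
      (pullback.snd (π₀ ≫ i) V.1.ι) (X'.homOfLE (le' hUV)) := by
  refine IsPullback.of_right (h₁₂ := pullback.fst (π₀ ≫ i) V.1.ι) (v₁₃ := π₀ ≫ i)
    (h₂₂ := V.1.ι) ?_ (wt_snd hUV) (IsPullback.of_hasPullback _ _)
  rw [wt_fst, X'.homOfLE_ι]
  exact IsPullback.of_hasPullback _ _

theorem isPullback_tr {U V : X'.AffineZariskiSite} (hUV : U ⟶ V) :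
    IsPullback (tr L hUV) (L U).p (L V).p (X'.homOfLE (le' hUV)) := by
  let c : (L U).Z ⟶ pullback (L V).p (X'.homOfLE (le' hUV)) :=
    pullback.lift (tr L hUV) (L U).p (tr_p L hUV)
  let q' : pullback (π₀ ≫ i) U.1.ι ⟶ pullback (L V).p (X'.homOfLE (le' hUV)) :=
    pullback.lift (wt hUV ≫ (L V).q) (pullback.snd (π₀ ≫ i) U.1.ι)
      (by rw [Category.assoc, q_p, wt_snd])
  have hc1 : c ≫ pullback.fst _ _ = tr L hUV := pullback.lift_fst _ _ _
  have hc2 : c ≫ pullback.snd _ _ = (L U).p := pullback.lift_snd _ _ _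
  have hq1 : q' ≫ pullback.fst _ _ = wt hUV ≫ (L V).q := pullback.lift_fst _ _ _
  have hq2 : q' ≫ pullback.snd _ _ = pullback.snd (π₀ ≫ i) U.1.ι := pullback.lift_snd _ _ _
  -- (G)
  have hG : IsPullback (wt hUV) q' (L V).q (pullback.fst (L V).p (X'.homOfLE (le' hUV))) := by
    refine IsPullback.of_bot (h₃₁ := X'.homOfLE (le' hUV)) (v₂₁ := pullback.snd _ _)
      (v₂₂ := (L V).p) ?_ hq1.symm (IsPullback.of_hasPullback _ _)
    rw [hq2, q_p]
    exact isPullback_wt hUV
  -- (E)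
  have hE : IsPullback q' (pullback.fst (π₀ ≫ i) U.1.ι ≫ π₀)
      (pullback.fst (L V).p (X'.homOfLE (le' hUV)) ≫ (L V).p ≫ V.1.ι) i := by
    have := hG.flip.paste_vert (L V).isPullback
    rwa [wt_fst_assoc] at this
  -- (F)
  have hF : IsPullback (L U).q (𝟙 _) c q' := by
    refine IsPullback.of_bot (h₃₁ := i) (v₂₁ := pullback.fst (π₀ ≫ i) U.1.ι ≫ π₀)
      (v₂₂ := pullback.fst (L V).p (X'.homOfLE (le' hUV)) ≫ (L V).p ≫ V.1.ι) ?_ ?_ hE
    · have h1 : c ≫ pullback.fst (L V).p (X'.homOfLE (le' hUV)) ≫ (L V).p ≫ V.1.ι =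
          (L U).p ≫ U.1.ι := by
        rw [← Category.assoc, hc1, ← Category.assoc, tr_p, Category.assoc, X'.homOfLE_ι]
      rw [h1, Category.id_comp]
      exact (L U).isPullback
    · apply pullback.hom_ext
      · rw [Category.assoc, hc1, q_tr, Category.id_comp, hq1]
      · rw [Category.assoc, hc2, q_p, Category.id_comp, hq2]
  haveI : IsFinite (c ≫ pullback.snd (L V).p (X'.homOfLE (le' hUV))) := by rw [hc2]; infer_instance
  haveI : Etale (c ≫ pullback.snd (L V).p (X'.homOfLE (le' hUV))) := by rw [hc2]; infer_instance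
  haveI : IsFinite c := IsFinite.of_comp c (pullback.snd (L V).p (X'.homOfLE (le' hUV)))
  haveI : Etale c := Etale.of_comp c (pullback.snd (L V).p (X'.homOfLE (le' hUV)))
  haveI : Surjective q' := MorphismProperty.of_isPullback hE.flip inferInstance
  haveI : IsIso c := isIso_of_isPullback c q' (𝟙 _) (L U).q hF
  exact IsPullback.of_iso_pullback ⟨tr_p L hUV⟩ (asIso c) hc1 hc2

end Groth.Agent.H6.FEtThick
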