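import Mathlib
import Groth.Prelude
import Groth.Agent.Lib.Helper6.FEtThick3

universe u
open CategoryTheory CategoryTheory.Limits AlgebraicGeometry TopologicalSpace Opposite

set_option linter.unusedSectionVars false
set_option linter.unusedSimpArgs false
set_option linter.style.haveILetI false
namespace Groth.Agent.H6.FEtThick

open Groth.Agent.H6.FEtFF
open Scheme.AffineZariskiSite (directedCover)

variable {X X' : Scheme.{u}} {i : X ⟶ X'} [IsClosedImmersion i] [Surjective i]
  {W : Scheme.{u}} {π₀ : W ⟶ X} [IsFinite π₀] [Etale π₀]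
variable (L : ∀ U : X'.AffineZariskiSite, LocalLift i π₀ U)

/-- the relative gluing datum. -/
noncomputable def glueData : (directedCover X').RelativeGluingData where
  functor := functor L
  natTrans :=
    { app := fun U => (L U).p
      naturality := fun _ _ hUV => tr_p L hUV }
  equifibered := fun _ _ hUV => isPullback_tr L hUV

instance : ((glueData L).functor ⋙ Scheme.forget).IsLocallyDirected :=
  Scheme.Cover.RelativeGluingData.instIsLocallyDirectedI₀CompFunctorForgetOfIsThin ..

/-- the structure maps into the glued scheme. -/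
noncomputable def ιZ (U : X'.AffineZariskiSite) : (L U).Z ⟶ (glueData L).glued :=
  colimit.ι (glueData L).functor U

theorem tr_ιZ {U V : X'.AffineZariskiSite} (hUV : U ⟶ V) : tr L hUV ≫ ιZ L V = ιZ L U :=
  colimit.w (glueData L).functor hUV

theorem ι_toBase (U : X'.AffineZariskiSite) :
    ιZ L U ≫ (glueData L).toBase = (L U).p ≫ U.1.ι :=
  (glueData L).ι_toBase U

theorem isPullback_ι (U : X'.AffineZariskiSite) :
    IsPullback (ιZ L U) (L U).p (glueData L).toBase U.1.ι :=
  ((glueData L).isPullback_natTrans_ι_toBase U).flip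

theorem isFinite_toBase : IsFinite (glueData L).toBase := by
  apply IsZariskiLocalAtTarget.of_openCover (P := @IsFinite) (directedCover X')
  intro (U : X'.AffineZariskiSite)
  have h := isPullback_ι L U
  change IsFinite (pullback.snd (glueData L).toBase U.1.ι)
  refine (MorphismProperty.cancel_left_of_respectsIso @IsFinite h.isoPullback.hom
    (pullback.snd _ _)).mp ?_
  rw [h.isoPullback_hom_snd]
  exact (L U).fin

theorem etale_toBase : Etale (glueData L).toBase := by
  apply IsZariskiLocalAtTarget.of_openCover (P := @Etale) (directedCover X')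
  intro (U : X'.AffineZariskiSite)
  have h := isPullback_ι L U
  change Etale (pullback.snd (glueData L).toBase U.1.ι)
  refine (MorphismProperty.cancel_left_of_respectsIso @Etale h.isoPullback.hom
    (pullback.snd _ _)).mp ?_
  rw [h.isoPullback_hom_snd]
  exact (L U).et

theorem Q_compat {U V : X'.AffineZariskiSite} (hUV : U ⟶ V) :
    Scheme.Cover.trans ((directedCover X').pullback₁ (π₀ ≫ i)) hUV ≫ (L V).q ≫ ιZ L V =
      (L U).q ≫ ιZ L U := by
  change wt hUV ≫ (L V).q ≫ ιZ L V = (L U).q ≫ ιZ L U
  rw [← Category.assoc, ← q_tr, Category.assoc, tr_ιZ]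

/-- the glued closed immersion. -/
noncomputable def Q : W ⟶ (glueData L).glued :=
  Scheme.OpenCover.glueMorphismsOfLocallyDirected ((directedCover X').pullback₁ (π₀ ≫ i))
    (fun (U : X'.AffineZariskiSite) => (L U).q ≫ ιZ L U)
    (fun hUV => Q_compat L hUV)

theorem fst_Q (U : X'.AffineZariskiSite) :
    pullback.fst (π₀ ≫ i) U.1.ι ≫ Q L = (L U).q ≫ ιZ L U :=
  Scheme.OpenCover.map_glueMorphismsOfLocallyDirected
    ((directedCover X').pullback₁ (π₀ ≫ i))
    (fun (U : X'.AffineZariskiSite) => (L U).q ≫ ιZ L U)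
    (fun hUV => Q_compat L hUV) U

theorem Q_toBase : Q L ≫ (glueData L).toBase = π₀ ≫ i := by
  apply ((directedCover X').pullback₁ (π₀ ≫ i)).hom_ext
  intro (U : X'.AffineZariskiSite)
  change pullback.fst (π₀ ≫ i) U.1.ι ≫ _ = pullback.fst (π₀ ≫ i) U.1.ι ≫ _
  rw [← Category.assoc, fst_Q, Category.assoc, ι_toBase, ← Category.assoc, q_p,
    pullback.condition]

theorem isPullback_Q : IsPullback (Q L) π₀ (glueData L).toBase i := by
  haveI := isFinite_toBase L
  haveI := etale_toBase L
  let pg := (glueData L).toBase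
  let c : W ⟶ pullback pg i := pullback.lift (Q L) π₀ (Q_toBase L)
  have hc1 : c ≫ pullback.fst pg i = Q L := pullback.lift_fst _ _ _
  have hc2 : c ≫ pullback.snd pg i = π₀ := pullback.lift_snd _ _ _
  haveI : IsFinite (c ≫ pullback.snd pg i) := by rw [hc2]; infer_instance
  haveI : Etale (c ≫ pullback.snd pg i) := by rw [hc2]; infer_instance
  haveI : IsFinite c := IsFinite.of_comp c (pullback.snd pg i)
  haveI : Etale c := Etale.of_comp c (pullback.snd pg i)
  have hrank : Scheme.Hom.finrank c = 1 := by
    funext y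
    obtain ⟨U, u, hu⟩ := (directedCover X').exists_eq ((pullback.fst pg i ≫ pg).base y)
    change (U.1.ι).base u = _ at hu
    let dU : pullback (π₀ ≫ i) U.1.ι ⟶ pullback pg i := pullback.fst (π₀ ≫ i) U.1.ι ≫ c
    -- (J)
    have hJ : IsPullback dU (L U).q (pullback.fst pg i) (ιZ L U) := by
      refine IsPullback.of_right (h₁₂ := pullback.snd pg i) (v₁₃ := i) (h₂₂ := pg) ?_ ?_
        (IsPullback.of_hasPullback pg i).flip
      · have h1 : dU ≫ pullback.snd pg i = pullback.fst (π₀ ≫ i) U.1.ι ≫ π₀ := by
          rw [Category.assoc, hc2]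
        rw [h1, ι_toBase]
        exact (L U).isPullback.flip
      · rw [Category.assoc, hc1, fst_Q]
    -- (I)
    have hI : IsPullback dU (pullback.snd (π₀ ≫ i) U.1.ι) (pullback.fst pg i ≫ pg) U.1.ι := by
      have := hJ.paste_vert (isPullback_ι L U)
      rwa [q_p] at this
    -- (K)
    have hK : IsPullback (pullback.fst (π₀ ≫ i) U.1.ι) (𝟙 _) c dU := by
      refine IsPullback.of_bot (h₃₁ := U.1.ι) (v₂₁ := pullback.snd (π₀ ≫ i) U.1.ι)
        (v₂₂ := pullback.fst pg i ≫ pg) ?_ (Category.id_comp _).symm hI
      rw [Category.id_comp, ← Category.assoc, hc1, Q_toBase]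
      exact IsPullback.of_hasPullback _ _
    obtain ⟨w, hw1, -⟩ := Scheme.exists_preimage_of_isPullback hI y u hu.symm
    rw [← hw1]
    change Scheme.Hom.finrank c (dU.base w) = 1
    rw [← Scheme.Hom.finrank_of_isPullback _ _ _ _ hK w, Scheme.Hom.finrank_eq_one_of_isIso]
    rfl
  haveI : IsIso c := (Scheme.Hom.isIso_iff_finrank_eq c).mpr hrank
  exact IsPullback.of_iso_pullback ⟨Q_toBase L⟩ (asIso c) hc1 hc2

/-- finite étale covers lift along thickenings. -/
theorem lifts_thickening {X X' : Scheme.{u}} (i : X ⟶ X') [IsClosedImmersion i] [Surjective i] :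
    Lifts i := by
  intro W π₀ hfin het
  let L : ∀ U : X'.AffineZariskiSite, LocalLift i π₀ U :=
    fun U => (nonempty_localLift i π₀ U).some
  exact ⟨(glueData L).glued, (glueData L).toBase, Q L, isFinite_toBase L, etale_toBase L,
    isPullback_Q L⟩

theorem s0238 {X X' : Scheme.{u}} (i : X ⟶ X') [IsClosedImmersion i] [Surjective i] :
    (FEt.restrict i).IsEquivalence := by
  obtain ⟨h1, h2⟩ := full_faithful i
  have h3 := essSurj_of_lifts i (lifts_thickening i)
  exact { faithful := h2, full := h1, essSurj := h3 }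

end Groth.Agent.H6.FEtThick
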