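import Groth.Agent.Lib.Helper6.CanBass
import Groth.Agent.Lib.Helper6.GorLC
import Groth.Agent.Lib.Helper6.Bass2
import Groth.Agent.Lib.Helper6.DepthBass

/-! Bass numbers of a Gorenstein ring: `μ^j(p, R) = δ_{j, ht p}`. -/

universe u
open CategoryTheory CategoryTheory.Abelian InjHull
set_option linter.unusedSectionVars false

namespace Groth.Agent.H6

namespace GorBass

section Local

variable {A : Type u} [CommRing A] [hG : LocCoh.IsGorensteinLocalRing A] (n : ℕ)
  (hn : ringKrullDim A = (n : WithBot ℕ∞))

include hn in
theorem bassNumLocal_self (j : ℕ) : GrLC.bassNumLocal A A j = if j = n then 1 else 0 := by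
  obtain ⟨k, hk⟩ := hG.exists_hasInjectiveDimensionLT
  obtain ⟨h1, h2, -⟩ := Bass.bass_main k hk n hn
  haveI hCM : LocCoh.IsCohenMacaulayLocalRing A := Bass.isCohenMacaulayLocalRing_of_gorenstein k hk
  unfold GrLC.bassNumLocal
  rcases lt_trichotomy j n with hj | hj | hj
  · rw [if_neg (by omega)]
    haveI : Subsingleton (Ext.{u} (ModuleCat.of A (IsLocalRing.ResidueField A)) (ModuleCat.of A A) j) :=
      (DepthBass.le_depth_iff (A := A) A n).mp (by rw [h1]) j hj
    exact Module.length_eq_zero
  · subst hj
    rw [if_pos rfl]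
    obtain ⟨f, hf⟩ := GorLC.top_lc_hull j A hn
    exact CanBass.length_ext_residue_can j hn _ A f hf (LinearMap.ringLmapEquivSelf A A _)
  · rw [if_neg (by omega)]
    haveI : Subsingleton (Ext.{u} (ModuleCat.of A (IsLocalRing.ResidueField A)) (ModuleCat.of A A) j) :=
      h2 j (by omega)
    exact Module.length_eq_zero

end Local

section Global

variable {R : Type u} [CommRing R] [hG : LocCoh.IsGorensteinRing R] (p : Ideal R) [hp : p.IsPrime]

noncomputable def selfEquiv :
    LocalizedModule p.primeCompl R ≃ₗ[Localization.AtPrime p] Localization.AtPrime p :=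
  IsLocalizedModule.mapEquiv p.primeCompl (LocalizedModule.mkLinearMap p.primeCompl R)
    (Algebra.linearMap R (Localization.AtPrime p)) (Localization.AtPrime p) (LinearEquiv.refl R R)

theorem bassNum_self (n : ℕ) (hn : p.height = n) (j : ℕ) :
    GrLC.bassNum p R j = if j = n then 1 else 0 := by
  haveI : LocCoh.IsGorensteinLocalRing (Localization.AtPrime p) :=
    hG.isGorensteinLocalRing_localization p
  have hd : ringKrullDim (Localization.AtPrime p) = (n : WithBot ℕ∞) := by
    rw [IsLocalization.AtPrime.ringKrullDim_eq_height p (Localization.AtPrime p), hn]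
    rfl
  rw [← bassNumLocal_self n hd j]
  exact (ExtLin.postcompEquiv (selfEquiv p).toModuleIso _ j).length_eq

end Global

end GorBass

end Groth.Agent.H6
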