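import Groth.Agent.Lib.Helper6.GrFree
import Groth.Agent.Lib.Helper6.LCZero

/-! `Ext^i_R(M, I) = 0` for `i ≥ 1`, `M` finitely generated graded and `I` *injective. -/

universe u
open DirectSum CategoryTheory CategoryTheory.Abelian
set_option linter.unusedSectionVars false

namespace Groth.Agent.H6

namespace Gr

variable {ι : Type} [AddCommGroup ι] [DecidableEq ι]
variable {R : Type u} [CommRing R] (𝒜 : ι → AddSubgroup R) [GradedRing 𝒜]

/-- a graded presentation `0 → K → F → M → 0` with `F` finite free, `K` finitely generated -/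
theorem exists_graded_ses [IsNoetherianRing R] (M : GrLC.GMod.{u} 𝒜) [Module.Finite R M.carrier] :
    ∃ (K F : GrLC.GMod.{u} 𝒜) (j : K.carrier →ₗ[R] F.carrier) (π : F.carrier →ₗ[R] M.carrier),
      Module.Finite R K.carrier ∧ Module.Projective R F.carrier ∧ GrLC.IsGrHom K.gr F.gr j ∧
        Function.Injective j ∧ Function.Surjective π ∧ LinearMap.range j = LinearMap.ker π := by
  obtain ⟨F, π, hproj, hfin, hsurj, hπgr⟩ := exists_graded_free_cover 𝒜 M.gr
  obtain ⟨K, j, hjinj, hjrange, hjgr⟩ := exists_gmod_sub 𝒜 F.gr (LinearMap.ker π)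
    (ker_isHomogeneous F.gr M.gr hπgr)
  haveI : IsNoetherian R F.carrier := isNoetherian_of_isNoetherianRing_of_finite R F.carrier
  exact ⟨K, F, j, π, Module.Finite.of_injective j hjinj, hproj, hjgr, hjinj, hsurj, hjrange⟩

variable {I : Type u} [AddCommGroup I] [Module R I] (ℐ : ι → AddSubgroup I)
  [DirectSum.Decomposition ℐ] [SetLike.GradedSMul 𝒜 ℐ]

/-- **S13216** (bundled form) -/
theorem ext_subsingleton_of_starInj [IsNoetherianRing R] (hI : GrLC.IsStarInj 𝒜 ℐ) (n : ℕ) :
    ∀ (M : GrLC.GMod.{u} 𝒜) [Module.Finite R M.carrier],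
      Subsingleton (Ext.{u} (ModuleCat.of R M.carrier) (ModuleCat.of R I) (n + 1)) := by
  induction n with
  | zero =>
    intro M _
    obtain ⟨K, F, j, π, hKfin, hFproj, hjgr, hjinj, hπsurj, hjπ⟩ := exists_graded_ses 𝒜 M
    have hzero : π ∘ₗ j = 0 := by
      ext x
      have : j x ∈ LinearMap.ker π := by rw [← hjπ]; exact ⟨x, rfl⟩
      exact this
    let S : ShortComplex (ModuleCat.{u} R) :=
      ShortComplex.mk (ModuleCat.ofHom j) (ModuleCat.ofHom π) (by
        rw [← ModuleCat.ofHom_comp, hzero]; rfl)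
    have hS : S.ShortExact := by
      refine ModuleCat.shortComplex_shortExact S ?_ hjinj hπsurj
      intro y
      change π y = 0 ↔ y ∈ Set.range j
      rw [← LinearMap.mem_ker, ← hjπ]
      rfl
    haveI : Projective S.X₂ := (IsProjective.iff_projective (R := R) F.carrier).mp hFproj
    refine subsingleton_of_forall_eq 0 fun x₃ => ?_
    have h1 : (Ext.mk₀ S.g).comp x₃ (zero_add (0 + 1)) = 0 := Ext.eq_zero_of_projective _
    obtain ⟨x₁, hx₁⟩ := Ext.contravariant_sequence_exact₃ hS (ModuleCat.of R I) x₃ h1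
      (n₀ := 0) (by omega)
    obtain ⟨φ, rfl⟩ := LC.exists_mk₀ x₁
    obtain ⟨h, hh⟩ := starInj_extend_of_finite 𝒜 ℐ hI K F j hjgr hjinj φ.hom
    have h2 : φ = S.f ≫ ModuleCat.ofHom h := by
      apply ModuleCat.hom_ext
      rw [ModuleCat.hom_comp, ModuleCat.hom_ofHom]
      exact hh.symm
    rw [← hx₁, h2, ← Ext.mk₀_comp_mk₀]
    exact hS.extClass_comp_assoc _
  | succ n ih =>
    intro M _
    obtain ⟨K, F, j, π, hKfin, hFproj, hjgr, hjinj, hπsurj, hjπ⟩ := exists_graded_ses 𝒜 M
    have hzero : π ∘ₗ j = 0 := by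
      ext x
      have : j x ∈ LinearMap.ker π := by rw [← hjπ]; exact ⟨x, rfl⟩
      exact this
    let S : ShortComplex (ModuleCat.{u} R) :=
      ShortComplex.mk (ModuleCat.ofHom j) (ModuleCat.ofHom π) (by
        rw [← ModuleCat.ofHom_comp, hzero]; rfl)
    have hS : S.ShortExact := by
      refine ModuleCat.shortComplex_shortExact S ?_ hjinj hπsurj
      intro y
      change π y = 0 ↔ y ∈ Set.range j
      rw [← LinearMap.mem_ker, ← hjπ]
      rfl
    haveI : Projective S.X₂ := (IsProjective.iff_projective (R := R) F.carrier).mp hFproj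
    refine subsingleton_of_forall_eq 0 fun x₃ => ?_
    have h1 : (Ext.mk₀ S.g).comp x₃ (zero_add (n + 1 + 1)) = 0 := Ext.eq_zero_of_projective _
    obtain ⟨x₁, hx₁⟩ := Ext.contravariant_sequence_exact₃ hS (ModuleCat.of R I) x₃ h1
      (n₀ := n + 1) (by omega)
    haveI := ih K
    have hx₁0 : x₁ = 0 := Subsingleton.elim _ _
    rw [← hx₁, hx₁0, Ext.comp_zero]

end Gr

end Groth.Agent.H6
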