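import Groth.Agent.Lib.Helper6.BassGlobal
import Groth.Agent.Lib.Helper6.GrExt

universe u
open CategoryTheory CategoryTheory.Abelian
open scoped TensorProduct
set_option linter.unusedSectionVars false

namespace Groth.Agent.H6

namespace StarBass

variable {R : Type u} [CommRing R] [IsNoetherianRing R] (𝒜 : ℤ → AddSubgroup R) [GradedRing 𝒜]
variable {M : Type u} [AddCommGroup M] [Module R M] (ℳ : ℤ → AddSubgroup M)
  [DirectSum.Decomposition ℳ] [SetLike.GradedSMul 𝒜 ℳ]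

include ℳ in
/-- `Ext^{n+1}(R/q, M) = 0` for `q` homogeneous and `M` *injective -/
theorem subsingleton_ext_quot (hM : GrLC.IsStarInj 𝒜 ℳ) (q : Ideal R) (hq : q.IsHomogeneous 𝒜)
    (n : ℕ) : Subsingleton (Ext.{u} (ModuleCat.of R (R ⧸ q)) (ModuleCat.of R M) (n + 1)) := by
  classical
  obtain ⟨Qm, π, hπsurj, hπker, -⟩ := Gr.exists_gmod_quot 𝒜 𝒜 (q : Submodule R R) hq
  haveI : Module.Finite R Qm.carrier := Module.Finite.of_surjective π hπsurj
  have eQ : Qm.carrier ≃ₗ[R] (R ⧸ q) :=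
    (LinearMap.quotKerEquivOfSurjective π hπsurj).symm.trans (Submodule.quotEquivOfEq _ _ hπker)
  haveI := Gr.ext_subsingleton_of_starInj 𝒜 ℳ hM n Qm
  exact BassGlobal.subsingleton_ext_of_linearEquiv eQ.symm _ _ inferInstance

include ℳ in
theorem bassNum_succ_eq_zero_of_isHomogeneous (hM : GrLC.IsStarInj 𝒜 ℳ) (q : Ideal R) [q.IsPrime]
    (hq : q.IsHomogeneous 𝒜) (n : ℕ) : GrLC.bassNum q M (n + 1) = 0 :=
  BassGlobal.bassNum_eq_zero_of_subsingleton q M (n + 1) (subsingleton_ext_quot 𝒜 ℳ hM q hq n)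

include ℳ in
/-- Bass numbers at a non-homogeneous prime versus its core -/
theorem bassNum_succ_eq_core (p : Ideal R) [hp : p.IsPrime] (hph : ¬ p.IsHomogeneous 𝒜) (i : ℕ) :
    haveI : (Ideal.homogeneousCore 𝒜 p).toIdeal.IsPrime := Ideal.IsPrime.homogeneousCore hp
    GrLC.bassNum p M (i + 1) = GrLC.bassNum (Ideal.homogeneousCore 𝒜 p).toIdeal M i := by
  haveI : (Ideal.homogeneousCore 𝒜 p).toIdeal.IsPrime := Ideal.IsPrime.homogeneousCore hp
  refine BassStar.bassNum_succ 𝒜 ℳ (Ideal.homogeneousCore 𝒜 p).toIdeal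
    (Ideal.homogeneousCore 𝒜 p).isHomogeneous p (Ideal.toIdeal_homogeneousCore_le 𝒜 p) ?_ ?_ i
  · rintro s ⟨d, hs⟩ hsp
    exact Ideal.mem_homogeneousCore_of_homogeneous_of_mem ⟨d, hs⟩ hsp
  · by_contra hcon
    push Not at hcon
    apply hph
    have : (Ideal.homogeneousCore 𝒜 p).toIdeal = p :=
      le_antisymm (Ideal.toIdeal_homogeneousCore_le 𝒜 p) hcon
    rw [← this]
    exact (Ideal.homogeneousCore 𝒜 p).isHomogeneous

include ℳ in
theorem bassNum_add_two_eq_zero (hM : GrLC.IsStarInj 𝒜 ℳ) (p : Ideal R) [hp : p.IsPrime] (n : ℕ) :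
    GrLC.bassNum p M (n + 2) = 0 := by
  by_cases hph : p.IsHomogeneous 𝒜
  · exact bassNum_succ_eq_zero_of_isHomogeneous 𝒜 ℳ hM p hph (n + 1)
  · haveI : (Ideal.homogeneousCore 𝒜 p).toIdeal.IsPrime := Ideal.IsPrime.homogeneousCore hp
    rw [bassNum_succ_eq_core 𝒜 ℳ p hph (n + 1)]
    exact bassNum_succ_eq_zero_of_isHomogeneous 𝒜 ℳ hM _ (Ideal.homogeneousCore 𝒜 p).isHomogeneous n

end StarBass

end Groth.Agent.H6
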