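import Mathlib

/-! Nagata's criterion for unique factorization (for a prime element of a Noetherian domain). -/

universe u v

namespace Groth.Agent.H6

namespace Nagata

variable {R : Type u} [CommRing R] [IsDomain R]

/-- an element not divisible by the prime `s` which is prime in `R[1/s]` is prime in `R` -/
theorem prime_of_prime_map {s : R} (hs : Prime s) (L : Type v) [CommRing L] [Algebra R L]
    [IsLocalization.Away s L] {r : R} (hsr : ¬ s ∣ r) (hr : Prime (algebraMap R L r)) :
    Prime r := by
  have hinj : Function.Injective (algebraMap R L) :=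
    IsLocalization.injective L (powers_le_nonZeroDivisors_of_noZeroDivisors hs.ne_zero)
  refine ⟨fun h => hr.ne_zero (by rw [h, map_zero]), fun h => hr.not_isUnit (h.map _), ?_⟩
  intro a b hab
  have key : ∀ a : R, algebraMap R L r ∣ algebraMap R L a → r ∣ a := by
    intro a ⟨z, hz⟩
    obtain ⟨⟨c, ⟨_, i, rfl⟩⟩, hc⟩ := IsLocalization.surj (Submonoid.powers s) z
    have h1 : algebraMap R L (s ^ i * a) = algebraMap R L (r * c) := by
      rw [map_mul, map_mul, hz, ← hc]
      ring
    have h2 : s ^ i * a = r * c := hinj h1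
    have h3 : s ^ i ∣ c := hs.pow_dvd_of_dvd_mul_left i hsr ⟨a, h2.symm⟩
    obtain ⟨c', rfl⟩ := h3
    refine ⟨c', ?_⟩
    have h4 : s ^ i * a = s ^ i * (r * c') := by rw [h2]; ring
    exact mul_left_cancel₀ (pow_ne_zero i hs.ne_zero) h4
  have h1 : algebraMap R L r ∣ algebraMap R L a * algebraMap R L b := by
    rw [← map_mul]
    exact map_dvd _ hab
  rcases hr.dvd_or_dvd h1 with h | h
  · exact Or.inl (key a h)
  · exact Or.inr (key b h)

/-- **Nagata's criterion** -/
theorem ufd_of_away [IsNoetherianRing R] {s : R} (hs : Prime s) (L : Type v) [CommRing L]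
    [Algebra R L] [IsLocalization.Away s L] [IsDomain L] [UniqueFactorizationMonoid L] :
    UniqueFactorizationMonoid R := by
  have hinj : Function.Injective (algebraMap R L) :=
    IsLocalization.injective L (powers_le_nonZeroDivisors_of_noZeroDivisors hs.ne_zero)
  rw [UniqueFactorizationMonoid.iff_exists_prime_mem_of_isPrime]
  intro P hP0 hPp
  by_cases hsP : s ∈ P
  · exact ⟨s, hsP, hs⟩
  have hdisj : Disjoint (Submonoid.powers s : Set R) (P : Set R) := by
    rw [Set.disjoint_left]
    rintro _ ⟨n, rfl⟩ hn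
    exact hsP (hPp.mem_of_pow_mem n hn)
  have hP'p : (P.map (algebraMap R L)).IsPrime :=
    IsLocalization.isPrime_of_isPrime_disjoint (Submonoid.powers s) L P hPp hdisj
  have hP'0 : P.map (algebraMap R L) ≠ ⊥ := by
    obtain ⟨x, hx, hx0⟩ := Submodule.exists_mem_ne_zero_of_ne_bot hP0
    intro h
    have : algebraMap R L x ∈ P.map (algebraMap R L) := Ideal.mem_map_of_mem _ hx
    rw [h, Ideal.mem_bot] at this
    exact hx0 (hinj (this.trans (map_zero _).symm))
  obtain ⟨q, hqP, hq⟩ :=
    (UniqueFactorizationMonoid.iff_exists_prime_mem_of_isPrime.mp inferInstance) _ hP'0 hP'p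
  obtain ⟨⟨r, ⟨_, k, rfl⟩⟩, hr⟩ := IsLocalization.surj (Submonoid.powers s) q
  have hunit : IsUnit (algebraMap R L (s ^ k)) :=
    IsLocalization.map_units L (⟨s ^ k, k, rfl⟩ : Submonoid.powers s)
  have hrprime : Prime (algebraMap R L r) := by
    rw [← hr]
    exact (Associated.prime_iff (associated_mul_unit_right q _ hunit)).mp hq
  have hrP : r ∈ P := by
    have h1 : algebraMap R L r ∈ P.map (algebraMap R L) := by
      rw [← hr]
      exact Ideal.mul_mem_right _ _ hqP
    have h2 := IsLocalization.under_map_of_isPrime_disjoint (Submonoid.powers s) L hPp hdisj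
    rw [← h2]
    exact h1
  have hr0 : r ≠ 0 := fun h => hrprime.ne_zero (by rw [h, map_zero])
  obtain ⟨j, r', hsr', rfl⟩ := WfDvdMonoid.max_power_factor hr0 hs.irreducible
  have hr'P : r' ∈ P := by
    rcases hPp.mem_or_mem hrP with h | h
    · exact absurd (hPp.mem_of_pow_mem j h) hsP
    · exact h
  have hunit' : IsUnit (algebraMap R L (s ^ j)) :=
    IsLocalization.map_units L (⟨s ^ j, j, rfl⟩ : Submonoid.powers s)
  have hr'prime : Prime (algebraMap R L r') := by
    rw [map_mul] at hrprime
    exact (Associated.prime_iff (associated_unit_mul_left _ _ hunit')).mp hrprime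
  exact ⟨r', hr'P, prime_of_prime_map hs L hsr' hr'prime⟩

end Nagata

end Groth.Agent.H6
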