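import Mathlib
import Groth.Agent.Lib.Helper6.SkLoc
import Groth.Agent.Lib.Helper6.SkQuot
import Groth.Agent.Lib.Helper6.SkLift
import Groth.Agent.Lib.Helper6.SerreNormal

/-! `(S_k)` and localization at a submonoid; `(S_1)` and embedded primes. -/

universe u
set_option linter.style.haveILetI false
set_option autoImplicit false
open scoped Pointwise

namespace Groth.Agent.H6

namespace Sk121

variable {R : Type u} [CommRing R] [IsNoetherianRing R]
  (M : Type u) [AddCommGroup M] [Module R M] [Module.Finite R M]

/-- double localization does not change depth and dimension (general submonoid) -/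
theorem depth_and_dim_double (T : Submonoid R) (Q : Ideal (Localization T)) [Q.IsPrime] :
    LocCoh.depth (Localization.AtPrime Q)
        (LocalizedModule Q.primeCompl (LocalizedModule T M)) =
      LocCoh.depth (Localization.AtPrime (Q.comap (algebraMap R (Localization T))))
        (LocalizedModule (Q.comap (algebraMap R (Localization T))).primeCompl M) ∧
    Module.supportDim (Localization.AtPrime Q)
        (LocalizedModule Q.primeCompl (LocalizedModule T M)) =
      Module.supportDim (Localization.AtPrime (Q.comap (algebraMap R (Localization T))))
        (LocalizedModule (Q.comap (algebraMap R (Localization T))).primeCompl M) := by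
  set q := Q.comap (algebraMap R (Localization T)) with hq
  haveI : IsNoetherianRing (Localization T) :=
    IsLocalization.isNoetherianRing T _ inferInstance
  haveI : IsNoetherianRing (Localization.AtPrime Q) :=
    IsLocalization.isNoetherianRing Q.primeCompl _ inferInstance
  haveI : IsNoetherianRing (Localization.AtPrime q) :=
    IsLocalization.isNoetherianRing q.primeCompl _ inferInstance
  haveI : Module.Finite (Localization T) (LocalizedModule T M) :=
    Module.Finite.of_isLocalizedModule T (LocalizedModule.mkLinearMap T M)
  haveI : Module.Finite (Localization.AtPrime Q)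
      (LocalizedModule Q.primeCompl (LocalizedModule T M)) :=
    Module.Finite.of_isLocalizedModule Q.primeCompl
      (LocalizedModule.mkLinearMap Q.primeCompl (LocalizedModule T M))
  have hb1 : IsBaseChange (Localization T) (LocalizedModule.mkLinearMap T M) :=
    IsLocalizedModule.isBaseChange T _ _
  have hb2 : IsBaseChange (Localization.AtPrime Q)
      (LocalizedModule.mkLinearMap Q.primeCompl (LocalizedModule T M)) :=
    IsLocalizedModule.isBaseChange Q.primeCompl _ _
  have hb := hb1.comp hb2
  haveI : IsLocalization q.primeCompl (Localization.AtPrime Q) :=
    IsLocalization.isLocalization_atPrime_localization_atPrime T Q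
  haveI := (isLocalizedModule_iff_isBaseChange q.primeCompl (Localization.AtPrime Q) _).mpr hb
  exact SemiLin.depth_and_dim_eq_of_isLocalizedModule q.primeCompl
    (((LocalizedModule.mkLinearMap Q.primeCompl
      (LocalizedModule T M)).restrictScalars R).comp
        (LocalizedModule.mkLinearMap T M))
    (LocalizedModule.mkLinearMap q.primeCompl M)

/-- `(S_k)` localizes -/
theorem hasSk_localization (T : Submonoid R) (k : ℕ) (h : LocCoh.HasSk k R M) :
    LocCoh.HasSk k (Localization T) (LocalizedModule T M) := by
  intro Q hQ
  obtain ⟨h1, h2⟩ := depth_and_dim_double M T Q
  rw [h1, h2]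
  exact h _

end Sk121

end Groth.Agent.H6
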