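import Mathlib
import Groth.Agent.Lib.Helper6.Sk121a

/-! `(S_1)` and embedded primes; forward direction of S12121. -/

universe u
set_option linter.style.haveILetI false
set_option autoImplicit false
open scoped Pointwise

namespace Groth.Agent.H6

namespace Sk121

variable {R : Type u} [CommRing R] [IsNoetherianRing R]
  (N : Type u) [AddCommGroup N] [Module R N] [Module.Finite R N]

theorem nontrivial_localized_of_mem_ass (p : Ideal R) (hp : p ∈ associatedPrimes R N) :
    haveI := hp.isPrime
    Nontrivial (LocalizedModule p.primeCompl N) := by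
  haveI := hp.isPrime
  obtain ⟨-, f, hf⟩ := (isAssociatedPrime_iff_exists_injective_linearMap p N).mp hp
  by_contra hnt
  rw [not_nontrivial_iff_subsingleton, LocalizedModule.subsingleton_iff] at hnt
  obtain ⟨s, hs, hs0⟩ := hnt (f 1)
  rw [← map_smul] at hs0
  have h2 : s • (1 : R ⧸ p) = 0 := hf (hs0.trans (map_zero f).symm)
  rw [Algebra.smul_def, mul_one] at h2
  exact hs (Ideal.Quotient.eq_zero_iff_mem.mp h2)

/-- `(S_1)` excludes embedded associated primes -/
theorem eq_of_hasSk_one (h : LocCoh.HasSk 1 R N) (p q : Ideal R)
    (hp : p ∈ associatedPrimes R N) (hq : q ∈ associatedPrimes R N) (hpq : p ≤ q) : p = q := by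
  by_contra hne
  have hlt : p < q := lt_of_le_of_ne hpq hne
  haveI := hp.isPrime
  haveI := hq.isPrime
  haveI := nontrivial_localized_of_mem_ass N p hp
  haveI : IsNoetherianRing (Localization.AtPrime p) :=
    IsLocalization.isNoetherianRing p.primeCompl _ inferInstance
  have h1 := SkLift.supportDim_add_one_le N p q hlt
  have h0 : (0 : WithBot ℕ∞) ≤ Module.supportDim (Localization.AtPrime p)
      (LocalizedModule p.primeCompl N) := by
    by_contra hlt0
    have : Module.supportDim (Localization.AtPrime p) (LocalizedModule p.primeCompl N) = ⊥ := by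
      rw [not_le] at hlt0
      exact LC.withBot_eq_bot_of_lt_zero _ (by exact_mod_cast hlt0)
    rw [Module.supportDim_eq_bot_iff_subsingleton] at this
    exact not_subsingleton _ this
  have h2 : ((1 : ℕ) : WithBot ℕ∞) ≤ Module.supportDim (Localization.AtPrime q)
      (LocalizedModule q.primeCompl N) := by
    refine le_trans ?_ h1
    calc ((1 : ℕ) : WithBot ℕ∞) = 0 + 1 := by simp
      _ ≤ _ := add_le_add_left h0 1
  have h3 := (Sk.hasSk_iff 1 N).mp h q 1 le_rfl h2
  exact Depth.not_mem_associatedPrimes_of_locDepthGE N q h3 hq


open RingTheory.Sequence in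
/-- forward direction of S12121 -/
theorem forward (k : ℕ) {A : Type u} [CommRing A] [IsNoetherianRing A]
    (M : Type u) [AddCommGroup M] [Module A M] [Module.Finite A M] (h : LocCoh.HasSk k A M)
    (g : A) (rs : List (Localization.Away g)) (hlen : rs.length < k)
    (hreg : IsWeaklyRegular (LocalizedModule (Submonoid.powers g) M) rs) :
    ∀ p ∈ associatedPrimes (Localization.Away g)
        (LocalizedModule (Submonoid.powers g) M ⧸
          (Ideal.ofList rs • (⊤ : Submodule (Localization.Away g)
            (LocalizedModule (Submonoid.powers g) M)))),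
      ∀ q ∈ associatedPrimes (Localization.Away g)
        (LocalizedModule (Submonoid.powers g) M ⧸
          (Ideal.ofList rs • (⊤ : Submodule (Localization.Away g)
            (LocalizedModule (Submonoid.powers g) M)))),
        p ≤ q → p = q := by
  haveI : IsNoetherianRing (Localization.Away g) :=
    IsLocalization.isNoetherianRing (Submonoid.powers g) _ inferInstance
  haveI : Module.Finite (Localization.Away g) (LocalizedModule (Submonoid.powers g) M) :=
    Module.Finite.of_isLocalizedModule (Submonoid.powers g)
      (LocalizedModule.mkLinearMap (Submonoid.powers g) M)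
  have h1 := hasSk_localization M (Submonoid.powers g) k h
  have h2 := Sk.hasSk_quot_ofList rs k _ h1 hreg hlen.le
  have h3 := SerreNormal.hasSk_mono (show 1 ≤ k - rs.length by omega) h2
  intro p hp q hq hpq
  exact eq_of_hasSk_one _ h3 p q hp hq hpq

end Sk121

end Groth.Agent.H6
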