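import Mathlib
import Groth.Agent.Lib.Helper6.CanQuot

universe u
set_option linter.style.haveILetI false
open CategoryTheory CategoryTheory.Abelian InjHull
open scoped Pointwise

namespace Groth.Agent.H6.CanQ

section CMmod

variable {R : Type u} [CommRing R] [IsNoetherianRing R] [IsLocalRing R]

/-- vanishing of local cohomology of a Cohen–Macaulay module outside its dimension -/
theorem lc_vanish_of_cm_module (P : Type u) [AddCommGroup P] [Module R P] [Module.Finite R P]
    (hcm : LocCoh.IsCohenMacaulayModule R P) (j : ℕ)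
    (hdim : Module.supportDim R P = (j : WithBot ℕ∞)) (i : ℕ) (hi : i ≠ j) :
    Subsingleton (LocCoh.H (IsLocalRing.maximalIdeal R) i P) := by
  haveI := CM.nontrivial_of_cm hcm
  have hdepth : LocCoh.depth R P = (j : ℕ∞) := by
    have h1 := hcm
    unfold LocCoh.IsCohenMacaulayModule at h1
    rw [hdim] at h1
    have : ((j : ℕ∞) : WithBot ℕ∞) = ((LocCoh.depth R P : ℕ∞) : WithBot ℕ∞) := by
      exact_mod_cast h1
    exact (WithBot.coe_injective this).symm
  rcases Nat.lt_or_gt_of_ne hi with hlt | hgt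
  · have hIM : IsLocalRing.maximalIdeal R • (⊤ : Submodule R P) ≠ ⊤ :=
      Groth.Agent.H3.DepthAux.smul_top_ne_top_of_nontrivial _
    have hle : ((j : ℕ) : ℕ∞) ≤ LocCoh.idealDepth (IsLocalRing.maximalIdeal R) P :=
      le_of_eq hdepth.symm
    exact (LC.le_idealDepth_iff _ P hIM j).mp hle i hlt
  · apply LC.subsingleton_of_supportDim_lt
    rw [hdim]
    exact_mod_cast hgt

end CMmod

section Can

variable {A : Type u} [CommRing A] [hCM : LocCoh.IsCohenMacaulayLocalRing A] (n : ℕ)
  (hn : ringKrullDim A = (n : WithBot ℕ∞))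
  (E K : Type u) [AddCommGroup E] [Module A E]
  (f : IsLocalRing.ResidueField A →ₗ[A] E) (hf : IsInjectiveHull f)
  [AddCommGroup K] [Module A K] [Module.Finite A K]
  (eK : (K →ₗ[A] E) ≃ₗ[A] LocCoh.H (IsLocalRing.maximalIdeal A) n A)

include hn hf eK in
/-- `H^i_m(K) = 0` for `i ≠ n` -/
theorem lc_can_vanish (i : ℕ) (hi : i ≠ n) :
    Subsingleton (LocCoh.H (IsLocalRing.maximalIdeal A) i K) := by
  obtain ⟨-, -, hcm, hdim⟩ := Can.can_injdim_cm n hn E K f hf eK
  exact lc_vanish_of_cm_module K hcm n hdim i hi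

include hn hf eK in
/-- `Ext^i(K, K) = 0` for `i ≥ 1` -/
theorem ext_can_self_subsingleton (i : ℕ) (hi : 1 ≤ i) :
    Subsingleton (Ext (ModuleCat.of A K) (ModuleCat.of A K) i) := by
  haveI : Module.Injective A E := hf.isInjective
  by_cases hin : i ≤ n
  · obtain ⟨e⟩ := Can.local_duality_can n hn E K eK K i (n - i) (by omega)
    haveI := lc_can_vanish n hn E K f hf eK (n - i) (by omega)
    exact Can.subsingleton_of_dual_subsingleton hf _ e.symm.toEquiv.subsingleton
  · obtain ⟨h1, -, -, -⟩ := Can.can_injdim_cm n hn E K f hf eK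
    exact HasInjectiveDimensionLT.subsingleton _ (n + 1) i (by omega) _

include hn hf eK in
/-- an `A`-regular element of the maximal ideal is `K`-regular -/
theorem can_isSMulRegular (a : A) (ha : a ∈ IsLocalRing.maximalIdeal A)
    (hreg : IsSMulRegular A a) : IsSMulRegular K a := by
  obtain ⟨d, -, h, -⟩ := stepA hf (inv_can n hn E K eK) a ha hreg
  exact h

include hn hf eK in
/-- **S7705** -/
theorem can_end_quot (a : A) (ha : a ∈ IsLocalRing.maximalIdeal A) (hreg : IsSMulRegular A a) :
    (∀ ψ : (K ⧸ (a • (⊤ : Submodule A K))) →ₗ[A] (K ⧸ (a • (⊤ : Submodule A K))),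
      ∃ g : K →ₗ[A] K, ∀ x : K, ψ (Submodule.Quotient.mk x) = Submodule.Quotient.mk (g x)) ∧
    (∀ g : K →ₗ[A] K, (∀ x : K, g x ∈ a • (⊤ : Submodule A K)) ↔
      ∃ g' : K →ₗ[A] K, g = a • g') := by
  have hKreg := can_isSMulRegular n hn E K f hf eK a ha hreg
  constructor
  · intro ψ
    have hreg' : IsSMulRegular (ModuleCat.of A K) a := hKreg
    have hS := hreg'.smulShortComplex_shortExact
    have hsub : Subsingleton (Ext (ModuleCat.of A K) ((ModuleCat.of A K).smulShortComplex a).X₁ 1) :=
      ext_can_self_subsingleton n hn E K f hf eK 1 le_rfl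
    let x₃ : Ext (ModuleCat.of A K) ((ModuleCat.of A K).smulShortComplex a).X₃ 0 :=
      Ext.mk₀ (ModuleCat.ofHom (ψ ∘ₗ (a • (⊤ : Submodule A K)).mkQ))
    obtain ⟨x₂, hx₂⟩ := Ext.covariant_sequence_exact₃ (ModuleCat.of A K) hS x₃ (zero_add 1)
      (hsub.elim _ _)
    obtain ⟨g, rfl⟩ := Ext.mk₀_bijective _ _ |>.2 x₂
    rw [Ext.mk₀_comp_mk₀] at hx₂
    have hx := (Ext.mk₀_bijective _ _).1 hx₂
    refine ⟨g.hom, fun x => ?_⟩
    have := congrArg (fun t => t.hom x) hx
    exact this.symm
  · intro g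
    constructor
    · intro hg
      have hrange : LinearMap.range (LinearMap.lsmul A K a) = a • (⊤ : Submodule A K) := by
        ext y
        rw [Submodule.mem_smul_pointwise_iff_exists]
        constructor
        · rintro ⟨x, rfl⟩
          exact ⟨x, Submodule.mem_top, rfl⟩
        · rintro ⟨x, -, rfl⟩
          exact ⟨x, rfl⟩
      let e := LinearEquiv.ofInjective (LinearMap.lsmul A K a) hKreg
      refine ⟨e.symm.toLinearMap ∘ₗ g.codRestrict _ (fun x => by rw [hrange]; exact hg x), ?_⟩
      ext x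
      change g x = a • e.symm ⟨g x, _⟩
      have := e.apply_symm_apply ⟨g x, by rw [hrange]; exact hg x⟩
      exact (congrArg Subtype.val this).symm
    · rintro ⟨g', rfl⟩ x
      exact Submodule.smul_mem_pointwise_smul _ a ⊤ Submodule.mem_top

end Can

end Groth.Agent.H6.CanQ
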