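import Mathlib
import Groth.Agent.Lib.Helper6.CanEnd
import Groth.Agent.Lib.Helper6.GorDual
import Groth.Agent.Lib.Helper6.SemiLocalDim
import Groth.Agent.Lib.Helper6.EWCompare

universe u
set_option linter.style.haveILetI false
open CategoryTheory CategoryTheory.Abelian InjHull
open scoped Pointwise

namespace Groth.Agent.H6.CanQ


section Torsion

variable {R : Type u} [CommRing R]

/-- a variant of `GorLC.exists_equiv_of_torsion` where the extension is given -/
theorem bijective_of_torsion (x : R)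
    {E E' T : Type u} [AddCommGroup E] [Module R E] [AddCommGroup E'] [Module R E']
    [AddCommGroup T] [Module R T]
    (hE : ∀ e : E, ∃ t : ℕ, x ^ t • e = 0) (hE' : ∀ e : E', ∃ t : ℕ, x ^ t • e = 0)
    (hsurj : ∀ e : E, ∃ e₁ : E, x • e₁ = e)
    (a : T →ₗ[R] E) (b : T →ₗ[R] E') (hb : Function.Injective b)
    (hra : ∀ e : E, x • e = 0 → ∃ t, a t = e)
    (hrb : ∀ e : E', x • e = 0 → ∃ t, b t = e)
    (φ : E →ₗ[R] E') (hφa : ∀ t, φ (a t) = b t) : Function.Bijective φ := by
  have hinj : Function.Injective φ := by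
    rw [← LinearMap.ker_eq_bot, eq_bot_iff]
    intro e he
    rw [LinearMap.mem_ker] at he
    rw [Submodule.mem_bot]
    by_contra hne
    classical
    have hex := hE e
    have hpos : 0 < Nat.find hex := by
      rw [Nat.pos_iff_ne_zero]
      intro h0
      have := Nat.find_spec hex
      rw [h0, pow_zero, one_smul] at this
      exact hne this
    obtain ⟨s, hs⟩ : ∃ s, Nat.find hex = s + 1 := ⟨Nat.find hex - 1, by omega⟩
    have h1 : x • (x ^ s • e) = 0 := by
      rw [← mul_smul, ← pow_succ', ← hs]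
      exact Nat.find_spec hex
    have h2 : x ^ s • e ≠ 0 := Nat.find_min hex (by omega)
    obtain ⟨t, ht⟩ := hra _ h1
    have h3 : b t = 0 := by
      rw [← hφa, ht, map_smul, he, smul_zero]
    have h4 : t = 0 := hb (h3.trans (map_zero b).symm)
    apply h2
    rw [← ht, h4, map_zero]
  have hsur : ∀ (t : ℕ) (e' : E'), x ^ t • e' = 0 → ∃ e, φ e = e' := by
    intro t
    induction t with
    | zero =>
      intro e' he'
      rw [pow_zero, one_smul] at he'
      exact ⟨0, by rw [map_zero, he']⟩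
    | succ t ih =>
      intro e' he'
      have h1 : x ^ t • (x • e') = 0 := by
        rw [← mul_smul, ← pow_succ]
        exact he'
      obtain ⟨e, he⟩ := ih _ h1
      obtain ⟨e₁, he₁⟩ := hsurj e
      have h2 : x • (e' - φ e₁) = 0 := by
        rw [smul_sub, ← map_smul, he₁, he, sub_self]
      obtain ⟨t', ht'⟩ := hrb _ h2
      refine ⟨a t' + e₁, ?_⟩
      rw [map_add, hφa, ht', sub_add_cancel]
  exact ⟨hinj, fun e' => by
    obtain ⟨t, ht⟩ := hE' e'
    exact hsur t e' ht⟩

end Torsion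

section Transport

variable {R : Type u} [CommRing R] [IsNoetherianRing R] [IsLocalRing R]
  {E : Type u} [AddCommGroup E] [Module R E]

theorem Inv.congr {P Q P' Q' : Type u} [AddCommGroup P] [Module R P] [AddCommGroup Q] [Module R Q]
    [AddCommGroup P'] [Module R P'] [AddCommGroup Q'] [Module R Q'] {j : ℕ}
    (h : Inv R E P Q j) (eP : P ≃ₗ[R] P') (eQ : Q ≃ₗ[R] Q') : Inv R E P' Q' j := by
  haveI := h.finP
  haveI := h.finQ
  haveI : Module.Finite R P' := Module.Finite.equiv eP
  haveI : Module.Finite R Q' := Module.Finite.equiv eQ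
  obtain ⟨e⟩ := h.dual
  refine ⟨inferInstance, inferInstance, CM.cm_of_linearEquiv eP h.cm, ?_, ?_⟩
  · rw [← Module.supportDim_eq_of_equiv eP]
    exact h.dim
  · exact ⟨(LinearEquiv.congrLeft E R eQ.symm).trans
      (e.trans (lcCongr (IsLocalRing.maximalIdeal R) j eP))⟩

/-- `H^0_m(X) ≃ X` for a module of finite length -/
theorem nonempty_lcZero_equiv_self (X : Type u) [AddCommGroup X] [Module R X]
    (hX : IsFiniteLength R X) :
    Nonempty (LocCoh.H (IsLocalRing.maximalIdeal R) 0 X ≃ₗ[R] X) := by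
  obtain ⟨k, hk⟩ := GorLC.exists_pow_smul_eq_zero_of_finiteLength X hX
  have htop : DRing.torsionSub (IsLocalRing.maximalIdeal R) (ModuleCat.of R X) = ⊤ := by
    rw [eq_top_iff]
    intro x _
    exact ⟨k, fun a ha => hk a ha x⟩
  exact ⟨(LC.zeroEquiv (IsLocalRing.maximalIdeal R) (ModuleCat.of R X)).trans
      ((LinearEquiv.ofEq _ _ htop).trans Submodule.topEquiv)⟩

end Transport

section Claim

variable {R : Type u} [CommRing R] [IsNoetherianRing R] [IsLocalRing R]
  {E : Type u} [AddCommGroup E] [Module R E]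
  {f : (R ⧸ IsLocalRing.maximalIdeal R) →ₗ[R] E} (hf : IsInjectiveHull f)

include hf in
/-- elements killing `P` kill `Q` -/
theorem Inv.ann {P Q : Type u} [AddCommGroup P] [Module R P] [AddCommGroup Q] [Module R Q] {j : ℕ}
    (h : Inv R E P Q j) (r : R) (hr : ∀ p : P, r • p = 0) (q : Q) : r • q = 0 := by
  obtain ⟨e⟩ := h.dual
  have h1 : r ∈ Module.annihilator R (Q →ₗ[R] E) := by
    rw [Module.mem_annihilator]
    intro φ
    apply e.injective
    rw [map_smul, map_zero]
    exact LC.smul_eq_zero_of_smul_eq_zero (M := ModuleCat.of R P) r hr _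
  rw [← IH.annihilator_dual_eq hf Q, Module.mem_annihilator] at h1
  exact h1 q

include hf in
theorem base (I : Ideal R) (Q : Type u) [AddCommGroup Q] [Module R Q]
    (h : Inv R E (R ⧸ I) Q 0) :
    Nonempty (LocCoh.H (IsLocalRing.maximalIdeal R) 0 Q ≃ₗ[R]
      Submodule.torsionBySet R E (I : Set R)) := by
  haveI := h.finP
  haveI := h.finQ
  obtain ⟨e⟩ := h.dual
  have hP : IsFiniteLength R (R ⧸ I) :=
    (SLD.isFiniteLength_iff_supportDim_le_zero R (R ⧸ I)).mpr (le_of_eq h.dim)
  obtain ⟨e0⟩ := nonempty_lcZero_equiv_self (R ⧸ I) hP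
  obtain ⟨k, hk⟩ := GorLC.exists_pow_smul_eq_zero_of_finiteLength (R ⧸ I) hP
  have hQ : IsFiniteLength R Q := by
    apply IH.isFiniteLength_of_powerTorsion
    intro q
    exact ⟨k, fun a ha => h.ann hf a (hk a ha) q⟩
  obtain ⟨eQ⟩ := nonempty_lcZero_equiv_self Q hQ
  have e1 : (Q →ₗ[R] E) ≃ₗ[R] (R ⧸ I) := e.trans e0
  have e2 : Q ≃ₗ[R] ((Q →ₗ[R] E) →ₗ[R] E) :=
    LinearEquiv.ofBijective _ (IH.eval_bijective_of_finiteLength hf Q hQ)
  exact ⟨eQ.trans (e2.trans ((LinearEquiv.congrLeft E R e1).trans (IH.homQuotEquiv I E)))⟩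

omit [IsNoetherianRing R] [IsLocalRing R] in
/-- `(R/I)/a(R/I) ≃ R/(I + (a))` -/
noncomputable def quotQuotEquiv (I : Ideal R) (a : R) :
    QuotSMulTop a (R ⧸ I) ≃ₗ[R] R ⧸ (I ⊔ (a • ⊤ : Submodule R R) : Ideal R) :=
  (Submodule.quotEquivOfEq _ _ (by
    rw [Submodule.map_pointwise_smul, Submodule.map_top, Submodule.range_mkQ])).trans
    (Submodule.quotientQuotientEquivQuotientSup I (a • ⊤ : Submodule R R))

include hf in
theorem claim (j : ℕ) : ∀ (I : Ideal R) (Q : Type u) [AddCommGroup Q] [Module R Q],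
    Inv R E (R ⧸ I) Q j →
      (∀ i < j, Subsingleton (LocCoh.H (IsLocalRing.maximalIdeal R) i Q)) ∧
      Nonempty (LocCoh.H (IsLocalRing.maximalIdeal R) j Q ≃ₗ[R]
        Submodule.torsionBySet R E (I : Set R)) := by
  induction j with
  | zero =>
    intro I Q _ _ h
    exact ⟨fun i hi => absurd hi (Nat.not_lt_zero i), base hf I Q h⟩
  | succ d ih =>
    intro I Q _ _ h
    haveI : Module.Injective R E := hf.isInjective
    haveI := h.finP
    haveI := h.finQ
    haveI := h.nontrivialP
    have hdepth : LocCoh.depth R (R ⧸ I) ≠ 0 := by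
      rw [h.depth]
      exact_mod_cast Nat.succ_ne_zero d
    obtain ⟨a, ha, hreg⟩ := Groth.Agent.H1.AB.exists_isSMulRegular_of_depth_ne_zero (R ⧸ I) hdepth
    obtain ⟨d', hd', hQa, hinv⟩ := stepA hf h a ha hreg
    obtain rfl : d = d' := by omega
    have hinv' := hinv.congr (quotQuotEquiv I a) (LinearEquiv.refl R _)
    obtain ⟨hv, ⟨eIH⟩⟩ := ih _ (QuotSMulTop a Q) hinv'
    have hvan : ∀ i < d + 1, Subsingleton (LocCoh.H (IsLocalRing.maximalIdeal R) i Q) :=
      (Depth.quotSMulTop_vanish_iff (IsLocalRing.maximalIdeal R) Q a ha hQa d).mp hv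
    refine ⟨hvan, ?_⟩
    -- the long exact sequence
    have hreg' : IsSMulRegular (ModuleCat.of R Q) a := hQa
    have hS := hreg'.smulShortComplex_shortExact
    have hfmap : ∀ (i : ℕ) (y : LocCoh.H (IsLocalRing.maximalIdeal R) i Q),
        ((localCohomology (IsLocalRing.maximalIdeal R) i).map
          ((ModuleCat.of R Q).smulShortComplex a).f).hom y = a • y := by
      intro i y
      rw [ModuleCat.smulShortComplex_f_eq_smul_id]
      exact LC.map_smul_id a y
    -- `I'` kills `Q/aQ`
    have hkill : ∀ r ∈ (I ⊔ (a • ⊤ : Submodule R R) : Ideal R), ∀ q : QuotSMulTop a Q,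
        r • q = 0 := by
      intro r hr q
      apply hinv'.ann hf r _ q
      intro p
      obtain ⟨p', rfl⟩ := Ideal.Quotient.mk_surjective p
      change (Ideal.Quotient.mk _ (r * p') : R ⧸ (I ⊔ (a • ⊤ : Submodule R R) : Ideal R)) = 0
      exact Ideal.Quotient.eq_zero_iff_mem.mpr (Ideal.mul_mem_right _ _ hr)
    -- `H^{d+1}(Q/aQ) = 0`
    have hvanQ : Subsingleton (LocCoh.H (IsLocalRing.maximalIdeal R) (d + 1) (QuotSMulTop a Q)) := by
      apply LC.subsingleton_of_supportDim_lt
      have hle : Module.supportDim R (QuotSMulTop a Q) ≤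
          Module.supportDim R (R ⧸ (I ⊔ (a • ⊤ : Submodule R R) : Ideal R)) := by
        apply CM.supportDim_le_of_support_subset
        rw [Module.support_eq_zeroLocus, Module.support_eq_zeroLocus, Ideal.annihilator_quotient]
        apply PrimeSpectrum.zeroLocus_anti_mono
        intro r hr
        exact Module.mem_annihilator.mpr (hkill r hr)
      refine lt_of_le_of_lt hle ?_
      rw [hinv'.dim]
      exact_mod_cast Nat.lt_succ_self d
    let T := LocCoh.H (IsLocalRing.maximalIdeal R) (d + 1) Q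
    let δ : LocCoh.H (IsLocalRing.maximalIdeal R) d (QuotSMulTop a Q) →ₗ[R] T :=
      LC.δ hS (IsLocalRing.maximalIdeal R) d
    have hδ : Function.Injective δ := by
      rw [← LinearMap.ker_eq_bot, eq_bot_iff]
      intro z hz
      rw [LinearMap.mem_ker] at hz
      obtain ⟨y, rfl⟩ := LC.exact₃ hS z hz
      have : y = 0 := (hvan d (Nat.lt_succ_self d)).elim _ _
      rw [this, map_zero]
      exact Submodule.zero_mem _
    have hra : ∀ e : T, a • e = 0 → ∃ t, δ t = e := by
      intro e he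
      exact LC.exact₁ hS e ((hfmap _ e).trans he)
    have hsurj : ∀ e : T, ∃ e₁ : T, a • e₁ = e := by
      intro e
      obtain ⟨e₁, he₁⟩ := LC.exact₂ hS (I := IsLocalRing.maximalIdeal R) (i := d + 1) e
        (hvanQ.elim _ _)
      exact ⟨e₁, (hfmap _ e₁).symm.trans he₁⟩
    have hE : ∀ e : T, ∃ t : ℕ, a ^ t • e = 0 := by
      intro e
      obtain ⟨k, hk⟩ := LC.isPowerTorsion (IsLocalRing.maximalIdeal R) (d + 1) (ModuleCat.of R Q) e
      exact ⟨k, hk _ (Ideal.pow_mem_pow ha k)⟩
    have hE' : ∀ e : Submodule.torsionBySet R E (I : Set R), ∃ t : ℕ, a ^ t • e = 0 := by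
      intro e
      obtain ⟨k, hk⟩ := IH.powerTorsion_of_hull (IsLocalRing.maximalIdeal R) hf (e : E)
      exact ⟨k, Subtype.ext (hk _ (Ideal.pow_mem_pow ha k))⟩
    -- the map `b`
    have hle : Submodule.torsionBySet R E ((I ⊔ (a • ⊤ : Submodule R R) : Ideal R) : Set R) ≤
        Submodule.torsionBySet R E (I : Set R) := by
      intro y hy
      rw [Submodule.mem_torsionBySet_iff] at hy ⊢
      rintro ⟨r, hr⟩
      exact hy ⟨r, (le_sup_left : I ≤ _) hr⟩
    let b : LocCoh.H (IsLocalRing.maximalIdeal R) d (QuotSMulTop a Q) →ₗ[R]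
        Submodule.torsionBySet R E (I : Set R) :=
      (Submodule.inclusion hle) ∘ₗ eIH.toLinearMap
    have hb : Function.Injective b :=
      (Submodule.inclusion_injective hle).comp eIH.injective
    have hrb : ∀ e : Submodule.torsionBySet R E (I : Set R), a • e = 0 → ∃ t, b t = e := by
      intro e he
      have hmem : (e : E) ∈ Submodule.torsionBySet R E
          ((I ⊔ (a • ⊤ : Submodule R R) : Ideal R) : Set R) := by
        rw [Submodule.mem_torsionBySet_iff]
        rintro ⟨r, hr⟩
        obtain ⟨r₁, hr₁, r₂, hr₂, rfl⟩ := Submodule.mem_sup.mp hr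
        change (r₁ + r₂) • (e : E) = 0
        rw [add_smul]
        have h1 : r₁ • (e : E) = 0 := (Submodule.mem_torsionBySet_iff _ _).mp e.2 ⟨r₁, hr₁⟩
        obtain ⟨c, -, rfl⟩ := (Submodule.mem_smul_pointwise_iff_exists _ _ _).mp hr₂
        have h2 : (a • c) • (e : E) = 0 := by
          rw [smul_eq_mul, mul_comm, mul_smul]
          have := congrArg Subtype.val he
          change a • (e : E) = 0 at this
          rw [this, smul_zero]
        rw [h1, h2, add_zero]
      refine ⟨eIH.symm ⟨e, hmem⟩, ?_⟩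
      apply Subtype.ext
      change ((eIH (eIH.symm ⟨e, hmem⟩) : Submodule.torsionBySet R E _) : E) = e
      rw [eIH.apply_symm_apply]
    -- the extension
    obtain ⟨ψ, hψ⟩ := Module.Injective.extension_property R E _ _ δ hδ
      ((Submodule.torsionBySet R E (I : Set R)).subtype ∘ₗ b)
    have hψmem : ∀ t : T, ψ t ∈ Submodule.torsionBySet R E (I : Set R) := by
      intro t
      rw [Submodule.mem_torsionBySet_iff]
      rintro ⟨r, hr⟩
      change r • ψ t = 0
      rw [← map_smul]
      have : r • t = 0 := by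
        refine LC.smul_eq_zero_of_smul_eq_zero (M := ModuleCat.of R Q) r (fun q => ?_) t
        apply h.ann hf r _ q
        intro p
        obtain ⟨p', rfl⟩ := Ideal.Quotient.mk_surjective p
        change (Ideal.Quotient.mk _ (r * p') : R ⧸ I) = 0
        exact Ideal.Quotient.eq_zero_iff_mem.mpr (Ideal.mul_mem_right _ _ hr)
      rw [this, map_zero]
    let φ : T →ₗ[R] Submodule.torsionBySet R E (I : Set R) := ψ.codRestrict _ hψmem
    have hφa : ∀ t, φ (δ t) = b t := by
      intro t
      apply Subtype.ext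
      exact LinearMap.congr_fun hψ t
    exact ⟨LinearEquiv.ofBijective φ
      (bijective_of_torsion a hE hE' hsurj δ b hb hra hrb φ hφa)⟩

end Claim

section Final

variable {A : Type u} [CommRing A] [hCM : LocCoh.IsCohenMacaulayLocalRing A] (n : ℕ)
  (hn : ringKrullDim A = (n : WithBot ℕ∞))
  (E K : Type u) [AddCommGroup E] [Module A E]
  (f : IsLocalRing.ResidueField A →ₗ[A] E) (hf : IsInjectiveHull f)
  [AddCommGroup K] [Module A K] [Module.Finite A K]
  (eK : (K →ₗ[A] E) ≃ₗ[A] LocCoh.H (IsLocalRing.maximalIdeal A) n A)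

include hn hf eK in
/-- the top local cohomology of a canonical module is an injective hull of the residue field -/
theorem lc_can_equiv_hull : Nonempty (LocCoh.H (IsLocalRing.maximalIdeal A) n K ≃ₗ[A] E) := by
  have h0 := inv_can n hn E K eK
  have h1 := h0.congr (Submodule.quotEquivOfEqBot (⊥ : Ideal A) rfl).symm (LinearEquiv.refl A K)
  obtain ⟨-, ⟨e⟩⟩ := claim hf n ⊥ K h1
  have htop : Submodule.torsionBySet A E ((⊥ : Ideal A) : Set A) = ⊤ := by
    rw [eq_top_iff]
    intro x _
    rw [Submodule.mem_torsionBySet_iff]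
    rintro ⟨r, hr⟩
    have hr0 : r = 0 := hr
    change r • x = 0
    rw [hr0, zero_smul]
  exact ⟨e.trans ((LinearEquiv.ofEq _ _ htop).trans Submodule.topEquiv)⟩

include hn hf eK in
/-- `End(K) ≃ A` abstractly -/
theorem end_can_equiv_self : Nonempty ((K →ₗ[A] K) ≃ₗ[A] A) := by
  haveI : Module.Injective A E := hf.isInjective
  obtain ⟨e⟩ := lc_can_equiv_hull n hn E K f hf eK
  have e1 := EW.canEquiv (IsLocalRing.maximalIdeal A) n (le_of_eq hn) E K eK K
  exact Can.equiv_self_of_dual_equiv hf (K →ₗ[A] K) (e1.symm.trans e)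

include hn hf eK in
/-- **S7703** -/
theorem can_end_bijective :
    Function.Bijective (fun r : A => r • (LinearMap.id : K →ₗ[A] K)) := by
  obtain ⟨φ⟩ := end_can_equiv_self n hn E K f hf eK
  set g₀ : K →ₗ[A] K := φ.symm 1 with hg₀
  have hgen : ∀ g : K →ₗ[A] K, g = φ g • g₀ := by
    intro g
    apply φ.injective
    rw [map_smul, hg₀, φ.apply_symm_apply, smul_eq_mul, mul_one]
  set r₀ : A := φ LinearMap.id with hr₀
  set s : A := φ (g₀ ∘ₗ g₀) with hs
  have h1 : g₀ = (r₀ * s) • g₀ := by
    have hid := hgen LinearMap.id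
    have hgg := hgen (g₀ ∘ₗ g₀)
    rw [← hr₀] at hid
    rw [← hs] at hgg
    calc g₀ = g₀ ∘ₗ LinearMap.id := (LinearMap.comp_id g₀).symm
      _ = g₀ ∘ₗ (r₀ • g₀) := by rw [← hid]
      _ = r₀ • (g₀ ∘ₗ g₀) := LinearMap.comp_smul _ _ _
      _ = r₀ • (s • g₀) := by rw [← hgg]
      _ = (r₀ * s) • g₀ := by rw [mul_smul]
  have h2 : r₀ * s = 1 := by
    have := congrArg φ h1
    rw [map_smul, hg₀, φ.apply_symm_apply, smul_eq_mul, mul_one] at this
    exact this.symm
  constructor
  · intro r r' hrr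
    have h3 : φ (r • LinearMap.id) = φ (r' • LinearMap.id) := congrArg φ hrr
    rw [map_smul, map_smul, ← hr₀, smul_eq_mul, smul_eq_mul] at h3
    calc r = r * (r₀ * s) := by rw [h2, mul_one]
      _ = (r * r₀) * s := by ring
      _ = (r' * r₀) * s := by rw [h3]
      _ = r' * (r₀ * s) := by ring
      _ = r' := by rw [h2, mul_one]
  · intro g
    refine ⟨φ g * s, ?_⟩
    have hid := hgen LinearMap.id
    rw [← hr₀] at hid
    change (φ g * s) • (LinearMap.id : K →ₗ[A] K) = g
    conv_rhs => rw [hgen g]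
    rw [mul_smul]
    congr 1
    rw [hid, ← mul_smul, mul_comm, h2, one_smul]

end Final

end Groth.Agent.H6.CanQ
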