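import Mathlib
import Groth.Agent.Lib.Helper6.CanHull

universe u
set_option linter.style.haveILetI false
open CategoryTheory CategoryTheory.Abelian InjHull
open scoped Pointwise

namespace Groth.Agent.H6.CanS

section TopSurj

variable {R : Type u} [CommRing R] [IsNoetherianRing R] [IsLocalRing R]

/-- the short exact sequence `0 → range f → N → N/range f → 0` -/
theorem range_shortExact {M N : Type u} [AddCommGroup M] [Module R M] [AddCommGroup N] [Module R N]
    (f : M →ₗ[R] N) :
    (ModuleCat.shortComplexOfCompEqZero (LinearMap.range f).subtype (LinearMap.range f).mkQ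
      (by ext x; simp)).ShortExact := by
  apply ModuleCat.shortComplex_shortExact
  · intro (x : N)
    change (LinearMap.range f).mkQ x = 0 ↔ ∃ y : LinearMap.range f, (y : N) = x
    rw [Submodule.mkQ_apply, Submodule.Quotient.mk_eq_zero]
    constructor
    · intro hx
      exact ⟨⟨x, hx⟩, rfl⟩
    · rintro ⟨y, rfl⟩
      exact y.2
  · exact Subtype.val_injective
  · exact Submodule.mkQ_surjective _

/-- if the top local cohomology of `M/aM` vanishes then `a` is surjective on the top local
cohomology of `M` -/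
theorem smul_surjective_top (M : Type u) [AddCommGroup M] [Module R M] [Module.Finite R M]
    (d : ℕ) (hdim : Module.supportDim R M ≤ (d : WithBot ℕ∞)) (a : R)
    (hvan : Subsingleton (LocCoh.H (IsLocalRing.maximalIdeal R) d
      (M ⧸ LinearMap.range (LinearMap.lsmul R M a))))
    (y : LocCoh.H (IsLocalRing.maximalIdeal R) d M) : ∃ x, a • x = y := by
  set f : M →ₗ[R] M := LinearMap.lsmul R M a with hf
  have hker : Subsingleton (LocCoh.H (IsLocalRing.maximalIdeal R) (d + 1) (LinearMap.ker f)) := by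
    apply LC.subsingleton_of_supportDim_lt
    refine lt_of_le_of_lt ((Module.supportDim_le_of_injective (LinearMap.ker f).subtype
      Subtype.val_injective).trans hdim) ?_
    exact_mod_cast Nat.lt_succ_self d
  have h1 := LC.map_rangeRestrict_surjective (I := IsLocalRing.maximalIdeal R) f d hker
  have hS := range_shortExact f
  have h2 := LC.map_f_surjective (I := IsLocalRing.maximalIdeal R) hS d hvan
  obtain ⟨z, hz⟩ := h2 y
  obtain ⟨x, hx⟩ := h1 z
  refine ⟨x, ?_⟩
  rw [← hz, ← hx]
  have hcomp : ModuleCat.ofHom f.rangeRestrict ≫ ModuleCat.ofHom (LinearMap.range f).subtype =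
      a • 𝟙 (ModuleCat.of R M) := by
    ext m
    rfl
  have := LC.map_smul_id (I := IsLocalRing.maximalIdeal R) (i := d) (M := ModuleCat.of R M) a x
  rw [← hcomp, Functor.map_comp] at this
  exact this.symm

/-- dimension of a module killed by part of a system of parameters -/
theorem supportDim_le_of_sop {n : ℕ} (a : Fin n → R)
    (ha : ∀ i, a i ∈ IsLocalRing.maximalIdeal R)
    (hsop : IsLocalRing.maximalIdeal R ≤ (Ideal.span (Set.range a)).radical)
    (M : Type u) [AddCommGroup M] [Module R M] [Module.Finite R M] (k : ℕ) (hk : k ≤ n)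
    (hkill : ∀ i : Fin n, (i : ℕ) < k → ∀ x : M, a i • x = 0) :
    Module.supportDim R M ≤ ((n - k : ℕ) : WithBot ℕ∞) := by
  set xs : List R := List.ofFn (fun i : Fin (n - k) => a ⟨k + i, by omega⟩) with hxs
  have hlen : xs.length = n - k := List.length_ofFn
  have hmem : ∀ x ∈ xs, x ∈ IsLocalRing.maximalIdeal R := by
    intro x hx
    rw [hxs, List.mem_ofFn] at hx
    obtain ⟨i, rfl⟩ := hx
    exact ha _
  have h1 := CM.supportDim_le_add_length xs M hmem
  have hX : ∀ (j : Fin n) (x : M ⧸ (Ideal.ofList xs • (⊤ : Submodule R M))), a j • x = 0 := by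
    intro j x
    obtain ⟨m', rfl⟩ := Submodule.Quotient.mk_surjective _ x
    rw [← Submodule.Quotient.mk_smul, Submodule.Quotient.mk_eq_zero]
    by_cases hj : (j : ℕ) < k
    · rw [hkill j hj m']
      exact Submodule.zero_mem _
    · refine Submodule.smul_mem_smul (Ideal.subset_span ?_) Submodule.mem_top
      change a j ∈ xs
      rw [hxs, List.mem_ofFn]
      refine ⟨⟨(j : ℕ) - k, by omega⟩, ?_⟩
      congr 1
      apply Fin.ext
      change k + ((j : ℕ) - k) = j
      omega
  obtain ⟨N, hN⟩ := Ideal.exists_pow_le_of_le_radical_of_fg hsop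
    (IsNoetherian.noetherian (IsLocalRing.maximalIdeal R))
  have hkillJ : ∀ r ∈ Ideal.span (Set.range a),
      ∀ x : M ⧸ (Ideal.ofList xs • (⊤ : Submodule R M)), r • x = 0 := by
    intro r hr x
    induction hr using Submodule.span_induction with
    | mem r hr =>
      obtain ⟨j, rfl⟩ := hr
      exact hX j x
    | zero => exact zero_smul _ _
    | add r s _ _ hr hs => rw [add_smul, hr, hs, add_zero]
    | smul c r _ hr => rw [smul_eq_mul, mul_smul, hr, smul_zero]
  have hfl : IsFiniteLength R (M ⧸ (Ideal.ofList xs • (⊤ : Submodule R M))) := by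
    apply IH.isFiniteLength_of_powerTorsion
    intro x
    exact ⟨N, fun r hr => hkillJ r (hN hr) x⟩
  have h0 := (SLD.isFiniteLength_iff_supportDim_le_zero R _).mp hfl
  rw [hlen] at h1
  calc Module.supportDim R M ≤ _ := h1
    _ ≤ 0 + ((n - k : ℕ) : WithBot ℕ∞) := add_le_add_left h0 _
    _ = _ := zero_add _

end TopSurj

section Main

variable {R : Type u} [CommRing R] [IsNoetherianRing R] [IsLocalRing R]

/-- `a₀` is surjective on `H^n_m(R)` -/
theorem sop_surjective_zero (n : ℕ) (hn : ringKrullDim R = (n : WithBot ℕ∞))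
    (a : Fin n → R) (ha : ∀ i, a i ∈ IsLocalRing.maximalIdeal R)
    (hsop : IsLocalRing.maximalIdeal R ≤ (Ideal.span (Set.range a)).radical) (hn0 : 0 < n)
    (t : LocCoh.H (IsLocalRing.maximalIdeal R) n R) : ∃ t', a ⟨0, hn0⟩ • t' = t := by
  apply smul_surjective_top R n (by rw [Module.supportDim_self_eq_ringKrullDim, hn])
  apply LC.subsingleton_of_supportDim_lt
  refine lt_of_le_of_lt (supportDim_le_of_sop a ha hsop _ 1 hn0 ?_) ?_
  · intro i hi x
    obtain ⟨r, rfl⟩ := Submodule.Quotient.mk_surjective _ x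
    rw [← Submodule.Quotient.mk_smul, Submodule.Quotient.mk_eq_zero]
    have hi0 : i = ⟨0, hn0⟩ := Fin.ext (by change (i : ℕ) = 0; omega)
    rw [hi0]
    exact ⟨r, rfl⟩
  · have : n - 1 < n := by omega
    exact_mod_cast this

/-- `a₁` is surjective on the `a₀`-torsion of `H^n_m(R)` -/
theorem sop_surjective_one (n : ℕ) (hn : ringKrullDim R = (n : WithBot ℕ∞))
    (a : Fin n → R) (ha : ∀ i, a i ∈ IsLocalRing.maximalIdeal R)
    (hsop : IsLocalRing.maximalIdeal R ≤ (Ideal.span (Set.range a)).radical) (h2 : 2 ≤ n)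
    (t : LocCoh.H (IsLocalRing.maximalIdeal R) n R) (ht : a ⟨0, by omega⟩ • t = 0) :
    ∃ t' : LocCoh.H (IsLocalRing.maximalIdeal R) n R,
      a ⟨0, by omega⟩ • t' = 0 ∧ a ⟨1, by omega⟩ • t' = t := by
  obtain ⟨d, rfl⟩ : ∃ d, n = d + 1 := ⟨n - 1, by omega⟩
  have hd : 1 ≤ d := by omega
  set a₀ : R := a ⟨0, by omega⟩ with ha₀
  set a₁ : R := a ⟨1, by omega⟩ with ha₁
  set f₀ : R →ₗ[R] R := LinearMap.lsmul R R a₀ with hf₀
  -- the two short exact sequences
  have hSA := LinearMap.shortExact_shortComplexKer (f := f₀.rangeRestrict)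
    f₀.surjective_rangeRestrict
  have hSB := range_shortExact f₀
  -- dimension estimates
  have hdimJ : Module.supportDim R (LinearMap.ker f₀.rangeRestrict) ≤ (d : WithBot ℕ∞) := by
    refine supportDim_le_of_sop a ha hsop _ 1 (by omega) ?_
    intro i hi x
    have hi0 : i = ⟨0, by omega⟩ := Fin.ext (by change (i : ℕ) = 0; omega)
    rw [hi0]
    apply Subtype.ext
    have hx := LinearMap.mem_ker.mp x.2
    have hx' := congrArg Subtype.val hx
    exact hx'
  have hkillA : ∀ (i : Fin (d + 1)), (i : ℕ) < 1 → ∀ x : R ⧸ LinearMap.range f₀,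
      a i • x = 0 := by
    intro i hi x
    obtain ⟨r, rfl⟩ := Submodule.Quotient.mk_surjective _ x
    rw [← Submodule.Quotient.mk_smul, Submodule.Quotient.mk_eq_zero]
    have hi0 : i = ⟨0, by omega⟩ := Fin.ext (by change (i : ℕ) = 0; omega)
    rw [hi0]
    exact ⟨r, rfl⟩
  have hdimA : Module.supportDim R (R ⧸ LinearMap.range f₀) ≤ (d : WithBot ℕ∞) :=
    supportDim_le_of_sop a ha hsop _ 1 (by omega) hkillA
  have hdimA2 : Module.supportDim R ((R ⧸ LinearMap.range f₀) ⧸
      LinearMap.range (LinearMap.lsmul R (R ⧸ LinearMap.range f₀) a₁)) ≤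
      ((d - 1 : ℕ) : WithBot ℕ∞) := by
    refine supportDim_le_of_sop a ha hsop _ 2 h2 ?_
    intro i hi x
    obtain ⟨r, rfl⟩ := Submodule.Quotient.mk_surjective _ x
    by_cases hi0 : (i : ℕ) < 1
    · rw [← Submodule.Quotient.mk_smul, hkillA i hi0 r, Submodule.Quotient.mk_zero]
    · rw [← Submodule.Quotient.mk_smul, Submodule.Quotient.mk_eq_zero]
      have hi1 : i = ⟨1, by omega⟩ := Fin.ext (by change (i : ℕ) = 1; omega)
      rw [hi1]
      exact ⟨r, rfl⟩
  -- `π` is bijective
  have hπs := LC.map_rangeRestrict_surjective (I := IsLocalRing.maximalIdeal R) f₀ (d + 1) (by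
    apply LC.subsingleton_of_supportDim_lt
    refine lt_of_le_of_lt ((Module.supportDim_le_of_injective (LinearMap.ker f₀).subtype
      Subtype.val_injective).trans (Module.supportDim_le_ringKrullDim R R)) ?_
    rw [hn]
    exact_mod_cast Nat.lt_succ_self (d + 1))
  have hπi : ∀ t : LocCoh.H (IsLocalRing.maximalIdeal R) (d + 1) R,
      ((localCohomology (IsLocalRing.maximalIdeal R) (d + 1)).map
        (ModuleCat.ofHom f₀.rangeRestrict)).hom t = 0 → t = 0 := by
    intro t h0
    obtain ⟨z, rfl⟩ := LC.exact₂ hSA (I := IsLocalRing.maximalIdeal R) (i := d + 1) t h0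
    have hz : Subsingleton (LocCoh.H (IsLocalRing.maximalIdeal R) (d + 1)
        (LinearMap.ker f₀.rangeRestrict)) := by
      apply LC.subsingleton_of_supportDim_lt
      refine lt_of_le_of_lt hdimJ ?_
      exact_mod_cast Nat.lt_succ_self d
    rw [hz.elim z 0, map_zero]
  have hcomp : ModuleCat.ofHom f₀.rangeRestrict ≫ ModuleCat.ofHom (LinearMap.range f₀).subtype =
      a₀ • 𝟙 (ModuleCat.of R R) := by
    ext m
    rfl
  have hιπ : ∀ t : LocCoh.H (IsLocalRing.maximalIdeal R) (d + 1) R,
      ((localCohomology (IsLocalRing.maximalIdeal R) (d + 1)).map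
        (ModuleCat.ofHom (LinearMap.range f₀).subtype)).hom
        (((localCohomology (IsLocalRing.maximalIdeal R) (d + 1)).map
          (ModuleCat.ofHom f₀.rangeRestrict)).hom t) = a₀ • t := by
    intro t
    have := LC.map_smul_id (I := IsLocalRing.maximalIdeal R) (i := d + 1)
      (M := ModuleCat.of R R) a₀ t
    rw [← hcomp, Functor.map_comp] at this
    exact this
  -- `a₁` is surjective on `H^d(R/a₀)`
  have hsurjA : ∀ y : LocCoh.H (IsLocalRing.maximalIdeal R) d (R ⧸ LinearMap.range f₀),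
      ∃ y', a₁ • y' = y := by
    intro y
    apply smul_surjective_top (R ⧸ LinearMap.range f₀) d hdimA a₁
    apply LC.subsingleton_of_supportDim_lt
    refine lt_of_le_of_lt hdimA2 ?_
    have : d - 1 < d := by omega
    exact_mod_cast this
  -- the diagram chase
  have h1 := hιπ t
  rw [ht] at h1
  obtain ⟨y, hy⟩ := LC.exact₁ hSB (I := IsLocalRing.maximalIdeal R) (i := d) _ h1
  obtain ⟨y', rfl⟩ := hsurjA y
  obtain ⟨t', ht'⟩ := hπs (LC.δ hSB (IsLocalRing.maximalIdeal R) d y')
  refine ⟨t', ?_, ?_⟩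
  · rw [← hιπ t', ht']
    exact LC.map_δ hSB y'
  · have h3 : ((localCohomology (IsLocalRing.maximalIdeal R) (d + 1)).map
        (ModuleCat.ofHom f₀.rangeRestrict)).hom (a₁ • t' - t) = 0 := by
      rw [map_sub, map_smul, ht', ← hy, map_smul, sub_self]
    exact sub_eq_zero.mp (hπi _ h3)

open RingTheory.Sequence in
/-- **S7693** -/
theorem can_sop (n : ℕ) (hn : ringKrullDim R = (n : WithBot ℕ∞))
    (E : Type u) [AddCommGroup E] [Module R E]
    (f : IsLocalRing.ResidueField R →ₗ[R] E) (hf : IsInjectiveHull f)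
    (K : Type u) [AddCommGroup K] [Module R K] [Module.Finite R K]
    (eK : (K →ₗ[R] E) ≃ₗ[R] LocCoh.H (IsLocalRing.maximalIdeal R) n R) (hn0 : 0 < n)
    (a : Fin n → R) (ha : ∀ i, a i ∈ IsLocalRing.maximalIdeal R)
    (hsop : IsLocalRing.maximalIdeal R ≤ (Ideal.span (Set.range a)).radical) :
    IsSMulRegular K (a ⟨0, hn0⟩) ∧
      (∀ h2 : 2 ≤ n, IsRegular K [a ⟨0, hn0⟩, a ⟨1, h2⟩]) := by
  haveI : Module.Injective R E := hf.isInjective
  have hreg0 : IsSMulRegular K (a ⟨0, hn0⟩) := by
    apply CanQ.isSMulRegular_of_dual_smul_surjective hf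
    intro φ
    obtain ⟨t', ht'⟩ := sop_surjective_zero n hn a ha hsop hn0 (eK φ)
    exact ⟨eK.symm t', by rw [← map_smul, ht', eK.symm_apply_apply]⟩
  refine ⟨hreg0, fun h2 => ?_⟩
  haveI hKnt : Nontrivial K := by
    have h1 : Nontrivial (LocCoh.H (IsLocalRing.maximalIdeal R) n R) :=
      LC.nontrivial_H_of_supportDim_eq n R (by rw [Module.supportDim_self_eq_ringKrullDim, hn])
    have h2 : Nontrivial (K →ₗ[R] E) := eK.toEquiv.nontrivial
    by_contra hK
    rw [not_nontrivial_iff_subsingleton] at hK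
    haveI := hK
    exact not_subsingleton (K →ₗ[R] E) ⟨fun a b => LinearMap.ext fun x => by
      rw [Subsingleton.elim x 0, map_zero, map_zero]⟩
  apply IsRegular.of_isWeaklyRegular_of_mem_maximalIdeal K
  · intro r hr
    simp only [List.mem_cons, List.not_mem_nil, or_false] at hr
    rcases hr with rfl | rfl
    · exact ha _
    · exact ha _
  rw [isWeaklyRegular_cons_iff, isWeaklyRegular_cons_iff]
  refine ⟨hreg0, ?_, IsWeaklyRegular.nil _ _⟩
  set a₀ : R := a ⟨0, hn0⟩ with ha₀
  apply CanQ.isSMulRegular_of_dual_smul_surjective hf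
  intro φ
  have e1 := LD.dualCokerEquiv (LinearMap.lsmul R K a₀) (a₀ • (⊤ : Submodule R K)).mkQ
    (Submodule.mkQ_surjective _)
    ((LinearMap.exact_iff).mp (LinearMap.exact_lsmul_mkQ_smul_top K a₀)) E
  have e2 := LD.kerEquiv eK (LinearMap.lcomp R E (LinearMap.lsmul R K a₀))
    (LinearMap.lsmul R (LocCoh.H (IsLocalRing.maximalIdeal R) n R) a₀) (by
      intro φ
      have h1 : LinearMap.lcomp R E (LinearMap.lsmul R K a₀) φ = a₀ • φ := by
        ext q
        change φ (a₀ • q) = a₀ • φ q
        rw [map_smul]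
      rw [h1]
      change a₀ • φ = 0 ↔ a₀ • eK φ = 0
      rw [← map_smul]
      exact (LinearEquiv.map_eq_zero_iff eK).symm)
  set e := e1.trans e2 with he
  have hτ : a₀ • ((e φ : LinearMap.ker (LinearMap.lsmul R
      (LocCoh.H (IsLocalRing.maximalIdeal R) n R) a₀)) :
      LocCoh.H (IsLocalRing.maximalIdeal R) n R) = 0 := LinearMap.mem_ker.mp (e φ).2
  obtain ⟨t', ht'0, ht'1⟩ := sop_surjective_one n hn a ha hsop h2 _ hτ
  refine ⟨e.symm ⟨t', LinearMap.mem_ker.mpr ht'0⟩, ?_⟩
  rw [← map_smul]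
  apply e.injective
  rw [e.apply_symm_apply]
  exact Subtype.ext ht'1

end Main

end Groth.Agent.H6.CanS
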