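import Mathlib
import Groth.Agent.Lib.Helper6.CanSop
import Groth.Agent.Lib.Helper6.EWCompare

universe u
set_option linter.style.haveILetI false
open CategoryTheory CategoryTheory.Abelian InjHull TensorProduct
open scoped Pointwise

namespace Groth.Agent.H6.CanA

section Dual

variable {R : Type u} [CommRing R] [IsNoetherianRing R] [IsLocalRing R]
  {E : Type u} [AddCommGroup E] [Module R E]
  {f : (R ⧸ IsLocalRing.maximalIdeal R) →ₗ[R] E} (hf : IsInjectiveHull f)

include hf in
omit [IsNoetherianRing R] in
/-- if `p D(K) = D(K)` then no nonzero element of `K` is killed by `p` -/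
theorem eq_zero_of_smul_top_eq_top (K : Type u) [AddCommGroup K] [Module R K] (p : Ideal R)
    (h : p • (⊤ : Submodule R (K →ₗ[R] E)) = ⊤) (k : K) (hk : ∀ r ∈ p, r • k = 0) : k = 0 := by
  haveI : Module.Injective R E := hf.isInjective
  by_contra hne
  obtain ⟨φ, hφ⟩ := IH.exists_hom_apply_ne_zero f hf.injective hne
  apply hφ
  have hmem : φ ∈ p • (⊤ : Submodule R (K →ₗ[R] E)) := by rw [h]; trivial
  refine Submodule.smul_induction_on hmem (fun r hr ψ _ => ?_) (fun x y hx hy => ?_)
  · rw [LinearMap.smul_apply, ← map_smul, hk r hr, map_zero]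
  · rw [LinearMap.add_apply, hx, hy, add_zero]

omit [IsLocalRing R] in
/-- if no nonzero element of `K` is killed by `p` then `p D(K) = D(K)` -/
theorem smul_top_eq_top_of_forall [Module.Injective R E] (K : Type u) [AddCommGroup K] [Module R K]
    (p : Ideal R) (h : ∀ k : K, (∀ r ∈ p, r • k = 0) → k = 0) :
    p • (⊤ : Submodule R (K →ₗ[R] E)) = ⊤ := by
  classical
  obtain ⟨s, hs⟩ := (IsNoetherian.noetherian p : p.FG)
  let j : K →ₗ[R] (s → K) := LinearMap.pi (fun x => LinearMap.lsmul R K (x : R))
  have hj : Function.Injective j := by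
    rw [← LinearMap.ker_eq_bot, eq_bot_iff]
    intro k hk
    rw [LinearMap.mem_ker] at hk
    rw [Submodule.mem_bot]
    apply h
    intro r hr
    rw [← hs] at hr
    induction hr using Submodule.span_induction with
    | mem r hr =>
      have := congrFun hk ⟨r, hr⟩
      exact this
    | zero => exact zero_smul _ _
    | add r t _ _ hr ht => rw [add_smul, hr, ht, add_zero]
    | smul c r _ hr => rw [smul_eq_mul, mul_smul, hr, smul_zero]
  rw [eq_top_iff]
  intro φ _
  obtain ⟨Φ, hΦ⟩ := Module.Injective.extension_property R E _ _ j hj φ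
  have hφ : φ = ∑ x : s, (x : R) • (Φ ∘ₗ LinearMap.single R (fun _ : s => K) x) := by
    ext k
    rw [← hΦ, LinearMap.comp_apply, LinearMap.sum_apply]
    have hjk : j k = ∑ x : s, LinearMap.single R (fun _ : s => K) x ((x : R) • k) := by
      ext y
      rw [Finset.sum_apply]
      simp only [LinearMap.single_apply]
      rw [Finset.sum_eq_single y]
      · simp [j]
      · intro b _ hb
        exact Pi.single_eq_of_ne hb.symm _
      · intro hy
        exact absurd (Finset.mem_univ y) hy
    rw [hjk, map_sum]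
    apply Finset.sum_congr rfl
    intro x _
    rw [LinearMap.smul_apply, LinearMap.comp_apply, ← map_smul, ← map_smul]
  rw [hφ]
  apply Submodule.sum_mem
  intro x _
  exact Submodule.smul_mem_smul (hs ▸ Ideal.subset_span x.2) Submodule.mem_top

end Dual

section Main

variable {R : Type u} [CommRing R] [IsNoetherianRing R] [IsLocalRing R] (n : ℕ)
  (hn : ringKrullDim R = (n : WithBot ℕ∞))

include hn in
/-- `p T ≠ T` for the top local cohomology `T` when `dim R/p = n` -/
theorem smul_top_ne_top_of_dim_eq (p : Ideal R)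
    (hp : ringKrullDim (R ⧸ p) = (n : WithBot ℕ∞)) :
    p • (⊤ : Submodule R (LocCoh.H (IsLocalRing.maximalIdeal R) n R)) ≠ ⊤ := by
  intro htop
  haveI hnt : Nontrivial (LocCoh.H (IsLocalRing.maximalIdeal R) n (R ⧸ p)) :=
    LC.nontrivial_H_of_supportDim_eq n (R ⧸ p)
      (by rw [Module.supportDim_quotient_eq_ringKrullDim, hp])
  have hπ : Function.Surjective (Submodule.mkQ p) := Submodule.mkQ_surjective p
  have hS := LinearMap.shortExact_shortComplexKer hπ
  have hker : Subsingleton (LocCoh.H (IsLocalRing.maximalIdeal R) (n + 1)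
      (LinearMap.ker (Submodule.mkQ p))) := by
    apply LC.subsingleton_of_supportDim_lt
    refine lt_of_le_of_lt (Module.supportDim_le_ringKrullDim R _) ?_
    rw [hn]
    exact_mod_cast Nat.lt_succ_self n
  have hsurj := LC.map_g_surjective (I := IsLocalRing.maximalIdeal R) hS n hker
  apply not_subsingleton (LocCoh.H (IsLocalRing.maximalIdeal R) n (R ⧸ p))
  have h0 : ∀ z : LocCoh.H (IsLocalRing.maximalIdeal R) n (R ⧸ p), z = 0 := by
    intro z
    obtain ⟨t, rfl⟩ := hsurj z
    have hmem : t ∈ p • (⊤ : Submodule R (LocCoh.H (IsLocalRing.maximalIdeal R) n R)) := by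
      rw [htop]; trivial
    refine Submodule.smul_induction_on hmem (fun r hr t' _ => ?_) (fun x y hx hy => ?_)
    · rw [map_smul]
      refine LC.smul_eq_zero_of_smul_eq_zero (M := ModuleCat.of R (R ⧸ p)) r (fun m => ?_) _
      obtain ⟨m', rfl⟩ := Ideal.Quotient.mk_surjective m
      change (Ideal.Quotient.mk p (r * m') : R ⧸ p) = 0
      exact Ideal.Quotient.eq_zero_iff_mem.mpr (Ideal.mul_mem_right _ _ hr)
    · rw [map_add, hx, hy, add_zero]
  exact ⟨fun a b => by rw [h0 a, h0 b]⟩

include hn in
/-- `p T = T` for the top local cohomology `T` when `dim R/p < n` -/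
theorem smul_top_eq_top_of_dim_lt (p : Ideal R)
    (hp : ringKrullDim (R ⧸ p) < (n : WithBot ℕ∞)) :
    p • (⊤ : Submodule R (LocCoh.H (IsLocalRing.maximalIdeal R) n R)) = ⊤ := by
  have hvan : Subsingleton (LocCoh.H (IsLocalRing.maximalIdeal R) n (R ⧸ p)) := by
    apply LC.subsingleton_of_supportDim_lt
    rw [Module.supportDim_quotient_eq_ringKrullDim]
    exact hp
  have hbij := EW.nu_bijective (localCohomology (IsLocalRing.maximalIdeal R) n)
    (EW.lc_rightExactFin (IsLocalRing.maximalIdeal R) n (le_of_eq hn)) (R ⧸ p)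
  have hsub : Subsingleton ((R ⧸ p) ⊗[R] LocCoh.H (IsLocalRing.maximalIdeal R) n R) :=
    ⟨fun a b => hbij.1 (hvan.elim _ _)⟩
  have hsub' : Subsingleton (LocCoh.H (IsLocalRing.maximalIdeal R) n R ⧸
      (p • (⊤ : Submodule R (LocCoh.H (IsLocalRing.maximalIdeal R) n R)))) :=
    (TensorProduct.quotTensorEquivQuotSMul _ p).symm.toEquiv.subsingleton
  exact Submodule.Quotient.subsingleton_iff.mp hsub'

include hn in
/-- **S7692** -/
theorem can_ass (E : Type u) [AddCommGroup E] [Module R E]
    (f : IsLocalRing.ResidueField R →ₗ[R] E) (hf : IsInjectiveHull f)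
    (K : Type u) [AddCommGroup K] [Module R K] [Module.Finite R K]
    (eK : (K →ₗ[R] E) ≃ₗ[R] LocCoh.H (IsLocalRing.maximalIdeal R) n R) :
    associatedPrimes R K = {p : Ideal R | p.IsPrime ∧ ringKrullDim (R ⧸ p) = n} := by
  haveI : Module.Injective R E := hf.isInjective
  -- transfer between `D(K)` and `T`
  have htrans : ∀ p : Ideal R, p • (⊤ : Submodule R (K →ₗ[R] E)) = ⊤ ↔
      p • (⊤ : Submodule R (LocCoh.H (IsLocalRing.maximalIdeal R) n R)) = ⊤ := by
    intro p
    have h1 : Submodule.map eK.toLinearMap (p • (⊤ : Submodule R (K →ₗ[R] E))) =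
        p • (⊤ : Submodule R (LocCoh.H (IsLocalRing.maximalIdeal R) n R)) := by
      rw [Submodule.map_smul'', Submodule.map_top, LinearMap.range_eq_top.mpr eK.surjective]
    constructor
    · intro h
      rw [← h1, h, Submodule.map_top, LinearMap.range_eq_top.mpr eK.surjective]
    · intro h
      rw [← h1] at h
      have := congrArg (Submodule.comap eK.toLinearMap) h
      rw [Submodule.comap_map_eq_of_injective eK.injective, Submodule.comap_top] at this
      exact this
  -- one direction
  have hfwd : ∀ p : Ideal R, p ∈ associatedPrimes R K →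
      p.IsPrime ∧ ringKrullDim (R ⧸ p) = (n : WithBot ℕ∞) := by
    intro p hp
    obtain ⟨hpp, g, hg⟩ := (isAssociatedPrime_iff_exists_injective_linearMap p K).mp hp
    refine ⟨hpp, ?_⟩
    by_contra hne
    have hle : ringKrullDim (R ⧸ p) ≤ (n : WithBot ℕ∞) := by
      rw [← hn]
      exact ringKrullDim_le_of_surjective _ Ideal.Quotient.mk_surjective
    have hlt : ringKrullDim (R ⧸ p) < (n : WithBot ℕ∞) := lt_of_le_of_ne hle hne
    have h1 := (htrans p).mpr (smul_top_eq_top_of_dim_lt n hn p hlt)
    have h2 := eq_zero_of_smul_top_eq_top hf K p h1 (g 1) (by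
      intro r hr
      rw [← map_smul]
      have : r • (1 : R ⧸ p) = 0 := by
        change (Ideal.Quotient.mk p (r * 1) : R ⧸ p) = 0
        rw [mul_one]
        exact Ideal.Quotient.eq_zero_iff_mem.mpr hr
      rw [this, map_zero])
    have h3 : (1 : R ⧸ p) = 0 := hg (h2.trans (map_zero g).symm)
    haveI : Nontrivial (R ⧸ p) := Ideal.Quotient.nontrivial_iff.mpr hpp.ne_top
    exact one_ne_zero h3
  ext p
  constructor
  · exact hfwd p
  · rintro ⟨hpp, hdim⟩
    have h1 : p • (⊤ : Submodule R (K →ₗ[R] E)) ≠ ⊤ := fun h =>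
      smul_top_ne_top_of_dim_eq n hn p hdim ((htrans p).mp h)
    -- the `p`-torsion of `K` is nonzero
    have hN : Nontrivial (Submodule.torsionBySet R K (p : Set R)) := by
      by_contra hcon
      rw [not_nontrivial_iff_subsingleton] at hcon
      apply h1
      apply smul_top_eq_top_of_forall
      intro k hk
      have hmem : k ∈ Submodule.torsionBySet R K (p : Set R) := by
        rw [Submodule.mem_torsionBySet_iff]
        rintro ⟨r, hr⟩
        exact hk r hr
      have := hcon.elim ⟨k, hmem⟩ 0
      exact congrArg Subtype.val this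
    obtain ⟨q, hq⟩ := associatedPrimes.nonempty R (Submodule.torsionBySet R K (p : Set R))
    have hqK : q ∈ associatedPrimes R K :=
      associatedPrimes.subset_of_injective (Submodule.injective_subtype _) hq
    obtain ⟨hqq, hqdim⟩ := hfwd q hqK
    obtain ⟨-, g, hg⟩ := (isAssociatedPrime_iff_exists_injective_linearMap q _).mp hq
    have hpq : p ≤ q := by
      intro r hr
      have h2 : r • g 1 = 0 := by
        apply Subtype.ext
        exact (Submodule.mem_torsionBySet_iff _ _).mp (g 1).2 ⟨r, hr⟩
      rw [← map_smul] at h2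
      have h3 : r • (1 : R ⧸ q) = 0 := hg (h2.trans (map_zero g).symm)
      have h4 : (Ideal.Quotient.mk q r : R ⧸ q) = 0 := by
        have : r • (1 : R ⧸ q) = Ideal.Quotient.mk q r := by
          change (Ideal.Quotient.mk q (r * 1) : R ⧸ q) = _
          rw [mul_one]
        rw [← this]
        exact h3
      exact Ideal.Quotient.eq_zero_iff_mem.mp h4
    have heq : p = q := CM.eq_of_le_of_ringKrullDim_quotient_eq R n
      (by rw [Module.supportDim_self_eq_ringKrullDim, hn]) q p
      (by rw [Module.annihilator_eq_bot.mpr inferInstance]; exact bot_le) hpq hqdim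
    rw [heq]
    exact hqK

end Main

end Groth.Agent.H6.CanA
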