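import Mathlib
import Groth.Agent.Lib.Helper6.CanSop

/-! Regular elements on a canonical module from dimension drops (generalizing `CanS.can_sop`). -/

universe u
set_option linter.style.haveILetI false
open CategoryTheory CategoryTheory.Abelian InjHull
open scoped Pointwise

namespace Groth.Agent.H6.CanReg

variable {R : Type u} [CommRing R] [IsNoetherianRing R] [IsLocalRing R]

omit [IsNoetherianRing R] [IsLocalRing R] in
/-- dimension of a finite module killed by an ideal -/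
theorem supportDim_le_of_kill (I : Ideal R) (M : Type u) [AddCommGroup M] [Module R M]
    [Module.Finite R M] (h : ∀ r ∈ I, ∀ x : M, r • x = 0) :
    Module.supportDim R M ≤ ringKrullDim (R ⧸ I) := by
  rw [Module.supportDim_eq_ringKrullDim_quotient_annihilator]
  have hle : I ≤ Module.annihilator R M := fun r hr => Module.mem_annihilator.mpr (h r hr)
  exact ringKrullDim_le_of_surjective (Ideal.Quotient.factor hle)
    (Ideal.Quotient.factor_surjective hle)

omit [IsNoetherianRing R] [IsLocalRing R] in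
theorem kill_span {M : Type u} [AddCommGroup M] [Module R M] (a₀ : R)
    (h0 : ∀ x : M, a₀ • x = 0) : ∀ r ∈ Ideal.span {a₀}, ∀ x : M, r • x = 0 := by
  intro r hr x
  obtain ⟨c, rfl⟩ := Ideal.mem_span_singleton'.mp hr
  rw [mul_smul, h0, smul_zero]

omit [IsNoetherianRing R] [IsLocalRing R] in
theorem kill_sup {M : Type u} [AddCommGroup M] [Module R M] (a₀ a₁ : R)
    (h0 : ∀ x : M, a₀ • x = 0) (h1 : ∀ x : M, a₁ • x = 0) :
    ∀ r ∈ Ideal.span {a₀} ⊔ Ideal.span {a₁}, ∀ x : M, r • x = 0 := by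
  intro r hr x
  obtain ⟨r₀, hr₀, r₁, hr₁, rfl⟩ := Submodule.mem_sup.mp hr
  rw [add_smul, kill_span a₀ h0 r₀ hr₀, kill_span a₁ h1 r₁ hr₁, add_zero]

/-- `a₀` is surjective on `H^n_m(R)` when `dim R/a₀ < n` -/
theorem surj_zero (n : ℕ) (hn : ringKrullDim R = (n : WithBot ℕ∞)) (a₀ : R) (hn0 : 0 < n)
    (h1 : ringKrullDim (R ⧸ Ideal.span {a₀}) ≤ ((n - 1 : ℕ) : WithBot ℕ∞))
    (t : LocCoh.H (IsLocalRing.maximalIdeal R) n R) : ∃ t', a₀ • t' = t := by
  apply CanS.smul_surjective_top R n (by rw [Module.supportDim_self_eq_ringKrullDim, hn])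
  apply LC.subsingleton_of_supportDim_lt
  refine lt_of_le_of_lt ((supportDim_le_of_kill (Ideal.span {a₀}) _ (kill_span a₀ ?_)).trans h1) ?_
  · intro x
    obtain ⟨r, rfl⟩ := Submodule.Quotient.mk_surjective _ x
    rw [← Submodule.Quotient.mk_smul, Submodule.Quotient.mk_eq_zero]
    exact ⟨r, rfl⟩
  · have : n - 1 < n := by omega
    exact_mod_cast this

/-- `a₁` is surjective on the `a₀`-torsion of `H^n_m(R)` -/
theorem surj_one (n : ℕ) (hn : ringKrullDim R = (n : WithBot ℕ∞)) (a₀ a₁ : R) (h2 : 2 ≤ n)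
    (h1 : ringKrullDim (R ⧸ Ideal.span {a₀}) ≤ ((n - 1 : ℕ) : WithBot ℕ∞))
    (h1' : ringKrullDim (R ⧸ (Ideal.span {a₀} ⊔ Ideal.span {a₁})) ≤ ((n - 2 : ℕ) : WithBot ℕ∞))
    (t : LocCoh.H (IsLocalRing.maximalIdeal R) n R) (ht : a₀ • t = 0) :
    ∃ t' : LocCoh.H (IsLocalRing.maximalIdeal R) n R, a₀ • t' = 0 ∧ a₁ • t' = t := by
  obtain ⟨d, rfl⟩ : ∃ d, n = d + 1 := ⟨n - 1, by omega⟩
  have hd : 1 ≤ d := by omega
  have h1 : ringKrullDim (R ⧸ Ideal.span {a₀}) ≤ (d : WithBot ℕ∞) := h1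
  have h1' : ringKrullDim (R ⧸ (Ideal.span {a₀} ⊔ Ideal.span {a₁})) ≤
      ((d - 1 : ℕ) : WithBot ℕ∞) := h1'
  set f₀ : R →ₗ[R] R := LinearMap.lsmul R R a₀ with hf₀
  -- the two short exact sequences
  have hSA := LinearMap.shortExact_shortComplexKer (f := f₀.rangeRestrict)
    f₀.surjective_rangeRestrict
  have hSB := CanS.range_shortExact f₀
  -- dimension estimates
  have hdimJ : Module.supportDim R (LinearMap.ker f₀.rangeRestrict) ≤ (d : WithBot ℕ∞) := by
    refine (supportDim_le_of_kill (Ideal.span {a₀}) _ (kill_span a₀ ?_)).trans h1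
    intro x
    apply Subtype.ext
    have hx := LinearMap.mem_ker.mp x.2
    have hx' := congrArg Subtype.val hx
    exact hx'
  have hkillA : ∀ x : R ⧸ LinearMap.range f₀, a₀ • x = 0 := by
    intro x
    obtain ⟨r, rfl⟩ := Submodule.Quotient.mk_surjective _ x
    rw [← Submodule.Quotient.mk_smul, Submodule.Quotient.mk_eq_zero]
    exact ⟨r, rfl⟩
  have hdimA : Module.supportDim R (R ⧸ LinearMap.range f₀) ≤ (d : WithBot ℕ∞) :=
    (supportDim_le_of_kill (Ideal.span {a₀}) _ (kill_span a₀ hkillA)).trans h1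
  have hdimA2 : Module.supportDim R ((R ⧸ LinearMap.range f₀) ⧸
      LinearMap.range (LinearMap.lsmul R (R ⧸ LinearMap.range f₀) a₁)) ≤
      ((d - 1 : ℕ) : WithBot ℕ∞) := by
    refine (supportDim_le_of_kill (Ideal.span {a₀} ⊔ Ideal.span {a₁}) _
      (kill_sup a₀ a₁ ?_ ?_)).trans h1'
    · intro x
      obtain ⟨r, rfl⟩ := Submodule.Quotient.mk_surjective _ x
      rw [← Submodule.Quotient.mk_smul, hkillA r, Submodule.Quotient.mk_zero]
    · intro x
      obtain ⟨r, rfl⟩ := Submodule.Quotient.mk_surjective _ x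
      rw [← Submodule.Quotient.mk_smul, Submodule.Quotient.mk_eq_zero]
      exact ⟨r, rfl⟩
  -- `π` is bijective
  have hπs := LC.map_rangeRestrict_surjective (I := IsLocalRing.maximalIdeal R) f₀ (d + 1) (by
    apply LC.subsingleton_of_supportDim_lt
    refine lt_of_le_of_lt ((Module.supportDim_le_of_injective (LinearMap.ker f₀).subtype
      Subtype.val_injective).trans (Module.supportDim_le_ringKrullDim R R)) ?_
    rw [hn]
    exact_mod_cast Nat.lt_succ_self (d + 1))
  have hπi : ∀ t : LocCoh.H (IsLocalRing.maximalIdeal R) (d + 1) R,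
      ((localCohomology (IsLocalRing.maximalIdeal R) (d + 1)).map
        (ModuleCat.ofHom f₀.rangeRestrict)).hom t = 0 → t = 0 := by
    intro t h0
    obtain ⟨z, rfl⟩ := LC.exact₂ hSA (I := IsLocalRing.maximalIdeal R) (i := d + 1) t h0
    have hz : Subsingleton (LocCoh.H (IsLocalRing.maximalIdeal R) (d + 1)
        (LinearMap.ker f₀.rangeRestrict)) := by
      apply LC.subsingleton_of_supportDim_lt
      refine lt_of_le_of_lt hdimJ ?_
      exact_mod_cast Nat.lt_succ_self d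
    rw [hz.elim z 0, map_zero]
  have hcomp : ModuleCat.ofHom f₀.rangeRestrict ≫ ModuleCat.ofHom (LinearMap.range f₀).subtype =
      a₀ • 𝟙 (ModuleCat.of R R) := by
    ext m
    rfl
  have hιπ : ∀ t : LocCoh.H (IsLocalRing.maximalIdeal R) (d + 1) R,
      ((localCohomology (IsLocalRing.maximalIdeal R) (d + 1)).map
        (ModuleCat.ofHom (LinearMap.range f₀).subtype)).hom
        (((localCohomology (IsLocalRing.maximalIdeal R) (d + 1)).map
          (ModuleCat.ofHom f₀.rangeRestrict)).hom t) = a₀ • t := by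
    intro t
    have := LC.map_smul_id (I := IsLocalRing.maximalIdeal R) (i := d + 1)
      (M := ModuleCat.of R R) a₀ t
    rw [← hcomp, Functor.map_comp] at this
    exact this
  -- `a₁` is surjective on `H^d(R/a₀)`
  have hsurjA : ∀ y : LocCoh.H (IsLocalRing.maximalIdeal R) d (R ⧸ LinearMap.range f₀),
      ∃ y', a₁ • y' = y := by
    intro y
    apply CanS.smul_surjective_top (R ⧸ LinearMap.range f₀) d hdimA a₁
    apply LC.subsingleton_of_supportDim_lt
    refine lt_of_le_of_lt hdimA2 ?_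
    have : d - 1 < d := by omega
    exact_mod_cast this
  -- the diagram chase
  have h1 := hιπ t
  rw [ht] at h1
  obtain ⟨y, hy⟩ := LC.exact₁ hSB (I := IsLocalRing.maximalIdeal R) (i := d) _ h1
  obtain ⟨y', rfl⟩ := hsurjA y
  obtain ⟨t', ht'⟩ := hπs (LC.δ hSB (IsLocalRing.maximalIdeal R) d y')
  refine ⟨t', ?_, ?_⟩
  · rw [← hιπ t', ht']
    exact LC.map_δ hSB y'
  · have h3 : ((localCohomology (IsLocalRing.maximalIdeal R) (d + 1)).map
        (ModuleCat.ofHom f₀.rangeRestrict)).hom (a₁ • t' - t) = 0 := by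
      rw [map_sub, map_smul, ht', ← hy, map_smul, sub_self]
    exact sub_eq_zero.mp (hπi _ h3)

variable (n : ℕ) (hn : ringKrullDim R = (n : WithBot ℕ∞))
    (E : Type u) [AddCommGroup E] [Module R E]
    (f : IsLocalRing.ResidueField R →ₗ[R] E) (hf : IsInjectiveHull f)
    (K : Type u) [AddCommGroup K] [Module R K] [Module.Finite R K]
    (eK : (K →ₗ[R] E) ≃ₗ[R] LocCoh.H (IsLocalRing.maximalIdeal R) n R)

include hn hf eK in
theorem reg_zero (hn0 : 0 < n) (a₀ : R)
    (h1 : ringKrullDim (R ⧸ Ideal.span {a₀}) ≤ ((n - 1 : ℕ) : WithBot ℕ∞)) :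
    IsSMulRegular K a₀ := by
  haveI : Module.Injective R E := hf.isInjective
  apply CanQ.isSMulRegular_of_dual_smul_surjective hf
  intro φ
  obtain ⟨t', ht'⟩ := surj_zero n hn a₀ hn0 h1 (eK φ)
  exact ⟨eK.symm t', by rw [← map_smul, ht', eK.symm_apply_apply]⟩

include hn hf eK in
theorem reg_one (h2 : 2 ≤ n) (a₀ a₁ : R)
    (h1 : ringKrullDim (R ⧸ Ideal.span {a₀}) ≤ ((n - 1 : ℕ) : WithBot ℕ∞))
    (h1' : ringKrullDim (R ⧸ (Ideal.span {a₀} ⊔ Ideal.span {a₁})) ≤ ((n - 2 : ℕ) : WithBot ℕ∞)) :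
    IsSMulRegular (QuotSMulTop a₀ K) a₁ := by
  haveI : Module.Injective R E := hf.isInjective
  apply CanQ.isSMulRegular_of_dual_smul_surjective hf
  intro φ
  have e1 := LD.dualCokerEquiv (LinearMap.lsmul R K a₀) (a₀ • (⊤ : Submodule R K)).mkQ
    (Submodule.mkQ_surjective _)
    ((LinearMap.exact_iff).mp (LinearMap.exact_lsmul_mkQ_smul_top K a₀)) E
  have e2 := LD.kerEquiv eK (LinearMap.lcomp R E (LinearMap.lsmul R K a₀))
    (LinearMap.lsmul R (LocCoh.H (IsLocalRing.maximalIdeal R) n R) a₀) (by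
      intro φ
      have h1 : LinearMap.lcomp R E (LinearMap.lsmul R K a₀) φ = a₀ • φ := by
        ext q
        change φ (a₀ • q) = a₀ • φ q
        rw [map_smul]
      rw [h1]
      change a₀ • φ = 0 ↔ a₀ • eK φ = 0
      rw [← map_smul]
      exact (LinearEquiv.map_eq_zero_iff eK).symm)
  set e := e1.trans e2 with he
  have hτ : a₀ • ((e φ : LinearMap.ker (LinearMap.lsmul R
      (LocCoh.H (IsLocalRing.maximalIdeal R) n R) a₀)) :
      LocCoh.H (IsLocalRing.maximalIdeal R) n R) = 0 := LinearMap.mem_ker.mp (e φ).2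
  obtain ⟨t', ht'0, ht'1⟩ := surj_one n hn a₀ a₁ h2 h1 h1' _ hτ
  refine ⟨e.symm ⟨t', LinearMap.mem_ker.mpr ht'0⟩, ?_⟩
  rw [← map_smul]
  apply e.injective
  rw [e.apply_symm_apply]
  exact Subtype.ext ht'1

end Groth.Agent.H6.CanReg
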