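import Mathlib
import Groth.Agent.Lib.Helper6.CanReg
import Groth.Agent.Lib.Helper6.SkQuot
import Groth.Agent.Lib.Helper6.SkKit
import Groth.Agent.Lib.Helper6.GorReg
import Groth.Agent.Lib.Helper6.DimLemmas

/-! The canonical module of a Noetherian local ring satisfies `(S₂)`. -/

universe u
set_option linter.style.haveILetI false
open InjHull IsLocalRing

namespace Groth.Agent.H6.CanS2

section Dim

variable {R : Type u} [CommRing R]

theorem dim_mono {I J : Ideal R} (h : I ≤ J) : ringKrullDim (R ⧸ J) ≤ ringKrullDim (R ⧸ I) :=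
  ringKrullDim_le_of_surjective (Ideal.Quotient.factor h) (Ideal.Quotient.factor_surjective h)

/-- the dimension of `R/I` is bounded by the dimensions of `R/Q`, `Q ⊇ I` prime -/
theorem dim_quot_le_of_forall_prime (I : Ideal R) (d : WithBot ℕ∞)
    (h : ∀ Q : Ideal R, Q.IsPrime → I ≤ Q → ringKrullDim (R ⧸ Q) ≤ d) :
    ringKrullDim (R ⧸ I) ≤ d := by
  classical
  rw [ringKrullDim_quotient]
  unfold Order.krullDim
  apply iSup_le
  intro s
  have hQ : I ≤ s.head.1.asIdeal := by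
    have := s.head.2
    rw [PrimeSpectrum.mem_zeroLocus] at this
    exact this
  have h1 := h s.head.1.asIdeal s.head.1.2 hQ
  rw [ringKrullDim_quotient] at h1
  let g : PrimeSpectrum.zeroLocus (I : Set R) →
      PrimeSpectrum.zeroLocus (s.head.1.asIdeal : Set R) := fun x =>
    if hx : s.head ≤ x then ⟨x.1, by
      rw [PrimeSpectrum.mem_zeroLocus]
      exact hx⟩ else ⟨s.head.1, by
      rw [PrimeSpectrum.mem_zeroLocus]⟩
  have hg : ∀ i j : Fin (s.length + 1), i < j → g (s i) < g (s j) := by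
    intro i j hij
    have hi : s.head ≤ s i := LTSeries.head_le s i
    have hj : s.head ≤ s j := LTSeries.head_le s j
    simp only [g, dif_pos hi, dif_pos hj]
    exact s.strictMono hij
  let s' : LTSeries (PrimeSpectrum.zeroLocus (s.head.1.asIdeal : Set R)) :=
    { length := s.length
      toFun := fun i => g (s i)
      step := fun i => hg _ _ (Fin.castSucc_lt_succ) }
  exact le_trans (Order.LTSeries.length_le_krullDim s') h1

theorem wb_le_pred (x y : WithBot ℕ∞) (d : ℕ) (hd : 1 ≤ d) (h1 : x + 1 ≤ y)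
    (h2 : y ≤ (d : WithBot ℕ∞)) : x ≤ ((d - 1 : ℕ) : WithBot ℕ∞) := by
  have h3 := h1.trans h2
  induction x using WithBot.recBotCoe with
  | bot => exact bot_le
  | coe e =>
    induction e using ENat.recTopCoe with
    | top =>
      exfalso
      have : ((⊤ : ℕ∞) : WithBot ℕ∞) + 1 = ((⊤ : ℕ∞) : WithBot ℕ∞) := rfl
      rw [this] at h3
      have h4 : ((⊤ : ℕ∞) : WithBot ℕ∞) ≤ ((d : ℕ∞) : WithBot ℕ∞) := h3
      rw [WithBot.coe_le_coe] at h4
      exact absurd h4 (by simp)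
    | coe e =>
      have h4 : (((e + 1 : ℕ) : ℕ∞) : WithBot ℕ∞) ≤ ((d : ℕ∞) : WithBot ℕ∞) := by
        push_cast
        exact h3
      rw [WithBot.coe_le_coe, Nat.cast_le] at h4
      have : e ≤ d - 1 := by omega
      rw [show ((d - 1 : ℕ) : WithBot ℕ∞) = (((d - 1 : ℕ) : ℕ∞) : WithBot ℕ∞) from rfl,
        WithBot.coe_le_coe, Nat.cast_le]
      exact this

variable [IsNoetherianRing R]

/-- dropping the dimension by an element of a prime of small dimension -/
theorem exists_drop (d : ℕ) (hd : 1 ≤ d) (I : Ideal R)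
    (hI : ringKrullDim (R ⧸ I) ≤ (d : WithBot ℕ∞)) (p : Ideal R) [hp : p.IsPrime]
    (hpd : ringKrullDim (R ⧸ p) ≤ ((d - 1 : ℕ) : WithBot ℕ∞)) :
    ∃ a ∈ p, ringKrullDim (R ⧸ (I ⊔ Ideal.span {a})) ≤ ((d - 1 : ℕ) : WithBot ℕ∞) := by
  classical
  have hfin : (I.minimalPrimes).Finite := Ideal.finite_minimalPrimes_of_isNoetherianRing R I
  set T : Finset (Ideal R) := hfin.toFinset.filter (fun Q => ¬ p ≤ Q) with hT
  have havoid : ¬ ((p : Set R) ⊆ ⋃ Q ∈ (T : Set (Ideal R)), (Q : Set R)) := by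
    rw [Ideal.subset_union_prime (R := R) (s := T) (f := fun Q => Q) ⊥ ⊥]
    · rintro ⟨Q, hQT, hpQ⟩
      rw [hT, Finset.mem_filter] at hQT
      exact hQT.2 hpQ
    · intro Q hQT _ _
      rw [hT, Finset.mem_filter, Set.Finite.mem_toFinset] at hQT
      exact hQT.1.1.1
  obtain ⟨a, hap, haT⟩ := Set.not_subset.mp havoid
  refine ⟨a, hap, ?_⟩
  apply dim_quot_le_of_forall_prime
  intro Q' hQ' hle
  obtain ⟨Q'', hQ''min, hQ''le⟩ := Ideal.exists_minimalPrimes_le (le_sup_left.trans hle)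
  haveI := hQ''min.1.1
  rcases lt_or_eq_of_le hQ''le with hlt | heq
  · exact wb_le_pred _ _ d hd (Dim.ringKrullDim_quotient_add_one_le hlt)
      ((dim_mono hQ''min.1.2).trans hI)
  · subst heq
    have haQ : a ∈ Q'' := hle (Ideal.mem_sup_right (Ideal.mem_span_singleton_self a))
    have hpQ : p ≤ Q'' := by
      by_contra hcon
      apply haT
      simp only [Set.mem_iUnion]
      refine ⟨Q'', ?_, haQ⟩
      rw [Finset.mem_coe, hT, Finset.mem_filter, Set.Finite.mem_toFinset]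
      exact ⟨hQ''min, hcon⟩
    exact (dim_mono hpQ).trans hpd

end Dim

section Main

variable {R : Type u} [CommRing R] [IsNoetherianRing R] [IsLocalRing R]

/-- **S7696**: the canonical module satisfies `(S₂)` -/
theorem hasSk_two (n : ℕ) (hn : ringKrullDim R = (n : WithBot ℕ∞))
    (E : Type u) [AddCommGroup E] [Module R E]
    (f : IsLocalRing.ResidueField R →ₗ[R] E) (hf : IsInjectiveHull f)
    (K : Type u) [AddCommGroup K] [Module R K] [Module.Finite R K]
    (eK : (K →ₗ[R] E) ≃ₗ[R] LocCoh.H (IsLocalRing.maximalIdeal R) n R) :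
    LocCoh.HasSk 2 R K := by
  rw [Sk.hasSk_iff]
  intro p hp j hj2 hj
  rcases Nat.eq_zero_or_pos j with rfl | hj0
  · intro i hi
    exact absurd hi (Nat.not_lt_zero i)
  -- `j ≤ ht p`
  have hht : (j : WithBot ℕ∞) ≤ ((p.height : ℕ∞) : WithBot ℕ∞) := by
    refine hj.trans ((Module.supportDim_le_ringKrullDim _ _).trans ?_)
    rw [IsLocalization.AtPrime.ringKrullDim_eq_height p (Localization.AtPrime p)]
  have hsum := Bass.height_add_ringKrullDim_quotient_le (⟨p, hp⟩ : PrimeSpectrum R)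
  change ringKrullDim (R ⧸ p) + ((p.height : ℕ∞) : WithBot ℕ∞) ≤ _ at hsum
  rw [hn] at hsum
  have hsum' : ringKrullDim (R ⧸ p) + (j : WithBot ℕ∞) ≤ (n : WithBot ℕ∞) :=
    le_trans (by gcongr) hsum
  haveI : Nontrivial (R ⧸ p) := Ideal.Quotient.nontrivial_iff.mpr hp.ne_top
  have hnj : j ≤ n := by
    have h0 : (0 : WithBot ℕ∞) ≤ ringKrullDim (R ⧸ p) := ringKrullDim_nonneg_of_nontrivial
    have h1 : (0 : WithBot ℕ∞) + (j : WithBot ℕ∞) ≤ (n : WithBot ℕ∞) := le_trans (by gcongr) hsum'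
    rw [zero_add] at h1
    exact_mod_cast h1
  have hdimp : ∀ k : ℕ, k ≤ j → ringKrullDim (R ⧸ p) ≤ ((n - k : ℕ) : WithBot ℕ∞) := by
    intro k hk
    have h1 : ringKrullDim (R ⧸ p) + (k : WithBot ℕ∞) ≤ (n : WithBot ℕ∞) :=
      le_trans (by gcongr) hsum'
    induction hx : ringKrullDim (R ⧸ p) using WithBot.recBotCoe with
    | bot => exact bot_le
    | coe e =>
      rw [hx] at h1
      induction e using ENat.recTopCoe with
      | top =>
        exfalso
        have h2 : (((⊤ : ℕ∞) + (k : ℕ∞) : ℕ∞) : WithBot ℕ∞) ≤ ((n : ℕ∞) : WithBot ℕ∞) := by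
          push_cast
          exact h1
        rw [WithBot.coe_le_coe, top_add] at h2
        exact absurd h2 (by simp)
      | coe e =>
        have h2 : (((e + k : ℕ) : ℕ∞) : WithBot ℕ∞) ≤ ((n : ℕ∞) : WithBot ℕ∞) := by
          push_cast
          exact h1
        rw [WithBot.coe_le_coe, Nat.cast_le] at h2
        have : e ≤ n - k := by omega
        rw [show ((n - k : ℕ) : WithBot ℕ∞) = (((n - k : ℕ) : ℕ∞) : WithBot ℕ∞) from rfl,
          WithBot.coe_le_coe, Nat.cast_le]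
        exact this
  have hn0 : 0 < n := by omega
  -- the first element
  have hbot : ringKrullDim (R ⧸ (⊥ : Ideal R)) ≤ (n : WithBot ℕ∞) := by
    rw [ringKrullDim_eq_of_ringEquiv (RingEquiv.quotientBot R), hn]
  obtain ⟨a₁, ha₁p, ha₁⟩ := exists_drop n hn0 ⊥ hbot p (hdimp 1 hj0)
  rw [bot_sup_eq] at ha₁
  have hreg1 := CanReg.reg_zero n hn E f hf K eK hn0 a₁ ha₁
  have hD0 : ∀ (N : Type u) [AddCommGroup N] [Module R N], Depth.LocDepthGE N p 0 := by
    intro N _ _ i hi
    exact absurd hi (Nat.not_lt_zero i)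
  rcases Nat.lt_or_ge j 2 with hj1 | hj2'
  · have : j = 1 := by omega
    subst this
    exact Depth.locDepthGE_succ_of_quotSMulTop K p 0 a₁ ha₁p hreg1 (hD0 _)
  · have : j = 2 := by omega
    subst this
    have hn1 : 1 ≤ n - 1 := by omega
    have hle : Ideal.span {a₁} ≤ p := by
      rw [Ideal.span_le]
      intro x hx
      rw [Set.mem_singleton_iff] at hx
      rw [hx]
      exact ha₁p
    have hp2 : ringKrullDim (R ⧸ p) ≤ ((n - 1 - 1 : ℕ) : WithBot ℕ∞) := by
      have := hdimp 2 le_rfl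
      rwa [show n - 1 - 1 = n - 2 by omega]
    obtain ⟨a₂, ha₂p, ha₂⟩ := exists_drop (n - 1) hn1 (Ideal.span {a₁}) ha₁ p hp2
    rw [show n - 1 - 1 = n - 2 by omega] at ha₂
    have hreg2 := CanReg.reg_one n hn E f hf K eK hnj a₁ a₂ ha₁ ha₂
    have h1 : Depth.LocDepthGE (QuotSMulTop a₁ K) p 1 :=
      Depth.locDepthGE_succ_of_quotSMulTop _ p 0 a₂ ha₂p hreg2 (hD0 _)
    exact Depth.locDepthGE_succ_of_quotSMulTop K p 1 a₁ ha₁p hreg1 h1

end Main

end Groth.Agent.H6.CanS2
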