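import Mathlib
import Groth.Agent.Lib.Helper6.CanCompl3
import Groth.Agent.Lib.Helper6.CanLoc4
import Groth.Agent.Lib.Helper6.CanAss
import Groth.Agent.Lib.Helper6.CanS2
import Groth.Agent.Lib.Helper6.SkLoc

/-! The support of the canonical module of a general Noetherian local ring (S7695). -/

universe u
set_option linter.unusedSectionVars false
open IsLocalRing InjHull TensorProduct

namespace Groth.Agent.H6.CanCompl

section Abstract

variable {R R' : Type u} [CommRing R] [CommRing R'] [Algebra R R'] [IsLocalRing R] [IsLocalRing R']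
  [IsNoetherianRing R] [IsNoetherianRing R']

set_option maxHeartbeats 800000 in
/-- on the support of the canonical module `ht p + dim R/p = dim R` (general local ring with a
completion-like extension that is a quotient of a Gorenstein ring) -/
theorem supp_dim (hc : IsComplLike R R') (n : ℕ) (hn : ringKrullDim R = n)
    (E : Type u) [AddCommGroup E] [Module R E]
    (f : IsLocalRing.ResidueField R →ₗ[R] E) (hf : IsInjectiveHull f)
    (K : Type u) [AddCommGroup K] [Module R K] [Module.Finite R K]
    (eK : (K →ₗ[R] E) ≃ₗ[R] LocCoh.H (maximalIdeal R) n R)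
    (S : Type u) [CommRing S] [LocCoh.IsGorensteinLocalRing S] [Algebra S R']
    (hπ : Function.Surjective (algebraMap S R')) (p : Ideal R) [hpp : p.IsPrime]
    (hp : Nontrivial (LocalizedModule p.primeCompl K)) :
    ((p.height : ℕ∞) : WithBot ℕ∞) + ringKrullDim (R ⧸ p) = n := by
  obtain ⟨E', _, _, f', hf'⟩ := IH.exists_injectiveHull (R := R') (R' ⧸ maximalIdeal R')
  obtain ⟨eK'⟩ := can_baseChange hc n E f hf K eK E' f' hf'
  have hn' : ringKrullDim R' = n := by rw [hc.ringKrullDim_eq, hn]
  obtain ⟨t, ht, rfl, hdim⟩ := hc.exists_prime_over p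
  haveI : IsNoetherianRing (Localization.AtPrime t) :=
    IsLocalization.isNoetherianRing t.primeCompl _ inferInstance
  have hnt : Nontrivial (LocalizedModule t.primeCompl (R' ⊗[R] K)) := by
    rw [← not_subsingleton_iff_nontrivial,
      ← Module.supportDim_eq_bot_iff_subsingleton (R := Localization.AtPrime t), hdim K,
      Module.supportDim_eq_bot_iff_subsingleton, not_subsingleton_iff_nontrivial]
    exact hp
  have h1 := CanLoc.can_supp_dim R' n hn' E' f' hf' (R' ⊗[R] K) eK' S hπ t hnt
  have h2 : ((t.height : ℕ∞) : WithBot ℕ∞) =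
      (((t.comap (algebraMap R R')).height : ℕ∞) : WithBot ℕ∞) := by
    have := hdim R
    rw [Sk.supportDim_localizedModule_self,
      (SkLoc.depth_and_dim_congr (R := R') (R' ⊗[R] R)
        (TensorProduct.AlgebraTensorModule.rid R R' R') t).2,
      Sk.supportDim_localizedModule_self] at this
    exact this
  have h3 : ringKrullDim (R' ⧸ t) ≤ ringKrullDim (R ⧸ t.comap (algebraMap R R')) := by
    rw [← hc.ringKrullDim_quotient_map]
    exact CanS2.dim_mono Ideal.map_comap_le
  apply le_antisymm
  · have := Bass.height_add_ringKrullDim_quotient_le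
      (⟨t.comap (algebraMap R R'), hpp⟩ : PrimeSpectrum R)
    rw [hn, add_comm] at this
    exact this
  · rw [← h1, h2]
    gcongr

end Abstract

end Groth.Agent.H6.CanCompl
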