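import Mathlib
import Groth.Agent.Lib.Helper6.CanCompl4
import Groth.Agent.S0543

/-! The support of the canonical module (S7695). -/

universe u
set_option linter.unusedSectionVars false
open IsLocalRing InjHull TensorProduct

namespace Groth.Agent.H6.CanSupp

variable (R : Type u) [CommRing R] [IsLocalRing R] [IsNoetherianRing R]
  (n : ℕ) (hn : ringKrullDim R = n)
  (E : Type u) [AddCommGroup E] [Module R E]
  (f : IsLocalRing.ResidueField R →ₗ[R] E) (hf : IsInjectiveHull f)
  (K : Type u) [AddCommGroup K] [Module R K] [Module.Finite R K]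
  (eK : (K →ₗ[R] E) ≃ₗ[R] LocCoh.H (maximalIdeal R) n R)

include hn hf eK in
/-- `ht p + dim R/p = dim R` on the support of the canonical module -/
theorem supp_dim (p : Ideal R) [p.IsPrime] (hp : Nontrivial (LocalizedModule p.primeCompl K)) :
    ((p.height : ℕ∞) : WithBot ℕ∞) + ringKrullDim (R ⧸ p) = n := by
  haveI : IsNoetherianRing (AdicCompletion (maximalIdeal R) R) := Groth.Agent.S0543.result R _
  haveI := CanCompl.isAdicComplete_completion R
  obtain ⟨S, _, _, g, hg⟩ := CanCompl.exists_gorenstein_surj (AdicCompletion (maximalIdeal R) R)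
  letI : Algebra S (AdicCompletion (maximalIdeal R) R) := g.toAlgebra
  exact CanCompl.supp_dim (CanCompl.complLike_adicCompletion R) n hn E f hf K eK S hg p hp

omit [IsLocalRing R] [IsNoetherianRing R] in
/-- along a chain the coheight grows -/
theorem coheight_add_length_le (s : LTSeries (PrimeSpectrum R)) :
    Order.coheight s.last + s.length ≤ Order.coheight s.head := by
  have key : ∀ i : ℕ, ∀ hi : i < s.length + 1,
      Order.coheight (s ⟨i, hi⟩) + i ≤ Order.coheight s.head := by
    intro i
    induction i with
    | zero =>
      intro hi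
      simp only [Nat.cast_zero, add_zero]
      exact le_rfl
    | succ i ih =>
      intro hi
      have h1 := ih (by omega)
      have hlt : s ⟨i, by omega⟩ < s ⟨i + 1, hi⟩ := s.strictMono (by
        change i < i + 1
        omega)
      have h2 := Order.coheight_add_one_le hlt
      calc Order.coheight (s ⟨i + 1, hi⟩) + ((i + 1 : ℕ) : ℕ∞)
          = Order.coheight (s ⟨i + 1, hi⟩) + 1 + i := by push_cast; ring
        _ ≤ Order.coheight (s ⟨i, by omega⟩) + i := by gcongr
        _ ≤ _ := h1
  exact key s.length (by omega)

include hn hf eK in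
/-- **S7695** -/
theorem support_eq :
    Module.support R K = {p : PrimeSpectrum R |
      (p.asIdeal.height : WithBot ℕ∞) + ringKrullDim (R ⧸ p.asIdeal) = n} := by
  ext p
  rw [Set.mem_ofPred_eq]
  constructor
  · intro hp
    rw [Module.mem_support_iff] at hp
    exact supp_dim R n hn E f hf K eK p.asIdeal hp
  · intro hp
    -- a chain of length `ht p` ending at `p`
    obtain ⟨h, hh⟩ := ENat.ne_top_iff_exists.mp (Ideal.height_ne_top_of_isPrime (I := p.asIdeal))
    have hh' : Order.height p = h := by
      rw [← PrimeSpectrum.height_eq_orderHeight]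
      exact hh.symm
    obtain ⟨s, hlast, hlen⟩ := Order.exists_series_of_height_eq_coe p hh'
    have h1 := coheight_add_length_le R s
    rw [hlast, hlen] at h1
    -- `dim R/q = n` for the head `q`
    have h2 : ringKrullDim (R ⧸ s.head.asIdeal) = n := by
      apply le_antisymm
      · rw [← hn]
        exact ringKrullDim_quotient_le _
      · rw [← hp, Dim.ringKrullDim_quotient_eq_coheight, Dim.ringKrullDim_quotient_eq_coheight,
          ← hh]
        have : ((Order.coheight p + (h : ℕ∞) : ℕ∞) : WithBot ℕ∞) ≤
            ((Order.coheight s.head : ℕ∞) : WithBot ℕ∞) := by exact_mod_cast h1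
        rw [add_comm]
        exact_mod_cast this
    have h3 : s.head.asIdeal ∈ associatedPrimes R K := by
      rw [CanA.can_ass n hn E f hf K eK]
      exact ⟨s.head.2, h2⟩
    have h4 : s.head ∈ Module.support R K := by
      rw [Module.support_eq_zeroLocus, PrimeSpectrum.mem_zeroLocus]
      have h5 := (AssociatedPrimes.mem_iff.mp h3).annihilator_le
      rw [Submodule.annihilator_top] at h5
      exact h5
    refine Module.mem_support_mono ?_ h4
    rw [← hlast]
    exact LTSeries.head_le_last s

end Groth.Agent.H6.CanSupp
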