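import Mathlib
import Groth.Agent.Lib.Helper6.CanSupp
import Groth.Agent.Lib.Helper6.CanHull

/-! The annihilator of the canonical module (S7694). -/

universe u
set_option linter.unusedSectionVars false
open IsLocalRing InjHull TensorProduct

namespace Groth.Agent.H6.CanAnn

section Zero

variable {B : Type u} [CommRing B] [IsLocalRing B] [IsNoetherianRing B]

/-- a canonical module of a zero-dimensional local ring is faithful -/
theorem annihilator_eq_bot_of_dim_zero (hB : ringKrullDim B = 0)
    (E : Type u) [AddCommGroup E] [Module B E]
    (f : IsLocalRing.ResidueField B →ₗ[B] E) (hf : IsInjectiveHull f)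
    (W : Type u) [AddCommGroup W] [Module B W]
    (eW : (W →ₗ[B] E) ≃ₗ[B] LocCoh.H (maximalIdeal B) 0 B) :
    Module.annihilator B W = ⊥ := by
  have hfl : IsFiniteLength B B := by
    rw [SLD.isFiniteLength_iff_supportDim_le_zero, Module.supportDim_self_eq_ringKrullDim, hB]
  obtain ⟨e0⟩ := CanQ.nonempty_lcZero_equiv_self (R := B) B hfl
  rw [IH.annihilator_dual_eq hf W, (eW.trans e0).annihilator_eq, eq_bot_iff]
  intro x hx
  rw [Module.mem_annihilator] at hx
  have := hx 1
  rw [smul_eq_mul, mul_one] at this
  rw [this]
  exact Submodule.zero_mem _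

end Zero

section Abstract

variable {R R' : Type u} [CommRing R] [CommRing R'] [Algebra R R'] [IsLocalRing R] [IsLocalRing R']
  [IsNoetherianRing R] [IsNoetherianRing R']

set_option maxHeartbeats 1600000 in
/-- the annihilator of the canonical module vanishes at the primes of maximal dimension -/
theorem ann_localized_subsingleton (hc : CanCompl.IsComplLike R R') (n : ℕ)
    (hn : ringKrullDim R = n)
    (E : Type u) [AddCommGroup E] [Module R E]
    (f : IsLocalRing.ResidueField R →ₗ[R] E) (hf : IsInjectiveHull f)
    (K : Type u) [AddCommGroup K] [Module R K] [Module.Finite R K]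
    (eK : (K →ₗ[R] E) ≃ₗ[R] LocCoh.H (maximalIdeal R) n R)
    (S : Type u) [CommRing S] [LocCoh.IsGorensteinLocalRing S] [Algebra S R']
    (hπ : Function.Surjective (algebraMap S R')) (q : Ideal R) [hqq : q.IsPrime]
    (hq : Nontrivial (LocalizedModule q.primeCompl K)) (hq0 : q.height = 0) :
    Subsingleton (LocalizedModule q.primeCompl (Module.annihilator R K)) := by
  haveI := hc.flat
  obtain ⟨E', _, _, f', hf'⟩ := IH.exists_injectiveHull (R := R') (R' ⧸ maximalIdeal R')
  obtain ⟨eK'⟩ := CanCompl.can_baseChange hc n E f hf K eK E' f' hf'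
  have hn' : ringKrullDim R' = n := by rw [hc.ringKrullDim_eq, hn]
  obtain ⟨t, ht, rfl, hdim⟩ := hc.exists_prime_over q
  haveI : IsNoetherianRing (Localization.AtPrime t) :=
    IsLocalization.isNoetherianRing t.primeCompl _ inferInstance
  haveI : IsNoetherianRing (Localization.AtPrime (t.comap (algebraMap R R'))) :=
    IsLocalization.isNoetherianRing (t.comap (algebraMap R R')).primeCompl _ inferInstance
  have hnt : Nontrivial (LocalizedModule t.primeCompl (R' ⊗[R] K)) := by
    rw [← not_subsingleton_iff_nontrivial,
      ← Module.supportDim_eq_bot_iff_subsingleton (R := Localization.AtPrime t), hdim K,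
      Module.supportDim_eq_bot_iff_subsingleton, not_subsingleton_iff_nontrivial]
    exact hq
  -- `ht t = 0`
  have h2 : ((t.height : ℕ∞) : WithBot ℕ∞) =
      (((t.comap (algebraMap R R')).height : ℕ∞) : WithBot ℕ∞) := by
    have := hdim R
    rw [Sk.supportDim_localizedModule_self,
      (SkLoc.depth_and_dim_congr (R := R') (R' ⊗[R] R)
        (TensorProduct.AlgebraTensorModule.rid R R' R') t).2,
      Sk.supportDim_localizedModule_self] at this
    exact this
  have hB : ringKrullDim (Localization.AtPrime t) = ((0 : ℕ) : WithBot ℕ∞) := by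
    rw [IsLocalization.AtPrime.ringKrullDim_eq_height t (Localization.AtPrime t), h2, hq0]
    rfl
  obtain ⟨E'', _, _, f'', hf''⟩ := IH.exists_injectiveHull (R := Localization.AtPrime t)
    (Localization.AtPrime t ⧸ maximalIdeal (Localization.AtPrime t))
  obtain ⟨eW⟩ := CanLoc.can_localization R' n hn' E' f' hf' (R' ⊗[R] K) eK' S hπ t hnt 0 hB
    E'' f'' hf''
  have hann := annihilator_eq_bot_of_dim_zero (by rw [hB]; rfl) E'' f'' hf'' _ eW
  -- the localization of `R' ⊗ a` vanishes
  have hsub : Subsingleton (LocalizedModule t.primeCompl
      (R' ⊗[R] (Module.annihilator R K : Ideal R))) := by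
    set a : Ideal R := Module.annihilator R K with ha
    rw [LocalizedModule.subsingleton_iff]
    intro z
    let j : R' ⊗[R] a →ₗ[R'] R' :=
      (TensorProduct.AlgebraTensorModule.rid R R' R').toLinearMap ∘ₗ (a.subtype.baseChange R')
    have hj : Function.Injective j := by
      refine (TensorProduct.AlgebraTensorModule.rid R R' R').injective.comp ?_
      exact Module.Flat.lTensor_preserves_injective_linearMap a.subtype Subtype.val_injective
    have hjmem : ∀ z : R' ⊗[R] a, j z ∈ Module.annihilator R' (R' ⊗[R] K) := by
      intro z
      induction z using TensorProduct.induction_on with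
      | zero => rw [map_zero]; exact Submodule.zero_mem _
      | tmul r' x =>
        have : j (r' ⊗ₜ[R] x) = r' * algebraMap R R' (x : R) := by
          simp [j, Algebra.smul_def, mul_comm]
        rw [this]
        apply Ideal.mul_mem_left
        apply FlatDim.map_annihilator_le_annihilator_tensor (R := R) (S := R') R' K
        exact Ideal.mem_map_of_mem _ x.2
      | add y y' hy hy' => rw [map_add]; exact Submodule.add_mem _ hy hy'
    have hy := hjmem z
    -- the image of `j z` in the localization kills the localized module
    have hkill : algebraMap R' (Localization.AtPrime t) (j z) ∈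
        Module.annihilator (Localization.AtPrime t)
          (LocalizedModule t.primeCompl (R' ⊗[R] K)) := by
      rw [Module.mem_annihilator]
      intro w
      rw [algebraMap_smul]
      induction w using LocalizedModule.induction_on with
      | h m s =>
        rw [LocalizedModule.smul'_mk, (Module.mem_annihilator.mp hy) m, LocalizedModule.zero_mk]
    rw [hann, Submodule.mem_bot, IsLocalization.map_eq_zero_iff t.primeCompl] at hkill
    obtain ⟨s, hs⟩ := hkill
    refine ⟨s, s.2, ?_⟩
    apply hj
    rw [map_zero]
    change j ((s : R') • z) = 0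
    rw [map_smul, smul_eq_mul]
    exact hs
  have := hdim (Module.annihilator R K : Ideal R)
  rw [← Module.supportDim_eq_bot_iff_subsingleton (R := Localization.AtPrime t)] at hsub
  rw [hsub] at this
  rw [← Module.supportDim_eq_bot_iff_subsingleton
    (R := Localization.AtPrime (t.comap (algebraMap R R')))]
  exact this.symm

end Abstract

section Concrete

variable (R : Type u) [CommRing R] [IsLocalRing R] [IsNoetherianRing R]
  (n : ℕ) (hn : ringKrullDim R = n)
  (E : Type u) [AddCommGroup E] [Module R E]
  (f : IsLocalRing.ResidueField R →ₗ[R] E) (hf : IsInjectiveHull f)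
  (K : Type u) [AddCommGroup K] [Module R K] [Module.Finite R K]
  (eK : (K →ₗ[R] E) ≃ₗ[R] LocCoh.H (maximalIdeal R) n R)

include hn hf eK in
theorem ann_loc (q : Ideal R) [q.IsPrime] (hq : Nontrivial (LocalizedModule q.primeCompl K))
    (hq0 : q.height = 0) :
    Subsingleton (LocalizedModule q.primeCompl (Module.annihilator R K)) := by
  haveI : IsNoetherianRing (AdicCompletion (maximalIdeal R) R) := Groth.Agent.S0543.result R _
  haveI := CanCompl.isAdicComplete_completion R
  obtain ⟨S, _, _, g, hg⟩ := CanCompl.exists_gorenstein_surj (AdicCompletion (maximalIdeal R) R)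
  letI : Algebra S (AdicCompletion (maximalIdeal R) R) := g.toAlgebra
  exact ann_localized_subsingleton (CanCompl.complLike_adicCompletion R) n hn E f hf K eK S hg q
    hq hq0

include hn hf eK in
/-- ideals of small dimension kill the canonical module -/
theorem le_ann (u : Ideal R) (hu : Module.supportDim R u < n) : u ≤ Module.annihilator R K := by
  intro x hx
  rw [Module.mem_annihilator]
  intro k
  by_contra hne
  obtain ⟨P, hP, hle⟩ := exists_le_isAssociatedPrime_of_isNoetherianRing (R := R) (x • k) hne
  have hPmem : P ∈ associatedPrimes R K := hP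
  rw [CanA.can_ass n hn E f hf K eK] at hPmem
  obtain ⟨hPp, hPd⟩ := hPmem
  -- `Ann (x) ≤ P`
  have h1 : Module.annihilator R (Ideal.span {x} : Ideal R) ≤ P := by
    intro a ha
    apply hle
    rw [Submodule.mem_colon_singleton, Submodule.mem_bot]
    have := (Module.mem_annihilator.mp ha) ⟨x, Ideal.mem_span_singleton_self x⟩
    have h2 : a * x = 0 := by
      have := congrArg Subtype.val this
      simpa using this
    rw [← mul_smul, h2, zero_smul]
  have h3 : ringKrullDim (R ⧸ P) ≤ ringKrullDim (R ⧸ Module.annihilator R (Ideal.span {x} : Ideal R)) :=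
    ringKrullDim_le_of_surjective (Ideal.Quotient.factor h1) (Ideal.Quotient.factor_surjective h1)
  have h4 : Module.supportDim R (Ideal.span {x} : Ideal R) ≤ Module.supportDim R u := by
    have hxu : (Ideal.span {x} : Ideal R) ≤ u := (Ideal.span_singleton_le_iff_mem u).mpr hx
    exact Module.supportDim_le_of_injective (Submodule.inclusion hxu)
      (Submodule.inclusion_injective hxu)
  rw [Module.supportDim_eq_ringKrullDim_quotient_annihilator] at h4
  have := (h3.trans h4).trans_lt hu
  rw [hPd] at this
  exact lt_irrefl _ this

include hn hf eK in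
/-- the annihilator of the canonical module has small dimension -/
theorem supportDim_ann_lt : Module.supportDim R (Module.annihilator R K : Ideal R) < n := by
  rw [Module.supportDim, Order.krullDim_lt_coe_iff]
  intro s
  by_contra hlen
  rw [not_lt] at hlen
  let s' : LTSeries (PrimeSpectrum R) := s.map Subtype.val (fun _ _ h => h)
  have h1 := CanSupp.coheight_add_length_le R s'
  have hlen' : s'.length = s.length := rfl
  have hhead : s'.head = s.head.1 := rfl
  -- `dim R/q₀ = n`
  have h2 : ringKrullDim (R ⧸ s'.head.asIdeal) = n := by
    apply le_antisymm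
    · rw [← hn]
      exact ringKrullDim_quotient_le _
    · rw [Dim.ringKrullDim_quotient_eq_coheight]
      have : (n : ℕ∞) ≤ Order.coheight s'.head := by
        refine le_trans ?_ h1
        rw [hlen']
        exact le_trans (by exact_mod_cast hlen) le_add_self
      exact_mod_cast this
  have h3 : s'.head.asIdeal ∈ associatedPrimes R K := by
    rw [CanA.can_ass n hn E f hf K eK]
    exact ⟨s'.head.2, h2⟩
  have h4 : s'.head ∈ Module.support R K := by
    rw [Module.support_eq_zeroLocus, PrimeSpectrum.mem_zeroLocus]
    have h5 := (AssociatedPrimes.mem_iff.mp h3).annihilator_le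
    rw [Submodule.annihilator_top] at h5
    exact h5
  rw [Module.mem_support_iff] at h4
  have h5 := CanSupp.supp_dim R n hn E f hf K eK s'.head.asIdeal h4
  rw [h2] at h5
  have h6 : s'.head.asIdeal.height = 0 := by
    obtain ⟨h, hh⟩ := ENat.ne_top_iff_exists.mp
      (Ideal.height_ne_top_of_isPrime (I := s'.head.asIdeal))
    rw [← hh] at h5 ⊢
    have h7 : h + n = n := by exact_mod_cast h5
    have h8 : h = 0 := by omega
    rw [h8]
    rfl
  have h9 := ann_loc R n hn E f hf K eK s'.head.asIdeal h4 h6
  have h10 : s'.head ∈ Module.support R (Module.annihilator R K : Ideal R) := by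
    rw [hhead]
    exact s.head.2
  rw [Module.mem_support_iff] at h10
  exact not_subsingleton _ h9

include hn hf eK in
/-- **S7694** -/
theorem main (u : Ideal R) (hu : Module.supportDim R u < n)
    (humax : ∀ b : Ideal R, Module.supportDim R b < n → b ≤ u) :
    Module.annihilator R K = u ∧
      Module.annihilator R (LocCoh.H (IsLocalRing.maximalIdeal R) n R) = u := by
  have h1 : Module.annihilator R K = u :=
    le_antisymm (humax _ (supportDim_ann_lt R n hn E f hf K eK)) (le_ann R n hn E f hf K eK u hu)
  refine ⟨h1, ?_⟩
  rw [← h1, IH.annihilator_dual_eq hf K, eK.annihilator_eq]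

end Concrete

end Groth.Agent.H6.CanAnn
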