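import Mathlib
import Groth.Agent.Lib.Helper6.CanAnn

/-! Endomorphisms of the canonical module when `R / Ann K` is Cohen–Macaulay (towards S7704). -/

universe u
set_option linter.unusedSectionVars false
open IsLocalRing InjHull TensorProduct

namespace Groth.Agent.H6.CanEndS

variable {B : Type u} [CommRing B] [IsLocalRing B] [IsNoetherianRing B]

/-- `depth ≤ dim` -/
theorem depth_le_of_supportDim_eq (M : Type u) [AddCommGroup M] [Module B M] [Module.Finite B M]
    (d : ℕ) (h : Module.supportDim B M = d) : LocCoh.depth B M ≤ d := by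
  by_contra hcon
  rw [not_le] at hcon
  have h1 : ((d + 1 : ℕ) : ℕ∞) ≤ LocCoh.idealDepth (maximalIdeal B) M := by
    have := Order.add_one_le_of_lt hcon
    exact_mod_cast this
  haveI : Nontrivial M := (Module.supportDim_ne_bot_iff_nontrivial B M).mp (by
    rw [h]
    exact WithBot.coe_ne_bot)
  have hIM : maximalIdeal B • (⊤ : Submodule B M) ≠ ⊤ :=
    Groth.Agent.H3.DepthAux.smul_top_ne_top_of_nontrivial _
  have h2 := (LC.le_idealDepth_iff _ M hIM (d + 1)).mp h1 d (Nat.lt_succ_self d)
  haveI := LC.nontrivial_H_of_supportDim_eq d M h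
  exact not_subsingleton _ h2

/-- the socle of the injective hull is simple -/
theorem socle_length {E : Type u} [AddCommGroup E] [Module B E]
    {f : (B ⧸ maximalIdeal B) →ₗ[B] E} (hf : IsInjectiveHull f) :
    Module.length B (Submodule.torsionBySet B E (maximalIdeal B : Set B)) = 1 := by
  rw [IH.torsionBySet_eq_range (maximalIdeal B) hf.toIsEssentialInj,
    ← (LinearEquiv.ofInjective f hf.injective).length_eq]
  haveI : IsSimpleModule B (B ⧸ maximalIdeal B) := IH.isSimpleModule_residue
  exact Module.length_eq_one B _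

variable (d : ℕ) (hd : ringKrullDim B = d)
  (E : Type u) [AddCommGroup E] [Module B E]
  (f : IsLocalRing.ResidueField B →ₗ[B] E) (hf : IsInjectiveHull f)
  (W : Type u) [AddCommGroup W] [Module B W] [Module.Finite B W]
  (eW : (W →ₗ[B] E) ≃ₗ[B] LocCoh.H (maximalIdeal B) d B)

include hd eW in
theorem nontrivial_can : Nontrivial W := by
  haveI := LC.nontrivial_H_of_supportDim_eq d B (by
    rw [Module.supportDim_self_eq_ringKrullDim, hd])
  have h2 : Nontrivial (W →ₗ[B] E) := eW.toEquiv.nontrivial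
  by_contra hK
  rw [not_nontrivial_iff_subsingleton] at hK
  haveI := hK
  exact not_subsingleton (W →ₗ[B] E) ⟨fun a b => LinearMap.ext fun x => by
    rw [Subsingleton.elim x 0, map_zero, map_zero]⟩

include hd hf eW in
theorem supportDim_can : Module.supportDim B W = d := by
  haveI := nontrivial_can d hd E W eW
  apply le_antisymm
  · rw [← hd]
    exact Module.supportDim_le_ringKrullDim _ _
  · obtain ⟨p, hp⟩ := associatedPrimes.nonempty B W
    have h1 := hp
    rw [CanA.can_ass d hd E f hf W eW] at h1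
    rw [← h1.2]
    exact CM.ringKrullDim_quotient_le_supportDim W p (CM.annihilator_le_of_mem_associatedPrimes hp)

include hd hf eW in
theorem supportDim_quot_ann :
    Module.supportDim B (B ⧸ Module.annihilator B W) = d := by
  rw [Module.supportDim_quotient_eq_ringKrullDim,
    ← Module.supportDim_eq_ringKrullDim_quotient_annihilator]
  exact supportDim_can d hd E f hf W eW

/-- `Hom(B/Ann W, W) ≃ W` -/
noncomputable def homQuotAnn : ((B ⧸ Module.annihilator B W) →ₗ[B] W) ≃ₗ[B] W :=
  (IH.homQuotEquiv (Module.annihilator B W) W).trans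
    ((LinearEquiv.ofEq _ _ (by
      rw [eq_top_iff]
      intro x _
      rw [Submodule.mem_torsionBySet_iff]
      rintro ⟨a, ha⟩
      exact Module.mem_annihilator.mp ha x)).trans Submodule.topEquiv)

include hd hf eW in
/-- `Hom(W, E) ≃ H^d(B / Ann W)` -/
theorem dual_quot_ann : Nonempty ((W →ₗ[B] E) ≃ₗ[B]
    LocCoh.H (maximalIdeal B) d (B ⧸ Module.annihilator B W)) := by
  haveI : Module.Injective B E := hf.isInjective
  have e1 := EW.canEquiv (maximalIdeal B) d (le_of_eq hd) E W eW (B ⧸ Module.annihilator B W)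
  exact ⟨(LinearEquiv.congrLeft E B (homQuotAnn W)).symm.trans e1.symm⟩

include hd hf eW in
theorem inv_of_cm (hcm : LocCoh.IsCohenMacaulayModule B (B ⧸ Module.annihilator B W)) :
    CanQ.Inv B E (B ⧸ Module.annihilator B W) W d :=
  ⟨inferInstance, inferInstance, hcm, supportDim_quot_ann d hd E f hf W eW,
    dual_quot_ann d hd E f hf W eW⟩

include hd hf eW in
/-- the endomorphism ring is a cyclic module -/
theorem end_cyclic_of_cm (hcm : LocCoh.IsCohenMacaulayModule B (B ⧸ Module.annihilator B W)) :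
    ∃ g₀ : W →ₗ[B] W, ∀ g : W →ₗ[B] W, ∃ b : B, g = b • g₀ := by
  haveI : Module.Injective B E := hf.isInjective
  obtain ⟨-, ⟨e⟩⟩ := CanQ.claim hf d (Module.annihilator B W) W (inv_of_cm d hd E f hf W eW hcm)
  have e1 := EW.canEquiv (maximalIdeal B) d (le_of_eq hd) E W eW W
  have e2 : ((W →ₗ[B] W) →ₗ[B] E) ≃ₗ[B]
      Submodule.torsionBySet B E ((Module.annihilator B W : Ideal B) : Set B) := e1.symm.trans e
  have hgen := IH.spanFinrank_eq_length_socle_dual hf (W →ₗ[B] W)
  -- the socle has length at most one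
  let j : Submodule.torsionBySet B ((W →ₗ[B] W) →ₗ[B] E) (maximalIdeal B : Set B) →ₗ[B]
      Submodule.torsionBySet B E (maximalIdeal B : Set B) :=
    LinearMap.codRestrict _ ((Submodule.subtype _).comp (e2.toLinearMap.comp (Submodule.subtype _)))
      (by
        intro x
        rw [Submodule.mem_torsionBySet_iff]
        intro a
        have hx : (a : B) • (x : (W →ₗ[B] W) →ₗ[B] E) = 0 :=
          (Submodule.mem_torsionBySet_iff _ _).mp x.2 a
        have h3 : (a : B) • e2 (x : (W →ₗ[B] W) →ₗ[B] E) = 0 := by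
          rw [← map_smul, hx, map_zero]
        exact congrArg Subtype.val h3)
  have hj : Function.Injective j := by
    intro x y hxy
    have h0 := Subtype.ext_iff.mp hxy
    have h1 : ((e2 (x : (W →ₗ[B] W) →ₗ[B] E) : E)) = (e2 (y : (W →ₗ[B] W) →ₗ[B] E) : E) := h0
    exact Subtype.ext (e2.injective (Subtype.ext h1))
  have hlen : Module.length B (Submodule.torsionBySet B ((W →ₗ[B] W) →ₗ[B] E)
      (maximalIdeal B : Set B)) ≤ 1 := by
    refine (Module.length_le_of_injective j hj).trans ?_
    exact le_of_eq (socle_length hf)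
  rw [← hgen] at hlen
  have h1 : (⊤ : Submodule B (W →ₗ[B] W)).spanFinrank ≤ 1 := by exact_mod_cast hlen
  rcases Nat.lt_or_ge (⊤ : Submodule B (W →ₗ[B] W)).spanFinrank 1 with h0 | h0
  · have h2 : (⊤ : Submodule B (W →ₗ[B] W)).spanFinrank = 0 := by omega
    rw [Submodule.spanFinrank_eq_zero_iff_eq_bot Module.Finite.fg_top] at h2
    refine ⟨0, fun g => ⟨0, ?_⟩⟩
    have : g ∈ (⊤ : Submodule B (W →ₗ[B] W)) := trivial
    rw [h2, Submodule.mem_bot] at this
    rw [this, smul_zero]
  · have h2 : (⊤ : Submodule B (W →ₗ[B] W)).spanFinrank = 1 := by omega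
    obtain ⟨⟨g₀, hg₀⟩, -⟩ := (Submodule.spanFinrank_eq_one_iff _).mp h2
    refine ⟨g₀, fun g => ?_⟩
    have : g ∈ Submodule.span B {g₀} := by rw [← hg₀]; trivial
    obtain ⟨r, rfl⟩ := Submodule.mem_span_singleton.mp this
    exact ⟨r, rfl⟩

include hd hf eW in
/-- every endomorphism is a homothety -/
theorem end_eq_smul_id_of_cm
    (hcm : LocCoh.IsCohenMacaulayModule B (B ⧸ Module.annihilator B W)) (g : W →ₗ[B] W) :
    ∃ b : B, g = b • (LinearMap.id : W →ₗ[B] W) := by
  obtain ⟨g₀, hg₀⟩ := end_cyclic_of_cm d hd E f hf W eW hcm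
  obtain ⟨r₀, hr₀⟩ := hg₀ LinearMap.id
  obtain ⟨s, hs⟩ := hg₀ (g₀ ∘ₗ g₀)
  have h1 : g₀ = (r₀ * s) • g₀ := by
    calc g₀ = g₀ ∘ₗ LinearMap.id := (LinearMap.comp_id g₀).symm
      _ = g₀ ∘ₗ (r₀ • g₀) := by rw [← hr₀]
      _ = r₀ • (g₀ ∘ₗ g₀) := LinearMap.comp_smul _ _ _
      _ = r₀ • (s • g₀) := by rw [← hs]
      _ = (r₀ * s) • g₀ := by rw [mul_smul]
  by_cases hu : IsUnit r₀
  · obtain ⟨v, hv⟩ := hu
    obtain ⟨b, hb⟩ := hg₀ g
    refine ⟨b * ((v⁻¹ : Bˣ) : B), ?_⟩
    rw [hb, mul_smul]
    congr 1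
    rw [hr₀, ← mul_smul, ← hv, Units.inv_mul, one_smul]
  · have h2 : r₀ * s ∈ maximalIdeal B := Ideal.mul_mem_right _ _ ((mem_maximalIdeal r₀).mpr hu)
    have h3 : IsUnit (1 - r₀ * s) := by
      by_contra h4
      have h5 : (1 - r₀ * s) ∈ maximalIdeal B := (mem_maximalIdeal _).mpr h4
      have h6 : (1 : B) ∈ maximalIdeal B := by
        have := Ideal.add_mem _ h5 h2
        rwa [sub_add_cancel] at this
      exact (maximalIdeal.isMaximal B).ne_top ((Ideal.eq_top_iff_one _).mpr h6)
    have h4 : (1 - r₀ * s) • g₀ = 0 := by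
      rw [sub_smul, one_smul, ← h1, sub_self]
    obtain ⟨v, hv⟩ := h3
    have h5 : g₀ = 0 := by
      have := congrArg (fun z => ((v⁻¹ : Bˣ) : B) • z) h4
      simp only [smul_zero] at this
      rwa [← hv, ← mul_smul, Units.inv_mul, one_smul] at this
    obtain ⟨b, hb⟩ := hg₀ g
    obtain ⟨b', hb'⟩ := hg₀ LinearMap.id
    refine ⟨0, ?_⟩
    rw [hb, h5, smul_zero, zero_smul]

include hd hf eW in
/-- in dimension at most one, `B / Ann W` is Cohen–Macaulay -/
theorem cm_quot_ann_of_dim_le_one (hd1 : d ≤ 1) :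
    LocCoh.IsCohenMacaulayModule B (B ⧸ Module.annihilator B W) := by
  have hdim := supportDim_quot_ann d hd E f hf W eW
  have hle := depth_le_of_supportDim_eq (B ⧸ Module.annihilator B W) d hdim
  unfold LocCoh.IsCohenMacaulayModule
  rw [hdim]
  rcases Nat.eq_zero_or_pos d with h0 | hpos
  · subst h0
    have h1 : LocCoh.depth B (B ⧸ Module.annihilator B W) = 0 :=
      le_antisymm (by exact_mod_cast hle) zero_le
    rw [h1]
    rfl
  · have hd' : d = 1 := by omega
    subst hd'
    have hbot : ringKrullDim (B ⧸ (⊥ : Ideal B)) ≤ ((1 : ℕ) : WithBot ℕ∞) := by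
      rw [ringKrullDim_eq_of_ringEquiv (RingEquiv.quotientBot B), hd]
    obtain ⟨a, ham, ha⟩ := CanS2.exists_drop 1 le_rfl ⊥ hbot (maximalIdeal B) (by
      letI : Field (B ⧸ maximalIdeal B) := Ideal.Quotient.field _
      rw [ringKrullDim_eq_zero_of_field]
      rfl)
    rw [bot_sup_eq] at ha
    have hreg := CanReg.reg_zero 1 hd E f hf W eW Nat.one_pos a ha
    have hreg' : IsSMulRegular (B ⧸ Module.annihilator B W) a := by
      intro x y hxy
      obtain ⟨x, rfl⟩ := Ideal.Quotient.mk_surjective x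
      obtain ⟨y, rfl⟩ := Ideal.Quotient.mk_surjective y
      have h1 : a * (x - y) ∈ Module.annihilator B W := by
        rw [← Ideal.Quotient.eq_zero_iff_mem, map_mul, map_sub, mul_sub, sub_eq_zero]
        exact hxy
      rw [Ideal.Quotient.eq, Module.mem_annihilator]
      intro w
      apply hreg
      change a • ((x - y) • w) = a • 0
      rw [smul_zero, ← mul_smul]
      exact Module.mem_annihilator.mp h1 w
    have h2 := Depth.idealDepth_quotSMulTop_add_one (maximalIdeal B)
      (B ⧸ Module.annihilator B W) a ham hreg'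
    have h3 : (1 : ℕ∞) ≤ LocCoh.depth B (B ⧸ Module.annihilator B W) := by
      unfold LocCoh.depth
      rw [← h2]
      exact le_add_self
    have h4 : LocCoh.depth B (B ⧸ Module.annihilator B W) = 1 :=
      le_antisymm (by exact_mod_cast hle) h3
    rw [h4]
    rfl

include hd hf eW in
/-- **key case of S7704**: in dimension at most one every endomorphism of the canonical module
is a homothety -/
theorem end_eq_smul_id (hd1 : d ≤ 1) (g : W →ₗ[B] W) :
    ∃ b : B, g = b • (LinearMap.id : W →ₗ[B] W) :=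
  end_eq_smul_id_of_cm d hd E f hf W eW (cm_quot_ann_of_dim_le_one d hd E f hf W eW hd1) g

end Groth.Agent.H6.CanEndS
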