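import Groth.Agent.Lib.Helper6.RelHt
import Groth.Agent.Lib.Helper6.SkKit

universe u
set_option linter.unusedSectionVars false

namespace Groth.Agent.H6

namespace RelHt

variable {R : Type u} [CommRing R]

/-- the inclusion of the primes over `Q` into the primes over `a ≤ Q` -/
def incl {a Q : Ideal R} (haQ : a ≤ Q) :
    PrimeSpectrum.zeroLocus (R := R) Q → PrimeSpectrum.zeroLocus (R := R) a :=
  fun x => ⟨x.1, fun _ hr => x.2 (haQ hr)⟩

theorem incl_strictMono {a Q : Ideal R} (haQ : a ≤ Q) : StrictMono (incl haQ) :=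
  fun _ _ h => h

theorem relHt_add_le_aux (a Q P : Ideal R) [hQ : Q.IsPrime] [hP : P.IsPrime] (haQ : a ≤ Q)
    (hQP : Q ≤ P) (n k : ℕ) (hn : (n : ℕ∞) ≤ relHt a Q haQ) (hk : (k : ℕ∞) ≤ relHt Q P hQP) :
    ((n + k : ℕ) : ℕ∞) ≤ relHt a P (haQ.trans hQP) := by
  obtain ⟨s₁, hs₁, hl₁⟩ := Order.exists_series_of_le_height _ hn
  obtain ⟨s₂, hs₂, hl₂⟩ := Order.exists_series_of_le_height _ hk
  let s₂' := s₂.map (incl haQ) (incl_strictMono haQ)
  let xQ : PrimeSpectrum.zeroLocus (R := R) a := ⟨⟨Q, hQ⟩, haQ⟩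
  have hhead : xQ ≤ s₂'.head := by
    rw [LTSeries.head_map]
    exact s₂.head.2
  have hlast : s₂'.last = ⟨⟨P, hP⟩, haQ.trans hQP⟩ := by
    rw [LTSeries.last_map, hs₂]
    rfl
  by_cases hQh : xQ = s₂'.head
  · let s := s₁.smash s₂' (hs₁.trans hQh)
    have h1 : s.length = n + k := by
      rw [RelSeries.smash_length, hl₁, LTSeries.map_length, hl₂]
    have h2 : s.last = ⟨⟨P, hP⟩, haQ.trans hQP⟩ := by
      rw [RelSeries.last_smash, hlast]
    rw [← h1]
    exact Order.length_le_height (le_of_eq h2)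
  · let s₃ := s₂'.cons xQ (lt_of_le_of_ne hhead hQh)
    let s := s₁.smash s₃ (by rw [RelSeries.head_cons]; exact hs₁)
    have h1 : s.length = n + (k + 1) := by
      rw [RelSeries.smash_length, hl₁, RelSeries.cons_length, LTSeries.map_length, hl₂]
    have h2 : s.last = ⟨⟨P, hP⟩, haQ.trans hQP⟩ := by
      rw [RelSeries.last_smash, RelSeries.last_cons, hlast]
    have h3 : ((n + (k + 1) : ℕ) : ℕ∞) ≤ relHt a P (haQ.trans hQP) := by
      rw [← h1]
      exact Order.length_le_height (le_of_eq h2)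
    refine le_trans ?_ h3
    exact_mod_cast (by omega : n + k ≤ n + (k + 1))

/-- heights add up along a chain (superadditivity) -/
theorem relHt_add_le [IsNoetherianRing R] (a Q P : Ideal R) [hQ : Q.IsPrime] [hP : P.IsPrime]
    (haQ : a ≤ Q) (hQP : Q ≤ P) :
    relHt a Q haQ + relHt Q P hQP ≤ relHt a P (haQ.trans hQP) := by
  obtain ⟨n, hn⟩ := ENat.ne_top_iff_exists.mp (relHt_lt_top a Q haQ).ne
  obtain ⟨k, hk⟩ := ENat.ne_top_iff_exists.mp (relHt_lt_top Q P hQP).ne
  rw [← hn, ← hk, ← Nat.cast_add]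
  exact relHt_add_le_aux a Q P haQ hQP n k (le_of_eq hn) (le_of_eq hk)


/-- the dimension of the localisation `M_p` is the height of `p` among the primes containing
the annihilator of `M` -/
theorem supportDim_localized_eq_relHt (M : Type u) [AddCommGroup M] [Module R M]
    [Module.Finite R M] (p : Ideal R) [hp : p.IsPrime] (hap : Module.annihilator R M ≤ p) :
    Module.supportDim (Localization.AtPrime p) (LocalizedModule p.primeCompl M) =
      ((relHt (Module.annihilator R M) p hap : ℕ∞) : WithBot ℕ∞) := by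
  unfold relHt
  rw [Order.height_eq_krullDim_Iic]
  unfold Module.supportDim
  let e := IsLocalization.AtPrime.primeSpectrumOrderIso (Localization.AtPrime p) p
  have he : ∀ Q' : PrimeSpectrum (Localization.AtPrime p), ((e Q').1 : PrimeSpectrum R) =
      PrimeSpectrum.comap (algebraMap R (Localization.AtPrime p)) Q' := fun _ => rfl
  have hmem : ∀ Q' : PrimeSpectrum (Localization.AtPrime p),
      Q' ∈ Module.support (Localization.AtPrime p) (LocalizedModule p.primeCompl M) ↔
        Module.annihilator R M ≤ ((e Q').1 : PrimeSpectrum R).asIdeal := by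
    intro Q'
    rw [Sk.mem_support_localizedModule_iff, Module.mem_support_iff_of_finite, he]
  apply le_antisymm
  · let f : Module.support (Localization.AtPrime p) (LocalizedModule p.primeCompl M) →
        Set.Iic (⟨⟨p, hp⟩, hap⟩ : PrimeSpectrum.zeroLocus (R := R) (Module.annihilator R M)) :=
      fun Q' => ⟨⟨(e Q'.1).1, (hmem Q'.1).mp Q'.2⟩, (e Q'.1).2⟩
    refine Order.krullDim_le_of_strictMono f ?_
    intro Q₁ Q₂ h
    exact e.strictMono h
  · let g : Set.Iic (⟨⟨p, hp⟩, hap⟩ : PrimeSpectrum.zeroLocus (R := R) (Module.annihilator R M)) →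
        Module.support (Localization.AtPrime p) (LocalizedModule p.primeCompl M) :=
      fun Q => ⟨e.symm ⟨Q.1.1, Q.2⟩, (hmem _).mpr (by
        rw [e.apply_symm_apply]
        exact Q.1.2)⟩
    refine Order.krullDim_le_of_strictMono g ?_
    intro Q₁ Q₂ h
    exact e.symm.strictMono h

end RelHt

end Groth.Agent.H6
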