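import Mathlib

/-!
# Ring homomorphisms to an algebraically closed field and group actions (helper6)
-/

set_option autoImplicit false
universe u v w

namespace Groth.Agent.H6.HomExt

open Polynomial Pointwise

/-- A ring homomorphism to an algebraically closed field extends along an injective integral
ring extension. -/
theorem exists_ringHom_extension {R : Type u} {S : Type v} {Ω : Type w} [CommRing R] [CommRing S]
    [Algebra R S] [Algebra.IsIntegral R S] (hinj : Function.Injective (algebraMap R S))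
    [Field Ω] [IsAlgClosed Ω] (φ : R →+* Ω) :
    ∃ ψ : S →+* Ω, ψ.comp (algebraMap R S) = φ := by
  let P := RingHom.ker φ
  haveI : P.IsPrime := RingHom.ker_isPrime φ
  obtain ⟨Q, -, hQ, hQP⟩ := Ideal.exists_ideal_over_prime_of_isIntegral P (⊥ : Ideal S) (by
    rw [Ideal.comap_bot_of_injective _ hinj]; exact bot_le)
  haveI : Q.IsPrime := hQ
  haveI : Q.LiesOver P := ⟨hQP.symm⟩
  letI : Algebra (R ⧸ P) Ω := (Ideal.Quotient.lift P φ (fun a ha => ha)).toAlgebra
  have hinjΩ : Function.Injective (algebraMap (R ⧸ P) Ω) := by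
    rw [injective_iff_map_eq_zero]
    intro x hx
    obtain ⟨r, rfl⟩ := Ideal.Quotient.mk_surjective x
    exact Ideal.Quotient.eq_zero_iff_mem.mpr hx
  haveI : FaithfulSMul (R ⧸ P) Ω := (faithfulSMul_iff_algebraMap_injective _ _).mpr hinjΩ
  let g : S ⧸ Q →ₐ[R ⧸ P] Ω := IsAlgClosed.lift
  refine ⟨g.toRingHom.comp (Ideal.Quotient.mk Q), ?_⟩
  ext r
  have h1 : Ideal.Quotient.mk Q (algebraMap R S r) =
      algebraMap (R ⧸ P) (S ⧸ Q) (Ideal.Quotient.mk P r) := rfl
  simp only [RingHom.coe_comp, Function.comp_apply, AlgHom.toRingHom_eq_coe, RingHom.coe_coe]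
  rw [h1, g.commutes]
  rfl

section Conj

variable {A : Type u} {C : Type v} {G : Type w} {Ω : Type*} [CommRing A] [CommRing C]
  [Algebra A C] [Group G] [Finite G] [MulSemiringAction G C] [SMulCommClass G A C]
  [Algebra.IsInvariant A C G] [Field Ω]

/-- Two ring homomorphisms to a field which agree on the invariants have pointwise conjugate
values. -/
theorem exists_smul_apply_eq (ψ ψ₁ : C →+* Ω)
    (h : ψ.comp (algebraMap A C) = ψ₁.comp (algebraMap A C)) (x : C) :
    ∃ g : G, ψ₁ x = ψ (g • x) := by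
  classical
  cases nonempty_fintype G
  obtain ⟨p, hp⟩ := Algebra.IsInvariant.charpoly_mem_lifts A C G x
  rw [Polynomial.coe_mapRingHom] at hp
  have h1 : (p.map (ψ₁.comp (algebraMap A C))).eval (ψ₁ x) = 0 := by
    rw [← Polynomial.map_map, hp, Polynomial.eval_map, Polynomial.eval₂_hom,
      MulSemiringAction.eval_charpoly, map_zero]
  rw [← h, ← Polynomial.map_map, hp, MulSemiringAction.charpoly_eq, Polynomial.map_prod,
    Polynomial.eval_prod, Finset.prod_eq_zero_iff] at h1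
  obtain ⟨g, -, hg⟩ := h1
  refine ⟨g, ?_⟩
  rw [Polynomial.map_sub, Polynomial.map_X, Polynomial.map_C, Polynomial.eval_sub,
    Polynomial.eval_X, Polynomial.eval_C, sub_eq_zero] at hg
  exact hg

/-- Two ring homomorphisms to a field with the same kernel `Q` which agree on the invariants
differ by an element of the decomposition group of `Q`. -/
theorem exists_stabilizer_smul_eq (ψ ψ₁ : C →+* Ω)
    (h : ψ.comp (algebraMap A C) = ψ₁.comp (algebraMap A C))
    (hker : RingHom.ker ψ₁ = RingHom.ker ψ) :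
    ∃ δ : G, δ • RingHom.ker ψ = RingHom.ker ψ ∧ ∀ x, ψ₁ x = ψ (δ • x) := by
  classical
  let Q := RingHom.ker ψ
  haveI : Q.IsPrime := RingHom.ker_isPrime ψ
  let P := Q.under A
  haveI : Q.LiesOver P := ⟨rfl⟩
  let ψb : C ⧸ Q →+* Ω := Ideal.Quotient.lift Q ψ (fun a ha => ha)
  let ψb₁ : C ⧸ Q →+* Ω := Ideal.Quotient.lift Q ψ₁ (fun a ha => by
    have : a ∈ RingHom.ker ψ₁ := by rw [hker]; exact ha
    exact this)
  have hinj : Function.Injective ψb := by
    rw [injective_iff_map_eq_zero]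
    intro x hx
    obtain ⟨c, rfl⟩ := Ideal.Quotient.mk_surjective x
    exact Ideal.Quotient.eq_zero_iff_mem.mpr hx
  have hinj₁ : Function.Injective ψb₁ := by
    rw [injective_iff_map_eq_zero]
    intro x hx
    obtain ⟨c, rfl⟩ := Ideal.Quotient.mk_surjective x
    have : c ∈ RingHom.ker ψ₁ := hx
    rw [hker] at this
    exact Ideal.Quotient.eq_zero_iff_mem.mpr this
  have hr1 : ∀ x : C ⧸ Q, ψb₁ x ∈ ψb.range := by
    intro x
    obtain ⟨c, rfl⟩ := Ideal.Quotient.mk_surjective x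
    obtain ⟨g, hg⟩ := exists_smul_apply_eq (G := G) ψ ψ₁ h c
    exact ⟨Ideal.Quotient.mk Q (g • c), hg.symm⟩
  have hr2 : ∀ x : C ⧸ Q, ψb x ∈ ψb₁.range := by
    intro x
    obtain ⟨c, rfl⟩ := Ideal.Quotient.mk_surjective x
    obtain ⟨g, hg⟩ := exists_smul_apply_eq (G := G) ψ₁ ψ h.symm c
    exact ⟨Ideal.Quotient.mk Q (g • c), hg.symm⟩
  let e : C ⧸ Q ≃+* ψb.range := RingEquiv.ofBijective ψb.rangeRestrict
    ⟨fun a b hab => hinj (congrArg Subtype.val hab), ψb.rangeRestrict_surjective⟩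
  let α₀ : C ⧸ Q →+* C ⧸ Q := e.symm.toRingHom.comp (ψb₁.codRestrict ψb.range hr1)
  have hα₀ : ∀ x, ψb (α₀ x) = ψb₁ x := by
    intro x
    have : e (α₀ x) = ψb₁.codRestrict ψb.range hr1 x := e.apply_symm_apply _
    exact congrArg Subtype.val this
  have hα₀bij : Function.Bijective α₀ := by
    constructor
    · intro a b hab
      apply hinj₁
      rw [← hα₀, ← hα₀, hab]
    · intro y
      obtain ⟨x, hx⟩ := hr2 y
      refine ⟨x, hinj ?_⟩
      rw [hα₀, hx]
  let α : (C ⧸ Q) ≃ₐ[A ⧸ P] (C ⧸ Q) :=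
    AlgEquiv.ofRingEquiv (f := RingEquiv.ofBijective α₀ hα₀bij) (by
      intro a
      obtain ⟨a, rfl⟩ := Ideal.Quotient.mk_surjective a
      apply hinj
      change ψb (α₀ _) = _
      rw [hα₀]
      change ψ₁ (algebraMap A C a) = ψ (algebraMap A C a)
      exact (congrArg (fun f : A →+* Ω => f a) h).symm)
  obtain ⟨δ, hδ⟩ := Ideal.Quotient.stabilizerHom_surjective G P Q α
  refine ⟨δ, δ.2, fun x => ?_⟩
  have h1 : α (Ideal.Quotient.mk Q x) = Ideal.Quotient.mk Q ((δ : G) • x) := by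
    rw [← hδ]
    rfl
  have h2 : ψb (α (Ideal.Quotient.mk Q x)) = ψb₁ (Ideal.Quotient.mk Q x) := hα₀ _
  rw [h1] at h2
  exact h2.symm

/-- Two ring homomorphisms to a field which agree on the invariants are conjugate. -/
theorem exists_smul_eq (ψ ψ₀ : C →+* Ω)
    (h : ψ.comp (algebraMap A C) = ψ₀.comp (algebraMap A C)) :
    ∃ σ : G, ∀ x, ψ x = ψ₀ (σ • x) := by
  classical
  haveI : (RingHom.ker ψ).IsPrime := RingHom.ker_isPrime ψ
  haveI : (RingHom.ker ψ₀).IsPrime := RingHom.ker_isPrime ψ₀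
  have hu : (RingHom.ker ψ).under A = (RingHom.ker ψ₀).under A := by
    ext a
    simp only [Ideal.under_def, Ideal.mem_comap, RingHom.mem_ker]
    have := congrArg (fun f : A →+* Ω => f a) h
    simp only [RingHom.coe_comp, Function.comp_apply] at this
    rw [this]
  obtain ⟨τ, hτ⟩ := Algebra.IsInvariant.exists_smul_of_under_eq A C G _ _ hu
  let ψ₁ : C →+* Ω := ψ₀.comp (MulSemiringAction.toRingHom G C τ)
  have hψ₁ : ∀ x, ψ₁ x = ψ₀ (τ • x) := fun x => rfl
  have hker : RingHom.ker ψ₁ = RingHom.ker ψ := by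
    ext x
    rw [RingHom.mem_ker, hψ₁, ← RingHom.mem_ker, hτ, Ideal.smul_mem_pointwise_smul_iff]
  have h1 : ψ.comp (algebraMap A C) = ψ₁.comp (algebraMap A C) := by
    rw [h]
    ext a
    simp only [RingHom.coe_comp, Function.comp_apply, hψ₁, smul_algebraMap]
  obtain ⟨δ, -, hδ⟩ := exists_stabilizer_smul_eq (G := G) ψ ψ₁ h1 hker
  refine ⟨τ * δ⁻¹, fun x => ?_⟩
  rw [mul_smul, ← hψ₁, hδ, smul_inv_smul]

end Conj

end Groth.Agent.H6.HomExt
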