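import Mathlib

/-!
# Lagrange interpolation for finite equivariant families (helper6)

`G` acts on a commutative ring `R`; `ι` is a finite `G`-set and `r β : ι → R` are equivariant maps.
`F = ∏ (X - r i)` and `Q = ∑ β i ∏_{j ≠ i} (X - r j)` are `G`-invariant polynomials.
-/

set_option autoImplicit false
universe u v w

namespace Groth.Agent.H6.Inertia

open Polynomial

variable {G : Type u} {R : Type v} {ι : Type w} [Group G] [CommRing R] [MulSemiringAction G R]
  [Fintype ι] [DecidableEq ι] [MulAction G ι]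

/-- `∏_i (X - r i)`. -/
noncomputable def F (r : ι → R) : R[X] := ∏ i, (X - C (r i))

/-- `∏_{j ≠ i} (X - r j)`. -/
noncomputable def Fi (r : ι → R) (i : ι) : R[X] := ∏ j ∈ Finset.univ.erase i, (X - C (r j))

/-- `∑_i β i ∏_{j ≠ i} (X - r j)`. -/
noncomputable def Q (r β : ι → R) : R[X] := ∑ i, C (β i) * Fi r i

lemma monic_F (r : ι → R) : (F r).Monic := monic_prod_X_sub_C _ _

lemma X_sub_C_mul_Fi (r : ι → R) (i : ι) : (X - C (r i)) * Fi r i = F r := by
  unfold Fi F
  exact Finset.mul_prod_erase Finset.univ (fun j => X - C (r j)) (Finset.mem_univ i)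

lemma derivative_F (r : ι → R) : derivative (F r) = ∑ i, Fi r i := by
  unfold F Fi
  rw [derivative_prod_finset]
  refine Finset.sum_congr rfl fun i _ => ?_
  simp

lemma eval_Fi_of_ne (r : ι → R) {i j : ι} (h : i ≠ j) : eval (r j) (Fi r i) = 0 := by
  unfold Fi
  rw [eval_prod]
  exact Finset.prod_eq_zero (Finset.mem_erase.mpr ⟨h.symm, Finset.mem_univ j⟩) (by simp)

lemma eval_Fi_self (r : ι → R) (i : ι) :
    eval (r i) (Fi r i) = ∏ j ∈ Finset.univ.erase i, (r i - r j) := by
  unfold Fi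
  rw [eval_prod]
  simp

lemma eval_F (r : ι → R) (i : ι) : eval (r i) (F r) = 0 := by
  rw [← X_sub_C_mul_Fi r i]; simp

lemma eval_derivative_F (r : ι → R) (i : ι) :
    eval (r i) (derivative (F r)) = eval (r i) (Fi r i) := by
  rw [derivative_F, eval_finsetSum]
  rw [Finset.sum_eq_single i]
  · intro j _ hj; exact eval_Fi_of_ne r hj
  · intro h; exact absurd (Finset.mem_univ i) h

lemma eval_Q (r β : ι → R) (i : ι) :
    eval (r i) (Q r β) = β i * eval (r i) (derivative (F r)) := by
  rw [eval_derivative_F]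
  unfold Q
  rw [eval_finsetSum, Finset.sum_eq_single i]
  · simp
  · intro j _ hj; simp [eval_Fi_of_ne r hj]
  · intro h; exact absurd (Finset.mem_univ i) h

/-- Lagrange: `P * F' ≡ ∑ P(r i) F_i` modulo `F`. -/
lemma F_dvd_lagrange (r : ι → R) (P : R[X]) :
    F r ∣ P * derivative (F r) - ∑ i, C (eval (r i) P) * Fi r i := by
  rw [derivative_F, Finset.mul_sum, ← Finset.sum_sub_distrib]
  refine Finset.dvd_sum fun i _ => ?_
  rw [← sub_mul]
  obtain ⟨S, hS⟩ := X_sub_C_dvd_sub_C_eval (a := r i) (p := P)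
  rw [hS, mul_right_comm, X_sub_C_mul_Fi]
  exact Dvd.intro _ rfl

lemma F_dvd_mul_derivative_of_eval_eq_zero (r : ι → R) (P : R[X]) (h : ∀ i, eval (r i) P = 0) :
    F r ∣ P * derivative (F r) := by
  have := F_dvd_lagrange r P
  simpa [h] using this

section equivariant

variable (r β : ι → R)

lemma smul_F (hr : ∀ (σ : G) (i : ι), r (σ • i) = σ • r i) (σ : G) : σ • F r = F r := by
  unfold F
  rw [Finset.smul_prod']
  simp only [smul_sub, smul_X, smul_C, ← hr]
  exact Fintype.prod_equiv (MulAction.toPerm σ) _ _ (fun i => rfl)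

lemma smul_Fi (hr : ∀ (σ : G) (i : ι), r (σ • i) = σ • r i) (σ : G) (i : ι) :
    σ • Fi r i = Fi r (σ • i) := by
  unfold Fi
  rw [Finset.smul_prod']
  simp only [smul_sub, smul_X, smul_C, ← hr]
  have : Finset.univ.erase (σ • i) = (Finset.univ.erase i).map (MulAction.toPerm σ).toEmbedding := by
    rw [Finset.map_erase, Finset.map_univ_equiv]; rfl
  rw [this, Finset.prod_map]
  rfl

lemma smul_Q (hr : ∀ (σ : G) (i : ι), r (σ • i) = σ • r i)
    (hβ : ∀ (σ : G) (i : ι), β (σ • i) = σ • β i) (σ : G) : σ • Q r β = Q r β := by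
  unfold Q
  rw [Finset.smul_sum]
  simp only [smul_mul', smul_C, smul_Fi r hr, ← hβ]
  exact Fintype.sum_equiv (MulAction.toPerm σ) _ _ (fun i => rfl)

end equivariant

end Groth.Agent.H6.Inertia
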