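import Mathlib
import Groth.Prelude.Def_Pi1
import Groth.Agent.Lib.Helper6.Inertia1

/-!
# Invariants of the stabilizer of an element are standard étale over the invariants (helper6)

`G` finite acting on `R`, `θ : R`, `H` the stabilizer of `θ`, `F = ∏_{G/H} (X - σ θ)`.
Then `R^H [1/F'(θ)]` is (standard) étale over `R^G`.
-/

set_option autoImplicit false
universe u

namespace Groth.Agent.H6.Inertia

open Polynomial Pi1

variable {G R : Type u} [Group G] [Finite G] [CommRing R] [MulSemiringAction G R]

lemma coeffs_subset_fixedPoints (p : R[X]) (h : ∀ σ : G, σ • p = p) :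
    (↑p.coeffs : Set R) ⊆ (FixedPoints.subring R G : Set R) := by
  intro c hc
  rw [Finset.mem_coe, mem_coeffs_iff] at hc
  obtain ⟨n, -, rfl⟩ := hc
  intro σ
  have := congrArg (fun q => q.coeff n) (h σ)
  simpa [smul_eq_map] using this

lemma smul_map_subtype (p : (FixedPoints.subring R G)[X]) (σ : G) :
    σ • p.map (FixedPoints.subring R G).subtype = p.map (FixedPoints.subring R G).subtype := by
  rw [smul_eq_map, map_map]
  congr 1
  ext a
  exact a.2 σ

section main

variable (θ : R)

open MulAction in
/-- The index set `G ⧸ Stab(θ)`. -/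
abbrev Idx : Type u := G ⧸ MulAction.stabilizer G θ

noncomputable instance : Fintype (Idx (G := G) θ) := Fintype.ofFinite _
noncomputable instance : DecidableEq (Idx (G := G) θ) := Classical.decEq _

/-- The roots `σ θ`. -/
noncomputable abbrev rt : Idx (G := G) θ → R := MulAction.ofQuotientStabilizer G θ

lemma rt_smul (σ : G) (i : Idx (G := G) θ) : rt θ (σ • i) = σ • rt θ i :=
  MulAction.ofQuotientStabilizer_smul G θ σ i

/-- The conjugates of an element fixed by the stabilizer. -/
noncomputable def bt (b : R) (hb : ∀ σ ∈ MulAction.stabilizer G θ, σ • b = b) :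
    Idx (G := G) θ → R :=
  fun i => Quotient.liftOn' i (fun σ => σ • b) (by
    intro σ τ hστ
    rw [QuotientGroup.leftRel_apply] at hστ
    have := hb _ hστ
    change σ • b = τ • b
    rw [mul_smul, inv_smul_eq_iff] at this
    exact this.symm)

lemma bt_mk (b : R) (hb : ∀ σ ∈ MulAction.stabilizer G θ, σ • b = b) (σ : G) :
    bt θ b hb (σ : Idx (G := G) θ) = σ • b := rfl

lemma bt_smul (b : R) (hb : ∀ σ ∈ MulAction.stabilizer G θ, σ • b = b) (σ : G)
    (i : Idx (G := G) θ) : bt θ b hb (σ • i) = σ • bt θ b hb i := by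
  induction i using Quotient.inductionOn' with
  | h τ =>
    change bt θ b hb ((σ * τ : G) : Idx (G := G) θ) = σ • bt θ b hb (τ : Idx (G := G) θ)
    rw [bt_mk, bt_mk, mul_smul]

/-- `F ∈ R^G[X]`. -/
noncomputable def FA : (FixedPoints.subring R G)[X] :=
  (F (rt θ)).toSubring (FixedPoints.subring R G)
    (coeffs_subset_fixedPoints _ (smul_F (rt θ) (rt_smul θ)))

lemma map_FA : (FA (G := G) θ).map (FixedPoints.subring R G).subtype = F (rt (G := G) θ) :=
  map_toSubring _ _ _

lemma monic_FA : (FA (G := G) θ).Monic :=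
  (monic_toSubring _ _ _).mpr (monic_F _)

/-- `θ` as an element of `R^H`. -/
def θH : FixedPoints.subring R (MulAction.stabilizer G θ) := ⟨θ, fun h => h.2⟩

lemma coe_aeval (H : Subgroup G) (t : FixedPoints.subring R H) (p : (FixedPoints.subring R G)[X]) :
    ((aeval t p : FixedPoints.subring R H) : R) =
      eval (t : R) (p.map (FixedPoints.subring R G).subtype) := by
  rw [eval_map, aeval_def]
  exact Polynomial.hom_eval₂ p (algebraMap (FixedPoints.subring R G) (FixedPoints.subring R H))
    (FixedPoints.subring R H).subtype t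

lemma rt_one : rt (G := G) θ ((1 : G) : Idx (G := G) θ) = θ := by
  change (1 : G) • θ = θ
  exact one_smul _ _

lemma aeval_FA : aeval (θH (G := G) θ) (FA (G := G) θ) = 0 := by
  apply Subtype.ext
  rw [coe_aeval, map_FA]
  have := eval_F (rt (G := G) θ) ((1 : G) : Idx (G := G) θ)
  rw [rt_one] at this
  exact this

lemma eval_smul_map (p : (FixedPoints.subring R G)[X]) (σ : G) (t : R) :
    eval (σ • t) (p.map (FixedPoints.subring R G).subtype) =
      σ • eval t (p.map (FixedPoints.subring R G).subtype) := by
  conv_lhs => rw [← smul_map_subtype p σ]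
  exact smul_eval_smul R σ _ t

/-- Key lemma 1: polynomials over `R^G` vanishing at `θ` are killed by `F'` modulo `F`. -/
lemma FA_dvd_of_aeval_eq_zero (p : (FixedPoints.subring R G)[X])
    (h : aeval (θH (G := G) θ) p = 0) : FA (G := G) θ ∣ p * derivative (FA (G := G) θ) := by
  have h0 : eval θ (p.map (FixedPoints.subring R G).subtype) = 0 := by
    have := congrArg (fun t : FixedPoints.subring R (MulAction.stabilizer G θ) => (t : R)) h
    simpa [coe_aeval, θH] using this
  have h1 : ∀ i : Idx (G := G) θ, eval (rt θ i) (p.map (FixedPoints.subring R G).subtype) = 0 := by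
    intro i
    induction i using Quotient.inductionOn' with
    | h σ =>
      change eval (σ • θ) _ = 0
      rw [eval_smul_map, h0, smul_zero]
  have h2 := F_dvd_mul_derivative_of_eval_eq_zero (rt (G := G) θ) _ h1
  rw [← modByMonic_eq_zero_iff_dvd (monic_FA θ)]
  apply Polynomial.map_injective (FixedPoints.subring R G).subtype Subtype.val_injective
  rw [Polynomial.map_zero, map_modByMonic _ (monic_FA θ), Polynomial.map_mul, ← derivative_map,
    map_FA, modByMonic_eq_zero_iff_dvd (monic_F _)]
  exact h2

/-- Key lemma 2: Lagrange interpolation. -/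
lemma exists_aeval_eq_mul (b : FixedPoints.subring R (MulAction.stabilizer G θ)) :
    ∃ p : (FixedPoints.subring R G)[X],
      aeval (θH (G := G) θ) p = b * aeval (θH (G := G) θ) (derivative (FA (G := G) θ)) := by
  have hb : ∀ σ ∈ MulAction.stabilizer G θ, σ • (b : R) = b := fun σ hσ => b.2 ⟨σ, hσ⟩
  refine ⟨(Q (rt θ) (bt θ b hb)).toSubring (FixedPoints.subring R G)
    (coeffs_subset_fixedPoints _ (smul_Q (rt θ) (bt θ b hb) (rt_smul θ) (bt_smul θ b hb))), ?_⟩
  apply Subtype.ext
  rw [coe_aeval, map_toSubring, Subring.coe_mul, coe_aeval, ← derivative_map, map_FA]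
  have := eval_Q (rt (G := G) θ) (bt θ b hb) ((1 : G) : Idx (G := G) θ)
  rw [rt_one, bt_mk, one_smul] at this
  exact this

end main

end Groth.Agent.H6.Inertia
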