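import Mathlib
import Groth.Prelude.Def_Pi1
import Groth.Agent.Lib.Helper6.Inertia2

/-!
# `R^H[1/F'(θ)]` is standard étale over `R^G` (helper6)
-/

set_option autoImplicit false
universe u

namespace Groth.Agent.H6.Inertia

open Polynomial Pi1

variable {G R : Type u} [Group G] [Finite G] [CommRing R] [MulSemiringAction G R]

variable (θ : R)

/-- The standard étale pair `(F, F')`. -/
noncomputable def pair : StandardEtalePair (FixedPoints.subring R G) where
  f := FA (G := G) θ
  monic_f := monic_FA θ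
  g := derivative (FA (G := G) θ)
  cond := ⟨1, 0, 1, by simp⟩

/-- `g = F'(θ) ∈ R^H`. -/
noncomputable def gH : FixedPoints.subring R (MulAction.stabilizer G θ) :=
  aeval (θH (G := G) θ) (derivative (FA (G := G) θ))

lemma hasMap :
    (pair (G := G) θ).HasMap (algebraMap (FixedPoints.subring R (MulAction.stabilizer G θ))
      (Localization.Away (gH (G := G) θ)) (θH (G := G) θ)) := by
  refine ⟨?_, ?_⟩
  · rw [aeval_algebraMap_apply]
    change algebraMap _ _ (aeval (θH (G := G) θ) (FA (G := G) θ)) = 0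
    rw [aeval_FA, map_zero]
  · rw [aeval_algebraMap_apply]
    exact IsLocalization.Away.algebraMap_isUnit (gH (G := G) θ)

theorem lift_bijective :
    Function.Bijective ((pair (G := G) θ).lift _ (hasMap (G := G) θ)) := by
  set P := pair (G := G) θ with hP
  set x := algebraMap (FixedPoints.subring R (MulAction.stabilizer G θ))
      (Localization.Away (gH (G := G) θ)) (θH (G := G) θ) with hx
  set ψ := P.lift x (hasMap (G := G) θ) with hψ
  let Pcan : StandardEtalePresentation (FixedPoints.subring R G) P.Ring :=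
    ⟨P, P.X, P.hasMap_X, by simpa [StandardEtalePair.lift_X_left] using Function.bijective_id⟩
  have hu : IsUnit (aeval P.X P.g) := P.hasMap_X.2
  have hψX : ψ P.X = x := P.lift_X _ _
  have hψp : ∀ p : (FixedPoints.subring R G)[X], ψ (aeval P.X p) =
      algebraMap _ (Localization.Away (gH (G := G) θ)) (aeval (θH (G := G) θ) p) := by
    intro p
    rw [← aeval_algHom_apply, hψX, hx, aeval_algebraMap_apply]
  have hψu : ψ (aeval P.X P.g) = algebraMap _ (Localization.Away (gH (G := G) θ)) (gH (G := G) θ) :=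
    hψp _
  have hF0 : aeval P.X (FA (G := G) θ) = 0 := P.hasMap_X.1
  constructor
  · rw [injective_iff_map_eq_zero]
    intro z hz
    obtain ⟨p, n, hzp⟩ := Pcan.exists_mul_aeval_x_g_pow_eq_aeval_x z
    change z * aeval P.X P.g ^ n = aeval P.X p at hzp
    have h1 : algebraMap _ (Localization.Away (gH (G := G) θ)) (aeval (θH (G := G) θ) p) = 0 := by
      rw [← hψp, ← hzp, map_mul, hz, zero_mul]
    rw [IsLocalization.map_eq_zero_iff (Submonoid.powers (gH (G := G) θ))] at h1
    obtain ⟨⟨_, k, rfl⟩, hk⟩ := h1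
    have h2 : aeval (θH (G := G) θ) (derivative (FA (G := G) θ) ^ k * p) = 0 := by
      rw [map_mul, map_pow]; exact hk
    obtain ⟨S, hS⟩ := FA_dvd_of_aeval_eq_zero θ _ h2
    have h3 : aeval P.X P.g ^ k * aeval P.X p * aeval P.X P.g = 0 := by
      have := congrArg (aeval P.X) hS
      rw [map_mul, map_mul, map_pow, map_mul, hF0, zero_mul] at this
      exact this
    have h4 : aeval P.X p = 0 := by
      have h5 := (hu.pow k).mul_right_eq_zero.mp (hu.mul_left_eq_zero.mp h3)
      exact h5
    rw [h4] at hzp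
    exact (hu.pow n).mul_left_eq_zero.mp hzp
  · intro y
    obtain ⟨k, b, hb⟩ := IsLocalization.Away.surj (gH (G := G) θ) y
    obtain ⟨Qp, hQ⟩ := exists_aeval_eq_mul θ b
    refine ⟨aeval P.X Qp * (↑(hu.unit⁻¹) : P.Ring) ^ (k + 1), ?_⟩
    have hv : ψ (↑(hu.unit⁻¹) : P.Ring) *
        algebraMap _ (Localization.Away (gH (G := G) θ)) (gH (G := G) θ) = 1 := by
      rw [← hψu, ← map_mul, IsUnit.val_inv_mul, map_one]
    rw [map_mul, map_pow, hψp, hQ, map_mul, ← hb]
    change y * _ ^ k * algebraMap _ _ (gH (G := G) θ) * _ = y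
    calc y * algebraMap _ (Localization.Away (gH (G := G) θ)) (gH (G := G) θ) ^ k *
          algebraMap _ _ (gH (G := G) θ) * ψ (↑(hu.unit⁻¹) : P.Ring) ^ (k + 1)
        = y * (ψ (↑(hu.unit⁻¹) : P.Ring) *
          algebraMap _ (Localization.Away (gH (G := G) θ)) (gH (G := G) θ)) ^ (k + 1) := by ring
      _ = y := by rw [hv, one_pow, mul_one]

/-- `R^H[1/F'(θ)]` is étale over `R^G`. -/
theorem etale_away_gH :
    Algebra.Etale (FixedPoints.subring R G) (Localization.Away (gH (G := G) θ)) := by
  haveI : Algebra.IsStandardEtale (FixedPoints.subring R G) (Localization.Away (gH (G := G) θ)) :=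
    ⟨⟨⟨pair (G := G) θ, _, hasMap (G := G) θ, lift_bijective (G := G) θ⟩⟩⟩
  infer_instance

/-- The value of `g = F'(θ)` in `R`. -/
lemma coe_gH : ((gH (G := G) θ : FixedPoints.subring R (MulAction.stabilizer G θ)) : R) =
    ∏ j ∈ Finset.univ.erase (((1 : G) : Idx (G := G) θ)), (θ - rt θ j) := by
  unfold gH
  rw [coe_aeval, ← derivative_map, map_FA]
  have := eval_derivative_F (rt (G := G) θ) ((1 : G) : Idx (G := G) θ)
  rw [eval_Fi_self, rt_one] at this
  exact this

/-- If `θ - σ θ ∉ q` for all `σ` outside the stabilizer, then `g ∉ q`. -/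
lemma gH_not_mem (q : Ideal R) [q.IsPrime]
    (h : ∀ σ : G, σ ∉ MulAction.stabilizer G θ → θ - σ • θ ∉ q) :
    ((gH (G := G) θ : FixedPoints.subring R (MulAction.stabilizer G θ)) : R) ∉ q := by
  rw [coe_gH, Ideal.IsPrime.prod_mem_iff]
  rintro ⟨j, hj, hjq⟩
  induction j using Quotient.inductionOn' with
  | h σ =>
    refine h σ ?_ hjq
    intro hσ
    apply (Finset.mem_erase.mp hj).1
    exact QuotientGroup.eq.mpr (by simpa using inv_mem hσ)

end Groth.Agent.H6.Inertia
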