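import Mathlib

/-!
# Separating elements for the decomposition group modulo inertia (helper6)
-/

set_option autoImplicit false
universe u v w

namespace Groth.Agent.H6.Inertia

open Polynomial Pointwise IntermediateField

section P1

open FaithfulSMul IsScalarTower


/-- There is an element of `B`, not in `Q`, whose class modulo `Q` is moved by every element of
the decomposition group outside the inertia group. -/
theorem exists_sep (A : Type u) {B : Type v} {G : Type w} [CommRing A] [CommRing B] [Algebra A B]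
    [Group G] [Finite G] [MulSemiringAction G B] [SMulCommClass G A B] [Algebra.IsInvariant A B G]
    (Q : Ideal B) [Q.IsPrime] :
    ∃ x : B, x ∉ Q ∧ ∀ σ : G, σ • Q = Q → σ • x - x ∈ Q → σ ∈ Q.inertia G := by
  classical
  let P := Q.under A
  haveI : Q.LiesOver P := ⟨rfl⟩
  haveI : P.IsPrime := Ideal.IsPrime.under A Q
  let K := FractionRing (A ⧸ P)
  let L := FractionRing (B ⧸ Q)
  letI := FractionRing.liftAlgebra (A ⧸ P) L
  let D := MulAction.stabilizer G Q
  let φ : D →* Gal(L/K) := IsFractionRing.stabilizerHom G P Q K L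
  letI : MulSemiringAction D L := MulSemiringAction.compHom L φ
  have hsmul : ∀ (d : D) (l : L), d • l = φ d l := fun d l => rfl
  obtain ⟨θ, hθ⟩ := Field.exists_primitive_element (FixedPoints.subfield D L) L
  have key : ∀ d : D, d • θ = θ → (d : G) ∈ Q.inertia G := by
    intro d hd
    have h1 : (FixedPoints.subfield D L)⟮θ⟯ ≤
        FixedBy.intermediateField (FixedPoints.subfield D L) L d :=
      IntermediateField.adjoin_simple_le_iff.mpr hd
    rw [hθ] at h1
    have h2 : φ d = 1 := by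
      ext l
      exact h1 (IntermediateField.mem_top (x := l))
    have h3 : d ∈ φ.ker := h2
    rw [IsFractionRing.ker_stabilizerHom G P Q K L] at h3
    intro x
    exact h3 x
  haveI : Algebra.IsIntegral A B := Algebra.IsInvariant.isIntegral A B G
  obtain ⟨x, y, hy, hxy⟩ := IsFractionRing.div_surjective (A := B ⧸ Q) θ
  obtain ⟨b, a, ha, h⟩ := (Algebra.IsAlgebraic.isAlgebraic (R := A ⧸ P) y).exists_smul_eq_mul x hy
  replace ha : algebraMap (A ⧸ P) L a ≠ 0 := by
    rwa [Ne, algebraMap_apply (A ⧸ P) K L, algebraMap_eq_zero_iff, algebraMap_eq_zero_iff]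
  replace hy : algebraMap (B ⧸ Q) L y ≠ 0 :=
    mt (algebraMap_eq_zero_iff (B ⧸ Q) L).mp (nonZeroDivisors.ne_zero hy)
  replace h : algebraMap (B ⧸ Q) L x / algebraMap (B ⧸ Q) L y =
      algebraMap (B ⧸ Q) L b / algebraMap (A ⧸ P) L a := by
    rw [mul_comm, Algebra.smul_def, mul_comm] at h
    rw [div_eq_div_iff hy ha, ← map_mul, ← h, map_mul, ← algebraMap_apply]
  rw [h] at hxy
  obtain ⟨c, rfl⟩ := Ideal.Quotient.mk_surjective b
  have key2 : ∀ d : D, (d : G) • c - c ∈ Q → d • θ = θ := by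
    intro d hd
    rw [hsmul, ← hxy, map_div₀]
    congr 1
    · change IsFractionRing.stabilizerHom G P Q K L d _ = _
      rw [IsFractionRing.stabilizerHom_apply_apply_mk]
      congr 1
      exact Ideal.Quotient.eq.mpr hd
    · rw [algebraMap_apply (A ⧸ P) K L]
      exact (φ d).commutes _
  by_cases hc : c ∈ Q
  · refine ⟨1, fun h1 => (inferInstance : Q.IsPrime).ne_top ((Ideal.eq_top_iff_one _).mpr h1), ?_⟩
    intro σ hσ _
    exact key ⟨σ, hσ⟩ (key2 ⟨σ, hσ⟩ (Q.sub_mem (by
      have : σ • c ∈ σ • Q := Ideal.smul_mem_pointwise_smul _ _ _ hc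
      rwa [hσ] at this) hc))
  · exact ⟨c, hc, fun σ hσ h => key ⟨σ, hσ⟩ (key2 ⟨σ, hσ⟩ h)⟩

end P1

section P3

variable {B : Type v} {G : Type w} [CommRing B] [Group G] [Finite G] [MulSemiringAction G B]

/-- An element outside `Q` lying in all conjugates of `Q` different from `Q`. -/
theorem exists_mem_conj (Q : Ideal B) [Q.IsPrime] :
    ∃ y : B, y ∉ Q ∧ ∀ τ : G, τ • Q ≠ Q → τ • y ∈ Q := by
  classical
  cases nonempty_fintype G
  let P := Finset.inf {g : G | g • Q ≠ Q} (fun g ↦ g • Q)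
  have h1 : ¬ P ≤ Q := by
    rw [Ideal.IsPrime.inf_le' inferInstance]
    rintro ⟨g, hg1, hg2⟩
    exact (Finset.mem_filter.mp hg1).2 (smul_eq_of_smul_le hg2)
  obtain ⟨b, hbP, hbQ⟩ := SetLike.not_le_iff_exists.mp h1
  replace hbP : ∀ g : G, g • Q ≠ Q → b ∈ g • Q :=
    fun g hg ↦ (Finset.inf_le (Finset.mem_filter.mpr ⟨Finset.mem_univ g, hg⟩) : P ≤ g • Q) hbP
  refine ⟨b, hbQ, fun τ hτ => ?_⟩
  have : τ⁻¹ • Q ≠ Q := by
    intro h
    apply hτ
    conv_lhs => rw [← h, smul_inv_smul]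
  exact Ideal.mem_inv_pointwise_smul_iff.mp (hbP _ this)

/-- An element outside `Q`, invariant under the decomposition group, mapped into `Q` by every
element outside the decomposition group. -/
theorem exists_decomp_invariant (Q : Ideal B) [Q.IsPrime] :
    ∃ t : B, t ∉ Q ∧ (∀ σ : G, σ • Q = Q → σ • t = t) ∧ ∀ τ : G, τ • Q ≠ Q → τ • t ∈ Q := by
  classical
  obtain ⟨y, hyQ, hy⟩ := exists_mem_conj (G := G) Q
  let D := MulAction.stabilizer G Q
  haveI : Fintype D := Fintype.ofFinite _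
  refine ⟨∏ d : D, (d : G) • y, ?_, ?_, ?_⟩
  · rw [Ideal.IsPrime.prod_mem_iff]
    rintro ⟨d, -, hd⟩
    apply hyQ
    have h1 : y ∈ (d : G)⁻¹ • Q := Ideal.mem_inv_pointwise_smul_iff.mpr hd
    have h2 : (d : G)⁻¹ • Q = Q := (d⁻¹).2
    rwa [h2] at h1
  · intro σ hσ
    rw [Finset.smul_prod']
    simp only [← mul_smul]
    exact Fintype.prod_equiv (Equiv.mulLeft (⟨σ, hσ⟩ : D)) _ _ (fun d => rfl)
  · intro τ hτ
    rw [Finset.smul_prod']
    apply Ideal.prod_mem Q (i := (1 : D)) (Finset.mem_univ _)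
    rw [← mul_smul]
    apply hy
    simpa using hτ

end P3

section LemmaC

variable {B : Type v} [CommRing B]

/-- If all `f i` are congruent to `y` modulo `Q` and `card ι = p ^ e * (m + 1)`, then the
coefficient of `X ^ (p ^ e * m)` in `∏ (X - f i)` is congruent to `-(m + 1) y ^ (p ^ e)`. -/
theorem mk_coeff_prod (Q : Ideal B) {ι : Type*} [Fintype ι] (f : ι → B) (y : B)
    (h : ∀ i, f i - y ∈ Q) (p e m : ℕ) [ExpChar (B ⧸ Q) p] (hp : 0 < p)
    (hn : Fintype.card ι = p ^ e * (m + 1)) :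
    Ideal.Quotient.mk Q ((∏ i, (X - C (f i))).coeff (p ^ e * m)) =
      - ((m + 1 : ℕ) : B ⧸ Q) * (Ideal.Quotient.mk Q y) ^ (p ^ e) := by
  rw [← coeff_map, Polynomial.map_prod]
  have h1 : ∀ i, (X - C (f i)).map (Ideal.Quotient.mk Q) = X - C (Ideal.Quotient.mk Q y) := by
    intro i
    rw [Polynomial.map_sub, map_X, map_C, Ideal.Quotient.eq.mpr (h i)]
  simp only [h1]
  rw [Finset.prod_const, Finset.card_univ, hn, pow_mul, sub_pow_expChar_pow, ← C_pow]
  have h2 : (X ^ p ^ e - C (Ideal.Quotient.mk Q y ^ p ^ e) : (B ⧸ Q)[X]) =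
      expand (B ⧸ Q) (p ^ e) (X + C (- (Ideal.Quotient.mk Q y ^ p ^ e))) := by
    rw [map_add, expand_X, expand_C, C_neg, sub_eq_add_neg]
  rw [h2, ← map_pow, mul_comm (p ^ e) m, coeff_expand_mul (pow_pos hp e), coeff_X_add_C_pow]
  simp [mul_comm]
  ring

end LemmaC

end Groth.Agent.H6.Inertia
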