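import Mathlib
import Groth.Prelude.Def_Pi1
import Groth.Agent.Lib.Helper6.Inertia3
import Groth.Agent.Lib.Helper6.Inertia4

/-!
# The inertia invariants are étale over the invariants at `q` (helper6)
-/

set_option autoImplicit false
universe u

namespace Groth.Agent.H6.Inertia

open Polynomial Pointwise Pi1

variable {G R : Type u} [Group G] [Finite G] [CommRing R] [MulSemiringAction G R]

lemma isInvariant_fixedPoints : Algebra.IsInvariant (FixedPoints.subring R G) R G :=
  ⟨fun b hb => ⟨⟨b, hb⟩, rfl⟩⟩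

lemma exists_pow_mul_succ (S : Type*) [CommRing S] [IsDomain S] (n : ℕ) (hn : n ≠ 0) :
    ∃ (p e m : ℕ) (_ : ExpChar S p), 0 < p ∧ n = p ^ e * (m + 1) ∧ ((m + 1 : ℕ) : S) ≠ 0 := by
  obtain ⟨p, hp⟩ := ExpChar.exists S
  cases hp with
  | zero =>
    obtain ⟨m, rfl⟩ := Nat.exists_eq_succ_of_ne_zero hn
    exact ⟨1, 0, m, ExpChar.zero, one_pos, by simp, Nat.cast_ne_zero.mpr (Nat.succ_ne_zero m)⟩
  | prime hp' =>
    obtain ⟨e, n', hn', rfl⟩ := Nat.exists_eq_pow_mul_and_not_dvd hn p hp'.ne_one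
    have hn'0 : n' ≠ 0 := by rintro rfl; simp at hn
    obtain ⟨m, rfl⟩ := Nat.exists_eq_succ_of_ne_zero hn'0
    refine ⟨p, e, m, ExpChar.prime hp', hp'.pos, rfl, ?_⟩
    intro h0
    exact hn' ((CharP.cast_eq_zero_iff S p _).mp h0)

theorem exists_theta (q : Ideal R) [q.IsPrime] :
    ∃ θ : R, (∀ σ ∈ q.inertia G, σ • θ = θ) ∧ ∀ τ : G, τ ∉ q.inertia G → θ - τ • θ ∉ q := by
  classical
  haveI : Algebra.IsInvariant (FixedPoints.subring R G) R G := isInvariant_fixedPoints
  obtain ⟨x, hxq, hx⟩ := exists_sep (FixedPoints.subring R G) (G := G) q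
  obtain ⟨t, htq, htD, htnD⟩ := exists_decomp_invariant (G := G) q
  haveI : Fintype (q.inertia G) := Fintype.ofFinite _
  have hcard : Fintype.card (q.inertia G) ≠ 0 := Fintype.card_ne_zero
  obtain ⟨p, e, m, _, hp, hn, hm⟩ := exists_pow_mul_succ (R ⧸ q) _ hcard
  set χ := MulSemiringAction.charpoly (q.inertia G) x with hχ
  set θ₁ := χ.coeff (p ^ e * m) with hθ₁
  have hmk : ∀ σ : G, σ • q = q → Ideal.Quotient.mk q (σ • θ₁) =
      - ((m + 1 : ℕ) : R ⧸ q) * (Ideal.Quotient.mk q (σ • x)) ^ (p ^ e) := by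
    intro σ hσ
    have h1 : σ • θ₁ = (∏ i : q.inertia G, (X - C (σ • (i • x)))).coeff (p ^ e * m) := by
      rw [hθ₁, hχ, MulSemiringAction.charpoly_eq]
      have : σ • (∏ g : q.inertia G, (X - C (g • x))) = ∏ i : q.inertia G, (X - C (σ • (i • x))) := by
        rw [Finset.smul_prod']
        simp only [smul_sub, smul_X, smul_C]
      rw [← this, smul_eq_map, coeff_map]
      rfl
    rw [h1]
    refine mk_coeff_prod q _ (σ • x) (fun i => ?_) p e m hp (by rw [hn])
    rw [← smul_sub]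
    have h2 : σ • ((i : G) • x - x) ∈ σ • q := Ideal.smul_mem_pointwise_smul _ _ _ (i.2 x)
    rwa [hσ] at h2
  have hmk1 : Ideal.Quotient.mk q θ₁ =
      - ((m + 1 : ℕ) : R ⧸ q) * (Ideal.Quotient.mk q x) ^ (p ^ e) := by
    have := hmk 1 (one_smul _ _)
    simpa using this
  have hθ₁q : θ₁ ∉ q := by
    rw [← Ideal.Quotient.eq_zero_iff_mem, hmk1]
    refine mul_ne_zero (neg_ne_zero.mpr hm) (pow_ne_zero _ ?_)
    rwa [Ne, Ideal.Quotient.eq_zero_iff_mem]
  have hθ₁I : ∀ σ ∈ q.inertia G, σ • θ₁ = θ₁ := fun σ hσ =>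
    MulSemiringAction.smul_coeff_charpoly x _ (⟨σ, hσ⟩ : q.inertia G)
  refine ⟨θ₁ * t, ?_, ?_⟩
  · intro σ hσ
    rw [smul_mul', hθ₁I σ hσ, htD σ (Ideal.inertia_le_stabilizer q hσ)]
  · intro τ hτ hmem
    by_cases hτq : τ • q = q
    · rw [smul_mul', htD τ hτq, ← sub_mul] at hmem
      have h1 : θ₁ - τ • θ₁ ∈ q := (Ideal.IsPrime.mem_or_mem inferInstance hmem).resolve_right htq
      have h2 : Ideal.Quotient.mk q θ₁ = Ideal.Quotient.mk q (τ • θ₁) := Ideal.Quotient.eq.mpr h1
      rw [hmk1, hmk τ hτq] at h2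
      have h3 : (Ideal.Quotient.mk q x) ^ (p ^ e) = (Ideal.Quotient.mk q (τ • x)) ^ (p ^ e) :=
        mul_left_cancel₀ (neg_ne_zero.mpr hm) h2
      have h4 : Ideal.Quotient.mk q x = Ideal.Quotient.mk q (τ • x) := by
        apply iterateFrobenius_inj (R ⧸ q) p e
        simpa [iterateFrobenius_def] using h3
      apply hτ
      apply hx τ hτq
      exact Ideal.Quotient.eq.mp h4.symm
    · have h1 : τ • (θ₁ * t) ∈ q := by
        rw [smul_mul']
        exact q.mul_mem_left _ (htnD τ hτq)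
      have h2 : θ₁ * t ∈ q := by
        have := q.add_mem hmem h1
        simpa using this
      rcases Ideal.IsPrime.mem_or_mem inferInstance h2 with h | h
      · exact hθ₁q h
      · exact htq h

/-- S0271. -/
theorem main (q : Ideal R) [q.IsPrime] :
    ∃ g : FixedPoints.subring R (q.inertia G),
      g ∉ q.comap (FixedPoints.subring R (q.inertia G)).subtype ∧
      Algebra.Etale (FixedPoints.subring R G) (Localization.Away g) := by
  obtain ⟨θ, ha, hb⟩ := exists_theta (G := G) q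
  have hstab : MulAction.stabilizer G θ = q.inertia G := by
    ext σ
    constructor
    · intro hσ
      by_contra hσI
      apply hb σ hσI
      rw [MulAction.mem_stabilizer_iff.mp hσ, sub_self]
      exact q.zero_mem
    · intro hσ
      exact MulAction.mem_stabilizer_iff.mpr (ha σ hσ)
  have aux : ∀ H : Subgroup G, MulAction.stabilizer G θ = H →
      ∃ g : FixedPoints.subring R H, (g : R) ∉ q ∧
        Algebra.Etale (FixedPoints.subring R G) (Localization.Away g) := by
    rintro H rfl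
    exact ⟨gH (G := G) θ, gH_not_mem θ q (fun σ hσ => hb σ (by rwa [hstab] at hσ)),
      etale_away_gH (G := G) θ⟩
  obtain ⟨g, hg, hE⟩ := aux _ hstab
  exact ⟨g, hg, hE⟩

end Groth.Agent.H6.Inertia
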