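import Mathlib
import Groth.Agent.Lib.Helper6.Inertia1

/-!
# Invariants of the stabilizer of an element are standard étale over `A` (helper6)

General version of `Inertia2`/`Inertia3`: `A → R` injective with `Algebra.IsInvariant A R G`,
`G` finite, `θ : R` with stabilizer `H`.  Then `(R^H)[1/F'(θ)]` is standard étale over `A`, where
`R^H = FixedPoints.subalgebra A R H`.
-/

set_option autoImplicit false
universe u v w

namespace Groth.Agent.H6.InertiaG

open Polynomial Groth.Agent.H6.Inertia

variable {A : Type u} {R : Type v} {G : Type w} [CommRing A] [CommRing R] [Algebra A R]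
  [Group G] [Finite G] [MulSemiringAction G R] [SMulCommClass G A R] [Algebra.IsInvariant A R G]

omit [Finite G] in
lemma mem_lifts_of_smul_eq (p : R[X]) (h : ∀ σ : G, σ • p = p) :
    p ∈ Polynomial.lifts (algebraMap A R) := by
  rw [Polynomial.lifts_iff_coeff_lifts]
  intro n
  refine Algebra.IsInvariant.isInvariant (A := A) (G := G) (p.coeff n) (fun σ => ?_)
  have := congrArg (fun q => q.coeff n) (h σ)
  simpa [smul_eq_map] using this

omit [Finite G] [Algebra.IsInvariant A R G] in
lemma smul_map_algebraMap (p : A[X]) (σ : G) :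
    σ • p.map (algebraMap A R) = p.map (algebraMap A R) := by
  rw [smul_eq_map, map_map]
  congr 1
  ext a
  exact smul_algebraMap σ a

section main

variable (A) (θ : R)

/-- The index set `G ⧸ Stab(θ)`. -/
abbrev Idx : Type w := G ⧸ MulAction.stabilizer G θ

noncomputable instance : Fintype (Idx (G := G) θ) := Fintype.ofFinite _
noncomputable instance : DecidableEq (Idx (G := G) θ) := Classical.decEq _

/-- The roots `σ θ`. -/
noncomputable abbrev rt : Idx (G := G) θ → R := MulAction.ofQuotientStabilizer G θ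

omit [Finite G] in
lemma rt_smul (σ : G) (i : Idx (G := G) θ) : rt θ (σ • i) = σ • rt θ i :=
  MulAction.ofQuotientStabilizer_smul G θ σ i

omit [Finite G] in
lemma rt_one : rt (G := G) θ ((1 : G) : Idx (G := G) θ) = θ := by
  change (1 : G) • θ = θ
  exact one_smul _ _

/-- The conjugates of an element fixed by the stabilizer. -/
noncomputable def bt (b : R) (hb : ∀ σ ∈ MulAction.stabilizer G θ, σ • b = b) :
    Idx (G := G) θ → R :=
  fun i => Quotient.liftOn' i (fun σ => σ • b) (by
    intro σ τ hστ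
    rw [QuotientGroup.leftRel_apply] at hστ
    have := hb _ hστ
    change σ • b = τ • b
    rw [mul_smul, inv_smul_eq_iff] at this
    exact this.symm)

omit [Finite G] in
lemma bt_mk (b : R) (hb : ∀ σ ∈ MulAction.stabilizer G θ, σ • b = b) (σ : G) :
    bt θ b hb (σ : Idx (G := G) θ) = σ • b := rfl

omit [Finite G] in
lemma bt_smul (b : R) (hb : ∀ σ ∈ MulAction.stabilizer G θ, σ • b = b) (σ : G)
    (i : Idx (G := G) θ) : bt θ b hb (σ • i) = σ • bt θ b hb i := by
  induction i using Quotient.inductionOn' with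
  | h τ =>
    change bt θ b hb ((σ * τ : G) : Idx (G := G) θ) = σ • bt θ b hb (τ : Idx (G := G) θ)
    rw [bt_mk, bt_mk, mul_smul]

variable (hinj : Function.Injective (algebraMap A R))

/-- `F ∈ A[X]`. -/
noncomputable def FA : A[X] :=
  (mem_lifts_of_smul_eq (A := A) (F (rt (G := G) θ)) (smul_F (rt θ) (rt_smul θ))).choose

lemma map_FA : (FA (G := G) A θ).map (algebraMap A R) = F (rt (G := G) θ) :=
  (mem_lifts_of_smul_eq (A := A) (F (rt (G := G) θ)) (smul_F (rt θ) (rt_smul θ))).choose_spec

include hinj in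
lemma monic_FA : (FA (G := G) A θ).Monic :=
  Polynomial.monic_of_injective hinj (by rw [map_FA]; exact monic_F _)

/-- The subalgebra `R^H`, `H = Stab(θ)`. -/
abbrev SH : Subalgebra A R := FixedPoints.subalgebra A R (MulAction.stabilizer G θ)

/-- `θ` as an element of `R^H`. -/
def θH : SH (G := G) A θ := ⟨θ, fun h => h.2⟩

omit [Finite G] [Algebra.IsInvariant A R G] in
lemma coe_aeval (S : Subalgebra A R) (t : S) (p : A[X]) :
    ((aeval t p : S) : R) = eval (t : R) (p.map (algebraMap A R)) := by
  rw [eval_map, ← aeval_def]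
  exact (Polynomial.aeval_algHom_apply S.val t p).symm

lemma aeval_FA : aeval (θH (G := G) A θ) (FA (G := G) A θ) = 0 := by
  apply Subtype.ext
  rw [coe_aeval, map_FA]
  have := eval_F (rt (G := G) θ) ((1 : G) : Idx (G := G) θ)
  rw [rt_one] at this
  exact this

omit [Finite G] [Algebra.IsInvariant A R G] in
lemma eval_smul_map (p : A[X]) (σ : G) (t : R) :
    eval (σ • t) (p.map (algebraMap A R)) = σ • eval t (p.map (algebraMap A R)) := by
  conv_lhs => rw [← smul_map_algebraMap p σ]
  exact smul_eval_smul R σ _ t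

include hinj in
/-- Key lemma 1. -/
lemma FA_dvd_of_aeval_eq_zero (p : A[X])
    (h : aeval (θH (G := G) A θ) p = 0) : FA (G := G) A θ ∣ p * derivative (FA (G := G) A θ) := by
  have h0 : eval θ (p.map (algebraMap A R)) = 0 := by
    have := congrArg (fun t : SH (G := G) A θ => (t : R)) h
    simpa [coe_aeval, θH] using this
  have h1 : ∀ i : Idx (G := G) θ, eval (rt θ i) (p.map (algebraMap A R)) = 0 := by
    intro i
    induction i using Quotient.inductionOn' with
    | h σ =>
      change eval (σ • θ) _ = 0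
      rw [eval_smul_map, h0, smul_zero]
  have h2 := F_dvd_mul_derivative_of_eval_eq_zero (rt (G := G) θ) _ h1
  rw [← modByMonic_eq_zero_iff_dvd (monic_FA A θ hinj)]
  apply Polynomial.map_injective (algebraMap A R) hinj
  rw [Polynomial.map_zero, map_modByMonic _ (monic_FA A θ hinj), Polynomial.map_mul,
    ← derivative_map, map_FA, modByMonic_eq_zero_iff_dvd (monic_F _)]
  exact h2

/-- Key lemma 2: Lagrange interpolation. -/
lemma exists_aeval_eq_mul (b : SH (G := G) A θ) :
    ∃ p : A[X],
      aeval (θH (G := G) A θ) p = b * aeval (θH (G := G) A θ) (derivative (FA (G := G) A θ)) := by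
  have hb : ∀ σ ∈ MulAction.stabilizer G θ, σ • (b : R) = b := fun σ hσ => b.2 ⟨σ, hσ⟩
  obtain ⟨p, hp⟩ := mem_lifts_of_smul_eq (A := A) (Q (rt θ) (bt θ b hb))
    (smul_Q (rt θ) (bt θ b hb) (rt_smul θ) (bt_smul θ b hb))
  replace hp : p.map (algebraMap A R) = Q (rt θ) (bt θ b hb) := hp
  refine ⟨p, ?_⟩
  apply Subtype.ext
  rw [coe_aeval, hp, MulMemClass.coe_mul, coe_aeval, ← derivative_map, map_FA]
  have := eval_Q (rt (G := G) θ) (bt θ b hb) ((1 : G) : Idx (G := G) θ)
  rw [rt_one, bt_mk, one_smul] at this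
  exact this

/-- The standard étale pair `(F, F')`. -/
noncomputable def pair : StandardEtalePair A where
  f := FA (G := G) A θ
  monic_f := monic_FA A θ hinj
  g := derivative (FA (G := G) A θ)
  cond := ⟨1, 0, 1, by simp⟩

/-- `g = F'(θ) ∈ R^H`. -/
noncomputable def gH : SH (G := G) A θ :=
  aeval (θH (G := G) A θ) (derivative (FA (G := G) A θ))

lemma hasMap :
    (pair (G := G) A θ hinj).HasMap (algebraMap (SH (G := G) A θ)
      (Localization.Away (gH (G := G) A θ)) (θH (G := G) A θ)) := by
  refine ⟨?_, ?_⟩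
  · rw [aeval_algebraMap_apply]
    change algebraMap _ _ (aeval (θH (G := G) A θ) (FA (G := G) A θ)) = 0
    rw [aeval_FA, map_zero]
  · rw [aeval_algebraMap_apply]
    exact IsLocalization.Away.algebraMap_isUnit (gH (G := G) A θ)

theorem lift_bijective :
    Function.Bijective ((pair (G := G) A θ hinj).lift _ (hasMap (G := G) A θ hinj)) := by
  set P := pair (G := G) A θ hinj with hP
  set x := algebraMap (SH (G := G) A θ)
      (Localization.Away (gH (G := G) A θ)) (θH (G := G) A θ) with hx
  set ψ := P.lift x (hasMap (G := G) A θ hinj) with hψ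
  let Pcan : StandardEtalePresentation A P.Ring :=
    ⟨P, P.X, P.hasMap_X, by simpa [StandardEtalePair.lift_X_left] using Function.bijective_id⟩
  have hu : IsUnit (aeval P.X P.g) := P.hasMap_X.2
  have hψX : ψ P.X = x := P.lift_X _ _
  have hψp : ∀ p : A[X], ψ (aeval P.X p) =
      algebraMap _ (Localization.Away (gH (G := G) A θ)) (aeval (θH (G := G) A θ) p) := by
    intro p
    rw [← aeval_algHom_apply, hψX, hx, aeval_algebraMap_apply]
  have hψu : ψ (aeval P.X P.g) =
      algebraMap _ (Localization.Away (gH (G := G) A θ)) (gH (G := G) A θ) := hψp _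
  have hF0 : aeval P.X (FA (G := G) A θ) = 0 := P.hasMap_X.1
  constructor
  · rw [injective_iff_map_eq_zero]
    intro z hz
    obtain ⟨p, n, hzp⟩ := Pcan.exists_mul_aeval_x_g_pow_eq_aeval_x z
    change z * aeval P.X P.g ^ n = aeval P.X p at hzp
    have h1 : algebraMap _ (Localization.Away (gH (G := G) A θ))
        (aeval (θH (G := G) A θ) p) = 0 := by
      rw [← hψp, ← hzp, map_mul, hz, zero_mul]
    rw [IsLocalization.map_eq_zero_iff (Submonoid.powers (gH (G := G) A θ))] at h1
    obtain ⟨⟨_, k, rfl⟩, hk⟩ := h1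
    have h2 : aeval (θH (G := G) A θ) (derivative (FA (G := G) A θ) ^ k * p) = 0 := by
      rw [map_mul, map_pow]; exact hk
    obtain ⟨S, hS⟩ := FA_dvd_of_aeval_eq_zero A θ hinj _ h2
    have h3 : aeval P.X P.g ^ k * aeval P.X p * aeval P.X P.g = 0 := by
      have := congrArg (aeval P.X) hS
      rw [map_mul, map_mul, map_pow, map_mul, hF0, zero_mul] at this
      exact this
    have h4 : aeval P.X p = 0 :=
      (hu.pow k).mul_right_eq_zero.mp (hu.mul_left_eq_zero.mp h3)
    rw [h4] at hzp
    exact (hu.pow n).mul_left_eq_zero.mp hzp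
  · intro y
    obtain ⟨k, b, hb⟩ := IsLocalization.Away.surj (gH (G := G) A θ) y
    obtain ⟨Qp, hQ⟩ := exists_aeval_eq_mul A θ b
    refine ⟨aeval P.X Qp * (↑(hu.unit⁻¹) : P.Ring) ^ (k + 1), ?_⟩
    have hv : ψ (↑(hu.unit⁻¹) : P.Ring) *
        algebraMap _ (Localization.Away (gH (G := G) A θ)) (gH (G := G) A θ) = 1 := by
      rw [← hψu, ← map_mul, IsUnit.val_inv_mul, map_one]
    rw [map_mul, map_pow, hψp, hQ, map_mul, ← hb]
    change y * _ ^ k * algebraMap _ _ (gH (G := G) A θ) * _ = y
    calc y * algebraMap _ (Localization.Away (gH (G := G) A θ)) (gH (G := G) A θ) ^ k *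
          algebraMap _ _ (gH (G := G) A θ) * ψ (↑(hu.unit⁻¹) : P.Ring) ^ (k + 1)
        = y * (ψ (↑(hu.unit⁻¹) : P.Ring) *
          algebraMap _ (Localization.Away (gH (G := G) A θ)) (gH (G := G) A θ)) ^ (k + 1) := by
          ring
      _ = y := by rw [hv, one_pow, mul_one]

include hinj in
/-- `R^H[1/F'(θ)]` is étale over `A`. -/
theorem etale_away_gH :
    Algebra.Etale A (Localization.Away (gH (G := G) A θ)) := by
  haveI : Algebra.IsStandardEtale A (Localization.Away (gH (G := G) A θ)) :=
    ⟨⟨⟨pair (G := G) A θ hinj, _, hasMap (G := G) A θ hinj, lift_bijective (G := G) A θ hinj⟩⟩⟩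
  infer_instance

/-- The value of `g = F'(θ)` in `R`. -/
lemma coe_gH : ((gH (G := G) A θ : SH (G := G) A θ) : R) =
    ∏ j ∈ Finset.univ.erase (((1 : G) : Idx (G := G) θ)), (θ - rt θ j) := by
  unfold gH
  rw [coe_aeval, ← derivative_map, map_FA]
  have := eval_derivative_F (rt (G := G) θ) ((1 : G) : Idx (G := G) θ)
  rw [eval_Fi_self, rt_one] at this
  exact this

/-- If `θ - σ θ ∉ q` for all `σ` outside the stabilizer, then `g ∉ q`. -/
lemma gH_not_mem (q : Ideal R) [q.IsPrime]
    (h : ∀ σ : G, σ ∉ MulAction.stabilizer G θ → θ - σ • θ ∉ q) :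
    ((gH (G := G) A θ : SH (G := G) A θ) : R) ∉ q := by
  rw [coe_gH, Ideal.IsPrime.prod_mem_iff]
  rintro ⟨j, hj, hjq⟩
  induction j using Quotient.inductionOn' with
  | h σ =>
    refine h σ ?_ hjq
    intro hσ
    apply (Finset.mem_erase.mp hj).1
    exact QuotientGroup.eq.mpr (by simpa using inv_mem hσ)

end main

end Groth.Agent.H6.InertiaG
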