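import Mathlib
import Groth.Agent.Lib.Helper6.Inertia4

/-!
# Separating elements relative to a subgroup containing the inertia group (helper6)
-/

set_option autoImplicit false
universe u v w

namespace Groth.Agent.H6.InertiaH

open Polynomial Pointwise IntermediateField

section P1

open FaithfulSMul IsScalarTower

/-- There is an element of `B`, not in `Q`, whose class modulo `Q` is fixed by an element `σ`
of the decomposition group if and only if `σ ∈ H`, for a subgroup `H` containing the inertia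
group. -/
theorem exists_sep_H (A : Type u) {B : Type v} {G : Type w} [CommRing A] [CommRing B] [Algebra A B]
    [Group G] [Finite G] [MulSemiringAction G B] [SMulCommClass G A B] [Algebra.IsInvariant A B G]
    (Q : Ideal B) [Q.IsPrime] (H : Subgroup G) (hIH : Q.inertia G ≤ H) :
    ∃ x : B, x ∉ Q ∧ (∀ σ ∈ H, σ • Q = Q → σ • x - x ∈ Q) ∧
      ∀ σ : G, σ • Q = Q → σ • x - x ∈ Q → σ ∈ H := by
  classical
  let P := Q.under A
  haveI : Q.LiesOver P := ⟨rfl⟩
  haveI : P.IsPrime := Ideal.IsPrime.under A Q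
  let K := FractionRing (A ⧸ P)
  let L := FractionRing (B ⧸ Q)
  letI := FractionRing.liftAlgebra (A ⧸ P) L
  let D := MulAction.stabilizer G Q
  let φ : D →* Gal(L/K) := IsFractionRing.stabilizerHom G P Q K L
  letI : MulSemiringAction D L := MulSemiringAction.compHom L φ
  have hsmul : ∀ (d : D) (l : L), d • l = φ d l := fun d l => rfl
  let F := FixedPoints.subfield D L
  -- a primitive element for `L / F`: its stabilizer is the inertia group
  obtain ⟨y, hy⟩ := Field.exists_primitive_element F L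
  have keyI : ∀ d : D, d • y = y → (d : G) ∈ Q.inertia G := by
    intro d hd
    have h1 : F⟮y⟯ ≤ FixedBy.intermediateField F L d :=
      IntermediateField.adjoin_simple_le_iff.mpr hd
    rw [hy] at h1
    have h2 : φ d = 1 := by
      ext l
      exact h1 (IntermediateField.mem_top (x := l))
    have h3 : d ∈ φ.ker := h2
    rw [IsFractionRing.ker_stabilizerHom G P Q K L] at h3
    intro x
    exact h3 x
  -- the subgroup `D ∩ H` of `D` and its fixed field
  let DH : Subgroup D := H.subgroupOf D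
  haveI : Fintype DH := Fintype.ofFinite _
  let E : IntermediateField F L :=
    (FixedPoints.subfield DH L).toIntermediateField (fun f d => f.2 d.1)
  have hE : ∀ l : L, l ∈ E ↔ ∀ d : DH, d • l = l := fun l => Iff.rfl
  obtain ⟨θ', hθ'⟩ := Field.exists_primitive_element F E
  have hEθ : E = F⟮(θ' : L)⟯ := by
    rw [← IntermediateField.lift_adjoin_simple, hθ', IntermediateField.lift_top]
  -- an element of `D` fixing `θ'` lies in `H`
  have keyH : ∀ d : D, d • (θ' : L) = θ' → (d : G) ∈ H := by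
    intro d hd
    have h1 : F⟮(θ' : L)⟯ ≤ FixedBy.intermediateField F L d :=
      IntermediateField.adjoin_simple_le_iff.mpr hd
    rw [← hEθ] at h1
    -- `d` fixes the coefficients of the charpoly of `y` under `DH`
    let g : L[X] := MulSemiringAction.charpoly DH y
    have hg : d • g = g := by
      ext n
      rw [Polynomial.smul_eq_map, Polynomial.coeff_map]
      have hmem : g.coeff n ∈ E := fun h => MulSemiringAction.smul_coeff_charpoly y n h
      exact h1 hmem
    have hroot : g.eval (d • y) = 0 := by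
      have h0 : (d • g).eval (d • y) = d • g.eval y := Polynomial.smul_eval_smul L d g y
      rw [hg, MulSemiringAction.eval_charpoly, smul_zero] at h0
      exact h0
    have hroot' : (∏ h : DH, (X - C (h • y))).eval (d • y) = 0 := hroot
    rw [Polynomial.eval_prod, Finset.prod_eq_zero_iff] at hroot'
    obtain ⟨h, -, hh⟩ := hroot'
    rw [Polynomial.eval_sub, Polynomial.eval_X, Polynomial.eval_C, sub_eq_zero] at hh
    have h2 : ((h : D)⁻¹ * d) • y = y := by
      rw [mul_smul, hh]
      exact inv_smul_smul (h : D) y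
    have h3 := hIH (keyI _ h2)
    have h4 : ((h : D) : G) ∈ H := h.2
    have h5 : (d : G) = ((h : D) : G) * (((h : D)⁻¹ * d : D) : G) := by
      simp
    rw [h5]
    exact H.mul_mem h4 h3
  have keyH' : ∀ d : D, (d : G) ∈ H → d • (θ' : L) = θ' := fun d hd => θ'.2 ⟨d, hd⟩
  haveI : Algebra.IsIntegral A B := Algebra.IsInvariant.isIntegral A B G
  obtain ⟨x, y', hy', hxy⟩ := IsFractionRing.div_surjective (A := B ⧸ Q) (θ' : L)
  obtain ⟨b, a, ha, h⟩ := (Algebra.IsAlgebraic.isAlgebraic (R := A ⧸ P) y').exists_smul_eq_mul x hy'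
  replace ha : algebraMap (A ⧸ P) L a ≠ 0 := by
    rwa [Ne, IsScalarTower.algebraMap_apply (A ⧸ P) K L, algebraMap_eq_zero_iff, algebraMap_eq_zero_iff]
  replace hy' : algebraMap (B ⧸ Q) L y' ≠ 0 :=
    mt (algebraMap_eq_zero_iff (B ⧸ Q) L).mp (nonZeroDivisors.ne_zero hy')
  replace h : algebraMap (B ⧸ Q) L x / algebraMap (B ⧸ Q) L y' =
      algebraMap (B ⧸ Q) L b / algebraMap (A ⧸ P) L a := by
    rw [mul_comm, Algebra.smul_def, mul_comm] at h
    rw [div_eq_div_iff hy' ha, ← map_mul, ← h, map_mul, ← IsScalarTower.algebraMap_apply]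
  rw [h] at hxy
  obtain ⟨c, rfl⟩ := Ideal.Quotient.mk_surjective b
  have hfix_a : ∀ d : D, d • algebraMap (A ⧸ P) L a = algebraMap (A ⧸ P) L a := by
    intro d
    rw [hsmul, IsScalarTower.algebraMap_apply (A ⧸ P) K L]
    exact (φ d).commutes _
  have hmk : ∀ d : D, d • algebraMap (B ⧸ Q) L (Ideal.Quotient.mk Q c) =
      algebraMap (B ⧸ Q) L (Ideal.Quotient.mk Q ((d : G) • c)) := by
    intro d
    rw [hsmul]
    change IsFractionRing.stabilizerHom G P Q K L d _ = _
    rw [IsFractionRing.stabilizerHom_apply_apply_mk]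
  have key2 : ∀ d : D, (d : G) • c - c ∈ Q ↔ d • (θ' : L) = θ' := by
    intro d
    rw [← hxy, smul_div₀', hfix_a, hmk, div_left_inj' ha,
      (FaithfulSMul.algebraMap_injective (B ⧸ Q) L).eq_iff, Ideal.Quotient.eq]
  by_cases hc : c ∈ Q
  · have hall : ∀ d : D, d • (θ' : L) = θ' := by
      intro d
      rw [← key2]
      have : (d : G) • c ∈ (d : G) • Q := Ideal.smul_mem_pointwise_smul _ _ _ hc
      rw [d.2] at this
      exact Q.sub_mem this hc
    refine ⟨1, fun h1 => (inferInstance : Q.IsPrime).ne_top ((Ideal.eq_top_iff_one _).mpr h1),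
      fun σ _ _ => by simp, fun σ hσ _ => keyH ⟨σ, hσ⟩ (hall _)⟩
  · exact ⟨c, hc, fun σ hσH hσ => (key2 ⟨σ, hσ⟩).mpr (keyH' ⟨σ, hσ⟩ hσH),
      fun σ hσ h => keyH ⟨σ, hσ⟩ ((key2 ⟨σ, hσ⟩).mp h)⟩

end P1

section LemmaC

variable {B : Type v} [CommRing B]

/-- If the `f i` with `i ∈ S` are congruent to `y` modulo `Q`, the other `f i` lie in `Q`, and
`card S = p ^ e * (m + 1)`, then the coefficient of `X ^ (p ^ e * m + (card ι - card S))` in
`∏ (X - f i)` is congruent to `-(m + 1) y ^ (p ^ e)`. -/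
theorem mk_coeff_prod' (Q : Ideal B) {ι : Type*} [Fintype ι] [DecidableEq ι] (f : ι → B)
    (S : Finset ι) (y : B)
    (h : ∀ i ∈ S, f i - y ∈ Q) (h' : ∀ i, i ∉ S → f i ∈ Q) (p e m : ℕ) [ExpChar (B ⧸ Q) p]
    (hp : 0 < p) (hn : S.card = p ^ e * (m + 1)) :
    Ideal.Quotient.mk Q ((∏ i, (X - C (f i))).coeff (p ^ e * m + (Fintype.card ι - S.card))) =
      - ((m + 1 : ℕ) : B ⧸ Q) * (Ideal.Quotient.mk Q y) ^ (p ^ e) := by
  have h0 := Inertia.mk_coeff_prod Q (fun i : S => f i) y (fun i => h i i.2) p e m hp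
    (by rw [Fintype.card_coe, hn])
  rw [← coeff_map] at h0 ⊢
  rw [← h0, Polynomial.map_prod, Polynomial.map_prod]
  have h1 : ∏ i, (X - C (f i)).map (Ideal.Quotient.mk Q) =
      (∏ i : S, (X - C (f i)).map (Ideal.Quotient.mk Q)) * X ^ (Fintype.card ι - S.card) := by
    rw [← Finset.prod_mul_prod_compl S, ← Finset.prod_coe_sort S]
    congr 1
    rw [Finset.prod_congr rfl (g := fun _ => (X : (B ⧸ Q)[X]))]
    · rw [Finset.prod_const, Finset.card_compl]
    · intro i hi
      rw [Polynomial.map_sub, map_X, map_C, Ideal.Quotient.eq_zero_iff_mem.mpr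
        (h' i (Finset.mem_compl.mp hi)), map_zero, sub_zero]
  rw [h1, coeff_mul_X_pow]

/-- If all `f i` lie in `Q`, the coefficients of `∏ (X - f i)` of degree `< card ι` lie
in `Q`. -/
theorem coeff_prod_mem (Q : Ideal B) {ι : Type*} [Fintype ι] (f : ι → B) (h : ∀ i, f i ∈ Q)
    (n : ℕ) (hn : n ≠ Fintype.card ι) : (∏ i, (X - C (f i))).coeff n ∈ Q := by
  rw [← Ideal.Quotient.eq_zero_iff_mem, ← coeff_map, Polynomial.map_prod]
  have h1 : ∀ i, (X - C (f i)).map (Ideal.Quotient.mk Q) = X := by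
    intro i
    rw [Polynomial.map_sub, map_X, map_C, Ideal.Quotient.eq_zero_iff_mem.mpr (h i), map_zero,
      sub_zero]
  simp only [h1]
  rw [Finset.prod_const, Finset.card_univ, coeff_X_pow, if_neg hn]

end LemmaC

end Groth.Agent.H6.InertiaH
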