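import Mathlib
import Groth.Agent.Lib.Helper6.Inertia5
import Groth.Agent.Lib.Helper6.Inertia7
import Groth.Agent.Lib.Helper6.InertiaH1

/-!
# Invariants of a subgroup containing the inertia group are étale at `q` (helper6)
-/

set_option autoImplicit false
universe u v w

namespace Groth.Agent.H6.InertiaH

open Polynomial Pointwise

theorem exists_theta_H (A : Type u) {R : Type v} {G : Type w} [CommRing A] [CommRing R]
    [Algebra A R] [Group G] [Finite G] [MulSemiringAction G R] [SMulCommClass G A R]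
    [Algebra.IsInvariant A R G]
    (q : Ideal R) [q.IsPrime] (H : Subgroup G) (hIH : q.inertia G ≤ H) :
    ∃ θ : R, (∀ σ ∈ H, σ • θ = θ) ∧ ∀ τ : G, τ ∉ H → θ - τ • θ ∉ q := by
  classical
  obtain ⟨x, hxq, hxH, hx⟩ := exists_sep_H A (G := G) q H hIH
  obtain ⟨t, htq, htD, htnD⟩ := Inertia.exists_decomp_invariant (G := G) q
  haveI : Fintype H := Fintype.ofFinite _
  let S : Finset H := Finset.univ.filter (fun h : H => (h : G) • q = q)
  have hS1 : (1 : H) ∈ S := by
    rw [Finset.mem_filter]
    exact ⟨Finset.mem_univ _, one_smul _ _⟩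
  have hcard : S.card ≠ 0 := Finset.card_ne_zero_of_mem hS1
  obtain ⟨p, e, m, _, hp, hn, hm⟩ := Inertia.exists_pow_mul_succ (R ⧸ q) _ hcard
  set z := x * t with hz
  have hzq : z ∉ q := fun h => (Ideal.IsPrime.mem_or_mem inferInstance h).elim hxq htq
  let n₀ := p ^ e * m + (Fintype.card H - S.card)
  have hn₀ : n₀ ≠ Fintype.card H := by
    have h1 : S.card ≤ Fintype.card H := Finset.card_le_univ S
    have h2 : p ^ e * m < S.card := by
      rw [hn]
      exact Nat.mul_lt_mul_of_pos_left (Nat.lt_succ_self m) (pow_pos hp e)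
    omega
  set χ := MulSemiringAction.charpoly H z with hχ
  set θ := χ.coeff n₀ with hθ
  have hθH : ∀ σ ∈ H, σ • θ = θ := fun σ hσ =>
    MulSemiringAction.smul_coeff_charpoly z n₀ (⟨σ, hσ⟩ : H)
  have hsmulθ : ∀ σ : G, σ • θ = (∏ h : H, (X - C (σ • (h • z)))).coeff n₀ := by
    intro σ
    rw [hθ, hχ, MulSemiringAction.charpoly_eq]
    have : σ • (∏ g : H, (X - C (g • z))) = ∏ h : H, (X - C (σ • (h • z))) := by
      rw [Finset.smul_prod']
      simp only [smul_sub, smul_X, smul_C]
    rw [← this, smul_eq_map, coeff_map]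
    rfl
  -- the class of `σ • θ` for `σ` in the decomposition group
  have hmk : ∀ σ : G, σ • q = q → Ideal.Quotient.mk q (σ • θ) =
      - ((m + 1 : ℕ) : R ⧸ q) * (Ideal.Quotient.mk q (σ • z)) ^ (p ^ e) := by
    intro σ hσ
    rw [hsmulθ σ]
    refine mk_coeff_prod' q _ S (σ • z) (fun h hh => ?_) (fun h hh => ?_) p e m hp hn
    · rw [← smul_sub]
      have hhq : (h : G) • q = q := (Finset.mem_filter.mp hh).2
      have h1 : h • z - z ∈ q := by
        have h2 : h • z = ((h : G) • x) * t := by
          change (h : G) • (x * t) = _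
          rw [smul_mul', htD _ hhq]
        rw [h2, hz, ← sub_mul]
        exact q.mul_mem_right _ (hxH _ h.2 hhq)
      have h3 : σ • (h • z - z) ∈ σ • q := Ideal.smul_mem_pointwise_smul _ _ _ h1
      rwa [hσ] at h3
    · have hhq : (h : G) • q ≠ q := fun h0 => hh (Finset.mem_filter.mpr ⟨Finset.mem_univ _, h0⟩)
      have h1 : h • z ∈ q := by
        change (h : G) • (x * t) ∈ q
        rw [smul_mul']
        exact q.mul_mem_left _ (htnD _ hhq)
      have h3 : σ • (h • z) ∈ σ • q := Ideal.smul_mem_pointwise_smul _ _ _ h1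
      rwa [hσ] at h3
  have hmk1 : Ideal.Quotient.mk q θ =
      - ((m + 1 : ℕ) : R ⧸ q) * (Ideal.Quotient.mk q z) ^ (p ^ e) := by
    have := hmk 1 (one_smul _ _)
    simpa using this
  have hθq : θ ∉ q := by
    rw [← Ideal.Quotient.eq_zero_iff_mem, hmk1]
    refine mul_ne_zero (neg_ne_zero.mpr hm) (pow_ne_zero _ ?_)
    rwa [Ne, Ideal.Quotient.eq_zero_iff_mem]
  -- case A: elements of the decomposition group outside `H`
  have caseA : ∀ τ : G, τ • q = q → τ ∉ H → θ - τ • θ ∉ q := by
    intro τ hτq hτ hmem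
    have h2 : Ideal.Quotient.mk q θ = Ideal.Quotient.mk q (τ • θ) := Ideal.Quotient.eq.mpr hmem
    rw [hmk1, hmk τ hτq] at h2
    have h3 : (Ideal.Quotient.mk q z) ^ (p ^ e) = (Ideal.Quotient.mk q (τ • z)) ^ (p ^ e) :=
      mul_left_cancel₀ (neg_ne_zero.mpr hm) h2
    have h4 : Ideal.Quotient.mk q z = Ideal.Quotient.mk q (τ • z) := by
      apply iterateFrobenius_inj (R ⧸ q) p e
      simpa [iterateFrobenius_def] using h3
    have h5 : τ • z - z ∈ q := Ideal.Quotient.eq.mp h4.symm
    rw [hz, smul_mul', htD τ hτq, ← sub_mul] at h5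
    exact hτ (hx τ hτq ((Ideal.IsPrime.mem_or_mem inferInstance h5).resolve_right htq))
  refine ⟨θ, hθH, fun τ hτ => ?_⟩
  by_cases hex : ∃ h₀ : H, (τ * (h₀ : G)) • q = q
  · obtain ⟨h₀, hh₀⟩ := hex
    have h1 : τ • θ = (τ * (h₀ : G)) • θ := by
      rw [mul_smul, hθH _ h₀.2]
    rw [h1]
    refine caseA _ hh₀ (fun h2 => hτ ?_)
    have : τ = (τ * (h₀ : G)) * ((h₀ : G))⁻¹ := by group
    rw [this]
    exact H.mul_mem h2 (H.inv_mem h₀.2)
  · push Not at hex
    have h1 : τ • θ ∈ q := by
      rw [hsmulθ τ]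
      refine coeff_prod_mem q _ (fun h => ?_) n₀ hn₀
      change τ • ((h : G) • (x * t)) ∈ q
      rw [← mul_smul, smul_mul']
      exact q.mul_mem_left _ (htnD _ (hex h))
    intro hmem
    apply hθq
    have := q.add_mem hmem h1
    simpa using this

/-- If `H` contains the inertia group of `q`, the ring of `H`-invariants is étale over the ring
of `G`-invariants at the prime below `q`. -/
theorem exists_etale_fixedPoints (A : Type u) {R : Type v} {G : Type w} [CommRing A] [CommRing R]
    [Algebra A R] [Group G] [Finite G] [MulSemiringAction G R] [SMulCommClass G A R]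
    [Algebra.IsInvariant A R G] (hinj : Function.Injective (algebraMap A R))
    (q : Ideal R) [q.IsPrime] (H : Subgroup G) (hIH : q.inertia G ≤ H) :
    ∃ g : FixedPoints.subalgebra A R H, (g : R) ∉ q ∧ Algebra.Etale A (Localization.Away g) := by
  obtain ⟨θ, ha, hb⟩ := exists_theta_H A (G := G) q H hIH
  have hstab : MulAction.stabilizer G θ = H := by
    ext σ
    constructor
    · intro hσ
      by_contra hσI
      apply hb σ hσI
      rw [MulAction.mem_stabilizer_iff.mp hσ, sub_self]
      exact q.zero_mem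
    · intro hσ
      exact MulAction.mem_stabilizer_iff.mpr (ha σ hσ)
  have aux : ∀ H' : Subgroup G, MulAction.stabilizer G θ = H' →
      ∃ g : FixedPoints.subalgebra A R H', (g : R) ∉ q ∧
        Algebra.Etale A (Localization.Away g) := by
    rintro H' rfl
    exact ⟨InertiaG.gH (G := G) A θ,
      InertiaG.gH_not_mem A θ q (fun σ hσ => hb σ (by rwa [hstab] at hσ)),
      InertiaG.etale_away_gH (G := G) A θ hinj⟩
  exact aux _ hstab

end Groth.Agent.H6.InertiaH
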