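import Mathlib
import Groth.Agent.Lib.Helper6.HomExt
import Groth.Agent.Lib.Helper6.InertiaH2

/-!
# Counting geometric points of the fibre of a ring of invariants (helper6)
-/

set_option autoImplicit false
universe u v w

namespace Groth.Agent.H6.FibCount

open Pointwise

/-- Ring homomorphisms `B → Ω` restricting to a given `φ₀ : A → Ω`. -/
abbrev HomOver (A : Type*) (B : Type*) {Ω : Type*} [CommRing A] [CommRing B] [Algebra A B]
    [CommRing Ω] (φ₀ : A →+* Ω) : Type _ :=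
  {φ : B →+* Ω // φ.comp (algebraMap A B) = φ₀}

section

variable {A : Type u} {C : Type v} {G : Type w} {Ω : Type*} [CommRing A] [CommRing C]
  [Algebra A C] [Group G] [Finite G] [MulSemiringAction G C] [SMulCommClass G A C]
  [Algebra.IsInvariant A C G] [Field Ω] [IsAlgClosed Ω]
  (φ₀ : A →+* Ω) (ψ₀ : C →+* Ω) (hψ₀ : ψ₀.comp (algebraMap A C) = φ₀) (H : Subgroup G)

include hψ₀ in
/-- Every point of the fibre of `C^H` is the restriction of a conjugate of `ψ₀`. -/
theorem exists_smul_eq_of_homOver (φ : HomOver A (FixedPoints.subalgebra A C H) φ₀) :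
    ∃ σ : G, ∀ b : FixedPoints.subalgebra A C H, φ.1 b = ψ₀ (σ • (b : C)) := by
  haveI : Algebra.IsIntegral A C := Algebra.IsInvariant.isIntegral A C G
  haveI : Algebra.IsIntegral (FixedPoints.subalgebra A C H) C :=
    Algebra.IsIntegral.tower_top (R := A)
  obtain ⟨ψ, hψ⟩ := HomExt.exists_ringHom_extension
    (R := FixedPoints.subalgebra A C H) (S := C) Subtype.val_injective φ.1
  have h1 : ψ.comp (algebraMap A C) = ψ₀.comp (algebraMap A C) := by
    rw [hψ₀, ← φ.2, ← hψ, RingHom.comp_assoc]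
    rfl
  obtain ⟨σ, hσ⟩ := HomExt.exists_smul_eq (G := G) ψ ψ₀ h1
  refine ⟨σ, fun b => ?_⟩
  rw [← hσ, ← hψ]
  rfl

/-- The map from `G ⧸ H` to the fibre of `C^H`. -/
noncomputable def fibMap : G ⧸ H → HomOver A (FixedPoints.subalgebra A C H) φ₀ :=
  fun x => Quotient.liftOn' x
    (fun σ => ⟨(ψ₀.comp (MulSemiringAction.toRingHom G C σ)).comp
        (FixedPoints.subalgebra A C H).val.toRingHom, by
      rw [← hψ₀]
      ext a
      simp only [RingHom.coe_comp, Function.comp_apply]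
      change ψ₀ (σ • (algebraMap A C a)) = _
      rw [smul_algebraMap]⟩)
    (by
      intro σ τ hστ
      rw [QuotientGroup.leftRel_apply] at hστ
      apply Subtype.ext
      ext b
      change ψ₀ (σ • (b : C)) = ψ₀ (τ • (b : C))
      have : τ = σ * (σ⁻¹ * τ) := by group
      rw [this, mul_smul]
      congr 2
      exact (b.2 ⟨_, hστ⟩).symm)

theorem fibMap_mk (σ : G) (b : FixedPoints.subalgebra A C H) :
    (fibMap φ₀ ψ₀ hψ₀ H (σ : G ⧸ H)).1 b = ψ₀ (σ • (b : C)) := rfl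

theorem fibMap_surjective : Function.Surjective (fibMap φ₀ ψ₀ hψ₀ H) := by
  intro φ
  obtain ⟨σ, hσ⟩ := exists_smul_eq_of_homOver φ₀ ψ₀ hψ₀ H φ
  refine ⟨(σ : G ⧸ H), Subtype.ext ?_⟩
  ext b
  rw [fibMap_mk, hσ]

include hψ₀ in
theorem finite_homOver : Finite (HomOver A (FixedPoints.subalgebra A C H) φ₀) :=
  Finite.of_surjective _ (fibMap_surjective φ₀ ψ₀ hψ₀ H)

include hψ₀ in
theorem card_homOver_le : Nat.card (HomOver A (FixedPoints.subalgebra A C H) φ₀) ≤ H.index :=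
  Nat.card_le_card_of_surjective _ (fibMap_surjective φ₀ ψ₀ hψ₀ H)

include hψ₀ in
/-- If the fibre of `C^H` has at least `[G : H]` geometric points, every inertia group of a
prime of `C` over `ker φ₀` is contained in `H`. -/
theorem inertia_le_of_index_le
    (hcard : H.index ≤ Nat.card (HomOver A (FixedPoints.subalgebra A C H) φ₀))
    (Q' : Ideal C) [Q'.IsPrime] (hQ' : Q'.under A = RingHom.ker φ₀) : Q'.inertia G ≤ H := by
  have hbij : Function.Bijective (fibMap φ₀ ψ₀ hψ₀ H) :=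
    (fibMap_surjective φ₀ ψ₀ hψ₀ H).bijective_of_nat_card_le hcard
  -- inertia of `ker ψ₀`
  have key : ∀ (i : G), i ∈ (RingHom.ker ψ₀).inertia G → ∀ σ : G, σ⁻¹ * i⁻¹ * σ ∈ H := by
    intro i hi σ
    have h1 : fibMap φ₀ ψ₀ hψ₀ H ((i * σ : G) : G ⧸ H) = fibMap φ₀ ψ₀ hψ₀ H (σ : G ⧸ H) := by
      apply Subtype.ext
      ext b
      rw [fibMap_mk, fibMap_mk, mul_smul]
      have : i • σ • (b : C) - σ • (b : C) ∈ RingHom.ker ψ₀ := hi (σ • (b : C))
      rw [RingHom.mem_ker, map_sub, sub_eq_zero] at this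
      exact this
    have h2 := hbij.1 h1
    rw [QuotientGroup.eq] at h2
    have : (i * σ)⁻¹ * σ = σ⁻¹ * i⁻¹ * σ := by group
    rwa [this] at h2
  haveI : (RingHom.ker ψ₀).IsPrime := RingHom.ker_isPrime ψ₀
  have hu : (RingHom.ker ψ₀).under A = Q'.under A := by
    rw [hQ', ← hψ₀]
    ext a
    simp [Ideal.under_def, RingHom.mem_ker]
  obtain ⟨g, hg⟩ := Algebra.IsInvariant.exists_smul_of_under_eq A C G _ _ hu
  intro j hj
  have hi : g⁻¹ * j⁻¹ * g ∈ (RingHom.ker ψ₀).inertia G := by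
    intro x
    have h1 : j⁻¹ • g • x - g • x ∈ Q' := (Q'.inertia G).inv_mem hj (g • x)
    change (g⁻¹ * j⁻¹ * g) • x - x ∈ RingHom.ker ψ₀
    rw [hg, ← Ideal.smul_mem_pointwise_smul_iff (a := g⁻¹), inv_smul_smul, smul_sub,
      inv_smul_smul, ← mul_smul, ← mul_smul] at h1
    exact h1
  have h2 := key _ hi g⁻¹
  have h3 : (g⁻¹)⁻¹ * (g⁻¹ * j⁻¹ * g)⁻¹ * g⁻¹ = j := by group
  rwa [h3] at h2

end

end Groth.Agent.H6.FibCount
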