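import Mathlib
import Groth.Agent.Lib.Helper6.FibCount1

/-!
# Every prime over the kernel is the kernel of a geometric point (helper6)
-/

set_option autoImplicit false
universe u

namespace Groth.Agent.H6.QfDeg

open Groth.Agent.H6.FibCount

theorem exists_homOver_ker_eq {A B Ω : Type*} [CommRing A] [CommRing B] [Algebra A B]
    [Algebra.IsIntegral A B] [Field Ω] [IsAlgClosed Ω] (φ₀ : A →+* Ω) (Q : Ideal B) [Q.IsPrime]
    (hQ : Q.comap (algebraMap A B) = RingHom.ker φ₀) :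
    ∃ φ : HomOver A B φ₀, RingHom.ker φ.1 = Q := by
  haveI : (RingHom.ker φ₀).IsPrime := RingHom.ker_isPrime φ₀
  haveI : Q.LiesOver (RingHom.ker φ₀) := ⟨hQ.symm⟩
  let φb : A ⧸ RingHom.ker φ₀ →+* Ω := Ideal.Quotient.lift _ φ₀ (fun a ha => ha)
  have hφb : Function.Injective φb := by
    rw [injective_iff_map_eq_zero]
    intro x hx
    obtain ⟨a, rfl⟩ := Ideal.Quotient.mk_surjective x
    rw [Ideal.Quotient.lift_mk] at hx
    exact Ideal.Quotient.eq_zero_iff_mem.mpr hx
  obtain ⟨ψ, hψ⟩ := HomExt.exists_ringHom_extension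
    (R := A ⧸ RingHom.ker φ₀) (S := B ⧸ Q)
    (FaithfulSMul.algebraMap_injective _ _) φb
  have hker : RingHom.ker ψ = ⊥ := by
    haveI : (RingHom.ker ψ).IsPrime := RingHom.ker_isPrime ψ
    apply Ideal.eq_bot_of_comap_eq_bot (R := A ⧸ RingHom.ker φ₀)
    rw [eq_bot_iff]
    intro x hx
    rw [Ideal.mem_comap, RingHom.mem_ker] at hx
    have h1 : φb x = 0 := by
      rw [← hψ]; exact hx
    rw [Ideal.mem_bot]
    exact hφb (by rw [h1, map_zero])
  refine ⟨⟨ψ.comp (Ideal.Quotient.mk Q), ?_⟩, ?_⟩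
  · ext a
    have h2 := congrArg (fun g : A ⧸ RingHom.ker φ₀ →+* Ω => g (Ideal.Quotient.mk _ a)) hψ
    have h3 : φb (Ideal.Quotient.mk _ a) = φ₀ a := Ideal.Quotient.lift_mk _ _ _
    rw [← h3]
    simpa using h2
  · ext b
    rw [RingHom.mem_ker, RingHom.comp_apply]
    constructor
    · intro hb
      have : Ideal.Quotient.mk Q b ∈ RingHom.ker ψ := hb
      rw [hker, Ideal.mem_bot] at this
      exact Ideal.Quotient.eq_zero_iff_mem.mp this
    · intro hb
      rw [Ideal.Quotient.eq_zero_iff_mem.mpr hb, map_zero]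

end Groth.Agent.H6.QfDeg
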