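import Mathlib

/-! A domain of finite type and unramified over a normal domain (with injective structure map) is
étale. -/

set_option autoImplicit false
set_option linter.style.haveILetI false
universe u
open TensorProduct

namespace Groth.Agent.H6.UnrNormalAlg

/-- In a semisimple commutative ring every ideal is generated by an idempotent. -/
lemma exists_idempotent_span {R : Type*} [CommRing R] [IsSemisimpleRing R] (m : Ideal R) :
    ∃ e : R, e * e = e ∧ e ∈ m ∧ ∀ x ∈ m, x = x * e := by
  obtain ⟨J, hJ⟩ := exists_isCompl (m : Submodule R R)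
  have h1 : (1 : R) ∈ (m : Submodule R R) ⊔ J := by rw [hJ.sup_eq_top]; trivial
  obtain ⟨a, ha, b, hb, hab⟩ := Submodule.mem_sup.mp h1
  have key : ∀ x ∈ m, x = x * a := by
    intro x hx
    have hxb : x * b ∈ (m : Submodule R R) ⊓ J :=
      ⟨m.mul_mem_right _ hx, by simpa using J.smul_mem x hb⟩
    rw [hJ.inf_eq_bot] at hxb
    have hxb0 : x * b = 0 := hxb
    calc x = x * 1 := (mul_one x).symm
      _ = x * (a + b) := by rw [hab]
      _ = x * a + x * b := mul_add ..
      _ = x * a := by rw [hxb0, add_zero]
  exact ⟨a, (key a ha).symm, ha, key⟩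

/-- The core: a domain quotient `B'` of an étale algebra `C` over a normal domain `A`, with
`A → B'` injective, is étale over `A`. -/
theorem etale_of_surjective (A C B' : Type u) [CommRing A] [IsDomain A] [IsIntegrallyClosed A]
    [CommRing C] [Algebra A C] [Algebra.Etale A C]
    [CommRing B'] [IsDomain B'] [Algebra A B'] (hinj : Function.Injective (algebraMap A B'))
    (φ : C →ₐ[A] B') (hφ : Function.Surjective φ) : Algebra.Etale A B' := by
  let K := FractionRing A
  haveI : IsSemisimpleRing (K ⊗[A] C) := by
    haveI : Algebra.Etale K (K ⊗[A] C) := inferInstance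
    haveI : Module.Finite K (K ⊗[A] C) := Algebra.FormallyUnramified.finite_of_free K _
    haveI : IsArtinianRing (K ⊗[A] C) := IsArtinianRing.of_finite K _
    haveI : IsReduced (K ⊗[A] C) := Algebra.FormallyUnramified.isReduced_of_field K _
    exact IsArtinianRing.isSemisimpleRing_of_isReduced _
  haveI : IsSemisimpleRing (C ⊗[A] K) :=
    (Algebra.TensorProduct.comm A K C).toRingEquiv.isSemisimpleRing
  haveI : Algebra.Smooth A C := inferInstance
  haveI : Module.Flat A C := inferInstance
  have hinjC : Function.Injective (algebraMap C (C ⊗[A] K)) := by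
    have := Algebra.TensorProduct.includeLeft_injective (R := A) (S := C) (A := C) (B := K)
      (IsFractionRing.injective A K)
    exact this
  have halg : ∀ c : C, algebraMap C (C ⊗[A] K) c = c ⊗ₜ[A] (1 : K) := fun c => rfl
  let T := Algebra.algebraMapSubmonoid C (nonZeroDivisors A)
  haveI : IsLocalization T (C ⊗[A] K) := IsLocalization.tensor K (nonZeroDivisors A)
  let I : Ideal C := RingHom.ker φ.toRingHom
  let m : Ideal (C ⊗[A] K) := Ideal.map (algebraMap C (C ⊗[A] K)) I
  obtain ⟨e, hee, hem, hxe⟩ := exists_idempotent_span m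
  -- `e` is integral over `C`
  have hint : IsIntegral C e := by
    refine ⟨Polynomial.X ^ (1 + 1) - Polynomial.X,
      Polynomial.monic_X_pow_sub (Polynomial.degree_X_le.trans_lt (by norm_cast)), ?_⟩
    rw [Polynomial.eval₂_sub, Polynomial.eval₂_pow, Polynomial.eval₂_X, pow_succ, pow_one, hee,
      sub_self]
  -- every element of the image of `toIntegralClosure` is of the form `c ⊗ 1`
  have key : ∀ t : C ⊗[A] integralClosure A K,
      ∃ c : C, ((TensorProduct.toIntegralClosure A C K t : integralClosure C (C ⊗[A] K)) :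
        C ⊗[A] K) = c ⊗ₜ[A] (1 : K) := by
    intro t
    induction t using TensorProduct.induction_on with
    | zero => exact ⟨0, by simp⟩
    | tmul c y =>
      obtain ⟨a, ha⟩ := IsIntegrallyClosed.isIntegral_iff.mp y.2
      refine ⟨a • c, ?_⟩
      have h1 : ((TensorProduct.toIntegralClosure A C K (c ⊗ₜ y) :
          integralClosure C (C ⊗[A] K)) : C ⊗[A] K) = c ⊗ₜ[A] (y : K) := rfl
      rw [h1, ← ha, Algebra.algebraMap_eq_smul_one, TensorProduct.tmul_smul,
        TensorProduct.smul_tmul']
    | add x y hx hy =>
      obtain ⟨c1, h1⟩ := hx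
      obtain ⟨c2, h2⟩ := hy
      exact ⟨c1 + c2, by rw [map_add, Subalgebra.coe_add, h1, h2, TensorProduct.add_tmul]⟩
  obtain ⟨t, ht⟩ := (TensorProduct.toIntegralClosure_bijective_of_smooth (R := A) (S := C)
    (B := K)).2 ⟨e, hint⟩
  obtain ⟨c₀, hc₀⟩ := key t
  rw [ht] at hc₀
  have hec : e = algebraMap C (C ⊗[A] K) c₀ := hc₀
  -- `c₀` is idempotent
  have hc₀i : c₀ * c₀ = c₀ := by
    apply hinjC
    rw [map_mul, ← hec, hee]
  -- `c₀ ∈ I`
  have hc₀I : c₀ ∈ I := by
    rw [hec] at hem
    obtain ⟨⟨x', t'⟩, hxt⟩ := (IsLocalization.mem_map_algebraMap_iff T (C ⊗[A] K)).mp hem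
    obtain ⟨s, hs, hst⟩ := t'.2
    have h2 : c₀ * (t' : C) = (x' : C) := by
      apply hinjC
      rw [map_mul]
      exact hxt
    have h3 : φ (c₀ * (t' : C)) = 0 := by
      rw [h2]
      exact x'.2
    rw [map_mul, ← hst, AlgHom.commutes] at h3
    have hs0 : algebraMap A B' s ≠ 0 := by
      intro h
      have : s = 0 := hinj (h.trans (map_zero _).symm)
      exact nonZeroDivisors.ne_zero hs this
    rcases mul_eq_zero.mp h3 with h | h
    · exact h
    · exact absurd h hs0
  -- `I = span {c₀}`
  have hI : I = Ideal.span {c₀} := by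
    apply le_antisymm
    · intro x hx
      have h1 : algebraMap C (C ⊗[A] K) x ∈ m := Ideal.mem_map_of_mem _ hx
      have h2 := hxe _ h1
      rw [hec, ← map_mul] at h2
      have h3 : x = x * c₀ := hinjC h2
      rw [h3]
      exact Ideal.mul_mem_left _ _ (Ideal.subset_span rfl)
    · rw [Ideal.span_le]
      rintro _ rfl
      exact hc₀I
  -- conclude
  letI algCB : Algebra C B' := φ.toRingHom.toAlgebra
  haveI : IsScalarTower A C B' := IsScalarTower.of_algebraMap_eq (fun a => (φ.commutes a).symm)
  have hidem : IsIdempotentElem (1 - c₀) := (show IsIdempotentElem c₀ from hc₀i).one_sub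
  haveI : IsLocalization.Away (1 - c₀) B' := by
    refine IsLocalization.away_of_isIdempotentElem hidem ?_ hφ
    show RingHom.ker φ.toRingHom = _
    rw [sub_sub_cancel]
    exact hI
  haveI : Algebra.Etale C B' := Algebra.Etale.of_isLocalizationAway (1 - c₀)
  exact Algebra.Etale.comp A C B'

/-- A domain of finite type and unramified over a normal domain, with injective structure map, is
étale. -/
theorem etale_of_unramified_of_normal (A B : Type u) [CommRing A] [IsDomain A]
    [IsIntegrallyClosed A] [CommRing B] [IsDomain B] [Algebra A B]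
    (hinj : Function.Injective (algebraMap A B))
    [Algebra.FiniteType A B] [Algebra.FormallyUnramified A B] : Algebra.Etale A B := by
  rw [← RingHom.etale_algebraMap]
  refine RingHom.Etale.propertyIsLocal.ofLocalizationSpanTarget (algebraMap A B)
    {f : B | RingHom.Etale ((algebraMap B (Localization.Away f)).comp (algebraMap A B))} ?_
    (fun r => r.2)
  by_contra hne
  obtain ⟨q, hq, hle⟩ := Ideal.exists_le_maximal _ hne
  haveI := hq.isPrime
  obtain ⟨f, hfq, P, φ, hφ⟩ :=
    Algebra.IsUnramifiedAt.exists_hasStandardEtaleSurjectionOn (R := A) q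
  apply hfq
  apply hle
  apply Ideal.subset_span
  show RingHom.Etale _
  have hf0 : f ≠ 0 := fun h => hfq (h ▸ q.zero_mem)
  have hle' : Submonoid.powers f ≤ nonZeroDivisors B :=
    powers_le_nonZeroDivisors_of_noZeroDivisors hf0
  haveI : IsDomain (Localization.Away f) :=
    IsLocalization.isDomain_localization hle'
  have hinj' : Function.Injective (algebraMap A (Localization.Away f)) := by
    rw [IsScalarTower.algebraMap_eq A B (Localization.Away f)]
    exact (IsLocalization.injective _ hle').comp hinj
  have := etale_of_surjective A P.Ring (Localization.Away f) hinj' φ hφ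
  rw [← IsScalarTower.algebraMap_eq, RingHom.etale_algebraMap]
  exact this

end Groth.Agent.H6.UnrNormalAlg
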