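import Mathlib
import Groth.Agent.Lib.Helper6.UnrNormalAlg

/-! Étale algebras over a normal domain with separably closed fraction field are local
isomorphisms (algebraic core of Stacks 09Z8). -/

set_option autoImplicit false
set_option linter.style.haveILetI false
universe u
open TensorProduct

namespace Groth.Agent.H6.EtNorm

open Groth.Agent.H6.UnrNormalAlg

/-- The kernel of a surjection from an étale algebra `C` over a normal domain `A` onto a domain
`B'` with `A → B'` injective is generated by an idempotent. -/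
theorem ker_eq_span_idempotent (A C B' : Type u) [CommRing A] [IsDomain A] [IsIntegrallyClosed A]
    [CommRing C] [Algebra A C] [Algebra.Etale A C]
    [CommRing B'] [IsDomain B'] [Algebra A B'] (hinj : Function.Injective (algebraMap A B'))
    (φ : C →ₐ[A] B') :
    ∃ c₀ : C, c₀ * c₀ = c₀ ∧ RingHom.ker φ.toRingHom = Ideal.span {c₀} := by
  let K := FractionRing A
  haveI : IsSemisimpleRing (K ⊗[A] C) := by
    haveI : Algebra.Etale K (K ⊗[A] C) := inferInstance
    haveI : Module.Finite K (K ⊗[A] C) := Algebra.FormallyUnramified.finite_of_free K _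
    haveI : IsArtinianRing (K ⊗[A] C) := IsArtinianRing.of_finite K _
    haveI : IsReduced (K ⊗[A] C) := Algebra.FormallyUnramified.isReduced_of_field K _
    exact IsArtinianRing.isSemisimpleRing_of_isReduced _
  haveI : IsSemisimpleRing (C ⊗[A] K) :=
    (Algebra.TensorProduct.comm A K C).toRingEquiv.isSemisimpleRing
  haveI : Algebra.Smooth A C := inferInstance
  haveI : Module.Flat A C := inferInstance
  have hinjC : Function.Injective (algebraMap C (C ⊗[A] K)) := by
    have := Algebra.TensorProduct.includeLeft_injective (R := A) (S := C) (A := C) (B := K)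
      (IsFractionRing.injective A K)
    exact this
  have halg : ∀ c : C, algebraMap C (C ⊗[A] K) c = c ⊗ₜ[A] (1 : K) := fun c => rfl
  let T := Algebra.algebraMapSubmonoid C (nonZeroDivisors A)
  haveI : IsLocalization T (C ⊗[A] K) := IsLocalization.tensor K (nonZeroDivisors A)
  let I : Ideal C := RingHom.ker φ.toRingHom
  let m : Ideal (C ⊗[A] K) := Ideal.map (algebraMap C (C ⊗[A] K)) I
  obtain ⟨e, hee, hem, hxe⟩ := exists_idempotent_span m
  have hint : IsIntegral C e := by
    refine ⟨Polynomial.X ^ (1 + 1) - Polynomial.X,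
      Polynomial.monic_X_pow_sub (Polynomial.degree_X_le.trans_lt (by norm_cast)), ?_⟩
    rw [Polynomial.eval₂_sub, Polynomial.eval₂_pow, Polynomial.eval₂_X, pow_succ, pow_one, hee,
      sub_self]
  have key : ∀ t : C ⊗[A] integralClosure A K,
      ∃ c : C, ((TensorProduct.toIntegralClosure A C K t : integralClosure C (C ⊗[A] K)) :
        C ⊗[A] K) = c ⊗ₜ[A] (1 : K) := by
    intro t
    induction t using TensorProduct.induction_on with
    | zero => exact ⟨0, by simp⟩
    | tmul c y =>
      obtain ⟨a, ha⟩ := IsIntegrallyClosed.isIntegral_iff.mp y.2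
      refine ⟨a • c, ?_⟩
      have h1 : ((TensorProduct.toIntegralClosure A C K (c ⊗ₜ y) :
          integralClosure C (C ⊗[A] K)) : C ⊗[A] K) = c ⊗ₜ[A] (y : K) := rfl
      rw [h1, ← ha, Algebra.algebraMap_eq_smul_one, TensorProduct.tmul_smul,
        TensorProduct.smul_tmul']
    | add x y hx hy =>
      obtain ⟨c1, h1⟩ := hx
      obtain ⟨c2, h2⟩ := hy
      exact ⟨c1 + c2, by rw [map_add, Subalgebra.coe_add, h1, h2, TensorProduct.add_tmul]⟩
  obtain ⟨t, ht⟩ := (TensorProduct.toIntegralClosure_bijective_of_smooth (R := A) (S := C)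
    (B := K)).2 ⟨e, hint⟩
  obtain ⟨c₀, hc₀⟩ := key t
  rw [ht] at hc₀
  have hec : e = algebraMap C (C ⊗[A] K) c₀ := hc₀
  have hc₀i : c₀ * c₀ = c₀ := by
    apply hinjC
    rw [map_mul, ← hec, hee]
  have hc₀I : c₀ ∈ I := by
    rw [hec] at hem
    obtain ⟨⟨x', t'⟩, hxt⟩ := (IsLocalization.mem_map_algebraMap_iff T (C ⊗[A] K)).mp hem
    obtain ⟨s, hs, hst⟩ := t'.2
    have h2 : c₀ * (t' : C) = (x' : C) := by
      apply hinjC
      rw [map_mul]
      exact hxt
    have h3 : φ (c₀ * (t' : C)) = 0 := by
      rw [h2]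
      exact x'.2
    rw [map_mul, ← hst, AlgHom.commutes] at h3
    have hs0 : algebraMap A B' s ≠ 0 := by
      intro h
      have : s = 0 := hinj (h.trans (map_zero _).symm)
      exact nonZeroDivisors.ne_zero hs this
    rcases mul_eq_zero.mp h3 with h | h
    · exact h
    · exact absurd h hs0
  refine ⟨c₀, hc₀i, ?_⟩
  show I = Ideal.span {c₀}
  apply le_antisymm
  · intro x hx
    have h1 : algebraMap C (C ⊗[A] K) x ∈ m := Ideal.mem_map_of_mem _ hx
    have h2 := hxe _ h1
    rw [hec, ← map_mul] at h2
    have h3 : x = x * c₀ := hinjC h2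
    rw [h3]
    exact Ideal.mul_mem_left _ _ (Ideal.subset_span rfl)
  · rw [Ideal.span_le]
    rintro _ rfl
    exact hc₀I

/-- A flat algebra over a domain all of whose elements are "fractions" is an epimorphism. -/
theorem isEpi_of_fractions (A B : Type u) [CommRing A] [IsDomain A] [CommRing B] [Algebra A B]
    [Module.Flat A B]
    (h : ∀ b : B, ∃ y x : A, y ≠ 0 ∧ y • b = algebraMap A B x) : Algebra.IsEpi A B := by
  rw [Algebra.isEpi_iff_forall_one_tmul_eq]
  intro b
  obtain ⟨y, x, hy, hyx⟩ := h b
  haveI : Module.Flat A (B ⊗[A] B) := inferInstance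
  have hreg : IsSMulRegular (B ⊗[A] B) y :=
    Module.Flat.isSMulRegular_of_nonZeroDivisors (mem_nonZeroDivisors_of_ne_zero hy)
  apply hreg
  show y • ((1 : B) ⊗ₜ[A] b) = y • (b ⊗ₜ[A] (1 : B))
  rw [TensorProduct.smul_tmul', TensorProduct.smul_tmul', TensorProduct.smul_tmul, hyx,
    Algebra.algebraMap_eq_smul_one, TensorProduct.smul_tmul]

/-- A domain étale over a normal domain with separably closed fraction field, with injective
structure map, consists of fractions. -/
theorem fractions_of_etale_domain (A : Type u) [CommRing A] [IsDomain A]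
    (K : Type u) [Field K] [Algebra A K] [IsFractionRing A K] [IsSepClosed K]
    (B : Type u) [CommRing B] [IsDomain B] [Algebra A B] [Algebra.Etale A B]
    (hinj : Function.Injective (algebraMap A B)) (b : B) :
    ∃ y x : A, y ≠ 0 ∧ y • b = algebraMap A B x := by
  haveI : Algebra.Etale K (K ⊗[A] B) := inferInstance
  haveI : Algebra.Smooth A B := inferInstance
  haveI : Module.Flat A B := inferInstance
  -- `B ⊗ K` is a domain
  let T := Algebra.algebraMapSubmonoid B (nonZeroDivisors A)
  haveI : IsLocalization T (B ⊗[A] K) := IsLocalization.tensor K (nonZeroDivisors A)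
  have hT : T ≤ nonZeroDivisors B := by
    rintro _ ⟨s, hs, rfl⟩
    refine mem_nonZeroDivisors_of_ne_zero ?_
    intro h0
    exact nonZeroDivisors.ne_zero hs (hinj (h0.trans (map_zero _).symm))
  haveI : IsDomain (B ⊗[A] K) := IsLocalization.isDomain_of_le_nonZeroDivisors (B ⊗[A] K) hT
  haveI : IsDomain (K ⊗[A] B) :=
    (Algebra.TensorProduct.comm A K B).toRingEquiv.toMulEquiv.isDomain (B ⊗[A] K)
  -- hence `K ⊗ B = K`
  classical
  let e := Algebra.FormallyEtale.equivPiOfIsSepClosed K (K ⊗[A] B)
  have hsub : ∀ p p' : PrimeSpectrum (K ⊗[A] B), p = p' := by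
    intro p p'
    by_contra hne
    have h1 : e.symm (Pi.single p 1) * e.symm (Pi.single p' 1) = 0 := by
      rw [← map_mul]
      have : (Pi.single p (1 : K) * Pi.single p' (1 : K) : PrimeSpectrum (K ⊗[A] B) → K) = 0 := by
        funext r
        by_cases hr : r = p
        · subst hr
          simp [Pi.single_eq_of_ne hne]
        · simp [Pi.single_eq_of_ne hr]
      rw [this, map_zero]
    rcases mul_eq_zero.mp h1 with h | h
    · have := congrArg e h
      rw [AlgEquiv.apply_symm_apply, map_zero] at this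
      have := congrFun this p
      simp at this
    · have := congrArg e h
      rw [AlgEquiv.apply_symm_apply, map_zero] at this
      have := congrFun this p'
      simp at this
  obtain ⟨p₀⟩ : Nonempty (PrimeSpectrum (K ⊗[A] B)) := inferInstance
  have hK : ∀ l : K ⊗[A] B, ∃ k : K, l = k ⊗ₜ[A] (1 : B) := by
    intro l
    refine ⟨e l p₀, ?_⟩
    apply e.injective
    funext r
    rw [hsub r p₀]
    have : (e l p₀) ⊗ₜ[A] (1 : B) = algebraMap K (K ⊗[A] B) (e l p₀) := rfl
    rw [this, AlgEquiv.commutes]
    rfl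
  obtain ⟨k, hk⟩ := hK ((1 : K) ⊗ₜ[A] b)
  obtain ⟨x, y, hy, rfl⟩ := IsFractionRing.div_surjective (A := A) k
  have hy0 : y ≠ 0 := nonZeroDivisors.ne_zero hy
  have hyK : algebraMap A K y ≠ 0 := by
    intro h0
    exact hy0 (IsFractionRing.injective A K (h0.trans (map_zero _).symm))
  refine ⟨y, x, hy0, ?_⟩
  have hinjB : Function.Injective (Algebra.TensorProduct.includeRight : B →ₐ[A] K ⊗[A] B) :=
    Algebra.TensorProduct.includeRight_injective (IsFractionRing.injective A K)
  apply hinjB
  show (1 : K) ⊗ₜ[A] (y • b) = (1 : K) ⊗ₜ[A] (algebraMap A B x)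
  have h2 : (1 : K) ⊗ₜ[A] (y • b) = y • ((1 : K) ⊗ₜ[A] b) := by
    rw [TensorProduct.tmul_smul]
  rw [h2, hk, TensorProduct.smul_tmul', Algebra.smul_def, mul_div_cancel₀ _ hyK,
    Algebra.algebraMap_eq_smul_one, Algebra.algebraMap_eq_smul_one x, TensorProduct.smul_tmul]

/-- **Algebraic local structure**: an étale algebra over a normal domain with separably closed
fraction field is, near every prime, a flat epimorphism. -/
theorem exists_isEpi_away (A : Type u) [CommRing A] [IsDomain A] [IsIntegrallyClosed A]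
    (K : Type u) [Field K] [Algebra A K] [IsFractionRing A K] [IsSepClosed K]
    (C : Type u) [CommRing C] [Algebra A C] [Algebra.Etale A C] (q : Ideal C) [q.IsPrime] :
    ∃ c : C, c ∉ q ∧ ∀ (B : Type u) [CommRing B] [Algebra C B] [Algebra A B]
      [IsScalarTower A C B] [IsLocalization.Away c B], Algebra.IsEpi A B := by
  haveI : Algebra.Smooth A C := inferInstance
  haveI : Module.Flat A C := inferInstance
  haveI : (⊥ : Ideal A).IsPrime := Ideal.isPrime_bot
  obtain ⟨q₀, hq₀le, hq₀p, hq₀o⟩ :=
    Ideal.exists_ideal_le_liesOver_of_le (p := (⊥ : Ideal A)) (q := q.under A) q bot_le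
  let B' := C ⧸ q₀
  haveI : IsDomain B' := Ideal.Quotient.isDomain q₀
  have hinj : Function.Injective (algebraMap A B') := by
    rw [injective_iff_map_eq_zero]
    intro a ha
    have h1 : algebraMap A C a ∈ q₀ := by
      rw [← Ideal.Quotient.eq_zero_iff_mem]
      exact ha
    have h2 : a ∈ q₀.under A := h1
    rw [← hq₀o.over] at h2
    exact h2
  have hsurj : Function.Surjective (Ideal.Quotient.mkₐ A q₀) := Ideal.Quotient.mkₐ_surjective A q₀
  obtain ⟨c₀, hc₀i, hker⟩ := ker_eq_span_idempotent A C B' hinj (Ideal.Quotient.mkₐ A q₀)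
  have hq₀ : q₀ = Ideal.span {c₀} := by
    rw [← hker]
    exact (Ideal.Quotient.mkₐ_ker A q₀).symm
  have hc₀q : c₀ ∈ q := hq₀le (hq₀ ▸ Ideal.subset_span rfl)
  refine ⟨1 - c₀, ?_, ?_⟩
  · intro h
    have : (1 : C) ∈ q := by
      have := q.add_mem h hc₀q
      rwa [sub_add_cancel] at this
    exact (Ideal.IsPrime.ne_top inferInstance) ((Ideal.eq_top_iff_one q).mpr this)
  · intro B _ _ _ _ _
    haveI : Algebra.Etale A B' := etale_of_surjective A C B' hinj (Ideal.Quotient.mkₐ A q₀) hsurj
    have hidem : IsIdempotentElem (1 - c₀) := (show IsIdempotentElem c₀ from hc₀i).one_sub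
    haveI : IsLocalization.Away (1 - c₀) B' := by
      refine IsLocalization.away_of_isIdempotentElem hidem ?_ Ideal.Quotient.mk_surjective
      rw [sub_sub_cancel, ← hq₀]
      exact Ideal.mk_ker
    let e : B ≃ₐ[C] B' := IsLocalization.algEquiv (Submonoid.powers (1 - c₀)) B B'
    haveI : Algebra.Etale C B := Algebra.Etale.of_isLocalizationAway (1 - c₀)
    haveI : Algebra.Etale A B := Algebra.Etale.comp A C B
    haveI : Algebra.Smooth A B := inferInstance
    haveI : Module.Flat A B := inferInstance
    apply isEpi_of_fractions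
    intro b
    obtain ⟨y, x, hy, hyx⟩ := fractions_of_etale_domain A K B' hinj (e b)
    refine ⟨y, x, hy, e.injective ?_⟩
    have h1 : e (y • b) = y • e b := by
      rw [← algebraMap_smul C y b, map_smul, algebraMap_smul]
    have h2 : e (algebraMap A B x) = algebraMap A B' x := by
      rw [IsScalarTower.algebraMap_apply A C B, e.commutes, ← IsScalarTower.algebraMap_apply]
    rw [h1, h2, hyx]

end Groth.Agent.H6.EtNorm
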