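import Mathlib
import Groth.Prelude.Def_Pi1
import Groth.Agent.Lib.Helper5.AG.NormalAffine
import Groth.Agent.Lib.Helper6.EtNormA

/-! An étale morphism to a normal integral scheme with separably closed function field is a local
isomorphism. -/

set_option autoImplicit false
set_option linter.style.haveILetI false
universe u
open CategoryTheory CategoryTheory.Limits AlgebraicGeometry TopologicalSpace

namespace Groth.Agent.H6.EtNorm

theorem isLocalIso_of_etale {U X : Scheme.{u}} [IsIntegral X]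
    (hN : ∀ x : X, IsIntegrallyClosed (X.presheaf.stalk x)) [IsSepClosed X.functionField]
    (g : U ⟶ X) [Etale g] : IsLocalIso g := by
  have hX : Pi1.IsNormalScheme X := fun x => ⟨inferInstance, hN x⟩
  refine ⟨fun u => ?_⟩
  obtain ⟨V, hV, huV, -⟩ := exists_isAffineOpen_mem_and_subset (x := g u) (U := ⊤) trivial
  obtain ⟨W0, hW0, huW0, hW0V⟩ :=
    exists_isAffineOpen_mem_and_subset (x := u) (U := g ⁻¹ᵁ V) huV
  have hle : W0 ≤ g ⁻¹ᵁ V := hW0V
  haveI : Nonempty V := ⟨⟨g u, huV⟩⟩
  haveI : IsIntegrallyClosed Γ(X, V) := (Groth.Agent.H5.AG.isNormalScheme_iff_affine X).1 hX V hV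
  haveI : IsDomain Γ(X, V) := inferInstance
  haveI := functionField_isFractionRing_of_isAffineOpen X V hV
  letI algVW0 : Algebra Γ(X, V) Γ(U, W0) := (g.appLE V W0 hle).hom.toAlgebra
  haveI : Algebra.Etale Γ(X, V) Γ(U, W0) :=
    HasRingHomProperty.appLE (P := @Etale) g inferInstance ⟨V, hV⟩ ⟨W0, hW0⟩ hle
  let q : Ideal Γ(U, W0) :=
    (IsLocalRing.maximalIdeal (U.presheaf.stalk u)).comap (U.presheaf.germ W0 u huW0).hom
  haveI : q.IsPrime := Ideal.IsPrime.comap _
  obtain ⟨c, hcq, hc⟩ := exists_isEpi_away Γ(X, V) X.functionField Γ(U, W0) q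
  have hW : IsAffineOpen (U.basicOpen c) := hW0.basicOpen c
  have huW : u ∈ U.basicOpen c := by
    rw [Scheme.mem_basicOpen U c u huW0]
    by_contra hnu
    exact hcq ((IsLocalRing.mem_maximalIdeal _).mpr hnu)
  refine ⟨U.basicOpen c, huW, ?_⟩
  have hle' : U.basicOpen c ≤ g ⁻¹ᵁ V := le_trans (U.basicOpen_le c) hle
  haveI := hW0.isLocalization_basicOpen c
  letI algVW : Algebra Γ(X, V) Γ(U, U.basicOpen c) := (g.appLE V (U.basicOpen c) hle').hom.toAlgebra
  haveI : IsScalarTower Γ(X, V) Γ(U, W0) Γ(U, U.basicOpen c) := by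
    refine IsScalarTower.of_algebraMap_eq' ?_
    show (g.appLE V (U.basicOpen c) hle').hom =
      (U.presheaf.map (homOfLE (U.basicOpen_le c)).op).hom.comp (g.appLE V W0 hle).hom
    rw [← CommRingCat.hom_comp, Scheme.Hom.appLE_map]
  have hepi : Algebra.IsEpi Γ(X, V) Γ(U, U.basicOpen c) := hc Γ(U, U.basicOpen c)
  haveI hEpi : Epi (g.appLE V (U.basicOpen c) hle') := by
    have := CommRingCat.epi_iff_epi.mpr hepi
    exact this
  haveI : Mono (Spec.map (g.appLE V (U.basicOpen c) hle')) := by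
    have : Mono (g.appLE V (U.basicOpen c) hle').op := inferInstance
    exact (inferInstance : Mono (Scheme.Spec.map (g.appLE V (U.basicOpen c) hle').op))
  haveI : Mono (hW.fromSpec ≫ g) := by
    rw [← hV.SpecMap_appLE_fromSpec g hW hle']
    exact mono_comp _ _
  haveI : IsOpenImmersion (hW.fromSpec ≫ g) := IsOpenImmersion.of_flat_of_mono _
  rw [← hW.isoSpec_hom_fromSpec, Category.assoc]
  infer_instance

end Groth.Agent.H6.EtNorm
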