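import Mathlib
import Groth.Agent.Lib.Helper6.EtNormB

/-! Separated étale local isomorphisms over an integral scheme are disjoint unions of opens. -/

set_option autoImplicit false
set_option linter.style.haveILetI false
universe u
open CategoryTheory CategoryTheory.Limits AlgebraicGeometry TopologicalSpace

namespace Groth.Agent.H6.EtNorm

/-- a local isomorphism induces isomorphisms on stalks. -/
theorem isIso_stalkMap_of_isLocalIso {U X : Scheme.{u}} (g : U ⟶ X) [IsLocalIso g] (u : U) :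
    IsIso (g.stalkMap u) := by
  obtain ⟨W, huW, hW⟩ := IsLocalIso.exists_isOpenImmersion (f := g) u
  let w : (W : Scheme.{u}) := ⟨u, huW⟩
  have h1 : IsIso ((W.ι ≫ g).stalkMap w) := inferInstance
  have h2 := Scheme.Hom.stalkMap_comp W.ι g w
  rw [h2] at h1
  haveI h3 : IsIso (W.ι.stalkMap w) := inferInstance
  exact @IsIso.of_isIso_comp_right _ _ _ _ _ (g.stalkMap (W.ι w)) (W.ι.stalkMap w) h3 h1

/-- a local isomorphism which is open and injective on an open subset is an open immersion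
there. -/
theorem isOpenImmersion_of_injOn {U X : Scheme.{u}} (g : U ⟶ X) [IsLocalIso g]
    (hopen : IsOpenMap g) (W : U.Opens) (hinj : Set.InjOn g W) :
    IsOpenImmersion (W.ι ≫ g) := by
  haveI : ∀ x, IsIso ((W.ι ≫ g).stalkMap x) := by
    intro x
    have h2 := Scheme.Hom.stalkMap_comp W.ι g x
    rw [h2]
    haveI h3 : IsIso (g.stalkMap (W.ι x)) := isIso_stalkMap_of_isLocalIso g (W.ι x)
    haveI h4 : IsIso (W.ι.stalkMap x) := inferInstance
    exact @IsIso.comp_isIso _ _ _ _ _ (g.stalkMap (W.ι x)) (W.ι.stalkMap x) h3 h4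
  refine IsOpenImmersion.of_isIso_stalkMap _ ?_
  refine Topology.IsOpenEmbedding.of_continuous_injective_isOpenMap (W.ι ≫ g).continuous ?_ ?_
  · intro x y hxy
    have h1 : g (W.ι x) = g (W.ι y) := by
      simpa [Scheme.Hom.comp_apply] using hxy
    have h2 : W.ι x = W.ι y := hinj x.2 y.2 h1
    exact W.ι.injective h2
  · have : ⇑(W.ι ≫ g) = ⇑g ∘ ⇑W.ι := by
      funext x
      simp
    rw [this]
    exact hopen.comp W.ι.isOpenEmbedding.isOpenMap

/-- **Rigidity.** -/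
theorem eq_of_apply_eq {U X : Scheme.{u}} [IsIntegral X] (g : U ⟶ X) [Etale g] [IsSeparated g]
    (W₁ W₂ : U.Opens) [IsOpenImmersion (W₁.ι ≫ g)] [IsOpenImmersion (W₂.ι ≫ g)]
    (η : U) (h₁ : η ∈ W₁) (h₂ : η ∈ W₂) (u₁ u₂ : U) (hu₁ : u₁ ∈ W₁) (hu₂ : u₂ ∈ W₂)
    (h : g u₁ = g u₂) : u₁ = u₂ := by
  let j : pullback (W₁.ι ≫ g) (W₂.ι ≫ g) ⟶ pullback g g :=
    pullback.map (W₁.ι ≫ g) (W₂.ι ≫ g) g g W₁.ι W₂.ι (𝟙 X) (by simp) (by simp)
  have hrange : Set.range j = pullback.fst g g ⁻¹' Set.range W₁.ι ∩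
      pullback.snd g g ⁻¹' Set.range W₂.ι :=
    Scheme.Pullback.range_map _ _ _ _ _ _ _ _ _
  -- a point of `Q` over `(u₁, u₂)`
  obtain ⟨z, hz1, hz2⟩ := Scheme.Pullback.exists_preimage_pullback
    (f := W₁.ι ≫ g) (g := W₂.ι ≫ g) (⟨u₁, hu₁⟩ : W₁) (⟨u₂, hu₂⟩ : W₂) (by
      simpa [Scheme.Hom.comp_apply] using h)
  haveI : Nonempty ↥(pullback (W₁.ι ≫ g) (W₂.ι ≫ g)) := ⟨z⟩
  haveI : IsOpenImmersion (pullback.fst (W₁.ι ≫ g) (W₂.ι ≫ g) ≫ W₁.ι ≫ g) := inferInstance
  haveI : IsIntegral (pullback (W₁.ι ≫ g) (W₂.ι ≫ g)) :=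
    isIntegral_of_isOpenImmersion (pullback.fst (W₁.ι ≫ g) (W₂.ι ≫ g) ≫ W₁.ι ≫ g)
  -- the diagonal is clopen
  have hclopen : IsClopen (Set.range (pullback.diagonal g)) :=
    ⟨(pullback.diagonal g).isClosedEmbedding.isClosed_range,
      (pullback.diagonal g).isOpenEmbedding.isOpen_range⟩
  have hpre : IsClopen (j ⁻¹' Set.range (pullback.diagonal g)) := hclopen.preimage j.continuous
  -- the preimage is nonempty
  have hη : (pullback.diagonal g) η ∈ Set.range j := by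
    rw [hrange]
    constructor
    · show (pullback.fst g g) ((pullback.diagonal g) η) ∈ Set.range W₁.ι
      rw [← Scheme.Hom.comp_apply, pullback.diagonal_fst]
      exact ⟨⟨η, h₁⟩, rfl⟩
    · show (pullback.snd g g) ((pullback.diagonal g) η) ∈ Set.range W₂.ι
      rw [← Scheme.Hom.comp_apply, pullback.diagonal_snd]
      exact ⟨⟨η, h₂⟩, rfl⟩
  obtain ⟨q, hq⟩ := hη
  have huniv : j ⁻¹' Set.range (pullback.diagonal g) = Set.univ := by
    rcases isClopen_iff.mp hpre with h0 | h1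
    · exfalso
      have : q ∈ j ⁻¹' Set.range (pullback.diagonal g) := ⟨η, hq.symm⟩
      rw [h0] at this
      exact this
    · exact h1
  have hzmem : z ∈ j ⁻¹' Set.range (pullback.diagonal g) := by rw [huniv]; trivial
  obtain ⟨u, hu⟩ := hzmem
  have e1 : u = u₁ := by
    have := congrArg (pullback.fst g g) hu
    rw [← Scheme.Hom.comp_apply, pullback.diagonal_fst, ← Scheme.Hom.comp_apply] at this
    have hj1 : j ≫ pullback.fst g g = pullback.fst _ _ ≫ W₁.ι := pullback.lift_fst _ _ _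
    rw [hj1, Scheme.Hom.comp_apply, hz1] at this
    exact this
  have e2 : u = u₂ := by
    have := congrArg (pullback.snd g g) hu
    rw [← Scheme.Hom.comp_apply, pullback.diagonal_snd, ← Scheme.Hom.comp_apply] at this
    have hj2 : j ≫ pullback.snd g g = pullback.snd _ _ ≫ W₂.ι := pullback.lift_snd _ _ _
    rw [hj2, Scheme.Hom.comp_apply, hz2] at this
    exact this
  rw [← e1, ← e2]

/-- **Decomposition**: a separated étale local isomorphism over an integral scheme is a disjoint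
union of open subschemes of the base. -/
theorem exists_iso_sigma_opens {U X : Scheme.{u}} [IsIntegral X] (g : U ⟶ X) [Etale g]
    [IsSeparated g] [IsLocalIso g] :
    ∃ (ι : Type u) (V : ι → X.Opens) (e : (∐ fun i => (V i : Scheme.{u})) ≅ U),
      ∀ i, Sigma.ι (fun i => (V i : Scheme.{u})) i ≫ e.hom ≫ g = (V i).ι := by
  have hopen : IsOpenMap g := g.isOpenMap
  let ξ := genericPoint X
  let ι : Type u := {η : U // g η = ξ}
  let 𝒲 : ι → Set U.Opens := fun η => {W | η.1 ∈ W ∧ IsOpenImmersion (W.ι ≫ g)}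
  let Uo : ι → U.Opens := fun η => sSup (𝒲 η)
  have hmem : ∀ (η : ι) (u : U), u ∈ Uo η ↔ ∃ W ∈ 𝒲 η, u ∈ W := by
    intro η u
    simp only [Uo, Opens.mem_sSup]
  -- generic points in nonempty opens
  have hgen : ∀ O : U.Opens, (∃ u, u ∈ O) → ∃ w ∈ O, g w = ξ := by
    intro O ⟨u, hu⟩
    have h1 : IsOpen (g '' (O : Set U)) := hopen _ O.isOpen
    have h2 : ξ ∈ g '' (O : Set U) := by
      rw [(genericPoint_spec X).mem_open_set_iff h1]
      exact ⟨g u, ⟨trivial, ⟨u, hu, rfl⟩⟩⟩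
    obtain ⟨w, hw, hwξ⟩ := h2
    exact ⟨w, hw, hwξ⟩
  have hinjW : ∀ (W : U.Opens), IsOpenImmersion (W.ι ≫ g) → Set.InjOn g W := by
    intro W hW a ha b hb hab
    have := (W.ι ≫ g).injective (a₁ := ⟨a, ha⟩) (a₂ := ⟨b, hb⟩) (by
      simpa [Scheme.Hom.comp_apply] using hab)
    exact congrArg Subtype.val this
  have hinj : ∀ η, Set.InjOn g (Uo η) := by
    intro η a ha b hb hab
    obtain ⟨W₁, ⟨h₁, hW₁⟩, ha₁⟩ := (hmem η a).mp ha
    obtain ⟨W₂, ⟨h₂, hW₂⟩, hb₂⟩ := (hmem η b).mp hb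
    exact eq_of_apply_eq g W₁ W₂ η.1 h₁ h₂ a b ha₁ hb₂ hab
  haveI hoi : ∀ η, IsOpenImmersion ((Uo η).ι ≫ g) := fun η =>
    isOpenImmersion_of_injOn g hopen (Uo η) (hinj η)
  have hcovU : ∀ u : U, ∃ η, u ∈ Uo η := by
    intro u
    obtain ⟨W, huW, hW⟩ := IsLocalIso.exists_isOpenImmersion (f := g) u
    obtain ⟨w, hwW, hwξ⟩ := hgen W ⟨u, huW⟩
    exact ⟨⟨w, hwξ⟩, (hmem _ u).mpr ⟨W, ⟨hwW, hW⟩, huW⟩⟩
  have hdisjU : ∀ η η' : ι, ∀ u, u ∈ Uo η → u ∈ Uo η' → η = η' := by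
    intro η η' u hu hu'
    obtain ⟨W, ⟨h, hW⟩, huW⟩ := (hmem η u).mp hu
    obtain ⟨W', ⟨h', hW'⟩, huW'⟩ := (hmem η' u).mp hu'
    obtain ⟨w, hwW, hwξ⟩ := hgen (W ⊓ W') ⟨u, ⟨huW, huW'⟩⟩
    have e1 : w = η.1 := hinjW W hW hwW.1 h (hwξ.trans η.2.symm)
    have e2 : w = η'.1 := hinjW W' hW' hwW.2 h' (hwξ.trans η'.2.symm)
    exact Subtype.ext (e1.symm.trans e2)
  let V : ι → X.Opens := fun η => ((Uo η).ι ≫ g).opensRange
  let f : ∀ η : ι, ((V η : X.Opens) : Scheme.{u}) ⟶ U := fun η =>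
    ((Uo η).ι ≫ g).isoOpensRange.inv ≫ (Uo η).ι
  have hfg : ∀ η, f η ≫ g = (V η).ι := by
    intro η
    show (((Uo η).ι ≫ g).isoOpensRange.inv ≫ (Uo η).ι) ≫ g = _
    rw [Category.assoc, Iso.inv_comp_eq]
    exact (Scheme.Hom.isoOpensRange_hom_ι _).symm
  haveI : ∀ η, IsOpenImmersion (f η) := fun η => by
    show IsOpenImmersion (((Uo η).ι ≫ g).isoOpensRange.inv ≫ (Uo η).ι)
    infer_instance
  have hrange : ∀ η, (f η).opensRange = Uo η := by
    intro η
    apply Opens.ext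
    show Set.range (f η) = (Uo η : Set U)
    have : ⇑(f η) = ⇑(Uo η).ι ∘ ⇑((Uo η).ι ≫ g).isoOpensRange.inv := by
      funext x
      simp [f]
    rw [this, Set.range_comp, Set.range_eq_univ.mpr
      (ConcreteCategory.bijective_of_isIso ((Uo η).ι ≫ g).isoOpensRange.inv.base).2,
      Set.image_univ]
    exact (Uo η).range_ι
  have hcov : ⨆ η, (f η).opensRange = ⊤ := by
    rw [eq_top_iff]
    intro u _
    obtain ⟨η, hη⟩ := hcovU u
    simp only [Opens.iSup_mk, Opens.mem_mk, Set.mem_iUnion]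
    refine ⟨η, ?_⟩
    have : u ∈ (f η).opensRange := by rw [hrange]; exact hη
    exact this
  have hdisj : Pairwise (Function.onFun Disjoint (fun η => (f η).opensRange)) := by
    intro η η' hne
    change Disjoint (f η).opensRange (f η').opensRange
    rw [hrange, hrange, disjoint_iff]
    ext u
    simp only [Opens.coe_inf, Set.mem_inter_iff, SetLike.mem_coe, Opens.coe_bot,
      Set.mem_empty_iff_false, iff_false, not_and]
    intro h1 h2
    exact hne (hdisjU η η' u h1 h2)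
  obtain ⟨hc⟩ := nonempty_isColimit_cofanMk_of f hcov hdisj
  let e : (∐ fun i => (V i : Scheme.{u})) ≅ U :=
    (coproductIsCoproduct fun i => (V i : Scheme.{u})).coconePointUniqueUpToIso hc
  refine ⟨ι, V, e, fun i => ?_⟩
  have h1 : Sigma.ι (fun i => (V i : Scheme.{u})) i ≫ e.hom = f i :=
    (coproductIsCoproduct fun i => (V i : Scheme.{u})).comp_coconePointUniqueUpToIso_hom hc ⟨i⟩
  rw [← Category.assoc, h1, hfg]

end Groth.Agent.H6.EtNorm
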