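import Mathlib
import Groth.Agent.Lib.Helper5.EtSrc.Lifting
import Groth.Agent.Lib.Helper6.EtNormC

/-! Étale affine schemes over closed subschemes of a normal integral affine scheme with separably
closed function field (Stacks 09Z9). -/

set_option autoImplicit false
set_option linter.style.haveILetI false
universe u
open CategoryTheory CategoryTheory.Limits AlgebraicGeometry TopologicalSpace

namespace Groth.Agent.H6.EtNorm

/-- quotient squares are pushouts. -/
theorem isPushout_of_surjective {R B E C : CommRingCat.{u}} (a : R ⟶ B) (b : R ⟶ E) (c : B ⟶ C)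
    (ψ : E ⟶ C) (hcomm : a ≫ c = b ≫ ψ) (ha : Function.Surjective a.hom)
    (hψ : Function.Surjective ψ.hom)
    (hker : RingHom.ker ψ.hom = (RingHom.ker a.hom).map b.hom) : IsPushout a b c ψ := by
  haveI : Epi a := ConcreteCategory.epi_of_surjective a ha
  haveI : Epi ψ := ConcreteCategory.epi_of_surjective ψ hψ
  have hk : ∀ s : PushoutCocone a b, RingHom.ker ψ.hom ≤ RingHom.ker s.inr.hom := by
    intro s
    rw [hker, Ideal.map_le_iff_le_comap]
    intro r hr
    rw [Ideal.mem_comap, RingHom.mem_ker]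
    have h1 : (a ≫ s.inl).hom r = (b ≫ s.inr).hom r := by rw [s.condition]
    simp only [CommRingCat.hom_comp, RingHom.comp_apply] at h1
    rw [← h1, (RingHom.mem_ker).mp hr, map_zero]
  let desc : ∀ s : PushoutCocone a b, C ⟶ s.pt := fun s =>
    CommRingCat.ofHom (RingHom.liftOfSurjective ψ.hom hψ ⟨s.inr.hom, hk s⟩)
  have hfac : ∀ s : PushoutCocone a b, ψ ≫ desc s = s.inr := by
    intro s
    ext x
    simp [desc, RingHom.liftOfRightInverse_comp_apply]
  refine ⟨⟨hcomm⟩, ⟨PushoutCocone.IsColimit.mk _ desc (fun s => ?_) hfac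
    (fun s m h1 h2 => ?_)⟩⟩
  · rw [← cancel_epi a, ← Category.assoc, hcomm, Category.assoc, hfac, s.condition]
  · rw [← cancel_epi ψ, h2, hfac]

/-- **S0624**: étale affine schemes over a closed subscheme of an affine normal integral scheme
with separably closed function field split as finite disjoint unions of opens. -/
theorem exists_iso_sigma_opens_of_closed {V Z X : Scheme.{u}} [IsAffine X] [IsIntegral X]
    (hN : ∀ x : X, IsIntegrallyClosed (X.presheaf.stalk x)) [IsSepClosed X.functionField]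
    (i : Z ⟶ X) [IsClosedImmersion i] (φ : V ⟶ Z) [Etale φ] [IsAffine V] :
    ∃ (ι : Type u) (_ : Finite ι) (W : ι → Z.Opens) (e : (∐ fun k => (W k : Scheme.{u})) ≅ V),
      ∀ k, Sigma.ι (fun k => (W k : Scheme.{u})) k ≫ e.hom ≫ φ = (W k).ι := by
  haveI hZ : IsAffine Z := isAffine_of_isAffineHom i
  have ha : Function.Surjective i.appTop.hom :=
    (IsClosedImmersion.isAffine_surjective_of_isAffine i).2
  letI algRB : Algebra Γ(X, ⊤) Γ(Z, ⊤) := i.appTop.hom.toAlgebra
  letI algBC : Algebra Γ(Z, ⊤) Γ(V, ⊤) := φ.appTop.hom.toAlgebra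
  letI algRC : Algebra Γ(X, ⊤) Γ(V, ⊤) := (i.appTop ≫ φ.appTop).hom.toAlgebra
  haveI : IsScalarTower Γ(X, ⊤) Γ(Z, ⊤) Γ(V, ⊤) := IsScalarTower.of_algebraMap_eq' rfl
  haveI : Algebra.Etale Γ(Z, ⊤) Γ(V, ⊤) :=
    (HasRingHomProperty.iff_of_isAffine (P := @Etale)).mp ‹Etale φ›
  obtain ⟨E, _, _, _, ψ, hψs, hψk⟩ :=
    Groth.Agent.H5.EtSrc.exists_etale_lift (R := Γ(X, ⊤)) (B := Γ(Z, ⊤)) (C := Γ(V, ⊤)) ha
  let b : Γ(X, ⊤) ⟶ CommRingCat.of E := CommRingCat.ofHom (algebraMap Γ(X, ⊤) E)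
  let ψ' : CommRingCat.of E ⟶ Γ(V, ⊤) := CommRingCat.ofHom ψ.toRingHom
  have hcomm : i.appTop ≫ φ.appTop = b ≫ ψ' := by
    ext r
    exact (ψ.commutes r).symm
  have hpo : IsPushout i.appTop b φ.appTop ψ' :=
    isPushout_of_surjective _ _ _ _ hcomm ha hψs hψk
  have hpb0 := isPullback_SpecMap_of_isPushout _ _ _ _ hpo
  let g : Spec (CommRingCat.of E) ⟶ X := Spec.map b ≫ X.isoSpec.inv
  let h : V ⟶ Spec (CommRingCat.of E) := V.isoSpec.hom ≫ Spec.map ψ'
  have hpb : IsPullback φ h i g := by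
    refine IsPullback.of_iso hpb0 V.isoSpec.symm Z.isoSpec.symm (Iso.refl _) X.isoSpec.symm
      ?_ ?_ ?_ ?_
    · exact Scheme.isoSpec_inv_naturality φ
    · simp [h]
    · exact Scheme.isoSpec_inv_naturality i
    · simp [g]
  haveI : Etale (Spec.map b) := by
    rw [HasRingHomProperty.Spec_iff (P := @Etale)]
    exact RingHom.etale_algebraMap.mpr inferInstance
  haveI : Etale g := inferInstance
  haveI : IsSeparated g := inferInstance
  haveI : IsClosedImmersion h := by
    haveI : IsClosedImmersion (Spec.map ψ') := IsClosedImmersion.spec_of_surjective ψ' hψs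
    infer_instance
  haveI := isLocalIso_of_etale hN g
  obtain ⟨ι₀, V₀, e₀, he₀⟩ := exists_iso_sigma_opens g
  let s : ∀ k : ι₀, ((V₀ k : X.Opens) : Scheme.{u}) ⟶ Spec (CommRingCat.of E) := fun k =>
    Sigma.ι (fun k => (V₀ k : Scheme.{u})) k ≫ e₀.hom
  have hs : ∀ k, s k ≫ g = (V₀ k).ι := fun k => by
    rw [← he₀ k, Category.assoc]
  let W₀ : ι₀ → Z.Opens := fun k => i ⁻¹ᵁ V₀ k
  let f : ∀ k : ι₀, ((W₀ k : Z.Opens) : Scheme.{u}) ⟶ V := fun k =>
    hpb.lift (W₀ k).ι ((i ∣_ V₀ k) ≫ s k) (by rw [Category.assoc, hs, morphismRestrict_ι])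
  have hfφ : ∀ k, f k ≫ φ = (W₀ k).ι := fun k => hpb.lift_fst _ _ _
  have hfh : ∀ k, f k ≫ h = (i ∣_ V₀ k) ≫ s k := fun k => hpb.lift_snd _ _ _
  haveI hfo : ∀ k, IsOpenImmersion (f k) := fun k => by
    haveI : Etale (f k) := MorphismProperty.of_postcomp (W := @Etale) (W' := @Etale) (f k) φ
      inferInstance (by rw [hfφ]; infer_instance)
    haveI : Mono (f k) := by
      haveI : Mono (f k ≫ φ) := by rw [hfφ]; infer_instance
      exact mono_of_mono (f k) φ
    exact IsOpenImmersion.of_flat_of_mono (f k)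
  -- ranges
  have hrange : ∀ (k : ι₀) (v : V), v ∈ Set.range (f k) ↔ h v ∈ Set.range (s k) := by
    intro k v
    constructor
    · rintro ⟨w, rfl⟩
      refine ⟨(i ∣_ V₀ k) w, ?_⟩
      rw [← Scheme.Hom.comp_apply, ← hfh, Scheme.Hom.comp_apply]
    · rintro ⟨y, hy⟩
      have h1 : i (φ v) = (V₀ k).ι y := by
        rw [← Scheme.Hom.comp_apply, hpb.w, Scheme.Hom.comp_apply, ← hy, ← Scheme.Hom.comp_apply,
          hs]
      have hmem : φ v ∈ W₀ k := by
        show i (φ v) ∈ V₀ k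
        rw [h1]
        exact y.2
      refine ⟨⟨φ v, hmem⟩, ?_⟩
      apply h.isClosedEmbedding.injective
      rw [← Scheme.Hom.comp_apply, hfh, Scheme.Hom.comp_apply, ← hy]
      congr 1
      apply (V₀ k).ι.injective
      rw [← Scheme.Hom.comp_apply, morphismRestrict_ι, Scheme.Hom.comp_apply, ← h1]
      rfl
  have hsdisj : ∀ k k' : ι₀, ∀ x, x ∈ Set.range (s k) → x ∈ Set.range (s k') → k = k' := by
    intro k k' x ⟨y, hy⟩ ⟨y', hy'⟩
    by_contra hne
    have h1 : Sigma.ι (fun k => (V₀ k : Scheme.{u})) k y =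
        Sigma.ι (fun k => (V₀ k : Scheme.{u})) k' y' := by
      apply e₀.hom.isOpenEmbedding.injective
      rw [← Scheme.Hom.comp_apply, ← Scheme.Hom.comp_apply]
      exact hy.trans hy'.symm
    have h2 := (sigmaι_eq_iff (fun k => (V₀ k : Scheme.{u})) k k' y y').mp h1
    exact hne (congrArg Sigma.fst h2)
  have hscov : ∀ x : Spec (CommRingCat.of E), ∃ k, x ∈ Set.range (s k) := by
    intro x
    obtain ⟨k, y, hy⟩ := (sigmaOpenCover (fun k => (V₀ k : Scheme.{u}))).exists_eq (e₀.inv x)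
    refine ⟨k, y, ?_⟩
    show (Sigma.ι (fun k => (V₀ k : Scheme.{u})) k ≫ e₀.hom) y = x
    rw [Scheme.Hom.comp_apply]
    have : Sigma.ι (fun k => (V₀ k : Scheme.{u})) k y = e₀.inv x := hy
    rw [this, ← Scheme.Hom.comp_apply, Iso.inv_hom_id]
    rfl
  have hfdisj : ∀ k k' : ι₀, ∀ v, v ∈ Set.range (f k) → v ∈ Set.range (f k') → k = k' :=
    fun k k' v hv hv' => hsdisj k k' (h v) ((hrange k v).mp hv) ((hrange k' v).mp hv')
  have hfcov : ∀ v : V, ∃ k, v ∈ Set.range (f k) := fun v => by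
    obtain ⟨k, hk⟩ := hscov (h v)
    exact ⟨k, (hrange k v).mpr hk⟩
  -- finiteness
  let ι : Type u := {k : ι₀ // Nonempty (W₀ k)}
  have hfin : Finite ι := by
    have hcov' : (Set.univ : Set V) ⊆ ⋃ k : ι₀, Set.range (f k) := by
      intro v _
      obtain ⟨k, hk⟩ := hfcov v
      exact Set.mem_iUnion.mpr ⟨k, hk⟩
    obtain ⟨t, ht⟩ := isCompact_univ.elim_finite_subcover (fun k : ι₀ => Set.range (f k))
      (fun k => (f k).isOpenEmbedding.isOpen_range) hcov'
    have hsub : ∀ k : ι, k.1 ∈ t := by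
      rintro ⟨k, ⟨w⟩⟩
      have := ht (Set.mem_univ (f k w))
      simp only [Set.mem_iUnion] at this
      obtain ⟨k', hk't, hk'⟩ := this
      have : k = k' := hfdisj k k' (f k w) ⟨w, rfl⟩ hk'
      show k ∈ t
      rw [this]
      exact hk't
    exact Finite.of_injective (fun k : ι => (⟨k.1, hsub k⟩ : t)) (fun a b hab => by
      apply Subtype.ext
      exact congrArg (fun z : t => z.1) hab)
  let W : ι → Z.Opens := fun k => W₀ k.1
  let f' : ∀ k : ι, ((W k : Z.Opens) : Scheme.{u}) ⟶ V := fun k => f k.1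
  haveI : ∀ k, IsOpenImmersion (f' k) := fun k => hfo k.1
  have hcov : ⨆ k, (f' k).opensRange = ⊤ := by
    rw [eq_top_iff]
    intro v _
    obtain ⟨k, w, hw⟩ := hfcov v
    simp only [Opens.iSup_mk, Opens.mem_mk, Set.mem_iUnion]
    exact ⟨⟨k, ⟨w⟩⟩, w, hw⟩
  have hdisj : Pairwise (Function.onFun Disjoint (fun k => (f' k).opensRange)) := by
    intro k k' hne
    change Disjoint (f' k).opensRange (f' k').opensRange
    rw [disjoint_iff]
    ext v
    simp only [Opens.coe_inf, Set.mem_inter_iff, SetLike.mem_coe, Opens.coe_bot,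
      Set.mem_empty_iff_false, iff_false, not_and]
    intro h1 h2
    exact hne (Subtype.ext (hfdisj k.1 k'.1 v h1 h2))
  obtain ⟨hc⟩ := nonempty_isColimit_cofanMk_of f' hcov hdisj
  let e : (∐ fun k => (W k : Scheme.{u})) ≅ V :=
    (coproductIsCoproduct fun k => (W k : Scheme.{u})).coconePointUniqueUpToIso hc
  refine ⟨ι, hfin, W, e, fun k => ?_⟩
  have h1 : Sigma.ι (fun k => (W k : Scheme.{u})) k ≫ e.hom = f' k :=
    (coproductIsCoproduct fun k => (W k : Scheme.{u})).comp_coconePointUniqueUpToIso_hom hc ⟨k⟩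
  rw [← Category.assoc, h1]
  exact hfφ k.1

end Groth.Agent.H6.EtNorm
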