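import Mathlib
import Groth.Agent.Lib.Helper6.EtNormD

/-! Surjective finite étale covers of closed subschemes of an affine normal integral scheme with
separably closed function field have sections. -/

set_option autoImplicit false
set_option linter.style.haveILetI false
universe u
open CategoryTheory CategoryTheory.Limits AlgebraicGeometry TopologicalSpace

namespace Groth.Agent.H6.EtNorm

/-- a closed surjective morphism which splits as a finite union of opens of the base has a
section. -/
theorem exists_section_of_sigma_opens {V Z : Scheme.{u}} (φ : V ⟶ Z) (hcl : IsClosedMap φ)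
    [Surjective φ] (ι : Type u) [Finite ι] (W : ι → Z.Opens)
    (e : (∐ fun k => (W k : Scheme.{u})) ≅ V)
    (he : ∀ k, Sigma.ι (fun k => (W k : Scheme.{u})) k ≫ e.hom ≫ φ = (W k).ι) :
    ∃ s : Z ⟶ V, s ≫ φ = 𝟙 Z := by
  classical
  let σ : ∀ k, ((W k : Z.Opens) : Scheme.{u}) ⟶ V := fun k =>
    Sigma.ι (fun k => (W k : Scheme.{u})) k ≫ e.hom
  have hσ : ∀ k, σ k ≫ φ = (W k).ι := fun k => by rw [← he k, Category.assoc]
  -- the `W k` are closed
  have hWcl : ∀ k, IsClosed (W k : Set Z) := by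
    intro k
    have h1 : IsClosed (Set.range (Sigma.ι (fun k => (W k : Scheme.{u})) k)) := by
      have hcompl : (Set.range (Sigma.ι (fun k => (W k : Scheme.{u})) k))ᶜ =
          ⋃ k' : {k' : ι // k' ≠ k}, Set.range (Sigma.ι (fun k => (W k : Scheme.{u})) k'.1) := by
        ext x
        simp only [Set.mem_compl_iff, Set.mem_iUnion]
        constructor
        · intro hx
          obtain ⟨k', y, hy⟩ := (sigmaOpenCover (fun k => (W k : Scheme.{u}))).exists_eq x
          refine ⟨⟨k', ?_⟩, y, hy⟩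
          rintro rfl
          exact hx ⟨y, hy⟩
        · rintro ⟨⟨k', hk'⟩, y', hy'⟩ ⟨y, hy⟩
          have h2 := (sigmaι_eq_iff (fun k => (W k : Scheme.{u})) k k' y y').mp (hy.trans hy'.symm)
          exact hk' (congrArg Sigma.fst h2).symm
      rw [← isOpen_compl_iff, hcompl]
      exact isOpen_iUnion fun k' => (Sigma.ι (fun k => (W k : Scheme.{u})) k'.1).isOpenEmbedding.isOpen_range
    have h2 : IsClosed (Set.range (σ k)) := by
      have : Set.range (σ k) = e.hom '' Set.range (Sigma.ι (fun k => (W k : Scheme.{u})) k) := by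
        rw [← Set.range_comp]
        congr 1
      rw [this]
      exact (Scheme.homeoOfIso e).isClosedMap _ h1
    have h3 : (W k : Set Z) = φ '' Set.range (σ k) := by
      rw [← Set.range_comp]
      have : ⇑φ ∘ ⇑(σ k) = ⇑(W k).ι := by
        funext x
        rw [← hσ k]
        simp
      rw [this, (W k).range_ι]
    rw [h3]
    exact hcl _ h2
  have hWcov : ∀ z : Z, ∃ k, z ∈ W k := by
    intro z
    obtain ⟨v, rfl⟩ := φ.surjective z
    obtain ⟨k, y, hy⟩ := (sigmaOpenCover (fun k => (W k : Scheme.{u}))).exists_eq (e.inv v)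
    refine ⟨k, ?_⟩
    have h1 : σ k y = v := by
      show (Sigma.ι (fun k => (W k : Scheme.{u})) k ≫ e.hom) y = v
      rw [Scheme.Hom.comp_apply]
      have : Sigma.ι (fun k => (W k : Scheme.{u})) k y = e.inv v := hy
      rw [this, ← Scheme.Hom.comp_apply, Iso.inv_hom_id]
      rfl
    rw [← h1, ← Scheme.Hom.comp_apply, hσ]
    exact y.2
  -- disjointify
  obtain ⟨n, ⟨en⟩⟩ := Finite.exists_equiv_fin ι
  let T : ι → Set Z := fun k => (W k : Set Z) ∩ ⋂ k' : ι, if en k' < en k then (W k' : Set Z)ᶜ else Set.univ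
  have hTo : ∀ k, IsOpen (T k) := by
    intro k
    refine (W k).isOpen.inter (isOpen_iInter_of_finite fun k' => ?_)
    split_ifs
    · exact (hWcl k').isOpen_compl
    · exact isOpen_univ
  let W' : ι → Z.Opens := fun k => ⟨T k, hTo k⟩
  have hle : ∀ k, W' k ≤ W k := fun k z hz => hz.1
  have hT : ∀ k z, z ∈ W' k ↔ z ∈ W k ∧ ∀ k', en k' < en k → z ∉ W k' := by
    intro k z
    show z ∈ T k ↔ _
    simp only [T, Set.mem_inter_iff, SetLike.mem_coe, Set.mem_iInter]
    refine and_congr_right fun _ => forall_congr' fun k' => ?_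
    split_ifs with hlt
    · simp [hlt]
    · simp [hlt]
  have hcov : ⨆ k, ((W' k).ι).opensRange = ⊤ := by
    rw [eq_top_iff]
    intro z _
    have hne : {k | z ∈ W k}.Nonempty := hWcov z
    obtain ⟨k, hk, hmin⟩ := Set.exists_min_image {k | z ∈ W k} (fun k => en k)
      (Set.toFinite _) hne
    simp only [Opens.iSup_mk, Opens.mem_mk, Set.mem_iUnion]
    refine ⟨k, ?_⟩
    rw [Scheme.Opens.opensRange_ι]
    exact (hT k z).mpr ⟨hk, fun k' hlt hz' => absurd (hmin k' hz') (not_le.mpr hlt)⟩
  have hdisj : Pairwise (Function.onFun Disjoint (fun k => ((W' k).ι).opensRange)) := by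
    intro k k' hne
    change Disjoint ((W' k).ι).opensRange ((W' k').ι).opensRange
    rw [Scheme.Opens.opensRange_ι, Scheme.Opens.opensRange_ι, disjoint_iff]
    ext z
    simp only [Opens.coe_inf, Set.mem_inter_iff, SetLike.mem_coe, Opens.coe_bot,
      Set.mem_empty_iff_false, iff_false, not_and]
    intro h1 h2
    have h1' := (hT k z).mp h1
    have h2' := (hT k' z).mp h2
    have hne' : en k ≠ en k' := fun h => hne (en.injective h)
    rcases lt_or_gt_of_ne hne' with hlt | hlt
    · exact h2'.2 k hlt h1'.1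
    · exact h1'.2 k' hlt h2'.1
  obtain ⟨hc⟩ := nonempty_isColimit_cofanMk_of (fun k => (W' k).ι) hcov hdisj
  let s : Z ⟶ V := Cofan.IsColimit.desc hc (fun k => Z.homOfLE (hle k) ≫ σ k)
  refine ⟨s, ?_⟩
  apply Cofan.IsColimit.hom_ext hc
  intro k
  have h1 : (W' k).ι ≫ s = Z.homOfLE (hle k) ≫ σ k :=
    Cofan.IsColimit.fac hc (fun k => Z.homOfLE (hle k) ≫ σ k) k
  show (W' k).ι ≫ s ≫ φ = (W' k).ι ≫ 𝟙 Z
  rw [← Category.assoc, h1, Category.assoc, hσ, Scheme.homOfLE_ι, Category.comp_id]

/-- **S0625**. -/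
theorem exists_section_of_closed {V Z X : Scheme.{u}} [IsAffine X] [IsIntegral X]
    (hN : ∀ x : X, IsIntegrallyClosed (X.presheaf.stalk x)) [IsSepClosed X.functionField]
    (i : Z ⟶ X) [IsClosedImmersion i] (φ : V ⟶ Z) [Etale φ] [IsFinite φ] [Surjective φ] :
    ∃ s : Z ⟶ V, s ≫ φ = 𝟙 Z := by
  haveI hZ : IsAffine Z := isAffine_of_isAffineHom i
  haveI hV : IsAffine V := isAffine_of_isAffineHom φ
  obtain ⟨ι, hfin, W, e, he⟩ := exists_iso_sigma_opens_of_closed hN i φ
  exact exists_section_of_sigma_opens φ φ.isClosedMap ι W e he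

end Groth.Agent.H6.EtNorm
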