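import Mathlib

set_option autoImplicit false

namespace Groth.Agent.H6.HC

open Set

variable {Y₀ Y Z Z₀ : Type*} [TopologicalSpace Y₀] [TopologicalSpace Y] [TopologicalSpace Z]
  [TopologicalSpace Z₀]

/-- clopen sets are saturated for closed surjections with preconnected fibres -/
theorem clopen_saturated {q : Y → Z} (hfib : ∀ z, IsPreconnected (q ⁻¹' {z})) {U : Set Y}
    (hU : IsClopen U) : q ⁻¹' (q '' U) = U := by
  refine Subset.antisymm ?_ (subset_preimage_image q U)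
  rintro y ⟨u, hu, huy⟩
  have hsub : q ⁻¹' {q u} ⊆ U :=
    (hfib (q u)).subset_isClopen hU ⟨u, rfl, hu⟩
  exact hsub (show q y = q u from huy.symm)

theorem isClopen_image {q : Y → Z} (hq : IsClosedMap q) (hqs : Function.Surjective q)
    (hfib : ∀ z, IsPreconnected (q ⁻¹' {z})) {U : Set Y} (hU : IsClopen U) :
    IsClopen (q '' U) := by
  refine ⟨hq _ hU.1, ?_⟩
  have hc : (q '' U)ᶜ = q '' Uᶜ := by
    ext z
    constructor
    · intro hz
      obtain ⟨y, rfl⟩ := hqs z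
      exact ⟨y, fun hy => hz ⟨y, hy, rfl⟩, rfl⟩
    · rintro ⟨y, hy, rfl⟩ hz
      have : y ∈ q ⁻¹' (q '' U) := hz
      rw [clopen_saturated hfib hU] at this
      exact hy this
  rw [← isClosed_compl_iff, hc]
  exact hq _ hU.compl.1

/-- the key topological lemma -/
theorem couple_of_factor (j : Y₀ → Y) (hj : Topology.IsClosedEmbedding j) (q : Y → Z)
    (hqc : Continuous q) (hq : IsClosedMap q) (hqs : Function.Surjective q)
    (hfib : ∀ z, IsPreconnected (q ⁻¹' {z})) (i : Z₀ → Z) (hi : Continuous i)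
    (hr : range j = q ⁻¹' range i)
    (H : ∀ W₀ : Set Z₀, IsClopen W₀ → ∃! W : Set Z, IsClopen W ∧ i ⁻¹' W = W₀)
    (V : Set Y₀) (hV : IsClopen V) : ∃! U : Set Y, IsClopen U ∧ j ⁻¹' U = V := by
  have hjinj : Function.Injective j := hj.injective
  have hclV : IsClosed (j '' V) := hj.isClosedMap _ hV.1
  have hclVc : IsClosed (j '' Vᶜ) := hj.isClosedMap _ hV.compl.1
  -- saturation
  have hsat : ∀ y ∈ j '' V, ∀ y', q y' = q y → y' ∈ j '' V := by
    rintro y hy y' hyy'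
    have hyr : y ∈ range j := image_subset_range j V hy
    have hFsub : q ⁻¹' {q y} ⊆ j '' V ∪ j '' Vᶜ := by
      intro t ht
      have ht' : t ∈ range j := by
        rw [hr] at hyr ⊢
        change q t ∈ range i
        rw [show q t = q y from ht]
        exact hyr
      obtain ⟨t₀, rfl⟩ := ht'
      by_cases h : t₀ ∈ V
      · exact Or.inl ⟨t₀, h, rfl⟩
      · exact Or.inr ⟨t₀, h, rfl⟩
    by_contra hy'
    have hy'c : y' ∈ j '' Vᶜ := by
      rcases hFsub (show y' ∈ q ⁻¹' {q y} from hyy') with h | h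
      · exact absurd h hy'
      · exact h
    obtain ⟨t, _, ⟨a, ha, rfl⟩, ⟨b, hb, hab⟩⟩ :=
      isPreconnected_closed_iff.mp (hfib (q y)) _ _ hclV hclVc hFsub ⟨y, rfl, hy⟩
        ⟨y', hyy', hy'c⟩
    exact hb (hjinj hab ▸ ha)
  -- the clopen subset of Z₀
  have hW₀ : IsClopen (i ⁻¹' (q '' (j '' V))) := by
    refine ⟨(hq _ hclV).preimage hi, ?_⟩
    have hc : (i ⁻¹' (q '' (j '' V)))ᶜ = i ⁻¹' (q '' (j '' Vᶜ)) := by
      ext z₀
      constructor
      · intro hz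
        obtain ⟨y, hy⟩ := hqs (i z₀)
        have hyr : y ∈ range j := by
          rw [hr]; exact ⟨z₀, hy.symm⟩
        obtain ⟨y₀, rfl⟩ := hyr
        refine ⟨j y₀, ⟨y₀, fun h => hz ⟨j y₀, ⟨y₀, h, rfl⟩, hy⟩, rfl⟩, hy⟩
      · rintro ⟨y, ⟨b, hb, rfl⟩, hy⟩ ⟨y', hy', hy''⟩
        have := hsat y' hy' (j b) (hy.trans hy''.symm)
        obtain ⟨a, ha, hab⟩ := this
        exact hb (hjinj hab ▸ ha)
    rw [← isClosed_compl_iff, hc]
    exact (hq _ hclVc).preimage hi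
  obtain ⟨W, ⟨hWcl, hWeq⟩, hWuniq⟩ := H _ hW₀
  have key : ∀ y₀ : Y₀, q (j y₀) ∈ q '' (j '' V) ↔ y₀ ∈ V := by
    intro y₀
    constructor
    · rintro ⟨y, hy, hyq⟩
      obtain ⟨a, ha, hab⟩ := hsat y hy (j y₀) hyq.symm
      exact hjinj hab ▸ ha
    · intro h
      exact ⟨j y₀, ⟨y₀, h, rfl⟩, rfl⟩
  have hrange : ∀ y₀ : Y₀, ∃ z₀, i z₀ = q (j y₀) := by
    intro y₀
    have : j y₀ ∈ q ⁻¹' range i := hr ▸ mem_range_self y₀
    exact this
  refine ⟨q ⁻¹' W, ⟨hWcl.preimage hqc, ?_⟩, ?_⟩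
  · ext y₀
    obtain ⟨z₀, hz₀⟩ := hrange y₀
    change q (j y₀) ∈ W ↔ _
    rw [← hz₀]
    have : z₀ ∈ i ⁻¹' W ↔ z₀ ∈ i ⁻¹' (q '' (j '' V)) := by rw [hWeq]
    change i z₀ ∈ W ↔ i z₀ ∈ q '' (j '' V) at this
    rw [this, hz₀, key]
  · rintro U' ⟨hU'cl, hU'eq⟩
    have hsatU' := clopen_saturated hfib hU'cl
    have hW' : IsClopen (q '' U') := isClopen_image hq hqs hfib hU'cl
    have hW'eq : i ⁻¹' (q '' U') = i ⁻¹' (q '' (j '' V)) := by
      ext z₀
      constructor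
      · rintro ⟨u, hu, huz⟩
        have hur : u ∈ range j := by
          rw [hr]; exact ⟨z₀, huz.symm⟩
        obtain ⟨y₀, rfl⟩ := hur
        have : y₀ ∈ V := by rw [← hU'eq]; exact hu
        exact ⟨j y₀, ⟨y₀, this, rfl⟩, huz⟩
      · rintro ⟨y, ⟨v, hv, rfl⟩, hy⟩
        have : v ∈ j ⁻¹' U' := by rw [hU'eq]; exact hv
        exact ⟨j v, this, hy⟩
    have := hWuniq (q '' U') ⟨hW', hW'eq⟩
    rw [← this, hsatU']

end Groth.Agent.H6.HC
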