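import Mathlib
import Groth.Agent.S0002
import Groth.Agent.S0003
import Groth.Agent.S17971
import Groth.Agent.Lib.Lead.Stein.Factor
import Groth.Agent.Lib.Helper6.HC1

set_option autoImplicit false
universe u
open CategoryTheory CategoryTheory.Limits AlgebraicGeometry

namespace Groth.Agent.H6.HC

theorem finCoh : Groth.Agent.LD.RS.FinCoh.{u} :=
  fun A _ _ Y _ _ N hN n => Groth.Agent.S0002.result A Y N hN n

theorem formalBij : Groth.Agent.LD.PS.FormalBijHyp.{u} :=
  fun A _ _ I _ X _ _ M hM p => Groth.Agent.S0003.result A I X M hM p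

/-- general form -/
theorem couple_of_proper (A : Type u) [CommRing A] [IsNoetherianRing A] (I : Ideal A)
    [HenselianRing A I] {Y : Scheme.{u}} (h : Y ⟶ Spec (CommRingCat.of A)) [IsProper h]
    {Y₀ : Scheme.{u}} (j : Y₀ ⟶ Y) [IsClosedImmersion j]
    (hrange : Set.range j.base =
      h.base ⁻¹' Set.range (Spec.map (CommRingCat.ofHom (Ideal.Quotient.mk I))).base)
    (V : Set Y₀) (hV : IsClopen V) : ∃! U : Set Y, IsClopen U ∧ j.base ⁻¹' U = V := by
  have hfin := finCoh.{u}
  have hF := formalBij.{u}
  have hfinite : IsFinite h.fromNormalization :=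
    Groth.Agent.LD.Stein.isFinite_fromNormalization h hfin
  let π := Spec.map (CommRingCat.ofHom (Ideal.Quotient.mk I))
  refine couple_of_factor j.base j.isClosedEmbedding h.toNormalization.base
    h.toNormalization.continuous h.toNormalization.isClosedMap
    (Groth.Agent.LD.Stein.surjective_toNormalization h hfin hF)
    (fun z => (Groth.Agent.LD.Stein.isConnected_preimage_toNormalization h hfin hF z).isPreconnected)
    (pullback.fst h.fromNormalization π).base (pullback.fst h.fromNormalization π).continuous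
    ?_ ?_ V hV
  · rw [hrange, Scheme.Pullback.range_fst, ← Set.preimage_comp]
    congr 1
    funext y
    have e := h.toNormalization_fromNormalization
    calc h.base y = (h.toNormalization ≫ h.fromNormalization).base y := by rw [e]
      _ = _ := rfl
  · exact (Groth.Agent.S17971.result A I).mp inferInstance h.normalization h.fromNormalization
      hfinite

theorem s17961 (A : Type u) [CommRing A] [IsNoetherianRing A] (I : Ideal A) [HenselianRing A I]
    {X : Scheme.{u}} (f : X ⟶ Spec (CommRingCat.of A)) [IsProper f] :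
    ∀ (Y : Scheme.{u}) (g : Y ⟶ X), IsFinite g →
      ∀ V : Set ↥(pullback g (pullback.fst f (Spec.map (CommRingCat.ofHom (Ideal.Quotient.mk I))))),
        IsClopen V →
        ∃! U : Set ↥Y, IsClopen U ∧ (pullback.fst g (pullback.fst f
          (Spec.map (CommRingCat.ofHom (Ideal.Quotient.mk I))))).base ⁻¹' U = V := by
  intro Y g hg V hV
  have : IsClosedImmersion (Spec.map (CommRingCat.ofHom (Ideal.Quotient.mk I))) :=
    IsClosedImmersion.spec_of_surjective _ Ideal.Quotient.mk_surjective
  refine couple_of_proper A I (g ≫ f) _ ?_ V hV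
  rw [Scheme.Pullback.range_fst, Scheme.Pullback.range_fst, ← Set.preimage_comp]
  rfl

end Groth.Agent.H6.HC

namespace Groth.Agent.H6.HC

open PrimeSpectrum in
lemma range_spec_mk {B : Type u} [CommRing B] (J : Ideal B) :
    Set.range (Spec.map (CommRingCat.ofHom (Ideal.Quotient.mk J))).base = zeroLocus (J : Set B) := by
  have h := range_comap_of_surjective (B ⧸ J) (Ideal.Quotient.mk J) Ideal.Quotient.mk_surjective
  rw [Ideal.mk_ker] at h
  exact h

theorem s17960 (A : Type u) [CommRing A] [IsNoetherianRing A] (I : Ideal A) {X : Scheme.{u}}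
    (f : X ⟶ Spec (CommRingCat.of A)) [IsProper f]
    (h : HenselianRing (Γ(X, ⊤) : Type u)
      (RingHom.ker (pullback.fst f
        (Spec.map (CommRingCat.ofHom (Ideal.Quotient.mk I)))).appTop.hom)) :
    ∀ (Y : Scheme.{u}) (g : Y ⟶ X), IsFinite g →
      ∀ V : Set ↥(pullback g (pullback.fst f (Spec.map (CommRingCat.ofHom (Ideal.Quotient.mk I))))),
        IsClopen V →
        ∃! U : Set ↥Y, IsClopen U ∧ (pullback.fst g (pullback.fst f
          (Spec.map (CommRingCat.ofHom (Ideal.Quotient.mk I))))).base ⁻¹' U = V := by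
  intro Y g hg V hV
  have hcl : IsClosedImmersion (Spec.map (CommRingCat.ofHom (Ideal.Quotient.mk I))) :=
    IsClosedImmersion.spec_of_surjective _ Ideal.Quotient.mk_surjective
  let π := Spec.map (CommRingCat.ofHom (Ideal.Quotient.mk I))
  have hπ : π = Spec.map (CommRingCat.ofHom (Ideal.Quotient.mk I)) := rfl
  let iX := pullback.fst f π
  have hiX : iX = pullback.fst f π := rfl
  let J := RingHom.ker iX.appTop.hom
  have hJ : J = RingHom.ker iX.appTop.hom := rfl
  -- the factorization f = f' ≫ Spec.map ψ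
  let ψ : CommRingCat.of A ⟶ Γ(X, ⊤) := (Scheme.ΓSpecIso (CommRingCat.of A)).inv ≫ f.appTop
  have hfac : f = X.toSpecΓ ≫ Spec.map ψ := by
    rw [Spec.map_comp, ← Category.assoc, ← Scheme.toSpecΓ_naturality, Category.assoc,
      toSpecΓ_SpecMap_ΓSpecIso_inv, Category.comp_id]
  have hprop : IsProper (X.toSpecΓ ≫ Spec.map ψ) := by rw [← hfac]; infer_instance
  have hprop' : IsProper X.toSpecΓ := IsProper.of_comp X.toSpecΓ (Spec.map ψ)
  -- B is noetherian
  have hfinB : ψ.hom.Finite := by
    have h1 := Groth.Agent.LD.Stein.finite_app_of_isProper f finCoh.{u} ⊤ (isAffineOpen_top _)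
    have h2 : (Scheme.ΓSpecIso (CommRingCat.of A)).inv.hom.Finite :=
      RingHom.Finite.of_surjective _
        (ConcreteCategory.bijective_of_isIso (Scheme.ΓSpecIso (CommRingCat.of A)).inv).2
    exact RingHom.Finite.comp h1 h2
  have hNB : IsNoetherianRing (Γ(X, ⊤) : Type u) := by
    let _ := ψ.hom.toAlgebra
    have : Module.Finite A Γ(X, ⊤) := hfinB
    exact IsNoetherianRing.of_finite A Γ(X, ⊤)
  -- key ideal facts
  have hψI : ∀ a ∈ I, ψ.hom a ∈ J := by
    intro a ha
    rw [hJ, RingHom.mem_ker]
    have hcond : iX ≫ f = pullback.snd f π ≫ π := pullback.condition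
    have e1 : f.appTop ≫ iX.appTop = π.appTop ≫ (pullback.snd f π).appTop := by
      rw [← Scheme.Hom.comp_appTop, ← Scheme.Hom.comp_appTop, hcond]
    have e2 : ψ ≫ iX.appTop = CommRingCat.ofHom (Ideal.Quotient.mk I) ≫
        (Scheme.ΓSpecIso _).inv ≫ (pullback.snd f π).appTop := by
      change ((Scheme.ΓSpecIso (CommRingCat.of A)).inv ≫ f.appTop) ≫ iX.appTop = _
      rw [Category.assoc, e1, ← Category.assoc, ← Scheme.ΓSpecIso_inv_naturality, Category.assoc]
    have e3 := congrArg (fun φ => φ.hom a) e2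
    simp only [CommRingCat.hom_comp, RingHom.coe_comp, Function.comp_apply,
      CommRingCat.hom_ofHom] at e3
    rw [e3, Ideal.Quotient.eq_zero_iff_mem.mpr ha, map_zero, map_zero]
  have hrX : Set.range iX.base = X.toSpecΓ.base ⁻¹'
      Set.range (Spec.map (CommRingCat.ofHom (Ideal.Quotient.mk J))).base := by
    rw [range_spec_mk, hiX, Scheme.Pullback.range_fst, hπ, range_spec_mk]
    ext x
    let p : PrimeSpectrum A := f.base x
    let p' : PrimeSpectrum Γ(X, ⊤) := X.toSpecΓ.base x
    show p ∈ PrimeSpectrum.zeroLocus (I : Set A) ↔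
      p' ∈ PrimeSpectrum.zeroLocus (J : Set Γ(X, ⊤))
    rw [PrimeSpectrum.mem_zeroLocus, PrimeSpectrum.mem_zeroLocus, SetLike.coe_subset_coe,
      SetLike.coe_subset_coe]
    show I ≤ (f.base x).asIdeal ↔ J ≤ (X.toSpecΓ.base x).asIdeal
    have hfx : (f.base x).asIdeal = Ideal.comap ψ.hom (X.toSpecΓ.base x).asIdeal := by
      conv_lhs => rw [hfac]
      rfl
    constructor
    · intro hx
      -- x is in the range of iX
      have hxr : x ∈ Set.range iX.base := by
        rw [hiX, Scheme.Pullback.range_fst, hπ, range_spec_mk]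
        show p ∈ PrimeSpectrum.zeroLocus (I : Set A)
        rw [PrimeSpectrum.mem_zeroLocus, SetLike.coe_subset_coe]
        exact hx
      obtain ⟨x₀, rfl⟩ := hxr
      have hnat : iX ≫ X.toSpecΓ = (pullback f π).toSpecΓ ≫ Spec.map iX.appTop :=
        Scheme.toSpecΓ_naturality iX
      have e : X.toSpecΓ.base (iX.base x₀) =
          (Spec.map iX.appTop).base ((pullback f π).toSpecΓ.base x₀) := by
        rw [← Scheme.Hom.comp_apply, ← Scheme.Hom.comp_apply, hnat]
      rw [e]
      intro b hb
      show iX.appTop.hom b ∈ ((pullback f π).toSpecΓ.base x₀).asIdeal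
      rw [RingHom.mem_ker.mp hb]
      exact Ideal.zero_mem _
    · intro hx a ha
      rw [hfx]
      exact hx (hψI a ha)
  have hcl2 : IsClosedImmersion iX := inferInstance
  refine couple_of_proper (Γ(X, ⊤) : Type u) J (g ≫ X.toSpecΓ) (pullback.fst g iX) ?_ V hV
  rw [Scheme.Pullback.range_fst, hrX, ← Set.preimage_comp]
  rfl

end Groth.Agent.H6.HC
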