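import Groth.Agent.Lib.Helper6.GrReg
import Groth.Agent.Lib.Helper6.LCArtinian
import Groth.Agent.Lib.Helper6.DepthMax

/-! Vanishing of `H^i_{R_+}(M)` for `i ≥ 1` iff `M_n = 0` for `n ≫ 0`. -/

set_option autoImplicit false
set_option linter.style.haveILetI false
universe u
open GrLC Groth.Agent.H6 Groth.Agent.H6.Gr DirectSum CategoryTheory

namespace Groth.Agent.H6.RegVan

variable {R : Type u} [CommRing R] {𝒜 : ℤ → AddSubgroup R} [GradedRing 𝒜]
variable {X : Type u} [AddCommGroup X] [Module R X] (𝒳 : ℤ → AddSubgroup X)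
  [DirectSum.Decomposition 𝒳] [SetLike.GradedSMul 𝒜 𝒳]

/-- degrees add -/
theorem proj_smul_eq_zero {r : R} {x : X} {p q n : ℤ} (hr : ∀ e < p, proj 𝒜 e r = 0)
    (hx : ∀ f < q, proj 𝒳 f x = 0) (hn : n < p + q) : proj 𝒳 n (r • x) = 0 := by
  classical
  rw [← DirectSum.sum_support_decompose 𝒜 r, Finset.sum_smul, map_sum]
  refine Finset.sum_eq_zero fun e _ => ?_
  rw [proj_smul_of_mem' 𝒜 𝒳 (DirectSum.decompose 𝒜 r e).2]
  by_cases he : e < p
  · have : ((DirectSum.decompose 𝒜 r e : 𝒜 e) : R) = 0 := hr e he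
    rw [this, zero_smul]
  · rw [hx (n - e) (by omega), smul_zero]

variable (hpos : ∀ n : ℤ, n < 0 → 𝒜 n = ⊥) (a : HomogeneousIdeal 𝒜)
  (ha : a.toIdeal = Ideal.span (⋃ n ∈ Set.Ioi (0 : ℤ), (𝒜 n : Set R)))

include hpos in
theorem proj_neg_eq_zero (r : R) (e : ℤ) (he : e < 0) : proj 𝒜 e r = 0 := by
  have h := proj_mem 𝒜 e r
  rw [hpos e he] at h
  exact h

include hpos ha in
/-- elements of `R_+^j` live in degrees `≥ j` -/
theorem proj_eq_zero_of_mem_pow (j : ℕ) {r : R} (hr : r ∈ a.toIdeal ^ j) :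
    ∀ e < (j : ℤ), proj 𝒜 e r = 0 := by
  induction j generalizing r with
  | zero => intro e he; exact proj_neg_eq_zero hpos r e (by simpa using he)
  | succ j ih =>
    rw [pow_succ] at hr
    refine Submodule.mul_induction_on hr ?_ ?_
    · intro s hs t ht e he
      have ht1 : ∀ f < (1 : ℤ), proj 𝒜 f t = 0 := by
        rw [ha] at ht
        refine Submodule.span_induction ?_ ?_ ?_ ?_ ht
        · intro y hy f hf
          simp only [Set.mem_iUnion, Set.mem_Ioi, SetLike.mem_coe] at hy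
          obtain ⟨n, hn, hyn⟩ := hy
          exact proj_of_mem_ne 𝒜 hyn (by omega)
        · intro f _; exact map_zero _
        · intro y z _ _ hy hz f hf
          rw [map_add, hy f hf, hz f hf, add_zero]
        · intro c y _ hy f hf
          have := proj_smul_eq_zero (𝒜 := 𝒜) 𝒜 (r := c) (x := y) (p := 0) (q := 1) (n := f)
            (fun e he => proj_neg_eq_zero hpos c e he) hy (by omega)
          exact this
      have := proj_smul_eq_zero (𝒜 := 𝒜) 𝒜 (r := s) (x := t) (p := (j : ℤ)) (q := 1) (n := e)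
        (ih hs) ht1 (by push_cast at he; omega)
      exact this
    · intro y z hy hz e he
      rw [map_add, hy e he, hz e he, add_zero]


variable {M : Type u} [AddCommGroup M] [Module R M] (ℳ : ℤ → AddSubgroup M)
  [DirectSum.Decomposition ℳ] [SetLike.GradedSMul 𝒜 ℳ]

include hpos ha in
/-- if `M_n = 0` for `n ≫ 0` then `M` is `R_+`-torsion -/
theorem torsion_of_eventually_bot (n₀ : ℤ) (h : ∀ n : ℤ, n₀ ≤ n → ℳ n = ⊥) (m : M) :
    m ∈ DRing.torsionSub a.toIdeal M := by
  classical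
  rw [← sum_proj ℳ m]
  refine Submodule.sum_mem _ fun e _ => ?_
  refine ⟨(n₀ - e).toNat, fun r hr => ?_⟩
  apply eq_zero_of_proj_eq_zero ℳ
  intro k
  rw [proj_smul_of_mem_right 𝒜 ℳ (proj_mem ℳ e m)]
  by_cases hk : k - e < ((n₀ - e).toNat : ℤ)
  · rw [proj_eq_zero_of_mem_pow hpos a ha _ hr (k - e) hk, zero_smul]
  · have hk' : n₀ ≤ k := by
      have := Int.self_le_toNat (n₀ - e)
      omega
    have h1 : proj ℳ k (r • proj ℳ e m) ∈ ℳ k := proj_mem ℳ k _
    rw [h k hk', AddSubgroup.mem_bot, proj_smul_of_mem_right 𝒜 ℳ (proj_mem ℳ e m)] at h1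
    exact h1

include hpos ha in
theorem subsingleton_of_eventually_bot [IsNoetherianRing R] (n₀ : ℤ)
    (h : ∀ n : ℤ, n₀ ≤ n → ℳ n = ⊥) (i : ℕ) (hi : 1 ≤ i) :
    Subsingleton (LocCoh.H a.toIdeal i M) := by
  obtain ⟨i, rfl⟩ : ∃ j, i = j + 1 := ⟨i - 1, by omega⟩
  exact LC.subsingleton_of_torsion a.toIdeal i (ModuleCat.of R M)
    (fun t => torsion_of_eventually_bot hpos a ha ℳ n₀ h t)


include hpos ha ℳ in
/-- if `H^i_{R_+}(M) = 0` for all `i ≥ 1` (with `M` finite) then `M` is `R_+`-torsion -/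
theorem torsion_of_subsingleton [IsNoetherianRing R] [Module.Finite R M]
    (h : ∀ i : ℕ, 1 ≤ i → Subsingleton (LocCoh.H a.toIdeal i M)) :
    DRing.torsionSub a.toIdeal M = ⊤ := by
  classical
  set I := a.toIdeal with hI
  set T : Submodule R M := DRing.torsionSub I M with hT
  have hN0 : DRing.torsionSub I (M ⧸ T) = ⊥ := LC.torsionSub_quot_eq_bot I M
  have hNvan : ∀ i, Subsingleton (LocCoh.H I i (M ⧸ T)) := by
    intro i
    cases i with
    | zero =>
      have e := LC.zeroEquiv I (ModuleCat.of R (M ⧸ T))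
      haveI : Subsingleton (DRing.torsionSub I (ModuleCat.of R (M ⧸ T))) := by
        change Subsingleton (DRing.torsionSub I (M ⧸ T))
        rw [hN0]
        infer_instance
      exact e.toEquiv.subsingleton
    | succ i =>
      have hb := LC.map_mkQ_torsionSub_bijective I M i
      haveI := h (i + 1) (by omega)
      exact (Equiv.ofBijective _ hb).symm.subsingleton
  have hsmul : I • (⊤ : Submodule R (M ⧸ T)) = ⊤ := by
    by_contra hne
    apply Depth.idealDepth_ne_top_of_smul_ne I (M ⧸ T) hne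
    rw [ENat.eq_top_iff_forall_ge]
    intro n
    rw [LC.le_idealDepth_iff I (M ⧸ T) hne n]
    intro i _
    exact hNvan i
  obtain ⟨r, hr1, hr⟩ := Submodule.exists_sub_one_mem_and_smul_eq_zero_of_fg_of_le_smul I
    (⊤ : Submodule R (M ⧸ T)) Module.Finite.fg_top (by rw [hsmul])
  have hrT : ∀ m : M, r • m ∈ T := by
    intro m
    have := hr (Submodule.Quotient.mk m) trivial
    rwa [← Submodule.Quotient.mk_smul, Submodule.Quotient.mk_eq_zero] at this
  have hr0 : proj 𝒜 0 r = 1 := by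
    have h1 : proj 𝒜 0 (r - 1) = 0 :=
      proj_eq_zero_of_mem_pow hpos a ha 1 (by rw [pow_one]; exact hr1) 0 (by norm_num)
    rw [map_sub, proj_of_mem 𝒜 (SetLike.GradedOne.one_mem : (1 : R) ∈ 𝒜 0), sub_eq_zero] at h1
    exact h1
  have hThom : T.IsHomogeneous ℳ := gam_isHomogeneous 𝒜 ℳ a
  rw [eq_top_iff]
  intro m _
  rw [← sum_proj ℳ m]
  refine Submodule.sum_mem _ fun e _ => ?_
  have h2 := hThom e (hrT (proj ℳ e m))
  have h3 : proj ℳ e (r • proj ℳ e m) = proj ℳ e m := by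
    rw [proj_smul_of_mem_right 𝒜 ℳ (proj_mem ℳ e m), sub_self, hr0, one_smul]
  rw [← h3]
  exact h2

include hpos ha in
theorem eventually_bot_of_subsingleton [IsNoetherianRing R] [Module.Finite R M]
    (h : ∀ i : ℕ, 1 ≤ i → Subsingleton (LocCoh.H a.toIdeal i M)) :
    ∃ n₀ : ℤ, ∀ n : ℤ, n₀ ≤ n → ℳ n = ⊥ := by
  classical
  have htop := torsion_of_subsingleton hpos a ha ℳ h
  obtain ⟨G⟩ := exists_posGens 𝒜 a.toIdeal ha
  -- a uniform power killing `M`
  obtain ⟨S, hS⟩ := (Module.Finite.fg_top : (⊤ : Submodule R M).FG)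
  have hmem : ∀ s ∈ S, ∃ n : ℕ, ∀ r ∈ a.toIdeal ^ n, r • s = 0 := by
    intro s _
    have : s ∈ DRing.torsionSub a.toIdeal M := by rw [htop]; trivial
    exact this
  choose! e he using hmem
  refine G.exists_eq_bot ℳ (fun n hn y hy => mem_irrelevant_of_pos a ha hn hy) (S.sup e) ?_
  intro r hr m
  have hm : m ∈ Submodule.span R (S : Set M) := by rw [hS]; trivial
  refine Submodule.span_induction ?_ ?_ ?_ ?_ hm
  · intro s hs
    exact he s hs r (Ideal.pow_le_pow_right (Finset.le_sup hs) hr)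
  · exact smul_zero r
  · intro x y _ _ hx hy
    rw [smul_add, hx, hy, add_zero]
  · intro c x _ hx
    rw [smul_comm, hx, smul_zero]

end Groth.Agent.H6.RegVan
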