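import Groth.Agent.Lib.Helper6.GrFree
import Groth.Agent.Lib.Helper6.GrGamma

/-! Noetherian graded rings: the degree-zero subring is Noetherian; positively `ℤ`-graded
Noetherian rings: pieces of finitely generated graded modules are finite over the degree-zero
subring, and modules killed by a power of the irrelevant ideal vanish in large degrees. -/

universe u
open DirectSum
set_option linter.unusedSectionVars false

namespace Groth.Agent.H6

namespace Gr

section General

variable {ι : Type} [AddCommGroup ι] [DecidableEq ι]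
variable {R : Type u} [CommRing R] (𝒜 : ι → AddSubgroup R) [GradedRing 𝒜]

variable {M : Type u} [AddCommGroup M] [Module R M] (ℳ : ι → AddSubgroup M)
  [DirectSum.Decomposition ℳ] [SetLike.GradedSMul 𝒜 ℳ]

/-- components of a multiple of a homogeneous module element -/
theorem proj_smul_of_mem_right {e : ι} {m : M} (hm : m ∈ ℳ e) (k : ι) (r : R) :
    proj ℳ k (r • m) = proj 𝒜 (k - e) r • m := by
  induction r using induction_on 𝒜 with
  | zero => simp
  | homogeneous g r hr =>
    have hrm : r • m ∈ ℳ (g + e) := SetLike.GradedSMul.smul_mem (A := 𝒜) (B := ℳ) hr hm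
    by_cases hk : g + e = k
    · subst hk
      rw [proj_of_mem ℳ hrm, add_sub_cancel_right, proj_of_mem 𝒜 hr]
    · have hne : g ≠ k - e := fun h => hk (by rw [h, sub_add_cancel])
      rw [proj_of_mem_ne ℳ hrm hk, proj_of_mem_ne 𝒜 hr hne, zero_smul]
  | add r r' h1 h2 => rw [add_smul, map_add, map_add, add_smul, h1, h2]

/-- components of a product with a homogeneous ring element on the right -/
theorem proj_mul_of_mem_right {e : ι} {x : R} (hx : x ∈ 𝒜 e) (k : ι) (r : R) :
    proj 𝒜 k (r * x) = proj 𝒜 (k - e) r * x :=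
  proj_smul_of_mem_right 𝒜 𝒜 hx k r

/-- the degree-zero subring of a Noetherian graded ring is Noetherian -/
theorem deg0_isNoetherianRing [IsNoetherianRing R] : IsNoetherianRing (GrLC.deg0 𝒜) := by
  let S := GrLC.deg0 𝒜
  -- extension of ideals
  let e : Ideal S → Ideal R := fun I => Ideal.map S.subtype I
  have hmono : Monotone e := fun I J h => Ideal.map_mono h
  -- contraction recovers the ideal
  have hkey : ∀ (I : Ideal S) (x : S), (x : R) ∈ e I → x ∈ I := by
    intro I x hx
    have hP : ∀ y ∈ e I, ∀ s : R, ∃ i : S, i ∈ I ∧ (i : R) = proj 𝒜 0 (s * y) := by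
      intro y hy
      induction hy using Submodule.span_induction with
      | mem y hy =>
        obtain ⟨i, hi, rfl⟩ := hy
        intro s
        have h0 : (i : R) ∈ 𝒜 0 := i.2
        have h1 : proj 𝒜 0 (s * (S.subtype i)) = proj 𝒜 0 s * (i : R) := by
          have := proj_mul_of_mem_right 𝒜 h0 0 s
          rw [sub_zero] at this
          exact this
        refine ⟨(⟨proj 𝒜 0 s, proj_mem 𝒜 0 s⟩ : S) * i, I.mul_mem_left _ hi, ?_⟩
        rw [h1]
        rfl
      | zero =>
        intro s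
        exact ⟨0, I.zero_mem, by simp⟩
      | add y y' _ _ h1 h2 =>
        intro s
        obtain ⟨i1, hi1, h1'⟩ := h1 s
        obtain ⟨i2, hi2, h2'⟩ := h2 s
        refine ⟨i1 + i2, I.add_mem hi1 hi2, ?_⟩
        rw [mul_add, map_add, ← h1', ← h2']
        rfl
      | smul r y _ h1 =>
        intro s
        obtain ⟨i1, hi1, h1'⟩ := h1 (s * r)
        refine ⟨i1, hi1, ?_⟩
        rw [h1', smul_eq_mul, mul_assoc]
    obtain ⟨i, hi, h⟩ := hP (x : R) hx 1
    have : i = x := Subtype.ext (by rw [h, one_mul]; exact proj_of_mem 𝒜 x.2)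
    rwa [this] at hi
  have hinj : Function.Injective e := by
    intro I J hIJ
    apply le_antisymm
    · intro x hx
      apply hkey J x
      rw [← hIJ]
      exact Ideal.mem_map_of_mem _ hx
    · intro x hx
      apply hkey I x
      rw [hIJ]
      exact Ideal.mem_map_of_mem _ hx
  have hstrict : StrictMono e := hmono.strictMono_of_injective hinj
  rw [isNoetherianRing_iff, isNoetherian_iff']
  have : WellFoundedGT (Ideal R) := by
    have := (inferInstance : IsNoetherianRing R)
    rw [isNoetherianRing_iff, isNoetherian_iff'] at this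
    exact this
  exact hstrict.wellFoundedGT

end General


section Positive

variable {R : Type u} [CommRing R] (𝒜 : ℤ → AddSubgroup R) [GradedRing 𝒜]

/-- homogeneous generators of positive degrees of an ideal -/
structure PosGens (a : Ideal R) where
  T : Finset R
  d : R → ℤ
  hd : ∀ x ∈ T, 0 < d x ∧ x ∈ 𝒜 (d x)
  hspan : a = Ideal.span (T : Set R)

theorem exists_posGens [IsNoetherianRing R] (a : Ideal R)
    (ha : a = Ideal.span (⋃ n ∈ Set.Ioi (0 : ℤ), (𝒜 n : Set R))) : Nonempty (PosGens 𝒜 a) := by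
  classical
  have hfg : (Submodule.span R (⋃ n ∈ Set.Ioi (0 : ℤ), (𝒜 n : Set R))).FG := by
    have := (isNoetherianRing_iff_ideal_fg R).mp inferInstance a
    rw [ha] at this
    exact this
  obtain ⟨T, hT, hspan⟩ := (Submodule.fg_span_iff_fg_span_finset_subset _).mp hfg
  have hex : ∀ x ∈ T, ∃ n : ℤ, 0 < n ∧ x ∈ 𝒜 n := by
    intro x hx
    have := hT hx
    simp only [Set.mem_iUnion, Set.mem_Ioi, SetLike.mem_coe] at this
    obtain ⟨n, hn, hxn⟩ := this
    exact ⟨n, hn, hxn⟩
  refine ⟨⟨T, fun x => if h : ∃ n : ℤ, 0 < n ∧ x ∈ 𝒜 n then h.choose else 0, ?_, ?_⟩⟩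
  · intro x hx
    rw [dif_pos (hex x hx)]
    exact (hex x hx).choose_spec
  · rw [ha]
    exact hspan

variable {𝒜}
variable {a : Ideal R} (G : PosGens 𝒜 a)

include G in
/-- elements of positive degree are combinations of the generators with homogeneous
coefficients -/
theorem PosGens.exists_decomp (ha : ∀ n : ℤ, 0 < n → ∀ y ∈ 𝒜 n, y ∈ a) {n : ℤ} (hn : 0 < n) {y : R}
    (hy : y ∈ 𝒜 n) :
    ∃ c : R → R, (∀ x, c x ∈ 𝒜 (n - G.d x)) ∧ y = ∑ x ∈ G.T, c x * x := by
  have hya : y ∈ Submodule.span R (G.T : Set R) := by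
    have := ha n hn y hy
    rw [G.hspan] at this
    exact this
  obtain ⟨f, -, hf⟩ := Submodule.mem_span_finset.mp hya
  refine ⟨fun x => proj 𝒜 (n - G.d x) (f x), fun x => proj_mem 𝒜 _ _, ?_⟩
  have h1 : proj 𝒜 n y = y := proj_of_mem 𝒜 hy
  rw [← h1, ← hf, map_sum]
  refine Finset.sum_congr rfl fun x hx => ?_
  rw [smul_eq_mul]
  exact proj_mul_of_mem_right 𝒜 (G.hd x hx).2 n (f x)

/-- multiplication by an element on the right, as a map linear over the degree-zero subring -/
noncomputable def mulR (x : R) : R →ₗ[GrLC.deg0 𝒜] R :=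
  (LinearMap.mulRight R x).restrictScalars (GrLC.deg0 𝒜)

omit [GradedRing 𝒜] in
theorem mulR_apply [GradedRing 𝒜] (x r : R) : mulR (𝒜 := 𝒜) x r = r * x := rfl

include G in
/-- the pieces of a positively graded Noetherian ring are finite over the degree-zero subring -/
theorem PosGens.comp_fg (hpos : ∀ n : ℤ, n < 0 → 𝒜 n = ⊥)
    (ha : ∀ n : ℤ, 0 < n → ∀ y ∈ 𝒜 n, y ∈ a) (n : ℤ) : (GrLC.comp 𝒜 𝒜 n).FG := by
  classical
  suffices h : ∀ k : ℕ, ∀ n : ℤ, n ≤ k → (GrLC.comp 𝒜 𝒜 n).FG by
    rcases le_or_gt n 0 with hn | hn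
    · exact h 0 n (by simpa using hn)
    · exact h n.toNat n (by rw [Int.toNat_of_nonneg hn.le])
  have hneg : ∀ n : ℤ, n < 0 → (GrLC.comp 𝒜 𝒜 n).FG := by
    intro n hn
    have : GrLC.comp 𝒜 𝒜 n = ⊥ := by
      rw [eq_bot_iff]
      intro y hy
      have : y ∈ 𝒜 n := hy
      rw [hpos n hn] at this
      exact this
    rw [this]
    exact Submodule.fg_bot
  have hzero : (GrLC.comp 𝒜 𝒜 0).FG := by
    refine ⟨{1}, ?_⟩
    apply le_antisymm
    · rw [Submodule.span_le]
      intro y hy
      rw [Finset.coe_singleton, Set.mem_singleton_iff] at hy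
      subst hy
      exact (SetLike.GradedOne.one_mem : (1 : R) ∈ 𝒜 0)
    · intro y hy
      have hy0 : y ∈ 𝒜 0 := hy
      rw [Finset.coe_singleton, Submodule.mem_span_singleton]
      exact ⟨⟨y, hy0⟩, by change y * 1 = y; rw [mul_one]⟩
  intro k
  induction k with
  | zero =>
    intro n hn
    rcases lt_or_eq_of_le hn with h | h
    · exact hneg n (by simpa using h)
    · have : n = 0 := by simpa using h
      subst this
      exact hzero
  | succ k ih =>
    intro n hn
    rcases lt_or_eq_of_le hn with h | h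
    · exact ih n (by push_cast at h; omega)
    · have hn0 : 0 < n := by rw [h]; push_cast; omega
      have heq : GrLC.comp 𝒜 𝒜 n =
          ⨆ x : G.T, (GrLC.comp 𝒜 𝒜 (n - G.d x)).map (mulR (𝒜 := 𝒜) (x : R)) := by
        apply le_antisymm
        · intro y hy
          obtain ⟨c, hc, rfl⟩ := G.exists_decomp ha hn0 (show y ∈ 𝒜 n from hy)
          refine Submodule.sum_mem _ fun x hx => ?_
          exact Submodule.mem_iSup_of_mem (⟨x, hx⟩ : G.T) ⟨c x, hc x, rfl⟩
        · refine iSup_le fun x => ?_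
          rintro _ ⟨r, hr, rfl⟩
          have h1 : r ∈ 𝒜 (n - G.d x) := hr
          have := SetLike.GradedMul.mul_mem h1 (G.hd x x.2).2
          rw [sub_add_cancel] at this
          exact this
      rw [heq]
      refine Submodule.fg_iSup _ fun x => Submodule.FG.map _ (ih _ ?_)
      have := (G.hd x x.2).1
      rw [h]; push_cast; omega

include G in
/-- elements of large degree lie in a power of the ideal -/
theorem PosGens.exists_le_pow (ha : ∀ n : ℤ, 0 < n → ∀ y ∈ 𝒜 n, y ∈ a) (k : ℕ) :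
    ∃ s : ℤ, ∀ n : ℤ, s ≤ n → ∀ y ∈ 𝒜 n, y ∈ a ^ k := by
  classical
  induction k with
  | zero => exact ⟨0, fun n _ y _ => by rw [pow_zero, Ideal.one_eq_top]; trivial⟩
  | succ k ih =>
    obtain ⟨s, hs⟩ := ih
    let D : ℤ := ∑ x ∈ G.T, G.d x
    have hD : ∀ x ∈ G.T, G.d x ≤ D := by
      intro x hx
      exact Finset.single_le_sum (f := G.d) (fun z hz => (G.hd z hz).1.le) hx
    refine ⟨max s 0 + D + 1, fun n hn y hy => ?_⟩
    have hD0 : 0 ≤ D := Finset.sum_nonneg fun z hz => (G.hd z hz).1.le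
    have hn0 : 0 < n := by
      have := le_max_right s 0
      omega
    obtain ⟨c, hc, rfl⟩ := G.exists_decomp ha hn0 hy
    refine Ideal.sum_mem _ fun x hx => ?_
    rw [pow_succ]
    refine Ideal.mul_mem_mul (hs (n - G.d x) ?_ _ (hc x)) ?_
    · have := hD x hx
      have := le_max_left s 0
      omega
    · rw [G.hspan]
      exact Ideal.subset_span hx

end Positive


section PosModule

variable {R : Type u} [CommRing R] {𝒜 : ℤ → AddSubgroup R} [GradedRing 𝒜]
variable {M : Type u} [AddCommGroup M] [Module R M] (ℳ : ℤ → AddSubgroup M)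
  [DirectSum.Decomposition ℳ] [SetLike.GradedSMul 𝒜 ℳ]

/-- homogeneous elements are combinations of homogeneous generators with homogeneous
coefficients -/
theorem exists_decomp_of_generators {κ : Type u} [Fintype κ] {x : κ → M} {e : κ → ℤ}
    (hx : ∀ j, x j ∈ ℳ (e j)) (hspan : Submodule.span R (Set.range x) = ⊤) {n : ℤ} {y : M}
    (hy : y ∈ ℳ n) : ∃ c : κ → R, (∀ j, c j ∈ 𝒜 (n - e j)) ∧ y = ∑ j, c j • x j := by
  have hy' : y ∈ Submodule.span R (Set.range x) := by rw [hspan]; trivial
  obtain ⟨c, hc⟩ := (Submodule.mem_span_range_iff_exists_fun R).mp hy'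
  refine ⟨fun j => proj 𝒜 (n - e j) (c j), fun j => proj_mem 𝒜 _ _, ?_⟩
  have h1 : proj ℳ n y = y := proj_of_mem ℳ hy
  rw [← h1, ← hc, map_sum]
  exact Finset.sum_congr rfl fun j _ => proj_smul_of_mem_right 𝒜 ℳ (hx j) n (c j)

/-- `r ↦ r • m`, as a map linear over the degree-zero subring -/
noncomputable def smulR (m : M) : R →ₗ[GrLC.deg0 𝒜] M :=
  (LinearMap.toSpanSingleton R M m).restrictScalars (GrLC.deg0 𝒜)

variable {a : Ideal R} (G : PosGens 𝒜 a)

include G in
/-- the pieces of a finitely generated graded module over a positively graded Noetherian ring are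
finite over the degree-zero subring -/
theorem PosGens.comp_module_fg (hpos : ∀ n : ℤ, n < 0 → 𝒜 n = ⊥)
    (ha : ∀ n : ℤ, 0 < n → ∀ y ∈ 𝒜 n, y ∈ a) [Module.Finite R M] (n : ℤ) :
    (GrLC.comp 𝒜 ℳ n).FG := by
  classical
  obtain ⟨κ, _, x, e, hx, hspan⟩ := exists_homogeneous_generators (R := R) ℳ
  have heq : GrLC.comp 𝒜 ℳ n =
      ⨆ j : κ, (GrLC.comp 𝒜 𝒜 (n - e j)).map (smulR (𝒜 := 𝒜) (x j)) := by
    apply le_antisymm
    · intro y hy
      obtain ⟨c, hc, rfl⟩ := exists_decomp_of_generators (𝒜 := 𝒜) ℳ hx hspan (show y ∈ ℳ n from hy)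
      refine Submodule.sum_mem _ fun j _ => ?_
      exact Submodule.mem_iSup_of_mem j ⟨c j, hc j, rfl⟩
    · refine iSup_le fun j => ?_
      rintro _ ⟨r, hr, rfl⟩
      have h1 : r ∈ 𝒜 (n - e j) := hr
      have := SetLike.GradedSMul.smul_mem (A := 𝒜) (B := ℳ) h1 (hx j)
      rw [vadd_eq_add, sub_add_cancel] at this
      exact this
  rw [heq]
  exact Submodule.fg_iSup _ fun j => Submodule.FG.map _ (G.comp_fg hpos ha _)

include G in
/-- a finitely generated graded module killed by a power of the irrelevant ideal vanishes in large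
degrees -/
theorem PosGens.exists_eq_bot (ha : ∀ n : ℤ, 0 < n → ∀ y ∈ 𝒜 n, y ∈ a) [Module.Finite R M] (k : ℕ)
    (hk : ∀ r ∈ a ^ k, ∀ m : M, r • m = 0) : ∃ s : ℤ, ∀ n : ℤ, s ≤ n → ℳ n = ⊥ := by
  classical
  obtain ⟨κ, _, x, e, hx, hspan⟩ := exists_homogeneous_generators (R := R) ℳ
  obtain ⟨s, hs⟩ := G.exists_le_pow ha k
  let D : ℤ := ∑ j, |e j|
  have hD : ∀ j, e j ≤ D := by
    intro j
    exact (le_abs_self _).trans
      (Finset.single_le_sum (f := fun j => |e j|) (fun z _ => abs_nonneg _) (Finset.mem_univ j))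
  refine ⟨s + D, fun n hn => ?_⟩
  rw [eq_bot_iff]
  intro y hy
  obtain ⟨c, hc, rfl⟩ := exists_decomp_of_generators (𝒜 := 𝒜) ℳ hx hspan hy
  rw [AddSubgroup.mem_bot]
  refine Finset.sum_eq_zero fun j _ => ?_
  apply hk
  apply hs (n - e j) _ _ (hc j)
  have := hD j
  omega

end PosModule

end Gr

end Groth.Agent.H6
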