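import Mathlib

/-! Relative heights of primes over an ideal. -/

universe u
set_option linter.unusedSectionVars false

namespace Groth.Agent.H6

namespace RelHt

variable {R : Type u} [CommRing R]

/-- the height of the prime `P` in the poset of primes containing `a` -/
noncomputable def relHt (a P : Ideal R) [hP : P.IsPrime] (h : a ≤ P) : ℕ∞ :=
  Order.height (⟨⟨P, hP⟩, h⟩ : PrimeSpectrum.zeroLocus (R := R) a)

theorem relHt_le_iff (a P : Ideal R) [hP : P.IsPrime] (h : a ≤ P) (n : ℕ) :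
    relHt a P h ≤ n ↔ ∀ (Q : Ideal R) [Q.IsPrime] (hQ : a ≤ Q), Q < P → relHt a Q hQ < n := by
  unfold relHt
  rw [Order.height_le_coe_iff]
  constructor
  · intro H Q hQp hQ hlt
    exact H ⟨⟨Q, hQp⟩, hQ⟩ hlt
  · rintro H ⟨⟨Q, hQp⟩, hQ⟩ hlt
    exact H Q hQ hlt

theorem relHt_mono (a : Ideal R) {Q P : Ideal R} [hQ : Q.IsPrime] [hP : P.IsPrime] (h : a ≤ Q)
    (hQP : Q ≤ P) : relHt a Q h ≤ relHt a P (h.trans hQP) :=
  Order.height_mono (α := PrimeSpectrum.zeroLocus (R := R) a)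
    (show (⟨⟨Q, hQ⟩, h⟩ : PrimeSpectrum.zeroLocus (R := R) a) ≤ ⟨⟨P, hP⟩, h.trans hQP⟩ from hQP)

theorem relHt_add_one_le (a : Ideal R) {Q P : Ideal R} [hQ : Q.IsPrime] [hP : P.IsPrime]
    (h : a ≤ Q) (hQP : Q < P) : relHt a Q h + 1 ≤ relHt a P (h.trans hQP.le) :=
  Order.height_add_one_le (α := PrimeSpectrum.zeroLocus (R := R) a)
    (show (⟨⟨Q, hQ⟩, h⟩ : PrimeSpectrum.zeroLocus (R := R) a) < ⟨⟨P, hP⟩, h.trans hQP.le⟩ from hQP)

theorem relHt_eq_height (a P : Ideal R) [hP : P.IsPrime] (h : a ≤ P) :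
    relHt a P h = (P.map (Ideal.Quotient.mk a)).height := by
  haveI hP' : (P.map (Ideal.Quotient.mk a)).IsPrime :=
    Ideal.map_isPrime_of_surjective Ideal.Quotient.mk_surjective (by rwa [Ideal.mk_ker])
  let P' : PrimeSpectrum (R ⧸ a) := ⟨P.map (Ideal.Quotient.mk a), hP'⟩
  have h1 : a.primeSpectrumQuotientOrderIsoZeroLocus P' =
      (⟨⟨P, hP⟩, h⟩ : PrimeSpectrum.zeroLocus (R := R) a) := by
    apply Subtype.ext
    apply PrimeSpectrum.ext
    change Ideal.comap (Ideal.Quotient.mk a) (P.map (Ideal.Quotient.mk a)) = P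
    rw [Ideal.comap_map_of_surjective _ Ideal.Quotient.mk_surjective, ← RingHom.ker_eq_comap_bot,
      Ideal.mk_ker]
    exact sup_eq_left.mpr h
  unfold relHt
  rw [← h1, Order.height_orderIso]
  exact (PrimeSpectrum.height_eq_orderHeight P').symm

theorem relHt_lt_top [IsNoetherianRing R] (a P : Ideal R) [hP : P.IsPrime] (h : a ≤ P) :
    relHt a P h < ⊤ := by
  rw [relHt_eq_height]
  haveI hP' : (P.map (Ideal.Quotient.mk a)).IsPrime :=
    Ideal.map_isPrime_of_surjective Ideal.Quotient.mk_surjective (by rwa [Ideal.mk_ker])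
  exact Ideal.height_lt_top_of_isPrime

theorem relHt_self (P : Ideal R) [hP : P.IsPrime] : relHt P P le_rfl = 0 := by
  unfold relHt
  rw [Order.height_eq_zero]
  intro Q hQ
  exact Q.2

end RelHt

end Groth.Agent.H6
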