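import Mathlib
import Groth.Agent.Lib.Helper6.GorLC
import Groth.Agent.Lib.Helper6.LDLoc4

universe u
set_option linter.style.haveILetI false
open CategoryTheory CategoryTheory.Abelian InjHull

namespace Groth.Agent.H6.Liai

section T1
variable {B : Type u} [CommRing B]

/-- double annihilator property in a zero-dimensional Gorenstein local ring -/
theorem mem_of_forall_mul_eq_zero [LocCoh.IsGorensteinLocalRing B]
    (hd : ringKrullDim B = (0 : ℕ)) (𝔞 : Ideal B) (x : B)
    (hx : ∀ y : B, (∀ a ∈ 𝔞, a * y = 0) → x * y = 0) : x ∈ 𝔞 := by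
  obtain ⟨N, hN⟩ := LocCoh.IsGorensteinLocalRing.exists_hasInjectiveDimensionLT (A := B)
  have h1 := Bass.hasInjectiveDimensionLT_of_gorenstein N hN 0 hd
  rw [zero_add] at h1
  haveI : Injective (ModuleCat.of B B) := injective_iff_hasInjectiveDimensionLT_one.mpr h1
  haveI : Module.Injective B B := Module.injective_module_of_injective_object B (ModuleCat.of B B)
  obtain ⟨p, hp, f, hf⟩ := IH.exists_hull_quot_of_indecomposable (GorLC.indecomposable_self (R := B))
  haveI hK : Ring.KrullDimLE 0 B := Ring.krullDimLE_iff.mpr (le_of_eq hd)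
  have hpm : p = IsLocalRing.maximalIdeal B :=
    IsLocalRing.eq_maximalIdeal (Ideal.isMaximal_of_isPrime p)
  subst hpm
  by_contra hx𝔞
  have hne : (Ideal.Quotient.mk 𝔞 x) ≠ 0 := by
    rwa [Ne, Ideal.Quotient.eq_zero_iff_mem]
  obtain ⟨φ, hφ⟩ := IH.exists_hom_apply_ne_zero f hf.injective (M := B ⧸ 𝔞) hne
  apply hφ
  have h2 := hx (φ (Ideal.Quotient.mk 𝔞 1)) (by
    intro a ha
    rw [← smul_eq_mul, ← map_smul]
    have : a • (Ideal.Quotient.mk 𝔞 1) = 0 := by
      change Ideal.Quotient.mk 𝔞 (a * 1) = 0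
      rw [mul_one]
      exact Ideal.Quotient.eq_zero_iff_mem.mpr ha
    rw [this, map_zero])
  rw [← smul_eq_mul, ← map_smul] at h2
  have h3 : x • (Ideal.Quotient.mk 𝔞 1) = Ideal.Quotient.mk 𝔞 x := by
    change Ideal.Quotient.mk 𝔞 (x * 1) = _
    rw [mul_one]
  rwa [h3] at h2

end T1

instance isCohenMacaulayRing_of_isGorensteinRing (A : Type u) [CommRing A]
    [hA : LocCoh.IsGorensteinRing A] : LocCoh.IsCohenMacaulayRing A where
  isCohenMacaulayLocalRing_localization p hp := by
    haveI := hA.isGorensteinLocalRing_localization p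
    exact { supportDim_eq_depth := LDL.gor_cm }

section T1'
variable {A : Type u} [CommRing A] [IsNoetherianRing A]

/-- local double annihilator property at a minimal prime with Gorenstein localization -/
theorem exists_mul_mem_of_minimal (p : Ideal A) [hpp : p.IsPrime]
    [LocCoh.IsGorensteinLocalRing (Localization.AtPrime p)] (hp : p ∈ minimalPrimes A)
    (𝔞 : Ideal A) (x : A) (hx : ∀ y : A, (∀ a ∈ 𝔞, a * y = 0) → x * y = 0) :
    ∃ s : A, s ∉ p ∧ s * x ∈ 𝔞 := by
  classical
  let B := Localization.AtPrime p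
  have hd : ringKrullDim B = (0 : ℕ) := by
    rw [IsLocalization.AtPrime.ringKrullDim_eq_height p B, Ideal.height_eq_zero_iff.mpr hp]
    rfl
  have key : algebraMap A B x ∈ 𝔞.map (algebraMap A B) := by
    apply mem_of_forall_mul_eq_zero hd
    intro y' hy'
    obtain ⟨⟨y, s⟩, hys⟩ := IsLocalization.surj p.primeCompl y'
    simp only at hys
    have hunit : ∀ t : p.primeCompl, IsUnit (algebraMap A B t) :=
      fun t => IsLocalization.map_units B t
    have h1 : ∀ a ∈ 𝔞, ∃ t : p.primeCompl, (t : A) * (a * y) = 0 := by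
      intro a ha
      apply (IsLocalization.map_eq_zero_iff p.primeCompl B _).mp
      rw [map_mul, ← hys, ← mul_assoc, hy' _ (Ideal.mem_map_of_mem _ ha), zero_mul]
    obtain ⟨S, hS⟩ := (isNoetherianRing_iff_ideal_fg A).mp inferInstance 𝔞
    have h2 : ∀ T : Finset A, (∀ a ∈ T, a ∈ 𝔞) →
        ∃ t : p.primeCompl, ∀ a ∈ T, (t : A) * (a * y) = 0 := by
      intro T
      induction T using Finset.induction_on with
      | empty => intro _; exact ⟨1, by simp⟩
      | insert b T hb ih =>
        intro hT
        obtain ⟨t1, ht1⟩ := ih (fun a ha => hT a (Finset.mem_insert_of_mem ha))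
        obtain ⟨t2, ht2⟩ := h1 b (hT b (Finset.mem_insert_self b T))
        refine ⟨t1 * t2, fun a ha => ?_⟩
        rcases Finset.mem_insert.mp ha with rfl | ha
        · rw [Submonoid.coe_mul, mul_assoc, ht2, mul_zero]
        · rw [Submonoid.coe_mul, mul_comm (t1 : A), mul_assoc, ht1 a ha, mul_zero]
    obtain ⟨t, ht⟩ := h2 S (fun a ha => by rw [← hS]; exact Ideal.subset_span ha)
    have h3 : ∀ a ∈ 𝔞, a * ((t : A) * y) = 0 := by
      intro a ha
      rw [← hS] at ha
      refine Submodule.span_induction (p := fun a _ => a * ((t : A) * y) = 0) ?_ ?_ ?_ ?_ ha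
      · intro a ha
        rw [mul_left_comm]
        exact ht a ha
      · simp
      · intro a b _ _ ha hb
        rw [add_mul, ha, hb, add_zero]
      · intro a b _ hb
        rw [smul_eq_mul, mul_assoc, hb, mul_zero]
    have h4 := hx _ h3
    have h5 : algebraMap A B x * algebraMap A B y = 0 := by
      have : algebraMap A B (x * ((t : A) * y)) = 0 := by rw [h4, map_zero]
      rw [map_mul, map_mul, mul_left_comm] at this
      exact (hunit t).mul_right_eq_zero.mp this
    rw [← hys, ← mul_assoc] at h5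
    exact (hunit s).mul_left_eq_zero.mp h5
  rw [IsLocalization.mem_map_algebraMap_iff p.primeCompl B] at key
  obtain ⟨⟨a, s⟩, has⟩ := key
  simp only at has
  have h6 : algebraMap A B (x * s - a) = 0 := by
    rw [map_sub, map_mul, has, sub_self]
  obtain ⟨u, hu⟩ := (IsLocalization.map_eq_zero_iff p.primeCompl B _).mp h6
  refine ⟨u * s, (u * s).2, ?_⟩
  have h7 : (u : A) * (s : A) * x = u * a := by
    have : (u : A) * (x * s - a) = 0 := hu
    linear_combination this
  rw [h7]
  exact 𝔞.mul_mem_left _ a.2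

end T1'

end Groth.Agent.H6.Liai
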