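import Mathlib
import Groth.Prelude
import Groth.Agent.Lib.Helper6.FEtThick4

universe u
open CategoryTheory CategoryTheory.Limits AlgebraicGeometry TopologicalSpace

set_option linter.unusedSectionVars false
set_option linter.unusedSimpArgs false
set_option linter.style.haveILetI false
namespace Groth.Agent.H6.FEtDim1

open Groth.Agent.H6.FEtThick

section GlueDisjoint

/-- morphisms defined on the members of a disjoint open cover glue. -/
theorem exists_glue_disjoint {W Y : Scheme.{u}} {ι : Type*} (V : ι → W.Opens)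
    (hV : IsOpenCover V) (hdisj : ∀ a b, a ≠ b → Disjoint (V a) (V b))
    (g : ∀ a, (V a : Scheme.{u}) ⟶ Y) : ∃ φ : W ⟶ Y, ∀ a, (V a).ι ≫ φ = g a := by
  let 𝒰 := W.openCoverOfIsOpenCover V hV
  have hcompat : ∀ a b, pullback.fst (𝒰.f a) (𝒰.f b) ≫ g a = pullback.snd (𝒰.f a) (𝒰.f b) ≫ g b := by
    intro a b
    by_cases hab : a = b
    · subst hab
      have : pullback.fst (𝒰.f a) (𝒰.f a) = pullback.snd (𝒰.f a) (𝒰.f a) := by
        rw [← cancel_mono (𝒰.f a)]
        exact pullback.condition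
      rw [this]
    · haveI : IsEmpty ↑(pullback (𝒰.f a) (𝒰.f b)) := by
        refine ⟨fun w => ?_⟩
        have h1 : (pullback.fst (𝒰.f a) (𝒰.f b) ≫ 𝒰.f a) w ∈ V a := by
          rw [Scheme.Hom.comp_apply]
          exact ((pullback.fst (𝒰.f a) (𝒰.f b)) w).2
        have h2 : (pullback.fst (𝒰.f a) (𝒰.f b) ≫ 𝒰.f a) w ∈ V b := by
          rw [pullback.condition, Scheme.Hom.comp_apply]
          exact ((pullback.snd (𝒰.f a) (𝒰.f b)) w).2
        have h3 : (pullback.fst (𝒰.f a) (𝒰.f b) ≫ 𝒰.f a) w ∈ V a ⊓ V b := ⟨h1, h2⟩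
        rw [disjoint_iff.mp (hdisj a b hab)] at h3
        exact h3
      exact isInitialOfIsEmpty.hom_ext _ _
  exact ⟨𝒰.glueMorphisms g hcompat, fun a => 𝒰.ι_glueMorphisms g hcompat a⟩

theorem hom_ext_of_isOpenCover {W Y : Scheme.{u}} {ι : Type*} (V : ι → W.Opens)
    (hV : IsOpenCover V) (φ ψ : W ⟶ Y) (h : ∀ a, (V a).ι ≫ φ = (V a).ι ≫ ψ) : φ = ψ :=
  (W.openCoverOfIsOpenCover V hV).hom_ext φ ψ h

end GlueDisjoint

section Field

variable (K : Type u) [Field K] [IsSepClosed K]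

/-- a finite étale scheme over a separably closed field is a finite disjoint union of points. -/
theorem exists_iso_spec_pi {P : Scheme.{u}} (c : P ⟶ Spec (CommRingCat.of K)) [IsFinite c]
    [Etale c] : ∃ (n : ℕ) (e : P ≅ Spec (CommRingCat.of (Fin n → K))),
      e.hom ≫ Spec.map (CommRingCat.ofHom (algebraMap K (Fin n → K))) = c := by
  haveI : IsAffine P := isAffine_of_isAffineHom c
  let φ : CommRingCat.of K ⟶ Γ(P, ⊤) := (Scheme.ΓSpecIso (CommRingCat.of K)).inv ≫ c.appTop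
  have hc : c = P.isoSpec.hom ≫ Spec.map φ := by
    have h1 := Scheme.isoSpec_hom_naturality c
    rw [Scheme.isoSpec_Spec_hom] at h1
    rw [Spec.map_comp, ← Category.assoc, h1, Category.assoc, ← Spec.map_comp,
      Iso.inv_hom_id, Spec.map_id, Category.comp_id]
  have hφ : Spec.map φ = P.isoSpec.inv ≫ c := by rw [hc, Iso.inv_hom_id_assoc]
  haveI : IsFinite (Spec.map φ) := by rw [hφ]; infer_instance
  haveI : Etale (Spec.map φ) := by rw [hφ]; infer_instance
  have hfin : φ.hom.Finite := (IsFinite.SpecMap_iff (f := φ)).mp inferInstance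
  have het : φ.hom.Etale := (HasRingHomProperty.Spec_iff (P := @Etale) (φ := φ)).mp inferInstance
  letI : Algebra K Γ(P, ⊤) := φ.hom.toAlgebra
  haveI : Module.Finite K Γ(P, ⊤) := hfin
  haveI : Algebra.Etale K Γ(P, ⊤) := het
  obtain ⟨n, ⟨ε⟩⟩ := Algebra.IsFiniteSplit.nonempty_algEquiv_fun K Γ(P, ⊤)
  let e' : Spec Γ(P, ⊤) ≅ Spec (CommRingCat.of (Fin n → K)) :=
    { hom := Spec.map (CommRingCat.ofHom (ε.symm : (Fin n → K) →+* Γ(P, ⊤)))
      inv := Spec.map (CommRingCat.ofHom (ε : Γ(P, ⊤) →+* (Fin n → K)))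
      hom_inv_id := by
        rw [← Spec.map_comp, ← Spec.map_id]
        congr 1
        exact CommRingCat.hom_ext (RingHom.ext fun x => ε.symm_apply_apply x)
      inv_hom_id := by
        rw [← Spec.map_comp, ← Spec.map_id]
        congr 1
        exact CommRingCat.hom_ext (RingHom.ext fun x => ε.apply_symm_apply x) }
  refine ⟨n, P.isoSpec ≪≫ e', ?_⟩
  rw [hc, Iso.trans_hom, Category.assoc]
  congr 1
  change Spec.map _ ≫ Spec.map _ = Spec.map φ
  rw [← Spec.map_comp]
  congr 1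
  exact CommRingCat.hom_ext (RingHom.ext fun x => ε.symm.commutes x)

theorem finrank_specMap_pi (n : ℕ) (x : Spec (CommRingCat.of K)) :
    (Spec.map (CommRingCat.ofHom (algebraMap K (Fin n → K)))).finrank x = n := by
  rw [Scheme.Hom.finrank_SpecMap_algebraMap, Module.rankAtStalk_eq_finrank_of_free,
    Module.finrank_fin_fun]
  rfl

/-- two finite étale schemes of the same degree over a separably closed field are isomorphic. -/
theorem exists_iso_over_field {P₁ P₂ : Scheme.{u}} (c₁ : P₁ ⟶ Spec (CommRingCat.of K))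
    (c₂ : P₂ ⟶ Spec (CommRingCat.of K)) [IsFinite c₁] [Etale c₁] [IsFinite c₂] [Etale c₂]
    (x : Spec (CommRingCat.of K)) (h : c₁.finrank x = c₂.finrank x) :
    ∃ e : P₁ ≅ P₂, e.hom ≫ c₂ = c₁ := by
  obtain ⟨n₁, e₁, h₁⟩ := exists_iso_spec_pi K c₁
  obtain ⟨n₂, e₂, h₂⟩ := exists_iso_spec_pi K c₂
  have hs₁ : Spec.map (CommRingCat.ofHom (algebraMap K (Fin n₁ → K))) = e₁.inv ≫ c₁ := by
    rw [← h₁, Iso.inv_hom_id_assoc]
  have hs₂ : Spec.map (CommRingCat.ofHom (algebraMap K (Fin n₂ → K))) = e₂.inv ≫ c₂ := by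
    rw [← h₂, Iso.inv_hom_id_assoc]
  haveI : IsFinite (Spec.map (CommRingCat.ofHom (algebraMap K (Fin n₁ → K)))) := by
    rw [hs₁]; infer_instance
  haveI : Etale (Spec.map (CommRingCat.ofHom (algebraMap K (Fin n₁ → K)))) := by
    rw [hs₁]; infer_instance
  haveI : IsFinite (Spec.map (CommRingCat.ofHom (algebraMap K (Fin n₂ → K)))) := by
    rw [hs₂]; infer_instance
  haveI : Etale (Spec.map (CommRingCat.ofHom (algebraMap K (Fin n₂ → K)))) := by
    rw [hs₂]; infer_instance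
  have hn : n₁ = n₂ := by
    have a₁ : c₁.finrank x = n₁ := by
      rw [← h₁, Scheme.Hom.finrank_comp_left_of_isIso, finrank_specMap_pi]
    have a₂ : c₂.finrank x = n₂ := by
      rw [← h₂, Scheme.Hom.finrank_comp_left_of_isIso, finrank_specMap_pi]
    rw [← a₁, ← a₂, h]
  subst hn
  refine ⟨e₁ ≪≫ e₂.symm, ?_⟩
  rw [Iso.trans_hom, Iso.symm_hom, Category.assoc, ← h₂, Iso.inv_hom_id_assoc, h₁]

end Field

end Groth.Agent.H6.FEtDim1
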