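import Mathlib
import Groth.Prelude
import Groth.Agent.Lib.Helper6.FEtDim1B

universe u
open CategoryTheory CategoryTheory.Limits AlgebraicGeometry TopologicalSpace

set_option linter.unusedSectionVars false
set_option linter.unusedSimpArgs false
set_option linter.style.haveILetI false
namespace Groth.Agent.H6.FEtDim1

open Groth.Agent.H6.FEtThick

section Pt

variable (k : Type u) [Field k] [IsSepClosed k]

/-- residue fields at closed points of a scheme locally of finite type over a separably closed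
field are separably closed. -/
theorem isSepClosed_residueField {S : Scheme.{u}} (a : S ⟶ Spec (CommRingCat.of k))
    [LocallyOfFiniteType a] (x : S) (hx : IsClosed ({x} : Set S)) :
    IsSepClosed (S.residueField x) := by
  haveI : JacobsonSpace S := LocallyOfFiniteType.jacobsonSpace a
  haveI : LocallyOfFiniteType (S.fromSpecResidueField x) :=
    isClosed_singleton_iff_locallyOfFiniteType.mp hx
  let ψ : CommRingCat.of k ⟶ S.residueField x := Spec.preimage (S.fromSpecResidueField x ≫ a)
  have hψ : Spec.map ψ = S.fromSpecResidueField x ≫ a := Spec.map_preimage _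
  have h1 : LocallyOfFiniteType (Spec.map ψ) := by rw [hψ]; infer_instance
  have hft : ψ.hom.FiniteType :=
    (HasRingHomProperty.Spec_iff (P := @LocallyOfFiniteType) (φ := ψ)).mp h1
  letI : Algebra k (S.residueField x) := ψ.hom.toAlgebra
  haveI : Algebra.FiniteType k (S.residueField x) := hft
  haveI : Module.Finite k (S.residueField x) :=
    finite_of_finite_type_of_isJacobsonRing k (S.residueField x)
  haveI : Algebra.IsAlgebraic k (S.residueField x) := Algebra.IsAlgebraic.of_finite _ _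
  exact Algebra.IsAlgebraic.isSepClosed (F := k)

/-- over a one-point scheme locally of finite type over a separably closed field, finite étale
covers are classified by their degree. -/
theorem exists_iso_of_subsingleton {S Y₁ Y₂ : Scheme.{u}} [Subsingleton S]
    (a : S ⟶ Spec (CommRingCat.of k)) [LocallyOfFiniteType a] (s : S)
    (q₁ : Y₁ ⟶ S) (q₂ : Y₂ ⟶ S) [IsFinite q₁] [Etale q₁] [IsFinite q₂] [Etale q₂]
    (h : q₁.finrank s = q₂.finrank s) : ∃ e : Y₁ ≅ Y₂, e.hom ≫ q₂ = q₁ := by
  have hcl : IsClosed ({s} : Set S) := by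
    have : ({s} : Set S) = Set.univ := by
      ext x
      simp [Subsingleton.elim x s]
    rw [this]
    exact isClosed_univ
  haveI := isSepClosed_residueField k a s hcl
  let t : Spec (CommRingCat.of (S.residueField s)) ⟶ S := S.fromSpecResidueField s
  haveI : IsClosedImmersion t := isClosed_singleton_iff_isClosedImmersion.mp hcl
  haveI : Surjective t := ⟨fun x => by
    have : x ∈ Set.range t := by
      change x ∈ Set.range (S.fromSpecResidueField s)
      rw [Scheme.range_fromSpecResidueField]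
      exact Subsingleton.elim x s
    exact this⟩
  let A₁ : FEt.Cat S := MorphismProperty.Over.mk ⊤ q₁ ⟨inferInstance, inferInstance⟩
  let A₂ : FEt.Cat S := MorphismProperty.Over.mk ⊤ q₂ ⟨inferInstance, inferInstance⟩
  obtain ⟨hfull, hfaith⟩ := full_faithful t
  let x : Spec (CommRingCat.of (S.residueField s)) := default
  have hx : t x = s := Subsingleton.elim _ _
  obtain ⟨e₀, he₀⟩ := exists_iso_over_field (S.residueField s) (pullback.snd q₁ t)
    (pullback.snd q₂ t) x (by
      rw [Scheme.Hom.finrank_pullback_snd, Scheme.Hom.finrank_pullback_snd, hx, h])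
  let E₀ : (FEt.restrict t).obj A₁ ≅ (FEt.restrict t).obj A₂ :=
    MorphismProperty.Over.isoMk e₀ he₀
  let E : A₁ ≅ A₂ := (FEt.restrict t).preimageIso E₀
  exact ⟨(MorphismProperty.Over.forget _ _ _ ⋙ Over.forget _).mapIso E, Over.w E.hom.hom⟩

end Pt

section Disc

variable (k : Type u) [Field k] [IsSepClosed k]

/-- over a discrete scheme locally of finite type over a separably closed field, finite étale
covers are classified by their degree function. -/
theorem exists_iso_of_finrank_eq {D W₁ W₂ : Scheme.{u}} [DiscreteTopology D]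
    (a : D ⟶ Spec (CommRingCat.of k)) [LocallyOfFiniteType a]
    (p₁ : W₁ ⟶ D) (p₂ : W₂ ⟶ D) [IsFinite p₁] [Etale p₁] [IsFinite p₂] [Etale p₂]
    (h : ∀ d, p₁.finrank d = p₂.finrank d) : ∃ e : W₁ ≅ W₂, e.hom ≫ p₂ = p₁ := by
  let U : D → D.Opens := fun d => ⟨{d}, isOpen_discrete _⟩
  have hV : ∀ {W : Scheme.{u}} (p : W ⟶ D), IsOpenCover (fun d => p ⁻¹ᵁ U d) := by
    intro W p
    rw [IsOpenCover, eq_top_iff]
    intro w _
    exact Opens.mem_iSup.mpr ⟨p w, rfl⟩
  have hdisj : ∀ {W : Scheme.{u}} (p : W ⟶ D) (b c : D), b ≠ c →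
      Disjoint (p ⁻¹ᵁ U b) (p ⁻¹ᵁ U c) := by
    intro W p b c hbc
    rw [disjoint_iff, eq_bot_iff]
    rintro w ⟨h1, h2⟩
    have h1' : p w = b := h1
    have h2' : p w = c := h2
    exact absurd (h1'.symm.trans h2') hbc
  have hloc : ∀ d : D, ∃ e : (p₁ ⁻¹ᵁ U d : Scheme.{u}) ≅ (p₂ ⁻¹ᵁ U d : Scheme.{u}),
      e.hom ≫ (p₂ ∣_ U d) = (p₁ ∣_ U d) := by
    intro d
    haveI : Subsingleton ↥(U d : Scheme.{u}) :=
      ⟨fun x y => Subtype.ext ((show x.1 = d from x.2).trans (show y.1 = d from y.2).symm)⟩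
    haveI : IsFinite (p₁ ∣_ U d) :=
      MorphismProperty.of_isPullback (P := @IsFinite) (isPullback_morphismRestrict p₁ (U d)).flip
        inferInstance
    haveI : Etale (p₁ ∣_ U d) :=
      MorphismProperty.of_isPullback (P := @Etale) (isPullback_morphismRestrict p₁ (U d)).flip
        inferInstance
    haveI : IsFinite (p₂ ∣_ U d) :=
      MorphismProperty.of_isPullback (P := @IsFinite) (isPullback_morphismRestrict p₂ (U d)).flip
        inferInstance
    haveI : Etale (p₂ ∣_ U d) :=
      MorphismProperty.of_isPullback (P := @Etale) (isPullback_morphismRestrict p₂ (U d)).flip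
        inferInstance
    let s : ↥(U d : Scheme.{u}) := ⟨d, rfl⟩
    refine exists_iso_of_subsingleton k ((U d).ι ≫ a) s (p₁ ∣_ U d) (p₂ ∣_ U d) ?_
    rw [Scheme.Hom.finrank_of_isPullback _ _ _ _ (isPullback_morphismRestrict p₁ (U d)).flip,
      Scheme.Hom.finrank_of_isPullback _ _ _ _ (isPullback_morphismRestrict p₂ (U d)).flip]
    exact h _
  choose e he using hloc
  obtain ⟨φ, hφ⟩ := exists_glue_disjoint (fun d => p₁ ⁻¹ᵁ U d) (hV p₁) (hdisj p₁)
    (fun d => (e d).hom ≫ (p₂ ⁻¹ᵁ U d).ι)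
  obtain ⟨ψ, hψ⟩ := exists_glue_disjoint (fun d => p₂ ⁻¹ᵁ U d) (hV p₂) (hdisj p₂)
    (fun d => (e d).inv ≫ (p₁ ⁻¹ᵁ U d).ι)
  have h1 : φ ≫ ψ = 𝟙 W₁ := by
    refine hom_ext_of_isOpenCover _ (hV p₁) _ _ (fun d => ?_)
    rw [← Category.assoc, hφ, Category.assoc, hψ, Iso.hom_inv_id_assoc, Category.comp_id]
  have h2 : ψ ≫ φ = 𝟙 W₂ := by
    refine hom_ext_of_isOpenCover _ (hV p₂) _ _ (fun d => ?_)
    rw [← Category.assoc, hψ, Category.assoc, hφ, Iso.inv_hom_id_assoc, Category.comp_id]
  refine ⟨⟨φ, ψ, h1, h2⟩, ?_⟩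
  refine hom_ext_of_isOpenCover _ (hV p₁) _ _ (fun d => ?_)
  change (p₁ ⁻¹ᵁ U d).ι ≫ φ ≫ p₂ = (p₁ ⁻¹ᵁ U d).ι ≫ p₁
  rw [← Category.assoc, hφ, Category.assoc, ← morphismRestrict_ι, ← Category.assoc, he,
    morphismRestrict_ι]

end Disc

end Groth.Agent.H6.FEtDim1
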