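import Groth.Agent.Lib.Helper6.GrLD2
import Groth.Agent.Lib.Helper6.GrCMCrit3
import Groth.Agent.Lib.Helper6.GrDim

/-! Graded local duality over a Cohen–Macaulay graded ring: `Ext^i_R(M, K_R)` carries a grading
for which it is in graded perfect duality with `H^{n-i}_m(M)`. -/

universe u
open DirectSum TensorProduct CategoryTheory CategoryTheory.Abelian
set_option linter.unusedSectionVars false

namespace Groth.Agent.H6

namespace GrLD

open Gr GDual

section ExtLemmas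

variable {R : Type u} [CommRing R]
variable {Z F N : Type u} [AddCommGroup Z] [Module R Z] [AddCommGroup F] [Module R F]
  [AddCommGroup N] [Module R N] (M : Type u) [AddCommGroup M] [Module R M]
  (j : Z →ₗ[R] F) (π : F →ₗ[R] N)

/-- a short exact sequence of modules as a short exact short complex -/
theorem shortExact_of_exact (hj : Function.Injective j) (hπ : Function.Surjective π)
    (hex : ∀ y, π y = 0 ↔ ∃ x, j x = y) :
    ∃ w : ModuleCat.ofHom j ≫ ModuleCat.ofHom π = 0,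
      (ShortComplex.mk (ModuleCat.ofHom j) (ModuleCat.ofHom π) w).ShortExact := by
  have hzero : π ∘ₗ j = 0 := by
    ext x
    exact (hex (j x)).mpr ⟨x, rfl⟩
  have w : ModuleCat.ofHom j ≫ ModuleCat.ofHom π = 0 := by
    rw [← ModuleCat.ofHom_comp, hzero]; rfl
  refine ⟨w, ModuleCat.shortComplex_shortExact _ ?_ hj hπ⟩
  intro y
  change π y = 0 ↔ y ∈ Set.range j
  exact hex y

variable {j π} {w : ModuleCat.ofHom j ≫ ModuleCat.ofHom π = 0}
  (hS : (ShortComplex.mk (ModuleCat.ofHom j) (ModuleCat.ofHom π) w).ShortExact)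
  [Module.Projective R F]

include hS in
/-- `Ext^1(N, M)` is the cokernel of `Hom(F, M) → Hom(Z, M)` -/
theorem exists_ext_one : ∃ q : (Z →ₗ[R] M) →ₗ[R]
      Ext.{u} (ModuleCat.of R N) (ModuleCat.of R M) (0 + 1),
    Function.Surjective q ∧ LinearMap.ker q = LinearMap.range (LinearMap.lcomp R M j) := by
  haveI : Projective (ShortComplex.mk (ModuleCat.ofHom j) (ModuleCat.ofHom π) w).X₂ :=
    (IsProjective.iff_projective (R := R) F).mp inferInstance
  let δ : Ext.{u} (ModuleCat.of R Z) (ModuleCat.of R M) 0 →ₗ[R]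
      Ext.{u} (ModuleCat.of R N) (ModuleCat.of R M) (0 + 1) :=
    hS.extClass.precompOfLinear R (ModuleCat.of R M) (add_comm 1 0)
  let q : (Z →ₗ[R] M) →ₗ[R] Ext.{u} (ModuleCat.of R N) (ModuleCat.of R M) (0 + 1) :=
    δ ∘ₗ (ExtBC.homEquivExt₀ (ModuleCat.of R Z) (ModuleCat.of R M)).toLinearMap
  have hq : Function.Surjective q := by
    intro x₃
    have h1 : (Ext.mk₀ (ModuleCat.ofHom π)).comp x₃ (zero_add (0 + 1)) = 0 :=
      Ext.eq_zero_of_projective _
    obtain ⟨x₁, hx₁⟩ := Ext.contravariant_sequence_exact₃ hS (ModuleCat.of R M) x₃ h1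
      (n₀ := 0) (by omega)
    refine ⟨(ExtBC.homEquivExt₀ _ _).symm x₁, ?_⟩
    change δ ((ExtBC.homEquivExt₀ _ _) ((ExtBC.homEquivExt₀ _ _).symm x₁)) = x₃
    rw [LinearEquiv.apply_symm_apply]
    exact hx₁
  have hrange : LinearMap.ker q = LinearMap.range (LinearMap.lcomp R M j) := by
    ext φ
    rw [LinearMap.mem_ker, LinearMap.mem_range]
    constructor
    · intro h
      have h' : hS.extClass.comp (Ext.mk₀ (ModuleCat.ofHom φ)) (add_comm 1 0) = 0 := h
      obtain ⟨x₂, hx₂⟩ := Ext.contravariant_sequence_exact₁ hS (ModuleCat.of R M) _ _ h'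
      obtain ⟨ψ, rfl⟩ := LC.exists_mk₀ x₂
      refine ⟨ψ.hom, ?_⟩
      rw [Ext.mk₀_comp_mk₀] at hx₂
      have h2 := (Ext.mk₀_bijective _ _).1 hx₂
      have h3 := congrArg ModuleCat.Hom.hom h2
      exact h3
    · rintro ⟨ψ, rfl⟩
      change hS.extClass.comp (Ext.mk₀ (ModuleCat.ofHom (ψ ∘ₗ j))) (add_comm 1 0) = 0
      have : ModuleCat.ofHom (ψ ∘ₗ j) = ModuleCat.ofHom j ≫ ModuleCat.ofHom ψ := rfl
      rw [this, ← Ext.mk₀_comp_mk₀]
      exact hS.extClass_comp_assoc _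
  exact ⟨q, hq, hrange⟩

include hS in
/-- dimension shifting for `Ext` along a projective cover -/
theorem nonempty_ext_succ (i : ℕ) :
    Nonempty (Ext.{u} (ModuleCat.of R Z) (ModuleCat.of R M) (i + 1) ≃ₗ[R]
      Ext.{u} (ModuleCat.of R N) (ModuleCat.of R M) (i + 1 + 1)) := by
  haveI : Projective (ShortComplex.mk (ModuleCat.ofHom j) (ModuleCat.ofHom π) w).X₂ :=
    (IsProjective.iff_projective (R := R) F).mp inferInstance
  let δ : Ext.{u} (ModuleCat.of R Z) (ModuleCat.of R M) (i + 1) →ₗ[R]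
      Ext.{u} (ModuleCat.of R N) (ModuleCat.of R M) (i + 1 + 1) :=
    hS.extClass.precompOfLinear R (ModuleCat.of R M) (add_comm 1 (i + 1))
  have hδ : Function.Bijective δ := by
    constructor
    · rw [← LinearMap.ker_eq_bot, LinearMap.ker_eq_bot']
      intro x₁ hx₁
      obtain ⟨x₂, hx₂⟩ := Ext.contravariant_sequence_exact₁ hS (ModuleCat.of R M) x₁
        (add_comm 1 (i + 1)) hx₁
      have h0 : x₂ = 0 := Ext.eq_zero_of_projective _
      rw [← hx₂, h0, Ext.comp_zero]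
    · intro x₃
      have h1 : (Ext.mk₀ (ModuleCat.ofHom π)).comp x₃ (zero_add (i + 1 + 1)) = 0 :=
        Ext.eq_zero_of_projective _
      exact Ext.contravariant_sequence_exact₃ hS (ModuleCat.of R M) x₃ h1 (by omega)
  exact ⟨LinearEquiv.ofBijective δ hδ⟩

end ExtLemmas

section Vanish

variable {R : Type u} [CommRing R] {𝒜 : ℤ → AddSubgroup R} [GradedRing 𝒜]
variable (I : GrLC.StarInjRes 𝒜 𝒜) (a : HomogeneousIdeal 𝒜)
variable {κ : Type u} [Fintype κ] [DecidableEq κ] (d : κ → ℤ)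

/-- the graded local cohomology of a graded free module of finite rank vanishes where that of
the ring does -/
theorem subsingleton_H_free (EP : GrLC.StarInjRes 𝒜 (GMod.free 𝒜 d).gr) (q : ℕ)
    (hq : Subsingleton (I.H a q)) : Subsingleton (EP.H a q) := by
  let inc : ∀ j, (Msh (𝒜 := 𝒜) 𝒜 (d j)).carrier →ₗ[R] (GMod.free 𝒜 d).carrier :=
    fun j => LinearMap.single R (fun _ : κ => R) j
  let pr : ∀ j, (GMod.free 𝒜 d).carrier →ₗ[R] (Msh (𝒜 := 𝒜) 𝒜 (d j)).carrier :=
    fun j => LinearMap.proj j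
  have hsum : ∑ j, inc j ∘ₗ pr j = LinearMap.id := by
    have h1 : ∑ j, (LinearMap.single R (fun _ : κ => R) j ∘ₗ LinearMap.proj j :
        (κ → R) →ₗ[R] (κ → R)) = LinearMap.id := by
      apply LinearMap.ext
      intro v
      rw [LinearMap.sum_apply, LinearMap.id_apply]
      exact Finset.univ_sum_single v
    exact h1
  have hinc : ∀ j, GrLC.IsGrHom (Msh (𝒜 := 𝒜) 𝒜 (d j)).gr (GMod.free 𝒜 d).gr (inc j) := by
    intro j k (r : R) (hr : r ∈ 𝒜 (k - d j))
    have := single_mem_freeGr 𝒜 d j hr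
    rw [sub_add_cancel] at this
    exact this
  have hpr : ∀ j, GrLC.IsGrHom (GMod.free 𝒜 d).gr (Msh (𝒜 := 𝒜) 𝒜 (d j)).gr (pr j) := by
    intro j k (v : κ → R) (hv : v ∈ freeGr 𝒜 d k)
    exact hv j
  refine ⟨fun x y => ?_⟩
  suffices ∀ z : EP.H a q, z = 0 by rw [this x, this y]
  intro z
  rw [← GrEW.sum_Hmap a q EP (fun j => Msh (𝒜 := 𝒜) 𝒜 (d j)) (fun j => shiftRes I (d j))
    inc hinc pr hpr hsum z]
  refine Finset.sum_eq_zero fun j _ => ?_
  have h0 : Hmap EP (shiftRes I (d j)) a (pr j) (hpr j) q z = 0 := by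
    have : Subsingleton ((shiftRes I (d j)).H a q) := (shiftH I a (d j) q).toEquiv.subsingleton
    exact Subsingleton.elim _ _
  rw [h0, map_zero]

variable (hpos : ∀ n : ℤ, n < 0 → 𝒜 n = ⊥)
  (h0 : IsField (GrLC.deg0 𝒜))
  (hmsp : a.toIdeal = Ideal.span (⋃ n ∈ Set.Ioi (0 : ℤ), (𝒜 n : Set R)))

include hpos h0 hmsp in
/-- the graded local cohomology of a Cohen–Macaulay graded ring defined over a field is
concentrated in the degree `dim R` -/
theorem subsingleton_H_of_cm [LocCoh.IsCohenMacaulayRing R] (n : ℕ) (hn : ringKrullDim R = n)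
    (q : ℕ) (hq : q ≠ n) : Subsingleton (I.H a q) := by
  haveI : Nontrivial R := by
    by_contra hne
    rw [not_nontrivial_iff_subsingleton] at hne
    rw [ringKrullDim_eq_bot_of_subsingleton] at hn
    exact absurd hn (by simp)
  haveI hmax : a.toIdeal.IsMaximal := GrCM.isMaximal_irrelevant 𝒜 hpos h0 a hmsp
  have hh : a.toIdeal.height = n := Gr.height_irrelevant 𝒜 hpos h0 a.toIdeal hmsp n hn
  haveI hnt := MaxLoc.nontrivial_top a.toIdeal n hh
  obtain ⟨e⟩ := Gr.nonempty_H_equiv 𝒜 𝒜 I a n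
  haveI hn' : Nontrivial (I.H a n) := e.toEquiv.nontrivial
  obtain ⟨q0, _, huniq⟩ := (GrCM.cm_iff_existsUnique 𝒜 hpos h0 a hmsp 𝒜 I).mp
    (GrCM.cmRing_iff_module.mp inferInstance)
  by_contra hne
  rw [not_subsingleton_iff_nontrivial] at hne
  exact hq ((huniq q hne).trans (huniq n hn').symm)

end Vanish

section Main

variable {R : Type u} [CommRing R] {𝒜 : ℤ → AddSubgroup R} [GradedRing 𝒜] [IsNoetherianRing R]
variable (h0 : IsField (GrLC.deg0 𝒜))
variable (I : GrLC.StarInjRes 𝒜 𝒜) (a : HomogeneousIdeal 𝒜) (n : ℕ)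
variable {C : Type u} [AddCommGroup C] [Module R C] {𝒞 : ℤ → AddSubgroup C}
  [DirectSum.Decomposition 𝒞] [SetLike.GradedSMul 𝒜 𝒞]
variable {τ : C → I.H a n → R} (hτ : GPair 𝒜 𝒞 (I.Hgr a n) τ)
variable (hvan : ∀ (K : GrLC.GMod.{u} 𝒜) [Module.Finite R K.carrier]
  (EK : GrLC.StarInjRes 𝒜 K.gr), Subsingleton (EK.H a (n + 1)))
variable (hcm : ∀ q : ℕ, q ≠ n → Subsingleton (I.H a q))

/-- the graded duality statement in bidegree `(i, j)` -/
def DualAt (C : Type u) [AddCommGroup C] [Module R C] (i j : ℕ) (M : GrLC.GMod.{u} 𝒜)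
    (EM : GrLC.StarInjRes 𝒜 M.gr) : Prop :=
  ∃ (G : GrLC.GMod.{u} 𝒜)
    (_ : G.carrier ≃ₗ[R] Ext.{u} (ModuleCat.of R M.carrier) (ModuleCat.of R C) i)
    (σ : G.carrier → EM.H a j → R), GPair 𝒜 G.gr (EM.Hgr a j) σ

include hτ hvan in
/-- top duality -/
theorem dualAt_zero (M : GrLC.GMod.{u} 𝒜) [Module.Finite R M.carrier]
    (EM : GrLC.StarInjRes 𝒜 M.gr) : DualAt a C 0 n M EM := by
  letI : DirectSum.Decomposition (I.Hgr a n) := (isInternal_Hgr 𝒜 𝒜 I a n).chooseDecomposition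
  haveI : SetLike.GradedSMul 𝒜 (I.Hgr a n) := Hgr_gradedSMul I a n
  letI : DirectSum.Decomposition (EM.Hgr a n) :=
    (isInternal_Hgr 𝒜 M.gr EM a n).chooseDecomposition
  haveI : SetLike.GradedSMul 𝒜 (EM.Hgr a n) := Hgr_gradedSMul EM a n
  exact ⟨GMod.ofHom 𝒜 M.gr 𝒞,
    ExtBC.homEquivExt₀ (ModuleCat.of R M.carrier) (ModuleCat.of R C),
    topPair I a n hτ EM hvan, topPair_gpair I a n hτ EM hvan⟩

include h0 hτ hvan hcm in
/-- duality in bidegree `(1, n - 1)` -/
theorem dualAt_one (j : ℕ) (hj : 0 + 1 + j = n) (M : GrLC.GMod.{u} 𝒜)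
    [Module.Finite R M.carrier] (EM : GrLC.StarInjRes 𝒜 M.gr) : DualAt a C (0 + 1) j M EM := by
  obtain rfl : n = j + 1 := by omega
  obtain ⟨κ, _, _, d, π, K, ι, hKfin, S⟩ := GrEW.exists_presentation (𝒜 := 𝒜) M.gr
  haveI := hKfin
  haveI : Module.Finite R (GMod.free 𝒜 d).carrier :=
    show Module.Finite R (κ → R) from inferInstance
  haveI : Module.Projective R (GMod.free 𝒜 d).carrier :=
    show Module.Projective R (κ → R) from inferInstance
  let EP := starInjRes 𝒜 (GMod.free 𝒜 d).gr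
  let EK := starInjRes 𝒜 K.gr
  obtain ⟨δ, hδgr, -, hex1, hex2, hex3⟩ := exists_les S EK EP EM a
  haveI hPj : Subsingleton (EP.H a j) := subsingleton_H_free I a d EP j (hcm j (by omega))
  letI : DirectSum.Decomposition (I.Hgr a (j + 1)) :=
    (isInternal_Hgr 𝒜 𝒜 I a (j + 1)).chooseDecomposition
  haveI : SetLike.GradedSMul 𝒜 (I.Hgr a (j + 1)) := Hgr_gradedSMul I a (j + 1)
  letI : DirectSum.Decomposition (EK.Hgr a (j + 1)) :=
    (isInternal_Hgr 𝒜 K.gr EK a (j + 1)).chooseDecomposition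
  haveI : SetLike.GradedSMul 𝒜 (EK.Hgr a (j + 1)) := Hgr_gradedSMul EK a (j + 1)
  letI : DirectSum.Decomposition (EP.Hgr a (j + 1)) :=
    (isInternal_Hgr 𝒜 (GMod.free 𝒜 d).gr EP a (j + 1)).chooseDecomposition
  haveI : SetLike.GradedSMul 𝒜 (EP.Hgr a (j + 1)) := Hgr_gradedSMul EP a (j + 1)
  letI : DirectSum.Decomposition (EM.Hgr a j) :=
    (isInternal_Hgr 𝒜 M.gr EM a j).chooseDecomposition
  haveI : SetLike.GradedSMul 𝒜 (EM.Hgr a j) := Hgr_gradedSMul EM a j
  letI := homDecomposition 𝒜 K.gr 𝒞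
  letI := homDecomposition 𝒜 (GMod.free 𝒜 d).gr 𝒞
  haveI := hom_gradedSMul 𝒜 K.gr 𝒞
  haveI := hom_gradedSMul 𝒜 (GMod.free 𝒜 d).gr 𝒞
  have hA := topPair_gpair I a (j + 1) hτ EP hvan
  have hB := topPair_gpair I a (j + 1) hτ EK hvan
  obtain ⟨w, hS⟩ := shortExact_of_exact ι π S.inj S.surj S.exact
  obtain ⟨q, hq, hker⟩ := exists_ext_one C hS
  have hlgr : GrLC.IsGrHom (homGr 𝒜 (GMod.free 𝒜 d).gr 𝒞) (homGr 𝒜 K.gr 𝒞)
      (LinearMap.lcomp R C ι) := by
    intro e φ hφ k x hx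
    exact hφ k (ι x) (S.hi k x hx)
  have hkerhom : (LinearMap.ker q).IsHomogeneous (homGr 𝒜 K.gr 𝒞) := by
    rw [hker]
    exact range_isHomogeneous (homGr 𝒜 (GMod.free 𝒜 d).gr 𝒞) (homGr 𝒜 K.gr 𝒞) hlgr
  have hδinj : Function.Injective (δ j) := by
    rw [injective_iff_map_eq_zero]
    intro y hy
    obtain ⟨z, rfl⟩ := (hex2 j y).mp hy
    rw [Subsingleton.elim z 0, map_zero]
  have hrange : LinearMap.range (δ j) = LinearMap.ker (Hmap EK EP a ι S.hi (j + 1)) := by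
    ext y
    rw [LinearMap.mem_range, LinearMap.mem_ker]
    exact (hex3 j y).symm
  have hGP := GPair.coker_ker h0 hA hB (LinearMap.lcomp R C ι) hlgr
    (Hmap EK EP a ι S.hi (j + 1)) (Hmap_isGrHom a S.hi (j + 1))
    (fun φ y => topPair_natural I a (j + 1) hτ EK hvan EP ι S.hi φ y)
    q hq hker (δ j) hδinj (hδgr j) hrange
  exact ⟨GMod.ofQuot 𝒜 (homGr 𝒜 K.gr 𝒞) hq hkerhom, LinearEquiv.refl R _, _, hGP⟩

include hcm in
/-- dimension shifting for the duality -/
theorem dualAt_succ_succ (i : ℕ)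
    (ih : ∀ j, i + 1 + j = n → ∀ (M : GrLC.GMod.{u} 𝒜) [Module.Finite R M.carrier]
      (EM : GrLC.StarInjRes 𝒜 M.gr), DualAt a C (i + 1) j M EM)
    (j : ℕ) (hj : i + 1 + 1 + j = n) (M : GrLC.GMod.{u} 𝒜)
    [Module.Finite R M.carrier] (EM : GrLC.StarInjRes 𝒜 M.gr) :
    DualAt a C (i + 1 + 1) j M EM := by
  obtain ⟨κ, _, _, d, π, K, ι, hKfin, S⟩ := GrEW.exists_presentation (𝒜 := 𝒜) M.gr
  haveI := hKfin
  haveI : Module.Projective R (GMod.free 𝒜 d).carrier :=
    show Module.Projective R (κ → R) from inferInstance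
  let EP := starInjRes 𝒜 (GMod.free 𝒜 d).gr
  let EK := starInjRes 𝒜 K.gr
  obtain ⟨δ, hδgr, -, hex1, hex2, hex3⟩ := exists_les S EK EP EM a
  haveI hPj : Subsingleton (EP.H a j) := subsingleton_H_free I a d EP j (hcm j (by omega))
  haveI hPj1 : Subsingleton (EP.H a (j + 1)) :=
    subsingleton_H_free I a d EP (j + 1) (hcm (j + 1) (by omega))
  obtain ⟨G, ε, σ, hσ⟩ := ih (j + 1) (by omega) K EK
  letI : DirectSum.Decomposition (EK.Hgr a (j + 1)) :=
    (isInternal_Hgr 𝒜 K.gr EK a (j + 1)).chooseDecomposition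
  haveI : SetLike.GradedSMul 𝒜 (EK.Hgr a (j + 1)) := Hgr_gradedSMul EK a (j + 1)
  letI : DirectSum.Decomposition (EM.Hgr a j) :=
    (isInternal_Hgr 𝒜 M.gr EM a j).chooseDecomposition
  haveI : SetLike.GradedSMul 𝒜 (EM.Hgr a j) := Hgr_gradedSMul EM a j
  have hδbij : Function.Bijective (δ j) := by
    constructor
    · rw [injective_iff_map_eq_zero]
      intro y hy
      obtain ⟨z, rfl⟩ := (hex2 j y).mp hy
      rw [Subsingleton.elim z 0, map_zero]
    · intro y
      exact (hex3 j y).mp (Subsingleton.elim _ _)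
  obtain ⟨w, hS⟩ := shortExact_of_exact ι π S.inj S.surj S.exact
  obtain ⟨ε'⟩ := nonempty_ext_succ C hS i
  exact ⟨G, ε.trans ε', _, hσ.congr_right (δ j) hδbij (hδgr j)⟩

include h0 hτ hvan hcm in
/-- **graded local duality**: over a Cohen–Macaulay graded ring `R` of dimension `n` with
canonical module `C`, `Ext^i_R(M, C)` and `H^j_m(M)`, `i + j = n`, are in graded perfect
duality, for a suitable grading on `Ext` -/
theorem dualAt (i : ℕ) : ∀ j, i + j = n → ∀ (M : GrLC.GMod.{u} 𝒜) [Module.Finite R M.carrier]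
    (EM : GrLC.StarInjRes 𝒜 M.gr), DualAt a C i j M EM := by
  induction i with
  | zero =>
    intro j hj M _ EM
    have hjn : j = n := by omega
    rw [hjn]
    exact dualAt_zero I a n hτ hvan M EM
  | succ i ih =>
    cases i with
    | zero => exact fun j hj M _ EM => dualAt_one h0 I a n hτ hvan hcm j hj M EM
    | succ i => exact fun j hj M _ EM => dualAt_succ_succ I a n hcm i ih j hj M EM

end Main

end GrLD

end Groth.Agent.H6
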