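import Groth.Agent.Lib.Helper5.CA2.HB
import Groth.Agent.Lib.Helper7.FFR4

/-!
# helper6: the Hilbert–Burch theorem (structure of ideals with a free resolution of length one)
-/

set_option autoImplicit false
set_option linter.style.haveILetI false
set_option linter.unusedTactic false
set_option linter.unusedVariables false
set_option linter.unusedSectionVars false

universe u

open Matrix

namespace Groth.Agent.H6.HBurch

variable {R : Type u} [CommRing R]

/-- minor ideals commute with ring homomorphisms -/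
lemma minorIdeal_map {S : Type*} [CommRing S] (φ : R →+* S) {n m : ℕ}
    (A : Matrix (Fin n) (Fin m) R) (r : ℕ) :
    CAlgX.minorIdeal (A.map φ) r = (CAlgX.minorIdeal A r).map φ := by
  unfold CAlgX.minorIdeal
  rw [Ideal.map_span]
  congr 1
  ext s
  constructor
  · rintro ⟨fg, rfl⟩
    refine ⟨_, ⟨fg, rfl⟩, ?_⟩
    simp only
    rw [RingHom.map_det]
    rfl
  · rintro ⟨_, ⟨fg, rfl⟩, rfl⟩
    refine ⟨fg, ?_⟩
    simp only
    rw [RingHom.map_det]
    rfl

/-- the row matrix of a linear form -/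
def rowMat {n : ℕ} (π : (Fin n → R) →ₗ[R] R) : Matrix (Fin 1) (Fin n) R :=
  Matrix.of fun _ j => π (Pi.single j 1)

lemma rowMat_mulVec {n : ℕ} (π : (Fin n → R) →ₗ[R] R) (v : Fin n → R) (i : Fin 1) :
    (rowMat π).mulVec v i = π v := by
  have hv : v = ∑ j, v j • (Pi.single j (1 : R) : Fin n → R) := by
    ext l
    simp [Finset.sum_apply, Pi.single_apply]
  conv_rhs => rw [hv]
  rw [map_sum]
  simp only [Matrix.mulVec, dotProduct, rowMat, Matrix.of_apply, map_smul, smul_eq_mul]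
  exact Finset.sum_congr rfl fun j _ => mul_comm _ _

lemma ker_rowMat {n : ℕ} (π : (Fin n → R) →ₗ[R] R) :
    LinearMap.ker (rowMat π).mulVecLin = LinearMap.ker π := by
  ext v
  rw [LinearMap.mem_ker, LinearMap.mem_ker, Matrix.mulVecLin_apply]
  constructor
  · intro h
    have := congrFun h 0
    rwa [rowMat_mulVec] at this
  · intro h
    ext i
    rw [rowMat_mulVec, h]
    rfl

/-- dimension sequence `1, n, m, 0, …` -/
def nn (n m : ℕ) : ℕ → ℕ
  | 0 => 1
  | 1 => n
  | 2 => m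
  | _ => 0

/-- the chain `π, Ψ, 0, …` -/
def AA {n m : ℕ} (Ψ : Matrix (Fin n) (Fin m) R) (π : (Fin n → R) →ₗ[R] R) :
    (i : ℕ) → Matrix (Fin (nn n m i)) (Fin (nn n m (i + 1))) R
  | 0 => rowMat π
  | 1 => Ψ
  | (_ + 2) => 0

theorem eq_succ [IsNoetherianRing R] [Nontrivial R] (m n : ℕ)
    (Ψ : Matrix (Fin n) (Fin m) R) (π : (Fin n → R) →ₗ[R] R)
    (hΨ : LinearMap.ker Ψ.mulVecLin = ⊥) (hex : LinearMap.ker π = LinearMap.range Ψ.mulVecLin)
    (v₀ : Fin n → R) (ha₀ : π v₀ ∈ nonZeroDivisors R) : n = m + 1 := by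
  classical
  obtain ⟨Q, hQ⟩ := associatedPrimes.nonempty R R
  rw [AssociatedPrimes.mem_iff, isAssociatedPrime_iff] at hQ
  obtain ⟨hQprime, x, hQx⟩ := hQ
  have hA : ∀ i, i + 2 ≤ 1 + 1 →
      LinearMap.ker (AA Ψ π i).mulVecLin = LinearMap.range (AA Ψ π (i + 1)).mulVecLin := by
    intro i hi
    have : i = 0 := by omega
    subst this
    change LinearMap.ker (rowMat π).mulVecLin = LinearMap.range Ψ.mulVecLin
    rw [ker_rowMat, hex]
  have hlast : LinearMap.ker (AA Ψ π 1).mulVecLin = ⊥ := hΨ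
  obtain ⟨hfree, hrank⟩ := Groth.Agent.H7.FFR.coker_free_at 1 (nn n m) (AA Ψ π) hA hlast Q x hQx
  set S := Localization.AtPrime Q with hS
  change Module.Free S ((Fin 1 → S) ⧸
    LinearMap.range ((rowMat π).map (algebraMap R S)).mulVecLin) at hfree
  change ((Module.finrank S ((Fin 1 → S) ⧸
    LinearMap.range ((rowMat π).map (algebraMap R S)).mulVecLin) : ℤ) = _) at hrank
  haveI := hfree
  have hy : algebraMap R S (π v₀) ≠ 0 := by
    intro h
    obtain ⟨s, hs⟩ := (IsLocalization.map_eq_zero_iff Q.primeCompl S (π v₀)).mp h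
    have : (s : R) = 0 := (mem_nonZeroDivisors_iff_right.mp ha₀) _ hs
    exact s.2 (this ▸ Q.zero_mem)
  have hkill : ∀ q : ((Fin 1 → S) ⧸
      LinearMap.range ((rowMat π).map (algebraMap R S)).mulVecLin),
      algebraMap R S (π v₀) • q = 0 := by
    intro q
    obtain ⟨w, rfl⟩ := Submodule.Quotient.mk_surjective _ q
    rw [← Submodule.Quotient.mk_smul, Submodule.Quotient.mk_eq_zero]
    refine ⟨fun j => w 0 * algebraMap R S (v₀ j), ?_⟩
    ext i
    have hi : i = 0 := Subsingleton.elim _ _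
    subst hi
    rw [Matrix.mulVecLin_apply]
    simp only [Matrix.mulVec, dotProduct, Matrix.map_apply, Pi.smul_apply, smul_eq_mul]
    have h1 : ∀ j, algebraMap R S (rowMat π 0 j) * (w 0 * algebraMap R S (v₀ j)) =
        w 0 * algebraMap R S (rowMat π 0 j * v₀ j) := by
      intro j
      rw [map_mul]
      ring
    rw [Finset.sum_congr rfl fun j _ => h1 j, ← Finset.mul_sum, ← map_sum]
    have h2 : ∑ j, rowMat π 0 j * v₀ j = π v₀ := by
      have := rowMat_mulVec π v₀ 0
      simpa [Matrix.mulVec, dotProduct] using this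
    rw [h2, mul_comm]
  have hχ := Groth.Agent.H7.FFR.finrank_eq_zero_of_smul_eq_zero _ hy hkill
  rw [hχ] at hrank
  simp only [Finset.sum_range_succ, Finset.sum_range_zero, nn] at hrank
  push_cast at hrank
  omega

/-- dimension sequence `n, m, 0, …` -/
def nn₁ (n m : ℕ) : ℕ → ℕ
  | 0 => n
  | 1 => m
  | _ => 0

/-- the chain `Ψ, 0, …` -/
def AA₁ {n m : ℕ} (Ψ : Matrix (Fin n) (Fin m) R) :
    (i : ℕ) → Matrix (Fin (nn₁ n m i)) (Fin (nn₁ n m (i + 1))) R
  | 0 => Ψ
  | (_ + 1) => 0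

theorem exists_nzd [IsNoetherianRing R] (m n : ℕ)
    (Ψ : Matrix (Fin n) (Fin m) R) (π : (Fin n → R) →ₗ[R] R)
    (hΨ : LinearMap.ker Ψ.mulVecLin = ⊥) (hex : LinearMap.ker π = LinearMap.range Ψ.mulVecLin)
    (hI : LinearMap.range π ≠ ⊥) : ∃ v₀ : Fin n → R, π v₀ ∈ nonZeroDivisors R := by
  have := Groth.Agent.H7.FFR.main 1 le_rfl (nn₁ n m) (AA₁ Ψ) π hI hex
    (fun i hi => absurd hi (by omega)) hΨ
  obtain ⟨x, ⟨v₀, rfl⟩, hx⟩ := this
  exact ⟨v₀, hx⟩

/-- reduction modulo a non-zero-divisor keeps `Ψ` injective -/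
theorem injective_map_quotient (m n : ℕ)
    (Ψ : Matrix (Fin n) (Fin m) R) (π : (Fin n → R) →ₗ[R] R)
    (hΨ : LinearMap.ker Ψ.mulVecLin = ⊥) (hex : LinearMap.ker π = LinearMap.range Ψ.mulVecLin)
    (x : R) (hx : ∀ r, x * r = 0 → r = 0) :
    Function.Injective (Ψ.map (Ideal.Quotient.mk (Ideal.span {x}))).mulVecLin := by
  set φ := Ideal.Quotient.mk (Ideal.span {x}) with hφ
  rw [← LinearMap.ker_eq_bot, eq_bot_iff]
  intro ub hub
  rw [LinearMap.mem_ker, Matrix.mulVecLin_apply] at hub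
  -- lift
  have hlift : ∃ u : Fin m → R, ub = φ ∘ u := by
    choose u hu using fun j => Ideal.Quotient.mk_surjective (ub j)
    exact ⟨u, funext fun j => (hu j).symm⟩
  obtain ⟨u, rfl⟩ := hlift
  have h1 : φ ∘ (Ψ.mulVec u) = 0 := by
    rw [← hub]
    exact funext fun i => RingHom.map_mulVec φ Ψ u i
  have h2 : ∀ i, ∃ w, Ψ.mulVec u i = x * w := by
    intro i
    have := congrFun h1 i
    simp only [Function.comp_apply, Pi.zero_apply] at this
    rw [hφ, Ideal.Quotient.eq_zero_iff_mem, Ideal.mem_span_singleton'] at this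
    obtain ⟨w, hw⟩ := this
    exact ⟨w, by rw [← hw, mul_comm]⟩
  choose w hw using h2
  have h3 : Ψ.mulVec u = x • w := funext fun i => by rw [hw i]; rfl
  have h4 : π (x • w) = 0 := by
    have : Ψ.mulVec u ∈ LinearMap.ker π := by
      rw [hex]; exact ⟨u, rfl⟩
    rw [← h3]; exact this
  rw [map_smul, smul_eq_mul] at h4
  have h5 : w ∈ LinearMap.ker π := hx _ h4
  rw [hex] at h5
  obtain ⟨u', hu'⟩ := h5
  rw [Matrix.mulVecLin_apply] at hu'
  have h6 : Ψ.mulVecLin (u - x • u') = 0 := by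
    rw [map_sub, map_smul, Matrix.mulVecLin_apply, Matrix.mulVecLin_apply, hu', h3, sub_self]
  have h7 : u - x • u' = 0 := by
    have : u - x • u' ∈ LinearMap.ker Ψ.mulVecLin := h6
    rwa [hΨ] at this
  rw [Submodule.mem_bot]
  ext j
  have h8 : u j = x * u' j := by
    have := congrFun h7 j
    simp only [Pi.sub_apply, Pi.smul_apply, smul_eq_mul, Pi.zero_apply] at this
    exact sub_eq_zero.mp this
  simp only [Function.comp_apply, Pi.zero_apply]
  rw [h8, hφ, Ideal.Quotient.eq_zero_iff_mem, Ideal.mem_span_singleton']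
  exact ⟨u' j, mul_comm _ _⟩

theorem depth_ge_two [IsNoetherianRing R] (m n : ℕ)
    (Ψ : Matrix (Fin n) (Fin m) R) (π : (Fin n → R) →ₗ[R] R)
    (hΨ : LinearMap.ker Ψ.mulVecLin = ⊥) (hex : LinearMap.ker π = LinearMap.range Ψ.mulVecLin) :
    2 ≤ LocCoh.idealDepth (CAlgX.minorIdeal Ψ m) R := by
  classical
  set J := CAlgX.minorIdeal Ψ m with hJ
  -- first element
  have hinj : Function.Injective Ψ.mulVecLin := LinearMap.ker_eq_bot.mp hΨ
  have hann := (H5McCoy.injective_iff_annihilator Ψ).mp hinj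
  obtain ⟨x, hxJ, hxreg⟩ := (H5McCoy.annihilator_eq_bot_iff_exists_regular _).mp hann
  have hx : ∀ r, x * r = 0 → r = 0 := fun r hr => hxreg.left (by simpa using hr)
  -- second element
  set φ := Ideal.Quotient.mk (Ideal.span {x}) with hφ
  have hinj' := injective_map_quotient m n Ψ π hΨ hex x hx
  have hann' := (H5McCoy.injective_iff_annihilator _).mp hinj'
  obtain ⟨yb, hybJ, hybreg⟩ := (H5McCoy.annihilator_eq_bot_iff_exists_regular _).mp hann'
  rw [minorIdeal_map] at hybJ
  obtain ⟨y, hyJ, rfl⟩ := (Ideal.mem_map_iff_of_surjective φ Ideal.Quotient.mk_surjective).mp hybJ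
  unfold LocCoh.idealDepth
  split_ifs with htop
  · exact le_top
  · have hreg : RingTheory.Sequence.IsWeaklyRegular R [x, y] := by
      rw [RingTheory.Sequence.isWeaklyRegular_cons_iff,
        RingTheory.Sequence.isWeaklyRegular_cons_iff]
      refine ⟨?_, ?_, RingTheory.Sequence.IsWeaklyRegular.nil _ _⟩
      · intro r r' h
        have h' : x * (r - r') = 0 := by
          simp only [smul_eq_mul] at h
          rw [mul_sub, h, sub_self]
        exact sub_eq_zero.mp (hx _ h')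
      · intro q q' h
        obtain ⟨r, rfl⟩ := Submodule.Quotient.mk_surjective _ q
        obtain ⟨r', rfl⟩ := Submodule.Quotient.mk_surjective _ q'
        simp only [← Submodule.Quotient.mk_smul] at h
        rw [Submodule.Quotient.eq, Submodule.mem_smul_pointwise_iff_exists] at h ⊢
        obtain ⟨s, -, hs⟩ := h
        have h1 : φ y * φ (r - r') = 0 := by
          rw [← map_mul, hφ, Ideal.Quotient.eq_zero_iff_mem, Ideal.mem_span_singleton']
          refine ⟨s, ?_⟩
          rw [mul_comm, ← smul_eq_mul x s, hs]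
          simp only [smul_eq_mul]
          ring
        have h2 : φ (r - r') = 0 := hybreg.left (by simpa using h1)
        rw [hφ, Ideal.Quotient.eq_zero_iff_mem, Ideal.mem_span_singleton'] at h2
        obtain ⟨s', hs'⟩ := h2
        exact ⟨s', trivial, by rw [smul_eq_mul, mul_comm]; exact hs'⟩
    have hmem : ∀ r ∈ [x, y], r ∈ J := by
      intro r hr
      simp only [List.mem_cons, List.not_mem_nil, or_false] at hr
      rcases hr with rfl | rfl
      · exact hxJ
      · exact hyJ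
    exact le_iSup₂_of_le [x, y] ⟨hreg, hmem⟩ (by simp)

theorem structure_of_depth [IsNoetherianRing R] (m : ℕ)
    (Ψ : Matrix (Fin (m + 1)) (Fin m) R) (π : (Fin (m + 1) → R) →ₗ[R] R)
    (hex : LinearMap.ker π = LinearMap.range Ψ.mulVecLin)
    (hdepth : 2 ≤ LocCoh.idealDepth (CAlgX.minorIdeal Ψ m) R)
    (v₀ : Fin (m + 1) → R) (ha₀ : π v₀ ∈ nonZeroDivisors R) :
    ∃ a : R, a ∈ nonZeroDivisors R ∧
      LinearMap.range π = Ideal.span {a} * CAlgX.minorIdeal Ψ m := by
  classical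
  set J := CAlgX.minorIdeal Ψ m with hJ
  obtain ⟨-, hker, hrange⟩ := H5HB.hilbert_burch_exact Ψ hdepth 1 (one_mem _)
  set Δ : (Fin (m + 1) → R) →ₗ[R] R := Fintype.linearCombination R
      (fun i : Fin (m + 1) => 1 * ((-1 : R) ^ (i : ℕ) * (Ψ.submatrix i.succAbove id).det)) with hΔ
  have hrange' : LinearMap.range Δ = J := by
    rw [hrange, Ideal.span_singleton_one, Ideal.top_mul]
  obtain ⟨x, hxJ, y, hyJ, hx, hy⟩ := H5HB.exists_regular_pair J hdepth
  -- the symmetry relation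
  have hsym : ∀ v w : Fin (m + 1) → R, Δ v * π w = Δ w * π v := by
    intro v w
    have hu : Δ v • w - Δ w • v ∈ LinearMap.ker Δ := by
      rw [LinearMap.mem_ker, map_sub, map_smul, map_smul, smul_eq_mul, smul_eq_mul, mul_comm,
        sub_self]
    rw [hker, ← hex, LinearMap.mem_ker, map_sub, map_smul, map_smul, smul_eq_mul, smul_eq_mul,
      sub_eq_zero] at hu
    exact hu
  have hxr : x ∈ LinearMap.range Δ := by rw [hrange']; exact hxJ
  have hyr : y ∈ LinearMap.range Δ := by rw [hrange']; exact hyJ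
  obtain ⟨vx, hvx⟩ := hxr
  obtain ⟨vy, hvy⟩ := hyr
  have h1 : y * π vx = x * π vy := by
    have := hsym vy vx
    rw [hvx, hvy] at this
    exact this
  obtain ⟨a, ha⟩ := hy _ _ h1
  have hπ : ∀ w, π w = a * Δ w := by
    intro w
    have := hsym vx w
    rw [hvx, ha] at this
    have h2 : x * (π w - a * Δ w) = 0 := by
      rw [mul_sub, this]; ring
    exact sub_eq_zero.mp (hx _ h2)
  refine ⟨a, ?_, ?_⟩
  · rw [mem_nonZeroDivisors_iff_right]
    intro c hc
    apply (mem_nonZeroDivisors_iff_right.mp ha₀) c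
    rw [hπ, ← mul_assoc, hc, zero_mul]
  · ext z
    rw [Ideal.mem_span_singleton_mul]
    constructor
    · rintro ⟨w, rfl⟩
      refine ⟨Δ w, ?_, (hπ w).symm⟩
      rw [← hrange']
      exact ⟨w, rfl⟩
    · rintro ⟨j, hj, rfl⟩
      rw [← hrange'] at hj
      obtain ⟨w, rfl⟩ := hj
      exact ⟨w, hπ w⟩

theorem main [IsNoetherianRing R] (m n : ℕ)
    (Ψ : Matrix (Fin n) (Fin m) R) (π : (Fin n → R) →ₗ[R] R)
    (hΨ : LinearMap.ker Ψ.mulVecLin = ⊥) (hex : LinearMap.ker π = LinearMap.range Ψ.mulVecLin)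
    (hI : LinearMap.range π ≠ ⊥) :
    n = m + 1 ∧
      (∃ a : R, a ∈ nonZeroDivisors R ∧
        LinearMap.range π = Ideal.span {a} * CAlgX.minorIdeal Ψ m) ∧
      2 ≤ LocCoh.idealDepth (CAlgX.minorIdeal Ψ m) R := by
  haveI : Nontrivial R := by
    by_contra h
    rw [not_nontrivial_iff_subsingleton] at h
    exact hI (Subsingleton.elim _ _)
  obtain ⟨v₀, hv₀⟩ := exists_nzd m n Ψ π hΨ hex hI
  have hn := eq_succ m n Ψ π hΨ hex v₀ hv₀
  subst hn
  have hdepth := depth_ge_two m (m + 1) Ψ π hΨ hex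
  exact ⟨rfl, structure_of_depth m Ψ π hex hdepth v₀ hv₀, hdepth⟩

end Groth.Agent.H6.HBurch
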