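import Mathlib
import Groth.Agent.Lib.Helper6.HilbBurch
import Groth.Agent.Lib.Helper1.AusBuchReg

/-! Hilbert–Burch for Cohen–Macaulay quotients of codimension two of a regular local ring. -/

set_option autoImplicit false
universe u
set_option linter.style.haveILetI false
open IsLocalRing CategoryTheory

namespace Groth.Agent.H6.HB2

variable {A : Type u} [CommRing A] [IsRegularLocalRing A] (I : Ideal A)

/-- `pd_A(A/I) ≤ 2` -/
theorem pd_quot_lt_three [LocCoh.IsCohenMacaulayLocalRing (A ⧸ I)]
    (hcodim : ringKrullDim (A ⧸ I) + 2 = ringKrullDim A) :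
    HasProjectiveDimensionLT (ModuleCat.of A (A ⧸ I)) 3 := by
  have hd : ringKrullDim A = ((maximalIdeal A).spanFinrank : ℕ) :=
    (IsRegularLocalRing.spanFinrank_maximalIdeal (R := A)).symm
  set d := (maximalIdeal A).spanFinrank with hdd
  obtain ⟨e, -, h1, h2⟩ := H1.AB.exists_pd d hd (A ⧸ I)
  have hab := H1.AB.auslander_buchsbaum (A ⧸ I) e h1 h2
  rw [H1.AB.depth_eq_of_isRegularLocalRing d hd] at hab
  have hsurj : Function.Surjective (algebraMap A (A ⧸ I)) := Ideal.Quotient.mk_surjective
  rw [H1.AB.depth_eq_of_surjective hsurj (A ⧸ I)] at hab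
  have hcm := LocCoh.IsCohenMacaulayLocalRing.supportDim_eq_depth (R := A ⧸ I)
  rw [Module.supportDim_self_eq_ringKrullDim] at hcm
  obtain ⟨t, ht, -⟩ := H6.Depth.exists_depth_eq (R := A ⧸ I) (A ⧸ I)
  rw [ht] at hab hcm
  rw [hcm, hd] at hcodim
  have h3 : t + 2 = d := by
    have h5 : (((t + 2 : ℕ) : ℕ∞) : WithBot ℕ∞) = (((d : ℕ) : ℕ∞) : WithBot ℕ∞) := by
      push_cast
      exact hcodim
    exact_mod_cast h5
  have h4 : d = e + t := by exact_mod_cast hab
  have he : e = 2 := by omega
  subst he
  exact h1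

theorem ne_bot_of_codim (hcodim : ringKrullDim (A ⧸ I) + 2 = ringKrullDim A) : I ≠ ⊥ := by
  rintro rfl
  have hd : ringKrullDim A = ((maximalIdeal A).spanFinrank : ℕ) :=
    (IsRegularLocalRing.spanFinrank_maximalIdeal (R := A)).symm
  rw [ringKrullDim_eq_of_ringEquiv (RingEquiv.quotientBot A), hd] at hcodim
  have : (maximalIdeal A).spanFinrank + 2 = (maximalIdeal A).spanFinrank := by exact_mod_cast hcodim
  omega


omit [IsRegularLocalRing A] in
theorem pdLT_ker {M N : Type u} [AddCommGroup M] [Module A M] [AddCommGroup N] [Module A N]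
    (g : M →ₗ[A] N) (hg : Function.Surjective g) (n : ℕ)
    (hM : HasProjectiveDimensionLT (ModuleCat.of A M) n)
    (hN : HasProjectiveDimensionLT (ModuleCat.of A N) (n + 1)) :
    HasProjectiveDimensionLT (ModuleCat.of A (LinearMap.ker g)) n := by
  let S := ModuleCat.shortComplexOfCompEqZero (LinearMap.ker g).subtype g
    (LinearMap.ext fun x => x.2)
  have hS : S.ShortExact := by
    refine ModuleCat.shortComplex_shortExact S ?_ (Submodule.injective_subtype _) hg
    exact LinearMap.exact_subtype_ker_map g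
  exact hS.hasProjectiveDimensionLT_X₁ n hM hN

/-- the kernel of a surjection from a finite free module onto `I` is free -/
theorem free_ker [LocCoh.IsCohenMacaulayLocalRing (A ⧸ I)]
    (hcodim : ringKrullDim (A ⧸ I) + 2 = ringKrullDim A) {n : ℕ}
    (π : (Fin n → A) →ₗ[A] A) (hπ : LinearMap.range π = I) :
    Module.Free A (LinearMap.ker π) := by
  have h3 := pd_quot_lt_three I hcodim
  -- pd I < 2
  have hA : HasProjectiveDimensionLT (ModuleCat.of A A) 2 := by
    haveI : Projective (ModuleCat.of A A) :=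
      (IsProjective.iff_projective (R := A) (P := A)).mp inferInstance
    haveI : HasProjectiveDimensionLT (ModuleCat.of A A) 1 :=
      projective_iff_hasProjectiveDimensionLT_one.mp inferInstance
    exact hasProjectiveDimensionLT_of_ge _ 1 2 (by norm_num)
  have hI' := pdLT_ker (Submodule.mkQ I) (Submodule.mkQ_surjective I) 2 hA h3
  have hI : HasProjectiveDimensionLT (ModuleCat.of A I) 2 :=
    hasProjectiveDimensionLT_of_iso
      (LinearEquiv.ofEq _ _ (Submodule.ker_mkQ I)).toModuleIso 2
  -- pd K < 1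
  let π' : (Fin n → A) →ₗ[A] I := π.codRestrict I (fun v => by rw [← hπ]; exact ⟨v, rfl⟩)
  have hπ' : Function.Surjective π' := by
    rintro ⟨x, hx⟩
    rw [← hπ] at hx
    obtain ⟨v, rfl⟩ := hx
    exact ⟨v, rfl⟩
  have hF : HasProjectiveDimensionLT (ModuleCat.of A (Fin n → A)) 1 := by
    haveI : Projective (ModuleCat.of A (Fin n → A)) :=
      (IsProjective.iff_projective (R := A) (P := Fin n → A)).mp inferInstance
    exact projective_iff_hasProjectiveDimensionLT_one.mp inferInstance
  have hK' := pdLT_ker π' hπ' 1 hF hI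
  have hker : LinearMap.ker π' = LinearMap.ker π := LinearMap.ker_codRestrict _ _ _
  have hK : HasProjectiveDimensionLT (ModuleCat.of A (LinearMap.ker π)) 1 :=
    hasProjectiveDimensionLT_of_iso (LinearEquiv.ofEq _ _ hker).toModuleIso 1
  have hP : Projective (ModuleCat.of A (LinearMap.ker π)) :=
    projective_iff_hasProjectiveDimensionLT_one.mpr hK
  haveI : Module.Projective A (LinearMap.ker π) :=
    (IsProjective.iff_projective (R := A) (P := LinearMap.ker π)).mpr hP
  exact Module.free_of_flat_of_isLocalRing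

end Groth.Agent.H6.HB2
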