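import Mathlib
import Groth.Agent.Lib.Helper6.HB2

set_option autoImplicit false
universe u
set_option linter.style.haveILetI false
open IsLocalRing CategoryTheory

namespace Groth.Agent.H6.HB2

variable {A : Type u} [CommRing A] [IsRegularLocalRing A] (I : Ideal A)

/-- a non-zero-divisor `a` with `I ≤ (a)` is a unit when `dim A/I + 2 = dim A` -/
theorem isUnit_of_le_span (hcodim : ringKrullDim (A ⧸ I) + 2 = ringKrullDim A) (a : A)
    (hle : I ≤ Ideal.span {a}) : IsUnit a := by
  by_contra hna
  have ham : a ∈ maximalIdeal A := hna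
  have hd : ringKrullDim A = ((maximalIdeal A).spanFinrank : ℕ) :=
    (IsRegularLocalRing.spanFinrank_maximalIdeal (R := A)).symm
  have h1 : ringKrullDim A ≤ ringKrullDim (A ⧸ Ideal.span {a}) + (Ideal.span {a}).spanFinrank := by
    apply ringKrullDim_le_ringKrullDim_quotient_add_spanFinrank
    rw [IsLocalRing.ringJacobson_eq_maximalIdeal, Ideal.span_singleton_le_iff_mem]
    exact ham
  have h2 : ringKrullDim (A ⧸ Ideal.span {a}) ≤ ringKrullDim (A ⧸ I) :=
    ringKrullDim_le_of_surjective (Ideal.Quotient.factor hle) (Ideal.Quotient.factor_surjective hle)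
  have h3 : (Ideal.span {a}).spanFinrank ≤ 1 := by
    have := Submodule.spanFinrank_span_le_ncard_of_finite (R := A) (Set.finite_singleton a)
    simpa using this
  -- finite dimension bookkeeping
  obtain ⟨t, ht⟩ : ∃ t : ℕ, ringKrullDim (A ⧸ I) = t := by
    have hle' : ringKrullDim (A ⧸ I) ≤ ringKrullDim A := ringKrullDim_quotient_le I
    have hne : ringKrullDim (A ⧸ I) ≠ ⊥ := by
      intro h
      rw [h, WithBot.bot_add] at hcodim
      rw [hd] at hcodim
      exact WithBot.bot_ne_coe hcodim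
    rw [hd] at hle'
    obtain ⟨x, hx⟩ := WithBot.ne_bot_iff_exists.mp hne
    rw [← hx] at hle'
    have hx' : x ≤ ((maximalIdeal A).spanFinrank : ℕ∞) := by exact_mod_cast hle'
    obtain ⟨t, rfl⟩ := ENat.ne_top_iff_exists.mp (ne_top_of_le_ne_top (ENat.natCast_ne_top _) hx')
    exact ⟨t, hx.symm⟩
  rw [ht, hd] at hcodim
  have h4 : t + 2 = (maximalIdeal A).spanFinrank := by
    have h5 : (((t + 2 : ℕ) : ℕ∞) : WithBot ℕ∞) =
        ((((maximalIdeal A).spanFinrank : ℕ) : ℕ∞) : WithBot ℕ∞) := by
      push_cast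
      exact hcodim
    exact_mod_cast h5
  have h6 : ringKrullDim A ≤ ((t + 1 : ℕ) : WithBot ℕ∞) := by
    refine le_trans h1 ?_
    rw [ht] at h2
    calc ringKrullDim (A ⧸ Ideal.span {a}) + ((Ideal.span {a}).spanFinrank : WithBot ℕ∞)
        ≤ (t : WithBot ℕ∞) + ((1 : ℕ) : WithBot ℕ∞) := by
          gcongr
      _ = ((t + 1 : ℕ) : WithBot ℕ∞) := by push_cast; rfl
  rw [hd] at h6
  have h7 : (maximalIdeal A).spanFinrank ≤ t + 1 := by exact_mod_cast h6
  omega


theorem main_aux (hcodim : ringKrullDim (A ⧸ I) + 2 = ringKrullDim A) (n m : ℕ)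
    (Ψ : Matrix (Fin n) (Fin m) A) (g : Fin n → A)
    (hΨker : LinearMap.ker Ψ.mulVecLin = ⊥)
    (hex : LinearMap.ker (Fintype.linearCombination A g) = LinearMap.range Ψ.mulVecLin)
    (hπ : LinearMap.range (Fintype.linearCombination A g) = I) (hn : n = I.spanFinrank) :
    ∃ (r : ℕ) (φ : Matrix (Fin (r + 1)) (Fin r) A),
      Ideal.span (Set.range (fun i : Fin (r + 1) =>
        (-1 : A) ^ (i : ℕ) * (φ.submatrix i.succAbove id).det)) = I ∧
      I.spanFinrank = r + 1 ∧
      Function.Injective φ.mulVecLin ∧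
      LinearMap.range φ.mulVecLin =
        LinearMap.ker (Fintype.linearCombination A (fun i : Fin (r + 1) =>
          (-1 : A) ^ (i : ℕ) * (φ.submatrix i.succAbove id).det)) := by
  have hI0 : LinearMap.range (Fintype.linearCombination A g) ≠ ⊥ := by
    rw [hπ]; exact ne_bot_of_codim I hcodim
  obtain ⟨hnm, ⟨a, ha, hrange⟩, hdepth⟩ :=
    HBurch.main m n Ψ (Fintype.linearCombination A g) hΨker hex hI0
  subst hnm
  have hau : IsUnit a := by
    apply isUnit_of_le_span I hcodim a
    rw [← hπ, hrange]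
    exact Ideal.mul_le_left
  obtain ⟨-, hker, hrange'⟩ := H5HB.hilbert_burch_exact Ψ hdepth 1 (one_mem _)
  simp only [one_mul] at hker hrange'
  have hIminor : CAlgX.minorIdeal Ψ m = I := by
    rw [← hπ, hrange, Ideal.span_singleton_eq_top.mpr hau, Ideal.top_mul]
  refine ⟨m, Ψ, ?_, hn.symm, LinearMap.ker_eq_bot.mp hΨker, hker.symm⟩
  have h1 := Fintype.range_linearCombination A
    (fun i : Fin (m + 1) => (-1 : A) ^ (i : ℕ) * (Ψ.submatrix i.succAbove id).det)
  rw [hrange', Ideal.span_singleton_one, Ideal.top_mul, hIminor] at h1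
  exact h1.symm

/-- **S11449**: Hilbert–Burch for a Cohen–Macaulay quotient of codimension two. -/
theorem main [LocCoh.IsCohenMacaulayLocalRing (A ⧸ I)]
    (hcodim : ringKrullDim (A ⧸ I) + 2 = ringKrullDim A) :
    ∃ (r : ℕ) (φ : Matrix (Fin (r + 1)) (Fin r) A),
      Ideal.span (Set.range (fun i : Fin (r + 1) =>
        (-1 : A) ^ (i : ℕ) * (φ.submatrix i.succAbove id).det)) = I ∧
      I.spanFinrank = r + 1 ∧
      Function.Injective φ.mulVecLin ∧
      LinearMap.range φ.mulVecLin =
        LinearMap.ker (Fintype.linearCombination A (fun i : Fin (r + 1) =>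
          (-1 : A) ^ (i : ℕ) * (φ.submatrix i.succAbove id).det)) := by
  classical
  -- minimal generators
  obtain ⟨s, hs1, hs2⟩ := Submodule.FG.exists_span_finset_card_eq_spanFinrank
    (IsNoetherian.noetherian I)
  obtain ⟨n, hn⟩ : ∃ n : ℕ, n = s.card := ⟨_, rfl⟩
  let e : Fin n ≃ s := (Fin.castOrderIso hn).toEquiv.trans s.equivFin.symm
  let g : Fin n → A := fun i => (e i : A)
  have hg : Set.range g = (s : Set A) := by
    ext x
    constructor
    · rintro ⟨i, rfl⟩
      exact (e i).2
    · intro hx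
      exact ⟨e.symm ⟨x, hx⟩, by simp [g]⟩
  let π : (Fin n → A) →ₗ[A] A := Fintype.linearCombination A g
  have hπ : LinearMap.range π = I := by
    rw [Fintype.range_linearCombination, hg]
    exact hs2
  haveI := free_ker I hcodim π hπ
  set K := LinearMap.ker π with hK
  let m := Module.finrank A K
  let b : Module.Basis (Fin m) A K := Module.finBasis A K
  let Ψ : Matrix (Fin n) (Fin m) A := Matrix.of fun i j => (b j : Fin n → A) i
  have hΨ : Ψ.mulVecLin = K.subtype ∘ₗ b.equivFun.symm.toLinearMap := by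
    refine LinearMap.ext fun v => ?_
    funext i
    rw [Matrix.mulVecLin_apply, Matrix.mulVec, LinearMap.comp_apply, LinearEquiv.coe_coe,
      Module.Basis.equivFun_symm_apply, Submodule.subtype_apply, Submodule.coe_sum, Finset.sum_apply]
    unfold dotProduct
    refine Finset.sum_congr rfl fun j _ => ?_
    rw [Submodule.coe_smul, Pi.smul_apply, smul_eq_mul, mul_comm]
    rfl
  have hΨker : LinearMap.ker Ψ.mulVecLin = ⊥ := by
    rw [hΨ, LinearMap.ker_eq_bot]
    exact (Submodule.injective_subtype K).comp b.equivFun.symm.injective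
  have hΨrange : LinearMap.range Ψ.mulVecLin = K := by
    rw [hΨ, LinearMap.range_comp, LinearEquiv.range, Submodule.map_top, Submodule.range_subtype]
  exact main_aux I hcodim n m Ψ g hΨker hΨrange.symm hπ (hn.trans hs1)

end Groth.Agent.H6.HB2
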