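import Mathlib
import Groth.Agent.Lib.Helper6.GorDual
import Groth.Agent.Lib.Helper6.GrLD3
import Groth.Agent.Lib.Helper6.HB3
import Groth.Agent.Lib.Helper1.RegGlobal
import Groth.Agent.Lib.Helper2.TenCM1

/-!
# `Ext^n(M, R/J)` for finite length `M` over a Gorenstein local ring, and
# `ℓ Hom(I, R/J) + ℓ(R/(I:J)) = ℓ(R/J) + ℓ(R/I)` over a regular local ring of dimension two

* `Dmap C n f` : the contravariant action of a linear map on `Ext^n(-, C)`.
* `ker_Dmap_torsion` : for an exact "duality" `Ext^n(-, C)` on finite length modules, the kernel of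
  `Ext^n(M, C) → Ext^n(M[J], C)` is `J • Ext^n(M, C)`.
* `postcomp_quot` : `Ext^n(M, R/J) = Ext^n(M, R) / J` when `Ext^{n+1}(M, -) = 0`.
* `length_ext_quot` : `ℓ Ext^n(M, R/J) = ℓ (0 :_M J)` over a Gorenstein local ring of dimension `n`.
* `main` : S13444.
-/

set_option autoImplicit false
universe u
open CategoryTheory CategoryTheory.Abelian

namespace Groth.Agent.H6.ExtDualF

variable {R : Type u} [CommRing R]

section Dmap

variable (C : ModuleCat.{u} R) (n : ℕ)
variable {M N P : Type u} [AddCommGroup M] [Module R M] [AddCommGroup N] [Module R N]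
  [AddCommGroup P] [Module R P]

/-- the contravariant action of a linear map on `Ext^n(-, C)` -/
noncomputable def Dmap (f : M →ₗ[R] N) :
    Ext.{u} (ModuleCat.of R N) C n →ₗ[R] Ext.{u} (ModuleCat.of R M) C n :=
  (Ext.mk₀ (ModuleCat.ofHom f)).precompOfLinear R C (zero_add n)

theorem Dmap_apply (f : M →ₗ[R] N) (x : Ext.{u} (ModuleCat.of R N) C n) :
    Dmap C n f x = (Ext.mk₀ (ModuleCat.ofHom f)).comp x (zero_add n) := rfl

theorem Dmap_comp (f : M →ₗ[R] N) (g : N →ₗ[R] P) :
    Dmap C n (g ∘ₗ f) = (Dmap C n f) ∘ₗ (Dmap C n g) := by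
  apply LinearMap.ext
  intro x
  rw [LinearMap.comp_apply]
  simp only [Dmap_apply]
  rw [Ext.mk₀_comp_mk₀_assoc]
  rfl

theorem Dmap_zero : Dmap C n (0 : M →ₗ[R] N) = 0 := by
  apply LinearMap.ext
  intro x
  rw [Dmap_apply]
  have : ModuleCat.ofHom (0 : M →ₗ[R] N) = 0 := rfl
  rw [this, Ext.mk₀_zero, Ext.zero_comp]
  rfl

theorem Dmap_id : Dmap C n (LinearMap.id : M →ₗ[R] M) = LinearMap.id := by
  apply LinearMap.ext
  intro x
  rw [Dmap_apply]
  have : ModuleCat.ofHom (LinearMap.id : M →ₗ[R] M) = 𝟙 _ := rfl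
  rw [this, Ext.mk₀_id_comp]
  rfl

theorem Dmap_smul_id (a : R) :
    Dmap C n (a • (LinearMap.id : M →ₗ[R] M)) = a • LinearMap.id := by
  apply LinearMap.ext
  intro x
  rw [Dmap_apply]
  have : ModuleCat.ofHom (a • (LinearMap.id : M →ₗ[R] M)) = a • 𝟙 (ModuleCat.of R M) := rfl
  rw [this, Ext.mk₀_smul, Ext.smul_comp, Ext.mk₀_id_comp]
  rfl

/-- an element killing `M` kills `Ext^n(M, C)` -/
theorem smul_eq_zero_of_smul_id_eq_zero (a : R) (h : a • (LinearMap.id : M →ₗ[R] M) = 0)
    (y : Ext.{u} (ModuleCat.of R M) C n) : a • y = 0 := by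
  have h1 : Dmap C n (a • (LinearMap.id : M →ₗ[R] M)) y = a • y := by
    rw [Dmap_smul_id]; rfl
  rw [← h1, h, Dmap_zero]; rfl

section SES

variable {Z F : Type u} [AddCommGroup Z] [Module R Z] [AddCommGroup F] [Module R F]
  (j : Z →ₗ[R] F) (π : F →ₗ[R] N) (hj : Function.Injective j) (hπ : Function.Surjective π)
  (hex : ∀ y, π y = 0 ↔ ∃ x, j x = y)

include hj hπ hex

/-- `Ext^n(F, C) → Ext^n(Z, C)` is onto when `Ext^{n+1}(N, C) = 0` -/
theorem Dmap_surjective (hvan : Subsingleton (Ext.{u} (ModuleCat.of R N) C (n + 1))) :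
    Function.Surjective (Dmap C n j) := by
  obtain ⟨w, hS⟩ := GrLD.shortExact_of_exact j π hj hπ hex
  intro x₁
  obtain ⟨x₂, hx₂⟩ := Ext.contravariant_sequence_exact₁ hS C x₁ (n₁ := n + 1) (add_comm 1 n)
    (@Subsingleton.elim _ hvan _ _)
  exact ⟨x₂, hx₂⟩

/-- exactness of `Ext^n(N, C) → Ext^n(F, C) → Ext^n(Z, C)` -/
theorem Dmap_ker_eq_range :
    LinearMap.ker (Dmap C n j) = LinearMap.range (Dmap C n π) := by
  obtain ⟨w, hS⟩ := GrLD.shortExact_of_exact j π hj hπ hex
  apply le_antisymm
  · intro x hx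
    rw [LinearMap.mem_ker, Dmap_apply] at hx
    obtain ⟨x₃, hx₃⟩ := Ext.contravariant_sequence_exact₂ hS C x hx
    exact ⟨x₃, hx₃⟩
  · rintro _ ⟨x, rfl⟩
    rw [LinearMap.mem_ker, ← LinearMap.comp_apply, ← Dmap_comp]
    have : π ∘ₗ j = 0 := by
      apply LinearMap.ext
      intro z
      exact (hex (j z)).mpr ⟨z, rfl⟩
    rw [this, Dmap_zero]
    rfl

end SES

/-- `Ext^{n+1}(-, C)` vanishes on finite length modules -/
def VanishAbove (C : ModuleCat.{u} R) (n : ℕ) : Prop :=
  ∀ (T : Type u) [AddCommGroup T] [Module R T], IsFiniteLength R T →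
    Subsingleton (Ext.{u} (ModuleCat.of R T) C (n + 1))

variable {C n}

/-- the case of one element -/
theorem single (hV : VanishAbove C n) (hM : IsFiniteLength R M) (a : R)
    {M' : Type u} [AddCommGroup M'] [Module R M'] (ι : M' →ₗ[R] M) (hι : Function.Injective ι)
    (hrange : ∀ y : M, a • y = 0 ↔ ∃ x, ι x = y) :
    Function.Surjective (Dmap C n ι) ∧
      LinearMap.ker (Dmap C n ι) =
        LinearMap.range (a • (LinearMap.id :
          Ext.{u} (ModuleCat.of R M) C n →ₗ[R] Ext.{u} (ModuleCat.of R M) C n)) := by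
  set f : M →ₗ[R] M := a • LinearMap.id with hf
  have hfa : ∀ y, f y = a • y := fun y => rfl
  have hf'surj : Function.Surjective f.rangeRestrict := LinearMap.surjective_rangeRestrict f
  have hex1 : ∀ y, f.rangeRestrict y = 0 ↔ ∃ x, ι x = y := by
    intro y
    rw [← hrange y, ← hfa y]
    constructor
    · intro h; exact congrArg Subtype.val h
    · intro h; exact Subtype.ext h
  have hfl1 : IsFiniteLength R (LinearMap.range f) :=
    hM.of_injective (f := (LinearMap.range f).subtype) (Submodule.subtype_injective _)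
  have hfl2 : IsFiniteLength R (M ⧸ LinearMap.range f) :=
    hM.of_surjective (f := (LinearMap.range f).mkQ) (Submodule.mkQ_surjective _)
  have hsurj1 := Dmap_surjective C n ι f.rangeRestrict hι hf'surj hex1 (hV _ hfl1)
  have hker1 := Dmap_ker_eq_range C n ι f.rangeRestrict hι hf'surj hex1
  have hex2 : ∀ y, (LinearMap.range f).mkQ y = 0 ↔ ∃ x, (LinearMap.range f).subtype x = y := by
    intro y
    rw [Submodule.mkQ_apply, Submodule.Quotient.mk_eq_zero]
    constructor
    · intro h; exact ⟨⟨y, h⟩, rfl⟩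
    · rintro ⟨x, rfl⟩; exact x.2
  have hsurj2 := Dmap_surjective C n (LinearMap.range f).subtype (LinearMap.range f).mkQ
    (Submodule.subtype_injective _) (Submodule.mkQ_surjective _) hex2 (hV _ hfl2)
  refine ⟨hsurj1, ?_⟩
  rw [hker1]
  have hcomp : (LinearMap.range f).subtype ∘ₗ f.rangeRestrict = f := rfl
  have h3 : Dmap C n f = Dmap C n f.rangeRestrict ∘ₗ Dmap C n (LinearMap.range f).subtype := by
    rw [← Dmap_comp, hcomp]
  rw [← Dmap_smul_id C n (M := M) a, ← hf, h3,
    LinearMap.range_comp_of_range_eq_top _ (LinearMap.range_eq_top.mpr hsurj2)]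

variable (C n) in
/-- `J • Ext^n(M, C)` dies in `Ext^n(M', C)` when `M'` is killed by `J` -/
theorem smul_top_le_ker (J : Ideal R) {M' : Type u} [AddCommGroup M'] [Module R M']
    (ι : M' →ₗ[R] M) (hι : Function.Injective ι)
    (hle : ∀ x, ι x ∈ Submodule.torsionBySet R M (J : Set R)) :
    J • (⊤ : Submodule R (Ext.{u} (ModuleCat.of R M) C n)) ≤ LinearMap.ker (Dmap C n ι) := by
  rw [Submodule.smul_le]
  intro a ha x _
  rw [LinearMap.mem_ker, map_smul]
  apply smul_eq_zero_of_smul_id_eq_zero
  apply LinearMap.ext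
  intro z
  apply hι
  rw [LinearMap.smul_apply, LinearMap.id_apply, map_smul, LinearMap.zero_apply, map_zero]
  exact (Submodule.mem_torsionBySet_iff _ _).mp (hle z) ⟨a, ha⟩

/-- **the kernel of `Ext^n(M, C) → Ext^n(M[J], C)` is `J • Ext^n(M, C)`** (finite set version) -/
theorem ker_Dmap_torsion (hV : VanishAbove C n) (s : Finset R) :
    ∀ (M M' : Type u) [AddCommGroup M] [Module R M] [AddCommGroup M'] [Module R M'],
      IsFiniteLength R M → ∀ (ι : M' →ₗ[R] M), Function.Injective ι →
      LinearMap.range ι = Submodule.torsionBySet R M (s : Set R) →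
      Function.Surjective (Dmap C n ι) ∧
        LinearMap.ker (Dmap C n ι) =
          Ideal.span (s : Set R) • (⊤ : Submodule R (Ext.{u} (ModuleCat.of R M) C n)) := by
  classical
  induction s using Finset.induction_on with
  | empty =>
    intro M M' _ _ _ _ hM ι hι hrange
    have hsurjι : Function.Surjective ι := by
      rw [← LinearMap.range_eq_top, hrange]
      ext x
      simp [Submodule.mem_torsionBySet_iff]
    let e : M' ≃ₗ[R] M := LinearEquiv.ofBijective ι ⟨hι, hsurjι⟩
    have h1 : Dmap C n ι ∘ₗ Dmap C n e.symm.toLinearMap = LinearMap.id := by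
      rw [← Dmap_comp, ← Dmap_id C n]
      congr 1
      apply LinearMap.ext
      intro x
      exact e.symm_apply_apply x
    have h2 : Dmap C n e.symm.toLinearMap ∘ₗ Dmap C n ι = LinearMap.id := by
      rw [← Dmap_comp, ← Dmap_id C n]
      congr 1
      apply LinearMap.ext
      intro x
      exact e.apply_symm_apply x
    refine ⟨fun y => ⟨Dmap C n e.symm.toLinearMap y, LinearMap.congr_fun h1 y⟩, ?_⟩
    rw [Finset.coe_empty, Ideal.span_empty, Submodule.bot_smul]
    apply LinearMap.ker_eq_bot_of_injective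
    intro x y hxy
    have := congrArg (Dmap C n e.symm.toLinearMap) hxy
    rw [← LinearMap.comp_apply, ← LinearMap.comp_apply, h2] at this
    exact this
  | insert a s ha ih =>
    intro M M' _ _ _ _ hM ι hι hrange
    set P : Submodule R M := Submodule.torsionBySet R M (s : Set R) with hP
    have hflP : IsFiniteLength R P :=
      hM.of_injective (f := P.subtype) (Submodule.subtype_injective _)
    obtain ⟨hsP, hkP⟩ := ih M P hM P.subtype (Submodule.subtype_injective _)
      (Submodule.range_subtype _)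
    have hmemT : ∀ x, ι x ∈ Submodule.torsionBySet R M ((insert a s : Finset R) : Set R) := by
      intro x
      rw [← hrange]; exact LinearMap.mem_range_self _ _
    have hmemP : ∀ x, ι x ∈ P := by
      intro x
      have hx := hmemT x
      rw [hP, Submodule.mem_torsionBySet_iff]
      rw [Submodule.mem_torsionBySet_iff] at hx
      intro b
      exact hx ⟨b.1, by
        rw [Finset.coe_insert]; exact Set.mem_insert_of_mem _ b.2⟩
    set ι' : M' →ₗ[R] P := LinearMap.codRestrict P ι hmemP with hι'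
    have hι'inj : Function.Injective ι' := fun x y h => hι (congrArg Subtype.val h)
    have hcomp : P.subtype ∘ₗ ι' = ι := rfl
    have hrange' : ∀ y : P, a • y = 0 ↔ ∃ x, ι' x = y := by
      intro y
      constructor
      · intro hy
        have hyM : (y : M) ∈ LinearMap.range ι := by
          rw [hrange, Submodule.mem_torsionBySet_iff]
          rintro ⟨b, hb⟩
          rw [Finset.coe_insert, Set.mem_insert_iff] at hb
          rcases hb with rfl | hb
          · have := congrArg Subtype.val hy
            exact this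
          · exact (Submodule.mem_torsionBySet_iff _ _).mp y.2 ⟨b, hb⟩
        obtain ⟨x, hx⟩ := hyM
        exact ⟨x, Subtype.ext hx⟩
      · rintro ⟨x, rfl⟩
        apply Subtype.ext
        have := (Submodule.mem_torsionBySet_iff _ _).mp (hmemT x)
          ⟨a, by rw [Finset.coe_insert]; exact Set.mem_insert _ _⟩
        exact this
    obtain ⟨hs', hk'⟩ := single hV hflP a ι' hι'inj hrange'
    have hD : Dmap C n ι = Dmap C n ι' ∘ₗ Dmap C n P.subtype := by
      rw [← Dmap_comp, hcomp]
    refine ⟨?_, ?_⟩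
    · rw [hD, LinearMap.coe_comp]; exact hs'.comp hsP
    apply le_antisymm
    · intro x hx
      rw [LinearMap.mem_ker, hD, LinearMap.comp_apply] at hx
      have hx' : Dmap C n P.subtype x ∈ LinearMap.ker (Dmap C n ι') := hx
      rw [hk'] at hx'
      obtain ⟨z, hz⟩ := hx'
      obtain ⟨w, rfl⟩ := hsP z
      have hz' : Dmap C n P.subtype (x - a • w) = 0 := by
        rw [map_sub, map_smul, sub_eq_zero]
        exact hz.symm
      have h4 : x - a • w ∈ Ideal.span (s : Set R) •
          (⊤ : Submodule R (Ext.{u} (ModuleCat.of R M) C n)) := by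
        rw [← hkP]; exact hz'
      have h5 : x = (x - a • w) + a • w := by abel
      rw [h5]
      apply Submodule.add_mem
      · refine Submodule.smul_mono_left (Ideal.span_mono ?_) h4
        rw [Finset.coe_insert]; exact Set.subset_insert _ _
      · refine Submodule.smul_mem_smul (Ideal.subset_span ?_) Submodule.mem_top
        rw [Finset.coe_insert]; exact Set.mem_insert _ _
    · apply smul_top_le_ker C n _ ι hι
      intro x
      rw [← Submodule.torsionBySet_eq_torsionBySet_span]
      exact hmemT x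

end Dmap

section Covariant

/-- **`Ext^n(M, R/J) = Ext^n(M, R) / J`** when `Ext^{n+1}(M, -) = 0` -/
theorem postcomp_quot (M : Type u) [AddCommGroup M] [Module R M] (n : ℕ)
    (hM : ∀ Y : ModuleCat.{u} R, Subsingleton (Ext.{u} (ModuleCat.of R M) Y (n + 1)))
    (J : Ideal R) (hJ : J.FG) :
    Function.Surjective ((Ext.mk₀ (ModuleCat.ofHom (Submodule.mkQ J))).postcompOfLinear R
        (ModuleCat.of R M) (add_zero n)) ∧
      LinearMap.ker ((Ext.mk₀ (ModuleCat.ofHom (Submodule.mkQ J))).postcompOfLinear R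
        (ModuleCat.of R M) (add_zero n)) =
        J • (⊤ : Submodule R (Ext.{u} (ModuleCat.of R M) (ModuleCat.of R R) n)) := by
  classical
  have hcapp : ∀ x : Ext.{u} (ModuleCat.of R M) (ModuleCat.of R R) n,
      ((Ext.mk₀ (ModuleCat.ofHom (Submodule.mkQ J))).postcompOfLinear R
        (ModuleCat.of R M) (add_zero n)) x =
      x.comp (Ext.mk₀ (ModuleCat.ofHom (Submodule.mkQ J))) (add_zero n) := fun x => rfl
  have hexJ : ∀ y : R, (Submodule.mkQ J) y = 0 ↔ ∃ x : J, J.subtype x = y := by
    intro y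
    rw [Submodule.mkQ_apply, Submodule.Quotient.mk_eq_zero]
    exact ⟨fun h => ⟨⟨y, h⟩, rfl⟩, by rintro ⟨x, rfl⟩; exact x.2⟩
  obtain ⟨w, hS⟩ := GrLD.shortExact_of_exact J.subtype (Submodule.mkQ J)
    (Submodule.subtype_injective _) (Submodule.mkQ_surjective _) hexJ
  refine ⟨?_, ?_⟩
  · intro x₃
    obtain ⟨x₂, hx₂⟩ := Ext.covariant_sequence_exact₃ (ModuleCat.of R M) hS x₃
      (rfl : n + 1 = n + 1) (@Subsingleton.elim _ (hM _) _ _)
    exact ⟨x₂, hx₂⟩
  · apply le_antisymm
    · intro x hx
      rw [LinearMap.mem_ker, hcapp] at hx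
      obtain ⟨x₁, hx₁⟩ := Ext.covariant_sequence_exact₂ (ModuleCat.of R M) hS x hx
      obtain ⟨s, hs⟩ := hJ
      have hs' : Ideal.span (s : Set R) = J := hs
      let v : s → R := fun i => i.1
      let p' : (s → R) →ₗ[R] R := Fintype.linearCombination R v
      have hp'range : LinearMap.range p' = J := by
        rw [Fintype.range_linearCombination, ← hs']
        congr 1
        ext y
        simp [v]
      have hp'mem : ∀ f, p' f ∈ J := by
        intro f
        rw [← hp'range]; exact LinearMap.mem_range_self p' f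
      let p : (s → R) →ₗ[R] J := LinearMap.codRestrict J p' hp'mem
      have hpsurj : Function.Surjective p := by
        intro y
        have : (y : R) ∈ LinearMap.range p' := by rw [hp'range]; exact y.2
        obtain ⟨f, hf⟩ := this
        exact ⟨f, Subtype.ext hf⟩
      have hexK : ∀ y, p y = 0 ↔ ∃ x : LinearMap.ker p, (LinearMap.ker p).subtype x = y := by
        intro y
        exact ⟨fun h => ⟨⟨y, h⟩, rfl⟩, by rintro ⟨x, rfl⟩; exact x.2⟩
      obtain ⟨wK, hSK⟩ := GrLD.shortExact_of_exact (LinearMap.ker p).subtype p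
        (Submodule.subtype_injective _) hpsurj hexK
      obtain ⟨z, hz⟩ := Ext.covariant_sequence_exact₃ (ModuleCat.of R M) hSK x₁
        (rfl : n + 1 = n + 1) (@Subsingleton.elim _ (hM _) _ _)
      have hx : x = z.comp (Ext.mk₀ (ModuleCat.ofHom p')) (add_zero n) := by
        rw [← hx₁, ← hz, Ext.comp_assoc_of_third_deg_zero, Ext.mk₀_comp_mk₀]
        rfl
      let Φ : ((s → R) →ₗ[R] R) →ₗ[R] Ext.{u} (ModuleCat.of R M) (ModuleCat.of R R) n :=
        (Ext.bilinearCompOfLinear R (ModuleCat.of R M) (ModuleCat.of R (s → R))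
          (ModuleCat.of R R) n 0 n (add_zero n) z) ∘ₗ
          ((Ext.linearEquiv₀ (R := R)).trans ModuleCat.homLinearEquiv).symm.toLinearMap
      have hΦ : ∀ g, Φ g = z.comp (Ext.mk₀ (ModuleCat.ofHom g)) (add_zero n) := fun g => rfl
      have hp'sum : p' = ∑ i : s, (i.1 : R) • (LinearMap.proj i : (s → R) →ₗ[R] R) := by
        apply LinearMap.ext
        intro f
        simp [p', v, Fintype.linearCombination_apply, LinearMap.sum_apply, mul_comm]
      rw [hx, ← hΦ, hp'sum, map_sum]
      apply Submodule.sum_mem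
      intro i _
      rw [map_smul]
      refine Submodule.smul_mem_smul ?_ Submodule.mem_top
      rw [← hs']
      exact Ideal.subset_span i.2
    · rw [Submodule.smul_le]
      intro a ha x _
      rw [LinearMap.mem_ker, map_smul, Ext.smul_eq_comp_mk₀]
      have h0 : a • 𝟙 (ModuleCat.of R (R ⧸ J)) = 0 := by
        apply ModuleCat.hom_ext
        apply LinearMap.ext
        intro y
        obtain ⟨r, rfl⟩ := Submodule.Quotient.mk_surjective J y
        change a • (Submodule.Quotient.mk r : R ⧸ J) = 0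
        rw [← Submodule.Quotient.mk_smul, Submodule.Quotient.mk_eq_zero]
        exact J.mul_mem_right r ha
      rw [h0, Ext.mk₀_zero, Ext.comp_zero]

/-- **`ℓ Ext^n(M, R/J) = ℓ (0 :_M J)`** for a finite length module over a Gorenstein local ring of
dimension `n`, when `Ext^{n+1}(M, -) = 0`. -/
theorem length_ext_quot [LocCoh.IsGorensteinLocalRing R] (n : ℕ)
    (hn : ringKrullDim R = (n : WithBot ℕ∞)) (M : Type u) [AddCommGroup M] [Module R M]
    (hM : IsFiniteLength R M)
    (hpd : ∀ Y : ModuleCat.{u} R, Subsingleton (Ext.{u} (ModuleCat.of R M) Y (n + 1)))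
    (J : Ideal R) :
    Module.length R (Ext.{u} (ModuleCat.of R M) (ModuleCat.of R (R ⧸ J)) n) =
      Module.length R (Submodule.torsionBySet R M (J : Set R)) := by
  have hV : VanishAbove (ModuleCat.of R R) n := fun T _ _ hT =>
    (GorLC.ext_dual_of_gorenstein n hn T hT).1 (n + 1) (by omega)
  have hJ : J.FG := IsNoetherian.noetherian J
  obtain ⟨hcs, hck⟩ := postcomp_quot M n hpd J hJ
  obtain ⟨s, hs⟩ := hJ
  have hs' : Ideal.span (s : Set R) = J := hs
  have hPs : LinearMap.range (Submodule.torsionBySet R M (J : Set R)).subtype =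
      Submodule.torsionBySet R M (s : Set R) := by
    rw [Submodule.range_subtype, ← hs', ← Submodule.torsionBySet_eq_torsionBySet_span]
  obtain ⟨hDs, hDk⟩ := ker_Dmap_torsion hV s M (Submodule.torsionBySet R M (J : Set R)) hM
    (Submodule.torsionBySet R M (J : Set R)).subtype (Submodule.subtype_injective _) hPs
  rw [hs'] at hDk
  have hflP : IsFiniteLength R (Submodule.torsionBySet R M (J : Set R)) :=
    hM.of_injective (f := (Submodule.torsionBySet R M (J : Set R)).subtype)
      (Submodule.subtype_injective _)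
  rw [← (GorLC.ext_dual_of_gorenstein n hn _ hflP).2]
  have e1 := LinearMap.quotKerEquivOfSurjective _ hcs
  have e2 := LinearMap.quotKerEquivOfSurjective _ hDs
  rw [← e1.length_eq, ← e2.length_eq]
  exact (Submodule.quotEquivOfEq _ _ (hck.trans hDk.symm)).length_eq

end Covariant

section Resolution

/-- `ℓ Hom(N', N) = ℓ N + ℓ Ext^1(N', N)` for `0 → R^r → R^{r+1} → N' → 0` -/
theorem length_hom_of_free_resolution {r : ℕ} {N' : Type u} [AddCommGroup N'] [Module R N']
    (j : (Fin r → R) →ₗ[R] (Fin (r + 1) → R)) (π : (Fin (r + 1) → R) →ₗ[R] N')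
    (hj : Function.Injective j) (hπ : Function.Surjective π)
    (hex : ∀ y, π y = 0 ↔ ∃ x, j x = y)
    (N : Type u) [AddCommGroup N] [Module R N] (hN : Module.length R N ≠ ⊤) :
    Module.length R (N' →ₗ[R] N) =
      Module.length R N +
        Module.length R (Ext.{u} (ModuleCat.of R N') (ModuleCat.of R N) (0 + 1)) := by
  obtain ⟨w, hS⟩ := GrLD.shortExact_of_exact j π hj hπ hex
  obtain ⟨q, hq, hker⟩ := GrLD.exists_ext_one N hS
  let L : ((Fin (r + 1) → R) →ₗ[R] N) →ₗ[R] ((Fin r → R) →ₗ[R] N) := LinearMap.lcomp R N j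
  let Ψ : (N' →ₗ[R] N) →ₗ[R] ((Fin (r + 1) → R) →ₗ[R] N) := LinearMap.lcomp R N π
  have hΨinj : Function.Injective Ψ := by
    intro f g hfg
    apply LinearMap.ext
    intro y
    obtain ⟨z, rfl⟩ := hπ y
    exact LinearMap.congr_fun hfg z
  have hΨrange : LinearMap.range Ψ = LinearMap.ker L := by
    apply le_antisymm
    · rintro _ ⟨ψ, rfl⟩
      rw [LinearMap.mem_ker]
      apply LinearMap.ext
      intro x
      change ψ (π (j x)) = 0
      rw [(hex (j x)).mpr ⟨x, rfl⟩, map_zero]
    · intro g hg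
      rw [LinearMap.mem_ker] at hg
      have hkerle : LinearMap.ker π ≤ LinearMap.ker g := by
        intro y hy
        obtain ⟨x, rfl⟩ := (hex y).mp hy
        exact LinearMap.congr_fun hg x
      refine ⟨((LinearMap.ker π).liftQ g hkerle) ∘ₗ
        (π.quotKerEquivOfSurjective hπ).symm.toLinearMap, ?_⟩
      apply LinearMap.ext
      intro y
      change ((LinearMap.ker π).liftQ g hkerle)
        ((π.quotKerEquivOfSurjective hπ).symm (π y)) = g y
      have : (π.quotKerEquivOfSurjective hπ).symm (π y) = Submodule.Quotient.mk y := by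
        rw [LinearEquiv.symm_apply_eq]; rfl
      rw [this]; rfl
  have hlenF : ∀ k : ℕ, Module.length R ((Fin k → R) →ₗ[R] N) =
      (k : ℕ∞) * Module.length R N := by
    intro k
    rw [← ((Pi.basisFun R (Fin k)).constr R (M' := N)).length_eq, Module.length_pi,
      ENat.card_eq_coe_fintype_card, Fintype.card_fin]
  have h1 : Module.length R ((Fin (r + 1) → R) →ₗ[R] N) =
      Module.length R (N' →ₗ[R] N) + Module.length R (LinearMap.range L) := by
    rw [Module.length_eq_add_of_exact (LinearMap.ker L).subtype L.rangeRestrict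
      (Submodule.subtype_injective _) (LinearMap.surjective_rangeRestrict L)
      (fun y => ⟨fun h => ⟨⟨y, congrArg Subtype.val h⟩, rfl⟩,
        by rintro ⟨x, rfl⟩; exact Subtype.ext x.2⟩)]
    congr 1
    rw [← hΨrange]
    exact (LinearEquiv.ofInjective Ψ hΨinj).length_eq.symm
  have h2 : Module.length R ((Fin r → R) →ₗ[R] N) =
      Module.length R (LinearMap.range L) +
        Module.length R (Ext.{u} (ModuleCat.of R N') (ModuleCat.of R N) (0 + 1)) := by
    rw [Module.length_eq_add_of_exact (LinearMap.ker q).subtype q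
      (Submodule.subtype_injective _) hq (LinearMap.exact_subtype_ker_map q), hker]
  rw [hlenF] at h1 h2
  obtain ⟨a, ha⟩ := ENat.ne_top_iff_exists.mp hN
  rw [← ha] at h1 h2 ⊢
  have hB : Module.length R (LinearMap.range L) ≠ ⊤ := by
    intro h
    rw [h, top_add] at h2
    exact ENat.natCast_ne_top (r * a) (by rw [Nat.cast_mul]; exact h2)
  have hE : Module.length R (Ext.{u} (ModuleCat.of R N') (ModuleCat.of R N) (0 + 1)) ≠ ⊤ := by
    intro h
    rw [h, add_top] at h2
    exact ENat.natCast_ne_top (r * a) (by rw [Nat.cast_mul]; exact h2)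
  have hA : Module.length R (N' →ₗ[R] N) ≠ ⊤ := by
    intro h
    rw [h, top_add] at h1
    exact ENat.natCast_ne_top ((r + 1) * a) (by rw [Nat.cast_mul]; exact h1)
  obtain ⟨b, hb⟩ := ENat.ne_top_iff_exists.mp hB
  obtain ⟨e, he⟩ := ENat.ne_top_iff_exists.mp hE
  obtain ⟨c, hc⟩ := ENat.ne_top_iff_exists.mp hA
  rw [← hb, ← he] at h2
  rw [← hb, ← hc] at h1
  rw [← he, ← hc]
  norm_cast at h1 h2 ⊢
  have h3 : (r + 1) * a = r * a + a := by ring
  omega

end Resolution

section Main

/-- **S13444**: `ℓ Hom(I, R/J) + ℓ(R/(I:J)) = ℓ(R/J) + ℓ(R/I)` over a regular local ring of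
dimension two. -/
theorem main (R : Type u) [CommRing R] [IsRegularLocalRing R] (hdim : ringKrullDim R = 2)
    (I J : Ideal R) (hI : Module.length R (R ⧸ I) < ⊤) (hJ : Module.length R (R ⧸ J) < ⊤) :
    Module.length R (↥I →ₗ[R] (R ⧸ J)) + Module.length R (R ⧸ I.colon J) =
      Module.length R (R ⧸ J) + Module.length R (R ⧸ I) := by
  by_cases hItop : I = ⊤
  · subst hItop
    have hcol : (⊤ : Ideal R).colon (J : Set R) = ⊤ := by
      rw [eq_top_iff]
      intro x _
      rw [Submodule.mem_colon]
      intro p _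
      exact Submodule.mem_top
    rw [hcol]
    have h0 : Module.length R (R ⧸ (⊤ : Ideal R)) = 0 := by
      rw [Module.length_eq_zero_iff]
      exact Ideal.Quotient.subsingleton_iff.mpr rfl
    rw [h0, add_zero, add_zero]
    exact ((LinearEquiv.congrLeft (R ⧸ J) R (Submodule.topEquiv (R := R) (M := R))).trans
      (LinearMap.ringLmapEquivSelf R R (R ⧸ J))).length_eq
  · have hdim2 : ringKrullDim R = ((2 : ℕ) : WithBot ℕ∞) := by rw [hdim]; rfl
    have hIfl : IsFiniteLength R (R ⧸ I) := Module.length_ne_top_iff.mp hI.ne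
    haveI : Nontrivial (R ⧸ I) := Ideal.Quotient.nontrivial_iff.mpr hItop
    haveI : IsLocalRing (R ⧸ I) :=
      IsLocalRing.of_surjective' (Ideal.Quotient.mk I) Ideal.Quotient.mk_surjective
    haveI : IsArtinianRing (R ⧸ I) := by
      have h1 : IsArtinian R (R ⧸ I) := (isFiniteLength_iff_isNoetherian_isArtinian.mp hIfl).2
      exact isArtinian_of_tower R h1
    haveI : LocCoh.IsCohenMacaulayLocalRing (R ⧸ I) :=
      H2.TenCM.cmLocal_of_isArtinianRing (R ⧸ I)
    have hdim0 : ringKrullDim (R ⧸ I) = 0 :=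
      ringKrullDimZero_iff_ringKrullDim_eq_zero.mp inferInstance
    have hcodim : ringKrullDim (R ⧸ I) + 2 = ringKrullDim R := by rw [hdim0, hdim, zero_add]
    obtain ⟨r, φ, hspan, -, hφinj, hφrange⟩ := HB2.main I hcodim
    haveI hG : LocCoh.IsGorensteinLocalRing R :=
      { exists_hasInjectiveDimensionLT := ⟨3, by
          refine (hasInjectiveDimensionLT_iff (C := ModuleCat.{u} R) (ModuleCat.of R R) 3).mpr ?_
          intro i hi Y e
          haveI := H1.Reg.hasProjectiveDimensionLT_of_isRegularLocalRing R 2 hdim2 Y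
          haveI := HasProjectiveDimensionLT.subsingleton Y 3 i hi (ModuleCat.of R R)
          exact Subsingleton.elim _ _⟩ }
    let π₀ : (Fin (r + 1) → R) →ₗ[R] R := Fintype.linearCombination R
      (fun i : Fin (r + 1) => (-1 : R) ^ (i : ℕ) * (φ.submatrix i.succAbove id).det)
    have hπ₀range : LinearMap.range π₀ = I := by
      rw [Fintype.range_linearCombination]; exact hspan
    have hπ₀mem : ∀ f, π₀ f ∈ I := by
      intro f
      rw [← hπ₀range]; exact LinearMap.mem_range_self π₀ f
    let π : (Fin (r + 1) → R) →ₗ[R] I := LinearMap.codRestrict I π₀ hπ₀mem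
    have hπsurj : Function.Surjective π := by
      intro y
      have : (y : R) ∈ LinearMap.range π₀ := by rw [hπ₀range]; exact y.2
      obtain ⟨f, hf⟩ := this
      exact ⟨f, Subtype.ext hf⟩
    have hex : ∀ y, π y = 0 ↔ ∃ x, φ.mulVecLin x = y := by
      intro y
      have h1 : π y = 0 ↔ y ∈ LinearMap.ker π₀ := by
        rw [LinearMap.mem_ker]
        exact ⟨fun h => congrArg Subtype.val h, fun h => Subtype.ext h⟩
      rw [h1, ← hφrange]
      rfl
    have hstep2 := length_hom_of_free_resolution φ.mulVecLin π hφinj hπsurj hex (R ⧸ J) hJ.ne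
    have hexI : ∀ y : R, (Submodule.mkQ I) y = 0 ↔ ∃ x : I, I.subtype x = y := by
      intro y
      rw [Submodule.mkQ_apply, Submodule.Quotient.mk_eq_zero]
      exact ⟨fun h => ⟨⟨y, h⟩, rfl⟩, by rintro ⟨x, rfl⟩; exact x.2⟩
    obtain ⟨wI, hSI⟩ := GrLD.shortExact_of_exact I.subtype (Submodule.mkQ I)
      (Submodule.subtype_injective _) (Submodule.mkQ_surjective _) hexI
    obtain ⟨e3⟩ := GrLD.nonempty_ext_succ (R ⧸ J) hSI 0
    have hpd : ∀ Y : ModuleCat.{u} R,
        Subsingleton (Ext.{u} (ModuleCat.of R (R ⧸ I)) Y (2 + 1)) := by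
      intro Y
      haveI := H1.Reg.hasProjectiveDimensionLT_of_isRegularLocalRing R 2 hdim2
        (ModuleCat.of R (R ⧸ I))
      exact HasProjectiveDimensionLT.subsingleton _ 3 (2 + 1) le_rfl Y
    have hstep4 := length_ext_quot 2 hdim2 (R ⧸ I) hIfl hpd J
    have h4d : Module.length R (R ⧸ I) =
        Module.length R (Submodule.torsionBySet R (R ⧸ I) (J : Set R)) +
        Module.length R ((R ⧸ I) ⧸ Submodule.torsionBySet R (R ⧸ I) (J : Set R)) :=
      Module.length_eq_add_of_exact (Submodule.torsionBySet R (R ⧸ I) (J : Set R)).subtype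
        (Submodule.torsionBySet R (R ⧸ I) (J : Set R)).mkQ (Submodule.subtype_injective _)
        (Submodule.mkQ_surjective _) (LinearMap.exact_subtype_mkQ _)
    have hcolon : Module.length R ((R ⧸ I) ⧸ Submodule.torsionBySet R (R ⧸ I) (J : Set R)) =
        Module.length R (R ⧸ I.colon J) := by
      let ψ : R →ₗ[R] (R ⧸ I) ⧸ Submodule.torsionBySet R (R ⧸ I) (J : Set R) :=
        (Submodule.torsionBySet R (R ⧸ I) (J : Set R)).mkQ ∘ₗ (Submodule.mkQ I)
      have hψsurj : Function.Surjective ψ :=
        (Submodule.mkQ_surjective _).comp (Submodule.mkQ_surjective _)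
      have hψker : LinearMap.ker ψ = I.colon J := by
        ext x
        rw [LinearMap.mem_ker, Submodule.mem_colon]
        change (Submodule.torsionBySet R (R ⧸ I) (J : Set R)).mkQ ((Submodule.mkQ I) x) = 0 ↔ _
        rw [Submodule.mkQ_apply, Submodule.Quotient.mk_eq_zero, Submodule.mem_torsionBySet_iff]
        constructor
        · intro h p hp
          have h1 := h ⟨p, hp⟩
          change p • (Submodule.mkQ I) x = 0 at h1
          rw [← map_smul, Submodule.mkQ_apply, Submodule.Quotient.mk_eq_zero] at h1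
          rw [smul_eq_mul, mul_comm]
          exact h1
        · rintro h ⟨p, hp⟩
          change p • (Submodule.mkQ I) x = 0
          rw [← map_smul, Submodule.mkQ_apply, Submodule.Quotient.mk_eq_zero]
          have h1 := h p hp
          rw [smul_eq_mul, mul_comm] at h1
          exact h1
      rw [← hψker]
      exact (LinearMap.quotKerEquivOfSurjective ψ hψsurj).length_eq.symm
    rw [hstep2, ← hcolon, h4d, e3.length_eq]
    have h5 : Module.length R (Ext.{u} (ModuleCat.of R (R ⧸ I)) (ModuleCat.of R (R ⧸ J))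
        (0 + 1 + 1)) = Module.length R (Submodule.torsionBySet R (R ⧸ I) (J : Set R)) := hstep4
    rw [h5, add_assoc]

end Main

end Groth.Agent.H6.ExtDualF
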