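import Mathlib
import Groth.Agent.Lib.Helper6.ExtDualF
import Groth.Agent.Lib.Helper6.Ischebeck
import Groth.Agent.Lib.Helper6.InjHullLocal
import Groth.Agent.Lib.Helper6.ExtBaseChange
import Groth.Agent.Lib.Helper6.LCZero

/-!
# Duality for torsion-free modules over one-dimensional local domains, part 1

General `Ext` lemmas with vanishing hypotheses (dimension shifting in either variable), additivity
of length for an exact contravariant `Ext^{n+1}(-, C)` on finite length modules, and basic facts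
about one-dimensional Noetherian local domains (finitely generated torsion modules have finite
length, `Hom(finite length, torsion-free) = 0`).
-/

set_option autoImplicit false
universe u
open CategoryTheory CategoryTheory.Abelian IsLocalRing

namespace Groth.Agent.H6.TFD

open ExtDualF

section General

variable {R : Type u} [CommRing R]
variable {Z F N : Type u} [AddCommGroup Z] [Module R Z] [AddCommGroup F] [Module R F]
  [AddCommGroup N] [Module R N] (M : Type u) [AddCommGroup M] [Module R M]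
  {j : Z →ₗ[R] F} {π : F →ₗ[R] N} {w : ModuleCat.ofHom j ≫ ModuleCat.ofHom π = 0}
  (hS : (ShortComplex.mk (ModuleCat.ofHom j) (ModuleCat.ofHom π) w).ShortExact)

include hS

/-- `Ext^1(N, M)` is the cokernel of `Hom(F, M) → Hom(Z, M)` when `Ext^1(F, M) = 0` -/
theorem exists_ext_one_of_vanish
    (hF : Subsingleton (Ext.{u} (ModuleCat.of R F) (ModuleCat.of R M) 1)) :
    ∃ q : (Z →ₗ[R] M) →ₗ[R] Ext.{u} (ModuleCat.of R N) (ModuleCat.of R M) 1,
      Function.Surjective q ∧ LinearMap.ker q = LinearMap.range (LinearMap.lcomp R M j) := by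
  let δ : Ext.{u} (ModuleCat.of R Z) (ModuleCat.of R M) 0 →ₗ[R]
      Ext.{u} (ModuleCat.of R N) (ModuleCat.of R M) 1 :=
    hS.extClass.precompOfLinear R (ModuleCat.of R M) (add_zero 1)
  let q : (Z →ₗ[R] M) →ₗ[R] Ext.{u} (ModuleCat.of R N) (ModuleCat.of R M) 1 :=
    δ ∘ₗ (ExtBC.homEquivExt₀ (ModuleCat.of R Z) (ModuleCat.of R M)).toLinearMap
  have hq : Function.Surjective q := by
    intro x₃
    have h1 : (Ext.mk₀ (ModuleCat.ofHom π)).comp x₃ (zero_add 1) = 0 :=
      @Subsingleton.elim _ hF _ _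
    obtain ⟨x₁, hx₁⟩ := Ext.contravariant_sequence_exact₃ hS (ModuleCat.of R M) x₃ h1
      (n₀ := 0) (add_zero 1)
    refine ⟨(ExtBC.homEquivExt₀ _ _).symm x₁, ?_⟩
    change δ ((ExtBC.homEquivExt₀ _ _) ((ExtBC.homEquivExt₀ _ _).symm x₁)) = x₃
    rw [LinearEquiv.apply_symm_apply]
    exact hx₁
  have hrange : LinearMap.ker q = LinearMap.range (LinearMap.lcomp R M j) := by
    ext φ
    rw [LinearMap.mem_ker, LinearMap.mem_range]
    constructor
    · intro h
      have h' : hS.extClass.comp (Ext.mk₀ (ModuleCat.ofHom φ)) (add_zero 1) = 0 := h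
      obtain ⟨x₂, hx₂⟩ := Ext.contravariant_sequence_exact₁ hS (ModuleCat.of R M) _ _ h'
      obtain ⟨ψ, rfl⟩ := LC.exists_mk₀ x₂
      refine ⟨ψ.hom, ?_⟩
      rw [Ext.mk₀_comp_mk₀] at hx₂
      have h2 := (Ext.mk₀_bijective _ _).1 hx₂
      have h3 := congrArg ModuleCat.Hom.hom h2
      exact h3
    · rintro ⟨ψ, rfl⟩
      change hS.extClass.comp (Ext.mk₀ (ModuleCat.ofHom (ψ ∘ₗ j))) (add_zero 1) = 0
      have : ModuleCat.ofHom (ψ ∘ₗ j) = ModuleCat.ofHom j ≫ ModuleCat.ofHom ψ := rfl
      rw [this, ← Ext.mk₀_comp_mk₀]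
      exact hS.extClass_comp_assoc _
  exact ⟨q, hq, hrange⟩

/-- contravariant dimension shifting -/
theorem nonempty_ext_succ_of_vanish (i : ℕ)
    (h1 : Subsingleton (Ext.{u} (ModuleCat.of R F) (ModuleCat.of R M) i))
    (h2 : Subsingleton (Ext.{u} (ModuleCat.of R F) (ModuleCat.of R M) (i + 1))) :
    Nonempty (Ext.{u} (ModuleCat.of R Z) (ModuleCat.of R M) i ≃ₗ[R]
      Ext.{u} (ModuleCat.of R N) (ModuleCat.of R M) (i + 1)) := by
  let δ : Ext.{u} (ModuleCat.of R Z) (ModuleCat.of R M) i →ₗ[R]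
      Ext.{u} (ModuleCat.of R N) (ModuleCat.of R M) (i + 1) :=
    hS.extClass.precompOfLinear R (ModuleCat.of R M) (add_comm 1 i)
  have hδ : Function.Bijective δ := by
    constructor
    · rw [← LinearMap.ker_eq_bot, LinearMap.ker_eq_bot']
      intro x₁ hx₁
      obtain ⟨x₂, hx₂⟩ := Ext.contravariant_sequence_exact₁ hS (ModuleCat.of R M) x₁
        (add_comm 1 i) hx₁
      have h0 : x₂ = 0 := @Subsingleton.elim _ h1 _ _
      rw [← hx₂, h0, Ext.comp_zero]
    · intro x₃
      have h3 : (Ext.mk₀ (ModuleCat.ofHom π)).comp x₃ (zero_add (i + 1)) = 0 :=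
        @Subsingleton.elim _ h2 _ _
      exact Ext.contravariant_sequence_exact₃ hS (ModuleCat.of R M) x₃ h3 (add_comm 1 i)
  exact ⟨LinearEquiv.ofBijective δ hδ⟩

/-- `Ext^1(M, Z)` is the cokernel of `Hom(M, F) → Hom(M, N)` when `Ext^1(M, F) = 0` -/
theorem exists_ext_one_cov
    (hF : Subsingleton (Ext.{u} (ModuleCat.of R M) (ModuleCat.of R F) 1)) :
    ∃ q : (M →ₗ[R] N) →ₗ[R] Ext.{u} (ModuleCat.of R M) (ModuleCat.of R Z) 1,
      Function.Surjective q ∧
        LinearMap.ker q = LinearMap.range (LinearMap.compRight R π (M := M)) := by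
  let δ : Ext.{u} (ModuleCat.of R M) (ModuleCat.of R N) 0 →ₗ[R]
      Ext.{u} (ModuleCat.of R M) (ModuleCat.of R Z) 1 :=
    hS.extClass.postcompOfLinear R (ModuleCat.of R M) (zero_add 1)
  let q : (M →ₗ[R] N) →ₗ[R] Ext.{u} (ModuleCat.of R M) (ModuleCat.of R Z) 1 :=
    δ ∘ₗ (ExtBC.homEquivExt₀ (ModuleCat.of R M) (ModuleCat.of R N)).toLinearMap
  have hq : Function.Surjective q := by
    intro x₁
    have h1 : x₁.comp (Ext.mk₀ (ModuleCat.ofHom j)) (add_zero 1) = 0 :=
      @Subsingleton.elim _ hF _ _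
    obtain ⟨x₃, hx₃⟩ := Ext.covariant_sequence_exact₁ (ModuleCat.of R M) hS x₁ h1
      (n₀ := 0) (zero_add 1)
    refine ⟨(ExtBC.homEquivExt₀ _ _).symm x₃, ?_⟩
    change δ ((ExtBC.homEquivExt₀ _ _) ((ExtBC.homEquivExt₀ _ _).symm x₃)) = x₁
    rw [LinearEquiv.apply_symm_apply]
    exact hx₃
  have hrange : LinearMap.ker q = LinearMap.range (LinearMap.compRight R π (M := M)) := by
    ext φ
    rw [LinearMap.mem_ker, LinearMap.mem_range]
    constructor
    · intro h
      have h' : (Ext.mk₀ (ModuleCat.ofHom φ)).comp hS.extClass (zero_add 1) = 0 := h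
      obtain ⟨x₂, hx₂⟩ := Ext.covariant_sequence_exact₃ (ModuleCat.of R M) hS _ _ h'
      obtain ⟨ψ, rfl⟩ := LC.exists_mk₀ x₂
      refine ⟨ψ.hom, ?_⟩
      rw [Ext.mk₀_comp_mk₀] at hx₂
      have h2 := (Ext.mk₀_bijective _ _).1 hx₂
      have h3 := congrArg ModuleCat.Hom.hom h2
      exact h3
    · rintro ⟨ψ, rfl⟩
      change (Ext.mk₀ (ModuleCat.ofHom (π ∘ₗ ψ))).comp hS.extClass (zero_add 1) = 0
      have : ModuleCat.ofHom (π ∘ₗ ψ) = ModuleCat.ofHom ψ ≫ ModuleCat.ofHom π := rfl
      rw [this, ← Ext.mk₀_comp_mk₀_assoc]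
      have h0 : (Ext.mk₀ (ModuleCat.ofHom π)).comp hS.extClass (zero_add 1) = 0 :=
        hS.comp_extClass
      rw [h0, Ext.comp_zero]
  exact ⟨q, hq, hrange⟩

/-- covariant dimension shifting -/
theorem nonempty_ext_succ_cov (i : ℕ)
    (h1 : Subsingleton (Ext.{u} (ModuleCat.of R M) (ModuleCat.of R F) i))
    (h2 : Subsingleton (Ext.{u} (ModuleCat.of R M) (ModuleCat.of R F) (i + 1))) :
    Nonempty (Ext.{u} (ModuleCat.of R M) (ModuleCat.of R N) i ≃ₗ[R]
      Ext.{u} (ModuleCat.of R M) (ModuleCat.of R Z) (i + 1)) := by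
  let δ : Ext.{u} (ModuleCat.of R M) (ModuleCat.of R N) i →ₗ[R]
      Ext.{u} (ModuleCat.of R M) (ModuleCat.of R Z) (i + 1) :=
    hS.extClass.postcompOfLinear R (ModuleCat.of R M) rfl
  have hδ : Function.Bijective δ := by
    constructor
    · rw [← LinearMap.ker_eq_bot, LinearMap.ker_eq_bot']
      intro x₃ hx₃
      obtain ⟨x₂, hx₂⟩ := Ext.covariant_sequence_exact₃ (ModuleCat.of R M) hS x₃ rfl hx₃
      have h0 : x₂ = 0 := @Subsingleton.elim _ h1 _ _
      rw [← hx₂, h0, Ext.zero_comp]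
    · intro x₁
      have h3 : x₁.comp (Ext.mk₀ (ModuleCat.ofHom j)) (add_zero (i + 1)) = 0 :=
        @Subsingleton.elim _ h2 _ _
      exact Ext.covariant_sequence_exact₁ (ModuleCat.of R M) hS x₁ h3 rfl
  exact ⟨LinearEquiv.ofBijective δ hδ⟩

end General

section DLength

variable {R : Type u} [CommRing R]
variable (C : ModuleCat.{u} R) (n : ℕ)
variable {M N : Type u} [AddCommGroup M] [Module R M] [AddCommGroup N] [Module R N]

/-- `Ext^n(-, C)` of a linear equivalence -/
noncomputable def DequivOfEquiv (e : M ≃ₗ[R] N) :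
    Ext.{u} (ModuleCat.of R N) C n ≃ₗ[R] Ext.{u} (ModuleCat.of R M) C n :=
  LinearEquiv.ofLinearMap (Dmap C n e.toLinearMap) (Dmap C n e.symm.toLinearMap)
    (by
      rw [← Dmap_comp, ← Dmap_id C n]
      congr 1
      apply LinearMap.ext
      intro x
      exact e.symm_apply_apply x)
    (by
      rw [← Dmap_comp, ← Dmap_id C n]
      congr 1
      apply LinearMap.ext
      intro x
      exact e.apply_symm_apply x)

/-- `Ext^n(0, C) = 0` -/
theorem subsingleton_ext_of_subsingleton [Subsingleton M] :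
    Subsingleton (Ext.{u} (ModuleCat.of R M) C n) := by
  refine ⟨fun x y => ?_⟩
  have h : ∀ z : Ext.{u} (ModuleCat.of R M) C n, z = 0 := by
    intro z
    have := smul_eq_zero_of_smul_id_eq_zero C n (M := M) (1 : R)
      (by apply LinearMap.ext; intro t; exact Subsingleton.elim _ _) z
    rwa [one_smul] at this
  rw [h x, h y]

section SES

variable {Z F : Type u} [AddCommGroup Z] [Module R Z] [AddCommGroup F] [Module R F]
  (j : Z →ₗ[R] F) (π : F →ₗ[R] N) (hj : Function.Injective j) (hπ : Function.Surjective π)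
  (hex : ∀ y, π y = 0 ↔ ∃ x, j x = y)

include hj hπ hex in
/-- `Ext^{n+1}(N, C) → Ext^{n+1}(F, C)` is injective when `Ext^n(Z, C) = 0` -/
theorem Dmap_injective_succ (h0 : Subsingleton (Ext.{u} (ModuleCat.of R Z) C n)) :
    Function.Injective (Dmap C (n + 1) π) := by
  obtain ⟨w, hS⟩ := GrLD.shortExact_of_exact j π hj hπ hex
  rw [injective_iff_map_eq_zero]
  intro x hx
  rw [Dmap_apply] at hx
  obtain ⟨x₁, hx₁⟩ := Ext.contravariant_sequence_exact₃ hS C x hx (n₀ := n) (add_comm 1 n)
  rw [← hx₁, @Subsingleton.elim _ h0 x₁ 0, Ext.comp_zero]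

end SES

variable (H0 : ∀ (T : Type u) [AddCommGroup T] [Module R T], IsFiniteLength R T →
    Subsingleton (Ext.{u} (ModuleCat.of R T) C n))
  (H2 : ∀ (T : Type u) [AddCommGroup T] [Module R T], IsFiniteLength R T →
    Subsingleton (Ext.{u} (ModuleCat.of R T) C (n + 1 + 1)))

include H0 H2 in
/-- additivity of the length of `Ext^{n+1}(-, C)` on finite length modules -/
theorem length_D_add (T : Type u) [AddCommGroup T] [Module R T] (hT : IsFiniteLength R T)
    (P : Submodule R T) :
    Module.length R (Ext.{u} (ModuleCat.of R T) C (n + 1)) =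
      Module.length R (Ext.{u} (ModuleCat.of R (T ⧸ P)) C (n + 1)) +
        Module.length R (Ext.{u} (ModuleCat.of R P) C (n + 1)) := by
  have hex : ∀ y, P.mkQ y = 0 ↔ ∃ x, P.subtype x = y := by
    intro y
    rw [Submodule.mkQ_apply, Submodule.Quotient.mk_eq_zero]
    exact ⟨fun h => ⟨⟨y, h⟩, rfl⟩, by rintro ⟨x, rfl⟩; exact x.2⟩
  have hflP : IsFiniteLength R P :=
    hT.of_injective (f := P.subtype) (Submodule.subtype_injective _)
  have hflQ : IsFiniteLength R (T ⧸ P) :=
    hT.of_surjective (f := P.mkQ) (Submodule.mkQ_surjective _)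
  refine Module.length_eq_add_of_exact (Dmap C (n + 1) P.mkQ) (Dmap C (n + 1) P.subtype)
    ?_ ?_ ?_
  · exact Dmap_injective_succ C n P.subtype P.mkQ (Submodule.subtype_injective _)
      (Submodule.mkQ_surjective _) hex (H0 _ hflP)
  · exact Dmap_surjective C (n + 1) P.subtype P.mkQ (Submodule.subtype_injective _)
      (Submodule.mkQ_surjective _) hex (H2 _ hflQ)
  · rw [LinearMap.exact_iff]
    exact Dmap_ker_eq_range C (n + 1) P.subtype P.mkQ (Submodule.subtype_injective _)
      (Submodule.mkQ_surjective _) hex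

include H0 H2 in
/-- `ℓ Ext^{n+1}(T, C) = ℓ(T) · ℓ Ext^{n+1}(k, C)` for finite length `T` -/
theorem length_D [IsLocalRing R] (T : Type u) [AddCommGroup T] [Module R T]
    (hT : IsFiniteLength R T) :
    Module.length R (Ext.{u} (ModuleCat.of R T) C (n + 1)) =
      Module.length R T *
        Module.length R (Ext.{u} (ModuleCat.of R (R ⧸ maximalIdeal R)) C (n + 1)) := by
  induction hT with
  | @of_subsingleton T _ _ _ =>
    haveI := subsingleton_ext_of_subsingleton C (n + 1) (M := T)
    rw [Module.length_eq_zero, Module.length_eq_zero, zero_mul]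
  | @of_simple_quotient T _ _ P hsimple hP ih =>
    have hT' : IsFiniteLength R T := IsFiniteLength.of_simple_quotient hP
    rw [length_D_add C n H0 H2 T hT' P, ih,
      Module.length_eq_add_of_exact P.subtype P.mkQ (Submodule.injective_subtype P)
        P.mkQ_surjective (LinearMap.exact_subtype_mkQ P), add_mul, add_comm]
    congr 1
    obtain ⟨I, hI, ⟨e⟩⟩ := isSimpleModule_iff_quot_maximal.mp (inferInstance :
      IsSimpleModule R (T ⧸ P))
    obtain rfl := IsLocalRing.eq_maximalIdeal hI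
    rw [Module.length_eq_one (R := R) (M := T ⧸ P), one_mul]
    exact (DequivOfEquiv C (n + 1) e).length_eq.symm

end DLength

section OneDim

variable {A : Type u} [CommRing A] [IsDomain A] [IsNoetherianRing A] [IsLocalRing A]

theorem krullDimLE_one (hdim : ringKrullDim A = 1) : Ring.KrullDimLE 1 A := by
  rw [Ring.krullDimLE_iff, hdim]
  rfl

theorem exists_mem_ne_zero (hdim : ringKrullDim A = 1) : ∃ x ∈ maximalIdeal A, x ≠ 0 := by
  have hm : maximalIdeal A ≠ ⊥ := by
    intro h
    have hF : IsField A := IsLocalRing.isField_iff_maximalIdeal_eq.mpr h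
    have := ringKrullDim_eq_zero_of_isField hF
    rw [hdim] at this
    exact one_ne_zero this
  exact Submodule.exists_mem_ne_zero_of_ne_bot hm

theorem exists_pow_le_span (hdim : ringKrullDim A = 1) (a : A) (ha : a ≠ 0) :
    ∃ k : ℕ, maximalIdeal A ^ k ≤ Ideal.span {a} := by
  haveI := krullDimLE_one hdim
  apply Ideal.exists_pow_le_of_le_radical_of_fg _ (IsNoetherian.noetherian _)
  rw [Ideal.radical_eq_sInf]
  apply le_sInf
  rintro p ⟨hp1, hp2⟩
  have hpne : p ≠ ⊥ := by
    intro h
    have : a ∈ p := hp1 (Ideal.mem_span_singleton_self a)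
    rw [h, Ideal.mem_bot] at this
    exact ha this
  have hpmax : p.IsMaximal := hp2.isMaximal_of_ne_bot hpne
  rw [IsLocalRing.eq_maximalIdeal hpmax]

/-- a finitely generated torsion module over a one-dimensional Noetherian local domain has finite
length -/
theorem isFiniteLength_of_torsion (hdim : ringKrullDim A = 1) (T : Type u) [AddCommGroup T]
    [Module A T] [Module.Finite A T] (hT : ∀ t : T, ∃ a : A, a ≠ 0 ∧ a • t = 0) :
    IsFiniteLength A T := by
  classical
  obtain ⟨S, hS⟩ := (Module.Finite.fg_top : (⊤ : Submodule A T).FG)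
  choose c hc0 hct using hT
  set a : A := ∏ s ∈ S, c s with ha
  have ha0 : a ≠ 0 := Finset.prod_ne_zero_iff.mpr (fun s _ => hc0 s)
  have hkill : ∀ t : T, a • t = 0 := by
    intro t
    have ht : t ∈ Submodule.span A (S : Set T) := by rw [hS]; trivial
    induction ht using Submodule.span_induction with
    | mem s hs =>
      obtain ⟨b, hb⟩ := Finset.dvd_prod_of_mem c hs
      rw [ha, hb, mul_comm, mul_smul, hct, smul_zero]
    | zero => exact smul_zero _
    | add x y _ _ hx hy => rw [smul_add, hx, hy, add_zero]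
    | smul r x _ hx => rw [smul_comm, hx, smul_zero]
  obtain ⟨k, hk⟩ := exists_pow_le_span hdim a ha0
  apply IH.isFiniteLength_of_powerTorsion
  intro t
  refine ⟨k, fun b hb => ?_⟩
  obtain ⟨r, rfl⟩ := Ideal.mem_span_singleton'.mp (hk hb)
  rw [mul_smul, hkill, smul_zero]

/-- there are no nonzero maps from a finite length module to a torsion-free module -/
theorem hom_eq_zero (hdim : ringKrullDim A = 1) {T W : Type u} [AddCommGroup T] [Module A T]
    [AddCommGroup W] [Module A W] [Module.IsTorsionFree A W] (hT : IsFiniteLength A T)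
    (f : T →ₗ[A] W) : f = 0 := by
  obtain ⟨x, hxm, hx0⟩ := exists_mem_ne_zero hdim
  obtain ⟨k, hk⟩ := GorLC.exists_pow_smul_eq_zero_of_finiteLength T hT
  apply LinearMap.ext
  intro t
  have h1 : x ^ k • f t = 0 := by
    rw [← map_smul, hk _ (Ideal.pow_mem_pow hxm k), map_zero]
  exact (smul_eq_zero_iff_right (pow_ne_zero k hx0)).mp h1

/-- `Ext^0(T, W) = 0` for `T` of finite length and `W` torsion-free -/
theorem subsingleton_ext_zero (hdim : ringKrullDim A = 1) {T W : Type u} [AddCommGroup T]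
    [Module A T] [AddCommGroup W] [Module A W] [Module.IsTorsionFree A W]
    (hT : IsFiniteLength A T) :
    Subsingleton (Ext.{u} (ModuleCat.of A T) (ModuleCat.of A W) 0) := by
  have : Subsingleton (T →ₗ[A] W) :=
    ⟨fun f g => by rw [hom_eq_zero hdim hT f, hom_eq_zero hdim hT g]⟩
  exact (ExtBC.homEquivExt₀ (ModuleCat.of A T) (ModuleCat.of A W)).symm.toEquiv.subsingleton

end OneDim

end Groth.Agent.H6.TFD
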