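import Mathlib
import Groth.Agent.Lib.Helper6.TFD1

/-!
# Duality for torsion-free modules over one-dimensional local domains, part 2

`IsCan A W`: `W` is a finitely generated torsion-free module of rank one and injective dimension
at most one over the one-dimensional Noetherian local domain `A` (a canonical module).  We prove

* `ext_one_subsingleton` : `Ext^1(X, W) = 0` for `X` finitely generated torsion-free;
* `scalar_bijective` : `A = End(W)`;
* `length_ext_one` : `ℓ Ext^1(T, W) = ℓ T` for `T` of finite length;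
* `length_coker_dual` : for `X' ⊆ X` with finite length quotient and `Ext^1(X, W) = 0`,
  `ℓ (Hom(X', W)/Hom(X, W)) = ℓ (X/X')`.
-/

set_option autoImplicit false
universe u
open CategoryTheory CategoryTheory.Abelian IsLocalRing

namespace Groth.Agent.H6.TFD

open ExtDualF

/-- a canonical module of a one-dimensional local domain: finitely generated, torsion-free, of
rank one, of injective dimension at most one -/
structure IsCan (A : Type u) [CommRing A] (W : Type u) [AddCommGroup W] [Module A W] : Prop where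
  fin : Module.Finite A W
  tf : Module.IsTorsionFree A W
  nontriv : Nontrivial W
  inj : HasInjectiveDimensionLT (ModuleCat.of A W) 2
  rank1 : ∀ b : W →ₗ[A] W, ∃ p q : A, q ≠ 0 ∧ q • b = p • LinearMap.id

section Submodule

variable {A : Type u} [CommRing A] [IsDomain A] {K : Type u} [Field K] [Algebra A K]
  [IsFractionRing A K]

/-- a nonzero finitely generated submodule of the fraction field of injective dimension at most
one is a canonical module -/
theorem isCan_of_submodule (ω : Submodule A K) (hω0 : ω ≠ ⊥) (hωfg : ω.FG)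
    (hinj : HasInjectiveDimensionLT (ModuleCat.of A ↥ω) 2) : IsCan A ↥ω := by
  haveI : Nontrivial ↥ω := Submodule.nontrivial_iff_ne_bot.mpr hω0
  obtain ⟨w₀, hw₀⟩ := exists_ne (0 : ↥ω)
  have hw₀K : (w₀ : K) ≠ 0 := fun h => hw₀ (Subtype.ext h)
  have K1 : ∀ v : ↥ω, ∃ c d : A, d ≠ 0 ∧ d • v = c • w₀ := by
    intro v
    obtain ⟨c, d, hd, hz⟩ := IsFractionRing.div_surjective A ((v : K) / (w₀ : K))
    have hd0 : d ≠ 0 := nonZeroDivisors.ne_zero hd
    have hdK : algebraMap A K d ≠ 0 := by
      intro h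
      exact hd0 ((IsFractionRing.injective A K) (by rw [h, map_zero]))
    refine ⟨c, d, hd0, Subtype.ext ?_⟩
    rw [div_eq_div_iff hdK hw₀K] at hz
    change d • (v : K) = c • (w₀ : K)
    rw [Algebra.smul_def, Algebra.smul_def, hz, mul_comm]
  refine ⟨Module.Finite.iff_fg.mpr hωfg, inferInstance, inferInstance, hinj, ?_⟩
  intro b
  obtain ⟨p, q, hq, hpq⟩ := K1 (b w₀)
  refine ⟨p, q, hq, ?_⟩
  apply LinearMap.ext
  intro v
  obtain ⟨c, d, hd, hcd⟩ := K1 v
  apply smul_right_injective ↥ω hd
  change d • (q • b v) = d • (p • v)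
  calc d • (q • b v) = q • b (d • v) := by rw [map_smul, smul_comm]
    _ = q • b (c • w₀) := by rw [hcd]
    _ = c • (q • b w₀) := by rw [map_smul, smul_comm]
    _ = c • (p • w₀) := by rw [hpq]
    _ = p • (c • w₀) := smul_comm _ _ _
    _ = p • (d • v) := by rw [hcd]
    _ = d • (p • v) := smul_comm _ _ _

end Submodule

section Can

variable {A : Type u} [CommRing A] [IsDomain A] [IsNoetherianRing A] [IsLocalRing A]
  (hdim : ringKrullDim A = 1) {W : Type u} [AddCommGroup W] [Module A W] (hW : IsCan A W)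

include hdim hW

/-- `Ext^1(X, W) = 0` for `X` finitely generated torsion-free -/
theorem ext_one_subsingleton (X : Type u) [AddCommGroup X] [Module A X] [Module.Finite A X]
    [Module.IsTorsionFree A X] :
    Subsingleton (Ext.{u} (ModuleCat.of A X) (ModuleCat.of A W) 1) := by
  obtain ⟨x, hxm, hx0⟩ := exists_mem_ne_zero hdim
  have hreg : IsSMulRegular X x := by
    intro a b hab
    have h1 : x • (a - b) = 0 := by rw [smul_sub]; exact sub_eq_zero.mpr hab
    rcases smul_eq_zero.mp h1 with h | h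
    · exact absurd h hx0
    · exact sub_eq_zero.mp h
  haveI : Module.Finite A (ModuleCat.of A X) := ‹Module.Finite A X›
  haveI : Module.Finite A (ModuleCat.of A W) := hW.fin
  haveI := hW.inj
  have h3 : Subsingleton (Ext.{u} (ModuleCat.of A (QuotSMulTop x (ModuleCat.of A X)))
      (ModuleCat.of A W) (1 + 1)) :=
    HasInjectiveDimensionLT.subsingleton (ModuleCat.of A W) 2 2 le_rfl _
  exact Isch.ext_subsingleton_of_quotSMulTop (ModuleCat.of A X) (ModuleCat.of A W) hxm hreg 1 h3

omit hdim in
/-- `Ext^i(X, W) = 0` for `i ≥ 2` -/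
theorem ext_ge_two_subsingleton (X : ModuleCat.{u} A) (i : ℕ) (hi : 2 ≤ i) :
    Subsingleton (Ext.{u} X (ModuleCat.of A W) i) := by
  haveI := hW.inj
  exact HasInjectiveDimensionLT.subsingleton (ModuleCat.of A W) 2 i hi _

/-- `Ext^i(X, W) = 0` for `i ≥ 1` and `X` finitely generated torsion-free -/
theorem ext_pos_subsingleton (X : Type u) [AddCommGroup X] [Module A X] [Module.Finite A X]
    [Module.IsTorsionFree A X] (i : ℕ) (hi : 1 ≤ i) :
    Subsingleton (Ext.{u} (ModuleCat.of A X) (ModuleCat.of A W) i) := by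
  by_cases h2 : 2 ≤ i
  · exact ext_ge_two_subsingleton hW _ i h2
  · obtain rfl : i = 1 := by omega
    exact ext_one_subsingleton hdim hW X

/-- `ℓ Ext^1(T, W) = ℓ(T) · r` with `r = ℓ Ext^1(k, W)` -/
theorem length_ext_one_mul (T : Type u) [AddCommGroup T] [Module A T]
    (hT : IsFiniteLength A T) :
    Module.length A (Ext.{u} (ModuleCat.of A T) (ModuleCat.of A W) 1) =
      Module.length A T *
        Module.length A (Ext.{u} (ModuleCat.of A (A ⧸ maximalIdeal A)) (ModuleCat.of A W) 1) := by
  haveI := hW.tf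
  exact length_D (ModuleCat.of A W) 0 (fun T _ _ hT => subsingleton_ext_zero hdim hT)
    (fun T _ _ _ => ext_ge_two_subsingleton hW _ (0 + 1 + 1) le_rfl) T hT

/-- for `X' ⊆ X` with finite length quotient and `Ext^1(X, W) = 0`:
`ℓ (Hom(X', W)/Hom(X, W)) = ℓ (X/X') · r` -/
theorem length_coker_dual_mul {X' X : Type u} [AddCommGroup X'] [Module A X'] [AddCommGroup X]
    [Module A X] (j : X' →ₗ[A] X) (hj : Function.Injective j)
    (hvan : Subsingleton (Ext.{u} (ModuleCat.of A X) (ModuleCat.of A W) 1))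
    (hfl : IsFiniteLength A (X ⧸ LinearMap.range j)) :
    Module.length A ((X' →ₗ[A] W) ⧸ LinearMap.range (LinearMap.lcomp A W j)) =
      Module.length A (X ⧸ LinearMap.range j) *
        Module.length A (Ext.{u} (ModuleCat.of A (A ⧸ maximalIdeal A)) (ModuleCat.of A W) 1) := by
  have hex : ∀ y, (LinearMap.range j).mkQ y = 0 ↔ ∃ x, j x = y := by
    intro y
    rw [Submodule.mkQ_apply, Submodule.Quotient.mk_eq_zero]
    rfl
  obtain ⟨w, hS⟩ := GrLD.shortExact_of_exact j (LinearMap.range j).mkQ hj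
    (Submodule.mkQ_surjective _) hex
  obtain ⟨q, hq, hker⟩ := exists_ext_one_of_vanish W hS hvan
  rw [← length_ext_one_mul hdim hW _ hfl, ← (LinearMap.quotKerEquivOfSurjective q hq).length_eq]
  exact (Submodule.quotEquivOfEq _ _ hker.symm).length_eq

end Can

section Qx

variable {A : Type u} [CommRing A]

/-- `Y / xY` -/
abbrev Qx (x : A) (Y : Type u) [AddCommGroup Y] [Module A Y] : Type u :=
  Y ⧸ LinearMap.range (x • (LinearMap.id : Y →ₗ[A] Y))

/-- functoriality of `Y / xY` for isomorphisms -/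
noncomputable def QxCongr (x : A) {Y Y' : Type u} [AddCommGroup Y] [Module A Y] [AddCommGroup Y']
    [Module A Y'] (e : Y ≃ₗ[A] Y') : Qx x Y ≃ₗ[A] Qx x Y' :=
  Submodule.Quotient.equiv _ _ e (by
    ext y
    constructor
    · rintro ⟨_, ⟨z, rfl⟩, rfl⟩
      exact ⟨e z, by simp⟩
    · rintro ⟨z, rfl⟩
      exact ⟨x • e.symm z, ⟨e.symm z, rfl⟩, by simp⟩)

theorem lcomp_smul_id (x : A) (Y W : Type u) [AddCommGroup Y] [Module A Y] [AddCommGroup W]
    [Module A W] :
    LinearMap.lcomp A W (x • (LinearMap.id : Y →ₗ[A] Y)) =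
      x • (LinearMap.id : (Y →ₗ[A] W) →ₗ[A] (Y →ₗ[A] W)) := by
  apply LinearMap.ext
  intro f
  apply LinearMap.ext
  intro y
  simp

end Qx

section Can2

variable {A : Type u} [CommRing A] [IsDomain A] [IsNoetherianRing A] [IsLocalRing A]
  (hdim : ringKrullDim A = 1) {W : Type u} [AddCommGroup W] [Module A W] (hW : IsCan A W)

include hdim in
theorem isFiniteLength_Qx (x : A) (hx : x ≠ 0) (Y : Type u) [AddCommGroup Y] [Module A Y]
    [Module.Finite A Y] : IsFiniteLength A (Qx x Y) := by
  apply isFiniteLength_of_torsion hdim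
  intro t
  obtain ⟨y, rfl⟩ := Submodule.Quotient.mk_surjective _ t
  refine ⟨x, hx, ?_⟩
  rw [← Submodule.Quotient.mk_smul, Submodule.Quotient.mk_eq_zero]
  exact ⟨y, rfl⟩

include hdim hW

/-- `ℓ (Hom(Y, W)/x) = ℓ (Y/x) · r` -/
theorem length_Qx_hom (x : A) (hx : x ≠ 0) (Y : Type u) [AddCommGroup Y] [Module A Y]
    [Module.Finite A Y] [Module.IsTorsionFree A Y]
    (hvan : Subsingleton (Ext.{u} (ModuleCat.of A Y) (ModuleCat.of A W) 1)) :
    Module.length A (Qx x (Y →ₗ[A] W)) =
      Module.length A (Qx x Y) *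
        Module.length A (Ext.{u} (ModuleCat.of A (A ⧸ maximalIdeal A)) (ModuleCat.of A W) 1) := by
  have hinj : Function.Injective (x • (LinearMap.id : Y →ₗ[A] Y)) := by
    intro a b hab
    exact smul_right_injective Y hx hab
  have h := length_coker_dual_mul hdim hW (x • (LinearMap.id : Y →ₗ[A] Y)) hinj hvan
    (isFiniteLength_Qx hdim x hx Y)
  rw [← h]
  exact (Submodule.quotEquivOfEq _ _ (by rw [lcomp_smul_id])).length_eq

/-- `ℓ (W/xW) = ℓ (A/xA) · r` -/
theorem length_Qx_W (x : A) (hx : x ≠ 0) :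
    Module.length A (Qx x W) =
      Module.length A (Qx x A) *
        Module.length A (Ext.{u} (ModuleCat.of A (A ⧸ maximalIdeal A)) (ModuleCat.of A W) 1) := by
  have hvan : Subsingleton (Ext.{u} (ModuleCat.of A A) (ModuleCat.of A W) 1) := by
    haveI : Projective (ModuleCat.of A A) :=
      (IsProjective.iff_projective (R := A) A).mp inferInstance
    exact ⟨fun a b => by
      rw [Ext.eq_zero_of_projective (n := 0) a, Ext.eq_zero_of_projective (n := 0) b]⟩
  rw [← length_Qx_hom hdim hW x hx A hvan]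
  exact (QxCongr x (LinearMap.ringLmapEquivSelf A A W)).length_eq.symm

/-- the type `r = ℓ Ext^1(k, W)` is nonzero -/
theorem type_ne_zero :
    Module.length A (Ext.{u} (ModuleCat.of A (A ⧸ maximalIdeal A)) (ModuleCat.of A W) 1) ≠ 0 := by
  intro hr
  obtain ⟨x, hxm, hx0⟩ := exists_mem_ne_zero hdim
  have h1 := length_Qx_W hdim hW x hx0
  rw [hr, mul_zero, Module.length_eq_zero_iff] at h1
  have h2 : LinearMap.range (x • (LinearMap.id : W →ₗ[A] W)) = ⊤ :=
    Submodule.Quotient.subsingleton_iff.mp h1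
  haveI := hW.fin
  haveI := hW.nontriv
  have h3 : (⊤ : Submodule A W) ≤ maximalIdeal A • (⊤ : Submodule A W) := by
    intro w _
    have : w ∈ LinearMap.range (x • (LinearMap.id : W →ₗ[A] W)) := by rw [h2]; trivial
    obtain ⟨w', rfl⟩ := this
    exact Submodule.smul_mem_smul hxm Submodule.mem_top
  have h4 := Submodule.eq_bot_of_le_smul_of_le_jacobson_bot (maximalIdeal A) ⊤
    Module.Finite.fg_top h3 (IsLocalRing.maximalIdeal_le_jacobson _)
  exact top_ne_bot h4

/-- **`A = End(W)`** -/
theorem scalar_bijective :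
    Function.Bijective (LinearMap.toSpanSingleton A (W →ₗ[A] W) LinearMap.id) := by
  haveI := hW.fin
  haveI := hW.tf
  haveI := hW.nontriv
  set s := LinearMap.toSpanSingleton A (W →ₗ[A] W) LinearMap.id with hs
  have hsa : ∀ a : A, s a = a • LinearMap.id := fun a => rfl
  have hinj : Function.Injective s := by
    rw [injective_iff_map_eq_zero]
    intro a ha
    obtain ⟨w, hw⟩ := exists_ne (0 : W)
    have h1 : a • w = 0 := by
      have := LinearMap.congr_fun ha w
      rw [hsa] at this
      exact this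
    exact (smul_eq_zero.mp h1).resolve_right hw
  refine ⟨hinj, ?_⟩
  -- the quotient `End(W)/A` is torsion, hence of finite length
  have htor : ∀ t : (W →ₗ[A] W) ⧸ LinearMap.range s, ∃ a : A, a ≠ 0 ∧ a • t = 0 := by
    intro t
    obtain ⟨b, rfl⟩ := Submodule.Quotient.mk_surjective _ t
    obtain ⟨p, q, hq, hpq⟩ := hW.rank1 b
    refine ⟨q, hq, ?_⟩
    rw [← Submodule.Quotient.mk_smul, Submodule.Quotient.mk_eq_zero, hpq]
    exact ⟨p, rfl⟩
  have hfl := isFiniteLength_of_torsion hdim _ htor
  have hvan := ext_one_subsingleton hdim hW (W →ₗ[A] W)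
  have h1 := length_coker_dual_mul hdim hW s hinj hvan hfl
  have hsurj : LinearMap.range (LinearMap.lcomp A W s) = ⊤ := by
    rw [LinearMap.range_eq_top]
    intro g
    refine ⟨LinearMap.applyₗ (g 1), ?_⟩
    apply LinearMap.ext
    intro a
    change (s a) (g 1) = g a
    rw [hsa, LinearMap.smul_apply, LinearMap.id_apply, ← map_smul, smul_eq_mul, mul_one]
  have h2 : Module.length A ((A →ₗ[A] W) ⧸ LinearMap.range (LinearMap.lcomp A W s)) = 0 := by
    rw [Module.length_eq_zero_iff]
    exact Submodule.Quotient.subsingleton_iff.mpr hsurj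
  rw [h2] at h1
  have h3 := (mul_eq_zero.mp h1.symm).resolve_right (type_ne_zero hdim hW)
  rw [Module.length_eq_zero_iff] at h3
  have h4 : LinearMap.range s = ⊤ := Submodule.Quotient.subsingleton_iff.mp h3
  exact LinearMap.range_eq_top.mp h4

/-- the type of `W` is one -/
theorem type_eq_one :
    Module.length A (Ext.{u} (ModuleCat.of A (A ⧸ maximalIdeal A)) (ModuleCat.of A W) 1) = 1 := by
  haveI := hW.fin
  haveI := hW.tf
  obtain ⟨x, hxm, hx0⟩ := exists_mem_ne_zero hdim
  set r := Module.length A (Ext.{u} (ModuleCat.of A (A ⧸ maximalIdeal A)) (ModuleCat.of A W) 1)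
    with hr
  have h1 : Module.length A (Qx x W) = Module.length A (Qx x A) * r := length_Qx_W hdim hW x hx0
  have h2 : Module.length A (Qx x (W →ₗ[A] W)) = Module.length A (Qx x W) * r :=
    length_Qx_hom hdim hW x hx0 W (ext_one_subsingleton hdim hW W)
  have h3 : Module.length A (Qx x (W →ₗ[A] W)) = Module.length A (Qx x A) :=
    (QxCongr x (LinearEquiv.ofBijective _ (scalar_bijective hdim hW))).length_eq.symm
  have hfin : Module.length A (Qx x A) ≠ ⊤ :=
    Module.length_ne_top_iff.mpr (isFiniteLength_Qx hdim x hx0 A)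
  have hpos : Module.length A (Qx x A) ≠ 0 := by
    rw [Ne, Module.length_eq_zero_iff, Submodule.Quotient.subsingleton_iff]
    intro h
    have : (1 : A) ∈ LinearMap.range (x • (LinearMap.id : A →ₗ[A] A)) := by rw [h]; trivial
    obtain ⟨y, hy⟩ := this
    have hu : IsUnit x := IsUnit.of_mul_eq_one y (by simpa using hy)
    exact (IsLocalRing.mem_maximalIdeal x).mp hxm hu
  rw [h1, mul_assoc] at h2
  rw [h2] at h3
  obtain ⟨a, ha⟩ := ENat.ne_top_iff_exists.mp hfin
  have hrfin : r ≠ ⊤ := by
    intro h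
    rw [h, ← ha] at h3
    have ha0 : (a : ℕ∞) ≠ 0 := by rw [ha]; exact hpos
    rw [ENat.top_mul (by simp), ENat.mul_top ha0] at h3
    exact ENat.top_ne_natCast a h3
  obtain ⟨r', hr'⟩ := ENat.ne_top_iff_exists.mp hrfin
  rw [← ha, ← hr'] at h3
  have ha0 : a ≠ 0 := by
    intro h
    apply hpos
    rw [← ha, h]; rfl
  norm_cast at h3
  have h4 : r' * r' = 1 := by
    have : a * (r' * r') = a * 1 := by rw [h3, mul_one]
    exact Nat.eq_of_mul_eq_mul_left (Nat.pos_of_ne_zero ha0) this
  have h5 : r' = 1 := Nat.eq_one_of_mul_eq_one_left h4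
  rw [← hr', h5]
  rfl

/-- **`ℓ Ext^1(T, W) = ℓ T`** for `T` of finite length -/
theorem length_ext_one (T : Type u) [AddCommGroup T] [Module A T] (hT : IsFiniteLength A T) :
    Module.length A (Ext.{u} (ModuleCat.of A T) (ModuleCat.of A W) 1) = Module.length A T := by
  rw [length_ext_one_mul hdim hW T hT, type_eq_one hdim hW, mul_one]

/-- for `X' ⊆ X` with finite length quotient and `Ext^1(X, W) = 0`:
`ℓ (Hom(X', W)/Hom(X, W)) = ℓ (X/X')` -/
theorem length_coker_dual {X' X : Type u} [AddCommGroup X'] [Module A X'] [AddCommGroup X]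
    [Module A X] (j : X' →ₗ[A] X) (hj : Function.Injective j)
    (hvan : Subsingleton (Ext.{u} (ModuleCat.of A X) (ModuleCat.of A W) 1))
    (hfl : IsFiniteLength A (X ⧸ LinearMap.range j)) :
    Module.length A ((X' →ₗ[A] W) ⧸ LinearMap.range (LinearMap.lcomp A W j)) =
      Module.length A (X ⧸ LinearMap.range j) := by
  rw [length_coker_dual_mul hdim hW j hj hvan hfl, type_eq_one hdim hW, mul_one]

end Can2

end Groth.Agent.H6.TFD
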