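import Mathlib
import Groth.Agent.Lib.Helper6.TFD2
import Groth.Agent.H4.TFDual

/-!
# Duality for torsion-free modules over one-dimensional local domains, part 3: reflexivity

For a canonical module `W` of a one-dimensional Noetherian local domain `A` (see `IsCan`), every
finitely generated torsion-free module `X` is `W`-reflexive: `X → Hom(Hom(X, W), W)` is bijective
(`ev_bijective`).
-/

set_option autoImplicit false
universe u
open CategoryTheory CategoryTheory.Abelian IsLocalRing Cardinal

namespace Groth.Agent.H6.TFD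

section Refl

variable {A : Type u} [CommRing A] [IsDomain A] [IsNoetherianRing A] [IsLocalRing A]
  (hdim : ringKrullDim A = 1) {W : Type u} [AddCommGroup W] [Module A W] (hW : IsCan A W)

include hW in
/-- finitely generated torsion-free modules are `W`-torsionless -/
theorem exists_functional (X : Type u) [AddCommGroup X] [Module A X] [Module.Finite A X]
    [Module.IsTorsionFree A X] (x : X) (hx : x ≠ 0) : ∃ φ : X →ₗ[A] W, φ x ≠ 0 := by
  haveI := hW.tf
  haveI := hW.nontriv
  obtain ⟨n, f, hf⟩ := Groth.Agent.H4.TFDual.exists_injective_of_torsionFree A X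
  have hfx : f x ≠ 0 := fun h => hx (hf (by rw [h, map_zero]))
  obtain ⟨k, hk⟩ : ∃ k, f x k ≠ 0 := by
    by_contra hcon
    push Not at hcon
    exact hfx (funext hcon)
  obtain ⟨w₀, hw₀⟩ := exists_ne (0 : W)
  refine ⟨(LinearMap.toSpanSingleton A W w₀) ∘ₗ (LinearMap.proj k) ∘ₗ f, ?_⟩
  change (f x k) • w₀ ≠ 0
  exact smul_ne_zero hk hw₀

include hW in
theorem ev_injective (X : Type u) [AddCommGroup X] [Module A X] [Module.Finite A X]
    [Module.IsTorsionFree A X] :
    Function.Injective (LinearMap.applyₗ : X →ₗ[A] (X →ₗ[A] W) →ₗ[A] W) := by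
  rw [injective_iff_map_eq_zero]
  intro x hx
  by_contra hx0
  obtain ⟨φ, hφ⟩ := exists_functional hW X x hx0
  exact hφ (LinearMap.congr_fun hx φ)

include hdim hW in
/-- finite free modules are `W`-reflexive -/
theorem ev_surjective_of_basis {ι : Type*} [Fintype ι] {G : Type u} [AddCommGroup G] [Module A G]
    (b : Module.Basis ι A G) :
    Function.Surjective (LinearMap.applyₗ : G →ₗ[A] (G →ₗ[A] W) →ₗ[A] W) := by
  classical
  intro Λ
  have hsc := scalar_bijective hdim hW
  have hβ : ∀ i, ∃ a : A, ∀ w : W, Λ ((b.coord i).smulRight w) = a • w := by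
    intro i
    obtain ⟨a, ha⟩ := hsc.2 (Λ ∘ₗ LinearMap.smulRightₗ (b.coord i))
    refine ⟨a, fun w => ?_⟩
    have := LinearMap.congr_fun ha w
    exact this.symm
  choose a ha using hβ
  refine ⟨∑ i, a i • b i, ?_⟩
  apply LinearMap.ext
  intro φ
  change φ (∑ i, a i • b i) = Λ φ
  have hφ : φ = ∑ i, (b.coord i).smulRight (φ (b i)) := by
    apply b.ext
    intro k
    rw [LinearMap.sum_apply]
    simp only [LinearMap.smulRight_apply, Module.Basis.coord_apply, Module.Basis.repr_self]
    rw [Finset.sum_eq_single k]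
    · simp
    · intro i _ hik
      simp [Finsupp.single_apply, hik.symm]
    · simp
  conv_rhs => rw [hφ]
  rw [map_sum, map_sum]
  apply Finset.sum_congr rfl
  intro i _
  rw [ha, map_smul]

/-- a finitely generated module over a domain contains a finite linearly independent family
whose span has torsion quotient -/
theorem exists_free_sub (X : Type u) [AddCommGroup X] [Module A X] [Module.Finite A X] :
    ∃ s : Set X, s.Finite ∧ LinearIndepOn A id s ∧
      ∀ x : X, ∃ a : A, a ≠ 0 ∧ a • x ∈ Submodule.span A s := by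
  obtain ⟨s, hs1, hs2⟩ := exists_set_linearIndependent_of_isDomain A X
  have hfin : Module.rank A X < ℵ₀ := Module.rank_lt_aleph0 A X
  have hsfin : s.Finite := by
    rw [← Cardinal.lt_aleph0_iff_set_finite, hs1]
    exact hfin
  refine ⟨s, hsfin, hs2, ?_⟩
  have h1 := rank_quotient_add_rank_of_isDomain (Submodule.span A s)
  rw [rank_span_set hs2, hs1] at h1
  have h2 : Module.rank A (X ⧸ Submodule.span A s) = 0 := by
    obtain ⟨r, hr⟩ := Cardinal.lt_aleph0.mp hfin
    have hc : Module.rank A (X ⧸ Submodule.span A s) < ℵ₀ :=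
      lt_of_le_of_lt (le_self_add) (h1 ▸ hfin)
    obtain ⟨c, hc'⟩ := Cardinal.lt_aleph0.mp hc
    rw [hc', hr] at h1
    norm_cast at h1
    rw [hc']
    have : c = 0 := by omega
    rw [this]; rfl
  have h3 : Module.IsTorsion A (X ⧸ Submodule.span A s) := Module.rank_eq_zero_iff_isTorsion.mp h2
  intro x
  obtain ⟨a, ha⟩ := @h3 (Submodule.Quotient.mk x)
  refine ⟨a.1, nonZeroDivisors.ne_zero a.2, ?_⟩
  rw [← Submodule.Quotient.mk_eq_zero, Submodule.Quotient.mk_smul]
  exact ha

include hdim hW in
/-- **reflexivity**: every finitely generated torsion-free module is `W`-reflexive -/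
theorem ev_bijective (X : Type u) [AddCommGroup X] [Module A X] [Module.Finite A X]
    [Module.IsTorsionFree A X] :
    Function.Bijective (LinearMap.applyₗ : X →ₗ[A] (X →ₗ[A] W) →ₗ[A] W) := by
  classical
  haveI := hW.fin
  haveI := hW.tf
  refine ⟨ev_injective hW X, ?_⟩
  obtain ⟨s, hsfin, hsli, hstor⟩ := exists_free_sub X (A := A)
  haveI : Fintype s := hsfin.fintype
  set G : Submodule A X := Submodule.span A s with hG
  have hrs : Set.range (fun x : s => (x : X)) = s := Subtype.range_coe
  have hli : LinearIndependent A (fun x : s => (x : X)) := hsli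
  let b : Module.Basis s A G :=
    (Module.Basis.span hli).map (LinearEquiv.ofEq _ _ (by rw [hG, hrs]))
  set j : G →ₗ[A] X := G.subtype with hj
  have hjinj : Function.Injective j := Submodule.subtype_injective _
  have hrange : LinearMap.range j = G := Submodule.range_subtype _
  -- `X / G` has finite length
  have hfl : IsFiniteLength A (X ⧸ LinearMap.range j) := by
    apply isFiniteLength_of_torsion hdim
    intro t
    obtain ⟨x, rfl⟩ := Submodule.Quotient.mk_surjective _ t
    obtain ⟨a, ha0, ha⟩ := hstor x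
    refine ⟨a, ha0, ?_⟩
    rw [← Submodule.Quotient.mk_smul, Submodule.Quotient.mk_eq_zero, hrange]
    exact ha
  -- first dual
  set j1 : (X →ₗ[A] W) →ₗ[A] (G →ₗ[A] W) := LinearMap.lcomp A W j with hj1
  have hj1inj : Function.Injective j1 := by
    rw [injective_iff_map_eq_zero]
    intro φ hφ
    apply LinearMap.ext
    intro x
    obtain ⟨a, ha0, ha⟩ := hstor x
    have h1 : φ (a • x) = 0 := LinearMap.congr_fun hφ ⟨a • x, ha⟩
    rw [map_smul] at h1
    exact (smul_eq_zero.mp h1).resolve_left ha0
  have hlen1 := length_coker_dual hdim hW j hjinj (ext_one_subsingleton hdim hW X) hfl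
  have hfl1 : IsFiniteLength A ((G →ₗ[A] W) ⧸ LinearMap.range j1) := by
    rw [← Module.length_ne_top_iff, hlen1, Module.length_ne_top_iff]
    exact hfl
  -- second dual
  set j2 : ((G →ₗ[A] W) →ₗ[A] W) →ₗ[A] ((X →ₗ[A] W) →ₗ[A] W) := LinearMap.lcomp A W j1 with hj2
  have hlen2 := length_coker_dual hdim hW j1 hj1inj
    (ext_one_subsingleton hdim hW (G →ₗ[A] W)) hfl1
  -- naturality
  have hnat : ∀ g : G, (LinearMap.applyₗ (j g) : (X →ₗ[A] W) →ₗ[A] W) =
      j2 (LinearMap.applyₗ g) := fun g => rfl
  have hevG : Function.Surjective (LinearMap.applyₗ : G →ₗ[A] (G →ₗ[A] W) →ₗ[A] W) :=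
    ev_surjective_of_basis hdim hW b
  -- the induced map on quotients
  have hle : LinearMap.range j ≤
      (LinearMap.range j2).comap (LinearMap.applyₗ : X →ₗ[A] (X →ₗ[A] W) →ₗ[A] W) := by
    rintro _ ⟨g, rfl⟩
    rw [Submodule.mem_comap, hnat]
    exact LinearMap.mem_range_self _ _
  set ē := Submodule.mapQ (LinearMap.range j) (LinearMap.range j2)
    (LinearMap.applyₗ : X →ₗ[A] (X →ₗ[A] W) →ₗ[A] W) hle with hē
  have hēinj : Function.Injective ē := by
    rw [injective_iff_map_eq_zero]
    intro t ht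
    obtain ⟨x, rfl⟩ := Submodule.Quotient.mk_surjective _ t
    rw [hē, Submodule.mapQ_apply, Submodule.Quotient.mk_eq_zero] at ht
    obtain ⟨Λ, hΛ⟩ := ht
    obtain ⟨g, rfl⟩ := hevG Λ
    rw [← hnat] at hΛ
    have := ev_injective hW X hΛ
    rw [Submodule.Quotient.mk_eq_zero]
    exact ⟨g, this⟩
  have hēsurj : Function.Surjective ē := by
    apply IH.surjective_of_injective_of_length_le ē hēinj
    · rw [hlen2, hlen1, Module.length_ne_top_iff]
      exact hfl
    · rw [hlen2, hlen1]
  intro Λ
  obtain ⟨t, ht⟩ := hēsurj (Submodule.Quotient.mk Λ)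
  obtain ⟨x, rfl⟩ := Submodule.Quotient.mk_surjective _ t
  rw [hē, Submodule.mapQ_apply, Submodule.Quotient.eq] at ht
  obtain ⟨Λ', hΛ'⟩ := ht
  obtain ⟨g, rfl⟩ := hevG Λ'
  rw [← hnat] at hΛ'
  refine ⟨x - j g, ?_⟩
  rw [map_sub, hΛ']
  abel

end Refl

end Groth.Agent.H6.TFD
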