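import Mathlib
import Groth.Agent.Lib.Helper6.TFD3

/-!
# Duality for torsion-free modules over one-dimensional local domains, part 4

`ext_symm`: for finitely generated torsion-free modules `M, N` over a one-dimensional Noetherian
local domain with canonical module `W`, `Ext^i(M, N) ≃ Ext^i(N*, M*)` where `X* = Hom(X, W)`.
-/

set_option autoImplicit false
universe u
open CategoryTheory CategoryTheory.Abelian IsLocalRing

namespace Groth.Agent.H6.TFD

open ExtDualF

section Sym

variable {A : Type u} [CommRing A] [IsDomain A] [IsNoetherianRing A] [IsLocalRing A]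
  (hdim : ringKrullDim A = 1) {W : Type u} [AddCommGroup W] [Module A W] (hW : IsCan A W)

/-- transposition `Hom(M, N) → Hom(N*, M*)` -/
noncomputable def transp (A : Type u) [CommRing A] (W : Type u) [AddCommGroup W] [Module A W] (M N : Type u)
    [AddCommGroup M] [Module A M] [AddCommGroup N] [Module A N] :
    (M →ₗ[A] N) →ₗ[A] ((N →ₗ[A] W) →ₗ[A] (M →ₗ[A] W)) where
  toFun f := LinearMap.lcomp A W f
  map_add' f g := by
    apply LinearMap.ext
    intro φ
    apply LinearMap.ext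
    intro m
    simp
  map_smul' a f := by
    apply LinearMap.ext
    intro φ
    apply LinearMap.ext
    intro m
    simp

theorem transp_apply (M N : Type u) [AddCommGroup M] [Module A M] [AddCommGroup N] [Module A N]
    (f : M →ₗ[A] N) (φ : N →ₗ[A] W) : transp A W M N f φ = φ ∘ₗ f := rfl

include hdim hW in
theorem transp_bijective (M N : Type u) [AddCommGroup M] [Module A M] [AddCommGroup N]
    [Module A N] [Module.Finite A N] [Module.IsTorsionFree A N] :
    Function.Bijective (transp A W M N) := by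
  constructor
  · rw [injective_iff_map_eq_zero]
    intro f hf
    apply LinearMap.ext
    intro m
    by_contra hm
    obtain ⟨φ, hφ⟩ := exists_functional hW N (f m) hm
    have h1 : transp A W M N f φ = 0 := by rw [hf]; rfl
    exact hφ (LinearMap.congr_fun h1 m)
  · intro g
    let evN : N ≃ₗ[A] ((N →ₗ[A] W) →ₗ[A] W) :=
      LinearEquiv.ofBijective LinearMap.applyₗ (ev_bijective hdim hW N)
    have hevN : ∀ (y : N) (φ : N →ₗ[A] W), (evN y) φ = φ y := fun y φ => rfl
    refine ⟨evN.symm.toLinearMap ∘ₗ (LinearMap.lcomp A W g) ∘ₗ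
      (LinearMap.applyₗ : M →ₗ[A] (M →ₗ[A] W) →ₗ[A] W), ?_⟩
    apply LinearMap.ext
    intro φ
    apply LinearMap.ext
    intro m
    rw [transp_apply]
    change φ (evN.symm ((LinearMap.applyₗ m : (M →ₗ[A] W) →ₗ[A] W) ∘ₗ g)) = g φ m
    rw [← hevN, LinearEquiv.apply_symm_apply]
    rfl

include hdim hW in
/-- the case `i = 0` -/
theorem ext_symm_zero (M N : Type u) [AddCommGroup M] [Module A M] [AddCommGroup N]
    [Module A N] [Module.Finite A N] [Module.IsTorsionFree A N] :
    Nonempty (Ext.{u} (ModuleCat.of A M) (ModuleCat.of A N) 0 ≃ₗ[A]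
      Ext.{u} (ModuleCat.of A (N →ₗ[A] W)) (ModuleCat.of A (M →ₗ[A] W)) 0) :=
  ⟨(ExtBC.homEquivExt₀ (ModuleCat.of A M) (ModuleCat.of A N)).symm ≪≫ₗ
    (LinearEquiv.ofBijective (transp A W M N) (transp_bijective hdim hW M N)) ≪≫ₗ
    (ExtBC.homEquivExt₀ (ModuleCat.of A (N →ₗ[A] W)) (ModuleCat.of A (M →ₗ[A] W)))⟩

include hdim hW in
/-- the two short exact sequences attached to a presentation of `N*` -/
theorem exists_dual_ses (N : Type u) [AddCommGroup N] [Module A N] [Module.Finite A N]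
    [Module.IsTorsionFree A N] :
    ∃ (n : ℕ) (p : (Fin n → A) →ₗ[A] (N →ₗ[A] W)), Function.Surjective p ∧
      Function.Injective p.flip ∧
      Function.Surjective (LinearMap.lcomp A W (LinearMap.ker p).subtype) ∧
      (∀ g, LinearMap.lcomp A W (LinearMap.ker p).subtype g = 0 ↔ ∃ x, p.flip x = g) := by
  haveI := hW.fin
  haveI := hW.tf
  obtain ⟨n, p, hp⟩ := Module.Finite.exists_fin' A (N →ₗ[A] W)
  refine ⟨n, p, hp, ?_, ?_, ?_⟩
  · rw [injective_iff_map_eq_zero]
    intro x hx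
    by_contra hx0
    obtain ⟨φ, hφ⟩ := exists_functional hW N x hx0
    obtain ⟨f, rfl⟩ := hp φ
    exact hφ (LinearMap.congr_fun hx f)
  · -- surjectivity of restriction, from `Ext^1(N*, W) = 0`
    have hexa : ∀ y, p y = 0 ↔ ∃ x : LinearMap.ker p, (LinearMap.ker p).subtype x = y := by
      intro y
      exact ⟨fun h => ⟨⟨y, h⟩, rfl⟩, by rintro ⟨x, rfl⟩; exact x.2⟩
    obtain ⟨w, hS⟩ := GrLD.shortExact_of_exact (LinearMap.ker p).subtype p
      (Submodule.subtype_injective _) hp hexa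
    have hvanF : Subsingleton (Ext.{u} (ModuleCat.of A (Fin n → A)) (ModuleCat.of A W) 1) := by
      haveI : Projective (ModuleCat.of A (Fin n → A)) :=
        (IsProjective.iff_projective (R := A) (Fin n → A)).mp inferInstance
      exact ⟨fun a b => by
        rw [Ext.eq_zero_of_projective (n := 0) a, Ext.eq_zero_of_projective (n := 0) b]⟩
    obtain ⟨q, hq, hker⟩ := exists_ext_one_of_vanish W hS hvanF
    haveI := ext_one_subsingleton hdim hW (N →ₗ[A] W)
    intro ψ
    have : ψ ∈ LinearMap.ker q := by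
      rw [LinearMap.mem_ker]; exact Subsingleton.elim _ _
    rw [hker] at this
    exact this
  · intro g
    constructor
    · intro hg
      have hkerle : LinearMap.ker p ≤ LinearMap.ker g := by
        intro y hy
        exact LinearMap.congr_fun hg ⟨y, hy⟩
      let gbar : (N →ₗ[A] W) →ₗ[A] W := ((LinearMap.ker p).liftQ g hkerle) ∘ₗ
        (p.quotKerEquivOfSurjective hp).symm.toLinearMap
      have hgbar : ∀ f, gbar (p f) = g f := by
        intro f
        change ((LinearMap.ker p).liftQ g hkerle)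
          ((p.quotKerEquivOfSurjective hp).symm (p f)) = g f
        have : (p.quotKerEquivOfSurjective hp).symm (p f) = Submodule.Quotient.mk f := by
          rw [LinearEquiv.symm_apply_eq]; rfl
        rw [this]; rfl
      obtain ⟨x, hx⟩ := (ev_bijective hdim hW N).2 gbar
      refine ⟨x, ?_⟩
      apply LinearMap.ext
      intro f
      rw [← hgbar, ← hx]
      rfl
    · rintro ⟨x, rfl⟩
      apply LinearMap.ext
      intro z
      change p z.1 x = 0
      have : p z.1 = 0 := z.2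
      rw [this]; rfl

include hdim hW in
/-- `Ext^k(M, Hom(A^n, W)) = 0` for `k ≥ 1` -/
theorem ext_hom_free_subsingleton (M : Type u) [AddCommGroup M] [Module A M] [Module.Finite A M]
    [Module.IsTorsionFree A M] (n k : ℕ) (hk : 1 ≤ k) :
    Subsingleton (Ext.{u} (ModuleCat.of A M) (ModuleCat.of A ((Fin n → A) →ₗ[A] W)) k) := by
  classical
  haveI := ext_pos_subsingleton hdim hW M k hk
  have key : ∀ x : Ext.{u} (ModuleCat.of A M) (ModuleCat.of A ((Fin n → A) →ₗ[A] W)) k,
      x = 0 := by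
    intro x
    let Φ : (((Fin n → A) →ₗ[A] W) →ₗ[A] ((Fin n → A) →ₗ[A] W)) →ₗ[A]
        Ext.{u} (ModuleCat.of A M) (ModuleCat.of A ((Fin n → A) →ₗ[A] W)) k :=
      (Ext.bilinearCompOfLinear A (ModuleCat.of A M) (ModuleCat.of A ((Fin n → A) →ₗ[A] W))
        (ModuleCat.of A ((Fin n → A) →ₗ[A] W)) k 0 k (add_zero k) x) ∘ₗ
        (ExtBC.homEquivExt₀ (ModuleCat.of A ((Fin n → A) →ₗ[A] W))
          (ModuleCat.of A ((Fin n → A) →ₗ[A] W))).toLinearMap
    have hΦ : ∀ g, Φ g = x.comp (Ext.mk₀ (ModuleCat.ofHom g)) (add_zero k) := fun g => rfl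
    let e : Fin n → (Fin n → A) := fun i j => if i = j then 1 else 0
    let pr : ∀ i : Fin n, ((Fin n → A) →ₗ[A] W) →ₗ[A] W := fun i => LinearMap.applyₗ (e i)
    let inc : ∀ i : Fin n, W →ₗ[A] ((Fin n → A) →ₗ[A] W) :=
      fun i => LinearMap.smulRightₗ (LinearMap.proj i)
    have hsum : (LinearMap.id : ((Fin n → A) →ₗ[A] W) →ₗ[A] ((Fin n → A) →ₗ[A] W)) =
        ∑ i, inc i ∘ₗ pr i := by
      apply LinearMap.ext
      intro g
      apply LinearMap.ext
      intro f
      rw [LinearMap.id_apply, LinearMap.sum_apply, LinearMap.sum_apply,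
        LinearMap.pi_apply_eq_sum_univ g f]
      rfl
    have hx : x = Φ LinearMap.id := by
      rw [hΦ]
      exact (Ext.comp_mk₀_id x).symm
    rw [hx, hsum, map_sum]
    apply Finset.sum_eq_zero
    intro i _
    rw [hΦ]
    have h1 : ModuleCat.ofHom (inc i ∘ₗ pr i) =
        ModuleCat.ofHom (pr i) ≫ ModuleCat.ofHom (inc i) := rfl
    rw [h1, ← Ext.mk₀_comp_mk₀, ← Ext.comp_assoc_of_third_deg_zero]
    have h2 : x.comp (Ext.mk₀ (ModuleCat.ofHom (pr i))) (add_zero k) = 0 :=
      Subsingleton.elim _ _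
    rw [h2, Ext.zero_comp]
  exact ⟨fun x y => by rw [key x, key y]⟩

omit [IsDomain A] [IsNoetherianRing A] [IsLocalRing A] in
/-- `Ext^k(A^n, Y) = 0` for `k ≥ 1` -/
theorem ext_free_subsingleton (n k : ℕ) (hk : 1 ≤ k) (Y : ModuleCat.{u} A) :
    Subsingleton (Ext.{u} (ModuleCat.of A (Fin n → A)) Y k) := by
  haveI : Projective (ModuleCat.of A (Fin n → A)) :=
    (IsProjective.iff_projective (R := A) (Fin n → A)).mp inferInstance
  obtain ⟨k, rfl⟩ : ∃ k', k = k' + 1 := ⟨k - 1, by omega⟩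
  exact ⟨fun a b => by rw [Ext.eq_zero_of_projective a, Ext.eq_zero_of_projective b]⟩

include hdim hW in
/-- the case `i = 1` -/
theorem ext_symm_one (M N : Type u) [AddCommGroup M] [Module A M] [Module.Finite A M]
    [Module.IsTorsionFree A M] [AddCommGroup N] [Module A N] [Module.Finite A N]
    [Module.IsTorsionFree A N] :
    Nonempty (Ext.{u} (ModuleCat.of A M) (ModuleCat.of A N) 1 ≃ₗ[A]
      Ext.{u} (ModuleCat.of A (N →ₗ[A] W)) (ModuleCat.of A (M →ₗ[A] W)) 1) := by
  obtain ⟨n, p, hp, hιinj, hρsurj, hexb⟩ := exists_dual_ses hdim hW N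
  have hexa : ∀ y, p y = 0 ↔ ∃ x : LinearMap.ker p, (LinearMap.ker p).subtype x = y := by
    intro y
    exact ⟨fun h => ⟨⟨y, h⟩, rfl⟩, by rintro ⟨x, rfl⟩; exact x.2⟩
  obtain ⟨wa, hSa⟩ := GrLD.shortExact_of_exact (LinearMap.ker p).subtype p
    (Submodule.subtype_injective _) hp hexa
  obtain ⟨wb, hSb⟩ := GrLD.shortExact_of_exact p.flip
    (LinearMap.lcomp A W (LinearMap.ker p).subtype) hιinj hρsurj hexb
  obtain ⟨qb, hqb, hkerb⟩ := exists_ext_one_cov M hSb
    (ext_hom_free_subsingleton hdim hW M n 1 le_rfl)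
  obtain ⟨qa, hqa, hkera⟩ := exists_ext_one_of_vanish (M →ₗ[A] W) hSa
    (ext_free_subsingleton n 1 le_rfl _)
  let fl : (M →ₗ[A] (LinearMap.ker p) →ₗ[A] W) ≃ₗ[A] ((LinearMap.ker p) →ₗ[A] M →ₗ[A] W) :=
    LinearMap.lflip (R₀ := A)
  have hmap : (LinearMap.range (LinearMap.compRight A
      (LinearMap.lcomp A W (LinearMap.ker p).subtype) (M := M))).map fl.toLinearMap =
      LinearMap.range (LinearMap.lcomp A (M →ₗ[A] W) (LinearMap.ker p).subtype) := by
    ext h
    constructor
    · rintro ⟨_, ⟨g, rfl⟩, rfl⟩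
      exact ⟨(LinearMap.lflip (R₀ := A)) g, rfl⟩
    · rintro ⟨g, rfl⟩
      exact ⟨_, ⟨(LinearMap.lflip (R₀ := A)) g, rfl⟩, rfl⟩
  have e1 := LinearMap.quotKerEquivOfSurjective qb hqb
  have e2 := LinearMap.quotKerEquivOfSurjective qa hqa
  have e3 := Submodule.Quotient.equiv _ _ fl hmap
  exact ⟨e1.symm ≪≫ₗ (Submodule.quotEquivOfEq _ _ hkerb) ≪≫ₗ e3 ≪≫ₗ
    (Submodule.quotEquivOfEq _ _ hkera.symm) ≪≫ₗ e2⟩

include hdim hW in
/-- **`Ext^i(M, N) ≃ Ext^i(N*, M*)`** for finitely generated torsion-free modules -/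
theorem ext_symm (i : ℕ) : ∀ (M N : Type u) [AddCommGroup M] [Module A M] [Module.Finite A M]
    [Module.IsTorsionFree A M] [AddCommGroup N] [Module A N] [Module.Finite A N]
    [Module.IsTorsionFree A N],
    Nonempty (Ext.{u} (ModuleCat.of A M) (ModuleCat.of A N) i ≃ₗ[A]
      Ext.{u} (ModuleCat.of A (N →ₗ[A] W)) (ModuleCat.of A (M →ₗ[A] W)) i) := by
  haveI := hW.fin
  haveI := hW.tf
  induction i with
  | zero =>
    intro M N _ _ _ _ _ _ _ _
    exact ext_symm_zero hdim hW M N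
  | succ i ih =>
    intro M N _ _ _ _ _ _ _ _
    rcases Nat.eq_zero_or_pos i with hi | hi
    · subst hi
      exact ext_symm_one hdim hW M N
    · obtain ⟨n, p, hp, hιinj, hρsurj, hexb⟩ := exists_dual_ses hdim hW N
      have hexa : ∀ y, p y = 0 ↔ ∃ x : LinearMap.ker p, (LinearMap.ker p).subtype x = y := by
        intro y
        exact ⟨fun h => ⟨⟨y, h⟩, rfl⟩, by rintro ⟨x, rfl⟩; exact x.2⟩
      obtain ⟨wa, hSa⟩ := GrLD.shortExact_of_exact (LinearMap.ker p).subtype p
        (Submodule.subtype_injective _) hp hexa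
      obtain ⟨wb, hSb⟩ := GrLD.shortExact_of_exact p.flip
        (LinearMap.lcomp A W (LinearMap.ker p).subtype) hιinj hρsurj hexb
      obtain ⟨e1⟩ := nonempty_ext_succ_cov M hSb i
        (ext_hom_free_subsingleton hdim hW M n i hi)
        (ext_hom_free_subsingleton hdim hW M n (i + 1) (by omega))
      obtain ⟨e2⟩ := ih M ((LinearMap.ker p) →ₗ[A] W)
      let evZ : (LinearMap.ker p) ≃ₗ[A] (((LinearMap.ker p) →ₗ[A] W) →ₗ[A] W) :=
        LinearEquiv.ofBijective LinearMap.applyₗ (ev_bijective hdim hW (LinearMap.ker p))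
      have e3 := DequivOfEquiv (ModuleCat.of A (M →ₗ[A] W)) i evZ
      obtain ⟨e4⟩ := nonempty_ext_succ_of_vanish (M →ₗ[A] W) hSa i
        (ext_free_subsingleton n i hi _) (ext_free_subsingleton n (i + 1) (by omega) _)
      exact ⟨e1.symm ≪≫ₗ e2 ≪≫ₗ e3 ≪≫ₗ e4⟩

end Sym

end Groth.Agent.H6.TFD
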