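import Mathlib
import Groth.Agent.Lib.Helper6.TFD4
import Groth.Agent.Lib.Helper6.Bass2

/-!
# Duality for torsion-free modules over one-dimensional local domains, part 6

Over a one-dimensional Gorenstein local domain `A` (canonical module `A` itself), for an overring
`M` of `A` (finite and torsion-free as an `A`-module):
`Ext^1(M, M) ≃ Hom(𝔠, A/𝔠)` with `𝔠 = (A : M)` (S15040).
-/

set_option autoImplicit false
universe u
open CategoryTheory CategoryTheory.Abelian IsLocalRing

namespace Groth.Agent.H6.TFD

section Gor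

variable {A : Type u} [CommRing A] [IsDomain A] [IsNoetherianRing A] [IsLocalRing A]

/-- a one-dimensional Gorenstein local domain is its own canonical module -/
theorem isCan_self (hdim : ringKrullDim A = 1) (n : ℕ)
    (hn : HasInjectiveDimensionLT (ModuleCat.of A A) n) : IsCan A A where
  fin := Module.Finite.self A
  tf := inferInstance
  nontriv := inferInstance
  inj := by
    have hd : ringKrullDim A = ((1 : ℕ) : WithBot ℕ∞) := by rw [hdim]; rfl
    exact Bass.hasInjectiveDimensionLT_of_gorenstein n hn 1 hd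
  rank1 := fun b => ⟨b 1, 1, one_ne_zero, by
    apply LinearMap.ext
    intro x
    change (1 : A) • b x = b 1 • x
    rw [one_smul, smul_eq_mul, mul_comm, ← smul_eq_mul, ← map_smul, smul_eq_mul, mul_one]⟩

end Gor

section Overring

variable {A : Type u} [CommRing A] [IsDomain A] {K : Type u} [Field K] [Algebra A K]
  [IsFractionRing A K] (M : Subalgebra A K)

/-- linear functionals on an overring are multiplications -/
theorem algebraMap_apply_eq_mul (g : ↥M →ₗ[A] A) (m : ↥M) :
    algebraMap A K (g m) = algebraMap A K (g 1) * (m : K) := by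
  obtain ⟨c, d, hd, hz⟩ := IsFractionRing.div_surjective A (m : K)
  have hd0 : d ≠ 0 := nonZeroDivisors.ne_zero hd
  have hdK : algebraMap A K d ≠ 0 := by
    intro h
    exact hd0 ((IsFractionRing.injective A K) (by rw [h, map_zero]))
  have hz' : algebraMap A K c = algebraMap A K d * (m : K) := by
    rw [← hz]
    field_simp
  have h1 : d • m = c • (1 : ↥M) := by
    apply Subtype.ext
    change d • (m : K) = c • (1 : K)
    rw [Algebra.smul_def, Algebra.smul_def, mul_one, hz']
  have h2 : d • g m = c • g 1 := by rw [← map_smul, ← map_smul, h1]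
  have h3 : algebraMap A K d * algebraMap A K (g m) =
      algebraMap A K c * algebraMap A K (g 1) := by
    rw [← map_mul, ← map_mul, ← smul_eq_mul, ← smul_eq_mul, h2]
  apply mul_left_cancel₀ hdK
  rw [h3, hz']
  ring

/-- evaluation at `1` identifies the dual of an overring with the colon `(A : M)` -/
noncomputable def dualToColon :
    (↥M →ₗ[A] A) →ₗ[A] ↥((1 : Submodule A K) / Subalgebra.toSubmodule M) :=
  LinearMap.codRestrict _
    ((Algebra.linearMap A K) ∘ₗ (LinearMap.applyₗ (1 : ↥M) : (↥M →ₗ[A] A) →ₗ[A] A))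
    (fun g => by
      rw [Submodule.mem_div_iff_forall_mul_mem]
      intro y hy
      change algebraMap A K (g 1) * y ∈ (1 : Submodule A K)
      rw [Submodule.mem_one]
      exact ⟨g ⟨y, hy⟩, algebraMap_apply_eq_mul M g ⟨y, hy⟩⟩)

theorem dualToColon_injective : Function.Injective (dualToColon M) := by
  rw [injective_iff_map_eq_zero]
  intro g hg
  have h1 : algebraMap A K (g 1) = 0 := congrArg Subtype.val hg
  apply LinearMap.ext
  intro m
  apply IsFractionRing.injective A K
  rw [algebraMap_apply_eq_mul M g m, h1, zero_mul, LinearMap.zero_apply, map_zero]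

/-- `A ≃ A·1 ⊆ K` -/
noncomputable def oneEquiv : A ≃ₗ[A] ↥(1 : Submodule A K) :=
  LinearEquiv.ofBijective
    (LinearMap.codRestrict _ (Algebra.linearMap A K) (fun a => Submodule.mem_one.mpr ⟨a, rfl⟩))
    ⟨fun _ _ h => IsFractionRing.injective A K (congrArg Subtype.val h),
     fun x => by
       obtain ⟨a, ha⟩ := Submodule.mem_one.mp x.2
       exact ⟨a, Subtype.ext ha⟩⟩

theorem dualToColon_surjective : Function.Surjective (dualToColon M) := by
  intro x
  have hx := x.2
  rw [Submodule.mem_div_iff_forall_mul_mem] at hx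
  let μ : ↥M →ₗ[A] ↥(1 : Submodule A K) :=
    { toFun := fun m => ⟨(x : K) * (m : K), hx m m.2⟩
      map_add' := fun s s' => Subtype.ext (by
        change (x : K) * ((s : K) + (s' : K)) = (x : K) * (s : K) + (x : K) * (s' : K)
        ring)
      map_smul' := fun a s => Subtype.ext (by
        change (x : K) * (a • (s : K)) = a • ((x : K) * (s : K))
        rw [Algebra.smul_def, Algebra.smul_def]
        ring) }
  refine ⟨(oneEquiv (A := A) (K := K)).symm.toLinearMap ∘ₗ μ, Subtype.ext ?_⟩
  change algebraMap A K ((oneEquiv (A := A) (K := K)).symm (μ 1)) = (x : K)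
  have h1 : algebraMap A K ((oneEquiv (A := A) (K := K)).symm (μ 1)) =
      ((oneEquiv (A := A) (K := K)) ((oneEquiv (A := A) (K := K)).symm (μ 1)) : K) := rfl
  rw [h1, LinearEquiv.apply_symm_apply]
  change (x : K) * 1 = x
  rw [mul_one]

theorem range_eval_one :
    LinearMap.range (LinearMap.applyₗ (1 : ↥M) : (↥M →ₗ[A] A) →ₗ[A] A) =
      Submodule.comap (Algebra.linearMap A K)
        ((1 : Submodule A K) / Subalgebra.toSubmodule M) := by
  ext a
  rw [LinearMap.mem_range, Submodule.mem_comap]
  constructor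
  · rintro ⟨g, rfl⟩
    exact (dualToColon M g).2
  · intro ha
    obtain ⟨g, hg⟩ := dualToColon_surjective M ⟨_, ha⟩
    refine ⟨g, ?_⟩
    apply IsFractionRing.injective A K
    exact congrArg Subtype.val hg

variable [IsNoetherianRing A] [IsLocalRing A] (hdim : ringKrullDim A = 1)

include hdim in
/-- **S15040** (core): `Ext^1(M, M) ≃ Hom(𝔠, A/𝔠)` for an overring `M` of a one-dimensional
Gorenstein local domain -/
theorem ext_one_overring (hW : IsCan A A) [Module.Finite A ↥M] [Module.IsTorsionFree A ↥M] :
    Nonempty (Ext.{u} (ModuleCat.of A ↥M) (ModuleCat.of A ↥M) 1 ≃ₗ[A]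
      (↥((1 : Submodule A K) / Subalgebra.toSubmodule M) →ₗ[A]
        (A ⧸ Submodule.comap (Algebra.linearMap A K)
          ((1 : Submodule A K) / Subalgebra.toSubmodule M)))) := by
  obtain ⟨e1⟩ := ext_symm hdim hW 1 ↥M ↥M
  set j : (↥M →ₗ[A] A) →ₗ[A] A := LinearMap.applyₗ (1 : ↥M) with hj
  have hjinj : Function.Injective j := by
    intro g g' h
    apply dualToColon_injective M
    apply Subtype.ext
    change algebraMap A K (g 1) = algebraMap A K (g' 1)
    exact congrArg _ h
  let π : A →ₗ[A] A ⧸ LinearMap.range j := (LinearMap.range j).mkQ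
  have hπ : Function.Surjective π := Submodule.mkQ_surjective _
  have hex : ∀ y, π y = 0 ↔ ∃ x, j x = y := by
    intro y
    change Submodule.Quotient.mk y = 0 ↔ _
    rw [Submodule.Quotient.mk_eq_zero, LinearMap.mem_range]
  obtain ⟨w, hS⟩ := GrLD.shortExact_of_exact j π hjinj hπ hex
  obtain ⟨q, hqsurj, hqker⟩ := exists_ext_one_cov (↥M →ₗ[A] A) hS
    (ext_one_subsingleton hdim hW (↥M →ₗ[A] A))
  have hker : LinearMap.ker q = ⊥ := by
    rw [hqker, eq_bot_iff]
    rintro _ ⟨ψ, rfl⟩
    rw [Submodule.mem_bot]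
    obtain ⟨m₀, hm₀⟩ := (ev_bijective hdim hW ↥M).2 ψ
    apply LinearMap.ext
    intro g
    change π (ψ g) = 0
    rw [hex]
    refine ⟨g ∘ₗ LinearMap.mulLeft A m₀, ?_⟩
    rw [← hm₀]
    change g (m₀ * 1) = g m₀
    rw [mul_one]
  have hqbij : Function.Bijective q := ⟨LinearMap.ker_eq_bot.mp hker, hqsurj⟩
  let qe := LinearEquiv.ofBijective q hqbij
  let φ : (↥M →ₗ[A] A) ≃ₗ[A] ↥((1 : Submodule A K) / Subalgebra.toSubmodule M) :=
    LinearEquiv.ofBijective (dualToColon M) ⟨dualToColon_injective M, dualToColon_surjective M⟩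
  exact ⟨(e1.trans qe.symm).trans
    (LinearEquiv.arrowCongr φ (Submodule.quotEquivOfEq _ _ (range_eval_one M)))⟩

end Overring

end Groth.Agent.H6.TFD
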