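import Mathlib
import Groth.Agent.Lib.Helper6.TFD3

/-!
# Duality for torsion-free modules over one-dimensional local domains, part 5

Fractional ideals: for a canonical ideal `ω` with `O ⊆ ω ⊆ S` (`S` a finite overring):
`ℓ(ω/(ω : S)) = ℓ(S/O)`, `(ω : S)` is the conductor, and `ℓ(ω/O) + ℓ(S/C) = 2 ℓ(S/O)` (S15008).
-/

set_option autoImplicit false
universe u
open CategoryTheory CategoryTheory.Abelian IsLocalRing

namespace Groth.Agent.H6.TFD

section Subquot

variable {R : Type u} [CommRing R] {M : Type u} [AddCommGroup M] [Module R M]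

/-- additivity of length along a chain `P ≤ Q ≤ T` of submodules -/
theorem length_subquot_add (P Q T : Submodule R M) (hPQ : P ≤ Q) (hQT : Q ≤ T) :
    Module.length R (↥T ⧸ Submodule.comap T.subtype P) =
      Module.length R (↥T ⧸ Submodule.comap T.subtype Q) +
        Module.length R (↥Q ⧸ Submodule.comap Q.subtype P) := by
  have hle1 : Submodule.comap Q.subtype P ≤
      Submodule.comap (Submodule.inclusion hQT) (Submodule.comap T.subtype P) := by
    intro x hx
    exact hx
  have hle2 : Submodule.comap T.subtype P ≤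
      Submodule.comap (LinearMap.id : ↥T →ₗ[R] ↥T) (Submodule.comap T.subtype Q) := by
    intro x hx
    exact hPQ hx
  let f := Submodule.mapQ (Submodule.comap Q.subtype P) (Submodule.comap T.subtype P)
    (Submodule.inclusion hQT) hle1
  let g := Submodule.mapQ (Submodule.comap T.subtype P) (Submodule.comap T.subtype Q)
    (LinearMap.id : ↥T →ₗ[R] ↥T) hle2
  have hf : Function.Injective f := by
    rw [injective_iff_map_eq_zero]
    intro x hx
    obtain ⟨q, rfl⟩ := Submodule.Quotient.mk_surjective _ x
    rw [Submodule.mapQ_apply, Submodule.Quotient.mk_eq_zero] at hx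
    rw [Submodule.Quotient.mk_eq_zero]
    exact hx
  have hg : Function.Surjective g := by
    intro y
    obtain ⟨t, rfl⟩ := Submodule.Quotient.mk_surjective _ y
    exact ⟨Submodule.Quotient.mk t, rfl⟩
  have hex : Function.Exact f g := by
    intro y
    obtain ⟨t, rfl⟩ := Submodule.Quotient.mk_surjective _ y
    constructor
    · intro h
      rw [Submodule.mapQ_apply, Submodule.Quotient.mk_eq_zero] at h
      exact ⟨Submodule.Quotient.mk ⟨t.1, h⟩, rfl⟩
    · rintro ⟨x, hx⟩
      obtain ⟨q, rfl⟩ := Submodule.Quotient.mk_surjective _ x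
      rw [← hx, Submodule.mapQ_apply, Submodule.mapQ_apply, Submodule.Quotient.mk_eq_zero]
      exact q.2
  rw [Module.length_eq_add_of_exact f g hf hg hex, add_comm]

end Subquot

section Frac

variable {A : Type u} [CommRing A] [IsDomain A] {K : Type u} [Field K] [Algebra A K]
  [IsFractionRing A K]

/-- linear maps between submodules of the fraction field are "multiplications" -/
theorem map_mul_comm (P Q : Submodule A K) (g : ↥P →ₗ[A] ↥Q) (p p' : ↥P) :
    (g p : K) * (p' : K) = (g p' : K) * (p : K) := by
  by_cases hp' : (p' : K) = 0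
  · have : p' = 0 := Subtype.ext hp'
    rw [this]
    simp
  obtain ⟨c, d, hd, hz⟩ := IsFractionRing.div_surjective A ((p : K) / (p' : K))
  have hd0 : d ≠ 0 := nonZeroDivisors.ne_zero hd
  have hdK : algebraMap A K d ≠ 0 := by
    intro h
    exact hd0 ((IsFractionRing.injective A K) (by rw [h, map_zero]))
  rw [div_eq_div_iff hdK hp'] at hz
  have h1 : d • p = c • p' := by
    apply Subtype.ext
    change d • (p : K) = c • (p' : K)
    rw [Algebra.smul_def, Algebra.smul_def, hz, mul_comm]
  have h2 : d • g p = c • g p' := by rw [← map_smul, ← map_smul, h1]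
  have h3 : algebraMap A K d * (g p : K) = algebraMap A K c * (g p' : K) := by
    have := congrArg Subtype.val h2
    change d • (g p : K) = c • (g p' : K) at this
    rwa [Algebra.smul_def, Algebra.smul_def] at this
  apply mul_left_cancel₀ hdK
  calc algebraMap A K d * ((g p : K) * (p' : K))
      = (algebraMap A K d * (g p : K)) * (p' : K) := by ring
    _ = (algebraMap A K c * (g p' : K)) * (p' : K) := by rw [h3]
    _ = (g p' : K) * (algebraMap A K c * (p' : K)) := by ring
    _ = (g p' : K) * ((p : K) * algebraMap A K d) := by rw [hz]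
    _ = algebraMap A K d * ((g p' : K) * (p : K)) := by ring

end Frac

section Cond

variable {A : Type u} [CommRing A] [IsDomain A] [IsNoetherianRing A] [IsLocalRing A]
  (hdim : ringKrullDim A = 1) {K : Type u} [Field K] [Algebra A K] [IsFractionRing A K]
  (ω S : Submodule A K) (hW : IsCan A ↥ω)

include hdim hW in
/-- **`ℓ(ω/(ω : S)) = ℓ(S/O)`** -/
theorem length_colon_quot (h1 : 1 ≤ S) (hSfg : S.FG) :
    Module.length A (↥ω ⧸ Submodule.comap ω.subtype (ω / S)) =
      Module.length A (↥S ⧸ Submodule.comap S.subtype (1 : Submodule A K)) := by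
  haveI : Module.Finite A ↥S := Module.Finite.iff_fg.mpr hSfg
  have h1S : (1 : K) ∈ S := Submodule.one_le.mp h1
  set oneS : ↥S := ⟨1, h1S⟩ with honeS
  set j : A →ₗ[A] ↥S := LinearMap.toSpanSingleton A ↥S oneS with hj
  have hja : ∀ a : A, ((j a : ↥S) : K) = algebraMap A K a := by
    intro a
    change a • (1 : K) = _
    rw [Algebra.smul_def, mul_one]
  have hjinj : Function.Injective j := by
    intro a b hab
    apply IsFractionRing.injective A K
    rw [← hja, ← hja, hab]
  have hrange : LinearMap.range j = Submodule.comap S.subtype (1 : Submodule A K) := by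
    ext x
    rw [Submodule.mem_comap, Submodule.mem_one]
    constructor
    · rintro ⟨a, rfl⟩
      exact ⟨a, (hja a).symm⟩
    · rintro ⟨a, ha⟩
      exact ⟨a, Subtype.ext ((hja a).trans ha)⟩
  have hfl : IsFiniteLength A (↥S ⧸ LinearMap.range j) := by
    apply isFiniteLength_of_torsion hdim
    intro t
    obtain ⟨s, rfl⟩ := Submodule.Quotient.mk_surjective _ t
    obtain ⟨c, d, hd, hz⟩ := IsFractionRing.div_surjective A (s : K)
    have hd0 : d ≠ 0 := nonZeroDivisors.ne_zero hd
    have hdK : algebraMap A K d ≠ 0 := by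
      intro h
      exact hd0 ((IsFractionRing.injective A K) (by rw [h, map_zero]))
    refine ⟨d, hd0, ?_⟩
    rw [← Submodule.Quotient.mk_smul, Submodule.Quotient.mk_eq_zero]
    refine ⟨c, Subtype.ext ?_⟩
    rw [hja]
    change _ = d • (s : K)
    rw [Algebra.smul_def, ← hz]
    field_simp
  have hlen := length_coker_dual hdim hW j hjinj (ext_one_subsingleton hdim hW ↥S) hfl
  rw [← (Submodule.quotEquivOfEq _ _ hrange).length_eq, ← hlen]
  -- identify `Hom(A, ω)/Hom(S, ω)` with `ω/(ω : S)`
  have hmap : (LinearMap.range (LinearMap.lcomp A ↥ω j)).map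
      (LinearMap.ringLmapEquivSelf A A ↥ω).toLinearMap =
      Submodule.comap ω.subtype (ω / S) := by
    ext w
    rw [Submodule.mem_comap, Submodule.mem_div_iff_forall_mul_mem]
    constructor
    · rintro ⟨_, ⟨g, rfl⟩, rfl⟩
      intro s hs
      have h2 := map_mul_comm S ω g ⟨s, hs⟩ oneS
      change (g ⟨s, hs⟩ : K) * 1 = (g oneS : K) * s at h2
      rw [mul_one] at h2
      have h3 : (LinearMap.ringLmapEquivSelf A A ↥ω) (LinearMap.lcomp A ↥ω j g) = g oneS := by
        change g (j 1) = g oneS
        rw [hj, LinearMap.toSpanSingleton_apply, one_smul]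
      change (((LinearMap.ringLmapEquivSelf A A ↥ω) (LinearMap.lcomp A ↥ω j g) : ↥ω) : K) * s ∈ ω
      rw [h3, ← h2]
      exact (g ⟨s, hs⟩).2
    · intro hw
      let g : ↥S →ₗ[A] ↥ω :=
        { toFun := fun s => ⟨(w : K) * (s : K), hw s s.2⟩
          map_add' := fun s s' => Subtype.ext (by
            change (w : K) * ((s : K) + (s' : K)) = (w : K) * (s : K) + (w : K) * (s' : K)
            ring)
          map_smul' := fun a s => Subtype.ext (by
            change (w : K) * (a • (s : K)) = a • ((w : K) * (s : K))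
            rw [Algebra.smul_def, Algebra.smul_def]
            ring) }
      refine ⟨LinearMap.lcomp A ↥ω j g, ⟨g, rfl⟩, ?_⟩
      apply Subtype.ext
      change ((g (j 1) : ↥ω) : K) = w
      rw [hj, LinearMap.toSpanSingleton_apply, one_smul]
      change (w : K) * 1 = w
      rw [mul_one]
  exact (Submodule.Quotient.equiv _ _ (LinearMap.ringLmapEquivSelf A A ↥ω) hmap).length_eq.symm

include hdim hW in
/-- elements of `(ω : S)` lie in `O` when `O ⊆ ω ⊆ S` -/
theorem colon_le_one (h1 : 1 ≤ ω) (h2 : ω ≤ S) : ω / S ≤ 1 := by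
  intro x hx
  rw [Submodule.mem_div_iff_forall_mul_mem] at hx
  have h1ω : (1 : K) ∈ ω := Submodule.one_le.mp h1
  let μ : ↥ω →ₗ[A] ↥ω :=
    { toFun := fun w => ⟨x * (w : K), hx w (h2 w.2)⟩
      map_add' := fun s s' => Subtype.ext (by
        change x * ((s : K) + (s' : K)) = x * (s : K) + x * (s' : K)
        ring)
      map_smul' := fun a s => Subtype.ext (by
        change x * (a • (s : K)) = a • (x * (s : K))
        rw [Algebra.smul_def, Algebra.smul_def]
        ring) }
  obtain ⟨a, ha⟩ := (scalar_bijective hdim hW).2 μ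
  have h3 := congrArg Subtype.val (LinearMap.congr_fun ha ⟨1, h1ω⟩)
  change a • (1 : K) = x * 1 at h3
  rw [mul_one, Algebra.smul_def, mul_one] at h3
  rw [Submodule.mem_one]
  exact ⟨a, h3⟩

include hdim hW in
/-- `(ω : S)` is the conductor when `O ⊆ ω ⊆ S` and `S` is a ring -/
theorem comap_colon_eq (h1 : 1 ≤ ω) (h2 : ω ≤ S) (hSmul : ∀ x ∈ S, ∀ y ∈ S, x * y ∈ S) :
    Submodule.comap S.subtype (ω / S) =
      ((1 : Submodule A K).colon (S : Set K)) • (⊤ : Submodule A ↥S) := by
  have h1S : (1 : K) ∈ S := h2 (Submodule.one_le.mp h1)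
  apply le_antisymm
  · intro x hx
    rw [Submodule.mem_comap] at hx
    have hx' := hx
    rw [Submodule.mem_div_iff_forall_mul_mem] at hx'
    obtain ⟨a, ha⟩ := Submodule.mem_one.mp (colon_le_one hdim ω S hW h1 h2 hx)
    have haC : a ∈ (1 : Submodule A K).colon (S : Set K) := by
      rw [Submodule.mem_colon]
      intro s hs
      have h3 : (x : K) * s ∈ ω / S := by
        rw [Submodule.mem_div_iff_forall_mul_mem]
        intro s' hs'
        rw [mul_assoc]
        exact hx' _ (hSmul s hs s' hs')
      have h4 := colon_le_one hdim ω S hW h1 h2 h3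
      rw [Algebra.smul_def, ha]
      exact h4
    have hxa : x = a • (⟨1, h1S⟩ : ↥S) := by
      apply Subtype.ext
      change (x : K) = a • (1 : K)
      rw [Algebra.smul_def, mul_one, ha]
      rfl
    rw [hxa]
    exact Submodule.smul_mem_smul haC Submodule.mem_top
  · rw [Submodule.smul_le]
    intro c hc s _
    rw [Submodule.mem_colon] at hc
    rw [Submodule.mem_comap, Submodule.mem_div_iff_forall_mul_mem]
    intro s' hs'
    change (c • (s : K)) * s' ∈ ω
    rw [Algebra.smul_def, mul_assoc, ← Algebra.smul_def]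
    exact h1 (hc _ (hSmul s s.2 s' hs'))

include hdim hW in
/-- **S15008** (core): `ℓ(ω/O) + ℓ(S/C) = 2 ℓ(S/O)` -/
theorem length_add_conductor (h1 : 1 ≤ ω) (h2 : ω ≤ S) (hSfg : S.FG)
    (hSmul : ∀ x ∈ S, ∀ y ∈ S, x * y ∈ S) :
    Module.length A (↥ω ⧸ Submodule.comap ω.subtype (1 : Submodule A K)) +
      Module.length A (↥S ⧸ ((1 : Submodule A K).colon (S : Set K)) • (⊤ : Submodule A ↥S)) =
      2 * Module.length A (↥S ⧸ Submodule.comap S.subtype (1 : Submodule A K)) := by
  have h1S : (1 : Submodule A K) ≤ S := h1.trans h2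
  have hcω : ω / S ≤ ω := by
    intro x hx
    rw [Submodule.mem_div_iff_forall_mul_mem] at hx
    have := hx 1 (Submodule.one_le.mp h1S)
    rwa [mul_one] at this
  have e1 := length_subquot_add (1 : Submodule A K) ω S h1 h2
  have e2 := length_subquot_add (ω / S) ω S hcω h2
  have e3 := length_colon_quot hdim ω S hW h1S hSfg
  rw [← comap_colon_eq hdim ω S hW h1 h2 hSmul, e2, e3, two_mul]
  nth_rewrite 2 [e1]
  rw [add_left_comm, add_assoc]

end Cond

end Groth.Agent.H6.TFD
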