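import Mathlib
import Groth.Agent.Lib.Helper6.GenSmooth2

universe u
open CategoryTheory CategoryTheory.Limits AlgebraicGeometry IsLocalRing Topology TopologicalSpace

namespace Groth.Agent.H6.GenSmooth3

/-- a morphism from an empty scheme is smooth. -/
theorem smooth_of_isEmpty {X Y : Scheme.{u}} (f : X ⟶ Y) [IsEmpty X]
    [LocallyOfFinitePresentation f] : Smooth f := by
  rw [← Scheme.Hom.smoothLocus_eq_top_iff]
  ext x
  exact isEmptyElim x

/-- **S10930**: generic smoothness on the target in characteristic zero. -/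
theorem s10930 (k : Type u) [Field k] [CharZero k]
    {X Y : Scheme.{u}} (qX : X ⟶ Spec (CommRingCat.of k)) (qY : Y ⟶ Spec (CommRingCat.of k))
    [LocallyOfFiniteType qX] [QuasiCompact qX] [Smooth qX]
    [LocallyOfFiniteType qY] [IsSeparated qY]
    [IsIntegral X] [IsIntegral Y] (f : X ⟶ Y) (hf : f ≫ qY = qX) :
    ∃ V : Y.Opens, (V : Set ↥Y).Nonempty ∧ Smooth (f ∣_ V) := by
  haveI : IsLocallyNoetherian X := LocallyOfFiniteType.isLocallyNoetherian qX
  haveI : IsLocallyNoetherian Y := LocallyOfFiniteType.isLocallyNoetherian qY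
  haveI : LocallyOfFiniteType (f ≫ qY) := by rw [hf]; infer_instance
  haveI : QuasiCompact (f ≫ qY) := by rw [hf]; infer_instance
  haveI : LocallyOfFiniteType f := locallyOfFiniteType_of_comp f qY
  haveI : LocallyOfFinitePresentation f := inferInstance
  haveI : QuasiCompact f := QuasiCompact.of_comp f qY
  have hreg : ∀ x : X, IsRegularLocalRing (X.presheaf.stalk x) := fun x =>
    Groth.Agent.H1.SmoothReg.isRegularLocalRing_of_mem_smoothLocus k qX x
      (by rw [qX.smoothLocus_eq_top]; trivial)
  by_cases hdom : IsDominant f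
  · haveI : CharZero Y.functionField :=
      charZero_of_injective_ringHom
        (f := Groth.Agent.H1.SmoothReg.stalkMapK qY (genericPoint Y)) (RingHom.injective _)
    obtain ⟨V, hVd, hVs⟩ := Groth.Agent.H6.GenSmooth2.s7776 X Y hreg f
    exact ⟨V, hVd.nonempty, hVs⟩
  · have hnd : ¬ DenseRange f := fun h => hdom ⟨h⟩
    let V : Y.Opens := ⟨(closure (Set.range f))ᶜ, isClosed_closure.isOpen_compl⟩
    refine ⟨V, ?_, ?_⟩
    · by_contra hne
      apply hnd
      rw [Set.not_nonempty_iff_eq_empty] at hne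
      have h1 : (closure (Set.range f))ᶜ = ∅ := hne
      rw [Set.compl_empty_iff] at h1
      exact dense_iff_closure_eq.mpr h1
    · haveI : IsEmpty ↥(f ⁻¹ᵁ V : Scheme.{u}) :=
        ⟨fun x => x.2 (subset_closure ⟨x.1, rfl⟩)⟩
      haveI : LocallyOfFinitePresentation (f ∣_ V) := inferInstance
      exact smooth_of_isEmpty _

end Groth.Agent.H6.GenSmooth3
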