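import Mathlib
import Groth.Prelude.Def_W4bk5brsh7111920

/-! Connectedness dimension of a Noetherian topological space. -/

universe u
set_option linter.unusedSectionVars false

namespace Groth.Agent.H6.ConnDim

open TopologicalSpace Set

variable {T : Type u} [TopologicalSpace T]

theorem dim_mono {S S' : Set T} (h : S ⊆ S') : topologicalKrullDim ↥S ≤ topologicalKrullDim ↥S' :=
  (Topology.IsEmbedding.inclusion h).isInducing.topologicalKrullDim_le

theorem connDim_le {Z : Set T} (hZ : IsClosed Z) (hc : ¬ IsConnected Zᶜ) :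
    LocCoh.connDim T ≤ topologicalKrullDim ↥Z := by
  unfold LocCoh.connDim
  exact iInf₂_le Z ⟨hZ, hc⟩

section Noeth

variable [NoetherianSpace T]

theorem isClosed_sUnion_of_subset {A : Set (Set T)} (hA : A ⊆ irreducibleComponents T) :
    IsClosed (⋃₀ A) := by
  have hfin : A.Finite := (NoetherianSpace.finite_irreducibleComponents).subset hA
  rw [Set.sUnion_eq_biUnion]
  exact hfin.isClosed_biUnion fun W hW => isClosed_of_mem_irreducibleComponents W (hA hW)

/-- the separated case -/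
theorem connDim_le_of_not_subset {A B : Set (Set T)} (hA : A ⊆ irreducibleComponents T)
    (hB : B ⊆ irreducibleComponents T) (hAB : A ∪ B = irreducibleComponents T)
    (h1 : ¬ ⋃₀ A ⊆ ⋃₀ B) (h2 : ¬ ⋃₀ B ⊆ ⋃₀ A) :
    LocCoh.connDim T ≤ topologicalKrullDim ↥(⋃₀ A ∩ ⋃₀ B) := by
  have hcA := isClosed_sUnion_of_subset hA
  have hcB := isClosed_sUnion_of_subset hB
  refine connDim_le (hcA.inter hcB) ?_
  intro hconn
  have hpre := hconn.isPreconnected
  rw [isPreconnected_closed_iff] at hpre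
  obtain ⟨x, hxA, hxB⟩ := Set.not_subset.mp h1
  obtain ⟨y, hyB, hyA⟩ := Set.not_subset.mp h2
  have hcov : (⋃₀ A ∩ ⋃₀ B)ᶜ ⊆ ⋃₀ A ∪ ⋃₀ B := by
    intro z _
    have : z ∈ ⋃₀ irreducibleComponents T := by rw [sUnion_irreducibleComponents]; trivial
    rw [← hAB, Set.sUnion_union] at this
    exact this
  obtain ⟨z, hz1, hz2⟩ := hpre _ _ hcA hcB hcov ⟨x, fun h => hxB h.2, hxA⟩ ⟨y, fun h => hyA h.1, hyB⟩
  exact hz1 hz2

theorem connDim_le_component [Nonempty T] {Z : Set T} (hZ : Z ∈ irreducibleComponents T) :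
    LocCoh.connDim T ≤ topologicalKrullDim ↥Z := by
  by_cases hothers : (irreducibleComponents T \ {Z}).Nonempty
  · have hA : ({Z} : Set (Set T)) ⊆ irreducibleComponents T := Set.singleton_subset_iff.mpr hZ
    have hB : irreducibleComponents T \ {Z} ⊆ irreducibleComponents T := Set.sdiff_subset
    have hAB : ({Z} : Set (Set T)) ∪ (irreducibleComponents T \ {Z}) = irreducibleComponents T := by
      rw [Set.union_sdiff_self, Set.union_eq_right.mpr hA]
    have h1 : ¬ ⋃₀ ({Z} : Set (Set T)) ⊆ ⋃₀ (irreducibleComponents T \ {Z}) := by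
      rw [Set.sUnion_singleton]
      intro h
      have := mem_of_subset_sUnion_irreducibleComponents Z hZ _
        ((NoetherianSpace.finite_irreducibleComponents).subset hB) hB h
      exact this.2 rfl
    have h2 : ¬ ⋃₀ (irreducibleComponents T \ {Z}) ⊆ ⋃₀ ({Z} : Set (Set T)) := by
      rw [Set.sUnion_singleton]
      intro h
      obtain ⟨W, hW⟩ := hothers
      have hWZ : W ⊆ Z := (Set.subset_sUnion_of_mem hW).trans h
      have : Z ⊆ W := hW.1.2 hZ.1 hWZ
      exact hW.2 (Set.Subset.antisymm hWZ this)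
    refine (connDim_le_of_not_subset hA hB hAB h1 h2).trans (dim_mono ?_)
    rw [Set.sUnion_singleton]
    exact Set.inter_subset_left
  · have hall : irreducibleComponents T = {Z} := by
      rw [Set.not_nonempty_iff_eq_empty, Set.sdiff_eq_empty] at hothers
      exact Set.Subset.antisymm hothers (Set.singleton_subset_iff.mpr hZ)
    have hZuniv : Z = Set.univ := by
      rw [← sUnion_irreducibleComponents, hall, Set.sUnion_singleton]
    refine connDim_le (isClosed_of_mem_irreducibleComponents Z hZ) ?_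
    rw [hZuniv, Set.compl_univ]
    exact fun h => h.nonempty.ne_empty rfl

theorem connDim_le_pair [Nonempty T] {A B : Set (Set T)} (hA : A ⊆ irreducibleComponents T)
    (hB : B ⊆ irreducibleComponents T) (hAne : A.Nonempty) (hBne : B.Nonempty)
    (hAB : A ∪ B = irreducibleComponents T) :
    LocCoh.connDim T ≤ topologicalKrullDim ↥(⋃₀ A ∩ ⋃₀ B) := by
  by_cases h1 : ⋃₀ A ⊆ ⋃₀ B
  · obtain ⟨Z, hZ⟩ := hAne
    refine (connDim_le_component (hA hZ)).trans (dim_mono ?_)
    exact Set.subset_inter (Set.subset_sUnion_of_mem hZ) ((Set.subset_sUnion_of_mem hZ).trans h1)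
  by_cases h2 : ⋃₀ B ⊆ ⋃₀ A
  · obtain ⟨Z, hZ⟩ := hBne
    refine (connDim_le_component (hB hZ)).trans (dim_mono ?_)
    exact Set.subset_inter ((Set.subset_sUnion_of_mem hZ).trans h2) (Set.subset_sUnion_of_mem hZ)
  exact connDim_le_of_not_subset hA hB hAB h1 h2

theorem exists_pair_le [Nonempty T] {Z : Set T} (hZ : IsClosed Z) (hc : ¬ IsConnected Zᶜ) :
    ∃ A B : Set (Set T), A ⊆ irreducibleComponents T ∧ B ⊆ irreducibleComponents T ∧ A.Nonempty ∧
      B.Nonempty ∧ A ∪ B = irreducibleComponents T ∧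
      topologicalKrullDim ↥(⋃₀ A ∩ ⋃₀ B) ≤ topologicalKrullDim ↥Z := by
  have hne : (irreducibleComponents T).Nonempty := by
    obtain ⟨x⟩ := ‹Nonempty T›
    exact ⟨_, irreducibleComponent_mem_irreducibleComponents x⟩
  by_cases hemp : Zᶜ = ∅
  · refine ⟨_, _, subset_rfl, subset_rfl, hne, hne, Set.union_self _, dim_mono ?_⟩
    rw [Set.compl_empty_iff] at hemp
    rw [hemp]
    exact Set.subset_univ _
  have hnp : ¬ IsPreconnected Zᶜ := fun h => hc ⟨Set.nonempty_iff_ne_empty.mpr hemp, h⟩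
  unfold IsPreconnected at hnp
  push Not at hnp
  obtain ⟨u, v, hu, hv, hcov, ⟨x, hxZ, hxu⟩, ⟨y, hyZ, hyv⟩, hdisj⟩ := hnp
  -- U₁ = Zᶜ ∩ u, U₂ = Zᶜ ∩ v
  have hU1 : IsOpen (Zᶜ ∩ u) := hZ.isOpen_compl.inter hu
  have hU2 : IsOpen (Zᶜ ∩ v) := hZ.isOpen_compl.inter hv
  have hkey : ∀ C ∈ irreducibleComponents T, (C ∩ (Zᶜ ∩ u)).Nonempty → (C ∩ (Zᶜ ∩ v)).Nonempty →
      False := by
    intro C hC h1 h2
    obtain ⟨z, hzC, hz1, hz2⟩ := hC.1.2 _ _ hU1 hU2 h1 h2
    exact (Set.eq_empty_iff_forall_notMem.mp hdisj z) ⟨hz1.1, hz1.2, hz2.2⟩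
  refine ⟨{C ∈ irreducibleComponents T | (C ∩ (Zᶜ ∩ u)).Nonempty},
    {C ∈ irreducibleComponents T | ¬ (C ∩ (Zᶜ ∩ u)).Nonempty}, Set.sep_subset _ _,
    Set.sep_subset _ _, ?_, ?_, ?_, dim_mono ?_⟩
  · exact ⟨irreducibleComponent x, irreducibleComponent_mem_irreducibleComponents x,
      x, mem_irreducibleComponent, hxZ, hxu⟩
  · refine ⟨irreducibleComponent y, irreducibleComponent_mem_irreducibleComponents y, ?_⟩
    intro h
    exact hkey _ (irreducibleComponent_mem_irreducibleComponents y) h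
      ⟨y, mem_irreducibleComponent, hyZ, hyv⟩
  · ext C
    simp only [Set.mem_union, Set.mem_ofPred_eq]
    tauto
  · rintro z ⟨⟨C, ⟨hC, hCu⟩, hzC⟩, ⟨C', ⟨hC', hC'u⟩, hzC'⟩⟩
    by_contra hzZ
    rcases hcov hzZ with hzu | hzv
    · exact hC'u ⟨z, hzC', hzZ, hzu⟩
    · exact hkey C hC hCu ⟨z, hzC, hzZ, hzv⟩

theorem connDim_eq [Nonempty T] :
    LocCoh.connDim T = ⨅ (A : Set (Set T)) (B : Set (Set T))
      (_ : A ⊆ irreducibleComponents T ∧ B ⊆ irreducibleComponents T ∧ A.Nonempty ∧ B.Nonempty ∧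
        A ∪ B = irreducibleComponents T), topologicalKrullDim ↥(⋃₀ A ∩ ⋃₀ B) := by
  apply le_antisymm
  · refine le_iInf fun A => le_iInf fun B => le_iInf fun h => ?_
    exact connDim_le_pair h.1 h.2.1 h.2.2.1 h.2.2.2.1 h.2.2.2.2
  · unfold LocCoh.connDim
    refine le_iInf fun Z => le_iInf fun hZ => ?_
    obtain ⟨A, B, hA, hB, hAne, hBne, hAB, hle⟩ := exists_pair_le hZ.1 hZ.2
    refine le_trans ?_ hle
    refine iInf_le_of_le A (iInf_le_of_le B ?_)
    exact iInf_le (fun _ : A ⊆ irreducibleComponents T ∧ B ⊆ irreducibleComponents T ∧ A.Nonempty ∧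
      B.Nonempty ∧ A ∪ B = irreducibleComponents T => topologicalKrullDim ↥(⋃₀ A ∩ ⋃₀ B))
      ⟨hA, hB, hAne, hBne, hAB⟩

end Noeth

end Groth.Agent.H6.ConnDim
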