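import Mathlib
import Groth.Agent.Lib.Helper6.ConnDim

/-! Connectedness dimension versus subdimension. -/

universe u
set_option linter.unusedSectionVars false

namespace Groth.Agent.H6.ConnDim

open TopologicalSpace Set Order

variable {T : Type u} [TopologicalSpace T]

/-- a proper closed subset of an irreducible closed set of finite dimension has smaller dimension -/
theorem dim_lt_of_ssubset {Y Z : Set T} (hY : IsClosed Y) (hZi : IsIrreducible Z) (hYZ : Y ⊂ Z)
    (hfin : topologicalKrullDim ↥Z < ⊤) : topologicalKrullDim ↥Y < topologicalKrullDim ↥Z := by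
  haveI : IrreducibleSpace ↥Z := Subtype.irreducibleSpace hZi
  by_contra hnot
  rw [not_lt] at hnot
  have hle : topologicalKrullDim ↥Y ≤ topologicalKrullDim ↥Z := dim_mono hYZ.subset
  -- dim Z is a natural number
  have hZnn : (0 : WithBot ℕ∞) ≤ topologicalKrullDim ↥Z := by
    unfold topologicalKrullDim
    exact Order.krullDim_nonneg_iff.mpr
      ⟨⟨Set.univ, IrreducibleSpace.isIrreducible_univ _, isClosed_univ⟩⟩
  obtain ⟨n, hn⟩ : ∃ n : ℕ, topologicalKrullDim ↥Z = n := by
    cases h : topologicalKrullDim ↥Z with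
    | bot => rw [h] at hZnn; exact absurd hZnn (by simp)
    | coe a =>
      cases a with
      | top => rw [h] at hfin; exact absurd hfin (lt_irrefl _)
      | coe m => exact ⟨m, rfl⟩
  have hnY : (n : WithBot ℕ∞) ≤ topologicalKrullDim ↥Y := hn ▸ hnot
  unfold topologicalKrullDim at hnY
  obtain ⟨l, hl⟩ := Order.le_krullDim_iff.mp hnY
  have hind : Topology.IsInducing (Set.inclusion hYZ.subset) :=
    (Topology.IsEmbedding.inclusion hYZ.subset).isInducing
  let l' : LTSeries (IrreducibleCloseds ↥Z) :=
    l.map _ (IrreducibleCloseds.map_strictMono_of_isInducing hind)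
  let top : IrreducibleCloseds ↥Z :=
    ⟨Set.univ, IrreducibleSpace.isIrreducible_univ _, isClosed_univ⟩
  have hlt : l'.last < top := by
    refine lt_of_le_of_ne (fun x _ => Set.mem_univ x) ?_
    intro heq
    obtain ⟨z, hzZ, hzY⟩ := Set.exists_of_ssubset hYZ
    have hmem : (⟨z, hzZ⟩ : ↥Z) ∈ (l'.last : Set ↥Z) := by
      rw [heq]
      exact Set.mem_univ _
    have hcl : IsClosed (Set.inclusion hYZ.subset '' (Set.univ : Set ↥Y)) := by
      have : Set.inclusion hYZ.subset '' (Set.univ : Set ↥Y) = Subtype.val ⁻¹' Y := by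
        ext ⟨w, hw⟩
        simp only [Set.image_univ, Set.mem_range, Set.mem_preimage]
        constructor
        · rintro ⟨⟨y, hy⟩, hyw⟩
          have : y = w := congrArg Subtype.val hyw
          exact this ▸ hy
        · intro h
          exact ⟨⟨w, h⟩, rfl⟩
      rw [this]
      exact hY.preimage continuous_subtype_val
    have hsub : (l'.last : Set ↥Z) ⊆ Set.inclusion hYZ.subset '' (Set.univ : Set ↥Y) := by
      show closure (Set.inclusion hYZ.subset '' (l.last : Set ↥Y)) ⊆ _
      exact closure_minimal (Set.image_mono (Set.subset_univ _)) hcl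
    obtain ⟨⟨y, hy⟩, -, hyz⟩ := hsub hmem
    have : y = z := congrArg Subtype.val hyz
    exact hzY (this ▸ hy)
  have hlen : ((l'.snoc top hlt).length : WithBot ℕ∞) ≤ topologicalKrullDim ↥Z :=
    LTSeries.length_le_krullDim _
  rw [hn] at hlen
  have : (l'.snoc top hlt).length = n + 1 := by
    simp [l', hl]
  rw [this] at hlen
  have : n + 1 ≤ n := by exact_mod_cast hlen
  omega

section Noeth

variable [NoetherianSpace T]

theorem not_subset_others {Z : Set T} (hZ : Z ∈ irreducibleComponents T) :
    ¬ Z ⊆ ⋃₀ (irreducibleComponents T \ {Z}) := by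
  intro h
  have := mem_of_subset_sUnion_irreducibleComponents Z hZ _
    ((NoetherianSpace.finite_irreducibleComponents).subset Set.sdiff_subset) Set.sdiff_subset h
  exact this.2 rfl

theorem connDim_le_inter_others {Z : Set T} (hZ : Z ∈ irreducibleComponents T)
    (hothers : (irreducibleComponents T \ {Z}).Nonempty) :
    LocCoh.connDim T ≤ topologicalKrullDim ↥(Z ∩ ⋃₀ (irreducibleComponents T \ {Z})) := by
  have hA : ({Z} : Set (Set T)) ⊆ irreducibleComponents T := Set.singleton_subset_iff.mpr hZ
  have hB : irreducibleComponents T \ {Z} ⊆ irreducibleComponents T := Set.sdiff_subset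
  have hAB : ({Z} : Set (Set T)) ∪ (irreducibleComponents T \ {Z}) = irreducibleComponents T := by
    rw [Set.union_sdiff_self, Set.union_eq_right.mpr hA]
  have h1 : ¬ ⋃₀ ({Z} : Set (Set T)) ⊆ ⋃₀ (irreducibleComponents T \ {Z}) := by
    rw [Set.sUnion_singleton]
    exact not_subset_others hZ
  have h2 : ¬ ⋃₀ (irreducibleComponents T \ {Z}) ⊆ ⋃₀ ({Z} : Set (Set T)) := by
    rw [Set.sUnion_singleton]
    intro h
    obtain ⟨W, hW⟩ := hothers
    have hWZ : W ⊆ Z := (Set.subset_sUnion_of_mem hW).trans h
    have : Z ⊆ W := hW.1.2 hZ.1 hWZ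
    exact hW.2 (Set.Subset.antisymm hWZ this)
  have := connDim_le_of_not_subset hA hB hAB h1 h2
  rwa [Set.sUnion_singleton] at this

theorem connDim_le_subdim [Nonempty T] : LocCoh.connDim T ≤ LocCoh.subdim T := by
  unfold LocCoh.subdim
  exact le_iInf₂ fun Z hZ => connDim_le_component hZ

theorem connDim_eq_subdim_iff [Nonempty T] (hfin : topologicalKrullDim T < ⊤) :
    LocCoh.connDim T = LocCoh.subdim T ↔ IrreducibleSpace T := by
  constructor
  · intro heq
    by_contra hirr
    obtain ⟨Z₁, hZ₁, hmin⟩ := Set.exists_min_image (irreducibleComponents T)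
      (fun Z => topologicalKrullDim ↥Z) NoetherianSpace.finite_irreducibleComponents
      (by
        obtain ⟨x⟩ := ‹Nonempty T›
        exact ⟨_, irreducibleComponent_mem_irreducibleComponents x⟩)
    have hsub : LocCoh.subdim T = topologicalKrullDim ↥Z₁ := by
      unfold LocCoh.subdim
      exact le_antisymm (iInf₂_le Z₁ hZ₁) (le_iInf₂ fun Z hZ => hmin Z hZ)
    by_cases hothers : (irreducibleComponents T \ {Z₁}).Nonempty
    · have h1 := connDim_le_inter_others hZ₁ hothers
      have hfin₁ : topologicalKrullDim ↥Z₁ < ⊤ :=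
        lt_of_le_of_lt (topologicalKrullDim_subspace_le T Z₁) hfin
      have hclosed : IsClosed (Z₁ ∩ ⋃₀ (irreducibleComponents T \ {Z₁})) :=
        (isClosed_of_mem_irreducibleComponents Z₁ hZ₁).inter
          (isClosed_sUnion_of_subset Set.sdiff_subset)
      have hss : Z₁ ∩ ⋃₀ (irreducibleComponents T \ {Z₁}) ⊂ Z₁ := by
        refine ⟨Set.inter_subset_left, fun h => not_subset_others hZ₁ ?_⟩
        exact fun x hx => (h hx).2
      have h2 := dim_lt_of_ssubset hclosed hZ₁.1 hss hfin₁
      rw [heq, hsub] at h1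
      exact absurd (lt_of_le_of_lt h1 h2) (lt_irrefl _)
    · have hall : irreducibleComponents T = {Z₁} := by
        rw [Set.not_nonempty_iff_eq_empty, Set.sdiff_eq_empty] at hothers
        exact Set.Subset.antisymm hothers (Set.singleton_subset_iff.mpr hZ₁)
      have hZuniv : Z₁ = Set.univ := by
        rw [← sUnion_irreducibleComponents, hall, Set.sUnion_singleton]
      apply hirr
      have : IsIrreducible (Set.univ : Set T) := hZuniv ▸ hZ₁.1
      exact (irreducibleSpace_def T).mpr this
  · intro hirr
    refine le_antisymm connDim_le_subdim ?_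
    unfold LocCoh.connDim
    refine le_iInf₂ fun Z hZ => ?_
    have hZemp : Zᶜ = ∅ := by
      by_contra hne
      apply hZ.2
      refine ⟨Set.nonempty_iff_ne_empty.mpr hne, ?_⟩
      exact ((IrreducibleSpace.isIrreducible_univ T).isPreirreducible.open_subset
        hZ.1.isOpen_compl (Set.subset_univ _)).isPreconnected
    rw [Set.compl_empty_iff] at hZemp
    rw [hZemp]
    unfold LocCoh.subdim
    refine iInf₂_le (Set.univ : Set T) ?_
    rw [irreducibleComponents_eq_singleton]
    rfl

end Noeth

end Groth.Agent.H6.ConnDim
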