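import Mathlib
import Groth.Prelude.Def_Pi1
import Groth.Agent.Lib.Helper6.SerreNormal
import Groth.Agent.Lib.Helper1.Depth2Coh2
import Groth.Agent.Lib.Helper2.IntegralNhd
import Groth.Agent.Lib.Lead.QC.LocFree2

/-! Sections of a flat quasi-coherent module on a normal locally Noetherian scheme extend across
closed subsets containing no point of codimension at most one. -/

universe u
set_option backward.isDefEq.respectTransparency.types false
set_option linter.style.haveILetI false
open CategoryTheory AlgebraicGeometry TopologicalSpace Opposite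
open Groth.Agent.LD.QC Groth.Agent.H1.Depth2Coh

namespace Groth.Agent.H6.FlatHartogs

section Alg

variable {R : Type u} [CommRing R] [IsDomain R] [IsNoetherianRing R] [IsIntegrallyClosed R]

/-- algebraic Hartogs in the form of exactness of the beginning of a Koszul-type complex. -/
theorem hartogs_ring {ι : Type*} (g b : ι → R) (hrel : ∀ i j, g j * b i = g i * b j)
    (hht : ∀ P : Ideal R, P.IsPrime → P.height = 1 → ∃ i, g i ∉ P)
    (hg : ∀ i, g i ≠ 0) (i0 : ι) : ∃ r : R, ∀ i, g i * r = b i := by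
  have key : ∃ r, g i0 * r = b i0 := by
    by_contra hcon
    have h0 : Ideal.Quotient.mk (Ideal.span {g i0}) (b i0) ≠ 0 := by
      intro h
      rw [Ideal.Quotient.eq_zero_iff_mem, Ideal.mem_span_singleton'] at h
      obtain ⟨r, hr⟩ := h
      exact hcon ⟨r, by rw [mul_comm]; exact hr⟩
    obtain ⟨P, hP, hle⟩ := exists_le_isAssociatedPrime_of_isNoetherianRing R
      (Ideal.Quotient.mk (Ideal.span {g i0}) (b i0)) h0
    haveI := hP.isPrime
    have hh := Groth.Agent.H6.SerreNormal.height_eq_one_of_mem_associatedPrimes R (g i0) (hg i0)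
      P hP
    obtain ⟨i, hi⟩ := hht P hP.isPrime hh
    apply hi
    apply hle
    rw [Submodule.mem_colon_singleton, Submodule.mem_bot]
    show g i • (Ideal.Quotient.mk (Ideal.span {g i0}) (b i0)) = 0
    rw [Algebra.smul_def, Ideal.Quotient.algebraMap_eq, ← map_mul,
      Ideal.Quotient.eq_zero_iff_mem, Ideal.mem_span_singleton']
    exact ⟨b i, by rw [hrel i0 i, mul_comm]⟩
  obtain ⟨r, hr⟩ := key
  refine ⟨r, fun i => ?_⟩
  apply mul_left_cancel₀ (hg i0)
  calc g i0 * (g i * r) = g i * (g i0 * r) := by ring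
    _ = g i * b i0 := by rw [hr]
    _ = g i0 * b i := hrel i0 i

/-- the same exactness after tensoring with a flat module. -/
theorem exists_of_flat {M : Type u} [AddCommGroup M] [Module R M] [Module.Flat R M]
    {ι : Type*} [Finite ι] (g : ι → R) (m : ι → M) (hrel : ∀ i j, g j • m i = g i • m j)
    (hht : ∀ P : Ideal R, P.IsPrime → P.height = 1 → ∃ i, g i ∉ P)
    (hg : ∀ i, g i ≠ 0) : ∃ x : M, ∀ i, g i • x = m i := by
  classical
  cases nonempty_fintype ι
  rcases isEmpty_or_nonempty ι with hem | ⟨⟨i0⟩⟩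
  · exact ⟨0, fun i => (hem.false i).elim⟩
  let x : (ι →₀ R) →ₗ[R] M := Finsupp.linearCombination R m
  let f : ((ι × ι) →₀ R) →ₗ[R] (ι →₀ R) :=
    Finsupp.linearCombination R (fun p : ι × ι =>
      g p.2 • Finsupp.single p.1 (1 : R) - g p.1 • Finsupp.single p.2 (1 : R))
  have hf1 : ∀ p : ι × ι, f (Finsupp.single p 1) =
      g p.2 • Finsupp.single p.1 (1 : R) - g p.1 • Finsupp.single p.2 (1 : R) := by
    intro p
    simp only [f]
    rw [Finsupp.linearCombination_single, one_smul]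
  have hx1 : ∀ i : ι, x (Finsupp.single i 1) = m i := by
    intro i
    simp only [x]
    rw [Finsupp.linearCombination_single, one_smul]
  have hxf : x ∘ₗ f = 0 := by
    apply Finsupp.lhom_ext
    intro p r
    have : (Finsupp.single p r : (ι × ι) →₀ R) = r • Finsupp.single p 1 := by
      rw [Finsupp.smul_single, smul_eq_mul, mul_one]
    rw [this, map_smul, LinearMap.comp_apply, hf1, map_sub, map_smul, map_smul, hx1, hx1,
      hrel p.1 p.2, sub_self, smul_zero, LinearMap.zero_apply]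
  obtain ⟨l, a, y, hya, haf⟩ := Module.Flat.exists_factorization_of_comp_eq_zero_of_free hxf
  have hcomp : ∀ c : Fin l, ∃ r : R, ∀ i, g i * r = a (Finsupp.single i 1) c := by
    intro c
    refine hartogs_ring g (fun i => a (Finsupp.single i 1) c) ?_ hht hg i0
    intro i j
    have h1 : a (f (Finsupp.single (i, j) 1)) = 0 := LinearMap.congr_fun haf _
    rw [hf1, map_sub, map_smul, map_smul] at h1
    have h3 := congrArg (fun v : Fin l →₀ R => v c) h1
    simp only [Finsupp.coe_sub, Finsupp.coe_smul, Pi.sub_apply, Pi.smul_apply, smul_eq_mul,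
      Finsupp.coe_zero, Pi.zero_apply] at h3
    exact sub_eq_zero.mp h3
  choose r hr using hcomp
  refine ⟨y (Finsupp.equivFunOnFinite.symm r), fun i => ?_⟩
  have h4 : g i • (Finsupp.equivFunOnFinite.symm r : Fin l →₀ R) = a (Finsupp.single i 1) := by
    ext c
    rw [Finsupp.smul_apply, smul_eq_mul]
    exact hr c i
  rw [← map_smul, h4, ← LinearMap.comp_apply, ← hya, hx1]

end Alg

section Sch

variable {X : Scheme.{u}}

/-- sections over an affine open with integral coordinate ring of a scheme with integrally closed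
local rings form an integrally closed domain. -/
theorem intClosed_sections (hN : ∀ y : X, IsIntegrallyClosed (X.presheaf.stalk y)) {W : X.Opens}
    (hW : IsAffineOpen W) [IsDomain Γ(X, W)] : IsIntegrallyClosed Γ(X, W) := by
  apply IsIntegrallyClosed.of_localization_maximal
  intro p _ hp
  let p' : Spec Γ(X, W) := ⟨p, hp.isPrime⟩
  have hx : hW.fromSpec p' ∈ W := by
    have : hW.fromSpec p' ∈ Set.range hW.fromSpec := ⟨p', rfl⟩
    rw [hW.range_fromSpec] at this
    exact this
  have hprime : hW.primeIdealOf ⟨hW.fromSpec p', hx⟩ = p' := by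
    apply hW.fromSpec.isOpenEmbedding.injective
    rw [hW.fromSpec_primeIdealOf]
  let _ := TopCat.Presheaf.algebra_section_stalk X.presheaf ⟨hW.fromSpec p', hx⟩
  have hloc : IsLocalization.AtPrime (X.presheaf.stalk (hW.fromSpec p')) p := by
    have := hW.isLocalization_stalk ⟨hW.fromSpec p', hx⟩
    rw [hprime] at this
    exact this
  have := hN (hW.fromSpec p')
  exact IsIntegrallyClosed.of_equiv
    (IsLocalization.algEquiv p.primeCompl (X.presheaf.stalk (hW.fromSpec p'))
      (Localization.AtPrime p)).toRingEquiv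

theorem ringKrullDim_stalk_fromSpec {V : X.Opens} (hV : IsAffineOpen V)
    (p : PrimeSpectrum Γ(X, V)) :
    hV.fromSpec p ∈ V ∧
      ringKrullDim (X.presheaf.stalk (hV.fromSpec p)) = p.asIdeal.height := by
  have hp : hV.fromSpec p ∈ V := (SetLike.ext_iff.mp hV.opensRange_fromSpec _).mp ⟨p, rfl⟩
  refine ⟨hp, ?_⟩
  letI : Algebra Γ(X, V) (X.presheaf.stalk (hV.fromSpec p)) :=
    TopCat.Presheaf.algebra_section_stalk X.presheaf ⟨hV.fromSpec p, hp⟩
  haveI : IsLocalization.AtPrime (X.presheaf.stalk (hV.fromSpec p)) p.asIdeal :=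
    hV.isLocalization_stalk' p hp
  exact IsLocalization.AtPrime.ringKrullDim_eq_height p.asIdeal _

/-- affine opens with integral coordinate ring form a basis on a locally Noetherian scheme
whose local rings are domains. -/
theorem exists_affine_domain_nhd [IsLocallyNoetherian X]
    (hX : ∀ x : X, IsDomain (X.presheaf.stalk x)) (x : X) (W : X.Opens) (hx : x ∈ W) :
    ∃ V : X.Opens, IsAffineOpen V ∧ x ∈ V ∧ V ≤ W ∧ IsDomain Γ(X, V) := by
  haveI := hX x
  obtain ⟨U', hxU', hU'int⟩ := Groth.Agent.H2.exists_integral_nhd_of_isDomain_stalk X x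
  obtain ⟨V, hVaff, hxV, hVle⟩ :=
    exists_isAffineOpen_mem_and_subset (x := x) (U := W ⊓ U') ⟨hx, hxU'⟩
  refine ⟨V, hVaff, hxV, fun y hy => (hVle hy).1, ?_⟩
  have e : U'.ι ''ᵁ (U'.ι ⁻¹ᵁ V) = V := by
    rw [Scheme.Hom.image_preimage_eq_opensRange_inf, Scheme.Opens.opensRange_ι]
    exact inf_eq_right.mpr (fun y hy => (hVle hy).2)
  haveI : Nonempty (U'.ι ⁻¹ᵁ V) := ⟨⟨⟨x, hxU'⟩, hxV⟩⟩
  have hd : IsDomain Γ((U' : Scheme.{u}), U'.ι ⁻¹ᵁ V) := inferInstance
  have hd' : IsDomain Γ(X, U'.ι ''ᵁ (U'.ι ⁻¹ᵁ V)) := hd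
  rw [e] at hd'
  exact hd'

variable [IsLocallyNoetherian X] (A : X.Modules) [A.IsQuasicoherent]

/-- affine case of the extension of sections of a flat quasi-coherent module. -/
theorem res_bijective_of_isAffineOpen (hX : Pi1.IsNormalScheme X) (hfl : FlatMod.IsFlat A)
    (U : X.Opens) (hU : ∀ s : X, ringKrullDim (X.presheaf.stalk s) ≤ 1 → s ∈ U)
    {V : X.Opens} (hV : IsAffineOpen V) [IsDomain Γ(X, V)] :
    Function.Bijective (A.presheaf.map (homOfLE (inf_le_left : V ⊓ U ≤ V)).op) := by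
  classical
  haveI : IsNoetherianRing Γ(X, V) := IsLocallyNoetherian.component_noetherian ⟨V, hV⟩
  haveI : IsIntegrallyClosed Γ(X, V) := intClosed_sections (fun y => (hX y).2) hV
  haveI : Module.Flat Γ(X, V) Γ(A, V) :=
    flat_sections_of_flat_stalks A hV (fun x _ => hfl x)
  have htf : ∀ (r : Γ(X, V)) (z : Γ(A, V)), r ≠ 0 → r • z = 0 → z = 0 := by
    intro r z hr hz
    have hreg := Module.Flat.isSMulRegular_of_isRegular (M := Γ(A, V)) (IsRegular.of_ne_zero hr)
    exact hreg (show r • z = r • 0 by rw [hz, smul_zero])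
  have hnb : ∀ x ∈ V ⊓ U, ∃ f : Γ(X, V), f ≠ 0 ∧ X.basicOpen f ≤ V ⊓ U ∧ x ∈ X.basicOpen f := by
    intro x hx
    obtain ⟨f, hf, hxf⟩ := hV.exists_basicOpen_le (V := V ⊓ U) ⟨x, hx⟩ hx.1
    refine ⟨f, ?_, hf, hxf⟩
    rintro rfl
    rw [Scheme.basicOpen_zero] at hxf
    exact hxf
  have hpt : ∀ p : PrimeSpectrum Γ(X, V), p.asIdeal.height ≤ 1 → hV.fromSpec p ∈ V ⊓ U := by
    intro p hp
    obtain ⟨h1, h2⟩ := ringKrullDim_stalk_fromSpec hV p
    refine ⟨h1, hU _ ?_⟩
    rw [h2]
    exact_mod_cast hp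
  constructor
  · rw [injective_iff_map_eq_zero]
    intro z hz
    obtain ⟨f, hf0, hfle, -⟩ := hnb _ (hpt ⟨⊥, Ideal.isPrime_bot⟩ (by
      change (⊥ : Ideal Γ(X, V)).height ≤ 1
      rw [Ideal.height_bot]
      exact zero_le_one))
    have h1 : A.presheaf.map (homOfLE (X.basicOpen_le f)).op z = 0 := by
      rw [← res_res A (inf_le_left : V ⊓ U ≤ V) hfle, hz, map_zero]
    obtain ⟨n, hn⟩ := affine_inj A hV f z h1
    exact htf (f ^ n) z (pow_ne_zero n hf0) hn
  · intro s
    let S : Set Γ(X, V) := {f | f ≠ 0 ∧ X.basicOpen f ≤ V ⊓ U}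
    haveI : NoetherianSpace V := noetherianSpace_of_isAffineOpen V hV
    have hcpt : IsCompact ((V ⊓ U : X.Opens) : Set X) := by
      have h1 : IsCompact (Subtype.val ⁻¹' ((V ⊓ U : X.Opens) : Set X) : Set V) :=
        NoetherianSpace.isCompact _
      have h2 := h1.image continuous_subtype_val
      have e : ((V ⊓ U : X.Opens) : Set X) =
          Subtype.val '' (Subtype.val ⁻¹' ((V ⊓ U : X.Opens) : Set X) : Set V) := by
        ext y
        constructor
        · intro hy
          exact ⟨⟨y, hy.1⟩, hy, rfl⟩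
        · rintro ⟨z, hz, rfl⟩
          exact hz
      rw [e]
      exact h2
    obtain ⟨t, ht⟩ := hcpt.elim_finite_subcover
      (fun f : S => ((X.basicOpen f.1 : X.Opens) : Set X))
      (fun f => (X.basicOpen f.1).2) (by
        intro x hx
        obtain ⟨f, hf0, hfle, hxf⟩ := hnb x hx
        exact Set.mem_iUnion.mpr ⟨⟨f, hf0, hfle⟩, hxf⟩)
    have hloc : ∀ i : t, ∃ (n : ℕ) (m : Γ(A, V)),
        A.presheaf.map (homOfLE (X.basicOpen_le i.1.1)).op m =
          (X.presheaf.map (homOfLE (X.basicOpen_le i.1.1)).op i.1.1) ^ n •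
            A.presheaf.map (homOfLE i.1.2.2).op s := fun i => affine_surj A hV i.1.1 _
    choose n m hm using hloc
    have key : ∀ (i : t) (W : X.Opens) (hWi : W ≤ X.basicOpen i.1.1),
        A.presheaf.map (homOfLE (hWi.trans (X.basicOpen_le _))).op (m i) =
          (X.presheaf.map (homOfLE (hWi.trans (X.basicOpen_le _))).op i.1.1) ^ n i •
            A.presheaf.map (homOfLE (hWi.trans i.1.2.2)).op s := by
      intro i W hWi
      rw [← res_res A (X.basicOpen_le i.1.1) hWi (m i), hm i, smul_res, map_pow, sres_res,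
        res_res]
    have hrel : ∀ i j : t, (j.1.1 ^ n j) • m i = (i.1.1 ^ n i) • m j := by
      intro i j
      rw [← sub_eq_zero]
      have hlei : X.basicOpen (i.1.1 * j.1.1) ≤ X.basicOpen i.1.1 := by
        rw [Scheme.basicOpen_mul]; exact inf_le_left
      have hlej : X.basicOpen (i.1.1 * j.1.1) ≤ X.basicOpen j.1.1 := by
        rw [Scheme.basicOpen_mul]; exact inf_le_right
      have hres : A.presheaf.map (homOfLE (X.basicOpen_le (i.1.1 * j.1.1))).op
          ((j.1.1 ^ n j) • m i - (i.1.1 ^ n i) • m j) = 0 := by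
        rw [map_sub, smul_res, smul_res, map_pow, map_pow]
        have e1 := key i _ hlei
        have e2 := key j _ hlej
        rw [e1, e2]
        exact sub_eq_zero.mpr (smul_comm _ _ _)
      obtain ⟨N, hN⟩ := affine_inj A hV (i.1.1 * j.1.1) _ hres
      exact htf _ _ (pow_ne_zero N (mul_ne_zero i.1.2.1 j.1.2.1)) hN
    obtain ⟨x, hx⟩ := exists_of_flat (R := Γ(X, V)) (M := Γ(A, V))
      (fun i : t => i.1.1 ^ n i) m hrel (by
        intro P hP hh
        obtain ⟨hPV, hPU⟩ := hpt ⟨P, hP⟩ (le_of_eq hh)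
        have hc := ht ⟨hPV, hPU⟩
        simp only [Set.mem_iUnion] at hc
        obtain ⟨i, hi, hxi⟩ := hc
        refine ⟨⟨i, hi⟩, fun hmem => ?_⟩
        have hfi : i.1 ∈ P := hP.mem_of_pow_mem _ hmem
        have hxi' : (⟨P, hP⟩ : PrimeSpectrum Γ(X, V)) ∈ hV.fromSpec ⁻¹ᵁ X.basicOpen i.1 := hxi
        rw [hV.fromSpec_preimage_basicOpen] at hxi'
        exact hxi' hfi) (fun i => pow_ne_zero _ i.1.2.1)
    have hx' : ∀ i : t, (i.1.1 ^ n i) • x = m i := hx
    refine ⟨x, ?_⟩
    apply section_ext_of_cover A (fun i : t => X.basicOpen i.1.1) (fun i => i.1.2.2) ?_ _ _ ?_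
    · intro y hy
      have hc := ht hy
      simp only [Set.mem_iUnion] at hc
      obtain ⟨i, hi, hyi⟩ := hc
      exact Opens.mem_iSup.mpr ⟨⟨i, hi⟩, hyi⟩
    · intro i
      rw [res_res]
      have hu : IsUnit ((X.presheaf.map (homOfLE (X.basicOpen_le i.1.1)).op i.1.1) ^ n i) :=
        (RingedSpace.isUnit_res_basicOpen _ i.1.1).pow _
      apply hu.smul_left_cancel.mp
      rw [← hm i, ← hx' i, smul_res, map_pow]

/-- the index type of affine opens with integral coordinate ring inside a given open. -/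
abbrev DomAff (W : X.Opens) : Type u :=
  {V : X.affineOpens // V.1 ≤ W ∧ IsDomain Γ(X, V.1)}

theorem le_iSup_domAff (hX : Pi1.IsNormalScheme X) (W : X.Opens) :
    W ≤ ⨆ i : DomAff W, i.1.1 := by
  intro x hx
  obtain ⟨V, hV, hxV, hVW, hd⟩ := exists_affine_domain_nhd (fun y => (hX y).1) x W hx
  exact Opens.mem_iSup.mpr ⟨⟨⟨V, hV⟩, hVW, hd⟩, hxV⟩

variable (hX : Pi1.IsNormalScheme X) (hfl : FlatMod.IsFlat A)
  (U : X.Opens) (hU : ∀ s : X, ringKrullDim (X.presheaf.stalk s) ≤ 1 → s ∈ U)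

include hX hfl hU in
theorem res_injective (V : X.Opens) :
    Function.Injective (A.presheaf.map (homOfLE (inf_le_left : V ⊓ U ≤ V)).op) := by
  intro s t hst
  refine section_ext_of_cover A (fun i : DomAff V => i.1.1)
    (fun i => i.2.1) (le_iSup_domAff hX V) s t ?_
  intro i
  haveI := i.2.2
  apply (res_bijective_of_isAffineOpen A hX hfl U hU i.1.2).1
  rw [res_res, res_res]
  have h1 : i.1.1 ⊓ U ≤ V ⊓ U := inf_le_inf_right U i.2.1
  have := congrArg (A.presheaf.map (homOfLE h1).op) hst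
  rw [res_res, res_res] at this
  exact this

include hX hfl hU in
theorem res_bijective (V : X.Opens) :
    Function.Bijective (A.presheaf.map (homOfLE (inf_le_left : V ⊓ U ≤ V)).op) := by
  refine ⟨res_injective A hX hfl U hU V, ?_⟩
  intro t
  have hloc : ∀ i : DomAff V, ∃ s : Γ(A, i.1.1),
      A.presheaf.map (homOfLE (inf_le_left : i.1.1 ⊓ U ≤ i.1.1)).op s =
        A.presheaf.map (homOfLE (inf_le_inf_right U i.2.1 : i.1.1 ⊓ U ≤ V ⊓ U)).op t :=
    fun i => by
      haveI := i.2.2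
      exact (res_bijective_of_isAffineOpen A hX hfl U hU i.1.2).2 _
  choose sf hsf using hloc
  have hcompat : ∀ i j : DomAff V,
      A.presheaf.map (homOfLE (inf_le_left : i.1.1 ⊓ j.1.1 ≤ i.1.1)).op (sf i) =
        A.presheaf.map (homOfLE (inf_le_right : i.1.1 ⊓ j.1.1 ≤ j.1.1)).op (sf j) := by
    intro i j
    apply res_injective A hX hfl U hU (i.1.1 ⊓ j.1.1)
    rw [res_res, res_res]
    have e1 : (i.1.1 ⊓ j.1.1) ⊓ U ≤ i.1.1 ⊓ U := inf_le_inf_right U inf_le_left
    have e2 : (i.1.1 ⊓ j.1.1) ⊓ U ≤ j.1.1 ⊓ U := inf_le_inf_right U inf_le_right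
    have h1 := congrArg (A.presheaf.map (homOfLE e1).op) (hsf i)
    have h2 := congrArg (A.presheaf.map (homOfLE e2).op) (hsf j)
    rw [res_res, res_res] at h1 h2
    exact h1.trans h2.symm
  obtain ⟨s, hs, -⟩ := TopCat.Sheaf.existsUnique_gluing' ⟨_, A.isSheaf⟩
    (fun i : DomAff V => i.1.1) V
    (fun i => homOfLE i.2.1) (le_iSup_domAff hX V) sf
    (fun i j => hcompat i j)
  refine ⟨s, ?_⟩
  refine section_ext_of_cover A (fun i : DomAff V => i.1.1 ⊓ U)
    (fun i => inf_le_inf_right U i.2.1) ?_ _ _ ?_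
  · rintro x ⟨hxV, hxU⟩
    have := le_iSup_domAff hX V hxV
    rw [Opens.mem_iSup] at this ⊢
    obtain ⟨i, hi⟩ := this
    exact ⟨i, hi, hxU⟩
  · intro i
    rw [res_res, ← hsf i]
    have hsi : A.presheaf.map (homOfLE i.2.1).op s = sf i := hs i
    rw [← hsi, res_res]

end Sch

/-- **S16496**. -/
theorem s16496 (S : Scheme.{u}) [IsNoetherian S]
    (hS : Pi1.IsNormalScheme S) (A : S.Modules) (hA : Coh.IsQCoh A) (hAfl : FlatMod.IsFlat A)
    (U : S.Opens) (hU : ∀ s : S, ringKrullDim (S.presheaf.stalk s) ≤ 1 → s ∈ U) :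
    IsIso ((Scheme.Modules.restrictAdjunction U.ι).unit.app A) := by
  haveI : A.IsQuasicoherent := hA
  apply isIso_of_bijective_app
  intro W
  rw [Scheme.Modules.restrictAdjunction_unit_app_app]
  refine bijective_res_of_eq A (inf_le_left : W ⊓ U ≤ W) _ rfl ?_
    (res_bijective A hS hAfl U hU W)
  rw [Scheme.Hom.image_preimage_eq_opensRange_inf, Scheme.Opens.opensRange_ι, inf_comm]

end Groth.Agent.H6.FlatHartogs
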