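import Mathlib
import Groth.Prelude.Def_Curv2
import Groth.Agent.Lib.Helper1.BCStalk
import Groth.Agent.Lib.Helper1.SmoothReg2
import Groth.Agent.Lib.Helper1.SepPt
import Groth.Agent.Lib.Helper9.Misc.ZTC1

/-! Helper6: closed points with finite separable residue field are dense in a smooth scheme over a
field (S1550). -/

set_option autoImplicit false
set_option linter.style.haveILetI false
universe u
open CategoryTheory CategoryTheory.Limits AlgebraicGeometry IsLocalRing TensorProduct

namespace Groth.Agent.H6.SepDense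

open Groth.Agent.H9.ZTC Groth.Agent.H1.SmoothReg

/-- finitely generated algebraic field extensions are finite. -/
theorem finite_of_essFiniteType_of_isAlgebraic (F E : Type*) [Field F] [Field E] [Algebra F E]
    [Algebra.EssFiniteType F E] [Algebra.IsAlgebraic F E] : FiniteDimensional F E := by
  obtain ⟨s, hs⟩ := IntermediateField.fg_top F E
  haveI : Algebra.IsIntegral F E := Algebra.isAlgebraic_iff_isIntegral.mp inferInstance
  have h : FiniteDimensional F (IntermediateField.adjoin F (s : Set E)) :=
    IntermediateField.finiteDimensional_adjoin (fun x _ => Algebra.IsIntegral.isIntegral x)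
  rw [hs] at h
  exact Module.Finite.equiv (IntermediateField.topEquiv (F := F) (E := E)).toLinearEquiv

attribute [local instance] Curv2.resAlgebra

section

variable (k : Type u) [Field k] (X : Scheme.{u}) [X.Over (Spec (CommRingCat.of k))]

/-- the structure morphism of `Spec κ(x)` over `Spec k`. -/
theorem fromSpecResidueField_comp (x : X) :
    X.fromSpecResidueField x ≫ (X ↘ Spec (CommRingCat.of k)) =
      Spec.map (CommRingCat.ofHom (Curv2.resMap k X x)) := by
  have h := Groth.Agent.H1.BCStalk.fromSpecStalk_comp k X x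
  unfold Scheme.fromSpecResidueField
  rw [Category.assoc, h, ← Spec.map_comp]
  rfl

theorem essFiniteType_resMap [LocallyOfFiniteType (X ↘ Spec (CommRingCat.of k))] (x : X) :
    (Curv2.resMap k X x).EssFiniteType := by
  have hft := LocallyOfFiniteType.stalkMap (X ↘ Spec (CommRingCat.of k)) x
  have hbij := baseMapK_bijective k ((X ↘ Spec (CommRingCat.of k)) x)
  have h1 : (baseMapK k ((X ↘ Spec (CommRingCat.of k)) x)).EssFiniteType :=
    RingHom.FiniteType.essFiniteType (RingHom.FiniteType.of_surjective _ hbij.2)
  have h2 : (stalkMapK (X ↘ Spec (CommRingCat.of k)) x).EssFiniteType := by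
    rw [stalkMapK_eq]; exact h1.comp hft
  have h3 : (X.residue x).hom.EssFiniteType :=
    RingHom.FiniteType.essFiniteType
      (RingHom.FiniteType.of_surjective _ (Scheme.residue_surjective X x))
  exact h2.comp h3

theorem finiteDimensional_and_isClosed_of_isSeparable
    [LocallyOfFiniteType (X ↘ Spec (CommRingCat.of k))] (x : X)
    [Algebra.IsSeparable k (X.residueField x)] :
    FiniteDimensional k (X.residueField x) ∧ IsClosed ({x} : Set X) := by
  haveI : Algebra.EssFiniteType k (X.residueField x) := essFiniteType_resMap k X x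
  have hfin : FiniteDimensional k (X.residueField x) :=
    finite_of_essFiniteType_of_isAlgebraic k _
  refine ⟨hfin, ?_⟩
  haveI : JacobsonSpace X := LocallyOfFiniteType.jacobsonSpace (X ↘ Spec (CommRingCat.of k))
  rw [isClosed_singleton_iff_locallyOfFiniteType]
  have h1 : (Curv2.resMap k X x).Finite := hfin
  have h2 : LocallyOfFiniteType (Spec.map (CommRingCat.ofHom (Curv2.resMap k X x))) := by
    rw [HasRingHomProperty.Spec_iff (P := @LocallyOfFiniteType)]
    exact h1.finiteType
  rw [← fromSpecResidueField_comp] at h2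
  exact locallyOfFiniteType_of_comp _ (X ↘ Spec (CommRingCat.of k))

theorem isSeparable_of_open (U : X.Opens) (w : U)
    (hsep : @Algebra.IsSeparable
      ((Spec (CommRingCat.of k)).residueField ((U.ι ≫ (X ↘ Spec (CommRingCat.of k))) w))
      ((U : Scheme.{u}).residueField w) _ _
      ((U.ι ≫ (X ↘ Spec (CommRingCat.of k))).residueFieldMap w).hom.toAlgebra) :
    Algebra.IsSeparable k (X.residueField (U.ι w)) := by
  set g := U.ι ≫ (X ↘ Spec (CommRingCat.of k)) with hg
  have h1 : chi g w =
      CommRingCat.ofHom (Curv2.resMap k X (U.ι w)) ≫ U.ι.residueFieldMap w := by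
    apply Spec.map_injective
    rw [specMap_chi, Spec.map_comp, ← fromSpecResidueField_comp, hg, ← Category.assoc,
      ← Category.assoc, Scheme.Hom.SpecMap_residueFieldMap_fromSpecResidueField]
  have h2 : chi g w = ev (g w) ≫ g.residueFieldMap w := chi_eq g w
  have h3 : ∀ b : k, (U.ι.residueFieldMap w).hom (Curv2.resMap k X (U.ι w) b) =
      (g.residueFieldMap w).hom ((ev (g w)).hom b) := by
    intro b
    exact congrArg (fun t => t.hom b) (h1.symm.trans h2)
  letI : Algebra ((Spec (CommRingCat.of k)).residueField (g w))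
      ((U : Scheme.{u}).residueField w) := (g.residueFieldMap w).hom.toAlgebra
  haveI := hsep
  let e₁' : k ≃+* (Spec (CommRingCat.of k)).residueField (g w) :=
    RingEquiv.ofBijective (ev (g w)).hom (ev_bijective (g w))
  let e₂' : X.residueField (U.ι w) ≃+* (U : Scheme.{u}).residueField w :=
    (asIso (U.ι.residueFieldMap w)).commRingCatIsoToRingEquiv
  refine Algebra.IsSeparable.of_equiv_equiv e₁'.symm e₂'.symm (RingHom.ext fun a => ?_)
  apply e₂'.injective
  show e₂' (algebraMap k _ (e₁'.symm a)) = e₂' (e₂'.symm (algebraMap _ _ a))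
  rw [RingEquiv.apply_symm_apply]
  have h4 : (ev (g w)).hom (e₁'.symm a) = a := e₁'.apply_symm_apply a
  calc e₂' (algebraMap k _ (e₁'.symm a))
      = (U.ι.residueFieldMap w).hom (Curv2.resMap k X (U.ι w) (e₁'.symm a)) := rfl
    _ = (g.residueFieldMap w).hom ((ev (g w)).hom (e₁'.symm a)) := h3 _
    _ = (g.residueFieldMap w).hom a := by rw [h4]
    _ = algebraMap _ _ a := rfl

/-- statement shape of S1550. -/
theorem s1550 [Smooth (X ↘ (Spec (CommRingCat.of k)))] :
    Dense {x : X | IsClosed ({x} : Set X) ∧ FiniteDimensional k (X.residueField x) ∧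
      Algebra.IsSeparable k (X.residueField x)} := by
  rw [dense_iff_inter_open]
  rintro U hU ⟨x₀, hx₀⟩
  let Uo : X.Opens := ⟨U, hU⟩
  haveI : Smooth (Uo.ι ≫ (X ↘ Spec (CommRingCat.of k))) := inferInstance
  obtain ⟨w, -, hw⟩ := Groth.Agent.H1.SepPt.exists_sep_point
    (Uo.ι ≫ (X ↘ Spec (CommRingCat.of k))) ⟨x₀, hx₀⟩
  haveI hsep : Algebra.IsSeparable k (X.residueField (Uo.ι w)) := isSeparable_of_open k X Uo w hw
  haveI : LocallyOfFiniteType (X ↘ Spec (CommRingCat.of k)) := inferInstance
  obtain ⟨hfin, hcl⟩ := finiteDimensional_and_isClosed_of_isSeparable k X (Uo.ι w)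
  exact ⟨Uo.ι w, w.2, hcl, hfin, hsep⟩

end

end Groth.Agent.H6.SepDense
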