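import Mathlib
import Groth.Prelude.Def_Found
import Groth.Prelude.Def_CAlgX
import Groth.Agent.Lib.Helper3.CA.RegHomLocal
import Groth.Agent.Lib.Helper5.FSm.Main2038
import Groth.Agent.Lib.Helper5.CA.NG35
import Groth.Agent.Lib.Helper5.CA.NG22
import Groth.Agent.Lib.Helper5.CA.NG19
import Groth.Agent.Lib.Helper5.CA.GR1

/-!
# Regular homomorphisms and formal smoothness of the local homomorphisms (helper6)
-/

set_option autoImplicit false
universe u
open TensorProduct IsLocalRing

namespace Groth.Agent.H6.RegHomFS

/-- Descent of adic formal smoothness to the residue field along a surjection whose kernel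
is contained in the extension of the maximal ideal. -/
theorem isAdicFormallySmooth_residueField_of_surjective
    {R S L : Type u} [CommRing R] [IsLocalRing R] [CommRing S] [IsLocalRing S] [CommRing L]
    [IsLocalRing L] [Algebra R S] [Algebra R L] [Algebra (ResidueField R) L]
    [IsScalarTower R (ResidueField R) L]
    (θ : S →ₐ[R] L) (hθ : Function.Surjective θ)
    (hker : RingHom.ker (θ : S →+* L) ≤ (maximalIdeal R).map (algebraMap R S))
    (h : CAlgX.IsAdicFormallySmooth R S (maximalIdeal S)) :
    CAlgX.IsAdicFormallySmooth (ResidueField R) L (maximalIdeal L) := by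
  intro C _ _ J hJ ψ hψ
  obtain ⟨t, ht⟩ := hψ
  letI : Algebra R C :=
    ((algebraMap (ResidueField R) C).comp (algebraMap R (ResidueField R))).toAlgebra
  haveI : IsScalarTower R (ResidueField R) C := IsScalarTower.of_algebraMap_eq (fun _ => rfl)
  haveI : IsScalarTower R (ResidueField R) (C ⧸ J) :=
    IsScalarTower.of_algebraMap_eq (fun _ => rfl)
  let ψ' : S →ₐ[R] C ⧸ J := (ψ.restrictScalars R).comp θ
  have hmap : (maximalIdeal S).map (θ : S →+* L) = maximalIdeal L :=
    IsLocalRing.map_maximalIdeal_of_surjective (θ : S →+* L) hθ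
  have hψ' : ∃ k : ℕ, ∀ x ∈ maximalIdeal S ^ k, ψ' x = 0 := by
    refine ⟨t, fun x hx => ?_⟩
    change ψ (θ x) = 0
    apply ht
    rw [← hmap, ← Ideal.map_pow]
    exact Ideal.mem_map_of_mem _ hx
  obtain ⟨χ', hχ'⟩ := h C J hJ ψ' hψ'
  have hkill : RingHom.ker (θ : S →+* L) ≤ RingHom.ker (χ' : S →+* C) := by
    refine hker.trans (Ideal.map_le_iff_le_comap.mpr ?_)
    intro r hr
    rw [Ideal.mem_comap, RingHom.mem_ker]
    change χ' (algebraMap R S r) = 0
    rw [χ'.commutes]
    change algebraMap (ResidueField R) C (algebraMap R (ResidueField R) r) = 0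
    have : algebraMap R (ResidueField R) r = 0 := by
      change IsLocalRing.residue R r = 0
      exact (IsLocalRing.residue_eq_zero_iff r).mpr hr
    rw [this, map_zero]
  let ρ : L →+* C := (θ : S →+* L).liftOfSurjective hθ ⟨(χ' : S →+* C), hkill⟩
  have hρ : ∀ s, ρ (θ s) = χ' s := fun s =>
    RingHom.liftOfRightInverse_comp_apply _ _ _ ⟨(χ' : S →+* C), hkill⟩ s
  let χ : L →ₐ[ResidueField R] C :=
    { ρ with
      commutes' := by
        intro a
        obtain ⟨r, rfl⟩ := IsLocalRing.residue_surjective a
        change ρ (algebraMap (ResidueField R) L (algebraMap R (ResidueField R) r)) =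
          algebraMap (ResidueField R) C (algebraMap R (ResidueField R) r)
        rw [← IsScalarTower.algebraMap_apply R (ResidueField R) L, ← θ.commutes, hρ, χ'.commutes]
        rfl }
  refine ⟨χ, ?_⟩
  apply AlgHom.ext
  intro l
  obtain ⟨s, rfl⟩ := hθ l
  change Ideal.Quotient.mk J (ρ (θ s)) = ψ (θ s)
  rw [hρ]
  exact DFunLike.congr_fun hχ' s

section Fibre

variable {A B : Type u} [CommRing A] [CommRing B] [Algebra A B]

/-- If `A_p → B_r` is formally smooth for the adic topology (`r` the contraction to `B` of a
prime `Q` of the fibre `κ(p) ⊗ B`), then the local ring of the fibre at `Q` is geometrically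
regular over `κ(p)`. -/
theorem isGeometricallyRegular_localization_fiber (p : Ideal A) [p.IsPrime]
    (Q : Ideal (p.Fiber B)) [Q.IsPrime] [IsNoetherianRing (p.Fiber B)]
    [Algebra (Localization.AtPrime p)
      (Localization.AtPrime (Q.comap (Algebra.TensorProduct.includeRight : B →ₐ[A] p.Fiber B)))]
    [Localization.AtPrime.IsLiesOverAlgebra p
      (Q.comap (Algebra.TensorProduct.includeRight : B →ₐ[A] p.Fiber B))]
    (h : CAlgX.IsAdicFormallySmooth (Localization.AtPrime p)
      (Localization.AtPrime (Q.comap (Algebra.TensorProduct.includeRight : B →ₐ[A] p.Fiber B)))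
      (maximalIdeal _)) :
    CAlg.IsGeometricallyRegular p.ResidueField (Localization.AtPrime Q) := by
  haveI : IsNoetherianRing (Localization.AtPrime Q) :=
    IsLocalization.isNoetherianRing Q.primeCompl _ inferInstance
  rw [H5.NG.isGeometricallyRegular_iff_isAdicFormallySmooth]
  let e := Ideal.Fiber.localizationAlgEquivQuotient p Q
  refine isAdicFormallySmooth_residueField_of_surjective
    (e.symm.toAlgHom.comp
      (Ideal.Quotient.mkₐ (Localization.AtPrime p) _)) ?_ ?_ h
  · exact e.symm.surjective.comp Ideal.Quotient.mk_surjective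
  · intro x hx
    rw [RingHom.mem_ker] at hx
    have h0 : Ideal.Quotient.mk (p.map (algebraMap A (Localization.AtPrime
        (Q.comap (Algebra.TensorProduct.includeRight : B →ₐ[A] p.Fiber B))))) x = 0 := by
      apply e.symm.injective
      rw [map_zero]
      exact hx
    rw [Ideal.Quotient.eq_zero_iff_mem] at h0
    refine (Ideal.map_le_iff_le_comap.mpr ?_) h0
    intro a ha
    rw [Ideal.mem_comap, IsScalarTower.algebraMap_apply A (Localization.AtPrime p)
      (Localization.AtPrime (Q.comap (Algebra.TensorProduct.includeRight : B →ₐ[A] p.Fiber B)))]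
    exact Ideal.mem_map_of_mem _
      ((IsLocalization.AtPrime.to_map_mem_maximal_iff (Localization.AtPrime p) p a).mpr ha)

end Fibre

end Groth.Agent.H6.RegHomFS
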