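import Mathlib
import Groth.Agent.Lib.Helper6.RegHomFS

/-!
# Regular homomorphisms and formal smoothness of the local homomorphisms, main theorem (helper6)
-/

set_option autoImplicit false
universe u
open TensorProduct IsLocalRing

namespace Groth.Agent.H6.RegHomFS

section Main

variable (A B : Type u) [CommRing A] [CommRing B] [Algebra A B] [IsNoetherianRing A]
  [IsNoetherianRing B]

attribute [local instance] Localization.AtPrime.algebraOfLiesOver

theorem fwd (h : CAlg.IsRegularHom A B) (q : Ideal B) [q.IsPrime] :
    CAlgX.IsAdicFormallySmooth (Localization.AtPrime (q.under A)) (Localization.AtPrime q)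
      (maximalIdeal (Localization.AtPrime q)) := by
  have h1 := H3.RegHomLocal.isRegularHom_localRingHom A B h q
  haveI : IsLocalHom (algebraMap (Localization.AtPrime (q.under A)) (Localization.AtPrime q)) := by
    change IsLocalHom (Localization.localRingHom (q.under A) q (algebraMap A B) Ideal.LiesOver.over)
    infer_instance
  haveI : IsNoetherianRing (Localization.AtPrime (q.under A)) :=
    IsLocalization.isNoetherianRing (q.under A).primeCompl _ inferInstance
  haveI : IsNoetherianRing (Localization.AtPrime q) :=
    IsLocalization.isNoetherianRing q.primeCompl _ inferInstance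
  exact H5.FSm.main2038.mp ⟨h1.1, (h1.2 (maximalIdeal _)).2⟩

theorem bwd_flat (H : ∀ (q : Ideal B) [q.IsPrime],
    CAlgX.IsAdicFormallySmooth (Localization.AtPrime (q.under A)) (Localization.AtPrime q)
      (maximalIdeal (Localization.AtPrime q))) :
    Module.Flat A B := by
  have hN : ∀ (q : Ideal B) [q.IsPrime], IsNoetherianRing (Localization.AtPrime q) := fun q _ =>
    IsLocalization.isNoetherianRing q.primeCompl _ inferInstance
  have hNA : ∀ (p : Ideal A) [p.IsPrime], IsNoetherianRing (Localization.AtPrime p) := fun p _ =>
    IsLocalization.isNoetherianRing p.primeCompl _ inferInstance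
  apply Module.flat_of_isLocalized_maximal B B (fun P _ => Localization.AtPrime P)
    (fun P _ => Algebra.linearMap B _)
  intro P _
  haveI := hN P
  haveI := hNA (P.under A)
  haveI : IsLocalHom (algebraMap (Localization.AtPrime (P.under A)) (Localization.AtPrime P)) := by
    change IsLocalHom
      (Localization.localRingHom (P.under A) P (algebraMap A B) Ideal.LiesOver.over)
    infer_instance
  have := (H5.FSm.main2038.mpr (H P)).1
  exact Module.Flat.trans A (Localization.AtPrime (P.under A)) (Localization.AtPrime P)


theorem bwd_step (H : ∀ (q : Ideal B) [q.IsPrime],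
    CAlgX.IsAdicFormallySmooth (Localization.AtPrime (q.under A)) (Localization.AtPrime q)
      (maximalIdeal (Localization.AtPrime q))) (p : Ideal A) [p.IsPrime] (r : Ideal B) [r.IsPrime]
    [r.LiesOver p] :
    CAlgX.IsAdicFormallySmooth (Localization.AtPrime p) (Localization.AtPrime r)
      (maximalIdeal (Localization.AtPrime r)) := by
  haveI i3 : Algebra.FormallySmooth A (Localization.AtPrime (r.under A)) :=
    Algebra.FormallySmooth.of_isLocalization (r.under A).primeCompl
  have h0 : CAlgX.IsAdicFormallySmooth A (Localization.AtPrime (r.under A)) ⊥ :=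
    H5.GR.isAdicFormallySmooth_of_formallySmooth A _ ⊥
  have hr := H r
  have ha : CAlgX.IsAdicFormallySmooth A (Localization.AtPrime r)
      (maximalIdeal (Localization.AtPrime r)) :=
    H5.GR.isAdicFormallySmooth_trans A (Localization.AtPrime (r.under A))
      (Localization.AtPrime r) ⊥ (maximalIdeal (Localization.AtPrime r))
      (by rw [Ideal.map_bot]; exact bot_le) h0 hr
  exact H5.NG.isAdicFormallySmooth_base_localization p.primeCompl _ ha

theorem bwd (H : ∀ (q : Ideal B) [q.IsPrime],
    CAlgX.IsAdicFormallySmooth (Localization.AtPrime (q.under A)) (Localization.AtPrime q)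
      (maximalIdeal (Localization.AtPrime q))) :
    CAlg.IsRegularHom A B := by
  refine ⟨bwd_flat A B H, fun p _ => ⟨H3.RegHomBC.isNoetherianRing_fiber A B p, ?_⟩⟩
  haveI := H3.RegHomBC.isNoetherianRing_fiber A B p
  apply H5.NG.isGeometricallyRegular_of_forall_maximal
  intro Q _
  exact isGeometricallyRegular_localization_fiber p Q
    (bwd_step A B H p (Q.comap (Algebra.TensorProduct.includeRight : B →ₐ[A] p.Fiber B)))

/-- **Main theorem** (S19864). -/
theorem main : CAlg.IsRegularHom A B ↔
      ∀ (q : Ideal B) [q.IsPrime],
        letI := (Localization.localRingHom (Ideal.comap (algebraMap A B) q) q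
          (algebraMap A B) rfl).toAlgebra
        CAlgX.IsAdicFormallySmooth (Localization.AtPrime (Ideal.comap (algebraMap A B) q))
          (Localization.AtPrime q) (IsLocalRing.maximalIdeal (Localization.AtPrime q)) := by
  constructor
  · intro h q _
    exact fwd A B h q
  · intro H
    exact bwd A B (fun q _ => H q)

end Main

end Groth.Agent.H6.RegHomFS
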