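import Groth.Agent.Lib.Helper6.DeRhamGen

/-!
# The map of de Rham complexes attached to a square of rings (helper6)
-/

universe u

open exteriorPower

namespace Groth.Agent.H6.DR

section Map

variable (R S A B : Type u) [CommRing R] [CommRing S] [CommRing A] [CommRing B]
    [Algebra R S] [Algebra R A] [Algebra R B] [Algebra A B] [Algebra S B]
    [IsScalarTower R A B] [IsScalarTower R S B]

/-- The `A`-alternating map `(ω₁, …, ω_p) ↦ π ω₁ ∧ … ∧ π ω_p` with `π : Ω[A/R] → Ω[B/S]`. -/
noncomputable def cxAlt (p : ℕ) : (Ω[A⁄R]) [⋀^Fin p]→ₗ[A] ↥(⋀[B]^p (Ω[B⁄S])) :=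
  { (((ιMulti B p).toMultilinearMap.restrictScalars A).compLinearMap
      (fun _ => KaehlerDifferential.map R S A B)) with
    map_eq_zero_of_eq' := fun v i j h hij =>
      (ιMulti B p).map_eq_zero_of_eq _ (by simp [h]) hij }

theorem cxAlt_apply (p : ℕ) (v : Fin p → Ω[A⁄R]) :
    cxAlt R S A B p v = ιMulti B p (fun i => KaehlerDifferential.map R S A B (v i)) := rfl

/-- The induced map on `p`-forms, `A`-linear. -/
noncomputable def cxMap (p : ℕ) : ↥(⋀[A]^p (Ω[A⁄R])) →ₗ[A] ↥(⋀[B]^p (Ω[B⁄S])) :=
  alternatingMapLinearEquiv (cxAlt R S A B p)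

theorem cxMap_ιMulti (p : ℕ) (v : Fin p → Ω[A⁄R]) :
    cxMap R S A B p (ιMulti A p v) = ιMulti B p (fun i => KaehlerDifferential.map R S A B (v i)) := by
  rw [cxMap, alternatingMapLinearEquiv_apply_ιMulti, cxAlt_apply]

theorem cxMap_gen (p : ℕ) (b₀ : A) (b : Fin p → A) :
    cxMap R S A B p (DeRham.gen (KaehlerDifferential.D R A) p b₀ b) =
      DeRham.gen (KaehlerDifferential.D S B) p (algebraMap A B b₀) (fun i => algebraMap A B (b i)) := by
  unfold DeRham.gen
  rw [map_smul, cxMap_ιMulti, algebraMap_smul]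
  simp only [KaehlerDifferential.map_D]

theorem isCxMap_cxMap :
    DeRham.IsCxMap (KaehlerDifferential.D R A) (KaehlerDifferential.D S B) (algebraMap A B)
      (fun p => (cxMap R S A B p).toAddMonoidHom) :=
  fun p b₀ b => cxMap_gen R S A B p b₀ b

/-- Any family satisfying `IsCxMap` for the structure map is `cxMap`. -/
theorem eq_cxMap_of_isCxMap (ψ : ∀ p : ℕ, ↥(⋀[A]^p (Ω[A⁄R])) →+ ↥(⋀[B]^p (Ω[B⁄S])))
    (hψ : DeRham.IsCxMap (KaehlerDifferential.D R A) (KaehlerDifferential.D S B) (algebraMap A B) ψ)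
    (p : ℕ) : ψ p = (cxMap R S A B p).toAddMonoidHom :=
  addHom_ext (KaehlerDifferential.D R A) (KaehlerDifferential.span_range_derivation R A) p
    (fun b₀ b => by rw [hψ p b₀ b]; exact (cxMap_gen R S A B p b₀ b).symm)

end Map

end Groth.Agent.H6.DR

namespace Groth.Agent.H6.DR

section Bij

variable (R S B : Type u) [CommRing R] [CommRing S] [CommRing B]
    [Algebra R S] [Algebra R B] [Algebra S B] [IsScalarTower R S B]

/-- If `Ω[B/R] → Ω[B/S]` is bijective, every family satisfying `IsCxMap` for the identity of `B`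
is bijective in each degree. -/
theorem bijective_of_isCxMap_id
    (hπ : Function.Bijective (KaehlerDifferential.map R S B B))
    (ψ : ∀ p : ℕ, ↥(⋀[B]^p (Ω[B⁄R])) →+ ↥(⋀[B]^p (Ω[B⁄S])))
    (hψ : DeRham.IsCxMap (KaehlerDifferential.D R B) (KaehlerDifferential.D S B) (RingHom.id B) ψ)
    (p : ℕ) : Function.Bijective (ψ p) := by
  let e : Ω[B⁄R] ≃ₗ[B] Ω[B⁄S] := LinearEquiv.ofBijective _ hπ
  have he : ∀ b : B, e.symm (KaehlerDifferential.D S B b) = KaehlerDifferential.D R B b := by
    intro b
    rw [LinearEquiv.symm_apply_eq]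
    exact (KaehlerDifferential.map_D R S B B b).symm
  have hinv : ∀ (b₀ : B) (b : Fin p → B),
      exteriorPower.map p e.symm.toLinearMap (DeRham.gen (KaehlerDifferential.D S B) p b₀ b) =
        DeRham.gen (KaehlerDifferential.D R B) p b₀ b := by
    intro b₀ b
    unfold DeRham.gen
    rw [map_smul, exteriorPower.map_apply_ιMulti]
    congr 2
    funext i
    exact he (b i)
  have h1 : ∀ x, exteriorPower.map p e.symm.toLinearMap (ψ p x) = x := by
    intro x
    induction x using gen_induction (KaehlerDifferential.D R B)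
      (KaehlerDifferential.span_range_derivation R B) p with
    | h0 => simp
    | hadd x y hx hy => rw [map_add, map_add, hx, hy]
    | hgen b₀ b =>
      rw [hψ p b₀ b]
      exact hinv b₀ b
  have h2 : ∀ y, ψ p (exteriorPower.map p e.symm.toLinearMap y) = y := by
    intro y
    induction y using gen_induction (KaehlerDifferential.D S B)
      (KaehlerDifferential.span_range_derivation S B) p with
    | h0 => simp
    | hadd x y hx hy => rw [map_add, map_add, hx, hy]
    | hgen b₀ b =>
      rw [hinv b₀ b, hψ p b₀ b]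
      rfl
  exact ⟨Function.LeftInverse.injective h1, Function.RightInverse.surjective h2⟩

/-- `Ω[B/R] → Ω[B/S]` is bijective when `Ω[S/R] = 0`. -/
theorem map_bijective_of_subsingleton [Subsingleton (Ω[S⁄R])] :
    Function.Bijective (KaehlerDifferential.map R S B B) := by
  refine ⟨?_, KaehlerDifferential.map_surjective R S B⟩
  rw [← LinearMap.ker_eq_bot, ← KaehlerDifferential.range_mapBaseChange, LinearMap.range_eq_bot]
  apply LinearMap.ext
  intro x
  have : Subsingleton (TensorProduct S B (Ω[S⁄R])) := inferInstance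
  rw [Subsingleton.elim x 0, map_zero, map_zero]

end Bij

end Groth.Agent.H6.DR
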