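import Mathlib
import Groth.Agent.Lib.Helper7.FinCoprod

/-!
# A finite disjoint union of finite morphisms is finite (helper6)
-/

universe u

open CategoryTheory CategoryTheory.Limits AlgebraicGeometry Opposite

namespace Groth.Agent.H6.FinSigma

/-- Pulling back a finite coproduct gives a coproduct. -/
theorem nonempty_isColimit_of_isPullback_sigma {ι : Type u} [Finite ι] (g : ι → Scheme.{u})
    {P Q : Scheme.{u}} (φ : P ⟶ Q) (c : Cofan g) (hc : IsColimit c) (m : Q ⟶ c.pt)
    (Y : ι → Scheme.{u}) (w : ∀ i, Y i ⟶ P) (r : ∀ i, Y i ⟶ g i)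
    (h : ∀ i, IsPullback (w i) (r i) (φ ≫ m) (c.inj i)) :
    Nonempty (IsColimit (Cofan.mk P w)) := by
  have huniv := FinitaryPreExtensive.isUniversal_finiteCoproducts hc
  refine huniv (Cofan.mk P w) (Discrete.natTrans fun i => r i.as) (φ ≫ m) ?_ (.of_discrete _)
    (fun j => h j.as)
  ext ⟨i⟩
  exact (h i).w.symm

/-- A finite disjoint union of finite morphisms is finite. -/
theorem isFinite_sigmaDesc {ι : Type u} [Finite ι] (W : ι → Scheme.{u}) {Z : Scheme.{u}}
    (c : ∀ i, W i ⟶ Z) (h : ∀ i, IsFinite (c i)) : IsFinite (Sigma.desc c) := by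
  rw [IsZariskiLocalAtTarget.iff_of_openCover (P := @IsFinite) Z.affineCover]
  intro j
  let U := Z.affineCover.X j
  let g : U ⟶ Z := Z.affineCover.f j
  change IsFinite (pullback.snd (Sigma.desc c) g)
  let Y' : ι → Scheme.{u} := fun i => pullback (c i) g
  let w : ∀ i, Y' i ⟶ pullback (Sigma.desc c) g := fun i =>
    pullback.lift (pullback.fst (c i) g ≫ Sigma.ι W i) (pullback.snd (c i) g)
      (by rw [Category.assoc, Sigma.ι_desc, pullback.condition])
  have hpb : ∀ i, IsPullback (w i) (pullback.fst (c i) g)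
      (pullback.fst (Sigma.desc c) g ≫ 𝟙 _) ((Cofan.mk (∐ W) (Sigma.ι W)).inj i) := by
    intro i
    rw [Category.comp_id]
    have h1 : IsPullback (pullback.fst (Sigma.desc c) g) (pullback.snd (Sigma.desc c) g)
        (Sigma.desc c) g := IsPullback.of_hasPullback _ _
    have h2 : IsPullback (pullback.fst (c i) g) (pullback.snd (c i) g)
        (Sigma.ι W i ≫ Sigma.desc c) g := by
      rw [Sigma.ι_desc]
      exact IsPullback.of_hasPullback _ _
    have h3 : IsPullback (pullback.fst (c i) g) (w i ≫ pullback.snd (Sigma.desc c) g)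
        (Sigma.ι W i ≫ Sigma.desc c) g := by
      rw [pullback.lift_snd]
      exact h2
    exact (IsPullback.of_bot h3 (pullback.lift_fst _ _ _).symm h1).flip
  obtain ⟨hcol⟩ := nonempty_isColimit_of_isPullback_sigma W (pullback.fst (Sigma.desc c) g)
    (Cofan.mk (∐ W) (Sigma.ι W)) (coproductIsCoproduct W) (𝟙 _) Y' w
    (fun i => pullback.fst (c i) g) hpb
  have hfin : ∀ i, IsFinite (pullback.snd (c i) g) := fun i =>
    MorphismProperty.pullback_snd (P := @IsFinite) _ _ (h i)
  haveI : ∀ i, IsAffine (Y' i) := fun i => by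
    haveI := hfin i
    exact isAffine_of_isAffineHom (pullback.snd (c i) g)
  have hfin' : IsFinite (Sigma.desc fun i => pullback.snd (c i) g) :=
    Groth.Agent.H7.FinCoprod.isFinite_sigmaDesc Y' (fun i => pullback.snd (c i) g) hfin
  let e : ∐ Y' ≅ pullback (Sigma.desc c) g :=
    (coproductIsCoproduct Y').coconePointUniqueUpToIso hcol
  have he : e.hom ≫ pullback.snd (Sigma.desc c) g = Sigma.desc fun i => pullback.snd (c i) g := by
    apply Sigma.hom_ext
    intro i
    have h1 : Sigma.ι Y' i ≫ e.hom = w i :=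
      (coproductIsCoproduct Y').comp_coconePointUniqueUpToIso_hom hcol ⟨i⟩
    rw [← Category.assoc, h1, Sigma.ι_desc]
    exact pullback.lift_snd _ _ _
  have h4 : pullback.snd (Sigma.desc c) g =
      e.inv ≫ Sigma.desc fun i => pullback.snd (c i) g := by
    rw [← he, Iso.inv_hom_id_assoc]
  rw [h4]
  infer_instance

/-- A finite disjoint union of finite morphisms is finite (index type in `Type`). -/
theorem isFinite_sigmaDesc' {ι : Type} [Finite ι] (W : ι → Scheme.{u}) {Z : Scheme.{u}}
    (c : ∀ i, W i ⟶ Z) (h : ∀ i, IsFinite (c i)) : IsFinite (Sigma.desc c) := by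
  let ε : ULift.{u} ι ≃ ι := Equiv.ulift
  have h1 : IsFinite (Sigma.desc fun i : ULift.{u} ι => c (ε i)) :=
    isFinite_sigmaDesc (fun i : ULift.{u} ι => W (ε i)) (fun i => c (ε i)) (fun i => h (ε i))
  have h2 : (Sigma.reindex ε W).hom ≫ Sigma.desc c = Sigma.desc fun i : ULift.{u} ι => c (ε i) := by
    apply Sigma.hom_ext
    intro i
    rw [← Category.assoc, Sigma.ι_reindex_hom, Sigma.ι_desc, Sigma.ι_desc]
  have h3 : Sigma.desc c =
      (Sigma.reindex ε W).inv ≫ ((Sigma.reindex ε W).hom ≫ Sigma.desc c) := by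
    rw [Iso.inv_hom_id_assoc]
  rw [h3]
  haveI : IsFinite ((Sigma.reindex ε W).hom ≫ Sigma.desc c) := h2 ▸ h1
  infer_instance

end Groth.Agent.H6.FinSigma
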