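import Mathlib

/-! Helper6: vanishing classes for `Ext(Z, -)` in an abelian category: closure under extensions,
quotients, subobjects (S0902, part A). -/

set_option autoImplicit false
open CategoryTheory CategoryTheory.Limits Abelian

universe w v u

namespace Groth.Agent.H6.Van

variable {𝒜 : Type u} [Category.{v} 𝒜] [Abelian 𝒜] [HasExt.{w} 𝒜] (Z : 𝒜) (d : ℕ)

/-- `Ext^p(Z, G) = 0` for all `p > d`. -/
def Van (G : 𝒜) : Prop := ∀ p : ℕ, d < p → Subsingleton (Ext Z G p)

variable {Z d}

lemma van_of_iso {G G' : 𝒜} (e : G ≅ G') (h : Van Z d G) : Van Z d G' := by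
  intro p hp
  haveI := h p hp
  refine ⟨fun x y => ?_⟩
  have hx : ∀ z : Ext Z G' p, z = (z.comp (Ext.mk₀ e.inv) (add_zero p)).comp (Ext.mk₀ e.hom)
      (add_zero p) := by
    intro z
    rw [Ext.comp_assoc_of_third_deg_zero, Ext.mk₀_comp_mk₀, e.inv_hom_id, Ext.comp_mk₀_id]
  rw [hx x, hx y, Subsingleton.elim (x.comp (Ext.mk₀ e.inv) (add_zero p))
    (y.comp (Ext.mk₀ e.inv) (add_zero p))]

lemma van_of_isZero {G : 𝒜} (h : IsZero G) : Van Z d G := by
  intro p _
  refine ⟨fun x y => ?_⟩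
  have hx : ∀ z : Ext Z G p, z = 0 := by
    intro z
    have : z = z.comp (Ext.mk₀ (𝟙 G)) (add_zero p) := (Ext.comp_mk₀_id z).symm
    rw [this, h.eq_of_src (𝟙 G) 0, Ext.mk₀_zero, Ext.comp_zero]
  rw [hx x, hx y]

lemma van_X₂ {S : ShortComplex 𝒜} (hS : S.ShortExact) (h1 : Van Z d S.X₁) (h3 : Van Z d S.X₃) :
    Van Z d S.X₂ := by
  intro p hp
  haveI := h1 p hp
  haveI := h3 p hp
  have hz : ∀ x : Ext Z S.X₂ p, x = 0 := by
    intro x
    obtain ⟨x₁, hx₁⟩ := Ext.covariant_sequence_exact₂ Z hS x (Subsingleton.elim _ _)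
    rw [← hx₁, Subsingleton.elim x₁ 0, Ext.zero_comp]
  exact ⟨fun x y => by rw [hz x, hz y]⟩

lemma van_X₃ {S : ShortComplex 𝒜} (hS : S.ShortExact) (h1 : Van Z d S.X₁) (h2 : Van Z d S.X₂) :
    Van Z d S.X₃ := by
  intro p hp
  haveI := h1 (p + 1) (by omega)
  haveI := h2 p hp
  have hz : ∀ x : Ext Z S.X₃ p, x = 0 := by
    intro x
    obtain ⟨x₂, hx₂⟩ := Ext.covariant_sequence_exact₃ Z hS x rfl (Subsingleton.elim _ _)
    rw [← hx₂, Subsingleton.elim x₂ 0, Ext.zero_comp]
  exact ⟨fun x y => by rw [hz x, hz y]⟩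

/-- the short exact sequence of a monomorphism and its cokernel -/
lemma shortExact_cokernel {A B : 𝒜} (f : A ⟶ B) [Mono f] :
    (ShortComplex.mk f (cokernel.π f) (cokernel.condition f)).ShortExact where
  exact := ShortComplex.exact_cokernel f

/-- the short exact sequence of an epimorphism and its kernel -/
lemma shortExact_kernel {A B : 𝒜} (f : A ⟶ B) [Epi f] :
    (ShortComplex.mk (kernel.ι f) f (kernel.condition f)).ShortExact where
  exact := ShortComplex.exact_kernel f

variable (Z d)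

/-- every subobject has vanishing `Ext^p(Z, -)` for `p > d`. -/
def PV (G : 𝒜) : Prop := ∀ ⦃K : 𝒜⦄ (i : K ⟶ G) [Mono i], Van Z d K

variable {Z d}

lemma PV.van {G : 𝒜} (h : PV Z d G) : Van Z d G := h (𝟙 G)

lemma pv_of_mono {G G' : 𝒜} (j : G' ⟶ G) [Mono j] (h : PV Z d G) : PV Z d G' := by
  intro K i _
  exact h (i ≫ j)

lemma pv_of_iso {G G' : 𝒜} (e : G ≅ G') (h : PV Z d G) : PV Z d G' :=
  pv_of_mono e.inv h

lemma pv_of_isZero {G : 𝒜} (h : IsZero G) : PV Z d G := by
  intro K i _
  refine van_of_isZero ?_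
  rw [IsZero.iff_id_eq_zero, ← cancel_mono i]
  exact h.eq_of_tgt _ _

lemma pv_of_epi {G Q : 𝒜} (π : G ⟶ Q) [Epi π] (h : PV Z d G) : PV Z d Q := by
  intro K i _
  -- the preimage of `K` in `G`
  let P := pullback π i
  let p₁ : P ⟶ G := pullback.fst π i
  let p₂ : P ⟶ K := pullback.snd π i
  haveI : Mono p₁ := inferInstanceAs (Mono (pullback.fst π i))
  haveI : Epi p₂ := inferInstanceAs (Epi (pullback.snd π i))
  have hP : Van Z d P := h p₁
  have hker : Van Z d (kernel p₂) := h (kernel.ι p₂ ≫ p₁)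
  exact van_X₃ (shortExact_kernel p₂) hker hP

lemma pv_X₂ {S : ShortComplex 𝒜} (hS : S.ShortExact) (h1 : PV Z d S.X₁) (h3 : PV Z d S.X₃) :
    PV Z d S.X₂ := by
  intro K i _
  haveI := hS.mono_f
  haveI := hS.epi_g
  -- the image of `K` in `S.X₃`
  let g' : K ⟶ S.X₃ := i ≫ S.g
  have hI : Van Z d (Abelian.image g') := h3 (Abelian.image.ι g')
  -- the kernel of `K → S.X₃` embeds in `S.X₁`
  have hk : (kernel.ι g' ≫ i) ≫ S.g = 0 := by
    rw [Category.assoc]
    exact kernel.condition g'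
  let l : kernel g' ⟶ S.X₁ := hS.exact.lift (kernel.ι g' ≫ i) hk
  have hl : l ≫ S.f = kernel.ι g' ≫ i := hS.exact.lift_f _ _
  haveI : Mono l := by
    haveI : Mono (l ≫ S.f) := by
      rw [hl]
      exact mono_comp _ _
    exact mono_of_mono l S.f
  have hK : Van Z d (kernel g') := h1 l
  -- the short exact sequence `0 → ker → K → im → 0`
  have hSE : (ShortComplex.mk (kernel.ι g') (Abelian.factorThruImage g')
      (by rw [← cancel_mono (Abelian.image.ι g'), Category.assoc, Abelian.image.fac,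
        kernel.condition, zero_comp])).ShortExact :=
    { exact := by
        refine ShortComplex.exact_of_f_is_kernel _ ?_
        refine KernelFork.IsLimit.ofι' _ _ (fun {T} k hk => ?_)
        have hk' : k ≫ g' = 0 := by
          rw [← Abelian.image.fac g', ← Category.assoc, hk, zero_comp]
        exact ⟨kernel.lift g' k hk', kernel.lift_ι _ _ _⟩ }
  exact van_X₂ hSE hK hI


/-- a subobject `L` of `A` containing `N • A` has vanishing cohomology if `A` has and all
subobjects of `A / N` have. -/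
lemma van_of_between {A L : 𝒜} (i : L ⟶ A) [Mono i] (j : A ⟶ L) (N : ℕ)
    (hji : j ≫ i = N • 𝟙 A) [Mono (N • 𝟙 A)]
    (hA : Van Z d A) (hC : PV Z d (cokernel (N • 𝟙 A))) : Van Z d L := by
  haveI : Mono j := by
    haveI : Mono (j ≫ i) := by
      rw [hji]
      infer_instance
    exact mono_of_mono j i
  let π := cokernel.π (N • 𝟙 A)
  have w : j ≫ i ≫ π = 0 := by
    rw [← Category.assoc, hji]
    exact cokernel.condition _
  have hex : (ShortComplex.mk j (i ≫ π) w).Exact := by
    refine ShortComplex.exact_of_f_is_kernel _ ?_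
    refine KernelFork.IsLimit.ofι' _ _ (fun {T} k hk => ?_)
    have hk' : (k ≫ i) ≫ cokernel.π (N • 𝟙 A) = 0 := by
      rw [Category.assoc]
      exact hk
    refine ⟨Abelian.monoLift (N • 𝟙 A) (k ≫ i) hk', ?_⟩
    rw [← cancel_mono i, Category.assoc, hji]
    exact Abelian.monoLift_comp _ _ _
  haveI : Mono (cokernel.desc j (i ≫ π) w) :=
    (ShortComplex.exact_iff_mono_cokernel_desc (ShortComplex.mk j (i ≫ π) w)).1 hex
  have hQ : Van Z d (cokernel j) := hC (cokernel.desc j (i ≫ π) w)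
  exact van_X₂ (shortExact_cokernel j) hA hQ

/-- dévissage of torsion quotients to prime torsion quotients -/
lemma pv_of_nsmul {A : 𝒜}
    (hℓ : ∀ ℓ : ℕ, ℓ.Prime → ∀ (E : 𝒜) (π : A ⟶ E) [Epi π], ℓ • 𝟙 E = 0 → PV Z d E) :
    ∀ (N : ℕ), 1 ≤ N → ∀ (E : 𝒜) (π : A ⟶ E) [Epi π], N • 𝟙 E = 0 → PV Z d E := by
  intro N
  induction N using Nat.strong_induction_on with
  | _ N ih =>
    intro hN E π _ hE
    rcases Nat.lt_or_ge 1 N with h1 | h1
    · -- `N > 1`
      have hp : (N.minFac).Prime := Nat.minFac_prime (by omega)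
      obtain ⟨M, hM⟩ := Nat.minFac_dvd N
      have hMpos : 1 ≤ M := by
        rcases Nat.eq_zero_or_pos M with h0 | h0
        · rw [h0, mul_zero] at hM
          omega
        · exact h0
      have hMlt : M < N := by
        have := hp.two_le
        nlinarith
      set ℓ := N.minFac with hℓdef
      let φ : E ⟶ E := ℓ • 𝟙 E
      have hC : PV Z d (cokernel φ) := by
        refine hℓ ℓ hp _ (π ≫ cokernel.π φ) ?_
        rw [← cancel_epi (cokernel.π φ), Preadditive.comp_nsmul, Category.comp_id, comp_zero]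
        have : ℓ • cokernel.π φ = φ ≫ cokernel.π φ := by
          simp only [φ, Preadditive.nsmul_comp, Category.id_comp]
        rw [this, cokernel.condition]
      have hI : PV Z d (Abelian.image φ) := by
        refine ih M hMlt hMpos _ (π ≫ Abelian.factorThruImage φ) ?_
        rw [← cancel_epi (Abelian.factorThruImage φ), ← cancel_mono (Abelian.image.ι φ),
          Preadditive.comp_nsmul, Category.comp_id, comp_zero, zero_comp, Preadditive.nsmul_comp,
          Abelian.image.fac]
        simp only [φ]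
        rw [← mul_nsmul, ← hM]
        exact hE
      exact pv_X₂ (shortExact_kernel (cokernel.π φ)) hI hC
    · -- `N = 1`
      have hN1 : N = 1 := by omega
      rw [hN1, one_nsmul] at hE
      exact pv_of_isZero ((IsZero.iff_id_eq_zero E).2 hE)

end Groth.Agent.H6.Van
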