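import Mathlib
import Groth.Agent.Lib.Helper6.VanA

/-! Helper6: vanishing classes and the lattice of subobjects in a Grothendieck abelian category
(S0902, part B). -/

set_option autoImplicit false
open CategoryTheory CategoryTheory.Limits Abelian

universe w v u

namespace Groth.Agent.H6.Van

variable {𝒜 : Type u} [Category.{v} 𝒜] [Abelian 𝒜] [HasExt.{w} 𝒜] {Z : 𝒜} {d : ℕ}

section Sup

/-- adjoining the image of an object all of whose quotients have vanishing cohomology -/
lemma van_sup {G Y : 𝒜} (ψ : Y ⟶ G)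
    (hY : ∀ (E : 𝒜) (π : Y ⟶ E) [Epi π], Van Z d E) (B : Subobject G)
    (hB : Van Z d (B : 𝒜)) : Van Z d ((imageSubobject ψ ⊔ B : Subobject G) : 𝒜) := by
  let A : Subobject G := imageSubobject ψ
  let C : Subobject G := A ⊔ B
  let b : (B : 𝒜) ⟶ (C : 𝒜) := B.ofLE C le_sup_right
  let π := cokernel.π b
  let θ : Y ⟶ (C : 𝒜) := factorThruImageSubobject ψ ≫ A.ofLE C le_sup_left
  have hθ : θ ≫ C.arrow = ψ := by
    simp only [θ, Category.assoc, Subobject.ofLE_arrow]
    exact imageSubobject_arrow_comp ψ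
  have hb : b ≫ C.arrow = B.arrow := Subobject.ofLE_arrow _
  haveI : Epi (θ ≫ π) := by
    apply Preadditive.epi_of_cancel_zero
    intro R g hg
    have hg' : θ ≫ π ≫ g = 0 := by rw [← Category.assoc]; exact hg
    have hbg : b ≫ π ≫ g = 0 := by
      rw [← Category.assoc, cokernel.condition, zero_comp]
    let m : kernel (π ≫ g) ⟶ G := kernel.ι (π ≫ g) ≫ C.arrow
    have hA : A ≤ Subobject.mk m := by
      refine imageSubobject_le ψ (kernel.lift (π ≫ g) θ hg' ≫ (Subobject.underlyingIso m).inv) ?_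
      rw [Category.assoc, Subobject.underlyingIso_arrow]
      simp only [m]
      rw [← Category.assoc, kernel.lift_ι, hθ]
    have hB' : B ≤ Subobject.mk m := by
      refine Subobject.le_mk_of_comm (kernel.lift (π ≫ g) b hbg) ?_
      simp only [m]
      rw [← Category.assoc, kernel.lift_ι, hb]
    have hC : C ≤ Subobject.mk m := sup_le hA hB'
    have h1 : Subobject.ofLEMk C m hC ≫ kernel.ι (π ≫ g) = 𝟙 _ := by
      rw [← cancel_mono C.arrow, Category.assoc, Category.id_comp]
      exact Subobject.ofLEMk_comp hC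
    have h2 : π ≫ g = 0 := by
      calc π ≫ g = (Subobject.ofLEMk C m hC ≫ kernel.ι (π ≫ g)) ≫ π ≫ g := by
            rw [h1, Category.id_comp]
        _ = 0 := by rw [Category.assoc, kernel.condition, comp_zero]
    exact (cancel_epi π).1 (h2.trans comp_zero.symm)
  have hQ : Van Z d (cokernel b) := hY _ (θ ≫ π)
  exact van_X₂ (shortExact_cokernel b) hB hQ

lemma van_finset_sup {G : 𝒜} {α : Type*} (Y : α → 𝒜) (ψ : ∀ a, Y a ⟶ G)
    (hY : ∀ a (E : 𝒜) (π : Y a ⟶ E) [Epi π], Van Z d E) (s : Finset α) :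
    Van Z d ((s.sup (fun a => imageSubobject (ψ a)) : Subobject G) : 𝒜) := by
  classical
  induction s using Finset.induction_on with
  | empty =>
    rw [Finset.sup_empty]
    exact van_of_isZero (IsZero.of_iso (isZero_zero 𝒜) Subobject.botCoeIsoZero)
  | insert a s _ ih =>
    rw [Finset.sup_insert]
    exact van_sup (ψ a) (hY a) _ ih

end Sup

section Colim

variable [IsGrothendieckAbelian.{w} 𝒜]

/-- the vanishing class is closed under directed unions, given that it is closed under filtered
colimits. -/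
lemma van_iSup
    (hcolim : ∀ {ι : Type w} [Preorder ι] [IsDirected ι (· ≤ ·)] [Nonempty ι] (D : ι ⥤ 𝒜),
      (∀ i, Van Z d (D.obj i)) → Van Z d (colimit D))
    {G : 𝒜} {ι : Type w} [Preorder ι] [IsDirected ι (· ≤ ·)] [Nonempty ι]
    (S : ι → Subobject G) (hS : Monotone S) (h : ∀ i, Van Z d (S i : 𝒜)) :
    Van Z d ((⨆ i, S i : Subobject G) : 𝒜) := by
  let F : ι ⥤ MonoOver G := hS.functor ⋙ Subobject.representative
  let D : ι ⥤ 𝒜 := F ⋙ MonoOver.forget _ ⋙ Over.forget _
  let f : colimit D ⟶ G :=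
    colimit.desc D (Cocone.mk G
      { app j := (F.obj j).obj.hom
        naturality {j j'} g := by simp [D, MonoOver.forget] })
  have hf : ∀ j, colimit.ι D j ≫ f = (F.obj j).obj.hom := fun j => by simp [f]
  haveI := IsGrothendieckAbelian.mono_of_isColimit_monoOver F (colimit.isColimit D) f hf
  have h1 := IsGrothendieckAbelian.subobjectMk_of_isColimit_eq_iSup F (colimit.isColimit D) f hf
  have h2 : ∀ j, Subobject.mk (F.obj j).obj.hom = S j := fun j => Subobject.mk_arrow (S j)
  have h3 : Subobject.mk f = ⨆ i, S i := by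
    rw [h1]
    exact iSup_congr h2
  have hD : Van Z d (colimit D) := hcolim D (fun i => h i)
  exact van_of_iso ((Subobject.underlyingIso f).symm ≪≫ Subobject.isoOfEq _ _ h3) hD

/-- an object generated by objects all of whose quotients have vanishing cohomology has vanishing
cohomology. -/
lemma van_of_generated
    (hcolim : ∀ {ι : Type w} [Preorder ι] [IsDirected ι (· ≤ ·)] [Nonempty ι] (D : ι ⥤ 𝒜),
      (∀ i, Van Z d (D.obj i)) → Van Z d (colimit D))
    {G : 𝒜} {α : Type w} (Y : α → 𝒜) (ψ : ∀ a, Y a ⟶ G)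
    (hY : ∀ a (E : 𝒜) (π : Y a ⟶ E) [Epi π], Van Z d E)
    (htop : ⨆ a, imageSubobject (ψ a) = (⊤ : Subobject G)) : Van Z d G := by
  classical
  let S : Finset α → Subobject G := fun s => s.sup (fun a => imageSubobject (ψ a))
  have hS : Monotone S := fun s t hst => Finset.sup_mono hst
  have h1 : Van Z d ((⨆ s, S s : Subobject G) : 𝒜) :=
    van_iSup hcolim S hS (fun s => van_finset_sup Y ψ hY s)
  have h2 : (⨆ s, S s : Subobject G) = ⊤ := by
    rw [← htop, iSup_eq_iSup_finset (fun a => imageSubobject (ψ a))]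
    exact iSup_congr (fun s => Finset.sup_eq_iSup s _)
  rw [h2] at h1
  exact van_of_iso (asIso (⊤ : Subobject G).arrow) h1

end Colim

end Groth.Agent.H6.Van
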