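import Mathlib
import Groth.Prelude.Def_CohTop
import Groth.Agent.Lib.Lead.SC.Basic
import Groth.Agent.Lib.Lead.SC.Global
import Groth.Agent.Lib.Lead.Colim.Top

/-! Helper6: local arguments with the free sheaves `ℤ_U` on a topological space (S0902, part C). -/

set_option autoImplicit false
open CategoryTheory CategoryTheory.Limits Opposite TopologicalSpace Abelian
open Groth.Agent.LD.SC

universe u

namespace Groth.Agent.H6.Van

variable {X : TopCat.{u}}

/-- the free sheaf on an open -/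
noncomputable abbrev ZX (U : Opens X) : CohTop.Ab X := ZU (Opens.grothendieckTopology X) U

/-- the restriction map of free sheaves -/
noncomputable abbrev ZXmap {V U : Opens X} (h : V ≤ U) : ZX V ⟶ ZX U :=
  ZUmap (Opens.grothendieckTopology X) (homOfLE h)

lemma ZXmap_comp {W V U : Opens X} (h : W ≤ V) (h' : V ≤ U) :
    ZXmap h ≫ ZXmap h' = ZXmap (h.trans h') :=
  (ZUmap_comp (Opens.grothendieckTopology X) (homOfLE h') (homOfLE h)).symm

lemma homEquiv_zero (T : Opens X) (F : CohTop.Ab X) : homEquiv T F (0 : ZX T ⟶ F) = 0 :=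
  (homAddEquiv T F).map_zero

lemma homEquiv_zsmul (T : Opens X) (F : CohTop.Ab X) (n : ℤ) (φ : ZX T ⟶ F) :
    homEquiv T F (n • φ) = n • homEquiv T F φ :=
  map_zsmul (homAddEquiv T F) n φ

/-- a map out of `ℤ_T` which vanishes locally on `T` is zero. -/
lemma eq_zero_of_cover {Q : CohTop.Ab X} {T : Opens X} (φ : ZX T ⟶ Q)
    (h : ∀ x ∈ T, ∃ (T' : Opens X) (hT : T' ≤ T), x ∈ T' ∧ ZXmap hT ≫ φ = 0) : φ = 0 := by
  apply (homEquiv T Q).injective
  rw [homEquiv_zero]
  choose T' hT hx hz using h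
  refine TopCat.Sheaf.eq_of_locally_eq' Q (fun x : T => T' x.1 x.2) T
    (fun x => homOfLE (hT x.1 x.2)) ?_ _ _ ?_
  · intro y hy
    exact Opens.mem_iSup.mpr ⟨⟨y, hy⟩, hx y hy⟩
  · intro x
    have h1 := homEquiv_map (homOfLE (hT x.1 x.2)) φ
    rw [map_zero]
    refine h1.symm.trans ?_
    have h2 : ZUmap (Opens.grothendieckTopology X) (homOfLE (hT x.1 x.2)) ≫ φ = 0 := hz x.1 x.2
    rw [h2]
    exact homEquiv_zero _ _

/-- a map of sheaves which vanishes locally on all sections is zero. -/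
lemma eq_zero_of_locally {A Q : CohTop.Ab X} (f : A ⟶ Q)
    (h : ∀ (T : Opens X) (ψ : ZX T ⟶ A) (x : X), x ∈ T →
      ∃ (T' : Opens X) (hT : T' ≤ T), x ∈ T' ∧ ZXmap hT ≫ ψ ≫ f = 0) : f = 0 := by
  have h1 : ∀ (T : Opens X) (ψ : ZX T ⟶ A), ψ ≫ f = 0 := fun T ψ =>
    eq_zero_of_cover (ψ ≫ f) (fun x hx => h T ψ x hx)
  apply Sheaf.hom_ext
  ext U t
  induction U using Opposite.rec with | _ T =>
  have h2 := homEquiv_comp T ((homEquiv T A).symm t) f
  rw [h1, homEquiv_zero, Equiv.apply_symm_apply] at h2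
  exact h2.symm

/-- a map factors through a subobject if it does so locally on all sections. -/
lemma factors_of_locally {A F : CohTop.Ab X} (S : Subobject F) (φ : A ⟶ F)
    (h : ∀ (T : Opens X) (ψ : ZX T ⟶ A) (x : X), x ∈ T →
      ∃ (T' : Opens X) (hT : T' ≤ T), x ∈ T' ∧ S.Factors (ZXmap hT ≫ ψ ≫ φ)) :
    S.Factors φ := by
  have h0 : φ ≫ cokernel.π S.arrow = 0 := by
    apply eq_zero_of_locally
    intro T ψ x hx
    obtain ⟨T', hT, hxT, hf⟩ := h T ψ x hx
    refine ⟨T', hT, hxT, ?_⟩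
    have := S.factorThru_arrow _ hf
    rw [← Category.assoc, ← Category.assoc, Category.assoc (ZXmap hT), ← this, Category.assoc,
      cokernel.condition, comp_zero]
  have h1 : Abelian.monoLift S.arrow φ h0 ≫ S.arrow = φ := Abelian.monoLift_comp _ _ _
  rw [← h1]
  exact Subobject.factors_comp_arrow _

/-- comparison of subobjects, locally on sections. -/
lemma le_of_locally {F : CohTop.Ab X} (K S : Subobject F)
    (h : ∀ (T : Opens X) (ψ : ZX T ⟶ (K : CohTop.Ab X)) (x : X), x ∈ T →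
      ∃ (T' : Opens X) (hT : T' ≤ T), x ∈ T' ∧ S.Factors (ZXmap hT ≫ ψ ≫ K.arrow)) :
    K ≤ S :=
  Subobject.le_of_factors (factors_of_locally S K.arrow h)

/-- a map out of `ℤ_T` factors through a subobject if it does so locally on `T`. -/
lemma factors_of_cover {F : CohTop.Ab X} (K : Subobject F) {T : Opens X} (ψ : ZX T ⟶ F)
    (h : ∀ x ∈ T, ∃ (T' : Opens X) (hT : T' ≤ T), x ∈ T' ∧ K.Factors (ZXmap hT ≫ ψ)) :
    K.Factors ψ := by
  have h0 : ψ ≫ cokernel.π K.arrow = 0 := by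
    apply eq_zero_of_cover
    intro x hx
    obtain ⟨T', hT, hxT, hf⟩ := h x hx
    refine ⟨T', hT, hxT, ?_⟩
    have := K.factorThru_arrow _ hf
    rw [← Category.assoc, ← this, Category.assoc, cokernel.condition, comp_zero]
  have h1 : Abelian.monoLift K.arrow ψ h0 ≫ K.arrow = ψ := Abelian.monoLift_comp _ _ _
  rw [← h1]
  exact Subobject.factors_comp_arrow _

/-- local lifting of sections along an epimorphism. -/
lemma exists_local_lift {A E : CohTop.Ab X} (π : A ⟶ E) [Epi π] {T : Opens X} (t : ZX T ⟶ E)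
    (x : X) (hx : x ∈ T) :
    ∃ (T' : Opens X) (hT : T' ≤ T), x ∈ T' ∧ ∃ t' : ZX T' ⟶ A, t' ≫ π = ZXmap hT ≫ t := by
  haveI : Sheaf.IsLocallySurjective π := (Sheaf.isLocallySurjective_iff_epi' AddCommGrpCat.{u} π).2 inferInstance
  have h1 := Presheaf.imageSieve_mem (Opens.grothendieckTopology X) π.hom
    (U := op T) (homEquiv T E t)
  obtain ⟨V, i, ⟨a, ha⟩, hxV⟩ := h1 x hx
  refine ⟨V, i.le, hxV, (homEquiv V A).symm a, ?_⟩
  apply (homEquiv V E).injective
  rw [homEquiv_comp, Equiv.apply_symm_apply]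
  exact ha.trans (homEquiv_map i t).symm

end Groth.Agent.H6.Van
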