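import Mathlib
import Groth.Agent.Lib.Helper6.VanC

/-! Helper6: local structure of the sections of the free sheaves `ℤ_U` (S0902, part D). -/

set_option autoImplicit false
open CategoryTheory CategoryTheory.Limits Opposite TopologicalSpace Abelian
open Groth.Agent.LD.SC

universe u

namespace Groth.Agent.H6.Van

variable {X : TopCat.{u}}

/-- the free presheaf on an open -/
noncomputable abbrev PX (U : Opens X) : (Opens X)ᵒᵖ ⥤ AddCommGrpCat.{u} :=
  yoneda.obj U ⋙ AddCommGrpCat.free

lemma gen_eq (U : Opens X) :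
    gen (J := Opens.grothendieckTopology X) U =
      (toSheafify (Opens.grothendieckTopology X) (PX U)).app (op U)
        (FreeAbelianGroup.of (𝟙 U)) := by
  rfl

lemma free_unique {α : Type u} [Subsingleton α] (a : α) (p : FreeAbelianGroup α) :
    ∃ n : ℤ, p = n • FreeAbelianGroup.of a := by
  induction p using FreeAbelianGroup.induction_on with
  | zero => exact ⟨0, (zero_smul _ _).symm⟩
  | of b => exact ⟨1, by rw [one_smul, Subsingleton.elim b a]⟩
  | neg b ih =>
    obtain ⟨n, hn⟩ := ih
    exact ⟨-n, by rw [hn, neg_smul]⟩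
  | add p q hp hq =>
    obtain ⟨n, hn⟩ := hp
    obtain ⟨m, hm⟩ := hq
    exact ⟨n + m, by rw [hn, hm, add_smul]⟩

lemma free_empty {α : Type u} [IsEmpty α] (p : FreeAbelianGroup α) : p = 0 := by
  induction p using FreeAbelianGroup.induction_on with
  | zero => rfl
  | of b => exact isEmptyElim b
  | neg b ih => rw [ih, neg_zero]
  | add p q hp hq => rw [hp, hq, add_zero]

/-- the section of `ℤ_U` over `V ≤ U` corresponding to the restriction map. -/
lemma homEquiv_ZXmap {V U : Opens X} (k : V ≤ U) :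
    homEquiv V (ZX U) (ZXmap k) =
      (toSheafify (Opens.grothendieckTopology X) (PX U)).app (op V)
        (FreeAbelianGroup.of (homOfLE k)) := by
  have h := homEquiv_map (homOfLE k) (𝟙 (ZX U))
  rw [Category.comp_id] at h
  refine h.trans ?_
  have h2 : homEquiv U (ZX U) (𝟙 (ZX U)) = (toSheafify (Opens.grothendieckTopology X)
      (PX U)).app (op U) (FreeAbelianGroup.of (𝟙 U)) := gen_eq U
  rw [h2]
  have h3 := NatTrans.naturality_apply (toSheafify (Opens.grothendieckTopology X) (PX U))
    (homOfLE k).op (FreeAbelianGroup.of (𝟙 U))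
  refine h3.symm.trans ?_
  congr 1

/-- local structure of the sections of `ℤ_U`: locally zero or an integer multiple of the
canonical section. -/
lemma exists_local_form {U T : Opens X} (t : ZX T ⟶ ZX U) (x : X) (hx : x ∈ T) :
    ∃ (T' : Opens X) (hT : T' ≤ T), x ∈ T' ∧
      (ZXmap hT ≫ t = 0 ∨ ∃ (hU : T' ≤ U) (n : ℤ), ZXmap hT ≫ t = n • ZXmap hU) := by
  haveI : Presheaf.IsLocallySurjective (Opens.grothendieckTopology X)
      (toSheafify (Opens.grothendieckTopology X) (PX U)) :=
    Presheaf.isLocallySurjective_toSheafify' (Opens.grothendieckTopology X) (PX U)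
  have h1 := Presheaf.imageSieve_mem (Opens.grothendieckTopology X)
    (toSheafify (Opens.grothendieckTopology X) (PX U)) (U := op T) (homEquiv T (ZX U) t)
  obtain ⟨V, i, ⟨p, hp⟩, hxV⟩ := h1 x hx
  have hi : ZXmap i.le = ZUmap (Opens.grothendieckTopology X) i := rfl
  have h2 : homEquiv V (ZX U) (ZXmap i.le ≫ t) =
      (toSheafify (Opens.grothendieckTopology X) (PX U)).app (op V) p := by
    rw [hi]
    exact (homEquiv_map i t).trans hp.symm
  by_cases hVU : V ≤ U
  · obtain ⟨n, hn⟩ := free_unique (homOfLE hVU) p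
    refine ⟨V, i.le, hxV, Or.inr ⟨hVU, n, ?_⟩⟩
    apply (homEquiv V (ZX U)).injective
    rw [h2, homEquiv_zsmul, homEquiv_ZXmap, hn]
    exact map_zsmul ((toSheafify (Opens.grothendieckTopology X) (PX U)).app (op V)).hom n
      (FreeAbelianGroup.of (homOfLE hVU))
  · haveI : IsEmpty (V ⟶ U) := ⟨fun f => hVU f.le⟩
    have hp0 : p = 0 := free_empty p
    refine ⟨V, i.le, hxV, Or.inl ?_⟩
    apply (homEquiv V (ZX U)).injective
    rw [h2, homEquiv_zero, hp0]
    exact map_zero ((toSheafify (Opens.grothendieckTopology X) (PX U)).app (op V)).hom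


open Classical in
/-- the canonical section of `ℤ_W` is not torsion near any point of `W`. -/
lemma eq_zero_of_zsmul_ZXmap {T W : Opens X} (h : T ≤ W) (x : X) (hx : x ∈ T) (c : ℤ)
    (hc : c • ZXmap h = 0) : c = 0 := by
  let A : AddCommGrpCat.{u} := AddCommGrpCat.of (ULift.{u} ℤ)
  let Sky : CohTop.Ab X := skyscraperSheaf x A
  have hxW : x ∈ W := h hx
  let eW : Sky.obj.obj (op W) ≅ A := eqToIso (if_pos hxW)
  let eT : Sky.obj.obj (op T) ≅ A := eqToIso (if_pos hx)
  have hmap : Sky.obj.map (homOfLE h).op ≫ eT.hom = eW.hom := by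
    show (skyscraperPresheaf x A).map (homOfLE h).op ≫ (eqToIso (if_pos hx)).hom =
      (eqToIso (if_pos hxW)).hom
    rw [eqToIso.hom, eqToIso.hom, skyscraperPresheaf_map,
      dif_pos (show x ∈ unop (op T) from hx)]
    exact eqToHom_trans _ _
  let s : Sky.obj.obj (op W) := eW.inv (ULift.up 1)
  let φ : ZX W ⟶ Sky := (homEquiv W Sky).symm s
  have h1 : homEquiv T Sky (ZXmap h ≫ φ) = Sky.obj.map (homOfLE h).op s := by
    refine (homEquiv_map (homOfLE h) φ).trans ?_
    rw [Equiv.apply_symm_apply]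
  have h2 : c • (ZXmap h ≫ φ) = 0 := by
    rw [← Preadditive.zsmul_comp, hc, zero_comp]
  have h3 : c • Sky.obj.map (homOfLE h).op s = 0 := by
    rw [← h1, ← homEquiv_zsmul, h2, homEquiv_zero]
  have h4 : eT.hom (Sky.obj.map (homOfLE h).op s) = ULift.up 1 := by
    have := ConcreteCategory.congr_hom hmap s
    rw [ConcreteCategory.comp_apply] at this
    rw [this]
    show eW.hom (eW.inv (ULift.up 1)) = ULift.up 1
    rw [← ConcreteCategory.comp_apply, Iso.inv_hom_id, ConcreteCategory.id_apply]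
  have h5 : c • (ULift.up 1 : ULift.{u} ℤ) = 0 := by
    rw [← h4, ← map_zsmul eT.hom.hom, h3, map_zero]
  have h6 := congrArg ULift.down h5
  simpa using h6

/-- restriction maps of free sheaves are monomorphisms. -/
instance mono_ZXmap {V W : Opens X} (h : V ≤ W) : Mono (ZXmap h) := by
  apply Preadditive.mono_of_cancel_zero
  intro P g hg
  apply eq_zero_of_locally
  intro T ψ x hx
  obtain ⟨T', hT, hxT, h1 | ⟨hU, n, h1⟩⟩ := exists_local_form (ψ ≫ g) x hx
  · exact ⟨T', hT, hxT, h1⟩
  · refine ⟨T', hT, hxT, ?_⟩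
    have h2 : n • ZXmap (hU.trans h) = 0 := by
      rw [← ZXmap_comp hU h, ← Preadditive.zsmul_comp, ← h1, Category.assoc, Category.assoc,
        hg, comp_zero, comp_zero]
    have hn : n = 0 := eq_zero_of_zsmul_ZXmap _ x hxT n h2
    rw [h1, hn, zero_smul]

/-- multiplication by a nonzero integer on a free sheaf is a monomorphism. -/
lemma mono_nsmul_ZX (W : Opens X) (N : ℕ) (hN : 1 ≤ N) : Mono (N • 𝟙 (ZX W)) := by
  apply Preadditive.mono_of_cancel_zero
  intro P g hg
  apply eq_zero_of_locally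
  intro T ψ x hx
  obtain ⟨T', hT, hxT, h1 | ⟨hU, n, h1⟩⟩ := exists_local_form (ψ ≫ g) x hx
  · exact ⟨T', hT, hxT, h1⟩
  · refine ⟨T', hT, hxT, ?_⟩
    have h2 : ((N : ℤ) * n) • ZXmap hU = 0 := by
      rw [mul_smul, ← h1, natCast_zsmul, ← Category.comp_id (ZXmap hT ≫ ψ ≫ g),
        ← Preadditive.comp_nsmul, Category.assoc, Category.assoc, hg, comp_zero, comp_zero]
    have hn := eq_zero_of_zsmul_ZXmap _ x hxT _ h2
    have hn' : n = 0 := by
      rcases mul_eq_zero.1 hn with h0 | h0
      · exact absurd h0 (by exact_mod_cast (by omega : N ≠ 0))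
      · exact h0
    rw [h1, hn', zero_smul]

end Groth.Agent.H6.Van
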