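import Mathlib
import Groth.Agent.Lib.Helper6.VanB
import Groth.Agent.Lib.Helper6.VanD

/-! Helper6: subsheaves of torsion quotients of the free sheaves `ℤ_W` (S0902, part E). -/

set_option autoImplicit false
open CategoryTheory CategoryTheory.Limits Opposite TopologicalSpace Abelian
open Groth.Agent.LD.SC

universe u

namespace Groth.Agent.H6.Van

variable {X : TopCat.{u}}

lemma factors_zsmul {A F : CohTop.Ab X} {P : Subobject F} {f : A ⟶ F} (h : P.Factors f) (n : ℤ) :
    P.Factors (n • f) := by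
  have h1 : (n • P.factorThru f h) ≫ P.arrow = n • f := by
    rw [Preadditive.zsmul_comp, Subobject.factorThru_arrow]
  rw [← h1]
  exact Subobject.factors_comp_arrow _

lemma factors_nsmul {A F : CohTop.Ab X} {P : Subobject F} {f : A ⟶ F} (h : P.Factors f) (n : ℕ) :
    P.Factors (n • f) := by
  have h1 : (n • P.factorThru f h) ≫ P.arrow = n • f := by
    rw [Preadditive.nsmul_comp, Subobject.factorThru_arrow]
  rw [← h1]
  exact Subobject.factors_comp_arrow _

/-- the canonical map `ℤ_V → ℤ_W / N` -/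
noncomputable def rho {V W : Opens X} (h : V ≤ W) (N : ℕ) :
    ZX V ⟶ cokernel (N • 𝟙 (ZX W)) :=
  ZXmap h ≫ cokernel.π (N • 𝟙 (ZX W))

lemma ZXmap_rho {V' V W : Opens X} (h' : V' ≤ V) (h : V ≤ W) (N : ℕ) :
    ZXmap h' ≫ rho h N = rho (h'.trans h) N := by
  unfold rho
  rw [← Category.assoc, ZXmap_comp]

lemma nsmul_rho {V W : Opens X} (h : V ≤ W) (N : ℕ) : N • rho h N = 0 := by
  unfold rho
  have h1 : N • cokernel.π (N • 𝟙 (ZX W)) = (N • 𝟙 (ZX W)) ≫ cokernel.π (N • 𝟙 (ZX W)) := by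
    rw [Preadditive.nsmul_comp, Category.id_comp]
  rw [← Preadditive.comp_nsmul, h1, cokernel.condition, comp_zero]

lemma nsmul_comp_rho {V W : Opens X} (h : V ≤ W) (N : ℕ) : (N • 𝟙 (ZX V)) ≫ rho h N = 0 := by
  rw [Preadditive.nsmul_comp, Category.id_comp, nsmul_rho]

/-- a local lifting property: maps to `ℤ_V` killed by `rho` are locally divisible by `N`. -/
lemma factors_of_comp_rho {V W : Opens X} (h : V ≤ W) (N : ℕ) (hN : 1 ≤ N) {P : CohTop.Ab X}
    (k : P ⟶ ZX V) (hk : k ≫ rho h N = 0) :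
    haveI := mono_nsmul_ZX V N hN
    (Subobject.mk (N • 𝟙 (ZX V))).Factors k := by
  haveI := mono_nsmul_ZX V N hN
  haveI := mono_nsmul_ZX W N hN
  apply factors_of_locally
  intro T ψ x hx
  obtain ⟨T₁, hT₁, hxT₁, h1 | ⟨hU, n, h1⟩⟩ := exists_local_form (ψ ≫ k) x hx
  · refine ⟨T₁, hT₁, hxT₁, ?_⟩
    rw [h1]
    exact Subobject.factors_zero
  · -- `n • (ℤ_{T₁} → ℤ_W)` is divisible by `N`
    have h2 : (n • ZXmap (hU.trans h)) ≫ cokernel.π (N • 𝟙 (ZX W)) = 0 := by
      rw [← ZXmap_comp hU h, ← Preadditive.zsmul_comp, ← h1, Category.assoc, Category.assoc,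
        Category.assoc]
      have : k ≫ ZXmap h ≫ cokernel.π (N • 𝟙 (ZX W)) = 0 := hk
      rw [this, comp_zero, comp_zero]
    let m : ZX T₁ ⟶ ZX W := Abelian.monoLift (N • 𝟙 (ZX W)) (n • ZXmap (hU.trans h)) h2
    have hm : m ≫ (N • 𝟙 (ZX W)) = n • ZXmap (hU.trans h) := Abelian.monoLift_comp _ _ _
    obtain ⟨T₂, hT₂, hxT₂, h3 | ⟨hU₂, n', h3⟩⟩ := exists_local_form m x hxT₁
    · -- then `n = 0`
      have h4 : n • ZXmap ((hT₂.trans hU).trans h) = 0 := by
        rw [← ZXmap_comp hT₂ (hU.trans h), ← Preadditive.comp_zsmul, ← hm, ← Category.assoc, h3,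
          zero_comp]
      have hn : n = 0 := eq_zero_of_zsmul_ZXmap _ x hxT₂ n h4
      refine ⟨T₂, hT₂.trans hT₁, hxT₂, ?_⟩
      rw [← ZXmap_comp hT₂ hT₁, Category.assoc, h1, hn, zero_smul, comp_zero]
      exact Subobject.factors_zero
    · -- then `n = N n'`
      have h4 : (n - N * n') • ZXmap ((hT₂.trans hU).trans h) = 0 := by
        have e1 : n • ZXmap ((hT₂.trans hU).trans h) = ZXmap hT₂ ≫ m ≫ (N • 𝟙 (ZX W)) := by
          rw [hm, Preadditive.comp_zsmul, ZXmap_comp]
        have e2 : ZXmap hT₂ ≫ m ≫ (N • 𝟙 (ZX W)) = ((N : ℤ) * n') • ZXmap hU₂ := by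
          rw [← Category.assoc, h3, Preadditive.comp_nsmul, Category.comp_id, mul_smul,
            natCast_zsmul]
        rw [sub_smul, e1, e2, sub_self]
      have hn : n - N * n' = 0 := eq_zero_of_zsmul_ZXmap _ x hxT₂ _ h4
      have hn' : n = N * n' := by linarith
      refine ⟨T₂, hT₂.trans hT₁, hxT₂, ?_⟩
      have e3 : ZXmap (hT₂.trans hT₁) ≫ ψ ≫ k = (n' • ZXmap (hT₂.trans hU)) ≫ (N • 𝟙 (ZX V)) := by
        rw [← ZXmap_comp hT₂ hT₁, Category.assoc, h1, Preadditive.comp_zsmul, ZXmap_comp,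
          Preadditive.comp_nsmul, Category.comp_id, hn', mul_smul, natCast_zsmul]
      rw [e3]
      exact Subobject.factors_of_factors_right _ (Subobject.mk_factors_self _)

/-- `ℤ_V →(N) ℤ_V → ℤ_W / N` is exact. -/
lemma exact_nsmul_rho {V W : Opens X} (h : V ≤ W) (N : ℕ) (hN : 1 ≤ N) :
    (ShortComplex.mk (N • 𝟙 (ZX V)) (rho h N) (nsmul_comp_rho h N)).Exact := by
  haveI := mono_nsmul_ZX V N hN
  refine ShortComplex.exact_of_f_is_kernel _ ?_
  refine KernelFork.IsLimit.ofι' _ _ (fun {T} k hk => ?_)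
  have hf := factors_of_comp_rho h N hN k hk
  refine ⟨(Subobject.mk (N • 𝟙 (ZX V))).factorThru k hf ≫
    (Subobject.underlyingIso (N • 𝟙 (ZX V))).hom, ?_⟩
  rw [Category.assoc, Subobject.underlyingIso_hom_comp_eq_mk, Subobject.factorThru_arrow]

variable {d : ℕ}

/-- the image of `ℤ_V → ℤ_W / N` has vanishing cohomology. -/
lemma van_image_rho (hZ : ∀ V : Opens X, IsCompact (V : Set X) → Van (ZX (⊤ : Opens X)) d (ZX V))
    {V W : Opens X} (h : V ≤ W) (hV : IsCompact (V : Set X)) (N : ℕ) (hN : 1 ≤ N) :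
    Van (ZX (⊤ : Opens X)) d ((imageSubobject (rho h N) : Subobject _) : CohTop.Ab X) := by
  haveI := mono_nsmul_ZX V N hN
  have hex := exact_nsmul_rho h N hN
  have w : (N • 𝟙 (ZX V)) ≫ factorThruImageSubobject (rho h N) = 0 := by
    rw [← cancel_mono (imageSubobject (rho h N)).arrow, Category.assoc,
      imageSubobject_arrow_comp, zero_comp]
    exact nsmul_comp_rho h N
  have hSE : (ShortComplex.mk (N • 𝟙 (ZX V)) (factorThruImageSubobject (rho h N)) w).ShortExact :=
    { exact := by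
        refine ShortComplex.exact_of_f_is_kernel _ ?_
        refine KernelFork.IsLimit.ofι' _ _ (fun {T} k hk => ?_)
        have hk2 : k ≫ factorThruImageSubobject (rho h N) = 0 := hk
        have e : factorThruImageSubobject (rho h N) ≫ (imageSubobject (rho h N)).arrow =
            rho h N := imageSubobject_arrow_comp _
        have hk' : k ≫ rho h N = 0 := by
          calc k ≫ rho h N
              = (k ≫ factorThruImageSubobject (rho h N)) ≫ (imageSubobject (rho h N)).arrow := by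
                rw [Category.assoc, e]
            _ = 0 := by rw [hk2, zero_comp]
        exact ⟨hex.lift k hk', hex.lift_f k hk'⟩ }
  exact van_X₃ hSE (hZ V hV) (hZ V hV)

end Groth.Agent.H6.Van
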