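import Mathlib
import Groth.Agent.Lib.Helper6.VanE

/-! Helper6: all subsheaves of prime torsion quotients of `ℤ_W` have vanishing cohomology
(S0902, part F). -/

set_option autoImplicit false
open CategoryTheory CategoryTheory.Limits Opposite TopologicalSpace Abelian
open Groth.Agent.LD.SC

universe w' v' u' u

namespace Groth.Agent.H6.Van

section
variable {𝒜 : Type u'} [Category.{v'} 𝒜] [Abelian 𝒜] [IsGrothendieckAbelian.{w'} 𝒜]

/-- the complete lattice of subobjects in a Grothendieck abelian category -/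
@[reducible] noncomputable def subCL (G : 𝒜) : CompleteLattice (Subobject G) := inferInstance

end

variable {X : TopCat.{u}} {d : ℕ}

noncomputable instance instSubCL (F : CohTop.Ab X) : CompleteLattice (Subobject F) :=
  subCL.{u, u, u + 1} F

lemma exists_compact_nbhd [PrespectralSpace X] {T : Opens X} {x : X} (hx : x ∈ T) :
    ∃ V : Opens X, IsCompact (V : Set X) ∧ x ∈ V ∧ V ≤ T := by
  obtain ⟨W, ⟨hWo, hWc⟩, hxW, hWT⟩ :=
    (PrespectralSpace.isTopologicalBasis (X := X)).exists_subset_of_mem_open hx T.2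
  exact ⟨⟨W, hWo⟩, hWc, hxW, hWT⟩

lemma factors_of_isEmpty {F : CohTop.Ab X} (K : Subobject F) (ψ : ZX (⊥ : Opens X) ⟶ F) :
    K.Factors ψ :=
  factors_of_cover K ψ (fun x hx => absurd hx (by simp))

/-- all subsheaves of `ℤ_W / ℓ`, `ℓ` prime, have vanishing cohomology. -/
lemma pv_coker_prime [PrespectralSpace X]
    (hcolim : ∀ {ι : Type u} [Preorder ι] [IsDirected ι (· ≤ ·)] [Nonempty ι]
      (D : ι ⥤ CohTop.Ab X), (∀ i, Van (ZX (⊤ : Opens X)) d (D.obj i)) →
        Van (ZX (⊤ : Opens X)) d (colimit D))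
    (hZ : ∀ V : Opens X, IsCompact (V : Set X) → Van (ZX (⊤ : Opens X)) d (ZX V))
    (W : Opens X) (ℓ : ℕ) (hℓ : ℓ.Prime) :
    PV (ZX (⊤ : Opens X)) d (cokernel (ℓ • 𝟙 (ZX W))) := by
  intro K' i _
  refine van_of_iso (Subobject.underlyingIso i) ?_
  let E : CohTop.Ab X := cokernel (ℓ • 𝟙 (ZX W))
  let K : Subobject E := Subobject.mk i
  show Van _ d ((K : Subobject E) : CohTop.Ab X)
  let Λ := {V : Opens X // IsCompact (V : Set X) ∧ V ≤ W ∧ ∀ h : V ≤ W, K.Factors (rho h ℓ)}
  haveI : Nonempty Λ := ⟨⟨⊥, by simp, bot_le, fun h => factors_of_isEmpty K _⟩⟩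
  haveI : IsDirected Λ (· ≤ ·) := ⟨fun V₁ V₂ =>
    ⟨⟨V₁.1 ⊔ V₂.1, by
        rw [Opens.coe_sup]
        exact V₁.2.1.union V₂.2.1,
      sup_le V₁.2.2.1 V₂.2.2.1, fun h => by
        apply factors_of_cover
        intro x hx
        rcases hx with hx | hx
        · refine ⟨V₁.1, le_sup_left, hx, ?_⟩
          rw [ZXmap_rho]
          exact V₁.2.2.2 _
        · refine ⟨V₂.1, le_sup_right, hx, ?_⟩
          rw [ZXmap_rho]
          exact V₂.2.2.2 _⟩,
      le_sup_left (a := V₁.1), le_sup_right (b := V₂.1)⟩⟩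
  let S : Λ → Subobject E := fun V => imageSubobject (rho V.2.2.1 ℓ)
  have hS : Monotone S := by
    intro V V' hVV
    have h1 : rho V.2.2.1 ℓ = ZXmap (show V.1 ≤ V'.1 from hVV) ≫ rho V'.2.2.1 ℓ :=
      (ZXmap_rho _ _ _).symm
    show imageSubobject (rho V.2.2.1 ℓ) ≤ imageSubobject (rho V'.2.2.1 ℓ)
    rw [h1]
    exact imageSubobject_comp_le _ _
  have hSV : ∀ V : Λ, Van (ZX (⊤ : Opens X)) d ((S V : Subobject E) : CohTop.Ab X) := fun V =>
    van_image_rho hZ V.2.2.1 V.2.1 ℓ hℓ.one_le
  have hsup : (⨆ V, S V : Subobject E) = K := by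
    apply le_antisymm
    · refine iSup_le (fun V => ?_)
      have hf := V.2.2.2 V.2.2.1
      exact imageSubobject_le _ (K.factorThru _ hf) (Subobject.factorThru_arrow _ _ _)
    · apply le_of_locally
      intro T ψ x hx
      -- lift locally to `ℤ_W`
      obtain ⟨T₁, hT₁, hxT₁, t', ht'⟩ :=
        exists_local_lift (cokernel.π (ℓ • 𝟙 (ZX W))) (ψ ≫ K.arrow) x hx
      obtain ⟨T₂, hT₂, hxT₂, h2 | ⟨hU₂, n, h2⟩⟩ := exists_local_form t' x hxT₁
      · refine ⟨T₂, hT₂.trans hT₁, hxT₂, ?_⟩
        have : ZXmap (hT₂.trans hT₁) ≫ ψ ≫ K.arrow = 0 := by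
          rw [← ZXmap_comp hT₂ hT₁, Category.assoc, ← ht', ← Category.assoc, h2, zero_comp]
        rw [this]
        exact Subobject.factors_zero
      · obtain ⟨V, hVc, hxV, hVT₂⟩ := exists_compact_nbhd hxT₂
        have hVW : V ≤ W := hVT₂.trans hU₂
        refine ⟨V, (hVT₂.trans hT₂).trans hT₁, hxV, ?_⟩
        have e1 : ZXmap ((hVT₂.trans hT₂).trans hT₁) ≫ ψ ≫ K.arrow = n • rho hVW ℓ := by
          rw [← ZXmap_comp (hVT₂.trans hT₂) hT₁, Category.assoc, ← ht',
            ← ZXmap_comp hVT₂ hT₂, Category.assoc, ← Category.assoc (ZXmap hT₂), h2,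
            Preadditive.zsmul_comp, Preadditive.comp_zsmul]
          unfold rho
          rw [← Category.assoc, ZXmap_comp]
        by_cases hdvd : (ℓ : ℤ) ∣ n
        · obtain ⟨m, hm⟩ := hdvd
          have : n • rho hVW ℓ = 0 := by
            rw [hm, mul_comm, mul_smul, natCast_zsmul, nsmul_rho, smul_zero]
          rw [e1, this]
          exact Subobject.factors_zero
        · obtain ⟨a, b, hab⟩ :=
            ((Nat.prime_iff_prime_int.mp hℓ).coprime_iff_not_dvd).2 hdvd
          -- `rho = b • (n • rho)` factors through `K`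
          have hK : K.Factors (rho hVW ℓ) := by
            have e2 : rho hVW ℓ = b • (ZXmap ((hVT₂.trans hT₂).trans hT₁) ≫ ψ ≫ K.arrow) := by
              rw [e1, ← mul_smul]
              have : b * n = 1 - a * ℓ := by linarith
              rw [this, sub_smul, one_smul, mul_smul, natCast_zsmul, nsmul_rho, smul_zero,
                sub_zero]
            rw [e2]
            refine factors_zsmul ?_ b
            rw [← Category.assoc]
            exact Subobject.factors_comp_arrow _
          let V' : Λ := ⟨V, hVc, hVW, fun _ => hK⟩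
          rw [e1]
          refine Subobject.factors_of_le _ (le_iSup S V') ?_
          refine factors_zsmul ?_ n
          have := Subobject.factors_comp_arrow (P := imageSubobject (rho hVW ℓ))
            (factorThruImageSubobject (rho hVW ℓ))
          rw [imageSubobject_arrow_comp] at this
          exact this
  rw [← hsup]
  exact van_iSup hcolim S hS hSV

end Groth.Agent.H6.Van
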