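import Mathlib
import Groth.Agent.Lib.Helper6.VanF

/-! Helper6: all subsheaves of `ℤ_U` have vanishing cohomology; the vanishing theorem
(S0902, part G). -/

set_option autoImplicit false
open CategoryTheory CategoryTheory.Limits Opposite TopologicalSpace Abelian
open Groth.Agent.LD.SC

universe u

namespace Groth.Agent.H6.Van

variable {X : TopCat.{u}} {d : ℕ}

/-- all subsheaves of `ℤ_W / N` have vanishing cohomology. -/
lemma pv_coker_nsmul [PrespectralSpace X]
    (hcolim : ∀ {ι : Type u} [Preorder ι] [IsDirected ι (· ≤ ·)] [Nonempty ι]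
      (D : ι ⥤ CohTop.Ab X), (∀ i, Van (ZX (⊤ : Opens X)) d (D.obj i)) →
        Van (ZX (⊤ : Opens X)) d (colimit D))
    (hZ : ∀ V : Opens X, IsCompact (V : Set X) → Van (ZX (⊤ : Opens X)) d (ZX V))
    (W : Opens X) (N : ℕ) (hN : 1 ≤ N) :
    PV (ZX (⊤ : Opens X)) d (cokernel (N • 𝟙 (ZX W))) := by
  refine pv_of_nsmul (A := ZX W) (fun ℓ hℓ E π _ hE => ?_) N hN _ (cokernel.π (N • 𝟙 (ZX W))) ?_
  · have w : (ℓ • 𝟙 (ZX W)) ≫ π = 0 := by
      rw [Preadditive.nsmul_comp, Category.id_comp, ← Category.comp_id π,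
        ← Preadditive.comp_nsmul, hE, comp_zero]
    haveI : Epi (cokernel.desc (ℓ • 𝟙 (ZX W)) π w) := by
      haveI : Epi (cokernel.π (ℓ • 𝟙 (ZX W)) ≫ cokernel.desc (ℓ • 𝟙 (ZX W)) π w) := by
        rw [cokernel.π_desc]
        infer_instance
      exact epi_of_epi (cokernel.π (ℓ • 𝟙 (ZX W))) _
    exact pv_of_epi (cokernel.desc (ℓ • 𝟙 (ZX W)) π w) (pv_coker_prime hcolim hZ W ℓ hℓ)
  · rw [← cancel_epi (cokernel.π (N • 𝟙 (ZX W))), Preadditive.comp_nsmul, Category.comp_id,
      comp_zero]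
    have : N • cokernel.π (N • 𝟙 (ZX W)) = (N • 𝟙 (ZX W)) ≫ cokernel.π (N • 𝟙 (ZX W)) := by
      rw [Preadditive.nsmul_comp, Category.id_comp]
    rw [this, cokernel.condition]

/-- all subsheaves of `ℤ_U` have vanishing cohomology. -/
lemma pv_ZX [PrespectralSpace X]
    (hcolim : ∀ {ι : Type u} [Preorder ι] [IsDirected ι (· ≤ ·)] [Nonempty ι]
      (D : ι ⥤ CohTop.Ab X), (∀ i, Van (ZX (⊤ : Opens X)) d (D.obj i)) →
        Van (ZX (⊤ : Opens X)) d (colimit D))
    (hZ : ∀ V : Opens X, IsCompact (V : Set X) → Van (ZX (⊤ : Opens X)) d (ZX V))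
    (U : Opens X) : PV (ZX (⊤ : Opens X)) d (ZX U) := by
  intro K' i _
  refine van_of_iso (Subobject.underlyingIso i) ?_
  let K : Subobject (ZX U) := Subobject.mk i
  show Van _ d ((K : Subobject (ZX U)) : CohTop.Ab X)
  let Λ := {W : Opens X // IsCompact (W : Set X) ∧ W ≤ U ∧
    ∃ N : ℕ, 1 ≤ N ∧ ∀ h : W ≤ U, K.Factors (N • ZXmap h)}
  haveI : Nonempty Λ := ⟨⟨⊥, by simp, bot_le, 1, le_rfl, fun h => factors_of_isEmpty K _⟩⟩
  haveI : IsDirected Λ (· ≤ ·) := ⟨fun W₁ W₂ => by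
    obtain ⟨N₁, hN₁, hf₁⟩ := W₁.2.2.2
    obtain ⟨N₂, hN₂, hf₂⟩ := W₂.2.2.2
    refine ⟨⟨W₁.1 ⊔ W₂.1, ?_, sup_le W₁.2.2.1 W₂.2.2.1, N₁ * N₂, Nat.mul_pos hN₁ hN₂, fun h => ?_⟩,
      le_sup_left (a := W₁.1), le_sup_right (b := W₂.1)⟩
    · rw [Opens.coe_sup]
      exact W₁.2.1.union W₂.2.1
    · apply factors_of_cover
      intro x hx
      rcases hx with hx | hx
      · refine ⟨W₁.1, le_sup_left, hx, ?_⟩
        rw [Preadditive.comp_nsmul, ZXmap_comp, mul_nsmul]
        exact factors_nsmul (hf₁ _) N₂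
      · refine ⟨W₂.1, le_sup_right, hx, ?_⟩
        rw [Preadditive.comp_nsmul, ZXmap_comp, mul_comm, mul_nsmul]
        exact factors_nsmul (hf₂ _) N₁⟩
  let S : Λ → Subobject (ZX U) := fun W => K ⊓ Subobject.mk (ZXmap W.2.2.1)
  have hS : Monotone S := by
    intro W W' hWW
    refine inf_le_inf_left K ?_
    exact Subobject.mk_le_mk_of_comm (ZXmap (show W.1 ≤ W'.1 from hWW)) (ZXmap_comp _ _)
  have hSV : ∀ W : Λ, Van (ZX (⊤ : Opens X)) d ((S W : Subobject (ZX U)) : CohTop.Ab X) := by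
    intro W
    obtain ⟨N, hN, hf⟩ := W.2.2.2
    have hWU : W.1 ≤ U := W.2.2.1
    haveI := mono_nsmul_ZX W.1 N hN
    have hfac : (S W).Factors (N • ZXmap hWU) := by
      refine (Subobject.inf_factors _).2 ⟨hf hWU, ?_⟩
      have : N • ZXmap hWU = (N • 𝟙 (ZX W.1)) ≫ ZXmap hWU := by
        rw [Preadditive.nsmul_comp, Category.id_comp]
      rw [this]
      exact Subobject.factors_of_factors_right _ (Subobject.mk_factors_self _)
    let i' : ((S W : Subobject (ZX U)) : CohTop.Ab X) ⟶ ZX W.1 :=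
      Subobject.ofLEMk (S W) (ZXmap hWU) inf_le_right
    have hi' : i' ≫ ZXmap hWU = (S W).arrow := Subobject.ofLEMk_comp _
    haveI : Mono i' := by
      haveI : Mono (i' ≫ ZXmap hWU) := by
        rw [hi']
        infer_instance
      exact mono_of_mono i' (ZXmap hWU)
    let j : ZX W.1 ⟶ ((S W : Subobject (ZX U)) : CohTop.Ab X) := (S W).factorThru _ hfac
    have hji : j ≫ i' = N • 𝟙 (ZX W.1) := by
      rw [← cancel_mono (ZXmap hWU), Category.assoc, hi', Subobject.factorThru_arrow,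
        Preadditive.nsmul_comp, Category.id_comp]
    exact van_of_between i' j N hji (hZ W.1 W.2.1) (pv_coker_nsmul hcolim hZ W.1 N hN)
  have hsup : (⨆ W, S W : Subobject (ZX U)) = K := by
    apply le_antisymm
    · exact iSup_le (fun W => inf_le_left)
    · apply le_of_locally
      intro T ψ x hx
      obtain ⟨T₁, hT₁, hxT₁, h1 | ⟨hU₁, n, h1⟩⟩ := exists_local_form (ψ ≫ K.arrow) x hx
      · refine ⟨T₁, hT₁, hxT₁, ?_⟩
        rw [h1]
        exact Subobject.factors_zero
      · obtain ⟨V, hVc, hxV, hVT₁⟩ := exists_compact_nbhd hxT₁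
        have hVU : V ≤ U := hVT₁.trans hU₁
        refine ⟨V, hVT₁.trans hT₁, hxV, ?_⟩
        have e1 : ZXmap (hVT₁.trans hT₁) ≫ ψ ≫ K.arrow = n • ZXmap hVU := by
          rw [← ZXmap_comp hVT₁ hT₁, Category.assoc, h1, Preadditive.comp_zsmul, ZXmap_comp]
        by_cases hn : n = 0
        · rw [e1, hn, zero_smul]
          exact Subobject.factors_zero
        · have hK : K.Factors (n • ZXmap hVU) := by
            rw [← e1, ← Category.assoc]
            exact Subobject.factors_comp_arrow _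
          have hK' : K.Factors (n.natAbs • ZXmap hVU) := by
            have : (n.natAbs : ℤ) • ZXmap hVU = n.sign • (n • ZXmap hVU) := by
              rw [← mul_smul, Int.sign_mul_self_eq_natAbs]
            rw [← natCast_zsmul, this]
            exact factors_zsmul hK _
          let V' : Λ := ⟨V, hVc, hVU, n.natAbs, Int.natAbs_pos.2 hn, fun _ => hK'⟩
          rw [e1]
          refine Subobject.factors_of_le _ (le_iSup S V') ?_
          refine (Subobject.inf_factors _).2 ⟨hK, ?_⟩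
          have : n • ZXmap hVU = (n • 𝟙 (ZX V)) ≫ ZXmap hVU := by
            rw [Preadditive.zsmul_comp, Category.id_comp]
          rw [this]
          exact Subobject.factors_of_factors_right _ (Subobject.mk_factors_self _)
  rw [← hsup]
  exact van_iSup hcolim S hS hSV

end Groth.Agent.H6.Van
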