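import Mathlib
import Groth.Prelude.Def_CohCx
import Groth.Agent.Lib.Helper6.VanG

/-! Helper6: vanishing of cohomology above `d` from vanishing on the free sheaves of
quasi-compact opens (S0902, part H). -/

set_option autoImplicit false
open CategoryTheory CategoryTheory.Limits Opposite TopologicalSpace Abelian
open Groth.Agent.LD.SC

universe u

namespace Groth.Agent.H6.Van

variable {X : TopCat.{u}} {d : ℕ}

/-- the vanishing class is closed under filtered colimits on a quasi-compact quasi-separated
space with a basis of quasi-compact opens. -/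
lemma hcolim_of_qcqs [CompactSpace X] [PrespectralSpace X] [QuasiSeparatedSpace X]
    {ι : Type u} [Preorder ι] [IsDirected ι (· ≤ ·)] [Nonempty ι]
    (D : ι ⥤ CohTop.Ab X) (h : ∀ i, Van (ZX (⊤ : Opens X)) d (D.obj i)) :
    Van (ZX (⊤ : Opens X)) d (colimit D) := by
  intro p hp
  have hc : IsCompact ((⊤ : Opens X) : Set X) := by
    rw [Opens.coe_top]
    exact isCompact_univ
  haveI := Groth.Agent.LD.Colim.preservesColimit_H_of_qcqs (⊤ : Opens X) hc
    (IsQuasiSeparated.of_quasiSeparatedSpace _) p D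
  let Hp : CohTop.Ab X ⥤ AddCommGrpCat.{u} :=
    (Sheaf.cohomologyPresheafFunctor (Opens.grothendieckTopology X) p).flip.obj (op ⊤)
  have hc' : IsColimit (Hp.mapCocone (colimit.cocone D)) :=
    isColimitOfPreserves Hp (colimit.isColimit D)
  refine ⟨fun a b => ?_⟩
  suffices H : ∀ y : Ext (ZX (⊤ : Opens X)) (colimit D) p, y = 0 by rw [H a, H b]
  intro y
  obtain ⟨i, yi, hyi⟩ := Groth.Agent.LD.Colim.ab_exists_rep (D ⋙ Hp) hc' y
  haveI := h i p hp
  have h0 : yi = 0 := Subsingleton.elim (α := Ext (ZX (⊤ : Opens X)) (D.obj i) p) yi 0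
  rw [← hyi, h0]
  exact map_zero _

/-- vanishing for all sheaves from vanishing on the free sheaves of quasi-compact opens. -/
theorem van_all [CompactSpace X] [PrespectralSpace X] [QuasiSeparatedSpace X]
    (hZ : ∀ V : Opens X, IsCompact (V : Set X) → Van (ZX (⊤ : Opens X)) d (ZX V))
    (F : CohTop.Ab X) : Van (ZX (⊤ : Opens X)) d F := by
  have hcolim : ∀ {ι : Type u} [Preorder ι] [IsDirected ι (· ≤ ·)] [Nonempty ι]
      (D : ι ⥤ CohTop.Ab X), (∀ i, Van (ZX (⊤ : Opens X)) d (D.obj i)) →
        Van (ZX (⊤ : Opens X)) d (colimit D) := fun D h => hcolim_of_qcqs D h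
  let α := Σ W : {W : Opens X // IsCompact (W : Set X)}, (ZX W.1 ⟶ F)
  refine van_of_generated hcolim (α := α) (fun a => ZX a.1.1) (fun a => a.2) ?_ ?_
  · intro a E π _
    exact van_X₃ (shortExact_kernel π) (pv_ZX hcolim hZ a.1.1 (kernel.ι π)) (hZ a.1.1 a.1.2)
  · rw [eq_top_iff]
    apply le_of_locally
    intro T ψ x hx
    obtain ⟨V, hVc, hxV, hVT⟩ := exists_compact_nbhd hx
    refine ⟨V, hVT, hxV, ?_⟩
    let a : α := ⟨⟨V, hVc⟩, ZXmap hVT ≫ ψ ≫ (⊤ : Subobject F).arrow⟩
    refine Subobject.factors_of_le _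
      (le_iSup (fun a : α => imageSubobject a.2) a) ?_
    have := Subobject.factors_comp_arrow (P := imageSubobject a.2)
      (factorThruImageSubobject a.2)
    rw [imageSubobject_arrow_comp] at this
    exact this

/-- S0902: vanishing above `d` on the extensions by zero from quasi-compact opens implies
vanishing above `d` for all abelian sheaves. -/
theorem main [CompactSpace X] [PrespectralSpace X] [QuasiSeparatedSpace X] (d : ℕ)
    (h : ∀ (U : Opens X), IsCompact (U : Set X) → ∀ p : ℕ, d < p →
      Subsingleton (CohTop.H (CohCx.freeSheaf (Opens.grothendieckTopology X) U) p))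
    (F : CohTop.Ab X) (p : ℕ) (hp : d < p) : Subsingleton (CohTop.H F p) := by
  have hT : IsTerminal (⊤ : Opens X) := Limits.isTerminalTop
  have hZ : ∀ V : Opens X, IsCompact (V : Set X) → Van (ZX (⊤ : Opens X)) d (ZX V) := by
    intro V hV q hq
    haveI := h V hV q hq
    exact (HEquiv hT (ZX V) q).symm.toEquiv.subsingleton
  exact subsingleton_H_of_subsingleton_ext hT F p (van_all hZ F p hp)

end Groth.Agent.H6.Van
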