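import Mathlib
import Groth.Agent.Lib.Helper6.VanH
import Groth.Agent.Lib.Lead.SC.ClosedEmb
import Groth.Agent.Lib.Lead.SC.LerayDeg
import Groth.Agent.Lib.Lead.SC.ConstIrr
import Groth.Agent.Lib.Lead.CE.EssImage

/-! Helper6: Grothendieck's vanishing theorem on Noetherian spaces, part A: supports and transfer
along closed embeddings (S0458). -/

set_option autoImplicit false
open CategoryTheory CategoryTheory.Limits Opposite TopologicalSpace Abelian Topology
open Groth.Agent.LD.SC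

universe u

namespace Groth.Agent.H6.GV

open Groth.Agent.H6.Van

variable {X : TopCat.{u}}

/-- cohomology vanishes in degrees `≥ n` for all abelian sheaves on `Y`. -/
def GVn (n : ℕ) (Y : TopCat.{u}) : Prop :=
  ∀ (F : CohTop.Ab Y) (p : ℕ), n ≤ p → Subsingleton (CohTop.H F p)

/-- sheaves supported on the image of a closed embedding inherit vanishing. -/
lemma subsingleton_H_of_supp0 {W : TopCat.{u}} (i : W ⟶ X) (hi : IsClosedEmbedding i) {n : ℕ}
    (hW : GVn n W) (F : CohTop.Ab X) (hF : Groth.Agent.LD.CE.Supp0 i F) (p : ℕ) (hp : n ≤ p) :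
    Subsingleton (CohTop.H F p) := by
  obtain ⟨G, ⟨e⟩⟩ := (Groth.Agent.LD.CE.essImage_iff_supp0 i hi F).2 hF
  obtain ⟨e'⟩ := leray_global i G
    (fun q => isZero_rightDerived_push_of_isClosedEmbedding i hi G q) p
  haveI := hW G p hp
  have h1 : Subsingleton (Sheaf.H ((pushAb i).obj G) p) := e'.symm.toEquiv.subsingleton
  exact subsingleton_ext_of_iso e p h1

/-- `ℤ_W` has no sections over opens disjoint from `W`. -/
lemma eq_zero_of_disjoint {W V : Opens X} (h : V ⊓ W = ⊥) (ψ : ZX V ⟶ ZX W) : ψ = 0 := by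
  apply eq_zero_of_cover
  intro x hx
  obtain ⟨T', hT, hxT, h1 | ⟨hU, n, h1⟩⟩ := exists_local_form ψ x hx
  · exact ⟨T', hT, hxT, h1⟩
  · exfalso
    have : x ∈ V ⊓ W := ⟨hT hxT, hU hxT⟩
    rw [h] at this
    exact this

/-- `ℤ_V' / ℤ_W` has no sections over opens `V` with `V ∩ V' ⊂ W`. -/
lemma eq_zero_of_inf_le {W V' V : Opens X} (hW : W ≤ V') (h : V ⊓ V' ≤ W)
    (ψ : ZX V ⟶ cokernel (ZXmap hW)) : ψ = 0 := by
  apply eq_zero_of_cover
  intro x hx
  obtain ⟨T₁, hT₁, hxT₁, t', ht'⟩ := exists_local_lift (cokernel.π (ZXmap hW)) ψ x hx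
  obtain ⟨T₂, hT₂, hxT₂, h2 | ⟨hU₂, n, h2⟩⟩ := exists_local_form t' x hxT₁
  · refine ⟨T₂, hT₂.trans hT₁, hxT₂, ?_⟩
    rw [← ZXmap_comp hT₂ hT₁, Category.assoc, ← ht', ← Category.assoc, h2, zero_comp]
  · refine ⟨T₂, hT₂.trans hT₁, hxT₂, ?_⟩
    have hT₂W : T₂ ≤ W := fun y hy => h ⟨hT₁ (hT₂ hy), hU₂ hy⟩
    rw [← ZXmap_comp hT₂ hT₁, Category.assoc, ← ht', ← Category.assoc, h2,
      Preadditive.zsmul_comp, ← ZXmap_comp hT₂W hW, Category.assoc, cokernel.condition,
      comp_zero, smul_zero]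

lemma supp0_ZX {W : TopCat.{u}} (i : W ⟶ X) (U : Opens X)
    (h : ∀ x ∈ U, x ∈ Set.range i) : Groth.Agent.LD.CE.Supp0 i (ZX U) := by
  intro V hV
  have hVU : V ⊓ U = ⊥ := by
    apply le_antisymm _ bot_le
    intro x hx
    exact (hV x hx.1 (h x hx.2)).elim
  refine ⟨fun a b => ?_⟩
  have h1 : ∀ c : (ZX U).obj.obj (op V), c = 0 := by
    intro c
    have := eq_zero_of_disjoint hVU ((homEquiv V (ZX U)).symm c)
    have h2 := congrArg (homEquiv V (ZX U)) this
    rw [Equiv.apply_symm_apply, homEquiv_zero] at h2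
    exact h2
  rw [h1 a, h1 b]

lemma supp0_coker {W : TopCat.{u}} (i : W ⟶ X) {U U' : Opens X} (hU : U ≤ U')
    (h : ∀ x ∈ U', x ∉ U → x ∈ Set.range i) :
    Groth.Agent.LD.CE.Supp0 i (cokernel (ZXmap hU)) := by
  intro V hV
  have hVU : V ⊓ U' ≤ U := by
    intro x hx
    by_contra hxU
    exact hV x hx.1 (h x hx.2 hxU)
  refine ⟨fun a b => ?_⟩
  have h1 : ∀ c : (cokernel (ZXmap hU)).obj.obj (op V), c = 0 := by
    intro c
    have := eq_zero_of_inf_le hU hVU ((homEquiv V (cokernel (ZXmap hU))).symm c)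
    have h2 := congrArg (homEquiv V (cokernel (ZXmap hU))) this
    rw [Equiv.apply_symm_apply, homEquiv_zero] at h2
    exact h2
  rw [h1 a, h1 b]

/-- the free sheaf on the empty open is zero. -/
lemma isZero_ZX_bot : IsZero (ZX (⊥ : Opens X)) := by
  rw [IsZero.iff_id_eq_zero]
  apply eq_zero_of_cover
  intro x hx
  exact absurd hx (by simp)

/-- cohomology with values in `F` as `Ext` from `ℤ_X`. -/
lemma subsingleton_H_iff (F : CohTop.Ab X) (p : ℕ) :
    Subsingleton (CohTop.H F p) ↔ Subsingleton (Ext (ZX (⊤ : Opens X)) F p) :=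
  (HEquiv (T := (⊤ : Opens X)) Limits.isTerminalTop F p).toEquiv.subsingleton_congr

/-- all cohomology vanishes on the empty space. -/
lemma gvn_of_isEmpty [IsEmpty X] (n : ℕ) : GVn n X := by
  intro F p _
  rw [subsingleton_H_iff]
  have htop : (⊤ : Opens X) = ⊥ := by
    apply le_antisymm _ bot_le
    intro x _
    exact isEmptyElim x
  have hz : IsZero (ZX (⊤ : Opens X)) := by
    rw [htop]
    exact isZero_ZX_bot
  refine ⟨fun a b => ?_⟩
  have h1 : ∀ c : Ext (ZX (⊤ : Opens X)) F p, c = 0 := by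
    intro c
    have : c = (Ext.mk₀ (𝟙 (ZX (⊤ : Opens X)))).comp c (zero_add p) := (Ext.mk₀_id_comp c).symm
    rw [this, hz.eq_of_src (𝟙 _) 0, Ext.mk₀_zero, Ext.zero_comp]
  rw [h1 a, h1 b]

end Groth.Agent.H6.GV
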