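import Mathlib
import Groth.Agent.Lib.Helper6.GVA

/-! Helper6: Grothendieck's vanishing theorem on Noetherian spaces, part B: dimension and the
induction (S0458). -/

set_option autoImplicit false
open CategoryTheory CategoryTheory.Limits Opposite TopologicalSpace Abelian Topology
open Groth.Agent.LD.SC

universe u

namespace Groth.Agent.H6.GV

open Groth.Agent.H6.Van

/-- a proper closed subset of an irreducible space has smaller dimension. -/
lemma dim_lt_of_proper_closed {Y : Type u} [TopologicalSpace Y] [IrreducibleSpace Y] (D : Set Y)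
    (hD : IsClosed D) (hDne : D ≠ Set.univ) (n : ℕ)
    (h : topologicalKrullDim Y < ((n + 1 : ℕ) : WithBot ℕ∞)) :
    topologicalKrullDim D < ((n : ℕ) : WithBot ℕ∞) := by
  unfold topologicalKrullDim at h ⊢
  rw [Order.krullDim_lt_coe_iff] at h ⊢
  intro l
  let f : IrreducibleCloseds D → IrreducibleCloseds Y :=
    IrreducibleCloseds.map (Subtype.val : D → Y) continuous_subtype_val
  have hf : StrictMono f := IrreducibleCloseds.map_strictMono_of_isInducing IsInducing.subtypeVal
  let top : IrreducibleCloseds Y :=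
    ⟨Set.univ, (IrreducibleSpace.isIrreducible_univ Y), isClosed_univ⟩
  have hlast : (l.map f hf).last < top := by
    rw [LTSeries.last_map]
    have h1 : ((f l.last : IrreducibleCloseds Y) : Set Y) ⊆ D := by
      show closure (Subtype.val '' (l.last : Set D)) ⊆ D
      refine closure_minimal ?_ hD
      rintro _ ⟨y, _, rfl⟩
      exact y.2
    refine lt_of_le_of_ne (fun y _ => Set.mem_univ y) ?_
    intro heq
    apply hDne
    apply Set.eq_univ_of_univ_subset
    have : ((f l.last : IrreducibleCloseds Y) : Set Y) = Set.univ :=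
      congrArg (fun s : IrreducibleCloseds Y => (s : Set Y)) heq
    rw [← this]
    exact h1
  have h2 := h ((l.map f hf).snoc top hlast)
  rw [RelSeries.snoc_length] at h2
  have : (l.map f hf).length = l.length := rfl
  omega

instance quasiSeparatedSpace_of_noetherian {Y : Type u} [TopologicalSpace Y] [NoetherianSpace Y] :
    QuasiSeparatedSpace Y :=
  ⟨fun _ _ _ _ _ _ => NoetherianSpace.isCompact _⟩


/-- inclusion of a subset as a morphism of `TopCat`. -/
noncomputable abbrev incl {Y : TopCat.{u}} (D : Set Y) : TopCat.of D ⟶ Y :=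
  TopCat.ofHom ⟨Subtype.val, continuous_subtype_val⟩

lemma incl_isClosedEmbedding {Y : TopCat.{u}} (D : Set Y) (hD : IsClosed D) :
    IsClosedEmbedding (incl D) :=
  hD.isClosedEmbedding_subtypeVal

lemma range_incl {Y : TopCat.{u}} (D : Set Y) : Set.range (incl D) = D :=
  Subtype.range_coe

/-- `Ext^q(ℤ_Y, ℤ_Y) = 0` for `q ≥ 1` on an irreducible space. -/
lemma subsingleton_ext_top_top {Y : TopCat.{u}} [IrreducibleSpace Y] (q : ℕ) :
    Subsingleton (Ext (ZX (⊤ : Opens Y)) (ZX (⊤ : Opens Y)) (q + 1)) := by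
  have h1 := subsingleton_H_const Y (ULift.{u} ℤ) q
  have h2 : Subsingleton (Ext (ZX (⊤ : Opens Y))
      ((constantSheaf (Opens.grothendieckTopology Y) AddCommGrpCat.{u}).obj
        (AddCommGrpCat.of (ULift.{u} ℤ))) (q + 1)) :=
    (HEquiv (T := (⊤ : Opens Y)) Limits.isTerminalTop _ (q + 1)).symm.toEquiv.subsingleton
  exact subsingleton_ext_of_iso (ZUIsoConst (T := (⊤ : Opens Y)) Limits.isTerminalTop).symm
    (q + 1) h2

/-- vanishing for the free sheaves on an irreducible Noetherian space, by induction on the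
dimension. -/
lemma van_ZX_of_irreducible {Y : TopCat.{u}} [NoetherianSpace Y] [IrreducibleSpace Y] (n : ℕ)
    (hdim : topologicalKrullDim Y < ((n + 1 : ℕ) : WithBot ℕ∞))
    (IH : ∀ (W : TopCat.{u}) [NoetherianSpace W],
      topologicalKrullDim W < ((n : ℕ) : WithBot ℕ∞) → GVn n W)
    (U : Opens Y) (p : ℕ) (hp : n + 1 ≤ p) :
    Subsingleton (Ext (ZX (⊤ : Opens Y)) (ZX U) p) := by
  by_cases hU : U = ⊥
  · rw [hU]
    exact Van.van_of_isZero (Z := ZX (⊤ : Opens Y)) (d := n) isZero_ZX_bot p (by omega)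
  · let D : Set Y := (U : Set Y)ᶜ
    have hD : IsClosed D := U.2.isClosed_compl
    have hDne : D ≠ Set.univ := by
      intro h
      apply hU
      apply le_antisymm _ bot_le
      intro x hx
      have : x ∈ D := by rw [h]; exact Set.mem_univ x
      exact (this hx).elim
    have hdimD : topologicalKrullDim (TopCat.of D) < ((n : ℕ) : WithBot ℕ∞) :=
      dim_lt_of_proper_closed D hD hDne n hdim
    haveI : NoetherianSpace (TopCat.of D) := NoetherianSpace.set D
    have hW : GVn n (TopCat.of D) := IH (TopCat.of D) hdimD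
    have hU' : U ≤ ⊤ := le_top
    have hsupp : Groth.Agent.LD.CE.Supp0 (incl D) (cokernel (ZXmap hU')) := by
      refine supp0_coker (incl D) hU' (fun x _ hx => ?_)
      rw [range_incl]
      exact hx
    have hQ : ∀ q, n ≤ q → Subsingleton (Ext (ZX (⊤ : Opens Y)) (cokernel (ZXmap hU')) q) := by
      intro q hq
      rw [← subsingleton_H_iff]
      exact subsingleton_H_of_supp0 (incl D) (incl_isClosedEmbedding D hD) hW _ hsupp q hq
    obtain ⟨q, rfl⟩ : ∃ q, p = q + 1 := ⟨p - 1, by omega⟩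
    haveI := hQ q (by omega)
    haveI := subsingleton_ext_top_top (Y := Y) q
    have hS := Van.shortExact_cokernel (ZXmap hU')
    refine ⟨fun a b => ?_⟩
    have hz : ∀ x : Ext (ZX (⊤ : Opens Y)) (ZX U) (q + 1), x = 0 := by
      intro x
      obtain ⟨x₃, hx₃⟩ := Ext.covariant_sequence_exact₁ (ZX (⊤ : Opens Y)) hS x
        (Subsingleton.elim _ _) rfl
      rw [← hx₃, Subsingleton.elim x₃ 0, Ext.zero_comp]
    rw [hz a, hz b]

/-- vanishing for the free sheaves on a space covered by two proper closed subsets on which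
vanishing holds. -/
lemma van_ZX_of_reducible {Y : TopCat.{u}} (m : ℕ) (U₁ U₂ : Opens Y) (h12 : U₁ ⊓ U₂ = ⊥)
    (h1 : GVn m (TopCat.of ((U₁ : Set Y)ᶜ : Set Y)))
    (h2 : GVn m (TopCat.of ((U₂ : Set Y)ᶜ : Set Y)))
    (U : Opens Y) (p : ℕ) (hp : m ≤ p) :
    Subsingleton (Ext (ZX (⊤ : Opens Y)) (ZX U) p) := by
  have hle : U ⊓ U₁ ≤ U := inf_le_left
  have hs2 : Groth.Agent.LD.CE.Supp0 (incl ((U₂ : Set Y)ᶜ)) (ZX (U ⊓ U₁)) := by
    refine supp0_ZX _ _ (fun x hx => ?_)
    rw [range_incl]
    intro hx2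
    have : x ∈ U₁ ⊓ U₂ := ⟨hx.2, hx2⟩
    rw [h12] at this
    exact this
  have hs1 : Groth.Agent.LD.CE.Supp0 (incl ((U₁ : Set Y)ᶜ)) (cokernel (ZXmap hle)) := by
    refine supp0_coker _ hle (fun x hx hxn => ?_)
    rw [range_incl]
    intro hx1
    exact hxn ⟨hx, hx1⟩
  haveI : Subsingleton (Ext (ZX (⊤ : Opens Y)) (ZX (U ⊓ U₁)) p) := by
    rw [← subsingleton_H_iff]
    exact subsingleton_H_of_supp0 _ (incl_isClosedEmbedding _ U₂.2.isClosed_compl) h2 _ hs2 p hp
  haveI : Subsingleton (Ext (ZX (⊤ : Opens Y)) (cokernel (ZXmap hle)) p) := by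
    rw [← subsingleton_H_iff]
    exact subsingleton_H_of_supp0 _ (incl_isClosedEmbedding _ U₁.2.isClosed_compl) h1 _ hs1 p hp
  have hS := Van.shortExact_cokernel (ZXmap hle)
  refine ⟨fun a b => ?_⟩
  have hz : ∀ x : Ext (ZX (⊤ : Opens Y)) (ZX U) p, x = 0 := by
    intro x
    obtain ⟨x₁, hx₁⟩ := Ext.covariant_sequence_exact₂ (ZX (⊤ : Opens Y)) hS x
      (Subsingleton.elim _ _)
    rw [← hx₁, Subsingleton.elim x₁ 0, Ext.zero_comp]
  rw [hz a, hz b]

end Groth.Agent.H6.GV
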