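import Mathlib
import Groth.Agent.Lib.Helper6.GVB

/-! Helper6: Grothendieck's vanishing theorem on Noetherian spaces, part C: the theorem
(S0458). -/

set_option autoImplicit false
open CategoryTheory CategoryTheory.Limits Opposite TopologicalSpace Abelian Topology
open Groth.Agent.LD.SC

universe u

namespace Groth.Agent.H6.GV

open Groth.Agent.H6.Van

lemma exists_disjoint_opens {Y : TopCat.{u}} (h : ¬ PreirreducibleSpace Y) :
    ∃ U₁ U₂ : Opens Y, U₁ ≠ ⊥ ∧ U₂ ≠ ⊥ ∧ U₁ ⊓ U₂ = ⊥ := by
  by_contra hcon
  apply h
  refine ⟨fun u v hu hv hune hvne => ?_⟩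
  by_contra hempty
  apply hcon
  refine ⟨⟨u, hu⟩, ⟨v, hv⟩, ?_, ?_, ?_⟩
  · intro hb
    obtain ⟨x, _, hx⟩ := hune
    have : x ∈ (⟨u, hu⟩ : Opens Y) := hx
    rw [hb] at this
    exact this
  · intro hb
    obtain ⟨x, _, hx⟩ := hvne
    have : x ∈ (⟨v, hv⟩ : Opens Y) := hx
    rw [hb] at this
    exact this
  · apply le_antisymm _ bot_le
    intro x hx
    exact (hempty ⟨x, Set.mem_univ x, hx.1, hx.2⟩).elim

/-- Grothendieck's vanishing theorem, in the form `dim X < n ⇒ Hᵖ = 0` for `p ≥ n`. -/
theorem gv (n : ℕ) : ∀ (X : TopCat.{u}) [NoetherianSpace X],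
    topologicalKrullDim X < ((n : ℕ) : WithBot ℕ∞) → GVn n X := by
  induction n with
  | zero =>
    intro X _ hdim
    haveI : IsEmpty X := by
      by_contra hne
      rw [not_isEmpty_iff] at hne
      obtain ⟨x⟩ := hne
      have : (0 : WithBot ℕ∞) ≤ topologicalKrullDim X := by
        unfold topologicalKrullDim
        rw [Order.krullDim_nonneg_iff]
        exact ⟨⟨closure {x}, isIrreducible_singleton.closure, isClosed_closure⟩⟩
      exact absurd hdim (not_lt.2 (by simpa using this))
    exact gvn_of_isEmpty 0
  | succ n IH =>
    intro X _ hdim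
    have key : ∀ C : Closeds X, ∀ (Y : TopCat.{u}) (i : Y ⟶ X), IsClosedEmbedding i →
        Set.range i = (C : Set X) → GVn (n + 1) Y := by
      intro C
      induction C using WellFoundedLT.induction with
      | ind C IHC =>
        intro Y i hi hr
        haveI : NoetherianSpace Y := hi.isInducing.noetherianSpace
        have hdimY : topologicalKrullDim Y < ((n + 1 : ℕ) : WithBot ℕ∞) :=
          lt_of_le_of_lt hi.isInducing.topologicalKrullDim_le hdim
        intro F p hp
        refine Van.main n (fun U _ q hq => ?_) F p (by omega)
        rw [subsingleton_H_iff]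
        rcases isEmpty_or_nonempty Y with hE | hN
        · exact (subsingleton_H_iff _ _).1 (gvn_of_isEmpty (n + 1) _ q (by omega))
        · by_cases hirr : PreirreducibleSpace Y
          · haveI : IrreducibleSpace Y := { toPreirreducibleSpace := hirr, toNonempty := hN }
            exact van_ZX_of_irreducible n hdimY IH U q (by omega)
          · obtain ⟨U₁, U₂, hU₁, hU₂, h12⟩ := exists_disjoint_opens hirr
            have hsub : ∀ (V : Opens Y), V ≠ ⊥ → GVn (n + 1) (TopCat.of ((V : Set Y)ᶜ : Set Y)) := by
              intro V hV
              let D : Set Y := (V : Set Y)ᶜ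
              have hD : IsClosed D := V.2.isClosed_compl
              let C' : Closeds X := ⟨i '' D, hi.isClosedMap _ hD⟩
              have hC' : C' < C := by
                refine lt_of_le_of_ne ?_ ?_
                · intro x hx
                  obtain ⟨y, _, rfl⟩ := hx
                  show i y ∈ (C : Set X)
                  rw [← hr]
                  exact ⟨y, rfl⟩
                · intro heq
                  apply hV
                  apply le_antisymm _ bot_le
                  intro y hy
                  have h1 : i y ∈ (C : Set X) := by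
                    rw [← hr]
                    exact ⟨y, rfl⟩
                  have h2 : i y ∈ (C' : Set X) := by rw [heq]; exact h1
                  obtain ⟨y', hy', hyy⟩ := h2
                  have : y' = y := hi.injective hyy
                  rw [this] at hy'
                  exact (hy' hy).elim
              refine IHC C' hC' (TopCat.of D) (incl D ≫ i) ?_ ?_
              · have := hi.comp (incl_isClosedEmbedding D hD)
                exact this
              · show Set.range (i ∘ (incl D)) = i '' D
                rw [Set.range_comp, range_incl]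
            exact van_ZX_of_reducible (n + 1) U₁ U₂ h12 (hsub U₁ hU₁) (hsub U₂ hU₂) U q (by omega)
    refine key ⊤ X (𝟙 X) ?_ ?_
    · exact Topology.IsClosedEmbedding.id
    · simp

/-- S0458: Grothendieck's vanishing theorem. -/
theorem main {X : TopCat.{u}} [NoetherianSpace X] (d : ℕ)
    (hd : topologicalKrullDim X ≤ d) (F : CohTop.Ab X) (p : ℕ) (hp : d < p) :
    Subsingleton (CohTop.H F p) := by
  refine gv (d + 1) X ?_ F p (by omega)
  refine lt_of_le_of_lt hd ?_
  exact_mod_cast Nat.lt_succ_self d

end Groth.Agent.H6.GV
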