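import Mathlib
import Groth.Prelude
import Groth.Agent.S0543
import Groth.Agent.S0603
import Groth.Agent.Lib.Helper1.CMFlat
import Groth.Agent.Lib.Helper3.CA.GRingTransfer
import Groth.Agent.Lib.Helper5.CA.RegHom3
import Groth.Agent.Lib.Helper6.DedGRing
import Groth.Agent.Lib.Helper6.FiberDict
import Groth.Agent.Lib.Helper8.J2.J9
import Groth.Agent.Lib.Helper8.J2.J11
import Groth.Agent.Lib.Helper8.Japanese.QE1

/-!
# Excellence of discrete valuation rings
-/

set_option autoImplicit false
universe u

open TensorProduct IsLocalRing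

namespace Groth.Agent.H6.DVRExc

/-- the generic fibre of an algebra over a domain is a localization -/
theorem nonempty_genericFibre_equiv (R S : Type u) [CommRing R] [IsDomain R] [CommRing S]
    [Algebra R S] :
    Nonempty ((⊥ : Ideal R).Fiber S ≃+*
      Localization (Algebra.algebraMapSubmonoid S (⊥ : Ideal R).primeCompl)) := by
  let Sp := Localization (Algebra.algebraMapSubmonoid S (⊥ : Ideal R).primeCompl)
  letI : Algebra S ((⊥ : Ideal R).Fiber S) := Algebra.TensorProduct.rightAlgebra
  have e := (Ideal.Fiber.algEquivQuotient (⊥ : Ideal R) (S := S)).toRingEquiv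
  have hbot : (maximalIdeal (Localization (⊥ : Ideal R).primeCompl)).map
      (algebraMap (Localization (⊥ : Ideal R).primeCompl) Sp) = ⊥ := by
    rw [← Localization.AtPrime.map_eq_maximalIdeal, Ideal.map_bot, Ideal.map_bot]
  exact ⟨(e.trans (Ideal.quotEquivOfEq hbot)).trans (RingEquiv.quotientBot Sp)⟩

/-- in a Noetherian local ring with principal maximal ideal `(ϖ)`, a prime not containing `ϖ` is
zero -/
theorem eq_bot_of_notMem (S : Type u) [CommRing S] [IsNoetherianRing S] [IsLocalRing S] (ϖ : S)
    (hm : maximalIdeal S = Ideal.span {ϖ}) (q : Ideal S) [hq : q.IsPrime] (hϖ : ϖ ∉ q) :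
    q = ⊥ := by
  rw [eq_bot_iff]
  intro x hx
  have key : ∀ n : ℕ, ∃ y ∈ q, x = ϖ ^ n * y := by
    intro n
    induction n with
    | zero => exact ⟨x, hx, by rw [pow_zero, one_mul]⟩
    | succ n ih =>
      obtain ⟨y, hy, hxy⟩ := ih
      have hym : y ∈ maximalIdeal S := IsLocalRing.le_maximalIdeal hq.ne_top hy
      rw [hm, Ideal.mem_span_singleton'] at hym
      obtain ⟨a, rfl⟩ := hym
      have ha : a ∈ q := (hq.mem_or_mem hy).resolve_right hϖ
      exact ⟨a, ha, by rw [hxy]; ring⟩
  have hϖm : ϖ ∈ maximalIdeal S := hm ▸ Ideal.mem_span_singleton_self ϖ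
  have hmem : x ∈ ⨅ n : ℕ, (maximalIdeal S) ^ n := by
    rw [Ideal.mem_iInf]
    intro n
    obtain ⟨y, _, rfl⟩ := key n
    exact Ideal.mul_mem_right _ _ (Ideal.pow_mem_pow hϖm n)
  rwa [Ideal.iInf_pow_eq_bot_of_isLocalRing (maximalIdeal S)
    (IsLocalRing.maximalIdeal.isMaximal S).ne_top] at hmem

/-- inverting the uniformizer of a Noetherian local ring with principal maximal ideal gives an
Artinian ring -/
theorem isArtinianRing_localization (S : Type u) [CommRing S] [IsNoetherianRing S] [IsLocalRing S]
    (ϖ : S) (hm : maximalIdeal S = Ideal.span {ϖ}) (M : Submonoid S) (hM : ϖ ∈ M) :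
    IsArtinianRing (Localization M) := by
  haveI : IsNoetherianRing (Localization M) := IsLocalization.isNoetherianRing M _ inferInstance
  have hcomap : ∀ (Q : Ideal (Localization M)), Q.IsPrime →
      Q.comap (algebraMap S (Localization M)) = ⊥ := by
    intro Q hQ
    haveI := hQ
    haveI : (Q.comap (algebraMap S (Localization M))).IsPrime := Ideal.comap_isPrime _ _
    refine eq_bot_of_notMem S ϖ hm _ ?_
    intro hmem
    rw [Ideal.mem_comap] at hmem
    exact hQ.ne_top (Ideal.eq_top_of_isUnit_mem _ hmem
      (IsLocalization.map_units (Localization M) ⟨ϖ, hM⟩))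
  have hdim : Ring.KrullDimLE 0 (Localization M) := by
    refine Ring.KrullDimLE.mk₀ fun Q hQ => ?_
    obtain ⟨Q', hQ'max, hle⟩ := Ideal.exists_le_maximal Q hQ.ne_top
    have h1 := hcomap Q hQ
    have h2 := hcomap Q' hQ'max.isPrime
    have : Q = Q' := by
      rw [← IsLocalization.map_under M (Localization M) Q,
        ← IsLocalization.map_under M (Localization M) Q', Ideal.under_def, Ideal.under_def, h1, h2]
    rw [this]
    exact hQ'max
  exact isArtinianRing_iff_isNoetherianRing_krullDimLE_zero.mpr ⟨inferInstance, hdim⟩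

/-- the generic formal fibre of a discrete valuation ring is Artinian -/
theorem isArtinianRing_genericFibre (R : Type u) [CommRing R] [IsDomain R]
    [IsDiscreteValuationRing R] :
    IsArtinianRing ((⊥ : Ideal R).Fiber (AdicCompletion (maximalIdeal R) R)) := by
  haveI : IsNoetherianRing (AdicCompletion (maximalIdeal R) R) := Groth.Agent.S0543.result _ _
  obtain ⟨ϖ, hϖ⟩ := IsDiscreteValuationRing.exists_irreducible R
  have hmR : maximalIdeal R = Ideal.span {ϖ} :=
    (IsDiscreteValuationRing.irreducible_iff_uniformizer ϖ).mp hϖ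
  have hmS : maximalIdeal (AdicCompletion (maximalIdeal R) R) =
      Ideal.span {algebraMap R (AdicCompletion (maximalIdeal R) R) ϖ} := by
    rw [AdicCompletion.maximalIdeal_eq_map]
    refine (congrArg (Ideal.map (algebraMap R (AdicCompletion (maximalIdeal R) R))) hmR).trans ?_
    rw [Ideal.map_span, Set.image_singleton]
  have hne : ϖ ∈ (⊥ : Ideal R).primeCompl := by
    change ϖ ∉ (⊥ : Ideal R)
    rw [Ideal.mem_bot]
    exact hϖ.ne_zero
  have hM : algebraMap R (AdicCompletion (maximalIdeal R) R) ϖ ∈
      Algebra.algebraMapSubmonoid (AdicCompletion (maximalIdeal R) R) (⊥ : Ideal R).primeCompl :=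
    Algebra.mem_algebraMapSubmonoid_of_mem ⟨ϖ, hne⟩
  haveI := isArtinianRing_localization (AdicCompletion (maximalIdeal R) R) _ hmS _ hM
  obtain ⟨e⟩ := nonempty_genericFibre_equiv R (AdicCompletion (maximalIdeal R) R)
  exact e.symm.surjective.isArtinianRing

/-- an Artinian geometrically reduced algebra over a field is geometrically regular -/
theorem isGeometricallyRegular_of_isArtinianRing {κ F : Type u} [Field κ] [CommRing F]
    [Algebra κ F] [IsArtinianRing F] [Algebra.IsGeometricallyReduced κ F] :
    CAlg.IsGeometricallyRegular κ F := by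
  intro k' _ _ hfin
  haveI := hfin
  haveI : IsReduced (k' ⊗[κ] F) := inferInstance
  haveI : IsArtinianRing (F ⊗[κ] k') := IsArtinianRing.of_finite F (F ⊗[κ] k')
  haveI : IsArtinianRing (k' ⊗[κ] F) :=
    (Algebra.TensorProduct.comm κ F k').surjective.isArtinianRing
  exact Groth.Agent.H5.RegHom.isRegularRing_of_isArtinianRing_of_isReduced _

/-- the completion map of a discrete valuation ring with geometrically reduced generic formal
fibre is regular -/
theorem isRegularHom_cpl_of_dvr (R : Type u) [CommRing R] [IsDomain R]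
    [IsDiscreteValuationRing R]
    (h : Algebra.IsGeometricallyReduced (⊥ : Ideal R).ResidueField
      (EGA4.formalFibre R (⊥ : Ideal R))) :
    CAlg.IsRegularHom R (EGA4.Cpl R) := by
  haveI : IsNoetherianRing (AdicCompletion (maximalIdeal R) R) := Groth.Agent.S0543.result _ _
  refine ⟨AdicCompletion.flat_of_isNoetherian _, fun p _ =>
    ⟨Groth.Agent.H6.FiberDict.isNoetherianRing_fiber _, ?_⟩⟩
  by_cases hp : p = ⊥
  · subst hp
    haveI := isArtinianRing_genericFibre R
    haveI := h
    exact isGeometricallyRegular_of_isArtinianRing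
  · have hmax : p.IsMaximal := Ring.DimensionLEOne.maximalOfPrime hp inferInstance
    obtain rfl : p = maximalIdeal R := IsLocalRing.eq_maximalIdeal hmax
    exact DedGRing.isGeometricallyRegular_closedFibre R

/-- the completion map of a Noetherian local ring with a single prime is regular -/
theorem isRegularHom_cpl_of_forall_eq_maximalIdeal (K : Type u) [CommRing K] [IsLocalRing K]
    [IsNoetherianRing K] (hK : ∀ p : Ideal K, p.IsPrime → p = maximalIdeal K) :
    CAlg.IsRegularHom K (EGA4.Cpl K) := by
  haveI : IsNoetherianRing (AdicCompletion (maximalIdeal K) K) := Groth.Agent.S0543.result _ _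
  refine ⟨AdicCompletion.flat_of_isNoetherian _, fun p hp =>
    ⟨Groth.Agent.H6.FiberDict.isNoetherianRing_fiber _, ?_⟩⟩
  obtain rfl := hK p hp
  exact DedGRing.isGeometricallyRegular_closedFibre K

/-- a local ring is its own localization at the maximal ideal -/
noncomputable def selfEquivLocalization (R : Type u) [CommRing R] [IsLocalRing R] :
    R ≃+* Localization.AtPrime (maximalIdeal R) :=
  (IsLocalization.atUnits R (maximalIdeal R).primeCompl
    (S := Localization.AtPrime (maximalIdeal R))
    (fun x hx => (IsUnit.mem_submonoid_iff x).mpr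
      (IsLocalRing.notMem_maximalIdeal.mp hx))).toRingEquiv

/-- a discrete valuation ring with geometrically reduced generic formal fibre is a G-ring -/
theorem isGRing_of_dvr (R : Type u) [CommRing R] [IsDomain R] [IsDiscreteValuationRing R]
    (h : Algebra.IsGeometricallyReduced (⊥ : Ideal R).ResidueField
      (EGA4.formalFibre R (⊥ : Ideal R))) :
    CAlg.IsGRing R := by
  refine ⟨inferInstance, fun P hP => ?_⟩
  haveI : IsNoetherianRing (Localization.AtPrime P) :=
    IsLocalization.isNoetherianRing P.primeCompl _ inferInstance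
  by_cases hP0 : P = ⊥
  · subst hP0
    apply isRegularHom_cpl_of_forall_eq_maximalIdeal
    intro p hp
    have hmax : maximalIdeal (Localization.AtPrime (⊥ : Ideal R)) = ⊥ := by
      rw [← Localization.AtPrime.map_eq_maximalIdeal, Ideal.map_bot]
    have hle : p ≤ maximalIdeal (Localization.AtPrime (⊥ : Ideal R)) :=
      IsLocalRing.le_maximalIdeal hp.ne_top
    rw [hmax] at hle ⊢
    exact le_bot_iff.mp hle
  · have hmax : P.IsMaximal := Ring.DimensionLEOne.maximalOfPrime hP0 hP
    obtain rfl : P = maximalIdeal R := IsLocalRing.eq_maximalIdeal hmax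
    exact Groth.Agent.H3.GRing.isRegularHom_cpl_of_ringEquiv (selfEquivLocalization R)
      (isRegularHom_cpl_of_dvr R h)

/-- a discrete valuation ring with geometrically reduced generic formal fibre is excellent -/
theorem isExcellent_of_dvr (R : Type u) [CommRing R] [IsDomain R] [IsDiscreteValuationRing R]
    (h : Algebra.IsGeometricallyReduced (⊥ : Ideal R).ResidueField
      (EGA4.formalFibre R (⊥ : Ideal R))) :
    EGA4.IsExcellent R := by
  haveI : LocCoh.IsCohenMacaulayRing R :=
    Groth.Agent.H1.CMFlat.isCohenMacaulayRing_of_isRegularRing R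
  refine ⟨inferInstance, Groth.Agent.S0603.result R, isGRing_of_dvr R h, ?_⟩
  refine Groth.Agent.H8.J2.isJ2_of_j0Fin R
    (Groth.Agent.H8.J2.j0Fin_of_semilocal_dim_le_one R ?_ ?_)
  · exact (Set.finite_singleton (maximalIdeal R)).subset
      fun I hI => IsLocalRing.eq_maximalIdeal hI
  · exact Ring.krullDimLE_iff.mp inferInstance

/-- the generic formal fibre of an excellent discrete valuation ring is geometrically reduced -/
theorem geomReduced_of_isExcellent (R : Type u) [CommRing R] [IsDomain R]
    [IsDiscreteValuationRing R] (hE : EGA4.IsExcellent R) :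
    Algebra.IsGeometricallyReduced (⊥ : Ideal R).ResidueField
      (EGA4.formalFibre R (⊥ : Ideal R)) := by
  obtain ⟨_, _, hG, _⟩ := hE
  haveI : IsNoetherianRing (Localization.AtPrime (maximalIdeal R)) :=
    IsLocalization.isNoetherianRing (maximalIdeal R).primeCompl _ inferInstance
  have h1 := hG.2 (maximalIdeal R)
  have h2 : CAlg.IsRegularHom R (EGA4.Cpl R) :=
    Groth.Agent.H3.GRing.isRegularHom_cpl_of_ringEquiv (selfEquivLocalization R).symm h1
  exact Groth.Agent.H8.Jap.QE.hasGeomReducedFormalFibres_of_isRegularHom R h2 ⊥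

end Groth.Agent.H6.DVRExc
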