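import Groth.Agent.Lib.Helper6.BassShift

universe u
open CategoryTheory CategoryTheory.Abelian
open scoped TensorProduct
set_option linter.unusedSectionVars false

namespace Groth.Agent.H6

namespace Soc

section Graded

variable {ι : Type} [AddCommGroup ι] [DecidableEq ι]
variable {R : Type u} [CommRing R] [IsNoetherianRing R] (𝒜 : ι → AddSubgroup R) [GradedRing 𝒜]
variable {X : Type u} [AddCommGroup X] [Module R X] (𝒳 : ι → AddSubgroup X)
  [DirectSum.Decomposition 𝒳] [SetLike.GradedSMul 𝒜 𝒳]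
variable (p : Ideal R) [hp : p.IsPrime] (hph : p.IsHomogeneous 𝒜)

include hph in
/-- a *essential extension has the same socle at a homogeneous prime -/
theorem map_soc_eq_of_ess {M : Type u} [AddCommGroup M] [Module R M] (f : M →ₗ[R] X)
    (hf : Function.Injective f)
    (hess : ∀ Q : Submodule R X, Q.IsHomogeneous 𝒳 → Q ≠ ⊥ → Q ⊓ LinearMap.range f ≠ ⊥) :
    (soc p M).map (LocalizedModule.map p.primeCompl f) = soc p X := by
  apply le_antisymm
  · rintro _ ⟨v, hv, rfl⟩
    rw [SetLike.mem_coe, mem_soc_iff] at hv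
    rw [mem_soc_iff]
    intro a ha
    rw [← map_smul, hv a ha, map_zero]
  · apply soc_le 𝒜 𝒳 p hph
    intro g y hy hpy
    by_cases hy0 : y = 0
    · subst hy0
      rw [LocalizedModule.zero_mk]
      exact Submodule.zero_mem _
    · obtain ⟨r, hr0, m, hm⟩ := exists_smul_mem_of_ess 𝒜 𝒳 hess hy hy0
      have hrp : r ∉ p := fun h => hr0 (hpy r h)
      refine ⟨LocalizedModule.mk m ⟨r, hrp⟩, ?_, ?_⟩
      · rw [SetLike.mem_coe, mk_mem_soc_iff]
        intro a ha
        refine ⟨1, ?_⟩
        rw [one_smul]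
        apply hf
        rw [map_smul, hm, map_zero, smul_comm, hpy a ha, smul_zero]
      · rw [LocalizedModule.map_mk, hm]
        have := LocalizedModule.mk_cancel_common_left (⟨r, hrp⟩ : p.primeCompl) 1 y
        rw [mul_one] at this
        exact this

include 𝒳 hph in
/-- the higher Bass numbers of a *injective module at a homogeneous prime vanish -/
theorem bassNum_succ_eq_zero_of_starInj (hX : GrLC.IsStarInj 𝒜 𝒳) (n : ℕ) :
    GrLC.bassNum p X (n + 1) = 0 := by
  classical
  apply BassGlobal.bassNum_eq_zero_of_subsingleton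
  obtain ⟨Qm, π, hπsurj, hπker, -⟩ := Gr.exists_gmod_quot 𝒜 𝒜 (p : Submodule R R) hph
  haveI : Module.Finite R Qm.carrier := Module.Finite.of_surjective π hπsurj
  have eQ : Qm.carrier ≃ₗ[R] (R ⧸ p) :=
    (LinearMap.quotKerEquivOfSurjective π hπsurj).symm.trans (Submodule.quotEquivOfEq _ _ hπker)
  haveI := Gr.ext_subsingleton_of_starInj 𝒜 𝒳 hX n Qm
  exact BassGlobal.subsingleton_ext_of_linearEquiv eQ.symm _ _ inferInstance

end Graded

section Res

variable {ι : Type} [AddCommGroup ι] [DecidableEq ι]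
variable {R : Type u} [CommRing R] [IsNoetherianRing R] (𝒜 : ι → AddSubgroup R) [GradedRing 𝒜]
variable {M : Type u} [AddCommGroup M] [Module R M] (ℳ : ι → AddSubgroup M)
  [DirectSum.Decomposition ℳ] [SetLike.GradedSMul 𝒜 ℳ]
variable (p : Ideal R) [hp : p.IsPrime] (hph : p.IsHomogeneous 𝒜)
variable (E : GrLC.StarInjRes 𝒜 ℳ)
  (hmin0 : ∀ P : Submodule R (E.X 0).carrier, P.IsHomogeneous (E.X 0).gr → P ≠ ⊥ →
    P ⊓ LinearMap.range E.ε ≠ ⊥)
  (hmin : ∀ (n : ℕ) (P : Submodule R (E.X (n + 1)).carrier), P.IsHomogeneous (E.X (n + 1)).gr →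
    P ≠ ⊥ → P ⊓ LinearMap.range (E.d n) ≠ ⊥)

include hph hmin0 in
theorem bassNum_res_zero : GrLC.bassNum p M 0 = GrLC.bassNum p (E.X 0).carrier 0 :=
  bassNum_zero_eq_of_ess 𝒜 (E.X 0).gr p hph E.ε E.ε_injective hmin0

include hph hmin0 in
theorem bassNum_res_shift0 (i : ℕ) :
    GrLC.bassNum p (LinearMap.range (E.d 0)) i = GrLC.bassNum p M (i + 1) := by
  refine bassNum_shift p E.ε (E.d 0).rangeRestrict E.ε_injective
    (LinearMap.surjective_rangeRestrict _) ?_
    (fun i => bassNum_succ_eq_zero_of_starInj 𝒜 (E.X 0).gr p hph (E.starInj 0) i)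
    (map_soc_eq_of_ess 𝒜 (E.X 0).gr p hph E.ε E.ε_injective hmin0) i
  intro y
  change _ ↔ y ∈ LinearMap.range E.ε
  rw [← E.exact_zero, LinearMap.mem_ker]
  constructor
  · intro h
    have := congrArg Subtype.val h
    exact this
  · intro h
    exact Subtype.ext h

include hph hmin in
theorem bassNum_res_shift (k i : ℕ) :
    GrLC.bassNum p (LinearMap.range (E.d (k + 1))) i =
      GrLC.bassNum p (LinearMap.range (E.d k)) (i + 1) := by
  have hess : ∀ Q : Submodule R (E.X (k + 1)).carrier, Q.IsHomogeneous (E.X (k + 1)).gr → Q ≠ ⊥ →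
      Q ⊓ LinearMap.range (LinearMap.range (E.d k)).subtype ≠ ⊥ := by
    intro Q hQ hQ0
    rw [Submodule.range_subtype]
    exact hmin k Q hQ hQ0
  refine bassNum_shift p (LinearMap.range (E.d k)).subtype (E.d (k + 1)).rangeRestrict
    (Submodule.subtype_injective _) (LinearMap.surjective_rangeRestrict _) ?_
    (fun i => bassNum_succ_eq_zero_of_starInj 𝒜 (E.X (k + 1)).gr p hph (E.starInj (k + 1)) i)
    (map_soc_eq_of_ess 𝒜 (E.X (k + 1)).gr p hph _ (Submodule.subtype_injective _) hess) i
  intro y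
  change _ ↔ y ∈ LinearMap.range (LinearMap.range (E.d k)).subtype
  rw [Submodule.range_subtype, ← E.exact_succ k, LinearMap.mem_ker]
  constructor
  · intro h
    have := congrArg Subtype.val h
    exact this
  · intro h
    exact Subtype.ext h

include hph hmin in
theorem bassNum_res_range (k i : ℕ) :
    GrLC.bassNum p (LinearMap.range (E.d k)) i =
      GrLC.bassNum p (LinearMap.range (E.d (k + i))) 0 := by
  induction i generalizing k with
  | zero => rfl
  | succ i ih =>
    rw [← bassNum_res_shift 𝒜 ℳ p hph E hmin k i, ih (k + 1)]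
    have : k + 1 + i = k + (i + 1) := by omega
    rw [this]

include hph hmin0 hmin in
/-- the Bass numbers of `M` at a homogeneous prime are the zeroth Bass numbers of the terms of a
minimal *injective resolution -/
theorem bassNum_res (j : ℕ) : GrLC.bassNum p M j = GrLC.bassNum p (E.X j).carrier 0 := by
  cases j with
  | zero => exact bassNum_res_zero 𝒜 ℳ p hph E hmin0
  | succ j =>
    rw [← bassNum_res_shift0 𝒜 ℳ p hph E hmin0 j, bassNum_res_range 𝒜 ℳ p hph E hmin 0 j, zero_add]
    have hess : ∀ Q : Submodule R (E.X (j + 1)).carrier, Q.IsHomogeneous (E.X (j + 1)).gr → Q ≠ ⊥ →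
        Q ⊓ LinearMap.range (LinearMap.range (E.d j)).subtype ≠ ⊥ := by
      intro Q hQ hQ0
      rw [Submodule.range_subtype]
      exact hmin j Q hQ hQ0
    exact bassNum_zero_eq_of_ess 𝒜 (E.X (j + 1)).gr p hph _ (Submodule.subtype_injective _) hess

end Res

end Soc

end Groth.Agent.H6
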