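import Groth.Agent.Lib.Helper6.ExtCollapse
import Groth.Agent.Lib.Helper6.CanHull
import Groth.Agent.Lib.Helper6.CanEnd
import Groth.Agent.Lib.Helper6.CanDual
import Groth.Agent.Lib.Helper6.InjHullLocal

/-! Bass numbers of the canonical module and the type of a Cohen–Macaulay local ring. -/

universe u
open CategoryTheory CategoryTheory.Abelian InjHull

namespace Groth.Agent.H6.CanBass

variable {A : Type u} [CommRing A] [hCM : LocCoh.IsCohenMacaulayLocalRing A] (n : ℕ)
  (hn : ringKrullDim A = (n : WithBot ℕ∞))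
  (E K : Type u) [AddCommGroup E] [Module A E]
  (f : IsLocalRing.ResidueField A →ₗ[A] E) (hf : IsInjectiveHull f)
  [AddCommGroup K] [Module A K] [Module.Finite A K]
  (eK : (K →ₗ[A] E) ≃ₗ[A] LocCoh.H (IsLocalRing.maximalIdeal A) n A)

omit [Module.Finite A K] in
lemma residue_torsion : ∃ k : ℕ, ∀ a ∈ IsLocalRing.maximalIdeal A ^ k,
    ∀ x : (ModuleCat.of A (IsLocalRing.ResidueField A)), a • x = 0 := by
  refine ⟨1, fun a ha x => ?_⟩
  rw [pow_one] at ha
  obtain ⟨y, rfl⟩ := Ideal.Quotient.mk_surjective (I := IsLocalRing.maximalIdeal A) x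
  change (Ideal.Quotient.mk (IsLocalRing.maximalIdeal A) (a * y) : A ⧸ IsLocalRing.maximalIdeal A) = 0
  exact Ideal.Quotient.eq_zero_iff_mem.mpr (Ideal.mul_mem_right _ _ ha)

include hn hf eK in
/-- the type of the canonical module is one -/
theorem length_ext_residue_can :
    Module.length A (Ext (ModuleCat.of A (IsLocalRing.ResidueField A)) (ModuleCat.of A K) n) = 1 := by
  haveI : IsNoetherianRing A := inferInstance
  have hvan : ∀ i, i ≠ n → Subsingleton ((localCohomology (IsLocalRing.maximalIdeal A) i).obj (ModuleCat.of A K)) :=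
    fun i hi => CanQ.lc_can_vanish n hn E K f hf eK i hi
  obtain ⟨e1⟩ := ExtLin.collapse (IsLocalRing.maximalIdeal A) (ModuleCat.of A (IsLocalRing.ResidueField A))
    residue_torsion n (ModuleCat.of A K) hvan 0
  obtain ⟨e2⟩ := CanQ.lc_can_equiv_hull n hn E K f hf eK
  have e3 := ExtLin.postcompEquiv e2.toModuleIso (ModuleCat.of A (IsLocalRing.ResidueField A)) 0
  have e4 := Can.cY (ModuleCat.of A (IsLocalRing.ResidueField A)) (ModuleCat.of A E)
  have e5 : ((IsLocalRing.ResidueField A) →ₗ[A] E) ≃ₗ[A] (A ⧸ IsLocalRing.maximalIdeal A) :=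
    IH.homResidueEquiv hf.toIsEssentialInj
  rw [add_zero] at e1
  rw [(e1.trans (e3.trans (e4.trans e5))).length_eq]
  haveI : IsSimpleModule A (A ⧸ IsLocalRing.maximalIdeal A) := IH.isSimpleModule_residue
  exact Module.length_eq_one A _

include hn hf eK in
/-- the type of a Cohen–Macaulay local ring is the minimal number of generators of its canonical
module -/
theorem length_ext_residue_self :
    Module.length A (Ext (ModuleCat.of A (IsLocalRing.ResidueField A)) (ModuleCat.of A A) n) =
      ((⊤ : Submodule A K).spanFinrank : ℕ∞) := by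
  have hvan : ∀ i, i ≠ n → Subsingleton ((localCohomology (IsLocalRing.maximalIdeal A) i).obj (ModuleCat.of A A)) :=
    fun i hi => Can.lc_vanish_of_cm n hn i hi
  obtain ⟨e1⟩ := ExtLin.collapse (IsLocalRing.maximalIdeal A) (ModuleCat.of A (IsLocalRing.ResidueField A))
    residue_torsion n (ModuleCat.of A A) hvan 0
  have e4 := Can.cY (ModuleCat.of A (IsLocalRing.ResidueField A))
    ((localCohomology (IsLocalRing.maximalIdeal A) n).obj (ModuleCat.of A A))
  have e5 : ((IsLocalRing.ResidueField A) →ₗ[A] LocCoh.H (IsLocalRing.maximalIdeal A) n A) ≃ₗ[A]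
      ((A ⧸ IsLocalRing.maximalIdeal A) →ₗ[A] (K →ₗ[A] E)) :=
    LinearEquiv.congrRight eK.symm
  have e6 := IH.homQuotEquiv (IsLocalRing.maximalIdeal A) (K →ₗ[A] E)
  rw [add_zero] at e1
  rw [IH.spanFinrank_eq_length_socle_dual hf K]
  exact (e1.trans (e4.trans (e5.trans e6))).length_eq

end Groth.Agent.H6.CanBass
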