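import Groth.Agent.Lib.Helper6.InjHull

/-!
# Localization of essential extensions and injective hulls (Noetherian rings)
-/

namespace Groth.Agent.H6

namespace IH

open InjHull

universe u v

section Loc

variable {R : Type u} [CommRing R] [IsNoetherianRing R] (S : Submonoid R)
variable {M : Type v} [AddCommGroup M] [Module R M]

/-- For `m : M` there is `t ∈ S` such that the annihilator of `t • m` is maximal among the
annihilators of `S`-multiples of `m`; then `r • t • m ≠ 0` implies `r • t • m` stays nonzero in
`S⁻¹M`. -/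
theorem exists_smul_stable (m : M) :
    ∃ t : S, ∀ r : R, ∀ u : S, (u : R) • r • (t : R) • m = 0 → r • (t : R) • m = 0 := by
  let A : S → Ideal R := fun t => LinearMap.ker (LinearMap.toSpanSingleton R M ((t : R) • m))
  obtain ⟨I, ⟨t, rfl⟩, hmax⟩ := (set_has_maximal_iff_noetherian.mpr
    (inferInstance : IsNoetherian R R)) (Set.range A) ⟨_, 1, rfl⟩
  refine ⟨t, fun r u h => ?_⟩
  have hle : A t ≤ A (u * t) := by
    intro a ha
    rw [LinearMap.mem_ker, LinearMap.toSpanSingleton_apply] at ha ⊢
    rw [Submonoid.coe_mul, mul_smul, smul_comm, ha, smul_zero]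
  have heq : A t = A (u * t) := by
    rcases hle.eq_or_lt with h1 | h1
    · exact h1
    · exact absurd h1 (hmax _ ⟨u * t, rfl⟩)
  have hr : r ∈ A (u * t) := by
    rw [LinearMap.mem_ker, LinearMap.toSpanSingleton_apply, Submonoid.coe_mul, mul_smul,
      smul_comm]
    exact h
  rw [← heq, LinearMap.mem_ker, LinearMap.toSpanSingleton_apply] at hr
  exact hr

/-- **S11664**: essential extensions localize over a Noetherian ring. -/
theorem localized_essential (N : Submodule R M)
    (hN : ∀ N' : Submodule R M, N' ≠ ⊥ → N' ⊓ N ≠ ⊥)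
    (L : Submodule (Localization S) (LocalizedModule S M)) (hL : L ≠ ⊥) :
    L ⊓ Submodule.localized S N ≠ ⊥ := by
  obtain ⟨x, hxL, hx0⟩ := Submodule.exists_mem_ne_zero_of_ne_bot hL
  induction x using LocalizedModule.induction_on with
  | h m s =>
  obtain ⟨t, ht⟩ := exists_smul_stable S m
  -- `y = t • m`
  have hy0 : (t : R) • m ≠ 0 := by
    intro h0
    apply hx0
    rw [← LocalizedModule.mk_cancel_common_left t s m]
    change LocalizedModule.mk ((t : R) • m) (t * s) = 0
    rw [h0, LocalizedModule.zero_mk]
  have hspan : Submodule.span R {(t : R) • m} ≠ ⊥ := by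
    intro h
    exact hy0 ((Submodule.span_singleton_eq_bot).mp h)
  obtain ⟨z, hz, hz0⟩ := Submodule.exists_mem_ne_zero_of_ne_bot (hN _ hspan)
  obtain ⟨hz1, hzN⟩ := hz
  obtain ⟨r, rfl⟩ := Submodule.mem_span_singleton.mp hz1
  -- the element `(r • t • m)/1`
  have hne : LocalizedModule.mkLinearMap S M (r • (t : R) • m) ≠ 0 := by
    intro h0
    obtain ⟨u, hu⟩ := (IsLocalizedModule.eq_zero_iff S (LocalizedModule.mkLinearMap S M)).mp h0
    exact hz0 (ht r u hu)
  have hmemL : LocalizedModule.mkLinearMap S M (r • (t : R) • m) ∈ L := by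
    have h1 : LocalizedModule.mkLinearMap S M (r • (t : R) • m) =
        (Localization.mk (r * (t : R) * (s : R)) (1 : S)) • LocalizedModule.mk m s := by
      rw [LocalizedModule.mk_smul_mk, LocalizedModule.mkLinearMap_apply, one_mul, mul_smul,
        mul_smul]
      have : (r • (t : R) • (s : R) • m) = (s : R) • (r • (t : R) • m) := by
        rw [smul_comm (t : R) (s : R) m, smul_comm r (s : R)]
      rw [this]
      exact (LocalizedModule.mk_cancel s _).symm
    rw [h1]
    exact L.smul_mem _ hxL
  intro hbot
  have hmem : LocalizedModule.mkLinearMap S M (r • (t : R) • m) ∈ L ⊓ Submodule.localized S N := by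
    refine ⟨hmemL, ?_⟩
    refine (Submodule.mem_localized' _ _ _ _ _).mpr ⟨r • (t : R) • m, hzN, 1, ?_⟩
    rw [IsLocalizedModule.mk'_one]
  rw [hbot] at hmem
  exact hne ((Submodule.mem_bot _).mp hmem)

end Loc

section Hull

variable {R : Type u} [CommRing R] [IsNoetherianRing R] (S : Submonoid R)
variable {M E : Type u} [AddCommGroup M] [Module R M] [AddCommGroup E] [Module R E]

theorem range_map_eq_localized {R : Type u} [CommRing R] (S : Submonoid R)
    {M E : Type v} [AddCommGroup M] [Module R M] [AddCommGroup E] [Module R E] (f : M →ₗ[R] E) :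
    LinearMap.range (LocalizedModule.map S f) = Submodule.localized S (LinearMap.range f) := by
  ext x
  constructor
  · rintro ⟨y, rfl⟩
    induction y using LocalizedModule.induction_on with
    | h m s =>
    rw [LocalizedModule.map_mk]
    refine (Submodule.mem_localized' _ _ _ _ _).mpr ⟨f m, ⟨m, rfl⟩, s, ?_⟩
    rw [← IsLocalizedModule.mk_eq_mk']
  · intro hx
    obtain ⟨y, ⟨m, rfl⟩, s, rfl⟩ := (Submodule.mem_localized' _ _ _ _ _).mp hx
    refine ⟨LocalizedModule.mk m s, ?_⟩
    rw [LocalizedModule.map_mk, ← IsLocalizedModule.mk_eq_mk']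

/-- **S11679**: injective hulls localize over a Noetherian ring. -/
theorem localized_hull {f : M →ₗ[R] E} (hf : IsInjectiveHull f) :
    IsInjectiveHull (LocalizedModule.map S f) := by
  haveI := hf.isInjective
  refine ⟨⟨LocalizedModule.map_injective S f hf.injective, fun L hL => ?_⟩, ?_⟩
  · rw [range_map_eq_localized]
    exact localized_essential S _ hf.essential L hL
  · exact Module.injective_of_isLocalizedModule S (LocalizedModule.mkLinearMap S E)

end Hull

section Prime

variable {R : Type u} [CommRing R] [IsNoetherianRing R] (S : Submonoid R)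
variable (p : Ideal R) [hp : p.IsPrime]
variable {E : Type u} [AddCommGroup E] [Module R E] {f : (R ⧸ p) →ₗ[R] E}

/-- If `p` meets `S`, the localization of `E(R/p)` vanishes. -/
theorem subsingleton_localized_hull (hf : IsInjectiveHull f) (h : ((p : Set R) ∩ S).Nonempty) :
    Subsingleton (LocalizedModule S E) := by
  obtain ⟨s, hsp, hsS⟩ := h
  have h1 : Subsingleton (LocalizedModule S (R ⧸ p)) := by
    rw [LocalizedModule.subsingleton_iff]
    intro c
    refine ⟨s, hsS, ?_⟩
    obtain ⟨c', rfl⟩ := Ideal.Quotient.mk_surjective c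
    change Ideal.Quotient.mk p (s * c') = 0
    exact Ideal.Quotient.eq_zero_iff_mem.mpr (p.mul_mem_right _ hsp)
  have hull := localized_hull S hf
  by_contra hne
  rw [not_subsingleton_iff_nontrivial] at hne
  have htop : (⊤ : Submodule (Localization S) (LocalizedModule S E)) ≠ ⊥ := top_ne_bot
  apply hull.essential ⊤ htop
  rw [top_inf_eq, eq_bot_iff]
  rintro _ ⟨y, rfl⟩
  rw [Subsingleton.elim y 0, map_zero]
  exact Submodule.zero_mem _

include hp in
/-- Elements outside `p` act injectively on `E(R/p)`. -/
theorem smul_injective_of_hull (hf : IsInjectiveHull f) {s : R} (hs : s ∉ p) :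
    Function.Injective (fun x : E => s • x) := by
  have hK : LinearMap.ker (LinearMap.lsmul R E s) = ⊥ := by
    by_contra hne
    apply hf.essential _ hne
    rw [eq_bot_iff]
    rintro _ ⟨hx, c, rfl⟩
    rw [SetLike.mem_coe, LinearMap.mem_ker, LinearMap.lsmul_apply, ← map_smul] at hx
    have h0 : s • c = 0 := hf.injective (hx.trans (map_zero f).symm)
    obtain ⟨c', rfl⟩ := Ideal.Quotient.mk_surjective c
    have h1 : Ideal.Quotient.mk p (s * c') = 0 := h0
    rw [Ideal.Quotient.eq_zero_iff_mem] at h1
    have h2 : c' ∈ p := (hp.mem_or_mem h1).resolve_left hs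
    rw [Ideal.Quotient.eq_zero_iff_mem.mpr h2, map_zero]
    exact Submodule.zero_mem _
  exact LinearMap.ker_eq_bot.mp hK

include hp in
/-- Elements outside `p` act bijectively on `E(R/p)`. -/
theorem smul_bijective_of_hull (hf : IsInjectiveHull f) {s : R} (hs : s ∉ p) :
    Function.Bijective (fun x : E => s • x) := by
  haveI := hf.isInjective
  have hinj := smul_injective_of_hull p hf hs
  refine ⟨hinj, ?_⟩
  have hind := indecomposable_of_hull_quot p hf
  haveI : Module.Injective R (LinearMap.range (LinearMap.lsmul R E s)) :=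
    injective_of_equiv (LinearEquiv.ofInjective (LinearMap.lsmul R E s) hinj)
  obtain ⟨N, hN⟩ := exists_isCompl_of_injective (LinearMap.range (LinearMap.lsmul R E s))
  haveI := hind.1
  rcases hind.2 _ _ hN with h | h
  · exfalso
    obtain ⟨x, hx⟩ := exists_ne (0 : E)
    have : s • x ∈ LinearMap.range (LinearMap.lsmul R E s) := ⟨x, rfl⟩
    rw [h, Submodule.mem_bot] at this
    exact hx (hinj (this.trans (smul_zero s).symm))
  · have htop : LinearMap.range (LinearMap.lsmul R E s) = ⊤ := by
      have := hN.sup_eq_top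
      rwa [h, sup_bot_eq] at this
    exact LinearMap.range_eq_top.mp htop

include hp in
/-- If `p` is disjoint from `S`, then `E(R/p) → S⁻¹E(R/p)` is bijective. -/
theorem mkLinearMap_bijective_of_hull (hf : IsInjectiveHull f) (h : Disjoint (p : Set R) S) :
    Function.Bijective (LocalizedModule.mkLinearMap S E) := by
  haveI : IsLocalizedModule S (LinearMap.id : E →ₗ[R] E) :=
    { map_units := fun s => by
        rw [Module.End.isUnit_iff]
        exact smul_bijective_of_hull p hf (fun hsp => Set.disjoint_left.mp h hsp s.2)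
      surj := fun m => ⟨(m, 1), one_smul _ _⟩
      exists_of_eq := fun h => ⟨1, congr_arg _ h⟩ }
  have h1 := IsLocalizedModule.iso_symm_comp S (LinearMap.id : E →ₗ[R] E)
  rw [LinearMap.comp_id] at h1
  rw [← h1]
  exact (IsLocalizedModule.iso S (LinearMap.id : E →ₗ[R] E)).symm.bijective

/-- The canonical map `S⁻¹R / p S⁻¹R → S⁻¹(R/p)`. -/
noncomputable def quotLocalizedMap {R : Type u} [CommRing R] (S : Submonoid R) (p : Ideal R) :
    (Localization S ⧸ p.map (algebraMap R (Localization S))) →ₗ[Localization S]
      LocalizedModule S (R ⧸ p) :=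
  Submodule.liftQ _ (LinearMap.toSpanSingleton (Localization S) (LocalizedModule S (R ⧸ p))
    (LocalizedModule.mk 1 1)) (by
    intro x hx
    induction x using Localization.induction_on with
    | H y =>
    obtain ⟨r, t⟩ := y
    rw [Localization.mk_eq_mk', IsLocalization.mk'_mem_map_algebraMap_iff] at hx
    obtain ⟨u, hu, hur⟩ := hx
    rw [LinearMap.mem_ker, LinearMap.toSpanSingleton_apply, LocalizedModule.mk_smul_mk]
    rw [← LocalizedModule.zero_mk (t * 1), LocalizedModule.mk_eq]
    refine ⟨⟨u, hu⟩, ?_⟩
    rw [smul_zero, smul_zero]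
    change u • (t * 1 : S) • (r • (1 : R ⧸ p)) = 0
    rw [smul_comm]
    have : u • r • (1 : R ⧸ p) = 0 := by
      change Ideal.Quotient.mk p (u * (r * 1)) = 0
      rw [mul_one]
      exact Ideal.Quotient.eq_zero_iff_mem.mpr hur
    rw [this, smul_zero])

theorem quotLocalizedMap_bijective {R : Type u} [CommRing R] (S : Submonoid R) (p : Ideal R) :
    Function.Bijective (quotLocalizedMap S p) := by
  constructor
  · rw [← LinearMap.ker_eq_bot]
    refine Submodule.ker_liftQ_eq_bot _ _ _ ?_
    intro x hx
    induction x using Localization.induction_on with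
    | H y =>
    obtain ⟨r, t⟩ := y
    rw [LinearMap.mem_ker, LinearMap.toSpanSingleton_apply, LocalizedModule.mk_smul_mk,
      ← LocalizedModule.zero_mk (t * 1), LocalizedModule.mk_eq] at hx
    obtain ⟨u, hu⟩ := hx
    rw [smul_zero, smul_zero] at hu
    rw [Localization.mk_eq_mk', IsLocalization.mk'_mem_map_algebraMap_iff]
    refine ⟨(u : R) * ((t * 1 : S) : R), (u * (t * 1)).2, ?_⟩
    have : Ideal.Quotient.mk p ((u : R) * ((t * 1 : S) : R) * r) = 0 := by
      rw [mul_assoc]
      have h2 : u • (t * 1 : S) • r • (1 : R ⧸ p) = 0 := hu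
      change Ideal.Quotient.mk p ((u : R) * (((t * 1 : S) : R) * (r * 1))) = 0 at h2
      simp only [mul_one] at h2 ⊢
      exact h2
    exact Ideal.Quotient.eq_zero_iff_mem.mp this
  · intro y
    induction y using LocalizedModule.induction_on with
    | h c t =>
    obtain ⟨c', rfl⟩ := Ideal.Quotient.mk_surjective c
    refine ⟨Submodule.Quotient.mk (Localization.mk c' t), ?_⟩
    rw [quotLocalizedMap, Submodule.liftQ_apply, LinearMap.toSpanSingleton_apply,
      LocalizedModule.mk_smul_mk, mul_one]
    congr 1
    change Ideal.Quotient.mk p (c' * 1) = _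
    rw [mul_one]

end Prime

section PrimeHull

variable {R : Type u} [CommRing R] [IsNoetherianRing R] (S : Submonoid R)
variable (p : Ideal R) [hp : p.IsPrime]
variable {E : Type u} [AddCommGroup E] [Module R E] {f : (R ⧸ p) →ₗ[R] E}

/-- `S⁻¹E(R/p)` is an injective hull of `S⁻¹R/pS⁻¹R`. -/
theorem exists_hull_localized (hf : IsInjectiveHull f) :
    ∃ g : (Localization S ⧸ p.map (algebraMap R (Localization S))) →ₗ[Localization S]
      LocalizedModule S E, IsInjectiveHull g := by
  have hull := localized_hull S hf
  have hb := quotLocalizedMap_bijective S p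
  refine ⟨LocalizedModule.map S f ∘ₗ quotLocalizedMap S p,
    ⟨⟨hull.injective.comp hb.1, fun L hL => ?_⟩, hull.isInjective⟩⟩
  rw [LinearMap.range_comp_of_range_eq_top _ (LinearMap.range_eq_top.mpr hb.2)]
  exact hull.essential L hL

end PrimeHull

end IH

end Groth.Agent.H6
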