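import Groth.Agent.Lib.Helper6.CanBass
import Groth.Agent.Lib.Helper6.InjHullLoc
import Groth.Agent.Lib.Helper6.CanQuot
import Groth.Agent.S11618
import Groth.Prelude.Def_GrLC2

/-! Localising a global canonical module at a maximal ideal. -/

universe u
open CategoryTheory CategoryTheory.Abelian InjHull
open scoped TensorProduct

namespace Groth.Agent.H6.CanLoc

section Transport

variable {A : Type u} [CommRing A] [IsLocalRing A] {E : Type u} [AddCommGroup E] [Module A E]

theorem hull_residue (J : Ideal A) (hJ : J = IsLocalRing.maximalIdeal A) (g : (A ⧸ J) →ₗ[A] E)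
    (hg : IsInjectiveHull g) :
    ∃ f : IsLocalRing.ResidueField A →ₗ[A] E, IsInjectiveHull f := by
  subst hJ
  exact ⟨g, hg⟩

noncomputable def lcIdealCongr {R : Type u} [CommRing R] (I J : Ideal R) (h : I = J) (i : ℕ)
    (M : Type u) [AddCommGroup M] [Module R M] : LocCoh.H I i M ≃ₗ[R] LocCoh.H J i M := by
  subst h
  exact LinearEquiv.refl _ _

end Transport

variable {R : Type u} [CommRing R] [IsNoetherianRing R] (m : Ideal R) [hm : m.IsMaximal]
  {E' : Type u} [AddCommGroup E'] [Module R E'] (f₀ : (R ⧸ m) →ₗ[R] E') (hf₀ : IsInjectiveHull f₀)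
  (C : Type u) [AddCommGroup C] [Module R C] [Module.Finite R C] (n : ℕ)
  (φ : (C →ₗ[R] E') ≃ₗ[R] LocCoh.H m n R)

include hf₀ in
theorem exists_hull_loc :
    ∃ f : IsLocalRing.ResidueField (Localization.AtPrime m) →ₗ[Localization.AtPrime m]
      LocalizedModule m.primeCompl E', IsInjectiveHull f := by
  obtain ⟨g, hg⟩ := IH.exists_hull_localized m.primeCompl m hf₀
  exact hull_residue _ Localization.AtPrime.map_eq_maximalIdeal g hg

noncomputable def selfEquiv :
    LocalizedModule m.primeCompl R ≃ₗ[Localization.AtPrime m] Localization.AtPrime m :=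
  IsLocalizedModule.mapEquiv m.primeCompl (LocalizedModule.mkLinearMap m.primeCompl R)
    (Algebra.linearMap R (Localization.AtPrime m)) (Localization.AtPrime m) (LinearEquiv.refl R R)

include φ in
theorem nonempty_eK :
    Nonempty ((LocalizedModule m.primeCompl C →ₗ[Localization.AtPrime m]
        LocalizedModule m.primeCompl E') ≃ₗ[Localization.AtPrime m]
      LocCoh.H (IsLocalRing.maximalIdeal (Localization.AtPrime m)) n (Localization.AtPrime m)) := by
  haveI : Module.FinitePresentation R C := Module.finitePresentation_of_finite R C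
  have e1 : (LocalizedModule m.primeCompl C →ₗ[Localization.AtPrime m]
        LocalizedModule m.primeCompl E') ≃ₗ[Localization.AtPrime m]
      LocalizedModule m.primeCompl (LocCoh.H m n R) :=
    IsLocalizedModule.mapEquiv m.primeCompl (LocalizedModule.map m.primeCompl)
      (LocalizedModule.mkLinearMap m.primeCompl _) (Localization.AtPrime m) φ
  obtain ⟨e2⟩ := Groth.Agent.S11618.result R m m.primeCompl R n
  have e3 := lcIdealCongr _ _ (Localization.AtPrime.map_eq_maximalIdeal (I := m)) n
    (LocalizedModule m.primeCompl R)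
  have e4 := CanQ.lcCongr (IsLocalRing.maximalIdeal (Localization.AtPrime m)) n (selfEquiv m)
  exact ⟨e1.trans (e2.trans (e3.trans e4))⟩

omit [IsNoetherianRing R] in
/-- the minimal number of generators of `C_m` over `R_m` is `dim_k (k ⊗ C)` -/
theorem spanFinrank_localized :
    (⊤ : Submodule (Localization.AtPrime m) (LocalizedModule m.primeCompl C)).spanFinrank =
      Module.finrank (R ⧸ m) ((R ⧸ m) ⊗[R] C) := by
  letI : Field (R ⧸ m) := Ideal.Quotient.field m
  set A := Localization.AtPrime m with hA
  set K := LocalizedModule m.primeCompl C with hK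
  rw [← TensorProduct.spanFinrank_top_eq_of_residueField (⊤ : Submodule A K) Module.Finite.fg_top,
    ← Module.finrank_eq_spanFinrank_of_free]
  have e1 : (IsLocalRing.ResidueField A) ⊗[A] (⊤ : Submodule A K) ≃ₗ[IsLocalRing.ResidueField A]
      (IsLocalRing.ResidueField A) ⊗[A] K :=
    TensorProduct.AlgebraTensorModule.congr (LinearEquiv.refl _ _) Submodule.topEquiv
  have e2 : (IsLocalRing.ResidueField A) ⊗[A] K ≃ₗ[IsLocalRing.ResidueField A]
      (IsLocalRing.ResidueField A) ⊗[A] (A ⊗[R] C) :=
    TensorProduct.AlgebraTensorModule.congr (LinearEquiv.refl _ _)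
      (LocalizedModule.equivTensorProduct m.primeCompl C)
  have e3 : (IsLocalRing.ResidueField A) ⊗[A] (A ⊗[R] C) ≃ₗ[IsLocalRing.ResidueField A]
      (IsLocalRing.ResidueField A) ⊗[R] C :=
    TensorProduct.AlgebraTensorModule.cancelBaseChange R A (IsLocalRing.ResidueField A)
      (IsLocalRing.ResidueField A) C
  have e4 : (m.ResidueField) ⊗[R ⧸ m] ((R ⧸ m) ⊗[R] C) ≃ₗ[m.ResidueField]
      (m.ResidueField) ⊗[R] C :=
    TensorProduct.AlgebraTensorModule.cancelBaseChange R (R ⧸ m) (m.ResidueField)
      (m.ResidueField) C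
  rw [(e1.trans (e2.trans e3)).finrank_eq]
  change Module.finrank m.ResidueField (m.ResidueField ⊗[R] C) = _
  rw [← e4.finrank_eq, Module.finrank_baseChange]

include hf₀ φ in
/-- Bass numbers at a maximal ideal of a global canonical module and of the ring. -/
theorem bass_can [hCM : LocCoh.IsCohenMacaulayRing R] (hht : m.height = n) :
    GrLC.bassNum m C n = 1 ∧
      GrLC.bassNum m R n = (Module.finrank (R ⧸ m) ((R ⧸ m) ⊗[R] C) : ℕ∞) := by
  haveI : LocCoh.IsCohenMacaulayLocalRing (Localization.AtPrime m) :=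
    hCM.isCohenMacaulayLocalRing_localization m
  have hn : ringKrullDim (Localization.AtPrime m) = (n : WithBot ℕ∞) := by
    rw [IsLocalization.AtPrime.ringKrullDim_eq_height m (Localization.AtPrime m), hht]
    rfl
  obtain ⟨f, hf⟩ := exists_hull_loc m f₀ hf₀
  obtain ⟨eK⟩ := nonempty_eK m C n φ
  refine ⟨CanBass.length_ext_residue_can n hn _ _ f hf eK, ?_⟩
  rw [← spanFinrank_localized m C, ← CanBass.length_ext_residue_self n hn _ _ f hf eK]
  exact (ExtLin.postcompEquiv (selfEquiv m).toModuleIso _ n).length_eq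

end Groth.Agent.H6.CanLoc
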