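import Groth.Agent.Lib.Helper6.GrGamma
import Groth.Agent.Lib.Helper6.GrShift

/-! Chain maps between *injective resolutions lifting a homogeneous map, and the maps they induce
on graded local cohomology. -/

universe u
open DirectSum
set_option linter.unusedSectionVars false

namespace Groth.Agent.H6

namespace Gr

variable {ι : Type} [AddCommGroup ι] [DecidableEq ι]
variable {R : Type u} [CommRing R] (𝒜 : ι → AddSubgroup R) [GradedRing 𝒜]

section Factor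

/-- extension of a homogeneous map along a homogeneous map, under a kernel condition, into a
*injective module -/
theorem starInj_factor (J : GrLC.GMod.{u} 𝒜) (hJ : GrLC.IsStarInj 𝒜 J.gr) (A B : GrLC.GMod.{u} 𝒜)
    (u : A.carrier →ₗ[R] B.carrier) (hu : GrLC.IsGrHom A.gr B.gr u)
    (v : A.carrier →ₗ[R] J.carrier) (hv : GrLC.IsGrHom A.gr J.gr v)
    (hker : ∀ x, u x = 0 → v x = 0) :
    ∃ w : B.carrier →ₗ[R] J.carrier, GrLC.IsGrHom B.gr J.gr w ∧ ∀ x, w (u x) = v x := by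
  have hK : (LinearMap.ker u).IsHomogeneous A.gr := ker_isHomogeneous A.gr B.gr hu
  have hkerq : (LinearMap.ker (LinearMap.ker u).mkQ).IsHomogeneous A.gr := by
    rw [Submodule.ker_mkQ]; exact hK
  let Q : GrLC.GMod.{u} 𝒜 := GMod.ofQuot 𝒜 A.gr (Submodule.mkQ_surjective (LinearMap.ker u)) hkerq
  let q : A.carrier →ₗ[R] Q.carrier := (LinearMap.ker u).mkQ
  have hq : Function.Surjective q := Submodule.mkQ_surjective _
  let ub : Q.carrier →ₗ[R] B.carrier := (LinearMap.ker u).liftQ u le_rfl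
  let vb : Q.carrier →ₗ[R] J.carrier := (LinearMap.ker u).liftQ v (fun x hx => hker x hx)
  have hubq : ∀ x, ub (q x) = u x := fun x => Submodule.liftQ_apply _ _ _
  have hvbq : ∀ x, vb (q x) = v x := fun x => Submodule.liftQ_apply _ _ _
  have hubgr : GrLC.IsGrHom Q.gr B.gr ub := by
    rintro g _ ⟨m, hm, rfl⟩
    change ub (q m) ∈ B.gr g
    rw [hubq]
    exact hu g m hm
  have hvbgr : GrLC.IsGrHom Q.gr J.gr vb := by
    rintro g _ ⟨m, hm, rfl⟩
    change vb (q m) ∈ J.gr g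
    rw [hvbq]
    exact hv g m hm
  have hubinj : Function.Injective ub := by
    rw [← LinearMap.ker_eq_bot]
    exact Submodule.ker_liftQ_eq_bot _ _ _ le_rfl
  obtain ⟨w, hw, hwub⟩ := hJ Q B ub hubgr hubinj vb hvbgr
  refine ⟨w, hw, fun x => ?_⟩
  have := LinearMap.congr_fun hwub (q x)
  change w (ub (q x)) = vb (q x) at this
  rw [hubq, hvbq] at this
  exact this

end Factor

section Res

variable {M : Type u} [AddCommGroup M] [Module R M] (ℳ : ι → AddSubgroup M)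
  [DirectSum.Decomposition ℳ] [SetLike.GradedSMul 𝒜 ℳ]
variable {N : Type u} [AddCommGroup N] [Module R N] (𝒩 : ι → AddSubgroup N)
  [DirectSum.Decomposition 𝒩] [SetLike.GradedSMul 𝒜 𝒩]

variable {𝒜 ℳ}

theorem d_ε (E : GrLC.StarInjRes 𝒜 ℳ) (m : M) : E.d 0 (E.ε m) = 0 := by
  have : E.ε m ∈ LinearMap.ker (E.d 0) := by rw [E.exact_zero]; exact ⟨m, rfl⟩
  exact this

theorem d_d (E : GrLC.StarInjRes 𝒜 ℳ) (n : ℕ) (x : (E.X n).carrier) : E.d (n + 1) (E.d n x) = 0 := by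
  have : E.d n x ∈ LinearMap.ker (E.d (n + 1)) := by rw [E.exact_succ]; exact ⟨x, rfl⟩
  exact this

theorem exists_of_d_zero_eq_zero (E : GrLC.StarInjRes 𝒜 ℳ) {x : (E.X 0).carrier} (hx : E.d 0 x = 0) :
    ∃ m, E.ε m = x := by
  have : x ∈ LinearMap.ker (E.d 0) := hx
  rw [E.exact_zero] at this
  exact this

theorem exists_of_d_succ_eq_zero (E : GrLC.StarInjRes 𝒜 ℳ) {n : ℕ} {x : (E.X (n + 1)).carrier}
    (hx : E.d (n + 1) x = 0) : ∃ y, E.d n y = x := by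
  have : x ∈ LinearMap.ker (E.d (n + 1)) := hx
  rw [E.exact_succ] at this
  exact this

omit [DecidableEq ι] in
theorem map_mem_gam {X Y : Type u} [AddCommGroup X] [Module R X] [AddCommGroup Y] [Module R Y]
    (f : X →ₗ[R] Y) (a : Ideal R) {x : X} (hx : x ∈ GrLC.gam a X) : f x ∈ GrLC.gam a Y := by
  obtain ⟨n, hn⟩ := hx
  exact ⟨n, fun r hr => by rw [← map_smul, hn r hr, map_zero]⟩

variable (𝒜 ℳ)

/-- a chain map between *injective resolutions over a homogeneous map -/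
structure ChainLift (E : GrLC.StarInjRes 𝒜 ℳ) (F : GrLC.StarInjRes 𝒜 𝒩) (f : M →ₗ[R] N) where
  φ : ∀ n, (E.X n).carrier →ₗ[R] (F.X n).carrier
  grHom : ∀ n, GrLC.IsGrHom (E.X n).gr (F.X n).gr (φ n)
  comm_ε : ∀ m, φ 0 (E.ε m) = F.ε (f m)
  comm_d : ∀ n x, φ (n + 1) (E.d n x) = F.d n (φ n x)

variable {𝒜 ℳ 𝒩}

namespace ChainLift

variable {E : GrLC.StarInjRes 𝒜 ℳ} {F : GrLC.StarInjRes 𝒜 𝒩} {f : M →ₗ[R] N}
  (c : ChainLift 𝒜 ℳ 𝒩 E F f) (a : HomogeneousIdeal 𝒜)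

theorem map_mem_cocyc (i : ℕ) {x : (E.X i).carrier} (hx : x ∈ E.cocyc a i) :
    c.φ i x ∈ F.cocyc a i := by
  refine ⟨map_mem_gam (c.φ i) a.toIdeal hx.1, ?_⟩
  change F.d i (c.φ i x) = 0
  rw [← c.comm_d, (show E.d i x = 0 from hx.2), map_zero]

theorem map_mem_cobdy (i : ℕ) {x : (E.X i).carrier} (hx : x ∈ E.cobdy a i) :
    c.φ i x ∈ F.cobdy a i := by
  cases i with
  | zero =>
    have h0 : x = 0 := hx
    rw [h0, map_zero]
    exact zero_mem _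
  | succ n =>
    obtain ⟨w, hw, rfl⟩ := hx
    exact ⟨c.φ n w, map_mem_gam (c.φ n) a.toIdeal hw, (c.comm_d n w).symm⟩

/-- the map on cocycles -/
def cocycMap (i : ℕ) : E.cocyc a i →ₗ[R] F.cocyc a i :=
  (c.φ i).restrict (fun _ hx => c.map_mem_cocyc a i hx)

@[simp] theorem cocycMap_coe (i : ℕ) (z : E.cocyc a i) :
    ((c.cocycMap a i z : F.cocyc a i) : (F.X i).carrier) = c.φ i z := rfl

/-- the induced map on graded local cohomology -/
def Hmap (i : ℕ) : E.H a i →ₗ[R] F.H a i :=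
  Submodule.mapQ _ _ (c.cocycMap a i) (by
    intro z hz
    exact c.map_mem_cobdy a i hz)

theorem Hmap_toH (i : ℕ) (z : E.cocyc a i) : c.Hmap a i (E.toH a i z) = F.toH a i (c.cocycMap a i z) :=
  Submodule.mapQ_apply _ _ _ _

theorem Hmap_isGrHom (i : ℕ) : GrLC.IsGrHom (E.Hgr a i) (F.Hgr a i) (c.Hmap a i) := by
  rintro g _ ⟨z, hz, rfl⟩
  refine ⟨c.cocycMap a i z, c.grHom i g _ hz, (c.Hmap_toH a i z).symm⟩

end ChainLift


section Exists

variable (E : GrLC.StarInjRes 𝒜 ℳ) (F : GrLC.StarInjRes 𝒜 𝒩) (f : M →ₗ[R] N)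

/-- partial lifts -/
def LiftAt (n : ℕ) : Type u :=
  {φ : (E.X n).carrier →ₗ[R] (F.X n).carrier // GrLC.IsGrHom (E.X n).gr (F.X n).gr φ ∧
    ∀ x, E.d n x = 0 → F.d n (φ x) = 0}

theorem exists_liftAt_zero (hf : GrLC.IsGrHom ℳ 𝒩 f) :
    ∃ φ : LiftAt E F 0, ∀ m, φ.1 (E.ε m) = F.ε (f m) := by
  obtain ⟨w, hw, hwu⟩ := starInj_factor 𝒜 (F.X 0) (F.starInj 0) (GrLC.GMod.of 𝒜 M ℳ) (E.X 0)
    E.ε E.ε_grHom (F.ε ∘ₗ f) (fun g m hm => F.ε_grHom g _ (hf g m hm))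
    (fun (x : M) hx => by
      have h0 : E.ε x = 0 := hx
      have : x = 0 := E.ε_injective (h0.trans (map_zero E.ε).symm)
      change F.ε (f x) = 0
      rw [this, map_zero, map_zero])
  refine ⟨⟨w, hw, fun x hx => ?_⟩, fun m => hwu m⟩
  obtain ⟨m, rfl⟩ := exists_of_d_zero_eq_zero E hx
  rw [show w (E.ε m) = F.ε (f m) from hwu m]
  exact d_ε F (f m)

theorem exists_liftAt_succ (n : ℕ) (φ : LiftAt E F n) :
    ∃ ψ : LiftAt E F (n + 1), ∀ x, ψ.1 (E.d n x) = F.d n (φ.1 x) := by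
  obtain ⟨w, hw, hwu⟩ := starInj_factor 𝒜 (F.X (n + 1)) (F.starInj (n + 1)) (E.X n) (E.X (n + 1))
    (E.d n) (E.d_grHom n) (F.d n ∘ₗ φ.1) (fun g m hm => F.d_grHom n g _ (φ.2.1 g m hm))
    (fun x hx => φ.2.2 x hx)
  refine ⟨⟨w, hw, fun x hx => ?_⟩, hwu⟩
  obtain ⟨y, rfl⟩ := exists_of_d_succ_eq_zero E hx
  rw [hwu]
  exact d_d F n (φ.1 y)

/-- a chosen sequence of partial lifts -/
noncomputable def liftSeq (hf : GrLC.IsGrHom ℳ 𝒩 f) : ∀ n, LiftAt E F n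
  | 0 => (exists_liftAt_zero E F f hf).choose
  | n + 1 => (exists_liftAt_succ E F n (liftSeq hf n)).choose

/-- chain lifts exist -/
theorem exists_chainLift (hf : GrLC.IsGrHom ℳ 𝒩 f) : Nonempty (ChainLift 𝒜 ℳ 𝒩 E F f) :=
  ⟨{ φ := fun n => (liftSeq E F f hf n).1
     grHom := fun n => (liftSeq E F f hf n).2.1
     comm_ε := (exists_liftAt_zero E F f hf).choose_spec
     comm_d := fun n => (exists_liftAt_succ E F n (liftSeq E F f hf n)).choose_spec }⟩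

variable {E F f}

/-- the homotopy between two lifts, as far as needed -/
theorem exists_homotopy (c c' : ChainLift 𝒜 ℳ 𝒩 E F f) (n : ℕ) :
    ∃ s : (E.X (n + 1)).carrier →ₗ[R] (F.X n).carrier,
      GrLC.IsGrHom (E.X (n + 1)).gr (F.X n).gr s ∧
        ∀ y, E.d (n + 1) y = 0 → c.φ (n + 1) y - c'.φ (n + 1) y = F.d n (s y) := by
  induction n with
  | zero =>
    obtain ⟨s, hs, hsu⟩ := starInj_factor 𝒜 (F.X 0) (F.starInj 0) (E.X 0) (E.X 1)
      (E.d 0) (E.d_grHom 0) (c.φ 0 - c'.φ 0)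
      (fun g m hm => sub_mem (c.grHom 0 g m hm) (c'.grHom 0 g m hm))
      (fun x hx => by
        obtain ⟨m, rfl⟩ := exists_of_d_zero_eq_zero E hx
        rw [LinearMap.sub_apply, c.comm_ε, c'.comm_ε, sub_self])
    refine ⟨s, hs, fun y hy => ?_⟩
    obtain ⟨x, rfl⟩ := exists_of_d_succ_eq_zero E hy
    rw [c.comm_d, c'.comm_d, hsu, LinearMap.sub_apply, map_sub]
  | succ n ih =>
    obtain ⟨s, hs, hQ⟩ := ih
    obtain ⟨t, ht, htu⟩ := starInj_factor 𝒜 (F.X (n + 1)) (F.starInj (n + 1)) (E.X (n + 1))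
      (E.X (n + 2)) (E.d (n + 1)) (E.d_grHom (n + 1)) (c.φ (n + 1) - c'.φ (n + 1) - F.d n ∘ₗ s)
      (fun g m hm => sub_mem (sub_mem (c.grHom _ g m hm) (c'.grHom _ g m hm))
        (F.d_grHom n g _ (hs g m hm)))
      (fun x hx => by
        rw [LinearMap.sub_apply, LinearMap.sub_apply, LinearMap.comp_apply, hQ x hx, sub_self])
    refine ⟨t, ht, fun y hy => ?_⟩
    obtain ⟨x, rfl⟩ := exists_of_d_succ_eq_zero E hy
    rw [c.comm_d, c'.comm_d, htu, LinearMap.sub_apply, LinearMap.sub_apply, LinearMap.comp_apply,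
      map_sub, map_sub, d_d F n, sub_zero]

/-- two lifts of the same map induce the same map on graded local cohomology -/
theorem ChainLift.Hmap_eq (c c' : ChainLift 𝒜 ℳ 𝒩 E F f) (a : HomogeneousIdeal 𝒜) (i : ℕ) :
    c.Hmap a i = c'.Hmap a i := by
  apply LinearMap.ext
  intro x
  obtain ⟨z, rfl⟩ := Submodule.mkQ_surjective _ x
  change c.Hmap a i (E.toH a i z) = c'.Hmap a i (E.toH a i z)
  rw [c.Hmap_toH, c'.Hmap_toH]
  rw [← sub_eq_zero, ← map_sub, Submodule.mkQ_apply, Submodule.Quotient.mk_eq_zero]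
  change c.φ i z - c'.φ i z ∈ F.cobdy a i
  cases i with
  | zero =>
    obtain ⟨m, hm⟩ := exists_of_d_zero_eq_zero E (show E.d 0 z = 0 from z.2.2)
    rw [← hm, c.comm_ε, c'.comm_ε, sub_self]
    exact zero_mem _
  | succ n =>
    obtain ⟨s, -, hs⟩ := exists_homotopy c c' n
    rw [hs z z.2.2]
    exact ⟨s z, map_mem_gam s a.toIdeal z.2.1, rfl⟩

end Exists

section Functor

variable {L : Type u} [AddCommGroup L] [Module R L] {𝓛 : ι → AddSubgroup L}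
  [DirectSum.Decomposition 𝓛] [SetLike.GradedSMul 𝒜 𝓛]

/-- the identity lift -/
def ChainLift.id (E : GrLC.StarInjRes 𝒜 ℳ) : ChainLift 𝒜 ℳ ℳ E E LinearMap.id where
  φ _ := LinearMap.id
  grHom _ := fun _ _ h => h
  comm_ε _ := rfl
  comm_d _ _ := rfl

/-- composition of lifts -/
def ChainLift.comp {E : GrLC.StarInjRes 𝒜 ℳ} {F : GrLC.StarInjRes 𝒜 𝒩} {G : GrLC.StarInjRes 𝒜 𝓛}
    {f : M →ₗ[R] N} {g : N →ₗ[R] L} (c : ChainLift 𝒜 ℳ 𝒩 E F f) (c' : ChainLift 𝒜 𝒩 𝓛 F G g) :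
    ChainLift 𝒜 ℳ 𝓛 E G (g ∘ₗ f) where
  φ n := c'.φ n ∘ₗ c.φ n
  grHom n := fun k x hx => c'.grHom n k _ (c.grHom n k x hx)
  comm_ε m := by
    rw [LinearMap.comp_apply, c.comm_ε, c'.comm_ε, LinearMap.comp_apply]
  comm_d n x := by
    rw [LinearMap.comp_apply, c.comm_d, c'.comm_d, LinearMap.comp_apply]

theorem ChainLift.id_Hmap (E : GrLC.StarInjRes 𝒜 ℳ) (a : HomogeneousIdeal 𝒜) (i : ℕ) :
    (ChainLift.id E).Hmap a i = LinearMap.id := by
  apply LinearMap.ext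
  intro x
  obtain ⟨z, rfl⟩ := Submodule.mkQ_surjective _ x
  change (ChainLift.id E).Hmap a i (E.toH a i z) = _
  rw [ChainLift.Hmap_toH]
  rfl

theorem ChainLift.comp_Hmap {E : GrLC.StarInjRes 𝒜 ℳ} {F : GrLC.StarInjRes 𝒜 𝒩}
    {G : GrLC.StarInjRes 𝒜 𝓛} {f : M →ₗ[R] N} {g : N →ₗ[R] L} (c : ChainLift 𝒜 ℳ 𝒩 E F f)
    (c' : ChainLift 𝒜 𝒩 𝓛 F G g) (a : HomogeneousIdeal 𝒜) (i : ℕ) :
    (c.comp c').Hmap a i = c'.Hmap a i ∘ₗ c.Hmap a i := by
  apply LinearMap.ext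
  intro x
  obtain ⟨z, rfl⟩ := Submodule.mkQ_surjective _ x
  change (c.comp c').Hmap a i (E.toH a i z) = c'.Hmap a i (c.Hmap a i (E.toH a i z))
  rw [ChainLift.Hmap_toH, ChainLift.Hmap_toH, ChainLift.Hmap_toH]
  rfl

variable (E : GrLC.StarInjRes 𝒜 ℳ) (F : GrLC.StarInjRes 𝒜 𝒩) (G : GrLC.StarInjRes 𝒜 𝓛)
  (a : HomogeneousIdeal 𝒜)

/-- THE map induced on graded local cohomology by a homogeneous map, computed from given
*injective resolutions -/
noncomputable def Hmap (f : M →ₗ[R] N) (hf : GrLC.IsGrHom ℳ 𝒩 f) (i : ℕ) : E.H a i →ₗ[R] F.H a i :=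
  (Classical.choice (exists_chainLift E F f hf)).Hmap a i

variable {E F G}

theorem Hmap_eq_chainLift {f : M →ₗ[R] N} (hf : GrLC.IsGrHom ℳ 𝒩 f) (c : ChainLift 𝒜 ℳ 𝒩 E F f)
    (i : ℕ) : Hmap E F a f hf i = c.Hmap a i :=
  ChainLift.Hmap_eq _ c a i

theorem Hmap_isGrHom {f : M →ₗ[R] N} (hf : GrLC.IsGrHom ℳ 𝒩 f) (i : ℕ) :
    GrLC.IsGrHom (E.Hgr a i) (F.Hgr a i) (Hmap E F a f hf i) :=
  ChainLift.Hmap_isGrHom _ a i

theorem Hmap_id (i : ℕ) : Hmap E E a LinearMap.id (fun _ _ h => h) i = LinearMap.id := by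
  rw [Hmap_eq_chainLift a _ (ChainLift.id E), ChainLift.id_Hmap]

theorem Hmap_comp {f : M →ₗ[R] N} (hf : GrLC.IsGrHom ℳ 𝒩 f) {g : N →ₗ[R] L}
    (hg : GrLC.IsGrHom 𝒩 𝓛 g) (i : ℕ) :
    Hmap E G a (g ∘ₗ f) (fun k x hx => hg k _ (hf k x hx)) i =
      Hmap F G a g hg i ∘ₗ Hmap E F a f hf i := by
  obtain ⟨c⟩ := exists_chainLift E F f hf
  obtain ⟨c'⟩ := exists_chainLift F G g hg
  rw [Hmap_eq_chainLift a _ (c.comp c'), Hmap_eq_chainLift a hf c, Hmap_eq_chainLift a hg c',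
    ChainLift.comp_Hmap]

/-- two *injective resolutions of the same module compute the same graded local cohomology -/
noncomputable def Hequiv (E E' : GrLC.StarInjRes 𝒜 ℳ) (i : ℕ) : E.H a i ≃ₗ[R] E'.H a i :=
  LinearEquiv.ofLinearMap (Hmap E E' a LinearMap.id (fun _ _ h => h) i)
    (Hmap E' E a LinearMap.id (fun _ _ h => h) i)
    (by
      have := Hmap_comp (E := E') (F := E) (G := E') a (f := LinearMap.id) (fun _ _ h => h)
        (g := LinearMap.id) (fun _ _ h => h) i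
      rw [← this]
      exact Hmap_id a i)
    (by
      have := Hmap_comp (E := E) (F := E') (G := E) a (f := LinearMap.id) (fun _ _ h => h)
        (g := LinearMap.id) (fun _ _ h => h) i
      rw [← this]
      exact Hmap_id a i)

theorem Hequiv_isGrHom (E E' : GrLC.StarInjRes 𝒜 ℳ) (i : ℕ) :
    GrLC.IsGrHom (E.Hgr a i) (E'.Hgr a i) (Hequiv a E E' i).toLinearMap :=
  Hmap_isGrHom (E := E) (F := E') a (f := LinearMap.id) (fun _ _ h => h) i

theorem Hequiv_symm_isGrHom (E E' : GrLC.StarInjRes 𝒜 ℳ) (i : ℕ) :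
    GrLC.IsGrHom (E'.Hgr a i) (E.Hgr a i) (Hequiv a E E' i).symm.toLinearMap :=
  Hmap_isGrHom (E := E') (F := E) a (f := LinearMap.id) (fun _ _ h => h) i

end Functor

end Res

end Gr

end Groth.Agent.H6
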