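import Groth.Agent.Lib.Helper6.SocGraded
import Groth.Agent.Lib.Helper6.GrAss
import Groth.Agent.Lib.Helper6.GrGamma
import Groth.Agent.Lib.Helper6.GrChain
import Groth.Agent.Lib.Helper6.GrShift

/-! *local graded rings: torsion, socles and Bass numbers at the *maximal ideal. -/

universe u
open DirectSum
set_option linter.unusedSectionVars false

namespace Groth.Agent.H6

namespace StarLoc

section Prime

variable {ι : Type} [AddCommGroup ι] [DecidableEq ι] [Module.Free ℤ ι] [Module.Finite ℤ ι]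
variable {R : Type u} [CommRing R] (𝒜 : ι → AddSubgroup R) [GradedRing 𝒜]

/-- a *maximal ideal is prime (torsion-free grading group) -/
theorem isPrime_of_isCoatom (m : HomogeneousIdeal 𝒜) (hm : IsCoatom m) : m.toIdeal.IsPrime := by
  have hne : m.toIdeal ≠ ⊤ := by
    intro h
    apply hm.1
    apply HomogeneousIdeal.toIdeal_injective
    rw [h, HomogeneousIdeal.toIdeal_top]
  refine Gr.isPrime_of_homogeneous_mem_or_mem 𝒜 m.isHomogeneous hne ?_
  intro x y hx hy hxy
  by_contra hcon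
  push Not at hcon
  obtain ⟨hxm, hym⟩ := hcon
  let S : HomogeneousIdeal 𝒜 := ⟨Ideal.span {x}, Ideal.homogeneous_span 𝒜 _ (by
    intro z hz
    rw [Set.mem_singleton_iff] at hz
    rw [hz]
    exact hx)⟩
  have hlt : m < m ⊔ S := by
    refine lt_of_le_of_ne le_sup_left ?_
    intro h
    apply hxm
    have h1 : S ≤ m := by
      rw [h]
      exact le_sup_right
    exact h1 (Ideal.subset_span (Set.mem_singleton x))
  have htop := hm.2 _ hlt
  have h1 : (1 : R) ∈ m.toIdeal ⊔ Ideal.span {x} := by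
    have h2 : (m ⊔ S).toIdeal = ⊤ := by rw [htop, HomogeneousIdeal.toIdeal_top]
    rw [HomogeneousIdeal.toIdeal_sup] at h2
    change m.toIdeal ⊔ Ideal.span {x} = ⊤ at h2
    rw [h2]
    trivial
  obtain ⟨a, ha, b, hb, hab⟩ := Submodule.mem_sup.mp h1
  obtain ⟨r, rfl⟩ := Ideal.mem_span_singleton'.mp hb
  apply hym
  have h3 : y = a * y + r * (x * y) := by
    calc y = 1 * y := (one_mul y).symm
      _ = (a + r * x) * y := by rw [hab]
      _ = _ := by ring
  rw [h3]
  exact add_mem (Ideal.mul_mem_right _ _ ha) (Ideal.mul_mem_left _ _ hxy)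

end Prime

section Torsion

variable {ι : Type} [AddCommGroup ι] [DecidableEq ι]
variable {R : Type u} [CommRing R] (𝒜 : ι → AddSubgroup R) [GradedRing 𝒜]
variable {X : Type u} [AddCommGroup X] [Module R X] (𝒳 : ι → AddSubgroup X)
  [DirectSum.Decomposition 𝒳] [SetLike.GradedSMul 𝒜 𝒳]
variable (m : HomogeneousIdeal 𝒜)

/-- a nonzero homogeneous submodule of the torsion contains a nonzero homogeneous element killed
by the ideal -/
theorem exists_homogeneous_killed (N : Submodule R X) (hN : N.IsHomogeneous 𝒳) (hN0 : N ≠ ⊥)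
    (hNg : N ≤ GrLC.gam m.toIdeal X) :
    ∃ g y, y ∈ 𝒳 g ∧ y ≠ 0 ∧ y ∈ N ∧ ∀ a ∈ m.toIdeal, a • y = 0 := by
  classical
  obtain ⟨g, x, hxN, hxg, hx0⟩ := Gr.exists_homogeneous_ne_zero 𝒳 hN hN0
  have hex : ∃ k : ℕ, ∀ r ∈ m.toIdeal ^ k, r • x = 0 := hNg hxN
  have hk0 : Nat.find hex ≠ 0 := by
    intro h0
    have h1 := Nat.find_spec hex
    rw [h0, pow_zero, Ideal.one_eq_top] at h1
    apply hx0
    have := h1 1 trivial
    rwa [one_smul] at this
  obtain ⟨k, hk⟩ := Nat.exists_eq_succ_of_ne_zero hk0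
  have hmin : ¬ ∀ r ∈ m.toIdeal ^ k, r • x = 0 := Nat.find_min hex (by omega)
  push Not at hmin
  obtain ⟨r, hr, hrx⟩ := hmin
  -- a homogeneous component of `r` not killing `x`
  have hcomp : ∃ h, Gr.proj 𝒜 h r • x ≠ 0 := by
    by_contra hcon
    push Not at hcon
    apply hrx
    obtain ⟨s, hs⟩ := Gr.exists_finset_sum_proj 𝒜 r
    rw [← hs, Finset.sum_smul]
    exact Finset.sum_eq_zero fun h _ => hcon h
  obtain ⟨h, hh⟩ := hcomp
  have hrh : Gr.proj 𝒜 h r ∈ m.toIdeal ^ k := Gr.pow_isHomogeneous 𝒜 m k h hr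
  refine ⟨h + g, Gr.proj 𝒜 h r • x, ?_, hh, N.smul_mem _ hxN, ?_⟩
  · exact SetLike.GradedSMul.smul_mem (A := 𝒜) (B := 𝒳) (Gr.proj_mem 𝒜 h r) hxg
  · intro a ha
    rw [← mul_smul]
    have h1 := Nat.find_spec hex
    rw [hk, pow_succ'] at h1
    exact h1 _ (Ideal.mul_mem_mul ha hrh)

variable (hm : IsCoatom m)

include hm in
/-- the annihilator of a nonzero homogeneous element killed by the *maximal ideal is that ideal -/
theorem mem_of_smul_eq_zero {g : ι} {y : X} (hy : y ∈ 𝒳 g) (hy0 : y ≠ 0)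
    (hmy : ∀ a ∈ m.toIdeal, a • y = 0) {a : R} (ha : a • y = 0) : a ∈ m.toIdeal := by
  let J : HomogeneousIdeal 𝒜 := ⟨(Submodule.span R {y}).annihilator,
    Gr.annihilator_isHomogeneous 𝒜 𝒳 hy⟩
  have hmJ : m ≤ J := by
    intro b hb
    change b ∈ (Submodule.span R {y}).annihilator
    rw [Submodule.mem_annihilator_span_singleton]
    exact hmy b hb
  have hJtop : J ≠ ⊤ := by
    intro h
    have h1 : (1 : R) ∈ J.toIdeal := by rw [h, HomogeneousIdeal.toIdeal_top]; trivial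
    change (1 : R) ∈ (Submodule.span R {y}).annihilator at h1
    rw [Submodule.mem_annihilator_span_singleton, one_smul] at h1
    exact hy0 h1
  have hJm : J = m := by
    by_contra hne
    exact hJtop (hm.2 J (lt_of_le_of_ne hmJ (Ne.symm hne)))
  rw [← hJm]
  change a ∈ (Submodule.span R {y}).annihilator
  rw [Submodule.mem_annihilator_span_singleton]
  exact ha

end Torsion


section Socle

variable {ι : Type} [AddCommGroup ι] [DecidableEq ι]
variable {R : Type u} [CommRing R] [IsNoetherianRing R] (𝒜 : ι → AddSubgroup R) [GradedRing 𝒜]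
variable {X : Type u} [AddCommGroup X] [Module R X] (𝒳 : ι → AddSubgroup X)
  [DirectSum.Decomposition 𝒳] [SetLike.GradedSMul 𝒜 𝒳]
variable (m : HomogeneousIdeal 𝒜) [hp : m.toIdeal.IsPrime]

omit [IsNoetherianRing R] in
theorem mk_mem_soc {y : X} (hmy : ∀ a ∈ m.toIdeal, a • y = 0) :
    LocalizedModule.mk y (1 : m.toIdeal.primeCompl) ∈ Soc.soc m.toIdeal X := by
  rw [Soc.mk_mem_soc_iff]
  intro a ha
  exact ⟨1, by rw [hmy a ha, smul_zero]⟩

/-- a nonzero Bass number in degree zero gives a nonzero homogeneous element killed by the ideal -/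
theorem exists_homogeneous_of_bassNum_ne_zero (h : GrLC.bassNum m.toIdeal X 0 ≠ 0) :
    ∃ g y, y ∈ 𝒳 g ∧ y ≠ 0 ∧ ∀ a ∈ m.toIdeal, a • y = 0 := by
  by_contra hcon
  push Not at hcon
  apply h
  rw [Soc.bassNum_zero_eq]
  have hle : Soc.soc m.toIdeal X ≤ ⊥ := by
    apply Soc.soc_le 𝒜 𝒳 m.toIdeal m.isHomogeneous
    intro g y hy hmy
    have : y = 0 := by
      by_contra hy0
      obtain ⟨a, ha, hay⟩ := hcon g y hy hy0
      exact hay (hmy a ha)
    rw [this, LocalizedModule.zero_mk]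
    exact zero_mem _
  haveI : Subsingleton (Soc.soc m.toIdeal X) := by
    rw [le_bot_iff] at hle
    rw [hle]
    infer_instance
  exact Module.length_eq_zero

variable (hm : IsCoatom m)

include hm in
omit [IsNoetherianRing R] in
theorem mk_ne_zero {g : ι} {y : X} (hy : y ∈ 𝒳 g) (hy0 : y ≠ 0)
    (hmy : ∀ a ∈ m.toIdeal, a • y = 0) :
    LocalizedModule.mk y (1 : m.toIdeal.primeCompl) ≠ 0 := by
  intro h
  rw [← LocalizedModule.zero_mk (1 : m.toIdeal.primeCompl), LocalizedModule.mk_eq] at h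
  obtain ⟨t, ht⟩ := h
  rw [one_smul, one_smul, smul_zero] at ht
  exact t.2 (mem_of_smul_eq_zero 𝒜 𝒳 m hm hy hy0 hmy ht)

include hm 𝒳 in
/-- nonzero torsion at the *maximal ideal gives a nonzero Bass number in degree zero -/
theorem bassNum_zero_ne_zero_of_gam_ne_bot (h : GrLC.gam m.toIdeal X ≠ ⊥) :
    GrLC.bassNum m.toIdeal X 0 ≠ 0 := by
  obtain ⟨g, y, hy, hy0, -, hmy⟩ := exists_homogeneous_killed 𝒜 𝒳 m _
    (Gr.gam_isHomogeneous 𝒜 𝒳 m) h le_rfl
  rw [Soc.bassNum_zero_eq]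
  intro hlen
  have hsub : Subsingleton (Soc.soc m.toIdeal X) := Module.length_eq_zero_iff.mp hlen
  have hmem := mk_mem_soc 𝒜 m hmy
  have hbot : Soc.soc m.toIdeal X = ⊥ := Submodule.eq_bot_of_subsingleton
  rw [hbot, Submodule.mem_bot] at hmem
  exact mk_ne_zero 𝒜 𝒳 m hm hy hy0 hmy hmem

include hm 𝒳 in
theorem gam_eq_bot_of_bassNum_zero (h : GrLC.bassNum m.toIdeal X 0 = 0) :
    GrLC.gam m.toIdeal X = ⊥ := by
  by_contra hne
  exact bassNum_zero_ne_zero_of_gam_ne_bot 𝒜 𝒳 m hm hne h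

end Socle

end StarLoc

end Groth.Agent.H6
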