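import Groth.Agent.Lib.Helper6.GrInjDim
import Groth.Agent.Lib.Helper6.GrCanLoc
import Groth.Agent.Lib.Helper6.GrLCCompare
import Groth.Agent.Lib.Helper6.BassRes
import Groth.Agent.Lib.Helper6.GorGlobal
import Groth.Agent.Lib.Helper6.GorBass
import Groth.Agent.Lib.Helper6.GrStarLocal
import Groth.Agent.Lib.Helper6.CanBass

/-! A Cohen–Macaulay *local ℤ-graded ring whose top graded local cohomology is *injective is
Gorenstein. -/

universe u
open DirectSum CategoryTheory CategoryTheory.Abelian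
open scoped TensorProduct
set_option linter.unusedSectionVars false

namespace Groth.Agent.H6

namespace GorInj

section Star

variable {R : Type u} [CommRing R] [IsNoetherianRing R] (𝒜 : ℤ → AddSubgroup R) [GradedRing 𝒜]
variable {C : Type u} [AddCommGroup C] [Module R C] [Module.Finite R C] (𝒞 : ℤ → AddSubgroup C)
  [DirectSum.Decomposition 𝒞] [SetLike.GradedSMul 𝒜 𝒞]
variable (m : Ideal R) [hm : m.IsPrime]
  (hstar : ∀ P : Ideal R, P.IsHomogeneous 𝒜 → P ≠ ⊤ → P ≤ m)

include 𝒞 hstar in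
/-- finite injective dimension at the `*maximal` ideal (only assumed prime) implies finite
injective dimension -/
theorem hasInjectiveDimensionLT_of_star' (n : ℕ)
    (hinj : HasInjectiveDimensionLT (ModuleCat.of (Localization.AtPrime m)
      (LocalizedModule m.primeCompl C)) (n + 1)) :
    HasInjectiveDimensionLT (ModuleCat.of R C) (n + 2) := by
  refine (ModuleCat.hasInjectiveDimensionLE_iff_forall_maximalSpectrum (n + 1)
    (ModuleCat.of R C)).mpr fun 𝔪 => ?_
  haveI h𝔪 : 𝔪.1.IsMaximal := 𝔪.2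
  change HasInjectiveDimensionLT _ (n + 1 + 1)
  suffices hsuff : HasInjectiveDimensionLT (ModuleCat.of (Localization.AtPrime 𝔪.1)
      (LocalizedModule 𝔪.1.primeCompl C)) (n + 1 + 1) from
    hasInjectiveDimensionLT_of_iso (GrInjDim.locIso C 𝔪.1.primeCompl).symm (n + 1 + 1)
  by_cases heq : 𝔪.1 = m
  · have : HasInjectiveDimensionLT (ModuleCat.of (Localization.AtPrime 𝔪.1)
        (LocalizedModule 𝔪.1.primeCompl C)) (n + 1) :=
      GrInjDim.injdim_congr C m 𝔪.1 heq.symm (n + 1) hinj
    exact hasInjectiveDimensionLT_of_ge _ (n + 1) (n + 1 + 1) (Nat.le_succ _)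
  · have hnh : ¬ 𝔪.1.IsHomogeneous 𝒜 := by
      intro hh
      exact heq (h𝔪.eq_of_le hm.ne_top (hstar 𝔪.1 hh h𝔪.ne_top))
    haveI hqprime : (Ideal.homogeneousCore 𝒜 𝔪.1).toIdeal.IsPrime :=
      Ideal.IsPrime.homogeneousCore h𝔪.isPrime
    have hqh : (Ideal.homogeneousCore 𝒜 𝔪.1).toIdeal.IsHomogeneous 𝒜 :=
      (Ideal.homogeneousCore 𝒜 𝔪.1).isHomogeneous
    have hqle : (Ideal.homogeneousCore 𝒜 𝔪.1).toIdeal ≤ 𝔪.1 := Ideal.toIdeal_homogeneousCore_le 𝒜 𝔪.1
    have hqm : (Ideal.homogeneousCore 𝒜 𝔪.1).toIdeal ≤ m := hstar _ hqh hqprime.ne_top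
    have hhom : ∀ s : R, (∃ d, s ∈ 𝒜 d) → s ∈ 𝔪.1 → s ∈ (Ideal.homogeneousCore 𝒜 𝔪.1).toIdeal :=
      fun s hs hsp => Ideal.mem_homogeneousCore_of_homogeneous_of_mem hs hsp
    have hne : ∃ x ∈ 𝔪.1, x ∉ (Ideal.homogeneousCore 𝒜 𝔪.1).toIdeal := by
      by_contra hcon
      push Not at hcon
      apply hnh
      have : (Ideal.homogeneousCore 𝒜 𝔪.1).toIdeal = 𝔪.1 := le_antisymm hqle hcon
      rw [← this]
      exact hqh
    haveI : IsNoetherianRing (Localization.AtPrime 𝔪.1) :=
      IsLocalization.isNoetherianRing 𝔪.1.primeCompl _ inferInstance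
    haveI : Module.Finite (Localization.AtPrime 𝔪.1) (LocalizedModule 𝔪.1.primeCompl C) :=
      Module.Finite.of_isLocalizedModule 𝔪.1.primeCompl
        (LocalizedModule.mkLinearMap 𝔪.1.primeCompl C)
    apply Bass.hasInjectiveDimensionLT_of_residue (ModuleCat.of (Localization.AtPrime 𝔪.1)
      (LocalizedModule 𝔪.1.primeCompl C)) (n + 1)
    intro j hj
    obtain ⟨j', rfl⟩ : ∃ j', j = j' + 1 := ⟨j - 1, by omega⟩
    have h1 := BassStar.bassNum_succ 𝒜 𝒞 _ hqh 𝔪.1 hqle hhom hne j'
    have h2 : GrLC.bassNum (Ideal.homogeneousCore 𝒜 𝔪.1).toIdeal C j' = 0 := by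
      haveI := GrInjDim.ext_residue_subsingleton C m n hinj (Ideal.homogeneousCore 𝒜 𝔪.1).toIdeal hqm j'
        (by omega)
      exact Module.length_eq_zero_iff.mpr inferInstance
    rw [h2] at h1
    exact Module.length_eq_zero_iff.mp h1

end Star

section Le

variable {ι : Type} [AddCommGroup ι] [DecidableEq ι]
variable {R : Type u} [CommRing R] [IsNoetherianRing R] (𝒜 : ι → AddSubgroup R) [GradedRing 𝒜]

/-- in a *local ring every proper homogeneous ideal lies in the *maximal ideal -/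
theorem le_of_isStarLocal (m : HomogeneousIdeal 𝒜) (hm : GrLC.IsStarLocal 𝒜 m) (P : Ideal R)
    (hP : P.IsHomogeneous 𝒜) (hne : P ≠ ⊤) : P ≤ m.toIdeal := by
  let S : Set (Ideal R) := {J | J.IsHomogeneous 𝒜 ∧ J ≠ ⊤ ∧ P ≤ J}
  have hS : S.Nonempty := ⟨P, hP, hne, le_rfl⟩
  obtain ⟨J, hJS, hJmax⟩ := set_has_maximal_iff_noetherian.mpr (inferInstance : IsNoetherian R R) S hS
  obtain ⟨hJh, hJne, hPJ⟩ := hJS
  have hco : IsCoatom (⟨J, hJh⟩ : HomogeneousIdeal 𝒜) := by
    refine ⟨?_, ?_⟩
    · intro h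
      apply hJne
      have := congrArg HomogeneousIdeal.toIdeal h
      rwa [HomogeneousIdeal.toIdeal_top] at this
    · intro (b : HomogeneousIdeal 𝒜) hb
      by_contra hbt
      have hbS : b.toIdeal ∈ S := by
        refine ⟨b.isHomogeneous, ?_, hPJ.trans (le_of_lt hb)⟩
        intro h
        apply hbt
        apply HomogeneousIdeal.toIdeal_injective
        rw [h, HomogeneousIdeal.toIdeal_top]
      have h1 : J < b.toIdeal := by
        refine lt_of_le_of_ne (le_of_lt hb) ?_
        intro h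
        apply ne_of_lt hb
        apply HomogeneousIdeal.toIdeal_injective
        exact h
      exact hJmax _ hbS h1
  have := hm.2 _ hco
  rw [← this]
  exact hPJ

end Le


section Main

variable {R : Type u} [CommRing R] [hCM : LocCoh.IsCohenMacaulayRing R] (𝒜 : ℤ → AddSubgroup R)
  [GradedRing 𝒜]
variable (m : HomogeneousIdeal 𝒜) (hm : GrLC.IsStarLocal 𝒜 m) (n : ℕ) (hn : m.toIdeal.height = n)
variable {X : Type u} [AddCommGroup X] [Module R X] (𝒳 : ℤ → AddSubgroup X)
  [DirectSum.Decomposition 𝒳] [SetLike.GradedSMul 𝒜 𝒳]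

include hm hn in
theorem gorenstein_of_top_starInj (hX : GrLC.IsStarInj 𝒜 𝒳)
    (ψ : X ≃ₗ[R] LocCoh.H m.toIdeal n R) : LocCoh.IsGorensteinRing R := by
  haveI hp : m.toIdeal.IsPrime := StarLoc.isPrime_of_isCoatom 𝒜 m hm.1
  haveI : LocCoh.IsCohenMacaulayLocalRing (Localization.AtPrime m.toIdeal) :=
    hCM.isCohenMacaulayLocalRing_localization m.toIdeal
  have hnA : ringKrullDim (Localization.AtPrime m.toIdeal) = (n : WithBot ℕ∞) := by
    rw [IsLocalization.AtPrime.ringKrullDim_eq_height m.toIdeal (Localization.AtPrime m.toIdeal), hn]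
    rfl
  -- the top local cohomology of `R_m`
  have e1 : LocalizedModule m.toIdeal.primeCompl X ≃ₗ[Localization.AtPrime m.toIdeal]
      LocalizedModule m.toIdeal.primeCompl (LocCoh.H m.toIdeal n R) :=
    IsLocalizedModule.mapEquiv m.toIdeal.primeCompl
      (LocalizedModule.mkLinearMap m.toIdeal.primeCompl X)
      (LocalizedModule.mkLinearMap m.toIdeal.primeCompl _) (Localization.AtPrime m.toIdeal) ψ
  obtain ⟨e2⟩ := Groth.Agent.S11618.result R m.toIdeal m.toIdeal.primeCompl R n
  have e3 := CanLoc.lcIdealCongr _ _ (Localization.AtPrime.map_eq_maximalIdeal (I := m.toIdeal)) n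
    (LocalizedModule m.toIdeal.primeCompl R)
  have e4 := CanQ.lcCongr (IsLocalRing.maximalIdeal (Localization.AtPrime m.toIdeal)) n
    (GorBass.selfEquiv m.toIdeal)
  have eH := e1.trans (e2.trans (e3.trans e4))
  have hvan : ∀ i, i ≠ n → Subsingleton ((localCohomology
      (IsLocalRing.maximalIdeal (Localization.AtPrime m.toIdeal)) i).obj
      (ModuleCat.of (Localization.AtPrime m.toIdeal) (Localization.AtPrime m.toIdeal))) :=
    fun i hi => Can.lc_vanish_of_cm n hnA i hi
  have h2 : ∀ j, n + 1 ≤ j → Subsingleton (Ext.{u}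
      (ModuleCat.of (Localization.AtPrime m.toIdeal)
        (Localization.AtPrime m.toIdeal ⧸ IsLocalRing.maximalIdeal (Localization.AtPrime m.toIdeal)))
      (ModuleCat.of (Localization.AtPrime m.toIdeal) (Localization.AtPrime m.toIdeal)) j) := by
    intro j hj
    obtain ⟨j', rfl⟩ : ∃ j', j = n + (j' + 1) := ⟨j - n - 1, by omega⟩
    obtain ⟨c⟩ := ExtLin.collapse (IsLocalRing.maximalIdeal (Localization.AtPrime m.toIdeal))
      (ModuleCat.of (Localization.AtPrime m.toIdeal)
        (IsLocalRing.ResidueField (Localization.AtPrime m.toIdeal)))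
      CanBass.residue_torsion n
      (ModuleCat.of (Localization.AtPrime m.toIdeal) (Localization.AtPrime m.toIdeal)) hvan (j' + 1)
    have c2 := ExtLin.postcompEquiv eH.symm.toModuleIso
      (ModuleCat.of (Localization.AtPrime m.toIdeal)
        (IsLocalRing.ResidueField (Localization.AtPrime m.toIdeal))) (j' + 1)
    haveI : Subsingleton (Ext.{u} (ModuleCat.of (Localization.AtPrime m.toIdeal)
        (IsLocalRing.ResidueField (Localization.AtPrime m.toIdeal)))
        (ModuleCat.of (Localization.AtPrime m.toIdeal)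
          (LocalizedModule m.toIdeal.primeCompl X)) (j' + 1)) :=
      (BassGlobal.bassNum_eq_zero_iff m.toIdeal X (j' + 1)).mp
        (Soc.bassNum_succ_eq_zero_of_starInj 𝒜 𝒳 m.toIdeal m.isHomogeneous hX j')
    exact (c.trans c2).toEquiv.subsingleton
  haveI : IsNoetherianRing (Localization.AtPrime m.toIdeal) :=
    IsLocalization.isNoetherianRing m.toIdeal.primeCompl _ inferInstance
  haveI hfinA : Module.Finite (Localization.AtPrime m.toIdeal)
      (ModuleCat.of (Localization.AtPrime m.toIdeal) (Localization.AtPrime m.toIdeal)) :=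
    Module.Finite.self _
  have hinjA : HasInjectiveDimensionLT
      (ModuleCat.of (Localization.AtPrime m.toIdeal) (Localization.AtPrime m.toIdeal)) (n + 1) :=
    Bass.hasInjectiveDimensionLT_of_residue _ n h2
  have hinj : HasInjectiveDimensionLT (ModuleCat.of (Localization.AtPrime m.toIdeal)
      (LocalizedModule m.toIdeal.primeCompl R)) (n + 1) :=
    hasInjectiveDimensionLT_of_iso (GorBass.selfEquiv m.toIdeal).toModuleIso.symm (n + 1)
  have hstar : ∀ P : Ideal R, P.IsHomogeneous 𝒜 → P ≠ ⊤ → P ≤ m.toIdeal :=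
    fun P hP hne => le_of_isStarLocal 𝒜 m hm P hP hne
  have hfin := hasInjectiveDimensionLT_of_star' 𝒜 𝒜 m.toIdeal hstar n hinj
  exact (Bass.finite_injdim_self_iff.mp ⟨n + 2, hfin⟩).1

end Main

end GorInj

end Groth.Agent.H6
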