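import Groth.Agent.Lib.Helper6.GrPos
import Groth.Agent.Lib.Helper6.GrArtinian
import Groth.Agent.Lib.Helper6.GrGorInj

/-! *Local positively graded rings with Artinian degree-zero part: units in degree zero,
nilpotency, degree-one prime avoidance over an infinite residue field. -/

set_option autoImplicit false
set_option linter.unusedSectionVars false
universe u
open GrLC Groth.Agent.H6 Groth.Agent.H6.Gr

namespace Groth.Agent.H6.AInvPoly

section Units

variable {R : Type u} [CommRing R] [IsNoetherianRing R] (𝒜 : ℤ → AddSubgroup R) [GradedRing 𝒜]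
  (hpos : ∀ n : ℤ, n < 0 → 𝒜 n = ⊥) (m : HomogeneousIdeal 𝒜) (hm : GrLC.IsStarLocal 𝒜 m)

include hm in
theorem isUnit_of_deg0_notMem {a : R} (ha : a ∈ 𝒜 0) (ham : a ∉ m.toIdeal) : IsUnit a := by
  rw [← Ideal.span_singleton_eq_top]
  by_contra hne
  have hh : (Ideal.span {a}).IsHomogeneous 𝒜 := span_singleton_isHomogeneous 𝒜 𝒜 ha
  have hle := GorInj.le_of_isStarLocal 𝒜 m hm _ hh hne
  exact ham (hle (Ideal.subset_span rfl))

include hm in
/-- the inverse lies in degree zero -/
theorem exists_deg0_inv {a : R} (ha : a ∈ 𝒜 0) (ham : a ∉ m.toIdeal) :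
    ∃ b ∈ 𝒜 0, b * a = 1 := by
  obtain ⟨b, hb⟩ := (isUnit_of_deg0_notMem 𝒜 m hm ha ham).exists_left_inv
  refine ⟨proj 𝒜 0 b, proj_mem 𝒜 0 b, ?_⟩
  have h1 := proj_mul_of_mem_right 𝒜 ha 0 b
  rw [sub_zero, hb, proj_of_mem 𝒜 (SetLike.GradedOne.one_mem (A := 𝒜))] at h1
  exact h1.symm

include hpos hm in
theorem sub_proj_zero_mem (r : R) : r - proj 𝒜 0 r ∈ m.toIdeal := by
  induction r using induction_on 𝒜 with
  | zero => rw [map_zero, sub_zero]; exact zero_mem _
  | homogeneous i s hs =>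
    rcases lt_trichotomy i 0 with hi | hi | hi
    · have : s = 0 := by
        have h1 := hpos i hi
        rw [h1] at hs
        exact hs
      rw [this, map_zero, sub_zero]
      exact zero_mem _
    · subst hi
      rw [proj_of_mem 𝒜 hs, sub_self]
      exact zero_mem _
    · rw [proj_of_mem_ne 𝒜 hs (ne_of_gt hi), sub_zero]
      exact pos_mem_of_isCoatom hpos m hm.1 hi hs
  | add s s' h1 h2 =>
    have : s + s' - proj 𝒜 0 (s + s') = (s - proj 𝒜 0 s) + (s' - proj 𝒜 0 s') := by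
      rw [map_add]; abel
    rw [this]
    exact add_mem h1 h2

include hm in
theorem one_notMem : (1 : R) ∉ m.toIdeal := by
  intro h1
  apply hm.1.1
  apply HomogeneousIdeal.toIdeal_injective
  rw [HomogeneousIdeal.toIdeal_top]
  exact (Ideal.eq_top_iff_one _).mpr h1

include hm in
/-- elements of `m` of degree zero are nilpotent when `R_0` is Artinian -/
theorem isNilpotent_of_deg0_mem [IsArtinianRing (GrLC.deg0 𝒜)] {a : R} (ha : a ∈ 𝒜 0)
    (ham : a ∈ m.toIdeal) : IsNilpotent a := by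
  set a0 : GrLC.deg0 𝒜 := ⟨a, ha⟩ with ha0
  have hj : a0 ∈ Ideal.jacobson (⊥ : Ideal (GrLC.deg0 𝒜)) := by
    rw [Ideal.mem_jacobson_bot]
    intro y
    have h1 : ((a0 * y + 1 : GrLC.deg0 𝒜) : R) ∉ m.toIdeal := by
      intro h
      have h2 : ((a0 * y : GrLC.deg0 𝒜) : R) ∈ m.toIdeal := by
        change a * (y : R) ∈ m.toIdeal
        exact Ideal.mul_mem_right _ _ ham
      have h3 : (1 : R) ∈ m.toIdeal := by
        have := sub_mem h h2
        simpa using this
      exact one_notMem 𝒜 m hm h3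
    obtain ⟨b, hb, hba⟩ := exists_deg0_inv 𝒜 m hm (a0 * y + 1 : GrLC.deg0 𝒜).2 h1
    exact IsUnit.of_mul_eq_one ⟨b, hb⟩ (by
      apply Subtype.ext
      rw [mul_comm]
      exact hba)
  obtain ⟨k, hk⟩ := IsArtinianRing.isNilpotent_jacobson_bot (R := GrLC.deg0 𝒜)
  refine ⟨k, ?_⟩
  have h1 : a0 ^ k ∈ Ideal.jacobson (⊥ : Ideal (GrLC.deg0 𝒜)) ^ k := Ideal.pow_mem_pow hj k
  rw [hk] at h1
  have h2 : a0 ^ k = 0 := h1
  have := congrArg (fun z : GrLC.deg0 𝒜 => (z : R)) h2
  simpa using this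

variable (hstd : Ideal.span (⋃ n ∈ Set.Ioi (0 : ℤ), (𝒜 n : Set R)) = Ideal.span ((𝒜 1 : AddSubgroup R) : Set R))

include hpos hm hstd in
theorem exists_pow_le_span_deg1 [IsArtinianRing (GrLC.deg0 𝒜)] :
    ∃ k : ℕ, m.toIdeal ^ k ≤ Ideal.span ((𝒜 1 : AddSubgroup R) : Set R) := by
  apply Ideal.exists_pow_le_of_le_radical_of_fg _ ((isNoetherianRing_iff_ideal_fg R).mp inferInstance _)
  intro r hr
  have h0 : proj 𝒜 0 r ∈ m.toIdeal := m.isHomogeneous 0 hr
  obtain ⟨k, hk⟩ := isNilpotent_of_deg0_mem 𝒜 m hm (proj_mem 𝒜 0 r) h0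
  have hsub : r - proj 𝒜 0 r ∈ Ideal.span ((𝒜 1 : AddSubgroup R) : Set R) := by
    rw [← hstd]
    clear hk h0 hr
    induction r using induction_on 𝒜 with
    | zero => rw [map_zero, sub_zero]; exact zero_mem _
    | homogeneous i s hs =>
      rcases lt_trichotomy i 0 with hi | hi | hi
      · have : s = 0 := by
          have h1 := hpos i hi
          rw [h1] at hs
          exact hs
        rw [this, map_zero, sub_zero]
        exact zero_mem _
      · subst hi
        rw [proj_of_mem 𝒜 hs, sub_self]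
        exact zero_mem _
      · rw [proj_of_mem_ne 𝒜 hs (ne_of_gt hi), sub_zero]
        apply Ideal.subset_span
        simp only [Set.mem_iUnion]
        exact ⟨i, hi, hs⟩
    | add s s' h1 h2 =>
      have : s + s' - proj 𝒜 0 (s + s') = (s - proj 𝒜 0 s) + (s' - proj 𝒜 0 s') := by
        rw [map_add]; abel
      rw [this]
      exact add_mem h1 h2
  refine ⟨k, ?_⟩
  rw [← Ideal.Quotient.eq_zero_iff_mem, map_pow]
  have h1 : Ideal.Quotient.mk (Ideal.span ((𝒜 1 : AddSubgroup R) : Set R)) r =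
      Ideal.Quotient.mk _ (proj 𝒜 0 r) := by
    rw [Ideal.Quotient.eq]
    exact hsub
  rw [h1, ← map_pow, hk, map_zero]

end Units

section Avoid

variable {R : Type u} [CommRing R] [IsNoetherianRing R] (𝒜 : ℤ → AddSubgroup R) [GradedRing 𝒜]
  (hpos : ∀ n : ℤ, n < 0 → 𝒜 n = ⊥) (m : HomogeneousIdeal 𝒜) (hm : GrLC.IsStarLocal 𝒜 m)

include hpos hm in
/-- a section of `R_0 → R/m` -/
theorem exists_section : ∃ c : R ⧸ m.toIdeal → R, (∀ t, c t ∈ 𝒜 0) ∧
    ∀ t, Ideal.Quotient.mk m.toIdeal (c t) = t := by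
  have h : ∀ t : R ⧸ m.toIdeal, ∃ c : R, c ∈ 𝒜 0 ∧ Ideal.Quotient.mk m.toIdeal c = t := by
    intro t
    obtain ⟨r, rfl⟩ := Ideal.Quotient.mk_surjective t
    refine ⟨proj 𝒜 0 r, proj_mem 𝒜 0 r, ?_⟩
    rw [Ideal.Quotient.eq]
    have := sub_proj_zero_mem 𝒜 hpos m hm r
    rw [← neg_sub]
    exact neg_mem this
  choose c hc1 hc2 using h
  exact ⟨c, hc1, hc2⟩

include hpos hm in
/-- degree-one prime avoidance over an infinite residue field -/
theorem exists_deg1_avoid [Infinite (R ⧸ m.toIdeal)] (P : Finset (Ideal R))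
    (hP : ∀ p ∈ P, ∃ y ∈ 𝒜 1, y ∉ p) : ∃ x ∈ 𝒜 1, ∀ p ∈ P, x ∉ p := by
  classical
  obtain ⟨c, hc0, hcm⟩ := exists_section 𝒜 hpos m hm
  have hunit : ∀ t t' : R ⧸ m.toIdeal, t ≠ t' → IsUnit (c t - c t') := by
    intro t t' htt
    apply isUnit_of_deg0_notMem 𝒜 m hm (sub_mem (hc0 t) (hc0 t'))
    intro hmem
    apply htt
    rw [← hcm t, ← hcm t', Ideal.Quotient.eq]
    exact hmem
  induction P using Finset.induction_on with
  | empty => exact ⟨0, zero_mem _, fun p hp => absurd hp (Finset.notMem_empty p)⟩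
  | insert q P hq ih =>
    obtain ⟨x, hx1, hx⟩ := ih (fun p hp => hP p (Finset.mem_insert_of_mem hp))
    by_cases hxq : x ∉ q
    · refine ⟨x, hx1, fun p hp => ?_⟩
      rcases Finset.mem_insert.mp hp with rfl | hp
      · exact hxq
      · exact hx p hp
    rw [not_not] at hxq
    obtain ⟨y, hy1, hyq⟩ := hP q (Finset.mem_insert_self q P)
    -- the elements `y + c t * x`
    have hz1 : ∀ t, y + c t * x ∈ 𝒜 1 := by
      intro t
      refine add_mem hy1 ?_
      have := SetLike.GradedMul.mul_mem (hc0 t) hx1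
      rwa [zero_add] at this
    have hzq : ∀ t, y + c t * x ∉ q := by
      intro t h
      apply hyq
      have := sub_mem h (Ideal.mul_mem_left q (c t) hxq)
      simpa using this
    by_contra hcon
    push Not at hcon
    have hbad : ∀ t : R ⧸ m.toIdeal, ∃ p ∈ P, y + c t * x ∈ p := by
      intro t
      obtain ⟨p, hp, hmem⟩ := hcon (y + c t * x) (hz1 t)
      rcases Finset.mem_insert.mp hp with rfl | hp
      · exact absurd hmem (hzq t)
      · exact ⟨p, hp, hmem⟩
    choose f hfP hf using hbad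
    let F : R ⧸ m.toIdeal → P := fun t => ⟨f t, hfP t⟩
    obtain ⟨t, t', htt, hFF⟩ := Finite.exists_ne_map_eq_of_infinite F
    have hff : f t = f t' := congrArg Subtype.val hFF
    have h1 := hf t
    have h2 := hf t'
    rw [← hff] at h2
    have h3 : (c t - c t') * x ∈ f t := by
      have := sub_mem h1 h2
      have e : y + c t * x - (y + c t' * x) = (c t - c t') * x := by ring
      rwa [e] at this
    obtain ⟨u, hu⟩ := (hunit t t' htt).exists_left_inv
    have h4 : x ∈ f t := by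
      have := Ideal.mul_mem_left (f t) u h3
      rwa [← mul_assoc, hu, one_mul] at this
    exact hx (f t) (hfP t) h4

variable (hstd : Ideal.span (⋃ n ∈ Set.Ioi (0 : ℤ), (𝒜 n : Set R)) = Ideal.span ((𝒜 1 : AddSubgroup R) : Set R))

include hpos hm hstd in
/-- a module without `m`-torsion has a non-zerodivisor of degree one -/
theorem exists_deg1_regular [IsArtinianRing (GrLC.deg0 𝒜)] [Infinite (R ⧸ m.toIdeal)]
    (M : Type u) [AddCommGroup M] [Module R M] [Module.Finite R M]
    (hM : GrLC.gam m.toIdeal M = ⊥) : ∃ x ∈ 𝒜 1, IsSMulRegular M x := by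
  classical
  have hfin : (associatedPrimes R M).Finite := associatedPrimes.finite R M
  obtain ⟨k, hk⟩ := exists_pow_le_span_deg1 𝒜 hpos m hm hstd
  obtain ⟨x, hx1, hx⟩ := exists_deg1_avoid 𝒜 hpos m hm hfin.toFinset (by
    intro p hp
    rw [Set.Finite.mem_toFinset] at hp
    by_contra hcon
    push Not at hcon
    have hle : Ideal.span ((𝒜 1 : AddSubgroup R) : Set R) ≤ p := Ideal.span_le.mpr hcon
    obtain ⟨hprime, z, hz⟩ := (isAssociatedPrime_iff).mp hp
    have hz0 : z ∈ GrLC.gam m.toIdeal M := by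
      refine ⟨k, fun r hr => ?_⟩
      have : r ∈ p := hle (hk hr)
      rw [hz, Submodule.mem_colon_singleton, Submodule.mem_bot] at this
      exact this
    rw [hM, Submodule.mem_bot] at hz0
    apply hprime.ne_top
    rw [hz, hz0, Ideal.eq_top_iff_one, Submodule.mem_colon_singleton, smul_zero]
    exact Submodule.zero_mem _)
  refine ⟨x, hx1, ?_⟩
  rw [isSMulRegular_iff_right_eq_zero_of_smul]
  intro z hz
  by_contra hz0
  have : x ∈ ⋃ p ∈ associatedPrimes R M, (p : Set R) := by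
    rw [biUnion_associatedPrimes_eq_zero_divisors]
    exact ⟨z, hz0, hz⟩
  simp only [Set.mem_iUnion, SetLike.mem_coe] at this
  obtain ⟨p, hp, hxp⟩ := this
  exact hx p (hfin.mem_toFinset.mpr hp) hxp

end Avoid

end Groth.Agent.H6.AInvPoly
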