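import Groth.Agent.Lib.Helper6.GrAInv

/-! a-invariants and regular sequences: induction along a homogeneous regular sequence. -/

set_option autoImplicit false
universe u
open GrLC Groth.Agent.H6 Groth.Agent.H6.Gr

namespace Groth.Agent.H6.AInv

section Congr

theorem endDeg_congr {H H' : Type u} [AddCommGroup H] [AddCommGroup H'] (𝒢 : ℤ → AddSubgroup H)
    (𝒢' : ℤ → AddSubgroup H') (h : ∀ n, 𝒢 n ≠ ⊥ ↔ 𝒢' n ≠ ⊥) :
    GrLC.endDeg 𝒢 = GrLC.endDeg 𝒢' := by
  unfold GrLC.endDeg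
  apply le_antisymm
  · exact iSup₂_le fun n hn => le_iSup₂ (f := fun (n : ℤ) (_ : 𝒢' n ≠ ⊥) => (((n : ℤ) : WithTop ℤ) : WithBot (WithTop ℤ))) n ((h n).mp hn)
  · exact iSup₂_le fun n hn => le_iSup₂ (f := fun (n : ℤ) (_ : 𝒢 n ≠ ⊥) => (((n : ℤ) : WithTop ℤ) : WithBot (WithTop ℤ))) n ((h n).mpr hn)

variable {R : Type u} [CommRing R] {𝒜 : ℤ → AddSubgroup R} [GradedRing 𝒜]
  {M : Type u} [AddCommGroup M] [Module R M] {ℳ : ℤ → AddSubgroup M}
  [DirectSum.Decomposition ℳ] [SetLike.GradedSMul 𝒜 ℳ]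
  {N : Type u} [AddCommGroup N] [Module R N] {𝒩 : ℤ → AddSubgroup N}
  [DirectSum.Decomposition 𝒩] [SetLike.GradedSMul 𝒜 𝒩]
  (E : GrLC.StarInjRes 𝒜 ℳ) (F : GrLC.StarInjRes 𝒜 𝒩) (a : HomogeneousIdeal 𝒜)

theorem Hmap_symm_apply (φ : M ≃ₗ[R] N) (hφ : GrLC.IsGrHom ℳ 𝒩 φ.toLinearMap)
    (hφ' : GrLC.IsGrHom 𝒩 ℳ φ.symm.toLinearMap) (i : ℕ) (w : E.H a i) :
    Hmap F E a φ.symm.toLinearMap hφ' i (Hmap E F a φ.toLinearMap hφ i w) = w := by
  have h1 := Hmap_comp (E := E) (F := F) (G := E) a hφ hφ' i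
  have h2 : φ.symm.toLinearMap ∘ₗ φ.toLinearMap = LinearMap.id := by
    ext x; simp
  have h3 := Hmap_congr E E a h2 (fun k x hx => hφ' k _ (hφ k x hx)) i
  rw [h3] at h1
  have h4 : Hmap E E a LinearMap.id (h2 ▸ (fun k x hx => hφ' k _ (hφ k x hx))) i = LinearMap.id :=
    Hmap_id a i
  rw [h4] at h1
  exact (LinearMap.congr_fun h1 w).symm

theorem Hgr_ne_bot_of_equiv (φ : M ≃ₗ[R] N) (hφ : GrLC.IsGrHom ℳ 𝒩 φ.toLinearMap)
    (hφ' : GrLC.IsGrHom 𝒩 ℳ φ.symm.toLinearMap) (i : ℕ) (n : ℤ) (h : E.Hgr a i n ≠ ⊥) :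
    F.Hgr a i n ≠ ⊥ := by
  obtain ⟨w, hw, hw0⟩ := (ne_bot_iff_exists _ n).mp h
  refine (ne_bot_iff_exists _ n).mpr ⟨Hmap E F a φ.toLinearMap hφ i w, Hmap_isGrHom a hφ i n w hw, ?_⟩
  intro h0
  apply hw0
  rw [← Hmap_symm_apply E F a φ hφ hφ' i w, h0, map_zero]

theorem endDeg_eq_of_equiv (φ : M ≃ₗ[R] N) (hφ : GrLC.IsGrHom ℳ 𝒩 φ.toLinearMap)
    (hφ' : GrLC.IsGrHom 𝒩 ℳ φ.symm.toLinearMap) (i : ℕ) :
    GrLC.endDeg (E.Hgr a i) = GrLC.endDeg (F.Hgr a i) := by
  apply endDeg_congr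
  intro n
  constructor
  · exact Hgr_ne_bot_of_equiv E F a φ hφ hφ' i n
  · have := Hgr_ne_bot_of_equiv F E a φ.symm hφ' (by simpa using hφ) i n
    exact this

end Congr

section Chain

variable {R : Type u} [CommRing R] [IsNoetherianRing R] {𝒜 : ℤ → AddSubgroup R} [GradedRing 𝒜]
  (hpos : ∀ n : ℤ, n < 0 → 𝒜 n = ⊥) (m : HomogeneousIdeal 𝒜) (hm : IsCoatom m)

omit [IsNoetherianRing R] [GradedRing 𝒜] in
theorem symm_isGrHom {M : Type u} [AddCommGroup M] [Module R M] {ℳ : ℤ → AddSubgroup M}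
    [DirectSum.Decomposition ℳ] [SetLike.GradedSMul 𝒜 ℳ]
    {N : Type u} [AddCommGroup N] [Module R N] {𝒩 : ℤ → AddSubgroup N}
    [DirectSum.Decomposition 𝒩] [SetLike.GradedSMul 𝒜 𝒩] (φ : M ≃ₗ[R] N)
    (hφ : GrLC.IsGrHom ℳ 𝒩 φ.toLinearMap) : GrLC.IsGrHom 𝒩 ℳ φ.symm.toLinearMap := by
  intro k y hy
  obtain ⟨x, rfl⟩ := φ.surjective y
  change φ.symm (φ x) ∈ ℳ k
  rw [LinearEquiv.symm_apply_apply]
  have h1 : φ.toLinearMap (proj ℳ k x) = proj 𝒩 k (φ.toLinearMap x) := isGrHom_proj ℳ 𝒩 hφ k x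
  have h2 : proj 𝒩 k (φ.toLinearMap x) = φ x := proj_of_mem 𝒩 hy
  have h3 : proj ℳ k x = x := φ.injective (h1.trans h2)
  rw [← h3]
  exact proj_mem ℳ k x

include hpos hm in
theorem chain : ∀ (t : ℕ) (M : Type u) [AddCommGroup M] [Module R M] [Module.Finite R M]
    (ℳ : ℤ → AddSubgroup M) [DirectSum.Decomposition ℳ] [SetLike.GradedSMul 𝒜 ℳ]
    (E : GrLC.StarInjRes 𝒜 ℳ) (e : ℕ) (_ : t ≤ e) (_ : ∀ j < e, Subsingleton (E.H m j))
    (f : Fin t → R) (deg : Fin t → ℤ) (_ : ∀ i, f i ∈ 𝒜 (deg i)) (_ : ∀ i, f i ∈ m.toIdeal)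
    (_ : RingTheory.Sequence.IsWeaklyRegular M (List.ofFn f))
    (N : Type u) [AddCommGroup N] [Module R N] (𝒩 : ℤ → AddSubgroup N)
    [DirectSum.Decomposition 𝒩] [SetLike.GradedSMul 𝒜 𝒩] (π : M →ₗ[R] N)
    (_ : GrLC.IsGrHom ℳ 𝒩 π) (_ : Function.Surjective π)
    (_ : LinearMap.ker π = Ideal.span (Set.range f) • (⊤ : Submodule R M))
    (F : GrLC.StarInjRes 𝒜 𝒩),
    GrLC.endDeg (F.Hgr m (e - t)) = GrLC.endDeg (E.Hgr m e) +
      ((((Finset.univ : Finset (Fin t)).sum deg : ℤ) : WithTop ℤ) : WithBot (WithTop ℤ)) := by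
  intro t
  induction t with
  | zero =>
    intro M _ _ _ ℳ _ _ E e hte hvan f deg hfdeg hfm hreg N _ _ 𝒩 _ _ π hπ hπs hπk F
    have hker : LinearMap.ker π = ⊥ := by
      rw [hπk]
      have : Set.range f = ∅ := Set.range_eq_empty f
      rw [this, Ideal.span_empty, Submodule.bot_smul]
    let φ : M ≃ₗ[R] N := LinearEquiv.ofBijective π ⟨LinearMap.ker_eq_bot.mp hker, hπs⟩
    have hφ : GrLC.IsGrHom ℳ 𝒩 φ.toLinearMap := hπ
    have := endDeg_eq_of_equiv E F m φ hφ (symm_isGrHom (𝒜 := 𝒜) φ hφ) e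
    rw [Nat.sub_zero, ← this]
    simp
  | succ t ih =>
    intro M _ _ _ ℳ _ _ E e hte hvan f deg hfdeg hfm hreg N _ _ 𝒩 _ _ π hπ hπs hπk F
    rw [List.ofFn_succ, RingTheory.Sequence.isWeaklyRegular_cons_iff] at hreg
    obtain ⟨hreg0, hreg'⟩ := hreg
    set x := f 0 with hx
    set k := deg 0 with hk
    -- the quotient by `x`
    have hdeg : GrLC.IsGrHomDeg ℳ ℳ (LinearMap.lsmul R M x) k := by
      intro g y hy
      have := SetLike.GradedSMul.smul_mem (A := 𝒜) (B := ℳ) (hfdeg 0) hy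
      rw [vadd_eq_add, add_comm] at this
      exact this
    have hK : (LinearMap.range (LinearMap.lsmul R M x)).IsHomogeneous ℳ :=
      range_isHomogeneous_deg ℳ ℳ hdeg
    obtain ⟨Qm, q, hqs, hqk, hqg⟩ := exists_gmod_quot 𝒜 ℳ _ hK
    haveI : Module.Finite R Qm.carrier := Module.Finite.of_surjective q hqs
    let E' : GrLC.StarInjRes 𝒜 Qm.gr := starInjRes 𝒜 Qm.gr
    have hker1 : LinearMap.ker q = LinearMap.range (x • (LinearMap.id : M →ₗ[R] M)) := by
      rw [hqk]
      rfl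
    have he1 : e - 1 + 1 = e := by omega
    -- step 1: the a-invariant of the quotient
    have hstep := endDeg_step hpos m hm E E' x k (hfdeg 0) (hfm 0) hreg0 q hqs hqg hker1 (e - 1)
      (hvan (e - 1) (by omega))
    rw [he1] at hstep
    -- vanishing for the quotient
    have hvan' : ∀ j < e - 1, Subsingleton (E'.H m j) := by
      intro j hj
      exact (les_facts m E E' x k (hfdeg 0) hreg0 q hqs hqg hker1 j).1 (hvan j (by omega))
        (hvan (j + 1) (by omega))
    -- the factorization of `π`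
    have hle : LinearMap.ker q ≤ LinearMap.ker π := by
      rw [hqk, hπk]
      rintro _ ⟨y, rfl⟩
      exact Submodule.smul_mem_smul (Ideal.subset_span ⟨0, rfl⟩) Submodule.mem_top
    let eq' : (M ⧸ LinearMap.ker q) ≃ₗ[R] Qm.carrier := LinearMap.quotKerEquivOfSurjective q hqs
    let π' : Qm.carrier →ₗ[R] N := (LinearMap.ker q).liftQ π hle ∘ₗ eq'.symm.toLinearMap
    have hπ'q : ∀ y : M, π' (q y) = π y := by
      intro y
      have : eq'.symm (q y) = Submodule.Quotient.mk y := by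
        rw [LinearEquiv.symm_apply_eq]
        rfl
      change (LinearMap.ker q).liftQ π hle (eq'.symm (q y)) = π y
      rw [this]
      rfl
    have hπ'g : GrLC.IsGrHom Qm.gr 𝒩 π' := by
      intro g z hz
      obtain ⟨y, rfl⟩ := hqs z
      have h1 : q (proj ℳ g y) = proj Qm.gr g (q y) := isGrHom_proj ℳ Qm.gr hqg g y
      rw [proj_of_mem Qm.gr hz] at h1
      rw [← h1, hπ'q]
      exact hπ g _ (proj_mem ℳ g y)
    have hπ's : Function.Surjective π' := by
      intro z
      obtain ⟨y, rfl⟩ := hπs z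
      exact ⟨q y, hπ'q y⟩
    have hxQ : ∀ z : Qm.carrier, x • z = 0 := by
      intro z
      obtain ⟨y, rfl⟩ := hqs z
      rw [← map_smul, ← LinearMap.mem_ker, hqk]
      exact ⟨y, rfl⟩
    have hπ'k : LinearMap.ker π' = Ideal.span (Set.range fun i : Fin t => f i.succ) •
        (⊤ : Submodule R Qm.carrier) := by
      apply le_antisymm
      · intro z hz
        obtain ⟨y, rfl⟩ := hqs z
        rw [LinearMap.mem_ker, hπ'q, ← LinearMap.mem_ker, hπk] at hz
        have hmap : q y ∈ (Ideal.span (Set.range f) • (⊤ : Submodule R M)).map q :=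
          Submodule.mem_map_of_mem hz
        rw [Submodule.map_smul'', Submodule.map_top, LinearMap.range_eq_top.mpr hqs] at hmap
        have hsplit : Ideal.span (Set.range f) = Ideal.span {x} ⊔
            Ideal.span (Set.range fun i : Fin t => f i.succ) := by
          rw [← Ideal.span_union]
          congr 1
          ext r
          constructor
          · rintro ⟨i, rfl⟩
            refine Fin.cases ?_ (fun j => ?_) i
            · left; rfl
            · right; exact ⟨j, rfl⟩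
          · rintro (h | ⟨j, rfl⟩)
            · exact ⟨0, h.symm⟩
            · exact ⟨j.succ, rfl⟩
        rw [hsplit, Submodule.sup_smul] at hmap
        have hbot : Ideal.span {x} • (⊤ : Submodule R Qm.carrier) = ⊥ := by
          rw [eq_bot_iff, Submodule.smul_le]
          intro r hr z _
          obtain ⟨c, rfl⟩ := Ideal.mem_span_singleton'.mp hr
          rw [mul_smul, hxQ, smul_zero]
          exact Submodule.zero_mem _
        rw [hbot, bot_sup_eq] at hmap
        exact hmap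
      · rw [Submodule.smul_le]
        intro r hr z _
        obtain ⟨y, rfl⟩ := hqs z
        rw [LinearMap.mem_ker, ← map_smul, hπ'q, ← LinearMap.mem_ker, hπk]
        refine Submodule.smul_mem_smul ?_ Submodule.mem_top
        refine Ideal.span_mono ?_ hr
        rintro _ ⟨j, rfl⟩
        exact ⟨j.succ, rfl⟩
    -- regularity on the quotient
    have hreg'' : RingTheory.Sequence.IsWeaklyRegular Qm.carrier
        (List.ofFn fun i : Fin t => f i.succ) := by
      have e1 : QuotSMulTop x M ≃ₗ[R] Qm.carrier :=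
        (Submodule.quotEquivOfEq _ _ (by
          rw [hqk]
          ext y
          constructor
          · intro hy
            obtain ⟨z, -, rfl⟩ := (Submodule.mem_smul_pointwise_iff_exists _ _ _).mp hy
            exact ⟨z, rfl⟩
          · rintro ⟨z, rfl⟩
            exact Submodule.smul_mem_pointwise_smul z x ⊤ Submodule.mem_top)).trans eq'
      exact (LinearEquiv.isWeaklyRegular_congr e1 _).mp hreg'
    have hih := ih Qm.carrier Qm.gr E' (e - 1) (by omega) hvan' (fun i => f i.succ)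
      (fun i => deg i.succ) (fun i => hfdeg i.succ) (fun i => hfm i.succ) hreg'' N 𝒩 π' hπ'g hπ's
      hπ'k F
    have he2 : e - 1 - t = e - (t + 1) := by omega
    rw [he2, hstep] at hih
    rw [hih, Fin.sum_univ_succ, add_assoc, ← hk]
    congr 1

end Chain

section General

variable {R : Type u} [CommRing R] [hCM : LocCoh.IsCohenMacaulayRing R] {𝒜 : ℤ → AddSubgroup R}
  [GradedRing 𝒜] (hpos : ∀ n : ℤ, n < 0 → 𝒜 n = ⊥) (m : HomogeneousIdeal 𝒜) (hm : IsCoatom m)

include hpos hm in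
/-- **S18645** in general form -/
theorem general (n : ℕ) (hn : ringKrullDim R = n) (I : GrLC.StarInjRes 𝒜 𝒜) (t : ℕ) (htn : t ≤ n)
    (f : Fin t → R) (deg : Fin t → ℤ) (hfdeg : ∀ i, f i ∈ 𝒜 (deg i)) (hfm : ∀ i, f i ∈ m.toIdeal)
    (hreg : RingTheory.Sequence.IsWeaklyRegular R (List.ofFn f))
    (N : Type u) [AddCommGroup N] [Module R N] (𝒩 : ℤ → AddSubgroup N)
    [DirectSum.Decomposition 𝒩] [SetLike.GradedSMul 𝒜 𝒩] (π : R →ₗ[R] N)
    (hπ : GrLC.IsGrHom 𝒜 𝒩 π) (hπs : Function.Surjective π)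
    (hπk : LinearMap.ker π = Ideal.span (Set.range f)) (F : GrLC.StarInjRes 𝒜 𝒩) :
    GrLC.endDeg (F.Hgr m (n - t)) = GrLC.endDeg (I.Hgr m n) +
      ((((Finset.univ : Finset (Fin t)).sum deg : ℤ) : WithTop ℤ) : WithBot (WithTop ℤ)) := by
  haveI hmax : m.toIdeal.IsMaximal := isMaximal_of_isCoatom hpos m hm
  have hle : m.toIdeal.height ≤ ((n : ℕ) : ℕ∞) := by
    have h1 := Ideal.height_le_ringKrullDim_of_ne_top hmax.ne_top
    rw [hn] at h1
    exact_mod_cast h1
  obtain ⟨h, hh⟩ : ∃ h : ℕ, m.toIdeal.height = h :=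
    ⟨m.toIdeal.height.toNat, (ENat.natCast_toNat (ne_top_of_le_ne_top (ENat.natCast_ne_top _) hle)).symm⟩
  have hhle : h ≤ n := by rw [hh] at hle; exact_mod_cast hle
  have hvanR : ∀ j, j ≠ h → Subsingleton (I.H m j) := by
    intro j hj
    obtain ⟨e⟩ := nonempty_H_equiv 𝒜 𝒜 I m j
    haveI := MaxLoc.cm_vanish m.toIdeal h hh j hj
    exact e.toEquiv.subsingleton
  by_cases hcase : h = n
  · have hπk' : LinearMap.ker π = Ideal.span (Set.range f) • (⊤ : Submodule R R) := by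
      rw [hπk, smul_eq_mul, Ideal.mul_top]
    exact chain hpos m hm t R 𝒜 I n htn (fun j hj => hvanR j (by omega)) f deg hfdeg hfm hreg N 𝒩 π
      hπ hπs hπk' F
  · have h1 : Subsingleton (I.H m n) := hvanR n (fun h' => hcase h'.symm)
    have h2 : Subsingleton (F.H m (n - t)) := by
      obtain ⟨e⟩ := nonempty_H_equiv 𝒜 𝒩 F m (n - t)
      haveI : Module.Finite R N := Module.Finite.of_surjective π hπs
      haveI : Subsingleton (LocCoh.H m.toIdeal (n - t) N) := by
        apply MaxLoc.subsingleton_of_supportDim_lt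
        have hker : LinearMap.ker π = Ideal.ofList (List.ofFn f) := by
          rw [hπk, Ideal.ofList]
          congr 1
          ext r
          simp [List.mem_ofFn]
        have hb := MaxLoc.supportDim_localized_quot_seq m.toIdeal (List.ofFn f) hreg
          (by
            intro r hr
            obtain ⟨i, rfl⟩ := (List.mem_ofFn' f r).mp hr
            exact hfm i) N π hπs hker h hh
        rw [List.length_ofFn] at hb
        generalize Module.supportDim (Localization.AtPrime m.toIdeal)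
          (LocalizedModule m.toIdeal.primeCompl N) = a at hb ⊢
        induction a using WithBot.recBotCoe with
        | bot => exact WithBot.bot_lt_coe _
        | coe a =>
          have hb' : a + (t : ℕ∞) ≤ (h : ℕ∞) := by exact_mod_cast hb
          have ha : a ≠ ⊤ := by
            rintro rfl
            simp at hb'
          lift a to ℕ using ha
          have hb'' : a + t ≤ h := by exact_mod_cast hb'
          have : a < n - t := by omega
          have h3 : ((a : ℕ) : ℕ∞) < ((n - t : ℕ) : ℕ∞) := Nat.cast_lt.mpr this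
          exact WithBot.coe_lt_coe.mpr h3
      exact e.toEquiv.subsingleton
    rw [endDeg_eq_bot_of_subsingleton I m n h1, endDeg_eq_bot_of_subsingleton F m (n - t) h2,
      WithBot.bot_add]

end General

end Groth.Agent.H6.AInv
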