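import Groth.Agent.Lib.Helper6.AInvPoly1
import Groth.Agent.Lib.Helper6.GrAInv2

/-! Regular sequences of elements of degree one from the vanishing of graded local cohomology. -/

set_option autoImplicit false
set_option linter.unusedSectionVars false
universe u
open GrLC Groth.Agent.H6 Groth.Agent.H6.Gr

namespace Groth.Agent.H6.AInvPoly

section H0

variable {R : Type u} [CommRing R] {𝒜 : ℤ → AddSubgroup R} [GradedRing 𝒜]
  {M : Type u} [AddCommGroup M] [Module R M] {ℳ : ℤ → AddSubgroup M}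
  [DirectSum.Decomposition ℳ] [SetLike.GradedSMul 𝒜 ℳ]
  (E : GrLC.StarInjRes 𝒜 ℳ) (a : HomogeneousIdeal 𝒜)

theorem ε_mem_cocyc {x : M} (hx : x ∈ GrLC.gam a.toIdeal M) : E.ε x ∈ E.cocyc a 0 := by
  rw [Gr.mem_cocyc]
  obtain ⟨k, hk⟩ := hx
  refine ⟨⟨k, fun r hr => ?_⟩, Gr.d_ε E _⟩
  rw [← map_smul, hk r hr, map_zero]

theorem gam_eq_bot_of_H0 (h : Subsingleton (E.H a 0)) : GrLC.gam a.toIdeal M = ⊥ := by
  rw [eq_bot_iff]
  intro x hx
  rw [Submodule.mem_bot]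
  have hz := ε_mem_cocyc E a hx
  have h0 : E.toH a 0 ⟨_, hz⟩ = 0 := Subsingleton.elim _ _
  rw [Gr.toH_eq_zero_iff, Gr.mem_cobdy_zero] at h0
  exact E.ε_injective (h0.trans (map_zero _).symm)

/-- a nonzero torsion element of degree `n` gives a nonzero class of degree `n` -/
theorem Hgr_zero_ne_bot {n : ℤ} {x : M} (hxn : x ∈ ℳ n) (hx : x ∈ GrLC.gam a.toIdeal M)
    (hx0 : x ≠ 0) : E.Hgr a 0 n ≠ ⊥ := by
  rw [AInv.ne_bot_iff_exists]
  have hz := ε_mem_cocyc E a hx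
  refine ⟨E.toH a 0 ⟨_, hz⟩, ⟨⟨_, hz⟩, E.ε_grHom n x hxn, rfl⟩, ?_⟩
  rw [Ne, Gr.toH_eq_zero_iff, Gr.mem_cobdy_zero]
  intro h
  exact hx0 (E.ε_injective (h.trans (map_zero _).symm))

end H0

section Seq

variable {R : Type u} [CommRing R] [IsNoetherianRing R] (𝒜 : ℤ → AddSubgroup R) [GradedRing 𝒜]
  (hpos : ∀ n : ℤ, n < 0 → 𝒜 n = ⊥) (m : HomogeneousIdeal 𝒜) (hm : GrLC.IsStarLocal 𝒜 m)
  (hstd : Ideal.span (⋃ n ∈ Set.Ioi (0 : ℤ), (𝒜 n : Set R)) = Ideal.span ((𝒜 1 : AddSubgroup R) : Set R))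

include hpos hm hstd in
theorem exists_deg1_seq [IsArtinianRing (GrLC.deg0 𝒜)] [Infinite (R ⧸ m.toIdeal)] :
    ∀ (t : ℕ) (M : Type u) [AddCommGroup M] [Module R M] [Module.Finite R M]
    (ℳ : ℤ → AddSubgroup M) [DirectSum.Decomposition ℳ] [SetLike.GradedSMul 𝒜 ℳ]
    (E : GrLC.StarInjRes 𝒜 ℳ) (_ : ∀ j < t, Subsingleton (E.H m j)),
    ∃ rs : List R, rs.length = t ∧ (∀ r ∈ rs, r ∈ 𝒜 1) ∧
      RingTheory.Sequence.IsWeaklyRegular M rs := by
  intro t
  induction t with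
  | zero =>
    intro M _ _ _ ℳ _ _ E _
    exact ⟨[], rfl, fun r hr => absurd hr (List.not_mem_nil), RingTheory.Sequence.IsWeaklyRegular.nil R M⟩
  | succ t ih =>
    intro M _ _ _ ℳ _ _ E hvan
    have hgam : GrLC.gam m.toIdeal M = ⊥ := gam_eq_bot_of_H0 E m (hvan 0 (Nat.succ_pos t))
    obtain ⟨x, hx1, hxreg⟩ := exists_deg1_regular 𝒜 hpos m hm hstd M hgam
    have hdeg : GrLC.IsGrHomDeg ℳ ℳ (LinearMap.lsmul R M x) 1 := by
      intro g y hy
      have := SetLike.GradedSMul.smul_mem (A := 𝒜) (B := ℳ) hx1 hy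
      rw [vadd_eq_add, add_comm] at this
      exact this
    have hK : (LinearMap.range (LinearMap.lsmul R M x)).IsHomogeneous ℳ :=
      range_isHomogeneous_deg ℳ ℳ hdeg
    obtain ⟨Qm, q, hqs, hqk, hqg⟩ := exists_gmod_quot 𝒜 ℳ _ hK
    haveI : Module.Finite R Qm.carrier := Module.Finite.of_surjective q hqs
    let E' : GrLC.StarInjRes 𝒜 Qm.gr := starInjRes 𝒜 Qm.gr
    have hker1 : LinearMap.ker q = LinearMap.range (x • (LinearMap.id : M →ₗ[R] M)) := by
      rw [hqk]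
      rfl
    have hvan' : ∀ j < t, Subsingleton (E'.H m j) := by
      intro j hj
      exact (AInv.les_facts m E E' x 1 hx1 hxreg q hqs hqg hker1 j).1 (hvan j (by omega))
        (hvan (j + 1) (by omega))
    obtain ⟨rs, hlen, hrs1, hrsreg⟩ := ih Qm.carrier Qm.gr E' hvan'
    refine ⟨x :: rs, by rw [List.length_cons, hlen], ?_, ?_⟩
    · intro r hr
      rcases List.mem_cons.mp hr with rfl | hr
      · exact hx1
      · exact hrs1 r hr
    · rw [RingTheory.Sequence.isWeaklyRegular_cons_iff]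
      refine ⟨hxreg, ?_⟩
      let eq' : (M ⧸ LinearMap.ker q) ≃ₗ[R] Qm.carrier := LinearMap.quotKerEquivOfSurjective q hqs
      have e1 : QuotSMulTop x M ≃ₗ[R] Qm.carrier :=
        (Submodule.quotEquivOfEq _ _ (by
          rw [hqk]
          ext y
          constructor
          · intro hy
            obtain ⟨z, -, rfl⟩ := (Submodule.mem_smul_pointwise_iff_exists _ _ _).mp hy
            exact ⟨z, rfl⟩
          · rintro ⟨z, rfl⟩
            exact Submodule.smul_mem_pointwise_smul z x ⊤ Submodule.mem_top)).trans eq'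
      exact (LinearEquiv.isWeaklyRegular_congr e1 _).mpr hrsreg

end Seq

end Groth.Agent.H6.AInvPoly
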