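import Groth.Agent.Lib.Helper6.GrFinite
import Groth.Agent.Lib.Helper6.GrArtinian
import Groth.Agent.Lib.Helper6.GrRes
import Groth.Agent.Lib.Helper6.GrSubQuot
import Groth.Agent.Lib.Helper6.LCMaxLoc

/-! a-invariants and regular sequences: the end of graded local cohomology modulo a homogeneous
regular element. -/

set_option autoImplicit false
universe u
open GrLC Groth.Agent.H6 Groth.Agent.H6.Gr

namespace Groth.Agent.H6.AInv

section EndDeg

variable {H : Type u} [AddCommGroup H] (𝒢 : ℤ → AddSubgroup H)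

theorem endDeg_eq_bot (h : ∀ n, 𝒢 n = ⊥) : GrLC.endDeg 𝒢 = ⊥ := by
  unfold GrLC.endDeg
  exact eq_bot_iff.mpr (iSup₂_le fun n hn => absurd (h n) hn)

theorem endDeg_eq_coe (a : ℤ) (h1 : 𝒢 a ≠ ⊥) (h2 : ∀ n, a < n → 𝒢 n = ⊥) :
    GrLC.endDeg 𝒢 = ((a : WithTop ℤ) : WithBot (WithTop ℤ)) := by
  unfold GrLC.endDeg
  apply le_antisymm
  · refine iSup₂_le fun n hn => ?_
    have : n ≤ a := not_lt.mp fun h => hn (h2 n h)
    exact_mod_cast this
  · exact le_iSup₂ (f := fun (n : ℤ) (_ : 𝒢 n ≠ ⊥) => (((n : ℤ) : WithTop ℤ) : WithBot (WithTop ℤ))) a h1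

theorem ne_bot_iff_exists (n : ℤ) : 𝒢 n ≠ ⊥ ↔ ∃ w ∈ 𝒢 n, w ≠ 0 := by
  rw [Ne, AddSubgroup.eq_bot_iff_forall]
  push Not
  rfl

end EndDeg

section Step

variable {R : Type u} [CommRing R] {𝒜 : ℤ → AddSubgroup R} [GradedRing 𝒜]
  (m : HomogeneousIdeal 𝒜)
  {M : Type u} [AddCommGroup M] [Module R M] {ℳ : ℤ → AddSubgroup M}
  [DirectSum.Decomposition ℳ] [SetLike.GradedSMul 𝒜 ℳ]
  {N : Type u} [AddCommGroup N] [Module R N] {𝒩 : ℤ → AddSubgroup N}
  [DirectSum.Decomposition 𝒩] [SetLike.GradedSMul 𝒜 𝒩]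
  (E : GrLC.StarInjRes 𝒜 ℳ) (F : GrLC.StarInjRes 𝒜 𝒩)
  (x : R) (k : ℤ) (hxk : x ∈ 𝒜 k) (hreg : IsSMulRegular M x)
  (π : M →ₗ[R] N) (hπs : Function.Surjective π) (hπg : GrLC.IsGrHom ℳ 𝒩 π)
  (hker : LinearMap.ker π = LinearMap.range (x • (LinearMap.id : M →ₗ[R] M)))

include hxk hreg hπs hπg hker in
/-- the basic consequences of the long exact sequence of `0 → M(-k) → M → M/xM → 0` -/
theorem les_facts (e : ℕ) :
    (Subsingleton (E.H m e) → Subsingleton (E.H m (e + 1)) → Subsingleton (F.H m e)) ∧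
    (Subsingleton (E.H m e) → ∀ n : ℤ,
      (F.Hgr m e n ≠ ⊥ ↔ ∃ w ∈ E.Hgr m (e + 1) (n - k), w ≠ 0 ∧ x • w = 0)) := by
  let mx : (Msh (𝒜 := 𝒜) ℳ k).carrier →ₗ[R] M := LinearMap.lsmul R M x
  have hxgr : GrLC.IsGrHom (Msh (𝒜 := 𝒜) ℳ k).gr ℳ mx :=
    lsmul_isGrHom_shift (𝒜 := 𝒜) (ℳ := ℳ) k hxk
  have S2 : GrSES (Msh (𝒜 := 𝒜) ℳ k).gr ℳ 𝒩 mx π :=
    { hi := hxgr
      hp := hπg
      inj := by
        rw [injective_iff_map_eq_zero]
        intro m hm
        exact hreg (show x • (show M from m) = x • (0 : M) from (hm : x • (show M from m) = 0).trans (smul_zero x).symm)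
      surj := hπs
      exact := fun m => by
        rw [← LinearMap.mem_ker, hker]
        rfl }
  obtain ⟨δ, hδ, -, -, hex2, hex3⟩ := exists_les S2 (shiftRes E k) E F m
  have hδinj : Subsingleton (E.H m e) → Function.Injective (δ e) := by
    intro hvan
    rw [injective_iff_map_eq_zero]
    intro z hz
    obtain ⟨y, rfl⟩ := (hex2 e z).mp hz
    rw [Subsingleton.elim y 0, map_zero]
  refine ⟨fun hvan hvan1 => ?_, fun hvan n => ?_⟩
  · refine ⟨fun a b => ?_⟩
    apply hδinj hvan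
    have : Subsingleton ((shiftRes E k).H m (e + 1)) := (shiftH E m k (e + 1)).toEquiv.subsingleton
    exact Subsingleton.elim _ _
  · rw [ne_bot_iff_exists]
    constructor
    · rintro ⟨z, hz, hz0⟩
      refine ⟨shiftH E m k (e + 1) (δ e z), ?_, ?_, ?_⟩
      · exact (shiftH_mem E m k (e + 1) n _).mp (hδ e n z hz)
      · intro h0
        apply hz0
        apply hδinj hvan
        rw [map_zero]
        exact (shiftH E m k (e + 1)).injective (h0.trans (map_zero _).symm)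
      · rw [← Hmap_smul E m k hxk (e + 1) (δ e z)]
        exact (hex3 e (δ e z)).mpr ⟨z, rfl⟩
    · rintro ⟨w, hw, hw0, hxw⟩
      set y := (shiftH E m k (e + 1)).symm w with hy
      have hyw : shiftH E m k (e + 1) y = w := LinearEquiv.apply_symm_apply _ _
      have hymem : y ∈ (shiftRes E k).Hgr m (e + 1) n := by
        rw [shiftH_mem, hyw]; exact hw
      have hy0 : Hmap (shiftRes E k) E m mx S2.hi (e + 1) y = 0 := by
        rw [Hmap_smul E m k hxk (e + 1) y, hyw]; exact hxw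
      have hrange := (hex3 e y).mp hy0
      obtain ⟨z, hz, hzy⟩ := exists_mem_of_isGrHom (F.Hgr m e) ((shiftRes E k).Hgr m (e + 1))
        (isInternal_Hgr 𝒜 𝒩 F m e) (isInternal_Hgr 𝒜 _ (shiftRes E k) m (e + 1))
        (hδ e) hymem hrange
      refine ⟨z, hz, ?_⟩
      rintro rfl
      rw [map_zero] at hzy
      apply hw0
      rw [← hyw, ← hzy, map_zero]

end Step

section Step2

variable {R : Type u} [CommRing R] [IsNoetherianRing R] {𝒜 : ℤ → AddSubgroup R} [GradedRing 𝒜]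
  (hpos : ∀ n : ℤ, n < 0 → 𝒜 n = ⊥) (m : HomogeneousIdeal 𝒜) (hm : IsCoatom m)
  {M : Type u} [AddCommGroup M] [Module R M] [Module.Finite R M] {ℳ : ℤ → AddSubgroup M}
  [DirectSum.Decomposition ℳ] [SetLike.GradedSMul 𝒜 ℳ]
  {N : Type u} [AddCommGroup N] [Module R N] {𝒩 : ℤ → AddSubgroup N}
  [DirectSum.Decomposition 𝒩] [SetLike.GradedSMul 𝒜 𝒩]
  (E : GrLC.StarInjRes 𝒜 ℳ) (F : GrLC.StarInjRes 𝒜 𝒩)
  (x : R) (k : ℤ) (hxk : x ∈ 𝒜 k) (hxm : x ∈ m.toIdeal) (hreg : IsSMulRegular M x)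
  (π : M →ₗ[R] N) (hπs : Function.Surjective π) (hπg : GrLC.IsGrHom ℳ 𝒩 π)
  (hker : LinearMap.ker π = LinearMap.range (x • (LinearMap.id : M →ₗ[R] M)))

omit [IsNoetherianRing R] [Module.Finite R M] in
theorem exists_pow_smul_eq_zero (a : HomogeneousIdeal 𝒜) (i : ℕ) (y : E.H a i) :
    ∃ t : ℕ, ∀ r ∈ a.toIdeal ^ t, r • y = 0 := by
  obtain ⟨z, rfl⟩ := toH_surjective E a i y
  obtain ⟨t, ht⟩ := z.2.1
  refine ⟨t, fun r hr => ?_⟩
  rw [← map_smul]
  have : r • z = 0 := Subtype.ext (ht r hr)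
  rw [this, map_zero]

include hpos hm hxk hxm hreg hπs hπg hker in
/-- **the a-invariant modulo a regular element** -/
theorem endDeg_step (e : ℕ) (hvan : Subsingleton (E.H m e)) :
    GrLC.endDeg (F.Hgr m e) = GrLC.endDeg (E.Hgr m (e + 1)) +
      ((k : WithTop ℤ) : WithBot (WithTop ℤ)) := by
  have hiff := (les_facts m E F x k hxk hreg π hπs hπg hker e).2 hvan
  by_cases hall : ∀ n, E.Hgr m (e + 1) n = ⊥
  · rw [endDeg_eq_bot _ hall, WithBot.bot_add]
    apply endDeg_eq_bot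
    intro n
    by_contra hne
    obtain ⟨w, hw, hw0, -⟩ := (hiff n).mp hne
    rw [hall (n - k), AddSubgroup.mem_bot] at hw
    exact hw0 hw
  · push Not at hall
    obtain ⟨N₀, hN₀⟩ := exists_Hcomp_eq_bot_of_isCoatom hpos E m hm (e + 1)
    have hbdd : ∃ b : ℤ, ∀ z : ℤ, E.Hgr m (e + 1) z ≠ ⊥ → z ≤ b := by
      refine ⟨N₀, fun z hz => ?_⟩
      by_contra hlt
      push Not at hlt
      apply hz
      have := hN₀ z hlt.le
      change (E.Hcomp m (e + 1) z).toAddSubgroup = ⊥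
      rw [this]
      rfl
    obtain ⟨a₀, ha₀, hmax⟩ := Int.exists_greatest_of_bdd hbdd hall
    have htop : ∀ n, a₀ < n → E.Hgr m (e + 1) n = ⊥ := by
      intro n hn
      by_contra hne
      exact absurd (hmax n hne) (not_le.mpr hn)
    rw [endDeg_eq_coe _ a₀ ha₀ htop]
    have hsum : (((a₀ : ℤ) : WithTop ℤ) : WithBot (WithTop ℤ)) + ((k : WithTop ℤ) : WithBot (WithTop ℤ))
        = (((a₀ + k : ℤ) : WithTop ℤ) : WithBot (WithTop ℤ)) := by
      rw [WithTop.coe_add, WithBot.coe_add]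
    rw [hsum]
    apply endDeg_eq_coe
    · rw [hiff (a₀ + k)]
      have hsub : a₀ + k - k = a₀ := by ring
      rw [hsub]
      obtain ⟨w₀, hw₀, hw₀0⟩ := (ne_bot_iff_exists _ a₀).mp ha₀
      rcases lt_trichotomy k 0 with hk | hk | hk
      · refine ⟨w₀, hw₀, hw₀0, ?_⟩
        have : x = 0 := by
          have := hpos k hk ▸ hxk
          exact (AddSubgroup.mem_bot).mp this
        rw [this, zero_smul]
      · subst hk
        obtain ⟨t, ht⟩ := exists_pow_smul_eq_zero E m (e + 1) w₀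
        have hex : ∃ t : ℕ, x ^ t • w₀ = 0 := ⟨t, ht _ (Ideal.pow_mem_pow hxm t)⟩
        classical
        have hmin : ∀ {j : ℕ}, j < Nat.find hex → ¬ x ^ j • w₀ = 0 := fun {j} hj => Nat.find_min hex hj
        have hspec := Nat.find_spec hex
        set t₀ := Nat.find hex with ht₀
        cases ht₀' : t₀ with
        | zero =>
          rw [ht₀', pow_zero, one_smul] at hspec
          exact absurd hspec hw₀0
        | succ s =>
          refine ⟨x ^ s • w₀, ?_, ?_, ?_⟩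
          · have hxs : x ^ s ∈ 𝒜 (s • (0 : ℤ)) := SetLike.pow_mem_graded s hxk
            rw [smul_zero] at hxs
            have := smul_mem_Hgr E m (e + 1) hxs hw₀
            rwa [zero_add] at this
          · exact hmin (by rw [ht₀']; exact Nat.lt_succ_self s)
          · rw [← mul_smul, ← pow_succ', ← ht₀']
            exact hspec
      · refine ⟨w₀, hw₀, hw₀0, ?_⟩
        have := smul_mem_Hgr E m (e + 1) hxk hw₀
        rw [htop (k + a₀) (by omega), AddSubgroup.mem_bot] at this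
        exact this
    · intro n hn
      by_contra hne
      obtain ⟨w, hw, hw0, -⟩ := (hiff n).mp hne
      have : E.Hgr m (e + 1) (n - k) ≠ ⊥ := (ne_bot_iff_exists _ _).mpr ⟨w, hw, hw0⟩
      have := hmax _ this
      omega

end Step2

section Single

variable {R : Type u} [CommRing R] [hCM : LocCoh.IsCohenMacaulayRing R] {𝒜 : ℤ → AddSubgroup R}
  [GradedRing 𝒜] (hpos : ∀ n : ℤ, n < 0 → 𝒜 n = ⊥) (m : HomogeneousIdeal 𝒜) (hm : IsCoatom m)

omit hCM in
theorem endDeg_eq_bot_of_subsingleton {M : Type u} [AddCommGroup M] [Module R M]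
    {ℳ : ℤ → AddSubgroup M} [DirectSum.Decomposition ℳ] [SetLike.GradedSMul 𝒜 ℳ]
    (E : GrLC.StarInjRes 𝒜 ℳ) (a : HomogeneousIdeal 𝒜) (i : ℕ) (h : Subsingleton (E.H a i)) :
    GrLC.endDeg (E.Hgr a i) = ⊥ := by
  apply endDeg_eq_bot
  intro n
  rw [AddSubgroup.eq_bot_iff_forall]
  intro x _
  exact Subsingleton.elim _ _

include hpos hm in
/-- **S17769** in general form -/
theorem single (d : ℕ) (hd : ringKrullDim R = (d + 1 : ℕ)) (I : GrLC.StarInjRes 𝒜 𝒜)
    (x : R) (k : ℤ) (hxk : x ∈ 𝒜 k) (hxm : x ∈ m.toIdeal) (hx : IsSMulRegular R x)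
    (N : Type u) [AddCommGroup N] [Module R N] (𝒩 : ℤ → AddSubgroup N)
    [DirectSum.Decomposition 𝒩] [SetLike.GradedSMul 𝒜 𝒩] (π : R →ₗ[R] N)
    (hπ : GrLC.IsGrHom 𝒜 𝒩 π) (hπs : Function.Surjective π)
    (hπk : LinearMap.ker π = Ideal.span {x}) (F : GrLC.StarInjRes 𝒜 𝒩) :
    GrLC.endDeg (F.Hgr m d) = GrLC.endDeg (I.Hgr m (d + 1)) +
      ((k : WithTop ℤ) : WithBot (WithTop ℤ)) := by
  haveI hmax : m.toIdeal.IsMaximal := isMaximal_of_isCoatom hpos m hm
  have hker : LinearMap.ker π = LinearMap.range (x • (LinearMap.id : R →ₗ[R] R)) := by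
    rw [hπk]
    ext y
    rw [Ideal.mem_span_singleton', LinearMap.mem_range]
    constructor
    · rintro ⟨a, rfl⟩
      exact ⟨a, by simp [mul_comm]⟩
    · rintro ⟨a, rfl⟩
      exact ⟨a, by simp [mul_comm]⟩
  have hle : m.toIdeal.height ≤ ((d + 1 : ℕ) : ℕ∞) := by
    have h1 := Ideal.height_le_ringKrullDim_of_ne_top hmax.ne_top
    rw [hd] at h1
    exact_mod_cast h1
  obtain ⟨h, hh⟩ : ∃ h : ℕ, m.toIdeal.height = h :=
    ⟨m.toIdeal.height.toNat, (ENat.natCast_toNat (ne_top_of_le_ne_top (ENat.natCast_ne_top _) hle)).symm⟩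
  have hhle : h ≤ d + 1 := by rw [hh] at hle; exact_mod_cast hle
  have hvanR : ∀ j, j ≠ h → Subsingleton (I.H m j) := by
    intro j hj
    obtain ⟨e⟩ := nonempty_H_equiv 𝒜 𝒜 I m j
    haveI := MaxLoc.cm_vanish m.toIdeal h hh j hj
    exact e.toEquiv.subsingleton
  by_cases hcase : h = d + 1
  · exact endDeg_step hpos m hm I F x k hxk hxm hx π hπs hπ hker d (hvanR d (by omega))
  · have h1 : Subsingleton (I.H m (d + 1)) := hvanR (d + 1) (fun h' => hcase h'.symm)
    have h2 : Subsingleton (F.H m d) := by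
      obtain ⟨e⟩ := nonempty_H_equiv 𝒜 𝒩 F m d
      haveI : Module.Finite R N := Module.Finite.of_surjective π hπs
      haveI : Subsingleton (LocCoh.H m.toIdeal d N) := by
        apply MaxLoc.subsingleton_of_supportDim_lt
        refine lt_of_lt_of_le (MaxLoc.supportDim_localized_quot_lt m.toIdeal x hx N π hπs hπk h hh) ?_
        have : h ≤ d := by omega
        exact_mod_cast this
      exact e.toEquiv.subsingleton
    rw [endDeg_eq_bot_of_subsingleton I m (d + 1) h1, endDeg_eq_bot_of_subsingleton F m d h2,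
      WithBot.bot_add]

end Single

end Groth.Agent.H6.AInv
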