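import Groth.Agent.Lib.Helper6.GrShift
import Groth.Agent.Lib.Helper6.GrEssUngr

/-! Homogeneous components of linear maps out of finitely generated graded modules; the
(ungraded) extension property of *injective modules for finitely generated graded modules. -/

universe u
open DirectSum
set_option linter.unusedSectionVars false

namespace Groth.Agent.H6

namespace Gr

variable {ι : Type} [AddCommGroup ι] [DecidableEq ι]
variable {R : Type u} [CommRing R] (𝒜 : ι → AddSubgroup R) [GradedRing 𝒜]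

section HomComp

variable {K : Type u} [AddCommGroup K] [Module R K] (𝒦 : ι → AddSubgroup K)
  [DirectSum.Decomposition 𝒦] [SetLike.GradedSMul 𝒜 𝒦]
variable {I : Type u} [AddCommGroup I] [Module R I] (ℐ : ι → AddSubgroup I)
  [DirectSum.Decomposition ℐ] [SetLike.GradedSMul 𝒜 ℐ]

/-- the component of degree `d` of a linear map, as an additive map -/
noncomputable def homCompAdd (φ : K →ₗ[R] I) (d : ι) : K →+ I :=
  (DirectSum.toAddMonoid
    (fun k => (proj ℐ (k + d)).comp (φ.toAddMonoidHom.comp (𝒦 k).subtype))).comp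
    (DirectSum.decomposeAddEquiv 𝒦).toAddMonoidHom

theorem homCompAdd_of_mem (φ : K →ₗ[R] I) (d : ι) {k : ι} {x : K} (hx : x ∈ 𝒦 k) :
    homCompAdd 𝒦 ℐ φ d x = proj ℐ (k + d) (φ x) := by
  change DirectSum.toAddMonoid _ (DirectSum.decompose 𝒦 x) = _
  rw [DirectSum.decompose_of_mem 𝒦 hx, DirectSum.toAddMonoid_of]
  rfl

include 𝒜 in
theorem homCompAdd_smul (φ : K →ₗ[R] I) (d : ι) (r : R) (x : K) :
    homCompAdd 𝒦 ℐ φ d (r • x) = r • homCompAdd 𝒦 ℐ φ d x := by
  induction x using induction_on 𝒦 with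
  | zero => rw [smul_zero, map_zero, smul_zero]
  | add n n' h1 h2 => rw [smul_add, map_add, map_add, smul_add, h1, h2]
  | homogeneous k x hx =>
    induction r using DirectSum.Decomposition.inductionOn 𝒜 with
    | zero => rw [zero_smul, zero_smul, map_zero]
    | add r r' h1 h2 => rw [add_smul, add_smul, map_add, h1, h2]
    | homogeneous r =>
      rename_i h
      have hrx : (r : R) • x ∈ 𝒦 (h + k) :=
        SetLike.GradedSMul.smul_mem (A := 𝒜) (B := 𝒦) r.2 hx
      rw [homCompAdd_of_mem 𝒦 ℐ φ d hrx, homCompAdd_of_mem 𝒦 ℐ φ d hx, map_smul, add_assoc,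
        proj_smul_of_mem 𝒜 ℐ r.2]

/-- the component of degree `d` of a linear map -/
noncomputable def homComp (φ : K →ₗ[R] I) (d : ι) : K →ₗ[R] I where
  toFun := homCompAdd 𝒦 ℐ φ d
  map_add' := map_add _
  map_smul' := homCompAdd_smul 𝒜 𝒦 ℐ φ d

theorem homComp_of_mem (φ : K →ₗ[R] I) (d : ι) {k : ι} {x : K} (hx : x ∈ 𝒦 k) :
    homComp 𝒜 𝒦 ℐ φ d x = proj ℐ (k + d) (φ x) := homCompAdd_of_mem 𝒦 ℐ φ d hx

theorem homComp_isGrHomDeg (φ : K →ₗ[R] I) (d : ι) :
    GrLC.IsGrHomDeg 𝒦 ℐ (homComp 𝒜 𝒦 ℐ φ d) d := by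
  intro k x hx
  rw [homComp_of_mem 𝒜 𝒦 ℐ φ d hx]
  exact proj_mem ℐ _ _

omit [SetLike.GradedSMul 𝒜 ℐ] in
/-- summing the components over a finite set containing the support -/
theorem sum_proj_of_support_subset (y : I) (D : Finset ι)
    (hD : ∀ g, proj ℐ g y ≠ 0 → g ∈ D) : ∑ g ∈ D, proj ℐ g y = y := by
  apply ext_proj ℐ
  intro h
  rw [map_sum]
  by_cases hh : h ∈ D
  · rw [Finset.sum_eq_single h]
    · exact proj_proj_same ℐ h y
    · intro g _ hgh
      exact proj_proj_ne ℐ hgh y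
    · intro hn
      exact absurd hh hn
  · have h0 : proj ℐ h y = 0 := by
      by_contra hne
      exact hh (hD h hne)
    rw [h0]
    refine Finset.sum_eq_zero fun g hg => ?_
    have hgh : g ≠ h := fun heq => hh (heq ▸ hg)
    exact proj_proj_ne ℐ hgh y

/-- a linear map out of a finitely generated graded module is a finite sum of homogeneous maps -/
theorem exists_finset_sum_homComp [Module.Finite R K] (φ : K →ₗ[R] I) :
    ∃ D : Finset ι, φ = ∑ d ∈ D, homComp 𝒜 𝒦 ℐ φ d := by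
  classical
  obtain ⟨S, hS⟩ := (Module.Finite.fg_top : (⊤ : Submodule R K).FG)
  let D : Finset ι := S.biUnion fun s => (DirectSum.decompose 𝒦 s).support.biUnion fun k =>
    (DirectSum.decompose ℐ (φ (proj 𝒦 k s))).support.image fun g => g - k
  refine ⟨D, ?_⟩
  -- the two maps agree on homogeneous components of the generators
  have hkey : ∀ s ∈ S, ∀ k, (∑ d ∈ D, homComp 𝒜 𝒦 ℐ φ d) (proj 𝒦 k s) = φ (proj 𝒦 k s) := by
    intro s hs k
    by_cases hk : k ∈ (DirectSum.decompose 𝒦 s).support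
    · rw [LinearMap.sum_apply]
      have h1 : ∀ d ∈ D, homComp 𝒜 𝒦 ℐ φ d (proj 𝒦 k s) = proj ℐ (k + d) (φ (proj 𝒦 k s)) :=
        fun d _ => homComp_of_mem 𝒜 𝒦 ℐ φ d (proj_mem 𝒦 k s)
      rw [Finset.sum_congr rfl h1]
      have h2 : ∑ d ∈ D, proj ℐ (k + d) (φ (proj 𝒦 k s)) =
          ∑ g ∈ D.image (fun d => k + d), proj ℐ g (φ (proj 𝒦 k s)) := by
        rw [Finset.sum_image]
        intro a _ b _ hab
        exact add_left_cancel hab
      rw [h2]
      apply sum_proj_of_support_subset ℐ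
      intro g hg
      refine Finset.mem_image.mpr ⟨g - k, ?_, by abel⟩
      refine Finset.mem_biUnion.mpr ⟨s, hs, Finset.mem_biUnion.mpr ⟨k, hk, ?_⟩⟩
      refine Finset.mem_image.mpr ⟨g, ?_, rfl⟩
      rw [DFinsupp.mem_support_iff]
      intro h0
      apply hg
      rw [proj_apply, h0]
      rfl
    · rw [proj_eq_zero_of_notMem_support 𝒦 hk, map_zero, map_zero]
  have hle : (⊤ : Submodule R K) ≤ LinearMap.eqLocus (∑ d ∈ D, homComp 𝒜 𝒦 ℐ φ d) φ := by
    rw [← hS, Submodule.span_le]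
    intro s hs
    rw [SetLike.mem_coe, LinearMap.mem_eqLocus]
    obtain ⟨T, hT⟩ := exists_finset_sum_proj 𝒦 s
    rw [← hT, map_sum, map_sum]
    exact Finset.sum_congr rfl fun k _ => hkey s hs k
  ext x
  exact (LinearMap.mem_eqLocus.mp (hle (Submodule.mem_top : x ∈ ⊤))).symm

end HomComp

section Extend

variable {I : Type u} [AddCommGroup I] [Module R I] (ℐ : ι → AddSubgroup I)
  [DirectSum.Decomposition ℐ] [SetLike.GradedSMul 𝒜 ℐ]

/-- every linear map from a finitely generated graded module to a *injective module extends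
along a homogeneous injection -/
theorem starInj_extend_of_finite (hI : GrLC.IsStarInj 𝒜 ℐ) (A B : GrLC.GMod.{u} 𝒜)
    [Module.Finite R A.carrier]
    (f : A.carrier →ₗ[R] B.carrier) (hf : GrLC.IsGrHom A.gr B.gr f) (hfinj : Function.Injective f)
    (φ : A.carrier →ₗ[R] I) : ∃ h : B.carrier →ₗ[R] I, h ∘ₗ f = φ := by
  classical
  obtain ⟨D, hD⟩ := exists_finset_sum_homComp 𝒜 A.gr ℐ φ
  choose h hh using fun d : ι => starInj_extend_deg 𝒜 ℐ hI A B f hf hfinj d
    (homComp 𝒜 A.gr ℐ φ d) (homComp_isGrHomDeg 𝒜 A.gr ℐ φ d)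
  refine ⟨∑ d ∈ D, h d, ?_⟩
  ext a
  conv_rhs => rw [hD]
  rw [LinearMap.comp_apply, LinearMap.sum_apply, LinearMap.sum_apply]
  refine Finset.sum_congr rfl fun d _ => ?_
  exact LinearMap.congr_fun (hh d).2 a

end Extend

end Gr

end Groth.Agent.H6
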