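import Groth.Agent.Lib.Helper6.GrHorseshoe

/-! The long exact sequence of graded local cohomology. -/

universe u
open DirectSum
set_option linter.unusedSectionVars false

namespace Groth.Agent.H6

namespace Gr

variable {ι : Type} [AddCommGroup ι] [DecidableEq ι]
variable {R : Type u} [CommRing R] {𝒜 : ι → AddSubgroup R} [GradedRing 𝒜]

variable {M' : Type u} [AddCommGroup M'] [Module R M'] {ℳ' : ι → AddSubgroup M'}
  [DirectSum.Decomposition ℳ'] [SetLike.GradedSMul 𝒜 ℳ']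
variable {M : Type u} [AddCommGroup M] [Module R M] {ℳ : ι → AddSubgroup M}
  [DirectSum.Decomposition ℳ] [SetLike.GradedSMul 𝒜 ℳ]
variable {M'' : Type u} [AddCommGroup M''] [Module R M''] {ℳ'' : ι → AddSubgroup M''}
  [DirectSum.Decomposition ℳ''] [SetLike.GradedSMul 𝒜 ℳ'']

section API

variable (E : GrLC.StarInjRes 𝒜 ℳ) (a : HomogeneousIdeal 𝒜)

theorem toH_surjective (n : ℕ) : Function.Surjective (E.toH a n) := Submodule.mkQ_surjective _

theorem toH_eq_zero_iff (n : ℕ) (z : E.cocyc a n) :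
    E.toH a n z = 0 ↔ (z : (E.X n).carrier) ∈ E.cobdy a n := by
  rw [Submodule.mkQ_apply, Submodule.Quotient.mk_eq_zero]
  rfl

theorem mem_cobdy_zero (z : (E.X 0).carrier) : z ∈ E.cobdy a 0 ↔ z = 0 := Iff.rfl

theorem mem_cobdy_succ (n : ℕ) (z : (E.X (n + 1)).carrier) :
    z ∈ E.cobdy a (n + 1) ↔ ∃ w, w ∈ GrLC.gam a.toIdeal (E.X n).carrier ∧ E.d n w = z := Iff.rfl

theorem mem_cocyc (n : ℕ) (z : (E.X n).carrier) :
    z ∈ E.cocyc a n ↔ z ∈ GrLC.gam a.toIdeal (E.X n).carrier ∧ E.d n z = 0 := Iff.rfl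

theorem toH_eq_toH_iff (n : ℕ) (z z' : E.cocyc a n) :
    E.toH a n z = E.toH a n z' ↔ ((z : (E.X n).carrier) - z') ∈ E.cobdy a n := by
  rw [← sub_eq_zero, ← map_sub, toH_eq_zero_iff]
  rfl

end API

namespace Horseshoe

variable {i : M' →ₗ[R] M} {p : M →ₗ[R] M''} (S : GrSES ℳ' ℳ ℳ'' i p)
  (E' : GrLC.StarInjRes 𝒜 ℳ') (E'' : GrLC.StarInjRes 𝒜 ℳ'') (a : HomogeneousIdeal 𝒜)

theorem d_θ (n : ℕ) (x : (E''.X n).carrier) :
    E'.d (n + 1) (θ S E' E'' n x) = - θ S E' E'' (n + 1) (E''.d n x) := by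
  rw [θ_d, neg_neg]

theorem θ_mem_cocyc (n : ℕ) {z : (E''.X n).carrier} (hz : z ∈ E''.cocyc a n) :
    θ S E' E'' n z ∈ E'.cocyc a (n + 1) := by
  refine ⟨map_mem_gam _ a.toIdeal hz.1, ?_⟩
  change E'.d (n + 1) (θ S E' E'' n z) = 0
  rw [d_θ, (show E''.d n z = 0 from hz.2), map_zero, neg_zero]

theorem θ_mem_cobdy (n : ℕ) {z : (E''.X n).carrier} (hz : z ∈ E''.cobdy a n) :
    θ S E' E'' n z ∈ E'.cobdy a (n + 1) := by
  cases n with
  | zero =>
    have h0 : z = 0 := hz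
    rw [h0, map_zero]
    exact zero_mem _
  | succ k =>
    obtain ⟨w, hw, rfl⟩ := hz
    refine ⟨-(θ S E' E'' k w), neg_mem (map_mem_gam _ a.toIdeal hw), ?_⟩
    rw [map_neg, θ_d]

/-- the connecting homomorphism of the horseshoe resolution -/
noncomputable def δ (n : ℕ) : E''.H a n →ₗ[R] E'.H a (n + 1) :=
  Submodule.mapQ _ _ ((θ S E' E'' n).restrict (fun _ hx => θ_mem_cocyc S E' E'' a n hx)) (by
    intro z hz
    exact θ_mem_cobdy S E' E'' a n hz)

theorem δ_toH (n : ℕ) (z : E''.cocyc a n) :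
    δ S E' E'' a n (E''.toH a n z) =
      E'.toH a (n + 1) ⟨θ S E' E'' n z, θ_mem_cocyc S E' E'' a n z.2⟩ :=
  Submodule.mapQ_apply _ _ _ _

theorem δ_isGrHom (n : ℕ) : GrLC.IsGrHom (E''.Hgr a n) (E'.Hgr a (n + 1)) (δ S E' E'' a n) := by
  rintro g _ ⟨z, hz, rfl⟩
  exact ⟨⟨θ S E' E'' n z, θ_mem_cocyc S E' E'' a n z.2⟩, θ_grHom S E' E'' n g _ hz,
    (δ_toH S E' E'' a n z).symm⟩

/-- the maps of the sequence for the horseshoe resolution -/
noncomputable def inlH (n : ℕ) : E'.H a n →ₗ[R] (res S E' E'').H a n := (inlLift S E' E'').Hmap a n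

noncomputable def sndH (n : ℕ) : (res S E' E'').H a n →ₗ[R] E''.H a n := (sndLift S E' E'').Hmap a n

/-- elements of the terms of the horseshoe resolution -/
def mk (n : ℕ) (x' : (E'.X n).carrier) (x'' : (E''.X n).carrier) : ((res S E' E'').X n).carrier :=
  (x', x'')

/-- the first component -/
def fst (n : ℕ) (z : ((res S E' E'').X n).carrier) : (E'.X n).carrier :=
  (show (E'.X n).carrier × (E''.X n).carrier from z).1

/-- the second component -/
def snd (n : ℕ) (z : ((res S E' E'').X n).carrier) : (E''.X n).carrier :=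
  (show (E'.X n).carrier × (E''.X n).carrier from z).2

theorem mk_fst_snd (n : ℕ) (z : ((res S E' E'').X n).carrier) :
    mk S E' E'' n (fst S E' E'' n z) (snd S E' E'' n z) = z := rfl

theorem exists_eq_mk (n : ℕ) (z : ((res S E' E'').X n).carrier) :
    ∃ x' x'', z = mk S E' E'' n x' x'' := ⟨_, _, (mk_fst_snd S E' E'' n z).symm⟩

theorem mk_eq_zero_iff (n : ℕ) (x' : (E'.X n).carrier) (x'' : (E''.X n).carrier) :
    mk S E' E'' n x' x'' = 0 ↔ x' = 0 ∧ x'' = 0 := Prod.mk_eq_zero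

theorem mk_eq_mk_iff (n : ℕ) (x' y' : (E'.X n).carrier) (x'' y'' : (E''.X n).carrier) :
    mk S E' E'' n x' x'' = mk S E' E'' n y' y'' ↔ x' = y' ∧ x'' = y'' := Prod.mk.injEq _ _ _ _ ▸ Iff.rfl

theorem mk_sub_mk (n : ℕ) (x' y' : (E'.X n).carrier) (x'' y'' : (E''.X n).carrier) :
    mk S E' E'' n x' x'' - mk S E' E'' n y' y'' = mk S E' E'' n (x' - y') (x'' - y'') := rfl

theorem d_mk (n : ℕ) (x' : (E'.X n).carrier) (x'' : (E''.X n).carrier) :
    (res S E' E'').d n (mk S E' E'' n x' x'') =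
      mk S E' E'' (n + 1) (E'.d n x' + θ S E' E'' n x'') (E''.d n x'') := rfl

theorem inl_φ (n : ℕ) (x' : (E'.X n).carrier) : (inlLift S E' E'').φ n x' = mk S E' E'' n x' 0 := rfl

theorem snd_φ (n : ℕ) (x' : (E'.X n).carrier) (x'' : (E''.X n).carrier) :
    (sndLift S E' E'').φ n (mk S E' E'' n x' x'') = x'' := rfl

theorem mem_gam_mk (n : ℕ) (x' : (E'.X n).carrier) (x'' : (E''.X n).carrier) :
    mk S E' E'' n x' x'' ∈ GrLC.gam a.toIdeal ((res S E' E'').X n).carrier ↔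
      x' ∈ GrLC.gam a.toIdeal (E'.X n).carrier ∧ x'' ∈ GrLC.gam a.toIdeal (E''.X n).carrier :=
  mem_gam_prod 𝒜 (E'.X n) (E''.X n) a.toIdeal (x', x'')

theorem mem_cocyc_mk (n : ℕ) (x' : (E'.X n).carrier) (x'' : (E''.X n).carrier) :
    mk S E' E'' n x' x'' ∈ (res S E' E'').cocyc a n ↔
      x' ∈ GrLC.gam a.toIdeal (E'.X n).carrier ∧ x'' ∈ GrLC.gam a.toIdeal (E''.X n).carrier ∧
        E'.d n x' + θ S E' E'' n x'' = 0 ∧ E''.d n x'' = 0 := by
  rw [mem_cocyc, mem_gam_mk, d_mk, mk_eq_zero_iff]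
  tauto

theorem inlH_toH (n : ℕ) (z : E'.cocyc a n) :
    inlH S E' E'' a n (E'.toH a n z) =
      (res S E' E'').toH a n ⟨mk S E' E'' n z 0, (inlLift S E' E'').map_mem_cocyc a n z.2⟩ :=
  (inlLift S E' E'').Hmap_toH a n z

theorem sndH_toH (n : ℕ) (x' : (E'.X n).carrier) (x'' : (E''.X n).carrier)
    (hz : mk S E' E'' n x' x'' ∈ (res S E' E'').cocyc a n) :
    sndH S E' E'' a n ((res S E' E'').toH a n ⟨mk S E' E'' n x' x'', hz⟩) =
      E''.toH a n ⟨x'', (sndLift S E' E'').map_mem_cocyc a n hz⟩ :=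
  (sndLift S E' E'').Hmap_toH a n ⟨mk S E' E'' n x' x'', hz⟩

theorem toH_res_surjective (n : ℕ) (y : (res S E' E'').H a n) :
    ∃ x' x'', ∃ hz : mk S E' E'' n x' x'' ∈ (res S E' E'').cocyc a n,
      (res S E' E'').toH a n ⟨mk S E' E'' n x' x'', hz⟩ = y := by
  obtain ⟨⟨z, hz⟩, rfl⟩ := toH_surjective (res S E' E'') a n y
  exact ⟨fst S E' E'' n z, snd S E' E'' n z, hz, rfl⟩

theorem inlH_zero_injective : Function.Injective (inlH S E' E'' a 0) := by
  rw [injective_iff_map_eq_zero]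
  intro x hx
  obtain ⟨z, rfl⟩ := toH_surjective E' a 0 x
  rw [inlH_toH, toH_eq_zero_iff, mem_cobdy_zero] at hx
  have h0 : mk S E' E'' 0 z 0 = 0 := hx
  rw [mk_eq_zero_iff] at h0
  rw [toH_eq_zero_iff]
  exact h0.1

theorem exact_inlH_sndH (n : ℕ) : Function.Exact (inlH S E' E'' a n) (sndH S E' E'' a n) := by
  intro y
  constructor
  · intro hy
    obtain ⟨x', x'', hz, rfl⟩ := toH_res_surjective S E' E'' a n y
    rw [sndH_toH, toH_eq_zero_iff] at hy
    have hz' := (mem_cocyc_mk S E' E'' a n x' x'').mp hz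
    cases n with
    | zero =>
      have h0 : x'' = 0 := hy
      subst h0
      have hx' : x' ∈ E'.cocyc a 0 := by
        refine ⟨hz'.1, ?_⟩
        have := hz'.2.2.1
        simp only [map_zero, add_zero] at this
        exact this
      exact ⟨E'.toH a 0 ⟨x', hx'⟩, inlH_toH S E' E'' a 0 ⟨x', hx'⟩⟩
    | succ k =>
      obtain ⟨w'', hw'', hw⟩ := hy
      have hw : E''.d k w'' = x'' := hw
      subst hw
      have hx' : x' - θ S E' E'' k w'' ∈ E'.cocyc a (k + 1) := by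
        refine ⟨sub_mem hz'.1 (map_mem_gam _ a.toIdeal hw''), ?_⟩
        change E'.d (k + 1) (x' - θ S E' E'' k w'') = 0
        have := hz'.2.2.1
        rw [map_sub, d_θ, sub_neg_eq_add]
        exact this
      refine ⟨E'.toH a (k + 1) ⟨_, hx'⟩, ?_⟩
      rw [inlH_toH, toH_eq_toH_iff, mem_cobdy_succ]
      refine ⟨mk S E' E'' k 0 (-w''), ?_, ?_⟩
      · rw [mem_gam_mk]
        exact ⟨zero_mem _, neg_mem hw''⟩
      · change (res S E' E'').d k (mk S E' E'' k 0 (-w'')) =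
          mk S E' E'' (k + 1) (x' - θ S E' E'' k w'') 0 - mk S E' E'' (k + 1) x' (E''.d k w'')
        rw [d_mk, mk_sub_mk, mk_eq_mk_iff]
        constructor
        · rw [map_zero, zero_add, map_neg]; abel
        · rw [map_neg, zero_sub]
  · rintro ⟨x, rfl⟩
    obtain ⟨z, rfl⟩ := toH_surjective E' a n x
    rw [inlH_toH, sndH_toH, toH_eq_zero_iff]
    exact zero_mem _

theorem exact_sndH_δ (n : ℕ) : Function.Exact (sndH S E' E'' a n) (δ S E' E'' a n) := by
  intro y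
  constructor
  · intro hy
    obtain ⟨z'', rfl⟩ := toH_surjective E'' a n y
    rw [δ_toH, toH_eq_zero_iff] at hy
    obtain ⟨w', hw', hw⟩ := hy
    have hw : E'.d n w' = θ S E' E'' n z'' := hw
    have hz : mk S E' E'' n (-w') z'' ∈ (res S E' E'').cocyc a n := by
      rw [mem_cocyc_mk]
      refine ⟨neg_mem hw', z''.2.1, ?_, z''.2.2⟩
      rw [map_neg, hw, neg_add_cancel]
    exact ⟨(res S E' E'').toH a n ⟨_, hz⟩, sndH_toH S E' E'' a n _ _ hz⟩
  · rintro ⟨x, rfl⟩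
    obtain ⟨x', x'', hz, rfl⟩ := toH_res_surjective S E' E'' a n x
    have hz' := (mem_cocyc_mk S E' E'' a n x' x'').mp hz
    rw [sndH_toH, δ_toH, toH_eq_zero_iff, mem_cobdy_succ]
    refine ⟨-x', neg_mem hz'.1, ?_⟩
    change E'.d n (-x') = θ S E' E'' n x''
    rw [map_neg, neg_eq_iff_add_eq_zero]
    exact hz'.2.2.1

theorem exact_δ_inlH (n : ℕ) : Function.Exact (δ S E' E'' a n) (inlH S E' E'' a (n + 1)) := by
  intro y
  constructor
  · intro hy
    obtain ⟨z', rfl⟩ := toH_surjective E' a (n + 1) y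
    rw [inlH_toH, toH_eq_zero_iff, mem_cobdy_succ] at hy
    obtain ⟨w, hw, hd⟩ := hy
    obtain ⟨w', w'', rfl⟩ := exists_eq_mk S E' E'' n w
    rw [mem_gam_mk] at hw
    have hd : (res S E' E'').d n (mk S E' E'' n w' w'') = mk S E' E'' (n + 1) z' 0 := hd
    rw [d_mk, mk_eq_mk_iff] at hd
    have hw'' : w'' ∈ E''.cocyc a n := ⟨hw.2, hd.2⟩
    refine ⟨E''.toH a n ⟨w'', hw''⟩, ?_⟩
    rw [δ_toH, toH_eq_toH_iff, mem_cobdy_succ]
    refine ⟨-w', neg_mem hw.1, ?_⟩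
    change E'.d n (-w') = θ S E' E'' n w'' - z'
    rw [← hd.1, map_neg]
    abel
  · rintro ⟨x, rfl⟩
    obtain ⟨z'', rfl⟩ := toH_surjective E'' a n x
    rw [δ_toH, inlH_toH, toH_eq_zero_iff, mem_cobdy_succ]
    refine ⟨mk S E' E'' n 0 z'', ?_, ?_⟩
    · rw [mem_gam_mk]
      exact ⟨zero_mem _, z''.2.1⟩
    · change (res S E' E'').d n (mk S E' E'' n 0 z'') = mk S E' E'' (n + 1) (θ S E' E'' n z'') 0
      rw [d_mk, mk_eq_mk_iff]
      refine ⟨by rw [map_zero, zero_add], z''.2.2⟩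

end Horseshoe

section General

variable {N : Type u} [AddCommGroup N] [Module R N] {𝒩 : ι → AddSubgroup N}
  [DirectSum.Decomposition 𝒩] [SetLike.GradedSMul 𝒜 𝒩]

theorem Hmap_congr (E : GrLC.StarInjRes 𝒜 ℳ) (F : GrLC.StarInjRes 𝒜 𝒩) (a : HomogeneousIdeal 𝒜)
    {f f' : M →ₗ[R] N} (h : f = f') (hf : GrLC.IsGrHom ℳ 𝒩 f) (n : ℕ) :
    Hmap E F a f hf n = Hmap E F a f' (h ▸ hf) n := by
  subst h
  rfl

/-- if `y` is homogeneous of degree `k` and in the image of a homogeneous map, it is the image of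
a homogeneous element of degree `k` -/
theorem exists_mem_of_isGrHom {A B : Type u} [AddCommGroup A] [Module R A] [AddCommGroup B]
    [Module R B] (𝓐 : ι → AddSubgroup A) (𝓑 : ι → AddSubgroup B) (hA : DirectSum.IsInternal 𝓐)
    (hB : DirectSum.IsInternal 𝓑) {f : A →ₗ[R] B} (hf : GrLC.IsGrHom 𝓐 𝓑 f) {k : ι} {y : B}
    (hy : y ∈ 𝓑 k) (hx : ∃ x, f x = y) : ∃ x ∈ 𝓐 k, f x = y := by
  letI := hA.chooseDecomposition
  letI := hB.chooseDecomposition
  obtain ⟨x, rfl⟩ := hx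
  refine ⟨proj 𝓐 k x, proj_mem 𝓐 k x, ?_⟩
  rw [isGrHom_proj 𝓐 𝓑 hf, proj_of_mem 𝓑 hy]

variable {i : M' →ₗ[R] M} {p : M →ₗ[R] M''} (S : GrSES ℳ' ℳ ℳ'' i p)
  (E' : GrLC.StarInjRes 𝒜 ℳ') (E : GrLC.StarInjRes 𝒜 ℳ) (E'' : GrLC.StarInjRes 𝒜 ℳ'')
  (a : HomogeneousIdeal 𝒜)

/-- **the long exact sequence of graded local cohomology**, for arbitrary *injective resolutions
of the three modules -/
theorem exists_les : ∃ δ : ∀ n, E''.H a n →ₗ[R] E'.H a (n + 1),
    (∀ n, GrLC.IsGrHom (E''.Hgr a n) (E'.Hgr a (n + 1)) (δ n)) ∧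
    Function.Injective (Hmap E' E a i S.hi 0) ∧
    (∀ n, Function.Exact (Hmap E' E a i S.hi n) (Hmap E E'' a p S.hp n)) ∧
    (∀ n, Function.Exact (Hmap E E'' a p S.hp n) (δ n)) ∧
    (∀ n, Function.Exact (δ n) (Hmap E' E a i S.hi (n + 1))) := by
  set Eh := Horseshoe.res S E' E'' with hEh
  -- the comparison isomorphisms
  have hA : ∀ n, Hmap E' E a i S.hi n =
      (Hequiv a Eh E n).toLinearMap ∘ₗ Horseshoe.inlH S E' E'' a n := by
    intro n
    have h1 := Hmap_comp (E := E') (F := Eh) (G := E) a S.hi (g := LinearMap.id) (fun _ _ h => h) n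
    rw [Hmap_eq_chainLift a S.hi (Horseshoe.inlLift S E' E'')] at h1
    have h2 := Hmap_congr E' E a (LinearMap.id_comp i)
      (fun k x hx => S.hi k x hx) n
    exact h2.symm.trans h1
  have hB : ∀ n, Hmap E E'' a p S.hp n =
      Horseshoe.sndH S E' E'' a n ∘ₗ (Hequiv a Eh E n).symm.toLinearMap := by
    intro n
    have h1 := Hmap_comp (E := E) (F := Eh) (G := E'') a (f := LinearMap.id) (fun _ _ h => h)
      S.hp n
    rw [Hmap_eq_chainLift a S.hp (Horseshoe.sndLift S E' E'')] at h1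
    have h2 := Hmap_congr E E'' a (LinearMap.comp_id p)
      (fun k x hx => S.hp k x hx) n
    exact h2.symm.trans h1
  refine ⟨fun n => Horseshoe.δ S E' E'' a n, fun n => Horseshoe.δ_isGrHom S E' E'' a n, ?_, ?_, ?_,
    ?_⟩
  · rw [hA 0]
    exact (Hequiv a Eh E 0).injective.comp (Horseshoe.inlH_zero_injective S E' E'' a)
  · intro n y
    rw [hA n, hB n]
    have hex := Horseshoe.exact_inlH_sndH S E' E'' a n ((Hequiv a Eh E n).symm y)
    constructor
    · intro hy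
      obtain ⟨x, hx⟩ := hex.mp hy
      refine ⟨x, ?_⟩
      change (Hequiv a Eh E n) (Horseshoe.inlH S E' E'' a n x) = y
      rw [hx, LinearEquiv.apply_symm_apply]
    · rintro ⟨x, rfl⟩
      apply hex.mpr
      refine ⟨x, ?_⟩
      change _ = (Hequiv a Eh E n).symm ((Hequiv a Eh E n) (Horseshoe.inlH S E' E'' a n x))
      rw [LinearEquiv.symm_apply_apply]
  · intro n z
    rw [hB n]
    have hex := Horseshoe.exact_sndH_δ S E' E'' a n z
    constructor
    · intro hz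
      obtain ⟨y, hy⟩ := hex.mp hz
      refine ⟨(Hequiv a Eh E n) y, ?_⟩
      change Horseshoe.sndH S E' E'' a n ((Hequiv a Eh E n).symm ((Hequiv a Eh E n) y)) = z
      rw [LinearEquiv.symm_apply_apply, hy]
    · rintro ⟨y, rfl⟩
      exact hex.mpr ⟨_, rfl⟩
  · intro n x
    rw [hA (n + 1)]
    have hex := Horseshoe.exact_δ_inlH S E' E'' a n x
    constructor
    · intro hx
      apply hex.mp
      exact (Hequiv a Eh E (n + 1)).injective (hx.trans (map_zero _).symm)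
    · intro hx
      have := hex.mpr hx
      change (Hequiv a Eh E (n + 1)) (Horseshoe.inlH S E' E'' a (n + 1) x) = 0
      rw [this, map_zero]

end General

end Gr

end Groth.Agent.H6
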