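import Groth.Agent.Lib.Helper6.GrCanLoc
import Groth.Agent.Lib.Helper6.GrQFree
import Groth.Agent.Lib.Helper6.GrShift
import Groth.Agent.Lib.Helper6.GrSubQuot

/-! A graded module over a positively graded ring (`R₀` a field) that is free of rank one at the
irrelevant maximal ideal is a shift of the ring. -/

universe u
open DirectSum
set_option linter.unusedSectionVars false

namespace Groth.Agent.H6

namespace Gr

variable {R : Type u} [CommRing R] (𝒜 : ℤ → AddSubgroup R) [GradedRing 𝒜]
variable (hpos : ∀ n : ℤ, n < 0 → 𝒜 n = ⊥) (h0 : IsField (GrLC.deg0 𝒜))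
variable (m : Ideal R) (hmne : m ≠ ⊤)
  (hmsp : m = Ideal.span (⋃ n ∈ Set.Ioi (0 : ℤ), (𝒜 n : Set R)))

section Z

variable {Q : Type u} [AddCommGroup Q] [Module R Q] (𝒬 : ℤ → AddSubgroup Q)
  [DirectSum.Decomposition 𝒬] [SetLike.GradedSMul 𝒜 𝒬]

include hpos hmsp in
theorem proj_zero_notMem {s : R} (hs : s ∉ m) : proj 𝒜 0 s ∉ m := by
  intro h
  apply hs
  rw [← sum_proj 𝒜 s]
  refine Ideal.sum_mem _ fun j _ => ?_
  rcases lt_trichotomy j 0 with hj | hj | hj
  · have h1 := proj_mem 𝒜 j s
    rw [hpos j hj, AddSubgroup.mem_bot] at h1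
    rw [h1]; exact zero_mem _
  · subst hj; exact h
  · rw [hmsp]
    refine Ideal.subset_span ?_
    simp only [Set.mem_iUnion, Set.mem_Ioi, SetLike.mem_coe]
    exact ⟨j, hj, proj_mem 𝒜 j s⟩

include hpos h0 hmsp in
/-- a homogeneous element killed by an element outside `m` vanishes -/
theorem eq_zero_of_smul_eq_zero {g : ℤ} {x : Q} (hx : x ∈ 𝒬 g) {s : R} (hs : s ∉ m)
    (hsx : s • x = 0) : x = 0 := by
  have hs0 := proj_zero_notMem 𝒜 hpos m hmsp hs
  have hne : (⟨proj 𝒜 0 s, proj_mem 𝒜 0 s⟩ : GrLC.deg0 𝒜) ≠ 0 := by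
    intro h
    apply hs0
    have : proj 𝒜 0 s = 0 := congrArg Subtype.val h
    rw [this]; exact zero_mem _
  obtain ⟨b, hb⟩ := h0.mul_inv_cancel hne
  have hb' : (proj 𝒜 0 s) * (b : R) = 1 := congrArg Subtype.val hb
  have h1 : (proj 𝒜 0 s) • x = 0 := by
    rw [← proj_smul_homogeneous 𝒜 𝒬 hx s 0, hsx, map_zero]
  calc x = ((b : R) * proj 𝒜 0 s) • x := by rw [mul_comm, hb', one_smul]
    _ = 0 := by rw [mul_smul, h1, smul_zero]

end Z

section Main

variable [hmax : m.IsMaximal]
variable {C : Type u} [AddCommGroup C] [Module R C] (𝒞 : ℤ → AddSubgroup C)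
  [DirectSum.Decomposition 𝒞] [SetLike.GradedSMul 𝒜 𝒞]

include hpos h0 hmsp in
/-- a graded module that is free of rank one at `m` is a shift of `R` -/
theorem exists_equiv_shift
    (e : LocalizedModule m.primeCompl C ≃ₗ[Localization.AtPrime m] Localization.AtPrime m) :
    ∃ (a : ℤ) (f : R →ₗ[R] C), Function.Bijective f ∧ GrLC.IsGrHomDeg 𝒜 𝒞 f a := by
  classical
  -- Step 1: a homogeneous element generating at `m`
  have step1 : ∃ (g : ℤ) (c' : C), c' ∈ 𝒞 g ∧
      IsUnit (e (LocalizedModule.mkLinearMap m.primeCompl C c')) := by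
    obtain ⟨c, s, hcs⟩ : ∃ (c : C) (s : m.primeCompl), e.symm 1 = LocalizedModule.mk c s := by
      induction e.symm 1 using LocalizedModule.induction_on with
      | h c s => exact ⟨c, s, rfl⟩
    have h1 : e (LocalizedModule.mkLinearMap m.primeCompl C c) =
        algebraMap R (Localization.AtPrime m) (s : R) := by
      have h2 : LocalizedModule.mkLinearMap m.primeCompl C c = (s : R) • e.symm 1 := by
        rw [hcs, LocalizedModule.mkLinearMap_apply]
        rw [LocalizedModule.smul'_mk, ← LocalizedModule.mk_cancel (S := m.primeCompl) s c]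
        rfl
      rw [h2, ← algebraMap_smul (Localization.AtPrime m) (s : R) (e.symm 1), map_smul,
        LinearEquiv.apply_symm_apply, smul_eq_mul, mul_one]
    have hunit : IsUnit (e (LocalizedModule.mkLinearMap m.primeCompl C c)) := by
      rw [h1]; exact IsLocalization.map_units _ s
    by_contra hcon
    push Not at hcon
    have hmem : ∀ j, e (LocalizedModule.mkLinearMap m.primeCompl C (proj 𝒞 j c)) ∈
        IsLocalRing.maximalIdeal (Localization.AtPrime m) := fun j =>
      (IsLocalRing.mem_maximalIdeal _).mpr (hcon j _ (proj_mem 𝒞 j c))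
    have hsum : e (LocalizedModule.mkLinearMap m.primeCompl C c) ∈
        IsLocalRing.maximalIdeal (Localization.AtPrime m) := by
      rw [← sum_proj 𝒞 c, map_sum, map_sum]
      exact Ideal.sum_mem _ fun j _ => hmem j
    exact (IsLocalRing.mem_maximalIdeal _).mp hsum hunit
  obtain ⟨g, c', hc', hu⟩ := step1
  obtain ⟨u, hu⟩ := hu
  -- Step 2/3: every element of `C` has a multiple outside `m` in `R c'`
  have step3 : ∀ y : C, ∃ s : R, s ∉ m ∧ s • y ∈ Submodule.span R {c'} := by
    intro y
    set t : Localization.AtPrime m := e (LocalizedModule.mkLinearMap m.primeCompl C y) * ↑u⁻¹ with ht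
    have h1 : LocalizedModule.mkLinearMap m.primeCompl C y =
        t • LocalizedModule.mkLinearMap m.primeCompl C c' := by
      apply e.injective
      rw [map_smul, ← hu, smul_eq_mul, ht, mul_assoc, Units.inv_mul, mul_one]
    obtain ⟨⟨r, s'⟩, hrs⟩ : ∃ p : R × m.primeCompl, Localization.mk p.1 p.2 = t := by
      induction t using Localization.induction_on with
      | H p => exact ⟨p, rfl⟩
    rw [← hrs, LocalizedModule.mkLinearMap_apply, LocalizedModule.mkLinearMap_apply,
      LocalizedModule.mk_smul_mk, LocalizedModule.mk_eq] at h1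
    obtain ⟨v, hv⟩ := h1
    refine ⟨(v : R) * ((s' * 1 : m.primeCompl) : R), (v * (s' * 1)).2, ?_⟩
    rw [mul_smul]
    have h2 : (v : R) • ((s' * 1 : m.primeCompl) : R) • y = v • (s' * 1) • y := rfl
    rw [h2, hv]
    change (v : R) • ((1 : m.primeCompl) : R) • r • c' ∈ _
    exact Submodule.smul_mem _ _ (Submodule.smul_mem _ _ (Submodule.smul_mem _ _
      (Submodule.mem_span_singleton_self c')))
  -- Step 4: `C = R c'`
  have hhomN : (Submodule.span R {c'}).IsHomogeneous 𝒞 :=
    span_singleton_isHomogeneous 𝒞 𝒜 hc'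
  have step4 : ∀ y : C, y ∈ Submodule.span R {c'} := by
    obtain ⟨Qm, π, hπsurj, hπker, hπgr⟩ := exists_gmod_quot 𝒜 𝒞 (Submodule.span R {c'}) hhomN
    intro y
    induction y using induction_on 𝒞 with
    | zero => exact zero_mem _
    | add y y' h1 h2 => exact add_mem h1 h2
    | homogeneous k y hy =>
      obtain ⟨s, hs, hsy⟩ := step3 y
      rw [← hπker, LinearMap.mem_ker]
      apply eq_zero_of_smul_eq_zero 𝒜 hpos h0 m hmsp Qm.gr (hπgr k y hy) hs
      rw [← map_smul, ← LinearMap.mem_ker, hπker]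
      exact hsy
  -- Step 5: the map
  let f : R →ₗ[R] C := LinearMap.toSpanSingleton R C c'
  have hfsurj : Function.Surjective f := by
    intro y
    obtain ⟨r, hr⟩ := Submodule.mem_span_singleton.mp (step4 y)
    exact ⟨r, by rw [LinearMap.toSpanSingleton_apply]; exact hr⟩
  have hfgr : GrLC.IsGrHomDeg 𝒜 𝒞 f g := by
    intro k r hr
    rw [LinearMap.toSpanSingleton_apply]
    exact SetLike.GradedSMul.smul_mem (A := 𝒜) (B := 𝒞) hr hc'
  refine ⟨g, f, ⟨?_, hfsurj⟩, hfgr⟩
  -- Step 6: injectivity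
  have hker : (LinearMap.ker f).IsHomogeneous 𝒜 := ker_isHomogeneous_deg 𝒜 𝒞 hfgr
  let floc : LocalizedModule m.primeCompl R →ₗ[Localization.AtPrime m]
      LocalizedModule m.primeCompl C := LocalizedModule.map m.primeCompl f
  have hflocsurj : Function.Surjective floc := by
    intro z
    induction z using LocalizedModule.induction_on with
    | h y s =>
      obtain ⟨r, rfl⟩ := hfsurj y
      exact ⟨LocalizedModule.mk r s, LocalizedModule.map_mk m.primeCompl f r s⟩
  let ψ : Localization.AtPrime m →ₗ[Localization.AtPrime m] Localization.AtPrime m :=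
    e.toLinearMap ∘ₗ floc ∘ₗ (CanLoc.selfEquiv m).symm.toLinearMap
  have hψsurj : Function.Surjective ψ :=
    e.surjective.comp (hflocsurj.comp (CanLoc.selfEquiv m).symm.surjective)
  have hψinj : Function.Injective ψ := OrzechProperty.injective_of_surjective_endomorphism ψ hψsurj
  have hflocinj : Function.Injective floc := by
    intro z z' hzz
    apply (CanLoc.selfEquiv m).injective
    apply hψinj
    change e (floc ((CanLoc.selfEquiv m).symm (CanLoc.selfEquiv m z))) =
      e (floc ((CanLoc.selfEquiv m).symm (CanLoc.selfEquiv m z')))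
    rw [LinearEquiv.symm_apply_apply, LinearEquiv.symm_apply_apply, hzz]
  rw [← LinearMap.ker_eq_bot, LinearMap.ker_eq_bot']
  intro x hx
  apply eq_zero_of_proj_eq_zero 𝒜
  intro j
  have hxj : proj 𝒜 j x ∈ LinearMap.ker f := hker j hx
  have h1 : floc (LocalizedModule.mk (proj 𝒜 j x) 1) = 0 := by
    change LocalizedModule.map m.primeCompl f _ = 0
    rw [LocalizedModule.map_mk m.primeCompl f, LinearMap.mem_ker.mp hxj, LocalizedModule.zero_mk]
  have h2 : LocalizedModule.mk (proj 𝒜 j x) (1 : m.primeCompl) = 0 := by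
    apply hflocinj
    rw [h1, map_zero]
  rw [← LocalizedModule.zero_mk (1 : m.primeCompl), LocalizedModule.mk_eq] at h2
  obtain ⟨v, hv⟩ := h2
  rw [smul_zero, smul_zero] at hv
  have hv' : ((v : R) * ((1 : m.primeCompl) : R)) • proj 𝒜 j x = 0 := by
    rw [mul_smul]; exact hv
  exact eq_zero_of_smul_eq_zero 𝒜 hpos h0 m hmsp 𝒜 (proj_mem 𝒜 j x) (v * 1).2 hv'

end Main

end Gr

end Groth.Agent.H6
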