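import Groth.Agent.Lib.Helper6.GrBassStar
import Groth.Agent.Lib.Helper6.Bass1

/-! Global finiteness of injective dimension of a finitely generated graded module over a
`*local` ring from finiteness at the `*maximal` ideal. -/

universe u
open DirectSum CategoryTheory CategoryTheory.Abelian
open scoped TensorProduct
set_option linter.unusedSectionVars false

namespace Groth.Agent.H6

namespace GrInjDim

section Loc

variable {R : Type u} [CommRing R] [IsNoetherianRing R]
variable (C : Type u) [AddCommGroup C] [Module R C]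

/-- the Mathlib localisation of a module in `ModuleCat` -/
noncomputable def locIso (S : Submonoid R) :
    (ModuleCat.of R C).localizedModule S ≅
      ModuleCat.of (Localization S) (LocalizedModule S C) :=
  (Shrink.linearEquiv (Localization S) (LocalizedModule S C)).toModuleIso

/-- if `Ext^j_{R_m}(-, C_m)` vanishes then `Ext^j_{R_q}(k(q), C_q)` vanishes for `q ≤ m` -/
theorem ext_residue_subsingleton (m : Ideal R) [m.IsPrime] (n : ℕ)
    (hinj : HasInjectiveDimensionLT (ModuleCat.of (Localization.AtPrime m)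
      (LocalizedModule m.primeCompl C)) (n + 1))
    (q : Ideal R) [hq : q.IsPrime] (hqm : q ≤ m) (j : ℕ) (hj : n + 1 ≤ j) :
    Subsingleton (Ext.{u} (ModuleCat.of (Localization.AtPrime q)
        (IsLocalRing.ResidueField (Localization.AtPrime q)))
      (ModuleCat.of (Localization.AtPrime q) (LocalizedModule q.primeCompl C)) j) := by
  haveI : Module.Flat R (Localization.AtPrime m) := IsLocalization.flat _ m.primeCompl
  haveI : Module.Flat R (Localization.AtPrime q) := IsLocalization.flat _ q.primeCompl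
  set X := Ext.{u} (ModuleCat.of R (R ⧸ q)) (ModuleCat.of R C) j with hX
  -- step a
  obtain ⟨e1⟩ := ExtBC.nonempty_equiv (A := R) (B := Localization.AtPrime m) (R ⧸ q) C j
  haveI : HasInjectiveDimensionLT (ModuleCat.of (Localization.AtPrime m)
      ((Localization.AtPrime m) ⊗[R] C)) (n + 1) :=
    hasInjectiveDimensionLT_of_iso
      (LocalizedModule.equivTensorProduct m.primeCompl C).toModuleIso (n + 1)
  have hsub1 : Subsingleton ((Localization.AtPrime m) ⊗[R] X) := by
    refine e1.toEquiv.subsingleton_congr.mpr ⟨fun x y => ?_⟩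
    rw [x.eq_zero_of_hasInjectiveDimensionLT (n + 1) hj,
      y.eq_zero_of_hasInjectiveDimensionLT (n + 1) hj]
  -- step b
  have hkill : ∀ x : X, ∃ s : R, s ∉ m ∧ s • x = 0 := by
    intro x
    haveI : IsLocalizedModule m.primeCompl
        (TensorProduct.mk R (Localization.AtPrime m) X 1) :=
      (isLocalizedModule_iff_isBaseChange m.primeCompl (Localization.AtPrime m) _).mpr
        (TensorProduct.isBaseChange R X (Localization.AtPrime m))
    have h0 : TensorProduct.mk R (Localization.AtPrime m) X 1 x = 0 := Subsingleton.elim _ _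
    obtain ⟨c, hc⟩ := (IsLocalizedModule.eq_zero_iff m.primeCompl
      (TensorProduct.mk R (Localization.AtPrime m) X 1)).mp h0
    exact ⟨c.1, c.2, hc⟩
  -- step c
  have hsub2 : Subsingleton ((Localization.AtPrime q) ⊗[R] X) := by
    refine subsingleton_of_forall_eq 0 fun z => ?_
    induction z using TensorProduct.induction_on with
    | zero => rfl
    | add x y hx hy => rw [hx, hy, add_zero]
    | tmul t x =>
      obtain ⟨s, hs, hsx⟩ := hkill x
      have hsq : s ∈ q.primeCompl := fun h => hs (hqm h)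
      obtain ⟨u, hu⟩ := IsLocalization.map_units (Localization.AtPrime q) (⟨s, hsq⟩ : q.primeCompl)
      have : t ⊗ₜ[R] x = (t * ↑u⁻¹) ⊗ₜ[R] (s • x) := by
        rw [← TensorProduct.smul_tmul, Algebra.smul_def, ← hu]
        change _ = ((u : Localization.AtPrime q) * (t * ↑u⁻¹)) ⊗ₜ[R] x
        rw [mul_comm t, ← mul_assoc, Units.mul_inv, one_mul]
      rw [this, hsx, TensorProduct.tmul_zero]
  -- step d
  obtain ⟨e2⟩ := ExtBC.nonempty_equiv (A := R) (B := Localization.AtPrime q) (R ⧸ q) C j
  obtain ⟨eK⟩ := BassStar.nonempty_residue_equiv q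
  have e3 := ExtLin.postcompEquiv (LocalizedModule.equivTensorProduct q.primeCompl C).toModuleIso
    (ModuleCat.of (Localization.AtPrime q) (IsLocalRing.ResidueField (Localization.AtPrime q))) j
  have e4 := ExtLin.precompEquiv eK.toModuleIso
    (ModuleCat.of (Localization.AtPrime q) ((Localization.AtPrime q) ⊗[R] C)) j
  exact (e3.trans (e4.trans e2.symm)).toEquiv.subsingleton_congr.mpr hsub2

end Loc

section Global

theorem injdim_congr {R : Type u} [CommRing R] (C : Type u) [AddCommGroup C] [Module R C]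
    (I J : Ideal R) [hI : I.IsPrime] [hJ : J.IsPrime] (h : I = J) (k : ℕ)
    (hinj : HasInjectiveDimensionLT (ModuleCat.of (Localization.AtPrime I)
      (LocalizedModule I.primeCompl C)) k) :
    HasInjectiveDimensionLT (ModuleCat.of (Localization.AtPrime J)
      (LocalizedModule J.primeCompl C)) k := by
  subst h
  exact hinj

variable {R : Type u} [CommRing R] [IsNoetherianRing R] (𝒜 : ℤ → AddSubgroup R) [GradedRing 𝒜]
variable {C : Type u} [AddCommGroup C] [Module R C] [Module.Finite R C] (𝒞 : ℤ → AddSubgroup C)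
  [DirectSum.Decomposition 𝒞] [SetLike.GradedSMul 𝒜 𝒞]
variable (m : Ideal R) [hm : m.IsMaximal]
  (hstar : ∀ P : Ideal R, P.IsHomogeneous 𝒜 → P ≠ ⊤ → P ≤ m)

include 𝒞 hstar in
/-- finite injective dimension at the `*maximal` ideal implies finite injective dimension -/
theorem hasInjectiveDimensionLT_of_star (n : ℕ)
    (hinj : HasInjectiveDimensionLT (ModuleCat.of (Localization.AtPrime m)
      (LocalizedModule m.primeCompl C)) (n + 1)) :
    HasInjectiveDimensionLT (ModuleCat.of R C) (n + 2) := by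
  refine (ModuleCat.hasInjectiveDimensionLE_iff_forall_maximalSpectrum (n + 1)
    (ModuleCat.of R C)).mpr fun 𝔪 => ?_
  haveI h𝔪 : 𝔪.1.IsMaximal := 𝔪.2
  change HasInjectiveDimensionLT _ (n + 1 + 1)
  suffices hsuff : HasInjectiveDimensionLT (ModuleCat.of (Localization.AtPrime 𝔪.1)
      (LocalizedModule 𝔪.1.primeCompl C)) (n + 1 + 1) from
    hasInjectiveDimensionLT_of_iso (locIso C 𝔪.1.primeCompl).symm (n + 1 + 1)
  by_cases heq : 𝔪.1 = m
  · have : HasInjectiveDimensionLT (ModuleCat.of (Localization.AtPrime 𝔪.1)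
        (LocalizedModule 𝔪.1.primeCompl C)) (n + 1) :=
      injdim_congr C m 𝔪.1 heq.symm (n + 1) hinj
    exact hasInjectiveDimensionLT_of_ge _ (n + 1) (n + 1 + 1) (Nat.le_succ _)
  · have hnh : ¬ 𝔪.1.IsHomogeneous 𝒜 := by
      intro hh
      exact heq (h𝔪.eq_of_le hm.ne_top (hstar 𝔪.1 hh h𝔪.ne_top))
    haveI hqprime : (Ideal.homogeneousCore 𝒜 𝔪.1).toIdeal.IsPrime :=
      Ideal.IsPrime.homogeneousCore h𝔪.isPrime
    have hqh : (Ideal.homogeneousCore 𝒜 𝔪.1).toIdeal.IsHomogeneous 𝒜 :=
      (Ideal.homogeneousCore 𝒜 𝔪.1).isHomogeneous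
    have hqle : (Ideal.homogeneousCore 𝒜 𝔪.1).toIdeal ≤ 𝔪.1 := Ideal.toIdeal_homogeneousCore_le 𝒜 𝔪.1
    have hqm : (Ideal.homogeneousCore 𝒜 𝔪.1).toIdeal ≤ m := hstar _ hqh hqprime.ne_top
    have hhom : ∀ s : R, (∃ d, s ∈ 𝒜 d) → s ∈ 𝔪.1 → s ∈ (Ideal.homogeneousCore 𝒜 𝔪.1).toIdeal :=
      fun s hs hsp => Ideal.mem_homogeneousCore_of_homogeneous_of_mem hs hsp
    have hne : ∃ x ∈ 𝔪.1, x ∉ (Ideal.homogeneousCore 𝒜 𝔪.1).toIdeal := by
      by_contra hcon
      push Not at hcon
      apply hnh
      have : (Ideal.homogeneousCore 𝒜 𝔪.1).toIdeal = 𝔪.1 := le_antisymm hqle hcon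
      rw [← this]
      exact hqh
    haveI : IsNoetherianRing (Localization.AtPrime 𝔪.1) :=
      IsLocalization.isNoetherianRing 𝔪.1.primeCompl _ inferInstance
    haveI : Module.Finite (Localization.AtPrime 𝔪.1) (LocalizedModule 𝔪.1.primeCompl C) :=
      Module.Finite.of_isLocalizedModule 𝔪.1.primeCompl
        (LocalizedModule.mkLinearMap 𝔪.1.primeCompl C)
    apply Bass.hasInjectiveDimensionLT_of_residue (ModuleCat.of (Localization.AtPrime 𝔪.1)
      (LocalizedModule 𝔪.1.primeCompl C)) (n + 1)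
    intro j hj
    obtain ⟨j', rfl⟩ : ∃ j', j = j' + 1 := ⟨j - 1, by omega⟩
    have h1 := BassStar.bassNum_succ 𝒜 𝒞 _ hqh 𝔪.1 hqle hhom hne j'
    have h2 : GrLC.bassNum (Ideal.homogeneousCore 𝒜 𝔪.1).toIdeal C j' = 0 := by
      haveI := ext_residue_subsingleton C m n hinj (Ideal.homogeneousCore 𝒜 𝔪.1).toIdeal hqm j'
        (by omega)
      exact Module.length_eq_zero_iff.mpr inferInstance
    rw [h2] at h1
    exact Module.length_eq_zero_iff.mp h1

end Global

end GrInjDim

end Groth.Agent.H6
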