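import Groth.Agent.Lib.Helper6.GrPrime
import Groth.Agent.Lib.Helper6.GrHomDecomp

/-! The *injective hull of `R ⧸ m`, for `m` a homogeneous maximal ideal, is the injective hull. -/

universe u
open DirectSum InjHull
set_option linter.unusedSectionVars false

namespace Groth.Agent.H6

namespace Gr

variable {ι : Type} [AddCommGroup ι] [DecidableEq ι]
variable {R : Type u} [CommRing R] (𝒜 : ι → AddSubgroup R) [GradedRing 𝒜]
variable (m : HomogeneousIdeal 𝒜) [hm : m.toIdeal.IsMaximal]
variable {E : Type u} [AddCommGroup E] [Module R E]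
  (𝓔 : ι → AddSubgroup E) [DirectSum.Decomposition 𝓔] [SetLike.GradedSMul 𝒜 𝓔]
  {e : (R ⧸ m.toIdeal) →ₗ[R] E}

include hm in
/-- **S18637** -/
theorem isInjectiveHull_of_starInjHull_maximal [IsNoetherianRing R]
    (he : GrLC.IsStarInjHull 𝒜 (GrLC.quotGr 𝒜 m) 𝓔 e) : IsInjectiveHull e := by
  have hess : IsEssentialInj e := isEssentialInj_of_starEss_quot 𝒜 m 𝓔 he.toIsStarEss
  refine ⟨hess, ?_⟩
  -- the ungraded hull of `E`
  obtain ⟨I, _, _, g, hg⟩ := IH.exists_injectiveHull (R := R) E
  have hge : IsEssentialInj (g ∘ₗ e) := isEssentialInj_comp hess hg.toIsEssentialInj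
  -- the ideal `m` as a graded module
  obtain ⟨Mm, j, hjinj, hjrange, hjgr⟩ := exists_gmod_sub 𝒜 𝒜 m.toIdeal m.isHomogeneous
  haveI : Module.Finite R Mm.carrier := Module.Finite.of_injective j hjinj
  let eg := LinearEquiv.ofInjective g hg.injective
  -- the key claim
  have key : ∀ (n : ℕ) (x : I), (∀ a ∈ m.toIdeal ^ n, a • x = 0) → x ∈ LinearMap.range g := by
    intro n
    induction n with
    | zero =>
      intro x hx
      have := hx 1 (by rw [pow_zero, Ideal.one_eq_top]; exact Submodule.mem_top)
      rw [one_smul] at this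
      rw [this]
      exact zero_mem _
    | succ n ih =>
      intro x hx
      have hax : ∀ a ∈ m.toIdeal, a • x ∈ LinearMap.range g := by
        intro a ha
        apply ih
        intro b hb
        rw [smul_smul]
        exact hx _ (by rw [pow_succ]; exact Ideal.mul_mem_mul hb ha)
      let ψ : Mm.carrier →ₗ[R] I := (LinearMap.toSpanSingleton R I x) ∘ₗ j
      have hψ : ∀ z, ψ z ∈ LinearMap.range g := by
        intro z
        change (j z) • x ∈ _
        apply hax
        rw [← hjrange]
        exact ⟨z, rfl⟩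
      let φ : Mm.carrier →ₗ[R] E := eg.symm.toLinearMap ∘ₗ ψ.codRestrict (LinearMap.range g) hψ
      have hgφ : ∀ z, g (φ z) = (j z) • x := by
        intro z
        have : eg (φ z) = ⟨ψ z, hψ z⟩ := by
          change eg (eg.symm _) = _
          rw [LinearEquiv.apply_symm_apply]
          rfl
        exact congrArg Subtype.val this
      obtain ⟨h0, hh0⟩ := starInj_extend_of_finite 𝒜 𝓔 he.starInj Mm (GrLC.GMod.of 𝒜 R 𝒜) j
        hjgr hjinj φ
      let h : R →ₗ[R] E := h0
      have hh : ∀ z, h (j z) = φ z := fun z => LinearMap.congr_fun hh0 z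
      -- `x - g (h 1)` is killed by `m`
      have hsoc : x - g (h 1) ∈ Submodule.torsionBySet R I (m.toIdeal : Set R) := by
        rw [Submodule.mem_torsionBySet_iff]
        rintro ⟨a, ha⟩
        change a • (x - g (h 1)) = 0
        have ha' : a ∈ LinearMap.range j := by rw [hjrange]; exact ha
        obtain ⟨z, rfl⟩ := ha'
        rw [smul_sub, ← map_smul, ← map_smul, smul_eq_mul, mul_one, hh, hgφ, sub_self]
      rw [IH.torsionBySet_eq_range m.toIdeal hge] at hsoc
      obtain ⟨c, hc⟩ := hsoc
      have : x = g (e c + h 1) := by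
        rw [map_add, ← LinearMap.comp_apply, hc]
        abel
      rw [this]
      exact ⟨_, rfl⟩
  have hsurj : Function.Surjective g := by
    intro x
    obtain ⟨n, hn⟩ := powerTorsion_of_essential_quot m.toIdeal hge x
    exact key n x hn
  haveI := hg.isInjective
  exact IH.injective_of_equiv (LinearEquiv.ofBijective g ⟨hg.injective, hsurj⟩).symm

end Gr

end Groth.Agent.H6
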