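import Groth.Agent.Lib.Helper6.PolyBasic
import Groth.Agent.Lib.Helper6.GrAInv
import Groth.Agent.Lib.Helper6.GrPos
import Groth.Agent.Lib.Helper6.GrLES
import Groth.Agent.Lib.Helper6.GrHomDecomp
import Groth.Agent.Lib.Helper6.GrGamma
import Groth.Agent.Lib.Helper6.GrRes
import Groth.Agent.S18638
import Groth.Agent.S18645

/-! The canonical module of a weighted polynomial ring. -/

universe u
open DirectSum
set_option linter.unusedSectionVars false

namespace Groth.Agent.H6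

namespace PolyCan

section Pos

variable {R : Type u} [CommRing R] (𝒜 : ℤ → AddSubgroup R) [GradedRing 𝒜]
  (hpos : ∀ n : ℤ, n < 0 → 𝒜 n = ⊥) (m : HomogeneousIdeal 𝒜)
  (hmsp : m.toIdeal = Ideal.span (⋃ n ∈ Set.Ioi (0 : ℤ), (𝒜 n : Set R)))

include hpos hmsp in
theorem sub_proj_zero_mem (s : R) : s - Gr.proj 𝒜 0 s ∈ m.toIdeal := by
  induction s using Gr.induction_on 𝒜 with
  | zero => rw [map_zero, sub_zero]; exact zero_mem _
  | homogeneous i s hs =>
    rcases lt_trichotomy i 0 with hi | hi | hi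
    · have : s = 0 := by
        have h1 := hpos i hi
        rw [h1] at hs
        exact hs
      rw [this, map_zero, sub_zero]
      exact zero_mem _
    · subst hi
      rw [Gr.proj_of_mem 𝒜 hs, sub_self]
      exact zero_mem _
    · rw [Gr.proj_of_mem_ne 𝒜 hs (ne_of_gt hi), sub_zero, hmsp]
      apply Ideal.subset_span
      simp only [Set.mem_iUnion]
      exact ⟨i, hi, hs⟩
  | add s s' h1 h2 =>
    have : s + s' - Gr.proj 𝒜 0 (s + s') = (s - Gr.proj 𝒜 0 s) + (s' - Gr.proj 𝒜 0 s') := by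
      rw [map_add]; abel
    rw [this]
    exact add_mem h1 h2

include hpos hmsp in
theorem mk_mem_quotGr_zero (q : R ⧸ m.toIdeal) : q ∈ GrLC.quotGr 𝒜 m 0 := by
  obtain ⟨s, rfl⟩ := Ideal.Quotient.mk_surjective q
  have h1 : Ideal.Quotient.mk m.toIdeal s = Ideal.Quotient.mk m.toIdeal (Gr.proj 𝒜 0 s) := by
    rw [Ideal.Quotient.eq]
    exact sub_proj_zero_mem 𝒜 hpos m hmsp s
  rw [h1]
  exact ⟨Gr.proj 𝒜 0 s, Gr.proj_mem 𝒜 0 s, rfl⟩

variable {E' : Type u} [AddCommGroup E'] [Module R E'] (𝓔 : ℤ → AddSubgroup E')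
  [DirectSum.Decomposition 𝓔] [SetLike.GradedSMul 𝒜 𝓔]
  (e : (R ⧸ m.toIdeal) →ₗ[R] E') (he : GrLC.IsStarEss (GrLC.quotGr 𝒜 m) 𝓔 e)

include hpos hmsp he in
/-- the *injective envelope of `R ⧸ m` lives in nonpositive degrees -/
theorem hull_pos_eq_bot (j : ℤ) (hj : 0 < j) : 𝓔 j = ⊥ := by
  rw [eq_bot_iff]
  intro x hx
  rw [AddSubgroup.mem_bot]
  by_contra hx0
  have hQ : (Submodule.span R {x}).IsHomogeneous 𝓔 := Gr.span_singleton_isHomogeneous 𝓔 𝒜 hx
  have hQ0 : Submodule.span R {x} ≠ ⊥ := by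
    intro h
    rw [Submodule.span_singleton_eq_bot] at h
    exact hx0 h
  have := he.essential _ hQ hQ0
  rw [Submodule.ne_bot_iff] at this
  obtain ⟨z, ⟨hz1, ⟨q, hq⟩⟩, hz0⟩ := this
  obtain ⟨r, rfl⟩ := Submodule.mem_span_singleton.mp hz1
  apply hz0
  have hz : r • x ∈ 𝓔 0 := by
    rw [← hq]
    exact he.grHom 0 q (mk_mem_quotGr_zero 𝒜 hpos m hmsp q)
  rw [← Gr.proj_of_mem 𝓔 hz, Gr.proj_smul_of_mem_right 𝒜 𝓔 hx]
  have h1 : Gr.proj 𝒜 (0 - j) r = 0 := by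
    have h2 := Gr.proj_mem 𝒜 (0 - j) r
    rw [hpos (0 - j) (by omega)] at h2
    exact h2
  rw [h1, zero_smul]

end Pos


section Residue

variable {R : Type u} [CommRing R] (𝒜 : ℤ → AddSubgroup R) [GradedRing 𝒜]
  (m : HomogeneousIdeal 𝒜)
  (hmsp : m.toIdeal = Ideal.span (⋃ n ∈ Set.Ioi (0 : ℤ), (𝒜 n : Set R)))
variable {N : Type u} [AddCommGroup N] [Module R N] (𝒩 : ℤ → AddSubgroup N)
  [DirectSum.Decomposition 𝒩] [SetLike.GradedSMul 𝒜 𝒩] (π : R →ₗ[R] N)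
  (hπ : GrLC.IsGrHom 𝒜 𝒩 π) (hπs : Function.Surjective π) (hπk : LinearMap.ker π = m.toIdeal)
  (hne : m.toIdeal ≠ ⊤) (F : GrLC.StarInjRes 𝒜 𝒩)

include hmsp hπ hπs hπk hne in
theorem endDeg_H0_residue :
    GrLC.endDeg (F.Hgr m 0) = (((0 : ℤ) : WithTop ℤ) : WithBot (WithTop ℤ)) := by
  apply AInv.endDeg_eq_coe
  · rw [AInv.ne_bot_iff_exists]
    have hz : F.ε (π 1) ∈ F.cocyc m 0 := by
      rw [Gr.mem_cocyc]
      refine ⟨⟨1, fun r hr => ?_⟩, Gr.d_ε F _⟩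
      rw [pow_one] at hr
      rw [← map_smul, ← map_smul, smul_eq_mul, mul_one]
      have : π r = 0 := by
        rw [← LinearMap.mem_ker, hπk]
        exact hr
      rw [this, map_zero]
    refine ⟨F.toH m 0 ⟨_, hz⟩, ⟨⟨_, hz⟩, ?_, rfl⟩, ?_⟩
    · exact F.ε_grHom 0 _ (hπ 0 1 (SetLike.GradedOne.one_mem (A := 𝒜)))
    · rw [Ne, Gr.toH_eq_zero_iff, Gr.mem_cobdy_zero]
      intro h
      have h1 : π 1 = 0 := F.ε_injective (h.trans (map_zero _).symm)
      apply hne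
      rw [Ideal.eq_top_iff_one, ← hπk, LinearMap.mem_ker]
      exact h1
  · intro n hn
    rw [eq_bot_iff]
    intro h hh
    obtain ⟨z, hz, rfl⟩ : ∃ z : F.cocyc m 0, (z : (F.X 0).carrier) ∈ (F.X 0).gr n ∧
      F.toH m 0 z = h := hh
    rw [AddSubgroup.mem_bot, Gr.toH_eq_zero_iff, Gr.mem_cobdy_zero]
    have hz2 : (z : (F.X 0).carrier) ∈ LinearMap.ker (F.d 0) := z.2.2
    rw [F.exact_zero] at hz2
    obtain ⟨x, hx⟩ := hz2
    have hxn : x ∈ 𝒩 n := by
      apply Gr.mem_of_map_mem 𝒩 (F.X 0).gr F.ε_grHom F.ε_injective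
      rw [hx]
      exact hz
    obtain ⟨s, rfl⟩ := hπs x
    have h1 : π s = π (Gr.proj 𝒜 n s) := by
      rw [Gr.isGrHom_proj 𝒜 𝒩 hπ, Gr.proj_of_mem 𝒩 hxn]
    have h2 : Gr.proj 𝒜 n s ∈ m.toIdeal := by
      rw [hmsp]
      apply Ideal.subset_span
      simp only [Set.mem_iUnion]
      exact ⟨n, hn, Gr.proj_mem 𝒜 n s⟩
    rw [← hπk, LinearMap.mem_ker] at h2
    rw [← hx, h1, h2, map_zero]

end Residue



section EndDeg

variable {H : Type u} [AddCommGroup H] (𝒢 : ℤ → AddSubgroup H)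

theorem le_of_endDeg_eq (a : ℤ)
    (h : GrLC.endDeg 𝒢 = ((a : WithTop ℤ) : WithBot (WithTop ℤ))) (n : ℤ) (hn : 𝒢 n ≠ ⊥) :
    n ≤ a := by
  have h1 : (((n : WithTop ℤ)) : WithBot (WithTop ℤ)) ≤ GrLC.endDeg 𝒢 := by
    unfold GrLC.endDeg
    exact le_iSup₂_of_le n hn le_rfl
  rw [h, WithBot.coe_le_coe, WithTop.coe_le_coe] at h1
  exact h1

theorem ne_bot_of_endDeg_eq (a : ℤ)
    (h : GrLC.endDeg 𝒢 = ((a : WithTop ℤ) : WithBot (WithTop ℤ))) : 𝒢 a ≠ ⊥ := by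
  intro ha
  have h1 : GrLC.endDeg 𝒢 ≤ (((a - 1 : ℤ) : WithTop ℤ) : WithBot (WithTop ℤ)) := by
    unfold GrLC.endDeg
    refine iSup₂_le fun n hn => ?_
    rw [WithBot.coe_le_coe, WithTop.coe_le_coe]
    have h2 := le_of_endDeg_eq 𝒢 a h n hn
    have h3 : n ≠ a := fun h => hn (h ▸ ha)
    omega
  rw [h, WithBot.coe_le_coe, WithTop.coe_le_coe] at h1
  omega

end EndDeg

section Main

variable (k : Type u) [Field k] (N : ℕ) (w : Fin N → ℤ) (hw : ∀ i, 0 < w i)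
variable [hA : GradedRing (PolyGr.gr k N w)]
variable (m : HomogeneousIdeal (PolyGr.gr k N w)) (hm : GrLC.IsStarLocal (PolyGr.gr k N w) m)
  (hmsp : m.toIdeal = Ideal.span (⋃ n ∈ Set.Ioi (0 : ℤ),
    ((PolyGr.gr k N w n : AddSubgroup _) : Set (MvPolynomial (Fin N) k))))
  (I : GrLC.StarInjRes (PolyGr.gr k N w) (PolyGr.gr k N w))

include hw hm hmsp in
/-- the a-invariant of the weighted polynomial ring -/
theorem endDeg_top :
    GrLC.endDeg (I.Hgr m N) =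
      (((-(Finset.univ : Finset (Fin N)).sum w : ℤ) : WithTop ℤ) : WithBot (WithTop ℤ)) := by
  have hpos := PolyGr.gr_neg k N w hw
  have h0 := PolyGr.isField_deg0 k N w hw
  have hker : (LinearMap.ker (Submodule.mkQ m.toIdeal)).IsHomogeneous (PolyGr.gr k N w) := by
    rw [Submodule.ker_mkQ]
    exact m.isHomogeneous
  let Qm : GrLC.GMod.{u} (PolyGr.gr k N w) := Gr.GMod.ofQuot (PolyGr.gr k N w) (PolyGr.gr k N w)
    (q := Submodule.mkQ m.toIdeal) (Submodule.mkQ_surjective _) hker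
  let π : MvPolynomial (Fin N) k →ₗ[MvPolynomial (Fin N) k] Qm.carrier := Submodule.mkQ m.toIdeal
  have hπ : GrLC.IsGrHom (PolyGr.gr k N w) Qm.gr π := fun g r hr => ⟨r, hr, rfl⟩
  have hπs : Function.Surjective π := Submodule.mkQ_surjective _
  have hmX : m.toIdeal = Ideal.span (Set.range (MvPolynomial.X : Fin N → MvPolynomial (Fin N) k)) :=
    hmsp.trans (PolyGr.span_pos_eq k N w hw)
  have hπk : LinearMap.ker π = Ideal.span (Set.range
      (fun j : Fin N => (MvPolynomial.X j : MvPolynomial (Fin N) k))) :=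
    (Submodule.ker_mkQ m.toIdeal).trans hmX
  have hπk' : LinearMap.ker π = m.toIdeal := Submodule.ker_mkQ m.toIdeal
  have hne : m.toIdeal ≠ ⊤ := by
    intro h
    apply hm.1.1
    apply HomogeneousIdeal.toIdeal_injective
    rw [h, HomogeneousIdeal.toIdeal_top]
  let F : GrLC.StarInjRes (PolyGr.gr k N w) Qm.gr := Gr.starInjRes (PolyGr.gr k N w) Qm.gr
  have h1 := Groth.Agent.S18645.result (MvPolynomial (Fin N) k) (PolyGr.gr k N w) hpos h0 m hm hmsp
    N (PolyGr.ringKrullDim_eq k N) I N le_rfl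
    (fun j : Fin N => (MvPolynomial.X j : MvPolynomial (Fin N) k)) w
    (fun i => PolyGr.X_mem k N w i)
    (fun i => by rw [hmX]; exact Ideal.subset_span ⟨i, rfl⟩)
    (PolyGr.isRegular_X k N) Qm.carrier Qm.gr π hπ hπs hπk F
  rw [Nat.sub_self, endDeg_H0_residue (PolyGr.gr k N w) m hmsp Qm.gr π hπ hπs hπk' hne F] at h1
  generalize GrLC.endDeg (I.Hgr m N) = x at h1 ⊢
  induction x using WithBot.recBotCoe with
  | bot =>
    rw [WithBot.bot_add] at h1
    exact absurd h1 WithBot.coe_ne_bot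
  | coe y =>
    induction y using WithTop.recTopCoe with
    | top =>
      rw [← WithBot.coe_add, WithBot.coe_inj, WithTop.top_add] at h1
      exact absurd h1 WithTop.coe_ne_top
    | coe a =>
      rw [← WithBot.coe_add, WithBot.coe_inj, ← WithTop.coe_add, WithTop.coe_inj] at h1
      have : a = -(Finset.univ : Finset (Fin N)).sum w := by omega
      rw [this]

variable {E' : Type u} [AddCommGroup E'] [Module (MvPolynomial (Fin N) k) E']
  (𝓔 : ℤ → AddSubgroup E') [DirectSum.Decomposition 𝓔] [SetLike.GradedSMul (PolyGr.gr k N w) 𝓔]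
  (e : (MvPolynomial (Fin N) k ⧸ m.toIdeal) →ₗ[MvPolynomial (Fin N) k] E')
  (he : GrLC.IsStarInjHull (PolyGr.gr k N w) (GrLC.quotGr (PolyGr.gr k N w) m) 𝓔 e)
  {C : Type u} [AddCommGroup C] [Module (MvPolynomial (Fin N) k) C] (𝒞 : ℤ → AddSubgroup C)
  [DirectSum.Decomposition 𝒞] [SetLike.GradedSMul (PolyGr.gr k N w) 𝒞]
  (hC : GrLC.IsStarCanonical (PolyGr.gr k N w) 𝒞 𝓔 m N I)

include hw hm hmsp he hC in
theorem exists_equiv : ∃ f : MvPolynomial (Fin N) k →ₗ[MvPolynomial (Fin N) k] C,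
    Function.Bijective f ∧
      GrLC.IsGrHomDeg (PolyGr.gr k N w) 𝒞 f ((Finset.univ : Finset (Fin N)).sum w) := by
  have hpos := PolyGr.gr_neg k N w hw
  have h0 := PolyGr.isField_deg0 k N w hw
  obtain ⟨a, f, hbij, hdeg⟩ := (Groth.Agent.S18638.result (MvPolynomial (Fin N) k) (PolyGr.gr k N w)
    hpos h0 m hm hmsp N (PolyGr.ringKrullDim_eq k N) I E' 𝓔 e he C 𝒞 hC).mp (PolyGr.instGor k N)
  obtain ⟨s, hs⟩ : ∃ s : ℤ, s = (Finset.univ : Finset (Fin N)).sum w := ⟨_, rfl⟩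
  have hE := endDeg_top k N w hw m hm hmsp I
  rw [← hs] at hE ⊢
  obtain ⟨hfin, φ, hφ⟩ := hC
  have he1 : e 1 ∈ 𝓔 0 := he.grHom 0 1 (mk_mem_quotGr_zero (PolyGr.gr k N w) hpos m hmsp 1)
  have he10 : e 1 ≠ 0 := by
    intro h
    have h1 : (1 : MvPolynomial (Fin N) k ⧸ m.toIdeal) = 0 := he.injective (h.trans (map_zero e).symm)
    apply hm.1.1
    apply HomogeneousIdeal.toIdeal_injective
    rw [HomogeneousIdeal.toIdeal_top, Ideal.eq_top_iff_one, ← Ideal.Quotient.eq_zero_iff_mem]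
    exact h1
  have hf1 : f 1 ∈ 𝒞 a := by
    have := hdeg 0 1 (SetLike.GradedOne.one_mem (A := PolyGr.gr k N w))
    rwa [zero_add] at this
  suffices hsa : a = s by
    rw [← hsa]
    exact ⟨f, hbij, hdeg⟩
  apply le_antisymm
  · -- `a ≤ s`
    have h1 := ne_bot_of_endDeg_eq _ (-s) hE
    rw [AInv.ne_bot_iff_exists] at h1
    obtain ⟨h, hh, hh0⟩ := h1
    obtain ⟨D, hD⟩ := Gr.exists_finset_sum_homComp (PolyGr.gr k N w) 𝒞 𝓔 (φ.symm h)
    letI : DirectSum.Decomposition (I.Hgr m N) :=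
      (Gr.isInternal_Hgr (PolyGr.gr k N w) (PolyGr.gr k N w) I m N).chooseDecomposition
    have h2 : h = ∑ d ∈ D, φ (Gr.homComp (PolyGr.gr k N w) 𝒞 𝓔 (φ.symm h) d) := by
      rw [← map_sum, ← hD, φ.apply_symm_apply]
    have h3 : ∀ d, φ (Gr.homComp (PolyGr.gr k N w) 𝒞 𝓔 (φ.symm h) d) ∈ I.Hgr m N d :=
      fun d => hφ d _ (Gr.homComp_isGrHomDeg (PolyGr.gr k N w) 𝒞 𝓔 _ d)
    have h4 : Gr.proj (I.Hgr m N) (-s) h = h := Gr.proj_of_mem _ hh
    have h5 : ∃ d ∈ D, Gr.proj (I.Hgr m N) (-s)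
        (φ (Gr.homComp (PolyGr.gr k N w) 𝒞 𝓔 (φ.symm h) d)) ≠ 0 := by
      by_contra hcon
      push Not at hcon
      apply hh0
      rw [← h4]
      conv_lhs => rw [h2]
      rw [map_sum]
      exact Finset.sum_eq_zero hcon
    obtain ⟨d, hdD, hd⟩ := h5
    have hds : d = -s := by
      by_contra hne
      exact hd (Gr.proj_of_mem_ne _ (h3 d) hne)
    rw [hds] at hd
    obtain ⟨u', hu'⟩ : ∃ u', u' = Gr.homComp (PolyGr.gr k N w) 𝒞 𝓔 (φ.symm h) (-s) := ⟨_, rfl⟩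
    rw [← hu'] at hd
    have hu'0 : u' ≠ 0 := by
      intro h0
      apply hd
      rw [h0, map_zero, map_zero]
    have hu'deg : GrLC.IsGrHomDeg 𝒞 𝓔 u' (-s) := by
      rw [hu']
      exact Gr.homComp_isGrHomDeg (PolyGr.gr k N w) 𝒞 𝓔 _ (-s)
    have h6 : u' (f 1) ≠ 0 := by
      intro h0
      apply hu'0
      apply LinearMap.ext
      intro c
      obtain ⟨r, rfl⟩ := hbij.2 c
      have : f r = r • f 1 := by rw [← map_smul, smul_eq_mul, mul_one]
      rw [this, map_smul, h0, smul_zero]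
      rfl
    have h7 : u' (f 1) ∈ 𝓔 (a + -s) := hu'deg a _ hf1
    have h8 : ¬ (0 < a + -s) := by
      intro hpos'
      have := hull_pos_eq_bot (PolyGr.gr k N w) hpos m hmsp 𝓔 e he.toIsStarEss (a + -s) hpos'
      rw [this] at h7
      exact h6 h7
    omega
  · -- `s ≤ a`
    let fe := LinearEquiv.ofBijective f hbij
    let u₀ : C →ₗ[MvPolynomial (Fin N) k] E' :=
      (LinearMap.toSpanSingleton (MvPolynomial (Fin N) k) E' (e 1)) ∘ₗ fe.symm.toLinearMap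
    have hu₀ : GrLC.IsGrHomDeg 𝒞 𝓔 u₀ (-a) := by
      intro j c hc
      have hr : fe.symm c ∈ PolyGr.gr k N w (j - a) := by
        have h1 : f (Gr.proj (PolyGr.gr k N w) (j - a) (fe.symm c)) = f (fe.symm c) := by
          rw [Gr.isGrHomDeg_proj (PolyGr.gr k N w) 𝒞 hdeg, sub_add_cancel]
          have : f (fe.symm c) = c := fe.apply_symm_apply c
          rw [this, Gr.proj_of_mem 𝒞 hc]
        rw [← hbij.1 h1]
        exact Gr.proj_mem _ _ _
      change (fe.symm c) • e 1 ∈ 𝓔 (j + -a)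
      have := SetLike.GradedSMul.smul_mem (A := PolyGr.gr k N w) (B := 𝓔) hr he1
      rwa [vadd_eq_add, add_zero, sub_eq_add_neg] at this
    have hu₀0 : u₀ ≠ 0 := by
      intro h
      have h1 : u₀ (f 1) = e 1 := by
        change (fe.symm (f 1)) • e 1 = e 1
        have : fe.symm (f 1) = 1 := fe.symm_apply_apply 1
        rw [this, one_smul]
      rw [h, LinearMap.zero_apply] at h1
      exact he10 h1.symm
    have h2 : I.Hgr m N (-a) ≠ ⊥ := by
      rw [AInv.ne_bot_iff_exists]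
      refine ⟨φ u₀, hφ (-a) u₀ hu₀, ?_⟩
      intro h
      exact hu₀0 (φ.injective (h.trans (map_zero φ).symm))
    have := le_of_endDeg_eq _ (-s) hE (-a) h2
    omega

end Main

end PolyCan

end Groth.Agent.H6
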