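import Groth.Agent.Lib.Helper6.AInvPoly2
import Groth.Agent.Lib.Helper6.PolyCan

/-! The a-invariant `-d` forces the irrelevant ideal to be generated by a regular sequence of
elements of degree one. -/

set_option autoImplicit false
set_option linter.unusedSectionVars false
universe u
open GrLC Groth.Agent.H6 Groth.Agent.H6.Gr

namespace Groth.Agent.H6.AInvPoly

section Dim

open RingTheory.Sequence Module Ideal

theorem supportDim_add_length_le {R : Type u} [CommRing R] :
    ∀ (rs : List R) (M : Type u) [AddCommGroup M] [Module R M] [Module.Finite R M]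
    (_ : IsWeaklyRegular M rs),
    supportDim R (M ⧸ ofList rs • (⊤ : Submodule R M)) + rs.length ≤ supportDim R M := by
  intro rs
  induction rs with
  | nil =>
    intro M _ _ _ _
    rw [ofList_nil, Submodule.bot_smul]
    simpa using (supportDim_eq_of_equiv (Submodule.quotEquivOfEqBot (⊥ : Submodule R M) rfl)).le
  | cons x rs' ih =>
    intro M _ _ _ reg
    rw [isWeaklyRegular_cons_iff] at reg
    have h1 := supportDim_eq_of_equiv (Submodule.quotOfListConsSMulTopEquivQuotSMulTopInner M x rs')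
    have h2 := ih (QuotSMulTop x M) reg.2
    have h3 : supportDim R (QuotSMulTop x M) + 1 ≤ supportDim R M :=
      supportDim_quotSMulTop_succ_le_of_notMem_minimalPrimes
        (fun _ => reg.1.notMem_of_mem_minimalPrimes)
    rw [h1, List.length_cons, Nat.cast_add, Nat.cast_one, ← add_assoc]
    exact le_trans (add_le_add_left h2 1) h3

theorem ringKrullDim_quotient_add_length_le {R : Type u} [CommRing R] (rs : List R)
    (reg : IsWeaklyRegular R rs) :
    ringKrullDim (R ⧸ ofList rs) + rs.length ≤ ringKrullDim R := by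
  have eq : ofList rs = ofList rs • (⊤ : Ideal R) := by simp
  rw [ringKrullDim_eq_of_ringEquiv (quotientEquivAlgOfEq R eq).toRingEquiv,
    ← supportDim_quotient_eq_ringKrullDim, ← supportDim_self_eq_ringKrullDim]
  exact supportDim_add_length_le rs R reg

end Dim

section Main

variable {R : Type u} [CommRing R] [hCM : LocCoh.IsCohenMacaulayRing R] (𝒜 : ℤ → AddSubgroup R)
  [GradedRing 𝒜] (hpos : ∀ n : ℤ, n < 0 → 𝒜 n = ⊥) (m : HomogeneousIdeal 𝒜)
  (hm : GrLC.IsStarLocal 𝒜 m) (d : ℕ) (hd : ringKrullDim R = d)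
  (f : Fin d → R) (hf1 : ∀ i, f i ∈ 𝒜 1)
  (hreg : RingTheory.Sequence.IsWeaklyRegular R (List.ofFn f))

theorem ofList_ofFn : Ideal.ofList (List.ofFn f) = Ideal.span (Set.range f) := by
  unfold Ideal.ofList
  congr 1
  ext x
  simp [List.mem_ofFn]

include hpos hm hf1 in
theorem span_le_m : Ideal.span (Set.range f) ≤ m.toIdeal := by
  rw [Ideal.span_le]
  rintro _ ⟨i, rfl⟩
  exact pos_mem_of_isCoatom hpos m hm.1 one_pos (hf1 i)

include hf1 in
theorem span_isHomogeneous : (Ideal.span (Set.range f)).IsHomogeneous 𝒜 := by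
  apply Ideal.homogeneous_span
  rintro _ ⟨i, rfl⟩
  exact ⟨1, hf1 i⟩

include hpos hm hd hf1 hreg in
theorem prime_eq (P : Ideal R) [hP : P.IsPrime] (hle : Ideal.span (Set.range f) ≤ P) :
    P = m.toIdeal := by
  have hdim := ringKrullDim_quotient_add_length_le (List.ofFn f) hreg
  rw [List.length_ofFn, hd, ofList_ofFn, ringKrullDim_quotient] at hdim
  have hdim0 : Order.krullDim (PrimeSpectrum.zeroLocus (R := R) (Ideal.span (Set.range f))) ≤ 0 := by
    generalize Order.krullDim (PrimeSpectrum.zeroLocus (R := R) (Ideal.span (Set.range f))) = a at hdim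
    induction a using WithBot.recBotCoe with
    | bot => exact bot_le
    | coe a =>
      have h1 : a + (d : ℕ∞) ≤ (d : ℕ∞) := by exact_mod_cast hdim
      have h2 : a ≤ 0 := by
        have ha : a ≠ ⊤ := by
          rintro rfl
          simp at h1
        lift a to ℕ using ha
        have h3 : a + d ≤ d := by exact_mod_cast h1
        have : a = 0 := by omega
        rw [this]
        rfl
      exact_mod_cast h2
  rw [Order.krullDim_nonpos_iff_forall_isMax] at hdim0
  have hmp : m.toIdeal.IsPrime := StarLoc.isPrime_of_isCoatom 𝒜 m hm.1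
  have hmmax : m.toIdeal.IsMaximal := isMaximal_of_isCoatom hpos m hm.1
  have hcp : (P.homogeneousCore 𝒜).toIdeal.IsPrime := hP.homogeneousCore
  have hIc : Ideal.span (Set.range f) ≤ (P.homogeneousCore 𝒜).toIdeal := by
    have h1 := (span_isHomogeneous 𝒜 d f hf1).toIdeal_homogeneousCore_eq_self
    rw [← h1]
    exact Ideal.homogeneousCore_mono 𝒜 hle
  have hcm : (P.homogeneousCore 𝒜).toIdeal ≤ m.toIdeal :=
    GorInj.le_of_isStarLocal 𝒜 m hm _ (P.homogeneousCore 𝒜).isHomogeneous hcp.ne_top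
  let x : PrimeSpectrum.zeroLocus (R := R) (Ideal.span (Set.range f)) :=
    ⟨⟨(P.homogeneousCore 𝒜).toIdeal, hcp⟩, hIc⟩
  let y : PrimeSpectrum.zeroLocus (R := R) (Ideal.span (Set.range f)) :=
    ⟨⟨m.toIdeal, hmp⟩, span_le_m 𝒜 hpos m hm d f hf1⟩
  have hxy : x ≤ y := hcm
  have hyx : y ≤ x := hdim0 x hxy
  have hmP : m.toIdeal ≤ P := le_trans hyx (Ideal.toIdeal_homogeneousCore_le 𝒜 P)
  exact (hmmax.eq_of_le hP.ne_top hmP).symm

include hpos hm hd hf1 hreg in
theorem exists_pow_le_span : ∃ k : ℕ, m.toIdeal ^ k ≤ Ideal.span (Set.range f) := by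
  apply Ideal.exists_pow_le_of_le_radical_of_fg _ ((isNoetherianRing_iff_ideal_fg R).mp inferInstance _)
  rw [Ideal.radical_eq_sInf]
  apply le_sInf
  rintro J ⟨hJ, hJp⟩
  rw [prime_eq 𝒜 hpos m hm d hd f hf1 hreg J hJ]

include hpos hm hd hf1 hreg in
/-- **key step**: if `a(R) = -d` then the elements of positive degree lie in the ideal of a
regular sequence of `d` elements of degree one -/
theorem piece_le_span (I : GrLC.StarInjRes 𝒜 𝒜)
    (ha : GrLC.endDeg (I.Hgr m d) = (((-(d : ℤ) : ℤ) : WithTop ℤ) : WithBot (WithTop ℤ)))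
    (n : ℤ) (hn : 0 < n) (y : R) (hy : y ∈ 𝒜 n) : y ∈ Ideal.span (Set.range f) := by
  have hK : (Ideal.span (Set.range f) : Submodule R R).IsHomogeneous 𝒜 :=
    span_isHomogeneous 𝒜 d f hf1
  obtain ⟨Qm, q, hqs, hqk, hqg⟩ := exists_gmod_quot 𝒜 𝒜 _ hK
  let F : GrLC.StarInjRes 𝒜 Qm.gr := starInjRes 𝒜 Qm.gr
  have hfm : ∀ i, f i ∈ m.toIdeal := fun i => pos_mem_of_isCoatom hpos m hm.1 one_pos (hf1 i)
  have hgen := AInv.general hpos m hm.1 d hd I d le_rfl f (fun _ => 1) hf1 hfm hreg Qm.carrier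
    Qm.gr q hqg hqs hqk F
  rw [ha, Nat.sub_self] at hgen
  have hsum : (((-(d : ℤ) : ℤ) : WithTop ℤ) : WithBot (WithTop ℤ)) +
      ((((Finset.univ : Finset (Fin d)).sum (fun _ => (1 : ℤ)) : ℤ) : WithTop ℤ) : WithBot (WithTop ℤ))
      = (((0 : ℤ) : WithTop ℤ) : WithBot (WithTop ℤ)) := by
    have h1 : ((Finset.univ : Finset (Fin d)).sum (fun _ => (1 : ℤ))) = (d : ℤ) := by simp
    rw [h1, ← WithBot.coe_add, ← WithTop.coe_add, neg_add_cancel]
  rw [hsum] at hgen
  by_contra hcon
  have hqy0 : q y ≠ 0 := by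
    intro h0
    apply hcon
    rw [← hqk, LinearMap.mem_ker]
    exact h0
  obtain ⟨k, hk⟩ := exists_pow_le_span 𝒜 hpos m hm d hd f hf1 hreg
  have hgam : q y ∈ GrLC.gam m.toIdeal Qm.carrier := by
    refine ⟨k, fun r hr => ?_⟩
    rw [← map_smul, ← LinearMap.mem_ker, hqk]
    exact Ideal.mul_mem_right _ _ (hk hr)
  have hne := Hgr_zero_ne_bot F m (hqg n y hy) hgam hqy0
  have := PolyCan.le_of_endDeg_eq _ 0 hgen n hne
  omega

end Main

end Groth.Agent.H6.AInvPoly
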