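import Groth.Agent.Lib.Helper6.GrPos
import Groth.Agent.Lib.Helper6.GrArtinian
import Groth.Agent.Lib.Helper2.QReg

/-! A positively graded ring whose irrelevant ideal is generated by a regular sequence of
elements of degree one is a polynomial ring over its degree-zero part. -/

set_option autoImplicit false
universe u
open GrLC Groth.Agent.H6 Groth.Agent.H6.Gr MvPolynomial

namespace Groth.Agent.H6.AInvPoly

section Alg

variable {R : Type u} [CommRing R] (𝒜 : ℤ → AddSubgroup R) [GradedRing 𝒜]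
  (hpos : ∀ n : ℤ, n < 0 → 𝒜 n = ⊥) {d : ℕ} (x : Fin d → R) (hx1 : ∀ i, x i ∈ 𝒜 1)

/-- the evaluation map -/
noncomputable def ev : MvPolynomial (Fin d) (GrLC.deg0 𝒜) →ₐ[GrLC.deg0 𝒜] R := aeval x

include hx1 in
theorem prod_pow_mem (s : Fin d →₀ ℕ) :
    (s.prod fun i k => x i ^ k) ∈ 𝒜 ((s.sum fun _ k => k : ℕ) : ℤ) := by
  classical
  induction s using Finsupp.induction with
  | zero =>
    simp only [Finsupp.prod_zero_index, Finsupp.sum_zero_index, Nat.cast_zero]
    exact SetLike.GradedOne.one_mem (A := 𝒜)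
  | single_add i k s hi hk ih =>
    rw [Finsupp.prod_add_index' (by simp) (by intros; rw [pow_add]),
      Finsupp.sum_add_index' (by simp) (by intros; rfl),
      Finsupp.prod_single_index (by simp), Finsupp.sum_single_index (by simp), Nat.cast_add]
    refine SetLike.GradedMul.mul_mem ?_ ih
    have := SetLike.pow_mem_graded k (hx1 i)
    simpa using this

include hx1 in
theorem ev_monomial_mem (s : Fin d →₀ ℕ) (c : GrLC.deg0 𝒜) :
    ev 𝒜 x (monomial s c) ∈ 𝒜 ((s.sum fun _ k => k : ℕ) : ℤ) := by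
  unfold ev
  rw [aeval_monomial]
  have h1 : algebraMap (GrLC.deg0 𝒜) R c ∈ 𝒜 0 := c.2
  have := SetLike.GradedMul.mul_mem h1 (prod_pow_mem 𝒜 x hx1 s)
  rwa [zero_add] at this

include hx1 in
theorem ev_mem_of_isHomogeneous {p : MvPolynomial (Fin d) (GrLC.deg0 𝒜)} {n : ℕ}
    (hp : p.IsHomogeneous n) : ev 𝒜 x p ∈ 𝒜 (n : ℤ) := by
  rw [p.as_sum, map_sum]
  refine sum_mem fun s hs => ?_
  have h1 := ev_monomial_mem 𝒜 x hx1 s (p.coeff s)
  have h2 : (s.sum fun _ k => k) = n := by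
    have := hp (mem_support_iff.mp hs)
    simpa [Finsupp.weight_apply, Finsupp.degree] using this
  rwa [h2] at h1

variable (hgen : ∀ n : ℤ, 0 < n → ∀ y ∈ 𝒜 n, y ∈ Ideal.span (Set.range x))

include hx1 hgen in
theorem mem_range_of_mem (n : ℕ) : ∀ y ∈ 𝒜 (n : ℤ), y ∈ (ev 𝒜 x).range := by
  induction n with
  | zero =>
    intro y hy
    have hy' : y ∈ 𝒜 0 := by simpa using hy
    refine ⟨C ⟨y, hy'⟩, ?_⟩
    show aeval x (C (⟨y, hy'⟩ : GrLC.deg0 𝒜)) = y
    rw [aeval_C]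
    rfl
  | succ n ih =>
    intro y hy
    have hmem := hgen _ (by positivity) y hy
    obtain ⟨a, rfl⟩ := Ideal.mem_span_range_iff_exists_fun.mp hmem
    have h1 : ∑ i, a i * x i = ∑ i, proj 𝒜 (n : ℤ) (a i) * x i := by
      conv_lhs => rw [← proj_of_mem 𝒜 hy, map_sum]
      refine Finset.sum_congr rfl fun i _ => ?_
      rw [proj_mul_of_mem_right 𝒜 (hx1 i)]
      have : ((n + 1 : ℕ) : ℤ) - 1 = (n : ℤ) := by push_cast; ring
      rw [this]
    rw [h1]
    refine Subalgebra.sum_mem _ fun i _ => ?_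
    refine Subalgebra.mul_mem _ (ih _ (proj_mem 𝒜 _ _)) ⟨X i, ?_⟩
    show aeval x (X i) = x i
    rw [aeval_X]

include hpos hx1 hgen in
theorem ev_surjective : Function.Surjective (ev 𝒜 x) := by
  intro r
  change r ∈ (ev 𝒜 x).range
  rw [← sum_proj 𝒜 r]
  refine Subalgebra.sum_mem _ fun g _ => ?_
  rcases lt_or_ge g 0 with hg | hg
  · rw [proj_neg_eq_zero hpos hg]
    exact Subalgebra.zero_mem _
  · obtain ⟨n, rfl⟩ := Int.eq_ofNat_of_zero_le hg
    exact mem_range_of_mem 𝒜 x hx1 hgen n _ (proj_mem 𝒜 _ _)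

include hpos hx1 in
theorem span_inf_deg0 {a : R} (ha : a ∈ Ideal.span (Set.range x)) (ha0 : a ∈ 𝒜 0) : a = 0 := by
  obtain ⟨c, rfl⟩ := Ideal.mem_span_range_iff_exists_fun.mp ha
  rw [← proj_of_mem 𝒜 ha0, map_sum]
  refine Finset.sum_eq_zero fun i _ => ?_
  rw [proj_mul_of_mem_right 𝒜 (hx1 i), proj_neg_eq_zero hpos (by norm_num), zero_mul]

variable (hreg : RingTheory.Sequence.IsWeaklyRegular R (List.ofFn x))

include hpos hx1 hreg in
theorem eq_zero_of_isHomogeneous {p : MvPolynomial (Fin d) (GrLC.deg0 𝒜)} {n : ℕ}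
    (hp : p.IsHomogeneous n) (h0 : ev 𝒜 x p = 0) : p = 0 := by
  have hq := Groth.Agent.H2.QReg.isQuasiRegular_of_isWeaklyRegular d x hreg
  set P : MvPolynomial (Fin d) R := MvPolynomial.map (algebraMap (GrLC.deg0 𝒜) R) p with hP
  have hPh : P.IsHomogeneous n := hp.map _
  have hev : MvPolynomial.eval x P = 0 := by
    rw [hP, eval_map, ← h0]
    rfl
  have hcoef := hq n P hPh (by rw [hev]; exact zero_mem _)
  ext s
  rw [coeff_zero]
  have h1 := hcoef s
  rw [hP, coeff_map] at h1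
  have h2 : algebraMap (GrLC.deg0 𝒜) R (p.coeff s) ∈ 𝒜 0 := (p.coeff s).2
  have h3 := span_inf_deg0 𝒜 hpos x hx1 h1 h2
  exact h3

include hpos hx1 hreg in
theorem ev_injective : Function.Injective (ev 𝒜 x) := by
  rw [injective_iff_map_eq_zero]
  intro p hp
  have hcomp : ∀ k : ℕ, ev 𝒜 x (homogeneousComponent k p) = 0 := by
    intro k
    have h1 : ev 𝒜 x p = ∑ i ∈ Finset.range (p.totalDegree + 1), ev 𝒜 x (homogeneousComponent i p) := by
      conv_lhs => rw [← sum_homogeneousComponent p, map_sum]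
    have h2 : proj 𝒜 (k : ℤ) (ev 𝒜 x p) = 0 := by rw [hp, map_zero]
    rw [h1, map_sum] at h2
    by_cases hk : k ∈ Finset.range (p.totalDegree + 1)
    · rw [Finset.sum_eq_single_of_mem k hk] at h2
      · rwa [proj_of_mem 𝒜 (ev_mem_of_isHomogeneous 𝒜 x hx1 (homogeneousComponent_isHomogeneous k p))] at h2
      · intro j _ hjk
        apply proj_of_mem_ne 𝒜 (ev_mem_of_isHomogeneous 𝒜 x hx1 (homogeneousComponent_isHomogeneous j p))
        exact_mod_cast hjk
    · rw [Finset.mem_range, not_lt] at hk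
      rw [homogeneousComponent_eq_zero k p (by omega), map_zero]
  have hzero : ∀ k : ℕ, homogeneousComponent k p = 0 := fun k =>
    eq_zero_of_isHomogeneous 𝒜 hpos x hx1 hreg (homogeneousComponent_isHomogeneous k p) (hcomp k)
  rw [← sum_homogeneousComponent p]
  exact Finset.sum_eq_zero fun k _ => hzero k

include hpos hx1 hgen hreg in
theorem exists_algEquiv :
    ∃ e : MvPolynomial (Fin d) (GrLC.deg0 𝒜) ≃ₐ[GrLC.deg0 𝒜] R, ∀ t : Fin d, e (X t) ∈ 𝒜 1 := by
  refine ⟨AlgEquiv.ofBijective (ev 𝒜 x)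
    ⟨ev_injective 𝒜 hpos x hx1 hreg, ev_surjective 𝒜 hpos x hx1 hgen⟩, fun t => ?_⟩
  show aeval x (X t) ∈ 𝒜 1
  rw [aeval_X]
  exact hx1 t

end Alg

end Groth.Agent.H6.AInvPoly
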