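import Mathlib
import Groth.Prelude.Def_Red
import Groth.Agent.Lib.Helper3.AntiAff.FibreComp
import Groth.Agent.Lib.Helper1.UO14C
import Groth.Agent.Lib.Helper1.CMQF
import Groth.Agent.Lib.Helper1.FibCompB
import Groth.Agent.Lib.Helper1.FibDimBC
import Groth.Agent.Lib.Helper1.Chev2
import Groth.Agent.Lib.Helper1.DimFormula
import Groth.Agent.Lib.Helper5.Lim.ConnComponents
import Groth.Agent.Lib.Helper9.Misc.GSC1

/-!
# Fibres of a morphism from an abelian variety are equidimensional (S7799)

The local fibre dimension of `f : X ⟶ Y` (`X` an abelian variety, `Y` separated) is constant: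
* over an algebraically closed field, translation by a rational point `b` maps the connected
  component of a rational point `a` in its fibre homeomorphically onto that of `b a` (helper3's
  rigidity argument), so the local fibre dimension is the same at all closed points, hence
  everywhere (Chevalley + Jacobson);
* the local fibre dimension is invariant under base change (helper1), which reduces the general
  case to the algebraic closure.
-/

set_option autoImplicit false
set_option linter.style.haveILetI false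
universe u
open CategoryTheory CategoryTheory.Limits AlgebraicGeometry TopologicalSpace MonoidalCategory
  CartesianMonoidalCategory MonObj

namespace Groth.Agent.H6.AbFib

/-! ### topology -/

theorem localDim_connectedComponentIn {T : Type*} [TopologicalSpace T] (F : Set T) (x : T)
    (hx : x ∈ F) (hF : (irreducibleComponents ↥F).Finite) :
    FlatMor.localDim ↥(connectedComponentIn F x) ⟨x, mem_connectedComponentIn hx⟩ =
      FlatMor.localDim ↥F ⟨x, hx⟩ := by
  have hsub : connectedComponentIn F x ⊆ F := connectedComponentIn_subset F x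
  have hopen : IsOpen ((Subtype.val : ↥F → T) ⁻¹' connectedComponentIn F x) := by
    have h0 : (Subtype.val : ↥F → T) ⁻¹' connectedComponentIn F x =
        connectedComponent (⟨x, hx⟩ : ↥F) := by
      rw [connectedComponentIn_eq_image hx]
      exact Set.preimage_image_eq _ Subtype.val_injective
    rw [h0]
    exact Groth.Agent.H5.Lim.isOpen_connectedComponent_of_finite hF _
  exact Groth.Agent.H1.DimFormula.localDim_eq_of_isOpenEmbedding
    (Topology.IsOpenEmbedding.inclusion hsub hopen) ⟨x, mem_connectedComponentIn hx⟩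

theorem localDim_eq_of_homeomorph {T : Type*} [TopologicalSpace T] (h : T ≃ₜ T)
    (F F' : Set T) (x x' : T) (hx : x ∈ F) (hx' : x' ∈ F') (hxx' : h x = x')
    (hF : (irreducibleComponents ↥F).Finite) (hF' : (irreducibleComponents ↥F').Finite)
    (h1 : h '' connectedComponentIn F x ⊆ connectedComponentIn F' x')
    (h2 : h.symm '' connectedComponentIn F' x' ⊆ connectedComponentIn F x) :
    FlatMor.localDim ↥F ⟨x, hx⟩ = FlatMor.localDim ↥F' ⟨x', hx'⟩ := by
  rw [← localDim_connectedComponentIn F x hx hF, ← localDim_connectedComponentIn F' x' hx' hF']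
  have heq : h '' connectedComponentIn F x = connectedComponentIn F' x' := by
    apply Set.Subset.antisymm h1
    intro c hc
    exact ⟨h.symm c, h2 ⟨c, hc, rfl⟩, h.apply_symm_apply c⟩
  obtain ⟨e, he⟩ : ∃ e : ↥(connectedComponentIn F x) ≃ₜ ↥(connectedComponentIn F' x'),
      ∀ z, (e z).1 = h z.1 :=
    ⟨(h.image _).trans (Homeomorph.setCongr heq), fun z => rfl⟩
  rw [Groth.Agent.H1.DimFormula.localDim_eq_of_isOpenEmbedding e.isOpenEmbedding
    ⟨x, mem_connectedComponentIn hx⟩]
  congr 1
  exact Subtype.ext ((he _).trans hxx')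

/-! ### Chevalley + Jacobson -/

theorem fibreDimAt_eq_of_closedPoints {X Y : Scheme.{u}} [JacobsonSpace X] (f : X ⟶ Y)
    [LocallyOfFiniteType f] (n : ℕ)
    (hcl : ∀ g : X, IsClosed ({g} : Set X) → FlatMor.fibreDimAt f g = n) (z : X) :
    FlatMor.fibreDimAt f z = n := by
  apply le_antisymm
  · by_contra hz
    have hU := Groth.Agent.H1.Chev.isOpen_fibreDimAt_le f n
    have hne : ({x : X | FlatMor.fibreDimAt f x ≤ n}ᶜ).Nonempty := ⟨z, hz⟩
    obtain ⟨w, hw, hwc⟩ := nonempty_inter_closedPoints hne hU.isClosed_compl.isLocallyClosed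
    exact hw (le_of_eq (hcl w hwc))
  · obtain ⟨m, hm⟩ := Groth.Agent.H1.CMQF.exists_nat_fibreDimAt f z
    rw [hm]
    have hU := Groth.Agent.H1.Chev.isOpen_fibreDimAt_le f m
    have hne : ({x : X | FlatMor.fibreDimAt f x ≤ m}).Nonempty := ⟨z, le_of_eq hm⟩
    obtain ⟨w, hw, hwc⟩ := nonempty_inter_closedPoints hne hU.isLocallyClosed
    calc (n : WithBot ℕ∞) = FlatMor.fibreDimAt f w := (hcl w hwc).symm
      _ ≤ m := hw

/-! ### translations -/

section Alg

open Groth.Agent.H3.AntiAff

variable {K : Type u} [Field K] (X : Over (Spec (CommRingCat.of K))) [GrpObj X]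

/-- translation by a rational point, as an automorphism. -/
noncomputable def ltransIso (b : 𝟙_ (Over (Spec (CommRingCat.of K))) ⟶ X) : X ≅ X where
  hom := ltrans X b
  inv := ltrans X b⁻¹
  hom_inv_id := by
    have h := ltrans_inv_comp X b⁻¹
    rwa [inv_inv] at h
  inv_hom_id := ltrans_inv_comp X b

variable [IsProper X.hom] [IsIntegral X.left] {Y : Scheme.{u}}
  (q : Y ⟶ Spec (CommRingCat.of K)) [IsSeparated q] (f : X.left ⟶ Y) (hf : f ≫ q = X.hom)

include hf in
/-- the local fibre dimension at rational points is invariant under translation. -/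
theorem fibreDimAt_mul (a b : 𝟙_ (Over (Spec (CommRingCat.of K))) ⟶ X) :
    FlatMor.fibreDimAt f ((b * a).left (pt0 K)) = FlatMor.fibreDimAt f (a.left (pt0 K)) := by
  haveI : LocallyOfFiniteType (f ≫ q) := by rw [hf]; infer_instance
  haveI : LocallyOfFiniteType f := locallyOfFiniteType_of_comp f q
  haveI : IsLocallyNoetherian X.left := LocallyOfFiniteType.isLocallyNoetherian X.hom
  haveI : CompactSpace X.left := QuasiCompact.compactSpace_of_compactSpace X.hom
  haveI : IsNoetherian X.left := {}
  haveI : NoetherianSpace X.left := inferInstance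
  have hcomp : a ≫ ltrans X b = b * a := by
    rw [comp_ltrans, show toUnit (𝟙_ (Over (Spec (CommRingCat.of K)))) = 𝟙 _ from
      toUnit_unique _ _, Category.id_comp]
  have hinv : b⁻¹ * (b * a) = a := inv_mul_cancel_left b a
  obtain ⟨h, hh⟩ : ∃ h : X.left ≃ₜ X.left,
      ∀ z, h z = (ltrans X b).left z ∧ h.symm z = (ltrans X b⁻¹).left z :=
    ⟨Scheme.homeoOfIso ((Over.forget _).mapIso (ltransIso X b)), fun z => ⟨rfl, rfl⟩⟩
  have h1 := ltrans_image_component_subset X q f hf a b
  have h2 := ltrans_image_component_subset X q f hf (b * a) b⁻¹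
  rw [hinv] at h2
  rw [Groth.Agent.H1.UO14.fibreDimAt_eq_localDim_preimage f _ _ rfl,
    Groth.Agent.H1.UO14.fibreDimAt_eq_localDim_preimage f _ _ rfl]
  symm
  refine localDim_eq_of_homeomorph h (f ⁻¹' {f (a.left (pt0 K))})
    (f ⁻¹' {f ((b * a).left (pt0 K))}) (a.left (pt0 K)) ((b * a).left (pt0 K)) rfl rfl ?_
    NoetherianSpace.finite_irreducibleComponents NoetherianSpace.finite_irreducibleComponents ?_ ?_
  · rw [(hh _).1, ← hcomp]
    rfl
  · have e : (h : X.left → X.left) = (ltrans X b).left := funext fun z => (hh z).1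
    rw [e]
    exact h1
  · have e : (h.symm : X.left → X.left) = (ltrans X b⁻¹).left := funext fun z => (hh z).2
    rw [e]
    exact h2

include hf in
/-- over an algebraically closed field the local fibre dimension is constant. -/
theorem exists_fibreDimAt_eq [IsAlgClosed K] :
    ∃ n : ℕ, ∀ x : X.left, FlatMor.fibreDimAt f x = n := by
  haveI : LocallyOfFiniteType (f ≫ q) := by rw [hf]; infer_instance
  haveI : LocallyOfFiniteType f := locallyOfFiniteType_of_comp f q
  haveI : JacobsonSpace X.left := LocallyOfFiniteType.jacobsonSpace X.hom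
  obtain ⟨n, hn⟩ := Groth.Agent.H1.CMQF.exists_nat_fibreDimAt f (η[X].left (pt0 K))
  refine ⟨n, fibreDimAt_eq_of_closedPoints f n (fun x hx => ?_)⟩
  have hpt : IsLocalRing.closedPoint K = pt0 K :=
    Subsingleton.elim (α := ↥(Spec (CommRingCat.of K))) _ _
  have h := fibreDimAt_mul X q f hf η[X] (Groth.Agent.H9.GSC.kpt X x hx)
  have h1 : Groth.Agent.H9.GSC.kpt X x hx * η[X] = Groth.Agent.H9.GSC.kpt X x hx := by
    rw [one_eq_one, _root_.mul_one]
  rw [h1] at h
  have h2 : (Groth.Agent.H9.GSC.kpt X x hx).left (pt0 K) = x := by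
    rw [← hpt]
    exact Groth.Agent.H9.GSC.pt_kpt x hx
  rw [h2] at h
  exact h.trans hn

end Alg

/-! ### base change to the algebraic closure -/

theorem exists_fibreDimAt_eq' (k : Type u) [Field k] (X : Over (Spec (CommRingCat.of k)))
    [GrpObj X] [IsProper X.hom] [GeometricallyIntegral X.hom]
    {Y : Scheme.{u}} (q : Y ⟶ Spec (CommRingCat.of k)) [IsSeparated q] (f : X.left ⟶ Y)
    (hf : f ≫ q = X.hom) :
    ∃ n : ℕ, ∀ x : X.left, FlatMor.fibreDimAt f x = n := by
  haveI : LocallyOfFiniteType (f ≫ q) := by rw [hf]; infer_instance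
  haveI : LocallyOfFiniteType f := locallyOfFiniteType_of_comp f q
  obtain ⟨g, -⟩ : ∃ g : Spec (CommRingCat.of (AlgebraicClosure k)) ⟶ Spec (CommRingCat.of k),
      g = Spec.map (CommRingCat.ofHom (algebraMap k (AlgebraicClosure k))) := ⟨_, rfl⟩
  haveI : IsProper (Red.bc g X).hom := inferInstanceAs (IsProper (pullback.snd X.hom g))
  haveI : GeometricallyIntegral (Red.bc g X).hom :=
    inferInstanceAs (GeometricallyIntegral (pullback.snd X.hom g))
  haveI : IsIntegral (Red.bc g X).left :=
    GeometricallyIntegral.isIntegral_of_subsingleton (Red.bc g X).hom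
  haveI : IsSeparated (pullback.snd q g) := inferInstance
  obtain ⟨f', hf'1, hf'2⟩ : ∃ f' : (Red.bc g X).left ⟶ pullback q g,
      f' ≫ pullback.snd q g = (Red.bc g X).hom ∧
        f' ≫ pullback.fst q g = pullback.fst X.hom g ≫ f :=
    ⟨pullback.lift (pullback.fst X.hom g ≫ f) (pullback.snd X.hom g)
      (by rw [Category.assoc, hf, pullback.condition]), pullback.lift_snd _ _ _,
      pullback.lift_fst _ _ _⟩
  obtain ⟨n, hn⟩ := exists_fibreDimAt_eq (Red.bc g X) (pullback.snd q g) f' hf'1
  have sq : IsPullback (pullback.fst X.hom g) f' f (pullback.fst q g) := by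
    refine (IsPullback.of_right ?_ hf'2 (IsPullback.of_hasPullback q g).flip).flip
    rw [hf'1, hf]
    exact (IsPullback.of_hasPullback X.hom g).flip
  refine ⟨n, fun x => ?_⟩
  haveI : Surjective g :=
    ⟨fun x => ⟨Groth.Agent.H3.AntiAff.pt0 _,
      Subsingleton.elim (α := ↥(Spec (CommRingCat.of k))) _ _⟩⟩
  obtain ⟨x', rfl⟩ := (pullback.fst X.hom g).surjective x
  rw [← Groth.Agent.H1.FibDimBC.fibreDimAt_eq_of_isPullback f (pullback.fst q g)
    (pullback.fst X.hom g) f' sq x']
  exact hn x'

/-- **S7799**. -/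
theorem s7799 (k : Type u) [Field k] (X : Over (Spec (CommRingCat.of k)))
    [GrpObj X] [IsProper X.hom] [GeometricallyIntegral X.hom]
    {Y : Scheme.{u}} (q : Y ⟶ Spec (CommRingCat.of k)) [IsSeparated q] (f : X.left ⟶ Y)
    (hf : f ≫ q = X.hom) :
    ∃ d : ℕ, ∀ (y : Y) (Z : Set ↥(f.fiber y)), Z ∈ irreducibleComponents ↥(f.fiber y) →
      topologicalKrullDim ↥Z = d := by
  haveI : LocallyOfFiniteType (f ≫ q) := by rw [hf]; infer_instance
  haveI : LocallyOfFiniteType f := locallyOfFiniteType_of_comp f q
  obtain ⟨n, hn⟩ := exists_fibreDimAt_eq' k X q f hf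
  refine ⟨n, fun y Z hZ => ?_⟩
  obtain ⟨ζ, -, -, h⟩ := Groth.Agent.H1.FibComp.exists_fibreMax_of_component_fiber f y Z hZ
  rw [h, hn]

end Groth.Agent.H6.AbFib
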