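import Mathlib
import Groth.Prelude.Def_AlgGrp
import Groth.Agent.Lib.Helper6.GenFin
import Groth.Agent.Lib.Helper9.Misc.EQV1
import Groth.Agent.Lib.Helper9.Misc.FLH5
import Groth.Agent.Lib.Helper5.Descent.AffineHomDescent

/-! Helper6: a surjective homomorphism of abelian varieties of the same dimension is finite and
flat (S19572): homogeneity of finiteness for equivariant maps (fppf version of helper9's S18826). -/

set_option autoImplicit false
set_option linter.style.haveILetI false
set_option linter.unusedSectionVars false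
universe u
open CategoryTheory CategoryTheory.Limits MonoidalCategory CartesianMonoidalCategory MonObj GrpObj
  AlgebraicGeometry

namespace Groth.Agent.H6.AbIsog

open Groth.Agent.H9 Groth.Agent.H9.FLH Groth.Agent.H9.ACT Groth.Agent.H9.SIM Groth.Agent.H9.EQV
open Groth.Agent.H1.DimFormula

/-! ### finite presentation over a noetherian base -/

theorem lofp {X Y : Scheme.{u}} [IsLocallyNoetherian Y] (f : X ⟶ Y) [LocallyOfFiniteType f] :
    LocallyOfFinitePresentation f := by
  rw [locallyOfFinitePresentation_iff]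
  intro U hU V hV e
  haveI : IsNoetherianRing Γ(Y, U) := IsLocallyNoetherian.component_noetherian ⟨U, hU⟩
  exact RingHom.FinitePresentation.of_finiteType.mp (f.finiteType_appLE hU hV e)

/-! ### the largest open over which an equivariant map has a property is stable -/

theorem stable_largest_open (k : Type u) [Field k]
    (G X Y : Over (Spec (CommRingCat.of k))) [GrpObj G]
    (aX : AlgGrp.Action G X) (aY : AlgGrp.Action G Y) (f : X ⟶ Y)
    (hf : (G ◁ f) ≫ aY.act = aX.act ≫ f)
    (P Q : MorphismProperty Scheme.{u}) [IsZariskiLocalAtTarget P] [P.IsStableUnderBaseChange]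
    [P.DescendsAlong Q]
    (hQ : ∀ (V'' : Y.left.Opens) (U : (G ⊗ Y).left.Opens) (hUα : U ≤ aY.act.left ⁻¹ᵁ V''),
      (∀ y : V'', ∃ z : U, aY.act.left z.1 = y.1) → Q (aY.act.left.resLE V'' U hUα)) :
    ∃ V : Y.left.Opens, P (f.left ∣_ V) ∧ (∀ V' : Y.left.Opens, P (f.left ∣_ V') → V' ≤ V) ∧
      (CartesianMonoidalCategory.snd G Y).left ⁻¹ᵁ V ≤ aY.act.left ⁻¹ᵁ V := by
  obtain ⟨V, hV, hmax⟩ := exists_largest_open P f.left
  refine ⟨V, hV, hmax, ?_⟩
  have hGo : UniversallyOpen G.hom := inferInstance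
  have hαo : UniversallyOpen aY.act.left := act_of_stable aY @UniversallyOpen hGo
  let U : (G ⊗ Y).left.Opens := (snd G Y).left ⁻¹ᵁ V
  let V'' : Y.left.Opens := ⟨aY.act.left '' U, aY.act.left.isOpenMap _ U.2⟩
  have hUα : U ≤ aY.act.left ⁻¹ᵁ V'' := fun z hz ↦ ⟨z, hz, rfl⟩
  suffices h : P (f.left ∣_ V'') by
    intro z hz
    exact hmax V'' h ⟨z, hz, rfl⟩
  have E2 := isPullback_whiskerLeft_left G f
  have E1 := isPullback_equivariant aX aY f hf
  have hUY2 : (G ◁ f).left ⁻¹ᵁ U =
      (snd G X).left ⁻¹ᵁ (f.left ⁻¹ᵁ V) ⊓ (G ◁ f).left ⁻¹ᵁ U := by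
    have : (snd G X).left ⁻¹ᵁ (f.left ⁻¹ᵁ V) = (G ◁ f).left ⁻¹ᵁ U := by
      rw [← Scheme.Hom.comp_preimage, E2.w, Scheme.Hom.comp_preimage]
    rw [this, inf_idem]
  have R2 := Scheme.Hom.isPullback_resLE E2 (US := V) (UT := U) (UX := f.left ⁻¹ᵁ V)
    le_rfl le_rfl hUY2
  have hPF := P.of_isPullback R2
    (by rw [Scheme.Hom.resLE_eq_morphismRestrict]; exact hV)
  have hUY1 : (G ◁ f).left ⁻¹ᵁ U =
      aX.act.left ⁻¹ᵁ (f.left ⁻¹ᵁ V'') ⊓ (G ◁ f).left ⁻¹ᵁ U := by
    have : (G ◁ f).left ⁻¹ᵁ U ≤ aX.act.left ⁻¹ᵁ (f.left ⁻¹ᵁ V'') := by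
      have e : aX.act.left ⁻¹ᵁ (f.left ⁻¹ᵁ V'') = (G ◁ f).left ⁻¹ᵁ (aY.act.left ⁻¹ᵁ V'') := by
        rw [← Scheme.Hom.comp_preimage, ← Scheme.Hom.comp_preimage, E1.w]
      rw [e]
      exact (G ◁ f).left.preimage_mono hUα
    exact (inf_eq_right.mpr this).symm
  have R1 := Scheme.Hom.isPullback_resLE E1 (US := V'') (UT := U) (UX := f.left ⁻¹ᵁ V'')
    hUα le_rfl hUY1
  have hQ' : Q (aY.act.left.resLE V'' U hUα) := by
    apply hQ
    rintro ⟨y, z, hz, rfl⟩
    exact ⟨⟨z, hz⟩, rfl⟩
  have := MorphismProperty.DescendsAlong.of_isPullback R1.flip hQ' hPF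
  rwa [Scheme.Hom.resLE_eq_morphismRestrict] at this

/-! ### generic finiteness -/

theorem exists_open_finite (k : Type u) [Field k] {X Y : Scheme.{u}}
    (qX : X ⟶ Spec (CommRingCat.of k)) (qY : Y ⟶ Spec (CommRingCat.of k))
    [LocallyOfFiniteType qX] [QuasiCompact qX] [LocallyOfFiniteType qY]
    [IsIntegral X] [IsIntegral Y] (f : X ⟶ Y) [IsDominant f] (hf : f ≫ qY = qX)
    (hdim : topologicalKrullDim ↥X = topologicalKrullDim ↥Y) :
    ∃ U : Y.Opens, (U : Set Y).Nonempty ∧ IsFinite (f ∣_ U) := by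
  have hgen : f (genericPoint X) = genericPoint Y :=
    Groth.Agent.H6.GenFin.map_genericPoint_of_isDominant f
  haveI : LocallyOfFiniteType (f ≫ qY) := by rw [hf]; infer_instance
  haveI hlft : LocallyOfFiniteType f := locallyOfFiniteType_of_comp f qY
  haveI : IsLocallyNoetherian X := LocallyOfFiniteType.isLocallyNoetherian qX
  haveI : CompactSpace X := QuasiCompact.compactSpace_of_compactSpace qX
  haveI : IsNoetherian X := {}
  haveI : QuasiCompact f := inferInstance
  obtain ⟨V₁, hV₁, hηV₁, hfinV₁⟩ := Groth.Agent.H5.GF.exists_isFinite_of_fiber_generic f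
    (by rw [irreducibleComponents_eq_singleton]; exact Set.finite_singleton _)
    (genericPoint Y)
    (by
      rw [irreducibleComponents_eq_singleton, Set.mem_singleton_iff]
      exact (genericPoint_spec Y).def)
    (fun x hx => by
      rw [Groth.Agent.H6.GenFin.fibre_generic_eq qX qY f hf hgen hdim x hx,
        irreducibleComponents_eq_singleton, Set.mem_singleton_iff]
      exact (genericPoint_spec X).def)
  exact ⟨V₁, ⟨_, hηV₁⟩, hfinV₁⟩

/-! ### the main theorem -/

theorem main (k : Type u) [Field k]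
    (X Y : Over (Spec (CommRingCat.of k)))
    [GrpObj X] [IsProper X.hom] [GeometricallyIntegral X.hom]
    [GrpObj Y] [IsProper Y.hom] [GeometricallyIntegral Y.hom]
    (f : X ⟶ Y) [IsMonHom f] [Surjective f.left]
    (hdim : topologicalKrullDim X.left = topologicalKrullDim Y.left) :
    IsFinite f.left ∧ Flat f.left := by
  haveI : IsIntegral X.left := GeometricallyIntegral.isIntegral_of_subsingleton X.hom
  haveI : IsIntegral Y.left := GeometricallyIntegral.isIntegral_of_subsingleton Y.hom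
  haveI : IsProper (f.left ≫ Y.hom) := by rw [Over.w]; infer_instance
  haveI : IsProper f.left := IsProper.of_comp f.left Y.hom
  haveI : QuasiCompact f.left := inferInstance
  have hflat : Flat f.left :=
    (S5355_main X Y f f.left.surjective.denseRange).2 inferInstance
  refine ⟨?_, hflat⟩
  obtain ⟨U, ⟨v, hvU⟩, hUfin⟩ := exists_open_finite k X.hom Y.hom f.left (Over.w f) hdim
  have hequiv : (X ◁ f) ≫ (homAction f).act = (regAction X).act ≫ f := by
    show (X ◁ f) ≫ (f ▷ Y) ≫ μ[Y] = μ[X] ≫ f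
    rw [IsMonHom.mul_hom, tensorHom_def', Category.assoc]
  haveI : IsLocallyNoetherian (Spec (CommRingCat.of k)) := inferInstance
  haveI hXlfp : LocallyOfFinitePresentation X.hom := lofp X.hom
  have hactlfp : LocallyOfFinitePresentation (homAction f).act.left :=
    act_of_stable (homAction f) @LocallyOfFinitePresentation hXlfp
  have hactflat : Flat (homAction f).act.left := inferInstance
  obtain ⟨V, hV, hmax, hst⟩ := stable_largest_open k X X Y (regAction X) (homAction f) f hequiv
    @IsFinite (@Surjective ⊓ @Flat ⊓ @LocallyOfFinitePresentation)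
    (fun V'' U hUα hsurj => by
      refine ⟨⟨⟨?_⟩, inferInstance⟩, inferInstance⟩
      intro y
      obtain ⟨z, hz⟩ := hsurj y
      refine ⟨z, Subtype.ext ?_⟩
      rw [← hz]
      simp)
  have hUV : U ≤ V := hmax U hUfin
  have hVtop : V = ⊤ := by
    rw [eq_top_iff]
    intro y _
    obtain ⟨x, rfl⟩ := f.left.surjective y
    obtain ⟨w, rfl⟩ := f.left.surjective v
    obtain ⟨z, hz1, hz2⟩ := exists_mul_eq (G := X) x w
    have h1 : (X ◁ f).left z ∈ (CartesianMonoidalCategory.snd X Y).left ⁻¹ᵁ V := by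
      show (CartesianMonoidalCategory.snd X Y).left ((X ◁ f).left z) ∈ V
      rw [← Scheme.Hom.comp_apply, ← Over.comp_left, whiskerLeft_snd, Over.comp_left,
        Scheme.Hom.comp_apply, hz1]
      exact hUV hvU
    have h2 := hst h1
    have h3 : (homAction f).act.left ((X ◁ f).left z) = f.left x := by
      rw [← Scheme.Hom.comp_apply, ← Over.comp_left, hequiv, Over.comp_left,
        Scheme.Hom.comp_apply]
      show f.left (μ[X].left z) = _
      rw [hz2]
    rw [← h3]
    exact h2
  rw [IsZariskiLocalAtTarget.iff_of_iSup_eq_top (P := @IsFinite) (fun _ : Unit => V)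
    (by rw [hVtop]; exact iSup_const)]
  exact fun _ => hV

end Groth.Agent.H6.AbIsog
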