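import Mathlib
import Groth.Prelude.Def_AlgGrp
import Groth.Agent.Lib.Helper6.AbIsog
import Groth.Agent.Lib.Helper5.Curve3.SmInt
import Groth.Agent.Lib.Helper9.Misc.ORB6
import Groth.Agent.Lib.Helper9.Misc.ORB3
import Groth.Agent.Lib.Helper1.AlgSpDim3

/-! Helper6: for a homomorphism of abelian varieties of the same dimension, flat ⇔ finite
(S17255). -/

set_option autoImplicit false
set_option linter.style.haveILetI false
set_option linter.unusedSectionVars false
universe u
open CategoryTheory CategoryTheory.Limits MonoidalCategory CartesianMonoidalCategory MonObj GrpObj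
  AlgebraicGeometry

namespace Groth.Agent.H6.AbIsog

open Groth.Agent.H9 Groth.Agent.H9.FLH Groth.Agent.H9.ACT Groth.Agent.H9.SIM Groth.Agent.H9.EQV
open Groth.Agent.H1.DimFormula

/-- version of `main` for integral group schemes. -/
theorem main' (k : Type u) [Field k]
    (X Y : Over (Spec (CommRingCat.of k)))
    [GrpObj X] [IsProper X.hom] [IsIntegral X.left]
    [GrpObj Y] [IsProper Y.hom] [IsIntegral Y.left]
    (f : X ⟶ Y) [IsMonHom f] [Surjective f.left]
    (hdim : topologicalKrullDim X.left = topologicalKrullDim Y.left) :
    IsFinite f.left ∧ Flat f.left := by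
  haveI : IsProper (f.left ≫ Y.hom) := by rw [Over.w]; infer_instance
  haveI : IsProper f.left := IsProper.of_comp f.left Y.hom
  haveI : QuasiCompact f.left := inferInstance
  have hflat : Flat f.left :=
    (S5355_main X Y f f.left.surjective.denseRange).2 inferInstance
  refine ⟨?_, hflat⟩
  obtain ⟨U, ⟨v, hvU⟩, hUfin⟩ := exists_open_finite k X.hom Y.hom f.left (Over.w f) hdim
  have hequiv : (X ◁ f) ≫ (homAction f).act = (regAction X).act ≫ f := by
    show (X ◁ f) ≫ (f ▷ Y) ≫ μ[Y] = μ[X] ≫ f
    rw [IsMonHom.mul_hom, tensorHom_def', Category.assoc]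
  haveI : IsLocallyNoetherian (Spec (CommRingCat.of k)) := inferInstance
  haveI hXlfp : LocallyOfFinitePresentation X.hom := lofp X.hom
  have hactlfp : LocallyOfFinitePresentation (homAction f).act.left :=
    act_of_stable (homAction f) @LocallyOfFinitePresentation hXlfp
  have hactflat : Flat (homAction f).act.left := inferInstance
  obtain ⟨V, hV, hmax, hst⟩ := stable_largest_open k X X Y (regAction X) (homAction f) f hequiv
    @IsFinite (@Surjective ⊓ @Flat ⊓ @LocallyOfFinitePresentation)
    (fun V'' U hUα hsurj => by
      refine ⟨⟨⟨?_⟩, inferInstance⟩, inferInstance⟩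
      intro y
      obtain ⟨z, hz⟩ := hsurj y
      refine ⟨z, Subtype.ext ?_⟩
      rw [← hz]
      simp)
  have hUV : U ≤ V := hmax U hUfin
  have hVtop : V = ⊤ := by
    rw [eq_top_iff]
    intro y _
    obtain ⟨x, rfl⟩ := f.left.surjective y
    obtain ⟨w, rfl⟩ := f.left.surjective v
    obtain ⟨z, hz1, hz2⟩ := exists_mul_eq (G := X) x w
    have h1 : (X ◁ f).left z ∈ (CartesianMonoidalCategory.snd X Y).left ⁻¹ᵁ V := by
      show (CartesianMonoidalCategory.snd X Y).left ((X ◁ f).left z) ∈ V
      rw [← Scheme.Hom.comp_apply, ← Over.comp_left, whiskerLeft_snd, Over.comp_left,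
        Scheme.Hom.comp_apply, hz1]
      exact hUV hvU
    have h2 := hst h1
    have h3 : (homAction f).act.left ((X ◁ f).left z) = f.left x := by
      rw [← Scheme.Hom.comp_apply, ← Over.comp_left, hequiv, Over.comp_left,
        Scheme.Hom.comp_apply]
      show f.left (μ[X].left z) = _
      rw [hz2]
    rw [← h3]
    exact h2
  rw [IsZariskiLocalAtTarget.iff_of_iSup_eq_top (P := @IsFinite) (fun _ : Unit => V)
    (by rw [hVtop]; exact iSup_const)]
  exact fun _ => hV

theorem s17255 (k : Type u) [Field k]
    (A B : Over (Spec (CommRingCat.of k)))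
    [GrpObj A] [Smooth A.hom] [IsProper A.hom] [GeometricallyConnected A.hom]
    [GrpObj B] [Smooth B.hom] [IsProper B.hom] [GeometricallyConnected B.hom]
    (f : A ⟶ B) [IsMonHom f] (hdim : topologicalKrullDim A.left = topologicalKrullDim B.left) :
    Flat f.left ↔ IsFinite f.left := by
  haveI : Subsingleton ↥(Spec (CommRingCat.of k)) :=
    inferInstanceAs (Subsingleton (PrimeSpectrum k))
  haveI : Nonempty ↥(Spec (CommRingCat.of k)) := inferInstanceAs (Nonempty (PrimeSpectrum k))
  haveI : ConnectedSpace A.left :=
    GeometricallyConnected.connectedSpace_of_subsingleton (f := A.hom)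
  haveI : ConnectedSpace B.left :=
    GeometricallyConnected.connectedSpace_of_subsingleton (f := B.hom)
  haveI : IsIntegral A.left := Groth.Agent.H5.Curve3.isIntegral_of_smooth_connected k A.hom
  haveI : IsIntegral B.left := Groth.Agent.H5.Curve3.isIntegral_of_smooth_connected k B.hom
  haveI : IsProper (f.left ≫ B.hom) := by rw [Over.w]; infer_instance
  haveI : IsProper f.left := IsProper.of_comp f.left B.hom
  haveI : IsLocallyNoetherian B.left := LocallyOfFiniteType.isLocallyNoetherian B.hom
  haveI : LocallyOfFinitePresentation f.left := lofp f.left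
  constructor
  · intro hfl
    haveI := hfl
    haveI : Surjective f.left := by
      constructor
      have hopen : IsOpen (Set.range f.left) := f.left.isOpenMap.isOpen_range
      have hclosed : IsClosed (Set.range f.left) := f.left.isClosedMap.isClosed_range
      have hne : (Set.range f.left).Nonempty := Set.range_nonempty _
      have huniv := IsClopen.eq_univ ⟨hclosed, hopen⟩ hne
      intro y
      have : y ∈ Set.range f.left := by rw [huniv]; trivial
      exact this
    exact (main' k A B f hdim).1
  · intro hfin
    haveI := hfin
    haveI : Surjective f.left := by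
      by_contra hns
      have hlqf : LocallyQuasiFinite f.left := inferInstance
      have hfd : ∀ g : A.left, FlatMor.fibreDimAt f.left g = 0 :=
        (Groth.Agent.H1.QFDim.locallyQuasiFinite_iff_fibreDimAt f.left).mp hlqf
      have hcl : IsClosed (Set.range f.left.base) := f.left.isClosedMap.isClosed_range
      have h1 := Groth.Agent.H9.ORB6.dim_eq_dim_range_add B.hom f.left
        (by rw [irreducibleComponents_eq_singleton]; exact Set.finite_singleton _)
        hcl.isLocallyClosed 0 (fun g => by rw [hfd g]; rfl)
      obtain ⟨O, hO⟩ : ∃ O : Set B.left, O = (Set.range f.left.base)ᶜ := ⟨_, rfl⟩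
      have hOne : O.Nonempty := by
        rw [Set.nonempty_iff_ne_empty]
        intro hemp
        apply hns
        constructor
        intro y
        by_contra hy
        have : y ∈ O := by rw [hO]; exact hy
        rw [hemp] at this
        exact this
      have hOopen : IsOpen O := by rw [hO]; exact hcl.isOpen_compl
      have h2 := Groth.Agent.H9.ORB3.dim_boundary_lt B.hom O hOopen.isLocallyClosed hOne
      have hclO : closure O = Set.univ := (hOopen.dense hOne).closure_eq
      have hset : closure O \ O = Set.range f.left.base := by
        rw [hclO, hO]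
        ext y
        simp
      rw [hset] at h2
      have h3 : topologicalKrullDim ↥O ≤ topologicalKrullDim B.left :=
        topologicalKrullDim_subspace_le _ O
      have h4 : topologicalKrullDim A.left = topologicalKrullDim ↥(Set.range f.left.base) := by
        rw [h1]; simp
      have h5 : topologicalKrullDim ↥(Set.range f.left.base) <
          topologicalKrullDim ↥(Set.range f.left.base) := by
        calc topologicalKrullDim ↥(Set.range f.left.base) < topologicalKrullDim ↥O := h2
          _ ≤ topologicalKrullDim B.left := h3
          _ = topologicalKrullDim A.left := hdim.symm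
          _ = _ := h4
      exact lt_irrefl _ h5
    exact (main' k A B f hdim).2

end Groth.Agent.H6.AbIsog
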