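import Mathlib
import Groth.Prelude.Def_AlgGrp
import Groth.Prelude.Def_Red
import Groth.Agent.Lib.Helper6.AbIsog2
import Groth.Agent.Lib.Helper1.FibDimBC

/-! Helper6: for a homomorphism of abelian schemes with fibres of equal dimension, locally
quasi-finite ⇔ surjective (S18385). -/

set_option autoImplicit false
set_option linter.style.haveILetI false
set_option linter.unusedSectionVars false
universe u
open CategoryTheory CategoryTheory.Limits MonoidalCategory CartesianMonoidalCategory MonObj GrpObj
  AlgebraicGeometry

namespace Groth.Agent.H6.AbIsog

open Groth.Agent.H9 Groth.Agent.H9.FLH Groth.Agent.H9.ACT Groth.Agent.H9.SIM Groth.Agent.H9.EQV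
open Groth.Agent.H1.DimFormula

/-- a locally quasi-finite morphism between integral proper schemes of the same dimension over a
field is surjective. -/
theorem surjective_of_lqf (k : Type u) [Field k] (A B : Over (Spec (CommRingCat.of k)))
    [IsProper A.hom] [IsIntegral A.left] [IsProper B.hom] [IsIntegral B.left]
    (f : A ⟶ B) [LocallyQuasiFinite f.left]
    (hdim : topologicalKrullDim A.left = topologicalKrullDim B.left) : Surjective f.left := by
  haveI : IsProper (f.left ≫ B.hom) := by rw [Over.w]; infer_instance
  haveI : IsProper f.left := IsProper.of_comp f.left B.hom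
  by_contra hns
  have hfd : ∀ g : A.left, FlatMor.fibreDimAt f.left g = 0 :=
    (Groth.Agent.H1.QFDim.locallyQuasiFinite_iff_fibreDimAt f.left).mp inferInstance
  have hcl : IsClosed (Set.range f.left.base) := f.left.isClosedMap.isClosed_range
  have h1 := Groth.Agent.H9.ORB6.dim_eq_dim_range_add B.hom f.left
    (by rw [irreducibleComponents_eq_singleton]; exact Set.finite_singleton _)
    hcl.isLocallyClosed 0 (fun g => by rw [hfd g]; rfl)
  obtain ⟨O, hO⟩ : ∃ O : Set B.left, O = (Set.range f.left.base)ᶜ := ⟨_, rfl⟩
  have hOne : O.Nonempty := by
    rw [Set.nonempty_iff_ne_empty]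
    intro hemp
    apply hns
    constructor
    intro y
    by_contra hy
    have : y ∈ O := by rw [hO]; exact hy
    rw [hemp] at this
    exact this
  have hOopen : IsOpen O := by rw [hO]; exact hcl.isOpen_compl
  have h2 := Groth.Agent.H9.ORB3.dim_boundary_lt B.hom O hOopen.isLocallyClosed hOne
  have hclO : closure O = Set.univ := (hOopen.dense hOne).closure_eq
  have hset : closure O \ O = Set.range f.left.base := by
    rw [hclO, hO]
    ext y
    simp
  rw [hset] at h2
  have h3 : topologicalKrullDim ↥O ≤ topologicalKrullDim B.left :=
    topologicalKrullDim_subspace_le _ O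
  have h4 : topologicalKrullDim A.left = topologicalKrullDim ↥(Set.range f.left.base) := by
    rw [h1]; simp
  have h5 : topologicalKrullDim ↥(Set.range f.left.base) <
      topologicalKrullDim ↥(Set.range f.left.base) := by
    calc topologicalKrullDim ↥(Set.range f.left.base) < topologicalKrullDim ↥O := h2
      _ ≤ topologicalKrullDim B.left := h3
      _ = topologicalKrullDim A.left := hdim.symm
      _ = _ := h4
  exact lt_irrefl _ h5

/-- the field case of S18385. -/
theorem lqf_iff_surjective_field (k : Type u) [Field k]
    (A B : Over (Spec (CommRingCat.of k)))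
    [GrpObj A] [Smooth A.hom] [IsProper A.hom] [GeometricallyConnected A.hom]
    [GrpObj B] [Smooth B.hom] [IsProper B.hom] [GeometricallyConnected B.hom]
    (f : A ⟶ B) [IsMonHom f] (hdim : topologicalKrullDim A.left = topologicalKrullDim B.left) :
    LocallyQuasiFinite f.left ↔ Surjective f.left := by
  haveI : Subsingleton ↥(Spec (CommRingCat.of k)) :=
    inferInstanceAs (Subsingleton (PrimeSpectrum k))
  haveI : Nonempty ↥(Spec (CommRingCat.of k)) := inferInstanceAs (Nonempty (PrimeSpectrum k))
  haveI : ConnectedSpace A.left :=
    GeometricallyConnected.connectedSpace_of_subsingleton (f := A.hom)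
  haveI : ConnectedSpace B.left :=
    GeometricallyConnected.connectedSpace_of_subsingleton (f := B.hom)
  haveI : IsIntegral A.left := Groth.Agent.H5.Curve3.isIntegral_of_smooth_connected k A.hom
  haveI : IsIntegral B.left := Groth.Agent.H5.Curve3.isIntegral_of_smooth_connected k B.hom
  constructor
  · intro h
    haveI := h
    exact surjective_of_lqf k A B f hdim
  · intro h
    haveI := h
    haveI : IsFinite f.left := (main' k A B f hdim).1
    infer_instance

theorem s18385 {S : Scheme.{u}} (A B : Over S)
    [GrpObj A] [Smooth A.hom] [IsProper A.hom] [GeometricallyConnected A.hom]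
    [GrpObj B] [Smooth B.hom] [IsProper B.hom] [GeometricallyConnected B.hom]
    (f : A ⟶ B) [IsMonHom f]
    (hdim : ∀ s : S, topologicalKrullDim ↥(A.hom.fiber s) = topologicalKrullDim ↥(B.hom.fiber s)) :
    LocallyQuasiFinite f.left ↔ Surjective f.left := by
  haveI : LocallyOfFiniteType (f.left ≫ B.hom) := by rw [Over.w]; infer_instance
  haveI : LocallyOfFiniteType f.left := locallyOfFiniteType_of_comp f.left B.hom
  -- the fibrewise statement
  have key : ∀ s : S,
      LocallyQuasiFinite ((Over.pullback (S.fromSpecResidueField s)).map f).left ↔
        Surjective ((Over.pullback (S.fromSpecResidueField s)).map f).left := by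
    intro s
    obtain ⟨g, hg⟩ : ∃ g : Spec (CommRingCat.of (S.residueField s)) ⟶ S,
        g = S.fromSpecResidueField s := ⟨_, rfl⟩
    rw [← hg]
    haveI : Smooth (Red.bc g A).hom := inferInstanceAs (Smooth (pullback.snd A.hom g))
    haveI : IsProper (Red.bc g A).hom := inferInstanceAs (IsProper (pullback.snd A.hom g))
    haveI : GeometricallyConnected (Red.bc g A).hom :=
      inferInstanceAs (GeometricallyConnected (pullback.snd A.hom g))
    haveI : Smooth (Red.bc g B).hom := inferInstanceAs (Smooth (pullback.snd B.hom g))
    haveI : IsProper (Red.bc g B).hom := inferInstanceAs (IsProper (pullback.snd B.hom g))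
    haveI : GeometricallyConnected (Red.bc g B).hom :=
      inferInstanceAs (GeometricallyConnected (pullback.snd B.hom g))
    haveI : IsMonHom ((Over.pullback g).map f) := inferInstance
    refine lqf_iff_surjective_field (S.residueField s) (Red.bc g A) (Red.bc g B)
      ((Over.pullback g).map f) ?_
    rw [hg]
    exact hdim s
  -- the base change squares
  have sq : ∀ s : S, IsPullback (pullback.fst A.hom (S.fromSpecResidueField s))
      ((Over.pullback (S.fromSpecResidueField s)).map f).left f.left
      (pullback.fst B.hom (S.fromSpecResidueField s)) := by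
    intro s
    have big : IsPullback (pullback.snd A.hom (S.fromSpecResidueField s))
        (pullback.fst A.hom (S.fromSpecResidueField s)) (S.fromSpecResidueField s) A.hom :=
      (IsPullback.of_hasPullback A.hom _).flip
    have right : IsPullback (pullback.snd B.hom (S.fromSpecResidueField s))
        (pullback.fst B.hom (S.fromSpecResidueField s)) (S.fromSpecResidueField s) B.hom :=
      (IsPullback.of_hasPullback B.hom _).flip
    have hw1 : ((Over.pullback (S.fromSpecResidueField s)).map f).left ≫
        pullback.snd B.hom (S.fromSpecResidueField s) =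
        pullback.snd A.hom (S.fromSpecResidueField s) :=
      Over.w ((Over.pullback (S.fromSpecResidueField s)).map f)
    have hw2 : ((Over.pullback (S.fromSpecResidueField s)).map f).left ≫
        pullback.fst B.hom (S.fromSpecResidueField s) =
        pullback.fst A.hom (S.fromSpecResidueField s) ≫ f.left :=
      pullback.lift_fst _ _ _
    have big' : IsPullback (((Over.pullback (S.fromSpecResidueField s)).map f).left ≫
        pullback.snd B.hom (S.fromSpecResidueField s))
        (pullback.fst A.hom (S.fromSpecResidueField s)) (S.fromSpecResidueField s)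
        (f.left ≫ B.hom) := by
      rw [hw1, Over.w f]; exact big
    exact (IsPullback.of_right big' hw2 right).flip
  have hLQF : LocallyQuasiFinite f.left ↔
      ∀ s : S, LocallyQuasiFinite ((Over.pullback (S.fromSpecResidueField s)).map f).left := by
    constructor
    · intro h s
      exact MorphismProperty.of_isPullback (P := @LocallyQuasiFinite) (sq s) h
    · intro h
      rw [Groth.Agent.H1.QFDim.locallyQuasiFinite_iff_fibreDimAt]
      intro x
      obtain ⟨x', hx'⟩ : x ∈ Set.range (A.hom.fiberι (A.hom x)) := by
        rw [Scheme.Hom.range_fiberι]; rfl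
      obtain ⟨f', hf'⟩ : ∃ f' : pullback A.hom (S.fromSpecResidueField (A.hom x)) ⟶
          pullback B.hom (S.fromSpecResidueField (A.hom x)),
          f' = ((Over.pullback (S.fromSpecResidueField (A.hom x))).map f).left := ⟨_, rfl⟩
      have hsq' : IsPullback (pullback.fst A.hom (S.fromSpecResidueField (A.hom x))) f' f.left
          (pullback.fst B.hom (S.fromSpecResidueField (A.hom x))) := by
        rw [hf']; exact sq _
      haveI : LocallyQuasiFinite f' := by rw [hf']; exact h _
      haveI : LocallyOfFiniteType f' :=
        MorphismProperty.of_isPullback (P := @LocallyOfFiniteType) hsq' inferInstance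
      have h1 := Groth.Agent.H1.FibDimBC.fibreDimAt_eq_of_isPullback f.left
        (pullback.fst B.hom (S.fromSpecResidueField (A.hom x)))
        (pullback.fst A.hom (S.fromSpecResidueField (A.hom x))) f' hsq' x'
      have hx'' : (pullback.fst A.hom (S.fromSpecResidueField (A.hom x))) x' = x := hx'
      rw [hx''] at h1
      rw [← h1]
      exact (Groth.Agent.H1.QFDim.locallyQuasiFinite_iff_fibreDimAt f').mp inferInstance x'
  have hSurj : Surjective f.left ↔
      ∀ s : S, Surjective ((Over.pullback (S.fromSpecResidueField s)).map f).left := by
    constructor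
    · intro h s
      exact MorphismProperty.of_isPullback (P := @Surjective) (sq s) h
    · intro h
      constructor
      intro b
      obtain ⟨b', hb'⟩ : b ∈ Set.range (B.hom.fiberι (B.hom b)) := by
        rw [Scheme.Hom.range_fiberι]; rfl
      obtain ⟨a', ha'⟩ := (h (B.hom b)).surj b'
      refine ⟨(pullback.fst A.hom (S.fromSpecResidueField (B.hom b))) a', ?_⟩
      rw [← Scheme.Hom.comp_apply, (sq (B.hom b)).w, Scheme.Hom.comp_apply, ha']
      exact hb'
  rw [hLQF, hSurj]
  exact forall_congr' key

end Groth.Agent.H6.AbIsog
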