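import Mathlib
import Groth.Prelude.Def_AlgGrp
import Groth.Prelude.Def_Red
import Groth.Agent.Lib.Helper6.AbIsog3
import Groth.Agent.Lib.Helper7.FlatLocBC

/-! Helper6: a finite surjective homomorphism of abelian schemes is flat and the fibres have
the same dimension (S7801). -/

set_option autoImplicit false
set_option linter.style.haveILetI false
set_option linter.unusedSectionVars false
universe u
open CategoryTheory CategoryTheory.Limits MonoidalCategory CartesianMonoidalCategory MonObj GrpObj
  AlgebraicGeometry TopologicalSpace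

namespace Groth.Agent.H6.AbIsog

open Groth.Agent.H9 Groth.Agent.H9.FLH

/-- the base change of a morphism of `S`-schemes along `g : T ⟶ S` sits in a cartesian square. -/
theorem isPullback_baseChange {S T : Scheme.{u}} (A B : Over S) (f : A ⟶ B) (g : T ⟶ S) :
    IsPullback (pullback.fst A.hom g) ((Over.pullback g).map f).left f.left
      (pullback.fst B.hom g) := by
  have big : IsPullback (pullback.snd A.hom g) (pullback.fst A.hom g) g A.hom :=
    (IsPullback.of_hasPullback A.hom _).flip
  have right : IsPullback (pullback.snd B.hom g) (pullback.fst B.hom g) g B.hom :=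
    (IsPullback.of_hasPullback B.hom _).flip
  have hw1 : ((Over.pullback g).map f).left ≫ pullback.snd B.hom g = pullback.snd A.hom g :=
    Over.w ((Over.pullback g).map f)
  have hw2 : ((Over.pullback g).map f).left ≫ pullback.fst B.hom g =
      pullback.fst A.hom g ≫ f.left :=
    pullback.lift_fst _ _ _
  have big' : IsPullback (((Over.pullback g).map f).left ≫ pullback.snd B.hom g)
      (pullback.fst A.hom g) g (f.left ≫ B.hom) := by
    rw [hw1, Over.w f]; exact big
  exact (IsPullback.of_right big' hw2 right).flip

/-- the field case of S7801. -/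
theorem isog_field (k : Type u) [Field k] (A B : Over (Spec (CommRingCat.of k)))
    [GrpObj A] [GrpObj B] [IsProper A.hom] [IsProper B.hom] [IsReduced B.left]
    (f : A ⟶ B) [IsMonHom f] [IsFinite f.left] [Surjective f.left] :
    Flat f.left ∧ topologicalKrullDim A.left = topologicalKrullDim B.left := by
  haveI : QuasiCompact f.left := inferInstance
  have hflat : Flat f.left := (S5355_main A B f f.left.surjective.denseRange).2 inferInstance
  refine ⟨hflat, ?_⟩
  have hfd : ∀ a : A.left, FlatMor.fibreDimAt f.left a = 0 :=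
    (Groth.Agent.H1.QFDim.locallyQuasiFinite_iff_fibreDimAt f.left).mp inferInstance
  have hr : Set.range f.left.base = Set.univ :=
    Set.eq_univ_of_forall (fun y => by
      obtain ⟨a, ha⟩ := f.left.surjective y
      exact ⟨a, ha⟩)
  haveI : IsLocallyNoetherian (Spec (CommRingCat.of k)) := inferInstance
  have hAn : IsLocallyNoetherian A.left := LocallyOfFiniteType.isLocallyNoetherian A.hom
  have hAc : CompactSpace A.left := QuasiCompact.compactSpace_of_compactSpace A.hom
  haveI : IsNoetherian A.left := {}
  have hA : (irreducibleComponents ↥A.left).Finite :=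
    NoetherianSpace.finite_irreducibleComponents
  have h1 := Groth.Agent.H9.ORB6.dim_eq_dim_range_add B.hom f.left hA
    (by rw [hr]; exact isClosed_univ.isLocallyClosed) 0 (fun a => by rw [hfd a]; rfl)
  rw [hr] at h1
  have h2 : topologicalKrullDim ↥(Set.univ : Set ↥B.left) = topologicalKrullDim ↥B.left :=
    IsHomeomorph.topologicalKrullDim_eq _ (Homeomorph.Set.univ ↥B.left).isHomeomorph
  rw [h1, h2]
  simp

theorem s7801 {S : Scheme.{u}} (X Y : Over S) [GrpObj X] [IsProper X.hom] [Flat X.hom]
    [LocallyOfFinitePresentation X.hom] [GeometricallyReduced X.hom]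
    [GeometricallyConnected X.hom]
    [GrpObj Y] [IsProper Y.hom] [Flat Y.hom] [LocallyOfFinitePresentation Y.hom]
    [GeometricallyReduced Y.hom] [GeometricallyConnected Y.hom]
    (f : X ⟶ Y) [IsMonHom f] [IsFinite f.left] [Surjective f.left] :
    Flat f.left ∧ ∀ s : S,
      topologicalKrullDim ↥(X.hom.fiber s) = topologicalKrullDim ↥(Y.hom.fiber s) := by
  have key : ∀ s : S, Flat ((Over.pullback (S.fromSpecResidueField s)).map f).left ∧
      topologicalKrullDim ↥(X.hom.fiber s) = topologicalKrullDim ↥(Y.hom.fiber s) := by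
    intro s
    obtain ⟨g, hg⟩ : ∃ g : Spec (CommRingCat.of (S.residueField s)) ⟶ S,
        g = S.fromSpecResidueField s := ⟨_, rfl⟩
    have hsq := isPullback_baseChange X Y f g
    haveI : IsFinite ((Over.pullback g).map f).left :=
      MorphismProperty.of_isPullback (P := @IsFinite) hsq inferInstance
    haveI : Surjective ((Over.pullback g).map f).left :=
      MorphismProperty.of_isPullback (P := @Surjective) hsq inferInstance
    haveI : IsProper (Red.bc g X).hom := inferInstanceAs (IsProper (pullback.snd X.hom g))
    haveI : IsProper (Red.bc g Y).hom := inferInstanceAs (IsProper (pullback.snd Y.hom g))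
    haveI : IsReduced (Red.bc g Y).left := by
      rw [hg]; exact inferInstanceAs (IsReduced (Y.hom.fiber s))
    haveI : IsMonHom ((Over.pullback g).map f) := inferInstance
    have h := isog_field (S.residueField s) (Red.bc g X) (Red.bc g Y) ((Over.pullback g).map f)
    rw [hg] at h
    exact h
  refine ⟨?_, fun s => (key s).2⟩
  haveI : LocallyOfFinitePresentation (f.left ≫ Y.hom) := by rw [Over.w]; infer_instance
  haveI : Flat (f.left ≫ Y.hom) := by rw [Over.w]; infer_instance
  refine Flat.of_stalkMap (f := f.left) fun x => ?_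
  show Groth.Agent.H7.FlatLocBC.FlatAt f.left x
  obtain ⟨g, hg⟩ : ∃ g : Spec (CommRingCat.of (S.residueField (X.hom x))) ⟶ S,
      g = S.fromSpecResidueField (X.hom x) := ⟨_, rfl⟩
  obtain ⟨ξ, hξ⟩ : ∃ ξ : ↥(pullback X.hom g), (pullback.fst X.hom g) ξ = x := by
    rw [hg]
    have : x ∈ Set.range (X.hom.fiberι (X.hom x)) := by
      rw [Scheme.Hom.range_fiberι]; rfl
    exact this
  obtain ⟨f', hf'⟩ : ∃ f' : pullback X.hom g ⟶ pullback Y.hom g,
      f' = ((Over.pullback g).map f).left := ⟨_, rfl⟩
  have hsq' : IsPullback (pullback.fst X.hom g) f' f.left (pullback.fst Y.hom g) := by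
    rw [hf']; exact isPullback_baseChange X Y f g
  haveI hflat' : Flat f' := by
    rw [hf', hg]; exact (key _).1
  have h1 : Groth.Agent.H7.FlatLocBC.FlatAt (f.left ≫ Y.hom) ((pullback.fst X.hom g) ξ) :=
    Groth.Agent.H7.FlatLocBC.FlatAt.of_flat _ _
  have h2 : Groth.Agent.H7.FlatLocBC.FlatAt f' ξ :=
    Groth.Agent.H7.FlatLocBC.FlatAt.of_flat _ _
  have h3 := Groth.Agent.H7.FlatLocBC.flatAt_of_flatAt_fieldFibre f.left Y.hom
    (S.residueField (X.hom x)) g (IsPullback.of_hasPullback Y.hom g) hsq' ξ h1 h2
  rw [hξ] at h3
  exact h3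

end Groth.Agent.H6.AbIsog
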