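import Mathlib
import Groth.Prelude.Def_AlgGrp
import Groth.Prelude.Def_Red
import Groth.Agent.Lib.Helper6.AbIsog4
import Groth.Agent.Lib.Helper5.EtSrc.OfComp

/-! Helper6: surjective homomorphisms onto group schemes with geometrically reduced fibres are flat
(S7800); isogenies of smooth group schemes with connected fibres are detected fibrewise (S7815). -/

set_option autoImplicit false
set_option linter.style.haveILetI false
set_option linter.unusedSectionVars false
universe u
open CategoryTheory CategoryTheory.Limits MonoidalCategory CartesianMonoidalCategory MonObj GrpObj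
  AlgebraicGeometry TopologicalSpace

namespace Groth.Agent.H6.AbIsog

open Groth.Agent.H9 Groth.Agent.H9.FLH Groth.Agent.H9.ACT Groth.Agent.H9.SIM Groth.Agent.H9.EQV

/-- a surjective homomorphism onto a reduced group scheme over a field is flat (no
quasi-compactness needed). -/
theorem flat_of_surjective_field (k : Type u) [Field k] (A B : Over (Spec (CommRingCat.of k)))
    [GrpObj A] [GrpObj B] [IsReduced B.left] (f : A ⟶ B) [IsMonHom f] [Surjective f.left] :
    Flat f.left := by
  haveI : Nonempty B.left := by
    have : Nonempty (Spec (CommRingCat.of k)) := inferInstance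
    obtain ⟨pt⟩ := this
    exact ⟨η[B].left pt⟩
  obtain ⟨ξ, hξ⟩ := Groth.Agent.H9.GSD.exists_maxPt B.left
  obtain ⟨x, rfl⟩ := f.left.surjective ξ
  have hfield := isField_stalk_of_isMaxPt B.left (f.left x) hξ
  have hfl : FlatAt f.left x := RingHom.Flat.of_isField hfield _
  exact flat_hom f x hfl

/-- fibrewise criterion of flatness for morphisms of `S`-schemes, in terms of the base changes
to the residue fields. -/
theorem flat_of_fibrewise {S : Scheme.{u}} (X Y : Over S)
    [LocallyOfFinitePresentation X.hom] [Flat X.hom] [LocallyOfFiniteType Y.hom] (f : X ⟶ Y)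
    (key : ∀ s : S, Flat ((Over.pullback (S.fromSpecResidueField s)).map f).left) :
    Flat f.left := by
  haveI : LocallyOfFinitePresentation (f.left ≫ Y.hom) := by rw [Over.w]; infer_instance
  haveI : Flat (f.left ≫ Y.hom) := by rw [Over.w]; infer_instance
  refine Flat.of_stalkMap (f := f.left) fun x => ?_
  show Groth.Agent.H7.FlatLocBC.FlatAt f.left x
  obtain ⟨g, hg⟩ : ∃ g : Spec (CommRingCat.of (S.residueField (X.hom x))) ⟶ S,
      g = S.fromSpecResidueField (X.hom x) := ⟨_, rfl⟩
  obtain ⟨ξ, hξ⟩ : ∃ ξ : ↥(pullback X.hom g), (pullback.fst X.hom g) ξ = x := by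
    rw [hg]
    have : x ∈ Set.range (X.hom.fiberι (X.hom x)) := by
      rw [Scheme.Hom.range_fiberι]; rfl
    exact this
  obtain ⟨f', hf'⟩ : ∃ f' : pullback X.hom g ⟶ pullback Y.hom g,
      f' = ((Over.pullback g).map f).left := ⟨_, rfl⟩
  have hsq' : IsPullback (pullback.fst X.hom g) f' f.left (pullback.fst Y.hom g) := by
    rw [hf']; exact isPullback_baseChange X Y f g
  haveI hflat' : Flat f' := by
    rw [hf', hg]; exact key _
  have h1 : Groth.Agent.H7.FlatLocBC.FlatAt (f.left ≫ Y.hom) ((pullback.fst X.hom g) ξ) :=
    Groth.Agent.H7.FlatLocBC.FlatAt.of_flat _ _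
  have h2 : Groth.Agent.H7.FlatLocBC.FlatAt f' ξ :=
    Groth.Agent.H7.FlatLocBC.FlatAt.of_flat _ _
  have h3 := Groth.Agent.H7.FlatLocBC.flatAt_of_flatAt_fieldFibre f.left Y.hom
    (S.residueField (X.hom x)) g (IsPullback.of_hasPullback Y.hom g) hsq' ξ h1 h2
  rw [hξ] at h3
  exact h3

/-- fibrewise criterion for local quasi-finiteness. -/
theorem lqf_of_fibrewise {S : Scheme.{u}} (A B : Over S) (f : A ⟶ B)
    [LocallyOfFiniteType f.left]
    (h : ∀ s : S, LocallyQuasiFinite ((Over.pullback (S.fromSpecResidueField s)).map f).left) :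
    LocallyQuasiFinite f.left := by
  rw [Groth.Agent.H1.QFDim.locallyQuasiFinite_iff_fibreDimAt]
  intro x
  obtain ⟨x', hx'⟩ : x ∈ Set.range (A.hom.fiberι (A.hom x)) := by
    rw [Scheme.Hom.range_fiberι]; rfl
  obtain ⟨f', hf'⟩ : ∃ f' : pullback A.hom (S.fromSpecResidueField (A.hom x)) ⟶
      pullback B.hom (S.fromSpecResidueField (A.hom x)),
      f' = ((Over.pullback (S.fromSpecResidueField (A.hom x))).map f).left := ⟨_, rfl⟩
  have hsq' : IsPullback (pullback.fst A.hom (S.fromSpecResidueField (A.hom x))) f' f.left
      (pullback.fst B.hom (S.fromSpecResidueField (A.hom x))) := by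
    rw [hf']; exact isPullback_baseChange A B f _
  haveI : LocallyQuasiFinite f' := by rw [hf']; exact h _
  haveI : LocallyOfFiniteType f' :=
    MorphismProperty.of_isPullback (P := @LocallyOfFiniteType) hsq' inferInstance
  have h1 := Groth.Agent.H1.FibDimBC.fibreDimAt_eq_of_isPullback f.left
    (pullback.fst B.hom (S.fromSpecResidueField (A.hom x)))
    (pullback.fst A.hom (S.fromSpecResidueField (A.hom x))) f' hsq' x'
  have hx'' : (pullback.fst A.hom (S.fromSpecResidueField (A.hom x))) x' = x := hx'
  rw [hx''] at h1
  rw [← h1]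
  exact (Groth.Agent.H1.QFDim.locallyQuasiFinite_iff_fibreDimAt f').mp inferInstance x'

/-- comparison of the two descriptions of the morphism of fibres. -/
theorem fibre_iff (P : MorphismProperty Scheme.{u}) [P.RespectsIso] {S : Scheme.{u}}
    (G H : Over S) (f : G ⟶ H) (s : S) :
    P ((Over.pullback (S.fromSpecResidueField s)).map f).left ↔
      P (pullback.snd f.left (H.hom.fiberι s)) := by
  have hsq := isPullback_baseChange G H f (S.fromSpecResidueField s)
  have h := P.cancel_left_of_respectsIso hsq.isoPullback.hom
    (pullback.snd f.left (pullback.fst H.hom (S.fromSpecResidueField s)))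
  rw [hsq.isoPullback_hom_snd] at h
  exact h

theorem s7800 {S : Scheme.{u}} (G H : Over S) [GrpObj G] [GrpObj H]
    [LocallyOfFinitePresentation G.hom] [Flat G.hom]
    [LocallyOfFiniteType H.hom] [GeometricallyReduced H.hom]
    (f : G ⟶ H) [IsMonHom f] [Surjective f.left] : Flat f.left ∧ Flat H.hom := by
  have key : ∀ s : S, Flat ((Over.pullback (S.fromSpecResidueField s)).map f).left := by
    intro s
    obtain ⟨g, hg⟩ : ∃ g : Spec (CommRingCat.of (S.residueField s)) ⟶ S,
        g = S.fromSpecResidueField s := ⟨_, rfl⟩
    have hsq := isPullback_baseChange G H f g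
    haveI : Surjective ((Over.pullback g).map f).left :=
      MorphismProperty.of_isPullback (P := @Surjective) hsq inferInstance
    haveI : IsReduced (Red.bc g H).left := by
      rw [hg]; exact inferInstanceAs (IsReduced (H.hom.fiber s))
    haveI : IsMonHom ((Over.pullback g).map f) := inferInstance
    have h := flat_of_surjective_field (S.residueField s) (Red.bc g G) (Red.bc g H)
      ((Over.pullback g).map f)
    rw [hg] at h
    exact h
  have hflat : Flat f.left := flat_of_fibrewise G H f key
  refine ⟨hflat, ?_⟩
  refine Flat.of_stalkMap (f := H.hom) fun y => ?_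
  obtain ⟨x, rfl⟩ := f.left.surjective y
  have h1 : Groth.Agent.H7.FlatLocBC.FlatAt f.left x :=
    Groth.Agent.H7.FlatLocBC.FlatAt.of_flat _ _
  have h2 : Groth.Agent.H7.FlatLocBC.FlatAt (f.left ≫ H.hom) x := by
    haveI : Flat (f.left ≫ H.hom) := by rw [Over.w]; infer_instance
    exact Groth.Agent.H7.FlatLocBC.FlatAt.of_flat _ _
  exact Groth.Agent.H7.FlatLocBC.FlatAt.of_comp f.left H.hom x h1 h2

/-- a surjective homomorphism of integral group schemes of finite type of the same dimension over
a field is finite. -/
theorem finite_of_surjective_field (k : Type u) [Field k]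
    (X Y : Over (Spec (CommRingCat.of k)))
    [GrpObj X] [LocallyOfFiniteType X.hom] [QuasiCompact X.hom] [IsIntegral X.left]
    [GrpObj Y] [LocallyOfFiniteType Y.hom] [IsIntegral Y.left]
    (f : X ⟶ Y) [IsMonHom f] [Surjective f.left]
    (hdim : topologicalKrullDim X.left = topologicalKrullDim Y.left) :
    IsFinite f.left := by
  have hflat : Flat f.left := flat_of_surjective_field k X Y f
  obtain ⟨U, ⟨v, hvU⟩, hUfin⟩ := exists_open_finite k X.hom Y.hom f.left (Over.w f) hdim
  have hequiv : (X ◁ f) ≫ (homAction f).act = (regAction X).act ≫ f := by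
    show (X ◁ f) ≫ (f ▷ Y) ≫ μ[Y] = μ[X] ≫ f
    rw [IsMonHom.mul_hom, tensorHom_def', Category.assoc]
  haveI : IsLocallyNoetherian (Spec (CommRingCat.of k)) := inferInstance
  haveI hXlfp : LocallyOfFinitePresentation X.hom := lofp X.hom
  have hactlfp : LocallyOfFinitePresentation (homAction f).act.left :=
    act_of_stable (homAction f) @LocallyOfFinitePresentation hXlfp
  have hactflat : Flat (homAction f).act.left := inferInstance
  obtain ⟨V, hV, hmax, hst⟩ := stable_largest_open k X X Y (regAction X) (homAction f) f hequiv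
    @IsFinite (@Surjective ⊓ @Flat ⊓ @LocallyOfFinitePresentation)
    (fun V'' U hUα hsurj => by
      refine ⟨⟨⟨?_⟩, inferInstance⟩, inferInstance⟩
      intro y
      obtain ⟨z, hz⟩ := hsurj y
      refine ⟨z, Subtype.ext ?_⟩
      rw [← hz]
      simp)
  have hUV : U ≤ V := hmax U hUfin
  have hVtop : V = ⊤ := by
    rw [eq_top_iff]
    intro y _
    obtain ⟨x, rfl⟩ := f.left.surjective y
    obtain ⟨w, rfl⟩ := f.left.surjective v
    obtain ⟨z, hz1, hz2⟩ := exists_mul_eq (G := X) x w
    have h1 : (X ◁ f).left z ∈ (CartesianMonoidalCategory.snd X Y).left ⁻¹ᵁ V := by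
      show (CartesianMonoidalCategory.snd X Y).left ((X ◁ f).left z) ∈ V
      rw [← Scheme.Hom.comp_apply, ← Over.comp_left, whiskerLeft_snd, Over.comp_left,
        Scheme.Hom.comp_apply, hz1]
      exact hUV hvU
    have h2 := hst h1
    have h3 : (homAction f).act.left ((X ◁ f).left z) = f.left x := by
      rw [← Scheme.Hom.comp_apply, ← Over.comp_left, hequiv, Over.comp_left,
        Scheme.Hom.comp_apply]
      show f.left (μ[X].left z) = _
      rw [hz2]
    rw [← h3]
    exact h2
  rw [IsZariskiLocalAtTarget.iff_of_iSup_eq_top (P := @IsFinite) (fun _ : Unit => V)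
    (by rw [hVtop]; exact iSup_const)]
  exact fun _ => hV

/-- isogenies of smooth connected group schemes of finite type over a field. -/
theorem isog_field_iff (k : Type u) [Field k] (A B : Over (Spec (CommRingCat.of k)))
    [GrpObj A] [Smooth A.hom] [QuasiCompact A.hom] [GeometricallyConnected A.hom]
    [GrpObj B] [Smooth B.hom] [GeometricallyConnected B.hom]
    (f : A ⟶ B) [IsMonHom f] [LocallyOfFinitePresentation f.left] :
    (Flat f.left ∧ LocallyQuasiFinite f.left) ↔ (IsFinite f.left ∧ Surjective f.left) := by
  haveI : Subsingleton ↥(Spec (CommRingCat.of k)) :=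
    inferInstanceAs (Subsingleton (PrimeSpectrum k))
  haveI : Nonempty ↥(Spec (CommRingCat.of k)) := inferInstanceAs (Nonempty (PrimeSpectrum k))
  haveI : ConnectedSpace A.left :=
    GeometricallyConnected.connectedSpace_of_subsingleton (f := A.hom)
  haveI : ConnectedSpace B.left :=
    GeometricallyConnected.connectedSpace_of_subsingleton (f := B.hom)
  haveI : IsIntegral A.left := Groth.Agent.H5.Curve3.isIntegral_of_smooth_connected k A.hom
  haveI : IsIntegral B.left := Groth.Agent.H5.Curve3.isIntegral_of_smooth_connected k B.hom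
  haveI : IsLocallyNoetherian (Spec (CommRingCat.of k)) := inferInstance
  have hAn : IsLocallyNoetherian A.left := LocallyOfFiniteType.isLocallyNoetherian A.hom
  have hAc : CompactSpace A.left := QuasiCompact.compactSpace_of_compactSpace A.hom
  haveI : IsNoetherian A.left := {}
  haveI : QuasiCompact f.left := inferInstance
  constructor
  · rintro ⟨hfl, hqf⟩
    haveI := hfl
    haveI := hqf
    have hopen : IsOpen (Set.range f.left.base) := f.left.isOpenMap.isOpen_range
    have hne : (Set.range f.left.base).Nonempty := by
      obtain ⟨pt⟩ : Nonempty (Spec (CommRingCat.of k)) := inferInstance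
      exact ⟨_, Set.mem_range_self (η[A].left pt)⟩
    have hdense : DenseRange f.left.base := hopen.dense hne
    haveI hsurj : Surjective f.left := (S5355_main A B f hdense).1
    refine ⟨?_, hsurj⟩
    have hfd : ∀ a : A.left, FlatMor.fibreDimAt f.left a = 0 :=
      (Groth.Agent.H1.QFDim.locallyQuasiFinite_iff_fibreDimAt f.left).mp inferInstance
    have hr : Set.range f.left.base = Set.univ :=
      Set.eq_univ_of_forall (fun y => by
        obtain ⟨a, ha⟩ := f.left.surjective y
        exact ⟨a, ha⟩)
    have hA : (irreducibleComponents ↥A.left).Finite :=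
      NoetherianSpace.finite_irreducibleComponents
    have h1 := Groth.Agent.H9.ORB6.dim_eq_dim_range_add B.hom f.left hA
      (by rw [hr]; exact isClosed_univ.isLocallyClosed) 0 (fun a => by rw [hfd a]; rfl)
    rw [hr] at h1
    have h2 : topologicalKrullDim ↥(Set.univ : Set ↥B.left) = topologicalKrullDim ↥B.left :=
      IsHomeomorph.topologicalKrullDim_eq _ (Homeomorph.Set.univ ↥B.left).isHomeomorph
    have hdim : topologicalKrullDim A.left = topologicalKrullDim B.left := by
      rw [h1, h2]; simp
    exact finite_of_surjective_field k A B f hdim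
  · rintro ⟨hfin, hsurj⟩
    haveI := hfin
    haveI := hsurj
    exact ⟨flat_of_surjective_field k A B f, inferInstance⟩

theorem s7815 {S : Scheme.{u}} (G H : Over S) [GrpObj G] [GrpObj H]
    [Smooth G.hom] [QuasiCompact G.hom] [GeometricallyConnected G.hom]
    [Smooth H.hom] [GeometricallyConnected H.hom]
    (f : G ⟶ H) [IsMonHom f] :
    (Flat f.left ∧ LocallyQuasiFinite f.left ∧ LocallyOfFinitePresentation f.left) ↔
      ∀ s : S, IsFinite (pullback.snd f.left (H.hom.fiberι s)) ∧
        Surjective (pullback.snd f.left (H.hom.fiberι s)) := by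
  have hfp : LocallyOfFinitePresentation f.left :=
    Groth.Agent.H5.EtSrc.locallyOfFinitePresentation_of_comp f.left H.hom
      (by rw [Over.w]; infer_instance) inferInstance
  haveI := hfp
  have key : ∀ s : S,
      (Flat ((Over.pullback (S.fromSpecResidueField s)).map f).left ∧
        LocallyQuasiFinite ((Over.pullback (S.fromSpecResidueField s)).map f).left) ↔
      (IsFinite ((Over.pullback (S.fromSpecResidueField s)).map f).left ∧
        Surjective ((Over.pullback (S.fromSpecResidueField s)).map f).left) := by
    intro s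
    obtain ⟨g, hg⟩ : ∃ g : Spec (CommRingCat.of (S.residueField s)) ⟶ S,
        g = S.fromSpecResidueField s := ⟨_, rfl⟩
    rw [← hg]
    have hsq := isPullback_baseChange G H f g
    haveI : LocallyOfFinitePresentation ((Over.pullback g).map f).left :=
      MorphismProperty.of_isPullback (P := @LocallyOfFinitePresentation) hsq inferInstance
    haveI : Smooth (Red.bc g G).hom := inferInstanceAs (Smooth (pullback.snd G.hom g))
    haveI : QuasiCompact (Red.bc g G).hom :=
      inferInstanceAs (QuasiCompact (pullback.snd G.hom g))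
    haveI : GeometricallyConnected (Red.bc g G).hom :=
      inferInstanceAs (GeometricallyConnected (pullback.snd G.hom g))
    haveI : Smooth (Red.bc g H).hom := inferInstanceAs (Smooth (pullback.snd H.hom g))
    haveI : GeometricallyConnected (Red.bc g H).hom :=
      inferInstanceAs (GeometricallyConnected (pullback.snd H.hom g))
    haveI : IsMonHom ((Over.pullback g).map f) := inferInstance
    exact isog_field_iff (S.residueField s) (Red.bc g G) (Red.bc g H) ((Over.pullback g).map f)
  constructor
  · rintro ⟨hfl, hqf, -⟩ s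
    have h1 : Flat ((Over.pullback (S.fromSpecResidueField s)).map f).left :=
      MorphismProperty.of_isPullback (P := @Flat) (isPullback_baseChange G H f _) hfl
    have h2 : LocallyQuasiFinite ((Over.pullback (S.fromSpecResidueField s)).map f).left :=
      MorphismProperty.of_isPullback (P := @LocallyQuasiFinite)
        (isPullback_baseChange G H f _) hqf
    obtain ⟨h3, h4⟩ := (key s).mp ⟨h1, h2⟩
    exact ⟨(fibre_iff @IsFinite G H f s).mp h3, (fibre_iff @Surjective G H f s).mp h4⟩
  · intro h
    have hk : ∀ s : S, Flat ((Over.pullback (S.fromSpecResidueField s)).map f).left ∧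
        LocallyQuasiFinite ((Over.pullback (S.fromSpecResidueField s)).map f).left :=
      fun s => (key s).mpr ⟨(fibre_iff @IsFinite G H f s).mpr (h s).1,
        (fibre_iff @Surjective G H f s).mpr (h s).2⟩
    exact ⟨flat_of_fibrewise G H f (fun s => (hk s).1),
      lqf_of_fibrewise G H f (fun s => (hk s).2), hfp⟩

end Groth.Agent.H6.AbIsog
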