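import Mathlib
import Groth.Prelude.Def_AlgGrp
import Groth.Prelude.Def_Red
import Groth.Agent.Lib.Helper6.AbIsog5
import Groth.Agent.Lib.Helper1.SmoothGeom

/-! Helper6: a homomorphism of abelian schemes is flat iff it is surjective (S19659). -/

set_option autoImplicit false
set_option linter.style.haveILetI false
set_option linter.unusedSectionVars false
universe u
open CategoryTheory CategoryTheory.Limits MonoidalCategory CartesianMonoidalCategory MonObj GrpObj
  AlgebraicGeometry TopologicalSpace

namespace Groth.Agent.H6.AbIsog

open Groth.Agent.H9 Groth.Agent.H9.FLH Groth.Agent.H9.ACT Groth.Agent.H9.SIM Groth.Agent.H9.EQV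

/-- surjectivity can be checked on the fibres. -/
theorem surjective_iff_fibrewise {S : Scheme.{u}} (A B : Over S) (f : A ⟶ B) :
    Surjective f.left ↔
      ∀ s : S, Surjective ((Over.pullback (S.fromSpecResidueField s)).map f).left := by
  constructor
  · intro h s
    exact MorphismProperty.of_isPullback (P := @Surjective) (isPullback_baseChange A B f _) h
  · intro h
    constructor
    intro b
    obtain ⟨b', hb'⟩ : b ∈ Set.range (B.hom.fiberι (B.hom b)) := by
      rw [Scheme.Hom.range_fiberι]; rfl
    obtain ⟨a', ha'⟩ := (h (B.hom b)).surj b'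
    refine ⟨(pullback.fst A.hom (S.fromSpecResidueField (B.hom b))) a', ?_⟩
    rw [← Scheme.Hom.comp_apply, (isPullback_baseChange A B f _).w, Scheme.Hom.comp_apply, ha']
    exact hb'

/-- flatness can be checked on the fibres. -/
theorem flat_iff_fibrewise {S : Scheme.{u}} (X Y : Over S)
    [LocallyOfFinitePresentation X.hom] [Flat X.hom] [LocallyOfFiniteType Y.hom] (f : X ⟶ Y) :
    Flat f.left ↔ ∀ s : S, Flat ((Over.pullback (S.fromSpecResidueField s)).map f).left := by
  constructor
  · intro h s
    exact MorphismProperty.of_isPullback (P := @Flat) (isPullback_baseChange X Y f _) h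
  · exact flat_of_fibrewise X Y f

/-- the field case. -/
theorem flat_iff_surjective_field (k : Type u) [Field k] (A B : Over (Spec (CommRingCat.of k)))
    [GrpObj A] [IsProper A.hom] [Nonempty A.left]
    [GrpObj B] [IsProper B.hom] [IsReduced B.left] [ConnectedSpace B.left]
    (f : A ⟶ B) [IsMonHom f] : Flat f.left ↔ Surjective f.left := by
  haveI : IsProper (f.left ≫ B.hom) := by rw [Over.w]; infer_instance
  haveI : IsProper f.left := IsProper.of_comp f.left B.hom
  haveI : IsLocallyNoetherian (Spec (CommRingCat.of k)) := inferInstance
  haveI : IsLocallyNoetherian B.left := LocallyOfFiniteType.isLocallyNoetherian B.hom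
  haveI : LocallyOfFinitePresentation f.left := lofp f.left
  constructor
  · intro hfl
    haveI := hfl
    have hopen : IsOpen (Set.range f.left.base) := f.left.isOpenMap.isOpen_range
    have hclosed : IsClosed (Set.range f.left.base) := f.left.isClosedMap.isClosed_range
    have hne : (Set.range f.left.base).Nonempty := by
      obtain ⟨a⟩ : Nonempty A.left := inferInstance
      exact ⟨_, Set.mem_range_self a⟩
    have huniv : Set.range f.left.base = Set.univ := IsClopen.eq_univ ⟨hclosed, hopen⟩ hne
    constructor
    intro b
    have : b ∈ Set.range f.left.base := by rw [huniv]; trivial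
    obtain ⟨a, ha⟩ := this
    exact ⟨a, ha⟩
  · intro hsurj
    haveI := hsurj
    exact flat_of_surjective_field k A B f

theorem s19659 {S : Scheme.{u}} (A B : Over S) [GrpObj A] [IsProper A.hom] [Smooth A.hom]
    [GeometricallyConnected A.hom]
    [GrpObj B] [IsProper B.hom] [Smooth B.hom] [GeometricallyConnected B.hom]
    (f : A ⟶ B) [IsMonHom f] : Flat f.left ↔ Surjective f.left := by
  rw [flat_iff_fibrewise A B f, surjective_iff_fibrewise A B f]
  refine forall_congr' fun s => ?_
  obtain ⟨g, hg⟩ : ∃ g : Spec (CommRingCat.of (S.residueField s)) ⟶ S,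
      g = S.fromSpecResidueField s := ⟨_, rfl⟩
  rw [← hg]
  haveI : Subsingleton ↥(Spec (CommRingCat.of (S.residueField s))) :=
    inferInstanceAs (Subsingleton (PrimeSpectrum (S.residueField s)))
  haveI : Nonempty ↥(Spec (CommRingCat.of (S.residueField s))) :=
    inferInstanceAs (Nonempty (PrimeSpectrum (S.residueField s)))
  haveI : IsProper (Red.bc g A).hom := inferInstanceAs (IsProper (pullback.snd A.hom g))
  haveI : IsProper (Red.bc g B).hom := inferInstanceAs (IsProper (pullback.snd B.hom g))
  haveI : Smooth (Red.bc g B).hom := inferInstanceAs (Smooth (pullback.snd B.hom g))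
  haveI : GeometricallyConnected (Red.bc g A).hom :=
    inferInstanceAs (GeometricallyConnected (pullback.snd A.hom g))
  haveI : GeometricallyConnected (Red.bc g B).hom :=
    inferInstanceAs (GeometricallyConnected (pullback.snd B.hom g))
  haveI : ConnectedSpace (Red.bc g A).left :=
    GeometricallyConnected.connectedSpace_of_subsingleton (f := (Red.bc g A).hom)
  haveI : ConnectedSpace (Red.bc g B).left :=
    GeometricallyConnected.connectedSpace_of_subsingleton (f := (Red.bc g B).hom)
  haveI : IsReduced (Red.bc g B).left :=
    Groth.Agent.H1.SmoothGeom.isReduced_of_smooth_field (S.residueField s) (Red.bc g B).hom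
  haveI : IsMonHom ((Over.pullback g).map f) := inferInstance
  exact flat_iff_surjective_field (S.residueField s) (Red.bc g A) (Red.bc g B)
    ((Over.pullback g).map f)

end Groth.Agent.H6.AbIsog
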