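import Groth.Agent.Lib.Helper6.LerayBB4
import Groth.Agent.Lib.Helper2.Telescope3
import Groth.Agent.Lib.Helper2.Telescope4
import Groth.Agent.Lib.Helper2.DCoprod1

/-! # Sequential colimits with eventually invertible legs, and the exhaustive filtration of a
complex by its brutal truncations `σ_{≥ -n} K` -/

open CategoryTheory Limits

namespace Groth.Agent.H6.AcySum

section Gen

variable {C : Type*} [Category C]

/-- a cocone over an `ℕ`-indexed diagram whose legs are eventually isomorphisms is a colimit. -/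
noncomputable def isColimitOfIsIso {S : ℕ ⥤ C} (c : Cocone S) (N₀ : ℕ)
    (h : ∀ n, N₀ ≤ n → IsIso (c.ι.app n)) : IsColimit c := by
  haveI : IsIso (c.ι.app N₀) := h N₀ le_rfl
  exact
  { desc := fun s => inv (c.ι.app N₀) ≫ s.ι.app N₀
    fac := fun s n => by
      by_cases hn : n ≤ N₀
      · rw [← c.w (homOfLE hn), Category.assoc, IsIso.hom_inv_id_assoc, s.w]
      · have hn' : N₀ ≤ n := by omega
        haveI : IsIso (c.ι.app n) := h n hn'
        have h1 : inv (c.ι.app N₀) ≫ s.ι.app N₀ = inv (c.ι.app n) ≫ s.ι.app n := by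
          rw [IsIso.inv_comp_eq, ← c.w (homOfLE hn'), Category.assoc, IsIso.hom_inv_id_assoc,
            s.w]
        rw [h1, IsIso.hom_inv_id_assoc]
    uniq := fun s m hm => by
      rw [IsIso.eq_inv_comp]
      exact hm N₀ }

/-- a morphism between colimit points which is induced by an isomorphism of diagrams is an
isomorphism. -/
lemma isIso_of_isColimit {J : Type*} [Category J] {S₁ S₂ : J ⥤ C} {c₁ : Cocone S₁}
    {c₂ : Cocone S₂} (h₁ : IsColimit c₁) (h₂ : IsColimit c₂) (β : S₁ ⟶ S₂) [IsIso β]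
    (φ : c₁.pt ⟶ c₂.pt) (hφ : ∀ n, c₁.ι.app n ≫ φ = β.app n ≫ c₂.ι.app n) : IsIso φ := by
  have : φ = (IsColimit.coconePointsIsoOfNatIso h₁ h₂ (asIso β)).hom := by
    apply h₁.hom_ext
    intro n
    rw [hφ, IsColimit.comp_coconePointsIsoOfNatIso_hom]
    rfl
  rw [this]
  infer_instance

end Gen

section Trunc

open Groth.Agent.H6.LerayBB

variable {A : Type*} [Category A] [Abelian A]

/-- the brutal truncation `σ_{≥ -n} K`, as a subcomplex of `K`. -/
noncomputable abbrev G (K : CochainComplex A ℤ) (n : ℕ) : CochainComplex A ℤ :=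
  (sesLE K (-(n : ℤ) - 1)).X₁

/-- the inclusion `σ_{≥ -n} K ⟶ K`. -/
noncomputable abbrev ιG (K : CochainComplex A ℤ) (n : ℕ) : G K n ⟶ K :=
  (sesLE K (-(n : ℤ) - 1)).f

lemma ιG_piLE_succ (K : CochainComplex A ℤ) (n : ℕ) :
    ιG K n ≫ piLE K (-((n + 1 : ℕ) : ℤ) - 1) = 0 := by
  ext j
  by_cases hj : j ≤ -(n : ℤ) - 1
  · exact (isZero_sesLE_X₁_X K _ j hj).eq_of_src _ _
  · exact (isZero_sigmaLE_X K _ j (by push_cast; omega)).eq_of_tgt _ _

/-- the inclusion `σ_{≥ -n} K ⟶ σ_{≥ -n-1} K`. -/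
noncomputable def tG (K : CochainComplex A ℤ) (n : ℕ) : G K n ⟶ G K (n + 1) :=
  kernel.lift _ (ιG K n) (ιG_piLE_succ K n)

@[reassoc]
lemma tG_ι (K : CochainComplex A ℤ) (n : ℕ) : tG K n ≫ ιG K (n + 1) = ιG K n :=
  kernel.lift_ι _ _ _

/-- the sequence of brutal truncations. -/
noncomputable def LG (K : CochainComplex A ℤ) : ℕ ⥤ CochainComplex A ℤ :=
  Functor.ofSequence (tG K)

lemma LG_map_succ (K : CochainComplex A ℤ) (n : ℕ) :
    (LG K).map (homOfLE (Nat.le_succ n)) = tG K n :=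
  Functor.ofSequence_map_homOfLE_succ _ n

/-- the cocone of the sequence of brutal truncations with point `K`. -/
noncomputable def coconeG (K : CochainComplex A ℤ) : Cocone (LG K) where
  pt := K
  ι := NatTrans.ofSequence (fun n => ιG K n) (fun n => by
    change (LG K).map _ ≫ ιG K (n + 1) = ιG K n ≫ 𝟙 K
    rw [Category.comp_id]
    exact (congrArg (fun φ => φ ≫ ιG K (n + 1)) (LG_map_succ K n)).trans (tG_ι K n))

lemma coconeG_ι_app (K : CochainComplex A ℤ) (n : ℕ) : (coconeG K).ι.app n = ιG K n := rfl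

lemma isIso_ιG_f (K : CochainComplex A ℤ) (n : ℕ) (j : ℤ) (h : -(n : ℤ) ≤ j) :
    IsIso ((ιG K n).f j) :=
  isIso_sesLE_f_f K _ j (by omega)

lemma isZero_G_X (K : CochainComplex A ℤ) (n : ℕ) (j : ℤ) (h : j < -(n : ℤ)) :
    IsZero ((G K n).X j) :=
  isZero_sesLE_X₁_X K _ j (by omega)

/-- `K` is the colimit of its brutal truncations `σ_{≥ -n} K`. -/
noncomputable def isColimitCoconeG (K : CochainComplex A ℤ) : IsColimit (coconeG K) :=
  HomologicalComplex.isColimitOfEval _ _ (fun j =>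
    isColimitOfIsIso _ (-j).toNat (fun n hn => by
      change IsIso ((ιG K n).f j)
      exact isIso_ιG_f K n j (by omega)))

instance (K : CochainComplex A ℤ) (n : ℕ) : (G K n).IsStrictlyGE (-(n : ℤ)) := by
  rw [CochainComplex.isStrictlyGE_iff]
  intro i hi
  exact isZero_G_X K n i hi

end Trunc

end Groth.Agent.H6.AcySum
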