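import Groth.Agent.Lib.Helper6.AcySum1

/-! # A colimit of a sequence of complexes is a homotopy colimit in the derived category
(version for an arbitrary colimit cocone) -/

namespace Groth.Agent.H6.AcySum

open CategoryTheory Limits DerLim DerivedCategory Pretriangulated
open Groth.Agent.H2.Telescope

universe w v u
variable {A : Type u} [Category.{v} A] [Abelian A] [HasDerivedCategory.{w} A]
  [HasColimitsOfShape ℕ A] [HasExactColimitsOfShape ℕ A]
  (L : ℕ ⥤ CochainComplex A ℤ) [HasCoproduct L.obj]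
  [PreservesColimit (Discrete.functor L.obj) (DerivedCategory.Q (C := A))]
  [HasCoproduct (fun n => DerivedCategory.Q.obj (L.obj n))]

theorem isHocolim_of_isColimit {c : Cocone L} (hc : IsColimit c) :
    DerLim.IsHocolim (fun n => DerivedCategory.Q.obj (L.obj n))
      (fun n => DerivedCategory.Q.map (L.map (homOfLE (Nat.le_succ n))))
      (DerivedCategory.Q.obj c.pt) (fun n => DerivedCategory.Q.map (c.ι.app n)) := by
  let S : ShortComplex (CochainComplex A ℤ) :=
    ShortComplex.mk _ _ (one_sub_shiftMap_desc c)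
  have hS : S.ShortExact := shortExact_of_isColimit hc
  let e : (∐ fun n => Q.obj (L.obj n)) ≅ Q.obj (∐ L.obj) :=
    (PreservesCoproduct.iso Q L.obj).symm
  have he : ∀ n, Sigma.ι (fun n => Q.obj (L.obj n)) n ≫ e.hom = Q.map (Sigma.ι L.obj n) := by
    intro n
    simp [e]
  have h1 : (𝟙 (∐ fun n => Q.obj (L.obj n)) - shiftMap (fun n => Q.obj (L.obj n))
      (fun n => Q.map (L.map (homOfLE (Nat.le_succ n))))) ≫ e.hom = e.hom ≫ Q.map S.f := by
    apply Sigma.hom_ext
    intro n
    dsimp only [S]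
    rw [Preadditive.sub_comp, Preadditive.comp_sub, Category.id_comp, ← Category.assoc,
      ← Category.assoc, ι_shiftMap, he, Category.assoc, he, ← Q.map_comp, ← Q.map_comp,
      ← Q.map_sub]
    congr 1
    rw [Preadditive.comp_sub, Category.comp_id, ι_shiftMap]
  have h2 : Sigma.desc (fun n => Q.map (c.ι.app n)) ≫ 𝟙 _ = e.hom ≫ Q.map S.g := by
    apply Sigma.hom_ext
    intro n
    dsimp only [S]
    rw [Category.comp_id, Sigma.ι_desc, ← Category.assoc, he, ← Q.map_comp, Sigma.ι_desc]
  have h3 : (triangleOfSESδ hS ≫ e.inv⟦(1 : ℤ)⟧') ≫ e.hom⟦(1 : ℤ)⟧' =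
      𝟙 _ ≫ triangleOfSESδ hS := by
    rw [Category.id_comp, Category.assoc, ← Functor.map_comp, e.inv_hom_id,
      CategoryTheory.Functor.map_id, Category.comp_id]
  refine ⟨triangleOfSESδ hS ≫ e.inv⟦(1 : ℤ)⟧', ?_⟩
  refine isomorphic_distinguished _ (triangleOfSES_distinguished hS) _ ?_
  exact Triangle.isoMk _ _ e e (Iso.refl _) h1 h2 h3

end Groth.Agent.H6.AcySum
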