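import Groth.Agent.Lib.Helper6.AcySum2

/-! # Homology commutes with exact coproducts, for complexes and in the derived category -/

namespace Groth.Agent.H6.AcySum

open CategoryTheory Limits DerivedCategory
open Groth.Agent.H2.CoprodCx Groth.Agent.H2.DCoprod

universe w w' v u

section

variable {A : Type u} [Category.{v} A] [Abelian A] {J : Type w}
  [HasColimitsOfShape (Discrete J) A] [HasExactColimitsOfShape (Discrete J) A]

/-- the natural transformation from the evaluation at `j` to the colimit functor. -/
noncomputable def evColim (j : J) :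
    (evaluation (Discrete J) A).obj ⟨j⟩ ⟶ (colim : (Discrete J ⥤ A) ⥤ A) where
  app G := colimit.ι G ⟨j⟩
  naturality G G' φ := by
    change φ.app ⟨j⟩ ≫ colimit.ι G' ⟨j⟩ = colimit.ι G ⟨j⟩ ≫ colimMap φ
    rw [ι_colimMap]

variable (K : J → CochainComplex A ℤ) (n : ℤ)

/-- the homology of the family complex, evaluated at `j`. -/
noncomputable def famHomologyIso (j : J) :
    ((fam K).homology n).obj ⟨j⟩ ≅ (K j).homology n :=
  (((fam K).sc n).mapHomologyIso ((evaluation (Discrete J) A).obj ⟨j⟩)).symm

/-- the homology of the termwise coproduct. -/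
noncomputable def sigHomologyIso :
    (sig K).homology n ≅ colimit ((fam K).homology n) :=
  ((fam K).sc n).mapHomologyIso (colim : (Discrete J ⥤ A) ⥤ A)

lemma homologyMap_sigι (j : J) :
    HomologicalComplex.homologyMap (sigι K j) n =
      (famHomologyIso K n j).inv ≫ colimit.ι ((fam K).homology n) ⟨j⟩ ≫
        (sigHomologyIso K n).inv :=
  ShortComplex.homologyMap_mapNatTrans ((fam K).sc n) (evColim j)

/-- homology sends the termwise coproduct of complexes to a coproduct. -/
noncomputable def isColimitHomologySig :
    IsColimit (Cofan.mk ((sig K).homology n)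
      (fun j => HomologicalComplex.homologyMap (sigι K j) n)) := by
  refine mkCofanColimit _ (fun s => (sigHomologyIso K n).hom ≫
    colimit.desc ((fam K).homology n) ⟨s.pt, Discrete.natTrans (fun ⟨j⟩ =>
      (famHomologyIso K n j).hom ≫ s.inj j)⟩) ?_ ?_
  · intro s j
    change HomologicalComplex.homologyMap (sigι K j) n ≫ _ = _
    rw [homologyMap_sigι]
    simp
  · intro s m hm
    rw [← Iso.inv_comp_eq]
    refine colimit.hom_ext (fun ⟨j⟩ => ?_)
    rw [colimit.ι_desc]
    change _ = (famHomologyIso K n j).hom ≫ s.inj j
    rw [← hm j, ← Iso.inv_comp_eq]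
    change _ = HomologicalComplex.homologyMap (sigι K j) n ≫ m
    rw [homologyMap_sigι]
    simp

end

section

variable {A : Type u} [Category.{v} A] [Abelian A] [HasDerivedCategory.{w'} A] {J : Type w}
  [HasColimitsOfShape (Discrete J) A] [HasExactColimitsOfShape (Discrete J) A]

/-- the homology functors on the derived category of an abelian category with exact coproducts of
shape `J` preserve coproducts of shape `J`. -/
lemma preservesColimitsOfShape_homologyFunctor (n : ℤ) :
    PreservesColimitsOfShape (Discrete J) (homologyFunctor A n) := by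
  constructor
  intro G
  let K : J → CochainComplex A ℤ := fun j => Q.objPreimage (G.obj ⟨j⟩)
  let e : Discrete.functor (fun j => Q.obj (K j)) ≅ G :=
    Discrete.natIso (fun ⟨j⟩ => Q.objObjPreimageIso (G.obj ⟨j⟩))
  have hc : IsColimit (Cofan.mk (Q.obj (sig K)) (fun j => Q.map (sigι K j))) :=
    isColimitMapCofan (isColimitSigCofan K)
  have h1 : IsColimit ((HomologicalComplex.homologyFunctor A (ComplexShape.up ℤ) n).mapCocone
      (Cofan.mk (sig K) (sigι K))) :=
    (isColimitMapCoconeCofanMkEquiv _ _ _).symm (isColimitHomologySig K n)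
  have h2 : IsColimit ((Q ⋙ homologyFunctor A n).mapCocone (Cofan.mk (sig K) (sigι K))) :=
    IsColimit.mapCoconeEquiv (homologyFunctorFactors A n).symm h1
  have h3 : IsColimit ((homologyFunctor A n).mapCocone
      (Cofan.mk (Q.obj (sig K)) (fun j => Q.map (sigι K j)))) :=
    (isColimitMapCoconeCofanMkEquiv _ _ _).symm
      (isColimitMapCoconeCofanMkEquiv (Q ⋙ homologyFunctor A n) _ _ h2)
  have : PreservesColimit (Discrete.functor (fun j => Q.obj (K j))) (homologyFunctor A n) :=
    preservesColimit_of_preserves_colimit_cocone hc h3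
  exact preservesColimit_of_iso_diagram _ e

end

end Groth.Agent.H6.AcySum
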