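import Groth.Agent.Lib.Helper6.QcCons4

/-! # `Rf_*` reflects isomorphisms on `D_QCoh` for affine `f`: assembly -/

universe u
open CategoryTheory Limits Opposite Pretriangulated AlgebraicGeometry TopologicalSpace

namespace Groth.Agent.H6.QcCons

open DerivedCategory Groth.Agent.H6.KI Groth.Agent.H6.MD Groth.Agent.H6.MVTri
open Groth.Agent.LD.HDSh Groth.Agent.H6.RFTri

attribute [local instance] HasDerivedCategory.standard

/-- the third vertex of a distinguished triangle whose first two vertices have cohomology in a weak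
Serre class has cohomology in that class. -/
lemma prop_homology_obj₃ {A : Type*} [Category A] [Abelian A] [HasDerivedCategory A]
    (P : ObjectProperty A) [WSerre.IsWeakSerre P]
    (T : Triangle (DerivedCategory A)) (hT : T ∈ distTriang _)
    (h₁ : ∀ i, P ((homologyFunctor A i).obj T.obj₁))
    (h₂ : ∀ i, P ((homologyFunctor A i).obj T.obj₂)) (i : ℤ) :
    P ((homologyFunctor A i).obj T.obj₃) :=
  Groth.Agent.H7.WayOut.prop_of_five P ((homologyFunctor A i).map T.mor₁)
    ((homologyFunctor A i).map T.mor₂) (HomologySequence.δ T i (i + 1) rfl)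
    ((homologyFunctor A (i + 1)).map T.mor₁) _ _ _
    (HomologySequence.exact₂ T hT i) (HomologySequence.exact₃ T hT i (i + 1) rfl)
    (HomologySequence.exact₁ T hT i (i + 1) rfl) (h₁ i) (h₂ i) (h₁ (i + 1)) (h₂ (i + 1))

/-- if `RF` inverts the first map of a distinguished triangle, it kills the third vertex. -/
lemma isZero_RF_obj₃_of_isIso {B : Type*} [Category B] [Abelian B] [HasDerivedCategory B]
    [KInjDS.HasKInjRes B] {𝒞 : Type*} [Category 𝒞] [Abelian 𝒞] [HasDerivedCategory 𝒞]
    (G : B ⥤ 𝒞) [G.Additive]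
    [(G.mapHomotopyCategory (ComplexShape.up ℤ) ⋙ Qh).HasRightDerivedFunctor
      (HomotopyCategory.quasiIso B (ComplexShape.up ℤ))]
    (T : Triangle (DerivedCategory B)) (hT : T ∈ distTriang _)
    (h : IsIso ((RF G).map T.mor₁)) : IsZero ((RF G).obj T.obj₃) := by
  obtain ⟨T', hT', u₁, u₂, u₃, c₁, c₂⟩ := exists_distTriang_RF' G T hT
  haveI : IsIso T'.mor₁ := by
    have h1 : T'.mor₁ = u₁.hom ≫ (RF G).map T.mor₁ ≫ u₂.inv := by
      rw [← Category.assoc, ← c₁, Category.assoc, Iso.hom_inv_id, Category.comp_id]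
    rw [h1]
    infer_instance
  have hz3 : IsZero T'.obj₃ := (Triangle.isZero₃_iff_isIso₁ T' hT').2 inferInstance
  exact hz3.of_iso u₃.symm

theorem s7257 {X S : Scheme.{u}} (f : X ⟶ S) [IsAffineHom f] [DCoh.HasRpush f]
    {E F : DCoh.D X} (hE : DCoh.IsQCohD E) (hF : DCoh.IsQCohD F) (α : E ⟶ F)
    (hα : IsIso ((DCoh.Rpush f).map α)) : IsIso α := by
  haveI := Groth.Agent.H6.RpRes.hasKInjRes_modules X
  obtain ⟨C, g, h, hT⟩ := distinguished_cocone_triangle α
  have hRC : IsZero ((RF (Scheme.Modules.pushforward f)).obj C) :=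
    isZero_RF_obj₃_of_isIso (Scheme.Modules.pushforward f) (Triangle.mk α g h) hT hα
  haveI : WSerre.IsWeakSerre (fun M : X.Modules => M.IsQuasicoherent) :=
    Groth.Agent.H6.QcVan.wserre_isQCoh X
  have hC : DCoh.IsQCohD C := fun i =>
    prop_homology_obj₃ (fun M : X.Modules => M.IsQuasicoherent) (Triangle.mk α g h) hT hE hF i
  obtain ⟨I, hI, ⟨e⟩⟩ := exists_kinj C
  haveI := hI
  have hq : ∀ j : ℤ, Coh.IsQCoh ((homologyFunctor X.Modules j).obj (Q.obj I)) := fun j =>
    Groth.Agent.LD.QC.qc_of_iso ((homologyFunctor X.Modules j).mapIso e) (hC j)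
  have hz : ∀ m, IsZero ((homologyFunctor X.Modules m).obj (Q.obj I)) := by
    intro m
    apply isZero_homology_of_exactAt f I hq m
    refine (isZero_homology_RF_iff (Scheme.Modules.pushforward f) I m).1 ?_
    apply Functor.map_isZero
    exact hRC.of_iso ((RF (Scheme.Modules.pushforward f)).mapIso e.symm)
  have hQI : IsZero (Q.obj I) := Groth.Agent.H7.DRec.isZero_of_forall_isZero_homology _ hz
  have hCz : IsZero C := hQI.of_iso e
  exact (Triangle.isZero₃_iff_isIso₁ (Triangle.mk α g h) hT).1 hCz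

end Groth.Agent.H6.QcCons
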