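import Groth.Agent.Lib.Helper6.QcVan5

/-! # `Rf_*` preserves `D_QCoh` for `f` qcqs over a quasi-compact base -/

universe u
open CategoryTheory Limits Opposite Pretriangulated AlgebraicGeometry TopologicalSpace

namespace Groth.Agent.H6.QcVan

open DerivedCategory Groth.Agent.H6.KI Groth.Agent.H6.MD Groth.Agent.H6.MDw Groth.Agent.H6.MVTri
open Groth.Agent.LD.SC Groth.Agent.H6.RFTri

attribute [local instance] HasDerivedCategory.standard

theorem isQCohD_Rpush_of_compact {X S : Scheme.{u}} (f : X ⟶ S) [QuasiCompact f]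
    [QuasiSeparated f] [CompactSpace ↥S] [DCoh.HasRpush f]
    (K : DCoh.D X) (hK : DCoh.IsQCohD K) : DCoh.IsQCohD ((DCoh.Rpush f).obj K) := by
  intro m
  haveI := Groth.Agent.H6.RpRes.hasKInjRes_modules X
  haveI : IsGrothendieckAbelian.{u} X.Modules :=
    Groth.Agent.LD.QCGroth.isGrothendieckAbelian_modules X
  haveI : HasInjectiveResolutions X.Modules := inferInstance
  obtain ⟨D, hD⟩ := exists_vanishing_bound f
  let A' : ObjectProperty S.Modules := fun M => M.IsQuasicoherent
  haveI : WSerre.IsWeakSerre A' := wserre_isQCoh S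
  let P : ObjectProperty X.Modules := fun M => M.IsQuasicoherent
  haveI : P.IsClosedUnderIsomorphisms := ⟨fun e h => Groth.Agent.LD.QC.qc_of_iso e h⟩
  obtain ⟨T, hT, rfl, z1, z3, h1iso, h3iso⟩ := exists_trunc_triangle K (m - D)
  haveI : WSerre.IsWeakSerre P := wserre_isQCoh X
  have hQ1 : DCoh.IsQCohD T.obj₁ := by
    intro j
    by_cases hj : j < m - D
    · obtain ⟨e⟩ := h1iso j hj
      exact Groth.Agent.LD.QC.qc_of_iso e.symm (hK j)
    · exact P.prop_of_isZero (z1 j (by omega))
  have hv : ∀ i, m ≤ i → IsZero (DCoh.HD ((DCoh.Rpush f).obj T.obj₁) i) := fun i hi =>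
    hD T.obj₁ hQ1 (m - D - 1) (fun q hq => z1 q (by omega)) i (by omega)
  haveI : T.obj₃.IsGE (m - D) := (isGE_iff T.obj₃ (m - D)).2 (fun j hj => z3 j hj)
  have hQ3 : ∀ i, A' ((homologyFunctor S.Modules i).obj
      ((RF (Scheme.Modules.pushforward f)).obj T.obj₃)) := by
    intro i
    refine prop_homology_RF_of_isGE (Scheme.Modules.pushforward f) P A'
      (fun G hG p => by
        haveI : G.IsQuasicoherent := hG
        exact Groth.Agent.LD.QCQS.qc_Rpush f G p)
      (fun L a hL => by
        haveI := hL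
        exact Groth.Agent.Helper7.LR5.rpush_isGE f L a) T.obj₃ (m - D) (fun j => ?_) i
    by_cases hj : j < m - D
    · exact P.prop_of_isZero (z3 j hj)
    · obtain ⟨e⟩ := h3iso j (by omega)
      exact Groth.Agent.LD.QC.qc_of_iso e (hK j)
  exact prop_homology_RF_obj₂ (Scheme.Modules.pushforward f) A' T hT m
    (A'.prop_of_isZero (hv m le_rfl)) (A'.prop_of_isZero (hv (m + 1) (by omega)))
    (hQ3 (m - 1)) (hQ3 m)

end Groth.Agent.H6.QcVan
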