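import Groth.Agent.Lib.Helper6.LerayBB2
import Groth.Agent.Lib.Helper6.QcCons5
import Groth.Agent.Lib.Helper6.QcVan6
import Groth.Agent.Lib.Lead.QCQS.Base
import Groth.Agent.Lib.Lead.SC.Affine

/-! # `f_* F ⟶ Rf_* F` is an isomorphism for a complex of quasi-coherent modules and `f` affine -/

universe u
open CategoryTheory Limits Opposite Pretriangulated AlgebraicGeometry TopologicalSpace

namespace Groth.Agent.H6.LerayBB

open DerivedCategory Groth.Agent.H6.KI Groth.Agent.H6.MD Groth.Agent.H6.MVTri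
open Groth.Agent.LD.SC Groth.Agent.H6.RFTri Groth.Agent.H6.QcVan Groth.Agent.H6.DerSt

attribute [local instance] HasDerivedCategory.standard

/-- for `f` affine, `Rf_*` does not raise the cohomological amplitude of objects of `D_QCoh`. -/
theorem vanishing_of_isAffineHom {X S : Scheme.{u}} (f : X ⟶ S) [IsAffineHom f]
    [DCoh.HasRpush f] (E : DCoh.D X) (hE : DCoh.IsQCohD E) (b : ℤ)
    (hb : ∀ q : ℤ, b < q → IsZero (DCoh.HD E q)) (m : ℤ) (hm : b < m) :
    IsZero (DCoh.HD ((DCoh.Rpush f).obj E) m) := by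
  let E' : DerivedCategory (ModSite.Mod (J := Opens.grothendieckTopology X) X.sheaf) := E
  haveI : IsGrothendieckAbelian.{u} (ModSite.Mod (J := Opens.grothendieckTopology X) X.sheaf) :=
    Groth.Agent.H1.sheafOfModules_isGrothendieckAbelian _ _
  haveI : HasProduct (CohCx.truncTower E') :=
    Groth.Agent.H2.DProd.hasProduct_of_isGE _ (fun n => ⟨-(n : ℤ), inferInstance⟩)
  have hL := Groth.Agent.H6.MDw.main1007 X E' hE
  let A : ObjectProperty (ModSite.Mod (J := Opens.grothendieckTopology X) X.sheaf) :=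
    fun F => Coh.IsQCoh (X := X) F
  haveI : A.IsClosedUnderIsomorphisms :=
    ⟨fun e h => Groth.Agent.LD.QC.qc_of_iso (X := X) e h⟩
  apply isZero_HD_Rpush_of_basis f E m {V : S.Opens | IsAffineOpen V}
    (Scheme.isBasis_affineOpens S)
  intro V hV φ
  refine hom_eq_zero_of_isRlimVia (O := X.sheaf) E' hL A hE (f ⁻¹ᵁ V) 0 ?_ b hb m
    (by simpa using hm) φ
  intro F hF k hk
  obtain ⟨p, rfl⟩ : ∃ p, k = p + 1 := ⟨k - 1, by omega⟩
  haveI : SheafOfModules.IsQuasicoherent (R := X.ringCatSheaf) F := hF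
  exact subsingleton_ext_of_isAffineOpen (X := X) F p (f ⁻¹ᵁ V) (IsAffineOpen.preimage hV f)

lemma qc_cycles_sc {X : Scheme.{u}} (S : ShortComplex X.Modules) (h₂ : S.X₂.IsQuasicoherent)
    (h₃ : S.X₃.IsQuasicoherent) : S.cycles.IsQuasicoherent :=
  Groth.Agent.LD.QC.qc_of_iso S.cyclesIsoKernel.symm (Groth.Agent.LD.QC.qc_kernel S.g h₂ h₃)

lemma qc_homology_sc {X : Scheme.{u}} (S : ShortComplex X.Modules) (h₁ : S.X₁.IsQuasicoherent)
    (h₂ : S.X₂.IsQuasicoherent) (h₃ : S.X₃.IsQuasicoherent) : S.homology.IsQuasicoherent := by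
  have hc : S.cycles.IsQuasicoherent := qc_cycles_sc S h₂ h₃
  have e : cokernel S.toCycles ≅ S.homology :=
    (IsColimit.coconePointUniqueUpToIso (colimit.isColimit _) S.homologyIsCokernel)
  exact Groth.Agent.LD.QC.qc_of_iso e (Groth.Agent.LD.QC.qc_cokernel S.toCycles h₁ hc)

lemma qc_opcycles {X : Scheme.{u}} (K : CochainComplex X.Modules ℤ)
    (hq : ∀ n : ℤ, Coh.IsQCoh (K.X n)) (n : ℤ) : Coh.IsQCoh (K.opcycles n) := by
  have e : cokernel (K.d (n - 1) n) ≅ K.opcycles n :=
    IsColimit.coconePointUniqueUpToIso (colimit.isColimit _)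
      (K.opcyclesIsCokernel (n - 1) n (by simp))
  exact Groth.Agent.LD.QC.qc_of_iso e (Groth.Agent.LD.QC.qc_cokernel _ (hq _) (hq _))

lemma qc_truncGE_X {X : Scheme.{u}} (K : CochainComplex X.Modules ℤ)
    (hq : ∀ n : ℤ, Coh.IsQCoh (K.X n)) (a n : ℤ) : Coh.IsQCoh ((K.truncGE a).X n) := by
  rcases lt_trichotomy n a with h | rfl | h
  · exact Groth.Agent.LD.QC.qc_of_iso
      ((isZero_zero _).iso ((K.truncGE a).isZero_of_isStrictlyGE a n h))
      (Groth.Agent.LD.SC.qc_zero X)
  · exact Groth.Agent.LD.QC.qc_of_iso (K.truncGEXIsoOpcycles n).symm (qc_opcycles K hq n)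
  · exact Groth.Agent.LD.QC.qc_of_iso (K.truncGEXIso a n h).symm (hq n)

lemma isQCohD_Q_obj {X : Scheme.{u}} (K : CochainComplex X.Modules ℤ)
    (hq : ∀ n : ℤ, Coh.IsQCoh (K.X n)) : DCoh.IsQCohD (Q.obj K) := by
  intro j
  refine Groth.Agent.LD.QC.qc_of_iso ((homologyFunctorFactors X.Modules j).app K).symm ?_
  exact qc_homology_sc (K.sc j) (hq _) (hq _) (hq _)

end Groth.Agent.H6.LerayBB

namespace Groth.Agent.H6.LerayBB

open DerivedCategory Groth.Agent.H6.KI Groth.Agent.H6.MD Groth.Agent.H6.MVTri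
open Groth.Agent.LD.SC Groth.Agent.H6.RFTri Groth.Agent.H6.QcVan Groth.Agent.H6.DerSt

attribute [local instance] HasDerivedCategory.standard

lemma isIso_homologyMap_πTruncGE {A : Type*} [Category A] [Abelian A] [HasDerivedCategory A]
    (K : CochainComplex A ℤ) (a j : ℤ) (h : a ≤ j) :
    IsIso ((homologyFunctor A j).map (Q.map (K.πTruncGE a))) := by
  have hq : QuasiIsoAt (K.πTruncGE a) j := K.quasiIsoAt_πTruncGE a j h
  rw [quasiIsoAt_iff_isIso_homologyMap] at hq
  exact (NatIso.isIso_map_iff (homologyFunctorFactors A j) _).2 hq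

lemma epi_homologyMap_πTruncGE {A : Type*} [Category A] [Abelian A] [HasDerivedCategory A]
    (K : CochainComplex A ℤ) (a j : ℤ) :
    Epi ((homologyFunctor A j).map (Q.map (K.πTruncGE a))) := by
  by_cases h : a ≤ j
  · haveI := isIso_homologyMap_πTruncGE K a j h
    infer_instance
  · have hz : IsZero ((homologyFunctor A j).obj (Q.obj (K.truncGE a))) := by
      refine IsZero.of_iso ?_ ((homologyFunctorFactors A j).app (K.truncGE a))
      exact (K.truncGE a).isZero_of_isGE a j (by omega)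
    exact ⟨fun _ _ _ => hz.eq_of_src _ _⟩

theorem isIso_theta_of_isAffineHom {X S : Scheme.{u}} (f : X ⟶ S) [IsAffineHom f]
    [DCoh.HasRpush f] (K : CochainComplex X.Modules ℤ) (hq : ∀ n : ℤ, Coh.IsQCoh (K.X n)) :
    IsIso (theta (Scheme.Modules.pushforward f) K) := by
  haveI := Groth.Agent.H6.RpRes.hasKInjRes_modules X
  haveI : IsGrothendieckAbelian.{u} X.Modules :=
    Groth.Agent.LD.QCGroth.isGrothendieckAbelian_modules X
  haveI : EnoughInjectives X.Modules := inferInstance
  haveI : WSerre.IsWeakSerre (fun M : X.Modules => M.IsQuasicoherent) := wserre_isQCoh X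
  apply isIso_theta_of_truncGE
  · intro a n i hi
    haveI : ((K.truncGE a).X n).IsQuasicoherent := qc_truncGE_X K hq a n
    exact Groth.Agent.LD.QCQS.isZero_Rpush_of_isAffineHom f _ i hi
  · intro m
    refine ⟨m - 2, by omega, fun Z g δ hT => ?_⟩
    have hZ : DCoh.IsQCohD Z :=
      Groth.Agent.H6.MDw.cohIn_obj₁ (fun M : X.Modules => M.IsQuasicoherent) _ hT
        (isQCohD_Q_obj K hq) (isQCohD_Q_obj (K.truncGE (m - 2)) (qc_truncGE_X K hq (m - 2)))
    have hZv : ∀ q : ℤ, m - 3 < q → IsZero (DCoh.HD Z q) := by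
      intro q hq'
      refine Groth.Agent.H6.MDw.isZero_homology_obj₁ _ hT (q - 1) q (by omega) ?_ ?_
      · exact epi_homologyMap_πTruncGE K (m - 2) (q - 1)
      · haveI := isIso_homologyMap_πTruncGE K (m - 2) q (by omega)
        change Mono ((homologyFunctor X.Modules q).map (Q.map (K.πTruncGE (m - 2))))
        infer_instance
    exact ⟨vanishing_of_isAffineHom f Z hZ (m - 3) hZv m (by omega),
      vanishing_of_isAffineHom f Z hZ (m - 3) hZv (m + 1) (by omega)⟩

end Groth.Agent.H6.LerayBB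

namespace Groth.Agent.H6.LerayBB

open DerivedCategory Groth.Agent.H6.MVTri Groth.Agent.H6.RFTri

lemma isIso_unit_app_of_isIso_theta {B : Type*} [Category B] [Abelian B] [HasDerivedCategory B]
    {𝒞 : Type*} [Category 𝒞] [Abelian 𝒞] [HasDerivedCategory 𝒞]
    (F : B ⥤ 𝒞) [F.Additive]
    [(F.mapHomotopyCategory (ComplexShape.up ℤ) ⋙ Qh).HasRightDerivedFunctor
      (HomotopyCategory.quasiIso B (ComplexShape.up ℤ))]
    (I : CochainComplex B ℤ) (h : IsIso (theta F I)) :
    IsIso (((F.mapHomotopyCategory (ComplexShape.up ℤ) ⋙ Qh).totalRightDerivedUnit Qh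
      (HomotopyCategory.quasiIso B (ComplexShape.up ℤ))).app
        ((HomotopyCategory.quotient B (ComplexShape.up ℤ)).obj I)) := by
  unfold theta at h
  haveI := h
  haveI h1 := IsIso.of_isIso_comp_left ((quotientCompQhIso 𝒞).inv.app
    ((F.mapHomologicalComplex (ComplexShape.up ℤ)).obj I)) (Qh.map ((F.mapHomotopyCategoryFactors
      (ComplexShape.up ℤ)).inv.app I) ≫
    ((F.mapHomotopyCategory (ComplexShape.up ℤ) ⋙ Qh).totalRightDerivedUnit Qh
      (HomotopyCategory.quasiIso B (ComplexShape.up ℤ))).app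
        ((HomotopyCategory.quotient B (ComplexShape.up ℤ)).obj I) ≫
    (RF F).map ((quotientCompQhIso B).hom.app I))
  haveI h2 := IsIso.of_isIso_comp_left (Qh.map ((F.mapHomotopyCategoryFactors
      (ComplexShape.up ℤ)).inv.app I))
    (((F.mapHomotopyCategory (ComplexShape.up ℤ) ⋙ Qh).totalRightDerivedUnit Qh
      (HomotopyCategory.quasiIso B (ComplexShape.up ℤ))).app
        ((HomotopyCategory.quotient B (ComplexShape.up ℤ)).obj I) ≫
    (RF F).map ((quotientCompQhIso B).hom.app I))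
  exact IsIso.of_isIso_comp_right
    (((F.mapHomotopyCategory (ComplexShape.up ℤ) ⋙ Qh).totalRightDerivedUnit Qh
      (HomotopyCategory.quasiIso B (ComplexShape.up ℤ))).app
        ((HomotopyCategory.quotient B (ComplexShape.up ℤ)).obj I))
    ((RF F).map ((quotientCompQhIso B).hom.app I))

attribute [local instance] HasDerivedCategory.standard

theorem s7245 {X S : Scheme.{u}} (f : X ⟶ S) [IsAffineHom f] [DCoh.HasRpush f]
    (F : CochainComplex X.Modules ℤ) (hq : ∀ n : ℤ, Coh.IsQCoh (F.X n)) :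
    IsIso (((DCoh.pushKh f).totalRightDerivedUnit DerivedCategory.Qh
      (HomotopyCategory.quasiIso X.Modules (ComplexShape.up ℤ))).app
      ((HomotopyCategory.quotient X.Modules (ComplexShape.up ℤ)).obj F)) :=
  isIso_unit_app_of_isIso_theta (Scheme.Modules.pushforward f) F
    (isIso_theta_of_isAffineHom f F hq)

end Groth.Agent.H6.LerayBB
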