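import Groth.Agent.Lib.Helper6.AcySum3
import Groth.Agent.Lib.Helper6.LerayBB3

/-! # `F(K) ⟶ RF(K)` is an isomorphism for complexes with acyclic terms when `RF` commutes
with countable direct sums -/

namespace Groth.Agent.H6.AcySum

open CategoryTheory Limits DerivedCategory Pretriangulated ZeroObject
open Groth.Agent.H6.MVTri Groth.Agent.H6.RFTri Groth.Agent.H6.LerayBB Groth.Agent.H6.DerSt
open Groth.Agent.H2.Telescope Groth.Agent.H2.DCoprod

section Homological

variable {A : Type*} [Category A] [Abelian A] [HasDerivedCategory A] [KInjDS.HasKInjRes A]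
  {B : Type*} [Category B] [Abelian B] [HasDerivedCategory B]
  (F : A ⥤ B) [F.Additive]
  [(F.mapHomotopyCategory (ComplexShape.up ℤ) ⋙ Qh).HasRightDerivedFunctor
    (HomotopyCategory.quasiIso A (ComplexShape.up ℤ))]

instance preservesZeroMorphisms_RF_homology (m : ℤ) :
    (RF F ⋙ homologyFunctor B m).PreservesZeroMorphisms where
  map_zero X Y := by
    have hz : IsZero ((RF F ⋙ homologyFunctor B m).obj (0 : DerivedCategory A)) :=
      isZero_homology_RF_of_isZero F 0 (isZero_zero _) m
    have h0 : (0 : X ⟶ Y) = (0 : X ⟶ 0) ≫ (0 : 0 ⟶ Y) := by simp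
    rw [h0, Functor.map_comp,
      hz.eq_of_tgt ((RF F ⋙ homologyFunctor B m).map (0 : X ⟶ 0)) 0, zero_comp]

instance isHomological_RF_homology (m : ℤ) : (RF F ⋙ homologyFunctor B m).IsHomological where
  exact T hT := by
    obtain ⟨T', hT', u₁, u₂, u₃, c₁, c₂⟩ := exists_distTriang_RF' F T hT
    have ex := (homologyFunctor B m).map_distinguished_exact T' hT'
    refine ShortComplex.exact_of_iso ?_ ex
    exact ShortComplex.isoMk ((homologyFunctor B m).mapIso u₁) ((homologyFunctor B m).mapIso u₂)
      ((homologyFunctor B m).mapIso u₃)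
      (by
        change (homologyFunctor B m).map u₁.hom ≫ (homologyFunctor B m).map ((RF F).map T.mor₁) =
          (homologyFunctor B m).map T'.mor₁ ≫ (homologyFunctor B m).map u₂.hom
        rw [← Functor.map_comp, ← Functor.map_comp, c₁])
      (by
        change (homologyFunctor B m).map u₂.hom ≫ (homologyFunctor B m).map ((RF F).map T.mor₂) =
          (homologyFunctor B m).map T'.mor₂ ≫ (homologyFunctor B m).map u₃.hom
        rw [← Functor.map_comp, ← Functor.map_comp, c₂])

end Homological

section Main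

variable {A : Type*} [Category A] [Abelian A] [HasDerivedCategory A] [KInjDS.HasKInjRes A]
  [EnoughInjectives A]
  [HasColimitsOfShape ℕ A] [HasExactColimitsOfShape ℕ A]
  [HasColimitsOfShape (Discrete ℕ) A] [HasExactColimitsOfShape (Discrete ℕ) A]
  {B : Type*} [Category B] [Abelian B] [HasDerivedCategory B]
  [HasColimitsOfShape ℕ B] [HasExactColimitsOfShape ℕ B]
  [HasColimitsOfShape (Discrete ℕ) B] [HasExactColimitsOfShape (Discrete ℕ) B]
  (F : A ⥤ B) [F.Additive] [PreservesFiniteLimits F]
  [(F.mapHomotopyCategory (ComplexShape.up ℤ) ⋙ Qh).HasRightDerivedFunctor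
    (HomotopyCategory.quasiIso A (ComplexShape.up ℤ))]
  [HasColimitsOfShape (Discrete ℕ) (DerivedCategory A)]
  [PreservesColimitsOfShape (Discrete ℕ) (RF F)]

omit [KInjDS.HasKInjRes A] [HasColimitsOfShape ℕ A] [HasExactColimitsOfShape ℕ A]
  [HasColimitsOfShape (Discrete ℕ) A] [HasExactColimitsOfShape (Discrete ℕ) A]
  [HasDerivedCategory A] [HasDerivedCategory B]
  [HasColimitsOfShape ℕ B] [HasExactColimitsOfShape ℕ B]
  [HasColimitsOfShape (Discrete ℕ) B] [HasExactColimitsOfShape (Discrete ℕ) B]
  [(F.mapHomotopyCategory (ComplexShape.up ℤ) ⋙ Qh).HasRightDerivedFunctor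
    (HomotopyCategory.quasiIso A (ComplexShape.up ℤ))]
  [HasColimitsOfShape (Discrete ℕ) (DerivedCategory A)]
  [PreservesColimitsOfShape (Discrete ℕ) (RF F)] in
lemma acycP_G (K : CochainComplex A ℤ) (hK : ∀ n, acycP F (K.X n)) (n : ℕ) (j : ℤ) :
    acycP F ((G K n).X j) := by
  by_cases hj : j < -(n : ℤ)
  · intro i hi
    exact Functor.map_isZero _ (isZero_G_X K n j hj)
  · haveI : IsIso ((ιG K n).f j) := isIso_ιG_f K n j (by omega)
    exact Pk_of_iso F (asIso ((ιG K n).f j)).symm (hK j)

/-- if `RF` commutes with countable direct sums, the comparison map `Q(F K) ⟶ RF(Q K)` is an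
isomorphism for every complex `K` with right `F`-acyclic terms. -/
theorem isIso_theta_of_preservesCoproducts (K : CochainComplex A ℤ)
    (hK : ∀ n, acycP F (K.X n)) : IsIso (theta F K) := by
  rw [DerivedCategory.isIso_iff]
  intro m
  -- the homotopy colimit
  haveI : PreservesColimit (Discrete.functor (LG K).obj) (Q (C := A)) :=
    preservesColimit_of_preserves_colimit_cocone (coproductIsCoproduct (LG K).obj)
      ((isColimitMapCoconeCofanMkEquiv _ _ _).symm
        (isColimitMapCofan (coproductIsCoproduct (LG K).obj)))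
  have hHo : DerLim.IsHocolim (fun n => Q.obj (G K n)) (fun n => Q.map (tG K n)) (Q.obj K)
      (fun n => Q.map (ιG K n)) := by
    have h := isHocolim_of_isColimit (LG K) (isColimitCoconeG K)
    have hf : (fun n => Q.map ((LG K).map (homOfLE (Nat.le_succ n)))) =
        fun n => Q.map (tG K n) := by
      funext n
      exact congrArg (fun φ => Q.map φ) (LG_map_succ K n)
    rw [hf] at h
    exact h
  let H := RF F ⋙ homologyFunctor B m
  haveI : PreservesColimitsOfShape (Discrete ℕ) (homologyFunctor B m) :=
    preservesColimitsOfShape_homologyFunctor m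
  haveI : PreservesColimitsOfShape (Discrete ℕ) H := by
    dsimp only [H]
    infer_instance
  obtain ⟨e, he⟩ := exists_iso_of_isHocolim H _ _ _ _ hHo
  -- the two sequences
  let Φ₁ := F.mapHomologicalComplex (ComplexShape.up ℤ) ⋙ Q ⋙ homologyFunctor B m
  let S₁ : ℕ ⥤ B := Functor.ofSequence (fun n => Φ₁.map (tG K n))
  let S₂ : ℕ ⥤ B := Functor.ofSequence (fun n => H.map (Q.map (tG K n)))
  let c₁ : Cocone S₁ :=
    { pt := Φ₁.obj K
      ι := NatTrans.ofSequence (fun n => Φ₁.map (ιG K n)) (fun n => by
        change S₁.map _ ≫ Φ₁.map (ιG K (n + 1)) = Φ₁.map (ιG K n) ≫ 𝟙 _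
        rw [Category.comp_id]
        have h1 : S₁.map (homOfLE (Nat.le_add_right n 1)) = Φ₁.map (tG K n) :=
          Functor.ofSequence_map_homOfLE_succ _ n
        rw [h1]
        exact (Φ₁.map_comp (tG K n) (ιG K (n + 1))).symm.trans (congrArg Φ₁.map (tG_ι K n))) }
  let c₂ : Cocone S₂ :=
    { pt := H.obj (Q.obj K)
      ι := (colimit.cocone S₂).ι ≫ (Functor.const ℕ).map e.hom }
  have hc₂ : IsColimit c₂ :=
    IsColimit.ofIsoColimit (colimit.isColimit S₂) (Cocones.ext e (fun n => rfl))
  have hc₂ι : ∀ n, c₂.ι.app n = H.map (Q.map (ιG K n)) := fun n => he n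
  -- the legs of `c₁` are eventually isomorphisms
  have hc₁ : IsColimit c₁ := by
    refine isColimitOfIsIso c₁ (1 - m).toNat (fun n hn => ?_)
    change IsIso ((homologyFunctor B m).map
      (Q.map ((F.mapHomologicalComplex (ComplexShape.up ℤ)).map (ιG K n))))
    have hq : QuasiIsoAt ((F.mapHomologicalComplex (ComplexShape.up ℤ)).map (ιG K n)) m := by
      haveI : IsIso ((ιG K n).f (m - 1)) := isIso_ιG_f K n (m - 1) (by omega)
      haveI : IsIso ((ιG K n).f m) := isIso_ιG_f K n m (by omega)
      haveI : IsIso ((ιG K n).f (m + 1)) := isIso_ιG_f K n (m + 1) (by omega)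
      apply quasiIsoAt_of_isIso_f
      · change IsIso (F.map ((ιG K n).f (m - 1)))
        infer_instance
      · change IsIso (F.map ((ιG K n).f m))
        infer_instance
      · change IsIso (F.map ((ιG K n).f (m + 1)))
        infer_instance
    rw [quasiIsoAt_iff_isIso_homologyMap] at hq
    exact (NatIso.isIso_map_iff (homologyFunctorFactors B m) _).2 hq
  -- the isomorphism of sequences
  have hθ : ∀ n, IsIso (theta F (G K n)) := fun n =>
    isIso_theta_of_isStrictlyGE F (G K n) (-(n : ℤ)) (acycP_G F K hK n)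
  let β : S₁ ⟶ S₂ := NatTrans.ofSequence
    (fun n => (homologyFunctor B m).map (theta F (G K n))) (fun n => by
      have h1 : S₁.map (homOfLE (Nat.le_add_right n 1)) = Φ₁.map (tG K n) :=
        Functor.ofSequence_map_homOfLE_succ _ n
      have h2 : S₂.map (homOfLE (Nat.le_add_right n 1)) = H.map (Q.map (tG K n)) :=
        Functor.ofSequence_map_homOfLE_succ _ n
      rw [h1, h2]
      change (homologyFunctor B m).map (Q.map ((F.mapHomologicalComplex
        (ComplexShape.up ℤ)).map (tG K n))) ≫ (homologyFunctor B m).map (theta F (G K (n + 1))) =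
        (homologyFunctor B m).map (theta F (G K n)) ≫
          (homologyFunctor B m).map ((RF F).map (Q.map (tG K n)))
      rw [← Functor.map_comp, ← Functor.map_comp, theta_naturality])
  haveI : IsIso β := by
    haveI : ∀ n, IsIso (β.app n) := fun n => by
      haveI := hθ n
      change IsIso ((homologyFunctor B m).map (theta F (G K n)))
      infer_instance
    exact NatIso.isIso_of_isIso_app β
  refine isIso_of_isColimit hc₁ hc₂ β ((homologyFunctor B m).map (theta F K)) (fun n => ?_)
  rw [hc₂ι]
  change (homologyFunctor B m).map (Q.map ((F.mapHomologicalComplex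
    (ComplexShape.up ℤ)).map (ιG K n))) ≫ (homologyFunctor B m).map (theta F K) =
    (homologyFunctor B m).map (theta F (G K n)) ≫
      (homologyFunctor B m).map ((RF F).map (Q.map (ιG K n)))
  rw [← Functor.map_comp, ← Functor.map_comp, theta_naturality]

end Main

end Groth.Agent.H6.AcySum
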