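import Groth.Agent.Lib.Helper6.AcySum4

/-! # S19253: for a Grothendieck abelian category, `F(K) ⟶ RF(K)` is an isomorphism for complexes
with acyclic terms when `RF` commutes with countable direct sums -/

namespace Groth.Agent.H6.AcySum

open CategoryTheory Limits DerivedCategory
open Groth.Agent.H6.MVTri Groth.Agent.H6.RFTri Groth.Agent.H6.LerayBB Groth.Agent.H6.DerSt

universe w w' v u

lemma hasExactColimitsOfShape_nat {A : Type u} [Category.{v} A] [Abelian A]
    [IsGrothendieckAbelian.{v} A] : HasExactColimitsOfShape ℕ A := by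
  haveI : HasFilteredColimitsOfSize.{0, 0} A := hasFilteredColimitsOfSize_of_univLE.{0}
  haveI : AB5OfSize.{0, 0} A := AB5OfSize_of_univLE.{0, 0, v, v} A
  infer_instance

theorem s19253
    {A : Type u} [Category.{v} A] [Abelian A] [IsGrothendieckAbelian.{v} A] [HasDerivedCategory.{w} A]
    [HasDerivedCategory.{w'} AddCommGrpCat.{v}]
    (F : A ⥤ AddCommGrpCat.{v}) [F.Additive] [PreservesFiniteLimits F]
    [(F.mapHomotopyCategory (ComplexShape.up ℤ) ⋙ DerivedCategory.Qh).HasRightDerivedFunctor
      (HomotopyCategory.quasiIso A (ComplexShape.up ℤ))]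
    [HasColimitsOfShape (Discrete ℕ) (DerivedCategory A)]
    [PreservesColimitsOfShape (Discrete ℕ) ((F.mapHomotopyCategory (ComplexShape.up ℤ) ⋙ DerivedCategory.Qh).totalRightDerived
      DerivedCategory.Qh (HomotopyCategory.quasiIso A (ComplexShape.up ℤ)))]
    (K : CochainComplex A ℤ) (hK : ∀ (m : ℤ) (i : ℕ), 0 < i → IsZero ((F.rightDerived i).obj (K.X m))) :
    IsIso (((F.mapHomotopyCategory (ComplexShape.up ℤ) ⋙ DerivedCategory.Qh).totalRightDerivedUnit DerivedCategory.Qh
      (HomotopyCategory.quasiIso A (ComplexShape.up ℤ))).app ((HomotopyCategory.quotient A (ComplexShape.up ℤ)).obj K)) := by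
  haveI : HasExactColimitsOfShape ℕ A := hasExactColimitsOfShape_nat
  haveI : HasExactColimitsOfShape ℕ AddCommGrpCat.{v} := hasExactColimitsOfShape_nat
  exact isIso_unit_app_of_isIso_theta F K (isIso_theta_of_preservesCoproducts F K hK)

end Groth.Agent.H6.AcySum
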