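import Mathlib

set_option autoImplicit false
open LieAlgebra LieModule Module

universe u v w

namespace Groth.Agent.H6.AdjVar

noncomputable section

variable {ι : Type u} {K : Type v} {L : Type w} [Fintype ι] [Field K] [CharZero K]
  [IsAlgClosed K] [LieRing L] [LieAlgebra K L] [FiniteDimensional K L] [LieAlgebra.IsSimple K L]
  {H : LieSubalgebra K L} [H.IsCartanSubalgebra] (b : LieAlgebra.Basis ι H)

/-- The simple root `α_i` as a function on `H`. -/
abbrev sr (i : ι) : H → K := ⇑(b.baseSupp i)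

theorem mem_rootSpace_of_forall {χ : H → K} {x : L} (hx : ∀ h : H, ⁅h, x⁆ = χ h • x) :
    x ∈ rootSpace H χ := by
  refine (mem_genWeightSpace _ _ _).mpr fun h => ⟨1, ?_⟩
  simp [hx h]

theorem e_mem (i : ι) : b.e i ∈ rootSpace H (sr b i) :=
  (mem_genWeightSpace _ _ _).mpr fun ⟨z, hz⟩ ↦ ⟨1, by simp⟩

theorem f_mem (i : ι) : b.f i ∈ rootSpace H (-(sr b i)) :=
  (mem_genWeightSpace _ _ _).mpr fun ⟨z, hz⟩ ↦ ⟨1, by simp [← eq_neg_iff_add_eq_zero]⟩

theorem lie_e_mem {χ : H → K} {x : L} (hx : x ∈ rootSpace H χ) (i : ι) :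
    ⁅b.e i, x⁆ ∈ rootSpace H (sr b i + χ) :=
  lie_mem_genWeightSpace_of_mem_genWeightSpace (e_mem b i) hx

theorem lie_f_mem {χ : H → K} {x : L} (hx : x ∈ rootSpace H χ) (i : ι) :
    ⁅b.f i, x⁆ ∈ rootSpace H (-(sr b i) + χ) :=
  lie_mem_genWeightSpace_of_mem_genWeightSpace (f_mem b i) hx

theorem lie_h_eq {χ : H → K} {x : L} (hx : x ∈ rootSpace H χ) (h : H) :
    ⁅(h : L), x⁆ = χ h • x :=
  IsKilling.lie_eq_smul_of_mem_rootSpace hx h

/-- An element of `H` on which every simple root takes the value `1`. -/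
theorem exists_h0 : ∃ h0 : H, ∀ i, b.baseSupp i h0 = 1 := by
  classical
  let A' : Matrix ι ι K := (Int.castRingHom K).mapMatrix b.A
  have hdet : A'.det ≠ 0 := by
    simp only [A']
    rw [← RingHom.map_det]
    simpa using b.nondegen.det_ne_zero
  let x : ι → K := A'⁻¹.mulVec (fun _ => 1)
  have hx : A'.mulVec x = fun _ => 1 := by
    simp [x, Matrix.mulVec_mulVec, Matrix.mul_nonsing_inv _ (Ne.isUnit hdet)]
  refine ⟨∑ j, x j • b.h' j, fun i => ?_⟩
  rw [map_sum]
  simp only [map_smul, LieAlgebra.Basis.baseSupp_apply_h', smul_eq_mul]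
  have := congrFun hx i
  simp only [Matrix.mulVec, dotProduct, A', RingHom.mapMatrix_apply, Matrix.map_apply,
    Int.coe_castRingHom] at this
  rw [← this]
  exact Finset.sum_congr rfl (fun j _ => mul_comm _ _)

/-- Iterated brackets with the `f i`. -/
def word (v : L) : List ι → L
  | [] => v
  | i :: l => ⁅b.f i, word v l⁆

/-- The weight of `word v l` when `v` has weight `μ`. -/
def wt (μ : H → K) : List ι → (H → K)
  | [] => μ
  | i :: l => -(sr b i) + wt μ l

theorem word_mem {μ : H → K} {v : L} (hv : v ∈ rootSpace H μ) (l : List ι) :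
    word b v l ∈ rootSpace H (wt b μ l) := by
  induction l with
  | nil => exact hv
  | cons i l ih => exact lie_f_mem b ih i

theorem wt_apply (μ : H → K) (h0 : H) (hh0 : ∀ i, b.baseSupp i h0 = 1) (l : List ι) :
    wt b μ l h0 = μ h0 - l.length := by
  induction l with
  | nil => simp [wt]
  | cons i l ih =>
    simp only [wt, Pi.add_apply, Pi.neg_apply, ih, hh0 i, List.length_cons, Nat.cast_add,
      Nat.cast_one]
    ring

/-- The span of all words. -/
def M (v : L) : Submodule K L := Submodule.span K (Set.range (word b v))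

theorem self_mem_M (v : L) : v ∈ M b v := Submodule.subset_span ⟨[], rfl⟩

theorem M_lie_f (v : L) (i : ι) {m : L} (hm : m ∈ M b v) : ⁅b.f i, m⁆ ∈ M b v := by
  induction hm using Submodule.span_induction with
  | mem x hx =>
    obtain ⟨l, rfl⟩ := hx
    exact Submodule.subset_span ⟨i :: l, rfl⟩
  | zero => simp
  | add x y _ _ hx hy => rw [lie_add]; exact add_mem hx hy
  | smul t x _ hx => rw [lie_smul]; exact Submodule.smul_mem _ t hx

theorem M_lie_h {μ : H → K} {v : L} (hv : v ∈ rootSpace H μ) (h : H) {m : L}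
    (hm : m ∈ M b v) : ⁅(h : L), m⁆ ∈ M b v := by
  induction hm using Submodule.span_induction with
  | mem x hx =>
    obtain ⟨l, rfl⟩ := hx
    rw [lie_h_eq (word_mem b hv l) h]
    exact Submodule.smul_mem _ _ (Submodule.subset_span ⟨l, rfl⟩)
  | zero => simp
  | add x y _ _ hx hy => rw [lie_add]; exact add_mem hx hy
  | smul t x _ hx => rw [lie_smul]; exact Submodule.smul_mem _ t hx

theorem lie_e_word_mem {μ : H → K} {v : L} (hv : v ∈ rootSpace H μ)
    (hve : ∀ i, ⁅b.e i, v⁆ = 0) (j : ι) (l : List ι) : ⁅b.e j, word b v l⁆ ∈ M b v := by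
  induction l with
  | nil => simp [word, hve j]
  | cons i l ih =>
    show ⁅b.e j, ⁅b.f i, word b v l⁆⁆ ∈ M b v
    rw [leibniz_lie]
    refine add_mem ?_ (M_lie_f b v i ih)
    by_cases hij : j = i
    · subst hij
      rw [(b.sl2 j).lie_e_f]
      have : b.h j = ((b.h' j : H) : L) := rfl
      rw [this]
      exact M_lie_h b hv _ (Submodule.subset_span ⟨l, rfl⟩)
    · rw [b.lie_e_f_ne j i hij, zero_lie]
      exact zero_mem _

theorem M_lie_e {μ : H → K} {v : L} (hv : v ∈ rootSpace H μ)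
    (hve : ∀ i, ⁅b.e i, v⁆ = 0) (j : ι) {m : L} (hm : m ∈ M b v) : ⁅b.e j, m⁆ ∈ M b v := by
  induction hm using Submodule.span_induction with
  | mem x hx =>
    obtain ⟨l, rfl⟩ := hx
    exact lie_e_word_mem b hv hve j l
  | zero => simp
  | add x y _ _ hx hy => rw [lie_add]; exact add_mem hx hy
  | smul t x _ hx => rw [lie_smul]; exact Submodule.smul_mem _ t hx

/-- The Lie subalgebra of elements stabilising a subspace. -/
def stab (N : Submodule K L) : LieSubalgebra K L where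
  carrier := {x | ∀ m ∈ N, ⁅x, m⁆ ∈ N}
  add_mem' := fun {x y} hx hy m hm => by rw [add_lie]; exact add_mem (hx m hm) (hy m hm)
  zero_mem' := fun m _ => by rw [zero_lie]; exact zero_mem _
  smul_mem' := fun t x hx m hm => by rw [smul_lie]; exact Submodule.smul_mem _ t (hx m hm)
  lie_mem' := fun {x y} hx hy m hm => by
    rw [lie_lie]
    exact sub_mem (hx _ (hy m hm)) (hy _ (hx m hm))

theorem stab_eq_top (N : Submodule K L) (he : ∀ i, ∀ m ∈ N, ⁅b.e i, m⁆ ∈ N)
    (hf : ∀ i, ∀ m ∈ N, ⁅b.f i, m⁆ ∈ N) : stab N = ⊤ := by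
  rw [eq_top_iff, ← b.span_ef, LieSubalgebra.lieSpan_le]
  rintro x (⟨i, rfl⟩ | ⟨i, rfl⟩)
  · exact he i
  · exact hf i

/-- A nonzero subspace stable under all `e i` and `f i` is everything. -/
theorem eq_top_of_stable (N : Submodule K L) (he : ∀ i, ∀ m ∈ N, ⁅b.e i, m⁆ ∈ N)
    (hf : ∀ i, ∀ m ∈ N, ⁅b.f i, m⁆ ∈ N) {v : L} (hv : v ∈ N) (hv0 : v ≠ 0) : N = ⊤ := by
  have hst := stab_eq_top b N he hf
  let I : LieIdeal K L :=
    { N with
      lie_mem := fun {x m} hm => by
        have hx : x ∈ stab N := by rw [hst]; exact LieSubalgebra.mem_top x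
        exact hx m hm }
  rcases LieAlgebra.IsSimple.eq_bot_or_eq_top I with h | h
  · exfalso
    have : v ∈ I := hv
    rw [h] at this
    exact hv0 ((LieSubmodule.mem_bot v).mp this)
  · rw [eq_top_iff]
    intro x _
    have : x ∈ I := by rw [h]; exact LieSubmodule.mem_top x
    exact this

theorem M_eq_top {μ : H → K} {v : L} (hv : v ∈ rootSpace H μ) (hv0 : v ≠ 0)
    (hve : ∀ i, ⁅b.e i, v⁆ = 0) : M b v = ⊤ :=
  eq_top_of_stable b (M b v) (fun i _ hm => M_lie_e b hv hve i hm)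
    (fun i _ hm => M_lie_f b v i hm) (self_mem_M b v) hv0

/-- Independence of root spaces. -/
theorem exists_eq_of_mem_iSup {α : Type*} (g : α → (H → K)) {χ : H → K} {x : L}
    (hx : x ∈ rootSpace H χ) (hx0 : x ≠ 0)
    (hmem : x ∈ ⨆ a, ((rootSpace H (g a)).toSubmodule)) : ∃ a, g a = χ := by
  by_contra hne
  push Not at hne
  have hind := (LieSubmodule.iSupIndep_toSubmodule.mpr (iSupIndep_genWeightSpace K H L))
  have hdisj := hind χ
  have hle : (⨆ a, ((rootSpace H (g a)).toSubmodule)) ≤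
      ⨆ (j : H → K) (_ : j ≠ χ), (genWeightSpace L j).toSubmodule :=
    iSup_le fun a => le_iSup₂_of_le (g a) (hne a) le_rfl
  exact hx0 (Submodule.disjoint_def.mp hdisj x hx (hle hmem))

/-- All weights lie below a highest weight. -/
theorem exists_list_of_hw {μ : H → K} {v : L} (hv : v ∈ rootSpace H μ) (hv0 : v ≠ 0)
    (hve : ∀ i, ⁅b.e i, v⁆ = 0) {χ : H → K} {x : L} (hx : x ∈ rootSpace H χ) (hx0 : x ≠ 0) :
    ∃ l : List ι, wt b μ l = χ := by
  apply exists_eq_of_mem_iSup (wt b μ) hx hx0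
  have hle : M b v ≤ ⨆ l, ((rootSpace H (wt b μ l)).toSubmodule) := by
    apply Submodule.span_le.mpr
    rintro _ ⟨l, rfl⟩
    exact Submodule.mem_iSup_of_mem l (word_mem b hv l)
  apply hle
  rw [M_eq_top b hv hv0 hve]
  trivial

/-- Uniqueness of the highest weight. -/
theorem hw_unique {μ μ' : H → K} {v v' : L} (hv : v ∈ rootSpace H μ) (hv0 : v ≠ 0)
    (hve : ∀ i, ⁅b.e i, v⁆ = 0) (hv' : v' ∈ rootSpace H μ') (hv'0 : v' ≠ 0)
    (hve' : ∀ i, ⁅b.e i, v'⁆ = 0) : μ = μ' := by
  obtain ⟨h0, hh0⟩ := exists_h0 b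
  obtain ⟨l, hl⟩ := exists_list_of_hw b hv hv0 hve hv' hv'0
  obtain ⟨l', hl'⟩ := exists_list_of_hw b hv' hv'0 hve' hv hv0
  have h1 := wt_apply b μ h0 hh0 l
  have h2 := wt_apply b μ' h0 hh0 l'
  rw [hl] at h1
  rw [hl'] at h2
  have h3 : ((l.length + l'.length : ℕ) : K) = 0 := by
    push_cast
    linear_combination h1 + h2
  have h4 : l.length + l'.length = 0 := by exact_mod_cast h3
  have h5 : l = [] := List.length_eq_zero_iff.mp (by omega)
  rw [h5] at hl
  exact hl

end

end Groth.Agent.H6.AdjVar
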