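import Groth.Agent.Lib.Helper6.AdjA

set_option autoImplicit false
open LieAlgebra LieModule Module

universe u v w

namespace Groth.Agent.H6.AdjVar

noncomputable section

variable {ι : Type u} {K : Type v} {L : Type w} [Fintype ι] [Field K] [CharZero K]
  [IsAlgClosed K] [LieRing L] [LieAlgebra K L] [FiniteDimensional K L] [LieAlgebra.IsSimple K L]
  {H : LieSubalgebra K L} [H.IsCartanSubalgebra] (b : LieAlgebra.Basis ι H)

theorem A_le_zero (i j : ι) (hij : i ≠ j) : b.A i j ≤ 0 := by
  have h := b.base.cartanMatrix_le_zero_of_ne (b.baseSupportEquiv i) (b.baseSupportEquiv j)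
    (by simpa using hij)
  rw [b.cartanMatrix_base_eq] at h
  simpa using h

theorem A_eq_zero_symm (i j : ι) : b.A i j = 0 ↔ b.A j i = 0 := by
  have h := b.base.cartanMatrix_apply_eq_zero_iff_symm (i := b.baseSupportEquiv i)
    (j := b.baseSupportEquiv j)
  rw [b.cartanMatrix_base_eq] at h
  simpa using h

theorem sr_apply_h' (i j : ι) : sr b i (b.h' j) = (b.A i j : K) :=
  b.baseSupp_apply_h' i j

/-- Root strings through a weight `β` for which `β + α_i` is not a weight. -/
theorem string (β : H → K) (hβ : rootSpace H β ≠ ⊥) (i : ι)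
    (htop : rootSpace H (β + sr b i) = ⊥) :
    ∃ q : ℕ, β (b.h' i) = q ∧ ∀ k : ℕ, rootSpace H (β - k • sr b i) ≠ ⊥ ↔ k ≤ q := by
  let α : Weight K H L := ((b.baseSupportEquiv i : H.root) : Weight K H L)
  have hα : α.IsNonZero := LieSubalgebra.isNonZero_coe_root _
  have hαc : (α : H → K) = sr b i := rfl
  let βW : Weight K H L := ⟨β, hβ⟩
  have hβc : (βW : H → K) = β := rfl
  have key := IsKilling.rootSpace_zsmul_add_ne_bot_iff α βW hα
  have htop0 : chainTopCoeff (α : H → K) βW = 0 := by
    by_contra hne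
    have h1 : (1 : ℤ) ≤ chainTopCoeff (α : H → K) βW := by
      have : 1 ≤ chainTopCoeff (α : H → K) βW := Nat.one_le_iff_ne_zero.mpr hne
      exact_mod_cast this
    have h2 := (key 1).mpr ⟨h1, by
      have : (0 : ℤ) ≤ chainBotCoeff (α : H → K) βW := Int.natCast_nonneg _
      omega⟩
    apply h2
    rw [one_smul, hαc, hβc, add_comm]
    exact htop
  have hq := IsKilling.apply_coroot_eq_cast α βW
  have hco : IsKilling.coroot α = b.h' i := b.coroot_eq_h' i
  rw [hco, htop0] at hq
  refine ⟨chainBotCoeff (α : H → K) βW, ?_, fun k => ?_⟩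
  · rw [← hβc, hq]; simp
  · have h3 := key (-(k : ℤ))
    rw [htop0] at h3
    have h4 : (-(k : ℤ)) • (α : H → K) + (βW : H → K) = β - k • sr b i := by
      rw [hαc, hβc]
      funext x
      simp
      ring
    rw [h4] at h3
    rw [h3]
    constructor
    · rintro ⟨_, h5⟩
      have : (k : ℤ) ≤ chainBotCoeff (α : H → K) βW := by omega
      exact_mod_cast this
    · intro h5
      refine ⟨by simp, ?_⟩
      have : (k : ℤ) ≤ chainBotCoeff (α : H → K) βW := by exact_mod_cast h5
      omega

end

end Groth.Agent.H6.AdjVar
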