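import Groth.Agent.Lib.Helper6.AdjB

set_option autoImplicit false
open LieAlgebra LieModule Module

universe u v w

namespace Groth.Agent.H6.AdjVar

noncomputable section

variable {ι : Type u} {K : Type v} {L : Type w} [Fintype ι] [Field K] [CharZero K]
  [IsAlgClosed K] [LieRing L] [LieAlgebra K L] [FiniteDimensional K L] [LieAlgebra.IsSimple K L]
  {H : LieSubalgebra K L} [H.IsCartanSubalgebra] (b : LieAlgebra.Basis ι H)

/-- `ρ` is a highest weight. -/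
structure IsHW (ρ : H → K) : Prop where
  ne_bot : rootSpace H ρ ≠ ⊥
  top : ∀ i, rootSpace H (ρ + sr b i) = ⊥

/-- Stability under the Borel subalgebra. -/
structure Stable (W : Submodule K L) : Prop where
  h : ∀ (h : H), ∀ w ∈ W, ⁅(h : L), w⁆ ∈ W
  e : ∀ i, ∀ w ∈ W, ⁅b.e i, w⁆ ∈ W

variable {b}

theorem exists_ne_zero_of_ne_bot {χ : H → K} (h : rootSpace H χ ≠ ⊥) :
    ∃ v : L, v ∈ rootSpace H χ ∧ v ≠ 0 := by
  rw [Ne, LieSubmodule.eq_bot_iff] at h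
  push Not at h
  exact h

theorem ne_bot_of_mem {χ : H → K} {w : L} (hw : w ∈ rootSpace H χ) (hw0 : w ≠ 0) :
    rootSpace H χ ≠ ⊥ := by
  intro h
  rw [h] at hw
  exact hw0 ((LieSubmodule.mem_bot _).mp hw)

theorem IsHW.exists_vec {ρ : H → K} (hρ : IsHW b ρ) :
    ∃ v0 : L, v0 ∈ rootSpace H ρ ∧ v0 ≠ 0 ∧ ∀ i, ⁅b.e i, v0⁆ = 0 := by
  obtain ⟨v0, hv0, hne⟩ := exists_ne_zero_of_ne_bot hρ.ne_bot
  refine ⟨v0, hv0, hne, fun i => ?_⟩
  have h1 := lie_e_mem b hv0 i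
  rw [add_comm, hρ.top i] at h1
  exact (LieSubmodule.mem_bot _).mp h1

theorem exists_lie_e_ne_zero {ρ : H → K} (hρ : IsHW b ρ) {χ : H → K} {w : L}
    (hw : w ∈ rootSpace H χ) (hw0 : w ≠ 0) (hχ : χ ≠ ρ) : ∃ i, ⁅b.e i, w⁆ ≠ 0 := by
  by_contra hcon
  push Not at hcon
  obtain ⟨v0, hv0, hne, hve⟩ := hρ.exists_vec
  exact hχ (hw_unique b hw hw0 hcon hv0 hne hve)

theorem exists_list_of_weight {ρ : H → K} (hρ : IsHW b ρ) {χ : H → K} {x : L}
    (hx : x ∈ rootSpace H χ) (hx0 : x ≠ 0) : ∃ l : List ι, wt b ρ l = χ := by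
  obtain ⟨v0, hv0, hne, hve⟩ := hρ.exists_vec
  exact exists_list_of_hw b hv0 hne hve hx hx0

theorem exists_smul_eq {χ : H → K} (hχ : χ ≠ 0) {w x : L} (hw : w ∈ rootSpace H χ)
    (hw0 : w ≠ 0) (hx : x ∈ rootSpace H χ) : ∃ c : K, x = c • w := by
  have hne : rootSpace H χ ≠ ⊥ := ne_bot_of_mem hw hw0
  let χW : Weight K H L := ⟨χ, hne⟩
  have hnz : χW.IsNonZero := by
    intro hz
    apply hχ
    exact hz
  have h1 := IsKilling.finrank_rootSpace_eq_one χW hnz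
  have h2 := (finrank_eq_one_iff_of_nonzero' (⟨w, hw⟩ : rootSpace H χ)
    (by simpa using hw0)).mp h1 ⟨x, hx⟩
  obtain ⟨c, hc⟩ := h2
  refine ⟨c, ?_⟩
  have := congrArg Subtype.val hc
  simpa using this.symm

theorem rootSpace_le_of_mem {χ : H → K} (hχ : χ ≠ 0) (W : Submodule K L) {w : L}
    (hwW : w ∈ W) (hw : w ∈ rootSpace H χ) (hw0 : w ≠ 0) :
    (rootSpace H χ).toSubmodule ≤ W := by
  intro x hx
  obtain ⟨c, rfl⟩ := exists_smul_eq hχ hw hw0 hx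
  exact W.smul_mem c hwW

theorem hw_le_aux {ρ : H → K} (hρ : IsHW b ρ) (hρ0 : ρ ≠ 0) (W : Submodule K L)
    (hW : Stable b W) (h0 : H) (hh0 : ∀ i, b.baseSupp i h0 = 1) :
    ∀ (d : ℕ) (l : List ι) (χ : H → K) (w : L), l.length = d → wt b ρ l = χ → w ∈ W →
      w ∈ rootSpace H χ → w ≠ 0 → (rootSpace H ρ).toSubmodule ≤ W := by
  intro d
  induction d using Nat.strong_induction_on with
  | _ d ih =>
    intro l χ w hl hχ hwW hw hw0
    by_cases hχρ : χ = ρ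
    · rw [hχρ] at hw
      exact rootSpace_le_of_mem hρ0 W hwW hw hw0
    · obtain ⟨i, hi⟩ := exists_lie_e_ne_zero hρ hw hw0 hχρ
      have hw1 := lie_e_mem b hw i
      obtain ⟨l1, hl1⟩ := exists_list_of_weight hρ hw1 hi
      have e1 := wt_apply b ρ h0 hh0 l1
      have e2 := wt_apply b ρ h0 hh0 l
      rw [hl1] at e1
      rw [hχ] at e2
      have e3 : ((l1.length + 1 : ℕ) : K) = (l.length : ℕ) := by
        simp only [Pi.add_apply, hh0 i] at e1
        push_cast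
        linear_combination e1 - e2
      have e4 : l1.length + 1 = l.length := by exact_mod_cast e3
      exact ih l1.length (by omega) l1 _ _ rfl hl1 (hW.e i w hwW) hw1 hi

/-- An `H`-stable subspace not contained in the sum of the root spaces with weights in `S` contains
a nonzero weight vector with weight outside `S`. -/
theorem exists_weight_vector_not_mem (W : Submodule K L)
    (hWH : ∀ h : H, ∀ w ∈ W, ⁅(h : L), w⁆ ∈ W) (S : Set (H → K))
    (hnot : ¬ W ≤ ⨆ χ ∈ S, (rootSpace H χ).toSubmodule) :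
    ∃ χ, χ ∉ S ∧ ∃ w ∈ W, w ∈ rootSpace H χ ∧ w ≠ 0 := by
  let W' : LieSubmodule K H L := { W with lie_mem := fun {h w} hw => hWH h w hw }
  have htop : ⨆ χ : H → K, genWeightSpace W' χ = ⊤ := iSup_genWeightSpace_eq_top K (↥H) (↥W')
  by_contra hcon
  push Not at hcon
  apply hnot
  intro w hw
  have hmem : (⟨w, hw⟩ : W') ∈ (⨆ χ : H → K, genWeightSpace W' χ).toSubmodule := by
    rw [htop]; trivial
  rw [LieSubmodule.iSup_toSubmodule] at hmem
  refine Submodule.iSup_induction (fun χ => (genWeightSpace W' χ).toSubmodule)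
    (motive := fun y : W' => (y : L) ∈ ⨆ χ ∈ S, (rootSpace H χ).toSubmodule) hmem ?_ ?_ ?_
  · intro χ y hy
    have hy' : (y : L) ∈ rootSpace H χ := by
      have := LieModule.map_genWeightSpace_le (f := W'.incl) (χ := χ)
      exact this ((LieSubmodule.mem_map _).mpr ⟨y, hy, rfl⟩)
    by_cases hχ : χ ∈ S
    · exact Submodule.mem_iSup_of_mem χ (Submodule.mem_iSup_of_mem hχ hy')
    · have := hcon χ hχ (y : L) y.2 hy'
      rw [this]
      exact zero_mem _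
  · simp
  · intro x y hx hy
    simpa using add_mem hx hy

theorem hw_le {ρ : H → K} (hρ : IsHW b ρ) (hρ0 : ρ ≠ 0) (W : Submodule K L)
    (hW : Stable b W) (hW0 : W ≠ ⊥) : (rootSpace H ρ).toSubmodule ≤ W := by
  obtain ⟨h0, hh0⟩ := exists_h0 b
  obtain ⟨χ, -, w, hwW, hw, hw0⟩ := exists_weight_vector_not_mem W hW.h ∅ (by simpa using hW0)
  obtain ⟨l, hl⟩ := exists_list_of_weight hρ hw hw0
  exact hw_le_aux hρ hρ0 W hW h0 hh0 _ l χ w rfl hl hwW hw hw0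

theorem card_le_finrank (W : Submodule K L) {n : ℕ} (χ : Fin n → (H → K))
    (hχ : Function.Injective χ) (w : Fin n → L) (hwW : ∀ i, w i ∈ W)
    (hw : ∀ i, w i ∈ rootSpace H (χ i)) (hw0 : ∀ i, w i ≠ 0) : n ≤ Module.finrank K W := by
  have hind := (LieSubmodule.iSupIndep_toSubmodule.mpr (iSupIndep_genWeightSpace K H L))
  have hind' : iSupIndep (fun i : Fin n => (rootSpace H (χ i)).toSubmodule) := hind.comp hχ
  have hli : LinearIndependent K w := hind'.linearIndependent _ hw hw0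
  have hli' : LinearIndependent K (fun i => (⟨w i, hwW i⟩ : W)) := by
    apply LinearIndependent.of_comp W.subtype
    exact hli
  have := hli'.fintype_card_le_finrank
  simpa using this

theorem two_le_finrank (W : Submodule K L) {χ1 χ2 : H → K} (h12 : χ1 ≠ χ2) {w1 w2 : L}
    (m1 : w1 ∈ W) (m2 : w2 ∈ W) (r1 : w1 ∈ rootSpace H χ1) (r2 : w2 ∈ rootSpace H χ2)
    (n1 : w1 ≠ 0) (n2 : w2 ≠ 0) : 2 ≤ Module.finrank K W := by
  refine card_le_finrank W ![χ1, χ2] ?_ ![w1, w2] ?_ ?_ ?_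
  · intro x y hxy
    fin_cases x <;> fin_cases y <;> simp_all
  · intro i; fin_cases i <;> simpa
  · intro i; fin_cases i <;> simpa
  · intro i; fin_cases i <;> simpa

theorem three_le_finrank (W : Submodule K L) {χ1 χ2 χ3 : H → K} (h12 : χ1 ≠ χ2) (h13 : χ1 ≠ χ3)
    (h23 : χ2 ≠ χ3) {w1 w2 w3 : L}
    (m1 : w1 ∈ W) (m2 : w2 ∈ W) (m3 : w3 ∈ W) (r1 : w1 ∈ rootSpace H χ1)
    (r2 : w2 ∈ rootSpace H χ2) (r3 : w3 ∈ rootSpace H χ3)
    (n1 : w1 ≠ 0) (n2 : w2 ≠ 0) (n3 : w3 ≠ 0) : 3 ≤ Module.finrank K W := by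
  refine card_le_finrank W ![χ1, χ2, χ3] ?_ ![w1, w2, w3] ?_ ?_ ?_
  · intro x y hxy
    fin_cases x <;> fin_cases y <;> simp_all
  · intro i; fin_cases i <;> simpa
  · intro i; fin_cases i <;> simpa
  · intro i; fin_cases i <;> simpa

theorem four_le_finrank (W : Submodule K L) {χ1 χ2 χ3 χ4 : H → K} (h12 : χ1 ≠ χ2)
    (h13 : χ1 ≠ χ3) (h14 : χ1 ≠ χ4) (h23 : χ2 ≠ χ3) (h24 : χ2 ≠ χ4) (h34 : χ3 ≠ χ4)
    {w1 w2 w3 w4 : L}
    (m1 : w1 ∈ W) (m2 : w2 ∈ W) (m3 : w3 ∈ W) (m4 : w4 ∈ W) (r1 : w1 ∈ rootSpace H χ1)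
    (r2 : w2 ∈ rootSpace H χ2) (r3 : w3 ∈ rootSpace H χ3) (r4 : w4 ∈ rootSpace H χ4)
    (n1 : w1 ≠ 0) (n2 : w2 ≠ 0) (n3 : w3 ≠ 0) (n4 : w4 ≠ 0) : 4 ≤ Module.finrank K W := by
  refine card_le_finrank W ![χ1, χ2, χ3, χ4] ?_ ![w1, w2, w3, w4] ?_ ?_ ?_
  · intro x y hxy
    fin_cases x <;> fin_cases y <;> simp_all
  · intro i; fin_cases i <;> simpa
  · intro i; fin_cases i <;> simpa
  · intro i; fin_cases i <;> simpa

end

end Groth.Agent.H6.AdjVar
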