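import Groth.Agent.Lib.Helper6.AdjC

set_option autoImplicit false
open LieAlgebra LieModule Module

universe u v w

namespace Groth.Agent.H6.AdjVar

noncomputable section

variable {ι : Type u} {K : Type v} {L : Type w} [Fintype ι] [Field K] [CharZero K]
  [IsAlgClosed K] [LieRing L] [LieAlgebra K L] [FiniteDimensional K L] [LieAlgebra.IsSimple K L]
  {H : LieSubalgebra K L} [H.IsCartanSubalgebra] (b : LieAlgebra.Basis ι H)

/-- The standing hypotheses on the highest root `ρ`. -/
structure Cfg (ρ : H → K) (j : ι) : Prop where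
  hw : IsHW b ρ
  hN : ∀ i, ρ (b.h' i) ≠ 0 ↔ i = j
  hj : ρ (b.h' j) = 1

theorem A_diag (i : ι) : b.A i i = 2 := by
  have _i : IsAddTorsionFree L := .of_isTorsionFree K L
  exact b.A_diag_eq_two i

theorem sr_ne_zero (i : ι) : sr b i ≠ 0 := by
  intro h
  have := congrFun h (b.h' i)
  rw [sr_apply_h', A_diag] at this
  simp at this

theorem sr_add_ne_zero (i i' : ι) : sr b i + sr b i' ≠ 0 := by
  obtain ⟨h0, hh0⟩ := exists_h0 b
  intro h
  have := congrFun h h0
  simp only [Pi.add_apply, hh0, Pi.zero_apply] at this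
  norm_num at this

theorem finrank_rootSpace {χ : H → K} (hχ : χ ≠ 0) (hne : rootSpace H χ ≠ ⊥) :
    Module.finrank K (rootSpace H χ).toSubmodule = 1 := by
  let χW : Weight K H L := ⟨χ, hne⟩
  have hnz : χW.IsNonZero := by
    intro hz
    apply hχ
    exact hz
  exact IsKilling.finrank_rootSpace_eq_one χW hnz

variable {b}
variable {ρ : H → K} {j : ι}

theorem Cfg.rho_ne_zero (c : Cfg b ρ j) : ρ ≠ 0 := by
  intro h
  have := c.hj
  rw [h] at this
  simp at this

theorem Cfg.rho_apply_of_ne (c : Cfg b ρ j) {i : ι} (hi : i ≠ j) : ρ (b.h' i) = 0 := by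
  by_contra h
  exact hi ((c.hN i).mp h)

theorem Cfg.sub_eq_bot (c : Cfg b ρ j) {i : ι} (hi : i ≠ j) : rootSpace H (ρ - sr b i) = ⊥ := by
  obtain ⟨q, hq, hk⟩ := string b ρ c.hw.ne_bot i (c.hw.top i)
  rw [c.rho_apply_of_ne hi] at hq
  have hq0 : q = 0 := by exact_mod_cast hq.symm
  by_contra hne
  have := (hk 1).mp (by simpa using hne)
  omega

theorem Cfg.eq_of_sub_ne_bot (c : Cfg b ρ j) {i : ι} (h : rootSpace H (ρ - sr b i) ≠ ⊥) :
    i = j := by
  by_contra hi
  exact h (c.sub_eq_bot hi)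

theorem Cfg.sub_j_ne_bot (c : Cfg b ρ j) : rootSpace H (ρ - sr b j) ≠ ⊥ := by
  obtain ⟨q, hq, hk⟩ := string b ρ c.hw.ne_bot j (c.hw.top j)
  rw [c.hj] at hq
  have hq1 : q = 1 := by exact_mod_cast hq.symm
  have := (hk 1).mpr (by omega)
  simpa using this

theorem Cfg.sub_two_j_eq_bot (c : Cfg b ρ j) : rootSpace H (ρ - sr b j - sr b j) = ⊥ := by
  obtain ⟨q, hq, hk⟩ := string b ρ c.hw.ne_bot j (c.hw.top j)
  rw [c.hj] at hq
  have hq1 : q = 1 := by exact_mod_cast hq.symm
  by_contra hne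
  have h2 : ρ - sr b j - sr b j = ρ - 2 • sr b j := by
    rw [two_nsmul]; abel
  rw [h2] at hne
  have := (hk 2).mp hne
  omega

theorem Cfg.sub_j_ne_zero (c : Cfg b ρ j) : ρ - sr b j ≠ 0 := by
  intro h
  have := congrFun h (b.h' j)
  simp only [Pi.sub_apply, c.hj, sr_apply_h', A_diag, Pi.zero_apply] at this
  norm_num at this

theorem Cfg.add_sub_eq_bot (c : Cfg b ρ j) {i : ι} (hi : i ≠ j) :
    rootSpace H (sr b i + (ρ - sr b j)) = ⊥ := by
  by_contra hne
  have htop : rootSpace H (sr b i + (ρ - sr b j) + sr b j) = ⊥ := by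
    have : sr b i + (ρ - sr b j) + sr b j = ρ + sr b i := by abel
    rw [this]
    exact c.hw.top i
  obtain ⟨q, hq, -⟩ := string b _ hne j htop
  simp only [Pi.add_apply, Pi.sub_apply, c.hj, sr_apply_h', A_diag] at hq
  have hle := A_le_zero b i j hi
  have h1 : ((b.A i j - 1 : ℤ) : K) = ((q : ℤ) : K) := by
    push_cast
    linear_combination hq
  have h2 : b.A i j - 1 = (q : ℤ) := by exact_mod_cast h1
  omega

theorem Cfg.of_sub_sub_ne_bot (c : Cfg b ρ j) {i : ι}
    (h : rootSpace H (ρ - sr b j - sr b i) ≠ ⊥) : i ≠ j ∧ b.A i j ≠ 0 := by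
  have hij : i ≠ j := by
    rintro rfl
    exact h c.sub_two_j_eq_bot
  refine ⟨hij, ?_⟩
  have htop : rootSpace H (ρ - sr b j + sr b i) = ⊥ := by
    have : ρ - sr b j + sr b i = sr b i + (ρ - sr b j) := by abel
    rw [this]
    exact c.add_sub_eq_bot hij
  obtain ⟨q, hq, hk⟩ := string b _ c.sub_j_ne_bot i htop
  have h1 := (hk 1).mp (by simpa using h)
  simp only [Pi.sub_apply, c.rho_apply_of_ne hij, sr_apply_h'] at hq
  intro hA
  have hA' : b.A j i = 0 := (A_eq_zero_symm b i j).mp hA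
  rw [hA'] at hq
  have : q = 0 := by
    have : ((q : ℕ) : K) = 0 := by rw [← hq]; simp
    exact_mod_cast this
  omega

theorem Cfg.sub_sub_ne_zero (c : Cfg b ρ j) {i : ι} (hi : i ≠ j) :
    ρ - sr b j - sr b i ≠ 0 := by
  intro h
  have h1 : ρ - sr b i = sr b j := by
    have : ρ - sr b i = (ρ - sr b j - sr b i) + sr b j := by abel
    rw [this, h, zero_add]
  have h2 := c.sub_eq_bot hi
  rw [h1] at h2
  have := e_mem b j
  rw [h2] at this
  exact (b.sl2 j).e_ne_zero ((LieSubmodule.mem_bot _).mp this)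

/-- The Borel-stable plane. -/
theorem Cfg.twoDim_mp (c : Cfg b ρ j) (W : Submodule K L) (hW : Stable b W)
    (h2 : Module.finrank K W = 2) :
    W = (rootSpace H ρ).toSubmodule ⊔ (rootSpace H (ρ - sr b j)).toSubmodule := by
  have hρ0 := c.rho_ne_zero
  have hW0 : W ≠ ⊥ := by
    rintro rfl
    simp at h2
  have hle := hw_le c.hw hρ0 W hW hW0
  obtain ⟨v0, hv0, hv0ne, hve⟩ := c.hw.exists_vec
  have hnot : ¬ W ≤ ⨆ χ ∈ ({ρ} : Set (H → K)), (rootSpace H χ).toSubmodule := by
    intro hcon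
    rw [iSup_singleton] at hcon
    have := Submodule.finrank_mono hcon
    rw [finrank_rootSpace hρ0 c.hw.ne_bot, h2] at this
    omega
  obtain ⟨χ, hχS, w, hwW, hw, hw0⟩ := exists_weight_vector_not_mem W hW.h {ρ} hnot
  have hχ : χ ≠ ρ := by simpa using hχS
  obtain ⟨i, hi⟩ := exists_lie_e_ne_zero c.hw hw hw0 hχ
  have hw1 := lie_e_mem b hw i
  have hsum : sr b i + χ = ρ := by
    by_contra hne
    have := three_le_finrank W (Ne.symm hχ) (Ne.symm hne)
      (fun h => sr_ne_zero b i (by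
        have : sr b i = (sr b i + χ) - χ := by abel
        rw [this, ← h, sub_self]))
      (hle hv0) hwW (hW.e i w hwW) hv0 hw hw1 hv0ne hw0 hi
    omega
  have hχ' : χ = ρ - sr b i := by rw [← hsum]; abel
  rw [hχ'] at hw
  have hij : i = j := c.eq_of_sub_ne_bot (ne_bot_of_mem hw hw0)
  subst hij
  have hle2 := rootSpace_le_of_mem c.sub_j_ne_zero W hwW hw hw0
  symm
  apply Submodule.eq_of_le_of_finrank_le (sup_le hle hle2)
  rw [h2]
  have hne : ρ ≠ ρ - sr b i := by
    intro h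
    apply sr_ne_zero b i
    have : sr b i = ρ - (ρ - sr b i) := by abel
    rw [this, ← h, sub_self]
  exact two_le_finrank _ hne (Submodule.mem_sup_left hv0) (Submodule.mem_sup_right hw) hv0 hw
    hv0ne hw0

theorem rootSpace_lie_h {χ : H → K} {w : L} (hw : w ∈ rootSpace H χ) (h : H) :
    ⁅(h : L), w⁆ ∈ rootSpace H χ := by
  rw [lie_h_eq hw h]
  exact (rootSpace H χ).toSubmodule.smul_mem _ hw

theorem Cfg.stable (c : Cfg b ρ j) :
    Stable b ((rootSpace H ρ).toSubmodule ⊔ (rootSpace H (ρ - sr b j)).toSubmodule) := by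
  constructor
  · intro h w hw
    obtain ⟨a, ha, c', hc', rfl⟩ := Submodule.mem_sup.mp hw
    rw [lie_add]
    exact add_mem (Submodule.mem_sup_left (rootSpace_lie_h ha h))
      (Submodule.mem_sup_right (rootSpace_lie_h hc' h))
  · intro i w hw
    obtain ⟨a, ha, c', hc', rfl⟩ := Submodule.mem_sup.mp hw
    rw [lie_add]
    have h1 : ⁅b.e i, a⁆ = 0 := by
      have := lie_e_mem b ha i
      rw [add_comm, c.hw.top i] at this
      exact (LieSubmodule.mem_bot _).mp this
    rw [h1, zero_add]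
    have h2 := lie_e_mem b hc' i
    by_cases hij : i = j
    · subst hij
      have : sr b i + (ρ - sr b i) = ρ := by abel
      rw [this] at h2
      exact Submodule.mem_sup_left h2
    · rw [c.add_sub_eq_bot hij] at h2
      rw [(LieSubmodule.mem_bot _).mp h2]
      exact zero_mem _

theorem Cfg.finrank_plane (c : Cfg b ρ j) :
    Module.finrank K
      ((rootSpace H ρ).toSubmodule ⊔ (rootSpace H (ρ - sr b j)).toSubmodule :
        Submodule K L) = 2 := by
  apply le_antisymm
  · have := Submodule.finrank_add_le_finrank_add_finrank (rootSpace H ρ).toSubmodule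
      (rootSpace H (ρ - sr b j)).toSubmodule
    rw [finrank_rootSpace c.rho_ne_zero c.hw.ne_bot,
      finrank_rootSpace c.sub_j_ne_zero c.sub_j_ne_bot] at this
    exact this
  · obtain ⟨v0, hv0, hv0ne, -⟩ := c.hw.exists_vec
    obtain ⟨v1, hv1, hv1ne⟩ := exists_ne_zero_of_ne_bot c.sub_j_ne_bot
    have hne : ρ ≠ ρ - sr b j := by
      intro h
      apply sr_ne_zero b j
      have : sr b j = ρ - (ρ - sr b j) := by abel
      rw [this, ← h, sub_self]
    exact two_le_finrank _ hne (Submodule.mem_sup_left hv0) (Submodule.mem_sup_right hv1) hv0 hv1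
      hv0ne hv1ne

end

end Groth.Agent.H6.AdjVar
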