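import Groth.Agent.Lib.Helper6.AdjD

set_option autoImplicit false
open LieAlgebra LieModule Module

universe u v w

namespace Groth.Agent.H6.AdjVar

noncomputable section

variable {ι : Type u} {K : Type v} {L : Type w} [Fintype ι] [Field K] [CharZero K]
  [IsAlgClosed K] [LieRing L] [LieAlgebra K L] [FiniteDimensional K L] [LieAlgebra.IsSimple K L]
  {H : LieSubalgebra K L} [H.IsCartanSubalgebra] (b : LieAlgebra.Basis ι H)

theorem stable_iff (W : Submodule K L) :
    Stable b W ↔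
      ∀ x ∈ H.toSubmodule ⊔ (b.borelUpper : Submodule K L), ∀ w ∈ W, ⁅x, w⁆ ∈ W := by
  constructor
  · intro hW x hx w hw
    obtain ⟨h, hh, u, hu, rfl⟩ := Submodule.mem_sup.mp hx
    rw [add_lie]
    refine add_mem (hW.h ⟨h, hh⟩ w hw) ?_
    have hu' : u ∈ LieSubalgebra.lieSpan K L (Set.range b.e) := hu
    have hle : LieSubalgebra.lieSpan K L (Set.range b.e) ≤ stab W := by
      rw [LieSubalgebra.lieSpan_le]
      rintro _ ⟨i, rfl⟩
      exact hW.e i
    exact hle hu' w hw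
  · intro h
    constructor
    · intro x w hw
      exact h _ (Submodule.mem_sup_left x.2) w hw
    · intro i w hw
      refine h _ (Submodule.mem_sup_right ?_) w hw
      show b.e i ∈ LieSubalgebra.lieSpan K L (Set.range b.e)
      exact LieSubalgebra.subset_lieSpan ⟨i, rfl⟩

theorem cfg_of (ρ : Module.Dual K H) (hρ : rootSpace H ρ ≠ ⊥)
    (htop : ∀ i, rootSpace H (ρ + b.baseSupp i) = ⊥)
    (j : ι) (hN : ∀ i, ρ (b.h' i) ≠ 0 ↔ i = j) (hj : ρ (b.h' j) = 1) : Cfg b (⇑ρ) j :=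
  ⟨⟨hρ, fun i => htop i⟩, hN, hj⟩

theorem main17430 (ρ : Module.Dual K H) (hρ : rootSpace H ρ ≠ ⊥)
    (htop : ∀ i, rootSpace H (ρ + b.baseSupp i) = ⊥)
    (j : ι) (hN : ∀ i, ρ (b.h' i) ≠ 0 ↔ i = j) (hj : ρ (b.h' j) = 1)
    (W : Submodule K L) :
    (Module.finrank K W = 2 ∧
        ∀ x ∈ H.toSubmodule ⊔ (b.borelUpper : Submodule K L), ∀ w ∈ W, ⁅x, w⁆ ∈ W) ↔
      W = (rootSpace H ρ : Submodule K L) ⊔
        (rootSpace H (ρ - b.baseSupp j) : Submodule K L) := by
  have c := cfg_of b ρ hρ htop j hN hj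
  constructor
  · rintro ⟨h2, hst⟩
    exact c.twoDim_mp W ((stable_iff b W).mpr hst) h2
  · intro hW
    have e1 : W = (rootSpace H (⇑ρ)).toSubmodule ⊔ (rootSpace H (⇑ρ - sr b j)).toSubmodule := hW
    rw [e1]
    exact ⟨c.finrank_plane, (stable_iff b _).mp c.stable⟩

variable {b}
variable {ρ : H → K} {j : ι}

theorem Cfg.sub_j_le (c : Cfg b ρ j) (W : Submodule K L) (hW : Stable b W)
    (h3 : Module.finrank K W = 3) : (rootSpace H (ρ - sr b j)).toSubmodule ≤ W := by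
  have hρ0 := c.rho_ne_zero
  have hW0 : W ≠ ⊥ := by
    rintro rfl
    simp at h3
  have hle := hw_le c.hw hρ0 W hW hW0
  obtain ⟨v0, hv0, hv0ne, hve⟩ := c.hw.exists_vec
  have hnot : ¬ W ≤ ⨆ χ ∈ ({ρ} : Set (H → K)), (rootSpace H χ).toSubmodule := by
    intro hcon
    rw [iSup_singleton] at hcon
    have := Submodule.finrank_mono hcon
    rw [finrank_rootSpace hρ0 c.hw.ne_bot, h3] at this
    omega
  obtain ⟨χ, hχS, w, hwW, hw, hw0⟩ := exists_weight_vector_not_mem W hW.h {ρ} hnot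
  have hχ : χ ≠ ρ := by simpa using hχS
  obtain ⟨i, hi⟩ := exists_lie_e_ne_zero c.hw hw hw0 hχ
  have hw1 := lie_e_mem b hw i
  have hw1W := hW.e i w hwW
  by_cases hsum : sr b i + χ = ρ
  · have hχ' : χ = ρ - sr b i := by rw [← hsum]; abel
    rw [hχ'] at hw
    have hij : i = j := c.eq_of_sub_ne_bot (ne_bot_of_mem hw hw0)
    subst hij
    exact rootSpace_le_of_mem c.sub_j_ne_zero W hwW hw hw0
  · obtain ⟨i', hi'⟩ := exists_lie_e_ne_zero c.hw hw1 hi hsum
    have hw2 := lie_e_mem b hw1 i'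
    have hw2W := hW.e i' _ hw1W
    have hsum2 : sr b i' + (sr b i + χ) = ρ := by
      by_contra hne
      have h12 : χ ≠ sr b i + χ := fun h => sr_ne_zero b i (by
        have : sr b i = (sr b i + χ) - χ := by abel
        rw [this, ← h, sub_self])
      have h23 : sr b i + χ ≠ sr b i' + (sr b i + χ) := fun h => sr_ne_zero b i' (by
        have : sr b i' = (sr b i' + (sr b i + χ)) - (sr b i + χ) := by abel
        rw [this, ← h, sub_self])
      have h13 : χ ≠ sr b i' + (sr b i + χ) := fun h => sr_add_ne_zero b i' i (by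
        have : sr b i' + sr b i = (sr b i' + (sr b i + χ)) - χ := by abel
        rw [this, ← h, sub_self])
      have := four_le_finrank W (Ne.symm hχ) (Ne.symm hsum) (Ne.symm hne) h12 h13 h23
        (hle hv0) hwW hw1W hw2W hv0 hw hw1 hw2 hv0ne hw0 hi hi'
      omega
    have hχ' : sr b i + χ = ρ - sr b i' := by rw [← hsum2]; abel
    rw [hχ'] at hw1
    have hij : i' = j := c.eq_of_sub_ne_bot (ne_bot_of_mem hw1 hi)
    subst hij
    exact rootSpace_le_of_mem c.sub_j_ne_zero W hw1W hw1 hi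

theorem Cfg.threeDim (c : Cfg b ρ j) (W : Submodule K L) (hW : Stable b W)
    (h3 : Module.finrank K W = 3) :
    (rootSpace H ρ).toSubmodule ⊔ (rootSpace H (ρ - sr b j)).toSubmodule ≤ W ∧
      ∃ i : ι, i ≠ j ∧ b.A i j ≠ 0 ∧
        W = (rootSpace H ρ).toSubmodule ⊔ (rootSpace H (ρ - sr b j)).toSubmodule ⊔
          (rootSpace H (ρ - sr b j - sr b i)).toSubmodule := by
  have hρ0 := c.rho_ne_zero
  have hW0 : W ≠ ⊥ := by
    rintro rfl
    simp at h3
  have hle := hw_le c.hw hρ0 W hW hW0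
  have hle1 := c.sub_j_le W hW h3
  obtain ⟨v0, hv0, hv0ne, hve⟩ := c.hw.exists_vec
  obtain ⟨v1, hv1, hv1ne⟩ := exists_ne_zero_of_ne_bot c.sub_j_ne_bot
  refine ⟨sup_le hle hle1, ?_⟩
  have hne01 : ρ ≠ ρ - sr b j := by
    intro h
    apply sr_ne_zero b j
    have : sr b j = ρ - (ρ - sr b j) := by abel
    rw [this, ← h, sub_self]
  have hnot : ¬ W ≤ ⨆ χ ∈ ({ρ, ρ - sr b j} : Set (H → K)), (rootSpace H χ).toSubmodule := by
    intro hcon
    rw [iSup_insert, iSup_singleton] at hcon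
    have := Submodule.finrank_mono hcon
    rw [c.finrank_plane, h3] at this
    omega
  obtain ⟨χ, hχS, w, hwW, hw, hw0⟩ := exists_weight_vector_not_mem W hW.h _ hnot
  have hχ0 : χ ≠ ρ := fun h => hχS (by rw [h]; exact Set.mem_insert _ _)
  have hχ1 : χ ≠ ρ - sr b j := fun h => hχS (by rw [h]; exact Set.mem_insert_of_mem _ rfl)
  obtain ⟨i, hi⟩ := exists_lie_e_ne_zero c.hw hw hw0 hχ0
  have hw1 := lie_e_mem b hw i
  have hw1W := hW.e i w hwW
  have h12 : χ ≠ sr b i + χ := fun h => sr_ne_zero b i (by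
    have : sr b i = (sr b i + χ) - χ := by abel
    rw [this, ← h, sub_self])
  have hcase : sr b i + χ = ρ ∨ sr b i + χ = ρ - sr b j := by
    by_contra hcon
    push Not at hcon
    have := four_le_finrank W hne01 (Ne.symm hχ0) (Ne.symm hcon.1) (Ne.symm hχ1)
      (Ne.symm hcon.2) h12 (hle hv0) (hle1 hv1) hwW hw1W hv0 hv1 hw hw1 hv0ne hv1ne hw0 hi
    omega
  have hsum : sr b i + χ = ρ - sr b j := by
    rcases hcase with hsum | hsum
    · exfalso
      have hχ' : χ = ρ - sr b i := by rw [← hsum]; abel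
      rw [hχ'] at hw
      have hij : i = j := c.eq_of_sub_ne_bot (ne_bot_of_mem hw hw0)
      subst hij
      exact hχ1 hχ'
    · exact hsum
  have hχ' : χ = ρ - sr b j - sr b i := by
    have : χ = (sr b i + χ) - sr b i := by abel
    rw [this, hsum]
  rw [hχ'] at hw
  obtain ⟨hij, hA⟩ := c.of_sub_sub_ne_bot (ne_bot_of_mem hw hw0)
  refine ⟨i, hij, hA, ?_⟩
  have hle2 := rootSpace_le_of_mem (c.sub_sub_ne_zero hij) W hwW hw hw0
  symm
  apply Submodule.eq_of_le_of_finrank_le (sup_le (sup_le hle hle1) hle2)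
  rw [h3]
  rw [hχ'] at hχ0 hχ1
  exact three_le_finrank _ hne01 (Ne.symm hχ0) (Ne.symm hχ1)
    (Submodule.mem_sup_left (Submodule.mem_sup_left hv0))
    (Submodule.mem_sup_left (Submodule.mem_sup_right hv1)) (Submodule.mem_sup_right hw)
    hv0 hv1 hw hv0ne hv1ne hw0

variable (b)

theorem main17431 (ρ : Module.Dual K H) (hρ : rootSpace H ρ ≠ ⊥)
    (htop : ∀ i, rootSpace H (ρ + b.baseSupp i) = ⊥)
    (j : ι) (hN : ∀ i, ρ (b.h' i) ≠ 0 ↔ i = j) (hj : ρ (b.h' j) = 1)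
    (W : Submodule K L) (hW : Module.finrank K W = 3)
    (hst : ∀ x ∈ H.toSubmodule ⊔ (b.borelUpper : Submodule K L), ∀ w ∈ W, ⁅x, w⁆ ∈ W) :
    (rootSpace H ρ : Submodule K L) ⊔ (rootSpace H (ρ - b.baseSupp j) : Submodule K L) ≤ W ∧
      ∃ i : ι, i ≠ j ∧ b.A i j ≠ 0 ∧
        W = (rootSpace H ρ : Submodule K L) ⊔ (rootSpace H (ρ - b.baseSupp j) : Submodule K L) ⊔
          (rootSpace H (ρ - b.baseSupp j - b.baseSupp i) : Submodule K L) := by
  have c := cfg_of b ρ hρ htop j hN hj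
  exact c.threeDim W ((stable_iff b W).mpr hst) hW

end

end Groth.Agent.H6.AdjVar
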