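import Groth.Agent.Lib.Helper6.AdjE

set_option autoImplicit false
open LieAlgebra LieModule Module

universe u v w

namespace Groth.Agent.H6.AdjVar

noncomputable section

section Quad

variable {K : Type*} [Field K] [CharZero K] {V : Type*} [AddCommGroup V] [Module K V]

theorem quad_expand (q : QuadraticForm K V) (x y z : V) (a b c : K) :
    q (a • x + b • y + c • z) = a * a * q x + b * b * q y + c * c * q z +
      a * b * QuadraticMap.polar q x y + a * c * QuadraticMap.polar q x z +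
      b * c * QuadraticMap.polar q y z := by
  rw [QuadraticMap.map_add q, QuadraticMap.map_add q, QuadraticMap.polar_add_left]
  simp only [QuadraticMap.map_smul, QuadraticMap.polar_smul_left, QuadraticMap.polar_smul_right,
    smul_eq_mul]
  ring

/-- The abstract computation behind S17432. -/
theorem semiinv_zero (q : QuadraticForm K V) (u0 u1 u2 : V) (E E' : V → V) (t s : K)
    (ht : t ≠ 0) (hs : s ≠ 0)
    (hE0 : E u0 = 0) (hE1 : E u1 = t • u0) (hE2 : E u2 = 0)
    (hE01 : E (u0 + u1) = t • u0) (hE12 : E (u1 + u2) = t • u0) (hE02 : E (u0 + u2) = 0)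
    (hE'1 : E' u1 = 0) (hE'2 : E' u2 = s • u1) (hE'12 : E' (u1 + u2) = s • u1)
    (c c' : K) (hc : ∀ w, QuadraticMap.polar q (E w) w = c * q w)
    (hc' : ∀ w, QuadraticMap.polar q (E' w) w = c' * q w) :
    q u0 = 0 ∧ q u1 = 0 ∧ QuadraticMap.polar q u0 u1 = 0 ∧ QuadraticMap.polar q u0 u2 = 0 ∧
      QuadraticMap.polar q u1 u2 = 0 := by
  have e1 := hc u0
  have e2 := hc u1
  have e3 := hc u2
  have e4 := hc (u0 + u1)
  have e5 := hc (u1 + u2)
  have e6 := hc (u0 + u2)
  rw [hE0, QuadraticMap.polar_zero_left] at e1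
  rw [hE1, QuadraticMap.polar_smul_left, smul_eq_mul] at e2
  rw [hE2, QuadraticMap.polar_zero_left] at e3
  rw [hE01, QuadraticMap.polar_smul_left, QuadraticMap.polar_add_right, QuadraticMap.polar_self,
    QuadraticMap.map_add q, smul_eq_mul] at e4
  rw [hE12, QuadraticMap.polar_smul_left, QuadraticMap.polar_add_right,
    QuadraticMap.map_add q, smul_eq_mul] at e5
  rw [hE02, QuadraticMap.polar_zero_left, QuadraticMap.map_add q] at e6
  have f1 := hc' u1
  have f2 := hc' u2
  have f3 := hc' (u1 + u2)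
  rw [hE'1, QuadraticMap.polar_zero_left] at f1
  rw [hE'2, QuadraticMap.polar_smul_left, smul_eq_mul] at f2
  rw [hE'12, QuadraticMap.polar_smul_left, QuadraticMap.polar_add_right, QuadraticMap.polar_self,
    QuadraticMap.map_add q, smul_eq_mul] at f3
  set q0 := q u0
  set q1 := q u1
  set q2 := q u2
  set B01 := QuadraticMap.polar q u0 u1
  set B02 := QuadraticMap.polar q u0 u2
  set B12 := QuadraticMap.polar q u1 u2
  have two_ne : (2 : K) ≠ 0 := two_ne_zero
  -- first block: q0 = 0, B01 = 0, B02 = 0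
  have hA : q0 = 0 ∧ B01 = 0 ∧ B02 = 0 := by
    by_cases hc0 : c = 0
    · rw [hc0, zero_mul] at e2 e4 e5
      have hB01 : B01 = 0 := by
        rcases mul_eq_zero.mp e2 with h | h
        · exact absurd h ht
        · exact h
      have hq0 : q0 = 0 := by
        rw [hB01, add_zero] at e4
        rcases mul_eq_zero.mp e4 with h | h
        · exact absurd h ht
        · simpa using h
      have hB02 : B02 = 0 := by
        rw [hB01, zero_add] at e5
        rcases mul_eq_zero.mp e5 with h | h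
        · exact absurd h ht
        · exact h
      exact ⟨hq0, hB01, hB02⟩
    · have hq0 : q0 = 0 := by
        rcases mul_eq_zero.mp e1.symm with h | h
        · exact absurd h hc0
        · exact h
      have hq2 : q2 = 0 := by
        rcases mul_eq_zero.mp e3.symm with h | h
        · exact absurd h hc0
        · exact h
      have hB02 : B02 = 0 := by
        rw [hq0, hq2, zero_add, zero_add] at e6
        rcases mul_eq_zero.mp e6.symm with h | h
        · exact absurd h hc0
        · exact h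
      have hB01 : B01 = 0 := by
        have : c * B01 = 0 := by
          rw [hq0] at e4
          linear_combination e2 - e4
        rcases mul_eq_zero.mp this with h | h
        · exact absurd h hc0
        · exact h
      exact ⟨hq0, hB01, hB02⟩
  obtain ⟨hq0, hB01, hB02⟩ := hA
  have hB : q1 = 0 ∧ B12 = 0 := by
    by_cases hc0 : c' = 0
    · rw [hc0, zero_mul] at f2 f3
      have hB12 : B12 = 0 := by
        rcases mul_eq_zero.mp f2 with h | h
        · exact absurd h hs
        · exact h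
      have hq1 : q1 = 0 := by
        rw [hB12, add_zero] at f3
        rcases mul_eq_zero.mp f3 with h | h
        · exact absurd h hs
        · simpa using h
      exact ⟨hq1, hB12⟩
    · have hq1 : q1 = 0 := by
        rcases mul_eq_zero.mp f1.symm with h | h
        · exact absurd h hc0
        · exact h
      have hB12 : B12 = 0 := by
        have : c' * B12 = 0 := by
          rw [hq1] at f3
          linear_combination f2 - f3
        rcases mul_eq_zero.mp this with h | h
        · exact absurd h hc0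
        · exact h
      exact ⟨hq1, hB12⟩
  exact ⟨hq0, hB.1, hB01, hB02, hB.2⟩

end Quad

variable {ι : Type u} {K : Type v} {L : Type w} [Fintype ι] [Field K] [CharZero K]
  [IsAlgClosed K] [LieRing L] [LieAlgebra K L] [FiniteDimensional K L] [LieAlgebra.IsSimple K L]
  {H : LieSubalgebra K L} [H.IsCartanSubalgebra] {b : LieAlgebra.Basis ι H}

/-- If `u` is `e_i`-primitive of weight `β` with `β(h_i) ≠ 0`, then `e_i` acts injectively on the
(one-dimensional) root space of `β - α_i`. -/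
theorem lie_e_ne_zero_of_primitive {β : H → K} {u u' : L} (i : ι) (hu : u ∈ rootSpace H β)
    (hu0 : u ≠ 0) (hue : ⁅b.e i, u⁆ = 0) (hβ : β (b.h' i) ≠ 0) (hχ : -(sr b i) + β ≠ 0)
    (hu' : u' ∈ rootSpace H (-(sr b i) + β)) (hu'0 : u' ≠ 0) : ⁅b.e i, u'⁆ ≠ 0 := by
  have h1 : ⁅b.e i, ⁅b.f i, u⁆⁆ = β (b.h' i) • u := by
    rw [leibniz_lie, hue, lie_zero, add_zero, (b.sl2 i).lie_e_f]
    have : b.h i = ((b.h' i : H) : L) := rfl
    rw [this, lie_h_eq hu]
  have h2 : ⁅b.f i, u⁆ ≠ 0 := by
    intro h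
    rw [h, lie_zero] at h1
    exact (smul_ne_zero hβ hu0) h1.symm
  obtain ⟨r, hr⟩ := exists_smul_eq hχ hu' hu'0 (lie_f_mem b hu i)
  intro hcon
  rw [hr, lie_smul, hcon, smul_zero] at h1
  exact (smul_ne_zero hβ hu0) h1.symm

theorem injective_three {α : Type*} {a b c : α} (h1 : a ≠ b) (h2 : a ≠ c) (h3 : b ≠ c) :
    Function.Injective ![a, b, c] := by
  intro x y hxy
  fin_cases x <;> fin_cases y <;> simp_all

theorem linearIndependent_of_weights {n : ℕ} (χ : Fin n → (H → K))
    (hχ : Function.Injective χ) (w : Fin n → L)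
    (hw : ∀ i, w i ∈ rootSpace H (χ i)) (hw0 : ∀ i, w i ≠ 0) : LinearIndependent K w := by
  have hind := (LieSubmodule.iSupIndep_toSubmodule.mpr (iSupIndep_genWeightSpace K H L))
  have hind' : iSupIndep (fun i : Fin n => (rootSpace H (χ i)).toSubmodule) := hind.comp hχ
  exact hind'.linearIndependent _ hw hw0

variable {ρ : H → K} {j : ι}

theorem Cfg.quad (c : Cfg b ρ j) (W : Submodule K L) (hW : Stable b W)
    (h3 : Module.finrank K W = 3) (q : QuadraticForm K W)
    (hq : ∀ i : ι, ∃ k : K, ∀ w : W,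
      QuadraticMap.polar q ⟨⁅b.e i, (w : L)⁆, hW.e i w w.2⟩ w = k * q w) :
    ∃ (ℓ : Module.Dual K W) (k : K), ∀ w : W, q w = k * ℓ w ^ 2 := by
  obtain ⟨hle, i, hij, hA, hWeq⟩ := c.threeDim W hW h3
  obtain ⟨v0, hv0, hv0ne, hve⟩ := c.hw.exists_vec
  obtain ⟨v1, hv1, hv1ne⟩ := exists_ne_zero_of_ne_bot c.sub_j_ne_bot
  have hχne : rootSpace H (ρ - sr b j - sr b i) ≠ ⊥ := by
    intro hbot
    rw [hbot] at hWeq
    have : W = (rootSpace H ρ).toSubmodule ⊔ (rootSpace H (ρ - sr b j)).toSubmodule := by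
      rw [hWeq]; simp
    rw [this, c.finrank_plane] at h3
    omega
  obtain ⟨v2, hv2, hv2ne⟩ := exists_ne_zero_of_ne_bot hχne
  have hχ0 := c.sub_sub_ne_zero hij
  have hv0W : v0 ∈ W := hle (Submodule.mem_sup_left hv0)
  have hv1W : v1 ∈ W := hle (Submodule.mem_sup_right hv1)
  have hv2W : v2 ∈ W := by rw [hWeq]; exact Submodule.mem_sup_right hv2
  -- actions of e_j and e_i
  have hj1 : ⁅b.e j, v1⁆ ≠ 0 := by
    have hv1' : v1 ∈ rootSpace H (-(sr b j) + ρ) := by
      have : -(sr b j) + ρ = ρ - sr b j := by abel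
      rw [this]; exact hv1
    refine lie_e_ne_zero_of_primitive j hv0 hv0ne (hve j) (by rw [c.hj]; exact one_ne_zero) ?_
      hv1' hv1ne
    have : -(sr b j) + ρ = ρ - sr b j := by abel
    rw [this]; exact c.sub_j_ne_zero
  have hj1mem : ⁅b.e j, v1⁆ ∈ rootSpace H ρ := by
    have := lie_e_mem b hv1 j
    have e : sr b j + (ρ - sr b j) = ρ := by abel
    rwa [e] at this
  obtain ⟨t, ht⟩ := exists_smul_eq c.rho_ne_zero hv0 hv0ne hj1mem
  have ht0 : t ≠ 0 := by
    rintro rfl
    rw [zero_smul] at ht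
    exact hj1 ht
  have hj2 : ⁅b.e j, v2⁆ = 0 := by
    have := lie_e_mem b hv2 j
    have e : sr b j + (ρ - sr b j - sr b i) = ρ - sr b i := by abel
    rw [e, c.sub_eq_bot hij] at this
    exact (LieSubmodule.mem_bot _).mp this
  have hi1 : ⁅b.e i, v1⁆ = 0 := by
    have := lie_e_mem b hv1 i
    rw [c.add_sub_eq_bot hij] at this
    exact (LieSubmodule.mem_bot _).mp this
  have hβi : (ρ - sr b j) (b.h' i) ≠ 0 := by
    simp only [Pi.sub_apply, c.rho_apply_of_ne hij, sr_apply_h', zero_sub, ne_eq, neg_eq_zero]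
    intro h
    have h' : b.A j i = 0 := by exact_mod_cast h
    exact hA ((A_eq_zero_symm b i j).mpr h')
  have hi2 : ⁅b.e i, v2⁆ ≠ 0 := by
    have e : -(sr b i) + (ρ - sr b j) = ρ - sr b j - sr b i := by abel
    refine lie_e_ne_zero_of_primitive i hv1 hv1ne hi1 hβi (by rw [e]; exact hχ0)
      (by rw [e]; exact hv2) hv2ne
  have hi2mem : ⁅b.e i, v2⁆ ∈ rootSpace H (ρ - sr b j) := by
    have := lie_e_mem b hv2 i
    have e : sr b i + (ρ - sr b j - sr b i) = ρ - sr b j := by abel
    rwa [e] at this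
  obtain ⟨s, hs⟩ := exists_smul_eq c.sub_j_ne_zero hv1 hv1ne hi2mem
  have hs0 : s ≠ 0 := by
    rintro rfl
    rw [zero_smul] at hs
    exact hi2 hs
  -- the basis of W
  let u : Fin 3 → W := ![⟨v0, hv0W⟩, ⟨v1, hv1W⟩, ⟨v2, hv2W⟩]
  have hne01 : ρ ≠ ρ - sr b j := by
    intro h
    apply sr_ne_zero b j
    have : sr b j = ρ - (ρ - sr b j) := by abel
    rw [this, ← h, sub_self]
  have hne02 : ρ ≠ ρ - sr b j - sr b i := by
    intro h
    apply sr_add_ne_zero b j i
    have : sr b j + sr b i = ρ - (ρ - sr b j - sr b i) := by abel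
    rw [this, ← h, sub_self]
  have hne12 : ρ - sr b j ≠ ρ - sr b j - sr b i := by
    intro h
    apply sr_ne_zero b i
    have : sr b i = (ρ - sr b j) - (ρ - sr b j - sr b i) := by abel
    rw [this, ← h, sub_self]
  have hliL : LinearIndependent K ![v0, v1, v2] := by
    refine linearIndependent_of_weights ![ρ, ρ - sr b j, ρ - sr b j - sr b i]
      (injective_three hne01 hne02 hne12) _ ?_ ?_
    · intro x; fin_cases x <;> simpa
    · intro x; fin_cases x <;> simpa
  have hli : LinearIndependent K u := by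
    apply LinearIndependent.of_comp W.subtype
    have : W.subtype ∘ u = ![v0, v1, v2] := by
      funext x; fin_cases x <;> rfl
    rw [this]; exact hliL
  have hdecomp : ∀ w : W, ∃ a0 a1 a2 : K, w = a0 • u 0 + a1 • u 1 + a2 • u 2 := by
    intro w
    have hw : (w : L) ∈ (rootSpace H ρ).toSubmodule ⊔ (rootSpace H (ρ - sr b j)).toSubmodule ⊔
        (rootSpace H (ρ - sr b j - sr b i)).toSubmodule := by
      rw [← hWeq]; exact w.2
    obtain ⟨y, hy, x2, hx2, hsum⟩ := Submodule.mem_sup.mp hw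
    obtain ⟨x0, hx0, x1, hx1, rfl⟩ := Submodule.mem_sup.mp hy
    obtain ⟨a0, rfl⟩ := exists_smul_eq c.rho_ne_zero hv0 hv0ne hx0
    obtain ⟨a1, rfl⟩ := exists_smul_eq c.sub_j_ne_zero hv1 hv1ne hx1
    obtain ⟨a2, rfl⟩ := exists_smul_eq hχ0 hv2 hv2ne hx2
    refine ⟨a0, a1, a2, ?_⟩
    apply Subtype.ext
    rw [← hsum]
    rfl
  have hsp : ⊤ ≤ Submodule.span K (Set.range u) := by
    intro w _
    obtain ⟨a0, a1, a2, rfl⟩ := hdecomp w
    refine add_mem (add_mem ?_ ?_) ?_ <;>
      exact Submodule.smul_mem _ _ (Submodule.subset_span ⟨_, rfl⟩)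
  let B : Module.Basis (Fin 3) K W := Module.Basis.mk hli hsp
  have hB : ∀ x, B x = u x := fun x => by simp [B]
  -- the semi-invariance data
  obtain ⟨kj, hkj⟩ := hq j
  obtain ⟨ki, hki⟩ := hq i
  let E : W → W := fun w => ⟨⁅b.e j, (w : L)⁆, hW.e j w w.2⟩
  let E' : W → W := fun w => ⟨⁅b.e i, (w : L)⁆, hW.e i w w.2⟩
  have hE0 : E (u 0) = 0 := Subtype.ext (hve j)
  have hE1 : E (u 1) = t • u 0 := Subtype.ext ht
  have hE2 : E (u 2) = 0 := Subtype.ext hj2
  have hEadd : ∀ x y : W, E (x + y) = E x + E y := fun x y => Subtype.ext (lie_add _ _ _)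
  have hE'add : ∀ x y : W, E' (x + y) = E' x + E' y := fun x y => Subtype.ext (lie_add _ _ _)
  have hE'1 : E' (u 1) = 0 := Subtype.ext hi1
  have hE'2 : E' (u 2) = s • u 1 := Subtype.ext hs
  obtain ⟨z0, z1, z01, z02, z12⟩ := semiinv_zero q (u 0) (u 1) (u 2) E E' t s ht0 hs0 hE0 hE1 hE2
    (by rw [hEadd, hE0, hE1, zero_add]) (by rw [hEadd, hE1, hE2, add_zero])
    (by rw [hEadd, hE0, hE2, add_zero]) hE'1 hE'2 (by rw [hE'add, hE'1, hE'2, zero_add])
    kj ki hkj hki
  refine ⟨B.coord 2, q (u 2), fun w => ?_⟩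
  have hw : w = B.repr w 0 • u 0 + B.repr w 1 • u 1 + B.repr w 2 • u 2 := by
    conv_lhs => rw [← B.sum_repr w]
    rw [Fin.sum_univ_three, hB, hB, hB]
  conv_lhs => rw [hw]
  rw [quad_expand, z0, z1, z01, z02, z12, Module.Basis.coord_apply]
  ring

variable (b)

theorem main17432 (ρ : Module.Dual K H) (hρ : rootSpace H ρ ≠ ⊥)
    (htop : ∀ i, rootSpace H (ρ + b.baseSupp i) = ⊥)
    (j : ι) (hN : ∀ i, ρ (b.h' i) ≠ 0 ↔ i = j) (hj : ρ (b.h' j) = 1)
    (W : Submodule K L) (hW : Module.finrank K W = 3)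
    (hst : ∀ x ∈ H.toSubmodule ⊔ (b.borelUpper : Submodule K L), ∀ w ∈ W, ⁅x, w⁆ ∈ W)
    (q : QuadraticForm K W)
    (hq : ∀ (x : L) (hx : x ∈ H.toSubmodule ⊔ (b.borelUpper : Submodule K L)), ∃ c : K, ∀ w : W,
      QuadraticMap.polar q ⟨⁅x, (w : L)⁆, hst x hx w w.property⟩ w = c * q w) :
    ∃ (ℓ : Module.Dual K W) (c : K), ∀ w : W, q w = c * ℓ w ^ 2 := by
  have c := cfg_of b ρ hρ htop j hN hj
  have hS : Stable b W := (stable_iff b W).mpr hst
  refine c.quad W hS hW q (fun i => ?_)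
  have hx : b.e i ∈ H.toSubmodule ⊔ (b.borelUpper : Submodule K L) := by
    refine Submodule.mem_sup_right ?_
    show b.e i ∈ LieSubalgebra.lieSpan K L (Set.range b.e)
    exact LieSubalgebra.subset_lieSpan ⟨i, rfl⟩
  obtain ⟨k, hk⟩ := hq (b.e i) hx
  exact ⟨k, fun w => hk w⟩

end

end Groth.Agent.H6.AdjVar
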