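import Mathlib

/-!
# helper6: `R[X]/(f)` formally unramified implies `f'` invertible; units descend along
integral injective extensions
-/

set_option linter.style.haveILetI false

open Polynomial

universe u

namespace Groth.Agent.H6

theorem isUnit_derivative_of_formallyUnramified {R : Type u} [CommRing R] (f : R[X])
    [Algebra.FormallyUnramified R (AdjoinRoot f)] :
    IsUnit (aeval (AdjoinRoot.root f) (derivative f)) := by
  set B := AdjoinRoot f with hB
  set r : B := AdjoinRoot.root f with hr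
  set d : B := aeval r (derivative f) with hd
  let Q := B ⧸ Ideal.span {d}
  let C := TrivSqZeroExt Q Q
  let π : B →ₐ[R] Q := Ideal.Quotient.mkₐ R _
  let g1 : B →ₐ[R] C := (TrivSqZeroExt.inlAlgHom R Q Q).comp π
  let t : C := TrivSqZeroExt.inl (π r) + TrivSqZeroExt.inr 1
  have hπd : π d = 0 := Ideal.Quotient.eq_zero_iff_mem.2 (Ideal.subset_span rfl)
  have hinl : ∀ p : R[X], aeval (TrivSqZeroExt.inl (π r) : C) p = TrivSqZeroExt.inl (π (aeval r p)) := by
    intro p
    have : (TrivSqZeroExt.inl (π r) : C) = g1 r := rfl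
    rw [this, Polynomial.aeval_algHom_apply]
    rfl
  have ht : aeval t f = 0 := by
    rw [Polynomial.aeval_add_of_sq_eq_zero _ _ _
      (by rw [sq, TrivSqZeroExt.inr_mul_inr] : (TrivSqZeroExt.inr (1 : Q) : C) ^ 2 = 0)]
    rw [hinl, hinl, ← hd, hπd]
    have : aeval r f = 0 := by rw [hr, AdjoinRoot.aeval_eq, AdjoinRoot.mk_self]
    rw [this, map_zero]
    simp
  let g2 : B →ₐ[R] C := AdjoinRoot.liftAlgHom f (Algebra.ofId R C) t (by
    rw [← ht]; rfl)
  have hg : g1 = g2 := by
    apply Algebra.FormallyUnramified.ext' (TrivSqZeroExt.fstHom R Q Q).toRingHom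
    · refine ⟨2, ?_⟩
      exact TrivSqZeroExt.kerIdeal_sq Q Q
    · have : (TrivSqZeroExt.fstHom R Q Q).comp g1 = (TrivSqZeroExt.fstHom R Q Q).comp g2 := by
        apply AdjoinRoot.algHom_ext
        have e2 : g2 (AdjoinRoot.root f) = t := AdjoinRoot.liftAlgHom_root _ _ _ _
        simp only [AlgHom.comp_apply, e2]
        simp only [g1, t, hr, AlgHom.comp_apply, TrivSqZeroExt.fstHom_apply,
          TrivSqZeroExt.inlAlgHom_apply, TrivSqZeroExt.fst_inl]
        rw [TrivSqZeroExt.fst_add, TrivSqZeroExt.fst_inl, TrivSqZeroExt.fst_inr, add_zero]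
      intro x
      exact AlgHom.congr_fun this x
  have h1 : TrivSqZeroExt.snd (g1 r) = TrivSqZeroExt.snd (g2 r) := by rw [hg]
  have h2 : (0 : Q) = 1 := by
    have e2 : g2 r = t := AdjoinRoot.liftAlgHom_root _ _ _ _
    rw [e2] at h1
    simp only [g1, t, AlgHom.comp_apply, TrivSqZeroExt.inlAlgHom_apply, TrivSqZeroExt.snd_inl] at h1
    rw [TrivSqZeroExt.snd_add, TrivSqZeroExt.snd_inl, TrivSqZeroExt.snd_inr, zero_add] at h1
    exact h1
  have : Ideal.span {d} = ⊤ := by
    rw [Ideal.eq_top_iff_one, ← Ideal.Quotient.eq_zero_iff_mem]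
    exact h2.symm
  exact Ideal.span_singleton_eq_top.1 this

theorem isUnit_of_isUnit_algebraMap_of_integral {A B : Type*} [CommRing A] [CommRing B] [Algebra A B]
    [Algebra.IsIntegral A B] (hinj : Function.Injective (algebraMap A B)) (x : A)
    (hx : IsUnit (algebraMap A B x)) : IsUnit x := by
  by_contra hnu
  obtain ⟨m, hm, hxm⟩ := exists_max_ideal_of_mem_nonunits hnu
  obtain ⟨P, -, hP, hPm⟩ := Ideal.exists_ideal_over_prime_of_isIntegral m (⊥ : Ideal B)
    (by rw [Ideal.comap_bot_of_injective _ hinj]; exact bot_le)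
  have : algebraMap A B x ∈ P := by
    rw [← Ideal.mem_comap, hPm]; exact hxm
  exact hP.ne_top (Ideal.eq_top_of_isUnit_mem _ this hx)

end Groth.Agent.H6
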