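import Mathlib

set_option autoImplicit false
universe u

namespace Groth.Agent.H6.AlgCd1

variable {A : Type u} [CommRing A] {r : ℕ} (f : Fin r → A) (I : Ideal A) (c : ℕ)
  (φ : Fin r → (↥(I ^ c) →ₗ[A] A))

/-- `φ_j` extended by zero -/
noncomputable def phi (j : Fin r) (x : A) : A :=
  open Classical in if h : x ∈ I ^ c then φ j ⟨x, h⟩ else 0

lemma phi_of_mem (j : Fin r) (x : A) (h : x ∈ I ^ c) : phi I c φ j x = φ j ⟨x, h⟩ := by
  unfold phi; rw [dif_pos h]

lemma phi_add (j : Fin r) (x y : A) (hx : x ∈ I ^ c) (hy : y ∈ I ^ c) :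
    phi I c φ j (x + y) = phi I c φ j x + phi I c φ j y := by
  rw [phi_of_mem I c φ j _ (Ideal.add_mem _ hx hy), phi_of_mem I c φ j _ hx, phi_of_mem I c φ j _ hy,
    ← map_add]
  rfl

lemma phi_mul (j : Fin r) (a x : A) (hx : x ∈ I ^ c) :
    phi I c φ j (a * x) = a * phi I c φ j x := by
  rw [phi_of_mem I c φ j _ (Ideal.mul_mem_left _ a hx), phi_of_mem I c φ j _ hx, ← smul_eq_mul a (φ j _),
    ← map_smul]
  rfl

lemma phi_zero (j : Fin r) : phi I c φ j 0 = 0 := by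
  rw [phi_of_mem I c φ j _ (Ideal.zero_mem _)]
  exact map_zero (φ j)

lemma pow_le_c (m : ℕ) : I ^ (m + c) ≤ I ^ c := Ideal.pow_le_pow_right (Nat.le_add_left c m)

lemma phi_mem (j : Fin r) (m : ℕ) (x : A) (hx : x ∈ I ^ (m + c)) : phi I c φ j x ∈ I ^ m := by
  have key : x ∈ I ^ c ∧ phi I c φ j x ∈ I ^ m := by
    rw [pow_add] at hx
    refine Submodule.mul_induction_on hx ?_ ?_
    · intro a ha b hb
      refine ⟨Ideal.mul_mem_left _ a hb, ?_⟩
      rw [phi_mul I c φ j a b hb]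
      exact Ideal.mul_mem_right _ _ ha
    · intro x y hx hy
      refine ⟨Ideal.add_mem _ hx.1 hy.1, ?_⟩
      rw [phi_add I c φ j x y hx.1 hy.1]
      exact Ideal.add_mem _ hx.2 hy.2
  exact key.2

variable (hφ : ∀ x : ↥(I ^ c), (x : A) = ∑ j, f j * φ j x)

include hφ in
lemma sum_phi (x : A) (hx : x ∈ I ^ c) : ∑ j, f j * phi I c φ j x = x := by
  have := hφ ⟨x, hx⟩
  simp only [phi_of_mem I c φ _ x hx]
  exact this.symm

open MvPolynomial in
/-- the graded pieces of `Φ` -/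
noncomputable def Phi : ℕ → A → MvPolynomial (Fin r) A
  | 0, g => C g
  | n + 1, g => ∑ j, X j * Phi n (phi I c φ j g)

open MvPolynomial in
lemma Phi_add : ∀ (n : ℕ) (g h : A), g ∈ I ^ (n * c) → h ∈ I ^ (n * c) →
    Phi I c φ n (g + h) = Phi I c φ n g + Phi I c φ n h
  | 0, g, h, _, _ => by simp [Phi]
  | n + 1, g, h, hg, hh => by
    rw [Nat.succ_mul] at hg hh
    have hg' := pow_le_c I c (n * c) hg
    have hh' := pow_le_c I c (n * c) hh
    simp only [Phi]
    rw [← Finset.sum_add_distrib]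
    apply Finset.sum_congr rfl
    intro j _
    rw [phi_add I c φ j g h hg' hh', Phi_add n _ _ (phi_mem I c φ j _ g hg) (phi_mem I c φ j _ h hh),
      mul_add]

open MvPolynomial in
lemma Phi_smul : ∀ (n : ℕ) (a g : A), g ∈ I ^ (n * c) →
    Phi I c φ n (a * g) = a • Phi I c φ n g
  | 0, a, g, _ => by simp [Phi, MvPolynomial.smul_eq_C_mul]
  | n + 1, a, g, hg => by
    rw [Nat.succ_mul] at hg
    have hg' := pow_le_c I c (n * c) hg
    simp only [Phi]
    rw [Finset.smul_sum]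
    apply Finset.sum_congr rfl
    intro j _
    rw [phi_mul I c φ j a g hg', Phi_smul n _ _ (phi_mem I c φ j _ g hg), mul_smul_comm]

open MvPolynomial in
lemma Phi_homog : ∀ (n : ℕ) (g : A), (Phi I c φ n g).IsHomogeneous n
  | 0, g => isHomogeneous_C _ g
  | n + 1, g => by
    simp only [Phi]
    apply IsHomogeneous.sum
    intro j _
    rw [add_comm n 1]
    exact (isHomogeneous_X A j).mul (Phi_homog n _)

open MvPolynomial in
lemma Phi_mul : ∀ (n m : ℕ) (g h : A), g ∈ I ^ (n * c) → h ∈ I ^ (m * c) →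
    Phi I c φ (n + m) (g * h) = Phi I c φ n g * Phi I c φ m h
  | 0, m, g, h, _, hh => by
    rw [zero_add, Phi_smul I c φ m g h hh]
    simp [Phi, MvPolynomial.smul_eq_C_mul]
  | n + 1, m, g, h, hg, hh => by
    rw [Nat.succ_mul] at hg
    have hg' := pow_le_c I c (n * c) hg
    rw [Nat.succ_add]
    simp only [Phi]
    rw [Finset.sum_mul]
    apply Finset.sum_congr rfl
    intro j _
    have h1 : phi I c φ j (g * h) = phi I c φ j g * h := by
      rw [mul_comm g h, phi_mul I c φ j h g hg', mul_comm]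
    rw [h1, Phi_mul n m _ _ (phi_mem I c φ j _ g hg) hh, mul_assoc]

open MvPolynomial in
include hφ in
lemma aeval_Phi : ∀ (n : ℕ) (g : A), g ∈ I ^ (n * c) → aeval f (Phi I c φ n g) = g
  | 0, g, _ => by simp [Phi]
  | n + 1, g, hg => by
    rw [Nat.succ_mul] at hg
    have hg' := pow_le_c I c (n * c) hg
    simp only [Phi]
    rw [map_sum]
    have : ∀ j, aeval f (X j * Phi I c φ n (phi I c φ j g)) = f j * phi I c φ j g := by
      intro j
      rw [map_mul, aeval_X, aeval_Phi n _ (phi_mem I c φ j _ g hg)]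
    simp only [this]
    exact sum_phi f I c φ hφ g hg'

open MvPolynomial in
lemma Phi_one (g : A) (hg : g ∈ I ^ c) :
    Phi I c φ 1 g = ∑ j, C (φ j ⟨g, hg⟩) * X j := by
  simp only [Phi]
  apply Finset.sum_congr rfl
  intro j _
  rw [phi_of_mem I c φ j g hg, mul_comm]

open MvPolynomial in
/-- uniqueness -/
lemma Phi_unique (Ψ : ℕ → A → MvPolynomial (Fin r) A)
    (hadd : ∀ n : ℕ, ∀ g ∈ I ^ (n * c), ∀ h ∈ I ^ (n * c), Ψ n (g + h) = Ψ n g + Ψ n h)
    (hmul : ∀ n m : ℕ, ∀ g ∈ I ^ (n * c), ∀ h ∈ I ^ (m * c), Ψ (n + m) (g * h) = Ψ n g * Ψ m h)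
    (h0 : ∀ a : A, Ψ 0 a = MvPolynomial.C a)
    (h1 : ∀ (g : A) (hg : g ∈ I ^ c), Ψ 1 g = ∑ j, MvPolynomial.C (φ j ⟨g, hg⟩) * MvPolynomial.X j) :
    ∀ n : ℕ, ∀ g ∈ I ^ (n * c), Ψ n g = Phi I c φ n g
  | 0, g, _ => by rw [h0]; rfl
  | n + 1, g, hg => by
    have key : g ∈ I ^ ((n + 1) * c) ∧ Ψ (n + 1) g = Phi I c φ (n + 1) g := by
      have hg2 := hg
      rw [Nat.succ_mul, pow_add] at hg2
      refine Submodule.mul_induction_on hg2 ?_ ?_
      · intro a ha b hb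
        have hb1 : b ∈ I ^ (1 * c) := by rw [one_mul]; exact hb
        have hab : a * b ∈ I ^ ((n + 1) * c) := by
          rw [Nat.succ_mul, pow_add]; exact Ideal.mul_mem_mul ha hb
        refine ⟨hab, ?_⟩
        rw [hmul n 1 a ha b hb1, Phi_mul I c φ n 1 a b ha hb1, Phi_unique Ψ hadd hmul h0 h1 n a ha,
          h1 b hb, Phi_one I c φ b hb]
      · intro x y hx hy
        refine ⟨Ideal.add_mem _ hx.1 hy.1, ?_⟩
        rw [hadd (n + 1) x hx.1 y hy.1, Phi_add I c φ (n + 1) x y hx.1 hy.1, hx.2, hy.2]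
    exact key.2

end Groth.Agent.H6.AlgCd1
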