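import Mathlib
import Groth.Agent.Lib.Helper6.AlgCd1

/-! Helper6: extending the graded map `Φ` to modules (S8833). -/

set_option autoImplicit false
set_option linter.unusedSectionVars false

universe u

namespace Groth.Agent.H6.AlgCd2

open TensorProduct

section AR

variable {B : Type u} [CommRing B] [IsNoetherianRing B] {N : Type u} [AddCommGroup N] [Module B N]
  [Module.Finite B N]

/-- Artin–Rees consequence: deep elements that are power torsion vanish. -/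
theorem exists_AR (J : Ideal B) : ∃ m₀ : ℕ, ∀ m, m₀ ≤ m → ∀ v ∈ (J ^ m • ⊤ : Submodule B N),
    ∀ k : ℕ, (∀ b ∈ J ^ k, b • v = 0) → v = 0 := by
  let H : ℕ →o Submodule B N :=
    ⟨fun k => Submodule.torsionBySet B N ((J ^ k : Ideal B) : Set B), fun a b hab =>
      Submodule.torsionBySet_le_torsionBySet_of_subset
        (fun x hx => Ideal.pow_le_pow_right hab hx)⟩
  obtain ⟨k₀, hk₀⟩ := monotone_stabilizes_iff_noetherian.mpr (inferInstance : IsNoetherian B N) H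
  obtain ⟨k, hk⟩ := Ideal.exists_pow_inf_eq_pow_smul J (H k₀)
  refine ⟨k + k₀, fun m hm v hv k' hkill => ?_⟩
  have hvH : v ∈ H k₀ := by
    have h1 : v ∈ H (max k' k₀) := by
      show v ∈ Submodule.torsionBySet B N _
      rw [Submodule.mem_torsionBySet_iff]
      rintro ⟨b, hb⟩
      exact hkill b (Ideal.pow_le_pow_right (le_max_left k' k₀) hb)
    rw [hk₀ (max k' k₀) (le_max_right _ _)]
    exact h1
  have hv' : v ∈ (J ^ (k + k₀) • ⊤ : Submodule B N) :=
    Submodule.smul_mono_left (Ideal.pow_le_pow_right hm) hv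
  have h2 : v ∈ (J ^ (k + k₀) • ⊤ ⊓ H k₀ : Submodule B N) := Submodule.mem_inf.mpr ⟨hv', hvH⟩
  rw [hk (k + k₀) (Nat.le_add_right k k₀), Nat.add_sub_cancel_left] at h2
  have h3 : (J ^ k₀ • (J ^ k • ⊤ ⊓ H k₀) : Submodule B N) ≤ ⊥ := by
    rw [Submodule.smul_le]
    intro b hb x hx
    rw [Submodule.mem_bot]
    have hx2 : x ∈ Submodule.torsionBySet B N ((J ^ k₀ : Ideal B) : Set B) :=
      (Submodule.mem_inf.mp hx).2
    rw [Submodule.mem_torsionBySet_iff] at hx2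
    exact hx2 ⟨b, hb⟩
  exact (Submodule.mem_bot B).mp (h3 h2)

end AR

section Coeff

variable {A : Type u} [CommRing A] {r : ℕ} (I : Ideal A) (c d : ℕ)
  (φ : Fin r → (↥(I ^ c) →ₗ[A] A))

/-- restriction of `φ` to `I^(c+d)` -/
noncomputable def φres (j : Fin r) : ↥(I ^ (c + d)) →ₗ[A] A :=
  (φ j).comp (Submodule.inclusion (Ideal.pow_le_pow_right (Nat.le_add_right c d)))

lemma phi_res (j : Fin r) (g : A) (hg : g ∈ I ^ (c + d)) :
    AlgCd1.phi I (c + d) (φres I c d φ) j g = AlgCd1.phi I c φ j g := by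
  rw [AlgCd1.phi_of_mem I (c + d) _ j g hg,
    AlgCd1.phi_of_mem I c φ j g (Ideal.pow_le_pow_right (Nat.le_add_right c d) hg)]
  rfl

open MvPolynomial in
lemma coeff_Phi_mem : ∀ (n e : ℕ) (g : A), g ∈ I ^ (n * (c + d) + e) → ∀ α : Fin r →₀ ℕ,
    coeff α (AlgCd1.Phi I (c + d) (φres I c d φ) n g) ∈ I ^ (n * d + e)
  | 0, e, g, hg, α => by
    classical
    rw [zero_mul, zero_add] at hg ⊢
    simp only [AlgCd1.Phi]
    rw [coeff_C]
    split_ifs
    · exact hg
    · exact Ideal.zero_mem _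
  | n + 1, e, g, hg, α => by
    classical
    have hg1 : g ∈ I ^ ((n * (c + d) + (d + e)) + c) := by
      have h : (n + 1) * (c + d) + e = (n * (c + d) + (d + e)) + c := by ring
      rw [← h]
      exact hg
    have hg2 : g ∈ I ^ (c + d) :=
      Ideal.pow_le_pow_right
        ((Nat.le_mul_of_pos_left (c + d) (Nat.succ_pos n)).trans (Nat.le_add_right _ e)) hg
    simp only [AlgCd1.Phi]
    rw [coeff_sum]
    apply Ideal.sum_mem
    intro j _
    rw [coeff_X_mul']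
    split_ifs
    · rw [phi_res I c d φ j g hg2]
      have h3 := coeff_Phi_mem n (d + e) _ (AlgCd1.phi_mem I c φ j _ g hg1)
        (α - Finsupp.single j 1)
      have h4 : n * d + (d + e) = (n + 1) * d + e := by ring
      rw [h4] at h3
      exact h3
    · exact Ideal.zero_mem _

end Coeff

section Lift

variable {A : Type u} [CommRing A] {B : Type u} [CommRing B] [Algebra A B] {N : Type u}
  [AddCommGroup N] [Module B N] {r : ℕ} (K : Ideal A) (F : A → MvPolynomial (Fin r) A)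

lemma smul_eq_zero_of_mem_map_pow (I : Ideal A) (k : ℕ) (v : N)
    (h : ∀ a ∈ I ^ k, algebraMap A B a • v = 0) :
    ∀ b ∈ (I.map (algebraMap A B)) ^ k, b • v = 0 := by
  intro b hb
  rw [← Ideal.map_pow] at hb
  have hb' : b ∈ Submodule.span B ((algebraMap A B) '' ((I ^ k : Ideal A) : Set A)) := hb
  refine Submodule.span_induction (p := fun y _ => y • v = 0) ?_ ?_ ?_ ?_ hb'
  · rintro _ ⟨a, ha, rfl⟩
    exact h a ha
  · exact zero_smul _ _
  · intro y y' _ _ hy hy'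
    rw [add_smul, hy, hy', add_zero]
  · intro c y _ hy
    rw [smul_eq_mul, mul_smul, hy, smul_zero]

theorem span_ext {Q : Type*} [AddCommGroup Q] [Module B Q] (S : Set N)
    (Ψ Ψ' : ↥(Submodule.span B S) →ₗ[B] Q)
    (h : ∀ y (hy : y ∈ S), Ψ ⟨y, Submodule.subset_span hy⟩ = Ψ' ⟨y, Submodule.subset_span hy⟩) :
    Ψ = Ψ' := by
  apply LinearMap.ext
  rintro ⟨y, hy⟩
  refine Submodule.span_induction (p := fun y hy => Ψ ⟨y, hy⟩ = Ψ' ⟨y, hy⟩) ?_ ?_ ?_ ?_ hy
  · intro y hy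
    exact h y hy
  · have h0 : (⟨0, Submodule.zero_mem _⟩ : ↥(Submodule.span B S)) = 0 := rfl
    rw [h0, map_zero, map_zero]
  · intro y y' hy hy' h1 h2
    have h0 : (⟨y + y', Submodule.add_mem _ hy hy'⟩ : ↥(Submodule.span B S)) =
        ⟨y, hy⟩ + ⟨y', hy'⟩ := rfl
    rw [h0, map_add, map_add, h1, h2]
  · intro b y hy h1
    have h0 : (⟨b • y, Submodule.smul_mem _ b hy⟩ : ↥(Submodule.span B S)) = b • ⟨y, hy⟩ := rfl
    rw [h0, map_smul, map_smul, h1]

/-- the generators -/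
noncomputable def gen (p : ↥K × N) :
    ↥(Submodule.span B {y : N | ∃ g ∈ K, ∃ x : N, y = algebraMap A B g • x}) :=
  ⟨algebraMap A B (p.1 : A) • p.2, Submodule.subset_span ⟨p.1, p.1.2, p.2, rfl⟩⟩

/-- the presentation of the span -/
noncomputable def Tmap : ((↥K × N) →₀ B) →ₗ[B]
    ↥(Submodule.span B {y : N | ∃ g ∈ K, ∃ x : N, y = algebraMap A B g • x}) :=
  Finsupp.linearCombination B (gen K)

/-- the map on the presentation -/
noncomputable def Psit : ((↥K × N) →₀ B) →ₗ[B] (MvPolynomial (Fin r) B ⊗[B] N) :=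
  Finsupp.linearCombination B
    (fun p : ↥K × N => MvPolynomial.map (algebraMap A B) (F (p.1 : A)) ⊗ₜ[B] p.2)

lemma Tmap_single (g : A) (hg : g ∈ K) (x : N) :
    Tmap (B := B) K (Finsupp.single ((⟨g, hg⟩ : ↥K), x) 1) =
      ⟨algebraMap A B g • x, Submodule.subset_span ⟨g, hg, x, rfl⟩⟩ := by
  rw [Tmap, Finsupp.linearCombination_single, one_smul]
  rfl

lemma Psit_single (g : A) (hg : g ∈ K) (x : N) :
    Psit (B := B) K F (Finsupp.single ((⟨g, hg⟩ : ↥K), x) 1) =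
      MvPolynomial.map (algebraMap A B) (F g) ⊗ₜ[B] x := by
  rw [Psit, Finsupp.linearCombination_single, one_smul]

theorem Tmap_surjective : Function.Surjective (Tmap (B := B) (N := N) K) := by
  rintro ⟨y, hy⟩
  refine Submodule.span_induction
    (p := fun y hy => ∃ l, Tmap (B := B) (N := N) K l = ⟨y, hy⟩) ?_ ?_ ?_ ?_ hy
  · rintro _ ⟨g, hg, x, rfl⟩
    exact ⟨Finsupp.single (⟨g, hg⟩, x) 1, Tmap_single K g hg x⟩
  · exact ⟨0, map_zero _⟩
  · rintro y y' hy hy' ⟨l, hl⟩ ⟨l', hl'⟩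
    exact ⟨l + l', by rw [map_add, hl, hl']; rfl⟩
  · rintro b y hy ⟨l, hl⟩
    exact ⟨b • l, by rw [map_smul, hl]; rfl⟩

open MvPolynomial in
theorem Psit_eq_zero (W : Submodule B N)
    (hsymm : ∀ g ∈ K, ∀ h ∈ K, h • F g = g • F h)
    (hW : ∀ g ∈ K, ∀ (α : Fin r →₀ ℕ) (x : N), algebraMap A B (coeff α (F g)) • x ∈ W)
    (hzero : ∀ v ∈ W, (∀ h ∈ K, algebraMap A B h • v = 0) → v = 0)
    (l : (↥K × N) →₀ B) (hl : Tmap (B := B) (N := N) K l = 0) : Psit (B := B) K F l = 0 := by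
  classical
  have hT : Finsupp.linearCombination B
      (fun p : ↥K × N => algebraMap A B (p.1 : A) • p.2) l = 0 := by
    have h1 := Finsupp.apply_linearCombination B (Submodule.subtype _)
      (gen (B := B) (N := N) K) l
    have h2 : Finsupp.linearCombination B (gen (B := B) (N := N) K) l = 0 := hl
    rw [h2, map_zero] at h1
    exact h1.symm
  let E := TensorProduct.equivFinsuppOfBasisLeft (N := N)
    (MvPolynomial.basisMonomials (Fin r) B)
  apply E.injective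
  rw [map_zero]
  ext α
  rw [Finsupp.zero_apply]
  let Cα : (MvPolynomial (Fin r) B ⊗[B] N) →ₗ[B] N := (Finsupp.lapply α) ∘ₗ E.toLinearMap
  have hC : ∀ (q : MvPolynomial (Fin r) B) (x : N), Cα (q ⊗ₜ[B] x) = coeff α q • x := by
    intro q x
    show E (q ⊗ₜ[B] x) α = _
    rw [TensorProduct.equivFinsuppOfBasisLeft_apply_tmul_apply]
    rfl
  show Cα (Psit (B := B) K F l) = 0
  have h3 : Cα (Psit (B := B) K F l) = Finsupp.linearCombination B
      (fun p : ↥K × N => algebraMap A B (coeff α (F (p.1 : A))) • p.2) l := by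
    have h4 := Finsupp.apply_linearCombination B Cα
      (fun p : ↥K × N => MvPolynomial.map (algebraMap A B) (F (p.1 : A)) ⊗ₜ[B] p.2) l
    rw [show Psit (B := B) K F l = Finsupp.linearCombination B
      (fun p : ↥K × N => MvPolynomial.map (algebraMap A B) (F (p.1 : A)) ⊗ₜ[B] p.2) l from rfl,
      h4]
    congr 2
    funext p
    simp only [Function.comp_apply]
    rw [hC, MvPolynomial.coeff_map]
  rw [h3]
  apply hzero
  · rw [Finsupp.linearCombination_apply]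
    exact Submodule.sum_mem _ (fun p _ => W.smul_mem _ (hW p.1 p.1.2 α p.2))
  · intro h hh
    have h5 := Finsupp.apply_linearCombination B (LinearMap.lsmul B N (algebraMap A B h))
      (fun p : ↥K × N => algebraMap A B (coeff α (F (p.1 : A))) • p.2) l
    have h6 := Finsupp.apply_linearCombination B
      (LinearMap.lsmul B N (algebraMap A B (coeff α (F h))))
      (fun p : ↥K × N => algebraMap A B (p.1 : A) • p.2) l
    rw [hT, map_zero] at h6
    have h7 : (⇑(LinearMap.lsmul B N (algebraMap A B h)) ∘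
        fun p : ↥K × N => algebraMap A B (coeff α (F (p.1 : A))) • p.2) =
        (⇑(LinearMap.lsmul B N (algebraMap A B (coeff α (F h)))) ∘
          fun p : ↥K × N => algebraMap A B (p.1 : A) • p.2) := by
      funext p
      simp only [Function.comp_apply, LinearMap.lsmul_apply, smul_smul, ← map_mul]
      congr 2
      have h8 := congrArg (coeff α) (hsymm p.1 p.1.2 h hh)
      rw [MvPolynomial.coeff_smul, MvPolynomial.coeff_smul, smul_eq_mul, smul_eq_mul] at h8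
      rw [h8, mul_comm]
    rw [h7, ← h6] at h5
    exact h5

open MvPolynomial in
theorem exists_lift (W : Submodule B N)
    (hsymm : ∀ g ∈ K, ∀ h ∈ K, h • F g = g • F h)
    (hW : ∀ g ∈ K, ∀ (α : Fin r →₀ ℕ) (x : N), algebraMap A B (coeff α (F g)) • x ∈ W)
    (hzero : ∀ v ∈ W, (∀ h ∈ K, algebraMap A B h • v = 0) → v = 0) :
    ∃ Ψ : ↥(Submodule.span B {y : N | ∃ g ∈ K, ∃ x : N, y = algebraMap A B g • x}) →ₗ[B]
        (MvPolynomial (Fin r) B ⊗[B] N),
      ∀ (g : A) (hg : g ∈ K) (x : N),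
        Ψ ⟨algebraMap A B g • x, Submodule.subset_span ⟨g, hg, x, rfl⟩⟩ =
          MvPolynomial.map (algebraMap A B) (F g) ⊗ₜ[B] x := by
  have hker : LinearMap.ker (Tmap (B := B) (N := N) K) ≤ LinearMap.ker (Psit (B := B) K F) :=
    fun l hl => Psit_eq_zero K F W hsymm hW hzero l hl
  let e := (Tmap (B := B) (N := N) K).quotKerEquivOfSurjective (Tmap_surjective K)
  refine ⟨(Submodule.liftQ _ (Psit (B := B) K F) hker) ∘ₗ e.symm.toLinearMap, ?_⟩
  intro g hg x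
  have h1 : e.symm ⟨algebraMap A B g • x, Submodule.subset_span ⟨g, hg, x, rfl⟩⟩ =
      Submodule.Quotient.mk (Finsupp.single ((⟨g, hg⟩ : ↥K), x) 1) := by
    rw [LinearEquiv.symm_apply_eq, LinearMap.quotKerEquivOfSurjective_apply_mk, Tmap_single]
  rw [LinearMap.comp_apply]
  show Submodule.liftQ _ (Psit (B := B) K F) hker (e.symm _) = _
  rw [h1, Submodule.liftQ_apply, Psit_single]

open MvPolynomial in
theorem eval_lift (f : Fin r → A) (haev : ∀ g ∈ K, aeval f (F g) = g)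
    (Ψ : ↥(Submodule.span B {y : N | ∃ g ∈ K, ∃ x : N, y = algebraMap A B g • x}) →ₗ[B]
        (MvPolynomial (Fin r) B ⊗[B] N))
    (hΨ : ∀ (g : A) (hg : g ∈ K) (x : N),
        Ψ ⟨algebraMap A B g • x, Submodule.subset_span ⟨g, hg, x, rfl⟩⟩ =
          MvPolynomial.map (algebraMap A B) (F g) ⊗ₜ[B] x) :
    ∀ y : ↥(Submodule.span B {y : N | ∃ g ∈ K, ∃ x : N, y = algebraMap A B g • x}),
      TensorProduct.lift ((LinearMap.lsmul B N).comp
        (MvPolynomial.aeval (fun j ↦ algebraMap A B (f j))).toLinearMap) (Ψ y) = (y : N) := by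
  rintro ⟨y, hy⟩
  refine Submodule.span_induction
    (p := fun y hy => TensorProduct.lift ((LinearMap.lsmul B N).comp
        (MvPolynomial.aeval (fun j ↦ algebraMap A B (f j))).toLinearMap) (Ψ ⟨y, hy⟩) = y)
    ?_ ?_ ?_ ?_ hy
  · rintro _ ⟨g, hg, x, rfl⟩
    rw [hΨ g hg x, TensorProduct.lift.tmul]
    show (aeval (fun j => algebraMap A B (f j)) (MvPolynomial.map (algebraMap A B) (F g))) • x = _
    rw [MvPolynomial.aeval_map_algebraMap]
    have h1 : (fun j => algebraMap A B (f j)) = ⇑(algebraMap A B) ∘ f := rfl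
    rw [h1, MvPolynomial.aeval_algebraMap_apply, haev g hg]
  · have h0 : (⟨0, Submodule.zero_mem _⟩ :
        ↥(Submodule.span B {y : N | ∃ g ∈ K, ∃ x : N, y = algebraMap A B g • x})) = 0 := rfl
    rw [h0, map_zero, map_zero]
  · intro y y' hy hy' h1 h2
    have h0 : (⟨y + y', Submodule.add_mem _ hy hy'⟩ :
        ↥(Submodule.span B {y : N | ∃ g ∈ K, ∃ x : N, y = algebraMap A B g • x})) =
        ⟨y, hy⟩ + ⟨y', hy'⟩ := rfl
    rw [h0, map_add, map_add, h1, h2]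
  · intro b y hy h1
    have h0 : (⟨b • y, Submodule.smul_mem _ b hy⟩ :
        ↥(Submodule.span B {y : N | ∃ g ∈ K, ∃ x : N, y = algebraMap A B g • x})) =
        b • ⟨y, hy⟩ := rfl
    rw [h0, map_smul, map_smul, h1]

end Lift

theorem main (A : Type u) [CommRing A] [IsNoetherianRing A] (r : ℕ) (f : Fin r → A) (I : Ideal A)
    (c : ℕ) (φ : Fin r → (↥(I ^ c) →ₗ[A] A)) (hφ : ∀ x : ↥(I ^ c), (x : A) = ∑ j, f j * φ j x)
    (B : Type u) [CommRing B] [Algebra A B] [IsNoetherianRing B] (N : Type u) [AddCommGroup N]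
    [Module B N] [Module.Finite B N] :
    ∃ c' : ℕ, ∃ hcc' : c ≤ c', ∀ Φ : ℕ → A → MvPolynomial (Fin r) A, ((∀ n : ℕ, ∀ g ∈ I ^ (n * c'), ∀ h ∈ I ^ (n * c'), Φ n (g + h) = Φ n g + Φ n h) ∧ (∀ (n : ℕ) (a : A), ∀ g ∈ I ^ (n * c'), Φ n (a * g) = a • Φ n g) ∧ (∀ n : ℕ, ∀ g ∈ I ^ (n * c'), (Φ n g).IsHomogeneous n) ∧ (∀ n m : ℕ, ∀ g ∈ I ^ (n * c'), ∀ h ∈ I ^ (m * c'), Φ (n + m) (g * h) = Φ n g * Φ m h) ∧ (∀ a : A, Φ 0 a = MvPolynomial.C a) ∧ (∀ (g : A) (hg : g ∈ I ^ c'), Φ 1 g = ∑ j, MvPolynomial.C (φ j ⟨g, Ideal.pow_le_pow_right hcc' hg⟩) * MvPolynomial.X j)) → ∀ n : ℕ, ∃ Ψ : ↥(Submodule.span B {y : N | ∃ g ∈ I ^ (n * c'), ∃ x : N, y = algebraMap A B g • x}) →ₗ[B] (MvPolynomial (Fin r) B ⊗[B] N), (∀ (g : A) (hg : g ∈ I ^ (n * c')) (x : N), Ψ ⟨algebraMap A B g • x, Submodule.subset_span ⟨g, hg, x, rfl⟩⟩ = MvPolynomial.map (algebraMap A B) (Φ n g) ⊗ₜ[B] x) ∧ (∀ y : ↥(Submodule.span B {y : N | ∃ g ∈ I ^ (n * c'), ∃ x : N, y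 = algebraMap A B g • x}), TensorProduct.lift ((LinearMap.lsmul B N).comp (MvPolynomial.aeval (fun j ↦ algebraMap A B (f j))).toLinearMap) (Ψ y) = (y : N)) ∧ (∀ Ψ' : ↥(Submodule.span B {y : N | ∃ g ∈ I ^ (n * c'), ∃ x : N, y = algebraMap A B g • x}) →ₗ[B] (MvPolynomial (Fin r) B ⊗[B] N), (∀ (g : A) (hg : g ∈ I ^ (n * c')) (x : N), Ψ' ⟨algebraMap A B g • x, Submodule.subset_span ⟨g, hg, x, rfl⟩⟩ = MvPolynomial.map (algebraMap A B) (Φ n g) ⊗ₜ[B] x) → Ψ' = Ψ) := by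
  obtain ⟨m₀, hm₀⟩ := exists_AR (B := B) (N := N) (I.map (algebraMap A B))
  refine ⟨c + m₀, Nat.le_add_right c m₀, ?_⟩
  rintro Φ ⟨hadd, hsm, -, hmul, hΦ0, hΦ1⟩ n
  have hP : ∀ n : ℕ, ∀ g ∈ I ^ (n * (c + m₀)),
      Φ n g = AlgCd1.Phi I (c + m₀) (φres I c m₀ φ) n g :=
    AlgCd1.Phi_unique I (c + m₀) (φres I c m₀ φ) Φ hadd hmul hΦ0 (fun g hg => hΦ1 g hg)
  have hφ' : ∀ x : ↥(I ^ (c + m₀)), (x : A) = ∑ j, f j * φres I c m₀ φ j x := fun x =>
    hφ (Submodule.inclusion (Ideal.pow_le_pow_right (Nat.le_add_right c m₀)) x)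
  have hsymm : ∀ g ∈ I ^ (n * (c + m₀)), ∀ h ∈ I ^ (n * (c + m₀)), h • Φ n g = g • Φ n h := by
    intro g hg h hh
    rw [← hsm n h g hg, ← hsm n g h hh, mul_comm]
  have hW : ∀ g ∈ I ^ (n * (c + m₀)), ∀ (α : Fin r →₀ ℕ) (x : N),
      algebraMap A B (MvPolynomial.coeff α (Φ n g)) • x ∈
        ((I.map (algebraMap A B)) ^ (n * m₀) • ⊤ : Submodule B N) := by
    intro g hg α x
    have h1 : MvPolynomial.coeff α (Φ n g) ∈ I ^ (n * m₀) := by
      rw [hP n g hg]
      have h2 := coeff_Phi_mem I c m₀ φ n 0 g (by rw [add_zero]; exact hg) α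
      rw [add_zero] at h2
      exact h2
    have h2 : algebraMap A B (MvPolynomial.coeff α (Φ n g)) ∈
        (I.map (algebraMap A B)) ^ (n * m₀) := by
      rw [← Ideal.map_pow]
      exact Ideal.mem_map_of_mem _ h1
    exact Submodule.smul_mem_smul h2 Submodule.mem_top
  have hzero : ∀ v ∈ ((I.map (algebraMap A B)) ^ (n * m₀) • ⊤ : Submodule B N),
      (∀ h ∈ I ^ (n * (c + m₀)), algebraMap A B h • v = 0) → v = 0 := by
    intro v hv hkill
    rcases Nat.eq_zero_or_pos n with hn | hn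
    · subst hn
      have h1 := hkill 1 (by rw [zero_mul, pow_zero, Ideal.one_eq_top]; exact Submodule.mem_top)
      rwa [map_one, one_smul] at h1
    · exact hm₀ (n * m₀) (Nat.le_mul_of_pos_left m₀ hn) v hv (n * (c + m₀))
        (smul_eq_zero_of_mem_map_pow I _ v hkill)
  obtain ⟨Ψ, hΨ⟩ := exists_lift (I ^ (n * (c + m₀))) (Φ n) _ hsymm hW hzero
  refine ⟨Ψ, hΨ, ?_, ?_⟩
  · exact eval_lift (I ^ (n * (c + m₀))) (Φ n) f (fun g hg => by
      rw [hP n g hg]
      exact AlgCd1.aeval_Phi f I (c + m₀) (φres I c m₀ φ) hφ' n g hg) Ψ hΨ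
  · intro Ψ' hΨ'
    exact span_ext _ Ψ' Ψ (by
      rintro _ ⟨g, hg, x, rfl⟩
      exact (hΨ' g hg x).trans (hΨ g hg x).symm)

end Groth.Agent.H6.AlgCd2
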