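import Groth.Prelude.Def_AnPts
import Mathlib

set_option autoImplicit false

open AlgebraicGeometry CategoryTheory TopologicalSpace Opposite An

namespace Groth.Agent.H6.An

variable {X : Scheme.{0}} [X.Over SC]

/-- evaluation as a ring hom -/
noncomputable def evHom (x : Pts X) (U : X.Opens) (h : x.pt ∈ U) : Γ(X, U) →+* ℂ :=
  (Scheme.ΓSpecIso (CommRingCat.of ℂ)).hom.hom.comp (x.1.appLE U ⊤ (Pts.top_le_preimage x h)).hom

lemma evHom_apply (x : Pts X) (U : X.Opens) (h : x.pt ∈ U) (f : Γ(X, U)) :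
    evHom x U h f = x.ev U h f := rfl

/-- restriction lemma -/
lemma ev_res (x : Pts X) {U W : X.Opens} (i : W ⟶ U) (hW : x.pt ∈ W) (f : Γ(X, U)) :
    x.ev W hW (X.presheaf.map i.op f) = x.ev U (i.le hW) f := by
  unfold Pts.ev
  congr 1
  have := x.1.map_appLE (Pts.top_le_preimage x hW) i.op
  exact congrArg (fun φ => φ.hom f) this

lemma ev_strHom (x : Pts X) (c : ℂ) : x.evTop (strHom X c) = c := by
  unfold Pts.evTop Pts.ev strHom
  simp only [RingHom.comp_apply]
  have h1 : (X ↘ SC).appTop ≫ x.1.appLE ⊤ ⊤ (Pts.top_le_preimage x (Opens.mem_top _)) = 𝟙 _ := by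
    have : x.1.appLE ⊤ ⊤ (Pts.top_le_preimage x (Opens.mem_top _)) = x.1.appTop :=
      (x.1.app_eq_appLE (U := ⊤)).symm
    rw [this, ← Scheme.Hom.comp_appTop, x.2]
    rfl
  have h2 := congrArg (fun φ => φ.hom ((Scheme.ΓSpecIso (CommRingCat.of ℂ)).inv.hom c)) h1
  simp only [CommRingCat.hom_comp, RingHom.comp_apply, CommRingCat.hom_id, RingHom.id_apply] at h2
  erw [h2]
  exact congrArg (fun φ => φ.hom c) (Scheme.ΓSpecIso (CommRingCat.of ℂ)).inv_hom_id


lemma asIdeal_cpt : (cpt : PrimeSpectrum ℂ).asIdeal = ⊥ := by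
  have : (cpt : PrimeSpectrum ℂ) = ⟨⊥, Ideal.isPrime_bot⟩ := Subsingleton.elim _ _
  rw [this]

lemma cpt_mem_basicOpen_iff (r : Γ(SC, ⊤)) :
    cpt ∈ SC.basicOpen r ↔ (Scheme.ΓSpecIso (CommRingCat.of ℂ)).hom r ≠ 0 := by
  rw [basicOpen_eq_of_affine']
  change _ ∉ (cpt : PrimeSpectrum ℂ).asIdeal ↔ _
  rw [asIdeal_cpt]
  simp

/-- `pt x ∈ D(s)` iff `s(x) ≠ 0`. -/
lemma pt_mem_basicOpen_iff (x : Pts X) (U : X.Opens) (h : x.pt ∈ U) (s : Γ(X, U)) :
    x.pt ∈ X.basicOpen s ↔ x.ev U h s ≠ 0 := by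
  unfold Pts.ev
  rw [← cpt_mem_basicOpen_iff, Scheme.basicOpen_appLE]
  simp only [Opens.mem_inf, Opens.mem_top, true_and]
  rfl

lemma pt_mem_basicOpen_top_iff (x : Pts X) (s : Γ(X, ⊤)) :
    x.pt ∈ X.basicOpen s ↔ x.evTop s ≠ 0 :=
  pt_mem_basicOpen_iff x ⊤ (Opens.mem_top _) s


/-- global evaluation as ring hom -/
noncomputable def evTopHom (x : Pts X) : Γ(X, ⊤) →+* ℂ := evHom x ⊤ (Opens.mem_top _)

lemma evTopHom_apply (x : Pts X) (f : Γ(X, ⊤)) : evTopHom x f = x.evTop f := rfl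

lemma evTopHom_comp_strHom (x : Pts X) : (evTopHom x).comp (strHom X) = RingHom.id ℂ := by
  ext c
  exact ev_strHom x c

lemma evTopHom_eq (x : Pts X) :
    evTopHom x = (Scheme.ΓSpecIso (CommRingCat.of ℂ)).hom.hom.comp x.1.appTop.hom := by
  unfold evTopHom evHom
  congr 2

/-- On an affine scheme, a point is determined by its global evaluation. -/
lemma ext_of_evTopHom [IsAffine X] {x y : Pts X} (h : evTopHom x = evTopHom y) : x = y := by
  apply Subtype.ext
  apply ext_of_isAffine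
  rw [evTopHom_eq, evTopHom_eq] at h
  apply CommRingCat.hom_ext
  ext f
  have := congrArg (fun φ => (Scheme.ΓSpecIso (CommRingCat.of ℂ)).inv.hom (φ f)) h
  simpa using this

/-- Construct a point of an affine scheme from a ring hom. -/
noncomputable def ofHom [IsAffine X] (φ : Γ(X, ⊤) →+* ℂ)
    (hφ : φ.comp (strHom X) = RingHom.id ℂ) : Pts X :=
  ⟨Spec.map (CommRingCat.ofHom φ) ≫ X.isoSpec.inv, by
    rw [Category.assoc, ← Scheme.isoSpec_inv_naturality, Scheme.isoSpec_Spec_inv,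
      ← Spec.map_comp, ← Spec.map_comp]
    have : (Scheme.ΓSpecIso (CommRingCat.of ℂ)).inv ≫ (X ↘ SC).appTop ≫ CommRingCat.ofHom φ
        = 𝟙 _ := by
      apply CommRingCat.hom_ext
      exact hφ
    rw [Category.assoc, this, Spec.map_id]⟩

lemma evTopHom_ofHom [IsAffine X] (φ : Γ(X, ⊤) →+* ℂ)
    (hφ : φ.comp (strHom X) = RingHom.id ℂ) : evTopHom (ofHom φ hφ) = φ := by
  rw [evTopHom_eq]
  change (Scheme.ΓSpecIso (CommRingCat.of ℂ)).hom.hom.comp
    (Spec.map (CommRingCat.ofHom φ) ≫ X.isoSpec.inv).appTop.hom = φ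
  have h1 : (Spec.map (CommRingCat.ofHom φ) ≫ X.isoSpec.inv).appTop ≫
      (Scheme.ΓSpecIso (CommRingCat.of ℂ)).hom = CommRingCat.ofHom φ := by
    rw [Scheme.Hom.comp_appTop, Category.assoc, Scheme.ΓSpecIso_naturality]
    have h2 : X.isoSpec.inv.appTop = (Scheme.ΓSpecIso Γ(X, ⊤)).inv := by
      have h3 : X.isoSpec.hom.appTop ≫ X.isoSpec.inv.appTop = 𝟙 _ := by
        rw [← Scheme.Hom.comp_appTop, X.isoSpec.inv_hom_id]; rfl
      have h4 : X.isoSpec.hom.appTop = (Scheme.ΓSpecIso Γ(X, ⊤)).hom := by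
        simp [Scheme.isoSpec]
      rw [h4] at h3
      rw [← cancel_epi (Scheme.ΓSpecIso Γ(X, ⊤)).hom, h3, Iso.hom_inv_id]
    rw [h2]
    exact Iso.inv_hom_id_assoc _ _
  exact congrArg CommRingCat.Hom.hom h1


/-! ### continuity of evaluations -/

lemma continuous_evTop (f : Γ(X, ⊤)) : Continuous (fun x : Pts X => x.evTop f) := by
  refine continuous_def.2 fun V hV => ?_
  have : (fun x : Pts X => x.evTop f) ⁻¹' V = Pts.basicSet ⊤ f V := by
    ext x
    simp only [Set.mem_preimage, Pts.basicSet, Set.mem_ofPred_eq]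
    exact ⟨fun h => ⟨Opens.mem_top _, h⟩, fun ⟨_, h⟩ => h⟩
  rw [this]
  exact Pts.isOpen_basicSet _ _ hV

/-- The coordinate map of a family of global sections. -/
noncomputable def coordMap {ι : Type*} (s : ι → Γ(X, ⊤)) (x : Pts X) : ι → ℂ :=
  fun i => x.evTop (s i)

lemma continuous_coordMap {ι : Type*} (s : ι → Γ(X, ⊤)) : Continuous (coordMap s) :=
  continuous_pi fun i => continuous_evTop (s i)

lemma evTop_eval₂ {ι : Type*} (s : ι → Γ(X, ⊤)) (x : Pts X) (P : MvPolynomial ι ℂ) :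
    x.evTop (MvPolynomial.eval₂Hom (strHom X) s P) = MvPolynomial.eval (coordMap s x) P := by
  have : (evTopHom x).comp (MvPolynomial.eval₂Hom (strHom X) s) =
      MvPolynomial.eval (coordMap s x) := by
    apply MvPolynomial.ringHom_ext
    · intro c
      simp only [RingHom.comp_apply, MvPolynomial.eval₂Hom_C, MvPolynomial.eval_C]
      exact ev_strHom x c
    · intro i
      simp only [RingHom.comp_apply, MvPolynomial.eval₂Hom_X', MvPolynomial.eval_X]
      rfl
  exact congrArg (fun φ => φ P) this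

/-- Key local computation: if `f|_{D(h)} * h^k = g` on `D(h)`, then `f(y) = g(y)/h(y)^k`. -/
lemma ev_eq_div (y : Pts X) {U : X.Opens} (f : Γ(X, U)) (h g : Γ(X, ⊤)) (k : ℕ)
    (hle : X.basicOpen h ≤ U)
    (hrel : X.presheaf.map (homOfLE hle).op f * X.presheaf.map (homOfLE le_top).op (h ^ k) =
      X.presheaf.map (homOfLE (le_top : X.basicOpen h ≤ ⊤)).op g)
    (hy : y.evTop h ≠ 0) :
    ∃ hU : y.pt ∈ U, y.ev U hU f = y.evTop g / (y.evTop h) ^ k := by
  have hD : y.pt ∈ X.basicOpen h := (pt_mem_basicOpen_top_iff y h).2 hy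
  refine ⟨hle hD, ?_⟩
  have h1 := congrArg (evHom y (X.basicOpen h) hD) hrel
  rw [map_mul, evHom_apply, evHom_apply, evHom_apply, ev_res, ev_res, ev_res] at h1
  have h2 : y.ev ⊤ (Opens.mem_top _) (h ^ k) = (y.evTop h) ^ k := map_pow (evTopHom y) h k
  rw [h2] at h1
  rw [eq_div_iff (pow_ne_zero k hy)]
  exact h1


omit [X.Over SC] in
lemma exists_rel [IsAffine X] {U : X.Opens} (f : Γ(X, U)) (p : X) (hp : p ∈ U) :
    ∃ (h g : Γ(X, ⊤)) (k : ℕ) (hle : X.basicOpen h ≤ U), p ∈ X.basicOpen h ∧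
      X.presheaf.map (homOfLE hle).op f * X.presheaf.map (homOfLE le_top).op (h ^ k) =
        X.presheaf.map (homOfLE (le_top : X.basicOpen h ≤ ⊤)).op g := by
  obtain ⟨_, ⟨h, rfl⟩, hph, hle⟩ := (Opens.isBasis_iff_nbhd.1 (isBasis_basicOpen X)) hp
  obtain ⟨⟨g, ⟨_, k, rfl⟩⟩, hgk⟩ := IsLocalization.surj (Submonoid.powers h)
    (X.presheaf.map (homOfLE hle).op f)
  exact ⟨h, g, k, hle, hph, hgk⟩

/-- On an affine scheme whose global sections are generated by `s`, the complex topology on the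
`ℂ`-points is induced by the coordinate map. -/
theorem topology_eq_induced [IsAffine X] {ι : Type*} (s : ι → Γ(X, ⊤))
    (hs : Function.Surjective (MvPolynomial.eval₂Hom (strHom X) s)) :
    (Pts.topologicalSpace : TopologicalSpace (Pts X)) =
      TopologicalSpace.induced (coordMap s) inferInstance := by
  apply le_antisymm
  · exact continuous_iff_le_induced.1 (continuous_coordMap s)
  · apply le_generateFrom
    rintro _ ⟨U, f, V, hV, rfl⟩
    rw [@isOpen_iff_forall_mem_open _ (TopologicalSpace.induced (coordMap s) inferInstance)]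
    rintro x ⟨hxU, hxV⟩
    obtain ⟨h, g, k, hle, hph, hrel⟩ := exists_rel f x.pt hxU
    obtain ⟨H, rfl⟩ := hs h
    obtain ⟨G, rfl⟩ := hs g
    set T' : Set (ι → ℂ) := {a | MvPolynomial.eval a H ≠ 0} ∩
      (fun a => MvPolynomial.eval a G / (MvPolynomial.eval a H) ^ k) ⁻¹' V with hT'
    have hT'open : IsOpen T' := by
      apply ContinuousOn.isOpen_inter_preimage _ _ hV
      · apply ContinuousOn.div
        · exact (MvPolynomial.continuous_eval G).continuousOn
        · exact ((MvPolynomial.continuous_eval H).pow k).continuousOn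
        · intro a ha
          exact pow_ne_zero k ha
      · exact isOpen_ne_fun (MvPolynomial.continuous_eval H) continuous_const
    refine ⟨coordMap s ⁻¹' T', ?_, ⟨T', hT'open, rfl⟩, ?_⟩
    · rintro y ⟨hy1, hy2⟩
      simp only [Set.mem_ofPred_eq, ← evTop_eval₂] at hy1
      obtain ⟨hU, he⟩ := ev_eq_div y f _ _ k hle hrel hy1
      refine ⟨hU, ?_⟩
      rw [he, evTop_eval₂, evTop_eval₂]
      exact hy2
    · have hx1 : x.evTop (MvPolynomial.eval₂Hom (strHom X) s H) ≠ 0 :=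
        (pt_mem_basicOpen_top_iff x _).1 hph
      obtain ⟨hU, he⟩ := ev_eq_div x f _ _ k hle hrel hx1
      refine ⟨?_, ?_⟩
      · simp only [Set.mem_ofPred_eq, ← evTop_eval₂]
        exact hx1
      · simp only [Set.mem_preimage, ← evTop_eval₂]
        rw [← he]
        exact hxV


lemma coordMap_injective [IsAffine X] {ι : Type*} (s : ι → Γ(X, ⊤))
    (hs : Function.Surjective (MvPolynomial.eval₂Hom (strHom X) s)) :
    Function.Injective (coordMap s) := by
  intro x y hxy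
  apply ext_of_evTopHom
  ext f
  obtain ⟨P, rfl⟩ := hs f
  rw [evTopHom_apply, evTopHom_apply, evTop_eval₂, evTop_eval₂, hxy]

lemma range_coordMap [IsAffine X] {ι : Type*} (s : ι → Γ(X, ⊤))
    (hs : Function.Surjective (MvPolynomial.eval₂Hom (strHom X) s)) :
    Set.range (coordMap s) =
      {a | ∀ P ∈ RingHom.ker (MvPolynomial.eval₂Hom (strHom X) s), MvPolynomial.eval a P = 0} := by
  ext a
  constructor
  · rintro ⟨x, rfl⟩ P hP
    rw [← evTop_eval₂, RingHom.mem_ker.1 hP]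
    exact map_zero (evTopHom x)
  · intro ha
    let φ : Γ(X, ⊤) →+* ℂ := (MvPolynomial.eval₂Hom (strHom X) s).liftOfSurjective hs
      ⟨MvPolynomial.eval a, fun P hP => RingHom.mem_ker.2 (ha P hP)⟩
    have hφ : ∀ P, φ (MvPolynomial.eval₂Hom (strHom X) s P) = MvPolynomial.eval a P :=
      fun P => RingHom.liftOfSurjective_comp_apply _ hs _ P
    have hφ1 : φ.comp (strHom X) = RingHom.id ℂ := by
      ext c
      have := hφ (MvPolynomial.C c)
      simpa using this
    refine ⟨ofHom φ hφ1, ?_⟩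
    funext i
    change evTopHom (ofHom φ hφ1) (s i) = a i
    rw [evTopHom_ofHom]
    have := hφ (MvPolynomial.X i)
    simpa using this

theorem isClosedEmbedding_coordMap [IsAffine X] {ι : Type*} (s : ι → Γ(X, ⊤))
    (hs : Function.Surjective (MvPolynomial.eval₂Hom (strHom X) s)) :
    Topology.IsClosedEmbedding (coordMap s) := by
  refine ⟨⟨⟨topology_eq_induced s hs⟩, coordMap_injective s hs⟩, ?_⟩
  rw [range_coordMap s hs]
  have : {a : ι → ℂ | ∀ P ∈ RingHom.ker (MvPolynomial.eval₂Hom (strHom X) s),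
      MvPolynomial.eval a P = 0} =
      ⋂ P ∈ RingHom.ker (MvPolynomial.eval₂Hom (strHom X) s),
        {a | MvPolynomial.eval a P = 0} := by
    ext a; simp
  rw [this]
  exact isClosed_biInter fun P _ =>
    isClosed_eq (MvPolynomial.continuous_eval P) continuous_const

end Groth.Agent.H6.An
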