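import Groth.Agent.Lib.Helper6.An9

set_option autoImplicit false
set_option linter.unusedSectionVars false

open AlgebraicGeometry CategoryTheory TopologicalSpace Opposite An Topology

namespace Groth.Agent.H6.An

section top

variable {T : Type*} [TopologicalSpace T]

/-- In a Noetherian quasi-sober space, every point of the closure of a locally closed set is a
specialisation of a point of the set. -/
lemma exists_specializes_of_mem_closure [NoetherianSpace T] [QuasiSober T] {Z : Set T}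
    (hZ : IsLocallyClosed Z) {p : T} (hp : p ∈ closure Z) : ∃ η ∈ Z, η ⤳ p := by
  obtain ⟨S, hSf, hSc, hSi, hSU⟩ :=
    NoetherianSpace.exists_finite_set_isClosed_irreducible (isClosed_closure (s := Z))
  have hO : IsOpen (coborder Z) := hZ.isOpen_coborder
  have hZeq : closure Z ∩ coborder Z = Z := closure_inter_coborder
  let S' : Set (Set T) := {t ∈ S | (t ∩ coborder Z).Nonempty}
  have hS'f : S'.Finite := hSf.subset fun t ht => ht.1
  have hcl : IsClosed (⋃₀ S') := by
    rw [Set.sUnion_eq_biUnion]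
    exact hS'f.isClosed_biUnion fun t ht => hSc t ht.1
  have hZsub : Z ⊆ ⋃₀ S' := by
    intro z hz
    have hzc : z ∈ closure Z := subset_closure hz
    rw [hSU] at hzc
    obtain ⟨t, htS, hzt⟩ := hzc
    have hzO : z ∈ coborder Z := subset_coborder hz
    exact ⟨t, ⟨htS, ⟨z, hzt, hzO⟩⟩, hzt⟩
  have hp' : p ∈ ⋃₀ S' := (closure_minimal hZsub hcl) hp
  obtain ⟨t, ⟨htS, ⟨z, hzt, hzO⟩⟩, hpt⟩ := hp'
  have hirr : IsIrreducible t := hSi t htS
  have hgen := hirr.isGenericPoint_genericPoint_closure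
  rw [(hSc t htS).closure_eq] at hgen
  set η := hirr.genericPoint with hη
  have hηt : η ∈ t := hgen.mem
  have hηO : η ∈ coborder Z := by
    have hz' : z ∈ closure {η} := by rw [hgen.def]; exact hzt
    obtain ⟨y, hy1, hy2⟩ := mem_closure_iff.1 hz' _ hO hzO
    rw [Set.mem_singleton_iff] at hy2
    exact hy2 ▸ hy1
  have hηC : η ∈ closure Z := by
    rw [hSU]; exact ⟨t, htS, hηt⟩
  refine ⟨η, hZeq ▸ ⟨hηC, hηO⟩, ?_⟩
  rw [specializes_iff_mem_closure, hgen.def]
  exact hpt

end top


section core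

variable {X : Scheme.{0}} [X.Over SC] [LocallyOfFiniteType (X ↘ SC)] [IsAffine X]

/-- the prime ideal of global sections vanishing at a point -/
noncomputable def vanishingIdeal (η : X) : Ideal Γ(X, ⊤) :=
  Ideal.comap (X.presheaf.germ ⊤ η trivial).hom (IsLocalRing.maximalIdeal (X.presheaf.stalk η))

instance (η : X) : (vanishingIdeal η).IsPrime := by
  unfold vanishingIdeal
  infer_instance

lemma mem_vanishingIdeal_iff (η : X) (a : Γ(X, ⊤)) :
    a ∈ vanishingIdeal η ↔ η ∉ X.basicOpen a := by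
  unfold vanishingIdeal
  rw [Ideal.mem_comap, IsLocalRing.mem_maximalIdeal, mem_nonunits_iff, Scheme.mem_basicOpen_top]

lemma specializes_pt_iff (η : X) (y : Pts X) :
    η ⤳ y.pt ↔ ∀ a ∈ vanishingIdeal η, y.evTop a = 0 := by
  constructor
  · intro h a ha
    by_contra hne
    have h1 : y.pt ∈ X.basicOpen a := (pt_mem_basicOpen_top_iff y a).2 hne
    exact (mem_vanishingIdeal_iff η a).1 ha (h.mem_open (X.basicOpen a).2 h1)
  · intro h
    rw [specializes_iff_forall_open]
    intro s hs hys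
    have hys' : y.pt ∈ (⟨s, hs⟩ : X.Opens) := hys
    obtain ⟨_, ⟨a, rfl⟩, hya, hle⟩ := (Opens.isBasis_iff_nbhd.1 (isBasis_basicOpen X)) hys'
    apply hle
    by_contra hη
    have := h a ((mem_vanishingIdeal_iff η a).2 hη)
    exact ((pt_mem_basicOpen_top_iff y a).1 hya) this

/-- the character of a point -/
noncomputable def charOfPt (x : Pts X) :
    letI : Algebra ℂ Γ(X, ⊤) := (strHom X).toAlgebra
    Γ(X, ⊤) →ₐ[ℂ] ℂ :=
  letI : Algebra ℂ Γ(X, ⊤) := (strHom X).toAlgebra
  { evTopHom x with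
    commutes' := fun c => ev_strHom x c }

/-- **Density** (affine scheme form). -/
theorem mem_closure_of_specializes (η : X) (h : Γ(X, ⊤)) (hη : η ∈ X.basicOpen h) (x : Pts X)
    (hx : η ⤳ x.pt) :
    x ∈ closure {y : Pts X | η ⤳ y.pt ∧ y.pt ∈ X.basicOpen h} := by
  let _ : Algebra ℂ Γ(X, ⊤) := (strHom X).toAlgebra
  have hft : Algebra.FiniteType ℂ Γ(X, ⊤) := finiteType_strHom
  obtain ⟨n, s, hs⟩ := exists_generators (X := X)
  have hemb := isClosedEmbedding_coordMap s hs
  rw [hemb.isInducing.closure_eq_preimage_closure_image, Set.mem_preimage, Metric.mem_closure_iff]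
  intro ε hε
  have hh : h ∉ vanishingIdeal η := fun hm => (mem_vanishingIdeal_iff η h).1 hm hη
  obtain ⟨φ, hφp, hφh, hφs⟩ := exists_char_near_prime Γ(X, ⊤) (vanishingIdeal η) h hh
    (charOfPt x) (fun a ha => (specializes_pt_iff η x).1 hx a ha) s ε hε
  let y : Pts X := ofHom φ.toRingHom (by ext c; exact φ.commutes c)
  have hy : ∀ a, y.evTop a = φ a := fun a => by
    have := evTopHom_ofHom (X := X) φ.toRingHom (by ext c; exact φ.commutes c)
    exact congrArg (fun F => F a) this
  refine ⟨coordMap s y, ⟨y, ⟨?_, ?_⟩, rfl⟩, ?_⟩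
  · rw [specializes_pt_iff]
    intro a ha
    rw [hy]
    exact hφp a ha
  · rw [pt_mem_basicOpen_top_iff, hy]
    exact hφh
  · rw [dist_comm, dist_pi_lt_iff hε]
    intro j
    rw [dist_eq_norm]
    change ‖y.evTop (s j) - x.evTop (s j)‖ < ε
    rw [hy]
    exact hφs j

end core


section closureLC

variable {X : Scheme.{0}} [X.Over SC] [LocallyOfFiniteType (X ↘ SC)]

lemma noetherianSpace_of_isAffine_lft [IsAffine X] : NoetherianSpace X := by
  have : IsLocallyNoetherian X := isLocallyNoetherian_of_lft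
  have : IsNoetherian X := { }
  infer_instance

/-- Theorem D (affine): complex closure of a locally closed set contains the Zariski closure. -/
lemma mem_closure_pt_preimage_of_isAffine [IsAffine X] {Z : Set X} (hZ : IsLocallyClosed Z)
    (x : Pts X) (hx : x.pt ∈ closure Z) : x ∈ closure (Pts.pt ⁻¹' Z) := by
  have := noetherianSpace_of_isAffine_lft (X := X)
  obtain ⟨η, hηZ, hηx⟩ := exists_specializes_of_mem_closure hZ hx
  have hO : IsOpen (coborder Z) := hZ.isOpen_coborder
  have hηO : η ∈ (⟨coborder Z, hO⟩ : X.Opens) := subset_coborder hηZ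
  obtain ⟨_, ⟨h, rfl⟩, hηh, hle⟩ := (Opens.isBasis_iff_nbhd.1 (isBasis_basicOpen X)) hηO
  refine closure_mono ?_ (mem_closure_of_specializes η h hηh x hηx)
  rintro y ⟨hy1, hy2⟩
  have h1 : y.pt ∈ closure Z := by
    have : y.pt ∈ closure {η} := specializes_iff_mem_closure.1 hy1
    exact closure_mono (Set.singleton_subset_iff.2 hηZ) this
  have h2 : y.pt ∈ coborder Z := hle hy2
  have : y.pt ∈ closure Z ∩ coborder Z := ⟨h1, h2⟩
  rwa [closure_inter_coborder] at this

/-- Theorem D' (general). -/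
theorem mem_closure_pt_preimage {Z : Set X} (hZ : IsLocallyClosed Z)
    (x : Pts X) (hx : x.pt ∈ closure Z) : x ∈ closure (Pts.pt ⁻¹' Z) := by
  obtain ⟨U, hU, hxU⟩ : ∃ U : X.Opens, IsAffineOpen U ∧ x.pt ∈ U := by
    obtain ⟨_, ⟨U, hU, rfl⟩, hxU, -⟩ :=
      (X.isBasis_affineOpens).exists_subset_of_mem_open (Set.mem_univ x.pt) isOpen_univ
    exact ⟨U, hU, hxU⟩
  have : IsAffine U.toScheme := hU
  have hx' : x ∈ Set.range (Pts.map U.ι) := by rw [range_map_ι]; exact hxU
  obtain ⟨x', rfl⟩ := hx'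
  have hZ' : IsLocallyClosed (U.ι ⁻¹' Z) := hZ.preimage U.ι.continuous
  have hcl : x'.pt ∈ closure (U.ι ⁻¹' Z) := by
    rw [← U.ι.isOpenEmbedding.isOpenMap.preimage_closure_eq_closure_preimage U.ι.continuous]
    rw [Pts.pt_map] at hx
    exact hx
  have h1 := mem_closure_pt_preimage_of_isAffine hZ' x' hcl
  have h2 := map_mem_closure (Pts.continuous_map U.ι) h1 (t := Pts.pt ⁻¹' Z) (by
    intro y hy
    rw [Set.mem_preimage, Pts.pt_map]
    exact hy)
  exact h2

/-- Theorem E: S4188. -/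
theorem preimage_closure_eq {T : Set X} (hT : IsLocallyConstructible T) :
    (Pts.pt ⁻¹' closure T : Set (Pts X)) = closure (Pts.pt ⁻¹' T) := by
  apply subset_antisymm
  · intro x hx
    obtain ⟨W, hWx, hWo, hWc⟩ := hT x.pt
    obtain ⟨F, hFf, hFl, hFe⟩ := (finLC_of_isConstructible hWc).1
    have hxW : x.pt ∈ W := mem_of_mem_nhds hWx
    have h1 : x.pt ∈ closure (W ∩ T) := hWo.inter_closure ⟨hxW, hx⟩
    have h2 : W ∩ T = ⋃ Z ∈ F, (Subtype.val '' Z : Set X) := by
      ext p
      simp only [Set.mem_inter_iff, Set.mem_iUnion, Set.mem_image, Subtype.exists,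
        exists_and_right, exists_eq_right]
      constructor
      · rintro ⟨hpW, hpT⟩
        have : (⟨p, hpW⟩ : W) ∈ (Subtype.val ⁻¹' T : Set W) := hpT
        rw [hFe] at this
        obtain ⟨Z, hZ, hpZ⟩ := this
        exact ⟨Z, hZ, hpW, hpZ⟩
      · rintro ⟨Z, hZ, hpW, hpZ⟩
        refine ⟨hpW, ?_⟩
        have : (⟨p, hpW⟩ : W) ∈ (Subtype.val ⁻¹' T : Set W) := by
          rw [hFe]; exact ⟨Z, hZ, hpZ⟩
        exact this
    rw [h2, hFf.closure_biUnion] at h1
    obtain ⟨Z, hZ, hxZ⟩ := Set.mem_iUnion₂.1 h1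
    have hZlc : IsLocallyClosed (Subtype.val '' Z : Set X) :=
      (hFl Z hZ).image IsInducing.subtypeVal
        (by rw [Subtype.range_coe]; exact hWo.isLocallyClosed)
    refine closure_mono ?_ (mem_closure_pt_preimage hZlc x hxZ)
    intro y hy
    have : y.pt ∈ W ∩ T := by
      rw [h2]
      exact Set.mem_iUnion₂.2 ⟨Z, hZ, hy⟩
    exact this.2
  · exact (Pts.continuous_pt).closure_preimage_subset T

end closureLC

end Groth.Agent.H6.An
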