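import Groth.Agent.Lib.Helper6.An10

set_option autoImplicit false
set_option linter.unusedSectionVars false

open AlgebraicGeometry CategoryTheory TopologicalSpace Opposite An Topology Set.Notation

namespace Groth.Agent.H6.An

section cluster

variable {X : Scheme.{0}} [X.Over SC] [LocallyOfFiniteType (X ↘ SC)]

/-- closed points in the intersection of a locally constructible and a closed set -/
lemma exists_closedPoint_inter_closed {T : Type*} [TopologicalSpace T] [JacobsonSpace T]
    {s C : Set T} (hs : IsLocallyConstructible s) (hC : IsClosed C) (hne : (s ∩ C).Nonempty) :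
    ∃ x ∈ s ∩ C, IsClosed ({x} : Set T) := by
  obtain ⟨t, hts, htC⟩ := hne
  obtain ⟨U, hUt, hUo, hUc⟩ := hs t
  obtain ⟨F, -, hFl, hFe⟩ := (finLC_of_isConstructible hUc).1
  have htU : t ∈ U := mem_of_mem_nhds hUt
  have : (⟨t, htU⟩ : U) ∈ (U ↓∩ s) := hts
  rw [hFe] at this
  obtain ⟨Z, hZ, htZ⟩ := this
  have hZlc : IsLocallyClosed ((Subtype.val '' Z : Set T) ∩ C) :=
    ((hFl Z hZ).image IsInducing.subtypeVal
      (by rw [Subtype.range_coe]; exact hUo.isLocallyClosed)).inter hC.isLocallyClosed
  obtain ⟨x, ⟨⟨y, hyZ, rfl⟩, hxC⟩, hx⟩ := nonempty_inter_closedPoints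
    (Z := (Subtype.val '' Z : Set T) ∩ C) ⟨t, ⟨⟨t, htU⟩, htZ, rfl⟩, htC⟩ hZlc
  refine ⟨y, ⟨?_, hxC⟩, hx⟩
  have : y ∈ (U ↓∩ s) := by rw [hFe]; exact ⟨Z, hZ, hyZ⟩
  exact this

theorem isOpen_iff_pts {T : Set X} (hT : IsLocallyConstructible T) :
    IsOpen T ↔ IsOpen (Pts.pt ⁻¹' T : Set (Pts X)) := by
  constructor
  · intro h
    exact h.preimage Pts.continuous_pt
  · intro h
    rw [← isClosed_compl_iff]
    have hS : IsLocallyConstructible Tᶜ := isLocallyConstructible_compl hT
    have h1 : IsClosed (Pts.pt ⁻¹' Tᶜ : Set (Pts X)) := by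
      rw [Set.preimage_compl]; exact h.isClosed_compl
    have h2 := preimage_closure_eq hS
    rw [h1.closure_eq] at h2
    rw [← closure_eq_iff_isClosed]
    apply subset_antisymm _ subset_closure
    intro p hp
    by_contra hpT
    have hpT' : p ∈ T := by simpa using hpT
    obtain ⟨q, ⟨hqT, hqC⟩, hqc⟩ := exists_closedPoint_inter_closed hT isClosed_closure
      ⟨p, hpT', hp⟩
    obtain ⟨y, rfl⟩ := exists_pt_eq hqc
    have : y ∈ (Pts.pt ⁻¹' closure Tᶜ : Set (Pts X)) := hqC
    rw [h2] at this
    exact this hqT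

theorem dense_iff_pts {T : Set X} (hT : IsLocallyConstructible T) :
    Dense T ↔ Dense (Pts.pt ⁻¹' T : Set (Pts X)) := by
  rw [dense_iff_closure_eq, dense_iff_closure_eq, ← preimage_closure_eq hT]
  constructor
  · intro h
    rw [h, Set.preimage_univ]
  · intro h
    rw [← Set.univ_subset_iff, ← closure_closedPoints]
    apply closure_minimal _ isClosed_closure
    intro p hp
    obtain ⟨y, rfl⟩ := exists_pt_eq hp
    have : y ∈ (Pts.pt ⁻¹' closure T : Set (Pts X)) := by rw [h]; trivial
    exact this

variable {Y : Scheme.{0}} [Y.Over SC] [LocallyOfFiniteType (Y ↘ SC)]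

theorem denseRange_iff_pts (f : X ⟶ Y) [f.IsOver SC] [QuasiCompact f] :
    DenseRange f.base ↔ DenseRange (Pts.map f) := by
  have : IsLocallyNoetherian Y := isLocallyNoetherian_of_lft
  have : LocallyOfFiniteType f := lft_hom f
  have hc : IsLocallyConstructible (Set.range f) := by
    rw [← Set.image_univ]
    exact f.isLocallyConstructible_image IsLocallyConstructible.univ
  unfold DenseRange
  rw [range_map]
  exact dense_iff_pts hc

end cluster


section separated

variable {X Y : Scheme.{0}} [X.Over SC] [LocallyOfFiniteType (X ↘ SC)]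
  [Y.Over SC] [LocallyOfFiniteType (Y ↘ SC)]

instance diagonal_isOver (f : X ⟶ Y) [f.IsOver SC] : (Limits.pullback.diagonal f).IsOver SC :=
  ⟨by
    change Limits.pullback.diagonal f ≫ Limits.pullback.fst f f ≫ (X ↘ SC) = X ↘ SC
    rw [← Category.assoc, Limits.pullback.diagonal_fst, Category.id_comp]⟩

/-- the homeomorphism of S4193 as a function into `Function.Pullback` -/
noncomputable def pbMap (f : X ⟶ Y) [f.IsOver SC] (z : Pts (Limits.pullback f f)) :
    (Pts.map f).Pullback (Pts.map f) :=
  ⟨(Pts.map (Limits.pullback.fst f f) z, Pts.map (Limits.pullback.snd f f) z),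
    Pts.map_pullback_condition f f z⟩

lemma pbMap_isHomeomorph (f : X ⟶ Y) [f.IsOver SC] : IsHomeomorph (pbMap f) :=
  pullback_isHomeomorph f f

lemma image_range_diag (f : X ⟶ Y) [f.IsOver SC] :
    pbMap f '' Set.range (Pts.map (Limits.pullback.diagonal f)) =
      (Pts.map f).pullbackDiagonal := by
  ext q
  constructor
  · rintro ⟨_, ⟨x, rfl⟩, rfl⟩
    change Pts.map _ (Pts.map _ x) = Pts.map _ (Pts.map _ x)
    apply Subtype.ext
    change (x.1 ≫ Limits.pullback.diagonal f) ≫ Limits.pullback.fst f f =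
      (x.1 ≫ Limits.pullback.diagonal f) ≫ Limits.pullback.snd f f
    rw [Category.assoc, Category.assoc, Limits.pullback.diagonal_fst,
      Limits.pullback.diagonal_snd]
  · intro hq
    obtain ⟨⟨x, y⟩, hxy⟩ := q
    have hxy' : x = y := hq
    subst hxy'
    refine ⟨_, ⟨x, rfl⟩, ?_⟩
    apply Subtype.ext
    apply Prod.ext
    · apply Subtype.ext
      change (x.1 ≫ Limits.pullback.diagonal f) ≫ Limits.pullback.fst f f = x.1
      rw [Category.assoc, Limits.pullback.diagonal_fst, Category.comp_id]
    · apply Subtype.ext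
      change (x.1 ≫ Limits.pullback.diagonal f) ≫ Limits.pullback.snd f f = x.1
      rw [Category.assoc, Limits.pullback.diagonal_snd, Category.comp_id]

theorem isSeparated_iff_pts (f : X ⟶ Y) [f.IsOver SC] :
    IsSeparated f ↔ IsSeparatedMap (Pts.map f) := by
  rw [isSeparatedMap_iff_isClosed_diagonal, ← image_range_diag]
  have hcl_iff : IsClosed (pbMap f '' Set.range (Pts.map (Limits.pullback.diagonal f))) ↔
      IsClosed (Set.range (Pts.map (Limits.pullback.diagonal f))) :=
    ((pbMap_isHomeomorph f).homeomorph).isClosed_image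
  rw [hcl_iff]
  constructor
  · intro h
    exact (isClosedEmbedding_map (Limits.pullback.diagonal f)).isClosed_range
  · intro h
    rw [range_map] at h
    have hR : IsLocallyClosed (Set.range (Limits.pullback.diagonal f)) :=
      (Limits.pullback.diagonal f).isLocallyClosed_range
    have hcl : IsClosed (Set.range (Limits.pullback.diagonal f)) := by
      rw [← closure_eq_iff_isClosed]
      apply subset_antisymm _ subset_closure
      intro p hp
      by_contra hpR
      have hcb : IsClosed (coborder (Set.range (Limits.pullback.diagonal f)))ᶜ :=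
        hR.isOpen_coborder.isClosed_compl
      have hpm : p ∈ (coborder (Set.range (Limits.pullback.diagonal f)))ᶜ := by
        rw [coborder, compl_compl]
        exact ⟨hp, hpR⟩
      obtain ⟨z, hz1, hz2⟩ := nonempty_inter_closedPoints ⟨p, hpm⟩ hcb.isLocallyClosed
      obtain ⟨y, rfl⟩ := exists_pt_eq (X := Limits.pullback f f) hz2
      rw [coborder, compl_compl] at hz1
      have := mem_closure_pt_preimage hR y hz1.1
      rw [h.closure_eq] at this
      exact hz1.2 this
    exact ⟨IsClosedImmersion.of_isPreimmersion _ hcl⟩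

end separated


section t2

variable {X : Scheme.{0}} [X.Over SC] [LocallyOfFiniteType (X ↘ SC)]

/-- `Spec ℂ` over itself by the identity. -/
noncomputable local instance (priority := 10000) scOverSelf : SC.Over SC := ⟨𝟙 SC⟩

local instance lft_SC : LocallyOfFiniteType (SC ↘ SC) :=
  inferInstanceAs (LocallyOfFiniteType (𝟙 SC))

local instance over_isOver : (X ↘ SC).IsOver SC :=
  ⟨by change (X ↘ SC) ≫ 𝟙 SC = X ↘ SC; exact Category.comp_id _⟩

lemma pts_SC_subsingleton (a b : Pts SC) : a = b := by
  apply Subtype.ext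
  have ha : a.1 ≫ 𝟙 SC = 𝟙 SC := a.2
  have hb : b.1 ≫ 𝟙 SC = 𝟙 SC := b.2
  rw [Category.comp_id] at ha hb
  rw [ha, hb]

theorem isSeparated_iff_t2Space : IsSeparated (X ↘ SC) ↔ T2Space (Pts X) := by
  rw [isSeparated_iff_pts (X ↘ SC)]
  let y0 : Pts SC := ⟨𝟙 SC, Category.comp_id _⟩
  have : Pts.map (X ↘ SC) = fun _ => y0 := by
    funext x
    exact pts_SC_subsingleton _ _
  rw [this]
  exact (t2space_iff_isSeparatedMap y0).symm

end t2

end Groth.Agent.H6.An
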