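import Mathlib

set_option autoImplicit false
open Topology

namespace Groth.Agent.H6.An

/-- the candidate derivative of a polynomial function, applied to a vector -/
lemma polyDeriv_apply {κ : Type*} [Fintype κ] (c : κ → ℂ) (v : κ → ℂ) :
    (∑ k, c k • (ContinuousLinearMap.proj k : (κ → ℂ) →L[ℂ] ℂ)) v = ∑ k, c k * v k := by
  rw [sum_apply]
  rfl

open MvPolynomial in
/-- Strict differentiability of polynomial functions, with the expected derivative. -/
lemma hasStrictFDerivAt_eval {κ : Type*} [Fintype κ] (P : MvPolynomial κ ℂ) (p : κ → ℂ) :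
    HasStrictFDerivAt (fun q : κ → ℂ => MvPolynomial.eval q P)
      (∑ k, MvPolynomial.eval p (MvPolynomial.pderiv k P) •
        (ContinuousLinearMap.proj k : (κ → ℂ) →L[ℂ] ℂ)) p := by
  classical
  induction P using MvPolynomial.induction_on with
  | C a =>
    have hf : (fun q : κ → ℂ => eval q (C a)) = fun _ => a := by ext; simp
    have hd : (∑ k, eval p (pderiv k (C a)) •
        (ContinuousLinearMap.proj k : (κ → ℂ) →L[ℂ] ℂ)) = 0 := by
      ext v
      rw [polyDeriv_apply]
      simp
    rw [hf, hd]
    exact hasStrictFDerivAt_const a p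
  | add P Q hP hQ =>
    have hf : (fun q : κ → ℂ => eval q (P + Q)) =
        (fun q => eval q P) + (fun q => eval q Q) := by ext; simp
    have hd : (∑ k, eval p (pderiv k (P + Q)) •
        (ContinuousLinearMap.proj k : (κ → ℂ) →L[ℂ] ℂ)) =
        (∑ k, eval p (pderiv k P) • (ContinuousLinearMap.proj k : (κ → ℂ) →L[ℂ] ℂ)) +
        (∑ k, eval p (pderiv k Q) • (ContinuousLinearMap.proj k : (κ → ℂ) →L[ℂ] ℂ)) := by
      ext v
      rw [add_apply, polyDeriv_apply, polyDeriv_apply, polyDeriv_apply,
        ← Finset.sum_add_distrib]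
      apply Finset.sum_congr rfl
      intro k _
      simp [add_mul]
    rw [hf, hd]
    exact hP.add hQ
  | mul_X P i hP =>
    have h1 := hP.mul (hasStrictFDerivAt_apply (𝕜 := ℂ) i p)
    have hf : (fun q : κ → ℂ => eval q (P * X i)) =
        (fun q => eval q P) * (fun q : κ → ℂ => q i) := by ext; simp
    have hd : (∑ k, eval p (pderiv k (P * X i)) •
        (ContinuousLinearMap.proj k : (κ → ℂ) →L[ℂ] ℂ)) =
        eval p P • (ContinuousLinearMap.proj i : (κ → ℂ) →L[ℂ] ℂ) +
        p i • (∑ k, eval p (pderiv k P) • (ContinuousLinearMap.proj k : (κ → ℂ) →L[ℂ] ℂ)) := by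
      ext v
      rw [add_apply, smul_apply,
        smul_apply, polyDeriv_apply, polyDeriv_apply]
      simp only [Derivation.leibniz, pderiv_X, smul_eq_mul, map_add, map_mul, eval_X,
        ContinuousLinearMap.proj_apply, Finset.mul_sum]
      simp only [Pi.single_apply, add_mul, Finset.sum_add_distrib]
      congr 1
      · have : ∀ k, eval p P * eval p (if i = k then (1 : MvPolynomial κ ℂ) else 0) * v k =
            if i = k then eval p P * v k else 0 := by
          intro k
          split_ifs <;> simp
        simp only [this]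
        simp
      · apply Finset.sum_congr rfl
        intro k _
        ring
    rw [hf, hd]
    exact h1

end Groth.Agent.H6.An
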