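import Mathlib
import Groth.Agent.Lib.Helper6.An12a
set_option autoImplicit false
open Topology

namespace Groth.Agent.H6.An

open MvPolynomial in
/-- Analytic core: a system of `σ` polynomial equations in variables `ι ⊕ σ` whose Jacobian with
respect to the `σ`-variables is invertible at a point defines, near that point, a set that projects
by an open embedding to the `ι`-coordinates. -/
theorem exists_open_isOpenEmbedding {ι σ : Type*} [Fintype ι] [Fintype σ] [DecidableEq σ]
    (r : σ → MvPolynomial (ι ⊕ σ) ℂ) (p0 : ι ⊕ σ → ℂ)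
    (hdet : (Matrix.of fun j k => eval p0 (pderiv (Sum.inr k) (r j)) : Matrix σ σ ℂ).det ≠ 0) :
    ∃ W : Set (ι ⊕ σ → ℂ), IsOpen W ∧ p0 ∈ W ∧
      IsOpenEmbedding (fun p : ↥({p : ι ⊕ σ → ℂ | ∀ j, eval p (r j) = 0} ∩ W) =>
        fun i : ι => p.1 (Sum.inl i)) := by
  classical
  let Φ : (ι ⊕ σ → ℂ) → (ι ⊕ σ → ℂ) :=
    fun q => Sum.elim (fun i => q (Sum.inl i)) (fun j => eval q (r j))
  let L : (ι ⊕ σ) → ((ι ⊕ σ → ℂ) →L[ℂ] ℂ) :=
    Sum.elim (fun i => ContinuousLinearMap.proj (Sum.inl i))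
      (fun j => ∑ k, eval p0 (pderiv k (r j)) • ContinuousLinearMap.proj k)
  let Φ' : (ι ⊕ σ → ℂ) →L[ℂ] (ι ⊕ σ → ℂ) := ContinuousLinearMap.pi L
  have hΦ : HasStrictFDerivAt Φ Φ' p0 := by
    rw [hasStrictFDerivAt_pi']
    rintro (i | j)
    · exact hasStrictFDerivAt_apply (𝕜 := ℂ) (Sum.inl i) p0
    · exact hasStrictFDerivAt_eval (r j) p0
  have hinj : Function.Injective Φ' := by
    rw [injective_iff_map_eq_zero]
    intro v hv
    have h1 : ∀ i, v (Sum.inl i) = 0 := fun i => congrFun hv (Sum.inl i)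
    have h2 : ∀ j, ∑ k, eval p0 (pderiv k (r j)) * v k = 0 := fun j => by
      have := congrFun hv (Sum.inr j)
      rw [← polyDeriv_apply]
      exact this
    have h3 : (Matrix.of fun j k => eval p0 (pderiv (Sum.inr k) (r j)) : Matrix σ σ ℂ).mulVec
        (fun k => v (Sum.inr k)) = 0 := by
      ext j
      have := h2 j
      rw [Fintype.sum_sum_type] at this
      simp only [h1, mul_zero, Finset.sum_const_zero, zero_add] at this
      simpa [Matrix.mulVec, dotProduct] using this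
    have h4 := Matrix.eq_zero_of_mulVec_eq_zero hdet h3
    ext (i | k)
    · exact h1 i
    · exact congrFun h4 k
  have hsurj : Function.Surjective Φ' :=
    (LinearMap.injective_iff_surjective (f := (Φ' : (ι ⊕ σ → ℂ) →ₗ[ℂ] (ι ⊕ σ → ℂ)))).1 hinj
  let e' : (ι ⊕ σ → ℂ) ≃L[ℂ] (ι ⊕ σ → ℂ) :=
    ContinuousLinearEquiv.ofBijective Φ' (LinearMap.ker_eq_bot.2 hinj)
      (LinearMap.range_eq_top.2 hsurj)
  have he' : (e' : (ι ⊕ σ → ℂ) →L[ℂ] (ι ⊕ σ → ℂ)) = Φ' :=
    ContinuousLinearEquiv.coe_ofBijective _ _ _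
  have hΦ2 : HasStrictFDerivAt Φ (e' : (ι ⊕ σ → ℂ) →L[ℂ] (ι ⊕ σ → ℂ)) p0 := by
    rw [he']; exact hΦ
  let e := hΦ2.toOpenPartialHomeomorph Φ
  have hp0 : p0 ∈ e.source := hΦ2.mem_toOpenPartialHomeomorph_source
  have he : ∀ q, e q = Φ q := fun q => rfl
  refine ⟨e.source, e.open_source, hp0, ?_⟩
  let ext0 : (ι → ℂ) → (ι ⊕ σ → ℂ) := fun y => Sum.elim y 0
  have hext0 : Continuous ext0 := by
    refine continuous_pi ?_
    rintro (i | j)
    · exact continuous_apply i
    · exact continuous_const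
  have hkey : ∀ p : ↥({p : ι ⊕ σ → ℂ | ∀ j, eval p (r j) = 0} ∩ e.source),
      e p.1 = ext0 (fun i => p.1 (Sum.inl i)) := by
    intro p
    rw [he]
    ext (i | j)
    · rfl
    · exact p.2.1 j
  apply IsOpenEmbedding.of_continuous_injective_isOpenMap
  · exact continuous_pi fun i => (continuous_apply (Sum.inl i)).comp continuous_subtype_val
  · intro p p' hpp'
    apply Subtype.ext
    rw [← e.left_inv p.2.2, ← e.left_inv p'.2.2, hkey, hkey]
    exact congrArg (fun y => e.symm (ext0 y)) hpp'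
  · intro O hO
    obtain ⟨O', hO', rfl⟩ := isOpen_induced_iff.1 hO
    have : (fun p : ↥({p : ι ⊕ σ → ℂ | ∀ j, eval p (r j) = 0} ∩ e.source) =>
        fun i : ι => p.1 (Sum.inl i)) '' (Subtype.val ⁻¹' O') =
        ext0 ⁻¹' (e.target ∩ e.symm ⁻¹' O') := by
      ext y
      constructor
      · rintro ⟨p, hp, rfl⟩
        refine ⟨?_, ?_⟩
        · rw [← hkey]; exact e.map_source p.2.2
        · change e.symm (ext0 _) ∈ O'
          rw [← hkey, e.left_inv p.2.2]
          exact hp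
      · rintro ⟨hy1, hy2⟩
        have hq : e.symm (ext0 y) ∈ e.source := e.map_target hy1
        have hq2 : Φ (e.symm (ext0 y)) = ext0 y := e.right_inv hy1
        refine ⟨⟨e.symm (ext0 y), ⟨fun j => ?_, hq⟩⟩, hy2, ?_⟩
        · exact congrFun hq2 (Sum.inr j)
        · funext i
          exact congrFun hq2 (Sum.inl i)
    rw [this]
    exact (e.isOpen_inter_preimage_symm hO').preimage hext0

end Groth.Agent.H6.An
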