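import Mathlib
set_option autoImplicit false

namespace Groth.Agent.H6.An

open MvPolynomial

section PsiDef

variable {A : Type*} [CommRing A] (sA : ℂ →+* A) {ι σ : Type*} (a : ι → A)

/-- The substitution `ℂ[y_ι, x_σ] → A[x_σ]`, `y_i ↦ a_i`. -/
noncomputable def Psi : MvPolynomial (ι ⊕ σ) ℂ →+* MvPolynomial σ A :=
  eval₂Hom ((C : A →+* MvPolynomial σ A).comp sA)
    (Sum.elim (fun i => C (a i)) (fun k => X k))

@[simp] lemma Psi_C (c : ℂ) : Psi (σ := σ) sA a (C c) = C (sA c) := by
  simp [Psi]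

@[simp] lemma Psi_X_inl (i : ι) : Psi (σ := σ) sA a (X (Sum.inl i)) = C (a i) := by
  simp [Psi]

@[simp] lemma Psi_X_inr (k : σ) : Psi sA a (X (Sum.inr k) : MvPolynomial (ι ⊕ σ) ℂ) = X k := by
  simp [Psi]

lemma Psi_surjective (ha : Function.Surjective (eval₂Hom sA a)) :
    Function.Surjective (Psi (σ := σ) sA a) := by
  intro Q
  induction Q using MvPolynomial.induction_on with
  | C b =>
    obtain ⟨R, rfl⟩ := ha b
    refine ⟨rename Sum.inl R, ?_⟩
    induction R using MvPolynomial.induction_on with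
    | C c => simp
    | add R1 R2 h1 h2 => simp only [map_add, h1, h2]
    | mul_X R i h => simp only [map_mul, rename_X, h, Psi_X_inl, eval₂Hom_X']
  | add Q1 Q2 h1 h2 =>
    obtain ⟨R1, rfl⟩ := h1
    obtain ⟨R2, rfl⟩ := h2
    exact ⟨R1 + R2, map_add _ _ _⟩
  | mul_X Q k h =>
    obtain ⟨R, rfl⟩ := h
    exact ⟨R * X (Sum.inr k), by rw [map_mul, Psi_X_inr]⟩

lemma Psi_pderiv (k : σ) (Q : MvPolynomial (ι ⊕ σ) ℂ) :
    Psi sA a (pderiv (Sum.inr k) Q) = pderiv k (Psi sA a Q) := by
  classical
  induction Q using MvPolynomial.induction_on with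
  | C c => simp
  | add Q1 Q2 h1 h2 => simp only [map_add, h1, h2]
  | mul_X Q i h =>
    rw [Derivation.leibniz, map_mul, Derivation.leibniz]
    simp only [smul_eq_mul, map_add, map_mul, h]
    rcases i with i | l
    · simp [pderiv_X]
    · simp only [Psi_X_inr, pderiv_X, Pi.single_apply, Sum.inr.injEq]
      split_ifs <;> simp

/-- evaluating after the substitution -/
lemma eval₂Hom_comp_Psi (ψ : A →+* ℂ) (hψ : ψ.comp sA = RingHom.id ℂ) (x : σ → ℂ) :
    (eval₂Hom ψ x).comp (Psi sA a) = eval (Sum.elim (fun i => ψ (a i)) x) := by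
  apply MvPolynomial.ringHom_ext
  · intro c
    have := congrArg (fun f => f c) hψ
    simpa using this
  · rintro (i | k) <;> simp

end PsiDef

section Pres

variable {A B : Type*} [CommRing A] [CommRing B] [Algebra A B] (sA : ℂ →+* A) (sB : ℂ →+* B)
  (hs : (algebraMap A B).comp sA = sB) {ι σ : Type*} (a : ι → A)
  (P : Algebra.Presentation A B σ σ)

/-- the generators of `B` over `ℂ` obtained from generators of `A` and a presentation -/
noncomputable def genB : ι ⊕ σ → B := Sum.elim (fun i => algebraMap A B (a i)) P.val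

include hs in
lemma aeval_comp_Psi :
    ((aeval P.val : MvPolynomial σ A →ₐ[A] B) : MvPolynomial σ A →+* B).comp (Psi sA a) =
      eval₂Hom sB (genB a P) := by
  apply MvPolynomial.ringHom_ext
  · intro c
    have := congrArg (fun f => f c) hs
    simpa using this
  · rintro (i | k) <;> simp [genB]

include hs in
lemma genB_surjective (ha : Function.Surjective (eval₂Hom sA a)) :
    Function.Surjective (eval₂Hom sB (genB a P)) := by
  rw [← aeval_comp_Psi sA sB hs a P]
  exact P.aeval_val_surjective.comp (Psi_surjective sA a ha)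

end Pres

end Groth.Agent.H6.An

namespace Groth.Agent.H6.An

open MvPolynomial

section Pres2

variable {A B : Type*} [CommRing A] [CommRing B] [Algebra A B] (sA : ℂ →+* A) (sB : ℂ →+* B)
  (hs : (algebraMap A B).comp sA = sB) {ι σ : Type*} (a : ι → A)

include hs in
lemma eval_eq_zero_of_mem_ker (P : Algebra.Presentation A B σ σ)
    (r' : σ → MvPolynomial (ι ⊕ σ) ℂ) (hr : ∀ j, Psi sA a (r' j) = P.relation j)
    (ψ : A →+* ℂ) (hψ : ψ.comp sA = RingHom.id ℂ) (p : ι ⊕ σ → ℂ)
    (hp1 : ∀ i, p (Sum.inl i) = ψ (a i)) (hp2 : ∀ j, eval p (r' j) = 0)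
    (Q : MvPolynomial (ι ⊕ σ) ℂ) (hQ : Q ∈ RingHom.ker (eval₂Hom sB (genB a P))) :
    eval p Q = 0 := by
  have hp : p = Sum.elim (fun i => ψ (a i)) (fun k => p (Sum.inr k)) := by
    ext (i | k)
    · exact hp1 i
    · rfl
  have hev : ∀ R, eval p R = eval₂Hom ψ (fun k => p (Sum.inr k)) (Psi sA a R) := by
    intro R
    have := congrArg (fun f => f R) (eval₂Hom_comp_Psi sA a ψ hψ (fun k => p (Sum.inr k)))
    rw [← hp] at this
    exact this.symm
  rw [hev]
  have h1 : Psi sA a Q ∈ P.ker := by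
    rw [P.ker_eq_ker_aeval_val, RingHom.mem_ker]
    have := congrArg (fun f => f Q) (aeval_comp_Psi sA sB hs a P)
    rw [RingHom.mem_ker] at hQ
    simp only [RingHom.coe_comp, Function.comp_apply] at this
    rw [hQ] at this
    exact this
  rw [← P.span_range_relation_eq_ker] at h1
  have h2 : Ideal.span (Set.range P.relation) ≤
      RingHom.ker (eval₂Hom ψ (fun k => p (Sum.inr k))) := by
    rw [Ideal.span_le]
    rintro _ ⟨j, rfl⟩
    change _ ∈ RingHom.ker _
    rw [RingHom.mem_ker, ← hr j, ← hev]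
    exact hp2 j
  exact RingHom.mem_ker.1 (h2 h1)

include hs in
lemma jacobian_det_ne_zero [Fintype σ] [DecidableEq σ]
    (P : Algebra.SubmersivePresentation A B σ σ) (hmap : ∀ k, P.map k = k)
    (r' : σ → MvPolynomial (ι ⊕ σ) ℂ) (hr : ∀ j, Psi sA a (r' j) = P.relation j)
    (χ : B →+* ℂ) (p : ι ⊕ σ → ℂ)
    (hp : ∀ Q, eval p Q = χ (eval₂Hom sB (genB a P.toPresentation) Q)) :
    (Matrix.of fun j k => eval p (pderiv (Sum.inr k) (r' j)) : Matrix σ σ ℂ).det ≠ 0 := by
  have hD : (Matrix.of fun j k => eval p (pderiv (Sum.inr k) (r' j)) : Matrix σ σ ℂ) =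
      ((χ.comp (aeval P.val : MvPolynomial σ A →ₐ[A] B).toRingHom).mapMatrix
        P.jacobiMatrix).transpose := by
    ext j k
    simp only [Matrix.of_apply, Matrix.transpose_apply, RingHom.mapMatrix_apply, Matrix.map_apply]
    rw [Algebra.PreSubmersivePresentation.jacobiMatrix_apply, hmap, ← hr j, ← Psi_pderiv, hp]
    have := congrArg (fun f => f (pderiv (Sum.inr k) (r' j)))
      (aeval_comp_Psi sA sB hs a P.toPresentation)
    simp only [RingHom.coe_comp, Function.comp_apply] at this
    rw [← this]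
    rfl
  rw [hD, Matrix.det_transpose, ← RingHom.map_det]
  have hu : IsUnit P.jacobian := P.jacobian_isUnit
  rw [Algebra.PreSubmersivePresentation.jacobian_eq_jacobiMatrix_det] at hu
  have hu2 := hu.map χ
  rw [P.algebraMap_apply] at hu2
  exact hu2.ne_zero

end Pres2

end Groth.Agent.H6.An

namespace Groth.Agent.H6.An

lemma exists_submersive_id {A B : Type*} [CommRing A] [CommRing B] [Algebra A B]
    [h : Algebra.IsStandardSmoothOfRelativeDimension 0 A B] :
    ∃ (σ : Type) (_ : Fintype σ) (_ : DecidableEq σ) (P : Algebra.SubmersivePresentation A B σ σ),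
      ∀ k, P.map k = k := by
  classical
  obtain ⟨ι', σ, hσ, hι', P, hP⟩ := h.out
  have hle : Nat.card ι' ≤ Nat.card σ := by
    have : Nat.card ι' - Nat.card σ = 0 := hP
    omega
  have hbij : Function.Bijective P.map := P.map_inj.bijective_of_nat_card_le hle
  let e : σ ≃ ι' := Equiv.ofBijective P.map hbij
  have : Fintype σ := Fintype.ofFinite σ
  refine ⟨σ, inferInstance, inferInstance, P.reindex e (Equiv.refl σ), fun k => ?_⟩
  change (e.symm ∘ P.map ∘ (Equiv.refl σ)) k = k
  simp only [Function.comp_apply, Equiv.refl_apply]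
  exact e.symm_apply_apply k

end Groth.Agent.H6.An
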