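import Groth.Agent.Lib.Helper6.An2

set_option autoImplicit false

open AlgebraicGeometry CategoryTheory TopologicalSpace Opposite An

namespace Groth.Agent.H6.An

section fibre

variable {X Y : Scheme.{0}} [X.Over SC] [Y.Over SC]

lemma lft_hom [LocallyOfFiniteType (X ↘ SC)] (f : X ⟶ Y) [f.IsOver SC] :
    LocallyOfFiniteType f := by
  have : LocallyOfFiniteType (f ≫ Y ↘ SC) := by rw [comp_over f SC]; infer_instance
  exact locallyOfFiniteType_of_comp f (Y ↘ SC)

/-- Every `ℂ`-point of `Y` whose underlying point lies in the image of `f` lifts to `X`. -/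
theorem range_map [LocallyOfFiniteType (X ↘ SC)] (f : X ⟶ Y) [f.IsOver SC] :
    Set.range (Pts.map f) = Pts.pt ⁻¹' Set.range f := by
  ext y
  constructor
  · rintro ⟨x, rfl⟩
    rw [Set.mem_preimage, Pts.pt_map]
    exact ⟨_, rfl⟩
  · rintro ⟨p, hp⟩
    let P := Limits.pullback f y.1
    let _ : P.Over SC := ⟨Limits.pullback.snd f y.1⟩
    have : LocallyOfFiniteType f := lft_hom f
    have : LocallyOfFiniteType (P ↘ SC) :=
      inferInstanceAs (LocallyOfFiniteType (Limits.pullback.snd f y.1))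
    obtain ⟨q, -, -⟩ := Scheme.Pullback.exists_preimage_pullback (f := f) (g := y.1) p cpt hp
    obtain ⟨z⟩ := (nonempty_iff_pts (X := P)).1 ⟨q⟩
    have hz : z.1 ≫ Limits.pullback.snd f y.1 = 𝟙 SC := z.2
    refine ⟨⟨z.1 ≫ Limits.pullback.fst f y.1, ?_⟩, ?_⟩
    · rw [Category.assoc, ← comp_over f SC, Limits.pullback.condition_assoc, y.2,
        Category.comp_id, hz]
    · apply Subtype.ext
      change (z.1 ≫ Limits.pullback.fst f y.1) ≫ f = y.1
      rw [Category.assoc, Limits.pullback.condition, ← Category.assoc, hz, Category.id_comp]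

end fibre


section closedImm

variable {X Y : Scheme.{0}} [X.Over SC] [Y.Over SC]

lemma strHom_comp (f : X ⟶ Y) [f.IsOver SC] :
    f.appTop.hom.comp (strHom Y) = strHom X := by
  unfold strHom
  rw [← RingHom.comp_assoc, ← CommRingCat.hom_comp, ← Scheme.Hom.comp_appTop, comp_over f SC]

lemma evTop_map (f : X ⟶ Y) [f.IsOver SC] (x : Pts X) (g : Γ(Y, ⊤)) :
    (Pts.map f x).evTop g = x.evTop (f.appTop g) := by
  have := ev_map_appLE f x ⊤ ⊤ le_top (Opens.mem_top _) g
  have h2 : f.appLE ⊤ ⊤ le_top = f.appTop := (f.app_eq_appLE (U := ⊤)).symm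
  rw [h2] at this
  exact this

lemma coordMap_map {ι : Type*} (f : X ⟶ Y) [f.IsOver SC] (t : ι → Γ(Y, ⊤)) (x : Pts X) :
    coordMap t (Pts.map f x) = coordMap (fun i => f.appTop (t i)) x := by
  funext i
  exact evTop_map f x (t i)

/-- closed immersions of affine schemes induce closed embeddings. -/
lemma isClosedEmbedding_map_of_isAffine [LocallyOfFiniteType (Y ↘ SC)] [IsAffine Y]
    (f : X ⟶ Y) [f.IsOver SC] [IsClosedImmersion f] :
    Topology.IsClosedEmbedding (Pts.map f) := by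
  obtain ⟨hX, hsurj⟩ := IsClosedImmersion.isAffine_surjective_of_isAffine (f := f)
  obtain ⟨n, t, ht⟩ := exists_generators (X := Y)
  have hs : Function.Surjective (MvPolynomial.eval₂Hom (strHom X) fun i => f.appTop (t i)) := by
    have : (MvPolynomial.eval₂Hom (strHom X) fun i => f.appTop (t i)) =
        f.appTop.hom.comp (MvPolynomial.eval₂Hom (strHom Y) t) := by
      apply MvPolynomial.ringHom_ext
      · intro c
        simp only [MvPolynomial.eval₂Hom_C, RingHom.comp_apply]
        rw [← strHom_comp f]; rfl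
      · intro i
        simp
    rw [this]
    exact hsurj.comp ht
  have h1 := isClosedEmbedding_coordMap (X := X) _ hs
  have h2 := isClosedEmbedding_coordMap (X := Y) t ht
  have h3 : coordMap t ∘ Pts.map f = coordMap fun i => f.appTop (t i) := by
    funext x
    exact coordMap_map f t x
  rw [← h3] at h1
  exact (Topology.IsClosedEmbedding.of_comp_iff h2).1 h1

end closedImm


section restrict

variable {X Y : Scheme.{0}} [X.Over SC] [Y.Over SC]

instance morphismRestrict_isOver (f : X ⟶ Y) [f.IsOver SC] (U : Y.Opens) :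
    (f ∣_ U).IsOver SC :=
  ⟨by
    change (f ∣_ U) ≫ U.ι ≫ (Y ↘ SC) = (f ⁻¹ᵁ U).ι ≫ (X ↘ SC)
    rw [← Category.assoc, morphismRestrict_ι, Category.assoc, comp_over f SC]⟩

lemma map_restrict_comm (f : X ⟶ Y) [f.IsOver SC] (U : Y.Opens) (x : Pts (f ⁻¹ᵁ U).toScheme) :
    Pts.map f (Pts.map (f ⁻¹ᵁ U).ι x) = Pts.map U.ι (Pts.map (f ∣_ U) x) := by
  apply Subtype.ext
  change (x.1 ≫ (f ⁻¹ᵁ U).ι) ≫ f = (x.1 ≫ (f ∣_ U)) ≫ U.ι
  rw [Category.assoc, Category.assoc, morphismRestrict_ι]

lemma preimage_map_subset_range (f : X ⟶ Y) [f.IsOver SC] (U : Y.Opens) :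
    Pts.map f ⁻¹' (Pts.pt ⁻¹' (U : Set Y)) ⊆ Set.range (Pts.map (f ⁻¹ᵁ U).ι) := by
  intro x hx
  rw [range_map_ι]
  rw [Set.mem_preimage, Set.mem_preimage, Pts.pt_map] at hx
  exact hx

/-- A general principle: if `f` restricts to embeddings over an affine open cover, then
`Pts.map f` is an embedding. -/
lemma isEmbedding_map_of_affine_local (f : X ⟶ Y) [f.IsOver SC]
    (H : ∀ U : Y.affineOpens, Topology.IsEmbedding (Pts.map (f ∣_ U.1))) :
    Topology.IsEmbedding (Pts.map f) := by
  refine isEmbedding_of_iSup_eq_top_of_preimage_subset_range (Pts.map f) (Pts.continuous_map f)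
    (fun U : Y.affineOpens => ⟨Pts.pt ⁻¹' (U.1 : Set Y), Pts.isOpen_preimage_pt U.1⟩) ?_
    (fun U => Pts (f ⁻¹ᵁ U.1).toScheme) (fun U => Pts.map (f ⁻¹ᵁ U.1).ι)
    (fun U => Pts.continuous_map _) (fun U => preimage_map_subset_range f U.1) ?_
  · rintro _ ⟨x, rfl⟩
    obtain ⟨_, ⟨U, hU, rfl⟩, hxU, -⟩ :=
      (Y.isBasis_affineOpens).exists_subset_of_mem_open
        (Set.mem_univ (Pts.map f x).pt) isOpen_univ
    simp only [Opens.coe_iSup, Opens.coe_mk, Set.mem_iUnion]
    exact ⟨⟨U, hU⟩, hxU⟩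
  · intro U
    have : Pts.map f ∘ Pts.map (f ⁻¹ᵁ U.1).ι = Pts.map U.1.ι ∘ Pts.map (f ∣_ U.1) := by
      funext x
      exact map_restrict_comm f U.1 x
    rw [this]
    exact (isOpenEmbedding_map_ι U.1).isEmbedding.comp (H U)

theorem isClosedEmbedding_map [LocallyOfFiniteType (X ↘ SC)] [LocallyOfFiniteType (Y ↘ SC)]
    (f : X ⟶ Y) [f.IsOver SC] [IsClosedImmersion f] :
    Topology.IsClosedEmbedding (Pts.map f) := by
  refine ⟨isEmbedding_map_of_affine_local f fun U => ?_, ?_⟩
  · have : IsAffine U.1.toScheme := U.2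
    exact (isClosedEmbedding_map_of_isAffine (f ∣_ U.1)).isEmbedding
  · rw [range_map]
    exact f.isClosedEmbedding.isClosed_range.preimage Pts.continuous_pt

end restrict


section immersion

variable {X Y : Scheme.{0}} [X.Over SC] [Y.Over SC]

instance liftCoborder_isOver (f : X ⟶ Y) [f.IsOver SC] [IsImmersion f] :
    f.liftCoborder.IsOver SC :=
  ⟨by
    change f.liftCoborder ≫ f.coborderRange.ι ≫ (Y ↘ SC) = X ↘ SC
    rw [← Category.assoc, Scheme.Hom.liftCoborder_ι, comp_over f SC]⟩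

theorem isEmbedding_map_of_isImmersion [LocallyOfFiniteType (X ↘ SC)]
    [LocallyOfFiniteType (Y ↘ SC)] (f : X ⟶ Y) [f.IsOver SC] [IsImmersion f] :
    Topology.IsEmbedding (Pts.map f) ∧ IsLocallyClosed (Set.range (Pts.map f)) := by
  have h1 := isClosedEmbedding_map f.liftCoborder
  have h2 := isOpenEmbedding_map_ι f.coborderRange
  have h3 : Pts.map f = Pts.map f.coborderRange.ι ∘ Pts.map f.liftCoborder := by
    funext x
    apply Subtype.ext
    change x.1 ≫ f = (x.1 ≫ f.liftCoborder) ≫ f.coborderRange.ι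
    rw [Category.assoc, Scheme.Hom.liftCoborder_ι]
  refine ⟨h3 ▸ h2.isEmbedding.comp h1.isEmbedding, ?_⟩
  rw [h3, Set.range_comp]
  exact h1.isClosed_range.isLocallyClosed.image h2.isInducing h2.isOpen_range.isLocallyClosed

end immersion

end Groth.Agent.H6.An
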