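import Mathlib
import Groth.Agent.Lib.Helper6.An12b
import Groth.Agent.Lib.Helper6.An12c
import Groth.Agent.Lib.Helper6.An3
set_option autoImplicit false
open AlgebraicGeometry CategoryTheory An Topology

namespace Groth.Agent.H6.An

/-- A map fitting in a square with embeddings and an open embedding, cartesian on points, is an
open embedding. -/
lemma isOpenEmbedding_of_square {O Y' Z S : Type*} [TopologicalSpace O] [TopologicalSpace Y']
    [TopologicalSpace Z] [TopologicalSpace S]
    {f : O → Y'} {cY : Y' → Z} {h : S → Z} {c' : O → S}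
    (hf : Continuous f) (hcY : IsEmbedding cY) (hh : IsOpenEmbedding h) (hc' : IsEmbedding c')
    (hsq : ∀ o, cY (f o) = h (c' o)) (hrange : ∀ s, h s ∈ Set.range cY → s ∈ Set.range c') :
    IsOpenEmbedding f := by
  have hemb : IsEmbedding f := by
    apply IsEmbedding.of_comp hf hcY.continuous
    have : cY ∘ f = h ∘ c' := funext hsq
    rw [this]
    exact hh.isEmbedding.comp hc'
  refine ⟨hemb, ?_⟩
  have : Set.range f = cY ⁻¹' Set.range h := by
    ext y
    constructor
    · rintro ⟨o, rfl⟩
      exact ⟨c' o, (hsq o).symm⟩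
    · rintro ⟨s, hs⟩
      obtain ⟨o, rfl⟩ := hrange s ⟨y, hs.symm⟩
      refine ⟨o, hcY.injective ?_⟩
      rw [hsq, hs]
  rw [this]
  exact hh.isOpen_range.preimage hcY.continuous

variable {X Y : Scheme.{0}} [X.Over SC] [Y.Over SC]

theorem isLocalHomeomorph_map_of_isAffine [IsAffine X] [IsAffine Y]
    [LocallyOfFiniteType (Y ↘ SC)] (g : X ⟶ Y) [g.IsOver SC] (hg : g.appTop.hom.Etale) :
    IsLocalHomeomorph (Pts.map g) := by
  classical
  let _ : Algebra Γ(Y, ⊤) Γ(X, ⊤) := g.appTop.hom.toAlgebra
  have h0 : Algebra.IsStandardSmoothOfRelativeDimension 0 Γ(Y, ⊤) Γ(X, ⊤) :=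
    RingHom.etale_iff_isStandardSmoothOfRelativeDimension_zero.1 hg
  obtain ⟨σ, _, _, P, hmap⟩ := exists_submersive_id (A := Γ(Y, ⊤)) (B := Γ(X, ⊤))
  obtain ⟨n, a, ha⟩ := exists_generators (X := Y)
  have hs : (algebraMap Γ(Y, ⊤) Γ(X, ⊤)).comp (strHom Y) = strHom X := strHom_comp g
  have hsurj := genB_surjective (strHom Y) (strHom X) hs a P.toPresentation ha
  choose r' hr' using fun j => Psi_surjective (σ := σ) (strHom Y) a ha (P.relation j)
  rw [isLocalHomeomorph_iff_isOpenEmbedding_restrict]
  intro x0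
  have hdet := jacobian_det_ne_zero (strHom Y) (strHom X) hs a P hmap r' hr' (evTopHom x0)
    (coordMap (genB a P.toPresentation) x0)
    (fun Q => (evTop_eval₂ (genB a P.toPresentation) x0 Q).symm)
  obtain ⟨W, hW, hp0W, hemb⟩ := exists_open_isOpenEmbedding r' _ hdet
  refine ⟨coordMap (genB a P.toPresentation) ⁻¹' W,
    (hW.preimage (continuous_coordMap _)).mem_nhds hp0W, ?_⟩
  have hcX := isClosedEmbedding_coordMap (genB a P.toPresentation) hsurj
  have hcY := isClosedEmbedding_coordMap a ha
  -- coordinates of the image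
  have hcoord : ∀ x : Pts X, ∀ i, coordMap (genB a P.toPresentation) x (Sum.inl i) =
      coordMap a (Pts.map g x) i := by
    intro x i
    rw [coordMap_map]
    rfl
  -- relations vanish on points
  have hrel : ∀ x : Pts X, ∀ j,
      MvPolynomial.eval (coordMap (genB a P.toPresentation) x) (r' j) = 0 := by
    intro x j
    rw [← evTop_eval₂]
    have := congrArg (fun f => f (r' j)) (aeval_comp_Psi (strHom Y) (strHom X) hs a P.toPresentation)
    simp only [RingHom.coe_comp, Function.comp_apply] at this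
    rw [← this, hr' j]
    have h2 : (MvPolynomial.aeval P.val) (P.relation j) = 0 := P.aeval_val_relation j
    erw [h2]
    exact map_zero (evTopHom x)
  refine isOpenEmbedding_of_square (cY := coordMap a) (h := fun p :
      ↥({p : Fin n ⊕ σ → ℂ | ∀ j, MvPolynomial.eval p (r' j) = 0} ∩ W) =>
        fun i : Fin n => p.1 (Sum.inl i))
    (c' := fun o => ⟨coordMap (genB a P.toPresentation) o.1, ⟨hrel o.1, o.2⟩⟩)
    ((Pts.continuous_map g).comp continuous_subtype_val) hcY.isEmbedding hemb ?_ ?_ ?_
  · -- c' is an embedding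
    apply IsEmbedding.of_comp (g := Subtype.val) _ continuous_subtype_val
    · exact hcX.isEmbedding.comp IsEmbedding.subtypeVal
    · exact ((continuous_coordMap _).comp continuous_subtype_val).subtype_mk _
  · intro o
    funext i
    exact (hcoord o.1 i).symm
  · rintro ⟨p, hp1, hp2⟩ ⟨y, hy⟩
    have hp : p ∈ Set.range (coordMap (genB a P.toPresentation)) := by
      rw [range_coordMap _ hsurj]
      intro Q hQ
      refine eval_eq_zero_of_mem_ker (strHom Y) (strHom X) hs a P.toPresentation r' hr'
        (evTopHom y) (evTopHom_comp_strHom y) p (fun i => ?_) hp1 Q hQ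
      exact (congrFun hy i).symm
    obtain ⟨x, rfl⟩ := hp
    exact ⟨⟨x, hp2⟩, rfl⟩

end Groth.Agent.H6.An
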