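import Groth.Agent.Lib.Helper6.An4

set_option autoImplicit false
set_option linter.unusedSectionVars false

open AlgebraicGeometry CategoryTheory TopologicalSpace Opposite An Topology

namespace Groth.Agent.H6.An

section gen

universe u

/-- morphism into an affine scheme from a ring hom on global sections -/
noncomputable def homOfΓ {X : Scheme.{u}} [IsAffine X] {R : CommRingCat.{u}} (φ : Γ(X, ⊤) ⟶ R) :
    Spec R ⟶ X := Spec.map φ ≫ X.isoSpec.inv

lemma isoSpec_inv_appTop' (X : Scheme.{u}) [IsAffine X] :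
    X.isoSpec.inv.appTop = (Scheme.ΓSpecIso Γ(X, ⊤)).inv := by
  have h3 : X.isoSpec.hom.appTop ≫ X.isoSpec.inv.appTop = 𝟙 _ := by
    rw [← Scheme.Hom.comp_appTop, X.isoSpec.inv_hom_id]; rfl
  have h4 : X.isoSpec.hom.appTop = (Scheme.ΓSpecIso Γ(X, ⊤)).hom := by
    simp [Scheme.isoSpec]
  rw [h4] at h3
  rw [← cancel_epi (Scheme.ΓSpecIso Γ(X, ⊤)).hom, h3, Iso.hom_inv_id]

@[reassoc]
lemma homOfΓ_appTop {X : Scheme.{u}} [IsAffine X] {R : CommRingCat.{u}} (φ : Γ(X, ⊤) ⟶ R) :
    (homOfΓ φ).appTop ≫ (Scheme.ΓSpecIso R).hom = φ := by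
  unfold homOfΓ
  rw [Scheme.Hom.comp_appTop, Category.assoc, Scheme.ΓSpecIso_naturality, isoSpec_inv_appTop',
    Iso.inv_hom_id_assoc]

/-- Global sections of a fibre product of affine schemes are generated by the two factors. -/
theorem pullback_gen {X Y S : Scheme.{u}} [IsAffine X] [IsAffine Y] [IsAffine S]
    (f : X ⟶ S) (g : Y ⟶ S) :
    (Limits.pullback.fst f g).appTop.hom.range ⊔ (Limits.pullback.snd f g).appTop.hom.range = ⊤ := by
  set P := Limits.pullback f g with hP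
  set G' : Subring Γ(P, ⊤) :=
    (Limits.pullback.fst f g).appTop.hom.range ⊔ (Limits.pullback.snd f g).appTop.hom.range with hG'
  let j : CommRingCat.of G' ⟶ Γ(P, ⊤) := CommRingCat.ofHom G'.subtype
  let a' : Γ(X, ⊤) ⟶ CommRingCat.of G' := CommRingCat.ofHom
    ((Limits.pullback.fst f g).appTop.hom.codRestrict G' fun x => by
      exact (le_sup_left : _ ≤ G') ⟨x, rfl⟩)
  let b' : Γ(Y, ⊤) ⟶ CommRingCat.of G' := CommRingCat.ofHom
    ((Limits.pullback.snd f g).appTop.hom.codRestrict G' fun x => by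
      exact (le_sup_right : _ ≤ G') ⟨x, rfl⟩)
  have ha : a' ≫ j = (Limits.pullback.fst f g).appTop := by
    apply CommRingCat.hom_ext; ext x; rfl
  have hb : b' ≫ j = (Limits.pullback.snd f g).appTop := by
    apply CommRingCat.hom_ext; ext x; rfl
  have hj : Mono j := ConcreteCategory.mono_of_injective j Subtype.val_injective
  have hcond : homOfΓ a' ≫ f = homOfΓ b' ≫ g := by
    apply ext_of_isAffine
    rw [← cancel_mono (Scheme.ΓSpecIso _).hom, ← cancel_mono j, Scheme.Hom.comp_appTop,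
      Scheme.Hom.comp_appTop, Category.assoc, Category.assoc, Category.assoc, Category.assoc,
      homOfΓ_appTop_assoc, homOfΓ_appTop_assoc, ha, hb, ← Scheme.Hom.comp_appTop,
      ← Scheme.Hom.comp_appTop, Limits.pullback.condition]
  let u : Spec (CommRingCat.of G') ⟶ P := Limits.pullback.lift _ _ hcond
  let π : P ⟶ Spec (CommRingCat.of G') := P.toSpecΓ ≫ Spec.map j
  have hπ : π.appTop = (Scheme.ΓSpecIso _).hom ≫ j := by
    change (P.toSpecΓ ≫ Spec.map j).appTop = _
    rw [Scheme.Hom.comp_appTop, Scheme.toSpecΓ_appTop, Scheme.ΓSpecIso_naturality]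
  have h1 : π ≫ homOfΓ a' = Limits.pullback.fst f g := by
    apply ext_of_isAffine
    rw [Scheme.Hom.comp_appTop, hπ, ← Category.assoc, homOfΓ_appTop, ha]
  have h2 : π ≫ homOfΓ b' = Limits.pullback.snd f g := by
    apply ext_of_isAffine
    rw [Scheme.Hom.comp_appTop, hπ, ← Category.assoc, homOfΓ_appTop, hb]
  have h3 : π ≫ u = 𝟙 P := by
    apply Limits.pullback.hom_ext
    · rw [Category.assoc, Limits.pullback.lift_fst, h1, Category.id_comp]
    · rw [Category.assoc, Limits.pullback.lift_snd, h2, Category.id_comp]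
  have h4 : u.appTop ≫ (Scheme.ΓSpecIso _).hom ≫ j = 𝟙 _ := by
    rw [← hπ, ← Scheme.Hom.comp_appTop, h3]; rfl
  rw [eq_top_iff]
  intro x _
  have := congrArg (fun φ => φ.hom x) h4
  simp only [CommRingCat.hom_comp, RingHom.comp_apply, CommRingCat.hom_id, RingHom.id_apply] at this
  rw [← this]
  exact Subtype.property _

end gen


section prodAffine

variable {X Y S : Scheme.{0}} [X.Over SC] [Y.Over SC] [S.Over SC]

/-- The pair of projections on points. -/
noncomputable def pairMap (f : X ⟶ S) (g : Y ⟶ S) [f.IsOver SC] [g.IsOver SC]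
    (z : Pts (Limits.pullback f g)) : Pts X × Pts Y :=
  (Pts.map (Limits.pullback.fst f g) z, Pts.map (Limits.pullback.snd f g) z)

lemma continuous_pairMap (f : X ⟶ S) (g : Y ⟶ S) [f.IsOver SC] [g.IsOver SC] :
    Continuous (pairMap f g) :=
  (Pts.continuous_map _).prodMk (Pts.continuous_map _)

lemma pairMap_injective (f : X ⟶ S) (g : Y ⟶ S) [f.IsOver SC] [g.IsOver SC] :
    Function.Injective (pairMap f g) := by
  intro z w h
  apply Subtype.ext
  apply Limits.pullback.hom_ext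
  · exact congrArg (fun p => p.1.1) h
  · exact congrArg (fun p => p.2.1) h

lemma eval₂Hom_comp_appTop {ι : Type*} (f : X ⟶ Y) [f.IsOver SC] (t : ι → Γ(Y, ⊤)) :
    f.appTop.hom.comp (MvPolynomial.eval₂Hom (strHom Y) t) =
      MvPolynomial.eval₂Hom (strHom X) (fun i => f.appTop (t i)) := by
  apply MvPolynomial.ringHom_ext
  · intro c
    simp only [MvPolynomial.eval₂Hom_C, RingHom.comp_apply]
    rw [← strHom_comp f]; rfl
  · intro i
    simp

lemma isEmbedding_pairMap_of_isAffine [IsAffine X] [IsAffine Y] [IsAffine S]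
    [LocallyOfFiniteType (X ↘ SC)] [LocallyOfFiniteType (Y ↘ SC)]
    (f : X ⟶ S) (g : Y ⟶ S) [f.IsOver SC] [g.IsOver SC] :
    IsEmbedding (pairMap f g) := by
  obtain ⟨n, a, ha⟩ := exists_generators (X := X)
  obtain ⟨m, b, hb⟩ := exists_generators (X := Y)
  let s : Fin n ⊕ Fin m → Γ(Limits.pullback f g, ⊤) :=
    Sum.elim (fun i => (Limits.pullback.fst f g).appTop (a i))
      (fun j => (Limits.pullback.snd f g).appTop (b j))
  have hs : Function.Surjective (MvPolynomial.eval₂Hom (strHom (Limits.pullback f g)) s) := by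
    rw [← RingHom.range_eq_top, eq_top_iff, ← pullback_gen f g, sup_le_iff]
    constructor
    · rintro _ ⟨x, rfl⟩
      obtain ⟨p, rfl⟩ := ha x
      refine ⟨MvPolynomial.rename Sum.inl p, ?_⟩
      have h1 := congrArg (fun φ => φ p) (eval₂Hom_comp_appTop (Limits.pullback.fst f g) a)
      simp only [RingHom.comp_apply] at h1
      rw [h1, MvPolynomial.coe_eval₂Hom, MvPolynomial.eval₂_rename]
      rfl
    · rintro _ ⟨x, rfl⟩
      obtain ⟨p, rfl⟩ := hb x
      refine ⟨MvPolynomial.rename Sum.inr p, ?_⟩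
      have h1 := congrArg (fun φ => φ p) (eval₂Hom_comp_appTop (Limits.pullback.snd f g) b)
      simp only [RingHom.comp_apply] at h1
      rw [h1, MvPolynomial.coe_eval₂Hom, MvPolynomial.eval₂_rename]
      rfl
  have hemb := (isClosedEmbedding_coordMap s hs).isEmbedding
  let c : Pts X × Pts Y → (Fin n ⊕ Fin m → ℂ) :=
    fun p => Sum.elim (coordMap a p.1) (coordMap b p.2)
  have hc : Continuous c := by
    refine continuous_pi fun k => ?_
    rcases k with i | j
    · exact (continuous_apply i).comp ((continuous_coordMap a).comp continuous_fst)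
    · exact (continuous_apply j).comp ((continuous_coordMap b).comp continuous_snd)
  have hcomp : c ∘ pairMap f g = coordMap s := by
    funext z k
    rcases k with i | j
    · exact (evTop_map (Limits.pullback.fst f g) z (a i))
    · exact (evTop_map (Limits.pullback.snd f g) z (b j))
  rw [← hcomp] at hemb
  exact IsEmbedding.of_comp (continuous_pairMap f g) hc hemb

end prodAffine


section prodGeneral

variable {X Y S : Scheme.{0}} [X.Over SC] [Y.Over SC] [S.Over SC]

instance resLE_isOver (f : X ⟶ S) [f.IsOver SC] (U : S.Opens) (V : X.Opens) (e : V ≤ f ⁻¹ᵁ U) :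
    (f.resLE U V e).IsOver SC :=
  ⟨by
    change f.resLE U V e ≫ U.ι ≫ (S ↘ SC) = V.ι ≫ (X ↘ SC)
    rw [← Category.assoc, Scheme.Hom.resLE_comp_ι, Category.assoc, comp_over f SC]⟩

/-- affine charts of a fibre product -/
structure Chart (f : X ⟶ S) (g : Y ⟶ S) where
  S0 : S.Opens
  X0 : X.Opens
  Y0 : Y.Opens
  hS : IsAffineOpen S0
  hX : IsAffineOpen X0
  hY : IsAffineOpen Y0
  hXS : X0 ≤ f ⁻¹ᵁ S0
  hYS : Y0 ≤ g ⁻¹ᵁ S0

variable (f : X ⟶ S) (g : Y ⟶ S) [f.IsOver SC] [g.IsOver SC]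

/-- the chart morphism -/
noncomputable def Chart.hom (c : Chart f g) :
    Limits.pullback (f.resLE c.S0 c.X0 c.hXS) (g.resLE c.S0 c.Y0 c.hYS) ⟶ Limits.pullback f g :=
  Limits.pullback.map _ _ f g c.X0.ι c.Y0.ι c.S0.ι (Scheme.Hom.resLE_comp_ι f c.hXS)
    (Scheme.Hom.resLE_comp_ι g c.hYS)

lemma Chart.hom_fst (c : Chart f g) :
    c.hom f g ≫ Limits.pullback.fst f g = Limits.pullback.fst _ _ ≫ c.X0.ι :=
  Limits.pullback.lift_fst _ _ _

lemma Chart.hom_snd (c : Chart f g) :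
    c.hom f g ≫ Limits.pullback.snd f g = Limits.pullback.snd _ _ ≫ c.Y0.ι :=
  Limits.pullback.lift_snd _ _ _

instance Chart.hom_isOver (c : Chart f g) : (c.hom f g).IsOver SC :=
  ⟨by
    change c.hom f g ≫ Limits.pullback.fst f g ≫ (X ↘ SC) =
      Limits.pullback.fst _ _ ≫ c.X0.ι ≫ (X ↘ SC)
    rw [← Category.assoc, Chart.hom_fst, Category.assoc]⟩

lemma Chart.pairMap_hom (c : Chart f g)
    (z : Pts (Limits.pullback (f.resLE c.S0 c.X0 c.hXS) (g.resLE c.S0 c.Y0 c.hYS))) :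
    pairMap f g (Pts.map (c.hom f g) z) =
      Prod.map (Pts.map c.X0.ι) (Pts.map c.Y0.ι) (pairMap _ _ z) := by
  apply Prod.ext
  · apply Subtype.ext
    change (z.1 ≫ c.hom f g) ≫ Limits.pullback.fst f g = (z.1 ≫ Limits.pullback.fst _ _) ≫ c.X0.ι
    rw [Category.assoc, Chart.hom_fst, Category.assoc]
  · apply Subtype.ext
    change (z.1 ≫ c.hom f g) ≫ Limits.pullback.snd f g = (z.1 ≫ Limits.pullback.snd _ _) ≫ c.Y0.ι
    rw [Category.assoc, Chart.hom_snd, Category.assoc]

lemma Chart.preimage_subset_range (c : Chart f g) :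
    pairMap f g ⁻¹' ((Pts.pt ⁻¹' (c.X0 : Set X)) ×ˢ (Pts.pt ⁻¹' (c.Y0 : Set Y))) ⊆
      Set.range (Pts.map (c.hom f g)) := by
  rintro z ⟨hzX, hzY⟩
  have hx : Pts.map (Limits.pullback.fst f g) z ∈ Set.range (Pts.map c.X0.ι) := by
    rw [range_map_ι]; exact hzX
  have hy : Pts.map (Limits.pullback.snd f g) z ∈ Set.range (Pts.map c.Y0.ι) := by
    rw [range_map_ι]; exact hzY
  obtain ⟨x0, hx0⟩ := hx
  obtain ⟨y0, hy0⟩ := hy
  have hx0' : x0.1 ≫ c.X0.ι = z.1 ≫ Limits.pullback.fst f g := congrArg Subtype.val hx0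
  have hy0' : y0.1 ≫ c.Y0.ι = z.1 ≫ Limits.pullback.snd f g := congrArg Subtype.val hy0
  have hcond : x0.1 ≫ f.resLE c.S0 c.X0 c.hXS = y0.1 ≫ g.resLE c.S0 c.Y0 c.hYS := by
    rw [← cancel_mono c.S0.ι, Category.assoc, Category.assoc, Scheme.Hom.resLE_comp_ι,
      Scheme.Hom.resLE_comp_ι, ← Category.assoc, ← Category.assoc, hx0', hy0', Category.assoc,
      Category.assoc, Limits.pullback.condition]
  refine ⟨⟨Limits.pullback.lift x0.1 y0.1 hcond, ?_⟩, ?_⟩
  · change Limits.pullback.lift x0.1 y0.1 hcond ≫ Limits.pullback.fst _ _ ≫ (c.X0.toScheme ↘ SC) = _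
    rw [← Category.assoc, Limits.pullback.lift_fst]
    exact x0.2
  · apply Subtype.ext
    change Limits.pullback.lift x0.1 y0.1 hcond ≫ c.hom f g = z.1
    apply Limits.pullback.hom_ext
    · rw [Category.assoc, Chart.hom_fst, ← Category.assoc, Limits.pullback.lift_fst, hx0']
    · rw [Category.assoc, Chart.hom_snd, ← Category.assoc, Limits.pullback.lift_snd, hy0']

theorem isEmbedding_pairMap [LocallyOfFiniteType (X ↘ SC)] [LocallyOfFiniteType (Y ↘ SC)] :
    IsEmbedding (pairMap f g) := by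
  refine isEmbedding_of_iSup_eq_top_of_preimage_subset_range (pairMap f g)
    (continuous_pairMap f g)
    (fun c : Chart f g => ⟨(Pts.pt ⁻¹' (c.X0 : Set X)) ×ˢ (Pts.pt ⁻¹' (c.Y0 : Set Y)),
      (Pts.isOpen_preimage_pt c.X0).prod (Pts.isOpen_preimage_pt c.Y0)⟩) ?_
    (fun c => Pts (Limits.pullback (f.resLE c.S0 c.X0 c.hXS) (g.resLE c.S0 c.Y0 c.hYS)))
    (fun c => Pts.map (c.hom f g)) (fun c => Pts.continuous_map _)
    (fun c => c.preimage_subset_range f g) ?_
  · rintro _ ⟨z, rfl⟩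
    have hfg : f (Pts.map (Limits.pullback.fst f g) z).pt =
        g (Pts.map (Limits.pullback.snd f g) z).pt := by
      rw [← Pts.pt_map, ← Pts.pt_map, Pts.map_pullback_condition]
    obtain ⟨S0, hS0, hr⟩ : ∃ S0 : S.Opens, IsAffineOpen S0 ∧
        f (Pts.map (Limits.pullback.fst f g) z).pt ∈ S0 := by
      obtain ⟨_, ⟨U, hU, rfl⟩, hxU, -⟩ :=
        (S.isBasis_affineOpens).exists_subset_of_mem_open
          (Set.mem_univ (f (Pts.map (Limits.pullback.fst f g) z).pt)) isOpen_univ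
      exact ⟨U, hU, hxU⟩
    obtain ⟨X0, hX0, hp, hXS⟩ : ∃ X0 : X.Opens, IsAffineOpen X0 ∧
        (Pts.map (Limits.pullback.fst f g) z).pt ∈ X0 ∧ X0 ≤ f ⁻¹ᵁ S0 := by
      obtain ⟨_, ⟨U, hU, rfl⟩, hxU, hle⟩ :=
        (X.isBasis_affineOpens).exists_subset_of_mem_open
          (show (Pts.map (Limits.pullback.fst f g) z).pt ∈ ((f ⁻¹ᵁ S0 : X.Opens) : Set X) from hr)
          (f ⁻¹ᵁ S0).2
      exact ⟨U, hU, hxU, hle⟩
    obtain ⟨Y0, hY0, hq, hYS⟩ : ∃ Y0 : Y.Opens, IsAffineOpen Y0 ∧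
        (Pts.map (Limits.pullback.snd f g) z).pt ∈ Y0 ∧ Y0 ≤ g ⁻¹ᵁ S0 := by
      obtain ⟨_, ⟨U, hU, rfl⟩, hxU, hle⟩ :=
        (Y.isBasis_affineOpens).exists_subset_of_mem_open
          (show (Pts.map (Limits.pullback.snd f g) z).pt ∈ ((g ⁻¹ᵁ S0 : Y.Opens) : Set Y) from
            (by change g _ ∈ S0; rw [← hfg]; exact hr))
          (g ⁻¹ᵁ S0).2
      exact ⟨U, hU, hxU, hle⟩
    simp only [Opens.coe_iSup, Opens.coe_mk, Set.mem_iUnion]
    exact ⟨⟨S0, X0, Y0, hS0, hX0, hY0, hXS, hYS⟩, hp, hq⟩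
  · intro c
    have : IsAffine c.S0.toScheme := c.hS
    have : IsAffine c.X0.toScheme := c.hX
    have : IsAffine c.Y0.toScheme := c.hY
    have h1 := isEmbedding_pairMap_of_isAffine (f.resLE c.S0 c.X0 c.hXS) (g.resLE c.S0 c.Y0 c.hYS)
    have h2 : pairMap f g ∘ Pts.map (c.hom f g) =
        Prod.map (Pts.map c.X0.ι) (Pts.map c.Y0.ι) ∘ pairMap _ _ := by
      funext z
      exact c.pairMap_hom f g z
    rw [h2]
    exact ((isOpenEmbedding_map_ι c.X0).isEmbedding.prodMap
      (isOpenEmbedding_map_ι c.Y0).isEmbedding).comp h1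

theorem pullback_isHomeomorph [LocallyOfFiniteType (X ↘ SC)] [LocallyOfFiniteType (Y ↘ SC)] :
    IsHomeomorph (fun z : Pts (Limits.pullback f g) =>
      (⟨(Pts.map (Limits.pullback.fst f g) z, Pts.map (Limits.pullback.snd f g) z),
        Pts.map_pullback_condition f g z⟩ :
        {q : Pts X × Pts Y // Pts.map f q.1 = Pts.map g q.2})) := by
  rw [isHomeomorph_iff_isEmbedding_surjective]
  constructor
  · refine IsEmbedding.of_comp ?_ continuous_subtype_val (isEmbedding_pairMap f g)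
    exact Continuous.subtype_mk (continuous_pairMap f g) _
  · rintro ⟨⟨x, y⟩, h⟩
    have hc : x.1 ≫ f = y.1 ≫ g := congrArg Subtype.val h
    refine ⟨⟨Limits.pullback.lift x.1 y.1 hc, ?_⟩, ?_⟩
    · change Limits.pullback.lift x.1 y.1 hc ≫ Limits.pullback.fst f g ≫ (X ↘ SC) = _
      rw [← Category.assoc, Limits.pullback.lift_fst]
      exact x.2
    · apply Subtype.ext
      apply Prod.ext
      · apply Subtype.ext
        exact Limits.pullback.lift_fst _ _ _
      · apply Subtype.ext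
        exact Limits.pullback.lift_snd _ _ _

end prodGeneral

end Groth.Agent.H6.An
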