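import Mathlib
import Groth.Agent.Lib.Helper6.An12d
import Groth.Agent.Lib.Helper6.An5
import Groth.Prelude.Def_AnEps
set_option autoImplicit false
open AlgebraicGeometry CategoryTheory An Topology

namespace Groth.Agent.H6.An

/-- being a local homeomorphism is local on source and target along open embeddings -/
lemma isLocalHomeomorph_of_local {S T : Type*} [TopologicalSpace S] [TopologicalSpace T]
    (f : S → T)
    (h : ∀ x : S, ∃ (S' T' : Type) (_ : TopologicalSpace S') (_ : TopologicalSpace T')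
      (i : S' → S) (j : T' → T) (f' : S' → T'), IsOpenEmbedding i ∧ IsOpenEmbedding j ∧
        IsLocalHomeomorph f' ∧ (∀ s, f (i s) = j (f' s)) ∧ x ∈ Set.range i) :
    IsLocalHomeomorph f := by
  refine IsLocalHomeomorph.mk f fun x => ?_
  obtain ⟨S', T', _, _, i, j, f', hi, hj, hf', hsq, ⟨x', rfl⟩⟩ := h x
  have hjf : IsLocalHomeomorph (j ∘ f') := hj.isLocalHomeomorph.comp hf'
  obtain ⟨e, hx', he⟩ := hjf x'
  have : Nonempty S' := ⟨x'⟩
  let ei := hi.toOpenPartialHomeomorph i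
  refine ⟨ei.symm.trans e, ?_, ?_⟩
  · rw [OpenPartialHomeomorph.trans_source]
    refine ⟨⟨x', Set.mem_univ _, rfl⟩, ?_⟩
    change ei.symm (ei x') ∈ e.source
    rw [ei.left_inv (by exact Set.mem_univ x')]
    exact hx'
  · intro z hz
    rw [OpenPartialHomeomorph.trans_source] at hz
    obtain ⟨⟨z', -, rfl⟩, hz2⟩ := hz
    change f (i z') = e (ei.symm (ei z'))
    rw [ei.left_inv (by exact Set.mem_univ z'), hsq, ← he]
    rfl

variable {X Y : Scheme.{0}} [X.Over SC] [Y.Over SC]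

theorem isLocalHomeomorph_map_of_etale [LocallyOfFiniteType (Y ↘ SC)] (g : X ⟶ Y) [g.IsOver SC]
    [Etale g] : IsLocalHomeomorph (Pts.map g) := by
  apply isLocalHomeomorph_of_local
  intro x0
  obtain ⟨U, hU, hxU⟩ : ∃ U : Y.Opens, IsAffineOpen U ∧ g x0.pt ∈ U := by
    obtain ⟨_, ⟨U, hU, rfl⟩, hxU, -⟩ :=
      (Y.isBasis_affineOpens).exists_subset_of_mem_open (Set.mem_univ (g x0.pt)) isOpen_univ
    exact ⟨U, hU, hxU⟩
  obtain ⟨V, hV, hxV, hVU⟩ : ∃ V : X.Opens, IsAffineOpen V ∧ x0.pt ∈ V ∧ V ≤ g ⁻¹ᵁ U := by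
    obtain ⟨_, ⟨V, hV, rfl⟩, hxV, hVU⟩ :=
      (X.isBasis_affineOpens).exists_subset_of_mem_open (show x0.pt ∈ ((g ⁻¹ᵁ U : X.Opens) : Set X)
        from hxU) (g ⁻¹ᵁ U).2
    exact ⟨V, hV, hxV, hVU⟩
  have : IsAffine U.toScheme := hU
  have : IsAffine V.toScheme := hV
  refine ⟨Pts V.toScheme, Pts U.toScheme, inferInstance, inferInstance, Pts.map V.ι, Pts.map U.ι,
    Pts.map (g.resLE U V hVU), isOpenEmbedding_map_ι V, isOpenEmbedding_map_ι U, ?_, ?_, ?_⟩
  · apply isLocalHomeomorph_map_of_isAffine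
    exact HasRingHomProperty.appTop (P := @Etale) _ inferInstance
  · intro s
    rw [← Pts.map_comp, ← Pts.map_comp]
    congr 1
    exact (Scheme.Hom.resLE_comp_ι g hVU).symm
  · rw [range_map_ι]
    exact hxV

theorem etaleLH : An.EtaleLH := by
  intro X Y _ _ _ g _ _
  exact isLocalHomeomorph_map_of_etale g

end Groth.Agent.H6.An
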