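import Mathlib
import Groth.Agent.Lib.Helper6.An5
import Groth.Agent.Lib.Helper6.An12e
import Groth.Prelude.Def_AnEps
set_option autoImplicit false
open AlgebraicGeometry CategoryTheory CategoryTheory.Limits An Topology

namespace Groth.Agent.H6.An

section isPullback

variable {P X Y S : Scheme.{0}} [P.Over SC] [X.Over SC] [Y.Over SC] [S.Over SC]
  (fst : P ⟶ X) (snd : P ⟶ Y) (f : X ⟶ S) (g : Y ⟶ S)
  [fst.IsOver SC] [snd.IsOver SC] [f.IsOver SC] [g.IsOver SC]

lemma map_condition_of_comm (h : fst ≫ f = snd ≫ g) (z : Pts P) :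
    Pts.map f (Pts.map fst z) = Pts.map g (Pts.map snd z) := by
  rw [← Pts.map_comp, ← Pts.map_comp]
  exact Subtype.ext (by simp only [Pts.map_val, h])

instance isoPullback_hom_isOver (h : IsPullback fst snd f g) : h.isoPullback.hom.IsOver SC :=
  ⟨by
    change h.isoPullback.hom ≫ pullback.fst f g ≫ (X ↘ SC) = P ↘ SC
    rw [← Category.assoc, h.isoPullback_hom_fst, comp_over fst SC]⟩

instance isoPullback_inv_isOver (h : IsPullback fst snd f g) : h.isoPullback.inv.IsOver SC :=
  ⟨by
    have := (isoPullback_hom_isOver fst snd f g h).comp_over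
    rw [← this, Iso.inv_hom_id_assoc]⟩

/-- For a cartesian square of schemes over `ℂ`, the `ℂ`-points of the corner are the fibre product
of the `ℂ`-points, as topological spaces. -/
theorem isHomeomorph_of_isPullback [LocallyOfFiniteType (X ↘ SC)] [LocallyOfFiniteType (Y ↘ SC)]
    (h : IsPullback fst snd f g) :
    IsHomeomorph (fun z : Pts P =>
      (⟨(Pts.map fst z, Pts.map snd z), map_condition_of_comm fst snd f g h.w z⟩ :
        {q : Pts X × Pts Y // Pts.map f q.1 = Pts.map g q.2})) := by
  have h1 := pullback_isHomeomorph f g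
  have h2 : IsHomeomorph (Pts.map h.isoPullback.hom) := by
    refine (Homeomorph.mk ⟨Pts.map h.isoPullback.hom, Pts.map h.isoPullback.inv, ?_, ?_⟩
      (Pts.continuous_map _) (Pts.continuous_map _)).isHomeomorph
    · intro z
      rw [← Pts.map_comp]
      exact Subtype.ext (by simp)
    · intro z
      rw [← Pts.map_comp]
      exact Subtype.ext (by simp)
  have := h1.comp h2
  convert this using 1
  funext z
  apply Subtype.ext
  apply Prod.ext
  · change Pts.map fst z = Pts.map (pullback.fst f g) (Pts.map h.isoPullback.hom z)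
    rw [← Pts.map_comp]
    exact Subtype.ext (by simp)
  · change Pts.map snd z = Pts.map (pullback.snd f g) (Pts.map h.isoPullback.hom z)
    rw [← Pts.map_comp]
    exact Subtype.ext (by simp)

end isPullback

end Groth.Agent.H6.An
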