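import Mathlib
import Groth.Agent.Lib.Helper6.An13a
set_option autoImplicit false
open AlgebraicGeometry CategoryTheory CategoryTheory.Limits An Topology

namespace Groth.Agent.H6.An

variable (X : Scheme.{0}) [X.Over SC] [LocallyOfFiniteType (X ↘ SC)]

instance lft_etaleLeft (U : X.Etale) : LocallyOfFiniteType (U.left ↘ SC) := by
  have : LocallyOfFiniteType U.hom := inferInstance
  exact inferInstanceAs (LocallyOfFiniteType (U.hom ≫ X ↘ SC))

variable [Fact EtaleLH]

lemma eps_obj_E (U : X.Etale) : ((eps X).obj U).E = Pts U.left := rfl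

lemma eps_map_toFun {U V : X.Etale} (g : U ⟶ V) (a : Pts U.left) :
    ((eps X).map g).toFun a = Pts.map (X := U.left) (Y := V.left) g.left a := rfl

lemma eps_obj_p (U : X.Etale) (a : Pts U.left) :
    ((eps X).obj U).p a = Pts.map (U.left ↘ X) a := rfl

end Groth.Agent.H6.An

namespace Groth.Agent.H6.An

section pb

variable {X : Scheme.{0}} [X.Over SC] [LocallyOfFiniteType (X ↘ SC)]
  {Y₁ Y₂ Z : X.Etale} (g₁ : Y₁ ⟶ Z) (g₂ : Y₂ ⟶ Z)

omit [X.Over SC] [LocallyOfFiniteType (X ↘ SC)] in
lemma isPullback_left :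
    IsPullback (pullback.fst g₁ g₂).left (pullback.snd g₁ g₂).left g₁.left g₂.left :=
  (IsPullback.of_hasPullback g₁ g₂).map (Scheme.Etale.forget X ⋙ Over.forget X)

/-- points of the fibre product in the small étale site -/
noncomputable def pbHomeo : Pts (pullback g₁ g₂).left ≃ₜ
    {q : Pts Y₁.left × Pts Y₂.left // Pts.map g₁.left q.1 = Pts.map g₂.left q.2} :=
  (isHomeomorph_of_isPullback _ _ _ _ (isPullback_left g₁ g₂)).homeomorph

lemma pbHomeo_apply_fst (z : Pts (pullback g₁ g₂).left) :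
    (pbHomeo g₁ g₂ z).1.1 = Pts.map (pullback.fst g₁ g₂).left z := rfl

lemma pbHomeo_apply_snd (z : Pts (pullback g₁ g₂).left) :
    (pbHomeo g₁ g₂ z).1.2 = Pts.map (pullback.snd g₁ g₂).left z := rfl

variable [Fact EtaleLH]

/-- the lift of a cone in the classical site to the image of the fibre product -/
noncomputable def pbLift {B : Cl (Pts X)} (f₁ : B ⟶ (eps X).obj Y₁) (f₂ : B ⟶ (eps X).obj Y₂)
    (e : f₁ ≫ (eps X).map g₁ = f₂ ≫ (eps X).map g₂) : B ⟶ (eps X).obj (pullback g₁ g₂) :=
  ⟨fun b => (pbHomeo g₁ g₂).symm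
      ⟨(f₁.toFun b, f₂.toFun b), congrFun (congrArg Cl.Hom.toFun e) b⟩,
    (pbHomeo g₁ g₂).symm.continuous.comp
      (Continuous.subtype_mk (f₁.continuous.prodMk f₂.continuous) _),
    fun b => by
      have h1 : Pts.map (pullback.fst g₁ g₂).left ((pbHomeo g₁ g₂).symm
          ⟨(f₁.toFun b, f₂.toFun b), congrFun (congrArg Cl.Hom.toFun e) b⟩) = f₁.toFun b := by
        rw [← pbHomeo_apply_fst, Homeomorph.apply_symm_apply]
      have h2 : ∀ z : Pts (pullback g₁ g₂).left, Pts.map ((pullback g₁ g₂).left ↘ X) z =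
          Pts.map (Y₁.left ↘ X) (Pts.map (pullback.fst g₁ g₂).left z) := by
        intro z
        rw [← Pts.map_comp]
        congr 1
        exact (Over.w (pullback.fst g₁ g₂).hom).symm
      exact (h2 _).trans ((congrArg (Pts.map (Y₁.left ↘ X)) h1).trans (f₁.over b))⟩

variable {B : Cl (Pts X)} (f₁ : B ⟶ (eps X).obj Y₁) (f₂ : B ⟶ (eps X).obj Y₂)
    (e : f₁ ≫ (eps X).map g₁ = f₂ ≫ (eps X).map g₂)

lemma pbLift_fst : pbLift g₁ g₂ f₁ f₂ e ≫ (eps X).map (pullback.fst g₁ g₂) = f₁ := by
  apply Cl.hom_ext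
  funext b
  change Pts.map (pullback.fst g₁ g₂).left ((pbHomeo g₁ g₂).symm
    ⟨(f₁.toFun b, f₂.toFun b), congrFun (congrArg Cl.Hom.toFun e) b⟩) = f₁.toFun b
  rw [← pbHomeo_apply_fst, Homeomorph.apply_symm_apply]

lemma pbLift_snd : pbLift g₁ g₂ f₁ f₂ e ≫ (eps X).map (pullback.snd g₁ g₂) = f₂ := by
  apply Cl.hom_ext
  funext b
  change Pts.map (pullback.snd g₁ g₂).left ((pbHomeo g₁ g₂).symm
    ⟨(f₁.toFun b, f₂.toFun b), congrFun (congrArg Cl.Hom.toFun e) b⟩) = f₂.toFun b
  rw [← pbHomeo_apply_snd, Homeomorph.apply_symm_apply]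

lemma pb_hom_ext (h h' : B ⟶ (eps X).obj (pullback g₁ g₂))
    (e1 : h ≫ (eps X).map (pullback.fst g₁ g₂) = h' ≫ (eps X).map (pullback.fst g₁ g₂))
    (e2 : h ≫ (eps X).map (pullback.snd g₁ g₂) = h' ≫ (eps X).map (pullback.snd g₁ g₂)) :
    h = h' := by
  apply Cl.hom_ext
  funext b
  apply (pbHomeo g₁ g₂).injective
  apply Subtype.ext
  apply Prod.ext
  · exact congrFun (congrArg Cl.Hom.toFun e1) b
  · exact congrFun (congrArg Cl.Hom.toFun e2) b

instance preservesLimit_cospan_eps : PreservesLimit (cospan g₁ g₂) (eps X) :=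
  preservesLimit_of_preserves_limit_cone (pullbackIsPullback g₁ g₂) <|
    (isLimitMapConePullbackConeEquiv (eps X) pullback.condition).symm <|
      PullbackCone.IsLimit.mk _ (fun s => pbLift g₁ g₂ s.fst s.snd s.condition)
        (fun s => pbLift_fst g₁ g₂ s.fst s.snd s.condition)
        (fun s => pbLift_snd g₁ g₂ s.fst s.snd s.condition)
        (fun s _ h1 h2 => pb_hom_ext g₁ g₂ _ _
          (h1.trans (pbLift_fst g₁ g₂ s.fst s.snd s.condition).symm)
          (h2.trans (pbLift_snd g₁ g₂ s.fst s.snd s.condition).symm))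

end pb

end Groth.Agent.H6.An

namespace Groth.Agent.H6.An

section flat

variable (X : Scheme.{0}) [X.Over SC] [LocallyOfFiniteType (X ↘ SC)] [Fact EtaleLH]

instance preservesPullbacks_eps : PreservesLimitsOfShape WalkingCospan (eps X) where
  preservesLimit {K} := preservesLimit_of_iso_diagram _ (diagramIsoCospan K).symm

instance preservesTerminal_eps : PreservesLimitsOfShape (Discrete.{0} PEmpty) (eps X) := by
  have : PreservesLimit (Functor.empty.{0} X.Etale) (eps X) :=
    preservesLimit_of_preserves_limit_cone (EtCore.topIsTerminal X)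
      ((isLimitMapConeEmptyConeEquiv (eps X) (EtCoh.top X)).symm
        (IsTerminal.ofIso (Cl.selfIsTerminal (Pts X)) (epsTopIso X).symm))
  exact preservesLimitsOfShape_pempty_of_preservesTerminal _

instance preservesFiniteLimits_eps : PreservesFiniteLimits (eps X) :=
  preservesFiniteLimits_of_preservesTerminal_and_pullbacks _

instance representablyFlat_eps : RepresentablyFlat (eps X) :=
  flat_of_preservesFiniteLimits _

end flat

end Groth.Agent.H6.An

namespace Groth.Agent.H6.An

set_option backward.isDefEq.respectTransparency.types false in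
lemma mem_smallEtaleTopology_iff {X : Scheme.{0}} {V : X.Etale} (R : Sieve V) :
    R ∈ X.smallEtaleTopology V ↔
      ∀ x : V.left, ∃ (Y : X.Etale) (f : Y ⟶ V) (y : Y.left), R f ∧ f.left y = x := by
  unfold Scheme.smallEtaleTopology
  rw [Scheme.smallGrothendieckTopology_eq_toGrothendieck_smallPretopology X le_rfl]
  have := Scheme.mem_toGrothendieck_smallPretopology (P := @Etale) (Q := @Etale) (S := X) V R
  refine this.trans ?_
  constructor
  · intro h x
    obtain ⟨Y, f, y, h1, -, h3⟩ := h x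
    exact ⟨Y, f, y, h1, h3⟩
  · intro h x
    obtain ⟨Y, f, y, h1, h3⟩ := h x
    exact ⟨Y, f, y, h1, inferInstance, h3⟩

section cont

variable (X : Scheme.{0}) [X.Over SC] [LocallyOfFiniteType (X ↘ SC)] [Fact EtaleLH]

lemma coverPreserving_eps :
    CoverPreserving X.smallEtaleTopology (Cl.topology (Pts X)) (eps X) where
  cover_preserve {V R} hR := by
    rw [mem_smallEtaleTopology_iff] at hR
    intro a
    obtain ⟨Y, f, y, hRf, hy⟩ := hR (Pts.pt (X := V.left) a)
    -- lift the point
    have ha : a ∈ Set.range (Pts.map (X := Y.left) (Y := V.left) f.left) := by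
      rw [range_map]
      exact ⟨y, hy⟩
    obtain ⟨a', rfl⟩ := ha
    have hlh : IsLocalHomeomorph (Pts.map (X := Y.left) (Y := V.left) f.left) :=
      isLocalHomeomorph_map_of_etale _
    obtain ⟨W, hW, hemb⟩ := (isLocalHomeomorph_iff_isOpenEmbedding_restrict.mp hlh) a'
    have hW' : IsOpen (interior W) := isOpen_interior
    have ha'W : a' ∈ interior W := mem_interior_iff_mem_nhds.mpr hW
    refine ⟨Cl.restrictOpen ((eps X).obj Y) (interior W) hW',
      Cl.restrictOpenι ((eps X).obj Y) (interior W) hW' ≫ (eps X).map f,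
      ⟨Y, f, Cl.restrictOpenι ((eps X).obj Y) (interior W) hW', hRf, rfl⟩, ?_,
      ⟨⟨a', ha'W⟩, rfl⟩⟩
    have : (Cl.restrictOpenι ((eps X).obj Y) (interior W) hW' ≫ (eps X).map f).toFun =
        W.domRestrict (Pts.map (X := Y.left) (Y := V.left) f.left) ∘
          Set.inclusion interior_subset := rfl
    rw [this]
    exact hemb.comp (IsOpenEmbedding.inclusion interior_subset
      (hW'.preimage continuous_subtype_val))

theorem epsCont : EpsCont X :=
  Functor.isContinuous_of_coverPreserving (compatiblePreservingOfFlat _ _)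
    (coverPreserving_eps X)

end cont

end Groth.Agent.H6.An
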