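import Mathlib
import Groth.Agent.Lib.Helper6.An13b
import Groth.Agent.Lib.Helper7.GT2
set_option autoImplicit false
open AlgebraicGeometry CategoryTheory CategoryTheory.Limits An Topology

namespace Groth.Agent.H6.An

variable (X : Scheme.{0}) [X.Over SC] [LocallyOfFiniteType (X ↘ SC)] [Fact EtaleLH] [EpsCont X]

theorem epsPull_preservesFiniteLimits : PreservesFiniteLimits (epsPull X) :=
  Groth.Agent.H7.GT.sheafPullback_preservesFiniteLimits (eps X) AddCommGrpCat.{1}
    X.smallEtaleTopology (Cl.topology (Pts X))

end Groth.Agent.H6.An
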