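import Groth.Agent.Lib.Helper6.An1

set_option autoImplicit false

open AlgebraicGeometry CategoryTheory TopologicalSpace Opposite An

namespace Groth.Agent.H6.An

lemma isIso_appTop_of_iso {X Y : Scheme.{0}} (e : X ≅ Y) : IsIso e.hom.appTop :=
  ⟨⟨e.inv.appTop, by rw [← Scheme.Hom.comp_appTop, e.inv_hom_id]; rfl,
    by rw [← Scheme.Hom.comp_appTop, e.hom_inv_id]; rfl⟩⟩

lemma affineSpace_eval₂Hom_bijective (n : ℕ) :
    Function.Bijective (MvPolynomial.eval₂Hom (strHom (𝔸(Fin n; SC))) (AffineSpace.coord SC)) := by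
  have h1 := AffineSpace.SpecIso_hom_appTop (n := Fin n) (CommRingCat.of ℂ)
  have h2 : IsIso (CommRingCat.ofHom (MvPolynomial.eval₂Hom
      ((Scheme.ΓSpecIso (CommRingCat.of ℂ)).inv ≫
        (𝔸(Fin n; Spec (CommRingCat.of ℂ)) ↘ Spec (CommRingCat.of ℂ)).appTop).hom
      (AffineSpace.coord (Spec (CommRingCat.of ℂ))))) := by
    have h3 : IsIso ((AffineSpace.SpecIso (Fin n) (CommRingCat.of ℂ)).hom.appTop) := isIso_appTop_of_iso _
    rw [h1] at h3
    exact IsIso.of_isIso_comp_left (Scheme.ΓSpecIso _).hom _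
  exact (ConcreteCategory.isIso_iff_bijective _).1 h2

theorem affineSpace_isHomeomorph (n : ℕ) :
    IsHomeomorph (coordMap (X := 𝔸(Fin n; SC)) (AffineSpace.coord SC)) := by
  have hb := affineSpace_eval₂Hom_bijective n
  rw [isHomeomorph_iff_isEmbedding_surjective]
  refine ⟨(isClosedEmbedding_coordMap _ hb.2).isEmbedding, ?_⟩
  rw [← Set.range_eq_univ, range_coordMap _ hb.2]
  ext a
  simp only [Set.mem_ofPred_eq, Set.mem_univ, iff_true]
  intro P hP
  have : P = 0 := hb.1 (by rw [RingHom.mem_ker.1 hP, map_zero])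
  rw [this, map_zero]


section maps

variable {X Y : Scheme.{0}} [X.Over SC] [Y.Over SC]

lemma ev_map_appLE (f : X ⟶ Y) [f.IsOver SC] (x : Pts X) (U : X.Opens) (U' : Y.Opens)
    (e : U ≤ f ⁻¹ᵁ U') (hx : x.pt ∈ U) (g' : Γ(Y, U')) :
    (Pts.map f x).ev U' (by rw [Pts.pt_map]; exact e hx) g' = x.ev U hx (f.appLE U' U e g') := by
  unfold Pts.ev
  congr 1
  have := Scheme.Hom.appLE_comp_appLE x.1 f U' U ⊤ e (Pts.top_le_preimage x hx)
  exact (congrArg (fun φ => φ.hom g') this).symm

lemma map_injective_of_mono (f : X ⟶ Y) [f.IsOver SC] [Mono f] :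
    Function.Injective (Pts.map f) := by
  intro x y h
  apply Subtype.ext
  have : x.1 ≫ f = y.1 ≫ f := congrArg Subtype.val h
  exact (cancel_mono f).1 this

lemma range_pt_subset (x : Pts X) : Set.range x.1 = {x.pt} := by
  ext p
  constructor
  · rintro ⟨q, rfl⟩
    rw [eq_cpt q]; rfl
  · rintro rfl
    exact ⟨cpt, rfl⟩

lemma range_map_of_isOpenImmersion (f : X ⟶ Y) [f.IsOver SC] [IsOpenImmersion f] :
    Set.range (Pts.map f) = Pts.pt ⁻¹' (f.opensRange : Set Y) := by
  ext y
  constructor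
  · rintro ⟨x, rfl⟩
    change (Pts.map f x).pt ∈ Set.range f
    rw [Pts.pt_map]
    exact ⟨_, rfl⟩
  · intro hy
    have hr : Set.range y.1 ⊆ Set.range f := by
      rw [range_pt_subset]
      exact Set.singleton_subset_iff.2 hy
    refine ⟨⟨IsOpenImmersion.lift f y.1 hr, ?_⟩, ?_⟩
    · rw [← comp_over f SC, ← Category.assoc, IsOpenImmersion.lift_fac, y.2]
    · apply Subtype.ext
      exact IsOpenImmersion.lift_fac f y.1 hr

theorem isOpenEmbedding_map (f : X ⟶ Y) [f.IsOver SC] [IsOpenImmersion f] :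
    Topology.IsOpenEmbedding (Pts.map f) := by
  refine ⟨⟨⟨?_⟩, map_injective_of_mono f⟩, ?_⟩
  · apply le_antisymm
    · exact continuous_iff_le_induced.1 (Pts.continuous_map f)
    · apply le_generateFrom
      rintro _ ⟨U, g, V, hV, rfl⟩
      refine ⟨Pts.basicSet (f ''ᵁ U) ((f.appIso U).inv g) V, Pts.isOpen_basicSet _ _ hV, ?_⟩
      ext x
      have key : ∀ hx : x.pt ∈ U, (Pts.map f x).ev (f ''ᵁ U)
          (by rw [Pts.pt_map]; exact ⟨_, hx, rfl⟩) ((f.appIso U).inv g) = x.ev U hx g := by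
        intro hx
        rw [ev_map_appLE f x U (f ''ᵁ U) (f.preimage_image_eq U).ge hx, ← f.appIso_hom']
        congr 1
        exact congrArg (fun φ => φ.hom g) (f.appIso U).inv_hom_id
      constructor
      · rintro ⟨h', hv⟩
        have hx : x.pt ∈ U := by
          rw [Pts.pt_map] at h'
          obtain ⟨q, hq, hqe⟩ := h'
          rwa [← f.isOpenEmbedding.injective hqe]
        exact ⟨hx, by rw [← key hx]; exact hv⟩
      · rintro ⟨hx, hv⟩
        exact ⟨by rw [Pts.pt_map]; exact ⟨_, hx, rfl⟩, by rw [key hx]; exact hv⟩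
  · rw [range_map_of_isOpenImmersion]
    exact Pts.isOpen_preimage_pt _

end maps


section closedpts

variable {X : Scheme.{0}} [X.Over SC] [LocallyOfFiniteType (X ↘ SC)]

lemma cpt_eq_closedPoint : (cpt : ↥SC) = IsLocalRing.closedPoint ℂ := eq_cpt _ ▸ rfl

/-- `ℂ`-points are the same as closed points. -/
noncomputable def ptsEquivClosed : Pts X ≃ closedPoints X := pointEquivClosedPoint (X ↘ SC)

lemma ptsEquivClosed_apply (x : Pts X) : (ptsEquivClosed x : X) = x.pt := by
  change x.1 (IsLocalRing.closedPoint ℂ) = x.1 cpt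
  rw [cpt_eq_closedPoint]

lemma pt_injective : Function.Injective (Pts.pt : Pts X → X) := by
  intro x y h
  apply ptsEquivClosed.injective
  apply Subtype.ext
  rw [ptsEquivClosed_apply, ptsEquivClosed_apply, h]

lemma isClosed_singleton_pt (x : Pts X) : IsClosed ({x.pt} : Set X) := by
  rw [← ptsEquivClosed_apply]
  exact (ptsEquivClosed x).2

lemma exists_pt_eq {p : X} (hp : IsClosed ({p} : Set X)) : ∃ x : Pts X, x.pt = p :=
  ⟨ptsEquivClosed.symm ⟨p, hp⟩, by rw [← ptsEquivClosed_apply, Equiv.apply_symm_apply]⟩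

lemma range_pt : Set.range (Pts.pt : Pts X → X) = closedPoints X := by
  ext p
  constructor
  · rintro ⟨x, rfl⟩
    exact isClosed_singleton_pt x
  · intro hp
    exact exists_pt_eq hp

instance jacobsonSpace_of_lft : JacobsonSpace X := LocallyOfFiniteType.jacobsonSpace (X ↘ SC)

theorem nonempty_iff_pts : Nonempty ↥X ↔ Nonempty (Pts X) := by
  constructor
  · rintro ⟨p⟩
    have h := closure_closedPoints (X := X)
    have hne : (closedPoints X).Nonempty := by
      by_contra hc
      rw [Set.not_nonempty_iff_eq_empty] at hc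
      rw [hc, closure_empty] at h
      exact (Set.mem_empty_iff_false p).1 (h ▸ Set.mem_univ p)
    obtain ⟨q, hq⟩ := hne
    obtain ⟨x, -⟩ := exists_pt_eq hq
    exact ⟨x⟩
  · rintro ⟨x⟩
    exact ⟨x.pt⟩

end closedpts


section fingen

variable {X : Scheme.{0}} [X.Over SC] [LocallyOfFiniteType (X ↘ SC)]

/-- An affine scheme locally of finite type over `ℂ` has finitely many generators. -/
lemma exists_generators [IsAffine X] :
    ∃ (n : ℕ) (s : Fin n → Γ(X, ⊤)),
      Function.Surjective (MvPolynomial.eval₂Hom (strHom X) s) := by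
  have h1 : RingHom.FiniteType (X ↘ SC).appTop.hom :=
    HasRingHomProperty.appTop (P := @LocallyOfFiniteType) _ inferInstance
  have h2 : RingHom.FiniteType (strHom X) := by
    unfold strHom
    refine h1.comp (RingHom.FiniteType.of_surjective _ ?_)
    exact ((ConcreteCategory.isIso_iff_bijective
      (Scheme.ΓSpecIso (CommRingCat.of ℂ)).inv).1 inferInstance).2
  let _ := (strHom X).toAlgebra
  obtain ⟨n, f, hf⟩ := Algebra.FiniteType.iff_quotient_mvPolynomial''.1 h2
  refine ⟨n, fun i => f (MvPolynomial.X i), ?_⟩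
  have : (MvPolynomial.eval₂Hom (strHom X) fun i => f (MvPolynomial.X i)) = f.toRingHom := by
    apply MvPolynomial.ringHom_ext
    · intro c
      simp only [MvPolynomial.eval₂Hom_C]
      exact (f.commutes c).symm
    · intro i
      simp
  rw [this]
  exact hf

end fingen


section opens

variable {X : Scheme.{0}} [X.Over SC]

instance lft_opens [LocallyOfFiniteType (X ↘ SC)] (U : X.Opens) :
    LocallyOfFiniteType (U.toScheme ↘ SC) :=
  inferInstanceAs (LocallyOfFiniteType (U.ι ≫ X ↘ SC))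

lemma isOpenEmbedding_map_ι (U : X.Opens) : Topology.IsOpenEmbedding (Pts.map U.ι) :=
  isOpenEmbedding_map U.ι

lemma range_map_ι (U : X.Opens) : Set.range (Pts.map U.ι) = Pts.pt ⁻¹' (U : Set X) := by
  rw [range_map_of_isOpenImmersion, Scheme.Opens.opensRange_ι]

/-- local compactness of the affine pieces -/
lemma locallyCompactSpace_of_isAffine [LocallyOfFiniteType (X ↘ SC)] [IsAffine X] :
    LocallyCompactSpace (Pts X) := by
  obtain ⟨n, s, hs⟩ := exists_generators (X := X)
  exact (isClosedEmbedding_coordMap s hs).locallyCompactSpace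

theorem locallyCompactSpace_pts [LocallyOfFiniteType (X ↘ SC)] : LocallyCompactSpace (Pts X) := by
  refine ⟨fun x N hN => ?_⟩
  obtain ⟨U, hU, hxU⟩ : ∃ U : X.Opens, IsAffineOpen U ∧ x.pt ∈ U := by
    obtain ⟨_, ⟨U, hU, rfl⟩, hxU, -⟩ :=
      (X.isBasis_affineOpens).exists_subset_of_mem_open (Set.mem_univ x.pt) isOpen_univ
    exact ⟨U, hU, hxU⟩
  have : IsAffine U.toScheme := hU
  have := locallyCompactSpace_of_isAffine (X := U.toScheme)
  have he := isOpenEmbedding_map_ι U
  have hx : x ∈ Set.range (Pts.map U.ι) := by rw [range_map_ι]; exact hxU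
  obtain ⟨x', rfl⟩ := hx
  have hN' : Pts.map U.ι ⁻¹' N ∈ nhds x' := he.continuous.continuousAt hN
  obtain ⟨K, hK, hKN, hKc⟩ := local_compact_nhds hN'
  exact ⟨Pts.map U.ι '' K, he.image_mem_nhds.2 hK, Set.image_subset_iff.2 hKN,
    hKc.image he.continuous⟩

end opens

end Groth.Agent.H6.An
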