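import Mathlib
import Groth.Agent.Lib.Helper6.An12a
import Groth.Agent.Lib.Helper6.An2
set_option autoImplicit false
open AlgebraicGeometry CategoryTheory An Topology

namespace Groth.Agent.H6.An

lemma differentiable_eval {κ : Type*} [Fintype κ] (P : MvPolynomial κ ℂ) :
    Differentiable ℂ (fun q : κ → ℂ => MvPolynomial.eval q P) :=
  fun p => (hasStrictFDerivAt_eval P p).hasFDerivAt.differentiableAt

variable {X : Scheme.{0}} [X.Over SC]

/-- Regular functions are, locally, differentiable functions of the coordinates. -/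
lemma exists_differentiable_of_section [IsAffine X] {ι : Type*} [Fintype ι] (s : ι → Γ(X, ⊤))
    (hs : Function.Surjective (MvPolynomial.eval₂Hom (strHom X) s))
    (U : X.Opens) (f : Γ(X, U)) (x0 : Pts X) (hx0 : x0.pt ∈ U) :
    ∃ (N : Set (ι → ℂ)) (F : (ι → ℂ) → ℂ), IsOpen N ∧ coordMap s x0 ∈ N ∧
      DifferentiableOn ℂ F N ∧
      ∀ y : Pts X, coordMap s y ∈ N → ∃ hy : y.pt ∈ U, y.ev U hy f = F (coordMap s y) := by
  obtain ⟨h, g, k, hle, hph, hrel⟩ := exists_rel f x0.pt hx0
  obtain ⟨H, rfl⟩ := hs h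
  obtain ⟨G, rfl⟩ := hs g
  refine ⟨{a | MvPolynomial.eval a H ≠ 0},
    fun a => MvPolynomial.eval a G / (MvPolynomial.eval a H) ^ k,
    isOpen_ne_fun (MvPolynomial.continuous_eval H) continuous_const, ?_, ?_, ?_⟩
  · simp only [Set.mem_ofPred_eq, ← evTop_eval₂]
    exact (pt_mem_basicOpen_top_iff x0 _).1 hph
  · intro a ha
    apply DifferentiableAt.differentiableWithinAt
    have h1 : DifferentiableAt ℂ (fun a : ι → ℂ => MvPolynomial.eval a G) a := differentiable_eval G a
    have h2 : DifferentiableAt ℂ (fun a : ι → ℂ => (MvPolynomial.eval a H) ^ k) a :=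
      (differentiable_eval H a).pow k
    have h3 : (fun a : ι → ℂ => (MvPolynomial.eval a H) ^ k) a ≠ 0 := pow_ne_zero k ha
    have h4 := h1.mul (h2.inv h3)
    simp only [div_eq_mul_inv]
    exact h4
  · intro y hy
    simp only [Set.mem_ofPred_eq, ← evTop_eval₂] at hy
    obtain ⟨hU, he⟩ := ev_eq_div y f _ _ k hle hrel hy
    refine ⟨hU, ?_⟩
    rw [he, evTop_eval₂, evTop_eval₂]

end Groth.Agent.H6.An
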