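import Mathlib
import Groth.Agent.Lib.Helper6.An14a
import Groth.Prelude.Def_AnHol
set_option autoImplicit false
open AlgebraicGeometry CategoryTheory An Topology TopologicalSpace

namespace Groth.Agent.H6.An

section general

variable {X : Scheme.{0}} [X.Over SC] [IsAffine X] {ι : Type} [Fintype ι] (s : ι → Γ(X, ⊤))
  (hs : Function.Surjective (MvPolynomial.eval₂Hom (strHom X) s))

/-- a function on an open of `X(ℂ)` is locally a differentiable function of the coordinates -/
def LocHol {V' : Opens (Pts X)} (φ : V' → ℂ) : Prop :=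
  ∀ y : V', ∃ F : (ι → ℂ) → ℂ, DifferentiableAt ℂ F (coordMap s y.1) ∧
    ∀ᶠ z in 𝓝 (y : Pts X), ∀ hz : z ∈ V', φ ⟨z, hz⟩ = F (coordMap s z)

include hs in
lemma locHol_of_isChartFun {V' : Opens (Pts X)} (φ : V' → ℂ) (h : IsChartFun (X := X) V' φ) :
    LocHol s φ := by
  obtain ⟨W, hW, m, t, V'', G', hV'', hG', h⟩ := h
  intro y
  have := fun i : Fin m => exists_differentiable_of_section s hs W (t i) y.1 (hW y)
  choose N F hN hyN hF hev using this
  refine ⟨fun a => G' (fun i => F i a), ?_, ?_⟩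
  · have h1 : DifferentiableAt ℂ G' (fun i => F i (coordMap s y.1)) := by
      apply hG'.differentiableAt (hV''.mem_nhds ?_)
      have h2 := (h y).1
      have h3 : (fun i => Pts.ev y.1 W (hW y) (t i)) = fun i => F i (coordMap s y.1) := by
        funext i
        obtain ⟨_, he⟩ := hev i y.1 (hyN i)
        exact he
      rw [← h3]
      exact h2
    have h2 : DifferentiableAt ℂ (fun a : ι → ℂ => (fun i => F i a)) (coordMap s y.1) := by
      rw [differentiableAt_pi]
      intro i
      exact (hF i).differentiableAt ((hN i).mem_nhds (hyN i))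
    exact h1.comp _ h2
  · have hopen : IsOpen {z : Pts X | ∀ i, coordMap s z ∈ N i} := by
      have : {z : Pts X | ∀ i, coordMap s z ∈ N i} = ⋂ i, coordMap s ⁻¹' N i := by
        ext z; simp
      rw [this]
      exact isOpen_iInter_of_finite fun i => (hN i).preimage (continuous_coordMap s)
    filter_upwards [hopen.mem_nhds (show y.1 ∈ {z : Pts X | ∀ i, coordMap s z ∈ N i} from hyN)]
      with z hz hzV
    refine ((h ⟨z, hzV⟩).2).trans ?_
    congr 1
    funext i
    obtain ⟨_, he⟩ := hev i z (hz i)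
    exact he

include hs in
lemma locHol_of_mem_chartAlg {V' : Opens (Pts X)} (φ : V' → ℂ) (h : φ ∈ chartAlg (X := X) V') :
    LocHol s φ := by
  unfold chartAlg at h
  induction h using Algebra.adjoin_induction with
  | mem φ hφ => exact locHol_of_isChartFun s hs φ hφ
  | algebraMap r =>
    intro y
    exact ⟨fun _ => r, differentiableAt_const r, Filter.Eventually.of_forall fun z hz => rfl⟩
  | add φ ψ _ _ h1 h2 =>
    intro y
    obtain ⟨F1, hF1, he1⟩ := h1 y
    obtain ⟨F2, hF2, he2⟩ := h2 y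
    refine ⟨F1 + F2, hF1.add hF2, ?_⟩
    filter_upwards [he1, he2] with z hz1 hz2 hz
    change φ ⟨z, hz⟩ + ψ ⟨z, hz⟩ = _
    rw [hz1 hz, hz2 hz]
    rfl
  | mul φ ψ _ _ h1 h2 =>
    intro y
    obtain ⟨F1, hF1, he1⟩ := h1 y
    obtain ⟨F2, hF2, he2⟩ := h2 y
    refine ⟨F1 * F2, hF1.mul hF2, ?_⟩
    filter_upwards [he1, he2] with z hz1 hz2 hz
    change φ ⟨z, hz⟩ * ψ ⟨z, hz⟩ = _
    rw [hz1 hz, hz2 hz]
    rfl

end general

end Groth.Agent.H6.An

namespace Groth.Agent.H6.An

section affineSpace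

variable (n : ℕ)

/-- the coordinate homeomorphism of affine space -/
noncomputable def cHomeo : Pts (𝔸(Fin n; SC)) ≃ₜ (Fin n → ℂ) :=
  (affineSpace_isHomeomorph n).homeomorph

lemma cHomeo_apply (x : Pts (𝔸(Fin n; SC))) :
    cHomeo n x = coordMap (X := 𝔸(Fin n; SC)) (AffineSpace.coord SC) x := rfl

theorem holPred_affineSpace_iff (U : Opens (Pts (𝔸(Fin n; SC)))) (g : U → ℂ) :
    (holPred (𝔸(Fin n; SC))).pred g ↔
      ∃ G : (Fin n → ℂ) → ℂ,
        DifferentiableOn ℂ G ((fun (x : Pts (𝔸(Fin n; SC))) (i : Fin n) =>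
          x.evTop (AffineSpace.coord SC i)) '' (U : Set (Pts (𝔸(Fin n; SC))))) ∧
        ∀ x : U, g x = G (fun i => (x : Pts (𝔸(Fin n; SC))).evTop (AffineSpace.coord SC i)) := by
  have hb := affineSpace_eval₂Hom_bijective n
  constructor
  · intro hg
    classical
    refine ⟨fun a => if h : (cHomeo n).symm a ∈ U then g ⟨_, h⟩ else 0, ?_, ?_⟩
    · rintro _ ⟨x, hxU, rfl⟩
      obtain ⟨V', hxV', i, hmem⟩ := hg ⟨x, hxU⟩
      obtain ⟨F, hF, he⟩ := locHol_of_mem_chartAlg (AffineSpace.coord SC) hb.2 _ hmem ⟨x, hxV'⟩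
      apply DifferentiableAt.differentiableWithinAt
      refine hF.congr_of_eventuallyEq ?_
      change ∀ᶠ a in 𝓝 (cHomeo n x), _ = F a
      rw [← (cHomeo n).map_nhds_eq x, Filter.eventually_map]
      filter_upwards [he, V'.2.mem_nhds hxV'] with z hz hzV'
      have hzU : z ∈ U := i.le hzV'
      have h1 : (cHomeo n).symm (cHomeo n z) = z := (cHomeo n).symm_apply_apply z
      have h2 : (if h : (cHomeo n).symm (cHomeo n z) ∈ U then g ⟨_, h⟩ else 0) = g ⟨z, hzU⟩ := by
        rw [dif_pos (by rw [h1]; exact hzU)]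
        congr 1
        exact Subtype.ext h1
      rw [h2]
      exact hz hzV'
    · intro x
      have h1 : (cHomeo n).symm (cHomeo n x.1) = x.1 := (cHomeo n).symm_apply_apply x.1
      change g x = if h : (cHomeo n).symm (cHomeo n x.1) ∈ U then g ⟨_, h⟩ else 0
      rw [dif_pos (by rw [h1]; exact x.2)]
      congr 1
      exact Subtype.ext h1.symm
  · rintro ⟨G, hG, hgG⟩
    apply holPred_of_chartAlg
    apply Algebra.subset_adjoin
    refine ⟨⊤, fun _ => trivial, n, fun i => AffineSpace.coord SC i,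
      (cHomeo n) '' (U : Set (Pts (𝔸(Fin n; SC)))), G, ?_, hG, fun x => ⟨⟨x.1, x.2, rfl⟩, hgG x⟩⟩
    exact (cHomeo n).isOpenMap _ U.2

end affineSpace

end Groth.Agent.H6.An
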