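import Mathlib
import Groth.Agent.Lib.Helper6.An12c
import Groth.Agent.Lib.Helper6.An3
set_option autoImplicit false
open AlgebraicGeometry CategoryTheory An Topology

namespace Groth.Agent.H6.An

open MvPolynomial in
/-- generators of `B` over `ℂ` from generators of `A` over `ℂ` and of `B` over `A` -/
lemma eval₂Hom_sum_surjective {A B : Type*} [CommRing A] [CommRing B] [Algebra A B]
    (sA : ℂ →+* A) (sB : ℂ →+* B) (hs : (algebraMap A B).comp sA = sB) {ι σ : Type*} (a : ι → A)
    (ha : Function.Surjective (eval₂Hom sA a)) (t : σ → B)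
    (ht : Function.Surjective (aeval t : MvPolynomial σ A →ₐ[A] B)) :
    Function.Surjective (eval₂Hom sB (Sum.elim (fun i => algebraMap A B (a i)) t)) := by
  have h : ((aeval t : MvPolynomial σ A →ₐ[A] B) : MvPolynomial σ A →+* B).comp (Psi sA a) =
      eval₂Hom sB (Sum.elim (fun i => algebraMap A B (a i)) t) := by
    apply MvPolynomial.ringHom_ext
    · intro c
      have := congrArg (fun f => f c) hs
      simpa using this
    · rintro (i | k) <;> simp
  rw [← h]
  exact ht.comp (Psi_surjective sA a ha)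

/-- module generators are algebra generators -/
lemma aeval_surjective_of_span {A B : Type*} [CommRing A] [CommRing B] [Algebra A B] {m : ℕ}
    (b : Fin m → B) (hb : Submodule.span A (Set.range b) = ⊤) :
    Function.Surjective (MvPolynomial.aeval b : MvPolynomial (Fin m) A →ₐ[A] B) := by
  rw [← AlgHom.range_eq_top, ← Algebra.adjoin_range_eq_range_aeval, eq_top_iff]
  intro x _
  have hx : x ∈ Submodule.span A (Set.range b) := by rw [hb]; trivial
  have : Submodule.span A (Set.range b) ≤ Subalgebra.toSubmodule (Algebra.adjoin A (Set.range b)) :=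
    Submodule.span_le.2 Algebra.subset_adjoin
  exact this hx

/-- Cauchy's bound for roots of monic polynomials, in additive form. -/
lemma norm_le_of_monic_root (q : Polynomial ℂ) (hq : q.Monic) (w : ℂ) (hw : q.IsRoot w) :
    ‖w‖ ≤ 1 + ∑ k ∈ Finset.range q.natDegree, ‖q.coeff k‖ := by
  have h1 := (Polynomial.IsRoot.norm_lt_cauchyBound hq.ne_zero hw).le
  have h2 : (Polynomial.cauchyBound q : ℝ) ≤ 1 + ∑ k ∈ Finset.range q.natDegree, ‖q.coeff k‖ := by
    unfold Polynomial.cauchyBound
    rw [hq.leadingCoeff]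
    simp only [nnnorm_one, div_one, NNReal.coe_add, NNReal.coe_one]
    rw [add_comm]
    gcongr
    have : ((Finset.range q.natDegree).sup (fun k => ‖q.coeff k‖₊) : NNReal) ≤
        ∑ k ∈ Finset.range q.natDegree, ‖q.coeff k‖₊ := by
      apply Finset.sup_le
      intro k hk
      exact Finset.single_le_sum (f := fun k => ‖q.coeff k‖₊) (fun _ _ => zero_le) hk
    have h3 := NNReal.coe_le_coe.2 this
    simpa using h3
  exact (NNReal.coe_le_coe.2 h1).trans h2

end Groth.Agent.H6.An

namespace Groth.Agent.H6.An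

variable {X Y : Scheme.{0}} [X.Over SC] [Y.Over SC]

lemma evTopHom_map (f : X ⟶ Y) [f.IsOver SC] (x : Pts X) :
    (evTopHom x).comp f.appTop.hom = evTopHom (Pts.map f x) := by
  ext g
  exact (evTop_map f x g).symm

/-- a finite morphism of affine schemes gives coordinates on `X` with bounded fibres -/
theorem finite_affine_aux [IsAffine X] [IsAffine Y] [LocallyOfFiniteType (Y ↘ SC)]
    (f : X ⟶ Y) [f.IsOver SC] [IsFinite f] :
    ∃ (n m : ℕ) (a : Fin n → Γ(Y, ⊤)) (b : Fin m → Γ(X, ⊤)) (Bd : Fin m → Pts Y → ℝ)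
      (q : Fin m → Pts Y → Polynomial ℂ),
      Function.Surjective (MvPolynomial.eval₂Hom (strHom Y) a) ∧
      Function.Surjective (MvPolynomial.eval₂Hom (strHom X)
        (Sum.elim (fun i => f.appTop.hom (a i)) b)) ∧
      (∀ j, Continuous (Bd j)) ∧
      (∀ j y, q j y ≠ 0) ∧
      (∀ j (x : Pts X), (q j (Pts.map f x)).IsRoot (x.evTop (b j))) ∧
      (∀ j (x : Pts X), ‖x.evTop (b j)‖ ≤ Bd j (Pts.map f x)) := by
  classical
  have hfin : f.appTop.hom.Finite := f.finite_appTop
  let _ : Algebra Γ(Y, ⊤) Γ(X, ⊤) := f.appTop.hom.toAlgebra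
  have hmf : Module.Finite Γ(Y, ⊤) Γ(X, ⊤) := hfin
  obtain ⟨n, a, ha⟩ := exists_generators (X := Y)
  obtain ⟨m, b, hb⟩ := Module.Finite.exists_fin (R := Γ(Y, ⊤)) (M := Γ(X, ⊤))
  have hint : ∀ j, IsIntegral Γ(Y, ⊤) (b j) := fun j => Algebra.IsIntegral.isIntegral (b j)
  choose p hpm hp0 using hint
  have hs : (algebraMap Γ(Y, ⊤) Γ(X, ⊤)).comp (strHom Y) = strHom X := strHom_comp f
  have hsurj := eval₂Hom_sum_surjective (strHom Y) (strHom X) hs a ha b
    (aeval_surjective_of_span b hb)
  refine ⟨n, m, a, b,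
    fun j y => 1 + ∑ k ∈ Finset.range (p j).natDegree, ‖y.evTop ((p j).coeff k)‖,
    fun j y => (p j).map (evTopHom y), ha, hsurj, ?_, ?_, ?_, ?_⟩
  · intro j
    refine continuous_const.add (continuous_finsetSum _ fun k _ => ?_)
    exact (continuous_evTop _).norm
  · intro j y
    exact ((hpm j).map _).ne_zero
  · intro j x
    rw [Polynomial.IsRoot.def, Polynomial.eval_map, ← evTopHom_map f x]
    have h1 := Polynomial.hom_eval₂ (p j) f.appTop.hom (evTopHom x) (b j)
    rw [← evTopHom_apply, ← h1]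
    have h2 : Polynomial.eval₂ f.appTop.hom (b j) (p j) = 0 := hp0 j
    rw [h2, map_zero]
  · intro j x
    have hroot : ((p j).map (evTopHom (Pts.map f x))).IsRoot (x.evTop (b j)) := by
      rw [Polynomial.IsRoot.def, Polynomial.eval_map, ← evTopHom_map f x]
      have h1 := Polynomial.hom_eval₂ (p j) f.appTop.hom (evTopHom x) (b j)
      rw [← evTopHom_apply, ← h1]
      have h2 : Polynomial.eval₂ f.appTop.hom (b j) (p j) = 0 := hp0 j
      rw [h2, map_zero]
    have := norm_le_of_monic_root _ ((hpm j).map _) _ hroot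
    rw [(hpm j).natDegree_map] at this
    simpa [Polynomial.coeff_map, evTopHom_apply] using this

end Groth.Agent.H6.An

namespace Groth.Agent.H6.An

variable {X Y : Scheme.{0}} [X.Over SC] [Y.Over SC]

lemma t2Space_of_isAffine [IsAffine Y] [LocallyOfFiniteType (Y ↘ SC)] : T2Space (Pts Y) := by
  obtain ⟨n, a, ha⟩ := exists_generators (X := Y)
  exact (isClosedEmbedding_coordMap a ha).isEmbedding.t2Space

theorem isProperMap_map_of_isFinite_of_isAffine [IsAffine X] [IsAffine Y]
    [LocallyOfFiniteType (Y ↘ SC)] (f : X ⟶ Y) [f.IsOver SC] [IsFinite f] :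
    IsProperMap (Pts.map f) := by
  obtain ⟨n, m, a, b, Bd, q, ha, hsurj, hBd, -, -, hle⟩ := finite_affine_aux f
  have : T2Space (Pts Y) := t2Space_of_isAffine
  have : LocallyCompactSpace (Pts Y) := locallyCompactSpace_of_isAffine
  rw [isProperMap_iff_isCompact_preimage]
  refine ⟨Pts.continuous_map f, fun K hK => ?_⟩
  have hcX := isClosedEmbedding_coordMap _ hsurj
  rw [hcX.isEmbedding.isCompact_iff]
  -- a continuous bound
  let Θ : Pts Y → ℝ := fun y => ∑ i, ‖y.evTop (a i)‖ + ∑ j, Bd j y
  have hΘ : Continuous Θ :=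
    (continuous_finsetSum _ fun i _ => (continuous_evTop _).norm).add
      (continuous_finsetSum _ fun j _ => hBd j)
  obtain ⟨C, hC⟩ := hK.exists_bound_of_continuousOn hΘ.continuousOn
  have hclosed : IsClosed (coordMap (Sum.elim (fun i => f.appTop.hom (a i)) b) ''
      (Pts.map f ⁻¹' K)) :=
    hcX.isClosedMap _ (hK.isClosed.preimage (Pts.continuous_map f))
  refine (isCompact_closedBall (0 : Fin n ⊕ Fin m → ℂ) (max C 0)).of_isClosed_subset hclosed ?_
  rintro _ ⟨x, hx, rfl⟩
  rw [mem_closedBall_zero_iff, pi_norm_le_iff_of_nonneg (le_max_right _ _)]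
  have hBdnn : ∀ j, 0 ≤ Bd j (Pts.map f x) := fun j => (norm_nonneg _).trans (hle j x)
  have hΘle : Θ (Pts.map f x) ≤ max C 0 :=
    ((le_abs_self _).trans (hC _ hx)).trans (le_max_left _ _)
  rintro (i | j)
  · refine le_trans ?_ hΘle
    change ‖x.evTop (f.appTop.hom (a i))‖ ≤ _
    have h1 : x.evTop (f.appTop.hom (a i)) = (Pts.map f x).evTop (a i) := (evTop_map f x (a i)).symm
    rw [h1]
    have h2 : ‖(Pts.map f x).evTop (a i)‖ ≤ ∑ i, ‖(Pts.map f x).evTop (a i)‖ :=
      Finset.single_le_sum (f := fun i => ‖(Pts.map f x).evTop (a i)‖)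
        (fun _ _ => norm_nonneg _) (Finset.mem_univ i)
    exact h2.trans (le_add_of_nonneg_right (Finset.sum_nonneg fun j _ => hBdnn j))
  · refine le_trans ?_ hΘle
    change ‖x.evTop (b j)‖ ≤ _
    have h2 : Bd j (Pts.map f x) ≤ ∑ j, Bd j (Pts.map f x) :=
      Finset.single_le_sum (f := fun j => Bd j (Pts.map f x))
        (fun j _ => hBdnn j) (Finset.mem_univ j)
    exact (hle j x).trans (h2.trans (le_add_of_nonneg_left
      (Finset.sum_nonneg fun i _ => norm_nonneg _)))

theorem finite_fiber_of_isFinite_of_isAffine [IsAffine X] [IsAffine Y]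
    [LocallyOfFiniteType (Y ↘ SC)] (f : X ⟶ Y) [f.IsOver SC] [IsFinite f] (y : Pts Y) :
    (Pts.map f ⁻¹' {y}).Finite := by
  obtain ⟨n, m, a, b, Bd, q, ha, hsurj, -, hq0, hroot, -⟩ := finite_affine_aux f
  have hinj := coordMap_injective _ hsurj
  apply Set.Finite.of_finite_image (f := fun x : Pts X => fun j => x.evTop (b j))
  · refine Set.Finite.subset (Set.Finite.pi' (fun j => Polynomial.finite_setOfPred_isRoot (hq0 j y))) ?_
    rintro _ ⟨x, hx, rfl⟩ j
    have := hroot j x
    rw [Set.mem_preimage, Set.mem_singleton_iff] at hx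
    rw [hx] at this
    exact this
  · intro x hx x' hx' hxx'
    rw [Set.mem_preimage, Set.mem_singleton_iff] at hx hx'
    apply hinj
    funext k
    rcases k with i | j
    · change x.evTop (f.appTop.hom (a i)) = x'.evTop (f.appTop.hom (a i))
      rw [← evTop_map f x, ← evTop_map f x', hx, hx']
    · exact congrFun hxx' j

end Groth.Agent.H6.An
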