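import Mathlib
import Groth.Agent.Lib.Helper6.An15a
import Groth.Agent.Lib.Helper6.An12e
set_option autoImplicit false
open AlgebraicGeometry CategoryTheory An Topology

namespace Groth.Agent.H6.An

lemma isCoveringMapOn_of_square {E B E' B' : Type*} [TopologicalSpace E] [TopologicalSpace B]
    [TopologicalSpace E'] [TopologicalSpace B'] (F : E → B) (S : Set B) (hS : IsOpen S)
    (hF : Continuous F) (i : E' → E) (j : B' → B) (F' : E' → B') (hi : IsOpenEmbedding i)
    (hj : IsOpenEmbedding j) (hri : Set.range i = F ⁻¹' S) (hrj : Set.range j = S)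
    (hsq : ∀ e, F (i e) = j (F' e)) (hF' : IsCoveringMap F') : IsCoveringMapOn F S := by
  let ei : E' ≃ₜ ↥(F ⁻¹' S) := (hi.isEmbedding.toHomeomorph).trans (Homeomorph.setCongr hri)
  let ej : B' ≃ₜ ↥S := (hj.isEmbedding.toHomeomorph).trans (Homeomorph.setCongr hrj)
  have hei : ∀ e, ((ei e : ↥(F ⁻¹' S)) : E) = i e := fun e => rfl
  have hej : ∀ e, ((ej e : ↥S) : B) = j e := fun e => rfl
  have h1 : S.restrictPreimage F = ej ∘ (F' ∘ ei.symm) := by
    funext z
    apply Subtype.ext
    obtain ⟨e, rfl⟩ := ei.surjective z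
    simp only [Function.comp_apply, Homeomorph.symm_apply_apply, hej]
    change F ((ei e : ↥(F ⁻¹' S)) : E) = _
    rw [hei, hsq]
  apply IsCoveringMapOn.of_isCoveringMap_restrictPreimage S hS (hS.preimage hF)
  rw [h1]
  exact (hF'.comp_homeomorph ei.symm).homeomorph_comp ej

variable {X Y : Scheme.{0}} [X.Over SC] [Y.Over SC]

theorem isCoveringMap_map_of_isAffine [IsAffine X] [IsAffine Y] [LocallyOfFiniteType (X ↘ SC)]
    [LocallyOfFiniteType (Y ↘ SC)] (f : X ⟶ Y) [f.IsOver SC] [IsFinite f] [Etale f] :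
    IsCoveringMap (Pts.map f) := by
  have : T2Space (Pts X) := t2Space_of_isAffine
  rw [isCoveringMap_iff_isCoveringMapOn_univ]
  apply IsClosedMap.isCoveringMapOn_of_isLocalHomeomorphOn
  · exact (isProperMap_map_of_isFinite_of_isAffine f).isClosedMap
  · intro y _
    exact finite_fiber_of_isFinite_of_isAffine f y
  · exact (isLocalHomeomorph_map_of_etale f).isLocalHomeomorphOn

theorem isCoveringMap_map_of_finite_etale [LocallyOfFiniteType (X ↘ SC)]
    [LocallyOfFiniteType (Y ↘ SC)] (f : X ⟶ Y) [f.IsOver SC] [IsFinite f] [Etale f] :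
    IsCoveringMap (Pts.map f) ∧ ∀ y : Pts Y, (Pts.map f ⁻¹' {y}).Finite := by
  have key : ∀ y : Pts Y, ∃ U : Y.Opens, IsAffineOpen U ∧ y.pt ∈ U := by
    intro y
    obtain ⟨_, ⟨U, hU, rfl⟩, hxU, -⟩ :=
      (Y.isBasis_affineOpens).exists_subset_of_mem_open (Set.mem_univ y.pt) isOpen_univ
    exact ⟨U, hU, hxU⟩
  have hrange : ∀ U : Y.Opens, Set.range (Pts.map (f ⁻¹ᵁ U).ι) =
      Pts.map f ⁻¹' (Pts.pt ⁻¹' (U : Set Y)) := by
    intro U
    rw [range_map_ι]
    ext x
    simp only [Set.mem_preimage, Pts.pt_map]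
    rfl
  constructor
  · intro y
    obtain ⟨U, hU, hyU⟩ := key y
    have : IsAffine U.toScheme := hU
    have : IsAffine (f ⁻¹ᵁ U).toScheme := hU.preimage f
    have : IsFinite (f ∣_ U) :=
      MorphismProperty.of_isPullback (isPullback_morphismRestrict f U).flip ‹IsFinite f›
    have hcov := isCoveringMap_map_of_isAffine (f ∣_ U)
    have := isCoveringMapOn_of_square (Pts.map f) (Pts.pt ⁻¹' (U : Set Y))
      (Pts.isOpen_preimage_pt U) (Pts.continuous_map f) (Pts.map (f ⁻¹ᵁ U).ι) (Pts.map U.ι)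
      (Pts.map (f ∣_ U)) (isOpenEmbedding_map_ι _) (isOpenEmbedding_map_ι _) (hrange U)
      (range_map_ι U) (fun e => map_restrict_comm f U e) hcov
    exact this y hyU
  · intro y
    obtain ⟨U, hU, hyU⟩ := key y
    have : IsAffine U.toScheme := hU
    have : IsAffine (f ⁻¹ᵁ U).toScheme := hU.preimage f
    have : IsFinite (f ∣_ U) :=
      MorphismProperty.of_isPullback (isPullback_morphismRestrict f U).flip ‹IsFinite f›
    have hy : y ∈ Set.range (Pts.map U.ι) := by rw [range_map_ι]; exact hyU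
    obtain ⟨y', rfl⟩ := hy
    have hfin := finite_fiber_of_isFinite_of_isAffine (f ∣_ U) y'
    refine (hfin.image (Pts.map (f ⁻¹ᵁ U).ι)).subset ?_
    intro x hx
    rw [Set.mem_preimage, Set.mem_singleton_iff] at hx
    have hx2 : x ∈ Set.range (Pts.map (f ⁻¹ᵁ U).ι) := by
      rw [hrange U, Set.mem_preimage, hx, ← range_map_ι]
      exact ⟨y', rfl⟩
    obtain ⟨x', rfl⟩ := hx2
    refine ⟨x', ?_, rfl⟩
    rw [Set.mem_preimage, Set.mem_singleton_iff]
    apply (isOpenEmbedding_map_ι U).injective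
    rw [← map_restrict_comm, hx]

end Groth.Agent.H6.An
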