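import Groth.Agent.Lib.Helper6.An3

set_option autoImplicit false

open AlgebraicGeometry CategoryTheory TopologicalSpace Opposite An Topology Set.Notation

namespace Groth.Agent.H6.An

section finlc

variable {T : Type*} [TopologicalSpace T]

/-- finite unions of locally closed sets -/
def FinLC (s : Set T) : Prop :=
  ∃ F : Set (Set T), F.Finite ∧ (∀ Z ∈ F, IsLocallyClosed Z) ∧ s = ⋃₀ F

lemma FinLC.of_isLocallyClosed {s : Set T} (h : IsLocallyClosed s) : FinLC s :=
  ⟨{s}, Set.finite_singleton s, by simpa using h, by simp⟩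

lemma FinLC.union {s t : Set T} (hs : FinLC s) (ht : FinLC t) : FinLC (s ∪ t) := by
  obtain ⟨F, hF, hFl, rfl⟩ := hs
  obtain ⟨G, hG, hGl, rfl⟩ := ht
  refine ⟨F ∪ G, hF.union hG, ?_, (Set.sUnion_union F G).symm⟩
  rintro Z (hZ | hZ)
  · exact hFl Z hZ
  · exact hGl Z hZ

lemma FinLC.inter {s t : Set T} (hs : FinLC s) (ht : FinLC t) : FinLC (s ∩ t) := by
  obtain ⟨F, hF, hFl, rfl⟩ := hs
  obtain ⟨G, hG, hGl, rfl⟩ := ht
  refine ⟨Set.image2 (· ∩ ·) F G, hF.image2 _ hG, ?_, ?_⟩
  · rintro _ ⟨Z, hZ, Z', hZ', rfl⟩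
    exact (hFl Z hZ).inter (hGl Z' hZ')
  · ext x
    simp only [Set.mem_inter_iff, Set.mem_sUnion, Set.mem_image2]
    constructor
    · rintro ⟨⟨Z, hZ, hxZ⟩, ⟨Z', hZ', hxZ'⟩⟩
      exact ⟨Z ∩ Z', ⟨Z, hZ, Z', hZ', rfl⟩, hxZ, hxZ'⟩
    · rintro ⟨_, ⟨Z, hZ, Z', hZ', rfl⟩, hxZ, hxZ'⟩
      exact ⟨⟨Z, hZ, hxZ⟩, ⟨Z', hZ', hxZ'⟩⟩

lemma finLC_of_isConstructible {s : Set T} (hs : IsConstructible s) : FinLC s ∧ FinLC sᶜ := by
  induction hs using IsConstructible.empty_union_induction with
  | open_retrocompact U hU _ =>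
    exact ⟨.of_isLocallyClosed hU.isLocallyClosed,
      .of_isLocallyClosed hU.isClosed_compl.isLocallyClosed⟩
  | union s _ t _ hs ht =>
    refine ⟨hs.1.union ht.1, ?_⟩
    rw [Set.compl_union]
    exact hs.2.inter ht.2
  | compl s _ hs =>
    refine ⟨hs.2, ?_⟩
    rw [compl_compl]
    exact hs.1

/-- A nonempty locally constructible subset of a Jacobson space contains a closed point. -/
lemma exists_closedPoint_of_isLocallyConstructible [JacobsonSpace T] {s : Set T}
    (hs : IsLocallyConstructible s) (hne : s.Nonempty) : ∃ x ∈ s, IsClosed ({x} : Set T) := by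
  obtain ⟨t, ht⟩ := hne
  obtain ⟨U, hUt, hUo, hUc⟩ := hs t
  obtain ⟨F, -, hFl, hFe⟩ := (finLC_of_isConstructible hUc).1
  have htU : t ∈ U := mem_of_mem_nhds hUt
  have : (⟨t, htU⟩ : U) ∈ (U ↓∩ s) := ht
  rw [hFe] at this
  obtain ⟨Z, hZ, htZ⟩ := this
  have hZlc : IsLocallyClosed (Subtype.val '' Z : Set T) :=
    (hFl Z hZ).image Topology.IsInducing.subtypeVal
      (by rw [Subtype.range_coe]; exact hUo.isLocallyClosed)
  obtain ⟨x, ⟨y, hyZ, rfl⟩, hx⟩ := nonempty_inter_closedPoints (Z := Subtype.val '' Z) ⟨t, ⟨⟨t, htU⟩, htZ, rfl⟩⟩ hZlc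
  refine ⟨y, ?_, hx⟩
  have : y ∈ (U ↓∩ s) := by rw [hFe]; exact ⟨Z, hZ, hyZ⟩
  exact this

lemma isLocallyConstructible_compl {s : Set T} (hs : IsLocallyConstructible s) :
    IsLocallyConstructible sᶜ := by
  intro x
  obtain ⟨U, hUx, hUo, hUc⟩ := hs x
  refine ⟨U, hUx, hUo, ?_⟩
  rw [Set.preimage_compl]
  exact hUc.compl

end finlc


section surj

variable {X Y : Scheme.{0}} [X.Over SC] [Y.Over SC]
  [LocallyOfFiniteType (X ↘ SC)] [LocallyOfFiniteType (Y ↘ SC)]

lemma isLocallyNoetherian_of_lft : IsLocallyNoetherian X :=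
  LocallyOfFiniteType.isLocallyNoetherian (X ↘ SC)

/-- a nonempty locally constructible subset contains the underlying point of a `ℂ`-point. -/
lemma exists_pt_mem_of_isLocallyConstructible {s : Set X} (hs : IsLocallyConstructible s)
    (hne : s.Nonempty) : ∃ x : Pts X, x.pt ∈ s := by
  obtain ⟨p, hp, hpc⟩ := exists_closedPoint_of_isLocallyConstructible hs hne
  obtain ⟨x, rfl⟩ := exists_pt_eq hpc
  exact ⟨x, hp⟩

theorem surjective_iff_pts (f : X ⟶ Y) [f.IsOver SC] [QuasiCompact f] :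
    Function.Surjective f.base ↔ Function.Surjective (Pts.map f) := by
  constructor
  · intro h
    rw [← Set.range_eq_univ, range_map]
    have : Set.range f = Set.univ := Set.range_eq_univ.2 h
    rw [this, Set.preimage_univ]
  · intro h
    have : IsLocallyNoetherian Y := isLocallyNoetherian_of_lft
    have : LocallyOfFiniteType f := lft_hom f
    have hc : IsLocallyConstructible (Set.range f)ᶜ := by
      rw [← Set.image_univ]
      exact isLocallyConstructible_compl (f.isLocallyConstructible_image IsLocallyConstructible.univ)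
    by_contra hns
    have hne : (Set.range f)ᶜ.Nonempty := by
      rw [Set.nonempty_compl, Ne, Set.range_eq_univ]
      exact hns
    obtain ⟨y, hy⟩ := exists_pt_mem_of_isLocallyConstructible hc hne
    obtain ⟨x, rfl⟩ := h y
    apply hy
    rw [Pts.pt_map]
    exact ⟨_, rfl⟩

end surj


section inj

/-- In a Jacobson space, the complement of a locally closed set, if nonempty, contains a closed
point. -/
lemma exists_closedPoint_not_mem_of_isLocallyClosed {T : Type*} [TopologicalSpace T]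
    [JacobsonSpace T] {R : Set T} (hR : IsLocallyClosed R) {p : T} (hp : p ∉ R) :
    ∃ z, IsClosed ({z} : Set T) ∧ z ∉ R := by
  by_cases hpc : p ∈ closure R
  · have hcl : IsClosed (coborder R)ᶜ := hR.isOpen_coborder.isClosed_compl
    have hpm : p ∈ (coborder R)ᶜ := by
      rw [coborder, compl_compl]
      exact ⟨hpc, hp⟩
    obtain ⟨z, hz1, hz2⟩ := nonempty_inter_closedPoints ⟨p, hpm⟩ hcl.isLocallyClosed
    refine ⟨z, hz2, fun hzR => hz1 (subset_coborder hzR)⟩
  · obtain ⟨z, hz1, hz2⟩ := nonempty_inter_closedPoints (Z := (closure R)ᶜ) ⟨p, hpc⟩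
      isClosed_closure.isOpen_compl.isLocallyClosed
    exact ⟨z, hz2, fun hzR => hz1 (subset_closure hzR)⟩

variable {X Y : Scheme.{0}} [X.Over SC] [Y.Over SC]
  [LocallyOfFiniteType (X ↘ SC)] [LocallyOfFiniteType (Y ↘ SC)]

instance lft_pullback {S : Scheme.{0}} [S.Over SC] (f : X ⟶ S) (g : Y ⟶ S) [f.IsOver SC]
    [g.IsOver SC] : LocallyOfFiniteType (Limits.pullback f g ↘ SC) := by
  have : LocallyOfFiniteType g := lft_hom g
  exact inferInstanceAs (LocallyOfFiniteType (Limits.pullback.fst f g ≫ X ↘ SC))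

omit [LocallyOfFiniteType (Y ↘ SC)] in
theorem injective_iff_pts (f : X ⟶ Y) [f.IsOver SC] :
    Function.Injective f.base ↔ Function.Injective (Pts.map f) := by
  constructor
  · intro h x y hxy
    apply pt_injective
    apply h
    rw [← Pts.pt_map, ← Pts.pt_map, hxy]
  · intro h x1 x2 h12
    by_contra hne
    obtain ⟨p, hp1, hp2⟩ := Scheme.Pullback.exists_preimage_pullback (f := f) (g := f) x1 x2 h12
    have hR : IsLocallyClosed (Set.range (Limits.pullback.diagonal f)) :=
      (Limits.pullback.diagonal f).isLocallyClosed_range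
    have hpR : p ∉ Set.range (Limits.pullback.diagonal f) := by
      rintro ⟨q, rfl⟩
      apply hne
      rw [← hp1, ← hp2, ← Scheme.Hom.comp_apply, ← Scheme.Hom.comp_apply,
        Limits.pullback.diagonal_fst, Limits.pullback.diagonal_snd]
    obtain ⟨z0, hz0c, hz0R⟩ := exists_closedPoint_not_mem_of_isLocallyClosed hR hpR
    obtain ⟨z, rfl⟩ := exists_pt_eq (X := Limits.pullback f f) hz0c
    have hz := h (Pts.map_pullback_condition f f z)
    have hz' : z.1 ≫ Limits.pullback.fst f f = z.1 ≫ Limits.pullback.snd f f :=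
      congrArg Subtype.val hz
    have hzΔ : z.1 = (z.1 ≫ Limits.pullback.fst f f) ≫ Limits.pullback.diagonal f := by
      apply Limits.pullback.hom_ext
      · rw [Category.assoc, Limits.pullback.diagonal_fst, Category.comp_id]
      · rw [Category.assoc, Limits.pullback.diagonal_snd, Category.comp_id, hz']
    apply hz0R
    change z.1 cpt ∈ _
    rw [hzΔ, Scheme.Hom.comp_apply]
    exact ⟨_, rfl⟩

end inj

end Groth.Agent.H6.An
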