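import Groth.Agent.Lib.Helper6.An5

set_option autoImplicit false
set_option linter.unusedSectionVars false

open AlgebraicGeometry CategoryTheory TopologicalSpace Opposite An Topology

namespace Groth.Agent.H6.An

section alg

variable (A : Type) [CommRing A] [Algebra ℂ A] [Algebra.FiniteType ℂ A]

/-- residue field of a maximal ideal of a f.g. `ℂ`-algebra is `ℂ` -/
lemma algebraMap_quotient_bijective (Q : Ideal A) [Q.IsMaximal] :
    Function.Bijective (algebraMap ℂ (A ⧸ Q)) := by
  let _ := Ideal.Quotient.field Q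
  have : Algebra.FiniteType ℂ (A ⧸ Q) :=
    Algebra.FiniteType.of_surjective (Ideal.Quotient.mkₐ ℂ Q) (Ideal.Quotient.mkₐ_surjective ℂ Q)
  have := finite_of_finite_type_of_isJacobsonRing ℂ (A ⧸ Q)
  exact IsAlgClosed.algebraMap_bijective_of_isIntegral

/-- the character attached to a maximal ideal -/
noncomputable def charOfMaximal (Q : Ideal A) [Q.IsMaximal] : A →ₐ[ℂ] ℂ :=
  ((AlgEquiv.ofBijective (Algebra.ofId ℂ (A ⧸ Q))
    (algebraMap_quotient_bijective A Q)).symm : (A ⧸ Q) →ₐ[ℂ] ℂ).comp (Ideal.Quotient.mkₐ ℂ Q)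

lemma charOfMaximal_eq {Q : Ideal A} [Q.IsMaximal] (a : A) (c : ℂ)
    (h : a - algebraMap ℂ A c ∈ Q) : charOfMaximal A Q a = c := by
  unfold charOfMaximal
  simp only [AlgHom.comp_apply, Ideal.Quotient.mkₐ_eq_mk]
  have : (Ideal.Quotient.mk Q) a = Algebra.ofId ℂ (A ⧸ Q) c := by
    rw [Algebra.ofId_apply, IsScalarTower.algebraMap_apply ℂ A (A ⧸ Q),
      Ideal.Quotient.algebraMap_eq]
    exact Ideal.Quotient.eq.2 h
  rw [this]
  exact (AlgEquiv.ofBijective (Algebra.ofId ℂ (A ⧸ Q))
    (algebraMap_quotient_bijective A Q)).symm_apply_apply c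

theorem isArtinianRing_of_countable_char [Countable (A →ₐ[ℂ] ℂ)] : IsArtinianRing A := by
  rcases subsingleton_or_nontrivial A with hsub | hnt
  · have : Finite A := Finite.of_subsingleton
    infer_instance
  obtain ⟨s, g, hginj, hgfin⟩ := exists_finite_inj_algHom_of_fg ℂ A
  rcases Nat.eq_zero_or_pos s with rfl | hs
  · -- `A` is finite over `ℂ`
    algebraize [g.toRingHom]
    have h1 : Module.Finite (MvPolynomial (Fin 0) ℂ) A := hgfin
    have h2 : Module.Finite ℂ (MvPolynomial (Fin 0) ℂ) :=
      Module.Finite.equiv (MvPolynomial.isEmptyAlgEquiv ℂ (Fin 0)).symm.toLinearEquiv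
    have : IsScalarTower ℂ (MvPolynomial (Fin 0) ℂ) A :=
      IsScalarTower.of_algebraMap_eq fun c => (g.commutes c).symm
    have h3 : Module.Finite ℂ A := Module.Finite.trans (MvPolynomial (Fin 0) ℂ) A
    exact IsArtinianRing.of_finite ℂ A
  · exfalso
    algebraize [g.toRingHom]
    have hint : Algebra.IsIntegral (MvPolynomial (Fin s) ℂ) A :=
      Algebra.isIntegral_def.2 hgfin.to_isIntegral
    have key : ∀ c : ℂ, ∃ φ : A →ₐ[ℂ] ℂ, φ (g (MvPolynomial.X ⟨0, hs⟩)) = c := by
      intro c
      let ev : MvPolynomial (Fin s) ℂ →ₐ[ℂ] ℂ := MvPolynomial.aeval (fun _ => c)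
      have hev : Function.Surjective ev := fun z => ⟨MvPolynomial.C z, by simp [ev]⟩
      have hmax : (RingHom.ker ev.toRingHom).IsMaximal :=
        RingHom.ker_isMaximal_of_surjective ev.toRingHom hev
      obtain ⟨Q, hQmax, hQ⟩ := Ideal.exists_ideal_over_maximal_of_isIntegral
        (S := A) (RingHom.ker ev.toRingHom) (by
          have : RingHom.ker (algebraMap (MvPolynomial (Fin s) ℂ) A) = ⊥ :=
            (RingHom.injective_iff_ker_eq_bot _).1 hginj
          rw [this]; exact bot_le)
      refine ⟨charOfMaximal A Q, charOfMaximal_eq A _ c ?_⟩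
      have hmem : (MvPolynomial.X ⟨0, hs⟩ - MvPolynomial.C c : MvPolynomial (Fin s) ℂ) ∈
          RingHom.ker ev.toRingHom := by
        rw [RingHom.mem_ker]
        simp [ev]
      rw [← hQ, Ideal.mem_comap] at hmem
      have h5 : algebraMap (MvPolynomial (Fin s) ℂ) A
          (MvPolynomial.X ⟨0, hs⟩ - MvPolynomial.C c) =
          g (MvPolynomial.X ⟨0, hs⟩) - algebraMap ℂ A c := by
        change g _ = _
        rw [map_sub]
        congr 1
        exact g.commutes c
      rw [h5] at hmem
      exact hmem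
    choose φ hφ using key
    have hinj : Function.Injective φ := by
      intro c c' h
      rw [← hφ c, ← hφ c', h]
    have : Countable ℂ := hinj.countable
    exact not_countable_complex Set.countable_univ

end alg


section discrete

variable {X : Scheme.{0}} [X.Over SC] [LocallyOfFiniteType (X ↘ SC)]

lemma finiteType_strHom [IsAffine X] : (strHom X).FiniteType := by
  have h1 : RingHom.FiniteType (X ↘ SC).appTop.hom :=
    HasRingHomProperty.appTop (P := @LocallyOfFiniteType) _ inferInstance
  unfold strHom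
  refine h1.comp (RingHom.FiniteType.of_surjective _ ?_)
  exact ((ConcreteCategory.isIso_iff_bijective
    (Scheme.ΓSpecIso (CommRingCat.of ℂ)).inv).1 inferInstance).2

lemma discreteTopology_of_isArtinianRing [IsAffine X] [IsArtinianRing Γ(X, ⊤)] :
    DiscreteTopology X := by
  have e : X ≃ₜ PrimeSpectrum Γ(X, ⊤) := Scheme.homeoOfIso X.isoSpec
  exact e.isEmbedding.discreteTopology

lemma discreteTopology_of_countable_of_isAffine [IsAffine X] [Countable (Pts X)] :
    DiscreteTopology X := by
  let _ : Algebra ℂ Γ(X, ⊤) := (strHom X).toAlgebra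
  have hft : Algebra.FiniteType ℂ Γ(X, ⊤) := finiteType_strHom
  have hinj : Function.Injective (fun φ : Γ(X, ⊤) →ₐ[ℂ] ℂ =>
      ofHom (X := X) φ.toRingHom (by ext c; exact φ.commutes c)) := by
    intro φ ψ h
    have h1 := congrArg evTopHom h
    rw [evTopHom_ofHom, evTopHom_ofHom] at h1
    ext a
    exact congrArg (fun f => f a) h1
  have : Countable (Γ(X, ⊤) →ₐ[ℂ] ℂ) := hinj.countable
  have := isArtinianRing_of_countable_char Γ(X, ⊤)
  exact discreteTopology_of_isArtinianRing

theorem discreteTopology_iff_pts : DiscreteTopology ↥X ↔ DiscreteTopology (Pts X) := by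
  constructor
  · intro h
    rw [discreteTopology_iff_isOpen_singleton]
    intro x
    have : ({x} : Set (Pts X)) = Pts.pt ⁻¹' {x.pt} := by
      ext y
      simp only [Set.mem_singleton_iff, Set.mem_preimage]
      exact ⟨fun h => h ▸ rfl, fun h => pt_injective h⟩
    rw [this]
    exact (isOpen_discrete _).preimage Pts.continuous_pt
  · intro h
    rw [discreteTopology_iff_isOpen_singleton]
    intro p
    obtain ⟨U, hU, hpU⟩ : ∃ U : X.Opens, IsAffineOpen U ∧ p ∈ U := by
      obtain ⟨_, ⟨U, hU, rfl⟩, hxU, -⟩ :=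
        (X.isBasis_affineOpens).exists_subset_of_mem_open (Set.mem_univ p) isOpen_univ
      exact ⟨U, hU, hxU⟩
    have : IsAffine U.toScheme := hU
    have hd : DiscreteTopology (Pts U.toScheme) := (isOpenEmbedding_map_ι U).isEmbedding.discreteTopology
    obtain ⟨n, s, hs⟩ := exists_generators (X := U.toScheme)
    have hsc : SecondCountableTopology (Pts U.toScheme) :=
      (isClosedEmbedding_coordMap s hs).isEmbedding.secondCountableTopology
    have hc : Countable (Pts U.toScheme) :=
      TopologicalSpace.separableSpace_iff_countable.1 inferInstance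
    have hdU : DiscreteTopology U.toScheme := discreteTopology_of_countable_of_isAffine
    let q0 : U.toScheme := ⟨p, hpU⟩
    have hop : IsOpen ({q0} : Set U.toScheme) := isOpen_discrete _
    have := U.ι.isOpenEmbedding.isOpenMap _ hop
    rw [Set.image_singleton] at this
    exact this

end discrete

end Groth.Agent.H6.An
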