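import Mathlib

set_option autoImplicit false

open Polynomial

namespace Groth.Agent.H6.An

/-- product of a nonempty multiset of reals all `> δ ≥ 0` exceeds `δ ^ card`. -/
lemma multiset_pow_lt_prod {δ : ℝ} (hδ : 0 ≤ δ) (m : Multiset ℝ) (hm : ∀ x ∈ m, δ < x)
    (hne : m ≠ 0) : δ ^ Multiset.card m < m.prod := by
  induction m using Multiset.induction_on with
  | empty => exact absurd rfl hne
  | cons a m ih =>
    rw [Multiset.card_cons, Multiset.prod_cons, pow_succ']
    have ha : δ < a := hm a (Multiset.mem_cons_self a m)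
    by_cases h0 : m = 0
    · subst h0
      simpa using ha
    · have := ih (fun x hx => hm x (Multiset.mem_cons_of_mem hx)) h0
      exact mul_lt_mul'' ha this hδ (pow_nonneg hδ _)

/-- A monic complex polynomial of positive degree whose constant coefficient is small has a
small root. -/
lemma exists_root_norm_le (p : ℂ[X]) (hp : p.Monic) (hd : 0 < p.natDegree) {δ : ℝ} (hδ : 0 ≤ δ)
    (h : ‖p.coeff 0‖ ≤ δ ^ p.natDegree) : ∃ c, p.IsRoot c ∧ ‖c‖ ≤ δ := by
  by_contra hcon
  simp only [not_exists, not_and, not_le] at hcon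
  have hs : p.Splits := IsAlgClosed.splits p
  have h0 := hs.coeff_zero_eq_prod_roots_of_monic hp
  have hcard := hs.natDegree_eq_card_roots
  have hne : p.roots.map (fun c => ‖c‖) ≠ 0 := by
    intro h1
    have : Multiset.card (p.roots.map fun c => ‖c‖) = 0 := by rw [h1]; rfl
    rw [Multiset.card_map] at this
    omega
  have hlt := multiset_pow_lt_prod hδ (p.roots.map fun c => ‖c‖) (by
    intro x hx
    obtain ⟨c, hc, rfl⟩ := Multiset.mem_map.1 hx
    exact hcon c ((mem_roots hp.ne_zero).1 hc)) hne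
  rw [Multiset.card_map, ← hcard] at hlt
  have hn : ‖p.coeff 0‖ = (p.roots.map fun c => ‖c‖).prod := by
    rw [h0, norm_mul, norm_pow, norm_neg, norm_one, one_pow, one_mul]
    exact (map_multiset_prod (normHom : ℂ →*₀ ℝ) p.roots).trans (by rfl)
  rw [hn] at h
  exact absurd h (not_le.2 hlt)

/-- roots of minimal norm -/
lemma exists_min_root (p : ℂ[X]) (hp : p.Monic) (hd : 0 < p.natDegree) :
    ∃ c, p.IsRoot c ∧ ∀ δ : ℝ, 0 ≤ δ → ‖p.coeff 0‖ ≤ δ ^ p.natDegree → ‖c‖ ≤ δ := by
  have hs : p.Splits := IsAlgClosed.splits p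
  have hne : p.roots.toFinset.Nonempty := by
    have hcard := hs.natDegree_eq_card_roots
    rw [Multiset.toFinset_nonempty]
    intro h
    rw [h] at hcard
    simp at hcard
    omega
  obtain ⟨c, hc, hmin⟩ := p.roots.toFinset.exists_min_image (fun c => ‖c‖) hne
  refine ⟨c, (mem_roots hp.ne_zero).1 (Multiset.mem_toFinset.1 hc), fun δ hδ h => ?_⟩
  obtain ⟨c', hc', hle⟩ := exists_root_norm_le p hp hd hδ h
  exact (hmin c' (Multiset.mem_toFinset.2 ((mem_roots hp.ne_zero).2 hc'))).trans hle

end Groth.Agent.H6.An
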