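import Groth.Agent.Lib.Helper6.An6
import Groth.Agent.Lib.Helper6.An7

set_option autoImplicit false
set_option linter.unusedSectionVars false

open Polynomial

namespace Groth.Agent.H6.An

section lift

variable {R A : Type} [CommRing R] [IsDomain R] [IsIntegrallyClosed R] [Algebra ℂ R]
  [CommRing A] [IsDomain A] [Algebra ℂ A] [Algebra.FiniteType ℂ A]
  [Algebra R A] [IsScalarTower ℂ R A] [Module.IsTorsionFree R A] [Algebra.IsIntegral R A]

/-- Lifting characters along an integral extension of an integrally closed domain, with a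
prescribed value at `f` given by a root of the specialised minimal polynomial. -/
theorem exists_char_lift (f : A) (χ₀ : R →ₐ[ℂ] ℂ) (c : ℂ)
    (hc : ((minpoly R f).map χ₀.toRingHom).IsRoot c) :
    ∃ φ : A →ₐ[ℂ] ℂ, (∀ r, φ (algebraMap R A r) = χ₀ r) ∧ φ f = c := by
  have hf : IsIntegral R f := Algebra.IsIntegral.isIntegral f
  let θ : R[X] →ₐ[R] A := aeval f
  let χ : R[X] →+* ℂ := eval₂RingHom χ₀.toRingHom c
  have hχsurj : Function.Surjective χ := fun z =>
    ⟨C (algebraMap ℂ R z), by simp [χ]⟩
  have hmax : (RingHom.ker χ).IsMaximal := RingHom.ker_isMaximal_of_surjective χ hχsurj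
  have hker : RingHom.ker θ.toRingHom ≤ RingHom.ker χ := by
    intro P hP
    have hP' : aeval f P = 0 := hP
    obtain ⟨P', rfl⟩ := minpoly.isIntegrallyClosed_dvd hf hP'
    rw [RingHom.mem_ker, map_mul]
    have : χ (minpoly R f) = 0 := by
      have := hc
      rw [IsRoot, eval_map] at this
      exact this
    rw [this, zero_mul]
  let _ : Algebra R[X] A := θ.toRingHom.toAlgebra
  have : IsScalarTower R R[X] A := IsScalarTower.of_algebraMap_eq fun r => by
    change _ = θ (C r)
    simp [θ]
  have hint : Algebra.IsIntegral R[X] A :=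
    ⟨fun a => (Algebra.IsIntegral.isIntegral (R := R) a).tower_top⟩
  obtain ⟨Q, hQmax, hQ⟩ := Ideal.exists_ideal_over_maximal_of_isIntegral (S := A)
    (RingHom.ker χ) hker
  have key : ∀ P : R[X], charOfMaximal A Q (θ P) = χ P := by
    intro P
    apply charOfMaximal_eq
    have hmem : P - C (algebraMap ℂ R (χ P)) ∈ RingHom.ker χ := by
      rw [RingHom.mem_ker, map_sub]
      simp [χ]
    rw [← hQ, Ideal.mem_comap] at hmem
    have h2 : algebraMap R[X] A (P - C (algebraMap ℂ R (χ P))) =
        θ P - algebraMap ℂ A (χ P) := by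
      change θ _ = _
      rw [map_sub]
      congr 1
      simp only [θ, aeval_C]
      exact (IsScalarTower.algebraMap_apply ℂ R A _).symm
    rw [h2] at hmem
    exact hmem
  refine ⟨charOfMaximal A Q, fun r => ?_, ?_⟩
  · have := key (C r)
    simpa [θ, χ] using this
  · have := key X
    simpa [θ, χ] using this

end lift


section chars

variable {A : Type} [CommRing A] [Algebra ℂ A] {ι : Type} (s : ι → A)

/-- evaluation of characters on a family -/
def evC (φ : A →ₐ[ℂ] ℂ) : ι → ℂ := fun j => φ (s j)

lemma evC_injective (hs : Algebra.adjoin ℂ (Set.range s) = ⊤) : Function.Injective (evC s) := by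
  intro φ ψ h
  apply AlgHom.ext_of_adjoin_eq_top hs
  rintro _ ⟨j, rfl⟩
  exact congrFun h j

lemma evC_eq_eval (φ : A →ₐ[ℂ] ℂ) (P : MvPolynomial ι ℂ) :
    φ (MvPolynomial.aeval s P) = MvPolynomial.eval (evC s φ) P := by
  have : φ.comp (MvPolynomial.aeval s) = MvPolynomial.aeval (evC s φ) := by
    apply MvPolynomial.algHom_ext
    intro j
    simp [evC]
  have h2 := congrArg (fun F => F P) this
  simp only [AlgHom.comp_apply] at h2
  rw [h2]
  rfl

lemma range_evC (hs : Algebra.adjoin ℂ (Set.range s) = ⊤) :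
    Set.range (evC s) = {v | ∀ P : MvPolynomial ι ℂ, MvPolynomial.aeval s P = 0 →
      MvPolynomial.eval v P = 0} := by
  ext v
  constructor
  · rintro ⟨φ, rfl⟩ P hP
    rw [← evC_eq_eval, hP, map_zero]
  · intro hv
    have hsurj : Function.Surjective (MvPolynomial.aeval s : MvPolynomial ι ℂ →ₐ[ℂ] A) := by
      rw [← AlgHom.range_eq_top, ← Algebra.adjoin_range_eq_range_aeval, hs]
    have H : RingHom.ker (MvPolynomial.aeval s : MvPolynomial ι ℂ →ₐ[ℂ] A).toRingHom ≤
        RingHom.ker (MvPolynomial.aeval v : MvPolynomial ι ℂ →ₐ[ℂ] ℂ).toRingHom := by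
      intro P hP
      have := hv P hP
      have h2 := RingHom.congr_fun (MvPolynomial.coe_aeval_eq_eval v) P
      exact h2.trans this
    refine ⟨AlgHom.liftOfSurjective _ hsurj (MvPolynomial.aeval v) H, ?_⟩
    funext j
    have := AlgHom.liftOfSurjective_apply _ hsurj (MvPolynomial.aeval v) H (MvPolynomial.X j)
    rw [MvPolynomial.aeval_X, MvPolynomial.aeval_X] at this
    exact this

lemma isClosed_range_evC (hs : Algebra.adjoin ℂ (Set.range s) = ⊤) :
    IsClosed (Set.range (evC s)) := by
  rw [range_evC s hs]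
  have : {v : ι → ℂ | ∀ P : MvPolynomial ι ℂ, MvPolynomial.aeval s P = 0 →
      MvPolynomial.eval v P = 0} =
      ⋂ P ∈ {P : MvPolynomial ι ℂ | MvPolynomial.aeval s P = 0},
        {v | MvPolynomial.eval v P = 0} := by
    ext v; simp
  rw [this]
  exact isClosed_biInter fun P _ =>
    isClosed_eq (MvPolynomial.continuous_eval P) continuous_const

end chars

end Groth.Agent.H6.An
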