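import Groth.Agent.Lib.Helper6.An8

set_option autoImplicit false
set_option linter.unusedSectionVars false

open Polynomial Filter Topology

namespace Groth.Agent.H6.An

section density

variable {d : ℕ} {A : Type} [CommRing A] [IsDomain A] [Algebra ℂ A] [Algebra.FiniteType ℂ A]
  [Algebra (MvPolynomial (Fin d) ℂ) A] [IsScalarTower ℂ (MvPolynomial (Fin d) ℂ) A]
  [Module.IsTorsionFree (MvPolynomial (Fin d) ℂ) A]
  [Algebra.IsIntegral (MvPolynomial (Fin d) ℂ) A]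

local notation "Rd" => MvPolynomial (Fin d) ℂ

/-- characters over a point `a` of affine space -/
def charsOver (a : Fin d → ℂ) : Set (A →ₐ[ℂ] ℂ) :=
  {ψ | ∀ r : Rd, ψ (algebraMap Rd A r) = MvPolynomial.aeval a r}

lemma char_aeval_eq (ψ : A →ₐ[ℂ] ℂ) (a : Fin d → ℂ) (hψ : ψ ∈ charsOver (A := A) a) (x : A)
    (P : Rd[X]) :
    ψ (aeval x P) =
      (P.map (MvPolynomial.aeval a : Rd →ₐ[ℂ] ℂ).toRingHom).eval (ψ x) := by
  rw [eval_map, aeval_def]
  have h1 := hom_eval₂ P (algebraMap Rd A) (ψ : A →+* ℂ) x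
  refine h1.trans ?_
  congr 1
  ext r
  · simp only [RingHom.comp_apply]
    have := hψ (MvPolynomial.C r)
    simpa using this
  · simp only [RingHom.comp_apply]
    exact hψ _

lemma charsOver_finite (a : Fin d → ℂ) : (charsOver (A := A) a).Finite := by
  obtain ⟨S, hS⟩ := (Algebra.FiniteType.out : (⊤ : Subalgebra ℂ A).FG)
  let s : S → A := Subtype.val
  have hs : Algebra.adjoin ℂ (Set.range s) = ⊤ := by
    rw [Subtype.range_coe_subtype]
    exact hS
  have hinj := evC_injective s hs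
  apply Set.Finite.of_finite_image _ hinj.injOn
  apply Set.Finite.subset (Set.Finite.pi' (t := fun j : S =>
    {z : ℂ | (((minpoly Rd (s j)).map (MvPolynomial.aeval a : Rd →ₐ[ℂ] ℂ).toRingHom)).IsRoot z})
    fun j => ?_)
  · rintro _ ⟨ψ, hψ, rfl⟩ j
    change IsRoot _ (ψ (s j))
    rw [IsRoot, ← char_aeval_eq ψ a hψ (s j) (minpoly Rd (s j)), minpoly.aeval, map_zero]
  · apply finite_setOfPred_isRoot
    exact ((minpoly.monic (Algebra.IsIntegral.isIntegral (s j))).map _).ne_zero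

/-- a function separating `φ₀` from the other characters over `a`. -/
lemma exists_separating (a : Fin d → ℂ) (φ₀ : A →ₐ[ℂ] ℂ) :
    ∃ f : A, φ₀ f = 0 ∧ ∀ ψ ∈ charsOver (A := A) a, ψ f = 0 → ψ = φ₀ := by
  classical
  have hfin := charsOver_finite (A := A) a
  have hex : ∀ ψ : A →ₐ[ℂ] ℂ, ∃ e : A, φ₀ e = 0 ∧ (ψ ≠ φ₀ → ψ e = 1) := by
    intro ψ
    by_cases h : ψ = φ₀
    · exact ⟨0, map_zero _, fun h' => absurd h h'⟩
    · obtain ⟨x, hx⟩ := DFunLike.ne_iff.1 h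
      refine ⟨algebraMap ℂ A (ψ x - φ₀ x)⁻¹ * (x - algebraMap ℂ A (φ₀ x)), ?_, fun _ => ?_⟩
      · simp
      · have : ψ x - φ₀ x ≠ 0 := sub_ne_zero.2 hx
        simp [this]
  choose e he0 he1 using hex
  refine ⟨1 - ∏ ψ ∈ hfin.toFinset.erase φ₀, (1 - e ψ), ?_, ?_⟩
  · rw [map_sub, map_one, map_prod]
    simp [he0]
  · intro ψ hψ hψf
    by_contra hne
    have hmem : ψ ∈ hfin.toFinset.erase φ₀ := Finset.mem_erase.2 ⟨hne, hfin.mem_toFinset.2 hψ⟩
    rw [map_sub, map_one, map_prod] at hψf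
    have : ∏ x ∈ hfin.toFinset.erase φ₀, ψ (1 - e x) = 0 :=
      Finset.prod_eq_zero hmem (by rw [map_sub, map_one, he1 ψ hne, sub_self])
    rw [this] at hψf
    simp at hψf


/-- points on the line through `a` and `b` -/
def linePt (a b : Fin d → ℂ) (t : ℂ) : Fin d → ℂ := fun i => a i + t * (b i - a i)

/-- restriction of polynomials to the line, as polynomials in `t`. -/
noncomputable def lineCoeff (a b : Fin d → ℂ) : Rd →ₐ[ℂ] ℂ[X] :=
  MvPolynomial.aeval (fun i => C (a i) + X * C (b i - a i))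

lemma eval_lineCoeff (a b : Fin d → ℂ) (t : ℂ) (r : Rd) :
    (lineCoeff a b r).eval t = MvPolynomial.aeval (linePt a b t) r := by
  have : (evalRingHom t).comp (lineCoeff a b : Rd →+* ℂ[X]) =
      (MvPolynomial.aeval (linePt a b t) : Rd →ₐ[ℂ] ℂ) := by
    apply MvPolynomial.ringHom_ext
    · intro z
      simp [lineCoeff]
    · intro i
      simp [lineCoeff, linePt]
  exact congrArg (fun F => F r) this

lemma linePt_zero (a b : Fin d → ℂ) : linePt a b 0 = a := by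
  funext i; simp [linePt]

lemma linePt_one (a b : Fin d → ℂ) : linePt a b 1 = b := by
  funext i; simp [linePt]

lemma continuous_aeval_linePt (a b : Fin d → ℂ) (r : Rd) :
    Continuous fun t => MvPolynomial.aeval (linePt a b t) r := by
  simp_rw [← eval_lineCoeff]
  exact (lineCoeff a b r).continuous

/-- roots of specialisations of a monic polynomial along the line are bounded -/
lemma exists_root_bound (a b : Fin d → ℂ) (P : Rd[X]) (hP : P.Monic) :
    ∃ B : ℝ, ∀ t : ℂ, ‖t‖ ≤ 1 → ∀ z : ℂ,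
      (P.map (MvPolynomial.aeval (linePt a b t) : Rd →ₐ[ℂ] ℂ).toRingHom).IsRoot z → ‖z‖ ≤ B := by
  have hcont : Continuous fun t : ℂ => ∑ i ∈ Finset.range P.natDegree,
      ‖MvPolynomial.aeval (linePt a b t) (P.coeff i)‖ :=
    continuous_finsetSum _ fun i _ => (continuous_aeval_linePt a b _).norm
  obtain ⟨B, hB⟩ := (isCompact_closedBall (0 : ℂ) 1).exists_bound_of_continuousOn
    hcont.continuousOn
  refine ⟨max B 0 + 1, fun t ht z hz => ?_⟩
  set p := P.map (MvPolynomial.aeval (linePt a b t) : Rd →ₐ[ℂ] ℂ).toRingHom with hp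
  have hpm : p.Monic := hP.map _
  have hdeg : p.natDegree = P.natDegree := hP.natDegree_map _
  have h1 := IsRoot.norm_lt_cauchyBound hpm.ne_zero hz
  have hBt : ∑ i ∈ Finset.range P.natDegree,
      ‖MvPolynomial.aeval (linePt a b t) (P.coeff i)‖ ≤ B := by
    have := hB t (by simpa using ht)
    rw [Real.norm_eq_abs] at this
    exact (le_abs_self _).trans this
  have h2 : (cauchyBound p : ℝ) ≤ max B 0 + 1 := by
    unfold cauchyBound
    rw [hpm.leadingCoeff, nnnorm_one, div_one, NNReal.coe_add, NNReal.coe_one]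
    gcongr
    have : Finset.sup (Finset.range p.natDegree) (fun x => ‖p.coeff x‖₊) ≤ (max B 0).toNNReal := by
      apply Finset.sup_le
      intro i hi
      rw [hdeg] at hi
      rw [← NNReal.coe_le_coe, Real.coe_toNNReal _ (le_max_right _ _), coe_nnnorm, hp,
        coeff_map]
      refine le_trans ?_ (hBt.trans (le_max_left _ _))
      exact Finset.single_le_sum (f := fun i => ‖MvPolynomial.aeval (linePt a b t) (P.coeff i)‖)
        (fun _ _ => norm_nonneg _) hi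
    have h3 := NNReal.coe_le_coe.2 this
    rwa [Real.coe_toNNReal _ (le_max_right _ _)] at h3
  have h4 : ‖z‖ < (cauchyBound p : ℝ) := by
    have := NNReal.coe_lt_coe.2 h1
    rwa [coe_nnnorm] at this
  exact h4.le.trans h2


lemma mem_charsOver_iff (ψ : A →ₐ[ℂ] ℂ) (a : Fin d → ℂ) :
    ψ ∈ charsOver (A := A) a ↔ ∀ i, ψ (algebraMap Rd A (MvPolynomial.X i)) = a i := by
  constructor
  · intro h i
    have := h (MvPolynomial.X i)
    simpa using this
  · intro h r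
    have : (ψ.comp (IsScalarTower.toAlgHom ℂ Rd A)) = MvPolynomial.aeval a := by
      apply MvPolynomial.algHom_ext
      intro i
      simp [h i]
    exact congrArg (fun F => F r) this

lemma eq_of_mapClusterPt_of_tendsto {α : Type*} {l : Filter α} {w : α → ℂ} {x L : ℂ}
    (h1 : MapClusterPt x l w) (h2 : Tendsto w l (𝓝 L)) : x = L := by
  have : ClusterPt x (𝓝 L) := ClusterPt.mono h1 h2
  exact (eq_of_nhds_neBot this)

include d in
theorem exists_char_near_aux (h : A) (hh : h ≠ 0) (φ₀ : A →ₐ[ℂ] ℂ) {ι : Type} [Finite ι]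
    (s : ι → A) (ε : ℝ) (hε : 0 < ε) :
    ∃ φ : A →ₐ[ℂ] ℂ, φ h ≠ 0 ∧ ∀ j, ‖φ (s j) - φ₀ (s j)‖ < ε := by
  classical
  cases nonempty_fintype ι
  set a₀ : Fin d → ℂ := fun i => φ₀ (algebraMap Rd A (MvPolynomial.X i)) with ha₀
  have hφ₀ : φ₀ ∈ charsOver (A := A) a₀ := (mem_charsOver_iff φ₀ a₀).2 fun i => rfl
  -- Step 1
  obtain ⟨r, hr0, a', hra'⟩ : ∃ r : Rd, r ≠ 0 ∧ ∃ a' : A, algebraMap Rd A r = a' * h := by
    have hI := Ideal.comap_ne_bot_of_integral_mem (R := Rd) (I := Ideal.span {h}) hh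
      (Ideal.subset_span rfl) (Algebra.IsIntegral.isIntegral h)
    obtain ⟨r, hr, hr0⟩ := Submodule.exists_mem_ne_zero_of_ne_bot hI
    rw [Ideal.mem_comap, Ideal.mem_span_singleton'] at hr
    obtain ⟨a', ha'⟩ := hr
    exact ⟨r, hr0, a', ha'.symm⟩
  -- Step 2
  obtain ⟨b, hb⟩ : ∃ b : Fin d → ℂ, MvPolynomial.eval b r ≠ 0 := by
    by_contra hcon
    simp only [not_exists, not_not] at hcon
    exact hr0 (MvPolynomial.funext fun x => by simpa using hcon x)
  set q : ℂ[X] := lineCoeff a₀ b r with hq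
  have hq1 : q.eval 1 ≠ 0 := by
    rw [hq, eval_lineCoeff, linePt_one]
    have h2 := RingHom.congr_fun (MvPolynomial.coe_aeval_eq_eval b) r
    exact fun h0 => hb (h2.symm.trans h0)
  have hq0 : q ≠ 0 := fun h => hq1 (by rw [h]; simp)
  -- Step 3
  obtain ⟨f, hf0, hfsep⟩ := exists_separating (A := A) a₀ φ₀
  have hfint : IsIntegral Rd f := Algebra.IsIntegral.isIntegral f
  set F := minpoly Rd f with hF
  have hFm : F.Monic := minpoly.monic hfint
  have hFd : 0 < F.natDegree := minpoly.natDegree_pos hfint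
  -- Step 4
  have hlift : ∀ t : ℂ, ∃ φ : A →ₐ[ℂ] ℂ, φ ∈ charsOver (A := A) (linePt a₀ b t) ∧
      ∀ δ : ℝ, 0 ≤ δ →
        ‖MvPolynomial.aeval (linePt a₀ b t) (F.coeff 0)‖ ≤ δ ^ F.natDegree → ‖φ f‖ ≤ δ := by
    intro t
    set p := F.map (MvPolynomial.aeval (linePt a₀ b t) : Rd →ₐ[ℂ] ℂ).toRingHom with hp
    have hpm : p.Monic := hFm.map _
    have hpd : p.natDegree = F.natDegree := hFm.natDegree_map _
    obtain ⟨c, hc, hcmin⟩ := exists_min_root p hpm (hpd ▸ hFd)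
    obtain ⟨φ, hφ1, hφ2⟩ := exists_char_lift f (MvPolynomial.aeval (linePt a₀ b t)) c hc
    refine ⟨φ, hφ1, fun δ hδ hle => ?_⟩
    rw [hφ2]
    apply hcmin δ hδ
    rw [hpd, hp, coeff_map]
    exact hle
  choose Φ hΦ1 hΦ2 using hlift
  -- generating family
  obtain ⟨S, hS⟩ := (Algebra.FiniteType.out : (⊤ : Subalgebra ℂ A).FG)
  let s' : ι ⊕ (S ⊕ (Fin d ⊕ Unit)) → A :=
    Sum.elim s (Sum.elim Subtype.val (Sum.elim (fun i => algebraMap Rd A (MvPolynomial.X i))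
      (fun _ => f)))
  have hs' : Algebra.adjoin ℂ (Set.range s') = ⊤ := by
    rw [eq_top_iff, ← hS]
    apply Algebra.adjoin_mono
    intro x hx
    exact ⟨Sum.inr (Sum.inl ⟨x, hx⟩), rfl⟩
  -- bounds
  have hbound : ∀ j, ∃ B : ℝ, ∀ t : ℂ, ‖t‖ ≤ 1 → ‖Φ t (s' j)‖ ≤ B := by
    intro j
    have hint : IsIntegral Rd (s' j) := Algebra.IsIntegral.isIntegral _
    obtain ⟨B, hB⟩ := exists_root_bound a₀ b (minpoly Rd (s' j)) (minpoly.monic hint)
    refine ⟨B, fun t ht => hB t ht _ ?_⟩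
    rw [IsRoot, ← char_aeval_eq (Φ t) _ (hΦ1 t) (s' j) (minpoly Rd (s' j)), minpoly.aeval, map_zero]
  choose B hB using hbound
  let 𝒦 : Set (ι ⊕ (S ⊕ (Fin d ⊕ Unit)) → ℂ) :=
    Set.range (evC s') ∩ Set.pi Set.univ fun j => Metric.closedBall (0 : ℂ) (B j)
  have h𝒦 : IsCompact 𝒦 :=
    (isCompact_univ_pi fun j => isCompact_closedBall (0 : ℂ) (B j)).inter_left
      (isClosed_range_evC s' hs')
  let u : ℂ → (ι ⊕ (S ⊕ (Fin d ⊕ Unit)) → ℂ) := fun t => evC s' (Φ t)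
  have hball : ∀ᶠ t in 𝓝[≠] (0 : ℂ), ‖t‖ ≤ 1 := by
    apply mem_nhdsWithin_of_mem_nhds
    have : Metric.closedBall (0 : ℂ) 1 ∈ 𝓝 (0 : ℂ) := Metric.closedBall_mem_nhds _ one_pos
    filter_upwards [this] with t ht
    simpa using ht
  have hu𝒦 : Filter.map u (𝓝[≠] (0 : ℂ)) ≤ 𝓟 𝒦 := by
    rw [Filter.le_principal_iff, Filter.mem_map]
    filter_upwards [hball] with t ht
    refine ⟨⟨Φ t, rfl⟩, fun j _ => ?_⟩
    rw [mem_closedBall_zero_iff]
    exact hB j t ht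
  obtain ⟨v, hv𝒦, hvcl⟩ := h𝒦.exists_mapClusterPt hu𝒦
  obtain ⟨ψ, rfl⟩ := hv𝒦.1
  have hcoord : ∀ (j) (L : ℂ), Tendsto (fun t => Φ t (s' j)) (𝓝[≠] (0 : ℂ)) (𝓝 L) →
      ψ (s' j) = L := by
    intro j L hL
    have h1 : MapClusterPt (evC s' ψ j) (𝓝[≠] (0 : ℂ)) (fun t => u t j) :=
      hvcl.continuousAt_comp (f := fun w : (ι ⊕ (S ⊕ (Fin d ⊕ Unit)) → ℂ) => w j)
        (continuous_apply j).continuousAt
    exact eq_of_mapClusterPt_of_tendsto h1 hL
  -- ψ lies over a₀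
  have hψ : ψ ∈ charsOver (A := A) a₀ := by
    rw [mem_charsOver_iff]
    intro i
    refine hcoord (Sum.inr (Sum.inr (Sum.inl i))) (a₀ i) ?_
    have h1 : ∀ t, Φ t (s' (Sum.inr (Sum.inr (Sum.inl i)))) = linePt a₀ b t i :=
      fun t => (mem_charsOver_iff (Φ t) _).1 (hΦ1 t) i
    simp_rw [h1]
    have hc : Continuous fun t : ℂ => linePt a₀ b t i := by
      unfold linePt; fun_prop
    have := hc.tendsto 0
    rw [linePt_zero] at this
    exact this.mono_left nhdsWithin_le_nhds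
  -- ψ f = 0
  have hG0 : MvPolynomial.aeval a₀ (F.coeff 0) = 0 := by
    have h1 := char_aeval_eq φ₀ a₀ hφ₀ f F
    rw [hF, minpoly.aeval, map_zero, hf0, ← coeff_zero_eq_eval_zero, coeff_map] at h1
    exact h1.symm
  have hψf : ψ f = 0 := by
    refine hcoord (Sum.inr (Sum.inr (Sum.inr ()))) 0 ?_
    rw [Metric.tendsto_nhds]
    intro δ hδ
    have hGc := (continuous_aeval_linePt a₀ b (F.coeff 0)).tendsto 0
    rw [linePt_zero, hG0] at hGc
    have hpos : 0 < (δ / 2) ^ F.natDegree := pow_pos (half_pos hδ) _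
    have hev : ∀ᶠ t in 𝓝 (0 : ℂ),
        ‖MvPolynomial.aeval (linePt a₀ b t) (F.coeff 0)‖ < (δ / 2) ^ F.natDegree := by
      have := (Metric.tendsto_nhds.1 hGc) _ hpos
      simpa [dist_eq_norm] using this
    filter_upwards [mem_nhdsWithin_of_mem_nhds hev] with t ht
    rw [dist_eq_norm, sub_zero]
    exact (hΦ2 t (δ / 2) (half_pos hδ).le ht.le).trans_lt (half_lt_self hδ)
  have hψeq : ψ = φ₀ := hfsep ψ hψ hψf
  subst hψeq
  -- conclude
  have hqev : ∀ᶠ t in 𝓝[≠] (0 : ℂ), q.eval t ≠ 0 := by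
    have hfin : (q.roots.toFinset.erase 0 : Set ℂ).Finite := Finset.finite_toSet _
    have hopen : IsOpen ((q.roots.toFinset.erase 0 : Set ℂ)ᶜ) := hfin.isClosed.isOpen_compl
    have hmem : (q.roots.toFinset.erase 0 : Set ℂ)ᶜ ∈ 𝓝 (0 : ℂ) :=
      hopen.mem_nhds (by simp)
    rw [eventually_nhdsWithin_iff]
    filter_upwards [hmem] with t ht ht0 hroot
    apply ht
    simp only [Finset.coe_erase, Set.mem_sdiff, Finset.mem_coe, Multiset.mem_toFinset,
      Set.mem_singleton_iff]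
    exact ⟨(mem_roots hq0).2 hroot, ht0⟩
  have hfreq := hvcl.frequently (p := fun w => dist w (evC s' ψ) < ε)
    (Metric.ball_mem_nhds _ hε)
  obtain ⟨t, ht1, ht2⟩ := (hfreq.and_eventually hqev).exists
  refine ⟨Φ t, ?_, fun j => ?_⟩
  · intro h0
    apply ht2
    rw [hq, eval_lineCoeff, ← hΦ1 t r, hra', map_mul, h0, mul_zero]
  · have := (dist_le_pi_dist (u t) (evC s' ψ) (Sum.inl j)).trans_lt ht1
    rw [dist_eq_norm] at this
    exact this

end density


/-- **Density of Zariski-open subsets in the complex topology** (algebraic form, domains). -/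
theorem exists_char_near (A : Type) [CommRing A] [IsDomain A] [Algebra ℂ A]
    [Algebra.FiniteType ℂ A] (h : A) (hh : h ≠ 0) (φ₀ : A →ₐ[ℂ] ℂ) {ι : Type} [Finite ι]
    (s : ι → A) (ε : ℝ) (hε : 0 < ε) :
    ∃ φ : A →ₐ[ℂ] ℂ, φ h ≠ 0 ∧ ∀ j, ‖φ (s j) - φ₀ (s j)‖ < ε := by
  obtain ⟨d, g, hginj, hgfin⟩ := exists_finite_inj_algHom_of_fg ℂ A
  algebraize [g.toRingHom]
  have : IsScalarTower ℂ (MvPolynomial (Fin d) ℂ) A :=
    IsScalarTower.of_algebraMap_eq fun c => (g.commutes c).symm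
  have : Module.IsTorsionFree (MvPolynomial (Fin d) ℂ) A :=
    Module.isTorsionFree_iff_algebraMap_injective.2 hginj
  have : Algebra.IsIntegral (MvPolynomial (Fin d) ℂ) A :=
    Algebra.isIntegral_def.2 hgfin.to_isIntegral
  exact exists_char_near_aux (d := d) h hh φ₀ s ε hε

/-- prime ideal version -/
theorem exists_char_near_prime (A : Type) [CommRing A] [Algebra ℂ A] [Algebra.FiniteType ℂ A]
    (p : Ideal A) [p.IsPrime] (h : A) (hh : h ∉ p) (φ₀ : A →ₐ[ℂ] ℂ) (hφ₀ : ∀ a ∈ p, φ₀ a = 0)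
    {ι : Type} [Finite ι] (s : ι → A) (ε : ℝ) (hε : 0 < ε) :
    ∃ φ : A →ₐ[ℂ] ℂ, (∀ a ∈ p, φ a = 0) ∧ φ h ≠ 0 ∧ ∀ j, ‖φ (s j) - φ₀ (s j)‖ < ε := by
  have : Algebra.FiniteType ℂ (A ⧸ p) :=
    Algebra.FiniteType.of_surjective (Ideal.Quotient.mkₐ ℂ p) (Ideal.Quotient.mkₐ_surjective ℂ p)
  let φ₀' : (A ⧸ p) →ₐ[ℂ] ℂ := Ideal.Quotient.liftₐ p φ₀ hφ₀
  have hh' : (Ideal.Quotient.mk p h) ≠ 0 := fun h0 => hh (Ideal.Quotient.eq_zero_iff_mem.1 h0)
  obtain ⟨φ', h1, h2⟩ := exists_char_near (A ⧸ p) (Ideal.Quotient.mk p h) hh' φ₀'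
    (fun j => Ideal.Quotient.mk p (s j)) ε hε
  refine ⟨φ'.comp (Ideal.Quotient.mkₐ ℂ p), fun a ha => ?_, h1, fun j => ?_⟩
  · change φ' (Ideal.Quotient.mk p a) = 0
    rw [Ideal.Quotient.eq_zero_iff_mem.2 ha, map_zero]
  · have h3 : φ₀' (Ideal.Quotient.mk p (s j)) = φ₀ (s j) := by
      change Ideal.Quotient.liftₐ p φ₀ hφ₀ (Ideal.Quotient.mk p (s j)) = _
      rw [Ideal.Quotient.liftₐ_apply]
      exact Ideal.Quotient.lift_mk p (φ₀ : A →+* ℂ) hφ₀
    have := h2 j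
    rw [h3] at this
    exact this

end Groth.Agent.H6.An
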