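import Mathlib
import Groth.Prelude.Def_AnCl

set_option autoImplicit false
universe u
open CategoryTheory TopologicalSpace Topology Opposite

namespace Groth.Agent.H6.AnCl

variable (T : Type u) [TopologicalSpace T]

lemma obj_p_mem (V : Opens T) (y : ((An.opensToCl T).obj V).E) :
    ((An.opensToCl T).obj V).p y ∈ V := Subtype.property (p := fun t => t ∈ V) y

lemma obj_p_injective (V : Opens T) : Function.Injective ((An.opensToCl T).obj V).p :=
  Subtype.val_injective (p := fun t => t ∈ V)

/-- make an element of the total space of the image of an open -/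
def mkE (V : Opens T) (t : T) (ht : t ∈ V) : ((An.opensToCl T).obj V).E := (⟨t, ht⟩ : V)

lemma obj_p_mkE (V : Opens T) (t : T) (ht : t ∈ V) :
    ((An.opensToCl T).obj V).p (mkE T V t ht) = t := rfl

variable {T} in
lemma hom_over {A B : An.Cl T} (f : A ⟶ B) (a : A.E) : B.p (f.toFun a) = A.p a := f.over a

lemma le_of_hom {U V : Opens T} (f : (An.opensToCl T).obj U ⟶ (An.opensToCl T).obj V) : U ≤ V := by
  intro x hx
  have h2 := obj_p_mem T V (f.toFun (mkE T U x hx))
  rw [hom_over f, obj_p_mkE] at h2
  exact h2

instance : (An.opensToCl T).Full where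
  map_surjective {U V} f := by
    refine ⟨homOfLE (le_of_hom T f), ?_⟩
    ext x
    apply obj_p_injective T V
    rw [hom_over, hom_over]

instance : (An.opensToCl T).Faithful where
  map_injective {_ _} _ _ _ := Subsingleton.elim _ _

lemma isOpenEmbedding_map {U V : Opens T} (i : U ⟶ V) :
    IsOpenEmbedding ((An.opensToCl T).map i).toFun :=
  IsOpenEmbedding.of_comp (f := Set.inclusion i.le) (g := (Subtype.val : V → T))
    (V.2.isOpenEmbedding_subtypeVal) (U.2.isOpenEmbedding_subtypeVal)

end Groth.Agent.H6.AnCl

namespace Groth.Agent.H6.AnCl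

variable (T : Type u) [TopologicalSpace T]

variable {T} in
/-- A local section of a local homeomorphism through a given point: an open `V` of `T` and an
open embedding `V → A.E` over `T` whose image contains the point. -/
lemma exists_local_section (A : An.Cl T) (a : A.E) :
    ∃ (V : Opens T) (g : (An.opensToCl T).obj V ⟶ A), IsOpenEmbedding g.toFun ∧
      a ∈ Set.range g.toFun := by
  obtain ⟨U, hU, hemb⟩ := (isLocalHomeomorph_iff_isOpenEmbedding_restrict.mp A.lh) a
  -- shrink to the interior
  have hW : IsOpen (interior U) := isOpen_interior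
  have haW : a ∈ interior U := mem_interior_iff_mem_nhds.mpr hU
  have hembW : IsOpenEmbedding ((interior U).domRestrict A.p) := by
    have : (interior U).domRestrict A.p = U.domRestrict A.p ∘ Set.inclusion interior_subset := rfl
    rw [this]
    exact hemb.comp (IsOpenEmbedding.inclusion interior_subset (hW.preimage continuous_subtype_val))
  let V : Opens T := ⟨Set.range ((interior U).domRestrict A.p), hembW.isOpen_range⟩
  let e : interior U ≃ₜ V := hembW.isEmbedding.toHomeomorph
  have he : ∀ t : V, A.p ((e.symm t : interior U) : A.E) = (t : T) := by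
    intro t
    have := congrArg Subtype.val (e.apply_symm_apply t)
    exact this
  refine ⟨V, ⟨fun t => ((e.symm t : interior U) : A.E), ?_, he⟩, ?_, ?_⟩
  · exact continuous_subtype_val.comp e.symm.continuous
  · exact hW.isOpenEmbedding_subtypeVal.comp e.symm.isOpenEmbedding
  · refine ⟨e ⟨a, haW⟩, ?_⟩
    change ((e.symm (e ⟨a, haW⟩) : interior U) : A.E) = a
    rw [e.symm_apply_apply]

instance isCoverDense : (An.opensToCl T).IsCoverDense (An.Cl.topology T) where
  is_cover A := by
    intro a
    obtain ⟨V, g, hg, ha⟩ := exists_local_section A a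
    exact ⟨_, g, Presieve.in_coverByImage _ g, hg, ha⟩

end Groth.Agent.H6.AnCl

namespace Groth.Agent.H6.AnCl

variable (T : Type u) [TopologicalSpace T]

instance isDenseSubsite :
    (An.opensToCl T).IsDenseSubsite (Opens.grothendieckTopology T) (An.Cl.topology T) where
  functorPushforward_mem_iff {X S} := by
    constructor
    · intro h x hx
      obtain ⟨B, g, hSg, -, b, hb⟩ := h (mkE T X x hx)
      obtain ⟨U, i, k, hSi, rfl⟩ := hSg
      refine ⟨U, i, hSi, ?_⟩
      have h1 := obj_p_mem T U (k.toFun b)
      have h2 : ((An.opensToCl T).obj U).p (k.toFun b) = x := by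
        rw [← hom_over ((An.opensToCl T).map i), ← obj_p_mkE T X x hx, ← hb]
        rfl
      rwa [h2] at h1
    · intro h a
      obtain ⟨U, i, hSi, hU⟩ := h _ (obj_p_mem T X a)
      refine ⟨_, (An.opensToCl T).map i, Sieve.image_mem_functorPushforward _ _ hSi,
        isOpenEmbedding_map T i, mkE T U _ hU, ?_⟩
      apply obj_p_injective T X
      rw [hom_over, obj_p_mkE]

theorem opCont : An.OpCont T := inferInstance

end Groth.Agent.H6.AnCl

namespace Groth.Agent.H6.AnCl

variable (T : Type u) [TopologicalSpace T]

instance hasLimitsSA (X : (An.Cl T)ᵒᵖ) :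
    Limits.HasLimitsOfShape (StructuredArrow X (An.opensToCl T).op) AddCommGrpCat.{u + 1} := by
  have : Limits.HasLimitsOfSize.{u, u} AddCommGrpCat.{u + 1} :=
    Limits.hasLimitsOfSizeShrink.{u, u, u + 1, u + 1} _
  infer_instance

theorem resOpens_isEquivalence [An.OpCont T] : (An.resOpens T).IsEquivalence :=
  inferInstanceAs ((An.opensToCl T).sheafPushforwardContinuous AddCommGrpCat.{u + 1}
    (Opens.grothendieckTopology T) (An.Cl.topology T)).IsEquivalence

end Groth.Agent.H6.AnCl
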