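import Mathlib
import Groth.Agent.Lib.Helper3.AntiAff.GrpThm2
import Groth.Agent.Lib.Helper3.AntiAff.AABC
import Groth.Agent.Lib.Helper9.Misc.SIM1

/-!
# Pointed morphisms from anti-affine groups factor through the anti-affine part (S19703)
-/

set_option autoImplicit false
universe u
open CategoryTheory MonoidalCategory CartesianMonoidalCategory MonObj GrpObj AlgebraicGeometry
  CategoryTheory.Limits

namespace Groth.Agent.H6.AntiAffImg

/-- the map to the scheme-theoretic image is scheme-theoretically dominant (copy of helper3's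
`ClosedSub` lemma, to keep imports light). -/
theorem isSchemeTheoreticallyDominant_toImage {X Y : Scheme.{u}} (f : X ⟶ Y) [QuasiCompact f] :
    IsSchemeTheoreticallyDominant f.toImage := by
  rw [isSchemeTheoreticallyDominant_iff]
  refine Scheme.IdealSheafData.ext_of_iSup_eq_top
    (fun U : Y.affineOpens => ⟨f.imageι ⁻¹ᵁ U.1, U.2.preimage f.imageι⟩) ?_ ?_
  · change ⨆ U : Y.affineOpens, f.imageι ⁻¹ᵁ U.1 = ⊤
    rw [← Scheme.Hom.preimage_iSup, iSup_affineOpens_eq_top]
    rfl
  · intro U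
    rw [Scheme.Hom.ker_apply]
    simp only [Scheme.IdealSheafData.ideal_bot, Pi.bot_apply]
    exact (RingHom.injective_iff_ker_eq_bot _).mp (f.toImage_app_injective U)

variable {k : Type u} [Field k]

/-- The scheme-theoretic image of a quasi-compact homomorphism `f : G ⟶ H` of group schemes over a
field, with `O(G) = k`, is a closed subgroup scheme `K` of `H` with `O(K) = k`. -/
theorem exists_image_subgroup (G H : Over (Spec (CommRingCat.of k))) [GrpObj G] [GrpObj H]
    [QuasiCompact G.hom]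
    (hG : Function.Bijective ((Scheme.ΓSpecIso (CommRingCat.of k)).inv ≫ G.hom.appTop).hom)
    (f : G ⟶ H) [IsMonHom f] [QuasiCompact f.left] :
    ∃ (K : Over (Spec (CommRingCat.of k))) (_ : GrpObj K) (i : K ⟶ H) (g : G ⟶ K),
      IsMonHom i ∧ IsClosedImmersion i.left ∧ g ≫ i = f ∧
      Function.Bijective ((Scheme.ΓSpecIso (CommRingCat.of k)).inv ≫ K.hom.appTop).hom := by
  obtain ⟨K, i, g, hgi, hcl, hdom⟩ : ∃ (K : Over (Spec (CommRingCat.of k))) (i : K ⟶ H)
      (g : G ⟶ K), g ≫ i = f ∧ IsClosedImmersion i.left ∧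
        IsSchemeTheoreticallyDominant g.left := by
    refine ⟨Over.mk (f.left.imageι ≫ H.hom), Over.homMk f.left.imageι rfl,
      Over.homMk f.left.toImage ?_, ?_, ?_, ?_⟩
    · change f.left.toImage ≫ f.left.imageι ≫ H.hom = G.hom
      rw [← Category.assoc, Scheme.Hom.toImage_imageι, Over.w]
    · apply Over.OverMorphism.ext
      change f.left.toImage ≫ f.left.imageι = f.left
      exact Scheme.Hom.toImage_imageι _
    · exact inferInstanceAs (IsClosedImmersion f.left.imageι)
    · exact isSchemeTheoreticallyDominant_toImage f.left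
  haveI := hcl
  haveI := hdom
  obtain ⟨⟨⟨e, he⟩, hdiff⟩, -⟩ := Groth.Agent.H9.SIM.S18825_main G H K f i g hgi
  have h1 : ∀ T : Over (Spec (CommRingCat.of k)), ∃ z : T ⟶ K, z ≫ i = 1 := fun T =>
    ⟨toUnit T ≫ e, by rw [Category.assoc, he, Hom.one_def]⟩
  have hinv : ∀ (T : Over (Spec (CommRingCat.of k))) (a : T ⟶ K),
      ∃ z : T ⟶ K, z ≫ i = (a ≫ i)⁻¹ := by
    intro T a
    obtain ⟨u, hu⟩ := h1 T
    obtain ⟨z, hz⟩ := hdiff T a u
    exact ⟨z, by rw [hz, hu, _root_.mul_one]⟩
  have hmul : ∀ (T : Over (Spec (CommRingCat.of k))) (a b : T ⟶ K),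
      ∃ z : T ⟶ K, z ≫ i = (a ≫ i) * (b ≫ i) := by
    intro T a b
    obtain ⟨a', ha'⟩ := hinv T a
    obtain ⟨z, hz⟩ := hdiff T a' b
    exact ⟨z, by rw [hz, ha', _root_.inv_inv]⟩
  let Hs : ∀ S' : Over (Spec (CommRingCat.of k)), Subgroup (S' ⟶ H) := fun S' =>
    { carrier := {a | ∃ z : S' ⟶ K, z ≫ i = a}
      one_mem' := h1 S'
      mul_mem' := by
        rintro a b ⟨za, rfl⟩ ⟨zb, rfl⟩
        exact hmul S' za zb
      inv_mem' := by
        rintro a ⟨za, rfl⟩
        exact hinv S' za }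
  haveI : Mono i := by
    haveI : Mono ((Over.forget _).map i) := by
      show Mono i.left
      infer_instance
    exact (Over.forget _).mono_of_mono_map inferInstance
  obtain ⟨instK, hmonK⟩ :=
    Groth.Agent.H9.KL.exists_grpObj_of_subgroup i Hs (fun S' a => Iff.rfl)
  refine ⟨K, instK, i, g, hmonK, hcl, hgi, ?_⟩
  haveI : QuasiCompact g.left := by
    haveI : QuasiCompact (g.left ≫ i.left) := by rw [← Over.comp_left, hgi]; infer_instance
    exact QuasiCompact.of_comp g.left i.left
  have hGK : G.hom.appTop = K.hom.appTop ≫ g.left.appTop := by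
    rw [← Scheme.Hom.comp_appTop, Over.w g]
  have hinj : Function.Injective g.left.appTop.hom := g.left.app_injective ⊤
  have hbijG : Function.Bijective
      (((Scheme.ΓSpecIso (CommRingCat.of k)).inv ≫ K.hom.appTop) ≫ g.left.appTop).hom := by
    rw [Category.assoc, ← hGK]; exact hG
  refine ⟨?_, ?_⟩
  · intro a b hab
    apply hbijG.1
    rw [CommRingCat.hom_comp, RingHom.comp_apply, RingHom.comp_apply, hab]
  · intro y
    obtain ⟨x, hx⟩ := hbijG.2 (g.left.appTop.hom y)
    refine ⟨x, hinj ?_⟩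
    rw [CommRingCat.hom_comp, RingHom.comp_apply] at hx
    exact hx

/-- **S19703**. -/
theorem s19703
    (G H : Over (Spec (CommRingCat.of k))) [GrpObj G] [Smooth G.hom] [QuasiCompact G.hom]
    (hG : Function.Bijective ((Scheme.ΓSpecIso (CommRingCat.of k)).inv ≫ G.hom.appTop).hom)
    [GrpObj H] [LocallyOfFiniteType H.hom] [QuasiCompact H.hom]
    (M : Over (Spec (CommRingCat.of k))) [GrpObj M] (j : M ⟶ H)
    (hMmax : ∀ (M₁ : Over (Spec (CommRingCat.of k))) [GrpObj M₁] [LocallyOfFiniteType M₁.hom]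
      [QuasiCompact M₁.hom] (j₁ : M₁ ⟶ H) [IsMonHom j₁] [IsClosedImmersion j₁.left],
      Function.Bijective ((Scheme.ΓSpecIso (CommRingCat.of k)).inv ≫ M₁.hom.appTop).hom →
        ∃ g : M₁ ⟶ M, g ≫ j = j₁)
    (f : G ⟶ H) (hf : η[G] ≫ f = η[H]) :
    ∃ g : G ⟶ M, g ≫ j = f := by
  haveI : IsIso G.hom.appTop := (Groth.Agent.H3.AntiAff.bijective_iff_isIso _).mp hG
  haveI : CompactSpace G.left := QuasiCompact.compactSpace_of_compactSpace G.hom
  haveI : LocallyOfFiniteType G.hom := inferInstance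
  haveI : IsMonHom f := Groth.Agent.H3.AntiAff.isMonHom_of_antiAffine G H f hf
  haveI : IsSeparated H.hom := Groth.Agent.H3.DiscSep.main _ H
  haveI : QuasiCompact f.left := by
    haveI : QuasiCompact (f.left ≫ H.hom) := by rw [Over.w f]; infer_instance
    exact QuasiCompact.of_comp f.left H.hom
  obtain ⟨K, instK, i, g, hmonK, hcl, hgi, hK⟩ := exists_image_subgroup G H hG f
  letI := instK
  haveI := hmonK
  haveI := hcl
  haveI : LocallyOfFiniteType K.hom := by
    have h0 : K.hom = i.left ≫ H.hom := (Over.w i).symm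
    rw [h0]; infer_instance
  haveI : QuasiCompact K.hom := by
    have h0 : K.hom = i.left ≫ H.hom := (Over.w i).symm
    rw [h0]; infer_instance
  obtain ⟨g₁, hg₁⟩ := hMmax K i hK
  exact ⟨g ≫ g₁, by rw [Category.assoc, hg₁, hgi]⟩

end Groth.Agent.H6.AntiAffImg
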