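import Mathlib
import Groth.Prelude.Def_ArtFun3

/-!
# helper6: library for functors of Artin rings (`Def_ArtFun*`)

Basic structural facts about the category `ArtFun.Art Λ k`:
finiteness over `Λ`, nilpotence of maximal ideals, lifting into fibre products,
existence of fibre products along surjections, isomorphisms, factorisation of surjections into
small extensions (as an induction principle), pasting of fibre product squares.
-/

set_option autoImplicit false
set_option linter.style.haveILetI false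
set_option linter.unusedTactic false

universe u v

open CategoryTheory

namespace Groth.Agent.H6

open ArtFun ArtFun.Art

variable {Λ : Type u} {k : Type u} [CommRing Λ] [Field k] [Algebra Λ k]

/-! ### Basic facts on objects -/

lemma art_ker_res (A : Art Λ k) : RingHom.ker (A.res : A →+* k) = IsLocalRing.maximalIdeal A := by
  ext a
  rw [RingHom.mem_ker, Art.mem_maximalIdeal_iff]
  rfl

lemma art_maximalIdeal_pow_eq_bot (A : Art Λ k) : ∃ n : ℕ, IsLocalRing.maximalIdeal A ^ n = ⊥ := by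
  have := IsArtinianRing.isNilpotent_jacobson_bot (R := A)
  rw [IsLocalRing.jacobson_eq_maximalIdeal ⊥ bot_ne_top] at this
  exact this

lemma art_maximalIdeal_le_nilradical (A : Art Λ k) : IsLocalRing.maximalIdeal A ≤ nilradical A := by
  obtain ⟨n, hn⟩ := art_maximalIdeal_pow_eq_bot A
  intro x hx
  refine ⟨n, ?_⟩
  have := Ideal.pow_mem_pow hx n
  rwa [hn] at this

/-- Objects of `Art Λ k` are finite `Λ`-modules when `k` is. -/
theorem art_finite [Module.Finite Λ k] (A : Art Λ k) : Module.Finite Λ A := by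
  refine Module.finite_of_surjective_of_ker_le_nilradical A.res A.res_surjective ?_ ?_
  · have : RingHom.ker A.res = IsLocalRing.maximalIdeal A := art_ker_res A
    rw [this]
    exact art_maximalIdeal_le_nilradical A
  · exact IsNoetherian.noetherian _

lemma art_ker_le_maximalIdeal {A B : Art Λ k} (f : B ⟶ A) :
    RingHom.ker f.toAlgHom ≤ IsLocalRing.maximalIdeal B := by
  intro b hb
  rw [Art.mem_maximalIdeal_iff, ← Art.res_app f]
  have : f.toAlgHom b = 0 := hb
  change A.res (f.toAlgHom b) = 0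
  rw [this, map_zero]


/-! ### Lifting into a fibre product -/

section Lift

variable {B A A' A'' : Art Λ k} {p' : B ⟶ A'} {p'' : B ⟶ A''} {f' : A' ⟶ A} {f'' : A'' ⟶ A}

/-- A pair of compatible algebra maps into `A'`, `A''` lifts uniquely to the fibre product. -/
theorem fp_exists_algHom (h : IsFibreProd p' p'' f' f'')
    {R : Type u} [CommRing R] [Algebra Λ R] (φ' : R →ₐ[Λ] A') (φ'' : R →ₐ[Λ] A'')
    (hφ : f'.toAlgHom.comp φ' = f''.toAlgHom.comp φ'') :
    ∃ φ : R →ₐ[Λ] B, p'.toAlgHom.comp φ = φ' ∧ p''.toAlgHom.comp φ = φ'' := by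
  classical
  have hφ' : ∀ r, f' (φ' r) = f'' (φ'' r) := fun r => congrArg (fun g => g r) hφ
  choose b hb' hb'' using fun r => h.surj (φ' r) (φ'' r) (hφ' r)
  have huniq : ∀ (r : R) (x : B), p' x = φ' r → p'' x = φ'' r → x = b r := by
    intro r x h1 h2
    exact h.inj _ _ (h1.trans (hb' r).symm) (h2.trans (hb'' r).symm)
  refine ⟨{ toFun := b
            map_one' := ?_
            map_mul' := ?_
            map_zero' := ?_
            map_add' := ?_
            commutes' := ?_ }, ?_, ?_⟩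
  · symm
    apply huniq
    · change p'.toAlgHom 1 = φ' 1
      rw [map_one, map_one]
    · change p''.toAlgHom 1 = φ'' 1
      rw [map_one, map_one]
  · intro x y
    symm
    apply huniq
    · change p'.toAlgHom (b x * b y) = φ' (x * y)
      rw [map_mul, map_mul]
      rw [hb', hb']
    · change p''.toAlgHom (b x * b y) = φ'' (x * y)
      rw [map_mul, map_mul]
      rw [hb'', hb'']
  · symm
    apply huniq
    · change p'.toAlgHom 0 = φ' 0
      rw [map_zero, map_zero]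
    · change p''.toAlgHom 0 = φ'' 0
      rw [map_zero, map_zero]
  · intro x y
    symm
    apply huniq
    · change p'.toAlgHom (b x + b y) = φ' (x + y)
      rw [map_add, map_add]
      rw [hb', hb']
    · change p''.toAlgHom (b x + b y) = φ'' (x + y)
      rw [map_add, map_add]
      rw [hb'', hb'']
  · intro r
    symm
    apply huniq
    · rw [AlgHom.commutes, AlgHom.commutes]
    · rw [AlgHom.commutes, AlgHom.commutes]
  · exact AlgHom.ext fun r => hb' r
  · exact AlgHom.ext fun r => hb'' r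

/-- Morphisms into a fibre product. -/
theorem fp_exists_lift (h : IsFibreProd p' p'' f' f'') {C : Art Λ k}
    (g' : C ⟶ A') (g'' : C ⟶ A'') (hg : g' ≫ f' = g'' ≫ f'') :
    ∃ g : C ⟶ B, g ≫ p' = g' ∧ g ≫ p'' = g'' := by
  have hφ : f'.toAlgHom.comp g'.toAlgHom = f''.toAlgHom.comp g''.toAlgHom := by
    have := congrArg Art.Hom.toAlgHom hg
    simpa using this
  obtain ⟨φ, h1, h2⟩ := fp_exists_algHom h g'.toAlgHom g''.toAlgHom hφ
  refine ⟨⟨φ, ?_⟩, Art.hom_ext h1, Art.hom_ext h2⟩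
  rw [← p'.res_comp, AlgHom.comp_assoc, h1, g'.res_comp]

/-- Uniqueness of morphisms into a fibre product. -/
theorem fp_hom_ext (h : IsFibreProd p' p'' f' f'') {C : Art Λ k}
    {g₁ g₂ : C ⟶ B} (h1 : g₁ ≫ p' = g₂ ≫ p') (h2 : g₁ ≫ p'' = g₂ ≫ p'') : g₁ = g₂ := by
  apply Art.hom_ext
  apply AlgHom.ext
  intro c
  apply h.inj
  · have := congrArg (fun g : C ⟶ A' => g c) h1
    exact this
  · have := congrArg (fun g : C ⟶ A'' => g c) h2
    exact this

/-- Elements of `h_R` lift into a fibre product. -/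
theorem fp_exists_homSet (h : IsFibreProd p' p'' f' f'')
    {R : Type u} [CommRing R] [Algebra Λ R] {resR : R →ₐ[Λ] k}
    (φ' : HomSet R resR A') (φ'' : HomSet R resR A'')
    (hφ : HomSet.map f' φ' = HomSet.map f'' φ'') :
    ∃ φ : HomSet R resR B, HomSet.map p' φ = φ' ∧ HomSet.map p'' φ = φ'' := by
  have hφ' : f'.toAlgHom.comp φ'.1 = f''.toAlgHom.comp φ''.1 := congrArg Subtype.val hφ
  obtain ⟨φ, h1, h2⟩ := fp_exists_algHom h φ'.1 φ''.1 hφ'
  refine ⟨⟨φ, ?_⟩, Subtype.ext h1, Subtype.ext h2⟩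
  rw [← p'.res_comp, AlgHom.comp_assoc, h1, φ'.2]

lemma fp_symm (h : IsFibreProd p' p'' f' f'') : IsFibreProd p'' p' f'' f' where
  w := h.w.symm
  inj b₁ b₂ h1 h2 := h.inj b₁ b₂ h2 h1
  surj a'' a' hh := by
    obtain ⟨b, hb1, hb2⟩ := h.surj a' a'' hh.symm
    exact ⟨b, hb2, hb1⟩

end Lift

/-! ### Isomorphisms -/

/-- A bijective morphism of `Art Λ k` is an isomorphism. -/
theorem art_isIso_of_bijective {A B : Art Λ k} (f : B ⟶ A) (hf : Function.Bijective f) : IsIso f := by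
  let e : B ≃ₐ[Λ] A := AlgEquiv.ofBijective f.toAlgHom hf
  have he : ∀ b, e b = f b := fun b => rfl
  refine ⟨⟨⟨(e.symm : A →ₐ[Λ] B), ?_⟩, ?_, ?_⟩⟩
  · apply AlgHom.ext
    intro a
    obtain ⟨b, rfl⟩ := hf.2 a
    change B.res (e.symm (e b)) = A.res (f b)
    rw [e.symm_apply_apply, Art.res_app]
  · apply Art.hom_ext
    apply AlgHom.ext
    intro b
    change e.symm (e b) = b
    exact e.symm_apply_apply b
  · apply Art.hom_ext
    apply AlgHom.ext
    intro a
    change e (e.symm a) = a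
    exact e.apply_symm_apply a

lemma art_bijective_of_isIso {A B : Art Λ k} (f : B ⟶ A) [IsIso f] : Function.Bijective f := by
  constructor
  · intro x y hxy
    have h1 : (f ≫ inv f) x = (f ≫ inv f) y := by
      rw [Art.comp_apply, Art.comp_apply, hxy]
    rwa [IsIso.hom_inv_id, Art.id_apply, Art.id_apply] at h1
  · intro a
    refine ⟨inv f a, ?_⟩
    have : (inv f ≫ f) a = a := by rw [IsIso.inv_hom_id, Art.id_apply]
    exact this


/-! ### Existence of fibre products along a surjection -/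

section Exists

variable [IsNoetherianRing Λ] [Module.Finite Λ k]

/-- The fibre product `A₁ ×_A A₂` exists in `Art Λ k` when `A₂ → A` is surjective. -/
theorem art_exists_isFibreProd {A A₁ A₂ : Art Λ k} (f₁ : A₁ ⟶ A) (f₂ : A₂ ⟶ A)
    (hf₂ : Function.Surjective f₂) :
    ∃ (B : Art Λ k) (p₁ : B ⟶ A₁) (p₂ : B ⟶ A₂), IsFibreProd p₁ p₂ f₁ f₂ := by
  classical
  let S : Subalgebra Λ (A₁ × A₂) := AlgHom.pullback f₁.toAlgHom f₂.toAlgHom
  have hSmem : ∀ x : A₁ × A₂, x ∈ S ↔ f₁ x.1 = f₂ x.2 := fun x => Iff.rfl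
  haveI : IsLocalHom f₂.toAlgHom := Art.isLocalHom f₂
  haveI hloc : IsLocalRing S := AlgHom.isLocalRing_pullback f₁.toAlgHom f₂.toAlgHom
  haveI : Module.Finite Λ A₁ := art_finite A₁
  haveI : Module.Finite Λ A₂ := art_finite A₂
  haveI : IsNoetherian Λ (A₁ × A₂) := isNoetherian_of_isNoetherianRing_of_finite Λ (A₁ × A₂)
  haveI : IsNoetherian Λ S := isNoetherian_of_injective S.val.toLinearMap Subtype.val_injective
  haveI : IsNoetherianRing S := isNoetherian_of_tower Λ (inferInstance : IsNoetherian Λ S)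
  -- the projections
  let π₁ : S →ₐ[Λ] A₁ := AlgHom.pullbackFst f₁.toAlgHom f₂.toAlgHom
  let π₂ : S →ₐ[Λ] A₂ := AlgHom.pullbackSnd f₁.toAlgHom f₂.toAlgHom
  have hπ₁ : Function.Surjective π₁ :=
    AlgHom.surjective_pullbackFst_of_surjective f₁.toAlgHom f₂.toAlgHom hf₂
  have hres : A₂.res.comp π₂ = A₁.res.comp π₁ := by
    apply AlgHom.ext
    rintro ⟨⟨a₁, a₂⟩, h⟩
    change A₂.res a₂ = A₁.res a₁
    have h' : f₁ a₁ = f₂ a₂ := h
    rw [← Art.res_app f₂, ← h', Art.res_app f₁]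
  -- maximal ideal is nilpotent
  have hnil : IsNilpotent (IsLocalRing.maximalIdeal S) := by
    obtain ⟨n₁, hn₁⟩ := art_maximalIdeal_pow_eq_bot A₁
    obtain ⟨n₂, hn₂⟩ := art_maximalIdeal_pow_eq_bot A₂
    have hunit : ∀ s : S, IsUnit (π₁ s) → IsUnit s := by
      rintro ⟨⟨a₁, a₂⟩, h⟩ hu
      rw [AlgHom.isUnit_pullback_mk_iff]
      refine ⟨hu, ?_⟩
      have h' : f₁ a₁ = f₂ a₂ := h
      have hu1 : IsUnit (f₁.toAlgHom a₁) := hu.map f₁.toAlgHom
      have : IsUnit (f₂.toAlgHom a₂) := by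
        have h'' : f₁.toAlgHom a₁ = f₂.toAlgHom a₂ := h'
        rwa [← h'']
      exact isUnit_of_map_unit f₂.toAlgHom a₂ this
    have hm₁ : (IsLocalRing.maximalIdeal S).map (π₁ : S →+* A₁) ≤ IsLocalRing.maximalIdeal A₁ := by
      rw [Ideal.map_le_iff_le_comap]
      intro s hs
      rw [Ideal.mem_comap, IsLocalRing.mem_maximalIdeal, mem_nonunits_iff]
      rw [IsLocalRing.mem_maximalIdeal, mem_nonunits_iff] at hs
      exact fun hu => hs (hunit s hu)
    have hunit₂ : ∀ s : S, IsUnit (π₂ s) → IsUnit s := by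
      rintro ⟨⟨a₁, a₂⟩, h⟩ hu
      rw [AlgHom.isUnit_pullback_mk_iff]
      refine ⟨?_, hu⟩
      have h' : f₁ a₁ = f₂ a₂ := h
      have hu2 : IsUnit (f₂.toAlgHom a₂) := hu.map f₂.toAlgHom
      haveI : IsLocalHom f₁.toAlgHom := Art.isLocalHom f₁
      have : IsUnit (f₁.toAlgHom a₁) := by
        have h'' : f₁.toAlgHom a₁ = f₂.toAlgHom a₂ := h'
        rwa [h'']
      exact isUnit_of_map_unit f₁.toAlgHom a₁ this
    have hm₂ : (IsLocalRing.maximalIdeal S).map (π₂ : S →+* A₂) ≤ IsLocalRing.maximalIdeal A₂ := by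
      rw [Ideal.map_le_iff_le_comap]
      intro s hs
      rw [Ideal.mem_comap, IsLocalRing.mem_maximalIdeal, mem_nonunits_iff]
      rw [IsLocalRing.mem_maximalIdeal, mem_nonunits_iff] at hs
      exact fun hu => hs (hunit₂ s hu)
    refine ⟨n₁ + n₂, ?_⟩
    rw [Ideal.zero_eq_bot, eq_bot_iff]
    intro s hs
    have h1 : (π₁ : S →+* A₁) s = 0 := by
      have : (π₁ : S →+* A₁) s ∈ (IsLocalRing.maximalIdeal A₁) ^ (n₁ + n₂) := by
        have := Ideal.mem_map_of_mem (π₁ : S →+* A₁) hs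
        rw [Ideal.map_pow] at this
        exact Ideal.pow_right_mono hm₁ _ this
      have h2 := Ideal.pow_le_pow_right (I := IsLocalRing.maximalIdeal A₁) (Nat.le_add_right n₁ n₂) this
      rwa [hn₁] at h2
    have h2 : (π₂ : S →+* A₂) s = 0 := by
      have : (π₂ : S →+* A₂) s ∈ (IsLocalRing.maximalIdeal A₂) ^ (n₁ + n₂) := by
        have := Ideal.mem_map_of_mem (π₂ : S →+* A₂) hs
        rw [Ideal.map_pow] at this
        exact Ideal.pow_right_mono hm₂ _ this
      have h2 := Ideal.pow_le_pow_right (I := IsLocalRing.maximalIdeal A₂) (Nat.le_add_left n₂ n₁) this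
      rwa [hn₂] at h2
    rw [Ideal.mem_bot]
    apply Subtype.ext
    exact Prod.ext h1 h2
  haveI : IsArtinianRing S := (isArtinianRing_iff_isNilpotent_maximalIdeal S).mpr hnil
  let B : Art Λ k :=
    { carrier := S
      res := A₁.res.comp π₁
      res_surjective := A₁.res_surjective.comp hπ₁ }
  refine ⟨B, ⟨π₁, rfl⟩, ⟨π₂, hres⟩, ?_⟩
  refine ⟨?_, ?_, ?_⟩
  · apply Art.hom_ext
    exact AlgHom.pullback_comm_sq f₁.toAlgHom f₂.toAlgHom
  · rintro ⟨⟨a₁, a₂⟩, h⟩ ⟨⟨b₁, b₂⟩, h'⟩ e1 e2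
    apply Subtype.ext
    exact Prod.ext e1 e2
  · intro a' a'' haa
    exact ⟨⟨(a', a''), haa⟩, rfl, rfl⟩

end Exists


/-! ### Surjections factor into small extensions -/

lemma art_quotFactor_apply {C D : Art Λ k} {K : Ideal C} (hK : K ≤ IsLocalRing.maximalIdeal C)
    (p : C ⟶ D) (hp : K ≤ RingHom.ker p.toAlgHom) (c : C) :
    quotFactor hK p hp (Ideal.Quotient.mk K c) = p c := rfl

set_option backward.isDefEq.respectTransparency false in
lemma art_mem_maximalIdeal_quot {C : Art Λ k} {K : Ideal C} (hK : K ≤ IsLocalRing.maximalIdeal C)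
    (c : C) : (Ideal.Quotient.mk K c : quot C K hK) ∈ IsLocalRing.maximalIdeal (quot C K hK) ↔
      c ∈ IsLocalRing.maximalIdeal C := by
  rw [Art.mem_maximalIdeal_iff, Art.mem_maximalIdeal_iff]
  rfl

set_option backward.isDefEq.respectTransparency false in
/-- Induction principle: a property of morphisms of `Art Λ k` holding for isomorphisms and small
extensions and stable under composition holds for all surjections. -/
theorem art_surjective_induction
    (P : ∀ ⦃A B : Art Λ k⦄, (B ⟶ A) → Prop)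
    (hiso : ∀ ⦃A B : Art Λ k⦄ (e : B ⟶ A), IsIso e → P e)
    (hsmall : ∀ ⦃A B : Art Λ k⦄ (p : B ⟶ A), IsSmallExt p → P p)
    (hcomp : ∀ ⦃A B C : Art Λ k⦄ (p : C ⟶ B) (q : B ⟶ A), P p → P q → P (p ≫ q))
    ⦃A B : Art Λ k⦄ (f : B ⟶ A) (hf : Function.Surjective f) : P f := by
  classical
  have hKm : RingHom.ker f.toAlgHom ≤ IsLocalRing.maximalIdeal B := art_ker_le_maximalIdeal f
  let S : Set (Ideal B) :=
    {J | ∃ (hJ : J ≤ RingHom.ker f.toAlgHom), P (quotFactor (hJ.trans hKm) f hJ)}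
  have hKS : RingHom.ker f.toAlgHom ∈ S := by
    refine ⟨le_rfl, hiso _ (art_isIso_of_bijective _ ⟨?_, ?_⟩)⟩
    · intro x y hxy
      obtain ⟨b, rfl⟩ := Ideal.Quotient.mk_surjective x
      obtain ⟨b', rfl⟩ := Ideal.Quotient.mk_surjective y
      rw [art_quotFactor_apply, art_quotFactor_apply] at hxy
      rw [Ideal.Quotient.eq, RingHom.mem_ker, map_sub, sub_eq_zero]
      exact hxy
    · intro a
      obtain ⟨b, rfl⟩ := hf a
      exact ⟨Ideal.Quotient.mk _ b, rfl⟩
  obtain ⟨J, hJS, hJmin⟩ := wellFounded_lt.has_min S ⟨_, hKS⟩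
  obtain ⟨hJK, hPJ⟩ := hJS
  have hJbot : J = ⊥ := by
    by_contra hne
    let T : Set (Ideal B) := {I | I < J}
    have hT : T.Nonempty := ⟨⊥, bot_lt_iff_ne_bot.mpr hne⟩
    obtain ⟨J', hJ'T, hJ'max⟩ := wellFounded_gt.has_min T hT
    have hJ'J : J' < J := hJ'T
    obtain ⟨t, htJ, htJ'⟩ := SetLike.exists_of_lt hJ'J
    have hJm : J ≤ IsLocalRing.maximalIdeal B := hJK.trans hKm
    have hJ'm : J' ≤ IsLocalRing.maximalIdeal B := hJ'J.le.trans hJm
    -- maximality consequences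
    have hmax : ∀ x ∈ J, x ∉ J' → J' ⊔ Ideal.span {x} = J := by
      intro x hxJ hxJ'
      have hle : J' ⊔ Ideal.span {x} ≤ J :=
        sup_le hJ'J.le ((Ideal.span_singleton_le_iff_mem J).mpr hxJ)
      by_contra hne'
      have hlt : J' ⊔ Ideal.span {x} < J := lt_of_le_of_ne hle hne'
      have hgt : J' < J' ⊔ Ideal.span {x} := by
        refine lt_of_le_of_ne le_sup_left ?_
        intro heq
        apply hxJ'
        rw [heq]
        exact Submodule.mem_sup_right (Ideal.mem_span_singleton_self x)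
      exact hJ'max _ hlt hgt
    have hmt : ∀ a ∈ IsLocalRing.maximalIdeal B, a * t ∈ J' := by
      intro a ha
      by_contra hat
      have h1 := hmax (a * t) (J.mul_mem_left a htJ) hat
      have ht : t ∈ J' ⊔ Ideal.span {a * t} := by rw [h1]; exact htJ
      rw [Submodule.mem_sup] at ht
      obtain ⟨j', hj', y, hy, hsum⟩ := ht
      rw [Ideal.mem_span_singleton'] at hy
      obtain ⟨b, rfl⟩ := hy
      have hu : IsUnit (1 - b * a) := by
        have hba : b * a ∈ IsLocalRing.maximalIdeal B := Ideal.mul_mem_left _ b ha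
        have := IsLocalRing.isUnit_one_sub_self_of_mem_nonunits (b * a) hba
        exact this
      have h3 : (1 - b * a) * t = j' := by
        linear_combination (-1 : B.carrier) * hsum
      apply htJ'
      rw [← Ideal.unit_mul_mem_iff_mem J' hu, h3]
      exact hj'
    -- the small extension B/J' → B/J
    have hker : J' ≤ RingHom.ker (quotMk B J hJm).toAlgHom := by
      intro x hx
      rw [RingHom.mem_ker]
      change Ideal.Quotient.mk J x = 0
      rw [Ideal.Quotient.eq_zero_iff_mem]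
      exact hJ'J.le hx
    let g : quot B J' hJ'm ⟶ quot B J hJm := quotFactor hJ'm (quotMk B J hJm) hker
    have hg_apply : ∀ b : B, g (Ideal.Quotient.mk J' b) = Ideal.Quotient.mk J b := fun b => rfl
    have hker_g : ∀ x : quot B J' hJ'm, x ∈ RingHom.ker g.toAlgHom ↔
        ∃ b ∈ J, Ideal.Quotient.mk J' b = x := by
      intro x
      obtain ⟨b, rfl⟩ := Ideal.Quotient.mk_surjective x
      rw [RingHom.mem_ker]
      change g (Ideal.Quotient.mk J' b) = 0 ↔ _
      rw [hg_apply, Ideal.Quotient.eq_zero_iff_mem]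
      constructor
      · intro hb; exact ⟨b, hb, rfl⟩
      · rintro ⟨b', hb', hbb'⟩
        rw [Ideal.Quotient.eq] at hbb'
        have : b = b' - (b' - b) := by ring
        rw [this]
        exact J.sub_mem hb' (hJ'J.le hbb')
    have hgsmall : IsSmallExt g := by
      refine ⟨?_, ?_, ?_, ?_⟩
      · intro x
        obtain ⟨b, rfl⟩ := Ideal.Quotient.mk_surjective x
        exact ⟨Ideal.Quotient.mk J' b, rfl⟩
      · intro hbot
        have : Ideal.Quotient.mk J' t ∈ RingHom.ker g.toAlgHom := (hker_g _).mpr ⟨t, htJ, rfl⟩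
        rw [hbot, Ideal.mem_bot, Ideal.Quotient.eq_zero_iff_mem] at this
        exact htJ' this
      · refine ⟨Ideal.Quotient.mk J' t, ?_⟩
        apply le_antisymm
        · intro x hx
          obtain ⟨b, hbJ, rfl⟩ := (hker_g x).mp hx
          have hb : b ∈ J' ⊔ Ideal.span {t} := by rw [hmax t htJ htJ']; exact hbJ
          rw [Submodule.mem_sup] at hb
          obtain ⟨j', hj', y, hy, rfl⟩ := hb
          rw [Ideal.mem_span_singleton'] at hy
          obtain ⟨c, rfl⟩ := hy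
          rw [Ideal.submodule_span_eq, Ideal.mem_span_singleton']
          refine ⟨Ideal.Quotient.mk J' c, ?_⟩
          rw [map_add, map_mul, Ideal.Quotient.eq_zero_iff_mem.mpr hj', zero_add]
        · rw [Ideal.submodule_span_eq, Ideal.span_singleton_le_iff_mem]
          exact (hker_g _).mpr ⟨t, htJ, rfl⟩
      · rw [eq_bot_iff, Ideal.mul_le]
        intro y hy x hx
        obtain ⟨a, rfl⟩ := Ideal.Quotient.mk_surjective y
        rw [art_mem_maximalIdeal_quot] at hy
        obtain ⟨b, hbJ, rfl⟩ := (hker_g x).mp hx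
        have hb : b ∈ J' ⊔ Ideal.span {t} := by rw [hmax t htJ htJ']; exact hbJ
        rw [Submodule.mem_sup] at hb
        obtain ⟨j', hj', z, hz, rfl⟩ := hb
        rw [Ideal.mem_span_singleton'] at hz
        obtain ⟨c, rfl⟩ := hz
        rw [Ideal.mem_bot]
        have h0 : (Ideal.Quotient.mk J' a : B.carrier ⧸ J') * Ideal.Quotient.mk J' (j' + c * t) = 0 := by
          rw [← map_mul, Ideal.Quotient.eq_zero_iff_mem]
          have : a * (j' + c * t) = a * j' + c * (a * t) := by ring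
          rw [this]
          exact J'.add_mem (J'.mul_mem_left _ hj') (J'.mul_mem_left _ (hmt a hy))
        exact h0
    have hJ'S : J' ∈ S := by
      refine ⟨hJ'J.le.trans hJK, ?_⟩
      have heq : quotFactor ((hJ'J.le.trans hJK).trans hKm) f (hJ'J.le.trans hJK) =
          g ≫ quotFactor (hJK.trans hKm) f hJK := by
        apply Art.hom_ext
        apply AlgHom.ext
        intro x
        obtain ⟨b, rfl⟩ := Ideal.Quotient.mk_surjective x
        rfl
      rw [heq]
      exact hcomp _ _ (hsmall g hgsmall) hPJ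
    exact hJmin J' hJ'S hJ'J
  subst hJbot
  have hmk : P (quotMk B ⊥ (hJK.trans hKm)) := by
    apply hiso
    apply art_isIso_of_bijective
    constructor
    · intro x y hxy
      change Ideal.Quotient.mk ⊥ x = Ideal.Quotient.mk ⊥ y at hxy
      rw [Ideal.Quotient.eq, Ideal.mem_bot, sub_eq_zero] at hxy
      exact hxy
    · exact quotMk_surjective B ⊥ _
  have := hcomp _ _ hmk hPJ
  rwa [quotMk_quotFactor] at this


/-! ### Functors: comparison maps and smooth morphisms -/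

section Functors

variable {F G H : Art Λ k ⥤ Type v}

lemma map_comp_apply' (F : Art Λ k ⥤ Type v) {A B C : Art Λ k} (f : A ⟶ B) (g : B ⟶ C)
    (x : F.obj A) : F.map (f ≫ g) x = F.map g (F.map f x) :=
  Functor.map_comp_apply F f g x

lemma map_id_apply' (F : Art Λ k ⥤ Type v) {A : Art Λ k} (x : F.obj A) : F.map (𝟙 A) x = x :=
  Functor.map_id_apply F A x

lemma map_inv_map (F : Art Λ k ⥤ Type v) {A B : Art Λ k} (f : A ⟶ B) [IsIso f] (x : F.obj A) :
    F.map (inv f) (F.map f x) = x := by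
  rw [← map_comp_apply', IsIso.hom_inv_id, map_id_apply']

lemma map_map_inv (F : Art Λ k ⥤ Type v) {A B : Art Λ k} (f : A ⟶ B) [IsIso f] (y : F.obj B) :
    F.map f (F.map (inv f) y) = y := by
  rw [← map_comp_apply', IsIso.inv_hom_id, map_id_apply']

lemma relCmp_surjective_iff (η : F ⟶ G) {B A : Art Λ k} (μ : B ⟶ A) :
    Function.Surjective (relCmp η μ) ↔
      ∀ (x : F.obj A) (y : G.obj B), η.app A x = G.map μ y →
        ∃ z : F.obj B, F.map μ z = x ∧ η.app B z = y := by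
  constructor
  · intro h x y hxy
    obtain ⟨z, hz⟩ := h ⟨(x, y), hxy⟩
    exact ⟨z, congrArg (fun t => t.1.1) hz, congrArg (fun t => t.1.2) hz⟩
  · rintro h ⟨⟨x, y⟩, hxy⟩
    obtain ⟨z, h1, h2⟩ := h x y hxy
    exact ⟨z, Subtype.ext (Prod.ext h1 h2)⟩

lemma isSmooth_iff (η : F ⟶ G) :
    IsSmooth η ↔ ∀ ⦃B A : Art Λ k⦄ (μ : B ⟶ A), Function.Surjective μ →
      ∀ (x : F.obj A) (y : G.obj B), η.app A x = G.map μ y →
        ∃ z : F.obj B, F.map μ z = x ∧ η.app B z = y := by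
  constructor
  · intro h B A μ hμ
    exact (relCmp_surjective_iff η μ).mp (h μ hμ)
  · intro h B A μ hμ
    exact (relCmp_surjective_iff η μ).mpr (h μ hμ)

section Cmp

variable {B A A' A'' : Art Λ k} {p' : B ⟶ A'} {p'' : B ⟶ A''} {f' : A' ⟶ A} {f'' : A'' ⟶ A}

lemma cmp_surjective_iff (F : Art Λ k ⥤ Type v) (h : IsFibreProd p' p'' f' f'') :
    Function.Surjective (cmp F h) ↔
      ∀ (x' : F.obj A') (x'' : F.obj A''), F.map f' x' = F.map f'' x'' →
        ∃ z : F.obj B, F.map p' z = x' ∧ F.map p'' z = x'' := by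
  constructor
  · intro hs x' x'' hx
    obtain ⟨z, hz⟩ := hs ⟨(x', x''), hx⟩
    exact ⟨z, congrArg (fun t => t.1.1) hz, congrArg (fun t => t.1.2) hz⟩
  · rintro hs ⟨⟨x', x''⟩, hx⟩
    obtain ⟨z, h1, h2⟩ := hs x' x'' hx
    exact ⟨z, Subtype.ext (Prod.ext h1 h2)⟩

lemma cmp_injective_iff (F : Art Λ k ⥤ Type v) (h : IsFibreProd p' p'' f' f'') :
    Function.Injective (cmp F h) ↔
      ∀ (z₁ z₂ : F.obj B), F.map p' z₁ = F.map p' z₂ → F.map p'' z₁ = F.map p'' z₂ → z₁ = z₂ := by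
  constructor
  · intro hi z₁ z₂ h1 h2
    exact hi (Subtype.ext (Prod.ext h1 h2))
  · intro hi z₁ z₂ hz
    exact hi z₁ z₂ (congrArg (fun t => t.1.1) hz) (congrArg (fun t => t.1.2) hz)

end Cmp

/-- A smooth morphism which is surjective on `F(k) → G(k)` is surjective on every object. -/
theorem isSmooth_surjective_app (η : F ⟶ G) (hη : IsSmooth η)
    (h0 : Function.Surjective (η.app (base Λ k))) (A : Art Λ k) :
    Function.Surjective (η.app A) := by
  intro y
  obtain ⟨x₀, hx₀⟩ := h0 (G.map (toBase A) y)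
  have hs : Function.Surjective (toBase A) := A.res_surjective
  obtain ⟨z, -, hz⟩ := (isSmooth_iff η).mp hη (toBase A) hs x₀ y hx₀
  exact ⟨z, hz⟩

lemma h0_surjective_app (η : F ⟶ G) (hF : H0 F) (hG : H0 G) :
    Function.Surjective (η.app (base Λ k)) := by
  intro y
  obtain ⟨x⟩ := hF.1
  haveI := hG.2
  exact ⟨x, Subsingleton.elim _ _⟩

/-- Composition of smooth morphisms. -/
theorem isSmooth_comp (φ : F ⟶ G) (ψ : G ⟶ H) (hφ : IsSmooth φ) (hψ : IsSmooth ψ) :
    IsSmooth (φ ≫ ψ) := by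
  rw [isSmooth_iff] at *
  intro B A μ hμ x y hxy
  have hxy' : ψ.app A (φ.app A x) = H.map μ y := hxy
  obtain ⟨w, hw1, hw2⟩ := hψ μ hμ (φ.app A x) y hxy'
  obtain ⟨z, hz1, hz2⟩ := hφ μ hμ x w hw1.symm
  refine ⟨z, hz1, ?_⟩
  change ψ.app B (φ.app B z) = y
  rw [hz2, hw2]

/-- If `φ` is objectwise surjective and `φ ≫ ψ` is smooth then `ψ` is smooth. -/
theorem isSmooth_of_comp_of_surjective (φ : F ⟶ G) (ψ : G ⟶ H)
    (hφ : ∀ A : Art Λ k, Function.Surjective (φ.app A)) (h : IsSmooth (φ ≫ ψ)) : IsSmooth ψ := by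
  rw [isSmooth_iff] at *
  intro B A μ hμ x y hxy
  obtain ⟨x', rfl⟩ := hφ A x
  obtain ⟨z, hz1, hz2⟩ := h μ hμ x' y hxy
  refine ⟨φ.app B z, ?_, hz2⟩
  rw [← hz1]
  exact (NatTrans.naturality_apply φ μ z).symm

/-- Smoothness can be tested on small extensions. -/
theorem isSmooth_of_smallExt (η : F ⟶ G)
    (h : ∀ ⦃B A : Art Λ k⦄ (μ : B ⟶ A), IsSmallExt μ → Function.Surjective (relCmp η μ)) :
    IsSmooth η := by
  intro B A μ hμ
  refine art_surjective_induction (fun A B μ => Function.Surjective (relCmp η μ))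
    ?_ (fun A B p hp => h p hp) ?_ μ hμ
  · intro A B e he
    rw [relCmp_surjective_iff]
    intro x y hxy
    refine ⟨F.map (inv e) x, map_map_inv F e x, ?_⟩
    have := NatTrans.naturality_apply η (inv e) x
    rw [this, hxy, map_inv_map]
  · intro A B C p q hp hq
    rw [relCmp_surjective_iff] at *
    intro x y hxy
    rw [map_comp_apply'] at hxy
    obtain ⟨z₁, hz₁, hz₁'⟩ := hq x (G.map p y) hxy
    obtain ⟨z, hz, hz'⟩ := hp z₁ y hz₁'
    refine ⟨z, ?_, hz'⟩
    rw [map_comp_apply', hz, hz₁]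


/-! ### Pasting of fibre products and the conditions (S1), (RS) -/

section Paste

variable {B A A' C B₀ B₁ : Art Λ k}

/-- Pasting: if `B = A' ×_A C` with `C → A` factored as `C → B₀ → A` and `B₁ = A' ×_A B₀`, then
`B = B₁ ×_{B₀} C`. -/
theorem fp_paste {p' : B ⟶ A'} {p'' : B ⟶ C} {f' : A' ⟶ A} {p : C ⟶ B₀} {q : B₀ ⟶ A}
    {r' : B₁ ⟶ A'} {r'' : B₁ ⟶ B₀}
    (h : IsFibreProd p' p'' f' (p ≫ q)) (h₁ : IsFibreProd r' r'' f' q) :
    ∃ g : B ⟶ B₁, g ≫ r' = p' ∧ g ≫ r'' = p'' ≫ p ∧ IsFibreProd g p'' r'' p := by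
  have hw : p' ≫ f' = (p'' ≫ p) ≫ q := by rw [h.w, Category.assoc]
  obtain ⟨g, hg1, hg2⟩ := fp_exists_lift h₁ p' (p'' ≫ p) hw
  refine ⟨g, hg1, hg2, ⟨hg2, ?_, ?_⟩⟩
  · intro b₁ b₂ e1 e2
    apply h.inj _ _ _ e2
    have : (g ≫ r') b₁ = (g ≫ r') b₂ := by
      rw [Art.comp_apply, Art.comp_apply, e1]
    rwa [hg1] at this
  · intro b₁ c hbc
    have hcomp : f' (r' b₁) = (p ≫ q) c := by
      rw [h₁.w_apply, Art.comp_apply, hbc]
    obtain ⟨b, hb1, hb2⟩ := h.surj (r' b₁) c hcomp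
    refine ⟨b, ?_, hb2⟩
    apply h₁.inj
    · have : (g ≫ r') b = r' b₁ := by rw [hg1]; exact hb1
      exact this
    · have : (g ≫ r'') b = r'' b₁ := by
        rw [hg2, Art.comp_apply, hb2, hbc]
      exact this

variable (F : Art Λ k ⥤ Type v)

lemma cmp_surjective_of_paste {p' : B ⟶ A'} {p'' : B ⟶ C} {f' : A' ⟶ A} {p : C ⟶ B₀} {q : B₀ ⟶ A}
    {r' : B₁ ⟶ A'} {r'' : B₁ ⟶ B₀} {g : B ⟶ B₁}
    (h : IsFibreProd p' p'' f' (p ≫ q)) (h₁ : IsFibreProd r' r'' f' q)
    (hg1 : g ≫ r' = p') (h₂ : IsFibreProd g p'' r'' p)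
    (hs₁ : Function.Surjective (cmp F h₁)) (hs₂ : Function.Surjective (cmp F h₂)) :
    Function.Surjective (cmp F h) := by
  rw [cmp_surjective_iff] at *
  intro x' x'' hx
  rw [map_comp_apply'] at hx
  obtain ⟨y₁, hy1, hy2⟩ := hs₁ x' (F.map p x'') hx
  obtain ⟨z, hz1, hz2⟩ := hs₂ y₁ x'' hy2
  refine ⟨z, ?_, hz2⟩
  rw [← hg1, map_comp_apply', hz1, hy1]

lemma cmp_injective_of_paste {p' : B ⟶ A'} {p'' : B ⟶ C} {f' : A' ⟶ A} {p : C ⟶ B₀} {q : B₀ ⟶ A}
    {r' : B₁ ⟶ A'} {r'' : B₁ ⟶ B₀} {g : B ⟶ B₁}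
    (h : IsFibreProd p' p'' f' (p ≫ q)) (h₁ : IsFibreProd r' r'' f' q)
    (hg1 : g ≫ r' = p') (hg2 : g ≫ r'' = p'' ≫ p) (h₂ : IsFibreProd g p'' r'' p)
    (hs₁ : Function.Injective (cmp F h₁)) (hs₂ : Function.Injective (cmp F h₂)) :
    Function.Injective (cmp F h) := by
  rw [cmp_injective_iff] at *
  intro z₁ z₂ e1 e2
  apply hs₂ _ _ _ e2
  apply hs₁
  · rw [← map_comp_apply', ← map_comp_apply', hg1, e1]
  · rw [← map_comp_apply', ← map_comp_apply', hg2, map_comp_apply', map_comp_apply', e2]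

/-- If `A'' → A` is an isomorphism the comparison map is bijective. -/
lemma cmp_bijective_of_isIso {A'' : Art Λ k} {p' : B ⟶ A'} {p'' : B ⟶ A''} {f' : A' ⟶ A}
    {f'' : A'' ⟶ A} (h : IsFibreProd p' p'' f' f'') [IsIso f''] :
    Function.Bijective (cmp F h) := by
  have hf'' := art_bijective_of_isIso f''
  have hp' : Function.Bijective p' := by
    constructor
    · intro b₁ b₂ e
      apply h.inj _ _ e
      apply hf''.1
      rw [← h.w_apply, ← h.w_apply, e]
    · intro a'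
      obtain ⟨a'', ha''⟩ := hf''.2 (f' a')
      obtain ⟨b, hb, -⟩ := h.surj a' a'' ha''.symm
      exact ⟨b, hb⟩
  haveI : IsIso p' := art_isIso_of_bijective p' hp'
  constructor
  · rw [cmp_injective_iff]
    intro z₁ z₂ e1 _
    have := congrArg (F.map (inv p')) e1
    rwa [map_inv_map, map_inv_map] at this
  · rw [cmp_surjective_iff]
    intro x' x'' hx
    refine ⟨F.map (inv p') x', map_map_inv F p' x', ?_⟩
    have h1 : F.map f'' (F.map p'' (F.map (inv p') x')) = F.map f'' x'' := by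
      rw [← map_comp_apply', ← h.w, map_comp_apply', map_map_inv, hx]
    have := congrArg (F.map (inv f'')) h1
    rwa [map_inv_map, map_inv_map] at this

variable [IsNoetherianRing Λ] [Module.Finite Λ k]

/-- (S1) is equivalent to its restriction to small extensions. -/
theorem s1_iff_hbar : S1 F ↔ Hbar F := by
  constructor
  · intro h B A A' A'' p' p'' f' f'' hfp hsm
    exact h p' p'' f' f'' hfp hsm.1
  · intro hb B A A' A'' p' p'' f' f'' hfp hsurj
    have key := art_surjective_induction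
      (fun A A'' f'' => Function.Surjective f'' ∧
        ∀ ⦃B A' : Art Λ k⦄ (p' : B ⟶ A') (p'' : B ⟶ A'') (f' : A' ⟶ A)
          (h : IsFibreProd p' p'' f' f''), Function.Surjective (cmp F h))
      ?_ ?_ ?_ f'' hsurj
    · exact key.2 p' p'' f' hfp
    · intro A A'' e he
      refine ⟨(art_bijective_of_isIso e).2, ?_⟩
      intro B A' p' p'' f' h
      exact (cmp_bijective_of_isIso F h).2
    · intro A A'' p hp
      refine ⟨hp.1, ?_⟩
      intro B A' p' p'' f' h
      exact hb p' p'' f' p h hp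
    · intro A B₀ C p q hp hq
      refine ⟨hq.1.comp hp.1, ?_⟩
      intro B A' p' p'' f' h
      obtain ⟨B₁, r', r'', h₁⟩ := art_exists_isFibreProd f' q hq.1
      obtain ⟨g, hg1, hg2, h₂⟩ := fp_paste h h₁
      exact cmp_surjective_of_paste F h h₁ hg1 h₂ (hq.2 r' r'' f' h₁) (hp.2 g p'' r'' h₂)

/-- (RS) follows from its restriction to small extensions. -/
theorem rs_of_rs_smallExt
    (h : ∀ ⦃B A A' A'' : Art Λ k⦄ (p' : B ⟶ A') (p'' : B ⟶ A'') (f' : A' ⟶ A) (f'' : A'' ⟶ A)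
        (h : IsFibreProd p' p'' f' f''), IsSmallExt f'' → Function.Bijective (cmp F h)) :
    ∀ ⦃B A A' A'' : Art Λ k⦄ (p' : B ⟶ A') (p'' : B ⟶ A'') (f' : A' ⟶ A) (f'' : A'' ⟶ A)
        (h : IsFibreProd p' p'' f' f''), Function.Surjective f'' → Function.Bijective (cmp F h) := by
  intro B A A' A'' p' p'' f' f'' hfp hsurj
  have key := art_surjective_induction
    (fun A A'' f'' => Function.Surjective f'' ∧
      ∀ ⦃B A' : Art Λ k⦄ (p' : B ⟶ A') (p'' : B ⟶ A'') (f' : A' ⟶ A)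
        (h : IsFibreProd p' p'' f' f''), Function.Bijective (cmp F h))
    ?_ ?_ ?_ f'' hsurj
  · exact key.2 p' p'' f' hfp
  · intro A A'' e he
    refine ⟨(art_bijective_of_isIso e).2, ?_⟩
    intro B A' p' p'' f' h
    exact cmp_bijective_of_isIso F h
  · intro A A'' p hp
    refine ⟨hp.1, ?_⟩
    intro B A' p' p'' f' h'
    exact h p' p'' f' p h' hp
  · intro A B₀ C p q hp hq
    refine ⟨hq.1.comp hp.1, ?_⟩
    intro B A' p' p'' f' h'
    obtain ⟨B₁, r', r'', h₁⟩ := art_exists_isFibreProd f' q hq.1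
    obtain ⟨g, hg1, hg2, h₂⟩ := fp_paste h' h₁
    exact ⟨cmp_injective_of_paste F h' h₁ hg1 hg2 h₂ (hq.2 r' r'' f' h₁).1 (hp.2 g p'' r'' h₂).1,
      cmp_surjective_of_paste F h' h₁ hg1 h₂ (hq.2 r' r'' f' h₁).2 (hp.2 g p'' r'' h₂).2⟩

end Paste

end Functors

/-! ### Base change of small extensions -/

lemma art_hom_mem_maximalIdeal {A B : Art Λ k} (f : B ⟶ A) {b : B}
    (hb : b ∈ IsLocalRing.maximalIdeal B) : f b ∈ IsLocalRing.maximalIdeal A := by
  rw [Art.mem_maximalIdeal_iff] at hb ⊢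
  rw [Art.res_app, hb]

/-- In a fibre product square, if `A₂ → A` is a small extension, so is `B → A₁`. -/
theorem isSmallExt_fst_of_isFibreProd {B A A₁ A₂ : Art Λ k} {p₁ : B ⟶ A₁} {p₂ : B ⟶ A₂}
    {f₁ : A₁ ⟶ A} {f₂ : A₂ ⟶ A} (h : IsFibreProd p₁ p₂ f₁ f₂) (hf₂ : IsSmallExt f₂) :
    IsSmallExt p₁ := by
  obtain ⟨hsurj, hne, ⟨t₂, ht₂⟩, hkill⟩ := hf₂
  have ht₂mem : t₂ ∈ RingHom.ker f₂.toAlgHom := by
    rw [ht₂]; exact Submodule.mem_span_singleton_self t₂
  have ht₂0 : f₂ t₂ = 0 := ht₂mem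
  obtain ⟨t, ht1, ht2⟩ := h.surj 0 t₂ (by
    change f₁.toAlgHom 0 = f₂ t₂
    rw [map_zero, ht₂0])
  have hkill' : ∀ a ∈ IsLocalRing.maximalIdeal A₂, ∀ x ∈ RingHom.ker f₂.toAlgHom, a * x = 0 := by
    intro a ha x hx
    have : a * x ∈ IsLocalRing.maximalIdeal A₂ * RingHom.ker f₂.toAlgHom := Ideal.mul_mem_mul ha hx
    rwa [hkill] at this
  have hkermem : ∀ b : B, b ∈ RingHom.ker p₁.toAlgHom → p₂ b ∈ RingHom.ker f₂.toAlgHom := by
    intro b hb
    rw [RingHom.mem_ker]
    change f₂ (p₂ b) = 0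
    rw [← h.w_apply]
    have : p₁ b = 0 := hb
    rw [this]
    exact map_zero f₁.toAlgHom
  refine ⟨?_, ?_, ⟨t, ?_⟩, ?_⟩
  · intro a₁
    obtain ⟨a₂, ha₂⟩ := hsurj (f₁ a₁)
    obtain ⟨b, hb, -⟩ := h.surj a₁ a₂ ha₂.symm
    exact ⟨b, hb⟩
  · intro hbot
    apply hne
    rw [eq_bot_iff]
    intro a₂ ha₂
    have ha₂0 : f₂ a₂ = 0 := ha₂
    obtain ⟨b, hb1, hb2⟩ := h.surj 0 a₂ (by
      change f₁.toAlgHom 0 = f₂ a₂
      rw [map_zero, ha₂0])
    have hbker : b ∈ RingHom.ker p₁.toAlgHom := hb1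
    rw [hbot, Ideal.mem_bot] at hbker
    rw [Ideal.mem_bot, ← hb2, hbker]
    exact map_zero p₂.toAlgHom
  · apply le_antisymm
    · intro b hb
      have hb2 := hkermem b hb
      rw [ht₂, Ideal.submodule_span_eq, Ideal.mem_span_singleton'] at hb2
      obtain ⟨c₂, hc₂⟩ := hb2
      obtain ⟨c, hc⟩ := B.res_surjective (A₂.res c₂)
      rw [Ideal.submodule_span_eq, Ideal.mem_span_singleton']
      refine ⟨c, ?_⟩
      apply h.inj
      · change p₁.toAlgHom (c * t) = p₁ b
        rw [map_mul]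
        change p₁ c * p₁ t = p₁ b
        rw [ht1, mul_zero]
        exact (show p₁ b = 0 from hb).symm
      · change p₂.toAlgHom (c * t) = p₂ b
        rw [map_mul]
        change p₂ c * p₂ t = p₂ b
        rw [ht2, ← hc₂]
        have hdiff : p₂ c - c₂ ∈ IsLocalRing.maximalIdeal A₂ := by
          rw [Art.mem_maximalIdeal_iff, map_sub, Art.res_app, hc, sub_self]
        have := hkill' _ hdiff t₂ ht₂mem
        rw [sub_mul, sub_eq_zero] at this
        exact this
    · rw [Ideal.submodule_span_eq, Ideal.span_singleton_le_iff_mem]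
      exact ht1
  · rw [eq_bot_iff, Ideal.mul_le]
    intro y hy b hb
    rw [Ideal.mem_bot]
    apply h.inj
    · change p₁.toAlgHom (y * b) = p₁.toAlgHom 0
      rw [map_mul, map_zero]
      have : p₁.toAlgHom b = 0 := hb
      rw [this, mul_zero]
    · change p₂.toAlgHom (y * b) = p₂.toAlgHom 0
      rw [map_mul, map_zero]
      exact hkill' _ (art_hom_mem_maximalIdeal p₂ hy) _ (hkermem b hb)

/-! ### Versal families -/

section Versal

variable {R : Type u} [CommRing R] [Algebra Λ R] {resR : R →ₐ[Λ] k} {F : Art Λ k ⥤ Type v}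

lemma homSet_ext {A : Art Λ k} {φ ψ : HomSet R resR A} (h : ∀ r, φ.1 r = ψ.1 r) : φ = ψ :=
  Subtype.ext (AlgHom.ext h)

/-- `h_R(k)` has exactly one element. -/
lemma homSet_base_eq (φ ψ : HomSet R resR (base Λ k)) : φ = ψ := by
  apply Subtype.ext
  have h1 := φ.2
  have h2 := ψ.2
  change (AlgHom.id Λ k).comp φ.1 = resR at h1
  change (AlgHom.id Λ k).comp ψ.1 = resR at h2
  rw [AlgHom.id_comp] at h1 h2
  rw [h1, h2]

def homSetBase (R : Type u) [CommRing R] [Algebra Λ R] (resR : R →ₐ[Λ] k) :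
    HomSet R resR (base Λ k) := ⟨resR, AlgHom.id_comp _⟩

/-- A versal family over a functor with `F(k)` a point is objectwise surjective. -/
theorem versal_surjective_app (ξ : Family R resR F) (hξ : IsVersal ξ) (h0 : H0 F)
    (A : Art Λ k) : Function.Surjective (ξ.app A) := by
  intro y
  haveI := h0.2
  have hs : Function.Surjective (toBase A) := A.res_surjective
  obtain ⟨ψ, -, hψ⟩ := hξ (toBase A) hs (homSetBase R resR) y (Subsingleton.elim _ _)
  exact ⟨ψ, hψ⟩

/-- A strongly surjective family forces `F(k)` to be a point. -/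
theorem h0_of_surjective (ξ : Family R resR F)
    (hsurj : Function.Surjective (ξ.app (base Λ k))) : H0 F := by
  refine ⟨⟨ξ.app _ (homSetBase R resR)⟩, ⟨?_⟩⟩
  intro x y
  obtain ⟨φ, rfl⟩ := hsurj x
  obtain ⟨ψ, rfl⟩ := hsurj y
  rw [homSet_base_eq φ ψ]

/-- A versal, objectwise surjective family forces (S1). -/
theorem s1_of_versal_of_surjective (ξ : Family R resR F) (hξ : IsVersal ξ)
    (hsurj : ∀ A : Art Λ k, Function.Surjective (ξ.app A)) : S1 F := by
  intro B A A' A'' p' p'' f' f'' h hf''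
  rw [cmp_surjective_iff]
  intro x' x'' hx
  obtain ⟨φ', rfl⟩ := hsurj A' x'
  have h1 : F.map f'' x'' = ξ.app A (HomSet.map f' φ') := by
    rw [ξ.natural, hx]
  obtain ⟨ψ'', hψ1, hψ2⟩ := hξ f'' hf'' (HomSet.map f' φ') x'' h1
  obtain ⟨φ, hφ1, hφ2⟩ := fp_exists_homSet h φ' ψ'' hψ1.symm
  refine ⟨ξ.app B φ, ?_, ?_⟩
  · rw [← ξ.natural, hφ1]
  · rw [← ξ.natural, hφ2, hψ2]

lemma fp_homSet_ext {B A A' A'' : Art Λ k} {p' : B ⟶ A'} {p'' : B ⟶ A''} {f' : A' ⟶ A}
    {f'' : A'' ⟶ A} (h : IsFibreProd p' p'' f' f'') {φ ψ : HomSet R resR B}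
    (h1 : HomSet.map p' φ = HomSet.map p' ψ) (h2 : HomSet.map p'' φ = HomSet.map p'' ψ) :
    φ = ψ := by
  apply homSet_ext
  intro r
  apply h.inj
  · exact congrArg (fun t : HomSet R resR A' => t.1 r) h1
  · exact congrArg (fun t : HomSet R resR A'' => t.1 r) h2

/-- A miniversal, objectwise surjective family forces `H_ε`. -/
theorem heps_of_miniversal_of_surjective (ξ : Family R resR F) (hξ : IsMiniversal ξ)
    (hsurj : ∀ A : Art Λ k, Function.Surjective (ξ.app A)) : Heps F := by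
  intro B A' p' p'' h
  have hsd : Function.Surjective (toBase (dual Λ k)) := (dual Λ k).res_surjective
  refine ⟨?_, s1_of_versal_of_surjective ξ hξ.1 hsurj p' p'' _ _ h hsd⟩
  rw [cmp_injective_iff]
  intro z₁ z₂ e1 e2
  obtain ⟨φ₁, rfl⟩ := hsurj B z₁
  have hp' : Function.Surjective p' := by
    intro a'
    obtain ⟨d, hd⟩ := hsd (toBase A' a')
    obtain ⟨b, hb, -⟩ := h.surj a' d hd.symm
    exact ⟨b, hb⟩
  have h1 : F.map p' z₂ = ξ.app A' (HomSet.map p' φ₁) := by
    rw [ξ.natural, e1]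
  obtain ⟨φ₂, hφ2, rfl⟩ := hξ.1 p' hp' (HomSet.map p' φ₁) z₂ h1
  have h2 : HomSet.map p'' φ₁ = HomSet.map p'' φ₂ := by
    apply hξ.2.1
    rw [ξ.natural, ξ.natural, e2]
  rw [fp_homSet_ext h hφ2.symm h2]

end Versal

end Groth.Agent.H6
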