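import Groth.Agent.Lib.Helper6.ArtFun

/-!
# helper6: the difference map `A' ×_A A' → k[ε]` of a small extension

For a small extension `μ : A' → A` with kernel generated by `t`, the fibre product
`P = A' ×_A A'` is also the fibre product `A' ×_k k[ε]`, via `w ↦ (p₁ w, res + ((p₂ w - p₁ w)/t) ε)`.
-/

set_option autoImplicit false
set_option linter.style.haveILetI false
set_option linter.unusedTactic false

universe u v

open CategoryTheory

namespace Groth.Agent.H6

open ArtFun ArtFun.Art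

variable {Λ : Type u} {k : Type u} [CommRing Λ] [Field k] [Algebra Λ k]

/-- The difference map of a small extension. -/
theorem exists_delta {A' A P : Art Λ k} {μ : A' ⟶ A} (hμ : IsSmallExt μ) {p₁ p₂ : P ⟶ A'}
    (h : IsFibreProd p₁ p₂ μ μ) :
    ∃ δ : P ⟶ dual Λ k, IsFibreProd p₁ δ (toBase A') (toBase (dual Λ k)) := by
  classical
  obtain ⟨hsurj, hne, ⟨t, ht⟩, hkill⟩ := hμ
  have htmem : t ∈ RingHom.ker μ.toAlgHom := by
    rw [ht]; exact Submodule.mem_span_singleton_self t
  have ht0 : t ≠ 0 := by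
    rintro rfl
    apply hne
    rw [ht]
    simp
  have hkill' : ∀ a ∈ IsLocalRing.maximalIdeal A', a * t = 0 := by
    intro a ha
    have : a * t ∈ IsLocalRing.maximalIdeal A' * RingHom.ker μ.toAlgHom := Ideal.mul_mem_mul ha htmem
    rwa [hkill] at this
  have hres0 : ∀ a : A', a * t = 0 → A'.res a = 0 := by
    intro a hat
    by_contra hne'
    have hu : IsUnit a := by
      by_contra hnu
      have : a ∈ IsLocalRing.maximalIdeal A' := (IsLocalRing.mem_maximalIdeal a).mpr hnu
      rw [Art.mem_maximalIdeal_iff] at this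
      exact hne' this
    exact ht0 ((hu.mul_right_eq_zero).mp hat)
  have hrep : ∀ x ∈ RingHom.ker μ.toAlgHom, ∃ a : A', x = a * t := by
    intro x hx
    rw [ht, Ideal.submodule_span_eq, Ideal.mem_span_singleton'] at hx
    obtain ⟨a, ha⟩ := hx
    exact ⟨a, ha.symm⟩
  -- coordinate on the kernel
  let coord : A' → k := fun x =>
    if hx : x ∈ RingHom.ker μ.toAlgHom then A'.res (hrep x hx).choose else 0
  have hcoord : ∀ (x a : A'), x = a * t → coord x = A'.res a := by
    intro x a hxa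
    have hx : x ∈ RingHom.ker μ.toAlgHom := by
      rw [hxa]; exact Ideal.mul_mem_left _ a htmem
    simp only [coord, dif_pos hx]
    have hspec := (hrep x hx).choose_spec
    have : ((hrep x hx).choose - a) * t = 0 := by
      rw [sub_mul, ← hspec, ← hxa, sub_self]
    have := hres0 _ this
    rw [map_sub, sub_eq_zero] at this
    exact this
  -- the difference
  have hD : ∀ w : P, p₂ w - p₁ w ∈ RingHom.ker μ.toAlgHom := by
    intro w
    rw [RingHom.mem_ker, map_sub, sub_eq_zero]
    exact (h.w_apply w).symm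
  choose a ha using fun w => hrep _ (hD w)
  have hcw : ∀ w, coord (p₂ w - p₁ w) = A'.res (a w) := fun w => hcoord _ _ (ha w)
  have hresp : ∀ w : P, A'.res (p₂ w) = A'.res (p₁ w) := by
    intro w
    rw [Art.res_app, Art.res_app]
  let δ₀ : P →ₐ[Λ] DualNumber k :=
    { toFun := fun w => (A'.res (p₁ w), coord (p₂ w - p₁ w))
      map_one' := by
        apply TrivSqZeroExt.ext
        · change A'.res (p₁.toAlgHom 1) = 1
          rw [map_one, map_one]
        · change coord (p₂.toAlgHom 1 - p₁.toAlgHom 1) = 0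
          rw [map_one, map_one, sub_self]
          have := hcoord 0 0 (by rw [zero_mul])
          rw [this, map_zero]
      map_mul' := by
        intro w w'
        apply TrivSqZeroExt.ext
        · change A'.res (p₁.toAlgHom (w * w')) = A'.res (p₁ w) * A'.res (p₁ w')
          rw [map_mul, map_mul]
        · change coord (p₂.toAlgHom (w * w') - p₁.toAlgHom (w * w')) =
            A'.res (p₁ w) • coord (p₂ w' - p₁ w') +
              MulOpposite.op (A'.res (p₁ w')) • coord (p₂ w - p₁ w)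
          have hd : p₂.toAlgHom (w * w') - p₁.toAlgHom (w * w') =
              (p₂ w * a w' + a w * p₁ w') * t := by
            rw [map_mul, map_mul]
            have e1 := ha w
            have e2 := ha w'
            change p₂ w * p₂ w' - p₁ w * p₁ w' = _
            have : p₂ w * p₂ w' - p₁ w * p₁ w' =
                p₂ w * (p₂ w' - p₁ w') + (p₂ w - p₁ w) * p₁ w' := by ring
            rw [this, e1, e2]
            ring
          rw [hcoord _ _ hd, hcw, hcw, map_add, map_mul, map_mul, hresp w]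
          simp only [smul_eq_mul, MulOpposite.smul_eq_mul_unop, MulOpposite.unop_op]
      map_zero' := by
        apply TrivSqZeroExt.ext
        · change A'.res (p₁.toAlgHom 0) = 0
          rw [map_zero, map_zero]
        · change coord (p₂.toAlgHom 0 - p₁.toAlgHom 0) = 0
          rw [map_zero, map_zero, sub_self]
          have := hcoord 0 0 (by rw [zero_mul])
          rw [this, map_zero]
      map_add' := by
        intro w w'
        apply TrivSqZeroExt.ext
        · change A'.res (p₁.toAlgHom (w + w')) = A'.res (p₁ w) + A'.res (p₁ w')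
          rw [map_add, map_add]
        · change coord (p₂.toAlgHom (w + w') - p₁.toAlgHom (w + w')) =
            coord (p₂ w - p₁ w) + coord (p₂ w' - p₁ w')
          have hd : p₂.toAlgHom (w + w') - p₁.toAlgHom (w + w') = (a w + a w') * t := by
            rw [map_add, map_add]
            have e1 := ha w
            have e2 := ha w'
            change p₂ w + p₂ w' - (p₁ w + p₁ w') = _
            have : p₂ w + p₂ w' - (p₁ w + p₁ w') = (p₂ w - p₁ w) + (p₂ w' - p₁ w') := by ring
            rw [this, e1, e2]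
            ring
          rw [hcoord _ _ hd, hcw, hcw, map_add]
      commutes' := by
        intro r
        apply TrivSqZeroExt.ext
        · change A'.res (p₁.toAlgHom (algebraMap Λ P r)) = _
          rw [AlgHom.commutes, AlgHom.commutes, TrivSqZeroExt.algebraMap_eq_inl',
            TrivSqZeroExt.fst_inl]
        · change coord (p₂.toAlgHom (algebraMap Λ P r) - p₁.toAlgHom (algebraMap Λ P r)) = _
          rw [AlgHom.commutes, AlgHom.commutes, sub_self, TrivSqZeroExt.algebraMap_eq_inl',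
            TrivSqZeroExt.snd_inl]
          have := hcoord 0 0 (by rw [zero_mul])
          rw [this, map_zero] }
  have hδ₀ : ∀ w, δ₀ w = (A'.res (p₁ w), coord (p₂ w - p₁ w)) := fun w => rfl
  let δ : P ⟶ dual Λ k := ⟨δ₀, by
    apply AlgHom.ext
    intro w
    change A'.res (p₁ w) = P.res w
    rw [Art.res_app]⟩
  have hδ : ∀ w : P, (δ w : DualNumber k) = (A'.res (p₁ w), coord (p₂ w - p₁ w)) := fun w => rfl
  refine ⟨δ, ⟨?_, ?_, ?_⟩⟩
  · rw [eq_toBase (p₁ ≫ toBase A'), eq_toBase (δ ≫ toBase (dual Λ k))]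
  · intro w w' e1 e2
    apply h.inj _ _ e1
    have e3 : coord (p₂ w - p₁ w) = coord (p₂ w' - p₁ w') := by
      have := congrArg TrivSqZeroExt.snd e2
      rw [hδ, hδ] at this
      exact this
    rw [hcw, hcw] at e3
    have : (a w - a w') * t = 0 := by
      have hm : a w - a w' ∈ IsLocalRing.maximalIdeal A' := by
        rw [Art.mem_maximalIdeal_iff, map_sub, e3, sub_self]
      exact hkill' _ hm
    rw [sub_mul, sub_eq_zero, ← ha w, ← ha w', e1] at this
    exact sub_left_injective this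
  · intro x d hxd
    have hxd' : A'.res x = TrivSqZeroExt.fst (d : DualNumber k) := hxd
    obtain ⟨c, hc⟩ := A'.res_surjective (TrivSqZeroExt.snd (d : DualNumber k))
    have hμ' : μ x = μ (x + c * t) := by
      change μ.toAlgHom x = μ.toAlgHom (x + c * t)
      rw [map_add, map_mul]
      have : μ.toAlgHom t = 0 := htmem
      rw [this, mul_zero, add_zero]
    obtain ⟨w, hw1, hw2⟩ := h.surj x (x + c * t) hμ'
    refine ⟨w, hw1, ?_⟩
    rw [hδ, hw1, hw2]
    apply TrivSqZeroExt.ext
    · exact hxd'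
    · change coord (x + c * t - x) = _
      rw [hcoord _ c (by ring), hc]


set_option backward.isDefEq.respectTransparency false in
/-- `k[ε] → k` is a small extension. -/
theorem isSmallExt_toBase_dual : IsSmallExt (toBase (dual Λ k)) := by
  have hker : ∀ x : DualNumber k, x ∈ RingHom.ker (toBase (dual Λ k)).toAlgHom ↔
      TrivSqZeroExt.fst x = 0 := fun x => Iff.rfl
  refine ⟨(dual Λ k).res_surjective, ?_, ⟨(DualNumber.eps : DualNumber k), ?_⟩, ?_⟩
  · intro hbot
    have hmem : (DualNumber.eps : DualNumber k) ∈ RingHom.ker (toBase (dual Λ k)).toAlgHom := by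
      rw [hker]
      rfl
    rw [hbot, Ideal.mem_bot] at hmem
    have := congrArg TrivSqZeroExt.snd hmem
    simp at this
  · apply le_antisymm
    · intro x hx
      have hx0 : TrivSqZeroExt.fst (x : DualNumber k) = 0 := hx
      rw [Ideal.submodule_span_eq, Ideal.mem_span_singleton']
      refine ⟨(TrivSqZeroExt.inl (TrivSqZeroExt.snd (x : DualNumber k)) : DualNumber k), ?_⟩
      have : (TrivSqZeroExt.inl (TrivSqZeroExt.snd (x : DualNumber k)) : DualNumber k) *
          (DualNumber.eps : DualNumber k) = (x : DualNumber k) := by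
        apply TrivSqZeroExt.ext
        · rw [TrivSqZeroExt.fst_mul, DualNumber.fst_eps, mul_zero, hx0]
        · rw [TrivSqZeroExt.snd_mul, DualNumber.snd_eps, DualNumber.fst_eps, TrivSqZeroExt.fst_inl]
          simp
      exact this
    · rw [Ideal.submodule_span_eq, Ideal.span_singleton_le_iff_mem, hker]
      rfl
  · rw [eq_bot_iff, Ideal.mul_le]
    intro y hy x hx
    rw [Art.mem_maximalIdeal_iff] at hy
    have hy0 : TrivSqZeroExt.fst (y : DualNumber k) = 0 := hy
    have hx0 : TrivSqZeroExt.fst (x : DualNumber k) = 0 := hx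
    rw [Ideal.mem_bot]
    have : (y : DualNumber k) * (x : DualNumber k) = 0 := by
      apply TrivSqZeroExt.ext
      · rw [TrivSqZeroExt.fst_mul, hy0, zero_mul, TrivSqZeroExt.fst_zero]
      · rw [TrivSqZeroExt.snd_mul, hy0, hx0, TrivSqZeroExt.snd_zero]
        simp
    exact this

/-! ### Deformation functors: smoothness criteria -/

section Deformation

variable {F G H : Art Λ k ⥤ Type v}

/-- Condition (RS): the comparison map is bijective whenever `A'' → A` is surjective. -/
def RS (F : Art Λ k ⥤ Type v) : Prop :=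
  ∀ ⦃B A A' A'' : Art Λ k⦄ (p' : B ⟶ A') (p'' : B ⟶ A'') (f' : A' ⟶ A) (f'' : A'' ⟶ A)
    (h : IsFibreProd p' p'' f' f''), Function.Surjective f'' → Function.Bijective (cmp F h)

lemma RS.s1 (hF : RS F) : S1 F := fun _ _ _ _ p' p'' f' f'' h hs => (hF p' p'' f' f'' h hs).2

lemma RS.heps (hF : RS F) : Heps F := fun _ _ p' p'' h =>
  hF p' p'' _ _ h (dual Λ k).res_surjective

variable [IsNoetherianRing Λ] [Module.Finite Λ k]

/-- Smoothness criterion: surjective on tangent spaces and lifting along small extensions. -/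
theorem isSmooth_of_tangent_surjective_of_lift (f : F ⟶ G)
    (hF0 : H0 F) (hFe : Heps F) (hG1 : S1 G) (hGe : Heps G)
    (h1 : Function.Surjective (TangentSpace.map f))
    (h2 : ∀ ⦃A' A : Art Λ k⦄ (μ : A' ⟶ A), IsSmallExt μ → ∀ x : F.obj A,
      (∃ y' : G.obj A', G.map μ y' = f.app A x) → ∃ x' : F.obj A', F.map μ x' = x) :
    IsSmooth f := by
  apply isSmooth_of_smallExt
  intro A' A μ hμ
  rw [relCmp_surjective_iff]
  intro x y' hxy
  obtain ⟨x', hx'⟩ := h2 μ hμ x ⟨y', hxy.symm⟩
  obtain ⟨P, p₁, p₂, hP⟩ := art_exists_isFibreProd μ μ hμ.1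
  obtain ⟨δ, hδ⟩ := exists_delta hμ hP
  -- `f x'` and `y'` lie over the same element of `G(A)`
  have hover : G.map μ (f.app A' x') = G.map μ y' := by
    rw [← NatTrans.naturality_apply f μ x', hx', hxy]
  obtain ⟨w, hw1, hw2⟩ := (cmp_surjective_iff G hP).mp (hG1 p₁ p₂ μ μ hP hμ.1) _ _ hover
  obtain ⟨u, hu⟩ := h1 (G.map δ w)
  have hu' : f.app (dual Λ k) u = G.map δ w := hu
  haveI := hF0.2
  obtain ⟨w', hw'1, hw'2⟩ := (cmp_surjective_iff F hδ).mp (hFe p₁ δ hδ).2 x' u
    (Subsingleton.elim _ _)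
  have hfw : f.app P w' = w := by
    apply (cmp_injective_iff G hδ).mp (hGe p₁ δ hδ).1
    · rw [← NatTrans.naturality_apply f p₁ w', hw'1, hw1]
    · rw [← NatTrans.naturality_apply f δ w', hw'2, hu']
  refine ⟨F.map p₂ w', ?_, ?_⟩
  · rw [← map_comp_apply', ← hP.w, map_comp_apply', hw'1, hx']
  · rw [NatTrans.naturality_apply f p₂ w', hfw, hw2]

lemma isSmooth_tangent_surjective (f : F ⟶ G) (hf : IsSmooth f) (hF0 : H0 F) (hG0 : H0 G) :
    Function.Surjective (TangentSpace.map f) := by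
  intro v
  obtain ⟨x₀⟩ := hF0.1
  haveI := hG0.2
  obtain ⟨z, -, hz⟩ := (isSmooth_iff f).mp hf (toBase (dual Λ k)) (dual Λ k).res_surjective x₀ v
    (Subsingleton.elim _ _)
  exact ⟨z, hz⟩

/-- A smooth morphism of deformation functors which is bijective on tangent spaces is bijective. -/
theorem bijective_app_of_isSmooth_of_tangent_bijective (φ : F ⟶ G)
    (hF0 : H0 F) (hF1 : S1 F) (hFe : Heps F) (hG0 : H0 G) (hG : RS G)
    (hφ : IsSmooth φ) (hd : Function.Bijective (TangentSpace.map φ)) (A : Art Λ k) :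
    Function.Bijective (φ.app A) := by
  refine ⟨?_, isSmooth_surjective_app φ hφ (h0_surjective_app φ hF0 hG0) A⟩
  have key := art_surjective_induction
    (fun A B μ => Function.Injective (φ.app A) → Function.Injective (φ.app B))
    ?_ ?_ ?_ (toBase A) A.res_surjective
  · apply key
    intro x y _
    haveI := hF0.2
    exact Subsingleton.elim _ _
  · intro A B e he hinj x y hxy
    have h1 : φ.app A (F.map e x) = φ.app A (F.map e y) := by
      rw [NatTrans.naturality_apply φ e x, NatTrans.naturality_apply φ e y, hxy]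
    have h2 := hinj h1
    have := congrArg (F.map (inv e)) h2
    rwa [map_inv_map, map_inv_map] at this
  · intro A A' μ hμ hinj x y hxy
    have h1 : F.map μ x = F.map μ y := by
      apply hinj
      rw [NatTrans.naturality_apply φ μ x, NatTrans.naturality_apply φ μ y, hxy]
    obtain ⟨P, p₁, p₂, hP⟩ := art_exists_isFibreProd μ μ hμ.1
    obtain ⟨δ, hδ⟩ := exists_delta hμ hP
    obtain ⟨w, hw1, hw2⟩ := (cmp_surjective_iff F hP).mp (hF1 p₁ p₂ μ μ hP hμ.1) x y h1
    obtain ⟨Δ, hΔ1, hΔ2⟩ := fp_exists_lift hP (𝟙 A') (𝟙 A') rfl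
    have hw₀1 : F.map p₁ (F.map Δ x) = x := by
      rw [← map_comp_apply', hΔ1, map_id_apply']
    have hw₀2 : F.map p₂ (F.map Δ x) = x := by
      rw [← map_comp_apply', hΔ2, map_id_apply']
    have hφw : φ.app P w = φ.app P (F.map Δ x) := by
      apply (cmp_injective_iff G hP).mp (hG p₁ p₂ μ μ hP hμ.1).1
      · rw [← NatTrans.naturality_apply φ p₁, ← NatTrans.naturality_apply φ p₁, hw1, hw₀1]
      · rw [← NatTrans.naturality_apply φ p₂, ← NatTrans.naturality_apply φ p₂, hw2, hw₀2, hxy]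
    have hδw : F.map δ w = F.map δ (F.map Δ x) := by
      apply hd.1
      change φ.app _ (F.map δ w) = φ.app _ (F.map δ (F.map Δ x))
      rw [NatTrans.naturality_apply φ δ, NatTrans.naturality_apply φ δ, hφw]
    have hww : w = F.map Δ x := by
      apply (cmp_injective_iff F hδ).mp (hFe p₁ δ hδ).1
      · rw [hw1, hw₀1]
      · exact hδw
    rw [← hw2, hww, hw₀2]
  · intro A B C p q hp hq hinj
    exact hp (hq hinj)

/-- Two lifts along a small extension with the same image under a tangent-injective morphism to a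
functor satisfying (RS) coincide. -/
theorem eq_of_app_eq_of_tangent_injective (ψ : G ⟶ H)
    (hG1 : S1 G) (hGe : Heps G) (hH : RS H)
    (hψ : Function.Injective (TangentSpace.map ψ)) {B A : Art Λ k} (μ : B ⟶ A)
    (hμ : IsSmallExt μ) (g₁ g₂ : G.obj B) (h1 : G.map μ g₁ = G.map μ g₂)
    (h2 : ψ.app B g₁ = ψ.app B g₂) : g₁ = g₂ := by
  obtain ⟨P, p₁, p₂, hP⟩ := art_exists_isFibreProd μ μ hμ.1
  obtain ⟨δ, hδ⟩ := exists_delta hμ hP
  obtain ⟨w, hw1, hw2⟩ := (cmp_surjective_iff G hP).mp (hG1 p₁ p₂ μ μ hP hμ.1) _ _ h1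
  obtain ⟨Δ, hΔ1, hΔ2⟩ := fp_exists_lift hP (𝟙 B) (𝟙 B) rfl
  set w₀ := G.map Δ g₁ with hw₀
  have hw₀1 : G.map p₁ w₀ = g₁ := by
    rw [hw₀, ← map_comp_apply', hΔ1, map_id_apply']
  have hw₀2 : G.map p₂ w₀ = g₁ := by
    rw [hw₀, ← map_comp_apply', hΔ2, map_id_apply']
  have hψw : ψ.app P w = ψ.app P w₀ := by
    apply (cmp_injective_iff H hP).mp (hH p₁ p₂ μ μ hP hμ.1).1
    · rw [← NatTrans.naturality_apply ψ p₁, ← NatTrans.naturality_apply ψ p₁, hw1, hw₀1]
    · rw [← NatTrans.naturality_apply ψ p₂, ← NatTrans.naturality_apply ψ p₂, hw2, hw₀2, h2]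
  have hδw : G.map δ w = G.map δ w₀ := by
    apply hψ
    change ψ.app _ (G.map δ w) = ψ.app _ (G.map δ w₀)
    rw [NatTrans.naturality_apply ψ δ, NatTrans.naturality_apply ψ δ, hψw]
  have hww : w = w₀ := by
    apply (cmp_injective_iff G hδ).mp (hGe p₁ δ hδ).1
    · rw [hw1, hw₀1]
    · exact hδw
  rw [← hw2, hww, hw₀2]

/-- If `φ ≫ ψ` is smooth, `ψ` is injective on tangent spaces, `G` satisfies (S1), `H_ε` and `H`
satisfies (RS), then `φ` is smooth. -/
theorem isSmooth_of_comp_of_tangent_injective (φ : F ⟶ G) (ψ : G ⟶ H)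
    (hG1 : S1 G) (hGe : Heps G) (hH : RS H)
    (hψ : Function.Injective (TangentSpace.map ψ)) (hs : IsSmooth (φ ≫ ψ)) : IsSmooth φ := by
  apply isSmooth_of_smallExt
  intro B A μ hμ
  rw [relCmp_surjective_iff]
  intro x y hxy
  have hxy' : (φ ≫ ψ).app A x = H.map μ (ψ.app B y) := by
    change ψ.app A (φ.app A x) = _
    rw [hxy]
    exact NatTrans.naturality_apply ψ μ y
  obtain ⟨z, hz1, hz2⟩ := (isSmooth_iff (φ ≫ ψ)).mp hs μ hμ.1 x (ψ.app B y) hxy'
  have hz2' : ψ.app B (φ.app B z) = ψ.app B y := hz2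
  refine ⟨z, hz1, ?_⟩
  obtain ⟨P, p₁, p₂, hP⟩ := art_exists_isFibreProd μ μ hμ.1
  obtain ⟨δ, hδ⟩ := exists_delta hμ hP
  have hover : G.map μ (φ.app B z) = G.map μ y := by
    rw [← NatTrans.naturality_apply φ μ z, hz1, hxy]
  obtain ⟨w, hw1, hw2⟩ := (cmp_surjective_iff G hP).mp (hG1 p₁ p₂ μ μ hP hμ.1) _ _ hover
  obtain ⟨Δ, hΔ1, hΔ2⟩ := fp_exists_lift hP (𝟙 B) (𝟙 B) rfl
  set w₀ := G.map Δ (φ.app B z) with hw₀
  have hw₀1 : G.map p₁ w₀ = φ.app B z := by
    rw [hw₀, ← map_comp_apply', hΔ1, map_id_apply']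
  have hw₀2 : G.map p₂ w₀ = φ.app B z := by
    rw [hw₀, ← map_comp_apply', hΔ2, map_id_apply']
  have hψw : ψ.app P w = ψ.app P w₀ := by
    apply (cmp_injective_iff H hP).mp (hH p₁ p₂ μ μ hP hμ.1).1
    · rw [← NatTrans.naturality_apply ψ p₁, ← NatTrans.naturality_apply ψ p₁, hw1, hw₀1]
    · rw [← NatTrans.naturality_apply ψ p₂, ← NatTrans.naturality_apply ψ p₂, hw2, hw₀2, hz2']
  have hδw : G.map δ w = G.map δ w₀ := by
    apply hψ
    change ψ.app _ (G.map δ w) = ψ.app _ (G.map δ w₀)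
    rw [NatTrans.naturality_apply ψ δ, NatTrans.naturality_apply ψ δ, hψw]
  have hww : w = w₀ := by
    apply (cmp_injective_iff G hδ).mp (hGe p₁ δ hδ).1
    · rw [hw1, hw₀1]
    · exact hδw
  rw [← hw2, hww, hw₀2]

end Deformation

/-! ### Versality criteria for families -/

section VersalCrit

variable {R : Type u} [CommRing R] [Algebra Λ R] {resR : R →ₐ[Λ] k} {F : Art Λ k ⥤ Type v}

lemma homSet_map_comp {A B C : Art Λ k} (f : A ⟶ B) (g : B ⟶ C) (φ : HomSet R resR A) :
    HomSet.map (f ≫ g) φ = HomSet.map g (HomSet.map f φ) :=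
  Subtype.ext (AlgHom.ext fun _ => rfl)

lemma homSet_map_id {A : Art Λ k} (φ : HomSet R resR A) : HomSet.map (𝟙 A) φ = φ :=
  Subtype.ext (AlgHom.ext fun _ => rfl)

/-- Versality can be tested on small extensions. -/
theorem isVersal_of_smallExt (ξ : Family R resR F)
    (h : ∀ ⦃B A : Art Λ k⦄ (μ : B ⟶ A), IsSmallExt μ →
      ∀ (φ : HomSet R resR A) (y : F.obj B), F.map μ y = ξ.app A φ →
        ∃ ψ : HomSet R resR B, HomSet.map μ ψ = φ ∧ ξ.app B ψ = y) :
    IsVersal ξ := by
  intro B A μ hμ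
  refine art_surjective_induction
    (fun A B μ => ∀ (φ : HomSet R resR A) (y : F.obj B), F.map μ y = ξ.app A φ →
        ∃ ψ : HomSet R resR B, HomSet.map μ ψ = φ ∧ ξ.app B ψ = y)
    ?_ (fun A B p hp => h p hp) ?_ μ hμ
  · intro A B e he φ y hy
    refine ⟨HomSet.map (inv e) φ, ?_, ?_⟩
    · rw [← homSet_map_comp, IsIso.inv_hom_id, homSet_map_id]
    · rw [ξ.natural, ← hy, map_inv_map]
  · intro A B C p q hp hq φ y hy
    rw [map_comp_apply'] at hy
    obtain ⟨ψ₁, hψ₁, hψ₁'⟩ := hq φ (F.map p y) hy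
    obtain ⟨ψ, hψ, hψ'⟩ := hp ψ₁ y hψ₁'.symm
    refine ⟨ψ, ?_, hψ'⟩
    rw [homSet_map_comp, hψ, hψ₁]

variable [IsNoetherianRing Λ] [Module.Finite Λ k]

/-- Versality criterion: surjective on tangent spaces and existence of lifts of maps along small
extensions. -/
theorem isVersal_iff_tangent_surjective_and_exists_lift (h0 : H0 F) (h1 : S1 F) (h2 : Heps F)
    (ξ : Family R resR F) :
    IsVersal ξ ↔
      (Function.Surjective (TangentSpace.ofFamily ξ) ∧
        ∀ ⦃B A : Art Λ k⦄ (μ : B ⟶ A), IsSmallExt μ →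
          ∀ (φ : HomSet R resR A) (y : F.obj B), F.map μ y = ξ.app A φ →
            ∃ ψ : HomSet R resR B, HomSet.map μ ψ = φ) := by
  haveI := h0.2
  constructor
  · intro hξ
    refine ⟨?_, ?_⟩
    · intro v
      obtain ⟨ψ, -, hψ⟩ := hξ (toBase (dual Λ k)) (dual Λ k).res_surjective (homSetBase R resR) v
        (Subsingleton.elim _ _)
      exact ⟨ψ, hψ⟩
    · intro B A μ hμ φ y hy
      obtain ⟨ψ, hψ, -⟩ := hξ μ hμ.1 φ y hy
      exact ⟨ψ, hψ⟩
  · rintro ⟨ht, hl⟩
    apply isVersal_of_smallExt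
    intro B A μ hμ φ y hy
    obtain ⟨ψ₀, hψ₀⟩ := hl μ hμ φ y hy
    obtain ⟨P, p₁, p₂, hP⟩ := art_exists_isFibreProd μ μ hμ.1
    obtain ⟨δ, hδ⟩ := exists_delta hμ hP
    have hover : F.map μ (ξ.app B ψ₀) = F.map μ y := by
      rw [← ξ.natural, hψ₀, hy]
    obtain ⟨w, hw1, hw2⟩ := (cmp_surjective_iff F hP).mp (h1 p₁ p₂ μ μ hP hμ.1) _ _ hover
    obtain ⟨u, hu⟩ := ht (F.map δ w)
    have hu' : ξ.app (dual Λ k) u = F.map δ w := hu
    obtain ⟨ψ', hψ'1, hψ'2⟩ := fp_exists_homSet hδ ψ₀ u (homSet_base_eq _ _)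
    have hξψ' : ξ.app P ψ' = w := by
      apply (cmp_injective_iff F hδ).mp (h2 p₁ δ hδ).1
      · rw [← ξ.natural, hψ'1, hw1]
      · rw [← ξ.natural, hψ'2, hu']
    refine ⟨HomSet.map p₂ ψ', ?_, ?_⟩
    · rw [← homSet_map_comp, ← hP.w, homSet_map_comp, hψ'1, hψ₀]
    · rw [ξ.natural, hξψ', hw2]

end VersalCrit

end Groth.Agent.H6
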