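import Groth.Agent.Lib.Helper6.ArtFunHull
import Groth.Prelude.Def_ArtFun5

/-!
# helper6: formal elements, maps into complete local rings as limits
-/

set_option autoImplicit false
set_option linter.style.haveILetI false
set_option linter.unusedTactic false
set_option linter.unusedVariables false

universe u v

open CategoryTheory

namespace Groth.Agent.H6

open ArtFun ArtFun.Art IsLocalRing

variable {Λ : Type u} {k : Type u} [CommRing Λ] [Field k] [Algebra Λ k]

section Limit

variable {R : Type u} [CommRing R] [Algebra Λ R] {resR : R →ₐ[Λ] k} (S : CRing Λ k)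

lemma truncHom_apply (n : ℕ) (s : S.carrier) :
    (S.truncHom n).1 s = Ideal.Quotient.mk (S.mpow n) s := rfl

lemma truncHom_surjective (n : ℕ) : Function.Surjective (S.truncHom n).1 :=
  Ideal.Quotient.mk_surjective

lemma truncMap_apply (n : ℕ) (s : S.carrier) :
    S.truncMap n (Ideal.Quotient.mk (S.mpow (n + 1)) s) = Ideal.Quotient.mk (S.mpow n) s := rfl

/-- Two maps into a complete local ring with the same truncations are equal. -/
theorem cring_hom_ext (G G' : R →ₐ[Λ] S.carrier)
    (h : ∀ n, (S.truncHom n).1.comp G = (S.truncHom n).1.comp G') : G = G' := by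
  haveI := S.isAdicComplete
  apply AlgHom.ext
  intro r
  rw [IsHausdorff.eq_iff_smodEq (I := maximalIdeal S.carrier)]
  intro n
  have hn := congrArg (fun f : R →ₐ[Λ] S.trunc n => f r) (h n)
  have hn' : Ideal.Quotient.mk (S.mpow n) (G r) = Ideal.Quotient.mk (S.mpow n) (G' r) := hn
  rw [Ideal.Quotient.eq] at hn'
  rw [SModEq.sub_mem, smul_eq_mul, Ideal.mul_top]
  exact Ideal.pow_le_pow_right (Nat.le_succ n) hn'

/-- A compatible system of maps `R → S/m^(n+1)` glues to a map `R → S`. -/
theorem exists_limit_hom (g : ∀ n, HomSet R resR (S.trunc n))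
    (hg : ∀ n, HomSet.map (S.truncMap n) (g (n + 1)) = g n) :
    ∃ (G : R →ₐ[Λ] S.carrier) (hG : S.res.comp G = resR),
      ∀ n, (S.truncHom n).1.comp G = (g n).1 := by
  haveI := S.isAdicComplete
  have ha : StrictMono (fun n : ℕ => n + 1) := fun _ _ h => Nat.succ_lt_succ h
  let f : (n : ℕ) → R →+* S.carrier ⧸ maximalIdeal S.carrier ^ (n + 1) := fun n =>
    ((g n).1 : R →ₐ[Λ] S.carrier ⧸ S.mpow n).toRingHom
  have hf : ∀ {m : ℕ}, (Ideal.Quotient.factorPow (maximalIdeal S.carrier)
      (ha.monotone m.le_succ)).comp (f (m + 1)) = f m := by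
    intro m
    ext r
    have := congrArg (fun t : HomSet R resR (S.trunc m) => t.1 r) (hg m)
    have h2 : S.truncMap m ((g (m + 1)).1 r) = (g m).1 r := this
    change Ideal.Quotient.factorPow (maximalIdeal S.carrier) (Nat.le_succ (m + 1))
      ((g (m + 1)).1 r) = (g m).1 r
    rw [← h2]
    obtain ⟨s, hs⟩ := Ideal.Quotient.mk_surjective ((g (m + 1)).1 r)
    rw [← hs]
    rfl
  let G₀ : R →+* S.carrier :=
    IsAdicComplete.StrictMono.liftRingHom (maximalIdeal S.carrier) ha f hf
  have hG₀ : ∀ n r, Ideal.Quotient.mk (maximalIdeal S.carrier ^ (n + 1)) (G₀ r) = (g n).1 r :=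
    fun n r => IsAdicComplete.StrictMono.mk_liftRingHom (maximalIdeal S.carrier) ha f hf r
  have hcomm : ∀ l : Λ, G₀ (algebraMap Λ R l) = algebraMap Λ S.carrier l := by
    intro l
    rw [IsHausdorff.eq_iff_smodEq (I := maximalIdeal S.carrier)]
    intro n
    rw [SModEq.sub_mem, smul_eq_mul, Ideal.mul_top]
    apply Ideal.pow_le_pow_right (Nat.le_succ n)
    rw [← Ideal.Quotient.eq, hG₀, AlgHom.commutes]
    rfl
  let G : R →ₐ[Λ] S.carrier := { G₀ with commutes' := hcomm }
  have hGapp : ∀ r, G r = G₀ r := fun r => rfl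
  have hGn : ∀ n, (S.truncHom n).1.comp G = (g n).1 := by
    intro n
    apply AlgHom.ext
    intro r
    exact hG₀ n r
  refine ⟨G, ?_, hGn⟩
  have h0 := (g 0).2
  rw [← hGn 0, ← AlgHom.comp_assoc, (S.truncHom 0).2] at h0
  exact h0

end Limit

section Factor

variable (R : CRing Λ k) {F : Art Λ k ⥤ Type v}

lemma truncMap_surjective (n : ℕ) : Function.Surjective (R.truncMap n) := by
  intro x
  obtain ⟨s, rfl⟩ := Ideal.Quotient.mk_surjective x
  exact ⟨Ideal.Quotient.mk (R.mpow (n + 1)) s, rfl⟩

/-- Every map to an Artinian object factors through a truncation. -/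
theorem exists_trunc_factor {A : Art Λ k} (u : HomSet R.carrier R.res A) :
    ∃ (n : ℕ) (ū : R.trunc n ⟶ A), HomSet.map ū (R.truncHom n) = u := by
  obtain ⟨c, hc⟩ := art_maximalIdeal_pow_eq_bot A
  have hker : R.mpow c ≤ RingHom.ker u.1 :=
    (Ideal.pow_le_pow_right (Nat.le_succ c)).trans (homSet_pow_le_ker R.res_surjective u hc)
  refine ⟨c, ⟨Ideal.Quotient.liftₐ (R.mpow c) u.1 (fun a ha => hker ha), ?_⟩, ?_⟩
  · apply AlgHom.ext
    intro x
    obtain ⟨a, rfl⟩ := Ideal.Quotient.mk_surjective x
    exact congrArg (fun g : R.carrier →ₐ[Λ] k => g a) u.2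
  · exact homSet_ext fun _ => rfl

variable {R}

/-- Families with the same formal element are equal. -/
theorem family_ext_of_toFormalElt (ξ ξ' : Family R.carrier R.res F)
    (h : ξ.toFormalElt = ξ'.toFormalElt) : ξ = ξ' := by
  have happ : ∀ A u, ξ.app A u = ξ'.app A u := by
    intro A u
    obtain ⟨n, ū, rfl⟩ := exists_trunc_factor R u
    rw [ξ.natural, ξ'.natural]
    congr 1
    exact congrArg (fun e => e.elt n) h
  cases ξ
  cases ξ'
  congr
  funext A u
  exact happ A u

/-- A universal family is versal. -/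
theorem isVersal_of_isUniversal (ξ : Family R.carrier R.res F) (hξ : IsUniversal ξ) :
    IsVersal ξ := by
  intro B A μ hμ φ y hy
  obtain ⟨ψ, rfl⟩ := (hξ B).2 y
  refine ⟨ψ, (hξ A).1 ?_, rfl⟩
  rw [ξ.natural, hy]

/-- `H0` for a functor with a universal family. -/
theorem h0_of_isUniversal (ξ : Family R.carrier R.res F) (hξ : IsUniversal ξ) : H0 F :=
  h0_of_surjective ξ (hξ _).2

section Lifting

variable (ξ : Family R.carrier R.res F) (hξ : IsVersal ξ)
  (hsurj : ∀ A : Art Λ k, Function.Surjective (ξ.app A)) (S : CRing Λ k) (η : FormalElt F S)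

/-- successive lifts of a formal element along a versal family -/
noncomputable def liftSeq :
    (n : ℕ) → {g : HomSet R.carrier R.res (S.trunc n) // ξ.app _ g = η.elt n}
  | 0 => ⟨Classical.choose (hsurj _ (η.elt 0)), Classical.choose_spec (hsurj _ (η.elt 0))⟩
  | n + 1 =>
    have h : F.map (S.truncMap n) (η.elt (n + 1)) = ξ.app _ (liftSeq n).1 := by
      rw [η.compat, (liftSeq n).2]
    ⟨Classical.choose (hξ (S.truncMap n) (truncMap_surjective S n) (liftSeq n).1 (η.elt (n + 1)) h),
      (Classical.choose_spec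
        (hξ (S.truncMap n) (truncMap_surjective S n) (liftSeq n).1 (η.elt (n + 1)) h)).2⟩

lemma liftSeq_compat (n : ℕ) :
    HomSet.map (S.truncMap n) (liftSeq ξ hξ hsurj S η (n + 1)).1 = (liftSeq ξ hξ hsurj S η n).1 := by
  have h : F.map (S.truncMap n) (η.elt (n + 1)) = ξ.app _ (liftSeq ξ hξ hsurj S η n).1 := by
    rw [η.compat, (liftSeq ξ hξ hsurj S η n).2]
  exact (Classical.choose_spec
    (hξ (S.truncMap n) (truncMap_surjective S n) (liftSeq ξ hξ hsurj S η n).1 (η.elt (n + 1)) h)).1

include hξ hsurj in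
/-- Every formal element is induced from a versal, objectwise surjective family. -/
theorem exists_hom_of_formalElt :
    ∃ (g : R.carrier →ₐ[Λ] S.carrier) (hg : S.res.comp g = R.res),
      (ξ.along g hg).toFormalElt = η := by
  obtain ⟨G, hG, hGn⟩ := exists_limit_hom S (fun n => (liftSeq ξ hξ hsurj S η n).1)
    (liftSeq_compat ξ hξ hsurj S η)
  refine ⟨G, hG, ?_⟩
  apply FormalElt.ext'
  intro n
  change ξ.app _ _ = η.elt n
  rw [← (liftSeq ξ hξ hsurj S η n).2]
  congr 1
  exact Subtype.ext (hGn n)

end Lifting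

end Factor

section Unique

variable {R S : CRing Λ k} {F : Art Λ k ⥤ Type v}

/-- For a universal family, a formal element is induced by at most one map. -/
theorem hom_eq_of_toFormalElt_eq (ξ : Family R.carrier R.res F) (hξ : IsUniversal ξ)
    (g₁ g₂ : R.carrier →ₐ[Λ] S.carrier) (hg₁ : S.res.comp g₁ = R.res)
    (hg₂ : S.res.comp g₂ = R.res)
    (h : (ξ.along g₁ hg₁).toFormalElt = (ξ.along g₂ hg₂).toFormalElt) : g₁ = g₂ := by
  apply cring_hom_ext S
  intro n
  have hn := congrArg (fun e => e.elt n) h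
  have := (hξ _).1 hn
  exact congrArg Subtype.val this

end Unique

section ProrepUnique

variable {F : Art Λ k ⥤ Type v}

lemma family_ext {R : Type u} [CommRing R] [Algebra Λ R] {resR : R →ₐ[Λ] k}
    {ξ ξ' : Family R resR F} (h : ∀ A u, ξ.app A u = ξ'.app A u) : ξ = ξ' := by
  cases ξ
  cases ξ'
  congr
  funext A u
  exact h A u

/-- The pro-representing pair is unique up to unique isomorphism. -/
theorem prorep_unique (P Q : ProRep F) :
    ∃! e : P.ring.carrier ≃ₐ[Λ] Q.ring.carrier,
      ∃ he : Q.ring.res.comp e.toAlgHom = P.ring.res, P.family.along e.toAlgHom he = Q.family := by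
  obtain ⟨g, hg, hgη⟩ := exists_hom_of_formalElt P.family
    (isVersal_of_isUniversal P.family P.universal) (fun A => (P.universal A).2) Q.ring
    Q.family.toFormalElt
  have hgfam : P.family.along g hg = Q.family := family_ext_of_toFormalElt _ _ hgη
  obtain ⟨g', hg', hg'η⟩ := exists_hom_of_formalElt Q.family
    (isVersal_of_isUniversal Q.family Q.universal) (fun A => (Q.universal A).2) P.ring
    P.family.toFormalElt
  have hg'fam : Q.family.along g' hg' = P.family := family_ext_of_toFormalElt _ _ hg'η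
  have hP : P.ring.res.comp (g'.comp g) = P.ring.res := by
    rw [← AlgHom.comp_assoc, hg', hg]
  have hQ : Q.ring.res.comp (g.comp g') = Q.ring.res := by
    rw [← AlgHom.comp_assoc, hg, hg']
  have h1 : g'.comp g = AlgHom.id Λ P.ring.carrier := by
    apply hom_eq_of_toFormalElt_eq P.family P.universal _ _ hP (AlgHom.comp_id _)
    congr 1
    apply family_ext
    intro A ψ
    have e1 : (P.family.along (g'.comp g) hP).app A ψ =
        (P.family.along g hg).app A ⟨ψ.1.comp g', by rw [← AlgHom.comp_assoc, ψ.2, hg']⟩ := rfl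
    rw [e1, hgfam]
    have e2 : Q.family.app A ⟨ψ.1.comp g', by rw [← AlgHom.comp_assoc, ψ.2, hg']⟩ =
        (Q.family.along g' hg').app A ψ := rfl
    rw [e2, hg'fam]
    rfl
  have h2 : g.comp g' = AlgHom.id Λ Q.ring.carrier := by
    apply hom_eq_of_toFormalElt_eq Q.family Q.universal _ _ hQ (AlgHom.comp_id _)
    congr 1
    apply family_ext
    intro A ψ
    have e1 : (Q.family.along (g.comp g') hQ).app A ψ =
        (Q.family.along g' hg').app A ⟨ψ.1.comp g, by rw [← AlgHom.comp_assoc, ψ.2, hg]⟩ := rfl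
    rw [e1, hg'fam]
    have e2 : P.family.app A ⟨ψ.1.comp g, by rw [← AlgHom.comp_assoc, ψ.2, hg]⟩ =
        (P.family.along g hg).app A ψ := rfl
    rw [e2, hgfam]
    rfl
  let e : P.ring.carrier ≃ₐ[Λ] Q.ring.carrier := AlgEquiv.ofAlgHom g g' h2 h1
  have he : Q.ring.res.comp e.toAlgHom = P.ring.res := hg
  refine ⟨e, ⟨he, ?_⟩, ?_⟩
  · exact hgfam
  · rintro e' ⟨he', hfam'⟩
    have : e'.toAlgHom = g :=
      hom_eq_of_toFormalElt_eq P.family P.universal _ _ he' hg (by rw [hfam', hgfam])
    apply AlgEquiv.ext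
    intro x
    exact congrArg (fun f : P.ring.carrier →ₐ[Λ] Q.ring.carrier => f x) this

end ProrepUnique

section FamilyOfFormal

variable (R : CRing Λ k) {F : Art Λ k ⥤ Type v}

/-- transition maps between truncations -/
noncomputable def truncLE {n n' : ℕ} (h : n ≤ n') : R.trunc n' ⟶ R.trunc n :=
  ⟨Ideal.Quotient.factorₐ Λ (Ideal.pow_le_pow_right (Nat.succ_le_succ h)), by
    apply AlgHom.ext
    intro x
    obtain ⟨a, rfl⟩ := Ideal.Quotient.mk_surjective x
    rfl⟩

lemma trunc_hom_ext {n : ℕ} {A : Art Λ k} {f g : R.trunc n ⟶ A}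
    (h : HomSet.map f (R.truncHom n) = HomSet.map g (R.truncHom n)) : f = g := by
  apply Art.hom_ext
  apply AlgHom.ext
  intro x
  obtain ⟨a, rfl⟩ := Ideal.Quotient.mk_surjective x
  exact congrArg (fun t : HomSet R.carrier R.res A => t.1 a) h

lemma truncLE_truncHom {n n' : ℕ} (h : n ≤ n') :
    HomSet.map (truncLE R h) (R.truncHom n') = R.truncHom n :=
  homSet_ext fun _ => rfl

lemma truncLE_refl (n : ℕ) : truncLE R (le_refl n) = 𝟙 _ :=
  trunc_hom_ext R (homSet_ext fun _ => rfl)

lemma truncLE_succ (n : ℕ) : truncLE R (Nat.le_succ n) = R.truncMap n :=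
  trunc_hom_ext R (homSet_ext fun _ => rfl)

lemma truncLE_comp {n n' n'' : ℕ} (h : n ≤ n') (h' : n' ≤ n'') :
    truncLE R h' ≫ truncLE R h = truncLE R (h.trans h') :=
  trunc_hom_ext R (homSet_ext fun _ => rfl)

variable {R}

lemma formalElt_map_truncLE (η : FormalElt F R) {n n' : ℕ} (h : n ≤ n') :
    F.map (truncLE R h) (η.elt n') = η.elt n := by
  induction n', h using Nat.le_induction with
  | base => rw [truncLE_refl, map_id_apply']
  | succ m hm ih =>
    rw [← truncLE_comp R hm (Nat.le_succ m), map_comp_apply', truncLE_succ, η.compat, ih]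

lemma formalElt_indep (η : FormalElt F R) {A : Art Λ k} {n n' : ℕ} (f : R.trunc n ⟶ A)
    (f' : R.trunc n' ⟶ A)
    (h : HomSet.map f (R.truncHom n) = HomSet.map f' (R.truncHom n')) :
    F.map f (η.elt n) = F.map f' (η.elt n') := by
  wlog hle : n ≤ n' generalizing n n'
  · exact (this f' f h.symm (le_of_not_ge hle)).symm
  have : f' = truncLE R hle ≫ f := by
    apply trunc_hom_ext R
    rw [homSet_map_comp, truncLE_truncHom, h]
  rw [this, map_comp_apply', formalElt_map_truncLE]

/-- The family attached to a formal element. -/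
noncomputable def familyOfFormalElt (η : FormalElt F R) : Family R.carrier R.res F where
  app A u := F.map (Classical.choose (Classical.choose_spec (exists_trunc_factor R u)))
    (η.elt (Classical.choose (exists_trunc_factor R u)))
  natural {A B} f u := by
    have h1 := Classical.choose_spec (Classical.choose_spec (exists_trunc_factor R u))
    have h2 := Classical.choose_spec (Classical.choose_spec
      (exists_trunc_factor R (HomSet.map f u)))
    rw [← map_comp_apply']
    apply formalElt_indep
    rw [h2, homSet_map_comp, h1]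

lemma familyOfFormalElt_app (η : FormalElt F R) {A : Art Λ k} {n : ℕ} (f : R.trunc n ⟶ A) :
    (familyOfFormalElt η).app A (HomSet.map f (R.truncHom n)) = F.map f (η.elt n) := by
  have h2 := Classical.choose_spec (Classical.choose_spec
    (exists_trunc_factor R (HomSet.map f (R.truncHom n))))
  exact formalElt_indep η _ _ h2

theorem toFormalElt_familyOfFormalElt (η : FormalElt F R) :
    (familyOfFormalElt η).toFormalElt = η := by
  apply FormalElt.ext'
  intro n
  have := familyOfFormalElt_app η (𝟙 (R.trunc n))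
  rw [homSet_map_id, map_id_apply'] at this
  exact this

theorem toFormalElt_bijective :
    Function.Bijective (fun ξ : Family R.carrier R.res F => ξ.toFormalElt) :=
  ⟨fun ξ ξ' h => family_ext_of_toFormalElt ξ ξ' h,
    fun η => ⟨familyOfFormalElt η, toFormalElt_familyOfFormalElt η⟩⟩

end FamilyOfFormal

end Groth.Agent.H6
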