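import Mathlib

/-!
# helper6: existence of derivations into the residue field

For a local homomorphism `R → S` of local rings with the same residue field `K` and
`x ∈ m_S` outside `m_R S + m_S²` there is an `R`-derivation `D : S → K` with `D x ≠ 0`.
-/

set_option autoImplicit false
set_option linter.style.haveILetI false
set_option linter.unusedTactic false
set_option linter.unusedVariables false

namespace Groth.Agent.H6.DerEx

open IsLocalRing

section Aug

variable {K W : Type*} [Field K] [CommRing W] [Algebra K W] (ρ : W →+* K)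
  (hρ : ∀ c : K, ρ (algebraMap K W c) = c)
  (hsq : ∀ w w' : W, ρ w = 0 → ρ w' = 0 → w * w' = 0)

include hρ hsq in
lemma functional_mul (ℓ : W →ₗ[K] K) (h1 : ℓ 1 = 0) (x y : W) :
    ℓ (x * y) = ρ x * ℓ y + ρ y * ℓ x := by
  have hx₀ : ρ (x - algebraMap K W (ρ x)) = 0 := by rw [map_sub, hρ, sub_self]
  have hy₀ : ρ (y - algebraMap K W (ρ y)) = 0 := by rw [map_sub, hρ, sub_self]
  have hprod := hsq _ _ hx₀ hy₀
  have hxy : x * y = ρ x • y + ρ y • x - (ρ x * ρ y) • (1 : W) := by
    rw [Algebra.smul_def, Algebra.smul_def, Algebra.smul_def, map_mul]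
    linear_combination hprod
  rw [hxy, map_sub, map_add, map_smul, map_smul, map_smul, h1, smul_zero, sub_zero]
  rfl

include hρ in
lemma exists_functional {w₀ : W} (hw₀ : ρ w₀ = 0) (hne : w₀ ≠ 0) :
    ∃ ℓ : W →ₗ[K] K, ℓ 1 = 0 ∧ ℓ w₀ ≠ 0 := by
  have hnot : w₀ ∉ Submodule.span K {(1 : W)} := by
    intro hmem
    obtain ⟨c, hc⟩ := Submodule.mem_span_singleton.1 hmem
    have : ρ w₀ = c := by
      rw [← hc, Algebra.smul_def, mul_one, hρ]
    rw [hw₀] at this
    rw [← this, zero_smul] at hc
    exact hne hc.symm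
  obtain ⟨ℓ, hℓ, hℓ1⟩ := Submodule.exists_dual_map_eq_bot_of_notMem hnot inferInstance
  refine ⟨ℓ, ?_, hℓ⟩
  have : ℓ 1 ∈ (Submodule.span K {(1 : W)}).map ℓ :=
    Submodule.mem_map_of_mem (Submodule.subset_span rfl)
  rw [hℓ1] at this
  exact this

end Aug

variable {R S K : Type*} [CommRing R] [CommRing S] [Field K] [IsLocalRing R] [IsLocalRing S]
  [Algebra R S] [Algebra S K] [Algebra R K] [IsScalarTower R S K]

lemma ker_algebraMap_eq {T : Type*} [CommRing T] [IsLocalRing T] [Algebra T K]
    (h : Function.Surjective (algebraMap T K)) : RingHom.ker (algebraMap T K) = maximalIdeal T :=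
  IsLocalRing.eq_maximalIdeal (RingHom.ker_isMaximal_of_surjective (algebraMap T K) h)

theorem exists_derivation (hRK : Function.Surjective (algebraMap R K)) {x : S}
    (hxm : x ∈ maximalIdeal S)
    (hx : x ∉ Ideal.map (algebraMap R S) (maximalIdeal R) ⊔ maximalIdeal S ^ 2) :
    ∃ D : Derivation R S K, D x ≠ 0 := by
  have hSK : Function.Surjective (algebraMap S K) := by
    intro c
    obtain ⟨r, rfl⟩ := hRK c
    exact ⟨algebraMap R S r, (IsScalarTower.algebraMap_apply R S K r).symm⟩
  have hkerS := ker_algebraMap_eq (K := K) hSK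
  have hkerR := ker_algebraMap_eq (K := K) hRK
  set I : Ideal S := Ideal.map (algebraMap R S) (maximalIdeal R) ⊔ maximalIdeal S ^ 2 with hI
  have hmap_le : Ideal.map (algebraMap R S) (maximalIdeal R) ≤ maximalIdeal S := by
    rw [Ideal.map_le_iff_le_comap]
    intro r hr
    rw [Ideal.mem_comap, ← hkerS, RingHom.mem_ker, ← IsScalarTower.algebraMap_apply, ← RingHom.mem_ker,
      hkerR]
    exact hr
  have hI_le : I ≤ maximalIdeal S := sup_le hmap_le (Ideal.pow_le_self two_ne_zero)
  let π : S →+* S ⧸ I := Ideal.Quotient.mk I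
  let g : R →+* S ⧸ I := π.comp (algebraMap R S)
  have hg : RingHom.ker (algebraMap R K) ≤ RingHom.ker g := by
    rw [hkerR]
    intro r hr
    rw [RingHom.mem_ker]
    change π (algebraMap R S r) = 0
    rw [Ideal.Quotient.eq_zero_iff_mem]
    exact Ideal.mem_sup_left (Ideal.mem_map_of_mem _ hr)
  let σ : K →+* S ⧸ I := RingHom.liftOfSurjective (algebraMap R K) hRK ⟨g, hg⟩
  have hσ : ∀ r : R, σ (algebraMap R K r) = π (algebraMap R S r) := fun r =>
    RingHom.liftOfRightInverse_comp_apply _ _ _ ⟨g, hg⟩ r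
  letI : Algebra K (S ⧸ I) := σ.toAlgebra
  let ρ : S ⧸ I →+* K := Ideal.Quotient.lift I (algebraMap S K) (fun a ha => by
    rw [← RingHom.mem_ker, hkerS]; exact hI_le ha)
  have hρπ : ∀ s : S, ρ (π s) = algebraMap S K s := fun s => rfl
  have hρ : ∀ c : K, ρ (algebraMap K (S ⧸ I) c) = c := by
    intro c
    obtain ⟨r, rfl⟩ := hRK c
    change ρ (σ (algebraMap R K r)) = _
    rw [hσ, hρπ, ← IsScalarTower.algebraMap_apply]
  have hsq : ∀ w w' : S ⧸ I, ρ w = 0 → ρ w' = 0 → w * w' = 0 := by
    intro w w' hw hw'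
    obtain ⟨a, rfl⟩ := Ideal.Quotient.mk_surjective w
    obtain ⟨a', rfl⟩ := Ideal.Quotient.mk_surjective w'
    have ha : a ∈ maximalIdeal S := by rw [← hkerS]; exact hw
    have ha' : a' ∈ maximalIdeal S := by rw [← hkerS]; exact hw'
    rw [← map_mul, Ideal.Quotient.eq_zero_iff_mem]
    apply Ideal.mem_sup_right
    rw [pow_two]
    exact Ideal.mul_mem_mul ha ha'
  have hx0 : π x ≠ 0 := by
    intro h
    exact hx (Ideal.Quotient.eq_zero_iff_mem.1 h)
  have hρx : ρ (π x) = 0 := by
    rw [hρπ, ← RingHom.mem_ker, hkerS]; exact hxm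
  obtain ⟨ℓ, hℓ1, hℓx⟩ := exists_functional ρ hρ hρx hx0
  have hmul := functional_mul ρ hρ hsq ℓ hℓ1
  refine ⟨{ toFun := fun s => ℓ (π s)
            map_add' := fun a b => by rw [map_add, map_add]
            map_smul' := fun r s => by
              rw [RingHom.id_apply, Algebra.smul_def, map_mul, ← hσ]
              change ℓ (algebraMap K (S ⧸ I) (algebraMap R K r) * π s) = _
              rw [← Algebra.smul_def, map_smul, smul_eq_mul, Algebra.smul_def]
            map_one_eq_zero' := by
              change ℓ (π 1) = 0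
              rw [map_one, hℓ1]
            leibniz' := fun a b => by
              change ℓ (π (a * b)) = a • ℓ (π b) + b • ℓ (π a)
              rw [map_mul, hmul, hρπ, hρπ, Algebra.smul_def, Algebra.smul_def] }, hℓx⟩

end Groth.Agent.H6.DerEx
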