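import Groth.Agent.Lib.Helper6.ArtFunSurj
import Groth.Agent.Lib.Helper6.ArtFunFormal
import Groth.Agent.Lib.Helper6.DerivationExists

/-!
# helper6: derivations of complete local `Λ`-algebras into the residue field
-/

set_option autoImplicit false
set_option linter.style.haveILetI false
set_option linter.unusedTactic false
set_option linter.unusedVariables false

universe u v

open CategoryTheory ArtFun ArtFun.Art

namespace Groth.Agent.H6

open IsLocalRing

variable {Λ : Type u} {k : Type u} [CommRing Λ] [Field k] [Algebra Λ k]

section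

variable (S : Type u) [CommRing S] [Algebra Λ S] [IsLocalRing S] [Algebra S k] [IsScalarTower Λ S k]

include Λ in
lemma algebraMap_eq_zero_of_mem (hres : Function.Surjective (algebraMap S k)) {a : S}
    (ha : a ∈ maximalIdeal S) : algebraMap S k a = 0 :=
  (mem_maximalIdeal_iff_res (IsScalarTower.toAlgHom Λ S k) hres a).1 ha

lemma derivation_sq_eq_zero (hres : Function.Surjective (algebraMap S k))
    (D : Derivation Λ S k) {x : S} (hx : x ∈ maximalIdeal S ^ 2) : D x = 0 := by
  rw [pow_two] at hx
  refine Submodule.mul_induction_on hx ?_ ?_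
  · intro a ha b hb
    rw [D.leibniz, Algebra.smul_def, Algebra.smul_def,
      algebraMap_eq_zero_of_mem (Λ := Λ) S hres ha, algebraMap_eq_zero_of_mem (Λ := Λ) S hres hb,
      zero_mul, zero_mul, add_zero]
  · intro a b ha hb
    rw [map_add, ha, hb, add_zero]

end

theorem derivation_finite [IsNoetherianRing Λ] [Module.Finite Λ k]
    (S : Type u) [CommRing S] [Algebra Λ S] [IsLocalRing S] [IsNoetherianRing S]
    [IsAdicComplete (maximalIdeal S) S] [Algebra S k] [IsScalarTower Λ S k]
    (hres : Function.Surjective (algebraMap S k)) :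
    Module.Finite k (Derivation Λ S k) := by
  classical
  let Sc : CRing Λ k :=
    { carrier := S
      res := IsScalarTower.toAlgHom Λ S k
      res_surjective := hres
      isAdicComplete := inferInstance }
  haveI : Module.Finite Λ (S ⧸ maximalIdeal S ^ 2) := art_finite (Sc.trunc 1)
  obtain ⟨n, s, hs⟩ := Module.Finite.exists_fin (R := Λ) (M := S ⧸ maximalIdeal S ^ 2)
  choose t ht using fun i => Ideal.Quotient.mk_surjective (s i)
  let Φ : Derivation Λ S k →ₗ[k] (Fin n → k) :=
    { toFun := fun D i => D (t i)
      map_add' := fun D D' => rfl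
      map_smul' := fun c D => rfl }
  have hinj : Function.Injective Φ := by
    rw [← LinearMap.ker_eq_bot, LinearMap.ker_eq_bot']
    intro D hD
    have hDt : ∀ i, D (t i) = 0 := fun i => congrFun hD i
    have key : ∀ y : S ⧸ maximalIdeal S ^ 2, ∀ x : S, Ideal.Quotient.mk _ x = y → D x = 0 := by
      intro y
      have hy : y ∈ Submodule.span Λ (Set.range s) := by rw [hs]; trivial
      induction hy using Submodule.span_induction with
      | mem y hy =>
        obtain ⟨i, rfl⟩ := hy
        intro x hx
        rw [← ht i] at hx
        have hmem : x - t i ∈ maximalIdeal S ^ 2 := Ideal.Quotient.eq.1 hx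
        have := derivation_sq_eq_zero S hres D hmem
        rw [map_sub, hDt, sub_zero] at this
        exact this
      | zero =>
        intro x hx
        exact derivation_sq_eq_zero S hres D (Ideal.Quotient.eq_zero_iff_mem.1 hx)
      | add y₁ y₂ _ _ h₁ h₂ =>
        intro x hx
        obtain ⟨x₁, hx₁⟩ := Ideal.Quotient.mk_surjective y₁
        have h2 : Ideal.Quotient.mk (maximalIdeal S ^ 2) (x - x₁) = y₂ := by
          rw [map_sub, hx, hx₁, add_sub_cancel_left]
        have e := h₂ (x - x₁) h2
        rw [map_sub, h₁ x₁ hx₁, sub_zero] at e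
        exact e
      | smul c y _ h =>
        intro x hx
        obtain ⟨x₁, hx₁⟩ := Ideal.Quotient.mk_surjective y
        have h2 : Ideal.Quotient.mk (maximalIdeal S ^ 2) (x - c • x₁) = 0 := by
          rw [map_sub, hx, ← hx₁]
          change c • _ - Ideal.Quotient.mk _ (c • x₁) = 0
          rw [Algebra.smul_def, Algebra.smul_def, map_mul, sub_eq_zero]
          rfl
        have e := derivation_sq_eq_zero S hres D (Ideal.Quotient.eq_zero_iff_mem.1 h2)
        rw [map_sub, D.map_smul, h x₁ hx₁, smul_zero, sub_zero] at e
        exact e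
    ext x
    exact key _ x rfl
  exact Module.Finite.of_injective Φ hinj

end Groth.Agent.H6

namespace Groth.Agent.H6

open IsLocalRing ArtFun

variable {Λ : Type u} {k : Type u} [CommRing Λ] [Field k] [Algebra Λ k]

/-- a map of complete local algebras which is injective on derivations into `k` is surjective -/
theorem surjective_of_derivation_injective
    (R : CRing Λ k)
    (S : Type u) [CommRing S] [Algebra Λ S] [IsLocalRing S] [IsNoetherianRing S]
    [IsAdicComplete (maximalIdeal S) S] [Algebra S k] [IsScalarTower Λ S k]
    (hres : Function.Surjective (algebraMap S k))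
    (f : R.carrier →ₐ[Λ] S) (hf : (IsScalarTower.toAlgHom Λ S k).comp f = R.res)
    (hinj : ∀ D₁ D₂ : Derivation Λ S k, (∀ r : R.carrier, D₁ (f r) = D₂ (f r)) → D₁ = D₂) :
    Function.Surjective f := by
  haveI : IsAdicComplete (maximalIdeal R.carrier) R.carrier := R.isAdicComplete
  have htfae := surjective_tfae R.res (IsScalarTower.toAlgHom Λ S k) R.res_surjective hres f hf
  have h01 := htfae.out 0 1
  rw [h01]
  have hfres : ∀ r, algebraMap S k (f r) = R.res r := fun r =>
    congrArg (fun g : R.carrier →ₐ[Λ] k => g r) hf
  have hmap_le : Ideal.map f (maximalIdeal R.carrier) ≤ maximalIdeal S := by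
    rw [Ideal.map_le_iff_le_comap]
    intro r hr
    rw [Ideal.mem_comap, mem_maximalIdeal_iff_res (IsScalarTower.toAlgHom Λ S k) hres]
    change algebraMap S k (f r) = 0
    rw [hfres, ← R.mem_maximalIdeal_iff]
    exact hr
  by_contra hne
  have hlt : Ideal.map f (maximalIdeal R.carrier) ⊔ maximalIdeal S ^ 2 < maximalIdeal S :=
    lt_of_le_of_ne (sup_le hmap_le (Ideal.pow_le_self two_ne_zero)) hne
  obtain ⟨x, hxm, hx⟩ := SetLike.exists_of_lt hlt
  letI : Algebra R.carrier S := f.toRingHom.toAlgebra
  letI : Algebra R.carrier k := (R.res : R.carrier →+* k).toAlgebra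
  haveI : IsScalarTower R.carrier S k := IsScalarTower.of_algebraMap_eq fun r => (hfres r).symm
  haveI : IsScalarTower Λ R.carrier S := IsScalarTower.of_algebraMap_eq fun c => (f.commutes c).symm
  haveI : IsScalarTower Λ R.carrier k := IsScalarTower.of_algebraMap_eq fun c => (R.res.commutes c).symm
  obtain ⟨D, hD⟩ := DerEx.exists_derivation (R := R.carrier) (S := S) (K := k) R.res_surjective hxm hx
  let D' : Derivation Λ S k := D.restrictScalars Λ
  have h0 : D' = 0 := by
    apply hinj
    intro r
    change D (f r) = 0
    have : f r = r • (1 : S) := by rw [Algebra.smul_def, mul_one]; rfl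
    rw [this, D.map_smul, D.map_one_eq_zero, smul_zero]
  apply hD
  have := congrArg (fun E : Derivation Λ S k => E x) h0
  exact this

end Groth.Agent.H6
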