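import Groth.Agent.Lib.Helper6.ArtFunDelta

/-!
# helper6: consequences of pro-representability / universality criteria
-/

set_option autoImplicit false
set_option linter.style.haveILetI false
set_option linter.unusedTactic false
set_option linter.unusedVariables false

universe u v

open CategoryTheory

namespace Groth.Agent.H6

open ArtFun ArtFun.Art IsLocalRing

variable {Λ : Type u} {k : Type u} [CommRing Λ] [Field k] [Algebra Λ k]

section Universal

variable {R : Type u} [CommRing R] [Algebra Λ R] {resR : R →ₐ[Λ] k} {F : Art Λ k ⥤ Type v}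

/-- A functor with a universal family is left exact. -/
theorem isLeftExact_of_isUniversal (ξ : Family R resR F) (hξ : IsUniversal ξ) : IsLeftExact F := by
  intro B A A' A'' p' p'' f' f'' h
  constructor
  · rw [cmp_injective_iff]
    intro z₁ z₂ e1 e2
    obtain ⟨φ₁, rfl⟩ := (hξ B).2 z₁
    obtain ⟨φ₂, rfl⟩ := (hξ B).2 z₂
    rw [← ξ.natural, ← ξ.natural] at e1 e2
    rw [fp_homSet_ext h ((hξ A').1 e1) ((hξ A'').1 e2)]
  · rw [cmp_surjective_iff]
    intro x' x'' hx
    obtain ⟨φ', rfl⟩ := (hξ A').2 x'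
    obtain ⟨φ'', rfl⟩ := (hξ A'').2 x''
    rw [← ξ.natural, ← ξ.natural] at hx
    obtain ⟨φ, h1, h2⟩ := fp_exists_homSet h φ' φ'' ((hξ A).1 hx)
    refine ⟨ξ.app B φ, ?_, ?_⟩
    · rw [← ξ.natural, h1]
    · rw [← ξ.natural, h2]

variable [IsNoetherianRing Λ] [Module.Finite Λ k]

/-- A family which is injective on tangent spaces over a functor whose comparison maps for
`A' ×_A A'` (`A' → A` small) are injective is injective on every object. -/
theorem injective_app_of_hsq (ξ : Family R resR F)
    (hsq : ∀ ⦃B A A' : Art Λ k⦄ (p₁ p₂ : B ⟶ A') (f : A' ⟶ A) (h : IsFibreProd p₁ p₂ f f),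
      IsSmallExt f → Function.Injective (cmp F h))
    (hinj : Function.Injective (ξ.app (dual Λ k))) (A : Art Λ k) :
    Function.Injective (ξ.app A) := by
  have key := art_surjective_induction
    (fun A B μ => Function.Injective (ξ.app A) → Function.Injective (ξ.app B))
    ?_ ?_ ?_ (toBase A) A.res_surjective
  · apply key
    intro x y _
    exact homSet_base_eq x y
  · intro A B e he hA ψ₁ ψ₂ h
    have h1 : HomSet.map e ψ₁ = HomSet.map e ψ₂ := by
      apply hA
      rw [ξ.natural, ξ.natural, h]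
    have := congrArg (HomSet.map (inv e)) h1
    rwa [← homSet_map_comp, ← homSet_map_comp, IsIso.hom_inv_id, homSet_map_id,
      homSet_map_id] at this
  · intro A A' μ hμ hA ψ₁ ψ₂ h
    have h1 : HomSet.map μ ψ₁ = HomSet.map μ ψ₂ := by
      apply hA
      rw [ξ.natural, ξ.natural, h]
    obtain ⟨P, p₁, p₂, hP⟩ := art_exists_isFibreProd μ μ hμ.1
    obtain ⟨δ, hδ⟩ := exists_delta hμ hP
    obtain ⟨χ, hχ1, hχ2⟩ := fp_exists_homSet hP ψ₁ ψ₂ h1
    obtain ⟨Δ, hΔ1, hΔ2⟩ := fp_exists_lift hP (𝟙 A') (𝟙 A') rfl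
    have hχ'1 : HomSet.map p₁ (HomSet.map Δ ψ₁) = ψ₁ := by
      rw [← homSet_map_comp, hΔ1, homSet_map_id]
    have hχ'2 : HomSet.map p₂ (HomSet.map Δ ψ₁) = ψ₁ := by
      rw [← homSet_map_comp, hΔ2, homSet_map_id]
    have e1 : ξ.app P χ = ξ.app P (HomSet.map Δ ψ₁) := by
      apply (cmp_injective_iff F hP).1 (hsq p₁ p₂ μ hP hμ)
      · rw [← ξ.natural, ← ξ.natural, hχ1, hχ'1]
      · rw [← ξ.natural, ← ξ.natural, hχ2, hχ'2, h]
    have e2 : HomSet.map δ χ = HomSet.map δ (HomSet.map Δ ψ₁) := by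
      apply hinj
      rw [ξ.natural, ξ.natural, e1]
    have e3 : χ = HomSet.map Δ ψ₁ := fp_homSet_ext hδ (hχ1.trans hχ'1.symm) e2
    rw [← hχ2, e3, hχ'2]
  · intro A B C p q hp hq hA
    exact hp (hq hA)

/-- A versal family, injective on tangent spaces, over a functor satisfying `H0` and the
injectivity part of `HSq`, is universal. -/
theorem isUniversal_of_isVersal_of_hsq (ξ : Family R resR F) (hξ : IsVersal ξ) (h0 : H0 F)
    (hsq : ∀ ⦃B A A' : Art Λ k⦄ (p₁ p₂ : B ⟶ A') (f : A' ⟶ A) (h : IsFibreProd p₁ p₂ f f),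
      IsSmallExt f → Function.Injective (cmp F h))
    (hinj : Function.Injective (ξ.app (dual Λ k))) : IsUniversal ξ :=
  fun A => ⟨injective_app_of_hsq ξ hsq hinj A, versal_surjective_app ξ hξ h0 A⟩

end Universal

section Hfin

variable {F : Art Λ k ⥤ Type v} [IsNoetherianRing Λ] [Module.Finite Λ k]

lemma dual_mul_eq {u u' v : DualNumber k} (h : TrivSqZeroExt.fst u = TrivSqZeroExt.fst u')
    (hv : TrivSqZeroExt.fst v = 0) : u * v = u' * v := by
  refine TrivSqZeroExt.ext ?_ ?_
  · rw [TrivSqZeroExt.fst_mul, TrivSqZeroExt.fst_mul, h]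
  · rw [TrivSqZeroExt.snd_mul, TrivSqZeroExt.snd_mul, h, hv]
    simp

/-- two maps `R → k[ε]` agreeing on generators of the maximal ideal and on lifts of generators of
`k` over `Λ` are equal -/
lemma homSet_dual_ext (R : CRing Λ k) {n m : ℕ} (r : Fin n → R.carrier)
    (hr : Ideal.span (Set.range r) = maximalIdeal R.carrier) (y : Fin m → R.carrier)
    (hy : Submodule.span Λ (Set.range fun j => R.res (y j)) = ⊤)
    (φ ψ : HomSet R.carrier R.res (dual Λ k))
    (h1 : ∀ i, φ.1 (r i) = ψ.1 (r i)) (h2 : ∀ j, φ.1 (y j) = ψ.1 (y j)) : φ = ψ := by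
  have hres : ∀ (χ : HomSet R.carrier R.res (dual Λ k)) (a : R.carrier),
      TrivSqZeroExt.fst (χ.1 a) = R.res a := fun χ a =>
    congrArg (fun g : R.carrier →ₐ[Λ] k => g a) χ.2
  have hker : ∀ a : R.carrier, a ∈ maximalIdeal R.carrier ↔ R.res a = 0 := by
    intro a
    have hmax : (RingHom.ker (R.res : R.carrier →+* k)).IsMaximal :=
      RingHom.ker_isMaximal_of_surjective (R.res : R.carrier →+* k) R.res_surjective
    rw [← IsLocalRing.eq_maximalIdeal hmax, RingHom.mem_ker]
    rfl
  -- agreement on the maximal ideal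
  have hm : ∀ a ∈ maximalIdeal R.carrier, φ.1 a = ψ.1 a := by
    intro a ha
    rw [← hr] at ha
    have : a ∈ maximalIdeal R.carrier ∧ φ.1 a = ψ.1 a := by
      refine Submodule.span_induction (p := fun a _ => a ∈ maximalIdeal R.carrier ∧ φ.1 a = ψ.1 a)
        ?_ ?_ ?_ ?_ ha
      · rintro _ ⟨i, rfl⟩
        refine ⟨?_, h1 i⟩
        rw [← hr]
        exact Ideal.subset_span ⟨i, rfl⟩
      · exact ⟨Ideal.zero_mem _, by rw [map_zero, map_zero]⟩
      · rintro a b _ _ ⟨ha1, ha2⟩ ⟨hb1, hb2⟩
        exact ⟨Ideal.add_mem _ ha1 hb1, by rw [map_add, map_add, ha2, hb2]⟩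
      · rintro c a _ ⟨ha1, ha2⟩
        refine ⟨Ideal.mul_mem_left _ _ ha1, ?_⟩
        rw [smul_eq_mul, map_mul, map_mul, ha2]
        apply dual_mul_eq
        · rw [hres, hres]
        · rw [hres, ← hker]
          exact ha1
    exact this.2
  apply homSet_ext
  intro a
  have hmem : R.res a ∈ Submodule.span Λ (Set.range fun j => R.res (y j)) := by
    rw [hy]; trivial
  obtain ⟨c, hc⟩ := (Submodule.mem_span_range_iff_exists_fun Λ).1 hmem
  have ha : a - ∑ j, c j • y j ∈ maximalIdeal R.carrier := by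
    rw [hker, map_sub, map_sum, sub_eq_zero, ← hc]
    refine Finset.sum_congr rfl fun j _ => ?_
    rw [map_smul]
  have h3 := hm _ ha
  rw [map_sub, map_sub, map_sum, map_sum] at h3
  have h4 : ∑ j, φ.1 (c j • y j) = ∑ j, ψ.1 (c j • y j) :=
    Finset.sum_congr rfl fun j _ => by rw [map_smul, map_smul, h2]
  rw [h4] at h3
  exact sub_left_injective h3

/-- If a family over a complete local Noetherian ring is bijective on tangent spaces then the
tangent space of `F` is finite-dimensional. -/
theorem hfin_of_tangent_bijective [TangentStr F] (R : CRing Λ k)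
    (ξ : Family R.carrier R.res F) (hb : Function.Bijective (ξ.app (dual Λ k))) : Hfin F := by
  classical
  obtain ⟨n, r, hr⟩ := Submodule.fg_iff_exists_fin_generating_family.1
    (IsNoetherian.noetherian (maximalIdeal R.carrier))
  obtain ⟨m, s, hs⟩ := Module.Finite.exists_fin (R := Λ) (M := k)
  choose y hy using fun j => R.res_surjective (s j)
  have hy' : Submodule.span Λ (Set.range fun j => R.res (y j)) = ⊤ := by
    rw [← hs]
    congr 2
    funext j
    exact hy j
  -- the inverse of the tangent map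
  let e : HomSet R.carrier R.res (dual Λ k) ≃ F.obj (dual Λ k) := Equiv.ofBijective _ hb
  have he : ∀ x, ξ.app (dual Λ k) (e.symm x) = x := fun x => e.apply_symm_apply x
  have hsmul : ∀ (c : k) (x : TangentSpace F),
      e.symm (c • x) = HomSet.map (scale c) (e.symm x) := by
    intro c x
    apply hb.1
    rw [he, ξ.natural, he]
    exact TangentStr.smul_eq (F := F) c x
  have hadd : ∀ (x x' : TangentSpace F), ∃ χ : HomSet R.carrier R.res (dual2 Λ k),
      HomSet.map pr₁ χ = e.symm x ∧ HomSet.map pr₂ χ = e.symm x' ∧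
      e.symm (x + x') = HomSet.map plus χ := by
    intro x x'
    obtain ⟨χ, h1, h2⟩ := fp_exists_homSet isFibreProd_dual2 (e.symm x) (e.symm x')
      (homSet_base_eq _ _)
    refine ⟨χ, h1, h2, ?_⟩
    apply hb.1
    rw [he, ξ.natural]
    have h3 : TangentSpace.mk (F.map pr₁ (ξ.app _ χ)) + TangentSpace.mk (F.map pr₂ (ξ.app _ χ)) =
        TangentSpace.mk (F.map plus (ξ.app _ χ)) := TangentStr.add_eq (F := F) (ξ.app _ χ)
    rw [← ξ.natural, ← ξ.natural, h1, h2, he, he] at h3
    exact h3
  let T : TangentSpace F →ₗ[k] (Fin n → k) × (Fin m → k) :=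
    { toFun := fun x => (fun i => TrivSqZeroExt.snd ((e.symm x).1 (r i)),
        fun j => TrivSqZeroExt.snd ((e.symm x).1 (y j)))
      map_add' := by
        intro x x'
        obtain ⟨χ, h1, h2, h3⟩ := hadd x x'
        rw [h3, ← h1, ← h2]
        rfl
      map_smul' := by
        intro c x
        rw [hsmul]
        refine Prod.ext (funext fun i => ?_) (funext fun j => ?_)
        · change ((c • LinearMap.id : k →ₗ[k] k) _) = _
          simp
        · change ((c • LinearMap.id : k →ₗ[k] k) _) = _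
          simp }
  have hT : Function.Injective T := by
    intro x x' h
    have h1 : ∀ i, TrivSqZeroExt.snd ((e.symm x).1 (r i)) =
        TrivSqZeroExt.snd ((e.symm x').1 (r i)) := fun i => congrFun (congrArg Prod.fst h) i
    have h2 : ∀ j, TrivSqZeroExt.snd ((e.symm x).1 (y j)) =
        TrivSqZeroExt.snd ((e.symm x').1 (y j)) := fun j => congrFun (congrArg Prod.snd h) j
    have hres : ∀ (χ : HomSet R.carrier R.res (dual Λ k)) (a : R.carrier),
        TrivSqZeroExt.fst (χ.1 a) = R.res a := fun χ a =>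
      congrArg (fun g : R.carrier →ₐ[Λ] k => g a) χ.2
    have := homSet_dual_ext R r hr y hy' (e.symm x) (e.symm x')
      (fun i => TrivSqZeroExt.ext (by rw [hres, hres]) (h1 i))
      (fun j => TrivSqZeroExt.ext (by rw [hres, hres]) (h2 j))
    exact e.symm.injective this
  exact Module.Finite.of_injective T hT

end Hfin

end Groth.Agent.H6
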