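import Groth.Agent.Lib.Helper6.ArtFun
import Groth.Agent.Lib.Helper6.CompleteNoeth

/-!
# helper6: surjectivity criteria for maps of complete local rings
-/

set_option autoImplicit false
set_option linter.style.haveILetI false
set_option linter.unusedTactic false
set_option linter.unusedVariables false

universe u v

namespace Groth.Agent.H6

open IsLocalRing

variable {Λ : Type u} {k : Type u} [CommRing Λ] [Field k] [Algebra Λ k]

/-- the kernel of a surjective augmentation is the maximal ideal -/
lemma mem_maximalIdeal_iff_res {R : Type u} [CommRing R] [Algebra Λ R] [IsLocalRing R]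
    (resR : R →ₐ[Λ] k) (hR : Function.Surjective resR) (a : R) :
    a ∈ maximalIdeal R ↔ resR a = 0 := by
  have hmax : (RingHom.ker (resR : R →+* k)).IsMaximal :=
    RingHom.ker_isMaximal_of_surjective (resR : R →+* k) hR
  rw [← IsLocalRing.eq_maximalIdeal hmax, RingHom.mem_ker]
  rfl

theorem surjective_tfae {R S : Type u} [CommRing R] [CommRing S] [Algebra Λ R] [Algebra Λ S]
    [IsLocalRing R] [IsLocalRing S] [IsNoetherianRing S]
    [IsPrecomplete (maximalIdeal R) R] [IsHausdorff (maximalIdeal S) S]
    (resR : R →ₐ[Λ] k) (resS : S →ₐ[Λ] k) (hR : Function.Surjective resR)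
    (hS : Function.Surjective resS) (f : R →ₐ[Λ] S) (hf : resS.comp f = resR) :
    List.TFAE [Function.Surjective f,
      Ideal.map f (maximalIdeal R) ⊔ maximalIdeal S ^ 2 = maximalIdeal S,
      Ideal.map (algebraMap Λ S) (RingHom.ker (algebraMap Λ k)) ⊔ Ideal.map f (maximalIdeal R) ⊔
        maximalIdeal S ^ 2 = maximalIdeal S] := by
  have hfres : ∀ r, resS (f r) = resR r := fun r => congrArg (fun g : R →ₐ[Λ] k => g r) hf
  have hmap_le : Ideal.map f (maximalIdeal R) ≤ maximalIdeal S := by
    rw [Ideal.map_le_iff_le_comap]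
    intro r hr
    rw [Ideal.mem_comap, mem_maximalIdeal_iff_res resS hS, hfres, ← mem_maximalIdeal_iff_res resR hR]
    exact hr
  have hK_le : Ideal.map (algebraMap Λ S) (RingHom.ker (algebraMap Λ k)) ≤
      Ideal.map f (maximalIdeal R) := by
    rw [Ideal.map_le_iff_le_comap]
    intro l hl
    rw [Ideal.mem_comap]
    have h1 : algebraMap Λ S l = f (algebraMap Λ R l) := (f.commutes l).symm
    rw [h1]
    apply Ideal.mem_map_of_mem
    rw [mem_maximalIdeal_iff_res resR hR, AlgHom.commutes]
    exact hl
  have hsq_le : maximalIdeal S ^ 2 ≤ maximalIdeal S := Ideal.pow_le_self two_ne_zero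
  tfae_have 1 → 2 := by
    intro hsurj
    have : Ideal.map (f : R →+* S) (maximalIdeal R) = maximalIdeal S :=
      IsLocalRing.map_maximalIdeal_of_surjective (f : R →+* S) hsurj
    change Ideal.map (f : R →+* S) (maximalIdeal R) ⊔ _ = _
    rw [this]
    exact sup_eq_left.2 hsq_le
  tfae_have 2 → 3 := by
    intro h2
    rw [sup_eq_right.2 hK_le]
    exact h2
  tfae_have 3 → 1 := by
    intro h3
    rw [sup_eq_right.2 hK_le] at h3
    have hnak : maximalIdeal S ≤ Ideal.map f (maximalIdeal R) := by
      apply Submodule.le_of_le_smul_of_le_jacobson_bot (I := maximalIdeal S)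
        (IsNoetherian.noetherian _) (IsLocalRing.maximalIdeal_le_jacobson _)
      rw [smul_eq_mul, ← pow_two]
      exact h3.ge
    have hmap : Ideal.map (f : R →+* S) (maximalIdeal R) = maximalIdeal S :=
      le_antisymm hmap_le hnak
    haveI : IsHausdorff (Ideal.map (f : R →+* S) (maximalIdeal R)) S := by
      rw [hmap]; infer_instance
    apply surjective_of_mk_map_comp_surjective (I := maximalIdeal R) (f : R →+* S)
    intro x
    obtain ⟨s, rfl⟩ := Ideal.Quotient.mk_surjective x
    obtain ⟨r, hr⟩ := hR (resS s)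
    refine ⟨r, ?_⟩
    rw [RingHom.comp_apply, Ideal.Quotient.eq, hmap, mem_maximalIdeal_iff_res resS hS, map_sub]
    change resS (f r) - resS s = 0
    rw [hfres, hr, sub_self]
  tfae_finish

end Groth.Agent.H6
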