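import Groth.Agent.Lib.Helper6.ArtFunFormal
import Groth.Agent.Lib.Helper6.ArtFunProrep
import Groth.Agent.Lib.Helper6.ArtFunSurj
import Groth.Prelude.Def_W4sfdMinVersal

/-!
# helper6: maps of complete local rings detected on functors of points; endomorphisms of
pro-representable functors
-/

set_option autoImplicit false
set_option linter.style.haveILetI false
set_option linter.unusedTactic false
set_option linter.unusedVariables false
set_option linter.unusedSectionVars false

universe u v

open CategoryTheory

namespace Groth.Agent.H6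

open ArtFun ArtFun.Art IsLocalRing

/-- A surjective endomorphism of a Noetherian ring is injective. -/
theorem injective_of_surjective_ringEnd {R : Type*} [CommRing R] [IsNoetherianRing R]
    (g : R →+* R) (hg : Function.Surjective g) : Function.Injective g := by
  let f : ℕ →o Ideal R :=
    ⟨fun n => RingHom.ker (g ^ n), by
      apply monotone_nat_of_le_succ
      intro n x hx
      rw [RingHom.mem_ker] at hx ⊢
      rw [pow_succ', RingHom.mul_def, RingHom.comp_apply, hx, map_zero]⟩
  obtain ⟨n, hn⟩ := monotone_stabilizes_iff_noetherian.mpr (inferInstance : IsNoetherian R R) f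
  rw [injective_iff_map_eq_zero]
  intro x hx
  have hsurj : Function.Surjective (g ^ n) := by
    rw [RingHom.coe_pow]
    exact hg.iterate n
  obtain ⟨y, rfl⟩ := hsurj x
  have h1 : y ∈ RingHom.ker (g ^ (n + 1)) := by
    rw [RingHom.mem_ker, pow_succ', RingHom.mul_def, RingHom.comp_apply]
    exact hx
  have h2 : y ∈ RingHom.ker (g ^ n) := by
    have := hn (n + 1) (Nat.le_succ n)
    change RingHom.ker (g ^ n) = RingHom.ker (g ^ (n + 1)) at this
    rw [this]
    exact h1
  exact h2

variable {Λ : Type u} {k : Type u} [CommRing Λ] [Field k] [Algebra Λ k]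

section Comp

variable {R S : CRing Λ k} (g : R.carrier →ₐ[Λ] S.carrier) (hg : S.res.comp g = R.res)

/-- composition with `g` on functors of points -/
def compHom (A : Art Λ k) (u : HomSet S.carrier S.res A) : HomSet R.carrier R.res A :=
  ⟨u.1.comp g, by rw [← AlgHom.comp_assoc, u.2, hg]⟩

/-- If composition with `g : R → S` is injective on `h_S(A)` for all `A`, then `g` is surjective. -/
theorem surjective_of_compHom_injective
    (hinj : ∀ A : Art Λ k, Function.Injective (compHom g hg A)) : Function.Surjective g := by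
  haveI := R.isAdicComplete
  haveI := S.isAdicComplete
  have hfres : ∀ r, S.res (g r) = R.res r := fun r => congrArg (fun f : R.carrier →ₐ[Λ] k => f r) hg
  have htfae := surjective_tfae R.res S.res R.res_surjective S.res_surjective g hg
  apply (htfae.out 0 1).2
  have hmap_le : Ideal.map g (maximalIdeal R.carrier) ≤ maximalIdeal S.carrier := by
    rw [Ideal.map_le_iff_le_comap]
    intro r hr
    rw [Ideal.mem_comap, CRing.mem_maximalIdeal_iff, hfres, ← CRing.mem_maximalIdeal_iff]
    exact hr
  have hle : Ideal.map g (maximalIdeal R.carrier) ⊔ maximalIdeal S.carrier ^ 2 ≤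
      maximalIdeal S.carrier := sup_le hmap_le (Ideal.pow_le_self two_ne_zero)
  refine le_antisymm hle ?_
  let J : OpenIdeal S.carrier := ⟨_, hle, ⟨2, le_sup_right⟩⟩
  let Q : Art Λ k := SQ S.res S.res_surjective J
  let π : HomSet S.carrier S.res Q := sqMk S.res S.res_surjective J
  -- the section `k → Q` through `g`
  have hker : RingHom.ker R.res.toRingHom ≤ RingHom.ker (π.1.comp g).toRingHom := by
    intro r hr
    rw [RingHom.mem_ker] at hr ⊢
    change Ideal.Quotient.mk J.ideal (g r) = 0
    rw [Ideal.Quotient.eq_zero_iff_mem]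
    apply Submodule.mem_sup_left
    apply Ideal.mem_map_of_mem
    rw [CRing.mem_maximalIdeal_iff]
    exact hr
  let σ : k →ₐ[Λ] Q := AlgHom.liftOfSurjective R.res R.res_surjective (π.1.comp g) hker
  have hσ : ∀ r, σ (R.res r) = Ideal.Quotient.mk J.ideal (g r) := fun r =>
    AlgHom.liftOfSurjective_apply R.res R.res_surjective (π.1.comp g) hker r
  have hσres : ∀ c : k, Q.res (σ c) = c := by
    intro c
    obtain ⟨r, rfl⟩ := R.res_surjective c
    rw [hσ]
    exact hfres r
  let u₂ : HomSet S.carrier S.res Q := ⟨σ.comp S.res, by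
    apply AlgHom.ext
    intro s
    exact hσres (S.res s)⟩
  have heq : compHom g hg Q π = compHom g hg Q u₂ := by
    apply homSet_ext
    intro r
    change Ideal.Quotient.mk J.ideal (g r) = σ (S.res (g r))
    rw [hfres, hσ]
  have hπu : π = u₂ := hinj Q heq
  intro s hs
  have h1 : π.1 s = u₂.1 s := by rw [hπu]
  have h2 : u₂.1 s = 0 := by
    change σ (S.res s) = 0
    rw [(CRing.mem_maximalIdeal_iff S s).1 hs, map_zero]
  rw [h2] at h1
  exact Ideal.Quotient.eq_zero_iff_mem.1 h1

end Comp

section Represent

variable [IsNoetherianRing Λ] [Module.Finite Λ k] {F : Art Λ k ⥤ Type v}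

/-- Any family over `S` is induced from a versal objectwise-surjective family by a map of rings. -/
theorem exists_hom_of_family {R S : CRing Λ k} (ξ : Family R.carrier R.res F) (hξ : IsVersal ξ)
    (hsurj : ∀ A : Art Λ k, Function.Surjective (ξ.app A)) (ζ : Family S.carrier S.res F) :
    ∃ (g : R.carrier →ₐ[Λ] S.carrier) (hg : S.res.comp g = R.res), ξ.along g hg = ζ := by
  obtain ⟨g, hg, h⟩ := exists_hom_of_formalElt ξ hξ hsurj S ζ.toFormalElt
  exact ⟨g, hg, family_ext_of_toFormalElt _ _ h⟩

/-- An endomorphism of a pro-representable functor which is bijective on tangent spaces is an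
isomorphism. -/
theorem bijective_app_of_endo_prorep (hU : IsProrepresentable F) (φ : F ⟶ F)
    (hd : Function.Bijective (TangentSpace.map φ)) (A : Art Λ k) :
    Function.Bijective (φ.app A) := by
  obtain ⟨⟨R, ξ, hξ⟩⟩ := hU
  let ζ : Family R.carrier R.res F :=
    { app := fun A u => φ.app A (ξ.app A u)
      natural := fun f u => by
        rw [ξ.natural]
        exact NatTrans.naturality_apply φ f _ }
  obtain ⟨g, hg, hgζ⟩ := exists_hom_of_family ξ (isVersal_of_isUniversal ξ hξ)
    (fun A => (hξ A).2) ζ
  have hcomp : ∀ (A : Art Λ k) (u : HomSet R.carrier R.res A),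
      ξ.app A (compHom g hg A u) = φ.app A (ξ.app A u) := by
    intro A u
    have := congrArg (fun η : Family R.carrier R.res F => η.app A u) hgζ
    exact this
  -- `compHom g` is injective on the tangent space
  have hinj_dual : Function.Injective (compHom g hg (dual Λ k)) := by
    intro u v huv
    apply (hξ _).1
    apply hd.1
    change φ.app _ (ξ.app _ u) = φ.app _ (ξ.app _ v)
    rw [← hcomp, ← hcomp, huv]
  -- hence on every object
  have hsq : ∀ ⦃B A A' : Art Λ k⦄ (p₁ p₂ : B ⟶ A') (f : A' ⟶ A) (h : IsFibreProd p₁ p₂ f f),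
      IsSmallExt f → Function.Injective (cmp (hR R.carrier R.res) h) := by
    intro B A A' p₁ p₂ f h _
    exact (isLeftExact_of_isUniversal (Family.self R.carrier R.res)
      (fun A => Function.bijective_id) p₁ p₂ f f h).1
  have hinj : ∀ A : Art Λ k, Function.Injective (compHom g hg A) := fun A =>
    injective_app_of_hsq ((Family.self R.carrier R.res).along g hg) hsq hinj_dual A
  have hgsurj : Function.Surjective g := surjective_of_compHom_injective g hg hinj
  have hginj : Function.Injective g :=
    injective_of_surjective_ringEnd (g : R.carrier →+* R.carrier) hgsurj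
  -- `compHom g` is bijective
  let e : R.carrier ≃ₐ[Λ] R.carrier := AlgEquiv.ofBijective g ⟨hginj, hgsurj⟩
  have hcsurj : Function.Surjective (compHom g hg A) := by
    intro u
    refine ⟨⟨u.1.comp e.symm.toAlgHom, ?_⟩, ?_⟩
    · apply AlgHom.ext
      intro r
      obtain ⟨r', rfl⟩ := hgsurj r
      have h1 : e.symm (g r') = r' := e.symm_apply_apply r'
      change A.res (u.1 (e.symm (g r'))) = R.res (g r')
      rw [h1]
      have h2 : R.res (g r') = R.res r' := congrArg (fun f : R.carrier →ₐ[Λ] k => f r') hg
      rw [h2]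
      exact congrArg (fun f : R.carrier →ₐ[Λ] k => f r') u.2
    · apply homSet_ext
      intro r
      change u.1 (e.symm (g r)) = u.1 r
      rw [show e.symm (g r) = r from e.symm_apply_apply r]
  constructor
  · intro x y hxy
    obtain ⟨u, rfl⟩ := (hξ A).2 x
    obtain ⟨v, rfl⟩ := (hξ A).2 y
    rw [← hcomp, ← hcomp] at hxy
    rw [hinj A ((hξ A).1 hxy)]
  · intro y
    obtain ⟨v, rfl⟩ := (hξ A).2 y
    obtain ⟨u, rfl⟩ := hcsurj v
    exact ⟨ξ.app A u, (hcomp A u).symm⟩

/-- An endomorphism of a complete local Noetherian ring which is injective on tangent vectors is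
an automorphism. -/
theorem bijective_of_compHom_dual_injective {R : CRing Λ k} (α : R.carrier →ₐ[Λ] R.carrier)
    (hα : R.res.comp α = R.res) (h : Function.Injective (compHom α hα (dual Λ k))) :
    Function.Bijective α := by
  have hsq : ∀ ⦃B A A' : Art Λ k⦄ (p₁ p₂ : B ⟶ A') (f : A' ⟶ A) (h : IsFibreProd p₁ p₂ f f),
      IsSmallExt f → Function.Injective (cmp (hR R.carrier R.res) h) := by
    intro B A A' p₁ p₂ f h _
    exact (isLeftExact_of_isUniversal (Family.self R.carrier R.res)
      (fun A => Function.bijective_id) p₁ p₂ f f h).1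
  have hinj : ∀ A : Art Λ k, Function.Injective (compHom α hα A) := fun A =>
    injective_app_of_hsq ((Family.self R.carrier R.res).along α hα) hsq h A
  have hs : Function.Surjective α := surjective_of_compHom_injective α hα hinj
  exact ⟨injective_of_surjective_ringEnd (α : R.carrier →+* R.carrier) hs, hs⟩

end Represent

section MinimalVersal

variable [IsNoetherianRing Λ] [Module.Finite Λ k] {F : Art Λ k ⥤ Type v}

omit [IsNoetherianRing Λ] [Module.Finite Λ k] in
/-- pushing forward the formal element of a family is the formal element of the transported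
family -/
lemma toFormalElt_push {R S : CRing Λ k} (ξ : Family R.carrier R.res F)
    (g : R.carrier →ₐ[Λ] S.carrier) (hg : S.res.comp g = R.res) :
    ξ.toFormalElt.push g hg = (ξ.along g hg).toFormalElt := by
  apply FormalElt.ext'
  intro n
  change F.map (CRing.truncMapOfHom g hg n) (ξ.app _ (R.truncHom n)) = ξ.app _ _
  rw [← ξ.natural]
  congr 1

omit [IsNoetherianRing Λ] [Module.Finite Λ k] in
lemma along_along {R S T : CRing Λ k} (ξ : Family R.carrier R.res F)
    (g : R.carrier →ₐ[Λ] S.carrier) (hg : S.res.comp g = R.res)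
    (f : S.carrier →ₐ[Λ] T.carrier) (hf : T.res.comp f = S.res) :
    (ξ.along g hg).along f hf = ξ.along (f.comp g) (by rw [← AlgHom.comp_assoc, hf, hg]) := rfl

/-- A hull is a minimal versal family. -/
theorem isMinimalVersal_of_isMiniversal (h0 : H0 F) {R : CRing Λ k}
    (ξ : Family R.carrier R.res F) (hξ : IsMiniversal ξ) : ξ.IsMinimalVersal := by
  refine ⟨hξ.1, ?_⟩
  intro R' u f hf hpush
  obtain ⟨g, hg, hgu⟩ := exists_hom_of_formalElt ξ hξ.1 (versal_surjective_app ξ hξ.1 h0) R' u
  have hfg : R.res.comp (f.comp g) = R.res := by rw [← AlgHom.comp_assoc, hf, hg]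
  have h1 : (ξ.along (f.comp g) hfg).toFormalElt = ξ.toFormalElt := by
    rw [← hpush, ← hgu, toFormalElt_push, along_along]
  have h2 := family_ext_of_toFormalElt _ _ h1
  have hbij := bijective_of_compHom_dual_injective (f.comp g) hfg (by
      intro a b hab
      apply hξ.2.1
      have ha := congrArg (fun η : Family R.carrier R.res F => η.app _ a) h2
      have hb := congrArg (fun η : Family R.carrier R.res F => η.app _ b) h2
      have ha' : ξ.app _ (compHom (f.comp g) hfg _ a) = ξ.app _ a := ha
      have hb' : ξ.app _ (compHom (f.comp g) hfg _ b) = ξ.app _ b := hb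
      rw [← ha', ← hb', hab])
  intro r
  obtain ⟨r', hr'⟩ := hbij.2 r
  exact ⟨g r', hr'⟩

/-- Two minimal versal families are isomorphic. -/
theorem minimalVersal_unique (h0 : H0 F) {R₁ R₂ : CRing Λ k}
    (ξ₁ : Family R₁.carrier R₁.res F) (ξ₂ : Family R₂.carrier R₂.res F)
    (h₁ : ξ₁.IsMinimalVersal) (h₂ : ξ₂.IsMinimalVersal) :
    ∃ (e : R₁.carrier ≃ₐ[Λ] R₂.carrier)
      (he : R₂.res.comp (e : R₁.carrier →ₐ[Λ] R₂.carrier) = R₁.res),
      (ξ₁.along (e : R₁.carrier →ₐ[Λ] R₂.carrier) he).toFormalElt = ξ₂.toFormalElt := by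
  obtain ⟨g, hg, hgξ⟩ := exists_hom_of_family ξ₁ h₁.1 (versal_surjective_app ξ₁ h₁.1 h0) ξ₂
  obtain ⟨h, hh, hhξ⟩ := exists_hom_of_family ξ₂ h₂.1 (versal_surjective_app ξ₂ h₂.1 h0) ξ₁
  have hgs : Function.Surjective g := h₂.2 R₁ ξ₁.toFormalElt g hg (by rw [toFormalElt_push, hgξ])
  have hhs : Function.Surjective h := h₁.2 R₂ ξ₂.toFormalElt h hh (by rw [toFormalElt_push, hhξ])
  have hinj : Function.Injective g := by
    have h1 : Function.Injective (h.comp g) :=
      injective_of_surjective_ringEnd ((h.comp g : R₁.carrier →ₐ[Λ] R₁.carrier) :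
        R₁.carrier →+* R₁.carrier) (hhs.comp hgs)
    intro a b hab
    apply h1
    change h (g a) = h (g b)
    rw [hab]
  let e : R₁.carrier ≃ₐ[Λ] R₂.carrier := AlgEquiv.ofBijective g ⟨hinj, hgs⟩
  have heg : (e : R₁.carrier →ₐ[Λ] R₂.carrier) = g := AlgHom.ext fun _ => rfl
  refine ⟨e, by rw [heg]; exact hg, ?_⟩
  have : ξ₁.along (e : R₁.carrier →ₐ[Λ] R₂.carrier) (by rw [heg]; exact hg) = ξ₂ := by
    rw [← hgξ]
    congr 1
  rw [this]

end MinimalVersal

end Groth.Agent.H6
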