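import Groth.Agent.Lib.Helper6.ArtFun
import Groth.Agent.Lib.Helper6.ArtFunSurj
import Groth.Agent.Lib.Helper6.DerivationExists

/-!
# helper6: essential surjections in `Art Λ k`
-/

set_option autoImplicit false
set_option linter.style.haveILetI false
set_option linter.unusedTactic false
set_option linter.unusedVariables false

universe u v

open CategoryTheory ArtFun ArtFun.Art

namespace Groth.Agent.H6

open IsLocalRing

variable {Λ : Type u} {k : Type u} [CommRing Λ] [Field k] [Algebra Λ k]

/-- a small extension is not essential iff it has a section -/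
theorem small_not_essential_iff {A B : Art Λ k} (f : B ⟶ A) (hf : IsSmallExt f) :
    (∃ (C : Art Λ k) (g : C ⟶ B), Function.Surjective (g ≫ f) ∧ ¬ Function.Surjective g) ↔
      ∃ s : A ⟶ B, s ≫ f = 𝟙 A := by
  obtain ⟨hsurj, hne, hprin, hmk⟩ := hf
  constructor
  · rintro ⟨C, g, hgf, hg⟩
    let B' : Subalgebra Λ B := g.toAlgHom.range
    have hres : ∀ b : B, ∃ c ∈ B', b - c ∈ maximalIdeal B := by
      intro b
      obtain ⟨c, hc⟩ := C.res_surjective (B.res b)
      refine ⟨g c, ⟨c, rfl⟩, ?_⟩
      rw [Art.mem_maximalIdeal_iff, map_sub, Art.res_app g, hc, sub_self]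
    have hkill : ∀ (m : B) (x : B), m ∈ maximalIdeal B → x ∈ RingHom.ker f.toAlgHom →
        m * x = 0 := by
      intro m x hm hx
      have : m * x ∈ maximalIdeal B * RingHom.ker f.toAlgHom := Ideal.mul_mem_mul hm hx
      rw [hmk] at this
      exact this
    have hφsurj : ∀ a : A, ∃ y ∈ B', f y = a := by
      intro a
      obtain ⟨c, hc⟩ := hgf a
      exact ⟨g c, ⟨c, rfl⟩, hc⟩
    obtain ⟨t, ht⟩ := hprin.principal
    have ht' : RingHom.ker f.toAlgHom = Ideal.span {t} := ht
    have htker : t ∈ RingHom.ker f.toAlgHom := by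
      rw [ht']; exact Ideal.subset_span rfl
    -- `d * t ∈ B'` as soon as `t ∈ B'`
    have hmulB' : t ∈ B' → ∀ d : B, d * t ∈ B' := by
      intro htB d
      obtain ⟨c, hc, hdc⟩ := hres d
      have : d * t = c * t := by
        have h0 := hkill (d - c) t hdc htker
        rw [sub_mul, sub_eq_zero] at h0
        exact h0
      rw [this]
      exact B'.mul_mem hc htB
    have hinj : ∀ x ∈ B', f x = 0 → x = 0 := by
      intro x hxB hfx
      by_contra hx0
      apply hg
      have hxker : x ∈ RingHom.ker f.toAlgHom := hfx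
      rw [ht', Ideal.mem_span_singleton'] at hxker
      obtain ⟨b, hb⟩ := hxker
      have hbunit : IsUnit b := by
        by_contra hbn
        have hbm : b ∈ maximalIdeal B := (IsLocalRing.mem_maximalIdeal b).2 hbn
        exact hx0 (hb ▸ hkill b t hbm htker)
      obtain ⟨ub, rfl⟩ := hbunit
      -- `t = ub⁻¹ * x`
      have htx : t = (↑ub⁻¹ : B) * x := by
        rw [← hb, ← mul_assoc, Units.inv_mul, one_mul]
      have htB : t ∈ B' := by
        obtain ⟨c, hc, hdc⟩ := hres (↑ub⁻¹ : B)
        have hxker' : x ∈ RingHom.ker f.toAlgHom := hfx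
        have h0 := hkill _ x hdc hxker'
        rw [sub_mul, sub_eq_zero] at h0
        rw [htx, h0]
        exact B'.mul_mem hc hxB
      intro y
      obtain ⟨y', hy'B, hy'⟩ := hφsurj (f y)
      have hyker : y - y' ∈ RingHom.ker f.toAlgHom := by
        rw [RingHom.mem_ker]
        change f.toAlgHom (y - y') = 0
        rw [map_sub]
        change f y - f y' = 0
        rw [hy', sub_self]
      rw [ht', Ideal.mem_span_singleton'] at hyker
      obtain ⟨d, hd⟩ := hyker
      have hyB : y ∈ B' := by
        have : y = y' + d * t := by rw [hd]; ring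
        rw [this]
        exact B'.add_mem hy'B (hmulB' htB d)
      exact hyB
    let φ : B' →ₐ[Λ] A := f.toAlgHom.comp B'.val
    have hφbij : Function.Bijective φ := by
      constructor
      · exact (injective_iff_map_eq_zero φ).2 fun x hx => Subtype.ext (hinj x.1 x.2 hx)
      · intro a
        obtain ⟨y, hy, hya⟩ := hφsurj a
        exact ⟨⟨y, hy⟩, hya⟩
    let e : B' ≃ₐ[Λ] A := AlgEquiv.ofBijective φ hφbij
    let s : A →ₐ[Λ] B := B'.val.comp e.symm.toAlgHom
    have hfs : ∀ a : A, f (s a) = a := fun a => e.apply_symm_apply a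
    refine ⟨Art.homMk s ?_, ?_⟩
    · apply AlgHom.ext
      intro a
      change B.res (s a) = A.res a
      rw [← Art.res_app f (s a), hfs]
    · apply Art.hom_ext
      apply AlgHom.ext
      intro a
      exact hfs a
  · rintro ⟨s, hs⟩
    refine ⟨A, s, ?_, ?_⟩
    · rw [hs]
      intro a
      exact ⟨a, rfl⟩
    · intro hss
      apply hne
      rw [eq_bot_iff]
      intro b hb
      obtain ⟨a, rfl⟩ := hss b
      have h1 : f (s a) = a := by
        have := congrArg (fun h : A ⟶ A => h a) hs
        exact this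
      have h2 : f (s a) = 0 := hb
      rw [h1] at h2
      rw [h2]
      change s.toAlgHom 0 ∈ _
      rw [map_zero]
      exact Ideal.zero_mem _

end Groth.Agent.H6

namespace Groth.Agent.H6

open IsLocalRing

variable {Λ : Type u} {k : Type u} [CommRing Λ] [Field k] [Algebra Λ k]

theorem isAdicComplete_of_pow_eq_bot' {R : Type u} [CommRing R] (J : Ideal R) (N : ℕ)
    (hJ : J ^ N = ⊥) : IsAdicComplete J R where
  haus' x hx := by
    have := hx N
    rw [hJ, Submodule.bot_smul, SModEq.bot] at this
    exact this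
  prec' f hf := by
    refine ⟨f N, fun n => ?_⟩
    rcases le_total n N with h | h
    · exact hf h
    · have := hf h
      rw [hJ, Submodule.bot_smul, SModEq.bot] at this
      rw [this]

lemma art_isAdicComplete (A : Art Λ k) : IsAdicComplete (maximalIdeal A) A := by
  obtain ⟨n, hn⟩ := art_maximalIdeal_pow_eq_bot A
  exact isAdicComplete_of_pow_eq_bot' _ n hn

end Groth.Agent.H6

namespace Groth.Agent.H6

open IsLocalRing

variable {Λ : Type u} {k : Type u} [CommRing Λ] [Field k] [Algebra Λ k]

theorem art_surjective_tfae {A B : Art Λ k} (f : B ⟶ A) :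
    List.TFAE [Function.Surjective f,
      Ideal.map f.toAlgHom (maximalIdeal B) ⊔ maximalIdeal A ^ 2 = maximalIdeal A,
      Ideal.map (algebraMap Λ A) (RingHom.ker (algebraMap Λ k)) ⊔
        Ideal.map f.toAlgHom (maximalIdeal B) ⊔ maximalIdeal A ^ 2 = maximalIdeal A] := by
  haveI := art_isAdicComplete A
  haveI := art_isAdicComplete B
  exact surjective_tfae B.res A.res B.res_surjective A.res_surjective f.toAlgHom f.res_comp

lemma art_map_le {A B : Art Λ k} (f : B ⟶ A) :
    Ideal.map f.toAlgHom (maximalIdeal B) ≤ maximalIdeal A := by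
  rw [Ideal.map_le_iff_le_comap]
  intro b hb
  rw [Ideal.mem_comap]
  exact art_hom_mem_maximalIdeal f hb

lemma art_mΛ_le (A : Art Λ k) :
    Ideal.map (algebraMap Λ A) (RingHom.ker (algebraMap Λ k)) ≤ maximalIdeal A := by
  rw [Ideal.map_le_iff_le_comap]
  intro l hl
  rw [Ideal.mem_comap, Art.mem_maximalIdeal_iff, AlgHom.commutes]
  exact hl

/-- surjectivity can be tested after dividing by `m_Λ B + m_B²` -/
theorem surjective_of_comp_quot {C B B' : Art Λ k} (g : C ⟶ B) (q : B ⟶ B')
    (hk : RingHom.ker q.toAlgHom =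
      Ideal.map (algebraMap Λ B) (RingHom.ker (algebraMap Λ k)) ⊔ maximalIdeal B ^ 2)
    (hgq : Function.Surjective (g ≫ q)) : Function.Surjective g := by
  have h := (art_surjective_tfae g).out 0 2
  rw [h]
  apply le_antisymm
  · exact sup_le (sup_le (art_mΛ_le B) (art_map_le g)) (Ideal.pow_le_self two_ne_zero)
  · intro b hb
    obtain ⟨c, hc⟩ := hgq (q b)
    have hc' : q (g c) = q b := hc
    have hker : b - g c ∈ RingHom.ker q.toAlgHom := by
      rw [RingHom.mem_ker]
      change q.toAlgHom (b - g c) = 0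
      rw [map_sub]
      exact sub_eq_zero.2 hc'.symm
    rw [hk] at hker
    have hcm : c ∈ maximalIdeal C := by
      rw [Art.mem_maximalIdeal_iff, ← Art.res_app g, ← Art.res_app q, hc', Art.res_app q,
        ← Art.mem_maximalIdeal_iff]
      exact hb
    have hgc : g c ∈ Ideal.map g.toAlgHom (maximalIdeal C) := Ideal.mem_map_of_mem _ hcm
    have : b = g c + (b - g c) := by ring
    rw [this]
    obtain ⟨u, hu, v, hv, huv⟩ := Submodule.mem_sup.1 hker
    rw [← huv]
    have e : g c + (u + v) = (u + g c) + v := by ring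
    rw [e]
    exact Ideal.add_mem _ (Ideal.mem_sup_left (Ideal.add_mem _ (Ideal.mem_sup_left hu)
      (Ideal.mem_sup_right hgc))) (Ideal.mem_sup_right hv)

/-- essential surjections can be tested modulo `m_Λ + m²` -/
theorem essential_iff_quot [IsNoetherianRing Λ] [Module.Finite Λ k]
    {A B A' B' : Art Λ k} (f : B ⟶ A)
    (qB : B ⟶ B') (hqB : Function.Surjective qB)
    (hkB : RingHom.ker qB.toAlgHom =
      Ideal.map (algebraMap Λ B) (RingHom.ker (algebraMap Λ k)) ⊔ maximalIdeal B ^ 2)
    (qA : A ⟶ A') (hqA : Function.Surjective qA)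
    (hkA : RingHom.ker qA.toAlgHom =
      Ideal.map (algebraMap Λ A) (RingHom.ker (algebraMap Λ k)) ⊔ maximalIdeal A ^ 2)
    (f' : B' ⟶ A') (hf' : qB ≫ f' = f ≫ qA) :
    (Function.Surjective f ∧ ∀ (C : Art Λ k) (g : C ⟶ B), Function.Surjective (g ≫ f) →
        Function.Surjective g) ↔
      (Function.Surjective f' ∧ ∀ (C : Art Λ k) (g : C ⟶ B'), Function.Surjective (g ≫ f') →
        Function.Surjective g) := by
  have comp_surj : ∀ {X Y Z : Art Λ k} (u : X ⟶ Y) (v : Y ⟶ Z), Function.Surjective u →
      Function.Surjective v → Function.Surjective (u ≫ v) := by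
    intro X Y Z u v hu hv z
    obtain ⟨y, rfl⟩ := hv z
    obtain ⟨x, rfl⟩ := hu y
    exact ⟨x, rfl⟩
  have surj_of_comp : ∀ {X Y Z : Art Λ k} (u : X ⟶ Y) (v : Y ⟶ Z),
      Function.Surjective (u ≫ v) → Function.Surjective v := by
    intro X Y Z u v huv z
    obtain ⟨x, hx⟩ := huv z
    exact ⟨u x, hx⟩
  constructor
  · rintro ⟨hf, hess⟩
    have hf's : Function.Surjective f' := by
      apply surj_of_comp qB
      rw [hf']
      exact comp_surj f qA hf hqA
    refine ⟨hf's, fun C' g' hg' => ?_⟩
    obtain ⟨C, p₁, p₂, hfp⟩ := art_exists_isFibreProd g' qB hqB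
    have hp₁ : Function.Surjective p₁ := by
      intro c'
      obtain ⟨b, hb⟩ := hqB (g' c')
      obtain ⟨c, hc, -⟩ := hfp.surj c' b hb.symm
      exact ⟨c, hc⟩
    have h1 : (p₂ ≫ f) ≫ qA = p₁ ≫ (g' ≫ f') := by
      rw [Category.assoc, ← hf', ← Category.assoc, ← hfp.w, Category.assoc]
    have h2 : Function.Surjective ((p₂ ≫ f) ≫ qA) := by
      rw [h1]
      exact comp_surj p₁ _ hp₁ hg'
    have h3 : Function.Surjective (p₂ ≫ f) := surjective_of_comp_quot _ qA hkA h2
    have h4 : Function.Surjective p₂ := hess C p₂ h3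
    apply surj_of_comp p₁
    rw [hfp.w]
    exact comp_surj p₂ qB h4 hqB
  · rintro ⟨hf's, hess⟩
    have hf : Function.Surjective f := by
      apply surjective_of_comp_quot f qA hkA
      rw [← hf']
      exact comp_surj qB f' hqB hf's
    refine ⟨hf, fun C g hg => ?_⟩
    apply surjective_of_comp_quot g qB hkB
    apply hess
    rw [Category.assoc, hf', ← Category.assoc]
    exact comp_surj _ qA hg hqA

end Groth.Agent.H6

namespace Groth.Agent.H6

open IsLocalRing
open scoped TensorProduct

variable {Λ : Type u} {k : Type u} [CommRing Λ] [Field k] [Algebra Λ k]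

theorem surjective_iff_kaehler {A B : Art Λ k} (f : B ⟶ A) :
    letI : Algebra B A := f.toAlgHom.toRingHom.toAlgebra
    letI : Algebra A k := A.res.toRingHom.toAlgebra
    Function.Surjective f ↔ Subsingleton (k ⊗[A] Ω[A⁄B]) := by
  letI : Algebra B A := f.toAlgHom.toRingHom.toAlgebra
  letI : Algebra A k := A.res.toRingHom.toAlgebra
  letI : Algebra B k := B.res.toRingHom.toAlgebra
  haveI : IsScalarTower B A k := IsScalarTower.of_algebraMap_eq fun b => (Art.res_app f b).symm
  constructor
  · intro hf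
    haveI : Subsingleton Ω[A⁄B] := KaehlerDifferential.subsingleton_of_surjective B A hf
    refine ⟨fun x y => ?_⟩
    have h0 : ∀ z : k ⊗[A] Ω[A⁄B], z = 0 := by
      intro z
      induction z using TensorProduct.induction_on with
      | zero => rfl
      | tmul c ω => rw [Subsingleton.elim ω 0, TensorProduct.tmul_zero]
      | add a b ha hb => rw [ha, hb, add_zero]
    rw [h0 x, h0 y]
  · intro hsub
    have h := (art_surjective_tfae f).out 0 1
    rw [h]
    by_contra hne
    have hlt : Ideal.map f.toAlgHom (maximalIdeal B) ⊔ maximalIdeal A ^ 2 < maximalIdeal A :=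
      lt_of_le_of_ne (sup_le (art_map_le f) (Ideal.pow_le_self two_ne_zero)) hne
    obtain ⟨x, hxm, hx⟩ := SetLike.exists_of_lt hlt
    have hx' : x ∉ Ideal.map (algebraMap B A) (maximalIdeal B) ⊔ maximalIdeal A ^ 2 := hx
    obtain ⟨D, hD⟩ := DerEx.exists_derivation (R := B) (S := A) (K := k) B.res_surjective hxm hx'
    let φ : Ω[A⁄B] →ₗ[A] k := D.liftKaehlerDifferential
    let ψ : k ⊗[A] Ω[A⁄B] →ₗ[A] k := (LinearMap.mul' A k) ∘ₗ (LinearMap.lTensor k φ)
    have hψ : ψ ((1 : k) ⊗ₜ[A] KaehlerDifferential.D B A x) = D x := by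
      change LinearMap.mul' A k (LinearMap.lTensor k φ ((1 : k) ⊗ₜ[A] KaehlerDifferential.D B A x)) = _
      rw [LinearMap.lTensor_tmul, LinearMap.mul'_apply, one_mul]
      exact Derivation.liftKaehlerDifferential_comp_D D x
    apply hD
    rw [← hψ, Subsingleton.elim ((1 : k) ⊗ₜ[A] KaehlerDifferential.D B A x) 0, map_zero]

end Groth.Agent.H6
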