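import Groth.Agent.Lib.Helper6.ArtFunDelta

/-!
# helper6: first-order objects `k ⊕ k^r` and the universal first-order element
-/

set_option autoImplicit false
set_option linter.style.haveILetI false
set_option linter.unusedTactic false
set_option linter.unusedVariables false

universe u v

open CategoryTheory

namespace Groth.Agent.H6

open ArtFun ArtFun.Art IsLocalRing

variable {Λ : Type u} {k : Type u} [CommRing Λ] [Field k] [Algebra Λ k]

section Er

variable (Λ k)

/-- The object `k ⊕ k^r`. -/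
noncomputable def Er (r : ℕ) : Art Λ k :=
  { carrier := TrivSqZeroExt k (Fin r → k)
    isLocalRing := isLocalRing_tsze k (Fin r → k)
    isArtinianRing := isArtinianRing_tsze k (Fin r → k)
    res := TrivSqZeroExt.fstHom Λ k (Fin r → k)
    res_surjective := fun a => ⟨TrivSqZeroExt.inl a, rfl⟩ }

variable {Λ k}

/-- The map `k ⊕ k^r → k ⊕ k^s` induced by a linear map. -/
noncomputable def erMap {r s : ℕ} (f : (Fin r → k) →ₗ[k] (Fin s → k)) : Er Λ k r ⟶ Er Λ k s :=
  ⟨tszeMap f, AlgHom.ext fun _ => rfl⟩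

/-- The map `k ⊕ k^r → k[ε]` induced by a linear form. -/
noncomputable def erToDual {r : ℕ} (f : (Fin r → k) →ₗ[k] k) : Er Λ k r ⟶ dual Λ k :=
  ⟨tszeMap f, AlgHom.ext fun _ => rfl⟩

/-- The map `k ⊕ k^r → k[ε₁, ε₂]` induced by a linear map. -/
noncomputable def erToDual2 {r : ℕ} (f : (Fin r → k) →ₗ[k] (k × k)) : Er Λ k r ⟶ dual2 Λ k :=
  ⟨tszeMap f, AlgHom.ext fun _ => rfl⟩

/-- The inclusion `k → k ⊕ k^r`. -/
noncomputable def baseToEr (r : ℕ) : base Λ k ⟶ Er Λ k r :=
  ⟨(Algebra.ofId k (TrivSqZeroExt k (Fin r → k))).restrictScalars Λ, AlgHom.ext fun _ => rfl⟩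

end Er

section ErLemmas

lemma erToDual_fst {r : ℕ} (f : (Fin r → k) →ₗ[k] k) (x : Er Λ k r) :
    TrivSqZeroExt.fst (erToDual (Λ := Λ) f x) = TrivSqZeroExt.fst (x : TrivSqZeroExt k (Fin r → k)) :=
  rfl

lemma erToDual_snd {r : ℕ} (f : (Fin r → k) →ₗ[k] k) (x : Er Λ k r) :
    TrivSqZeroExt.snd (erToDual (Λ := Λ) f x) =
      f (TrivSqZeroExt.snd (x : TrivSqZeroExt k (Fin r → k))) := rfl

/-- restriction to the first `r` coordinates -/
def initL (r : ℕ) : (Fin (r + 1) → k) →ₗ[k] (Fin r → k) :=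
  LinearMap.funLeft k k Fin.castSucc

lemma initL_apply (r : ℕ) (w : Fin (r + 1) → k) (i : Fin r) : initL r w i = w i.castSucc := rfl

/-- the last coordinate -/
def lastL (r : ℕ) : (Fin (r + 1) → k) →ₗ[k] k := LinearMap.proj (Fin.last r)

lemma lastL_apply (r : ℕ) (w : Fin (r + 1) → k) : lastL r w = w (Fin.last r) := rfl

/-- `k ⊕ k^(r+1) = (k ⊕ k^r) ×_k k[ε]`. -/
theorem isFibreProd_er (r : ℕ) :
    IsFibreProd (erMap (Λ := Λ) (initL (k := k) r)) (erToDual (lastL r)) (toBase (Er Λ k r))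
      (toBase (dual Λ k)) where
  w := by rw [eq_toBase (erMap _ ≫ toBase _), eq_toBase (erToDual _ ≫ toBase _)]
  inj b₁ b₂ h₁ h₂ := by
    have e₁ : TrivSqZeroExt.fst (b₁ : TrivSqZeroExt k (Fin (r + 1) → k)) =
        TrivSqZeroExt.fst (b₂ : TrivSqZeroExt k (Fin (r + 1) → k)) := by
      have e := congrArg TrivSqZeroExt.fst h₂; exact e
    have e₂ : initL r (TrivSqZeroExt.snd (b₁ : TrivSqZeroExt k (Fin (r + 1) → k))) =
        initL r (TrivSqZeroExt.snd (b₂ : TrivSqZeroExt k (Fin (r + 1) → k))) := by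
      have e := congrArg TrivSqZeroExt.snd h₁; exact e
    have e₃ : lastL r (TrivSqZeroExt.snd (b₁ : TrivSqZeroExt k (Fin (r + 1) → k))) =
        lastL r (TrivSqZeroExt.snd (b₂ : TrivSqZeroExt k (Fin (r + 1) → k))) := by
      have e := congrArg TrivSqZeroExt.snd h₂; exact e
    refine TrivSqZeroExt.ext e₁ (funext fun i => ?_)
    refine Fin.lastCases ?_ (fun j => ?_) i
    · exact e₃
    · exact congrFun e₂ j
  surj a' a'' h := by
    have h' : TrivSqZeroExt.fst (a' : TrivSqZeroExt k (Fin r → k)) =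
        TrivSqZeroExt.fst (a'' : TrivSqZeroExt k k) := h
    refine ⟨((TrivSqZeroExt.fst (a' : TrivSqZeroExt k (Fin r → k)),
      Fin.snoc (TrivSqZeroExt.snd (a' : TrivSqZeroExt k (Fin r → k)))
        (TrivSqZeroExt.snd (a'' : TrivSqZeroExt k k))) : TrivSqZeroExt k (Fin (r + 1) → k)), ?_, ?_⟩
    · refine TrivSqZeroExt.ext rfl (funext fun i => ?_)
      change initL r (Fin.snoc _ _) i = _
      rw [initL_apply, Fin.snoc_castSucc]
    · refine TrivSqZeroExt.ext h' ?_
      change lastL r (Fin.snoc _ _) = _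
      rw [lastL_apply, Fin.snoc_last]

end ErLemmas

section Univ

variable {F : Art Λ k ⥤ Type v} [TangentStr F]

/-- the linear form `w ↦ ∑ c_i w_i` -/
def dotL {r : ℕ} (c : Fin r → k) : (Fin r → k) →ₗ[k] k := ∑ i, c i • LinearMap.proj i

lemma dotL_apply {r : ℕ} (c w : Fin r → k) : dotL c w = ∑ i, c i * w i := by
  simp [dotL, LinearMap.sum_apply]

lemma scale_zero_eq : (scale (0 : k) : dual Λ k ⟶ dual Λ k) = toBase (dual Λ k) ≫ baseToDual := by
  apply Art.hom_ext
  apply AlgHom.ext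
  intro x
  refine TrivSqZeroExt.ext rfl ?_
  change ((0 : k) • LinearMap.id : k →ₗ[k] k) (TrivSqZeroExt.snd x) = 0
  simp

lemma tangent_zero (h0 : H0 F) (x₀ : F.obj (base Λ k)) :
    TangentSpace.mk (F.map baseToDual x₀) = (0 : TangentSpace F) := by
  haveI := h0.2
  have h : (0 : TangentSpace F) =
      TangentSpace.mk (F.map (scale (0 : k)) (0 : TangentSpace F)) :=
    (zero_smul k (0 : TangentSpace F)).symm.trans
      (TangentStr.smul_eq (F := F) (0 : k) (0 : TangentSpace F))
  rw [scale_zero_eq, map_comp_apply'] at h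
  rw [h]
  congr 2
  exact Subsingleton.elim _ _

lemma baseToEr_erToDual (f : (Fin 0 → k) →ₗ[k] k) :
    (baseToEr 0 : base Λ k ⟶ Er Λ k 0) ≫ erToDual f = baseToDual := by
  apply Art.hom_ext
  apply AlgHom.ext
  intro x
  refine TrivSqZeroExt.ext rfl ?_
  change f 0 = 0
  exact map_zero f

theorem exists_univ_first_order (h0 : H0 F) (h2 : Heps F) (r : ℕ) (v : Fin r → TangentSpace F) :
    ∃ z : F.obj (Er Λ k r), ∀ c : Fin r → k,
      TangentSpace.mk (F.map (erToDual (dotL c)) z) = ∑ i, c i • v i := by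
  haveI := h0.2
  induction r with
  | zero =>
    obtain ⟨x₀⟩ := h0.1
    refine ⟨F.map (baseToEr 0) x₀, fun c => ?_⟩
    rw [← map_comp_apply', baseToEr_erToDual, tangent_zero h0, Finset.univ_eq_empty,
      Finset.sum_empty]
  | succ r ih =>
    obtain ⟨zr, hzr⟩ := ih (fun i => v i.castSucc)
    obtain ⟨z, hz1, hz2⟩ := (cmp_surjective_iff F (isFibreProd_er (Λ := Λ) (k := k) r)).1
      (h2 _ _ (isFibreProd_er r)).2 zr (v (Fin.last r)) (Subsingleton.elim _ _)
    refine ⟨z, fun c => ?_⟩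
    let g : Er Λ k (r + 1) ⟶ dual2 Λ k :=
      erToDual2 (LinearMap.prod ((dotL fun i => c i.castSucc) ∘ₗ initL r) (c (Fin.last r) • lastL r))
    have e1 : g ≫ pr₁ = erMap (initL r) ≫ erToDual (dotL fun i => c i.castSucc) := by
      apply Art.hom_ext
      apply AlgHom.ext
      intro x
      exact TrivSqZeroExt.ext rfl rfl
    have e2 : g ≫ pr₂ = erToDual (lastL r) ≫ scale (c (Fin.last r)) := by
      apply Art.hom_ext
      apply AlgHom.ext
      intro x
      exact TrivSqZeroExt.ext rfl rfl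
    have e3 : g ≫ plus = erToDual (dotL c) := by
      apply Art.hom_ext
      apply AlgHom.ext
      intro x
      refine TrivSqZeroExt.ext rfl ?_
      change (dotL fun i => c i.castSucc) (initL r (TrivSqZeroExt.snd x)) +
        c (Fin.last r) * (TrivSqZeroExt.snd x) (Fin.last r) = dotL c (TrivSqZeroExt.snd x)
      rw [dotL_apply, dotL_apply, Fin.sum_univ_castSucc]
      rfl
    have hadd : TangentSpace.mk (F.map pr₁ (F.map g z)) + TangentSpace.mk (F.map pr₂ (F.map g z)) =
        TangentSpace.mk (F.map plus (F.map g z)) := TangentStr.add_eq (F := F) (F.map g z)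
    rw [← map_comp_apply', ← map_comp_apply', ← map_comp_apply', e1, e2, e3, map_comp_apply',
      map_comp_apply', hz1, hz2] at hadd
    have hs : c (Fin.last r) • v (Fin.last r) =
        TangentSpace.mk (F.map (scale (c (Fin.last r))) (v (Fin.last r))) :=
      TangentStr.smul_eq (F := F) (c (Fin.last r)) (v (Fin.last r))
    have hzr' := hzr (fun i => c i.castSucc)
    rw [Fin.sum_univ_castSucc, ← hzr', hs]
    exact hadd.symm

end Univ

end Groth.Agent.H6
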