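import Groth.Agent.Lib.Helper6.ArtFunFormal
import Groth.Prelude.Def_W4sfdMinVersal

/-!
# helper6: versal families lift formal elements along surjections of complete local rings
-/

set_option autoImplicit false
set_option linter.style.haveILetI false
set_option linter.unusedTactic false
set_option linter.unusedVariables false

universe u v

open CategoryTheory

namespace Groth.Agent.H6

open ArtFun ArtFun.Art IsLocalRing

variable {Λ : Type u} {k : Type u} [CommRing Λ] [Field k] [Algebra Λ k]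

section RelLift

variable {A' A : CRing Λ k} (g : A'.carrier →ₐ[Λ] A.carrier) (hg : A.res.comp g = A'.res)

lemma truncMapOfHom_apply (n : ℕ) (x : A'.carrier) :
    CRing.truncMapOfHom g hg n (Ideal.Quotient.mk (A'.mpow n) x) =
      Ideal.Quotient.mk (A.mpow n) (g x) := rfl

include hg in
/-- A surjection of coefficient rings maps `m'^(n+1)` onto `m^(n+1)`. -/
lemma mpow_le_map_of_surjective (hgs : Function.Surjective g) (n : ℕ) :
    A.mpow n ≤ (A'.mpow n).map g := by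
  have h1 : maximalIdeal A.carrier ≤ (maximalIdeal A'.carrier).map g := by
    intro a ha
    obtain ⟨a', rfl⟩ := hgs a
    apply Ideal.mem_map_of_mem
    rw [CRing.mem_maximalIdeal_iff] at ha ⊢
    rw [← CRing.res_comp_apply g hg]
    exact ha
  calc A.mpow n ≤ ((maximalIdeal A'.carrier).map g) ^ (n + 1) := Ideal.pow_right_mono h1 _
    _ = (A'.mpow n).map g := (Ideal.map_pow _ _ _).symm

include hg in
/-- `A'/m'^(n+2) → A'/m'^(n+1) ×_{A/m^(n+1)} A/m^(n+2)` is surjective when `A' → A` is. -/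
theorem truncFibre_surjective (hgs : Function.Surjective g) (n : ℕ) {D : Art Λ k}
    {pr₁ : D ⟶ A'.trunc n} {pr₂ : D ⟶ A.trunc (n + 1)}
    (hD : IsFibreProd pr₁ pr₂ (CRing.truncMapOfHom g hg n) (A.truncMap n))
    (ν : A'.trunc (n + 1) ⟶ D) (hν1 : ν ≫ pr₁ = A'.truncMap n)
    (hν2 : ν ≫ pr₂ = CRing.truncMapOfHom g hg (n + 1)) : Function.Surjective ν := by
  intro d
  obtain ⟨x', hx'⟩ := Ideal.Quotient.mk_surjective (pr₁ d)
  obtain ⟨x, hx⟩ := Ideal.Quotient.mk_surjective (pr₂ d)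
  have hw := hD.w_apply d
  rw [← hx', ← hx, truncMapOfHom_apply, truncMap_apply] at hw
  have hmem : x - g x' ∈ A.mpow n := by
    rw [← Ideal.Quotient.eq]
    exact hw.symm
  obtain ⟨z, hz, hgz⟩ := (Ideal.mem_map_iff_of_surjective g hgs).1
    (mpow_le_map_of_surjective g hg hgs n hmem)
  refine ⟨Ideal.Quotient.mk (A'.mpow (n + 1)) (x' + z), ?_⟩
  apply hD.inj
  · have e : pr₁ (ν (Ideal.Quotient.mk (A'.mpow (n + 1)) (x' + z))) =
        A'.truncMap n (Ideal.Quotient.mk (A'.mpow (n + 1)) (x' + z)) :=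
      congrArg (fun f : A'.trunc (n + 1) ⟶ A'.trunc n => f _) hν1
    have e2 : Ideal.Quotient.mk (A'.mpow n) (x' + z) = Ideal.Quotient.mk (A'.mpow n) x' := by
      rw [Ideal.Quotient.eq]
      simpa using hz
    rw [e, truncMap_apply, ← hx']
    exact e2
  · have e : pr₂ (ν (Ideal.Quotient.mk (A'.mpow (n + 1)) (x' + z))) =
        CRing.truncMapOfHom g hg (n + 1) (Ideal.Quotient.mk (A'.mpow (n + 1)) (x' + z)) :=
      congrArg (fun f : A'.trunc (n + 1) ⟶ A.trunc (n + 1) => f _) hν2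
    have e2 : g (x' + z) = x := by rw [map_add, hgz]; ring
    rw [e, truncMapOfHom_apply, ← hx, e2]

variable [IsNoetherianRing Λ] [Module.Finite Λ k] {F : Art Λ k ⥤ Type v} {R : CRing Λ k}
  (ξ : Family R.carrier R.res F) (hξ : IsVersal ξ)
  (hinj : ∀ ⦃B A A₁ A₂ : Art Λ k⦄ (p₁ : B ⟶ A₁) (p₂ : B ⟶ A₂) (f₁ : A₁ ⟶ A) (f₂ : A₂ ⟶ A)
        (h : IsFibreProd p₁ p₂ f₁ f₂), Function.Surjective f₂ → Function.Injective (cmp F h))
  (hgs : Function.Surjective g) (η' : FormalElt F A')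
  (φ : R.carrier →ₐ[Λ] A.carrier) (hφ : A.res.comp φ = R.res)
  (hsq : (ξ.along φ hφ).toFormalElt = η'.push g hg)

/-- the truncations of `φ` -/
noncomputable def truncOf (n : ℕ) : HomSet R.carrier R.res (A.trunc n) :=
  ⟨(A.truncHom n).1.comp φ, by rw [← AlgHom.comp_assoc, (A.truncHom n).2, hφ]⟩

omit [IsNoetherianRing Λ] [Module.Finite Λ k] in
lemma truncOf_compat (n : ℕ) :
    HomSet.map (A.truncMap n) (truncOf φ hφ (n + 1)) = truncOf φ hφ n :=
  homSet_ext fun _ => rfl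

/-- the data of a partial relative lift -/
def RelLift (n : ℕ) : Type u :=
  {ψ : HomSet R.carrier R.res (A'.trunc n) //
    HomSet.map (CRing.truncMapOfHom g hg n) ψ = truncOf φ hφ n ∧ ξ.app _ ψ = η'.elt n}

include hξ hsq hgs in
omit [IsNoetherianRing Λ] [Module.Finite Λ k] in
lemma relLift_zero : Nonempty (RelLift g hg ξ η' φ hφ 0) := by
  have hsurj : Function.Surjective (CRing.truncMapOfHom g hg 0) := by
    intro x
    obtain ⟨a, rfl⟩ := Ideal.Quotient.mk_surjective x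
    obtain ⟨a', rfl⟩ := hgs a
    exact ⟨Ideal.Quotient.mk _ a', rfl⟩
  have h0 := congrArg (fun e => e.elt 0) hsq
  obtain ⟨ψ, h1, h2⟩ := hξ (CRing.truncMapOfHom g hg 0) hsurj (truncOf φ hφ 0) (η'.elt 0) h0.symm
  exact ⟨⟨ψ, h1, h2⟩⟩

include hξ hsq hgs hinj in
lemma relLift_succ (n : ℕ) (ψ : RelLift g hg ξ η' φ hφ n) :
    ∃ ψ' : RelLift g hg ξ η' φ hφ (n + 1), HomSet.map (A'.truncMap n) ψ'.1 = ψ.1 := by
  obtain ⟨D, pr₁, pr₂, hD⟩ := art_exists_isFibreProd (CRing.truncMapOfHom g hg n) (A.truncMap n)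
    (truncMap_surjective A n)
  obtain ⟨ν, hν1, hν2⟩ := fp_exists_lift hD (A'.truncMap n) (CRing.truncMapOfHom g hg (n + 1))
    (CRing.truncMapOfHom_truncMap g hg n).symm
  have hνs := truncFibre_surjective g hg hgs n hD ν hν1 hν2
  obtain ⟨χ, hχ1, hχ2⟩ := fp_exists_homSet hD ψ.1 (truncOf φ hφ (n + 1))
    (by rw [ψ.2.1, truncOf_compat])
  have hn := congrArg (fun e => e.elt (n + 1)) hsq
  have hy : F.map ν (η'.elt (n + 1)) = ξ.app D χ := by
    apply (cmp_injective_iff F hD).1 (hinj pr₁ pr₂ _ _ hD (truncMap_surjective A n))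
    · rw [← map_comp_apply', hν1, η'.compat, ← ξ.natural, hχ1, ψ.2.2]
    · rw [← map_comp_apply', hν2, ← ξ.natural, hχ2]
      exact hn.symm
  obtain ⟨ψ', h1, h2⟩ := hξ ν hνs χ (η'.elt (n + 1)) hy
  refine ⟨⟨ψ', ?_, h2⟩, ?_⟩
  · rw [← hν2, homSet_map_comp, h1, hχ2]
  · rw [← hν1, homSet_map_comp, h1, hχ1]

/-- the sequence of compatible relative lifts -/
noncomputable def relLiftSeq (h0 : Nonempty (RelLift g hg ξ η' φ hφ 0))
    (hs : ∀ (n : ℕ) (ψ : RelLift g hg ξ η' φ hφ n),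
      ∃ ψ' : RelLift g hg ξ η' φ hφ (n + 1), HomSet.map (A'.truncMap n) ψ'.1 = ψ.1) :
    (n : ℕ) → RelLift g hg ξ η' φ hφ n
  | 0 => Classical.choice h0
  | n + 1 => Classical.choose (hs n (relLiftSeq h0 hs n))

include hξ hsq hgs hinj in
/-- Versal families lift formal elements along surjections of complete local rings. -/
theorem exists_relative_lift :
    ∃ (ψ : R.carrier →ₐ[Λ] A'.carrier) (hψ : A'.res.comp ψ = R.res),
      g.comp ψ = φ ∧ (ξ.along ψ hψ).toFormalElt = η' := by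
  have h0 := relLift_zero g hg ξ hξ hgs η' φ hφ hsq
  have hs := relLift_succ g hg ξ hξ hinj hgs η' φ hφ hsq
  obtain ⟨G, hG, hGn⟩ := exists_limit_hom A'
    (fun n => (relLiftSeq g hg ξ η' φ hφ h0 hs n).1)
    (fun n => Classical.choose_spec (hs n (relLiftSeq g hg ξ η' φ hφ h0 hs n)))
  refine ⟨G, hG, ?_, ?_⟩
  · apply cring_hom_ext A
    intro n
    have h1 := congrArg Subtype.val (relLiftSeq g hg ξ η' φ hφ h0 hs n).2.1
    change (CRing.truncMapOfHom g hg n).toAlgHom.comp _ = (A.truncHom n).1.comp φ at h1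
    rw [← h1, ← hGn n]
    apply AlgHom.ext
    intro r
    rfl
  · apply FormalElt.ext'
    intro n
    change ξ.app _ _ = η'.elt n
    rw [← (relLiftSeq g hg ξ η' φ hφ h0 hs n).2.2]
    congr 1
    exact Subtype.ext (hGn n)

end RelLift

end Groth.Agent.H6
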