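import Groth.Agent.Lib.Helper6.ArtFunDelta
import Groth.Agent.Lib.Helper6.CompleteNoeth

/-!
# helper6: Schlessinger's construction of a versal family

Abstract form: `S` a complete local Noetherian `Λ`-algebra with residue field `k` such that `h_S` is
smooth; starting from an open ideal `J₀` and `ξ₀ ∈ F(S/J₀)` we construct `J∞ ≤ J₀` and a family
over `S/J∞` extending `ξ₀` with the lifting property along small extensions.
-/

set_option autoImplicit false
set_option linter.style.haveILetI false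
set_option linter.unusedTactic false
set_option linter.unusedVariables false

universe u v

open CategoryTheory

namespace Groth.Agent.H6

open ArtFun ArtFun.Art IsLocalRing

variable {Λ : Type u} {k : Type u} [CommRing Λ] [Field k] [Algebra Λ k]

section SQ

variable {S : Type u} [CommRing S] [Algebra Λ S] [IsLocalRing S]

lemma ker_resS (resS : S →ₐ[Λ] k) (hres : Function.Surjective resS) :
    RingHom.ker (resS : S →+* k) = maximalIdeal S := by
  have hmax : (RingHom.ker (resS : S →+* k)).IsMaximal :=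
    RingHom.ker_isMaximal_of_surjective (resS : S →+* k) hres
  exact IsLocalRing.eq_maximalIdeal hmax

lemma resS_eq_zero_iff (resS : S →ₐ[Λ] k) (hres : Function.Surjective resS) (a : S) :
    resS a = 0 ↔ a ∈ maximalIdeal S := by
  rw [← ker_resS resS hres, RingHom.mem_ker]
  rfl

variable (S) in
/-- Ideals `J` with `n^c ≤ J ≤ n`. -/
structure OpenIdeal where
  ideal : Ideal S
  le : ideal ≤ maximalIdeal S
  isOpen : ∃ c : ℕ, maximalIdeal S ^ c ≤ ideal

variable [IsNoetherianRing S]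

lemma sq_artinian (J : OpenIdeal S) : IsArtinianRing (S ⧸ J.ideal) := by
  haveI : Nontrivial (S ⧸ J.ideal) :=
    Ideal.Quotient.nontrivial_iff.2 (ne_top_of_le_ne_top (maximalIdeal.isMaximal S).ne_top J.le)
  haveI : IsLocalRing (S ⧸ J.ideal) :=
    IsLocalRing.of_surjective' (Ideal.Quotient.mk J.ideal) Ideal.Quotient.mk_surjective
  rw [isArtinianRing_iff_isNilpotent_maximalIdeal]
  obtain ⟨c, hc⟩ := J.isOpen
  refine ⟨c, ?_⟩
  rw [← IsLocalRing.map_maximalIdeal_of_surjective (Ideal.Quotient.mk J.ideal)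
    Ideal.Quotient.mk_surjective, ← Ideal.map_pow, Ideal.zero_eq_bot, Ideal.map_eq_bot_iff_le_ker,
    Ideal.mk_ker]
  exact hc

variable (resS : S →ₐ[Λ] k) (hres : Function.Surjective resS)

/-- The quotient `S/J` as an object of `Art Λ k`. -/
noncomputable def SQ (J : OpenIdeal S) : Art Λ k :=
  haveI : Nontrivial (S ⧸ J.ideal) :=
    Ideal.Quotient.nontrivial_iff.2 (ne_top_of_le_ne_top (maximalIdeal.isMaximal S).ne_top J.le)
  haveI : IsLocalRing (S ⧸ J.ideal) :=
    IsLocalRing.of_surjective' (Ideal.Quotient.mk J.ideal) Ideal.Quotient.mk_surjective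
  haveI : IsArtinianRing (S ⧸ J.ideal) := sq_artinian J
  { carrier := S ⧸ J.ideal
    res := Ideal.Quotient.liftₐ J.ideal resS
      (fun a ha => (resS_eq_zero_iff resS hres a).2 (J.le ha))
    res_surjective := fun c => by
      obtain ⟨a, ha⟩ := hres c
      exact ⟨Ideal.Quotient.mk J.ideal a, ha⟩ }

/-- The quotient map as an element of `h_S(S/J)`. -/
noncomputable def sqMk (J : OpenIdeal S) : HomSet S resS (SQ resS hres J) :=
  ⟨Ideal.Quotient.mkₐ Λ J.ideal, Ideal.Quotient.liftₐ_comp J.ideal resS _⟩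

/-- The transition map `S/J → S/J'` for `J ≤ J'`. -/
noncomputable def sqMap {J J' : OpenIdeal S} (h : J.ideal ≤ J'.ideal) :
    SQ resS hres J ⟶ SQ resS hres J' :=
  ⟨Ideal.Quotient.factorₐ Λ h, by
    apply AlgHom.ext
    intro x
    obtain ⟨a, rfl⟩ := Ideal.Quotient.mk_surjective x
    rfl⟩

/-- A map `S → A` killing `J` factors through `S/J`. -/
noncomputable def sqLift {J : OpenIdeal S} {A : Art Λ k} (φ : HomSet S resS A)
    (h : J.ideal ≤ RingHom.ker φ.1) : SQ resS hres J ⟶ A :=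
  ⟨Ideal.Quotient.liftₐ J.ideal φ.1 (fun a ha => h ha), by
    apply AlgHom.ext
    intro x
    obtain ⟨a, rfl⟩ := Ideal.Quotient.mk_surjective x
    exact congrArg (fun g : S →ₐ[Λ] k => g a) φ.2⟩

variable {resS hres}

lemma sq_hom_ext {J : OpenIdeal S} {A : Art Λ k} {f g : SQ resS hres J ⟶ A}
    (h : ∀ a : S, f (Ideal.Quotient.mk J.ideal a) = g (Ideal.Quotient.mk J.ideal a)) : f = g := by
  apply Art.hom_ext
  apply AlgHom.ext
  intro x
  obtain ⟨a, rfl⟩ := Ideal.Quotient.mk_surjective x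
  exact h a

lemma sqMk_apply (J : OpenIdeal S) (a : S) :
    (sqMk resS hres J).1 a = Ideal.Quotient.mk J.ideal a := rfl

lemma sqMk_surjective (J : OpenIdeal S) : Function.Surjective (sqMk resS hres J).1 :=
  Ideal.Quotient.mk_surjective

lemma ker_sqMk (J : OpenIdeal S) : RingHom.ker (sqMk resS hres J).1 = J.ideal := by
  ext a
  rw [RingHom.mem_ker]
  exact Ideal.Quotient.eq_zero_iff_mem

lemma sqMap_apply {J J' : OpenIdeal S} (h : J.ideal ≤ J'.ideal) (a : S) :
    sqMap resS hres h (Ideal.Quotient.mk J.ideal a) = Ideal.Quotient.mk J'.ideal a := rfl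

lemma sqMap_surjective {J J' : OpenIdeal S} (h : J.ideal ≤ J'.ideal) :
    Function.Surjective (sqMap resS hres h) := by
  intro x
  obtain ⟨a, rfl⟩ := Ideal.Quotient.mk_surjective x
  exact ⟨Ideal.Quotient.mk J.ideal a, rfl⟩

lemma sqLift_apply {J : OpenIdeal S} {A : Art Λ k} (φ : HomSet S resS A)
    (h : J.ideal ≤ RingHom.ker φ.1) (a : S) :
    sqLift resS hres φ h (Ideal.Quotient.mk J.ideal a) = φ.1 a := rfl

lemma sqMap_refl (J : OpenIdeal S) : sqMap resS hres (le_refl J.ideal) = 𝟙 _ :=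
  sq_hom_ext fun _ => rfl

lemma sqMap_comp {J J' J'' : OpenIdeal S} (h₁ : J.ideal ≤ J'.ideal) (h₂ : J'.ideal ≤ J''.ideal) :
    sqMap resS hres h₁ ≫ sqMap resS hres h₂ = sqMap resS hres (h₁.trans h₂) :=
  sq_hom_ext fun _ => rfl

lemma sqMap_sqLift {J J' : OpenIdeal S} {A : Art Λ k} (h : J.ideal ≤ J'.ideal)
    (φ : HomSet S resS A) (h' : J'.ideal ≤ RingHom.ker φ.1) :
    sqMap resS hres h ≫ sqLift resS hres φ h' = sqLift resS hres φ (h.trans h') :=
  sq_hom_ext fun _ => rfl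

lemma ker_le_ker_map {A B : Art Λ k} (f : A ⟶ B) (φ : HomSet S resS A) :
    RingHom.ker φ.1 ≤ RingHom.ker (HomSet.map f φ).1 := by
  intro a ha
  rw [RingHom.mem_ker] at ha ⊢
  change f.toAlgHom (φ.1 a) = 0
  rw [ha, map_zero]

lemma sqLift_comp {J : OpenIdeal S} {A B : Art Λ k} (φ : HomSet S resS A)
    (h : J.ideal ≤ RingHom.ker φ.1) (f : A ⟶ B) :
    sqLift resS hres φ h ≫ f = sqLift resS hres (HomSet.map f φ) (h.trans (ker_le_ker_map f φ)) :=
  sq_hom_ext fun _ => rfl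

lemma map_sqMk {J J' : OpenIdeal S} (h : J.ideal ≤ J'.ideal) :
    HomSet.map (sqMap resS hres h) (sqMk resS hres J) = sqMk resS hres J' :=
  homSet_ext fun _ => rfl

lemma map_sqLift_sqMk {J : OpenIdeal S} {A : Art Λ k} (φ : HomSet S resS A)
    (h : J.ideal ≤ RingHom.ker φ.1) :
    HomSet.map (sqLift resS hres φ h) (sqMk resS hres J) = φ :=
  homSet_ext fun _ => rfl

lemma sqLift_sqMk {J J' : OpenIdeal S} (h : J.ideal ≤ J'.ideal) :
    sqLift resS hres (sqMk resS hres J') (h.trans (ker_sqMk J').ge) = sqMap resS hres h :=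
  sq_hom_ext fun _ => rfl

/-- elements of `h_S(A)` map the maximal ideal into the maximal ideal -/
lemma homSet_mem_maximalIdeal (hres : Function.Surjective resS) {A : Art Λ k}
    (φ : HomSet S resS A) {a : S}
    (ha : a ∈ maximalIdeal S) : φ.1 a ∈ maximalIdeal A := by
  rw [Art.mem_maximalIdeal_iff]
  have : A.res (φ.1 a) = resS a := congrArg (fun g : S →ₐ[Λ] k => g a) φ.2
  rw [this, resS_eq_zero_iff resS hres]
  exact ha

lemma homSet_ker_le (hres : Function.Surjective resS) {A : Art Λ k} (φ : HomSet S resS A) :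
    RingHom.ker φ.1 ≤ maximalIdeal S := by
  intro a ha
  rw [← resS_eq_zero_iff resS hres]
  have : A.res (φ.1 a) = resS a := congrArg (fun g : S →ₐ[Λ] k => g a) φ.2
  rw [← this, (RingHom.mem_ker).1 ha, map_zero]

lemma homSet_pow_le_ker (hres : Function.Surjective resS) {A : Art Λ k}
    (φ : HomSet S resS A) {c : ℕ}
    (hc : maximalIdeal A ^ c = ⊥) : maximalIdeal S ^ c ≤ RingHom.ker φ.1 := by
  have h1 : (maximalIdeal S).map φ.1 ≤ maximalIdeal A := by
    rw [Ideal.map_le_iff_le_comap]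
    intro a ha
    exact homSet_mem_maximalIdeal hres φ ha
  have h2 : (maximalIdeal S ^ c).map φ.1 ≤ ⊥ := by
    rw [Ideal.map_pow, ← hc]
    exact Ideal.pow_right_mono h1 c
  intro a ha
  rw [RingHom.mem_ker]
  have := h2 (Ideal.mem_map_of_mem _ ha)
  simpa using this

/-- The kernel of an element of `h_S(A)` as an open ideal. -/
noncomputable def kerOpen (hres : Function.Surjective resS) {A : Art Λ k} (φ : HomSet S resS A) :
    OpenIdeal S where
  ideal := RingHom.ker φ.1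
  le := homSet_ker_le hres φ
  isOpen := by
    obtain ⟨c, hc⟩ := art_maximalIdeal_pow_eq_bot A
    exact ⟨c, homSet_pow_le_ker hres φ hc⟩

/-- Fibre products of quotients of `S`. -/
lemma sq_isFibreProd {I J K Q : OpenIdeal S} (hIJ : I.ideal ≤ J.ideal) (hIK : I.ideal ≤ K.ideal)
    (hJQ : J.ideal ≤ Q.ideal) (hKQ : K.ideal ≤ Q.ideal)
    (hinf : J.ideal ⊓ K.ideal ≤ I.ideal) (hsup : Q.ideal ≤ J.ideal ⊔ K.ideal) :
    IsFibreProd (sqMap resS hres hIJ) (sqMap resS hres hIK) (sqMap resS hres hJQ)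
      (sqMap resS hres hKQ) where
  w := sq_hom_ext fun _ => rfl
  inj b₁ b₂ h₁ h₂ := by
    obtain ⟨a₁, rfl⟩ := Ideal.Quotient.mk_surjective b₁
    obtain ⟨a₂, rfl⟩ := Ideal.Quotient.mk_surjective b₂
    rw [sqMap_apply, sqMap_apply] at h₁ h₂
    have e₁ : a₁ - a₂ ∈ J.ideal := Ideal.Quotient.eq.1 h₁
    have e₂ : a₁ - a₂ ∈ K.ideal := Ideal.Quotient.eq.1 h₂
    exact Ideal.Quotient.eq.2 (hinf ⟨e₁, e₂⟩)
  surj a' a'' h := by
    obtain ⟨x, rfl⟩ := Ideal.Quotient.mk_surjective a'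
    obtain ⟨y, rfl⟩ := Ideal.Quotient.mk_surjective a''
    rw [sqMap_apply, sqMap_apply] at h
    have e : x - y ∈ Q.ideal := Ideal.Quotient.eq.1 h
    obtain ⟨j, hj, k', hk', hjk⟩ := Submodule.mem_sup.1 (hsup e)
    refine ⟨Ideal.Quotient.mk I.ideal (x - j), ?_, ?_⟩
    · rw [sqMap_apply]
      apply Ideal.Quotient.eq.2
      simpa using J.ideal.neg_mem hj
    · rw [sqMap_apply]
      apply Ideal.Quotient.eq.2
      have : x - j - y = k' := by linear_combination -hjk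
      rw [this]
      exact hk'

end SQ

section IdealLemmas

variable {S : Type u} [CommRing S] [IsLocalRing S] [IsNoetherianRing S]

/-- A complement modulo `n Q`. -/
lemma exists_complement_ideal (Q J K : Ideal S)
    (hK : maximalIdeal S * Q ≤ K) (hKQ : K ≤ Q) :
    ∃ K' : Ideal S, K ≤ K' ∧ K' ≤ Q ∧ Q ≤ J ⊔ K' ∧ J ⊓ K' = J ⊓ K := by
  classical
  let 𝒜 : Set (Ideal S) := {L | K ≤ L ∧ L ≤ Q ∧ J ⊓ L = J ⊓ K}
  have hne : 𝒜.Nonempty := ⟨K, le_refl _, hKQ, rfl⟩
  obtain ⟨K', ⟨hK1, hK2, hK3⟩, hmax⟩ := set_has_maximal_iff_noetherian.2 inferInstance 𝒜 hne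
  refine ⟨K', hK1, hK2, ?_, hK3⟩
  intro x hxQ
  by_contra hx
  have hxK' : x ∉ K' := fun h => hx (Ideal.mem_sup_right h)
  let L : Ideal S := K' ⊔ Ideal.span {x}
  have hL : L ∈ 𝒜 := by
    refine ⟨hK1.trans le_sup_left, sup_le hK2 ((Ideal.span_singleton_le_iff_mem _).2 hxQ), ?_⟩
    apply le_antisymm
    · rintro y ⟨hyJ, hyL⟩
      obtain ⟨k', hk', z, hz, rfl⟩ := Submodule.mem_sup.1 hyL
      obtain ⟨s, rfl⟩ := Ideal.mem_span_singleton'.1 hz
      by_cases hs : s ∈ maximalIdeal S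
      · have : s * x ∈ K' := hK1 (hK (Ideal.mul_mem_mul hs hxQ))
        rw [← hK3]
        exact ⟨hyJ, K'.add_mem hk' this⟩
      · exfalso
        have hu : IsUnit s := by
          by_contra hns
          exact hs ((IsLocalRing.mem_maximalIdeal s).2 hns)
        obtain ⟨u, rfl⟩ := hu
        apply hx
        have : x = ↑u⁻¹ * (k' + ↑u * x) - ↑u⁻¹ * k' := by
          rw [mul_add, ← mul_assoc, Units.inv_mul, one_mul]; ring
        rw [this]
        exact Ideal.sub_mem _ (Ideal.mem_sup_left (J.mul_mem_left _ hyJ))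
          (Ideal.mem_sup_right (Ideal.mul_mem_left K' _ hk'))
    · exact inf_le_inf_left J (hK1.trans le_sup_left)
  have hlt : K' < L := by
    refine lt_of_le_of_ne le_sup_left ?_
    intro h
    apply hxK'
    rw [h]
    exact Ideal.mem_sup_right (Ideal.mem_span_singleton_self x)
  exact hmax L hL hlt

end IdealLemmas

section Step

variable {S : Type u} [CommRing S] [Algebra Λ S] [IsLocalRing S] [IsNoetherianRing S]
  (resS : S →ₐ[Λ] k) (hres : Function.Surjective resS) (F : Art Λ k ⥤ Type v)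

/-- The open ideals between `n J` and `J` to which `ξ` lifts. -/
def LiftSet (J : OpenIdeal S) (ξ : F.obj (SQ resS hres J)) : Set (OpenIdeal S) :=
  {J' | maximalIdeal S * J.ideal ≤ J'.ideal ∧ ∃ h : J'.ideal ≤ J.ideal,
    ∃ ξ' : F.obj (SQ resS hres J'), F.map (sqMap resS hres h) ξ' = ξ}

/-- an open ideal from an ideal between -/
def OpenIdeal.ofLE (J : OpenIdeal S) (I : Ideal S) (h₁ : maximalIdeal S * J.ideal ≤ I)
    (h₂ : I ≤ J.ideal) : OpenIdeal S where
  ideal := I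
  le := h₂.trans J.le
  isOpen := by
    obtain ⟨c, hc⟩ := J.isOpen
    refine ⟨c + 1, ?_⟩
    rw [pow_succ']
    exact (Ideal.mul_mono_right hc).trans h₁

variable {resS hres F}

lemma liftSet_self (J : OpenIdeal S) (ξ : F.obj (SQ resS hres J)) : J ∈ LiftSet resS hres F J ξ :=
  ⟨Ideal.mul_le_right, le_refl _, ξ, by rw [sqMap_refl, map_id_apply']⟩

lemma liftSet_inf (h1 : S1 F) (J : OpenIdeal S) (ξ : F.obj (SQ resS hres J))
    {J₁ J₂ : OpenIdeal S} (hJ₁ : J₁ ∈ LiftSet resS hres F J ξ) (hJ₂ : J₂ ∈ LiftSet resS hres F J ξ) :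
    ∃ I ∈ LiftSet resS hres F J ξ, I.ideal = J₁.ideal ⊓ J₂.ideal := by
  obtain ⟨hn₁, hle₁, ξ₁, hξ₁⟩ := hJ₁
  obtain ⟨hn₂, hle₂, ξ₂, hξ₂⟩ := hJ₂
  obtain ⟨K', hK1, hK2, hK3, hK4⟩ := exists_complement_ideal J.ideal J₁.ideal J₂.ideal hn₂ hle₂
  let Ko : OpenIdeal S := J.ofLE K' (hn₂.trans hK1) hK2
  let I : OpenIdeal S := J.ofLE (J₁.ideal ⊓ J₂.ideal) (le_inf hn₁ hn₂) (inf_le_left.trans hle₁)
  have hIJ₁ : I.ideal ≤ J₁.ideal := inf_le_left
  have hIK : I.ideal ≤ Ko.ideal := inf_le_right.trans hK1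
  have hfp := sq_isFibreProd (resS := resS) (hres := hres) (I := I) (J := J₁) (K := Ko) (Q := J)
    hIJ₁ hIK hle₁ hK2 (le_of_eq hK4) hK3
  let ξ₂' : F.obj (SQ resS hres Ko) := F.map (sqMap resS hres (show J₂.ideal ≤ Ko.ideal from hK1)) ξ₂
  have hξ₂' : F.map (sqMap resS hres (show Ko.ideal ≤ J.ideal from hK2)) ξ₂' = ξ := by
    rw [← map_comp_apply', sqMap_comp, hξ₂]
  obtain ⟨z, hz1, hz2⟩ := (cmp_surjective_iff F hfp).1
    (h1 _ _ _ _ hfp (sqMap_surjective _)) ξ₁ ξ₂' (by rw [hξ₁, hξ₂'])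
  refine ⟨I, ⟨le_inf hn₁ hn₂, inf_le_left.trans hle₁, z, ?_⟩, rfl⟩
  rw [← sqMap_comp hIJ₁ hle₁, map_comp_apply', hz1, hξ₁]

end Step

section Min

variable {S : Type u} [CommRing S] [Algebra Λ S] [IsLocalRing S] [IsNoetherianRing S]
  {resS : S →ₐ[Λ] k} {hres : Function.Surjective resS} {F : Art Λ k ⥤ Type v}

/-- The set of liftable ideals has a least element. -/
theorem liftSet_exists_min (h1 : S1 F) (J : OpenIdeal S) (ξ : F.obj (SQ resS hres J)) :
    ∃ J' ∈ LiftSet resS hres F J ξ, ∀ J'' ∈ LiftSet resS hres F J ξ, J'.ideal ≤ J''.ideal := by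
  classical
  let L : OpenIdeal S := J.ofLE (maximalIdeal S * J.ideal) (le_refl _) Ideal.mul_le_right
  haveI : IsArtinianRing (S ⧸ L.ideal) := sq_artinian L
  let 𝒯 : Set (Ideal (S ⧸ L.ideal)) :=
    {T | ∃ J' ∈ LiftSet resS hres F J ξ, T = J'.ideal.map (Ideal.Quotient.mk L.ideal)}
  have hne : 𝒯.Nonempty := ⟨_, J, liftSet_self J ξ, rfl⟩
  obtain ⟨T, ⟨J', hJ', rfl⟩, hmin⟩ := set_has_minimal_iff_artinian.2
    (inferInstance : IsArtinian (S ⧸ L.ideal) (S ⧸ L.ideal)) 𝒯 hne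
  refine ⟨J', hJ', fun J'' hJ'' => ?_⟩
  obtain ⟨I, hI, hIeq⟩ := liftSet_inf h1 J ξ hJ' hJ''
  have hle : I.ideal.map (Ideal.Quotient.mk L.ideal) ≤ J'.ideal.map (Ideal.Quotient.mk L.ideal) :=
    Ideal.map_mono (hIeq ▸ inf_le_left)
  have heq : I.ideal.map (Ideal.Quotient.mk L.ideal) = J'.ideal.map (Ideal.Quotient.mk L.ideal) := by
    by_contra hne'
    exact hmin _ ⟨I, hI, rfl⟩ (lt_of_le_of_ne hle hne')
  have hLI : L.ideal ≤ I.ideal := hI.1
  have hLJ' : L.ideal ≤ J'.ideal := hJ'.1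
  have := congrArg (Ideal.comap (Ideal.Quotient.mk L.ideal)) heq
  rw [Ideal.comap_map_mk hLI, Ideal.comap_map_mk hLJ'] at this
  rw [← this, hIeq]
  exact inf_le_right

end Min

section Stages

variable {S : Type u} [CommRing S] [Algebra Λ S] [IsLocalRing S] [IsNoetherianRing S]
  (resS : S →ₐ[Λ] k) (hres : Function.Surjective resS) (F : Art Λ k ⥤ Type v)

/-- A stage of the construction: an open ideal and an element over the quotient. -/
structure Stage where
  J : OpenIdeal S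
  ξ : F.obj (SQ resS hres J)

variable {resS hres F}

lemma nextStage_exists (h1 : S1 F) (s : Stage resS hres F) :
    ∃ t : Stage resS hres F, maximalIdeal S * s.J.ideal ≤ t.J.ideal ∧
      (∃ h : t.J.ideal ≤ s.J.ideal, F.map (sqMap resS hres h) t.ξ = s.ξ) ∧
      ∀ J'' ∈ LiftSet resS hres F s.J s.ξ, t.J.ideal ≤ J''.ideal := by
  obtain ⟨J', ⟨hn, hle, ξ', hξ'⟩, hmin⟩ := liftSet_exists_min h1 s.J s.ξ
  exact ⟨⟨J', ξ'⟩, hn, ⟨hle, hξ'⟩, hmin⟩

/-- The next stage: the least ideal between `n J` and `J` to which `ξ` lifts, with a lift. -/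
noncomputable def nextStage (h1 : S1 F) (s : Stage resS hres F) : Stage resS hres F :=
  Classical.choose (nextStage_exists h1 s)

/-- The sequence of stages. -/
noncomputable def stage (h1 : S1 F) (s₀ : Stage resS hres F) : ℕ → Stage resS hres F
  | 0 => s₀
  | q + 1 => nextStage h1 (stage h1 s₀ q)

variable (h1 : S1 F) (s₀ : Stage resS hres F)

lemma stage_mul_le (q : ℕ) :
    maximalIdeal S * (stage h1 s₀ q).J.ideal ≤ (stage h1 s₀ (q + 1)).J.ideal :=
  (Classical.choose_spec (nextStage_exists h1 (stage h1 s₀ q))).1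

lemma stage_succ_le (q : ℕ) : (stage h1 s₀ (q + 1)).J.ideal ≤ (stage h1 s₀ q).J.ideal :=
  (Classical.choose_spec (nextStage_exists h1 (stage h1 s₀ q))).2.1.1

lemma stage_map_succ (q : ℕ) :
    F.map (sqMap resS hres (stage_succ_le h1 s₀ q)) (stage h1 s₀ (q + 1)).ξ = (stage h1 s₀ q).ξ :=
  (Classical.choose_spec (nextStage_exists h1 (stage h1 s₀ q))).2.1.2

lemma stage_min (q : ℕ) (J'' : OpenIdeal S)
    (hJ'' : J'' ∈ LiftSet resS hres F (stage h1 s₀ q).J (stage h1 s₀ q).ξ) :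
    (stage h1 s₀ (q + 1)).J.ideal ≤ J''.ideal :=
  (Classical.choose_spec (nextStage_exists h1 (stage h1 s₀ q))).2.2 J'' hJ''

lemma stage_le {q q' : ℕ} (h : q ≤ q') : (stage h1 s₀ q').J.ideal ≤ (stage h1 s₀ q).J.ideal := by
  induction q', h using Nat.le_induction with
  | base => exact le_refl _
  | succ n _ ih => exact (stage_succ_le h1 s₀ n).trans ih

lemma stage_map {q q' : ℕ} (h : q ≤ q') :
    F.map (sqMap resS hres (stage_le h1 s₀ h)) (stage h1 s₀ q').ξ = (stage h1 s₀ q).ξ := by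
  induction q', h using Nat.le_induction with
  | base => rw [sqMap_refl, map_id_apply']
  | succ n hn ih =>
    rw [← sqMap_comp (stage_succ_le h1 s₀ n) (stage_le h1 s₀ hn), map_comp_apply',
      stage_map_succ, ih]

lemma stage_le_sup (q : ℕ) :
    (stage h1 s₀ q).J.ideal ≤ (stage h1 s₀ (q + 1)).J.ideal ⊔ maximalIdeal S ^ (q + 1) := by
  induction q with
  | zero =>
    rw [zero_add, pow_one]
    exact (stage h1 s₀ 0).J.le.trans le_sup_right
  | succ q ih =>
    -- J' = (J_{q+2} + n^{q+2}) ∩ J_{q+1} lies in the lift set of stage q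
    let I : Ideal S := ((stage h1 s₀ (q + 2)).J.ideal ⊔ maximalIdeal S ^ (q + 2)) ⊓
      (stage h1 s₀ (q + 1)).J.ideal
    have hI1 : maximalIdeal S * (stage h1 s₀ q).J.ideal ≤ I := by
      refine le_inf ?_ (stage_mul_le h1 s₀ q)
      calc maximalIdeal S * (stage h1 s₀ q).J.ideal
          ≤ maximalIdeal S * ((stage h1 s₀ (q + 1)).J.ideal ⊔ maximalIdeal S ^ (q + 1)) :=
            Ideal.mul_mono_right ih
        _ = maximalIdeal S * (stage h1 s₀ (q + 1)).J.ideal ⊔ maximalIdeal S ^ (q + 2) := by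
            rw [Ideal.mul_sup, ← pow_succ']
        _ ≤ _ := sup_le_sup_right (stage_mul_le h1 s₀ (q + 1)) _
    have hI2 : I ≤ (stage h1 s₀ q).J.ideal := inf_le_right.trans (stage_succ_le h1 s₀ q)
    let Io : OpenIdeal S := (stage h1 s₀ q).J.ofLE I hI1 hI2
    have hle : (stage h1 s₀ (q + 2)).J.ideal ≤ Io.ideal :=
      le_inf le_sup_left (stage_succ_le h1 s₀ (q + 1))
    have hmem : Io ∈ LiftSet resS hres F (stage h1 s₀ q).J (stage h1 s₀ q).ξ := by
      refine ⟨hI1, hI2, F.map (sqMap resS hres hle) (stage h1 s₀ (q + 2)).ξ, ?_⟩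
      rw [← map_comp_apply', sqMap_comp]
      exact stage_map h1 s₀ (Nat.le_add_right q 2)
    exact (stage_min h1 s₀ q Io hmem).trans inf_le_left

end Stages

section Limit

variable {S : Type u} [CommRing S] [Algebra Λ S] [IsLocalRing S] [IsNoetherianRing S]
  {resS : S →ₐ[Λ] k} {hres : Function.Surjective resS} {F : Art Λ k ⥤ Type v}
  (h1 : S1 F) (s₀ : Stage resS hres F)

/-- The limit ideal. -/
noncomputable def Jinf : Ideal S := ⨅ q, (stage h1 s₀ q).J.ideal

lemma jinf_le (q : ℕ) : Jinf h1 s₀ ≤ (stage h1 s₀ q).J.ideal := iInf_le _ q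

lemma stage_split (q : ℕ) (y : S) (hy : y ∈ (stage h1 s₀ q).J.ideal) :
    ∃ a, a ∈ (stage h1 s₀ (q + 1)).J.ideal ∧ y - a ∈ maximalIdeal S ^ (q + 1) := by
  obtain ⟨a, ha, b, hb, hab⟩ := Submodule.mem_sup.1 (stage_le_sup h1 s₀ q hy)
  refine ⟨a, ha, ?_⟩
  have : y - a = b := by rw [← hab]; ring
  rw [this]
  exact hb

/-- successive approximations -/
noncomputable def approx (q : ℕ) (x : S) (hx : x ∈ (stage h1 s₀ q).J.ideal) :
    (i : ℕ) → {y : S // y ∈ (stage h1 s₀ (q + i)).J.ideal}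
  | 0 => ⟨x, hx⟩
  | i + 1 => ⟨Classical.choose (stage_split h1 s₀ (q + i) (approx q x hx i).1 (approx q x hx i).2),
      (Classical.choose_spec
        (stage_split h1 s₀ (q + i) (approx q x hx i).1 (approx q x hx i).2)).1⟩

lemma approx_sub (q : ℕ) (x : S) (hx : x ∈ (stage h1 s₀ q).J.ideal) (i : ℕ) :
    (approx h1 s₀ q x hx i).1 - (approx h1 s₀ q x hx (i + 1)).1 ∈ maximalIdeal S ^ (q + i + 1) :=
  (Classical.choose_spec
    (stage_split h1 s₀ (q + i) (approx h1 s₀ q x hx i).1 (approx h1 s₀ q x hx i).2)).2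

lemma approx_sub_le (q : ℕ) (x : S) (hx : x ∈ (stage h1 s₀ q).J.ideal) {a b : ℕ} (hab : a ≤ b) :
    (approx h1 s₀ q x hx a).1 - (approx h1 s₀ q x hx b).1 ∈ maximalIdeal S ^ (q + a + 1) := by
  induction b, hab using Nat.le_induction with
  | base => simp
  | succ n hn ih =>
    have h2 : (approx h1 s₀ q x hx n).1 - (approx h1 s₀ q x hx (n + 1)).1 ∈
        maximalIdeal S ^ (q + a + 1) :=
      Ideal.pow_le_pow_right (by omega) (approx_sub h1 s₀ q x hx n)
    have := Ideal.add_mem _ ih h2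
    simpa using this

variable [IsPrecomplete (maximalIdeal S) S]

theorem stage_le_jinf_sup (q : ℕ) :
    (stage h1 s₀ q).J.ideal ≤ Jinf h1 s₀ ⊔ maximalIdeal S ^ (q + 1) := by
  intro x hx
  have hcauchy : ∀ {m n : ℕ}, m ≤ n → (approx h1 s₀ q x hx m).1 ≡ (approx h1 s₀ q x hx n).1
      [SMOD (maximalIdeal S ^ m • ⊤ : Submodule S S)] := by
    intro m n hmn
    rw [SModEq.sub_mem, smul_eq_mul, Ideal.mul_top]
    exact Ideal.pow_le_pow_right (by omega) (approx_sub_le h1 s₀ q x hx hmn)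
  obtain ⟨L, hL⟩ := IsPrecomplete.prec ‹_› hcauchy
  have hL' : ∀ n, (approx h1 s₀ q x hx n).1 - L ∈ maximalIdeal S ^ n := by
    intro n
    have := hL n
    rwa [SModEq.sub_mem, smul_eq_mul, Ideal.mul_top] at this
  have hLmem : L ∈ Jinf h1 s₀ := by
    rw [Jinf, Submodule.mem_iInf]
    intro j
    obtain ⟨c, hc⟩ := (stage h1 s₀ j).J.isOpen
    have e1 : (approx h1 s₀ q x hx (j + c)).1 ∈ (stage h1 s₀ j).J.ideal :=
      stage_le h1 s₀ (by omega) (approx h1 s₀ q x hx (j + c)).2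
    have e2 : (approx h1 s₀ q x hx (j + c)).1 - L ∈ (stage h1 s₀ j).J.ideal :=
      hc (Ideal.pow_le_pow_right (by omega) (hL' (j + c)))
    have := Ideal.sub_mem _ e1 e2
    simpa using this
  refine Submodule.mem_sup.2 ⟨L, hLmem, x - L, ?_, by ring⟩
  have e1 := approx_sub_le h1 s₀ q x hx (Nat.zero_le (q + 1))
  have e2 := hL' (q + 1)
  have e3 : (approx h1 s₀ q x hx 0).1 = x := rfl
  rw [e3, add_zero] at e1
  have := Ideal.add_mem _ e1 e2
  simpa using this

end Limit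

section FamilyS

variable {S : Type u} [CommRing S] [Algebra Λ S] [IsLocalRing S] [IsNoetherianRing S]
  {resS : S →ₐ[Λ] k} {hres : Function.Surjective resS} {F : Art Λ k ⥤ Type v}
  (h1 : S1 F) (s₀ : Stage resS hres F)

lemma stage_indep {A : Art Λ k} (φ : HomSet S resS A) (q q' : ℕ)
    (hq : (stage h1 s₀ q).J.ideal ≤ RingHom.ker φ.1)
    (hq' : (stage h1 s₀ q').J.ideal ≤ RingHom.ker φ.1) :
    F.map (sqLift resS hres φ hq) (stage h1 s₀ q).ξ =
      F.map (sqLift resS hres φ hq') (stage h1 s₀ q').ξ := by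
  wlog h : q ≤ q' generalizing q q'
  · exact (this q' q hq' hq (le_of_not_ge h)).symm
  rw [← stage_map h1 s₀ h, ← map_comp_apply', sqMap_sqLift]

variable [IsPrecomplete (maximalIdeal S) S]

lemma exists_stage_le_ker {A : Art Λ k} (φ : HomSet S resS A)
    (hφ : Jinf h1 s₀ ≤ RingHom.ker φ.1) : ∃ q, (stage h1 s₀ q).J.ideal ≤ RingHom.ker φ.1 := by
  obtain ⟨c, hc⟩ := art_maximalIdeal_pow_eq_bot A
  exact ⟨c, (stage_le_jinf_sup h1 s₀ c).trans (sup_le hφ
    ((Ideal.pow_le_pow_right (Nat.le_succ c)).trans (homSet_pow_le_ker hres φ hc)))⟩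

/-- The family, on maps out of `S` killing `J∞`. -/
noncomputable def xiS {A : Art Λ k} (φ : HomSet S resS A) (hφ : Jinf h1 s₀ ≤ RingHom.ker φ.1) :
    F.obj A :=
  F.map (sqLift resS hres φ (Classical.choose_spec (exists_stage_le_ker h1 s₀ φ hφ)))
    (stage h1 s₀ (Classical.choose (exists_stage_le_ker h1 s₀ φ hφ))).ξ

lemma xiS_eq {A : Art Λ k} (φ : HomSet S resS A) (hφ : Jinf h1 s₀ ≤ RingHom.ker φ.1) (q : ℕ)
    (hq : (stage h1 s₀ q).J.ideal ≤ RingHom.ker φ.1) :
    xiS h1 s₀ φ hφ = F.map (sqLift resS hres φ hq) (stage h1 s₀ q).ξ :=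
  stage_indep h1 s₀ φ _ _ _ _

lemma xiS_map {A B : Art Λ k} (f : A ⟶ B) (φ : HomSet S resS A)
    (hφ : Jinf h1 s₀ ≤ RingHom.ker φ.1) :
    xiS h1 s₀ (HomSet.map f φ) (hφ.trans (ker_le_ker_map f φ)) = F.map f (xiS h1 s₀ φ hφ) := by
  obtain ⟨q, hq⟩ := exists_stage_le_ker h1 s₀ φ hφ
  rw [xiS_eq h1 s₀ φ hφ q hq, xiS_eq h1 s₀ (HomSet.map f φ) _ q (hq.trans (ker_le_ker_map f φ)),
    ← map_comp_apply', sqLift_comp]

end FamilyS

section LiftS

variable {S : Type u} [CommRing S] [Algebra Λ S] [IsLocalRing S] [IsNoetherianRing S]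
  {resS : S →ₐ[Λ] k} {hres : Function.Surjective resS} {F : Art Λ k ⥤ Type v}
  (h1 : S1 F) (s₀ : Stage resS hres F) [IsPrecomplete (maximalIdeal S) S]

/-- The lifting property of the constructed family along small extensions. -/
theorem xiS_lift
    (hsm : ∀ ⦃B A : Art Λ k⦄ (μ : B ⟶ A), Function.Surjective μ → ∀ φ : HomSet S resS A,
      ∃ ψ : HomSet S resS B, HomSet.map μ ψ = φ)
    ⦃B A : Art Λ k⦄ (μ : B ⟶ A) (hμ : IsSmallExt μ) (φ : HomSet S resS A)
    (hφ : Jinf h1 s₀ ≤ RingHom.ker φ.1) (y : F.obj B) (hy : F.map μ y = xiS h1 s₀ φ hφ) :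
    ∃ ψ : HomSet S resS B, Jinf h1 s₀ ≤ RingHom.ker ψ.1 ∧ HomSet.map μ ψ = φ := by
  obtain ⟨q, hq⟩ := exists_stage_le_ker h1 s₀ φ hφ
  obtain ⟨σ, hσ⟩ := hsm μ hμ.1 φ
  have hσa : ∀ a, μ (σ.1 a) = φ.1 a := fun a => congrArg (fun t : HomSet S resS A => t.1 a) hσ
  obtain ⟨hsurj, hne, ⟨t, ht⟩, hkill⟩ := hμ
  have hσJ : ∀ a ∈ (stage h1 s₀ q).J.ideal, σ.1 a ∈ RingHom.ker μ.toAlgHom := fun a ha => by
    rw [RingHom.mem_ker]
    exact (hσa a).trans (hq ha)
  have hkill' : ∀ m ∈ maximalIdeal B, ∀ d ∈ RingHom.ker μ.toAlgHom, m * d = 0 := by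
    intro m hm d hd
    have : m * d ∈ maximalIdeal B * RingHom.ker μ.toAlgHom := Ideal.mul_mem_mul hm hd
    rwa [hkill] at this
  let I : Ideal S := (stage h1 s₀ q).J.ideal ⊓ RingHom.ker σ.1
  have hI1 : maximalIdeal S * (stage h1 s₀ q).J.ideal ≤ I := by
    refine le_inf Ideal.mul_le_right ?_
    rw [Ideal.mul_le]
    intro a ha b hb
    change σ.1 (a * b) = 0
    rw [map_mul]
    exact hkill' _ (homSet_mem_maximalIdeal hres σ ha) _ (hσJ b hb)
  have hI2 : I ≤ (stage h1 s₀ q).J.ideal := inf_le_left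
  let Io : OpenIdeal S := (stage h1 s₀ q).J.ofLE I hI1 hI2
  have hIσ : Io.ideal ≤ RingHom.ker σ.1 := inf_le_right
  have hmem : Io ∈ LiftSet resS hres F (stage h1 s₀ q).J (stage h1 s₀ q).ξ := by
    refine ⟨hI1, hI2, ?_⟩
    by_cases hcase : (stage h1 s₀ q).J.ideal ≤ RingHom.ker σ.1
    · have hle : (stage h1 s₀ q).J.ideal ≤ Io.ideal := le_inf le_rfl hcase
      refine ⟨F.map (sqMap resS hres hle) (stage h1 s₀ q).ξ, ?_⟩
      rw [← map_comp_apply', sqMap_comp, sqMap_refl, map_id_apply']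
    · obtain ⟨x, hxJ, hxσ⟩ := SetLike.not_le_iff_exists.1 hcase
      have hxσ' : σ.1 x ≠ 0 := hxσ
      have hfp : IsFibreProd (sqMap resS hres (show Io.ideal ≤ (stage h1 s₀ q).J.ideal from hI2))
          (sqLift resS hres σ hIσ) (sqLift resS hres φ hq) μ := by
        refine ⟨?_, ?_, ?_⟩
        · apply sq_hom_ext
          intro a
          exact (hσa a).symm
        · intro b₁ b₂ e₁ e₂
          obtain ⟨a₁, rfl⟩ := Ideal.Quotient.mk_surjective b₁
          obtain ⟨a₂, rfl⟩ := Ideal.Quotient.mk_surjective b₂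
          rw [sqMap_apply, sqMap_apply] at e₁
          rw [sqLift_apply, sqLift_apply] at e₂
          apply Ideal.Quotient.eq.2
          refine ⟨Ideal.Quotient.eq.1 e₁, ?_⟩
          change σ.1 (a₁ - a₂) = 0
          rw [map_sub, e₂, sub_self]
        · intro a' b hab
          obtain ⟨a, rfl⟩ := Ideal.Quotient.mk_surjective a'
          rw [sqLift_apply] at hab
          have hd : σ.1 a - b ∈ RingHom.ker μ.toAlgHom := by
            rw [RingHom.mem_ker, map_sub, sub_eq_zero]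
            exact (hσa a).trans hab
          obtain ⟨c, hcJ, hcσ⟩ : ∃ c ∈ (stage h1 s₀ q).J.ideal, σ.1 c = σ.1 a - b := by
            have hx1 := hσJ x hxJ
            rw [ht] at hx1 hd
            obtain ⟨u, hu⟩ := Ideal.mem_span_singleton'.1 hx1
            obtain ⟨v, hv⟩ := Ideal.mem_span_singleton'.1 hd
            have htker : t ∈ RingHom.ker μ.toAlgHom := by
              rw [ht]; exact Ideal.mem_span_singleton_self t
            have huu : IsUnit u := by
              by_contra hnu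
              apply hxσ'
              rw [← hu]
              exact hkill' u ((IsLocalRing.mem_maximalIdeal u).2 hnu) t htker
            obtain ⟨u', rfl⟩ := huu
            obtain ⟨s, hs⟩ := hres (B.res (v * ↑u'⁻¹))
            have hsB : σ.1 s - v * ↑u'⁻¹ ∈ maximalIdeal B := by
              rw [Art.mem_maximalIdeal_iff, map_sub, sub_eq_zero, ← hs]
              exact congrArg (fun g : S →ₐ[Λ] k => g s) σ.2
            refine ⟨s * x, Ideal.mul_mem_left _ _ hxJ, ?_⟩
            have h0 := hkill' _ hsB _ (hσJ x hxJ)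
            rw [map_mul, ← hv]
            have : σ.1 s * σ.1 x = (σ.1 s - v * ↑u'⁻¹) * σ.1 x + v * ↑u'⁻¹ * σ.1 x := by ring
            rw [this, h0, zero_add, ← hu, mul_assoc, ← mul_assoc (↑u'⁻¹ : B), Units.inv_mul,
              one_mul]
          refine ⟨Ideal.Quotient.mk Io.ideal (a - c), ?_, ?_⟩
          · rw [sqMap_apply]
            apply Ideal.Quotient.eq.2
            simpa using (stage h1 s₀ q).J.ideal.neg_mem hcJ
          · rw [sqLift_apply, map_sub, hcσ]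
            ring
      have hcompat : F.map (sqLift resS hres φ hq) (stage h1 s₀ q).ξ = F.map μ y := by
        rw [hy, xiS_eq h1 s₀ φ hφ q hq]
      obtain ⟨z, hz1, -⟩ := (cmp_surjective_iff F hfp).1 (h1 _ _ _ _ hfp hsurj) _ _ hcompat
      exact ⟨z, hz1⟩
  have hfin := stage_min h1 s₀ q Io hmem
  exact ⟨σ, (jinf_le h1 s₀ (q + 1)).trans (hfin.trans hIσ), hσ⟩

end LiftS

section Package

variable {S : Type u} [CommRing S] [Algebra Λ S] [IsLocalRing S] [IsNoetherianRing S]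
  [IsAdicComplete (maximalIdeal S) S]
  {resS : S →ₐ[Λ] k} {hres : Function.Surjective resS} {F : Art Λ k ⥤ Type v}
  (h1 : S1 F) (s₀ : Stage resS hres F)

lemma jinf_le_max : Jinf h1 s₀ ≤ maximalIdeal S := (jinf_le h1 s₀ 0).trans (stage h1 s₀ 0).J.le

/-- The coefficient ring `S/J∞` of the constructed family. -/
noncomputable def hullRing : CRing Λ k :=
  haveI : Nontrivial (S ⧸ Jinf h1 s₀) :=
    Ideal.Quotient.nontrivial_iff.2
      (ne_top_of_le_ne_top (maximalIdeal.isMaximal S).ne_top (jinf_le_max h1 s₀))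
  haveI : IsLocalRing (S ⧸ Jinf h1 s₀) :=
    IsLocalRing.of_surjective' (Ideal.Quotient.mk (Jinf h1 s₀)) Ideal.Quotient.mk_surjective
  { carrier := S ⧸ Jinf h1 s₀
    res := Ideal.Quotient.liftₐ (Jinf h1 s₀) resS
      (fun a ha => (resS_eq_zero_iff resS hres a).2 (jinf_le_max h1 s₀ ha))
    res_surjective := fun c => by
      obtain ⟨a, ha⟩ := hres c
      exact ⟨Ideal.Quotient.mk (Jinf h1 s₀) a, ha⟩
    isAdicComplete := isAdicComplete_quotient _ }

/-- maps out of `S/J∞` as maps out of `S` -/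
noncomputable def hullPull {A : Art Λ k}
    (φ : HomSet (hullRing h1 s₀).carrier (hullRing h1 s₀).res A) : HomSet S resS A :=
  ⟨φ.1.comp (Ideal.Quotient.mkₐ Λ (Jinf h1 s₀)), by
    rw [← AlgHom.comp_assoc, φ.2]
    exact Ideal.Quotient.liftₐ_comp (Jinf h1 s₀) resS _⟩

lemma hullPull_apply {A : Art Λ k}
    (φ : HomSet (hullRing h1 s₀).carrier (hullRing h1 s₀).res A) (a : S) :
    (hullPull h1 s₀ φ).1 a = φ.1 (Ideal.Quotient.mk (Jinf h1 s₀) a) := rfl

lemma hullPull_ker {A : Art Λ k}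
    (φ : HomSet (hullRing h1 s₀).carrier (hullRing h1 s₀).res A) :
    Jinf h1 s₀ ≤ RingHom.ker (hullPull h1 s₀ φ).1 := by
  intro a ha
  change φ.1 (Ideal.Quotient.mk (Jinf h1 s₀) a) = 0
  rw [Ideal.Quotient.eq_zero_iff_mem.2 ha]
  exact map_zero φ.1

lemma hullPull_injective {A : Art Λ k}
    {φ ψ : HomSet (hullRing h1 s₀).carrier (hullRing h1 s₀).res A}
    (h : hullPull h1 s₀ φ = hullPull h1 s₀ ψ) : φ = ψ := by
  apply homSet_ext
  intro r
  obtain ⟨a, rfl⟩ := Ideal.Quotient.mk_surjective r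
  exact congrArg (fun t : HomSet S resS A => t.1 a) h

lemma hullPull_map {A B : Art Λ k} (f : A ⟶ B)
    (φ : HomSet (hullRing h1 s₀).carrier (hullRing h1 s₀).res A) :
    hullPull h1 s₀ (HomSet.map f φ) = HomSet.map f (hullPull h1 s₀ φ) :=
  homSet_ext fun _ => rfl

/-- maps out of `S` killing `J∞` as maps out of `S/J∞` -/
noncomputable def hullPush {A : Art Λ k} (ψ : HomSet S resS A)
    (h : Jinf h1 s₀ ≤ RingHom.ker ψ.1) :
    HomSet (hullRing h1 s₀).carrier (hullRing h1 s₀).res A :=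
  ⟨Ideal.Quotient.liftₐ (Jinf h1 s₀) ψ.1 (fun a ha => h ha), by
    apply AlgHom.ext
    intro x
    obtain ⟨a, rfl⟩ := Ideal.Quotient.mk_surjective x
    exact congrArg (fun g : S →ₐ[Λ] k => g a) ψ.2⟩

lemma hullPull_hullPush {A : Art Λ k} (ψ : HomSet S resS A)
    (h : Jinf h1 s₀ ≤ RingHom.ker ψ.1) : hullPull h1 s₀ (hullPush h1 s₀ ψ h) = ψ :=
  homSet_ext fun _ => rfl

/-- The constructed family over `S/J∞`. -/
noncomputable def hullFamily : Family (hullRing h1 s₀).carrier (hullRing h1 s₀).res F where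
  app A φ := xiS h1 s₀ (hullPull h1 s₀ φ) (hullPull_ker h1 s₀ φ)
  natural f φ := by
    rw [← xiS_map]
    rfl

lemma hullFamily_app_eq {A : Art Λ k}
    (φ : HomSet (hullRing h1 s₀).carrier (hullRing h1 s₀).res A)
    (h : s₀.J.ideal ≤ RingHom.ker (hullPull h1 s₀ φ).1) :
    (hullFamily h1 s₀).app A φ = F.map (sqLift resS hres (hullPull h1 s₀ φ) h) s₀.ξ :=
  xiS_eq h1 s₀ _ (hullPull_ker h1 s₀ φ) 0 h

theorem hullFamily_lift
    (hsm : ∀ ⦃B A : Art Λ k⦄ (μ : B ⟶ A), Function.Surjective μ → ∀ φ : HomSet S resS A,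
      ∃ ψ : HomSet S resS B, HomSet.map μ ψ = φ)
    ⦃B A : Art Λ k⦄ (μ : B ⟶ A) (hμ : IsSmallExt μ)
    (φ : HomSet (hullRing h1 s₀).carrier (hullRing h1 s₀).res A) (y : F.obj B)
    (hy : F.map μ y = (hullFamily h1 s₀).app A φ) :
    ∃ ψ : HomSet (hullRing h1 s₀).carrier (hullRing h1 s₀).res B, HomSet.map μ ψ = φ := by
  obtain ⟨ψ, hψ1, hψ2⟩ := xiS_lift h1 s₀ hsm μ hμ (hullPull h1 s₀ φ) (hullPull_ker h1 s₀ φ) y hy
  refine ⟨hullPush h1 s₀ ψ hψ1, ?_⟩
  apply hullPull_injective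
  rw [hullPull_map, hullPull_hullPush, hψ2]

variable [IsNoetherianRing Λ] [Module.Finite Λ k]

/-- The constructed family is versal when the starting element is surjective on tangent spaces. -/
theorem hullFamily_isVersal (h0 : H0 F) (h2 : Heps F)
    (hsm : ∀ ⦃B A : Art Λ k⦄ (μ : B ⟶ A), Function.Surjective μ → ∀ φ : HomSet S resS A,
      ∃ ψ : HomSet S resS B, HomSet.map μ ψ = φ)
    (htan : ∀ v : F.obj (dual Λ k), ∃ g : SQ resS hres s₀.J ⟶ dual Λ k, F.map g s₀.ξ = v) :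
    IsVersal (hullFamily h1 s₀) := by
  rw [isVersal_iff_tangent_surjective_and_exists_lift h0 h1 h2]
  refine ⟨?_, fun B A μ hμ φ y hy => hullFamily_lift h1 s₀ hsm μ hμ φ y hy⟩
  intro v
  obtain ⟨g, hg⟩ := htan v
  have hker : Jinf h1 s₀ ≤ RingHom.ker (HomSet.map g (sqMk resS hres s₀.J)).1 :=
    ((jinf_le h1 s₀ 0).trans (ker_sqMk s₀.J).ge).trans (ker_le_ker_map g _)
  refine ⟨hullPush h1 s₀ (HomSet.map g (sqMk resS hres s₀.J)) hker, ?_⟩
  change (hullFamily h1 s₀).app _ _ = v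
  have hk2 : s₀.J.ideal ≤ RingHom.ker (hullPull h1 s₀ (hullPush h1 s₀
      (HomSet.map g (sqMk resS hres s₀.J)) hker)).1 := by
    rw [hullPull_hullPush]
    exact (ker_sqMk s₀.J).ge.trans (ker_le_ker_map g _)
  rw [hullFamily_app_eq h1 s₀ _ hk2, ← hg]
  have : sqLift resS hres (hullPull h1 s₀ (hullPush h1 s₀
      (HomSet.map g (sqMk resS hres s₀.J)) hker)) hk2 = g := sq_hom_ext fun _ => rfl
  rw [this]

/-- The constructed family is injective on tangent spaces when all tangent vectors of `S` kill `J₀`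
and the starting element is injective on tangent spaces. -/
theorem hullFamily_tangent_injective
    (hkill : ∀ ψ : HomSet S resS (dual Λ k), s₀.J.ideal ≤ RingHom.ker ψ.1)
    (hinj : ∀ g g' : SQ resS hres s₀.J ⟶ dual Λ k, F.map g s₀.ξ = F.map g' s₀.ξ → g = g') :
    Function.Injective ((hullFamily h1 s₀).app (dual Λ k)) := by
  intro φ₁ φ₂ h
  rw [hullFamily_app_eq h1 s₀ φ₁ (hkill _), hullFamily_app_eq h1 s₀ φ₂ (hkill _)] at h
  have := hinj _ _ h
  apply hullPull_injective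
  rw [← map_sqLift_sqMk (hres := hres) (hullPull h1 s₀ φ₁) (hkill _),
    ← map_sqLift_sqMk (hres := hres) (hullPull h1 s₀ φ₂) (hkill _), this]

end Package

section Wrapper

variable {S : Type u} [CommRing S] [Algebra Λ S] [IsLocalRing S] [IsNoetherianRing S]
  [IsAdicComplete (maximalIdeal S) S]
  {resS : S →ₐ[Λ] k} (hres : Function.Surjective resS) {F : Art Λ k ⥤ Type v}
  [IsNoetherianRing Λ] [Module.Finite Λ k]

include hres in
/-- Schlessinger's construction, starting from a surjection `S → E` and an element of `F(E)` which is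
surjective on tangent spaces. -/
theorem exists_versal_from (h0 : H0 F) (h1 : S1 F) (h2 : Heps F)
    (hsm : ∀ ⦃B A : Art Λ k⦄ (μ : B ⟶ A), Function.Surjective μ → ∀ φ : HomSet S resS A,
      ∃ ψ : HomSet S resS B, HomSet.map μ ψ = φ)
    (E : Art Λ k) (φ₀ : HomSet S resS E) (hφ₀ : Function.Surjective φ₀.1) (ξE : F.obj E)
    (htan : ∀ v : F.obj (dual Λ k), ∃ g : E ⟶ dual Λ k, F.map g ξE = v) :
    ∃ (R : CRing Λ k) (ξ : Family R.carrier R.res F), IsVersal ξ ∧
      ((∀ ψ : HomSet S resS (dual Λ k), ∃ g : E ⟶ dual Λ k, HomSet.map g φ₀ = ψ) →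
       (∀ g g' : E ⟶ dual Λ k, F.map g ξE = F.map g' ξE → g = g') →
       Function.Injective (ξ.app (dual Λ k))) := by
  let J₀ : OpenIdeal S := kerOpen hres φ₀
  let e : SQ resS hres J₀ ⟶ E := sqLift resS hres φ₀ (le_refl _)
  have hebij : Function.Bijective e := by
    constructor
    · intro x y hxy
      obtain ⟨a, rfl⟩ := Ideal.Quotient.mk_surjective x
      obtain ⟨b, rfl⟩ := Ideal.Quotient.mk_surjective y
      rw [sqLift_apply, sqLift_apply] at hxy
      apply Ideal.Quotient.eq.2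
      change φ₀.1 (a - b) = 0
      rw [map_sub, hxy, sub_self]
    · intro y
      obtain ⟨a, rfl⟩ := hφ₀ y
      exact ⟨Ideal.Quotient.mk J₀.ideal a, rfl⟩
  haveI : IsIso e := art_isIso_of_bijective e hebij
  let s₀ : Stage resS hres F := ⟨J₀, F.map (inv e) ξE⟩
  refine ⟨hullRing h1 s₀, hullFamily h1 s₀, ?_, ?_⟩
  · apply hullFamily_isVersal h1 s₀ h0 h2 hsm
    intro v
    obtain ⟨g, hg⟩ := htan v
    refine ⟨e ≫ g, ?_⟩
    change F.map (e ≫ g) (F.map (inv e) ξE) = v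
    rw [← map_comp_apply', IsIso.inv_hom_id_assoc, hg]
  · intro hkill hinj
    apply hullFamily_tangent_injective h1 s₀
    · intro ψ
      obtain ⟨g, rfl⟩ := hkill ψ
      exact ker_le_ker_map g φ₀
    · intro g g' h
      change F.map g (F.map (inv e) ξE) = F.map g' (F.map (inv e) ξE) at h
      rw [← map_comp_apply', ← map_comp_apply'] at h
      exact (cancel_epi (inv e)).1 (hinj _ _ h)

end Wrapper

end Groth.Agent.H6
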