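import Groth.Agent.Lib.Helper6.ArtFunEssential
import Groth.Agent.Lib.Helper6.ArtFunDer

/-!
# helper6: essential surjections and Kähler differentials in `Art Λ k`
-/

set_option autoImplicit false
set_option linter.style.haveILetI false
set_option linter.unusedTactic false
set_option linter.unusedVariables false
set_option linter.unusedSectionVars false

universe u v

open CategoryTheory ArtFun ArtFun.Art

namespace Groth.Agent.H6

open IsLocalRing
open scoped TensorProduct

variable {Λ : Type u} {k : Type u} [CommRing Λ] [Field k] [Algebra Λ k]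

section Sub

variable [IsNoetherianRing Λ] [Module.Finite Λ k]

/-- a `Λ`-subalgebra of an object of `Art Λ k` surjecting onto `k` is an object -/
theorem art_exists_of_subalgebra (B : Art Λ k) (C : Subalgebra Λ B)
    (hC : ∀ x : k, ∃ c ∈ C, B.res c = x) :
    ∃ (C' : Art Λ k) (g : C' ⟶ B), Set.range g = (C : Set B) := by
  classical
  haveI : Module.Finite Λ B := art_finite B
  haveI : IsNoetherian Λ B := isNoetherian_of_isNoetherianRing_of_finite Λ B
  haveI : IsNoetherian Λ C := isNoetherian_of_injective C.val.toLinearMap Subtype.val_injective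
  haveI : IsNoetherianRing C := isNoetherian_of_tower Λ (inferInstance : IsNoetherian Λ C)
  haveI : Module.Finite C B := Module.Finite.of_restrictScalars_finite Λ C B
  haveI : Algebra.IsIntegral C B := inferInstance
  have hint : (algebraMap C B).IsIntegral := algebraMap_isIntegral_iff.mpr inferInstance
  haveI hlh : IsLocalHom (algebraMap C B) := hint.isLocalHom Subtype.val_injective
  haveI : Nontrivial C := by
    refine ⟨⟨0, 1, fun h => ?_⟩⟩
    have := congrArg (Subtype.val) h
    exact zero_ne_one this
  haveI hloc : IsLocalRing C := (algebraMap C B).domain_isLocalRing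
  have hm : ∀ c : C, c ∈ maximalIdeal C → (c : B) ∈ maximalIdeal B := by
    intro c hc
    rw [IsLocalRing.mem_maximalIdeal, mem_nonunits_iff] at hc ⊢
    intro hu
    exact hc (isUnit_of_map_unit (algebraMap C B) c hu)
  have hnil : IsNilpotent (maximalIdeal C) := by
    obtain ⟨n, hn⟩ := art_maximalIdeal_pow_eq_bot B
    refine ⟨n, ?_⟩
    rw [Ideal.zero_eq_bot, eq_bot_iff]
    intro s hs
    have h1 : (algebraMap C B) s ∈ (maximalIdeal B) ^ n := by
      have := Ideal.mem_map_of_mem (algebraMap C B) hs
      rw [Ideal.map_pow] at this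
      refine Ideal.pow_right_mono ?_ _ this
      rw [Ideal.map_le_iff_le_comap]
      intro c hc
      exact hm c hc
    rw [hn, Ideal.mem_bot] at h1
    rw [Ideal.mem_bot]
    exact Subtype.ext h1
  haveI : IsArtinianRing C := (isArtinianRing_iff_isNilpotent_maximalIdeal C).mpr hnil
  let C' : Art Λ k :=
    { carrier := C
      res := B.res.comp C.val
      res_surjective := by
        intro x
        obtain ⟨c, hc, hx⟩ := hC x
        exact ⟨⟨c, hc⟩, hx⟩ }
  refine ⟨C', ⟨C.val, rfl⟩, ?_⟩
  ext b
  constructor
  · rintro ⟨c, rfl⟩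
    exact c.2
  · intro hb
    exact ⟨⟨b, hb⟩, rfl⟩

end Sub

/-! ### derivations into `k` -/

section Der

/-- the `A`-module structure on `k` given by the augmentation -/
@[reducible] def artAlg (A : Art Λ k) : Algebra A k := A.res.toRingHom.toAlgebra

lemma art_isScalarTower (A : Art Λ k) :
    letI := artAlg A
    IsScalarTower Λ A k := by
  letI := artAlg A
  exact IsScalarTower.of_algebraMap_eq (fun r => (A.res.commutes r).symm)

lemma art_smul_def (A : Art Λ k) (a : A) (c : k) :
    letI := artAlg A
    a • c = A.res a * c := by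
  letI := artAlg A
  rfl

/-- composing a derivation with a morphism -/
noncomputable def compDer {A B : Art Λ k} (f : B ⟶ A) :
    letI := artAlg A
    letI := artAlg B
    haveI := art_isScalarTower A
    haveI := art_isScalarTower B
    Derivation Λ A k →ₗ[k] Derivation Λ B k := by
  letI := artAlg A
  letI := artAlg B
  haveI := art_isScalarTower A
  haveI := art_isScalarTower B
  exact
  { toFun := fun D =>
      { toLinearMap := D.toLinearMap ∘ₗ f.toAlgHom.toLinearMap
        map_one_eq_zero' := by
          change D (f.toAlgHom 1) = 0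
          rw [map_one, D.map_one_eq_zero]
        leibniz' := by
          intro x y
          change D (f.toAlgHom (x * y)) = x • D (f.toAlgHom y) + y • D (f.toAlgHom x)
          rw [map_mul, D.leibniz]
          change A.res (f x) * _ + A.res (f y) * _ = B.res x * _ + B.res y * _
          rw [Art.res_app f, Art.res_app f] }
    map_add' := by
      intro D D'
      ext b
      rfl
    map_smul' := by
      intro c D
      ext b
      rfl }

lemma compDer_apply {A B : Art Λ k} (f : B ⟶ A) :
    letI := artAlg A
    letI := artAlg B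
    haveI := art_isScalarTower A
    haveI := art_isScalarTower B
    ∀ (D : Derivation Λ A k) (b : B), compDer f D b = D (f b) := by
  intro D b
  rfl

lemma compDer_injective {A B : Art Λ k} (f : B ⟶ A) (hf : Function.Surjective f) :
    Function.Injective (compDer f) := by
  letI := artAlg A
  letI := artAlg B
  haveI := art_isScalarTower A
  haveI := art_isScalarTower B
  intro D D' h
  ext a
  obtain ⟨b, rfl⟩ := hf a
  have := congrArg (fun E : Derivation Λ B k => E b) h
  exact this

/-- a derivation killing `ker f` descends along a surjection `f` -/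
lemma compDer_surjective_of_kills {A B : Art Λ k} (f : B ⟶ A) (hf : Function.Surjective f) :
    letI := artAlg A
    letI := artAlg B
    haveI := art_isScalarTower A
    haveI := art_isScalarTower B
    ∀ (D : Derivation Λ B k), (∀ b : B, f b = 0 → D b = 0) → ∃ D' : Derivation Λ A k,
      compDer f D' = D := by
  letI := artAlg A
  letI := artAlg B
  haveI := art_isScalarTower A
  haveI := art_isScalarTower B
  intro D hD
  have hwd : ∀ b b' : B, f b = f b' → D b = D b' := by
    intro b b' h
    have : D (b - b') = 0 := hD _ (by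
      change f.toAlgHom (b - b') = 0
      rw [map_sub]; exact sub_eq_zero.2 h)
    rw [map_sub, sub_eq_zero] at this
    exact this
  let s : A → B := Function.surjInv hf
  have hs : ∀ a, f (s a) = a := Function.surjInv_eq hf
  have key : ∀ b : B, D (s (f b)) = D b := fun b => hwd _ _ (hs (f b))
  have hs_add : ∀ a a' : A, f (s a + s a') = a + a' := by
    intro a a'
    change f.toAlgHom (s a + s a') = _
    rw [map_add]
    change f (s a) + f (s a') = _
    rw [hs, hs]
  have hs_smul : ∀ (r : Λ) (a : A), f (r • s a) = r • a := by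
    intro r a
    change f.toAlgHom (r • s a) = _
    rw [map_smul]
    change r • f (s a) = _
    rw [hs]
  have hs_mul : ∀ a a' : A, f (s a * s a') = a * a' := by
    intro a a'
    change f.toAlgHom (s a * s a') = _
    rw [map_mul]
    change f (s a) * f (s a') = _
    rw [hs, hs]
  have hs_one : f (1 : B) = 1 := map_one f.toAlgHom
  let L : A →ₗ[Λ] k :=
    { toFun := fun a => D (s a)
      map_add' := by
        intro a a'
        rw [← map_add]
        apply hwd
        rw [hs, hs_add]
      map_smul' := by
        intro r a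
        rw [RingHom.id_apply, ← D.map_smul]
        apply hwd
        rw [hs, hs_smul] }
  have hL : ∀ a, L a = D (s a) := fun a => rfl
  have h1 : L 1 = 0 := by
    rw [hL, hwd (s 1) 1 (by rw [hs, hs_one]), D.map_one_eq_zero]
  have h2 : ∀ a a' : A, L (a * a') = a • L a' + a' • L a := by
    intro a a'
    rw [hL, hL, hL, hwd (s (a * a')) (s a * s a') (by rw [hs, hs_mul]), D.leibniz]
    change B.res (s a) * _ + B.res (s a') * _ = A.res a * _ + A.res a' * _
    rw [← Art.res_app f (s a), ← Art.res_app f (s a'), hs, hs]
  refine ⟨{ toLinearMap := L, map_one_eq_zero' := h1, leibniz' := h2 }, ?_⟩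
  ext b
  exact key b

end Der

section Ess

variable [IsNoetherianRing Λ] [Module.Finite Λ k]

/-- the kernel of a derivation into `k` which does not vanish at some element of the maximal ideal
is a proper subobject surjecting onto everything modulo that element -/
theorem exists_sub_of_derivation (B : Art Λ k) :
    letI := artAlg B
    haveI := art_isScalarTower B
    ∀ (D : Derivation Λ B k) (b₀ : B), b₀ ∈ maximalIdeal B → D b₀ ≠ 0 →
      ∃ (C : Art Λ k) (g : C ⟶ B), ¬ Function.Surjective g ∧
        ∀ b : B, ∃ (c : C) (u : B), b = g c + u * b₀ := by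
  letI := artAlg B
  haveI := art_isScalarTower B
  intro D b₀ hb₀ hD
  have hres0 : B.res b₀ = 0 := (Art.mem_maximalIdeal_iff B b₀).1 hb₀
  let C : Subalgebra Λ B :=
    { carrier := {b | D b = 0}
      mul_mem' := by
        intro a b ha hb
        change D (a * b) = 0
        have ha' : D a = 0 := ha
        have hb' : D b = 0 := hb
        rw [D.leibniz, ha', hb', smul_zero, smul_zero, add_zero]
      add_mem' := by
        intro a b ha hb
        change D (a + b) = 0
        have ha' : D a = 0 := ha
        have hb' : D b = 0 := hb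
        rw [map_add, ha', hb', add_zero]
      algebraMap_mem' := by
        intro r
        change D (algebraMap Λ B r) = 0
        exact D.map_algebraMap r }
  have hCmem : ∀ b : B, b ∈ C ↔ D b = 0 := fun b => Iff.rfl
  have hdecomp : ∀ b : B, ∃ u : B, b - u * b₀ ∈ C := by
    intro b
    obtain ⟨u, hu⟩ := B.res_surjective (D b / D b₀)
    refine ⟨u, ?_⟩
    rw [hCmem, map_sub, D.leibniz]
    change D b - (B.res u * D b₀ + B.res b₀ * D u) = 0
    rw [hu, hres0, zero_mul, add_zero, div_mul_cancel₀ _ hD, sub_self]
  have hC : ∀ x : k, ∃ c ∈ C, B.res c = x := by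
    intro x
    obtain ⟨b, hb⟩ := B.res_surjective x
    obtain ⟨u, hu⟩ := hdecomp b
    refine ⟨b - u * b₀, hu, ?_⟩
    rw [map_sub, map_mul, hres0, mul_zero, sub_zero, hb]
  obtain ⟨C', g, hg⟩ := art_exists_of_subalgebra B C hC
  refine ⟨C', g, ?_, ?_⟩
  · intro hsurj
    obtain ⟨c, hc⟩ := hsurj b₀
    have : b₀ ∈ (C : Set B) := by rw [← hg]; exact ⟨c, hc⟩
    exact hD ((hCmem b₀).1 this)
  · intro b
    obtain ⟨u, hu⟩ := hdecomp b
    have : b - u * b₀ ∈ Set.range g := by rw [hg]; exact hu
    obtain ⟨c, hc⟩ := this
    refine ⟨c, u, ?_⟩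
    rw [hc]
    ring

/-- for an essential surjection every derivation into `k` kills the kernel -/
theorem der_kills_ker_of_essential {A B : Art Λ k} (f : B ⟶ A) (hf : Function.Surjective f)
    (hess : ∀ (C : Art Λ k) (g : C ⟶ B), Function.Surjective (g ≫ f) → Function.Surjective g) :
    letI := artAlg B
    haveI := art_isScalarTower B
    ∀ (D : Derivation Λ B k) (b : B), f b = 0 → D b = 0 := by
  letI := artAlg B
  haveI := art_isScalarTower B
  intro D b₀ hb₀
  by_contra hD
  have hm : b₀ ∈ maximalIdeal B := by
    rw [Art.mem_maximalIdeal_iff, ← Art.res_app f, hb₀, map_zero]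
  obtain ⟨C, g, hg, hdec⟩ := exists_sub_of_derivation B D b₀ hm hD
  apply hg
  apply hess
  intro a
  obtain ⟨b, rfl⟩ := hf a
  obtain ⟨c, u, hcu⟩ := hdec b
  refine ⟨c, ?_⟩
  change f (g c) = f b
  rw [hcu]
  change _ = f.toAlgHom (g c + u * b₀)
  rw [map_add, map_mul]
  change _ = f (g c) + f u * f b₀
  rw [hb₀, mul_zero, add_zero]

/-- the dimension of `Ω_{B/Λ} ⊗ k` is that of the space of derivations into `k` -/
theorem finrank_kaehler_eq (B : Art Λ k) :
    letI := artAlg B
    haveI := art_isScalarTower B
    Module.finrank k (k ⊗[B] Ω[B⁄Λ]) = Module.finrank k (Derivation Λ B k) := by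
  letI := artAlg B
  haveI := art_isScalarTower B
  rw [← Subspace.dual_finrank_eq (K := k) (V := k ⊗[B] Ω[B⁄Λ])]
  let e1 : (Ω[B⁄Λ] →ₗ[B] k) ≃ₗ[k] (k ⊗[B] Ω[B⁄Λ] →ₗ[k] k) := LinearMap.liftBaseChangeEquiv k
  let e2 : (Ω[B⁄Λ] →ₗ[B] k) ≃ₗ[k] Derivation Λ B k :=
    { toFun := fun φ => KaehlerDifferential.linearMapEquivDerivation Λ B φ
      invFun := fun D => (KaehlerDifferential.linearMapEquivDerivation Λ B).symm D
      left_inv := fun φ => (KaehlerDifferential.linearMapEquivDerivation Λ B).symm_apply_apply φ
      right_inv := fun D => (KaehlerDifferential.linearMapEquivDerivation Λ B).apply_symm_apply D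
      map_add' := fun φ ψ => map_add _ φ ψ
      map_smul' := by
        intro c φ
        ext b
        rfl }
  exact (e1.symm.trans e2).finrank_eq

theorem essential_iff_kaehler {A B : Art Λ k} (f : B ⟶ A) :
    letI : Algebra B A := f.toAlgHom.toRingHom.toAlgebra
    letI : Algebra A k := A.res.toRingHom.toAlgebra
    letI : Algebra B k := B.res.toRingHom.toAlgebra
    (Function.Surjective f ∧ ∀ (C : Art Λ k) (g : C ⟶ B), Function.Surjective (g ≫ f) →
        Function.Surjective g) ↔
      (Subsingleton (k ⊗[A] Ω[A⁄B]) ∧
        Module.finrank k (k ⊗[B] Ω[B⁄Λ]) = Module.finrank k (k ⊗[A] Ω[A⁄Λ])) := by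
  letI : Algebra B A := f.toAlgHom.toRingHom.toAlgebra
  letI := artAlg A
  letI := artAlg B
  haveI := art_isScalarTower A
  haveI := art_isScalarTower B
  haveI := art_isAdicComplete A
  haveI := art_isAdicComplete B
  haveI : Module.Finite k (Derivation Λ A k) := derivation_finite (Λ := Λ) (k := k) A A.res_surjective
  haveI : Module.Finite k (Derivation Λ B k) := derivation_finite (Λ := Λ) (k := k) B B.res_surjective
  change _ ↔ (Subsingleton (k ⊗[A] Ω[A⁄B]) ∧
        Module.finrank k (k ⊗[B] Ω[B⁄Λ]) = Module.finrank k (k ⊗[A] Ω[A⁄Λ]))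
  rw [finrank_kaehler_eq A, finrank_kaehler_eq B]
  have hk := surjective_iff_kaehler f
  change Function.Surjective f ↔ Subsingleton (k ⊗[A] Ω[A⁄B]) at hk
  rw [← hk]
  constructor
  · rintro ⟨hf, hess⟩
    refine ⟨hf, ?_⟩
    have hbij : Function.Bijective (compDer f) := by
      refine ⟨compDer_injective f hf, fun D => ?_⟩
      exact compDer_surjective_of_kills f hf D (der_kills_ker_of_essential f hf hess D)
    exact (LinearEquiv.ofBijective (compDer f) hbij).finrank_eq.symm
  · rintro ⟨hf, hdim⟩
    refine ⟨hf, fun C g hgf => ?_⟩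
    have hsurj : Function.Surjective (compDer f) :=
      (LinearMap.injective_iff_surjective_of_finrank_eq_finrank hdim.symm).1
        (compDer_injective f hf)
    by_contra hg
    have h := (art_surjective_tfae g).out 0 1
    rw [h] at hg
    have hlt : Ideal.map g.toAlgHom (maximalIdeal C) ⊔ maximalIdeal B ^ 2 < maximalIdeal B :=
      lt_of_le_of_ne (sup_le (art_map_le g) (Ideal.pow_le_self two_ne_zero)) hg
    obtain ⟨x, hxm, hx⟩ := SetLike.exists_of_lt hlt
    letI : Algebra C B := g.toAlgHom.toRingHom.toAlgebra
    letI := artAlg C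
    haveI : IsScalarTower C B k := IsScalarTower.of_algebraMap_eq fun c => (Art.res_app g c).symm
    haveI : IsScalarTower Λ C B := IsScalarTower.of_algebraMap_eq fun r => (g.toAlgHom.commutes r).symm
    haveI := art_isScalarTower C
    have hx' : x ∉ Ideal.map (algebraMap C B) (maximalIdeal C) ⊔ maximalIdeal B ^ 2 := hx
    obtain ⟨D, hD⟩ := DerEx.exists_derivation (R := C) (S := B) (K := k) C.res_surjective hxm hx'
    let DΛ : Derivation Λ B k := D.restrictScalars Λ
    obtain ⟨D', hD'⟩ := hsurj DΛ
    have hD'0 : D' = 0 := by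
      ext a
      obtain ⟨c, hc⟩ := hgf a
      have hc' : f (g c) = a := hc
      rw [← hc', ← compDer_apply f D' (g c), hD']
      change D (algebraMap C B c) = 0
      exact D.map_algebraMap c
    apply hD
    have : DΛ x = 0 := by rw [← hD', hD'0, map_zero]; rfl
    exact this

end Ess

end Groth.Agent.H6
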