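import Groth.Agent.Lib.Helper6.ArtFunHull

/-!
# helper6: the least ideal to which an element lifts (for functors satisfying (S1))
-/

set_option autoImplicit false
set_option linter.style.haveILetI false
set_option linter.unusedTactic false
set_option linter.unusedVariables false

universe u v

open CategoryTheory ArtFun ArtFun.Art

namespace Groth.Agent.H6

open IsLocalRing

variable {Λ : Type u} {k : Type u} [CommRing Λ] [Field k] [Algebra Λ k]

section

variable {B : Art Λ k}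

lemma ker_quotMk (K : Ideal B) (hK : K ≤ maximalIdeal B) :
    RingHom.ker (quotMk B K hK).toAlgHom = K := by
  change RingHom.ker (Ideal.Quotient.mkₐ Λ K) = K
  exact Ideal.Quotient.mkₐ_ker Λ K

/-- transition map `B/J → B/K` for `J ≤ K` -/
noncomputable def quotMap (J K : Ideal B) (hJ : J ≤ maximalIdeal B) (hK : K ≤ maximalIdeal B)
    (h : J ≤ K) : quot B J hJ ⟶ quot B K hK :=
  quotFactor hJ (quotMk B K hK) (by rw [ker_quotMk]; exact h)

lemma quotMap_apply (J K : Ideal B) (hJ : J ≤ maximalIdeal B) (hK : K ≤ maximalIdeal B)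
    (h : J ≤ K) (b : B) :
    quotMap J K hJ hK h (Ideal.Quotient.mk J b) = Ideal.Quotient.mk K b := rfl

lemma quotMap_surjective (J K : Ideal B) (hJ : J ≤ maximalIdeal B) (hK : K ≤ maximalIdeal B)
    (h : J ≤ K) : Function.Surjective (quotMap J K hJ hK h) := by
  intro x
  obtain ⟨b, rfl⟩ := Ideal.Quotient.mk_surjective x
  exact ⟨Ideal.Quotient.mk J b, rfl⟩

lemma quot_hom_ext {J : Ideal B} {hJ : J ≤ maximalIdeal B} {D : Art Λ k}
    {f g : quot B J hJ ⟶ D}
    (h : ∀ b : B, f (Ideal.Quotient.mk J b) = g (Ideal.Quotient.mk J b)) : f = g := by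
  apply Art.hom_ext
  apply AlgHom.ext
  intro x
  obtain ⟨b, rfl⟩ := Ideal.Quotient.mk_surjective x
  exact h b

variable {A : Art Λ k} (p : B ⟶ A)

lemma quotMap_quotFactor (J K : Ideal B) (hJ : J ≤ maximalIdeal B) (hK : K ≤ maximalIdeal B)
    (h : J ≤ K) (hKp : K ≤ RingHom.ker p.toAlgHom) :
    quotMap J K hJ hK h ≫ quotFactor hK p hKp = quotFactor hJ p (h.trans hKp) :=
  quot_hom_ext fun _ => rfl

lemma quot_isFibreProd (I J K : Ideal B) (hI : I ≤ maximalIdeal B) (hJ : J ≤ maximalIdeal B)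
    (hK : K ≤ maximalIdeal B) (hIJ : I ≤ J) (hIK : I ≤ K)
    (hJp : J ≤ RingHom.ker p.toAlgHom) (hKp : K ≤ RingHom.ker p.toAlgHom)
    (hinf : J ⊓ K ≤ I) (hsup : RingHom.ker p.toAlgHom ≤ J ⊔ K) :
    IsFibreProd (quotMap I J hI hJ hIJ) (quotMap I K hI hK hIK) (quotFactor hJ p hJp)
      (quotFactor hK p hKp) where
  w := quot_hom_ext fun _ => rfl
  inj b₁ b₂ h₁ h₂ := by
    obtain ⟨a₁, rfl⟩ := Ideal.Quotient.mk_surjective b₁
    obtain ⟨a₂, rfl⟩ := Ideal.Quotient.mk_surjective b₂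
    rw [quotMap_apply, quotMap_apply] at h₁ h₂
    have e₁ : a₁ - a₂ ∈ J := Ideal.Quotient.eq.1 h₁
    have e₂ : a₁ - a₂ ∈ K := Ideal.Quotient.eq.1 h₂
    exact Ideal.Quotient.eq.2 (hinf ⟨e₁, e₂⟩)
  surj a' a'' h := by
    obtain ⟨x, rfl⟩ := Ideal.Quotient.mk_surjective a'
    obtain ⟨y, rfl⟩ := Ideal.Quotient.mk_surjective a''
    rw [art_quotFactor_apply, art_quotFactor_apply] at h
    have e : x - y ∈ RingHom.ker p.toAlgHom := by
      rw [RingHom.mem_ker]
      change p.toAlgHom (x - y) = 0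
      rw [map_sub]
      exact sub_eq_zero.2 h
    obtain ⟨j, hj, k', hk', hjk⟩ := Submodule.mem_sup.1 (hsup e)
    refine ⟨Ideal.Quotient.mk I (x - j), ?_, ?_⟩
    · rw [quotMap_apply]
      apply Ideal.Quotient.eq.2
      simpa using J.neg_mem hj
    · rw [quotMap_apply]
      apply Ideal.Quotient.eq.2
      have : x - j - y = k' := by linear_combination -hjk
      rw [this]
      exact hk'

/-- the least ideal `J ≤ ker p` such that `x` lifts to `B/J` -/
theorem exists_least_lift_ideal {F : Art Λ k ⥤ Type v} (h1 : S1 F)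
    (hp : IsSemismallExt p) (x : F.obj A) :
    ∃ (J₀ : Ideal B) (hJ₀ : J₀ ≤ RingHom.ker p.toAlgHom) (hJ₀' : J₀ ≤ maximalIdeal B),
      (∃ y : F.obj (quot B J₀ hJ₀'), F.map (quotFactor hJ₀' p hJ₀) y = x) ∧
      ∀ (J : Ideal B) (hJ : J ≤ RingHom.ker p.toAlgHom) (hJ' : J ≤ maximalIdeal B),
        (∃ y : F.obj (quot B J hJ'), F.map (quotFactor hJ' p hJ) y = x) → J₀ ≤ J := by
  classical
  obtain ⟨hsurj, hmk⟩ := hp
  have hImax : RingHom.ker p.toAlgHom ≤ maximalIdeal B := art_ker_le_maximalIdeal p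
  let 𝒥 : Set (Ideal B) := {J | ∃ (hJ : J ≤ RingHom.ker p.toAlgHom) (hJ' : J ≤ maximalIdeal B),
    ∃ y : F.obj (quot B J hJ'), F.map (quotFactor hJ' p hJ) y = x}
  have hne : 𝒥.Nonempty := by
    refine ⟨RingHom.ker p.toAlgHom, le_refl _, hImax, ?_⟩
    have hbij : Function.Bijective (quotFactor hImax p (le_refl _)) := by
      constructor
      · intro a b hab
        obtain ⟨a', rfl⟩ := Ideal.Quotient.mk_surjective a
        obtain ⟨b', rfl⟩ := Ideal.Quotient.mk_surjective b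
        rw [art_quotFactor_apply, art_quotFactor_apply] at hab
        apply Ideal.Quotient.eq.2
        rw [RingHom.mem_ker]
        change p.toAlgHom (a' - b') = 0
        rw [map_sub]
        exact sub_eq_zero.2 hab
      · intro a
        obtain ⟨b, rfl⟩ := hsurj a
        exact ⟨Ideal.Quotient.mk _ b, rfl⟩
    haveI := art_isIso_of_bijective _ hbij
    exact ⟨F.map (inv (quotFactor hImax p (le_refl _))) x, map_map_inv F _ x⟩
  obtain ⟨J₀, ⟨hJ₀, hJ₀', y₀, hy₀⟩, hmin⟩ := set_has_minimal_iff_artinian.2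
    (inferInstance : IsArtinian B B) 𝒥 hne
  refine ⟨J₀, hJ₀, hJ₀', ⟨y₀, hy₀⟩, ?_⟩
  intro J hJ hJ' ⟨y, hy⟩
  -- the intersection lies in `𝒥`
  obtain ⟨K', hK1, hK2, hK3, hK4⟩ := exists_complement_ideal (RingHom.ker p.toAlgHom) J₀ J
    (by rw [hmk]; exact bot_le) hJ
  have hK'max : K' ≤ maximalIdeal B := hK2.trans hImax
  have hIJ : J₀ ⊓ J ≤ J₀ := inf_le_left
  have hIK : J₀ ⊓ J ≤ K' := inf_le_right.trans hK1
  have hImax' : J₀ ⊓ J ≤ maximalIdeal B := hIJ.trans hJ₀'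
  have hfp := quot_isFibreProd p (J₀ ⊓ J) J₀ K' hImax' hJ₀' hK'max hIJ hIK hJ₀ hK2
    (le_of_eq hK4) hK3
  let y' : F.obj (quot B K' hK'max) := F.map (quotMap J K' hJ' hK'max hK1) y
  have hy' : F.map (quotFactor hK'max p hK2) y' = x := by
    rw [← map_comp_apply', quotMap_quotFactor, hy]
  obtain ⟨z, hz1, hz2⟩ := (cmp_surjective_iff F hfp).1
    (h1 _ _ _ _ hfp (by
      intro a
      obtain ⟨b, rfl⟩ := hsurj a
      exact ⟨Ideal.Quotient.mk _ b, rfl⟩)) y₀ y' (by rw [hy₀, hy'])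
  have hmem : J₀ ⊓ J ∈ 𝒥 := by
    refine ⟨hIJ.trans hJ₀, hImax', z, ?_⟩
    rw [← quotMap_quotFactor p (J₀ ⊓ J) J₀ hImax' hJ₀' hIJ hJ₀, map_comp_apply', hz1, hy₀]
  have heq : J₀ ⊓ J = J₀ := by
    by_contra hne'
    exact hmin _ hmem (lt_of_le_of_ne inf_le_left hne')
  rw [← heq]
  exact inf_le_right

end

end Groth.Agent.H6
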