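import Mathlib

/-!
# helper6: length over `Λ` versus length over a local `Λ`-algebra with residue field `k`
-/

set_option autoImplicit false
set_option linter.style.haveILetI false
set_option linter.unusedTactic false
set_option linter.unusedVariables false

universe u v

namespace Groth.Agent.H6.ArtLen

open IsLocalRing

variable {Λ : Type u} {k : Type u} [CommRing Λ] [Field k] [Algebra Λ k]
variable (A : Type u) [CommRing A] [Algebra Λ A] [IsLocalRing A] [Algebra A k] [IsScalarTower Λ A k]

/-- a simple module over a local ring with residue field `k` is `Λ`-linearly isomorphic to `k` -/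
lemma simple_equiv (hres : Function.Surjective (algebraMap A k))
    (S : Type v) [AddCommGroup S] [Module A S] [Module Λ S] [IsScalarTower Λ A S]
    [IsSimpleModule A S] : Nonempty (S ≃ₗ[Λ] k) := by
  obtain ⟨I, hI, ⟨e⟩⟩ := isSimpleModule_iff_quot_maximal.mp (inferInstance : IsSimpleModule A S)
  have hI' : I = maximalIdeal A := IsLocalRing.eq_maximalIdeal hI
  have hker : LinearMap.ker (Algebra.linearMap A k) = I := by
    rw [hI']
    have hmax : (RingHom.ker (algebraMap A k)).IsMaximal :=
      RingHom.ker_isMaximal_of_surjective (algebraMap A k) hres
    have := IsLocalRing.eq_maximalIdeal hmax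
    rw [← this]
    ext x
    simp [RingHom.mem_ker]
  have hsurj : Function.Surjective (Algebra.linearMap A k) := hres
  let e2 : (A ⧸ LinearMap.ker (Algebra.linearMap A k)) ≃ₗ[A] k :=
    (Algebra.linearMap A k).quotKerEquivOfSurjective hsurj
  let e3 : (A ⧸ I) ≃ₗ[A] (A ⧸ LinearMap.ker (Algebra.linearMap A k)) :=
    Submodule.quotEquivOfEq _ _ hker.symm
  exact ⟨(e.trans (e3.trans e2)).restrictScalars Λ⟩

theorem length_aux (hres : Function.Surjective (algebraMap A k)) (n : ℕ) :
    ∀ (M : Type v) [AddCommGroup M] [Module A M] [Module Λ M] [IsScalarTower Λ A M],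
      Module.length A M = n → Module.length Λ M = Module.length Λ k * n := by
  induction n with
  | zero =>
    intro M _ _ _ _ h
    rw [Nat.cast_zero] at h
    haveI : Subsingleton M := Module.length_eq_zero_iff.mp h
    rw [Nat.cast_zero, mul_zero]
    exact Module.length_eq_zero
  | succ n ih =>
    intro M _ _ _ _ h
    have hne : Module.length A M ≠ ⊤ := by rw [h]; exact ENat.coe_ne_top _
    have hfl : IsFiniteLength A M := Module.length_ne_top_iff.mp hne
    obtain ⟨hN, hAr⟩ := isFiniteLength_iff_isNoetherian_isArtinian.mp hfl
    haveI : Nontrivial M := by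
      rw [← Module.length_pos_iff (R := A), h]
      exact_mod_cast Nat.succ_pos n
    obtain ⟨a, ha⟩ := IsAtomic.exists_atom (Submodule A M)
    haveI : IsSimpleModule A a := isSimpleModule_iff_isAtom.mpr ha
    have hA : Module.length A M = Module.length A a + Module.length A (M ⧸ a) :=
      Module.length_eq_add_of_exact a.subtype a.mkQ a.injective_subtype a.mkQ_surjective
        (LinearMap.exact_subtype_mkQ a)
    rw [Module.length_eq_one (R := A) (M := a), h] at hA
    have hq : Module.length A (M ⧸ a) = n := by
      have hqne : Module.length A (M ⧸ a) ≠ ⊤ := by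
        intro htop
        rw [htop, add_top] at hA
        exact ENat.coe_ne_top _ hA
      lift Module.length A (M ⧸ a) to ℕ using hqne with q hq'
      have : n + 1 = 1 + q := by exact_mod_cast hA
      have : q = n := by omega
      rw [this]
    have hL : Module.length Λ M = Module.length Λ a + Module.length Λ (M ⧸ a) :=
      Module.length_eq_add_of_exact (a.subtype.restrictScalars Λ) (a.mkQ.restrictScalars Λ)
        a.injective_subtype a.mkQ_surjective (LinearMap.exact_subtype_mkQ a)
    obtain ⟨e⟩ := simple_equiv (Λ := Λ) A hres a
    rw [hL, e.length_eq, ih (M ⧸ a) hq]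
    push_cast
    ring

theorem length_mul (hres : Function.Surjective (algebraMap A k))
    (M : Type v) [AddCommGroup M] [Module A M] [Module Λ M] [IsScalarTower Λ A M] :
    Module.length Λ k * Module.length A M = Module.length Λ M := by
  by_cases htop : Module.length A M = ⊤
  · have h1 : Module.length Λ M = ⊤ := by
      have h := Submodule.length_le_length_restrictScalars (R := A) (M := M) Λ ⊤
      rw [Module.length_top, htop, top_le_iff] at h
      have h2 : Module.length Λ ((⊤ : Submodule A M).restrictScalars Λ) = Module.length Λ M := by
        rw [Submodule.restrictScalars_top, Module.length_top]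
      rw [← h2, h]
    have h0 : Module.length Λ k ≠ 0 := by
      rw [Ne, Module.length_eq_zero_iff]
      exact not_subsingleton k
    rw [htop, h1, ENat.mul_top h0]
  · lift Module.length A M to ℕ using htop with n hn
    exact (length_aux A hres n M hn.symm).symm

end Groth.Agent.H6.ArtLen
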