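import Groth.Agent.Lib.Helper6.ArtFunKae

/-!
# helper6: derivations into `k` detect the relative cotangent space when `k` is separable over
the image of `Λ`
-/

set_option autoImplicit false
set_option linter.style.haveILetI false
set_option linter.unusedTactic false
set_option linter.unusedVariables false
set_option linter.unusedSectionVars false

universe u v

open CategoryTheory ArtFun ArtFun.Art Polynomial

namespace Groth.Agent.H6

open IsLocalRing

variable {Λ : Type u} {k : Type u} [CommRing Λ] [Field k] [Algebra Λ k]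

section

variable [Module.Finite Λ k]

lemma ker_algebraMap_isMaximal : (RingHom.ker (algebraMap Λ k)).IsMaximal := by
  haveI : Algebra.IsIntegral Λ k := inferInstance
  rw [RingHom.ker_eq_comap_bot]
  haveI : (⊥ : Ideal k).IsMaximal := Ideal.bot_isMaximal
  exact Ideal.isMaximal_comap_of_isIntegral_of_isMaximal (R := Λ) (⊥ : Ideal k)

/-- a coefficient field for square-zero augmented algebras killed by `ker (Λ → k)` -/
theorem exists_section [Algebra.IsSeparable ↥(algebraMap Λ k).range k]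
    (W : Type u) [CommRing W] [Algebra Λ W] (ρ : W →ₐ[Λ] k) (hρ : Function.Surjective ρ)
    (hsq : ∀ w w' : W, ρ w = 0 → ρ w' = 0 → w * w' = 0)
    (h𝔭 : ∀ r : Λ, algebraMap Λ k r = 0 → algebraMap Λ W r = 0) :
    ∃ σ : k →ₐ[Λ] W, ∀ c, ρ (σ c) = c := by
  set 𝔭 : Ideal Λ := RingHom.ker (algebraMap Λ k) with h𝔭def
  haveI : 𝔭.IsMaximal := ker_algebraMap_isMaximal
  letI : Field (Λ ⧸ 𝔭) := Ideal.Quotient.field 𝔭
  let φk : Λ ⧸ 𝔭 →+* k := Ideal.Quotient.lift 𝔭 (algebraMap Λ k) (fun a ha => ha)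
  let φW : Λ ⧸ 𝔭 →+* W := Ideal.Quotient.lift 𝔭 (algebraMap Λ W) (fun a ha => h𝔭 a ha)
  letI : Algebra (Λ ⧸ 𝔭) k := φk.toAlgebra
  letI : Algebra (Λ ⧸ 𝔭) W := φW.toAlgebra
  have hφk : ∀ r : Λ, algebraMap (Λ ⧸ 𝔭) k (Ideal.Quotient.mk 𝔭 r) = algebraMap Λ k r := fun r => rfl
  have hφW : ∀ r : Λ, algebraMap (Λ ⧸ 𝔭) W (Ideal.Quotient.mk 𝔭 r) = algebraMap Λ W r := fun r => rfl
  -- separability over the quotient field
  haveI : Algebra.IsSeparable (Λ ⧸ 𝔭) k := by
    refine ⟨fun c => ?_⟩
    have hsep : IsSeparable (↥(algebraMap Λ k).range) c := Algebra.IsSeparable.isSeparable _ c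
    set Q := minpoly (↥(algebraMap Λ k).range) c with hQ
    have hQs : Q.Separable := hsep
    have hlift : Q ∈ Polynomial.lifts (algebraMap Λ k).rangeRestrict := by
      rw [Polynomial.lifts_iff_coeff_lifts]
      intro n
      exact (algebraMap Λ k).rangeRestrict_surjective (Q.coeff n)
    obtain ⟨P, hPQ⟩ := hlift
    have hPQ' : P.map (algebraMap Λ k).rangeRestrict = Q := hPQ
    have hmap : P.map (algebraMap Λ k) = Q.map (algebraMap (↥(algebraMap Λ k).range) k) := by
      rw [← hPQ', Polynomial.map_map]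
      rfl
    let Q' : (Λ ⧸ 𝔭)[X] := P.map (Ideal.Quotient.mk 𝔭)
    have hQ'map : Q'.map (algebraMap (Λ ⧸ 𝔭) k) = Q.map (algebraMap (↥(algebraMap Λ k).range) k) := by
      rw [← hmap, Polynomial.map_map]
      rfl
    have hQ's : Q'.Separable := by
      have h1 : (Q'.map (algebraMap (Λ ⧸ 𝔭) k)).Separable := by rw [hQ'map]; exact hQs.map
      exact (Polynomial.separable_map (algebraMap (Λ ⧸ 𝔭) k)).1 h1
    have hQ'0 : Polynomial.aeval c Q' = 0 := by
      rw [← Polynomial.eval_map_algebraMap, hQ'map, Polynomial.eval_map_algebraMap, hQ, minpoly.aeval]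
    exact hQ's.of_dvd (minpoly.dvd _ _ hQ'0)
  haveI : Algebra.FormallyEtale (Λ ⧸ 𝔭) k := Algebra.FormallyEtale.of_isSeparable _ _
  haveI : Algebra.FormallySmooth (Λ ⧸ 𝔭) k := inferInstance
  let ρ' : W →ₐ[Λ ⧸ 𝔭] k :=
    { (ρ : W →+* k) with
      commutes' := by
        intro x
        obtain ⟨r, rfl⟩ := Ideal.Quotient.mk_surjective x
        change ρ (algebraMap (Λ ⧸ 𝔭) W (Ideal.Quotient.mk 𝔭 r)) = _
        rw [hφW, hφk, ρ.commutes] }
  have hρ' : ∀ w, ρ' w = ρ w := fun w => rfl
  have hsurj' : Function.Surjective ρ' := hρ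
  have hnil : IsNilpotent (RingHom.ker (ρ' : W →+* k)) := by
    refine ⟨2, ?_⟩
    rw [Ideal.zero_eq_bot, eq_bot_iff, pow_two, Ideal.mul_le]
    intro x hx y hy
    rw [Ideal.mem_bot]
    exact hsq x y hx hy
  let σ' : k →ₐ[Λ ⧸ 𝔭] W :=
    Algebra.FormallySmooth.liftOfSurjective (AlgHom.id (Λ ⧸ 𝔭) k) ρ' hsurj' hnil
  have hσ' : ∀ c, ρ' (σ' c) = c := fun c =>
    Algebra.FormallySmooth.liftOfSurjective_apply (AlgHom.id (Λ ⧸ 𝔭) k) ρ' hsurj' hnil c
  refine ⟨{ (σ' : k →+* W) with
      commutes' := by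
        intro r
        change σ' (algebraMap Λ k r) = algebraMap Λ W r
        rw [← hφk, σ'.commutes, hφW] }, fun c => hσ' c⟩

end

section Der

variable [IsNoetherianRing Λ] [Module.Finite Λ k]

/-- derivations detect the relative cotangent space in the separable case -/
theorem exists_derivation_sep [Algebra.IsSeparable ↥(algebraMap Λ k).range k] (B : Art Λ k) :
    letI := artAlg B
    haveI := art_isScalarTower B
    ∀ b₀ : B, b₀ ∈ maximalIdeal B →
      b₀ ∉ Ideal.map (algebraMap Λ B) (RingHom.ker (algebraMap Λ k)) ⊔ maximalIdeal B ^ 2 →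
      ∃ D : Derivation Λ B k, D b₀ ≠ 0 := by
  letI := artAlg B
  haveI := art_isScalarTower B
  intro b₀ hb₀m hb₀
  set I : Ideal B := Ideal.map (algebraMap Λ B) (RingHom.ker (algebraMap Λ k)) ⊔ maximalIdeal B ^ 2
    with hI
  have hI_le : I ≤ maximalIdeal B := sup_le (art_mΛ_le B) (Ideal.pow_le_self two_ne_zero)
  let π : B →ₐ[Λ] B ⧸ I := Ideal.Quotient.mkₐ Λ I
  let ρ : B ⧸ I →ₐ[Λ] k := Ideal.Quotient.liftₐ I B.res (fun a ha => by
    exact (Art.mem_maximalIdeal_iff B a).1 (hI_le ha))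
  have hρπ : ∀ b : B, ρ (π b) = B.res b := fun b => rfl
  have hρsurj : Function.Surjective ρ := by
    intro c
    obtain ⟨b, hb⟩ := B.res_surjective c
    exact ⟨π b, by rw [hρπ, hb]⟩
  have hsq : ∀ w w' : B ⧸ I, ρ w = 0 → ρ w' = 0 → w * w' = 0 := by
    intro w w' hw hw'
    obtain ⟨a, rfl⟩ := Ideal.Quotient.mk_surjective w
    obtain ⟨a', rfl⟩ := Ideal.Quotient.mk_surjective w'
    have ha : a ∈ maximalIdeal B := (Art.mem_maximalIdeal_iff B a).2 hw
    have ha' : a' ∈ maximalIdeal B := (Art.mem_maximalIdeal_iff B a').2 hw'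
    rw [← map_mul, Ideal.Quotient.eq_zero_iff_mem]
    apply Ideal.mem_sup_right
    rw [pow_two]
    exact Ideal.mul_mem_mul ha ha'
  have h𝔭 : ∀ r : Λ, algebraMap Λ k r = 0 → algebraMap Λ (B ⧸ I) r = 0 := by
    intro r hr
    change π (algebraMap Λ B r) = 0
    change Ideal.Quotient.mk I (algebraMap Λ B r) = 0
    rw [Ideal.Quotient.eq_zero_iff_mem]
    exact Ideal.mem_sup_left (Ideal.mem_map_of_mem _ hr)
  obtain ⟨σ, hσ⟩ := exists_section (Λ := Λ) (k := k) (B ⧸ I) ρ hρsurj hsq h𝔭
  letI : Algebra k (B ⧸ I) := (σ : k →+* B ⧸ I).toAlgebra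
  have hρ' : ∀ c : k, (ρ : B ⧸ I →+* k) (algebraMap k (B ⧸ I) c) = c := hσ
  have hx0 : π b₀ ≠ 0 := by
    intro h
    exact hb₀ (Ideal.Quotient.eq_zero_iff_mem.1 h)
  have hρx : (ρ : B ⧸ I →+* k) (π b₀) = 0 := by
    change ρ (π b₀) = 0
    rw [hρπ]
    exact (Art.mem_maximalIdeal_iff B b₀).1 hb₀m
  obtain ⟨ℓ, hℓ1, hℓx⟩ := DerEx.exists_functional (ρ : B ⧸ I →+* k) hρ' hρx hx0
  have hmul := DerEx.functional_mul (ρ : B ⧸ I →+* k) hρ' hsq ℓ hℓ1
  refine ⟨{ toFun := fun s => ℓ (π s)
            map_add' := fun a b => by rw [map_add, map_add]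
            map_smul' := fun r s => by
              rw [RingHom.id_apply, Algebra.smul_def, map_mul, AlgHom.commutes, ← σ.commutes]
              change ℓ (algebraMap k (B ⧸ I) (algebraMap Λ k r) * π s) = _
              rw [← Algebra.smul_def, map_smul, smul_eq_mul, Algebra.smul_def]
            map_one_eq_zero' := by
              change ℓ (π 1) = 0
              rw [map_one, hℓ1]
            leibniz' := fun a b => by
              change ℓ (π (a * b)) = a • ℓ (π b) + b • ℓ (π a)
              rw [map_mul, hmul]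
              rfl }, hℓx⟩

/-- derivations into `k` kill `m_Λ A + m_A²` -/
lemma der_kills_cotangent_ker (A : Art Λ k) :
    letI := artAlg A
    haveI := art_isScalarTower A
    ∀ (D : Derivation Λ A k) (a : A),
      a ∈ Ideal.map (algebraMap Λ A) (RingHom.ker (algebraMap Λ k)) ⊔ maximalIdeal A ^ 2 →
      D a = 0 := by
  letI := artAlg A
  haveI := art_isScalarTower A
  intro D a ha
  obtain ⟨u, hu, v, hv, rfl⟩ := Submodule.mem_sup.1 ha
  have hv0 : D v = 0 := derivation_sq_eq_zero (Λ := Λ) (k := k) A A.res_surjective D hv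
  have hu0 : D u = 0 := by
    rw [Ideal.map] at hu
    refine Submodule.span_induction ?_ ?_ ?_ ?_ hu
    · rintro x ⟨r, hr, rfl⟩
      exact D.map_algebraMap r
    · exact map_zero D
    · intro x y _ _ hx hy
      rw [map_add, hx, hy, add_zero]
    · intro b x hx hx0
      rw [smul_eq_mul, D.leibniz, hx0, smul_zero, zero_add]
      have hxm : x ∈ maximalIdeal A := art_mΛ_le A hx
      change A.res x * D b = 0
      rw [(Art.mem_maximalIdeal_iff A x).1 hxm, zero_mul]
  rw [map_add, hu0, hv0, add_zero]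

theorem essential_iff_cotangent [Algebra.IsSeparable ↥(algebraMap Λ k).range k]
    {A B : Art Λ k} (f : B ⟶ A) :
    (Function.Surjective f ∧ ∀ (C : Art Λ k) (g : C ⟶ B), Function.Surjective (g ≫ f) →
        Function.Surjective g) ↔
      (Ideal.map (algebraMap Λ A) (RingHom.ker (algebraMap Λ k)) ⊔
            Ideal.map f.toAlgHom (maximalIdeal B) ⊔ maximalIdeal A ^ 2 = maximalIdeal A ∧
        ∀ b ∈ maximalIdeal B,
          f b ∈ Ideal.map (algebraMap Λ A) (RingHom.ker (algebraMap Λ k)) ⊔ maximalIdeal A ^ 2 →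
          b ∈ Ideal.map (algebraMap Λ B) (RingHom.ker (algebraMap Λ k)) ⊔ maximalIdeal B ^ 2) := by
  letI := artAlg A
  letI := artAlg B
  haveI := art_isScalarTower A
  haveI := art_isScalarTower B
  have htfae := (art_surjective_tfae f).out 0 2
  rw [← htfae]
  constructor
  · rintro ⟨hf, hess⟩
    refine ⟨hf, fun b hbm hfb => ?_⟩
    by_contra hb
    obtain ⟨D, hD⟩ := exists_derivation_sep B b hbm hb
    obtain ⟨D', hD'⟩ := compDer_surjective_of_kills f hf D (der_kills_ker_of_essential f hf hess D)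
    apply hD
    rw [← hD', compDer_apply]
    exact der_kills_cotangent_ker A D' (f b) hfb
  · rintro ⟨hf, hinj⟩
    refine ⟨hf, fun C g hgf => ?_⟩
    have h := (art_surjective_tfae g).out 0 2
    rw [h]
    apply le_antisymm
    · exact sup_le (sup_le (art_mΛ_le B) (art_map_le g)) (Ideal.pow_le_self two_ne_zero)
    · intro b hb
      obtain ⟨c, hc⟩ := hgf (f b)
      have hc' : f (g c) = f b := hc
      have hcm : c ∈ maximalIdeal C := by
        rw [Art.mem_maximalIdeal_iff, ← Art.res_app g, ← Art.res_app f, hc', Art.res_app f,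
          ← Art.mem_maximalIdeal_iff]
        exact hb
      have hgc : g c ∈ Ideal.map g.toAlgHom (maximalIdeal C) := Ideal.mem_map_of_mem _ hcm
      have hgcm : g c ∈ maximalIdeal B := art_map_le g hgc
      have hdiff : b - g c ∈ Ideal.map (algebraMap Λ B) (RingHom.ker (algebraMap Λ k)) ⊔
          maximalIdeal B ^ 2 := by
        apply hinj _ (Ideal.sub_mem _ hb hgcm)
        have : f (b - g c) = 0 := by
          change f.toAlgHom (b - g c) = 0
          rw [map_sub]
          exact sub_eq_zero.2 hc'.symm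
        rw [this]
        exact Ideal.zero_mem _
      have : b = g c + (b - g c) := by ring
      rw [this]
      obtain ⟨u, hu, v, hv, huv⟩ := Submodule.mem_sup.1 hdiff
      rw [← huv]
      have e : g c + (u + v) = (u + g c) + v := by ring
      rw [e]
      exact Ideal.add_mem _ (Ideal.mem_sup_left (Ideal.add_mem _ (Ideal.mem_sup_left hu)
        (Ideal.mem_sup_right hgc))) (Ideal.mem_sup_right hv)

end Der

end Groth.Agent.H6
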