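import Groth.Agent.Lib.Helper6.ArtFunEssential

/-!
# helper6: fibre products in `Art Λ k` when `k` is separable over the image of `Λ`
-/

set_option autoImplicit false
set_option linter.style.haveILetI false
set_option linter.unusedTactic false
set_option linter.unusedVariables false

universe u v

open CategoryTheory ArtFun ArtFun.Art Polynomial

namespace Groth.Agent.H6

open IsLocalRing

variable {Λ : Type u} {k : Type u} [CommRing Λ] [Field k] [Algebra Λ k]

/-- evaluation commutes with the augmentation -/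
lemma art_res_eval (A : Art Λ k) (P : Λ[X]) (a : A) :
    A.res ((P.map (algebraMap Λ A)).eval a) = (P.map (algebraMap Λ k)).eval (A.res a) := by
  rw [Polynomial.eval_map_algebraMap, Polynomial.eval_map_algebraMap, Polynomial.aeval_algHom_apply]

lemma art_hom_eval {A B : Art Λ k} (f : B ⟶ A) (P : Λ[X]) (b : B) :
    f ((P.map (algebraMap Λ B)).eval b) = (P.map (algebraMap Λ A)).eval (f b) := by
  rw [Polynomial.eval_map_algebraMap, Polynomial.eval_map_algebraMap]
  exact (Polynomial.aeval_algHom_apply f.toAlgHom b P).symm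

lemma art_isUnit_of_res_ne_zero (A : Art Λ k) (a : A) (h : A.res a ≠ 0) : IsUnit a := by
  by_contra hu
  have : a ∈ maximalIdeal A := (IsLocalRing.mem_maximalIdeal a).mpr hu
  rw [← art_ker_res, RingHom.mem_ker] at this
  exact h this

/-- Hensel lifting of a simple root, existence -/
theorem art_exists_root (A : Art Λ k) (P : Λ[X]) (hP : P.Monic) (c : k)
    (hc : (P.map (algebraMap Λ k)).eval c = 0)
    (hc' : (P.map (algebraMap Λ k)).derivative.eval c ≠ 0) :
    ∃ a : A, (P.map (algebraMap Λ A)).eval a = 0 ∧ A.res a = c := by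
  haveI := art_isAdicComplete A
  obtain ⟨a₀, ha₀⟩ := A.res_surjective c
  have h1 : (P.map (algebraMap Λ A)).eval a₀ ∈ maximalIdeal A := by
    rw [← art_ker_res, RingHom.mem_ker]
    change A.res _ = 0
    rw [art_res_eval, ha₀, hc]
  have h2 : IsUnit ((P.map (algebraMap Λ A)).derivative.eval a₀) := by
    apply art_isUnit_of_res_ne_zero
    rw [Polynomial.derivative_map, art_res_eval, ha₀, ← Polynomial.derivative_map]
    exact hc'
  obtain ⟨a, ha, haa⟩ := HenselianRing.is_henselian (I := maximalIdeal A)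
    (P.map (algebraMap Λ A)) (hP.map _) a₀ h1 (h2.map _)
  refine ⟨a, ha, ?_⟩
  rw [← art_ker_res, RingHom.mem_ker] at haa
  have : A.res (a - a₀) = 0 := haa
  rw [map_sub, sub_eq_zero] at this
  rw [this, ha₀]

/-- Hensel lifting of a simple root, uniqueness -/
theorem art_root_unique (A : Art Λ k) (P : Λ[X]) (c : k)
    (hc' : (P.map (algebraMap Λ k)).derivative.eval c ≠ 0) {a b : A}
    (ha : (P.map (algebraMap Λ A)).eval a = 0) (hb : (P.map (algebraMap Λ A)).eval b = 0)
    (hac : A.res a = c) (hbc : A.res b = c) : a = b := by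
  refine IsLocalRing.eq_of_eval_eq_zero_of_not_isUnit_sub ha hb ?_ ?_
  · intro hu
    have := hu.map A.res
    rw [map_sub, hac, hbc, sub_self] at this
    exact not_isUnit_zero this
  · apply art_isUnit_of_res_ne_zero
    rw [Polynomial.derivative_map, art_res_eval, hac, ← Polynomial.derivative_map]
    exact hc'

section Exists

variable [IsNoetherianRing Λ] [Module.Finite Λ k]

/-- The fibre product `A₁ ×_A A₂` exists in `Art Λ k` as soon as it surjects onto `k`. -/
theorem art_exists_isFibreProd' {A A₁ A₂ : Art Λ k} (f₁ : A₁ ⟶ A) (f₂ : A₂ ⟶ A)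
    (hsurj : ∀ c : k, ∃ (a₁ : A₁) (a₂ : A₂), f₁ a₁ = f₂ a₂ ∧ A₁.res a₁ = c) :
    ∃ (B : Art Λ k) (p₁ : B ⟶ A₁) (p₂ : B ⟶ A₂), IsFibreProd p₁ p₂ f₁ f₂ := by
  classical
  let S : Subalgebra Λ (A₁ × A₂) := AlgHom.pullback f₁.toAlgHom f₂.toAlgHom
  have hSmem : ∀ x : A₁ × A₂, x ∈ S ↔ f₁ x.1 = f₂ x.2 := fun x => Iff.rfl
  haveI : IsLocalHom f₂.toAlgHom := Art.isLocalHom f₂
  haveI hloc : IsLocalRing S := AlgHom.isLocalRing_pullback f₁.toAlgHom f₂.toAlgHom
  haveI : Module.Finite Λ A₁ := art_finite A₁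
  haveI : Module.Finite Λ A₂ := art_finite A₂
  haveI : IsNoetherian Λ (A₁ × A₂) := isNoetherian_of_isNoetherianRing_of_finite Λ (A₁ × A₂)
  haveI : IsNoetherian Λ S := isNoetherian_of_injective S.val.toLinearMap Subtype.val_injective
  haveI : IsNoetherianRing S := isNoetherian_of_tower Λ (inferInstance : IsNoetherian Λ S)
  -- the projections
  let π₁ : S →ₐ[Λ] A₁ := AlgHom.pullbackFst f₁.toAlgHom f₂.toAlgHom
  let π₂ : S →ₐ[Λ] A₂ := AlgHom.pullbackSnd f₁.toAlgHom f₂.toAlgHom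
  have hres : A₂.res.comp π₂ = A₁.res.comp π₁ := by
    apply AlgHom.ext
    rintro ⟨⟨a₁, a₂⟩, h⟩
    change A₂.res a₂ = A₁.res a₁
    have h' : f₁ a₁ = f₂ a₂ := h
    rw [← Art.res_app f₂, ← h', Art.res_app f₁]
  -- maximal ideal is nilpotent
  have hnil : IsNilpotent (IsLocalRing.maximalIdeal S) := by
    obtain ⟨n₁, hn₁⟩ := art_maximalIdeal_pow_eq_bot A₁
    obtain ⟨n₂, hn₂⟩ := art_maximalIdeal_pow_eq_bot A₂
    have hunit : ∀ s : S, IsUnit (π₁ s) → IsUnit s := by
      rintro ⟨⟨a₁, a₂⟩, h⟩ hu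
      rw [AlgHom.isUnit_pullback_mk_iff]
      refine ⟨hu, ?_⟩
      have h' : f₁ a₁ = f₂ a₂ := h
      have hu1 : IsUnit (f₁.toAlgHom a₁) := hu.map f₁.toAlgHom
      have : IsUnit (f₂.toAlgHom a₂) := by
        have h'' : f₁.toAlgHom a₁ = f₂.toAlgHom a₂ := h'
        rwa [← h'']
      exact isUnit_of_map_unit f₂.toAlgHom a₂ this
    have hm₁ : (IsLocalRing.maximalIdeal S).map (π₁ : S →+* A₁) ≤ IsLocalRing.maximalIdeal A₁ := by
      rw [Ideal.map_le_iff_le_comap]
      intro s hs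
      rw [Ideal.mem_comap, IsLocalRing.mem_maximalIdeal, mem_nonunits_iff]
      rw [IsLocalRing.mem_maximalIdeal, mem_nonunits_iff] at hs
      exact fun hu => hs (hunit s hu)
    have hunit₂ : ∀ s : S, IsUnit (π₂ s) → IsUnit s := by
      rintro ⟨⟨a₁, a₂⟩, h⟩ hu
      rw [AlgHom.isUnit_pullback_mk_iff]
      refine ⟨?_, hu⟩
      have h' : f₁ a₁ = f₂ a₂ := h
      have hu2 : IsUnit (f₂.toAlgHom a₂) := hu.map f₂.toAlgHom
      haveI : IsLocalHom f₁.toAlgHom := Art.isLocalHom f₁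
      have : IsUnit (f₁.toAlgHom a₁) := by
        have h'' : f₁.toAlgHom a₁ = f₂.toAlgHom a₂ := h'
        rwa [h'']
      exact isUnit_of_map_unit f₁.toAlgHom a₁ this
    have hm₂ : (IsLocalRing.maximalIdeal S).map (π₂ : S →+* A₂) ≤ IsLocalRing.maximalIdeal A₂ := by
      rw [Ideal.map_le_iff_le_comap]
      intro s hs
      rw [Ideal.mem_comap, IsLocalRing.mem_maximalIdeal, mem_nonunits_iff]
      rw [IsLocalRing.mem_maximalIdeal, mem_nonunits_iff] at hs
      exact fun hu => hs (hunit₂ s hu)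
    refine ⟨n₁ + n₂, ?_⟩
    rw [Ideal.zero_eq_bot, eq_bot_iff]
    intro s hs
    have h1 : (π₁ : S →+* A₁) s = 0 := by
      have : (π₁ : S →+* A₁) s ∈ (IsLocalRing.maximalIdeal A₁) ^ (n₁ + n₂) := by
        have := Ideal.mem_map_of_mem (π₁ : S →+* A₁) hs
        rw [Ideal.map_pow] at this
        exact Ideal.pow_right_mono hm₁ _ this
      have h2 := Ideal.pow_le_pow_right (I := IsLocalRing.maximalIdeal A₁) (Nat.le_add_right n₁ n₂) this
      rwa [hn₁] at h2
    have h2 : (π₂ : S →+* A₂) s = 0 := by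
      have : (π₂ : S →+* A₂) s ∈ (IsLocalRing.maximalIdeal A₂) ^ (n₁ + n₂) := by
        have := Ideal.mem_map_of_mem (π₂ : S →+* A₂) hs
        rw [Ideal.map_pow] at this
        exact Ideal.pow_right_mono hm₂ _ this
      have h2 := Ideal.pow_le_pow_right (I := IsLocalRing.maximalIdeal A₂) (Nat.le_add_left n₂ n₁) this
      rwa [hn₂] at h2
    rw [Ideal.mem_bot]
    apply Subtype.ext
    exact Prod.ext h1 h2
  haveI : IsArtinianRing S := (isArtinianRing_iff_isNilpotent_maximalIdeal S).mpr hnil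
  let B : Art Λ k :=
    { carrier := S
      res := A₁.res.comp π₁
      res_surjective := by
        intro c
        obtain ⟨a₁, a₂, h, hc⟩ := hsurj c
        exact ⟨⟨(a₁, a₂), h⟩, hc⟩ }
  refine ⟨B, ⟨π₁, rfl⟩, ⟨π₂, hres⟩, ?_⟩
  refine ⟨?_, ?_, ?_⟩
  · apply Art.hom_ext
    exact AlgHom.pullback_comm_sq f₁.toAlgHom f₂.toAlgHom
  · rintro ⟨⟨a₁, a₂⟩, h⟩ ⟨⟨b₁, b₂⟩, h'⟩ e1 e2
    apply Subtype.ext
    exact Prod.ext e1 e2
  · intro a' a'' haa
    exact ⟨⟨(a', a''), haa⟩, rfl, rfl⟩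

/-- every element of `k` has a monic "separable" annihilating polynomial over `Λ` -/
theorem exists_monic_sep [Algebra.IsSeparable (↥(algebraMap Λ k).range) k] (c : k) :
    ∃ P : Λ[X], P.Monic ∧ (P.map (algebraMap Λ k)).eval c = 0 ∧
      (P.map (algebraMap Λ k)).derivative.eval c ≠ 0 := by
  have hsep : IsSeparable (↥(algebraMap Λ k).range) c := Algebra.IsSeparable.isSeparable _ c
  have hint : IsIntegral (↥(algebraMap Λ k).range) c := hsep.isIntegral
  set Q := minpoly (↥(algebraMap Λ k).range) c with hQ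
  have hQm : Q.Monic := minpoly.monic hint
  have hQs : Q.Separable := hsep
  -- lift to Λ
  have hlift : Q ∈ Polynomial.lifts (algebraMap Λ k).rangeRestrict := by
    rw [Polynomial.lifts_iff_coeff_lifts]
    intro n
    exact (algebraMap Λ k).rangeRestrict_surjective (Q.coeff n)
  obtain ⟨P, hPQ, -, hPm⟩ := Polynomial.lifts_and_degree_eq_and_monic hlift hQm
  have hmap : P.map (algebraMap Λ k) = Q.map (algebraMap (↥(algebraMap Λ k).range) k) := by
    rw [← hPQ, Polynomial.map_map]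
    rfl
  refine ⟨P, hPm, ?_, ?_⟩
  · rw [hmap, Polynomial.eval_map_algebraMap, hQ, minpoly.aeval]
  · rw [hmap]
    have h1 : (Q.map (algebraMap (↥(algebraMap Λ k).range) k)).Separable := hQs.map
    have h0 : (Q.map (algebraMap (↥(algebraMap Λ k).range) k)).eval c = 0 := by
      rw [Polynomial.eval_map_algebraMap, hQ, minpoly.aeval]
    intro h2
    obtain ⟨a, b, hab⟩ := h1
    have := congrArg (Polynomial.eval c) hab
    rw [Polynomial.eval_add, Polynomial.eval_mul, Polynomial.eval_mul, h0, h2, mul_zero, mul_zero,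
      add_zero, Polynomial.eval_one] at this
    exact zero_ne_one this

theorem art_exists_isFibreProd_of_isSeparable [Algebra.IsSeparable (↥(algebraMap Λ k).range) k]
    {A A₁ A₂ : Art Λ k} (f₁ : A₁ ⟶ A) (f₂ : A₂ ⟶ A) :
    ∃ (B : Art Λ k) (p₁ : B ⟶ A₁) (p₂ : B ⟶ A₂), IsFibreProd p₁ p₂ f₁ f₂ := by
  apply art_exists_isFibreProd'
  intro c
  obtain ⟨P, hPm, hc, hc'⟩ := exists_monic_sep (Λ := Λ) c
  obtain ⟨a₁, h1, hr1⟩ := art_exists_root A₁ P hPm c hc hc'
  obtain ⟨a₂, h2, hr2⟩ := art_exists_root A₂ P hPm c hc hc'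
  refine ⟨a₁, a₂, ?_, hr1⟩
  refine art_root_unique A P c hc' ?_ ?_ ?_ ?_
  · rw [← art_hom_eval, h1, map_zero]
  · rw [← art_hom_eval, h2, map_zero]
  · rw [Art.res_app f₁, hr1]
  · rw [Art.res_app f₂, hr2]

end Exists

end Groth.Agent.H6
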