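import Groth.Agent.Lib.Helper6.ArtFunSchlessinger
import Groth.Agent.Lib.Helper6.ArtFunSepFib
import Groth.Agent.Lib.Helper6.ArtFunSepDer

/-!
# helper6: existence of hulls when `k` has no nonzero `Λ`-derivations
-/

set_option autoImplicit false
set_option linter.style.haveILetI false
set_option linter.unusedTactic false
set_option linter.unusedVariables false
set_option linter.unusedSectionVars false

universe u v

open CategoryTheory

namespace Groth.Agent.H6

open ArtFun ArtFun.Art IsLocalRing Polynomial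

variable {Λ : Type u} {k : Type u} [CommRing Λ] [Field k] [Algebra Λ k]

section Gen

variable [Module.Finite Λ k]

/-- if `k` has no nonzero `Λ`-derivations, then `k` is generated over `Λ` by a simple root of a
monic polynomial -/
theorem exists_sep_generator (hk : Subsingleton (Derivation Λ k k)) :
    ∃ (θ : k) (P : Λ[X]), P.Monic ∧ (P.map (algebraMap Λ k)).eval θ = 0 ∧
      (P.map (algebraMap Λ k)).derivative.eval θ ≠ 0 ∧
      Function.Surjective (Polynomial.aeval θ : Λ[X] →ₐ[Λ] k) := by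
  classical
  set 𝔭 : Ideal Λ := RingHom.ker (algebraMap Λ k) with h𝔭def
  haveI : 𝔭.IsMaximal := ker_algebraMap_isMaximal
  letI : Field (Λ ⧸ 𝔭) := Ideal.Quotient.field 𝔭
  let φk : Λ ⧸ 𝔭 →+* k := Ideal.Quotient.lift 𝔭 (algebraMap Λ k) (fun a ha => ha)
  letI : Algebra (Λ ⧸ 𝔭) k := φk.toAlgebra
  haveI : IsScalarTower Λ (Λ ⧸ 𝔭) k := IsScalarTower.of_algebraMap_eq (fun r => rfl)
  haveI : Module.Finite (Λ ⧸ 𝔭) k := Module.Finite.of_restrictScalars_finite Λ (Λ ⧸ 𝔭) k
  haveI : Subsingleton (KaehlerDifferential Λ k) := by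
    refine ⟨fun a b => ?_⟩
    suffices h : ∀ ω : KaehlerDifferential Λ k, ω = 0 by rw [h a, h b]
    intro ω
    rw [← Module.forall_dual_apply_eq_zero_iff k]
    intro f
    have h1 : (KaehlerDifferential.linearMapEquivDerivation Λ k) f = 0 := Subsingleton.elim _ _
    have hf : f = 0 := (LinearEquiv.map_eq_zero_iff _).mp h1
    rw [hf]
    rfl
  haveI : Algebra.FormallyUnramified Λ k := ⟨inferInstance⟩
  haveI : Algebra.FormallyUnramified (Λ ⧸ 𝔭) k :=
    Algebra.FormallyUnramified.of_restrictScalars Λ (Λ ⧸ 𝔭) k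
  haveI : Algebra.IsSeparable (Λ ⧸ 𝔭) k := Algebra.FormallyUnramified.isSeparable (Λ ⧸ 𝔭) k
  obtain ⟨θ, hθ⟩ := Field.exists_primitive_element (Λ ⧸ 𝔭) k
  have hint : IsIntegral (Λ ⧸ 𝔭) θ := Algebra.IsIntegral.isIntegral θ
  set Q := minpoly (Λ ⧸ 𝔭) θ with hQ
  have hQm : Q.Monic := minpoly.monic hint
  have hQs : Q.Separable := Algebra.IsSeparable.isSeparable (Λ ⧸ 𝔭) θ
  have hlift : Q ∈ Polynomial.lifts (Ideal.Quotient.mk 𝔭) := by
    rw [Polynomial.lifts_iff_coeff_lifts]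
    intro n
    exact Ideal.Quotient.mk_surjective (Q.coeff n)
  obtain ⟨P, hPQ, -, hPm⟩ := Polynomial.lifts_and_degree_eq_and_monic hlift hQm
  have hmap : P.map (algebraMap Λ k) = Q.map (algebraMap (Λ ⧸ 𝔭) k) := by
    rw [← hPQ, Polynomial.map_map]
    rfl
  have h0 : (Q.map (algebraMap (Λ ⧸ 𝔭) k)).eval θ = 0 := by
    rw [Polynomial.eval_map_algebraMap, hQ, minpoly.aeval]
  refine ⟨θ, P, hPm, ?_, ?_, ?_⟩
  · rw [hmap, h0]
  · rw [hmap]
    have h1 : (Q.map (algebraMap (Λ ⧸ 𝔭) k)).Separable := hQs.map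
    intro h2
    obtain ⟨a, b, hab⟩ := h1
    have := congrArg (Polynomial.eval θ) hab
    rw [Polynomial.eval_add, Polynomial.eval_mul, Polynomial.eval_mul, h0, h2, mul_zero, mul_zero,
      add_zero, Polynomial.eval_one] at this
    exact zero_ne_one this
  · have h1 : Algebra.adjoin (Λ ⧸ 𝔭) {θ} = ⊤ := by
      rw [← IntermediateField.adjoin_simple_toSubalgebra_of_isAlgebraic hint.isAlgebraic, hθ]
      rfl
    intro c
    have hc : c ∈ Algebra.adjoin (Λ ⧸ 𝔭) {θ} := by rw [h1]; trivial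
    rw [Algebra.adjoin_singleton_eq_range_aeval] at hc
    obtain ⟨q₀, hq₀⟩ := hc
    obtain ⟨q, hq⟩ := Polynomial.map_surjective (Ideal.Quotient.mk 𝔭)
      Ideal.Quotient.mk_surjective q₀
    refine ⟨q, ?_⟩
    have hq₀' : Polynomial.aeval θ q₀ = c := hq₀
    rw [← hq₀', ← hq, Polynomial.aeval_def, Polynomial.aeval_def, Polynomial.eval₂_map]
    rfl

end Gen

section Quot

variable {S : Type u} [CommRing S] [Algebra Λ S] [IsLocalRing S] [IsNoetherianRing S]
  [IsAdicComplete (maximalIdeal S) S] {resS : S →ₐ[Λ] k}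

/-- the quotient of a complete local Noetherian augmented algebra by an ideal, as such an algebra,
with its mapping properties -/
theorem exists_quot_ring (hres : Function.Surjective resS) (K : Ideal S)
    (hK : K ≤ maximalIdeal S) :
    ∃ (S' : Type u) (_ : CommRing S') (_ : Algebra Λ S') (_ : IsLocalRing S')
      (_ : IsNoetherianRing S') (_ : IsAdicComplete (maximalIdeal S') S') (resS' : S' →ₐ[Λ] k)
      (q : S →ₐ[Λ] S'),
      Function.Surjective resS' ∧ resS'.comp q = resS ∧ Function.Surjective q ∧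
      (∀ a ∈ K, q a = 0) ∧
      (∀ (A : Art Λ k) (ψ : HomSet S resS A), (∀ a ∈ K, ψ.1 a = 0) →
        ∃ ψ' : HomSet S' resS' A, ψ'.1.comp q = ψ.1) := by
  haveI : Nontrivial (S ⧸ K) :=
    Ideal.Quotient.nontrivial_iff.2 (ne_top_of_le_ne_top (maximalIdeal.isMaximal S).ne_top hK)
  haveI : IsLocalRing (S ⧸ K) :=
    IsLocalRing.of_surjective' (Ideal.Quotient.mk K) Ideal.Quotient.mk_surjective
  have hKres : ∀ a ∈ K, resS a = 0 := fun a ha => (resS_eq_zero_iff resS hres a).2 (hK ha)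
  refine ⟨S ⧸ K, inferInstance, inferInstance, inferInstance, inferInstance,
    isAdicComplete_quotient K, Ideal.Quotient.liftₐ K resS hKres, Ideal.Quotient.mkₐ Λ K,
    ?_, ?_, ?_, ?_, ?_⟩
  · intro c
    obtain ⟨a, ha⟩ := hres c
    exact ⟨Ideal.Quotient.mk K a, ha⟩
  · exact Ideal.Quotient.liftₐ_comp K resS hKres
  · exact Ideal.Quotient.mk_surjective
  · intro a ha
    exact Ideal.Quotient.eq_zero_iff_mem.2 ha
  · intro A ψ hψ
    refine ⟨⟨Ideal.Quotient.liftₐ K ψ.1 hψ, ?_⟩, ?_⟩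
    · apply AlgHom.ext
      intro x
      obtain ⟨a, rfl⟩ := Ideal.Quotient.mk_surjective x
      exact congrArg (fun g : S →ₐ[Λ] k => g a) ψ.2
    · exact Ideal.Quotient.liftₐ_comp K ψ.1 hψ

end Quot

section Pull

variable {S S' : Type u} [CommRing S] [Algebra Λ S] [CommRing S'] [Algebra Λ S']
  {resS : S →ₐ[Λ] k} {resS' : S' →ₐ[Λ] k}

/-- maps out of a quotient as maps out of the ring -/
def pullHom (q : S →ₐ[Λ] S') (hresq : resS'.comp q = resS) {A : Art Λ k}
    (ψ' : HomSet S' resS' A) : HomSet S resS A :=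
  ⟨ψ'.1.comp q, by rw [← AlgHom.comp_assoc, ψ'.2, hresq]⟩

lemma pullHom_apply (q : S →ₐ[Λ] S') (hresq : resS'.comp q = resS) {A : Art Λ k}
    (ψ' : HomSet S' resS' A) (a : S) : (pullHom q hresq ψ').1 a = ψ'.1 (q a) := rfl

lemma pullHom_map (q : S →ₐ[Λ] S') (hresq : resS'.comp q = resS) {A B : Art Λ k} (μ : A ⟶ B)
    (ψ' : HomSet S' resS' A) :
    pullHom q hresq (HomSet.map μ ψ') = HomSet.map μ (pullHom q hresq ψ') :=
  homSet_ext fun _ => rfl

end Pull

section Main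

variable [IsNoetherianRing Λ] [Module.Finite Λ k]

/-- the polynomial `P` evaluated at the variable `y` -/
noncomputable def polyAt (r : ℕ) (P : Λ[X]) : MvPolynomial (Fin 1 ⊕ Fin r) Λ :=
  Polynomial.aeval (MvPolynomial.X (Sum.inl 0) : MvPolynomial (Fin 1 ⊕ Fin r) Λ) P

omit [IsNoetherianRing Λ] [Module.Finite Λ k] in
lemma map_polyAt {T : Type*} [CommRing T] [Algebra Λ T] (r : ℕ) (P : Λ[X])
    (g : MvPolynomial (Fin 1 ⊕ Fin r) Λ →ₐ[Λ] T) :
    g (polyAt r P) = (P.map (algebraMap Λ T)).eval (g (MvPolynomial.X (Sum.inl 0))) := by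
  rw [Polynomial.eval_map_algebraMap]
  exact (Polynomial.aeval_algHom_apply g _ P).symm

omit [IsNoetherianRing Λ] [Module.Finite Λ k] in
lemma poly_hom_ext {T : Type*} [CommRing T] [Algebra Λ T] {r : ℕ}
    (g₁ g₂ : MvPolynomial (Fin 1 ⊕ Fin r) Λ →ₐ[Λ] T)
    (h0 : g₁ (MvPolynomial.X (Sum.inl 0)) = g₂ (MvPolynomial.X (Sum.inl 0)))
    (h : ∀ i : Fin r, g₁ (MvPolynomial.X (Sum.inr i)) = g₂ (MvPolynomial.X (Sum.inr i))) :
    g₁ = g₂ := by
  apply MvPolynomial.algHom_ext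
  intro i
  rcases i with j | i
  · rw [Subsingleton.elim j 0]
    exact h0
  · exact h i

theorem exists_hull_aux' {F : Art Λ k ⥤ Type v} [TangentStr F]
    (hk : Subsingleton (Derivation Λ k k))
    (h0 : H0 F) (h1 : S1 F) (h2 : Heps F) {r : ℕ} (b : Module.Basis (Fin r) k (TangentSpace F)) :
    ∃ (R : CRing Λ k) (ξ : Family R.carrier R.res F), IsVersal ξ ∧
      Function.Injective (ξ.app (dual Λ k)) := by
  classical
  obtain ⟨θ, P, hPm, hPθ, hP'θ, hθsurj⟩ := exists_sep_generator (Λ := Λ) (k := k) hk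
  -- the presentation of `k`
  let f : MvPolynomial (Fin 1) Λ →ₐ[Λ] k := MvPolynomial.aeval (fun _ => θ)
  have hfX : f (MvPolynomial.X 0) = θ := by simp [f]
  have hf : Function.Surjective f := by
    intro c
    obtain ⟨q, hq⟩ := hθsurj c
    refine ⟨Polynomial.aeval (MvPolynomial.X 0 : MvPolynomial (Fin 1) Λ) q, ?_⟩
    rw [← Polynomial.aeval_algHom_apply, hfX, hq]
  obtain ⟨ξE, hξE⟩ := exists_univ_first_order h0 h2 r b
  obtain ⟨S, _, _, _, _, _, resS, ι, hres, hresι, hext, huniq⟩ :=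
    exists_smooth_ring (pi0 f r) (pi0_surjective f hf)
  have hπy : pi0 f r (MvPolynomial.X (Sum.inl 0)) = θ := by
    simp [pi0, hfX]
  have hresι' : ∀ p, resS (ι p) = pi0 f r p := fun p =>
    congrArg (fun h : MvPolynomial (Fin 1 ⊕ Fin r) Λ →ₐ[Λ] k => h p) hresι
  -- the ideal generated by `P(y)`
  have hKmem : ι (polyAt r P) ∈ maximalIdeal S := by
    rw [← resS_eq_zero_iff resS hres, hresι', map_polyAt, hπy, hPθ]
  have hK : Ideal.span {ι (polyAt r P)} ≤ maximalIdeal S :=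
    (Ideal.span_singleton_le_iff_mem _).2 hKmem
  obtain ⟨S', _, _, _, _, _, resS', q, hres', hresq, hqsurj, hqK, hpush⟩ :=
    exists_quot_ring hres (Ideal.span {ι (polyAt r P)}) hK
  have hqP : q (ι (polyAt r P)) = 0 := hqK _ (Ideal.mem_span_singleton_self _)
  -- pulling back maps out of `S'`
  have hιP : ∀ {T : Type u} [CommRing T] [Algebra Λ T] (ψ : S →ₐ[Λ] T),
      ψ (ι (polyAt r P)) =
        (P.map (algebraMap Λ T)).eval (ψ (ι (MvPolynomial.X (Sum.inl 0)))) :=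
    fun ψ => map_polyAt r P (ψ.comp ι)
  have hpull_inj : ∀ {A : Art Λ k} (ψ₁ ψ₂ : HomSet S' resS' A), pullHom q hresq ψ₁ = pullHom q hresq ψ₂ → ψ₁ = ψ₂ := by
    intro A ψ₁ ψ₂ h
    apply homSet_ext
    intro x
    obtain ⟨a, rfl⟩ := hqsurj x
    exact congrArg (fun t : HomSet S resS A => t.1 a) h
  have hpush' : ∀ (A : Art Λ k) (ψ : HomSet S resS A), ψ.1 (ι (polyAt r P)) = 0 →
      ∃ ψ' : HomSet S' resS' A, pullHom q hresq ψ' = ψ := by
    intro A ψ hψ
    obtain ⟨ψ', hψ'⟩ := hpush A ψ (by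
      intro a ha
      obtain ⟨c, rfl⟩ := Ideal.mem_span_singleton'.1 ha
      rw [map_mul, hψ, mul_zero])
    exact ⟨ψ', Subtype.ext hψ'⟩
  -- roots of `P` in the image of `y`
  have hroot : ∀ {A : Art Λ k} (ψ' : HomSet S' resS' A),
      (P.map (algebraMap Λ A)).eval ((pullHom q hresq ψ').1 (ι (MvPolynomial.X (Sum.inl 0)))) = 0 ∧
      A.res ((pullHom q hresq ψ').1 (ι (MvPolynomial.X (Sum.inl 0)))) = θ := by
    intro A ψ'
    constructor
    · rw [← hιP (pullHom q hresq ψ').1, pullHom_apply, hqP, map_zero]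
    · have e1 : A.res ((pullHom q hresq ψ').1 (ι (MvPolynomial.X (Sum.inl 0)))) =
          resS (ι (MvPolynomial.X (Sum.inl 0))) :=
        congrArg (fun h : S →ₐ[Λ] k => h (ι (MvPolynomial.X (Sum.inl 0)))) (pullHom q hresq ψ').2
      rw [e1, hresι', hπy]
  -- smoothness of `S'`
  have hsm : ∀ ⦃B A : Art Λ k⦄ (μ : B ⟶ A), Function.Surjective μ → ∀ φ : HomSet S' resS' A,
      ∃ ψ : HomSet S' resS' B, HomSet.map μ ψ = φ := by
    intro B A μ hμ φ'
    obtain ⟨ha0, har⟩ := hroot φ'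
    obtain ⟨by_, hby0, hbyr⟩ := art_exists_root B P hPm θ hPθ hP'θ
    have hμby : μ by_ = (pullHom q hresq φ').1 (ι (MvPolynomial.X (Sum.inl 0))) := by
      refine art_root_unique A P θ hP'θ ?_ ha0 ?_ har
      · rw [← art_hom_eval, hby0, map_zero]
      · rw [Art.res_app μ, hbyr]
    choose bx hbx using fun i : Fin r => hμ ((pullHom q hresq φ').1 (ι (MvPolynomial.X (Sum.inr i))))
    let g' : MvPolynomial (Fin 1 ⊕ Fin r) Λ →ₐ[Λ] B :=
      MvPolynomial.aeval (Sum.elim (fun _ => by_) bx)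
    have hg'y : g' (MvPolynomial.X (Sum.inl 0)) = by_ := by simp [g']
    have hμg : μ.toAlgHom.comp g' = (pullHom q hresq φ').1.comp ι := by
      apply poly_hom_ext
      · rw [AlgHom.comp_apply, hg'y]
        exact hμby
      · intro i
        simp only [g', AlgHom.comp_apply, MvPolynomial.aeval_X, Sum.elim_inr]
        exact hbx i
    have hresg : B.res.comp g' = pi0 f r := by
      rw [← μ.res_comp, AlgHom.comp_assoc, hμg, ← AlgHom.comp_assoc, (pullHom q hresq φ').2, hresι]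
    obtain ⟨ψ, hψ⟩ := hext B g' hresg
    have hψP : ψ.1 (ι (polyAt r P)) = 0 := by
      have e : ψ.1 (ι (MvPolynomial.X (Sum.inl 0))) = by_ :=
        (congrArg (fun g : MvPolynomial (Fin 1 ⊕ Fin r) Λ →ₐ[Λ] B =>
          g (MvPolynomial.X (Sum.inl 0))) hψ).trans hg'y
      rw [hιP ψ.1, e, hby0]
    obtain ⟨ψ', hψ'⟩ := hpush' B ψ hψP
    refine ⟨ψ', hpull_inj _ _ ?_⟩
    apply huniq
    change (μ.toAlgHom.comp (pullHom q hresq ψ').1).comp ι = (pullHom q hresq φ').1.comp ι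
    rw [hψ', AlgHom.comp_assoc, hψ, hμg]
  -- the map onto `k ⊕ k^r`
  obtain ⟨φ₀, hφ₀⟩ := hext (Er Λ k r) (g0 f r) (g0_fst f)
  have hg0y : g0 f r (MvPolynomial.X (Sum.inl 0)) =
      (TrivSqZeroExt.inl θ : TrivSqZeroExt k (Fin r → k)) := by
    simp [g0, hfX]
  have hinlroot : ∀ (A : Art Λ k) (σ : k →ₐ[Λ] A),
      (P.map (algebraMap Λ A)).eval (σ θ) = 0 := by
    intro A σ
    rw [Polynomial.eval_map_algebraMap, Polynomial.aeval_algHom_apply,
      ← Polynomial.eval_map_algebraMap, hPθ, map_zero]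
  have hφ₀y : φ₀.1 (ι (MvPolynomial.X (Sum.inl 0))) =
      (TrivSqZeroExt.inlAlgHom Λ k (Fin r → k)) θ :=
    (congrArg (fun g : MvPolynomial (Fin 1 ⊕ Fin r) Λ →ₐ[Λ] (Er Λ k r) =>
      g (MvPolynomial.X (Sum.inl 0))) hφ₀).trans hg0y
  have hφ₀P : φ₀.1 (ι (polyAt r P)) = 0 := by
    rw [hιP φ₀.1, hφ₀y]
    exact hinlroot (Er Λ k r) (TrivSqZeroExt.inlAlgHom Λ k (Fin r → k))
  obtain ⟨φ₀', hφ₀'⟩ := hpush' (Er Λ k r) φ₀ hφ₀P
  have hφ₀'surj : Function.Surjective φ₀'.1 := by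
    intro x
    obtain ⟨p, hp⟩ := g0_surjective f hf x
    refine ⟨q (ι p), ?_⟩
    change (pullHom q hresq φ₀').1 (ι p) = x
    rw [hφ₀', ← hp, ← hφ₀]
    rfl
  have htan : ∀ v : F.obj (dual Λ k), ∃ g : Er Λ k r ⟶ dual Λ k, F.map g ξE = v := by
    intro v
    refine ⟨erToDual (dotL (b.repr (TangentSpace.mk v))), ?_⟩
    have := hξE (b.repr (TangentSpace.mk v))
    rw [b.sum_repr] at this
    exact this
  obtain ⟨R, ξ, hvers, himp⟩ :=
    exists_versal_from hres' h0 h1 h2 hsm (Er Λ k r) φ₀' hφ₀'surj ξE htan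
  refine ⟨R, ξ, hvers, ?_⟩
  -- morphisms out of `E` are determined by `φ₀'`
  have hepi : ∀ {A : Art Λ k} (g₁ g₂ : Er Λ k r ⟶ A),
      HomSet.map g₁ φ₀' = HomSet.map g₂ φ₀' → g₁ = g₂ := by
    intro A g₁ g₂ h
    apply Art.hom_ext
    apply AlgHom.ext
    intro x
    obtain ⟨s, rfl⟩ := hφ₀'surj x
    exact congrArg (fun t : HomSet S' resS' A => t.1 s) h
  -- every map `S' → k[ε]` factors through `E`
  have hfactor : ∀ ψ : HomSet S' resS' (dual Λ k),
      HomSet.map (erToDual (dotL fun i =>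
        TrivSqZeroExt.snd ((pullHom q hresq ψ).1 (ι (MvPolynomial.X (Sum.inr i)))))) φ₀' = ψ := by
    intro ψ
    set ℓ : (Fin r → k) →ₗ[k] k := dotL fun i =>
        TrivSqZeroExt.snd ((pullHom q hresq ψ).1 (ι (MvPolynomial.X (Sum.inr i)))) with hℓ
    apply hpull_inj
    apply huniq
    change ((erToDual ℓ).toAlgHom.comp (pullHom q hresq φ₀').1).comp ι =
      (pullHom q hresq ψ).1.comp ι
    rw [hφ₀', AlgHom.comp_assoc, hφ₀]
    apply poly_hom_ext
    · change (erToDual ℓ) (g0 f r (MvPolynomial.X (Sum.inl 0))) =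
        (pullHom q hresq ψ).1 (ι (MvPolynomial.X (Sum.inl 0)))
      have e : (erToDual (Λ := Λ) ℓ) (g0 f r (MvPolynomial.X (Sum.inl 0))) =
          ((erToDual (Λ := Λ) ℓ).toAlgHom.comp (TrivSqZeroExt.inlAlgHom Λ k (Fin r → k))) θ :=
        congrArg (fun z : TrivSqZeroExt k (Fin r → k) => (erToDual (Λ := Λ) ℓ) z) hg0y
      rw [e]
      obtain ⟨hr0, hrr⟩ := hroot ψ
      refine art_root_unique (dual Λ k) P θ hP'θ ?_ hr0 ?_ hrr
      · exact hinlroot (dual Λ k)
          ((erToDual ℓ).toAlgHom.comp (TrivSqZeroExt.inlAlgHom Λ k (Fin r → k)))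
      · rfl
    · intro i
      have h1 : TrivSqZeroExt.fst ((pullHom q hresq ψ).1 (ι (MvPolynomial.X (Sum.inr i)))) = 0 := by
        have e1 : (dual Λ k).res ((pullHom q hresq ψ).1 (ι (MvPolynomial.X (Sum.inr i)))) =
            resS (ι (MvPolynomial.X (Sum.inr i))) :=
          congrArg (fun h : S →ₐ[Λ] k => h (ι (MvPolynomial.X (Sum.inr i)))) (pullHom q hresq ψ).2
        rw [hresι', pi0_X_inr] at e1
        exact e1
      change (erToDual ℓ) (g0 f r (MvPolynomial.X (Sum.inr i))) = _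
      rw [g0_X_inr]
      refine TrivSqZeroExt.ext ?_ ?_
      · exact h1.symm
      · exact dotL_eVec _ i
  apply himp
  · intro ψ
    exact ⟨_, hfactor ψ⟩
  · intro g g' hgg'
    have hg : g = erToDual (dotL fun i => TrivSqZeroExt.snd
        ((pullHom q hresq (HomSet.map g φ₀')).1 (ι (MvPolynomial.X (Sum.inr i))))) :=
      hepi _ _ (hfactor (HomSet.map g φ₀')).symm
    have hg' : g' = erToDual (dotL fun i => TrivSqZeroExt.snd
        ((pullHom q hresq (HomSet.map g' φ₀')).1 (ι (MvPolynomial.X (Sum.inr i))))) :=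
      hepi _ _ (hfactor (HomSet.map g' φ₀')).symm
    have e1 := hξE (fun i => TrivSqZeroExt.snd
        ((pullHom q hresq (HomSet.map g φ₀')).1 (ι (MvPolynomial.X (Sum.inr i)))))
    have e2 := hξE (fun i => TrivSqZeroExt.snd
        ((pullHom q hresq (HomSet.map g' φ₀')).1 (ι (MvPolynomial.X (Sum.inr i)))))
    rw [← hg] at e1
    rw [← hg'] at e2
    have e3 : (∑ i, (fun i => TrivSqZeroExt.snd
        ((pullHom q hresq (HomSet.map g φ₀')).1 (ι (MvPolynomial.X (Sum.inr i))))) i • b i) =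
        ∑ i, (fun i => TrivSqZeroExt.snd
        ((pullHom q hresq (HomSet.map g' φ₀')).1 (ι (MvPolynomial.X (Sum.inr i))))) i • b i := by
      rw [← e1, ← e2, hgg']
    rw [hg, hg']
    have e5 : (fun i => TrivSqZeroExt.snd
        ((pullHom q hresq (HomSet.map g φ₀')).1 (ι (MvPolynomial.X (Sum.inr i))))) = (fun i =>
        TrivSqZeroExt.snd ((pullHom q hresq (HomSet.map g' φ₀')).1 (ι (MvPolynomial.X (Sum.inr i))))) :=
      calc _ = ⇑(b.repr (∑ i, (fun i => TrivSqZeroExt.snd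
            ((pullHom q hresq (HomSet.map g φ₀')).1 (ι (MvPolynomial.X (Sum.inr i))))) i • b i)) :=
            (b.repr_sum_self _).symm
        _ = ⇑(b.repr (∑ i, (fun i => TrivSqZeroExt.snd
            ((pullHom q hresq (HomSet.map g' φ₀')).1 (ι (MvPolynomial.X (Sum.inr i))))) i • b i)) := by
            rw [e3]
        _ = _ := b.repr_sum_self _
    rw [e5]

theorem hasHull_of_no_derivations {F : Art Λ k ⥤ Type v} [TangentStr F]
    (hk : Subsingleton (Derivation Λ k k))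
    (h0 : H0 F) (h1 : S1 F) (h2 : Heps F) (h3 : Hfin F) : HasHull F := by
  haveI : Module.Finite k (TangentSpace F) := h3
  obtain ⟨R, ξ, hvers, hinj⟩ :=
    exists_hull_aux' hk h0 h1 h2 (Module.finBasis k (TangentSpace F))
  have hsurj : Function.Surjective (ξ.app (dual Λ k)) :=
    ((isVersal_iff_tangent_surjective_and_exists_lift h0 h1 h2 ξ).1 hvers).1
  exact ⟨⟨R, ξ, hvers, hinj, hsurj⟩⟩

end Main

end Groth.Agent.H6
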