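import Groth.Agent.Lib.Helper6.ArtFunFirstOrder

/-!
# helper6: the vector space structure on the tangent space of a functor of Artin rings
-/

set_option autoImplicit false
set_option linter.style.haveILetI false
set_option linter.unusedTactic false
set_option linter.unusedVariables false
set_option linter.unusedSectionVars false

universe u v
open CategoryTheory

namespace Groth.Agent.H6
open ArtFun ArtFun.Art

section Tz
variable (Λ : Type u) (k : Type u) [CommRing Λ] [Field k] [Algebra Λ k]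

/-- `k ⊕ V` -/
def Tz (V : Type u) [AddCommGroup V] [Module k V] [Module kᵐᵒᵖ V] [SMulCommClass k kᵐᵒᵖ V]
    [IsCentralScalar k V] [Module Λ V] [IsScalarTower Λ k V] [IsScalarTower Λ kᵐᵒᵖ V]
    [Module.Finite k V] : Art Λ k :=
  { carrier := TrivSqZeroExt k V
    isLocalRing := isLocalRing_tsze k V
    isArtinianRing := isArtinianRing_tsze k V
    res := TrivSqZeroExt.fstHom Λ k V
    res_surjective := fun a => ⟨TrivSqZeroExt.inl a, rfl⟩ }

variable {Λ k}
variable {V W U : Type u} [AddCommGroup V] [Module k V] [Module kᵐᵒᵖ V] [SMulCommClass k kᵐᵒᵖ V]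
    [IsCentralScalar k V] [Module Λ V] [IsScalarTower Λ k V] [IsScalarTower Λ kᵐᵒᵖ V]
    [Module.Finite k V]
  [AddCommGroup W] [Module k W] [Module kᵐᵒᵖ W] [SMulCommClass k kᵐᵒᵖ W]
    [IsCentralScalar k W] [Module Λ W] [IsScalarTower Λ k W] [IsScalarTower Λ kᵐᵒᵖ W]
    [Module.Finite k W]
  [AddCommGroup U] [Module k U] [Module kᵐᵒᵖ U] [SMulCommClass k kᵐᵒᵖ U]
    [IsCentralScalar k U] [Module Λ U] [IsScalarTower Λ k U] [IsScalarTower Λ kᵐᵒᵖ U]
    [Module.Finite k U]

/-- the morphism induced by a linear map -/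
def tzMap (f : V →ₗ[k] W) : Tz Λ k V ⟶ Tz Λ k W := ⟨tszeMap f, AlgHom.ext fun _ => rfl⟩

lemma tzMap_comp (f : V →ₗ[k] W) (g : W →ₗ[k] U) :
    (tzMap f : Tz Λ k V ⟶ Tz Λ k W) ≫ tzMap g = tzMap (g.comp f) := rfl

lemma tzMap_id : (tzMap (LinearMap.id : V →ₗ[k] V) : Tz Λ k V ⟶ Tz Λ k V) = 𝟙 _ := by
  apply Art.hom_ext
  apply AlgHom.ext
  intro x
  rfl

lemma tzMap_congr {f g : V →ₗ[k] W} (h : ∀ v, f v = g v) :
    (tzMap f : Tz Λ k V ⟶ Tz Λ k W) = tzMap g := by
  rw [LinearMap.ext h]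

/-- the inclusion `k → k ⊕ V` -/
def baseToTz : base Λ k ⟶ Tz Λ k V :=
  ⟨(Algebra.ofId k (TrivSqZeroExt k V)).restrictScalars Λ, AlgHom.ext fun _ => rfl⟩

lemma tzMap_zero :
    (tzMap (0 : V →ₗ[k] W) : Tz Λ k V ⟶ Tz Λ k W) = toBase (Tz Λ k V) ≫ baseToTz := by
  apply Art.hom_ext
  apply AlgHom.ext
  intro x
  exact TrivSqZeroExt.ext rfl rfl

/-- `k ⊕ (V × W) = (k ⊕ V) ×_k (k ⊕ W)` -/
theorem isFibreProd_tz :
    IsFibreProd (tzMap (LinearMap.fst k V W) : Tz Λ k (V × W) ⟶ Tz Λ k V)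
      (tzMap (LinearMap.snd k V W)) (toBase _) (toBase _) where
  w := by rw [eq_toBase (tzMap _ ≫ toBase _), eq_toBase (tzMap _ ≫ toBase _)]
  inj b₁ b₂ h₁ h₂ := by
    have e₁ : b₁.fst = b₂.fst := by have e := congrArg TrivSqZeroExt.fst h₁; exact e
    have e₂ : b₁.snd.1 = b₂.snd.1 := by have e := congrArg TrivSqZeroExt.snd h₁; exact e
    have e₃ : b₁.snd.2 = b₂.snd.2 := by have e := congrArg TrivSqZeroExt.snd h₂; exact e
    exact TrivSqZeroExt.ext e₁ (Prod.ext e₂ e₃)
  surj a' a'' h := by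
    have h' : a'.fst = a''.fst := h
    exact ⟨(a'.fst, (a'.snd, a''.snd)), TrivSqZeroExt.ext rfl rfl, TrivSqZeroExt.ext h' rfl⟩

end Tz

section Construct

variable {Λ : Type u} {k : Type u} [CommRing Λ] [Field k] [Algebra Λ k]
variable {V : Type u} [AddCommGroup V] [Module k V] [Module kᵐᵒᵖ V] [SMulCommClass k kᵐᵒᵖ V]
    [IsCentralScalar k V] [Module Λ V] [IsScalarTower Λ k V] [IsScalarTower Λ kᵐᵒᵖ V]
    [Module.Finite k V]
variable {F : Art Λ k ⥤ Type v}

lemma exists_pair (h0 : H0 F) (h2 : Heps F) (x : F.obj (Tz Λ k V)) (y : F.obj (dual Λ k)) :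
    ∃ z : F.obj (Tz Λ k (V × k)), F.map (tzMap (LinearMap.fst k V k)) z = x ∧
      F.map (tzMap (LinearMap.snd k V k) : Tz Λ k (V × k) ⟶ dual Λ k) z = y := by
  have hs := (h2 _ _ (isFibreProd_tz (Λ := Λ) (k := k) (V := V) (W := k))).2
  rw [cmp_surjective_iff] at hs
  haveI := h0.2
  exact hs x y (Subsingleton.elim _ _)

lemma pair_unique (h2 : Heps F) (z₁ z₂ : F.obj (Tz Λ k (V × k)))
    (e1 : F.map (tzMap (LinearMap.fst k V k)) z₁ = F.map (tzMap (LinearMap.fst k V k)) z₂)
    (e2 : F.map (tzMap (LinearMap.snd k V k) : Tz Λ k (V × k) ⟶ dual Λ k) z₁ =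
      F.map (tzMap (LinearMap.snd k V k) : Tz Λ k (V × k) ⟶ dual Λ k) z₂) : z₁ = z₂ :=
  (cmp_injective_iff F _).1
    (h2 _ _ (isFibreProd_tz (Λ := Λ) (k := k) (V := V) (W := k))).1 z₁ z₂ e1 e2

/-- the tangent space, in `Tz` form -/
abbrev TT (F : Art Λ k ⥤ Type v) : Type v := F.obj (Tz Λ k k)

/-- the element of `F(k[ε₁, ε₂])` with given projections -/
noncomputable def tpair (h0 : H0 F) (h2 : Heps F) (x y : TT F) : F.obj (Tz Λ k (k × k)) :=
  (exists_pair (V := k) h0 h2 x y).choose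

lemma tpair_fst (h0 : H0 F) (h2 : Heps F) (x y : TT F) :
    F.map (tzMap (LinearMap.fst k k k)) (tpair h0 h2 x y) = x :=
  (exists_pair (V := k) h0 h2 x y).choose_spec.1

lemma tpair_snd (h0 : H0 F) (h2 : Heps F) (x y : TT F) :
    F.map (tzMap (LinearMap.snd k k k)) (tpair h0 h2 x y) = y :=
  (exists_pair (V := k) h0 h2 x y).choose_spec.2

lemma eq_tpair (h0 : H0 F) (h2 : Heps F) (z : F.obj (Tz Λ k (k × k))) :
    z = tpair h0 h2 (F.map (tzMap (LinearMap.fst k k k)) z)
      (F.map (tzMap (LinearMap.snd k k k)) z) :=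
  pair_unique (V := k) h2 z _ (tpair_fst h0 h2 _ _).symm (tpair_snd h0 h2 _ _).symm

/-- addition on the tangent space -/
noncomputable def tadd (h0 : H0 F) (h2 : Heps F) (x y : TT F) : TT F :=
  F.map (tzMap (LinearMap.fst k k k + LinearMap.snd k k k)) (tpair h0 h2 x y)

lemma tadd_of (h0 : H0 F) (h2 : Heps F) (z : F.obj (Tz Λ k (k × k))) :
    tadd h0 h2 (F.map (tzMap (LinearMap.fst k k k)) z) (F.map (tzMap (LinearMap.snd k k k)) z) =
      F.map (tzMap (LinearMap.fst k k k + LinearMap.snd k k k)) z := by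
  unfold tadd
  rw [← eq_tpair]

/-- the basic principle: sums are computed by any element mapping to the two summands -/
lemma tadd_map (h0 : H0 F) (h2 : Heps F) (f : V →ₗ[k] k × k) (w : F.obj (Tz Λ k V))
    (f₁ f₂ f₃ : V →ₗ[k] k) (e1 : ∀ v, (f v).1 = f₁ v) (e2 : ∀ v, (f v).2 = f₂ v)
    (e3 : ∀ v, (f v).1 + (f v).2 = f₃ v) :
    tadd h0 h2 (F.map (tzMap f₁) w) (F.map (tzMap f₂) w) = F.map (tzMap f₃) w := by
  have h := tadd_of h0 h2 (F.map (tzMap f) w)
  rw [← map_comp_apply', ← map_comp_apply', ← map_comp_apply', tzMap_comp, tzMap_comp,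
    tzMap_comp] at h
  rw [tzMap_congr (f := (LinearMap.fst k k k).comp f) (g := f₁) e1,
    tzMap_congr (f := (LinearMap.snd k k k).comp f) (g := f₂) e2,
    tzMap_congr (f := (LinearMap.fst k k k + LinearMap.snd k k k).comp f) (g := f₃) e3] at h
  exact h

/-- the zero tangent vector -/
noncomputable def tzero (h0 : H0 F) : TT F := F.map baseToTz h0.1.some

lemma map_tzMap_zero (h0 : H0 F) (x : TT F) :
    F.map (tzMap (0 : k →ₗ[k] k)) x = tzero h0 := by
  haveI := h0.2
  rw [tzMap_zero, map_comp_apply']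
  unfold tzero
  congr 1
  exact Subsingleton.elim _ _

lemma map_tzMap_id (x : F.obj (Tz Λ k V)) : F.map (tzMap (LinearMap.id : V →ₗ[k] V)) x = x := by
  rw [tzMap_id, map_id_apply']

theorem tadd_comm (h0 : H0 F) (h2 : Heps F) (x y : TT F) :
    tadd h0 h2 x y = tadd h0 h2 y x := by
  have h := tadd_map h0 h2 ((LinearMap.snd k k k).prod (LinearMap.fst k k k))
    (tpair h0 h2 x y) (LinearMap.snd k k k) (LinearMap.fst k k k)
    (LinearMap.fst k k k + LinearMap.snd k k k) (fun v => rfl) (fun v => rfl)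
    (fun v => add_comm _ _)
  rw [tpair_fst, tpair_snd] at h
  rw [h]
  rfl

theorem tzero_add (h0 : H0 F) (h2 : Heps F) (x : TT F) :
    tadd h0 h2 (tzero h0) x = x := by
  have h := tadd_map h0 h2 (LinearMap.inr k k k) x (0 : k →ₗ[k] k) LinearMap.id LinearMap.id
    (fun v => rfl) (fun v => rfl) (fun v => zero_add _)
  rw [map_tzMap_zero h0, map_tzMap_id] at h
  exact h

/-- scalar multiplication on the tangent space -/
def tsmul (c : k) (x : TT F) : TT F := F.map (tzMap (c • (LinearMap.id : k →ₗ[k] k))) x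

theorem tneg_add (h0 : H0 F) (h2 : Heps F) (x : TT F) :
    tadd h0 h2 (tsmul (-1 : k) x) x = tzero h0 := by
  have h := tadd_map h0 h2 (((-1 : k) • (LinearMap.id : k →ₗ[k] k)).prod LinearMap.id) x
    ((-1 : k) • (LinearMap.id : k →ₗ[k] k)) LinearMap.id (0 : k →ₗ[k] k)
    (fun v => rfl) (fun v => rfl) (fun v => by
      change (-1 : k) • v + v = 0
      simp)
  rw [map_tzMap_zero h0, map_tzMap_id] at h
  exact h

theorem tadd_assoc (h0 : H0 F) (h2 : Heps F) (x y z : TT F) :
    tadd h0 h2 (tadd h0 h2 x y) z = tadd h0 h2 x (tadd h0 h2 y z) := by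
  obtain ⟨u, hu1, hu2⟩ := exists_pair (V := k × k) h0 h2 (tpair h0 h2 x y) z
  have hA := tadd_map h0 h2
    (((LinearMap.fst k k k + LinearMap.snd k k k).comp (LinearMap.fst k (k × k) k)).prod
      (LinearMap.snd k (k × k) k)) u
    ((LinearMap.fst k k k + LinearMap.snd k k k).comp (LinearMap.fst k (k × k) k))
    (LinearMap.snd k (k × k) k)
    ((LinearMap.fst k k k + LinearMap.snd k k k).comp (LinearMap.fst k (k × k) k) +
      LinearMap.snd k (k × k) k)
    (fun v => rfl) (fun v => rfl) (fun v => rfl)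
  rw [← tzMap_comp (LinearMap.fst k (k × k) k) (LinearMap.fst k k k + LinearMap.snd k k k),
    map_comp_apply', hu1, hu2] at hA
  have hB := tadd_map h0 h2
    (((LinearMap.snd k k k).comp (LinearMap.fst k (k × k) k)).prod
      (LinearMap.snd k (k × k) k)) u
    ((LinearMap.snd k k k).comp (LinearMap.fst k (k × k) k))
    (LinearMap.snd k (k × k) k)
    ((LinearMap.snd k k k).comp (LinearMap.fst k (k × k) k) + LinearMap.snd k (k × k) k)
    (fun v => rfl) (fun v => rfl) (fun v => rfl)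
  rw [← tzMap_comp (LinearMap.fst k (k × k) k) (LinearMap.snd k k k),
    map_comp_apply', hu1, hu2, tpair_snd] at hB
  have hC := tadd_map h0 h2
    (((LinearMap.fst k k k).comp (LinearMap.fst k (k × k) k)).prod
      ((LinearMap.snd k k k).comp (LinearMap.fst k (k × k) k) + LinearMap.snd k (k × k) k)) u
    ((LinearMap.fst k k k).comp (LinearMap.fst k (k × k) k))
    ((LinearMap.snd k k k).comp (LinearMap.fst k (k × k) k) + LinearMap.snd k (k × k) k)
    ((LinearMap.fst k k k + LinearMap.snd k k k).comp (LinearMap.fst k (k × k) k) +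
      LinearMap.snd k (k × k) k)
    (fun v => rfl) (fun v => rfl) (fun v => (add_assoc _ _ _).symm)
  rw [← tzMap_comp (LinearMap.fst k (k × k) k) (LinearMap.fst k k k),
    map_comp_apply', hu1, tpair_fst, ← hB] at hC
  have hA' : tadd h0 h2 (tadd h0 h2 x y) z = _ := hA
  rw [hA', ← hC]

theorem tsmul_add (h0 : H0 F) (h2 : Heps F) (c : k) (x y : TT F) :
    tsmul c (tadd h0 h2 x y) = tadd h0 h2 (tsmul c x) (tsmul c y) := by
  have h := tadd_map h0 h2 (c • (LinearMap.id : k × k →ₗ[k] k × k)) (tpair h0 h2 x y)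
    ((c • (LinearMap.id : k →ₗ[k] k)).comp (LinearMap.fst k k k))
    ((c • (LinearMap.id : k →ₗ[k] k)).comp (LinearMap.snd k k k))
    ((c • (LinearMap.id : k →ₗ[k] k)).comp (LinearMap.fst k k k + LinearMap.snd k k k))
    (fun v => rfl) (fun v => rfl) (fun v => by
      change c • v.1 + c • v.2 = c • (v.1 + v.2)
      rw [smul_add])
  rw [← tzMap_comp, ← tzMap_comp, ← tzMap_comp, map_comp_apply', map_comp_apply',
    map_comp_apply', tpair_fst, tpair_snd] at h
  exact h.symm

theorem tadd_smul (h0 : H0 F) (h2 : Heps F) (c c' : k) (x : TT F) :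
    tsmul (c + c') x = tadd h0 h2 (tsmul c x) (tsmul c' x) := by
  have h := tadd_map h0 h2
    ((c • (LinearMap.id : k →ₗ[k] k)).prod (c' • (LinearMap.id : k →ₗ[k] k))) x
    (c • (LinearMap.id : k →ₗ[k] k)) (c' • (LinearMap.id : k →ₗ[k] k))
    ((c + c') • (LinearMap.id : k →ₗ[k] k))
    (fun v => rfl) (fun v => rfl) (fun v => by
      change c • v + c' • v = (c + c') • v
      rw [add_smul])
  exact h.symm

theorem tmul_smul (c c' : k) (x : TT F) : tsmul (c * c') x = tsmul c (tsmul c' x) := by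
  unfold tsmul
  rw [← map_comp_apply', tzMap_comp,
    tzMap_congr (f := (c * c') • (LinearMap.id : k →ₗ[k] k))
      (g := (c • (LinearMap.id : k →ₗ[k] k)).comp (c' • (LinearMap.id : k →ₗ[k] k)))
      (fun v => by
        change (c * c') • v = c • (c' • v)
        rw [mul_smul])]

theorem tone_smul (x : TT F) : tsmul (1 : k) x = x := by
  unfold tsmul
  rw [tzMap_congr (f := (1 : k) • (LinearMap.id : k →ₗ[k] k)) (g := LinearMap.id) (fun v => by
    change (1 : k) • v = v
    rw [one_smul])]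
  exact map_tzMap_id x

/-- the additive group structure on the tangent space -/
@[reducible] noncomputable def tangentAddCommGroup (h0 : H0 F) (h2 : Heps F) : AddCommGroup (TT F) :=
  letI : Add (TT F) := ⟨tadd h0 h2⟩
  letI : Zero (TT F) := ⟨tzero h0⟩
  letI : Neg (TT F) := ⟨fun x => tsmul (-1 : k) x⟩
  { AddGroup.ofLeftAxioms (tadd_assoc h0 h2) (tzero_add h0 h2) (tneg_add h0 h2) with
    add_comm := tadd_comm h0 h2 }

/-- the vector space structure on the tangent space -/
@[reducible] noncomputable def tangentModule (h0 : H0 F) (h2 : Heps F) :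
    letI := tangentAddCommGroup h0 h2
    Module k (TT F) :=
  letI := tangentAddCommGroup h0 h2
  letI : SMul k (TT F) := ⟨fun c x => tsmul c x⟩
  Module.ofMinimalAxioms (tsmul_add h0 h2) (tadd_smul h0 h2) tmul_smul tone_smul

/-- the tangent space structure of a functor satisfying `H0` and `Hε` -/
@[reducible] noncomputable def tangentStr (h0 : H0 F) (h2 : Heps F) : TangentStr F where
  addCommGroup := tangentAddCommGroup h0 h2
  module := tangentModule h0 h2
  smul_eq := fun c x => rfl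
  add_eq := fun z => tadd_of h0 h2 z

end Construct

end Groth.Agent.H6
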