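import Groth.Agent.Lib.Helper6.ArtFunEndo
import Groth.Agent.Lib.Helper6.ArtFunSepHull
import Groth.Agent.Lib.Helper6.ArtFunTangent

/-!
# helper6: minimal versal families are hulls when `k` has no nonzero `Λ`-derivations
-/

set_option autoImplicit false
set_option linter.style.haveILetI false
set_option linter.unusedTactic false
set_option linter.unusedVariables false
set_option linter.unusedSectionVars false

universe u v
open CategoryTheory

namespace Groth.Agent.H6
open ArtFun ArtFun.Art IsLocalRing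

variable {Λ : Type u} {k : Type u} [CommRing Λ] [Field k] [Algebra Λ k]
  [IsNoetherianRing Λ] [Module.Finite Λ k] {F : Art Λ k ⥤ Type v}

/-- the tangent space is finite-dimensional as soon as some family over a coefficient ring is
surjective on tangent spaces -/
theorem hfin_of_tangent_surjective [TangentStr F] (R : CRing Λ k)
    (ξ : Family R.carrier R.res F) (hs : Function.Surjective (ξ.app (dual Λ k))) : Hfin F := by
  classical
  obtain ⟨n, r, hr⟩ := Submodule.fg_iff_exists_fin_generating_family.1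
    (IsNoetherian.noetherian (maximalIdeal R.carrier))
  obtain ⟨m, s, hs'⟩ := Module.Finite.exists_fin (R := Λ) (M := k)
  choose y hy using fun j => R.res_surjective (s j)
  have hy' : Submodule.span Λ (Set.range fun j => R.res (y j)) = ⊤ := by
    rw [← hs']
    congr 2
    funext j
    exact hy j
  let T' : HomSet R.carrier R.res (dual Λ k) → (Fin n → k) × (Fin m → k) := fun ψ =>
    (fun i => TrivSqZeroExt.snd (ψ.1 (r i)), fun j => TrivSqZeroExt.snd (ψ.1 (y j)))
  have hres : ∀ (χ : HomSet R.carrier R.res (dual Λ k)) (a : R.carrier),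
      TrivSqZeroExt.fst (χ.1 a) = R.res a := fun χ a =>
    congrArg (fun g : R.carrier →ₐ[Λ] k => g a) χ.2
  have hT' : Function.Injective T' := by
    intro ψ ψ' h
    have h1 : ∀ i, TrivSqZeroExt.snd (ψ.1 (r i)) = TrivSqZeroExt.snd (ψ'.1 (r i)) :=
      fun i => congrFun (congrArg Prod.fst h) i
    have h2 : ∀ j, TrivSqZeroExt.snd (ψ.1 (y j)) = TrivSqZeroExt.snd (ψ'.1 (y j)) :=
      fun j => congrFun (congrArg Prod.snd h) j
    exact homSet_dual_ext R r hr y hy' ψ ψ'
      (fun i => TrivSqZeroExt.ext (by rw [hres, hres]) (h1 i))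
      (fun j => TrivSqZeroExt.ext (by rw [hres, hres]) (h2 j))
  have hadd : ∀ ψ ψ' : HomSet R.carrier R.res (dual Λ k),
      ∃ ψ'' : HomSet R.carrier R.res (dual Λ k), T' ψ'' = T' ψ + T' ψ' ∧
        TangentSpace.mk (ξ.app _ ψ'') =
          TangentSpace.mk (ξ.app _ ψ) + TangentSpace.mk (ξ.app _ ψ') := by
    intro ψ ψ'
    obtain ⟨χ, h1, h2⟩ := fp_exists_homSet isFibreProd_dual2 ψ ψ' (homSet_base_eq _ _)
    refine ⟨HomSet.map plus χ, ?_, ?_⟩
    · rw [← h1, ← h2]
      rfl
    · have h3 : TangentSpace.mk (F.map pr₁ (ξ.app _ χ)) + TangentSpace.mk (F.map pr₂ (ξ.app _ χ)) =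
          TangentSpace.mk (F.map plus (ξ.app _ χ)) := TangentStr.add_eq (F := F) (ξ.app _ χ)
      rw [← ξ.natural, ← ξ.natural, ← ξ.natural, h1, h2] at h3
      exact h3.symm
  have hsmul : ∀ (c : k) (ψ : HomSet R.carrier R.res (dual Λ k)),
      ∃ ψ'' : HomSet R.carrier R.res (dual Λ k), T' ψ'' = c • T' ψ ∧
        TangentSpace.mk (ξ.app _ ψ'') = c • TangentSpace.mk (ξ.app _ ψ) := by
    intro c ψ
    refine ⟨HomSet.map (scale c) ψ, ?_, ?_⟩
    · refine Prod.ext (funext fun i => ?_) (funext fun j => ?_)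
      · change ((c • LinearMap.id : k →ₗ[k] k) _) = _
        simp [T']
      · change ((c • LinearMap.id : k →ₗ[k] k) _) = _
        simp [T']
    · rw [ξ.natural]
      exact (TangentStr.smul_eq (F := F) c (TangentSpace.mk (ξ.app _ ψ))).symm
  let ψ₀ : HomSet R.carrier R.res (dual Λ k) := HomSet.map baseToDual (homSetBase R.carrier R.res)
  let W : Submodule k ((Fin n → k) × (Fin m → k)) :=
    { carrier := Set.range T'
      add_mem' := by
        rintro _ _ ⟨ψ, rfl⟩ ⟨ψ', rfl⟩
        obtain ⟨ψ'', h, -⟩ := hadd ψ ψ'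
        exact ⟨ψ'', h⟩
      zero_mem' := by
        obtain ⟨ψ'', h, -⟩ := hsmul 0 ψ₀
        exact ⟨ψ'', by rw [h, zero_smul]⟩
      smul_mem' := by
        rintro c _ ⟨ψ, rfl⟩
        obtain ⟨ψ'', h, -⟩ := hsmul c ψ
        exact ⟨ψ'', h⟩ }
  have hW : ∀ w : W, ∃ ψ : HomSet R.carrier R.res (dual Λ k), T' ψ = w.1 := fun w => w.2
  choose pre hpre using hW
  let L : W →ₗ[k] TangentSpace F :=
    { toFun := fun w => TangentSpace.mk (ξ.app _ (pre w))
      map_add' := by
        intro w w'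
        obtain ⟨ψ'', h1, h2⟩ := hadd (pre w) (pre w')
        have : pre (w + w') = ψ'' := by
          apply hT'
          rw [hpre, h1, hpre, hpre]
          rfl
        rw [this, h2]
      map_smul' := by
        intro c w
        obtain ⟨ψ'', h1, h2⟩ := hsmul c (pre w)
        have : pre (c • w) = ψ'' := by
          apply hT'
          rw [hpre, h1, hpre]
          rfl
        rw [this, h2]
        rfl }
  have hL : Function.Surjective L := by
    intro x
    obtain ⟨ψ, hψ⟩ := hs x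
    refine ⟨⟨T' ψ, ψ, rfl⟩, ?_⟩
    have : pre ⟨T' ψ, ψ, rfl⟩ = ψ := hT' (hpre _)
    change TangentSpace.mk (ξ.app _ (pre ⟨T' ψ, ψ, rfl⟩)) = x
    rw [this]
    exact hψ
  exact Module.Finite.of_surjective L hL

/-- **S12749** a minimal versal family is a hull when `k` has no nonzero `Λ`-derivations -/
theorem isMiniversal_of_isMinimalVersal (hk : Subsingleton (Derivation Λ k k))
    (h0 : H0 F) (h2 : Heps F) {R : CRing Λ k} (ξ : Family R.carrier R.res F)
    (hξ : ξ.IsMinimalVersal) : IsMiniversal ξ := by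
  letI T : TangentStr F := tangentStr h0 h2
  have hsurj := fun A => versal_surjective_app ξ hξ.1 h0 A
  have h1 : S1 F := s1_of_versal_of_surjective ξ hξ.1 hsurj
  have h3 : Hfin F := hfin_of_tangent_surjective R ξ (hsurj _)
  obtain ⟨⟨R', ξ', hξ'⟩⟩ := hasHull_of_no_derivations hk h0 h1 h2 h3
  have hmin' := isMinimalVersal_of_isMiniversal h0 ξ' hξ'
  obtain ⟨e, he, hee⟩ := minimalVersal_unique h0 ξ ξ' hξ hmin'
  have hfam : ξ.along (e : R.carrier →ₐ[Λ] R'.carrier) he = ξ' :=
    family_ext_of_toFormalElt _ _ hee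
  have hres' : R.res.comp (e.symm : R'.carrier →ₐ[Λ] R.carrier) = R'.res := by
    rw [← he]
    apply AlgHom.ext
    intro a
    simp
  have key : ∀ ψ : HomSet R.carrier R.res (dual Λ k),
      ∃ ψ' : HomSet R'.carrier R'.res (dual Λ k), ξ'.app _ ψ' = ξ.app _ ψ ∧
        ψ'.1.comp (e : R.carrier →ₐ[Λ] R'.carrier) = ψ.1 := by
    intro ψ
    have hres : (dual Λ k).res.comp (ψ.1.comp (e.symm : R'.carrier →ₐ[Λ] R.carrier)) = R'.res := by
      rw [← AlgHom.comp_assoc, ψ.2, hres']
    have hcomp : (ψ.1.comp (e.symm : R'.carrier →ₐ[Λ] R.carrier)).comp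
        (e : R.carrier →ₐ[Λ] R'.carrier) = ψ.1 := by
      apply AlgHom.ext
      intro a
      simp
    refine ⟨⟨ψ.1.comp (e.symm : R'.carrier →ₐ[Λ] R.carrier), hres⟩, ?_, hcomp⟩
    rw [← hfam]
    change ξ.app _ ⟨(ψ.1.comp (e.symm : R'.carrier →ₐ[Λ] R.carrier)).comp
      (e : R.carrier →ₐ[Λ] R'.carrier), _⟩ = ξ.app _ ψ
    congr 1
    exact Subtype.ext hcomp
  refine ⟨hξ.1, ?_, hsurj _⟩
  intro ψ₁ ψ₂ h
  obtain ⟨ψ₁', h1a, h1b⟩ := key ψ₁
  obtain ⟨ψ₂', h2a, h2b⟩ := key ψ₂
  have h12 : ψ₁' = ψ₂' := hξ'.2.1 (by rw [h1a, h2a, h])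
  apply Subtype.ext
  rw [← h1b, ← h2b, h12]

end Groth.Agent.H6
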