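import Groth.Agent.Lib.Helper6.ArtFunDelta

/-!
# helper6: pullbacks and products of functors of Artin rings, objectwise
-/

set_option autoImplicit false
set_option linter.style.haveILetI false
set_option linter.unusedTactic false

universe u v

open CategoryTheory CategoryTheory.Limits

namespace Groth.Agent.H6

open ArtFun ArtFun.Art

variable {Λ : Type u} {k : Type u} [CommRing Λ] [Field k] [Algebra Λ k]

section Pullback

variable {F G H : Art Λ k ⥤ Type v} (η : F ⟶ G) (θ : H ⟶ G)

/-- Objectwise description of the pullback of functors. -/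
noncomputable def pbEquiv (A : Art Λ k) :
    (pullback η θ).obj A ≃ Types.PullbackObj (η.app A) (θ.app A) :=
  PullbackCone.IsLimit.equivPullbackObj
    (isLimitOfHasPullbackOfPreservesLimit ((evaluation (Art Λ k) (Type v)).obj A) η θ)

lemma pbEquiv_fst (A : Art Λ k) (w : (pullback η θ).obj A) :
    (pbEquiv η θ A w).1.1 = (pullback.fst η θ).app A w := by
  unfold pbEquiv
  exact PullbackCone.IsLimit.equivPullbackObj_apply_fst
    (isLimitOfHasPullbackOfPreservesLimit ((evaluation (Art Λ k) (Type v)).obj A) η θ) w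

lemma pbEquiv_snd (A : Art Λ k) (w : (pullback η θ).obj A) :
    (pbEquiv η θ A w).1.2 = (pullback.snd η θ).app A w := by
  unfold pbEquiv
  exact PullbackCone.IsLimit.equivPullbackObj_apply_snd
    (isLimitOfHasPullbackOfPreservesLimit ((evaluation (Art Λ k) (Type v)).obj A) η θ) w

lemma pb_ext {A : Art Λ k} {w w' : (pullback η θ).obj A}
    (h1 : (pullback.fst η θ).app A w = (pullback.fst η θ).app A w')
    (h2 : (pullback.snd η θ).app A w = (pullback.snd η θ).app A w') : w = w' := by
  apply (pbEquiv η θ A).injective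
  apply Subtype.ext
  apply Prod.ext
  · rw [pbEquiv_fst, pbEquiv_fst, h1]
  · rw [pbEquiv_snd, pbEquiv_snd, h2]

lemma pb_exists {A : Art Λ k} (x : F.obj A) (y : H.obj A) (hxy : η.app A x = θ.app A y) :
    ∃ w : (pullback η θ).obj A, (pullback.fst η θ).app A w = x ∧ (pullback.snd η θ).app A w = y := by
  refine ⟨(pbEquiv η θ A).symm ⟨(x, y), hxy⟩, ?_, ?_⟩
  · rw [← pbEquiv_fst, Equiv.apply_symm_apply]
  · rw [← pbEquiv_snd, Equiv.apply_symm_apply]

lemma pb_condition_apply {A : Art Λ k} (w : (pullback η θ).obj A) :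
    η.app A ((pullback.fst η θ).app A w) = θ.app A ((pullback.snd η θ).app A w) := by
  have := (pbEquiv η θ A w).2
  rwa [pbEquiv_fst, pbEquiv_snd] at this

/-- The second projection of a pullback along a smooth morphism is smooth. -/
theorem isSmooth_pullback_snd (hη : IsSmooth η) : IsSmooth (pullback.snd η θ) := by
  rw [isSmooth_iff] at *
  intro B A μ hμ w y hwy
  have hxy : η.app A ((pullback.fst η θ).app A w) = G.map μ (θ.app B y) := by
    rw [pb_condition_apply, hwy]
    exact NatTrans.naturality_apply θ μ y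
  obtain ⟨z, hz1, hz2⟩ := hη μ hμ _ _ hxy
  obtain ⟨w', hw'1, hw'2⟩ := pb_exists η θ z y hz2
  refine ⟨w', ?_, hw'2⟩
  apply pb_ext
  · rw [NatTrans.naturality_apply (pullback.fst η θ) μ w', hw'1, hz1]
  · rw [NatTrans.naturality_apply (pullback.snd η θ) μ w', hw'2, hwy]

/-- (RS) is stable under fibre products of functors. -/
theorem rs_pullback (hG : RS G) (hF : RS F) (hH : RS H) : RS (pullback η θ) := by
  intro B A A' A'' p' p'' f' f'' h hs
  have hFb := hF p' p'' f' f'' h hs
  have hGb := hG p' p'' f' f'' h hs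
  have hHb := hH p' p'' f' f'' h hs
  constructor
  · rw [cmp_injective_iff]
    intro w₁ w₂ e1 e2
    apply pb_ext
    · apply (cmp_injective_iff F h).mp hFb.1
      · rw [← NatTrans.naturality_apply (pullback.fst η θ) p', ←
          NatTrans.naturality_apply (pullback.fst η θ) p', e1]
      · rw [← NatTrans.naturality_apply (pullback.fst η θ) p'', ←
          NatTrans.naturality_apply (pullback.fst η θ) p'', e2]
    · apply (cmp_injective_iff H h).mp hHb.1
      · rw [← NatTrans.naturality_apply (pullback.snd η θ) p', ←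
          NatTrans.naturality_apply (pullback.snd η θ) p', e1]
      · rw [← NatTrans.naturality_apply (pullback.snd η θ) p'', ←
          NatTrans.naturality_apply (pullback.snd η θ) p'', e2]
  · rw [cmp_surjective_iff]
    intro w' w'' hw
    have h1 : F.map f' ((pullback.fst η θ).app A' w') = F.map f'' ((pullback.fst η θ).app A'' w'') := by
      rw [← NatTrans.naturality_apply (pullback.fst η θ) f', ←
        NatTrans.naturality_apply (pullback.fst η θ) f'', hw]
    have h2 : H.map f' ((pullback.snd η θ).app A' w') = H.map f'' ((pullback.snd η θ).app A'' w'') := by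
      rw [← NatTrans.naturality_apply (pullback.snd η θ) f', ←
        NatTrans.naturality_apply (pullback.snd η θ) f'', hw]
    obtain ⟨x, hx1, hx2⟩ := (cmp_surjective_iff F h).mp hFb.2 _ _ h1
    obtain ⟨y, hy1, hy2⟩ := (cmp_surjective_iff H h).mp hHb.2 _ _ h2
    have hxy : η.app B x = θ.app B y := by
      apply (cmp_injective_iff G h).mp hGb.1
      · rw [← NatTrans.naturality_apply η p', ← NatTrans.naturality_apply θ p', hx1, hy1,
          pb_condition_apply]
      · rw [← NatTrans.naturality_apply η p'', ← NatTrans.naturality_apply θ p'', hx2, hy2,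
          pb_condition_apply]
    obtain ⟨w, hw1, hw2⟩ := pb_exists η θ x y hxy
    refine ⟨w, ?_, ?_⟩
    · apply pb_ext
      · rw [NatTrans.naturality_apply (pullback.fst η θ) p', hw1, hx1]
      · rw [NatTrans.naturality_apply (pullback.snd η θ) p', hw2, hy1]
    · apply pb_ext
      · rw [NatTrans.naturality_apply (pullback.fst η θ) p'', hw1, hx2]
      · rw [NatTrans.naturality_apply (pullback.snd η θ) p'', hw2, hy2]

end Pullback

section PullbackMap

variable {F G H₁ H₂ : Art Λ k ⥤ Type v} [IsNoetherianRing Λ] [Module.Finite Λ k]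

/-- `H₁ ×_G H₂ → H₁ ×_F H₂` is smooth when `G → F` is injective on tangent spaces. -/
theorem isSmooth_pullback_map_of_tangent_injective (p₁ : H₁ ⟶ G) (p₂ : H₂ ⟶ G) (q : G ⟶ F)
    (hF : RS F) (hG : RS G) (hq : Function.Injective (TangentSpace.map q)) :
    IsSmooth (pullback.map p₁ p₂ (p₁ ≫ q) (p₂ ≫ q) (𝟙 H₁) (𝟙 H₂) q
      (Category.id_comp _).symm (Category.id_comp _).symm) := by
  set T := pullback.map p₁ p₂ (p₁ ≫ q) (p₂ ≫ q) (𝟙 H₁) (𝟙 H₂) q
      (Category.id_comp _).symm (Category.id_comp _).symm with hT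
  have hT1 : ∀ (A : Art Λ k) (w : (pullback p₁ p₂).obj A),
      (pullback.fst (p₁ ≫ q) (p₂ ≫ q)).app A (T.app A w) = (pullback.fst p₁ p₂).app A w := by
    intro A w
    have : T ≫ pullback.fst (p₁ ≫ q) (p₂ ≫ q) = pullback.fst p₁ p₂ ≫ 𝟙 H₁ := by
      rw [hT]; exact pullback.lift_fst _ _ _
    rw [Category.comp_id] at this
    exact congrArg (fun t : pullback p₁ p₂ ⟶ H₁ => t.app A w) this
  have hT2 : ∀ (A : Art Λ k) (w : (pullback p₁ p₂).obj A),
      (pullback.snd (p₁ ≫ q) (p₂ ≫ q)).app A (T.app A w) = (pullback.snd p₁ p₂).app A w := by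
    intro A w
    have : T ≫ pullback.snd (p₁ ≫ q) (p₂ ≫ q) = pullback.snd p₁ p₂ ≫ 𝟙 H₂ := by
      rw [hT]; exact pullback.lift_snd _ _ _
    rw [Category.comp_id] at this
    exact congrArg (fun t : pullback p₁ p₂ ⟶ H₂ => t.app A w) this
  apply isSmooth_of_smallExt
  intro B A μ hμ
  rw [relCmp_surjective_iff]
  intro w y hwy
  set h₁' := (pullback.fst (p₁ ≫ q) (p₂ ≫ q)).app B y with hh₁'
  set h₂' := (pullback.snd (p₁ ≫ q) (p₂ ≫ q)).app B y with hh₂'
  have hq12 : q.app B (p₁.app B h₁') = q.app B (p₂.app B h₂') :=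
    pb_condition_apply (p₁ ≫ q) (p₂ ≫ q) y
  have e1 : H₁.map μ h₁' = (pullback.fst p₁ p₂).app A w := by
    rw [hh₁', ← NatTrans.naturality_apply (pullback.fst (p₁ ≫ q) (p₂ ≫ q)) μ y, ← hwy, hT1]
  have e2 : H₂.map μ h₂' = (pullback.snd p₁ p₂).app A w := by
    rw [hh₂', ← NatTrans.naturality_apply (pullback.snd (p₁ ≫ q) (p₂ ≫ q)) μ y, ← hwy, hT2]
  have hover : G.map μ (p₁.app B h₁') = G.map μ (p₂.app B h₂') := by
    rw [← NatTrans.naturality_apply p₁ μ, ← NatTrans.naturality_apply p₂ μ, e1, e2,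
      pb_condition_apply]
  have hg : p₁.app B h₁' = p₂.app B h₂' :=
    eq_of_app_eq_of_tangent_injective q hG.s1 hG.heps hF hq μ hμ _ _ hover hq12
  obtain ⟨w', hw'1, hw'2⟩ := pb_exists p₁ p₂ h₁' h₂' hg
  refine ⟨w', ?_, ?_⟩
  · apply pb_ext
    · rw [NatTrans.naturality_apply (pullback.fst p₁ p₂) μ, hw'1, e1]
    · rw [NatTrans.naturality_apply (pullback.snd p₁ p₂) μ, hw'2, e2]
  · apply pb_ext
    · rw [hT1, hw'1]
    · rw [hT2, hw'2]

end PullbackMap

section Prod

variable (F G : Art Λ k ⥤ Type v)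

/-- Objectwise description of the product of functors. -/
noncomputable def prodEquiv (A : Art Λ k) : (F ⨯ G).obj A ≃ F.obj A × G.obj A :=
  (IsLimit.conePointUniqueUpToIso
    (isLimitOfHasBinaryProductOfPreservesLimit ((evaluation (Art Λ k) (Type v)).obj A) F G)
    (Types.binaryProductLimit (F.obj A) (G.obj A))).toEquiv

lemma prodEquiv_fst (A : Art Λ k) (w : (F ⨯ G).obj A) :
    (prodEquiv F G A w).1 = (prod.fst : F ⨯ G ⟶ F).app A w := by
  unfold prodEquiv
  exact ConcreteCategory.congr_hom (IsLimit.conePointUniqueUpToIso_hom_comp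
    (isLimitOfHasBinaryProductOfPreservesLimit ((evaluation (Art Λ k) (Type v)).obj A) F G)
    (Types.binaryProductLimit (F.obj A) (G.obj A)) ⟨WalkingPair.left⟩) w

lemma prodEquiv_snd (A : Art Λ k) (w : (F ⨯ G).obj A) :
    (prodEquiv F G A w).2 = (prod.snd : F ⨯ G ⟶ G).app A w := by
  unfold prodEquiv
  exact ConcreteCategory.congr_hom (IsLimit.conePointUniqueUpToIso_hom_comp
    (isLimitOfHasBinaryProductOfPreservesLimit ((evaluation (Art Λ k) (Type v)).obj A) F G)
    (Types.binaryProductLimit (F.obj A) (G.obj A)) ⟨WalkingPair.right⟩) w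

/-- A product of smooth functors is smooth. -/
theorem isSmoothFunctor_prod (sF : IsSmoothFunctor F) (sG : IsSmoothFunctor G) :
    IsSmoothFunctor (F ⨯ G) := by
  intro B A μ hμ w
  obtain ⟨x', hx'⟩ := sF μ hμ ((prod.fst : F ⨯ G ⟶ F).app A w)
  obtain ⟨y', hy'⟩ := sG μ hμ ((prod.snd : F ⨯ G ⟶ G).app A w)
  refine ⟨(prodEquiv F G B).symm (x', y'), ?_⟩
  apply (prodEquiv F G A).injective
  apply Prod.ext
  · rw [prodEquiv_fst, prodEquiv_fst, NatTrans.naturality_apply (prod.fst : F ⨯ G ⟶ F) μ,
      ← prodEquiv_fst, Equiv.apply_symm_apply, hx']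
  · rw [prodEquiv_snd, prodEquiv_snd, NatTrans.naturality_apply (prod.snd : F ⨯ G ⟶ G) μ,
      ← prodEquiv_snd, Equiv.apply_symm_apply, hy']

end Prod

end Groth.Agent.H6
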