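import Groth.Agent.Lib.Helper6.ArtFunSmoothRing
import Groth.Agent.Lib.Helper6.ArtFunFirstOrder

/-!
# helper6: existence of versal families and hulls (Schlessinger's theorem)
-/

set_option autoImplicit false
set_option linter.style.haveILetI false
set_option linter.unusedTactic false
set_option linter.unusedVariables false

universe u v

open CategoryTheory

namespace Groth.Agent.H6

open ArtFun ArtFun.Art IsLocalRing

variable {Λ : Type u} {k : Type u} [CommRing Λ] [Field k] [Algebra Λ k]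
  [IsNoetherianRing Λ] [Module.Finite Λ k]

/-- the unit vectors -/
def eVec {r : ℕ} (i : Fin r) : Fin r → k := Pi.single i 1

lemma dotL_eVec {r : ℕ} (c : Fin r → k) (i : Fin r) : dotL c (eVec i) = c i := by
  rw [dotL_apply]
  simp [eVec, Pi.single_apply]

section G0

variable {m r : ℕ} (f : MvPolynomial (Fin m) Λ →ₐ[Λ] k)

/-- the augmentation of the polynomial ring in `m + r` variables -/
noncomputable def pi0 (r : ℕ) : MvPolynomial (Fin m ⊕ Fin r) Λ →ₐ[Λ] k :=
  MvPolynomial.aeval (Sum.elim (fun j => f (MvPolynomial.X j)) (fun _ => 0))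

/-- the map from the polynomial ring onto `k ⊕ k^r` -/
noncomputable def g0 (r : ℕ) :
    MvPolynomial (Fin m ⊕ Fin r) Λ →ₐ[Λ] TrivSqZeroExt k (Fin r → k) :=
  MvPolynomial.aeval (Sum.elim
    (fun j => (TrivSqZeroExt.inl (f (MvPolynomial.X j)) : TrivSqZeroExt k (Fin r → k)))
    (fun i => (TrivSqZeroExt.inr (eVec i) : TrivSqZeroExt k (Fin r → k))))

omit [IsNoetherianRing Λ] [Module.Finite Λ k] in
lemma pi0_X_inr (i : Fin r) : pi0 f r (MvPolynomial.X (Sum.inr i)) = 0 := by
  simp [pi0]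

omit [IsNoetherianRing Λ] [Module.Finite Λ k] in
lemma pi0_inl (q : MvPolynomial (Fin m) Λ) : pi0 f r (MvPolynomial.rename Sum.inl q) = f q := by
  have : (pi0 f r).comp (MvPolynomial.rename Sum.inl) = f := by
    apply MvPolynomial.algHom_ext
    intro j
    simp [pi0]
  exact congrArg (fun h : MvPolynomial (Fin m) Λ →ₐ[Λ] k => h q) this

omit [IsNoetherianRing Λ] [Module.Finite Λ k] in
lemma pi0_surjective (hf : Function.Surjective f) : Function.Surjective (pi0 f r) := fun a => by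
  obtain ⟨q, rfl⟩ := hf a
  exact ⟨MvPolynomial.rename Sum.inl q, pi0_inl f q⟩

omit [IsNoetherianRing Λ] [Module.Finite Λ k] in
lemma g0_X_inr (i : Fin r) : g0 f r (MvPolynomial.X (Sum.inr i)) = TrivSqZeroExt.inr (eVec i) := by
  simp [g0]

omit [IsNoetherianRing Λ] [Module.Finite Λ k] in
lemma g0_fst : (TrivSqZeroExt.fstHom Λ k (Fin r → k)).comp (g0 f r) = pi0 f r := by
  apply MvPolynomial.algHom_ext
  intro i
  rcases i with j | i
  · simp only [g0, pi0, AlgHom.coe_comp, Function.comp_apply, MvPolynomial.aeval_X, Sum.elim_inl]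
    rfl
  · simp only [g0, pi0, AlgHom.coe_comp, Function.comp_apply, MvPolynomial.aeval_X, Sum.elim_inr]
    rfl

omit [IsNoetherianRing Λ] [Module.Finite Λ k] in
lemma g0_inl (q : MvPolynomial (Fin m) Λ) :
    g0 f r (MvPolynomial.rename Sum.inl q) = TrivSqZeroExt.inl (f q) := by
  have : (g0 f r).comp (MvPolynomial.rename Sum.inl) =
      (TrivSqZeroExt.inlAlgHom Λ k (Fin r → k)).comp f := by
    apply MvPolynomial.algHom_ext
    intro j
    simp only [g0, AlgHom.coe_comp, Function.comp_apply, MvPolynomial.rename_X,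
      MvPolynomial.aeval_X, Sum.elim_inl]
    rfl
  exact congrArg (fun h : MvPolynomial (Fin m) Λ →ₐ[Λ] TrivSqZeroExt k (Fin r → k) => h q) this

omit [IsNoetherianRing Λ] [Module.Finite Λ k] in
lemma g0_surjective (hf : Function.Surjective f) : Function.Surjective (g0 f r) := by
  intro x
  obtain ⟨qa, hqa⟩ := hf x.fst
  choose q hq using fun i : Fin r => hf (x.snd i)
  refine ⟨MvPolynomial.rename Sum.inl qa +
    ∑ i, MvPolynomial.rename Sum.inl (q i) * MvPolynomial.X (Sum.inr i), ?_⟩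
  rw [map_add, map_sum, g0_inl, hqa]
  have hterm : ∀ i, g0 f r (MvPolynomial.rename Sum.inl (q i) * MvPolynomial.X (Sum.inr i)) =
      TrivSqZeroExt.inr (x.snd i • eVec i) := by
    intro i
    rw [map_mul, g0_inl, hq, g0_X_inr]
    exact TrivSqZeroExt.inl_mul_inr _ _
  rw [Finset.sum_congr rfl (fun i _ => hterm i)]
  have hsum : ∑ i, (TrivSqZeroExt.inr (x.snd i • eVec i) : TrivSqZeroExt k (Fin r → k)) =
      TrivSqZeroExt.inr x.snd := by
    rw [← TrivSqZeroExt.inr_sum]
    congr 1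
    funext j
    simp [eVec, Pi.single_apply]
  rw [hsum]
  exact TrivSqZeroExt.inl_fst_add_inr_snd_eq _

end G0

theorem exists_versal_aux' {F : Art Λ k ⥤ Type v} [TangentStr F]
    (h0 : H0 F) (h1 : S1 F) (h2 : Heps F) {r : ℕ} (b : Module.Basis (Fin r) k (TangentSpace F))
    {m : ℕ} (f : MvPolynomial (Fin m) Λ →ₐ[Λ] k) (hf : Function.Surjective f) :
    ∃ (R : CRing Λ k) (ξ : Family R.carrier R.res F), IsVersal ξ ∧
      (m = 0 → Function.Injective (ξ.app (dual Λ k))) := by
  classical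
  obtain ⟨ξE, hξE⟩ := exists_univ_first_order h0 h2 r b
  obtain ⟨S, _, _, _, _, _, resS, ι, hres, hresι, hext, huniq⟩ :=
    exists_smooth_ring (pi0 f r) (pi0_surjective f hf)
  have hsm := smooth_of_poly hresι hext huniq
  obtain ⟨φ₀, hφ₀⟩ := hext (Er Λ k r) (g0 f r) (g0_fst f)
  have hφ₀surj : Function.Surjective φ₀.1 := by
    intro x
    obtain ⟨p, hp⟩ := g0_surjective f hf x
    exact ⟨ι p, by rw [← hp, ← hφ₀]; rfl⟩
  have htan : ∀ v : F.obj (dual Λ k), ∃ g : Er Λ k r ⟶ dual Λ k, F.map g ξE = v := by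
    intro v
    refine ⟨erToDual (dotL (b.repr (TangentSpace.mk v))), ?_⟩
    have := hξE (b.repr (TangentSpace.mk v))
    rw [b.sum_repr] at this
    exact this
  obtain ⟨R, ξ, hvers, himp⟩ :=
    exists_versal_from hres h0 h1 h2 hsm (Er Λ k r) φ₀ hφ₀surj ξE htan
  refine ⟨R, ξ, hvers, fun hm => ?_⟩
  subst hm
  -- two maps out of the polynomial ring agreeing on the `X (inr i)` are equal
  have hpoly : ∀ {A : Art Λ k} (g₁ g₂ : MvPolynomial (Fin 0 ⊕ Fin r) Λ →ₐ[Λ] A),
      (∀ i : Fin r, g₁ (MvPolynomial.X (Sum.inr i)) = g₂ (MvPolynomial.X (Sum.inr i))) →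
      g₁ = g₂ := by
    intro A g₁ g₂ h
    apply MvPolynomial.algHom_ext
    intro i
    rcases i with j | i
    · exact j.elim0
    · exact h i
  -- morphisms out of `E` are determined by `φ₀`
  have hepi : ∀ {A : Art Λ k} (g₁ g₂ : Er Λ k r ⟶ A),
      HomSet.map g₁ φ₀ = HomSet.map g₂ φ₀ → g₁ = g₂ := by
    intro A g₁ g₂ h
    apply Art.hom_ext
    apply AlgHom.ext
    intro x
    obtain ⟨s, rfl⟩ := hφ₀surj x
    exact congrArg (fun t : HomSet S resS A => t.1 s) h
  -- every map `S → k[ε]` factors through `E`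
  have hfactor : ∀ ψ : HomSet S resS (dual Λ k),
      HomSet.map (erToDual (dotL fun i =>
        TrivSqZeroExt.snd (ψ.1 (ι (MvPolynomial.X (Sum.inr i)))))) φ₀ = ψ := by
    intro ψ
    apply huniq
    change ((erToDual _).toAlgHom.comp φ₀.1).comp ι = ψ.1.comp ι
    rw [AlgHom.comp_assoc, hφ₀]
    apply hpoly
    intro i
    have h1 : TrivSqZeroExt.fst (ψ.1 (ι (MvPolynomial.X (Sum.inr i)))) = 0 := by
      have e1 : (dual Λ k).res (ψ.1 (ι (MvPolynomial.X (Sum.inr i)))) =
          resS (ι (MvPolynomial.X (Sum.inr i))) :=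
        congrArg (fun h : S →ₐ[Λ] k => h (ι (MvPolynomial.X (Sum.inr i)))) ψ.2
      have e2 : resS (ι (MvPolynomial.X (Sum.inr i))) = pi0 f r (MvPolynomial.X (Sum.inr i)) :=
        congrArg (fun h : MvPolynomial (Fin 0 ⊕ Fin r) Λ →ₐ[Λ] k =>
          h (MvPolynomial.X (Sum.inr i))) hresι
      rw [e2, pi0_X_inr] at e1
      exact e1
    change (erToDual _) (g0 f r (MvPolynomial.X (Sum.inr i))) = _
    rw [g0_X_inr]
    refine TrivSqZeroExt.ext ?_ ?_
    · exact h1.symm
    · exact dotL_eVec _ i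
  apply himp
  · intro ψ
    exact ⟨_, hfactor ψ⟩
  · intro g g' hgg'
    have hg : g = erToDual (dotL fun i => TrivSqZeroExt.snd
        ((HomSet.map g φ₀).1 (ι (MvPolynomial.X (Sum.inr i))))) :=
      hepi _ _ (hfactor (HomSet.map g φ₀)).symm
    have hg' : g' = erToDual (dotL fun i => TrivSqZeroExt.snd
        ((HomSet.map g' φ₀).1 (ι (MvPolynomial.X (Sum.inr i))))) :=
      hepi _ _ (hfactor (HomSet.map g' φ₀)).symm
    have e1 := hξE (fun i => TrivSqZeroExt.snd
        ((HomSet.map g φ₀).1 (ι (MvPolynomial.X (Sum.inr i)))))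
    have e2 := hξE (fun i => TrivSqZeroExt.snd
        ((HomSet.map g' φ₀).1 (ι (MvPolynomial.X (Sum.inr i)))))
    rw [← hg] at e1
    rw [← hg'] at e2
    have e3 : (∑ i, (fun i => TrivSqZeroExt.snd
        ((HomSet.map g φ₀).1 (ι (MvPolynomial.X (Sum.inr i))))) i • b i) =
        ∑ i, (fun i => TrivSqZeroExt.snd
        ((HomSet.map g' φ₀).1 (ι (MvPolynomial.X (Sum.inr i))))) i • b i := by
      rw [← e1, ← e2, hgg']
    rw [hg, hg']
    have e5 : (fun i => TrivSqZeroExt.snd
        ((HomSet.map g φ₀).1 (ι (MvPolynomial.X (Sum.inr i))))) = (fun i => TrivSqZeroExt.snd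
        ((HomSet.map g' φ₀).1 (ι (MvPolynomial.X (Sum.inr i))))) :=
      calc _ = ⇑(b.repr (∑ i, (fun i => TrivSqZeroExt.snd
            ((HomSet.map g φ₀).1 (ι (MvPolynomial.X (Sum.inr i))))) i • b i)) :=
            (b.repr_sum_self _).symm
        _ = ⇑(b.repr (∑ i, (fun i => TrivSqZeroExt.snd
            ((HomSet.map g' φ₀).1 (ι (MvPolynomial.X (Sum.inr i))))) i • b i)) := by rw [e3]
        _ = _ := b.repr_sum_self _
    rw [e5]

theorem exists_versal_aux {F : Art Λ k ⥤ Type v} [TangentStr F]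
    (h0 : H0 F) (h1 : S1 F) (h2 : Heps F) (h3 : Hfin F)
    {m : ℕ} (f : MvPolynomial (Fin m) Λ →ₐ[Λ] k) (hf : Function.Surjective f) :
    ∃ (R : CRing Λ k) (ξ : Family R.carrier R.res F), IsVersal ξ ∧
      (m = 0 → Function.Injective (ξ.app (dual Λ k))) := by
  haveI : Module.Finite k (TangentSpace F) := h3
  exact exists_versal_aux' h0 h1 h2 (Module.finBasis k (TangentSpace F)) f hf

end Groth.Agent.H6
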