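import Groth.Agent.Lib.Helper6.ArtFunSmoothRing
import Groth.Agent.Lib.Helper6.ArtFunSepDer

/-!
# Semismall versal prolongations (helper6)

For a functor `F` of Artin rings satisfying (S1), an object `R` and `a ∈ F(R)`, we construct an
essential semismall extension `q : R' → R` with a lift `a'` of `a` through which every small
extension of `R` to which `a` lifts is dominated.
-/

set_option autoImplicit false
universe u v
open CategoryTheory

namespace Groth.Agent.H6.SemiVersal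

open ArtFun ArtFun.Art IsLocalRing Groth.Agent.H6

variable {Λ : Type u} {k : Type u} [CommRing Λ] [Field k] [Algebra Λ k]

/-- essential surjections -/
def IsEss {A B : Art Λ k} (f : B ⟶ A) : Prop :=
  Function.Surjective f ∧
    ∀ (C : Art Λ k) (g : C ⟶ B), Function.Surjective (g ≫ f) → Function.Surjective g

lemma isEss_of_bijective {A B : Art Λ k} (f : B ⟶ A) (hf : Function.Bijective f) : IsEss f := by
  refine ⟨hf.2, fun C g hg b => ?_⟩
  obtain ⟨c, hc⟩ := hg (f b)
  exact ⟨c, hf.1 hc⟩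

lemma isEss_comp {A B C : Art Λ k} {u : C ⟶ B} {v : B ⟶ A} (hu : IsEss u) (hv : IsEss v) :
    IsEss (u ≫ v) := by
  refine ⟨fun a => ?_, fun D g hg => ?_⟩
  · obtain ⟨b, rfl⟩ := hv.1 a
    obtain ⟨c, rfl⟩ := hu.1 b
    exact ⟨c, rfl⟩
  · apply hu.2 D g
    apply hv.2 D (g ≫ u)
    rw [Category.assoc]
    exact hg

/-- the base change of a small extension is a small extension -/
theorem isSmallExt_of_isFibreProd {P A A₁ A₂ : Art Λ k} {p₁ : P ⟶ A₁} {p₂ : P ⟶ A₂}
    {f₁ : A₁ ⟶ A} {f₂ : A₂ ⟶ A} (hP : IsFibreProd p₁ p₂ f₁ f₂) (h₂ : IsSmallExt f₂) :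
    IsSmallExt p₁ := by
  obtain ⟨hsurj, hne, ⟨t, ht⟩, hkill⟩ := h₂
  have hkill' : ∀ m ∈ maximalIdeal A₂, ∀ d ∈ RingHom.ker f₂.toAlgHom, m * d = 0 := by
    intro m hm d hd
    have : m * d ∈ maximalIdeal A₂ * RingHom.ker f₂.toAlgHom := Ideal.mul_mem_mul hm hd
    rwa [hkill] at this
  have htker : t ∈ RingHom.ker f₂.toAlgHom := by
    rw [ht]; exact Ideal.mem_span_singleton_self t
  have ht0 : t ≠ 0 := by
    intro h0
    apply hne
    rw [ht, h0]
    exact Ideal.span_singleton_eq_bot.2 rfl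
  have hf₂t : f₂ t = 0 := htker
  have hw : ∀ x : P, f₁ (p₁ x) = f₂ (p₂ x) := hP.w_apply
  obtain ⟨b, hb1, hb2⟩ := hP.surj 0 t (by rw [hf₂t]; exact map_zero f₁.toAlgHom)
  have hker2 : ∀ x : P, p₁ x = 0 → p₂ x ∈ RingHom.ker f₂.toAlgHom := by
    intro x hx
    rw [RingHom.mem_ker]
    rw [← hw, hx]
    exact map_zero f₁.toAlgHom
  refine ⟨?_, ?_, ⟨b, ?_⟩, ?_⟩
  · intro a₁
    obtain ⟨a₂, ha₂⟩ := hsurj (f₁ a₁)
    obtain ⟨x, hx, -⟩ := hP.surj a₁ a₂ ha₂.symm
    exact ⟨x, hx⟩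
  · intro hbot
    have hbk : b ∈ RingHom.ker p₁.toAlgHom := hb1
    rw [hbot, Ideal.mem_bot] at hbk
    apply ht0
    rw [← hb2, hbk]
    exact map_zero p₂.toAlgHom
  · apply le_antisymm
    · intro x hx
      have hx1 : p₁ x = 0 := hx
      have hx2 := hker2 x hx1
      rw [ht] at hx2
      obtain ⟨u, hu⟩ := Ideal.mem_span_singleton'.1 hx2
      obtain ⟨v, hv⟩ := P.res_surjective (A₂.res u)
      have hdiff : u - p₂ v ∈ maximalIdeal A₂ := by
        rw [Art.mem_maximalIdeal_iff, map_sub, Art.res_app p₂, hv, sub_self]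
      have h0 := hkill' _ hdiff t htker
      apply Ideal.mem_span_singleton'.2
      refine ⟨v, ?_⟩
      apply hP.inj
      · rw [map_mul, hb1, hx1, mul_zero]
      · rw [map_mul, hb2, ← hu]
        have : u * t = (u - p₂ v) * t + p₂ v * t := by ring
        rw [this, h0, zero_add]
    · apply (Ideal.span_singleton_le_iff_mem _).2
      exact hb1
  · rw [eq_bot_iff, Ideal.mul_le]
    intro m hm x hx
    have hx1 : p₁ x = 0 := hx
    rw [Ideal.mem_bot]
    apply hP.inj
    · rw [map_mul, map_zero, hx1, mul_zero]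
    · rw [map_mul, map_zero]
      exact hkill' _ (art_hom_mem_maximalIdeal p₂ hm) _ (hker2 x hx1)

section Core

variable [IsNoetherianRing Λ] [Module.Finite Λ k]
  {S : Type u} [CommRing S] [Algebra Λ S] [IsLocalRing S] [IsNoetherianRing S]
  {resS : S →ₐ[Λ] k} (hres : Function.Surjective resS) {F : Art Λ k ⥤ Type v}

include hres in
/-- the construction, given a surjection from a smooth complete local algebra -/
theorem core (hF1 : S1 F)
    (hsm : ∀ ⦃B A : Art Λ k⦄ (μ : B ⟶ A), Function.Surjective μ → ∀ φ : HomSet S resS A,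
      ∃ ψ : HomSet S resS B, HomSet.map μ ψ = φ)
    (R : Art Λ k) (φ₀ : HomSet S resS R) (hφ₀ : Function.Surjective φ₀.1) (a : F.obj R) :
    ∃ (R' : Art Λ k) (q : R' ⟶ R) (a' : F.obj R'), F.map q a' = a ∧ IsSemismallExt q ∧ IsEss q ∧
      ∀ (R₁ : Art Λ k) (π₁ : R₁ ⟶ R), IsSmallExt π₁ → ∀ a₁ : F.obj R₁, F.map π₁ a₁ = a →
        ∃ f : R' ⟶ R₁, f ≫ π₁ = q := by
  classical
  let J₀ : OpenIdeal S := kerOpen hres φ₀
  let e : SQ resS hres J₀ ⟶ R := sqLift resS hres φ₀ (le_refl _)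
  have hebij : Function.Bijective e := by
    constructor
    · intro x y hxy
      obtain ⟨s, rfl⟩ := Ideal.Quotient.mk_surjective x
      obtain ⟨t, rfl⟩ := Ideal.Quotient.mk_surjective y
      rw [sqLift_apply, sqLift_apply] at hxy
      apply Ideal.Quotient.eq.2
      change φ₀.1 (s - t) = 0
      rw [map_sub, hxy, sub_self]
    · intro y
      obtain ⟨s, rfl⟩ := hφ₀ y
      exact ⟨Ideal.Quotient.mk J₀.ideal s, rfl⟩
  haveI : IsIso e := art_isIso_of_bijective e hebij
  let 𝒮 : Set (OpenIdeal S) := {J' | maximalIdeal S * RingHom.ker φ₀.1 ≤ J'.ideal ∧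
      ∃ h : J'.ideal ≤ RingHom.ker φ₀.1,
        (∃ ξ' : F.obj (SQ resS hres J'), F.map (sqLift resS hres φ₀ h) ξ' = a) ∧
          IsEss (sqLift resS hres φ₀ h)}
  have hJ₀mem : J₀ ∈ 𝒮 := by
    refine ⟨Ideal.mul_le_right, le_refl _, ⟨F.map (inv e) a, ?_⟩, isEss_of_bijective e hebij⟩
    change F.map e (F.map (inv e) a) = a
    rw [← map_comp_apply', IsIso.inv_hom_id, map_id_apply']
  let L : OpenIdeal S := J₀.ofLE (maximalIdeal S * RingHom.ker φ₀.1) le_rfl Ideal.mul_le_right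
  haveI : IsArtinianRing (S ⧸ L.ideal) := sq_artinian L
  let 𝒯 : Set (Ideal (S ⧸ L.ideal)) :=
    {T | ∃ J' ∈ 𝒮, T = J'.ideal.map (Ideal.Quotient.mk L.ideal)}
  have hne : 𝒯.Nonempty := ⟨_, J₀, hJ₀mem, rfl⟩
  obtain ⟨T, ⟨J', hJ', rfl⟩, hmin⟩ := set_has_minimal_iff_artinian.2
    (inferInstance : IsArtinian (S ⧸ L.ideal) (S ⧸ L.ideal)) 𝒯 hne
  have hminJ : ∀ J'' ∈ 𝒮, J''.ideal ≤ J'.ideal → J'.ideal ≤ J''.ideal := by
    intro J'' hJ'' hle
    have hmap : J''.ideal.map (Ideal.Quotient.mk L.ideal) ≤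
        J'.ideal.map (Ideal.Quotient.mk L.ideal) := Ideal.map_mono hle
    have heq : J''.ideal.map (Ideal.Quotient.mk L.ideal) =
        J'.ideal.map (Ideal.Quotient.mk L.ideal) := by
      by_contra hne'
      exact hmin _ ⟨J'', hJ'', rfl⟩ (lt_of_le_of_ne hmap hne')
    have hL1 : L.ideal ≤ J''.ideal := hJ''.1
    have hL2 : L.ideal ≤ J'.ideal := hJ'.1
    have := congrArg (Ideal.comap (Ideal.Quotient.mk L.ideal)) heq
    rw [Ideal.comap_map_mk hL1, Ideal.comap_map_mk hL2] at this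
    exact this.ge
  obtain ⟨hn, h, ⟨a', ha'⟩, hess⟩ := hJ'
  have hqmk : ∀ s : S, sqLift resS hres φ₀ h (Ideal.Quotient.mk J'.ideal s) = φ₀.1 s :=
    fun s => rfl
  have hsemi : IsSemismallExt (sqLift resS hres φ₀ h) := by
    refine ⟨hess.1, ?_⟩
    rw [eq_bot_iff, Ideal.mul_le]
    intro x hx y hy
    obtain ⟨s, rfl⟩ := Ideal.Quotient.mk_surjective x
    obtain ⟨t, rfl⟩ := Ideal.Quotient.mk_surjective y
    have hs : s ∈ maximalIdeal S := by
      rw [← resS_eq_zero_iff resS hres]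
      exact (Art.mem_maximalIdeal_iff (SQ resS hres J') _).1 hx
    have ht : t ∈ RingHom.ker φ₀.1 := hy
    rw [Ideal.mem_bot]
    have hst : Ideal.Quotient.mk J'.ideal (s * t) = 0 :=
      Ideal.Quotient.eq_zero_iff_mem.2 (hn (Ideal.mul_mem_mul hs ht))
    rw [map_mul] at hst
    exact hst
  refine ⟨SQ resS hres J', sqLift resS hres φ₀ h, a', ha', hsemi, hess, ?_⟩
  intro R₁ π₁ hπ₁ a₁ ha₁
  obtain ⟨P, p₁, p₂, hP⟩ := art_exists_isFibreProd (sqLift resS hres φ₀ h) π₁ hπ₁.1
  have hp₁ : IsSmallExt p₁ := isSmallExt_of_isFibreProd hP hπ₁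
  obtain ⟨z, hz1, hz2⟩ := (cmp_surjective_iff F hP).1 (hF1 p₁ p₂ _ π₁ hP hπ₁.1) a' a₁
    (by rw [ha', ha₁])
  by_cases hsec : ∃ s : SQ resS hres J' ⟶ P, s ≫ p₁ = 𝟙 _
  · obtain ⟨s, hs⟩ := hsec
    refine ⟨s ≫ p₂, ?_⟩
    rw [Category.assoc, ← hP.w, ← Category.assoc, hs, Category.id_comp]
  · exfalso
    rw [← small_not_essential_iff p₁ hp₁] at hsec
    push Not at hsec
    have hess₁ : IsEss p₁ := ⟨hp₁.1, hsec⟩
    obtain ⟨ψ, hψ⟩ := hsm p₁ hp₁.1 (sqMk resS hres J')
    have hψa : ∀ s : S, p₁ (ψ.1 s) = Ideal.Quotient.mk J'.ideal s := fun s =>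
      congrArg (fun t : HomSet S resS (SQ resS hres J') => t.1 s) hψ
    let J'' : OpenIdeal S := kerOpen hres ψ
    let g : SQ resS hres J'' ⟶ P := sqLift resS hres ψ (le_refl _)
    have hgmk : ∀ s : S, g (Ideal.Quotient.mk J''.ideal s) = ψ.1 s := fun s => rfl
    have hJ''J' : J''.ideal ≤ J'.ideal := by
      have := ker_le_ker_map p₁ ψ
      rw [hψ, ker_sqMk] at this
      exact this
    have hgp : g ≫ p₁ = sqMap resS hres hJ''J' := by
      apply sq_hom_ext
      intro s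
      exact hψa s
    have hgsurj : Function.Surjective g := hsec _ g (by rw [hgp]; exact sqMap_surjective _)
    have hgbij : Function.Bijective g := by
      refine ⟨?_, hgsurj⟩
      intro x y hxy
      obtain ⟨s, rfl⟩ := Ideal.Quotient.mk_surjective x
      obtain ⟨t, rfl⟩ := Ideal.Quotient.mk_surjective y
      rw [hgmk, hgmk] at hxy
      apply Ideal.Quotient.eq.2
      change ψ.1 (s - t) = 0
      rw [map_sub, hxy, sub_self]
    haveI : IsIso g := art_isIso_of_bijective g hgbij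
    have hfac : sqLift resS hres φ₀ (hJ''J'.trans h) = g ≫ p₁ ≫ sqLift resS hres φ₀ h := by
      rw [← Category.assoc, hgp]
      apply sq_hom_ext
      intro s
      rfl
    have hkillP : ∀ m ∈ maximalIdeal P, ∀ x : P, (p₁ ≫ sqLift resS hres φ₀ h) x = 0 → m * x = 0 := by
      intro m hm x hx
      have hx1 : p₁ x ∈ RingHom.ker (sqLift resS hres φ₀ h).toAlgHom := hx
      have hx2 : p₂ x ∈ RingHom.ker π₁.toAlgHom := by
        rw [RingHom.mem_ker]
        rw [← hP.w_apply]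
        exact hx
      apply hP.inj
      · rw [map_mul, map_zero]
        have : p₁ m * p₁ x ∈ maximalIdeal (SQ resS hres J') *
            RingHom.ker (sqLift resS hres φ₀ h).toAlgHom :=
          Ideal.mul_mem_mul (art_hom_mem_maximalIdeal p₁ hm) hx1
        rw [hsemi.2] at this
        exact this
      · rw [map_mul, map_zero]
        have : p₂ m * p₂ x ∈ maximalIdeal R₁ * RingHom.ker π₁.toAlgHom :=
          Ideal.mul_mem_mul (art_hom_mem_maximalIdeal p₂ hm) hx2
        rw [hπ₁.2.2.2] at this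
        exact this
    have hJ''mem : J'' ∈ 𝒮 := by
      refine ⟨?_, hJ''J'.trans h, ⟨F.map (inv g) z, ?_⟩, ?_⟩
      · rw [Ideal.mul_le]
        intro s hs t ht
        change ψ.1 (s * t) = 0
        rw [map_mul]
        apply hkillP _ (homSet_mem_maximalIdeal hres ψ hs)
        change sqLift resS hres φ₀ h (p₁ (ψ.1 t)) = 0
        rw [hψa, hqmk]
        exact ht
      · rw [hfac, ← map_comp_apply', IsIso.inv_hom_id_assoc, map_comp_apply', hz1, ha']
      · rw [hfac]
        exact isEss_comp (isEss_of_bijective g hgbij) (isEss_comp hess₁ hess)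
    have hle := hminJ J'' hJ''mem hJ''J'
    apply hp₁.2.1
    rw [eq_bot_iff]
    intro x hx
    obtain ⟨y, rfl⟩ := hgsurj x
    obtain ⟨s, rfl⟩ := Ideal.Quotient.mk_surjective y
    have h1 : (sqMap resS hres hJ''J') (Ideal.Quotient.mk J''.ideal s) = 0 := by
      rw [← hgp]
      exact hx
    rw [sqMap_apply] at h1
    have h1' : s ∈ J'.ideal := Ideal.Quotient.eq_zero_iff_mem.1 h1
    have h2 : Ideal.Quotient.mk J''.ideal s = 0 := Ideal.Quotient.eq_zero_iff_mem.2 (hle h1')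
    rw [Ideal.mem_bot, h2]
    exact map_zero g.toAlgHom

end Core

section Main

variable [IsNoetherianRing Λ]

/-- the separability instance when `Λ → k` is surjective -/
theorem isSeparable_of_surjective (hk : Function.Surjective (algebraMap Λ k)) :
    Algebra.IsSeparable ↥(algebraMap Λ k).range k := by
  refine ⟨fun x => ?_⟩
  obtain ⟨l, rfl⟩ := hk x
  have hx : algebraMap Λ k l = algebraMap ↥(algebraMap Λ k).range k ⟨algebraMap Λ k l, l, rfl⟩ := rfl
  rw [hx, IsSeparable, minpoly.eq_X_sub_C_of_algebraMap_inj _ Subtype.val_injective]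
  exact Polynomial.separable_X_sub_C

/-- Essential semismall versal prolongations exist. -/
theorem exists_semiversal (hk : Function.Surjective (algebraMap Λ k))
    (F : Art Λ k ⥤ Type v) (hF1 : S1 F) (R : Art Λ k) (a : F.obj R) :
    ∃ (R' : Art Λ k) (q : R' ⟶ R) (a' : F.obj R'), F.map q a' = a ∧ IsSemismallExt q ∧ IsEss q ∧
      ∀ (R₁ : Art Λ k) (π₁ : R₁ ⟶ R), IsSmallExt π₁ → ∀ a₁ : F.obj R₁, F.map π₁ a₁ = a →
        ∃ f : R' ⟶ R₁, f ≫ π₁ = q := by
  classical
  haveI : Module.Finite Λ k := Module.Finite.of_surjective (Algebra.linearMap Λ k) hk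
  haveI : IsNoetherianRing R := inferInstance
  obtain ⟨n, r, hr⟩ := Submodule.fg_iff_exists_fin_generating_family.1
    (IsNoetherian.noetherian (maximalIdeal R))
  have hrm : ∀ i, r i ∈ maximalIdeal R := fun i => by
    rw [← hr]
    exact Submodule.subset_span ⟨i, rfl⟩
  let g₀ : MvPolynomial (Fin n) Λ →ₐ[Λ] R := MvPolynomial.aeval r
  let π : MvPolynomial (Fin n) Λ →ₐ[Λ] k := R.res.comp g₀
  have hπ : Function.Surjective π := by
    intro c
    obtain ⟨l, rfl⟩ := hk c
    refine ⟨MvPolynomial.C l, ?_⟩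
    change R.res (MvPolynomial.aeval r (MvPolynomial.C l)) = _
    rw [MvPolynomial.aeval_C, AlgHom.commutes]
  obtain ⟨S, _, _, _, _, _, resS, ι, hres, hresι, hext, huniq⟩ := exists_smooth_ring π hπ
  have hsm := smooth_of_poly hresι hext huniq
  obtain ⟨φ₀, hφ₀⟩ := hext R g₀ rfl
  have hφ₀X : ∀ i, φ₀.1 (ι (MvPolynomial.X i)) = r i := fun i => by
    have := congrArg (fun g : MvPolynomial (Fin n) Λ →ₐ[Λ] R => g (MvPolynomial.X i)) hφ₀
    simpa [g₀] using this
  have hιX : ∀ i, ι (MvPolynomial.X i) ∈ maximalIdeal S := fun i => by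
    rw [← resS_eq_zero_iff resS hres]
    have : resS (ι (MvPolynomial.X i)) = π (MvPolynomial.X i) :=
      congrArg (fun g : MvPolynomial (Fin n) Λ →ₐ[Λ] k => g (MvPolynomial.X i)) hresι
    rw [this]
    change R.res (MvPolynomial.aeval r (MvPolynomial.X i)) = 0
    rw [MvPolynomial.aeval_X]
    exact (Art.mem_maximalIdeal_iff R _).1 (hrm i)
  have hφ₀surj : Function.Surjective φ₀.1 := by
    haveI := art_isAdicComplete R
    have htfae := surjective_tfae resS R.res hres R.res_surjective φ₀.1 φ₀.2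
    have h01 := htfae.out 0 1
    rw [h01]
    apply le_antisymm
    · refine sup_le ?_ (Ideal.pow_le_self two_ne_zero)
      rw [Ideal.map_le_iff_le_comap]
      intro s hs
      exact homSet_mem_maximalIdeal hres φ₀ hs
    · refine le_sup_of_le_left ?_
      rw [← hr]
      change Ideal.span (Set.range r) ≤ _
      rw [Ideal.span_le]
      rintro _ ⟨i, rfl⟩
      rw [← hφ₀X i]
      exact Ideal.mem_map_of_mem _ (hιX i)
  exact core hres hF1 hsm R φ₀ hφ₀surj a

end Main

end Groth.Agent.H6.SemiVersal
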