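import Groth.Agent.Lib.Helper6.ArtFunFormal

/-!
# helper6: maps to the dual numbers separate points of square-zero objects (case `Λ = k`)
-/

set_option autoImplicit false
set_option linter.style.haveILetI false
set_option linter.unusedTactic false
set_option linter.unusedVariables false

universe u v

open CategoryTheory ArtFun ArtFun.Art

namespace Groth.Agent.H6

open IsLocalRing

variable {k : Type u} [Field k]

section

variable (T : Art k k) (hT : maximalIdeal T ^ 2 = ⊥) (ℓ : T →ₗ[k] k) (h1 : ℓ 1 = 0)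

include hT h1 in
lemma functional_mul (x y : T) : ℓ (x * y) = T.res x * ℓ y + T.res y * ℓ x := by
  have hx₀ : x - algebraMap k T (T.res x) ∈ maximalIdeal T := by
    rw [Art.mem_maximalIdeal_iff, map_sub, AlgHom.commutes]
    exact sub_self _
  have hy₀ : y - algebraMap k T (T.res y) ∈ maximalIdeal T := by
    rw [Art.mem_maximalIdeal_iff, map_sub, AlgHom.commutes]
    exact sub_self _
  have hprod : (x - algebraMap k T (T.res x)) * (y - algebraMap k T (T.res y)) = 0 := by
    have : (x - algebraMap k T (T.res x)) * (y - algebraMap k T (T.res y)) ∈ maximalIdeal T ^ 2 := by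
      rw [pow_two]
      exact Ideal.mul_mem_mul hx₀ hy₀
    rw [hT] at this
    exact this
  have hxy : x * y = T.res x • y + T.res y • x - (T.res x * T.res y) • (1 : T) := by
    rw [Algebra.smul_def, Algebra.smul_def, Algebra.smul_def, map_mul]
    linear_combination hprod
  rw [hxy, map_sub, map_add, map_smul, map_smul, map_smul, h1, smul_zero, sub_zero]
  rfl

/-- the algebra map `T → k[ε]`, `x ↦ res x + ℓ(x) ε` -/
noncomputable def dualOfFunctionalAlgHom : T →ₐ[k] DualNumber k where
  toFun x := (T.res x, ℓ x)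
  map_one' := TrivSqZeroExt.ext (map_one T.res) h1
  map_mul' x y := TrivSqZeroExt.ext (map_mul T.res x y) (by
    change ℓ (x * y) = T.res x • ℓ y + MulOpposite.op (T.res y) • ℓ x
    rw [functional_mul T hT ℓ h1]
    simp [mul_comm])
  map_zero' := TrivSqZeroExt.ext (map_zero T.res) (map_zero ℓ)
  map_add' x y := TrivSqZeroExt.ext (map_add T.res x y) (map_add ℓ x y)
  commutes' c := TrivSqZeroExt.ext (T.res.commutes c) (by
    change ℓ (algebraMap k T c) = 0
    rw [Algebra.algebraMap_eq_smul_one, map_smul, h1, smul_zero])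

/-- the morphism `T ⟶ k[ε]` attached to a functional killing `1` -/
noncomputable def dualOfFunctional : T ⟶ dual k k :=
  ⟨dualOfFunctionalAlgHom T hT ℓ h1, AlgHom.ext fun _ => rfl⟩

lemma dualOfFunctional_fst (x : T) : (dualOfFunctional T hT ℓ h1 x).fst = T.res x := rfl

lemma dualOfFunctional_snd (x : T) : (dualOfFunctional T hT ℓ h1 x).snd = ℓ x := rfl

end

/-- maps to the dual numbers separate the points of a square-zero object -/
theorem exists_dual_separating (T : Art k k) (hT : maximalIdeal T ^ 2 = ⊥) {x y : T}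
    (hxy : x ≠ y) : ∃ l : T ⟶ dual k k, l x ≠ l y := by
  by_cases hres : T.res x = T.res y
  · have hz : x - y ∈ maximalIdeal T := by
      rw [Art.mem_maximalIdeal_iff, map_sub, hres, sub_self]
    have hz0 : x - y ≠ 0 := sub_ne_zero.2 hxy
    have hnot : x - y ∉ Submodule.span k {(1 : T)} := by
      intro hmem
      obtain ⟨c, hc⟩ := Submodule.mem_span_singleton.1 hmem
      have : T.res (x - y) = c := by
        rw [← hc, map_smul, map_one, smul_eq_mul, mul_one]
      rw [(Art.mem_maximalIdeal_iff T _).1 hz] at this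
      rw [← this, zero_smul] at hc
      exact hz0 hc.symm
    obtain ⟨ℓ, hℓ, hℓ1⟩ := Submodule.exists_dual_map_eq_bot_of_notMem hnot inferInstance
    have h1 : ℓ 1 = 0 := by
      have : ℓ 1 ∈ (Submodule.span k {(1 : T)}).map ℓ :=
        Submodule.mem_map_of_mem (Submodule.subset_span rfl)
      rw [hℓ1] at this
      exact this
    refine ⟨dualOfFunctional T hT ℓ h1, fun h => hℓ ?_⟩
    have := congrArg TrivSqZeroExt.snd h
    rw [dualOfFunctional_snd, dualOfFunctional_snd] at this
    rw [map_sub, this, sub_self]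
  · refine ⟨dualOfFunctional T hT 0 rfl, fun h => hres ?_⟩
    have := congrArg TrivSqZeroExt.fst h
    rwa [dualOfFunctional_fst, dualOfFunctional_fst] at this

/-- the first truncation of a complete local ring has square-zero maximal ideal -/
lemma trunc_one_sq {Λ : Type u} [CommRing Λ] [Algebra Λ k] (S : CRing Λ k) :
    maximalIdeal (S.trunc 1) ^ 2 = ⊥ := by
  rw [← le_bot_iff]
  calc maximalIdeal (S.trunc 1) ^ 2
      ≤ ((maximalIdeal S.carrier).map (Ideal.Quotient.mk (S.mpow 1))) ^ 2 :=
        Ideal.pow_right_mono (S.maximalIdeal_quot_le 1) _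
    _ = (S.mpow 1).map (Ideal.Quotient.mk (S.mpow 1)) := by rw [← Ideal.map_pow]
    _ = ⊥ := Ideal.map_quotient_self _
    _ ≤ ⊥ := le_rfl

theorem first_order_unique {F : Art k k ⥤ Type v}
    (R : CRing k k) (ξ : Family R.carrier R.res F) (hξ : IsMiniversal ξ)
    (S : CRing k k) (g₁ g₂ : R.carrier →ₐ[k] S.carrier)
    (hg₁ : S.res.comp g₁ = R.res) (hg₂ : S.res.comp g₂ = R.res)
    (h : (ξ.along g₁ hg₁).toFormalElt = (ξ.along g₂ hg₂).toFormalElt) :
    (S.truncHom 1).1.comp g₁ = (S.truncHom 1).1.comp g₂ := by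
  have h1 := congrArg (fun u : FormalElt F S => u.elt 1) h
  change ξ.app (S.trunc 1) ⟨(S.truncHom 1).1.comp g₁, _⟩ =
    ξ.app (S.trunc 1) ⟨(S.truncHom 1).1.comp g₂, _⟩ at h1
  apply AlgHom.ext
  intro r
  by_contra hne
  obtain ⟨l, hl⟩ := exists_dual_separating (S.trunc 1) (trunc_one_sq S) hne
  have h2 := congrArg (F.map l) h1
  rw [← ξ.natural, ← ξ.natural] at h2
  have h3 := hξ.2.1 h2
  apply hl
  exact congrArg (fun t : HomSet R.carrier R.res (dual k k) => t.1 r) h3

end Groth.Agent.H6
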