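import Groth.Agent.Lib.Helper6.ArtFunHull

/-!
# helper6: a complete local Noetherian `Λ`-algebra pro-representing a smooth functor

For a surjection `π : Λ[X₁..X_N] → k`, the completion `S` of the polynomial ring at `ker π` is a
complete local Noetherian `Λ`-algebra with residue field `k` such that maps `S → A` (`A` Artinian)
are the same as maps `Λ[X] → A` compatible with `π`.
-/

set_option autoImplicit false
set_option linter.style.haveILetI false
set_option linter.unusedTactic false
set_option linter.unusedVariables false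

universe u v

open CategoryTheory

namespace Groth.Agent.H6

open ArtFun ArtFun.Art IsLocalRing

variable {Λ : Type u} {k : Type u} [CommRing Λ] [Field k] [Algebra Λ k]

section Density

variable {P : Type u} [CommRing P] (M : Ideal P) (hMfg : M.FG)

include hMfg in
lemma adic_ker_evalₐ_le (c : ℕ) (x : AdicCompletion M P) (hx : AdicCompletion.evalₐ M c x = 0) :
    x ∈ (M.map (algebraMap P (AdicCompletion M P))) ^ c := by
  have h1 : AdicCompletion.eval M P c x = 0 := by
    have h : M ^ c ≤ M ^ c • ⊤ := by simp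
    rw [← AdicCompletion.factor_evalₐ_eq_eval M x h, hx, map_zero]
  have h2 : x ∈ (M ^ c • ⊤ : Submodule P (AdicCompletion M P)) := by
    rw [AdicCompletion.pow_smul_top_eq_ker_eval hMfg]
    exact h1
  rw [Ideal.smul_top_eq_map, Submodule.restrictScalars_mem, Ideal.map_pow] at h2
  exact h2

include hMfg in
lemma adic_density (c : ℕ) (s : AdicCompletion M P) :
    ∃ p : P, s - algebraMap P (AdicCompletion M P) p ∈
      (M.map (algebraMap P (AdicCompletion M P))) ^ c := by
  obtain ⟨p, hp⟩ := Ideal.Quotient.mk_surjective (AdicCompletion.evalₐ M c s)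
  refine ⟨p, adic_ker_evalₐ_le M hMfg c _ ?_⟩
  rw [map_sub, AdicCompletion.algebraMap_apply, Algebra.algebraMap_self, RingHom.id_apply,
    AdicCompletion.evalₐ_of, hp, sub_self]

end Density

section SmoothRing

variable [IsNoetherianRing Λ]

/-- The completion of a polynomial ring at the kernel of a surjection to `k`: a complete local
Noetherian `Λ`-algebra `S` with residue field `k`, such that maps `S → A` into Artinian objects are
the same as maps from the polynomial ring compatible with the augmentations. -/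
theorem exists_smooth_ring {σ : Type} [Finite σ] (π : MvPolynomial σ Λ →ₐ[Λ] k)
    (hπ : Function.Surjective π) :
    ∃ (S : Type u) (_ : CommRing S) (_ : Algebra Λ S) (_ : IsLocalRing S) (_ : IsNoetherianRing S)
      (_ : IsAdicComplete (maximalIdeal S) S) (resS : S →ₐ[Λ] k)
      (ι : MvPolynomial σ Λ →ₐ[Λ] S),
      Function.Surjective resS ∧ resS.comp ι = π ∧
      (∀ (A : Art Λ k) (g : MvPolynomial σ Λ →ₐ[Λ] A), A.res.comp g = π →
        ∃ φ : HomSet S resS A, φ.1.comp ι = g) ∧
      (∀ (A : Art Λ k) (φ ψ : HomSet S resS A), φ.1.comp ι = ψ.1.comp ι → φ = ψ) := by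
  classical
  let M : Ideal (MvPolynomial σ Λ) := RingHom.ker (π : MvPolynomial σ Λ →+* k)
  haveI hMmax : M.IsMaximal := RingHom.ker_isMaximal_of_surjective _ hπ
  have hMfg : M.FG := IsNoetherian.noetherian M
  let MS : Ideal (AdicCompletion M (MvPolynomial σ Λ)) :=
    M.map (algebraMap (MvPolynomial σ Λ) (AdicCompletion M (MvPolynomial σ Λ)))
  haveI hMSmax : MS.IsMaximal := AdicCompletion.isMaximal_map_of_le M M le_rfl hMfg
  haveI hMScomp : IsAdicComplete MS (AdicCompletion M (MvPolynomial σ Λ)) :=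
    AdicCompletion.isAdicComplete_self M hMfg
  haveI hloc : IsLocalRing (AdicCompletion M (MvPolynomial σ Λ)) :=
    isLocalRing_of_isAdicComplete_maximal MS
  have hmax : maximalIdeal (AdicCompletion M (MvPolynomial σ Λ)) = MS :=
    (IsLocalRing.eq_maximalIdeal hMSmax).symm
  haveI hcomp : IsAdicComplete (maximalIdeal (AdicCompletion M (MvPolynomial σ Λ)))
      (AdicCompletion M (MvPolynomial σ Λ)) := by
    rw [hmax]; exact hMScomp
  let ι : MvPolynomial σ Λ →ₐ[Λ] AdicCompletion M (MvPolynomial σ Λ) :=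
    IsScalarTower.toAlgHom Λ _ _
  have hιapp : ∀ p, ι p = algebraMap _ _ p := fun p => rfl
  have hft : Algebra.FiniteType Λ (AdicCompletion M (MvPolynomial σ Λ) ⧸ MS) := by
    refine Algebra.FiniteType.of_surjective ((Ideal.Quotient.mkₐ Λ MS).comp ι) ?_
    intro x
    obtain ⟨s, rfl⟩ := Ideal.Quotient.mk_surjective x
    obtain ⟨p, hp⟩ := adic_density M hMfg 1 s
    rw [pow_one] at hp
    refine ⟨p, ?_⟩
    change Ideal.Quotient.mk MS (ι p) = Ideal.Quotient.mk MS s
    exact (Ideal.Quotient.eq.2 hp).symm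
  haveI hnoeth : IsNoetherianRing (AdicCompletion M (MvPolynomial σ Λ)) :=
    isNoetherianRing_of_isAdicComplete_of_fg (Λ := Λ) MS (hMfg.map _) hft
  let resS : AdicCompletion M (MvPolynomial σ Λ) →ₐ[Λ] k :=
    (Ideal.Quotient.liftₐ M π (fun a ha => ha)).comp
      ((AdicCompletion.evalOneₐ M).restrictScalars Λ)
  have hresι : resS.comp ι = π := by
    apply AlgHom.ext
    intro p
    change Ideal.Quotient.liftₐ M π (fun a ha => ha)
      (AdicCompletion.evalOneₐ M (AdicCompletion.of M _ p)) = π p
    rw [AdicCompletion.evalOneₐ_of]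
    rfl
  have hres : Function.Surjective resS := by
    intro c
    obtain ⟨p, hp⟩ := hπ c
    exact ⟨ι p, by rw [← hp, ← hresι]; rfl⟩
  refine ⟨AdicCompletion M (MvPolynomial σ Λ), inferInstance, inferInstance, hloc, hnoeth,
    hcomp, resS, ι, hres, hresι, ?_, ?_⟩
  · intro A g hg
    obtain ⟨c, hc⟩ := art_maximalIdeal_pow_eq_bot A
    have hgp : ∀ p, A.res (g p) = π p := fun p =>
      congrArg (fun h : MvPolynomial σ Λ →ₐ[Λ] k => h p) hg
    have hgM : M.map (g : MvPolynomial σ Λ →+* A) ≤ maximalIdeal A := by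
      rw [Ideal.map_le_iff_le_comap]
      intro p hp
      rw [Ideal.mem_comap, Art.mem_maximalIdeal_iff]
      exact (hgp p).trans hp
    have hgk : ∀ a ∈ M ^ c, g a = 0 := by
      intro a ha
      have h1 : (g : MvPolynomial σ Λ →+* A) a ∈
          (M.map (g : MvPolynomial σ Λ →+* A)) ^ c := by
        rw [← Ideal.map_pow]
        exact Ideal.mem_map_of_mem _ ha
      have h2 := Ideal.pow_right_mono hgM c h1
      rw [hc] at h2
      simpa using h2
    let φ : AdicCompletion M (MvPolynomial σ Λ) →ₐ[Λ] A :=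
      (Ideal.Quotient.liftₐ (M ^ c) g hgk).comp ((AdicCompletion.evalₐ M c).restrictScalars Λ)
    have hφι : φ.comp ι = g := by
      apply AlgHom.ext
      intro p
      change Ideal.Quotient.liftₐ (M ^ c) g hgk
        (AdicCompletion.evalₐ M c (AdicCompletion.of M _ p)) = g p
      rw [AdicCompletion.evalₐ_of]
      rfl
    have hkillMS : ∀ f : AdicCompletion M (MvPolynomial σ Λ) →ₐ[Λ] k,
        f.comp ι = π → ∀ x ∈ MS, f x = 0 := by
      intro f hf
      have : MS ≤ RingHom.ker (f : AdicCompletion M (MvPolynomial σ Λ) →+* k) := by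
        rw [Ideal.map_le_iff_le_comap]
        intro p hp
        rw [Ideal.mem_comap, RingHom.mem_ker]
        have : f (ι p) = π p := congrArg (fun h : MvPolynomial σ Λ →ₐ[Λ] k => h p) hf
        exact this.trans hp
      exact fun x hx => this hx
    have hφres : A.res.comp φ = resS := by
      have e1 : (A.res.comp φ).comp ι = π := by
        rw [AlgHom.comp_assoc, hφι, hg]
      apply AlgHom.ext
      intro s
      obtain ⟨p, hp⟩ := adic_density M hMfg 1 s
      rw [pow_one] at hp
      have h1 := hkillMS _ e1 _ hp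
      have h2 := hkillMS _ hresι _ hp
      rw [map_sub, sub_eq_zero] at h1 h2
      rw [h1, h2]
      have a1 : (A.res.comp φ) (ι p) = π p :=
        congrArg (fun h : MvPolynomial σ Λ →ₐ[Λ] k => h p) e1
      have a2 : resS (ι p) = π p :=
        congrArg (fun h : MvPolynomial σ Λ →ₐ[Λ] k => h p) hresι
      exact a1.trans a2.symm
    exact ⟨⟨φ, hφres⟩, hφι⟩
  · intro A φ ψ h
    apply homSet_ext
    intro s
    obtain ⟨c, hc⟩ := art_maximalIdeal_pow_eq_bot A
    obtain ⟨p, hp⟩ := adic_density M hMfg c s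
    have hp' : s - algebraMap _ _ p ∈
        maximalIdeal (AdicCompletion M (MvPolynomial σ Λ)) ^ c := by
      rw [hmax]; exact hp
    have h1 := homSet_pow_le_ker hres φ hc hp'
    have h2 := homSet_pow_le_ker hres ψ hc hp'
    rw [RingHom.mem_ker, map_sub, sub_eq_zero] at h1 h2
    rw [h1, h2]
    exact congrArg (fun f : MvPolynomial σ Λ →ₐ[Λ] A => f p) h

end SmoothRing

section Consequences

variable {σ : Type} {π : MvPolynomial σ Λ →ₐ[Λ] k}
  {S : Type u} [CommRing S] [Algebra Λ S] {resS : S →ₐ[Λ] k} {ι : MvPolynomial σ Λ →ₐ[Λ] S}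

include ι in
/-- `h_S` is smooth when maps out of `S` are maps out of a polynomial ring. -/
theorem smooth_of_poly (hresι : resS.comp ι = π)
    (hext : ∀ (A : Art Λ k) (g : MvPolynomial σ Λ →ₐ[Λ] A), A.res.comp g = π →
      ∃ φ : HomSet S resS A, φ.1.comp ι = g)
    (huniq : ∀ (A : Art Λ k) (φ ψ : HomSet S resS A), φ.1.comp ι = ψ.1.comp ι → φ = ψ)
    ⦃B A : Art Λ k⦄ (μ : B ⟶ A) (hμ : Function.Surjective μ) (φ : HomSet S resS A) :
    ∃ ψ : HomSet S resS B, HomSet.map μ ψ = φ := by
  classical
  choose b hb using fun i : σ => hμ (φ.1 (ι (MvPolynomial.X i)))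
  let g' : MvPolynomial σ Λ →ₐ[Λ] B := MvPolynomial.aeval b
  have hμg : μ.toAlgHom.comp g' = φ.1.comp ι := by
    apply MvPolynomial.algHom_ext
    intro i
    simp [g', hb]
  have hres' : B.res.comp g' = π := by
    rw [← μ.res_comp, AlgHom.comp_assoc, hμg, ← AlgHom.comp_assoc, φ.2, hresι]
  obtain ⟨ψ, hψ⟩ := hext B g' hres'
  refine ⟨ψ, huniq A _ _ ?_⟩
  change (μ.toAlgHom.comp ψ.1).comp ι = φ.1.comp ι
  rw [AlgHom.comp_assoc, hψ, hμg]

end Consequences

end Groth.Agent.H6
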