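import Groth.Agent.Lib.Helper6.ArtFunDelta

/-!
# helper6: the tangent action on the fibres of a small extension (torsor arguments)
-/

set_option autoImplicit false
set_option linter.style.haveILetI false
set_option linter.unusedTactic false
set_option linter.unusedVariables false

universe u v

open CategoryTheory

namespace Groth.Agent.H6

open ArtFun ArtFun.Art IsLocalRing

variable {Λ : Type u} {k : Type u} [CommRing Λ] [Field k] [Algebra Λ k]

lemma art_comp_apply {A B C : Art Λ k} (f : A ⟶ B) (g : B ⟶ C) (a : A) : (f ≫ g) a = g (f a) := rfl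

/-- Transport of a difference map along a base change of small extensions: if `B = A' ×_A A''`,
`P' = B ×_{A'} B`, `P'' = A'' ×_A A''`, `g : P' → P''` is induced by `B → A''` and
`(r₁, δ)` presents `P''` as `A'' ×_k k[ε]`, then `(q₁, g ≫ δ)` presents `P'` as `B ×_k k[ε]`. -/
theorem fp_delta_comp {B A A' A'' P' P'' : Art Λ k} {p' : B ⟶ A'} {p'' : B ⟶ A''} {f' : A' ⟶ A}
    {f'' : A'' ⟶ A} (hB : IsFibreProd p' p'' f' f'') {q₁ q₂ : P' ⟶ B} (hP' : IsFibreProd q₁ q₂ p' p')
    {r₁ r₂ : P'' ⟶ A''} (hP'' : IsFibreProd r₁ r₂ f'' f'') {δ : P'' ⟶ dual Λ k}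
    (hδ : IsFibreProd r₁ δ (toBase A'') (toBase (dual Λ k)))
    (g : P' ⟶ P'') (hg1 : g ≫ r₁ = q₁ ≫ p'') (hg2 : g ≫ r₂ = q₂ ≫ p'') :
    IsFibreProd q₁ (g ≫ δ) (toBase B) (toBase (dual Λ k)) where
  w := by rw [eq_toBase (q₁ ≫ toBase _), eq_toBase ((g ≫ δ) ≫ toBase _)]
  inj z₁ z₂ h1 h2 := by
    have e1 : ∀ z : P', r₁ (g z) = p'' (q₁ z) := fun z => by
      rw [← art_comp_apply, hg1]; rfl
    have e2 : ∀ z : P', r₂ (g z) = p'' (q₂ z) := fun z => by
      rw [← art_comp_apply, hg2]; rfl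
    have hgz : g z₁ = g z₂ := by
      apply hδ.inj
      · rw [e1, e1, h1]
      · exact h2
    have h3 : p'' (q₂ z₁) = p'' (q₂ z₂) := by rw [← e2, ← e2, hgz]
    have h4 : p' (q₂ z₁) = p' (q₂ z₂) := by
      rw [← hP'.w_apply, ← hP'.w_apply, h1]
    exact hP'.inj _ _ h1 (hB.inj _ _ h4 h3)
  surj b d hbd := by
    have e1 : ∀ z : P', r₁ (g z) = p'' (q₁ z) := fun z => by
      rw [← art_comp_apply, hg1]; rfl
    have e2 : ∀ z : P', r₂ (g z) = p'' (q₂ z) := fun z => by
      rw [← art_comp_apply, hg2]; rfl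
    obtain ⟨y, hy1, hy2⟩ := hδ.surj (p'' b) d (by
      have : toBase A'' (p'' b) = toBase B b := by
        rw [← art_comp_apply, eq_toBase (p'' ≫ toBase A'')]
      rw [this, hbd])
    obtain ⟨b₂, hb1, hb2⟩ := hB.surj (p' b) (r₂ y) (by
      rw [hB.w_apply, ← hP''.w_apply, hy1])
    obtain ⟨z, hz1, hz2⟩ := hP'.surj b b₂ hb1.symm
    refine ⟨z, hz1, ?_⟩
    have : g z = y := by
      apply hP''.inj
      · rw [e1, hz1, hy1]
      · rw [e2, hz2, hb2]
    rw [art_comp_apply, this, hy2]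

variable [IsNoetherianRing Λ] [Module.Finite Λ k] {F : Art Λ k ⥤ Type v}

/-- Under (H1), the injectivity part of (H2) and the injectivity part of (H4), the comparison
map of a fibre product along a small extension is injective. -/
theorem cmp_injective_of_smallExt
    (h1 : Hbar F)
    (h2 : ∀ ⦃B A' : Art Λ k⦄ (p' : B ⟶ A') (p'' : B ⟶ dual Λ k)
      (h : IsFibreProd p' p'' (toBase A') (toBase (dual Λ k))), Function.Injective (cmp F h))
    (h4 : ∀ ⦃B A A' : Art Λ k⦄ (p₁ p₂ : B ⟶ A') (f : A' ⟶ A) (h : IsFibreProd p₁ p₂ f f),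
      IsSmallExt f → Function.Injective (cmp F h))
    ⦃B A A' A'' : Art Λ k⦄ (p' : B ⟶ A') (p'' : B ⟶ A'') (f' : A' ⟶ A) (f'' : A'' ⟶ A)
    (h : IsFibreProd p' p'' f' f'') (hf : IsSmallExt f'') : Function.Injective (cmp F h) := by
  rw [cmp_injective_iff]
  intro z₁ z₂ hz' hz''
  have hp' : IsSmallExt p' := isSmallExt_fst_of_isFibreProd h hf
  obtain ⟨P', q₁, q₂, hP'⟩ := art_exists_isFibreProd p' p' hp'.1
  obtain ⟨P'', r₁, r₂, hP''⟩ := art_exists_isFibreProd f'' f'' hf.1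
  obtain ⟨δ, hδ⟩ := exists_delta hf hP''
  obtain ⟨g, hg1, hg2⟩ := fp_exists_lift hP'' (q₁ ≫ p'') (q₂ ≫ p'') (by
    rw [Category.assoc, Category.assoc, ← h.w, ← Category.assoc, ← Category.assoc, hP'.w])
  have hδ' := fp_delta_comp h hP' hP'' hδ g hg1 hg2
  obtain ⟨Δ, hΔ1, hΔ2⟩ := fp_exists_lift hP' (𝟙 B) (𝟙 B) rfl
  obtain ⟨w, hw1, hw2⟩ := (cmp_surjective_iff F hP').1 (h1 q₁ q₂ p' p' hP' hp') z₁ z₂ hz'
  have hw0 : w = F.map Δ z₁ := by
    apply (cmp_injective_iff F hδ').1 (h2 q₁ (g ≫ δ) hδ')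
    · rw [hw1, ← map_comp_apply', hΔ1, map_id_apply']
    · rw [map_comp_apply', map_comp_apply']
      congr 1
      apply (cmp_injective_iff F hP'').1 (h4 r₁ r₂ f'' hP'' hf)
      · rw [← map_comp_apply', ← map_comp_apply', hg1, map_comp_apply', map_comp_apply', hw1,
          ← map_comp_apply' F Δ q₁, hΔ1, map_id_apply']
      · rw [← map_comp_apply', ← map_comp_apply', hg2, map_comp_apply', map_comp_apply', hw2,
          ← map_comp_apply' F Δ q₂, hΔ2, map_id_apply', hz'']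
  rw [← hw2, hw0, ← map_comp_apply', hΔ2, map_id_apply']

/-- (H1), (H2), (H4) imply (RS). -/
theorem rs_of_hbar_heps_hsq (h1 : Hbar F) (h2 : Heps F) (h4 : HSq F) : RS F := by
  apply rs_of_rs_smallExt
  intro B A A' A'' p' p'' f' f'' h hf
  exact ⟨cmp_injective_of_smallExt h1 (fun _ _ p' p'' h => (h2 p' p'' h).1)
    (fun _ _ _ p₁ p₂ f h hf => (h4 p₁ p₂ f h hf).1) p' p'' f' f'' h hf, h1 p' p'' f' f'' h hf⟩

/-- Under (H1) and the injectivity part of (H2), a functor with `F(k)` and `F(k[ε])` subsingletons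
has all `F(A)` subsingletons. -/
theorem subsingleton_obj_of_tangent_subsingleton
    (h1 : Hbar F)
    (h2 : ∀ ⦃B A' : Art Λ k⦄ (p' : B ⟶ A') (p'' : B ⟶ dual Λ k)
      (h : IsFibreProd p' p'' (toBase A') (toBase (dual Λ k))), Function.Injective (cmp F h))
    (h0 : Subsingleton (F.obj (base Λ k))) (ht : Subsingleton (F.obj (dual Λ k))) (A : Art Λ k) :
    Subsingleton (F.obj A) := by
  have key := art_surjective_induction
    (fun A B μ => Subsingleton (F.obj A) → Subsingleton (F.obj B))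
    ?_ ?_ ?_ (toBase A) A.res_surjective
  · exact key h0
  · intro A B e he hA
    refine ⟨fun x y => ?_⟩
    have h := @Subsingleton.elim _ hA (F.map e x) (F.map e y)
    have := congrArg (F.map (inv e)) h
    rwa [map_inv_map, map_inv_map] at this
  · intro A A' μ hμ hA
    refine ⟨fun y y' => ?_⟩
    obtain ⟨P, p₁, p₂, hP⟩ := art_exists_isFibreProd μ μ hμ.1
    obtain ⟨δ, hδ⟩ := exists_delta hμ hP
    obtain ⟨Δ, hΔ1, hΔ2⟩ := fp_exists_lift hP (𝟙 A') (𝟙 A') rfl
    obtain ⟨w, hw1, hw2⟩ := (cmp_surjective_iff F hP).1 (h1 p₁ p₂ μ μ hP hμ) y y'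
      (@Subsingleton.elim _ hA _ _)
    have hw0 : w = F.map Δ y := by
      apply (cmp_injective_iff F hδ).1 (h2 p₁ δ hδ)
      · rw [hw1, ← map_comp_apply', hΔ1, map_id_apply']
      · exact @Subsingleton.elim _ ht _ _
    rw [← hw2, hw0, ← map_comp_apply', hΔ2, map_id_apply']
  · intro A B C p q hp hq hA
    exact hp (hq hA)

omit [IsNoetherianRing Λ] [Module.Finite Λ k] in
/-- Surjections are epimorphisms in `Art Λ k`. -/
lemma art_epi_of_surjective {B A C : Art Λ k} (f : B ⟶ A) (hf : Function.Surjective f)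
    {u v : A ⟶ C} (h : f ≫ u = f ≫ v) : u = v := by
  apply Art.hom_ext
  apply AlgHom.ext
  intro a
  obtain ⟨b, rfl⟩ := hf a
  exact congrArg (fun g : B ⟶ C => g b) h

set_option backward.isDefEq.respectTransparency false in
omit [IsNoetherianRing Λ] [Module.Finite Λ k] in
/-- A morphism killing the kernel of a surjection factors through it. -/
theorem art_exists_factor {B A C : Art Λ k} (f : B ⟶ A) (hf : Function.Surjective f)
    (c : B ⟶ C) (hker : RingHom.ker f.toAlgHom ≤ RingHom.ker c.toAlgHom) :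
    ∃ a : A ⟶ C, f ≫ a = c := by
  have hKm : RingHom.ker f.toAlgHom ≤ IsLocalRing.maximalIdeal B := art_ker_le_maximalIdeal f
  have hbij : Function.Bijective (quotFactor hKm f le_rfl) := by
    constructor
    · intro x y hxy
      obtain ⟨x, rfl⟩ := Ideal.Quotient.mk_surjective x
      obtain ⟨y, rfl⟩ := Ideal.Quotient.mk_surjective y
      rw [art_quotFactor_apply, art_quotFactor_apply] at hxy
      rw [Ideal.Quotient.eq, RingHom.mem_ker, map_sub]
      exact sub_eq_zero.2 hxy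
    · intro a
      obtain ⟨b, rfl⟩ := hf a
      exact ⟨Ideal.Quotient.mk _ b, rfl⟩
  haveI : IsIso (quotFactor hKm f le_rfl) := art_isIso_of_bijective _ hbij
  refine ⟨inv (quotFactor hKm f le_rfl) ≫ quotFactor hKm c hker, ?_⟩
  calc f ≫ inv (quotFactor hKm f le_rfl) ≫ quotFactor hKm c hker
      = (quotMk B _ hKm ≫ quotFactor hKm f le_rfl) ≫ inv (quotFactor hKm f le_rfl) ≫
          quotFactor hKm c hker := by rw [quotMk_quotFactor]
    _ = quotMk B _ hKm ≫ quotFactor hKm c hker := by rw [Category.assoc, IsIso.hom_inv_id_assoc]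
    _ = c := quotMk_quotFactor hKm c hker

end Groth.Agent.H6
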