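import Mathlib
import Groth.Agent.S14271

set_option autoImplicit false
universe u

open AlgebraicGeometry CategoryTheory CategoryTheory.Limits Opposite TopologicalSpace

namespace Groth.Agent.H6.Hartogs2

/-! ### Regular sequences of length two -/

/-- Elementwise unpacking of a weakly regular sequence of length two on the ring itself. -/
theorem of_isWeaklyRegular {R : Type*} [CommRing R] (a b : R)
    (h : RingTheory.Sequence.IsWeaklyRegular R [a, b]) :
    IsSMulRegular R a ∧ ∀ y c : R, b * y = a * c → ∃ c', y = a * c' := by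
  rw [RingTheory.Sequence.isWeaklyRegular_cons_iff,
    RingTheory.Sequence.isWeaklyRegular_singleton_iff] at h
  refine ⟨h.1, fun y c hyc => ?_⟩
  have h2 := h.2
  have h0 : (Submodule.Quotient.mk y : QuotSMulTop a R) = 0 := by
    apply h2
    show b • (Submodule.Quotient.mk y : QuotSMulTop a R) = b • (0 : QuotSMulTop a R)
    rw [smul_zero, ← Submodule.Quotient.mk_smul, Submodule.Quotient.mk_eq_zero, smul_eq_mul, hyc]
    exact (Submodule.mem_smul_pointwise_iff_exists _ _ _).mpr ⟨c, Submodule.mem_top, rfl⟩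
  rw [Submodule.Quotient.mk_eq_zero] at h0
  obtain ⟨c', -, hc'⟩ := (Submodule.mem_smul_pointwise_iff_exists _ _ _).mp h0
  exact ⟨c', by rw [← hc', smul_eq_mul]⟩

/-- If `a, b` is a regular sequence then `b ^ l * x ∈ (a ^ k)` implies `x ∈ (a ^ k)`. -/
theorem exists_eq_pow_mul {R : Type*} [CommRing R] (a b : R) (ha : IsSMulRegular R a)
    (hb : ∀ y c : R, b * y = a * c → ∃ c', y = a * c') :
    ∀ (k l : ℕ) (x y : R), b ^ l * x = a ^ k * y → ∃ c, x = a ^ k * c := by
  have h1 : ∀ (k : ℕ) (x y : R), b * x = a ^ k * y → ∃ c, x = a ^ k * c := by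
    intro k
    induction k with
    | zero => intro x y _; exact ⟨x, by simp⟩
    | succ k ih =>
      intro x y h
      obtain ⟨x', hx'⟩ := hb x (a ^ k * y) (by rw [h]; ring)
      have h2 : b * x' = a ^ k * y := by
        apply ha
        show a • (b * x') = a • (a ^ k * y)
        simp only [smul_eq_mul]
        rw [hx'] at h
        linear_combination h
      obtain ⟨c, hc⟩ := ih x' y h2
      exact ⟨c, by rw [hx', hc]; ring⟩
  intro k l
  induction l with
  | zero => intro x y h; exact ⟨y, by simpa using h⟩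
  | succ l ih =>
    intro x y h
    obtain ⟨c, hc⟩ := h1 k (b ^ l * x) y (by rw [← h]; ring)
    exact ih x c hc

/-! ### The algebraic core -/

section Alg

variable {A M : Type u} [CommRing A] [CommRing M] (ρ : A →+* M)
  {ι : Type*} [Fintype ι] (g : ι → A) (B : ι → Type u) [∀ i, CommRing (B i)]
  (r : ∀ i, M →+* B i)

include g in
/-- (L1) On a member of the cover, a multiple of `s` by a power of `g i` comes from `A`. -/
theorem alg_L1
    (hsurj : ∀ i (x : B i), ∃ (N : ℕ) (m : A), x * r i (ρ (g i)) ^ N = r i (ρ m))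
    (hqc : ∀ (d : M) (i : ι), r i d = 0 → ∃ K : ℕ, ρ (g i) ^ K * d = 0)
    (s : M) (i : ι) : ∃ (n : ℕ) (t : A), ρ t = ρ (g i ^ n) * s := by
  obtain ⟨N, m, hm⟩ := hsurj i (r i s)
  have h0 : r i (ρ (g i ^ N) * s - ρ m) = 0 := by
    rw [map_sub, map_mul, ← hm, map_pow, map_pow]; ring
  obtain ⟨K, hK⟩ := hqc _ i h0
  refine ⟨K + N, g i ^ K * m, ?_⟩
  simp only [map_mul, map_pow, pow_add] at hK ⊢
  linear_combination (-1 : M) * hK

/-- (L2) Annihilators of sections on the quasi-compact open localize. -/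
theorem alg_L2
    (hunit : ∀ i, IsUnit (r i (ρ (g i))))
    (hsurj : ∀ i (x : B i), ∃ (N : ℕ) (m : A), x * r i (ρ (g i)) ^ N = r i (ρ m))
    (hker : ∀ i (m : A), r i (ρ m) = 0 → ∃ K : ℕ, g i ^ K * m = 0)
    (hsep : ∀ d : M, (∀ i, r i d = 0) → d = 0)
    (p : Ideal A) [hp : p.IsPrime] (c₀ : A)
    (hc₀ : ∀ x : A, c₀ * x = 0 → ∃ e, e ∉ p ∧ e * x = 0)
    (d : M) (hd : ρ c₀ * d = 0) : ∃ e, e ∉ p ∧ ρ e * d = 0 := by
  classical
  have key : ∀ i, ∃ e, e ∉ p ∧ r i (ρ e * d) = 0 := by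
    intro i
    obtain ⟨N, m, hm⟩ := hsurj i (r i d)
    have h1 : r i (ρ (c₀ * m)) = 0 := by
      have h1' : r i (ρ (c₀ * m)) = r i (ρ c₀ * d) * r i (ρ (g i)) ^ N := by
        simp only [map_mul]
        linear_combination (-(r i (ρ c₀))) * hm
      rw [h1', hd, map_zero, zero_mul]
    obtain ⟨K, hK⟩ := hker i _ h1
    obtain ⟨e, hep, he⟩ := hc₀ (g i ^ K * m) (by linear_combination hK)
    refine ⟨e, hep, ?_⟩
    have he' : r i (ρ (e * (g i ^ K * m))) = 0 := by rw [he, map_zero, map_zero]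
    have h2 : r i (ρ e * d) * r i (ρ (g i)) ^ (N + K) = 0 := by
      simp only [map_mul, map_pow, pow_add] at he' ⊢
      linear_combination (r i (ρ e) * r i (ρ (g i)) ^ K) * hm + he'
    exact ((hunit i).pow (N + K)).mul_left_eq_zero.mp h2
  choose e hep he using key
  refine ⟨∏ i, e i, ?_, ?_⟩
  · intro h
    obtain ⟨i, -, hi⟩ := Ideal.IsPrime.prod_mem_iff.mp h
    exact hep i hi
  · apply hsep
    intro i
    have hprod : ∏ j, e j = (∏ j ∈ Finset.univ.erase i, e j) * e i :=
      (Finset.prod_erase_mul _ _ (Finset.mem_univ i)).symm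
    have : r i (ρ (∏ j, e j) * d) =
        r i (ρ (∏ j ∈ Finset.univ.erase i, e j)) * r i (ρ (e i) * d) := by
      rw [hprod]; simp only [map_mul]; ring
    rw [this, he i, mul_zero]

/-- Algebraic Hartogs: if `M` is glued from finitely many principal localizations of `A`, the map
`A → M` is injective, and at every prime not in the union of the principal opens the local ring
has a regular sequence of length two in its maximal ideal, then `A → M` is surjective. -/
theorem alg_surjective (hρ : Function.Injective ρ)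
    (hunit : ∀ i, IsUnit (r i (ρ (g i))))
    (hsurj : ∀ i (x : B i), ∃ (N : ℕ) (m : A), x * r i (ρ (g i)) ^ N = r i (ρ m))
    (hker : ∀ i (m : A), r i (ρ m) = 0 → ∃ K : ℕ, g i ^ K * m = 0)
    (hsep : ∀ d : M, (∀ i, r i d = 0) → d = 0)
    (hqc : ∀ (d : M) (i : ι), r i d = 0 → ∃ K : ℕ, ρ (g i) ^ K * d = 0)
    (hdepth : ∀ (p : Ideal A) [p.IsPrime], (∀ i, g i ∈ p) →
      ∃ (R : Type u) (_ : CommRing R) (_ : Algebra A R) (_ : IsLocalization.AtPrime R p)
        (a b : R), a ∈ p.map (algebraMap A R) ∧ b ∈ p.map (algebraMap A R) ∧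
        IsSMulRegular R a ∧ ∀ y c : R, b * y = a * c → ∃ c', y = a * c') :
    Function.Surjective ρ := by
  intro s
  let J : Ideal A :=
    { carrier := {c | ∃ t, ρ t = ρ c * s}
      zero_mem' := ⟨0, by simp⟩
      add_mem' := by
        rintro c₁ c₂ ⟨t₁, h₁⟩ ⟨t₂, h₂⟩
        exact ⟨t₁ + t₂, by rw [map_add, map_add, h₁, h₂, add_mul]⟩
      smul_mem' := by
        rintro x c ⟨t, h⟩
        exact ⟨x * t, by rw [smul_eq_mul, map_mul, map_mul, h, mul_assoc]⟩ }
  have hJ : ∀ c, c ∈ J ↔ ∃ t, ρ t = ρ c * s := fun c => Iff.rfl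
  by_contra hne
  have hJtop : J ≠ ⊤ := by
    intro h
    have h1 : (1 : A) ∈ J := h ▸ Submodule.mem_top
    obtain ⟨t, ht⟩ := (hJ 1).mp h1
    exact hne ⟨t, by rw [ht, map_one, one_mul]⟩
  obtain ⟨⟨p, hp⟩⟩ := Ideal.nonempty_minimalPrimes hJtop
  haveI hpp : p.IsPrime := hp.1.1
  have hJp : J ≤ p := hp.1.2
  by_cases hcase : ∃ i, g i ∉ p
  · obtain ⟨i, hi⟩ := hcase
    obtain ⟨n, t, ht⟩ := alg_L1 ρ g B r hsurj hqc s i
    exact hi (hpp.mem_of_pow_mem n (hJp ((hJ _).mpr ⟨t, ht⟩)))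
  · have hcase' : ∀ i, g i ∈ p := fun i => by_contra fun h => hcase ⟨i, h⟩
    obtain ⟨R, _, _, _, a, b, hap, hbp, hreg, hb⟩ := hdepth p hcase'
    have hrad := IsLocalization.AtPrime.radical_map_of_mem_minimalPrimes R p J hp
    rw [← hrad] at hap hbp
    obtain ⟨k, hk⟩ := hap
    obtain ⟨l, hl⟩ := hbp
    obtain ⟨⟨⟨ca, hca⟩, ⟨ua, hua⟩⟩, hcua'⟩ :=
      (IsLocalization.mem_map_algebraMap_iff p.primeCompl R).mp hk
    obtain ⟨⟨⟨cb, hcb⟩, ⟨ub, hub⟩⟩, hcub'⟩ :=
      (IsLocalization.mem_map_algebraMap_iff p.primeCompl R).mp hl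
    have hcua : a ^ k * algebraMap A R ua = algebraMap A R ca := hcua'
    have hcub : b ^ l * algebraMap A R ub = algebraMap A R cb := hcub'
    obtain ⟨α, hα⟩ := (hJ ca).mp hca
    obtain ⟨β, hβ⟩ := (hJ cb).mp hcb
    have h1 : cb * α = ca * β := by
      apply hρ
      rw [map_mul, map_mul, hα, hβ]; ring
    have h2 : b ^ l * (algebraMap A R ub * algebraMap A R α) =
        a ^ k * (algebraMap A R ua * algebraMap A R β) := by
      have h := congrArg (algebraMap A R) h1
      rw [map_mul, map_mul, ← hcua, ← hcub] at h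
      linear_combination h
    obtain ⟨γ, hγ⟩ := exists_eq_pow_mul a b hreg hb k l _ _ h2
    obtain ⟨⟨γ', ⟨w, hw⟩⟩, hγ''⟩ := IsLocalization.surj p.primeCompl γ
    have hγ' : γ * algebraMap A R w = algebraMap A R γ' := hγ''
    have h3 : algebraMap A R (ub * α * w * ua) = algebraMap A R (ca * γ') := by
      simp only [map_mul]
      rw [← hcua, ← hγ']
      linear_combination (algebraMap A R w * algebraMap A R ua) * hγ
    obtain ⟨⟨e, he⟩, hee'⟩ := (IsLocalization.eq_iff_exists p.primeCompl R).mp h3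
    have hee : e * (ub * α * w * ua) = e * (ca * γ') := hee'
    have hd : ρ ca * (ρ (e * ub * w * ua) * s - ρ (e * γ')) = 0 := by
      have h := congrArg ρ hee
      simp only [map_mul] at h ⊢
      linear_combination h - (ρ e * ρ ub * ρ w * ρ ua) * hα
    have hca0 : ∀ x : A, ca * x = 0 → ∃ e', e' ∉ p ∧ e' * x = 0 := by
      intro x hx
      have h4 : a ^ k * (algebraMap A R ua * algebraMap A R x) = 0 := by
        have h := congrArg (algebraMap A R) hx
        rw [map_mul, map_zero, ← hcua] at h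
        linear_combination h
      have h5 : algebraMap A R (ua * x) = 0 := by
        rw [map_mul]
        have hreg' : IsSMulRegular R (a ^ k) := hreg.pow k
        apply hreg'
        show a ^ k • (algebraMap A R ua * algebraMap A R x) = a ^ k • (0 : R)
        rw [smul_eq_mul, smul_zero, h4]
      obtain ⟨⟨e', he'⟩, hee''⟩ := (IsLocalization.map_eq_zero_iff p.primeCompl R _).mp h5
      have hee0 : e' * (ua * x) = 0 := hee''
      refine ⟨e' * ua, ?_, by rw [mul_assoc]; exact hee0⟩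
      intro hmem
      rcases hpp.mem_or_mem hmem with h | h
      · exact he' h
      · exact hua h
    obtain ⟨e'', he''p, he''⟩ := alg_L2 ρ g B r hunit hsurj hker hsep p ca hca0 _ hd
    have hmem : e'' * (e * ub * w * ua) ∈ J := (hJ _).mpr ⟨e'' * (e * γ'), by
      simp only [map_mul] at he'' ⊢
      linear_combination (-1 : M) * he''⟩
    have hmemp := hJp hmem
    rcases hpp.mem_or_mem hmemp with h | h
    · exact he''p h
    · rcases hpp.mem_or_mem h with h | h
      · rcases hpp.mem_or_mem h with h | h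
        · rcases hpp.mem_or_mem h with h | h
          · exact he h
          · exact hub h
        · exact hw h
      · exact hua h

end Alg

/-! ### The geometric part -/

section Geo

variable {X : Scheme.{u}}

theorem res_res {U₁ U₂ U₃ : X.Opens} (h₁₂ : U₂ ≤ U₁) (h₂₃ : U₃ ≤ U₂) (x : Γ(X, U₁)) :
    (X.presheaf.map (homOfLE h₂₃).op).hom ((X.presheaf.map (homOfLE h₁₂).op).hom x) =
      (X.presheaf.map (homOfLE (h₂₃.trans h₁₂)).op).hom x := by
  rw [← CommRingCat.comp_apply, ← Functor.map_comp]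
  rfl

variable {W V : X.Opens}

theorem geo_unit (hVW : V ≤ W) (g : Γ(X, W)) (hg : X.basicOpen g ≤ V) :
    IsUnit ((X.presheaf.map (homOfLE hg).op).hom ((X.presheaf.map (homOfLE hVW).op).hom g)) := by
  rw [res_res hVW hg]
  exact RingedSpace.isUnit_res_basicOpen _ g

theorem geo_surj (hW : IsAffineOpen W) (hVW : V ≤ W) (g : Γ(X, W)) (hg : X.basicOpen g ≤ V)
    (x : Γ(X, X.basicOpen g)) :
    ∃ (N : ℕ) (m : Γ(X, W)),
      x * ((X.presheaf.map (homOfLE hg).op).hom ((X.presheaf.map (homOfLE hVW).op).hom g)) ^ N =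
        (X.presheaf.map (homOfLE hg).op).hom ((X.presheaf.map (homOfLE hVW).op).hom m) := by
  obtain ⟨n, y, hy⟩ := exists_eq_pow_mul_of_isAffineOpen X W hW g x
  refine ⟨n, y, ?_⟩
  simp only [res_res hVW hg]
  exact (mul_comm _ _).trans hy.symm

theorem geo_ker (hW : IsAffineOpen W) (hVW : V ≤ W) (g : Γ(X, W)) (hg : X.basicOpen g ≤ V)
    (m : Γ(X, W))
    (h : (X.presheaf.map (homOfLE hg).op).hom ((X.presheaf.map (homOfLE hVW).op).hom m) = 0) :
    ∃ K : ℕ, g ^ K * m = 0 := by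
  rw [res_res hVW hg] at h
  exact exists_pow_mul_eq_zero_of_res_basicOpen_eq_zero_of_isCompact X hW.isCompact m g h

theorem geo_qc (hV : IsCompact (V : Set X)) (hVW : V ≤ W) (g : Γ(X, W))
    (hg : X.basicOpen g ≤ V) (d : Γ(X, V))
    (h : (X.presheaf.map (homOfLE hg).op).hom d = 0) :
    ∃ K : ℕ, ((X.presheaf.map (homOfLE hVW).op).hom g) ^ K * d = 0 := by
  have hle : X.basicOpen ((X.presheaf.map (homOfLE hVW).op).hom g) ≤ X.basicOpen g := by
    have h' := X.basicOpen_res g (homOfLE hVW).op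
    exact (le_of_eq h').trans inf_le_right
  refine exists_pow_mul_eq_zero_of_res_basicOpen_eq_zero_of_isCompact X hV d _ ?_
  show (X.presheaf.map (homOfLE (X.basicOpen_le _)).op).hom d = 0
  rw [← res_res hg hle d, h, map_zero]

theorem not_mem_of_fromSpec_mem_basicOpen (hW : IsAffineOpen W) (p : Ideal Γ(X, W))
    [hp : p.IsPrime] (g : Γ(X, W)) (h : hW.fromSpec ⟨p, hp⟩ ∈ X.basicOpen g) : g ∉ p := by
  have hmem : (⟨p, hp⟩ : PrimeSpectrum Γ(X, W)) ∈ hW.fromSpec ⁻¹ᵁ X.basicOpen g := h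
  rw [hW.fromSpec_preimage_basicOpen] at hmem
  exact hmem

theorem geo_depth (hW : IsAffineOpen W) (p : Ideal Γ(X, W)) [hp : p.IsPrime]
    (a b : X.presheaf.stalk (hW.fromSpec ⟨p, hp⟩))
    (ha : a ∈ IsLocalRing.maximalIdeal (X.presheaf.stalk (hW.fromSpec ⟨p, hp⟩)))
    (hb : b ∈ IsLocalRing.maximalIdeal (X.presheaf.stalk (hW.fromSpec ⟨p, hp⟩)))
    (hreg : RingTheory.Sequence.IsWeaklyRegular (X.presheaf.stalk (hW.fromSpec ⟨p, hp⟩)) [a, b]) :
    ∃ (R : Type u) (_ : CommRing R) (_ : Algebra Γ(X, W) R) (_ : IsLocalization.AtPrime R p)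
      (a b : R), a ∈ p.map (algebraMap Γ(X, W) R) ∧ b ∈ p.map (algebraMap Γ(X, W) R) ∧
      IsSMulRegular R a ∧ ∀ y c : R, b * y = a * c → ∃ c', y = a * c' := by
  let y : PrimeSpectrum Γ(X, W) := ⟨p, hp⟩
  have hz : hW.fromSpec y ∈ W := (hW.isoSpec.inv _).2
  letI := TopCat.Presheaf.algebra_section_stalk X.presheaf ⟨hW.fromSpec y, hz⟩
  haveI hloc : IsLocalization.AtPrime (X.presheaf.stalk (hW.fromSpec y)) p :=
    hW.isLocalization_stalk' y hz
  obtain ⟨h1, h2⟩ := of_isWeaklyRegular a b hreg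
  refine ⟨X.presheaf.stalk (hW.fromSpec y), inferInstance, inferInstance, hloc, a, b, ?_, ?_,
    h1, h2⟩
  · rw [IsLocalization.AtPrime.map_eq_maximalIdeal p]; exact ha
  · rw [IsLocalization.AtPrime.map_eq_maximalIdeal p]; exact hb

/-- Non-Noetherian Hartogs: sections over a quasi-compact open `V` of an affine open `W` extend to
`W` if restriction is injective and the local rings at the points of `W ∖ V` have a regular
sequence of length two in the maximal ideal. -/
theorem res_surjective (hW : IsAffineOpen W) (hVW : V ≤ W) (hV : IsCompact (V : Set X))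
    (hinj : Function.Injective (X.presheaf.map (homOfLE hVW).op).hom)
    (hZ : ∀ z : X, z ∈ W → z ∉ V → ∃ a b : X.presheaf.stalk z,
      a ∈ IsLocalRing.maximalIdeal (X.presheaf.stalk z) ∧
      b ∈ IsLocalRing.maximalIdeal (X.presheaf.stalk z) ∧
      RingTheory.Sequence.IsWeaklyRegular (X.presheaf.stalk z) [a, b]) :
    Function.Surjective (X.presheaf.map (homOfLE hVW).op).hom := by
  classical
  choose f hfV hxf using fun x : V => hW.exists_basicOpen_le x (hVW x.2)
  obtain ⟨T, hT⟩ := hV.elim_finite_subcover (fun x : V => (X.basicOpen (f x) : Set X))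
    (fun x => (X.basicOpen (f x)).isOpen)
    (fun y hy => Set.mem_iUnion.mpr ⟨⟨y, hy⟩, hxf ⟨y, hy⟩⟩)
  have hgV : ∀ i : T, X.basicOpen (f i.1) ≤ V := fun i => hfV i.1
  have hcovT : ∀ y ∈ V, ∃ i : T, y ∈ X.basicOpen (f i.1) := by
    intro y hy
    obtain ⟨x, hx, hyx⟩ := Set.mem_iUnion₂.mp (hT hy)
    exact ⟨⟨x, hx⟩, hyx⟩
  refine alg_surjective (X.presheaf.map (homOfLE hVW).op).hom (fun i : T => f i.1)
    (fun i => Γ(X, X.basicOpen (f i.1))) (fun i => (X.presheaf.map (homOfLE (hgV i)).op).hom)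
    hinj ?_ ?_ ?_ ?_ ?_ ?_
  · intro i
    exact geo_unit hVW (f i.1) (hgV i)
  · intro i x
    exact geo_surj hW hVW (f i.1) (hgV i) x
  · intro i m h
    exact geo_ker hW hVW (f i.1) (hgV i) m h
  · intro d hd
    have : d = 0 := by
      refine X.IsSheaf.section_ext fun y hy => ?_
      obtain ⟨i, hi⟩ := hcovT y hy
      refine ⟨X.basicOpen (f i.1), hgV i, hi, ?_⟩
      rw [map_zero]
      exact hd i
    exact this
  · intro d i h
    exact geo_qc hV hVW (f i.1) (hgV i) d h
  · intro p hp hgp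
    have hzV : hW.fromSpec ⟨p, hp⟩ ∉ V := by
      intro hzV
      obtain ⟨i, hi⟩ := hcovT _ hzV
      exact not_mem_of_fromSpec_mem_basicOpen hW p (f i.1) hi (hgp i)
    have hzW : hW.fromSpec ⟨p, hp⟩ ∈ W := (hW.isoSpec.inv _).2
    obtain ⟨a, b, ha, hb, hreg⟩ := hZ _ hzW hzV
    exact geo_depth hW p a b ha hb hreg

end Geo

/-! ### Sections of affine morphisms -/

section Sections

/-- An affine morphism `φ : Z ⟶ X` is an isomorphism as soon as some `j : U ⟶ Z` is injective on
sections over the preimages of affine opens, while `j ≫ φ` is bijective on sections over affine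
opens. -/
theorem isIso_of_affine_of_app {Z X U : Scheme.{u}} (φ : Z ⟶ X) [IsAffineHom φ] (j : U ⟶ Z)
    (i : U ⟶ X) (hji : j ≫ φ = i)
    (hj : ∀ W : X.Opens, IsAffineOpen W → Function.Injective (j.app (φ ⁻¹ᵁ W)))
    (hb : ∀ W : X.Opens, IsAffineOpen W → Function.Bijective (i.app W)) : IsIso φ := by
  subst hji
  have key : ∀ W : X.Opens, IsAffineOpen W → IsIso (φ.app W) := by
    intro W hW
    rw [ConcreteCategory.isIso_iff_bijective]
    have hb' := hb W hW
    have hcomp : ∀ a : Γ(X, W), (j ≫ φ).app W a = j.app (φ ⁻¹ᵁ W) (φ.app W a) := fun a => rfl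
    constructor
    · intro a b hab
      apply hb'.1
      rw [hcomp, hcomp, hab]
    · intro z
      obtain ⟨a, ha⟩ := hb'.2 (j.app _ z)
      rw [hcomp] at ha
      exact ⟨a, hj W hW ha⟩
  have : (MorphismProperty.isomorphisms Scheme) φ := by
    rw [HasAffineProperty.eq_targetAffineLocally (P := MorphismProperty.isomorphisms Scheme)]
    intro W
    refine ⟨W.2.preimage φ, ?_⟩
    rw [morphismRestrict_appTop]
    have h1 := key (W.1.ι ''ᵁ ⊤) (by rw [Scheme.Opens.ι_image_top]; exact W.2)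
    have h2 : IsIso (Z.presheaf.map (eqToHom (image_morphismRestrict_preimage φ W.1 ⊤)).op) := by
      rw [eqToHom_op, eqToHom_map]; infer_instance
    exact @IsIso.comp_isIso _ _ _ _ _ _ _ h1 h2
  exact this

variable (X : Scheme.{u}) (U : X.Opens) [QuasiCompact U.ι]

theorem exists_regular
    (hZ : ∀ z : X, z ∉ U → ∃ a b : X.presheaf.stalk z,
      a ∈ IsLocalRing.maximalIdeal (X.presheaf.stalk z) ∧
      b ∈ IsLocalRing.maximalIdeal (X.presheaf.stalk z) ∧
      RingTheory.Sequence.IsWeaklyRegular (X.presheaf.stalk z) [a, b]) :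
    ∀ z : X, z ∉ U → ∃ a ∈ IsLocalRing.maximalIdeal (X.presheaf.stalk z),
      IsSMulRegular (X.presheaf.stalk z) a := by
  intro z hz
  obtain ⟨a, b, ha, hb, hreg⟩ := hZ z hz
  exact ⟨a, ha, (of_isWeaklyRegular a b hreg).1⟩

/-- Hartogs for a quasi-compact open whose complement has depth at least two. -/
theorem ι_app_bijective
    (hZ : ∀ z : X, z ∉ U → ∃ a b : X.presheaf.stalk z,
      a ∈ IsLocalRing.maximalIdeal (X.presheaf.stalk z) ∧
      b ∈ IsLocalRing.maximalIdeal (X.presheaf.stalk z) ∧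
      RingTheory.Sequence.IsWeaklyRegular (X.presheaf.stalk z) [a, b])
    (W : X.Opens) (hW : IsAffineOpen W) : Function.Bijective (U.ι.app W) := by
  haveI := Groth.Agent.S14271.isSchemeTheoreticallyDominant_ι_of_regular X U
    (exists_regular X U hZ)
  have hinj := U.ι.app_injective W
  refine ⟨hinj, ?_⟩
  have hVW : U.ι ''ᵁ U.ι ⁻¹ᵁ W ≤ W := Set.image_preimage_subset _ _
  have hV : IsCompact ((U.ι ''ᵁ U.ι ⁻¹ᵁ W : X.Opens) : Set X) :=
    (U.ι.isCompact_preimage hW.isCompact).image U.ι.continuous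
  exact res_surjective hW hVW hV hinj
    (fun z hzW hzV => hZ z (fun hzU => hzV ⟨⟨z, hzU⟩, hzW, rfl⟩))

/-- Existence of the extension of a section of an affine morphism. -/
theorem exists_section
    (hZ : ∀ z : X, z ∉ U → ∃ a b : X.presheaf.stalk z,
      a ∈ IsLocalRing.maximalIdeal (X.presheaf.stalk z) ∧
      b ∈ IsLocalRing.maximalIdeal (X.presheaf.stalk z) ∧
      RingTheory.Sequence.IsWeaklyRegular (X.presheaf.stalk z) [a, b])
    (Y : Scheme.{u}) (f : Y ⟶ X) [IsAffineHom f]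
    (t : (U : Scheme.{u}) ⟶ Y) (ht : t ≫ f = U.ι) :
    ∃ s : X ⟶ Y, s ≫ f = 𝟙 X ∧ U.ι ≫ s = t := by
  haveI : QuasiCompact (t ≫ f) := by rw [ht]; infer_instance
  haveI : QuasiCompact t := QuasiCompact.of_comp t f
  have hφ : t.toImage ≫ (t.imageι ≫ f) = U.ι := by
    rw [← Category.assoc, Scheme.Hom.toImage_imageι, ht]
  haveI : IsIso (t.imageι ≫ f) :=
    isIso_of_affine_of_app (t.imageι ≫ f) t.toImage U.ι hφ
      (fun W hW => t.toImage_app_injective ⟨f ⁻¹ᵁ W, hW.preimage f⟩)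
      (fun W hW => ι_app_bijective X U hZ W hW)
  refine ⟨inv (t.imageι ≫ f) ≫ t.imageι, ?_, ?_⟩
  · rw [Category.assoc]; exact IsIso.inv_hom_id _
  · have h1 : U.ι ≫ inv (t.imageι ≫ f) = t.toImage := by
      rw [← hφ, Category.assoc, IsIso.hom_inv_id, Category.comp_id]
    rw [← Category.assoc, h1, Scheme.Hom.toImage_imageι]

/-- Sections of an affine morphism extend uniquely across a closed subset of depth at least two
with quasi-compact complement. -/
theorem existsUnique_section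
    (hZ : ∀ z : X, z ∉ U → ∃ a b : X.presheaf.stalk z,
      a ∈ IsLocalRing.maximalIdeal (X.presheaf.stalk z) ∧
      b ∈ IsLocalRing.maximalIdeal (X.presheaf.stalk z) ∧
      RingTheory.Sequence.IsWeaklyRegular (X.presheaf.stalk z) [a, b])
    (Y : Scheme.{u}) (f : Y ⟶ X) [IsAffineHom f]
    (t : (U : Scheme.{u}) ⟶ Y) (ht : t ≫ f = U.ι) :
    ∃! s : X ⟶ Y, s ≫ f = 𝟙 X ∧ U.ι ≫ s = t := by
  obtain ⟨s, hs1, hs2⟩ := exists_section X U hZ Y f t ht
  refine ⟨s, ⟨hs1, hs2⟩, ?_⟩
  rintro s' ⟨hs1', hs2'⟩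
  exact Groth.Agent.S14271.result X U (exists_regular X U hZ) Y f s' s hs1' hs1
    (hs2'.trans hs2.symm)

end Sections

end Groth.Agent.H6.Hartogs2
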