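import Mathlib
import Groth.Prelude.Def_CAlg
import Groth.Prelude.Def_FEt
import Groth.Agent.Lib.Helper6.Hartogs2
import Groth.Agent.Lib.Helper2.DepthIso1

set_option autoImplicit false
universe u

open AlgebraicGeometry CategoryTheory CategoryTheory.Limits Opposite TopologicalSpace IsLocalRing
  RingTheory.Sequence

namespace Groth.Agent.H6.PiDepth

/-- depth at least two gives a regular sequence of length two in the maximal ideal. -/
theorem exists_weaklyRegular_pair (A : Type u) [CommRing A] [IsLocalRing A]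
    (hA : (2 : ℕ∞) ≤ LocCoh.depth A A) :
    ∃ a b : A, a ∈ maximalIdeal A ∧ b ∈ maximalIdeal A ∧ IsWeaklyRegular A [a, b] := by
  have hne : maximalIdeal A • (⊤ : Submodule A A) ≠ ⊤ := by
    show maximalIdeal A * (⊤ : Ideal A) ≠ ⊤
    rw [Ideal.mul_top]
    exact (IsLocalRing.maximalIdeal.isMaximal A).ne_top
  obtain ⟨a, ha, b, hb, h1, h2⟩ := Groth.Agent.H2.DepthIso.exists_regular_pair hne hA
  refine ⟨a, b, ha, hb, ?_⟩
  rw [isWeaklyRegular_cons_iff, isWeaklyRegular_singleton_iff]
  exact ⟨h1, h2⟩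

/-- A weakly regular sequence of the ring is weakly regular on every flat module. -/
theorem isWeaklyRegular_of_flat {R : Type*} [CommRing R] (M : Type*) [AddCommGroup M]
    [Module R M] [Module.Flat R M] (rs : List R) (h : IsWeaklyRegular R rs) :
    IsWeaklyRegular M rs :=
  ((TensorProduct.lid R M).isWeaklyRegular_congr rs).mp (h.isWeaklyRegular_rTensor (M₂ := M))

/-- A flat ring map preserves weakly regular sequences of length two. -/
theorem isWeaklyRegular_pair_map {A B : Type u} [CommRing A] [CommRing B] (ψ : A →+* B)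
    (hψ : ψ.Flat) (a b : A) (h : IsWeaklyRegular A [a, b]) : IsWeaklyRegular B [ψ a, ψ b] := by
  letI := ψ.toAlgebra
  haveI : Module.Flat A B := hψ
  have h1 : IsWeaklyRegular B [a, b] := isWeaklyRegular_of_flat B [a, b] h
  have h2 := (isWeaklyRegular_map_algebraMap_iff B B [a, b]).mpr h1
  simpa [RingHom.algebraMap_toAlgebra] using h2

/-- Over a local ring of depth at least two, a flat affine scheme has depth at least two at every
point over the closed point. -/
theorem exists_pair_stalk {A : Type u} [CommRing A] [IsLocalRing A]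
    (hA : (2 : ℕ∞) ≤ LocCoh.depth A A) {Y : Scheme.{u}} (f : Y ⟶ Spec (CommRingCat.of A))
    [IsAffine Y] [Flat f] (z : Y) (hz : f z = IsLocalRing.closedPoint A) :
    ∃ a b : Y.presheaf.stalk z, a ∈ maximalIdeal (Y.presheaf.stalk z) ∧
      b ∈ maximalIdeal (Y.presheaf.stalk z) ∧ IsWeaklyRegular (Y.presheaf.stalk z) [a, b] := by
  obtain ⟨a₀, b₀, ha₀, hb₀, hreg⟩ := exists_weaklyRegular_pair A hA
  let ψ : A →+* Y.presheaf.stalk z :=
    (Y.presheaf.germ ⊤ z trivial).hom.comp
      (f.appTop.hom.comp (Scheme.ΓSpecIso (CommRingCat.of A)).inv.hom)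
  have hflat : ψ.Flat := by
    refine RingHom.Flat.comp (RingHom.Flat.comp ?_ ?_) ?_
    · exact RingHom.Flat.of_bijective (ConcreteCategory.bijective_of_isIso _)
    · exact f.flat_appTop
    · letI : Algebra Γ(Y, ⊤) (Y.presheaf.stalk z) :=
        TopCat.Presheaf.algebra_section_stalk Y.presheaf (⟨z, trivial⟩ : (⊤ : Y.Opens))
      haveI : IsLocalization.AtPrime (Y.presheaf.stalk z)
          ((isAffineOpen_top Y).primeIdealOf (⟨z, trivial⟩ : (⊤ : Y.Opens))).asIdeal :=
        (isAffineOpen_top Y).isLocalization_stalk (⟨z, trivial⟩ : (⊤ : Y.Opens))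
      exact IsLocalization.flat (Y.presheaf.stalk z)
        ((isAffineOpen_top Y).primeIdealOf (⟨z, trivial⟩ : (⊤ : Y.Opens))).asIdeal.primeCompl
  have hloc : ∀ c ∈ maximalIdeal A, ψ c ∈ maximalIdeal (Y.presheaf.stalk z) := by
    intro c hc
    rw [IsLocalRing.mem_maximalIdeal, mem_nonunits_iff]
    intro hu
    have h1 : z ∈ Y.basicOpen (f.appTop ((Scheme.ΓSpecIso (CommRingCat.of A)).inv c)) :=
      (Y.mem_basicOpen_top _ z).mpr hu
    rw [← Scheme.preimage_basicOpen_top] at h1
    have h2 : f z ∈ (Spec (CommRingCat.of A)).basicOpen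
        ((Scheme.ΓSpecIso (CommRingCat.of A)).inv c) := h1
    rw [basicOpen_eq_of_affine, hz] at h2
    exact h2 hc
  exact ⟨ψ a₀, ψ b₀, hloc _ ha₀, hloc _ hb₀, isWeaklyRegular_pair_map ψ hflat a₀ b₀ hreg⟩

set_option backward.isDefEq.respectTransparency false in
/-- Core of S0263 with plain scheme variables. -/
theorem core (A : Type u) [CommRing A] [IsNoetherianRing A] [IsLocalRing A]
    (hA : (2 : ℕ∞) ≤ LocCoh.depth A A) {Y V : Scheme.{u}}
    (f : Y ⟶ Spec (CommRingCat.of A)) (hfin : IsFinite f) (het : Etale f)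
    (v : V ⟶ (FEt.puncturedSpec A : Scheme.{u}))
    (j : pullback f (FEt.puncturedSpec A).ι ≅ V)
    (hj : j.hom ≫ v = pullback.snd f (FEt.puncturedSpec A).ι) :
    ((Scheme.ΓSpecIso (CommRingCat.of A)).inv ≫ (v ≫ (FEt.puncturedSpec A).ι).appTop).hom.Finite ∧
    ((Scheme.ΓSpecIso (CommRingCat.of A)).inv ≫
      (v ≫ (FEt.puncturedSpec A).ι).appTop).hom.Etale := by
  haveI := hfin
  haveI := het
  haveI : IsAffine Y := isAffine_of_isAffineHom f
  haveI : IsLocallyNoetherian Y := LocallyOfFiniteType.isLocallyNoetherian f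
  have hZ : ∀ z : Y, z ∉ f ⁻¹ᵁ FEt.puncturedSpec A →
      ∃ a b : Y.presheaf.stalk z, a ∈ maximalIdeal (Y.presheaf.stalk z) ∧
        b ∈ maximalIdeal (Y.presheaf.stalk z) ∧
        IsWeaklyRegular (Y.presheaf.stalk z) [a, b] := by
    intro z hz
    have hz' : f z = IsLocalRing.closedPoint A := by
      by_contra h
      exact hz h
    exact exists_pair_stalk hA f z hz'
  have hbij0 : Function.Bijective ((f ⁻¹ᵁ FEt.puncturedSpec A).ι.app ⊤) :=
    Hartogs2.ι_app_bijective Y (f ⁻¹ᵁ FEt.puncturedSpec A) hZ ⊤ (isAffineOpen_top _)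
  haveI hW : IsIso (f ⁻¹ᵁ FEt.puncturedSpec A).ι.appTop :=
    (ConcreteCategory.isIso_iff_bijective _).mpr hbij0
  have hi := pullbackRestrictIsoRestrict_hom_ι f (FEt.puncturedSpec A)
  haveI hfst : IsIso (pullback.fst f (FEt.puncturedSpec A).ι).appTop := by
    rw [← hi, Scheme.Hom.comp_appTop]
    infer_instance
  have key : (v ≫ (FEt.puncturedSpec A).ι).appTop ≫ j.hom.appTop =
      f.appTop ≫ (pullback.fst f (FEt.puncturedSpec A).ι).appTop := by
    rw [← Scheme.Hom.comp_appTop, ← Scheme.Hom.comp_appTop, ← Category.assoc, hj,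
      pullback.condition]
  have key2 : (v ≫ (FEt.puncturedSpec A).ι).appTop =
      (f.appTop ≫ (pullback.fst f (FEt.puncturedSpec A).ι).appTop) ≫
        inv j.hom.appTop := (IsIso.eq_comp_inv _).mpr key
  have hφ : (Scheme.ΓSpecIso (CommRingCat.of A)).inv ≫
      (v ≫ (FEt.puncturedSpec A).ι).appTop =
      ((Scheme.ΓSpecIso (CommRingCat.of A)).inv ≫ f.appTop) ≫
        ((pullback.fst f (FEt.puncturedSpec A).ι).appTop ≫ inv j.hom.appTop) := by
    rw [key2]; simp only [Category.assoc]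
  have hμ : Function.Bijective
      ((pullback.fst f (FEt.puncturedSpec A).ι).appTop ≫ inv j.hom.appTop).hom :=
    ConcreteCategory.bijective_of_isIso _
  have hinv : Function.Bijective (Scheme.ΓSpecIso (CommRingCat.of A)).inv.hom :=
    ConcreteCategory.bijective_of_isIso _
  have hYfin : ((Scheme.ΓSpecIso (CommRingCat.of A)).inv ≫ f.appTop).hom.Finite := by
    rw [CommRingCat.hom_comp]
    exact RingHom.Finite.comp
      ((HasAffineProperty.iff_of_isAffine (P := @IsFinite)).mp hfin).2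
      (RingHom.Finite.of_surjective _ hinv.2)
  have hYet : ((Scheme.ΓSpecIso (CommRingCat.of A)).inv ≫ f.appTop).hom.Etale := by
    rw [CommRingCat.hom_comp]
    exact RingHom.Etale.stableUnderComposition _ _ (RingHom.Etale.of_bijective hinv)
      ((HasRingHomProperty.iff_of_isAffine (P := @Etale)).mp het)
  rw [hφ, CommRingCat.hom_comp]
  exact ⟨RingHom.Finite.comp (RingHom.Finite.of_surjective _ hμ.2) hYfin,
    RingHom.Etale.stableUnderComposition _ _ hYet (RingHom.Etale.of_bijective hμ)⟩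

/-- S0263. -/
theorem s0263 (A : Type u) [CommRing A] [IsNoetherianRing A] [IsLocalRing A]
    (hA : (2 : ℕ∞) ≤ LocCoh.depth A A)
    (V : FEt.Cat (FEt.puncturedSpec A : Scheme.{u}))
    (hV : ∃ Y : FEt.Cat (Spec (CommRingCat.of A)),
      Nonempty ((FEt.restrict (FEt.puncturedSpec A).ι).obj Y ≅ V)) :
    ((Scheme.ΓSpecIso (CommRingCat.of A)).inv ≫
      (V.hom ≫ (FEt.puncturedSpec A).ι).appTop).hom.Finite ∧
    ((Scheme.ΓSpecIso (CommRingCat.of A)).inv ≫
      (V.hom ≫ (FEt.puncturedSpec A).ι).appTop).hom.Etale := by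
  obtain ⟨Y, ⟨e⟩⟩ := hV
  exact core A hA (Y := Y.left) (V := V.left) Y.hom Y.prop.1 Y.prop.2 V.hom
    ((MorphismProperty.Over.forget FEt.prop ⊤ _ ⋙ Over.forget _).mapIso e)
    (MorphismProperty.Over.w e.hom)

end Groth.Agent.H6.PiDepth
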