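import Mathlib
import Groth.Agent.Lib.Helper1.ArtinFlatReg
import Groth.Agent.Lib.Helper2.PicCodim2
import Groth.Agent.Lib.Helper6.PiDepth

/-!
# helper6: depth of a flat algebra over a local Artin ring with normal special fibre (S11462)
-/

set_option autoImplicit false
set_option linter.style.haveILetI false
set_option linter.unusedTactic false
set_option linter.unusedVariables false
set_option linter.unusedSectionVars false

universe u

open IsLocalRing RingTheory.Sequence

namespace Groth.Agent.H6.ArtNormDepth

/-- quotient by a nilpotent ideal does not change the Krull dimension. -/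
theorem ringKrullDim_quotient_of_isNilpotent {R : Type*} [CommRing R] (N : Ideal R)
    (hN : IsNilpotent N) : ringKrullDim (R ⧸ N) = ringKrullDim R := by
  rw [ringKrullDim_quotient]
  have h : PrimeSpectrum.zeroLocus (N : Set R) = Set.univ := by
    ext q
    simp only [PrimeSpectrum.mem_zeroLocus, Set.mem_univ, iff_true, SetLike.coe_subset_coe]
    obtain ⟨n, hn⟩ := hN
    exact q.2.le_of_pow_le (n := n) (by rw [hn]; exact bot_le)
  rw [h]
  exact Order.krullDim_eq_of_orderIso OrderIso.Set.univ

/-- the image of the complement of a prime under a surjection with kernel inside the prime. -/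
theorem map_primeCompl {R S : Type*} [CommRing R] [CommRing S] (f : R →+* S)
    (hf : Function.Surjective f) (p : Ideal R) [p.IsPrime] (hk : RingHom.ker f ≤ p)
    [(p.map f).IsPrime] : p.primeCompl.map f = (p.map f).primeCompl := by
  ext y
  constructor
  · rintro ⟨x, hx, rfl⟩
    intro hy
    have : x ∈ (p.map f).comap f := hy
    rw [Ideal.comap_map_of_surjective f hf, ← RingHom.ker_eq_comap_bot, sup_eq_left.mpr hk] at this
    exact hx this
  · intro hy
    obtain ⟨x, rfl⟩ := hf y
    exact ⟨x, fun hx => hy (Ideal.mem_map_of_mem f hx), rfl⟩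

section core

variable (C : Type u) [CommRing C] [IsLocalRing C] [IsArtinianRing C]
  (A : Type u) [CommRing A] [IsNoetherianRing A] [Algebra C A] [Module.Flat C A]

theorem two_le_depth_localization
    (hnorm : ∀ (q : Ideal (A ⧸ (maximalIdeal C).map (algebraMap C A))) [q.IsPrime],
      IsDomain (Localization.AtPrime q) ∧ IsIntegrallyClosed (Localization.AtPrime q))
    (p : Ideal A) [p.IsPrime] (hp : (2 : ℕ∞) ≤ p.height) :
    (2 : ℕ∞) ≤ LocCoh.depth (Localization.AtPrime p) (Localization.AtPrime p) := by
  classical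
  have hnil : IsNilpotent (maximalIdeal C) := Groth.Agent.H1.ArtinFlatReg.isNilpotent_maximalIdeal C
  have hne : maximalIdeal C ≠ ⊤ := (maximalIdeal.isMaximal C).ne_top
  set mA := (maximalIdeal C).map (algebraMap C A) with hmA
  have hmAnil : IsNilpotent mA := by
    obtain ⟨n, hn⟩ := hnil
    exact ⟨n, by rw [hmA, ← Ideal.map_pow, hn, Ideal.zero_eq_bot, Ideal.map_bot]; rfl⟩
  have hmAp : mA ≤ p := by
    obtain ⟨n, hn⟩ := hmAnil
    exact Ideal.IsPrime.le_of_pow_le (n := n) (by rw [hn, Ideal.zero_eq_bot]; exact bot_le)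
  -- the localization
  haveI : Module.Flat C (Localization.AtPrime p) := Module.Flat.trans C A (Localization.AtPrime p)
  haveI : IsNoetherianRing (Localization.AtPrime p) :=
    IsLocalization.isNoetherianRing p.primeCompl _ inferInstance
  set mB := mA.map (algebraMap A (Localization.AtPrime p)) with hmB
  have hmB' : mB = (maximalIdeal C).map (algebraMap C (Localization.AtPrime p)) := by
    rw [hmB, hmA, Ideal.map_map, ← IsScalarTower.algebraMap_eq]
  have hmBnil : IsNilpotent mB := by
    obtain ⟨n, hn⟩ := hmAnil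
    exact ⟨n, by rw [hmB, ← Ideal.map_pow, hn, Ideal.zero_eq_bot, Ideal.map_bot]; rfl⟩
  have hmBle : mB ≤ maximalIdeal (Localization.AtPrime p) := by
    obtain ⟨n, hn⟩ := hmBnil
    exact Ideal.IsPrime.le_of_pow_le (n := n) (by rw [hn, Ideal.zero_eq_bot]; exact bot_le)
  have hmBne : mB ≠ ⊤ := fun h => (maximalIdeal.isMaximal _).ne_top (top_le_iff.mp (h ▸ hmBle))
  -- the special fibre of the localization
  haveI : Nontrivial (Localization.AtPrime p ⧸ mB) := Ideal.Quotient.nontrivial_iff.mpr hmBne
  haveI : IsLocalRing (Localization.AtPrime p ⧸ mB) :=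
    IsLocalRing.of_surjective' (Ideal.Quotient.mk mB) Ideal.Quotient.mk_surjective
  haveI hp₀ : (p.map (Ideal.Quotient.mk mA)).IsPrime :=
    Ideal.map_isPrime_of_surjective Ideal.Quotient.mk_surjective (by rw [Ideal.mk_ker]; exact hmAp)
  have hsub : Algebra.algebraMapSubmonoid (A ⧸ mA) p.primeCompl =
      (p.map (Ideal.Quotient.mk mA)).primeCompl :=
    map_primeCompl (Ideal.Quotient.mk mA) Ideal.Quotient.mk_surjective p
      (by rw [Ideal.mk_ker]; exact hmAp)
  haveI hloc : IsLocalization.AtPrime (Localization.AtPrime p ⧸ mB) (p.map (Ideal.Quotient.mk mA)) := by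
    have : IsLocalization (Algebra.algebraMapSubmonoid (A ⧸ mA) p.primeCompl)
        (Localization.AtPrime p ⧸ mB) := inferInstance
    rw [hsub] at this
    exact this
  let e : Localization.AtPrime (p.map (Ideal.Quotient.mk mA)) ≃+* (Localization.AtPrime p ⧸ mB) :=
    (IsLocalization.algEquiv (p.map (Ideal.Quotient.mk mA)).primeCompl _ _).toRingEquiv
  obtain ⟨hd, hic⟩ := hnorm (p.map (Ideal.Quotient.mk mA))
  haveI : IsDomain (Localization.AtPrime p ⧸ mB) := e.symm.toMulEquiv.isDomain _
  haveI : IsIntegrallyClosed (Localization.AtPrime p ⧸ mB) := IsIntegrallyClosed.of_equiv e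
  have hdim : (2 : WithBot ℕ∞) ≤ ringKrullDim (Localization.AtPrime p ⧸ mB) := by
    rw [ringKrullDim_quotient_of_isNilpotent mB hmBnil,
      IsLocalization.AtPrime.ringKrullDim_eq_height p (Localization.AtPrime p)]
    exact (WithBot.coe_le_coe.mpr hp)
  have hdepth := Groth.Agent.H2.PicCodim2.two_le_depth_of_normal (Localization.AtPrime p ⧸ mB) hdim
  obtain ⟨a, b, ha, hb, hreg⟩ := Groth.Agent.H6.PiDepth.exists_weaklyRegular_pair _ hdepth
  obtain ⟨x, rfl⟩ := Ideal.Quotient.mk_surjective a
  obtain ⟨y, rfl⟩ := Ideal.Quotient.mk_surjective b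
  have hx : x ∈ maximalIdeal (Localization.AtPrime p) := by
    rw [mem_maximalIdeal, mem_nonunits_iff]
    intro hu
    exact ha (hu.map (Ideal.Quotient.mk mB))
  have hy : y ∈ maximalIdeal (Localization.AtPrime p) := by
    rw [mem_maximalIdeal, mem_nonunits_iff]
    intro hu
    exact hb (hu.map (Ideal.Quotient.mk mB))
  have h1 : IsWeaklyRegular (Localization.AtPrime p ⧸ mB) [x, y] :=
    (isWeaklyRegular_map_algebraMap_iff (R := Localization.AtPrime p)
      (S := Localization.AtPrime p ⧸ mB) (M := Localization.AtPrime p ⧸ mB) [x, y]).mp hreg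
  have heq : ((maximalIdeal C).map (algebraMap C (Localization.AtPrime p))) •
      (⊤ : Submodule (Localization.AtPrime p) (Localization.AtPrime p)) = mB := by
    rw [← hmB', smul_eq_mul, Ideal.mul_top]
  have h2 : IsWeaklyRegular ((Localization.AtPrime p) ⧸
      ((maximalIdeal C).map (algebraMap C (Localization.AtPrime p))) •
        (⊤ : Submodule (Localization.AtPrime p) (Localization.AtPrime p))) [x, y] :=
    ((Submodule.quotEquivOfEq _ _ heq).isWeaklyRegular_congr [x, y]).mpr h1
  have h3 : IsWeaklyRegular (Localization.AtPrime p) [x, y] :=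
    ((Groth.Agent.H1.ArtinFlatReg.isWeaklyRegular_iff_and_flat C (maximalIdeal C) hne [x, y]
      (Localization.AtPrime p)).1).mpr h2
  unfold LocCoh.depth LocCoh.idealDepth
  split_ifs with htop
  · exact le_top
  · have hmem : ∀ r ∈ [x, y], r ∈ maximalIdeal (Localization.AtPrime p) := by
      intro r hr
      simp only [List.mem_cons, List.not_mem_nil, or_false] at hr
      rcases hr with rfl | rfl
      · exact hx
      · exact hy
    exact le_iSup₂_of_le [x, y] ⟨h3, hmem⟩ (by simp)

end core

end Groth.Agent.H6.ArtNormDepth
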