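import Mathlib
import Groth.Prelude.Def_FEt
import Groth.Agent.Lib.Helper1.Depth2Ext2
import Groth.Agent.Lib.Helper6.SemiLin

/-!
# Sections over the punctured spectrum of a finite algebra of depth at least two
-/

set_option autoImplicit false

universe u

open CategoryTheory CategoryTheory.Limits AlgebraicGeometry TopologicalSpace

namespace Groth.Agent.H6.PunctDepth

/-- restriction from `X` to an open `U` whose complement has depth at least two is an
isomorphism on sections. -/
theorem isIso_res_of_depth {X : Scheme.{u}} [IsLocallyNoetherian X] (U : X.Opens)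
    (h : ∀ x : X, x ∉ U → (2 : ℕ∞) ≤ LocCoh.depth (X.presheaf.stalk x) (X.presheaf.stalk x)) :
    IsIso (X.presheaf.map (homOfLE (le_top : U ≤ ⊤)).op) := by
  have hbij := Groth.Agent.H1.Depth2Ext.res_bijective U h ⊤
  have e : U = ⊤ ⊓ U := (top_inf_eq U).symm
  have hfac : (homOfLE (le_top : U ≤ ⊤)) = eqToHom e ≫ homOfLE (inf_le_left : ⊤ ⊓ U ≤ ⊤) :=
    Subsingleton.elim _ _
  rw [hfac, op_comp, Functor.map_comp]
  haveI : IsIso (X.presheaf.map (homOfLE (inf_le_left : ⊤ ⊓ U ≤ ⊤)).op) :=
    (ConcreteCategory.isIso_iff_bijective _).mpr hbij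
  infer_instance

/-- depth of the stalk of `Spec B` at a prime. -/
theorem depth_stalk_Spec (B : Type u) [CommRing B] [IsNoetherianRing B]
    (x : Spec (CommRingCat.of B)) :
    LocCoh.depth ((Spec (CommRingCat.of B)).presheaf.stalk x)
        ((Spec (CommRingCat.of B)).presheaf.stalk x) =
      LocCoh.depth (Localization.AtPrime x.asIdeal) (Localization.AtPrime x.asIdeal) := by
  letI : Algebra B ((Spec (CommRingCat.of B)).presheaf.stalk x) := StructureSheaf.stalkAlgebra B x
  haveI : IsLocalization.AtPrime ((Spec (CommRingCat.of B)).presheaf.stalk x) x.asIdeal :=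
    StructureSheaf.IsLocalization.to_stalk B x
  let e : Localization.AtPrime x.asIdeal ≃+* (Spec (CommRingCat.of B)).presheaf.stalk x :=
    (IsLocalization.algEquiv x.asIdeal.primeCompl (Localization.AtPrime x.asIdeal)
      ((Spec (CommRingCat.of B)).presheaf.stalk x)).toRingEquiv
  haveI : IsNoetherianRing (Localization.AtPrime x.asIdeal) :=
    IsLocalization.isNoetherianRing x.asIdeal.primeCompl _ inferInstance
  haveI : IsNoetherianRing ((Spec (CommRingCat.of B)).presheaf.stalk x) :=
    isNoetherianRing_of_ringEquiv _ e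
  exact ((Groth.Agent.H6.SemiLin.depth_and_dim_eq e e.toAddEquiv
    (fun r m => map_mul e r m)).1).symm

/-- **S0291**. -/
theorem s0291 (A B : Type u) [CommRing A] [IsNoetherianRing A] [IsLocalRing A] [CommRing B]
    [Algebra A B] [Module.Finite A B]
    (h : ∀ (m : Ideal B) (_ : m.IsMaximal),
      (2 : ℕ∞) ≤ LocCoh.depth (Localization.AtPrime m) (Localization.AtPrime m)) :
    IsIso ((Spec (CommRingCat.of B)).presheaf.map (homOfLE (le_top :
      Spec.map (CommRingCat.ofHom (algebraMap A B)) ⁻¹ᵁ FEt.puncturedSpec A ≤ ⊤)).op) := by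
  haveI : IsNoetherianRing B := IsNoetherianRing.of_finite A B
  apply isIso_res_of_depth
  intro x hx
  have h1 : (Spec.map (CommRingCat.ofHom (algebraMap A B))) x = IsLocalRing.closedPoint A := by
    by_contra hne
    exact hx hne
  have h2 : x.asIdeal.comap (algebraMap A B) = IsLocalRing.maximalIdeal A :=
    congrArg PrimeSpectrum.asIdeal h1
  haveI : Algebra.IsIntegral A B := Algebra.IsIntegral.of_finite A B
  have hmax : x.asIdeal.IsMaximal := by
    apply Ideal.isMaximal_of_isIntegral_of_isMaximal_comap (R := A) x.asIdeal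
    rw [h2]; infer_instance
  rw [depth_stalk_Spec]
  exact h x.asIdeal hmax

end Groth.Agent.H6.PunctDepth
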