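import Mathlib
import Groth.Prelude.Def_Pi1
import Groth.Agent.Lib.Helper6.ArtNormDepth1
import Groth.Agent.Lib.Helper6.PunctDepth

/-!
# helper6: Hartogs extension on a flat algebra over a local Artin ring with normal special fibre
(S11462)
-/

set_option autoImplicit false
set_option linter.style.haveILetI false
set_option linter.unusedTactic false
set_option linter.unusedVariables false
set_option linter.unusedSectionVars false

universe u

open IsLocalRing CategoryTheory AlgebraicGeometry

namespace Groth.Agent.H6.ArtNormDepth

/-- normality of `Spec R` gives normality of the localizations at primes. -/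
theorem normal_localization_of_isNormalScheme (R : Type u) [CommRing R]
    (hnorm : Pi1.IsNormalScheme (Spec (CommRingCat.of R))) (q : Ideal R) [hq : q.IsPrime] :
    IsDomain (Localization.AtPrime q) ∧ IsIntegrallyClosed (Localization.AtPrime q) := by
  let x : Spec (CommRingCat.of R) := ⟨q, hq⟩
  obtain ⟨hd, hic⟩ := hnorm x
  letI : Algebra R ((Spec (CommRingCat.of R)).presheaf.stalk x) := StructureSheaf.stalkAlgebra R x
  haveI : IsLocalization.AtPrime ((Spec (CommRingCat.of R)).presheaf.stalk x) q :=
    StructureSheaf.IsLocalization.to_stalk R x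
  let e : Localization.AtPrime q ≃+* (Spec (CommRingCat.of R)).presheaf.stalk x :=
    (IsLocalization.algEquiv q.primeCompl (Localization.AtPrime q)
      ((Spec (CommRingCat.of R)).presheaf.stalk x)).toRingEquiv
  exact ⟨e.toMulEquiv.isDomain _, IsIntegrallyClosed.of_equiv e.symm⟩

theorem main11462 (C : Type u) [CommRing C]
    [IsLocalRing C] [IsArtinianRing C] (A : Type u) [CommRing A] [IsNoetherianRing A] [Algebra C A]
    [Module.Flat C A]
    (hnorm : Pi1.IsNormalScheme (Spec (CommRingCat.of (A ⧸ (IsLocalRing.maximalIdeal C).map (algebraMap C A)))))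
    (U : (Spec (CommRingCat.of A)).Opens)
    (hU : ∀ p : ↥(Spec (CommRingCat.of A)), p ∉ U → (2 : ℕ∞) ≤ p.asIdeal.height) :
    Function.Bijective ((Spec (CommRingCat.of A)).presheaf.map (homOfLE (le_top : U ≤ ⊤)).op) := by
  have h := Groth.Agent.H6.PunctDepth.isIso_res_of_depth U (fun x hx => by
    rw [Groth.Agent.H6.PunctDepth.depth_stalk_Spec]
    exact two_le_depth_localization C A
      (fun q _ => normal_localization_of_isNormalScheme _ hnorm q) x.asIdeal (hU x hx))
  exact (ConcreteCategory.isIso_iff_bijective _).mp h

end Groth.Agent.H6.ArtNormDepth
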