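import Mathlib

/-!
# Galois extensions of rings: the torsor map, invariants, trace, basis criterion (helper6)

`A → B` commutative rings, `G` a finite commutative group acting on `B` by `A`-algebra
automorphisms; `theta σ : B ⊗[A] B → (G → B)`, `x ⊗ y ↦ (x · σ_g y)_g`.
-/

universe u v

open TensorProduct

namespace Groth.Agent.H6.GalRing

variable {A B : Type u} [CommRing A] [CommRing B] [Algebra A B]
variable {G : Type v} [CommGroup G] [Fintype G] (σ : G →* (B ≃ₐ[A] B))

/-- The torsor map `x ⊗ y ↦ (x · σ_g y)_g`. -/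
noncomputable def theta : B ⊗[A] B →ₐ[A] (G → B) :=
  Algebra.TensorProduct.productMap ((Algebra.ofId B (G → B)).restrictScalars A)
    (AlgHom.pi (fun g : G => ((σ g : B ≃ₐ[A] B) : B →ₐ[A] B)))

@[simp] lemma theta_tmul (x y : B) (g : G) : theta σ (x ⊗ₜ[A] y) g = x * σ g y := by
  simp [theta, Algebra.ofId_apply]

/-- Invariants of a Galois extension. -/
theorem mem_range_of_invariant [Module.FaithfullyFlat A B] (hθ : Function.Injective (theta σ))
    (b : B) (hb : ∀ g, σ g b = b) : b ∈ Set.range (algebraMap A B) := by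
  have h1 : theta σ (b ⊗ₜ[A] 1) = theta σ (1 ⊗ₜ[A] b) := by
    ext g
    simp [hb g]
  have h2 := hθ h1
  have h3 : Algebra.TensorProduct.includeLeftSubRight A B b = 0 := by
    rw [Algebra.TensorProduct.includeLeftSubRight_apply, h2, sub_self]
  obtain ⟨a, ha⟩ := ((Algebra.IsEffective.of_faithfullyFlat A B) b).mp h3
  exact ⟨a, ha⟩

/-- The trace. -/
noncomputable def tr (y : B) : B := ∑ g, σ g y

lemma sigma_tr (h : G) (y : B) : σ h (tr σ y) = tr σ y := by
  simp only [tr, map_sum]
  refine Fintype.sum_equiv (Equiv.mulLeft h) _ _ (fun g => ?_)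
  simp [map_mul]

lemma tr_smul (a : A) (y : B) : tr σ (a • y) = a • tr σ y := by
  simp only [tr, map_smul, Finset.smul_sum]

lemma tr_add (x y : B) : tr σ (x + y) = tr σ x + tr σ y := by
  simp only [tr, map_add, Finset.sum_add_distrib]

lemma tr_zero : tr σ (0 : B) = 0 := by
  simp only [tr, map_zero, Finset.sum_const_zero]

/-- The trace of a Galois extension is surjective: some element has trace one. -/
theorem exists_tr_eq_one [Module.FaithfullyFlat A B] (hθ : Function.Bijective (theta σ)) :
    ∃ c : B, tr σ c = 1 := by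
  classical
  obtain ⟨z, hz⟩ := hθ.2 (Pi.single 1 1)
  obtain ⟨S, rfl⟩ := TensorProduct.exists_finset z
  have key : ∀ g : G, ∑ q ∈ S, q.1 * σ g q.2 = if g = 1 then 1 else 0 := by
    intro g
    have := congrFun hz g
    rw [map_sum, Finset.sum_apply] at this
    simp only [theta_tmul] at this
    rw [this, Pi.single_apply]
  have key2 : ∀ g : G, ∑ q ∈ S, σ g q.1 * q.2 = if g = 1 then 1 else 0 := by
    intro g
    have h1 := congrArg (σ g) (key g⁻¹)
    rw [map_sum] at h1
    have h2 : ∀ q : B × B, σ g (q.1 * σ g⁻¹ q.2) = σ g q.1 * q.2 := by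
      intro q
      rw [map_mul]
      congr 1
      have : σ g (σ g⁻¹ q.2) = (σ g * σ g⁻¹) q.2 := rfl
      rw [this, ← map_mul, mul_inv_cancel, map_one]
      rfl
    simp only [h2] at h1
    rw [h1]
    by_cases hg : g = 1
    · subst hg
      simp
    · have : g⁻¹ ≠ 1 := fun h => hg (inv_eq_one.mp h)
      simp [hg, this]
  have rep : ∀ b : B, b = ∑ q ∈ S, tr σ (b * q.1) * q.2 := by
    intro b
    symm
    calc ∑ q ∈ S, tr σ (b * q.1) * q.2
        = ∑ q ∈ S, ∑ g, σ g b * (σ g q.1 * q.2) := by
          refine Finset.sum_congr rfl (fun q _ => ?_)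
          rw [tr, Finset.sum_mul]
          refine Finset.sum_congr rfl (fun g _ => ?_)
          rw [map_mul, mul_assoc]
      _ = ∑ g, σ g b * ∑ q ∈ S, σ g q.1 * q.2 := by
          rw [Finset.sum_comm]
          refine Finset.sum_congr rfl (fun g _ => ?_)
          rw [Finset.mul_sum]
      _ = ∑ g, σ g b * (if g = 1 then 1 else 0) := by
          refine Finset.sum_congr rfl (fun g _ => ?_)
          rw [key2 g]
      _ = b := by
          simp
  -- the trace ideal
  let I : Ideal A :=
    { carrier := {a | ∃ y, tr σ y = algebraMap A B a}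
      add_mem' := by
        rintro a a' ⟨y, hy⟩ ⟨y', hy'⟩
        exact ⟨y + y', by rw [tr_add, hy, hy', map_add]⟩
      zero_mem' := ⟨0, by rw [tr_zero, map_zero]⟩
      smul_mem' := by
        rintro a' a ⟨y, hy⟩
        refine ⟨a' • y, ?_⟩
        rw [tr_smul, hy, smul_eq_mul, map_mul, Algebra.smul_def] }
  have hI : I = ⊤ := by
    by_contra hne
    obtain ⟨m, hm, hIm⟩ := Ideal.exists_le_maximal I hne
    apply Module.FaithfullyFlat.submodule_ne_top (R := A) (M := B) hm
    rw [eq_top_iff]
    intro b _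
    rw [rep b]
    refine Submodule.sum_mem _ (fun q _ => ?_)
    obtain ⟨a, ha⟩ := mem_range_of_invariant σ hθ.1 (tr σ (b * q.1)) (fun g => sigma_tr σ g _)
    have haI : a ∈ I := ⟨b * q.1, ha.symm⟩
    rw [← ha, ← Algebra.smul_def]
    exact Submodule.smul_mem_smul (hIm haI) Submodule.mem_top
  have h1 : (1 : A) ∈ I := by rw [hI]; trivial
  obtain ⟨c, hc⟩ := h1
  exact ⟨c, by rw [hc, map_one]⟩

/-- Basis criterion: if the matrix `(σ_g b_i)` is invertible then the `b_i` form an `A`-basis
of `B`. -/
theorem bijective_linearCombination [Module.FaithfullyFlat A B]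
    (hθ : Function.Bijective (theta σ)) {n : ℕ} (e : Fin n ≃ G) (b : Fin n → B)
    (hdet : IsUnit (Matrix.of (fun k i => σ (e k) (b i))).det) :
    Function.Bijective (Fintype.linearCombination A b : (Fin n → A) →ₗ[A] B) := by
  classical
  set β : (Fin n → A) →ₗ[A] B := Fintype.linearCombination A b with hβ
  rw [← Module.FaithfullyFlat.lTensor_bijective_iff_bijective A B β]
  set L := β.lTensor B with hL
  let ψ := TensorProduct.piScalarRight A B B (Fin n)
  set Mx : Matrix (Fin n) (Fin n) B := Matrix.of (fun k i => σ (e k) (b i)) with hMx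
  have claim : ∀ t : B ⊗[A] (Fin n → A), ∀ k : Fin n,
      theta σ (L t) (e k) = Mx.mulVec (ψ t) k := by
    intro t k
    induction t using TensorProduct.induction_on with
    | zero => simp
    | tmul x c =>
      rw [hL, LinearMap.lTensor_tmul, theta_tmul, hβ, Fintype.linearCombination_apply, map_sum,
        Finset.mul_sum, Matrix.mulVec, dotProduct]
      refine Finset.sum_congr rfl (fun i _ => ?_)
      rw [TensorProduct.piScalarRight_apply, TensorProduct.piScalarRightHom_tmul, map_smul,
        hMx, Matrix.of_apply, Algebra.smul_def]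
      change _ = _ * (c i • x)
      rw [Algebra.smul_def]
      ring
    | add t t' ht ht' =>
      rw [map_add, map_add, Pi.add_apply, ht, ht', map_add, Matrix.mulVec_add, Pi.add_apply]
  have hinv : ∀ w : Fin n → B, Mx⁻¹.mulVec (Mx.mulVec w) = w := by
    intro w
    rw [Matrix.mulVec_mulVec, Matrix.nonsing_inv_mul _ hdet, Matrix.one_mulVec]
  have hinv' : ∀ w : Fin n → B, Mx.mulVec (Mx⁻¹.mulVec w) = w := by
    intro w
    rw [Matrix.mulVec_mulVec, Matrix.mul_nonsing_inv _ hdet, Matrix.one_mulVec]
  constructor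
  · rw [injective_iff_map_eq_zero]
    intro t ht
    have h1 : Mx.mulVec (ψ t) = 0 := by
      ext k
      rw [← claim t k, ht, map_zero]
      rfl
    have h2 : ψ t = 0 := by rw [← hinv (ψ t), h1, Matrix.mulVec_zero]
    exact ψ.map_eq_zero_iff.mp h2
  · intro z
    let u : Fin n → B := fun k => theta σ z (e k)
    let w : Fin n → B := Mx⁻¹.mulVec u
    refine ⟨ψ.symm w, hθ.1 ?_⟩
    ext g
    obtain ⟨k, rfl⟩ := e.surjective g
    rw [claim, LinearEquiv.apply_symm_apply, hinv']

end Groth.Agent.H6.GalRing
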