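import Mathlib
import Groth.Prelude.Def_SGA1t
import Groth.Agent.Lib.Helper6.GalRing1

/-!
# Artin–Schreier theory for Galois extensions of rings with group `ℤ/p` (helper6)
-/

universe u

open TensorProduct Polynomial

namespace Groth.Agent.H6.GalRing

variable {A B : Type u} [CommRing A] [CommRing B] [Algebra A B] (p : ℕ) [Fact p.Prime] [CharP A p]
variable (σ : Multiplicative (ZMod p) →* (B ≃ₐ[A] B))

/-- Additive Hilbert 90 for the constant cocycle: an element with `σ_j b = b + j`. -/
theorem exists_shift_elt [Module.FaithfullyFlat A B] (hθ : Function.Bijective (theta σ)) :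
    ∃ b : B, ∀ j : ZMod p, σ (Multiplicative.ofAdd j) b =
      b + algebraMap A B (ZMod.castHom (dvd_refl p) A j) := by
  obtain ⟨c, hc⟩ := exists_tr_eq_one σ hθ
  have hc' : ∑ j : ZMod p, σ (Multiplicative.ofAdd j) c = 1 := by
    rw [← hc, tr]
    exact Fintype.sum_equiv Multiplicative.ofAdd _ _ (fun _ => rfl)
  refine ⟨-∑ j : ZMod p, algebraMap A B (ZMod.castHom (dvd_refl p) A j) *
    σ (Multiplicative.ofAdd j) c, fun k => ?_⟩
  rw [map_neg, map_sum]
  have h1 : ∀ j : ZMod p, σ (Multiplicative.ofAdd k)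
      (algebraMap A B (ZMod.castHom (dvd_refl p) A j) * σ (Multiplicative.ofAdd j) c) =
      algebraMap A B (ZMod.castHom (dvd_refl p) A j) * σ (Multiplicative.ofAdd (k + j)) c := by
    intro j
    rw [map_mul, AlgEquiv.commutes, ofAdd_add, map_mul]
    rfl
  simp only [h1]
  have h2 : ∑ j : ZMod p, algebraMap A B (ZMod.castHom (dvd_refl p) A j) *
      σ (Multiplicative.ofAdd (k + j)) c =
      ∑ j' : ZMod p, algebraMap A B (ZMod.castHom (dvd_refl p) A (j' - k)) *
        σ (Multiplicative.ofAdd j') c :=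
    Fintype.sum_equiv (Equiv.addLeft k) _ _ (fun j => by simp)
  rw [h2]
  simp only [map_sub, sub_mul, Finset.sum_sub_distrib, ← Finset.mul_sum, hc', mul_one]
  ring

theorem natDegree_as (a : A) : (X ^ p - X - C a : A[X]).natDegree = p := by
  haveI : Nontrivial A := CharP.nontrivial_of_char_ne_one (R := A) (Fact.out : p.Prime).ne_one
  have hp : 1 < p := (Fact.out : p.Prime).one_lt
  rw [sub_sub]
  rw [natDegree_sub_eq_left_of_natDegree_lt]
  · exact natDegree_X_pow p
  · rw [natDegree_X_pow]
    rw [natDegree_X_add_C]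
    exact hp

theorem monic_as (a : A) : (X ^ p - X - C a : A[X]).Monic := by
  haveI : Nontrivial A := CharP.nontrivial_of_char_ne_one (R := A) (Fact.out : p.Prime).ne_one
  have hp : 1 < p := (Fact.out : p.Prime).one_lt
  rw [sub_sub]
  apply monic_X_pow_sub
  rw [degree_X_add_C]
  exact_mod_cast hp

/-- A `ℤ/p`-Galois extension of a ring of characteristic `p` is an Artin–Schreier extension. -/
theorem exists_artinSchreier [Module.FaithfullyFlat A B] (hθ : Function.Bijective (theta σ)) :
    ∃ (a : A) (ε : SGA1t.artinSchreier A p a ≃+* B),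
      (∀ x : A, ε (algebraMap A (SGA1t.artinSchreier A p a) x) = algebraMap A B x) ∧
      ∀ (j : ZMod p) (t : SGA1t.artinSchreier A p a),
        σ (Multiplicative.ofAdd j) (ε t) = ε (SGA1t.artinSchreierShift A p a j t) := by
  classical
  obtain ⟨b, hb⟩ := exists_shift_elt p σ hθ
  haveI : CharP B p := charP_of_injective_algebraMap (FaithfulSMul.algebraMap_injective A B) p
  have hcp : ∀ j : ZMod p, (ZMod.castHom (dvd_refl p) A j) ^ p = ZMod.castHom (dvd_refl p) A j :=
    fun j => by rw [← map_pow, ZMod.pow_card]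
  have hinv : ∀ g, σ g (b ^ p - b) = b ^ p - b := by
    intro g
    obtain ⟨j, rfl⟩ := Multiplicative.ofAdd.surjective g
    rw [map_sub, map_pow, hb, add_pow_char, ← map_pow, hcp]
    ring
  obtain ⟨a, ha⟩ := mem_range_of_invariant σ hθ.1 _ hinv
  set f : A[X] := X ^ p - X - C a with hf
  have hfb : f.eval₂ (algebraMap A B) b = 0 := by
    rw [hf, eval₂_sub, eval₂_sub, eval₂_pow, eval₂_X, eval₂_C, ha, sub_self]
  have hmonic : f.Monic := monic_as p a
  have hdeg : f.natDegree = p := natDegree_as p a
  let ε₀ : AdjoinRoot f →ₐ[A] B := AdjoinRoot.liftAlgHom f (Algebra.ofId A B) b hfb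
  have hε₀root : ε₀ (AdjoinRoot.root f) = b := AdjoinRoot.liftAlgHom_root _ _ _ _
  let pb := AdjoinRoot.powerBasis' hmonic
  have hdim : pb.dim = p := hdeg
  have hcard : Fintype.card (Multiplicative (ZMod p)) = pb.dim := by
    rw [Fintype.card_multiplicative, ZMod.card, hdim]
  let e : Fin pb.dim ≃ Multiplicative (ZMod p) := (Fintype.equivFinOfCardEq hcard).symm
  let v : Fin pb.dim → B := fun k =>
    b + algebraMap A B (ZMod.castHom (dvd_refl p) A (Multiplicative.toAdd (e k)))
  have hMx : (Matrix.of (fun k i => σ (e k) ((fun i : Fin pb.dim => b ^ (i : ℕ)) i))) =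
      Matrix.vandermonde v := by
    ext k i
    rw [Matrix.of_apply, Matrix.vandermonde_apply, map_pow]
    congr 1
    exact hb (Multiplicative.toAdd (e k))
  have hdet : IsUnit (Matrix.of (fun k i => σ (e k) ((fun i : Fin pb.dim => b ^ (i : ℕ)) i))).det := by
    rw [hMx, Matrix.det_vandermonde]
    refine Finset.prod_induction _ IsUnit (fun _ _ => IsUnit.mul) isUnit_one (fun i _ => ?_)
    refine Finset.prod_induction _ IsUnit (fun _ _ => IsUnit.mul) isUnit_one (fun j hj => ?_)
    have hij : i ≠ j := ne_of_lt (Finset.mem_Ioi.mp hj)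
    have hne : Multiplicative.toAdd (e j) - Multiplicative.toAdd (e i) ≠ 0 := by
      intro h0
      apply hij
      have h1 : Multiplicative.toAdd (e j) = Multiplicative.toAdd (e i) := sub_eq_zero.mp h0
      exact (e.injective (Multiplicative.toAdd.injective h1)).symm
    have hu : IsUnit (Multiplicative.toAdd (e j) - Multiplicative.toAdd (e i)) := hne.isUnit
    have : v j - v i = algebraMap A B (ZMod.castHom (dvd_refl p) A
        (Multiplicative.toAdd (e j) - Multiplicative.toAdd (e i))) := by
      simp only [v, map_sub]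
      ring
    rw [this]
    exact (hu.map (ZMod.castHom (dvd_refl p) A)).map (algebraMap A B)
  have hbij := bijective_linearCombination σ hθ e (fun i : Fin pb.dim => b ^ (i : ℕ)) hdet
  have hε₀eq : ∀ t : AdjoinRoot f, ε₀ t =
      Fintype.linearCombination A (fun i : Fin pb.dim => b ^ (i : ℕ)) (pb.basis.equivFun t) := by
    intro t
    conv_lhs => rw [← pb.basis.sum_equivFun t]
    rw [map_sum, Fintype.linearCombination_apply]
    refine Finset.sum_congr rfl (fun i _ => ?_)
    rw [map_smul, pb.basis_eq_pow, map_pow]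
    congr 2
  have hε₀bij : Function.Bijective ε₀ := by
    have : (ε₀ : AdjoinRoot f → B) =
        (Fintype.linearCombination A (fun i : Fin pb.dim => b ^ (i : ℕ))) ∘ pb.basis.equivFun :=
      funext hε₀eq
    rw [this]
    exact hbij.comp pb.basis.equivFun.bijective
  let ε : SGA1t.artinSchreier A p a ≃+* B := RingEquiv.ofBijective (ε₀ : AdjoinRoot f →+* B) hε₀bij
  refine ⟨a, ε, fun x => ?_, fun j t => ?_⟩
  · exact ε₀.commutes x
  · -- equivariance
    have h1 : ((σ (Multiplicative.ofAdd j) : B ≃ₐ[A] B) : B →+* B).comp (ε₀ : AdjoinRoot f →+* B) =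
        (ε₀ : AdjoinRoot f →+* B).comp (SGA1t.artinSchreierShift A p a j) := by
      apply Ideal.Quotient.ringHom_ext
      apply Polynomial.ringHom_ext
      · intro x
        change σ (Multiplicative.ofAdd j) (ε₀ (AdjoinRoot.of f x)) =
          ε₀ (AdjoinRoot.mk f (aeval (X + C (ZMod.castHom (dvd_refl p) A j)) (C x)))
        rw [aeval_C]
        change σ (Multiplicative.ofAdd j) (ε₀ (algebraMap A _ x)) = ε₀ (algebraMap A _ x)
        rw [ε₀.commutes, AlgEquiv.commutes]
      · change σ (Multiplicative.ofAdd j) (ε₀ (AdjoinRoot.root f)) =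
          ε₀ (AdjoinRoot.mk f (aeval (X + C (ZMod.castHom (dvd_refl p) A j)) X))
        rw [aeval_X, hε₀root, hb, map_add, AdjoinRoot.mk_X, AdjoinRoot.mk_C, map_add, hε₀root]
        congr 1
        exact (ε₀.commutes _).symm
    exact congrArg (fun φ : SGA1t.artinSchreier A p a →+* B => φ t) h1

end Groth.Agent.H6.GalRing
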