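import Mathlib

/-!
# Regularity of the coboundary map of a finite graph (helper6)

For maps `s t : ι → V` (`ι` finite) and a commutative ring `R`, the `R`-linear map
`δ : (V → R) → (ι → R)`, `δ f i = f (s i) - f (t i)` admits a generalized inverse:
there is `ρ` with `δ ρ δ = δ`.
-/

namespace Groth.Agent.H6.FEtEq

open Relation

variable {R : Type*} [CommRing R] {V ι : Type*}

/-- The partial coboundary map supported on a finite set of edges. -/
noncomputable def dI [DecidableEq ι] (s t : ι → V) (I : Finset ι) : (V → R) →ₗ[R] (ι → R) where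
  toFun f i := if i ∈ I then f (s i) - f (t i) else 0
  map_add' f g := by
    funext i
    by_cases h : i ∈ I <;> simp [h]; ring
  map_smul' a f := by
    funext i
    by_cases h : i ∈ I <;> simp [h, mul_sub]

theorem dI_apply [DecidableEq ι] (s t : ι → V) (I : Finset ι) (f : V → R) (i : ι) :
    dI (R := R) s t I f i = if i ∈ I then f (s i) - f (t i) else 0 := rfl

/-- The relation "joined by an edge of `I`". -/
def edgeRel (s t : ι → V) (I : Finset ι) (j j' : V) : Prop := ∃ i ∈ I, s i = j ∧ t i = j'

theorem eq_of_eqvGen_of_dI_eq_zero [DecidableEq ι] (s t : ι → V) (I : Finset ι) (f : V → R)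
    (hf : dI (R := R) s t I f = 0) {j j' : V} (h : EqvGen (edgeRel s t I) j j') : f j = f j' := by
  induction h with
  | rel x y hxy =>
    obtain ⟨i, hi, rfl, rfl⟩ := hxy
    have := congrFun hf i
    rw [dI_apply, if_pos hi] at this
    exact sub_eq_zero.mp this
  | refl x => rfl
  | symm x y _ ih => exact ih.symm
  | trans x y z _ _ ih1 ih2 => exact ih1.trans ih2

theorem exists_regular_dI [DecidableEq ι] (s t : ι → V) (I : Finset ι) :
    ∃ ρ : (ι → R) →ₗ[R] (V → R), ∀ f, dI (R := R) s t I (ρ (dI s t I f)) = dI s t I f := by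
  classical
  induction I using Finset.induction_on with
  | empty =>
    refine ⟨0, fun f => ?_⟩
    funext i
    simp [dI_apply]
  | insert i₀ I' hi₀ ih =>
    obtain ⟨ρ', hρ'⟩ := ih
    -- the extra edge functional
    let d : (V → R) →ₗ[R] R :=
      (LinearMap.proj (s i₀) : (V → R) →ₗ[R] R) - (LinearMap.proj (t i₀) : (V → R) →ₗ[R] R)
    have hd : ∀ f, d f = f (s i₀) - f (t i₀) := fun f => rfl
    -- projection killing the `i₀` coordinate
    let π' : (ι → R) →ₗ[R] (ι → R) :=
      LinearMap.id - (LinearMap.single R (fun _ => R) i₀).comp (LinearMap.proj i₀ : (ι → R) →ₗ[R] R)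
    have hπ' : ∀ g i, π' g i = if i = i₀ then 0 else g i := by
      intro g i
      simp only [π', LinearMap.sub_apply, LinearMap.id_coe, id_eq, LinearMap.coe_comp,
        Function.comp_apply, LinearMap.coe_proj, Function.eval, LinearMap.coe_single,
        Pi.sub_apply]
      by_cases h : i = i₀
      · subst h; simp
      · simp [h, Pi.single_eq_of_ne h]
    have hδ : ∀ f i, dI (R := R) s t (insert i₀ I') f i =
        dI s t I' f i + (if i = i₀ then d f else 0) := by
      intro f i
      rw [dI_apply, dI_apply]
      by_cases h : i = i₀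
      · subst h; simp [hi₀, hd]
      · simp [h, Finset.mem_insert]
    have hδ'0 : ∀ f, dI (R := R) s t I' f i₀ = 0 := by
      intro f; rw [dI_apply, if_neg hi₀]
    have hπδ : ∀ f, π' (dI (R := R) s t (insert i₀ I') f) = dI s t I' f := by
      intro f
      funext i
      rw [hπ', hδ]
      by_cases h : i = i₀
      · subst h; simp [hδ'0]
      · simp [h]
    by_cases hcase : EqvGen (edgeRel s t I') (s i₀) (t i₀)
    · -- the new edge joins already equivalent vertices
      refine ⟨ρ'.comp π', fun f => ?_⟩
      have hker : dI (R := R) s t I' (f - ρ' (dI s t I' f)) = 0 := by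
        rw [map_sub, hρ', sub_self]
      have h1 := eq_of_eqvGen_of_dI_eq_zero s t I' _ hker hcase
      have h2 : d (ρ' (dI s t I' f)) = d f := by
        rw [hd, hd]
        simp only [Pi.sub_apply] at h1
        linear_combination -h1
      funext i
      rw [LinearMap.comp_apply, hπδ, hδ, hδ, hρ', h2]
    · -- the new edge joins two distinct classes
      let χ : V → R := fun j => if EqvGen (edgeRel s t I') (s i₀) j then 1 else 0
      have hχ0 : dI (R := R) s t I' χ = 0 := by
        funext i
        rw [dI_apply]
        by_cases hi : i ∈ I'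
        · rw [if_pos hi]
          have hrel : edgeRel s t I' (s i) (t i) := ⟨i, hi, rfl, rfl⟩
          have hiff : EqvGen (edgeRel s t I') (s i₀) (s i) ↔
              EqvGen (edgeRel s t I') (s i₀) (t i) :=
            ⟨fun h => h.trans _ _ _ (EqvGen.rel _ _ hrel),
              fun h => h.trans _ _ _ (EqvGen.symm _ _ (EqvGen.rel _ _ hrel))⟩
          simp only [χ, hiff, Pi.zero_apply, sub_self]
        · rw [if_neg hi]; rfl
      have hχ1 : d χ = 1 := by
        rw [hd]
        simp only [χ, if_pos (EqvGen.refl (s i₀)), if_neg hcase, sub_zero]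
      let ℓ : (ι → R) →ₗ[R] R := (LinearMap.proj i₀ : (ι → R) →ₗ[R] R) - d.comp (ρ'.comp π')
      refine ⟨ρ'.comp π' + ℓ.smulRight χ, fun f => ?_⟩
      have hρδ : (ρ'.comp π' + ℓ.smulRight χ) (dI s t (insert i₀ I') f) =
          ρ' (dI s t I' f) + (d f - d (ρ' (dI s t I' f))) • χ := by
        simp only [LinearMap.add_apply, LinearMap.comp_apply, hπδ, LinearMap.smulRight_apply, ℓ,
          LinearMap.sub_apply, LinearMap.coe_proj, Function.eval]
        congr 2
        rw [hδ, hδ'0]; simp
      rw [hρδ]
      funext i
      rw [hδ, hδ, map_add, map_smul, hρ', hχ0, smul_zero, add_zero, map_add, map_smul, hχ1]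
      congr 1
      by_cases h : i = i₀
      · simp [h]
      · simp [h]

/-- The coboundary map of the graph with edges `ι` (from `s i` to `t i`) is regular. -/
theorem exists_regular_funLeft [Finite ι] (s t : ι → V) :
    ∃ ρ : (ι → R) →ₗ[R] (V → R),
      ∀ f, (LinearMap.funLeft R R s - LinearMap.funLeft R R t)
        (ρ ((LinearMap.funLeft R R s - LinearMap.funLeft R R t) f)) =
        (LinearMap.funLeft R R s - LinearMap.funLeft R R t) f := by
  classical
  cases nonempty_fintype ι
  obtain ⟨ρ, hρ⟩ := exists_regular_dI (R := R) s t (Finset.univ : Finset ι)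
  have h : (LinearMap.funLeft R R s - LinearMap.funLeft R R t) = dI (R := R) s t Finset.univ := by
    ext f i
    simp [dI_apply, LinearMap.funLeft_apply]
  rw [h]
  exact ⟨ρ, hρ⟩

end Groth.Agent.H6.FEtEq
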