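import Mathlib

/-!
# Regular linear maps (helper6)

A linear map `δ : M → N` is *regular* if it has a generalized inverse `ρ` (`δ ρ δ = δ`).
Kernels of regular maps are direct summands and commute with arbitrary base change.
-/

namespace Groth.Agent.H6.FEtEq

open TensorProduct

variable {A : Type*} [CommRing A] {M N : Type*} [AddCommGroup M] [AddCommGroup N]
  [Module A M] [Module A N]

/-- A linear map is regular if it has a generalized inverse. -/
def IsRegularMap (δ : M →ₗ[A] N) : Prop := ∃ ρ : N →ₗ[A] M, ∀ x, δ (ρ (δ x)) = δ x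

namespace IsRegularMap

variable {δ : M →ₗ[A] N}

/-- The retraction of `M` onto `ker δ` given by a generalized inverse. -/
theorem exists_retraction (h : IsRegularMap δ) :
    ∃ (r : M →ₗ[A] LinearMap.ker δ) (σ : N →ₗ[A] M),
      (∀ x : LinearMap.ker δ, r x = x) ∧ ∀ x : M, ((r x : LinearMap.ker δ) : M) + σ (δ x) = x := by
  obtain ⟨ρ, hρ⟩ := h
  let e : M →ₗ[A] M := LinearMap.id - ρ.comp δ
  have he : ∀ x, e x ∈ LinearMap.ker δ := by
    intro x
    simp only [e, LinearMap.mem_ker, LinearMap.sub_apply, LinearMap.id_coe, id_eq,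
      LinearMap.comp_apply, map_sub, hρ, sub_self]
  refine ⟨e.codRestrict _ he, ρ, fun x => ?_, fun x => ?_⟩
  · apply Subtype.ext
    have hx : δ x = 0 := x.2
    simp [e, hx]
  · simp [e]

theorem injective_lTensor_subtype (h : IsRegularMap δ) (P : Type*) [AddCommGroup P] [Module A P] :
    Function.Injective ((LinearMap.ker δ).subtype.lTensor P) := by
  obtain ⟨r, σ, hr, -⟩ := h.exists_retraction
  have : (r.lTensor P).comp ((LinearMap.ker δ).subtype.lTensor P) = LinearMap.id := by
    rw [← LinearMap.lTensor_comp]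
    have : r.comp (LinearMap.ker δ).subtype = LinearMap.id := by
      ext x; simp [hr]
    rw [this, LinearMap.lTensor_id]
  exact Function.LeftInverse.injective (g := r.lTensor P) fun x => by
    simpa using LinearMap.congr_fun this x

theorem ker_lTensor (h : IsRegularMap δ) (P : Type*) [AddCommGroup P] [Module A P] :
    LinearMap.ker (δ.lTensor P) = LinearMap.range ((LinearMap.ker δ).subtype.lTensor P) := by
  obtain ⟨r, σ, hr, hrσ⟩ := h.exists_retraction
  apply le_antisymm
  · intro y hy
    have hid : ((LinearMap.ker δ).subtype.lTensor P).comp (r.lTensor P) +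
        (σ.lTensor P).comp (δ.lTensor P) = LinearMap.id := by
      rw [← LinearMap.lTensor_comp, ← LinearMap.lTensor_comp, ← LinearMap.lTensor_add,
        ← LinearMap.lTensor_id]
      congr 1
      ext x
      simpa using hrσ x
    have := LinearMap.congr_fun hid y
    simp only [LinearMap.add_apply, LinearMap.comp_apply, LinearMap.id_coe, id_eq] at this
    rw [LinearMap.mem_ker.mp hy, map_zero, add_zero] at this
    exact ⟨_, this⟩
  · rintro _ ⟨z, rfl⟩
    rw [LinearMap.mem_ker, ← LinearMap.comp_apply, ← LinearMap.lTensor_comp]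
    have : δ.comp (LinearMap.ker δ).subtype = 0 := by
      ext x; exact x.2
    rw [this, LinearMap.lTensor_zero, LinearMap.zero_apply]

theorem finite_ker (h : IsRegularMap δ) [Module.Finite A M] : Module.Finite A (LinearMap.ker δ) := by
  obtain ⟨r, σ, hr, -⟩ := h.exists_retraction
  exact Module.Finite.of_surjective r fun x => ⟨x, hr x⟩

theorem projective_ker (h : IsRegularMap δ) [Module.Projective A M] :
    Module.Projective A (LinearMap.ker δ) := by
  obtain ⟨r, σ, hr, -⟩ := h.exists_retraction
  exact Module.Projective.of_split (LinearMap.ker δ).subtype r (by ext x; simp [hr])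

/-- The cokernel of a regular map into a projective module is projective. -/
theorem projective_of_exact (h : IsRegularMap δ) [Module.Projective A N]
    {N₃ : Type*} [AddCommGroup N₃] [Module A N₃] (g : N →ₗ[A] N₃)
    (hg : Function.Surjective g) (hex : Function.Exact δ g) : Module.Projective A N₃ := by
  obtain ⟨ρ, hρ⟩ := h
  -- `u = 1 - δρ` kills the range of `δ`
  let u : N →ₗ[A] N := LinearMap.id - δ.comp ρ
  have hu : LinearMap.ker g ≤ LinearMap.ker u := by
    intro y hy
    obtain ⟨x, rfl⟩ := (hex y).mp hy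
    simp [u, hρ]
  let ū : N₃ →ₗ[A] N :=
    ((LinearMap.ker g).liftQ u hu).comp (g.quotKerEquivOfSurjective hg).symm.toLinearMap
  have hū : ∀ y, ū (g y) = u y := by
    intro y
    have : (g.quotKerEquivOfSurjective hg).symm (g y) = Submodule.Quotient.mk y := by
      rw [LinearEquiv.symm_apply_eq]; rfl
    simp only [ū, LinearMap.comp_apply, LinearEquiv.coe_coe, this, Submodule.liftQ_apply]
  refine Module.Projective.of_split ū g ?_
  ext z
  obtain ⟨y, rfl⟩ := hg z
  have hgδ : ∀ x, g (δ x) = 0 := fun x => (hex _).mpr ⟨x, rfl⟩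
  simp [hū, u, hgδ]

/-- Regularity is invariant under composition with isomorphisms. -/
theorem of_equiv {M' N' : Type*} [AddCommGroup M'] [AddCommGroup N'] [Module A M'] [Module A N']
    (h : IsRegularMap δ) (e₁ : M ≃ₗ[A] M') (e₂ : N ≃ₗ[A] N') (δ' : M' →ₗ[A] N')
    (hδ' : ∀ x, δ' (e₁ x) = e₂ (δ x)) : IsRegularMap δ' := by
  obtain ⟨ρ, hρ⟩ := h
  refine ⟨e₁.toLinearMap.comp (ρ.comp e₂.symm.toLinearMap), fun x' => ?_⟩
  obtain ⟨x, rfl⟩ := e₁.surjective x'
  simp [hδ', hρ]

end IsRegularMap

/-- If the cokernel of `δ : M → N` is projective and `N` is projective, then `δ` is regular. -/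
theorem isRegularMap_of_projective_quotient (δ : M →ₗ[A] N) [Module.Projective A N]
    [Module.Projective A (N ⧸ LinearMap.range δ)] : IsRegularMap δ := by
  -- split the quotient map
  obtain ⟨s, hs⟩ := Module.projective_lifting_property (LinearMap.range δ).mkQ
    (LinearMap.id : (N ⧸ LinearMap.range δ) →ₗ[A] _) (Submodule.mkQ_surjective _)
  let π₀ : N →ₗ[A] N := LinearMap.id - s.comp (LinearMap.range δ).mkQ
  have hπ₀ : ∀ y, π₀ y ∈ LinearMap.range δ := by
    intro y
    rw [← Submodule.ker_mkQ (LinearMap.range δ), LinearMap.mem_ker]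
    have := LinearMap.congr_fun hs ((LinearMap.range δ).mkQ y)
    simp only [LinearMap.comp_apply, LinearMap.id_coe, id_eq] at this
    simp only [π₀, LinearMap.sub_apply, LinearMap.id_coe, id_eq, LinearMap.comp_apply, map_sub,
      this, sub_self]
  let π : N →ₗ[A] LinearMap.range δ := π₀.codRestrict _ hπ₀
  have hπ : ∀ y : LinearMap.range δ, π y = y := by
    intro y
    apply Subtype.ext
    have : (LinearMap.range δ).mkQ (y : N) = 0 := by
      rw [← LinearMap.mem_ker, Submodule.ker_mkQ]; exact y.2
    simp [π, π₀, this]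
  haveI : Module.Projective A (LinearMap.range δ) :=
    Module.Projective.of_split (LinearMap.range δ).subtype π (by ext y; simp [hπ])
  obtain ⟨σ, hσ⟩ := Module.projective_lifting_property δ.rangeRestrict
    (LinearMap.id : LinearMap.range δ →ₗ[A] _) (LinearMap.surjective_rangeRestrict δ)
  refine ⟨σ.comp π, fun x => ?_⟩
  have h1 : π (δ x) = δ.rangeRestrict x := hπ (δ.rangeRestrict x)
  have h2 := LinearMap.congr_fun hσ (δ.rangeRestrict x)
  simp only [LinearMap.comp_apply, LinearMap.id_coe, id_eq] at h2
  have h3 : δ (σ (δ.rangeRestrict x)) = (δ.rangeRestrict (σ (δ.rangeRestrict x)) : N) := rfl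
  rw [LinearMap.comp_apply, h1, h3, h2]
  rfl

end Groth.Agent.H6.FEtEq
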