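import Mathlib

/-!
# Algebra maps between split algebras over rings with trivial idempotents (helper6)
-/

namespace Groth.Agent.H6.FEtEq

/-- Idempotents of a local ring are trivial. -/
theorem idem_eq_zero_or_one_of_isLocalRing {R : Type*} [CommRing R] [IsLocalRing R]
    (e : R) (he : IsIdempotentElem e) : e = 0 ∨ e = 1 := by
  have h0 : e * (1 - e) = 0 := he.mul_one_sub_self
  rcases IsLocalRing.isUnit_or_isUnit_one_sub_self e with h | h
  · right
    have := h.mul_left_cancel (b := 1 - e) (c := 0) (by rw [h0, mul_zero])
    exact (sub_eq_zero.mp this).symm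
  · left
    exact h.mul_left_injective (by simpa using h0)

/-- An algebra map `R^F → R` over a nontrivial ring with trivial idempotents is evaluation at an
index. -/
theorem exists_index_of_trivial_idem {R : Type*} [CommRing R] [Nontrivial R]
    (hR : ∀ e : R, IsIdempotentElem e → e = 0 ∨ e = 1)
    {F : Type*} [Finite F] (χ : (F → R) →ₐ[R] R) :
    ∃ i : F, ∀ g : F → R, χ g = g i := by
  classical
  cases nonempty_fintype F
  have hid : ∀ i, IsIdempotentElem (χ (Pi.single i 1)) := by
    intro i
    rw [IsIdempotentElem, ← map_mul, ← Pi.single_mul, mul_one]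
  have horth : ∀ i j, i ≠ j → χ (Pi.single i 1) * χ (Pi.single j 1) = 0 := by
    intro i j hij
    rw [← map_mul]
    have : (Pi.single i (1 : R) : F → R) * Pi.single j 1 = 0 := by
      funext l
      by_cases hl : l = i
      · subst hl; simp [Pi.single_eq_of_ne hij]
      · simp [Pi.single_eq_of_ne hl]
    rw [this, map_zero]
  have hsum : ∑ i, χ (Pi.single i 1) = 1 := by
    rw [← map_sum, Finset.univ_sum_single]
    exact map_one χ
  have hex : ∃ i, χ (Pi.single i 1) = 1 := by
    by_contra hne
    push Not at hne
    have : ∀ i, χ (Pi.single i 1) = 0 := fun i =>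
      (hR _ (hid i)).resolve_right (hne i)
    rw [Finset.sum_eq_zero (fun i _ => this i)] at hsum
    exact zero_ne_one hsum
  obtain ⟨i, hi⟩ := hex
  have hz : ∀ j, j ≠ i → χ (Pi.single j 1) = 0 := by
    intro j hj
    have := horth j i hj
    rwa [hi, mul_one] at this
  refine ⟨i, fun g => ?_⟩
  have hg : g = ∑ l, g l • (Pi.single l (1 : R) : F → R) := by
    funext l
    simp [Finset.sum_apply, Pi.single_apply]
  conv_lhs => rw [hg]
  rw [map_sum]
  simp only [map_smul, smul_eq_mul]
  rw [Finset.sum_eq_single i (fun j _ hj => by rw [hz j hj, mul_zero])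
    (fun h => absurd (Finset.mem_univ i) h), hi, mul_one]

/-- An algebra map between split algebras over a nontrivial ring with trivial idempotents is
induced by a map of index sets. -/
theorem exists_index_map_of_trivial_idem {R : Type*} [CommRing R] [Nontrivial R]
    (hR : ∀ e : R, IsIdempotentElem e → e = 0 ∨ e = 1)
    {F F' : Type*} [Finite F] (ψ : (F → R) →ₐ[R] (F' → R)) :
    ∃ τ : F' → F, ∀ (x : F → R) (k : F'), ψ x k = x (τ k) := by
  have : ∀ k : F', ∃ i : F, ∀ g : F → R, ((Pi.evalAlgHom R (fun _ => R) k).comp ψ) g = g i :=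
    fun k => exists_index_of_trivial_idem hR _
  choose τ hτ using this
  exact ⟨τ, fun x k => hτ k x⟩

end Groth.Agent.H6.FEtEq
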