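import Mathlib
import Groth.Agent.Lib.Helper6.FEtEq1
import Groth.Agent.Lib.Helper6.FEtEq2
import Groth.Agent.Lib.Helper6.FEtEq3

/-!
# The cokernel of the difference of two maps of finite étale algebras is flat (helper6)
-/

universe u

namespace Groth.Agent.H6.FEtEq

open TensorProduct

section tower

variable {A : Type u} [CommRing A] (B : Type u) [CommRing B] [Algebra A B]

/-- Splitness is inherited along a tower. -/
theorem isFiniteSplit_of_tower (R R'' : Type u) [CommRing R] [CommRing R''] [Algebra A R]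
    [Algebra A R''] [Algebra R R''] [IsScalarTower A R R'']
    [Algebra.IsFiniteSplit R (R ⊗[A] B)] : Algebra.IsFiniteSplit R'' (R'' ⊗[A] B) :=
  .of_algEquiv (Algebra.TensorProduct.cancelBaseChange A R R'' R'' B)

end tower

section local_global

variable {A : Type u} [CommRing A]

/-- Flatness of a base-changed module can be checked at the localizations at maximal ideals. -/
theorem flat_tensor_of_localization_maximal (S : Type u) [CommRing S] [Algebra A S]
    (M : Type u) [AddCommGroup M] [Module A M]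
    (H : ∀ (q : Ideal S) [q.IsMaximal],
      Module.Flat (Localization.AtPrime q) ((Localization.AtPrime q) ⊗[A] M)) :
    Module.Flat S (S ⊗[A] M) := by
  apply Module.flat_of_localized_maximal
  intro q hq
  rw [← Module.flat_iff_of_isLocalization (Localization.AtPrime q) q.primeCompl]
  let e : LocalizedModule q.primeCompl (S ⊗[A] M) ≃ₗ[Localization.AtPrime q]
      (Localization.AtPrime q) ⊗[A] M :=
    LocalizedModule.equivTensorProduct q.primeCompl (S ⊗[A] M) ≪≫ₗ
      AlgebraTensorModule.cancelBaseChange A S (Localization.AtPrime q) (Localization.AtPrime q) M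
  haveI := H q
  exact Module.Flat.of_linearEquiv e

end local_global

section main

variable {A : Type u} [CommRing A] {B C : Type u} [CommRing B] [CommRing C] [Algebra A B]
  [Algebra A C] (φ ψ : B →ₐ[A] C)

theorem baseChange_toLinearMap (R' : Type u) [CommRing R'] [Algebra A R'] (y : R' ⊗[A] B) :
    φ.toLinearMap.baseChange R' y = Algebra.TensorProduct.map (AlgHom.id R' R') φ y := by
  induction y with
  | zero => simp
  | tmul a b => simp
  | add x y hx hy => rw [map_add, map_add, hx, hy]

/-- The split case over a ring with trivial idempotents. -/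
theorem flat_of_split (R' : Type u) [CommRing R'] [Algebra A R'] [Nontrivial R']
    (hR' : ∀ e : R', IsIdempotentElem e → e = 0 ∨ e = 1)
    [Algebra.IsFiniteSplit R' (R' ⊗[A] B)] [Algebra.IsFiniteSplit R' (R' ⊗[A] C)] :
    Module.Flat R' (R' ⊗[A] (C ⧸ LinearMap.range (φ.toLinearMap - ψ.toLinearMap))) := by
  obtain ⟨m, ⟨eB⟩⟩ := Algebra.IsFiniteSplit.nonempty_algEquiv_fun R' (R' ⊗[A] B)
  obtain ⟨n, ⟨eC⟩⟩ := Algebra.IsFiniteSplit.nonempty_algEquiv_fun R' (R' ⊗[A] C)
  let φ' : (Fin m → R') →ₐ[R'] (Fin n → R') :=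
    (eC.toAlgHom.comp (Algebra.TensorProduct.map (AlgHom.id R' R') φ)).comp eB.symm.toAlgHom
  let ψ' : (Fin m → R') →ₐ[R'] (Fin n → R') :=
    (eC.toAlgHom.comp (Algebra.TensorProduct.map (AlgHom.id R' R') ψ)).comp eB.symm.toAlgHom
  obtain ⟨s, hs⟩ := exists_index_map_of_trivial_idem hR' φ'
  obtain ⟨t, ht⟩ := exists_index_map_of_trivial_idem hR' ψ'
  set δ := φ.toLinearMap - ψ.toLinearMap with hδ
  have hreg0 : IsRegularMap (LinearMap.funLeft R' R' s - LinearMap.funLeft R' R' t) :=
    exists_regular_funLeft s t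
  have hreg : IsRegularMap (δ.baseChange R') := by
    refine hreg0.of_equiv eB.symm.toLinearEquiv eC.symm.toLinearEquiv _ fun x => ?_
    have h1 : LinearMap.funLeft R' R' s x =
        eC (Algebra.TensorProduct.map (AlgHom.id R' R') φ (eB.symm x)) := by
      funext k
      rw [LinearMap.funLeft_apply, ← hs x k]
      rfl
    have h2 : LinearMap.funLeft R' R' t x =
        eC (Algebra.TensorProduct.map (AlgHom.id R' R') ψ (eB.symm x)) := by
      funext k
      rw [LinearMap.funLeft_apply, ← ht x k]
      rfl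
    change δ.baseChange R' (eB.symm x) = eC.symm _
    rw [LinearMap.sub_apply, h1, h2, ← map_sub, AlgEquiv.symm_apply_apply, hδ,
      LinearMap.baseChange_sub, LinearMap.sub_apply, baseChange_toLinearMap,
      baseChange_toLinearMap]
  have hex : Function.Exact (δ.baseChange R') ((LinearMap.range δ).mkQ.baseChange R') :=
    lTensor_exact R' (LinearMap.exact_map_mkQ_range δ) (Submodule.mkQ_surjective _)
  have hsurj : Function.Surjective ((LinearMap.range δ).mkQ.baseChange R') :=
    LinearMap.lTensor_surjective R' (Submodule.mkQ_surjective _)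
  haveI : Module.Projective R' (R' ⊗[A] C) := Module.Projective.of_free
  haveI := hreg.projective_of_exact _ hsurj hex
  infer_instance

variable [Module.Finite A B] [Algebra.Etale A B] [Module.Finite A C] [Algebra.Etale A C]

/-- The local case. -/
theorem flat_of_isLocalRing (R : Type u) [CommRing R] [Algebra A R] [IsLocalRing R] :
    Module.Flat R (R ⊗[A] (C ⧸ LinearMap.range (φ.toLinearMap - ψ.toLinearMap))) := by
  haveI : Module.Free R (R ⊗[A] B) := Module.free_of_flat_of_isLocalRing
  haveI : Module.Free R (R ⊗[A] C) := Module.free_of_flat_of_isLocalRing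
  have hm : Module.rankAtStalk (R := R) (R ⊗[A] B) = (Module.finrank R (R ⊗[A] B) : ℕ) :=
    Module.rankAtStalk_eq_finrank_of_free
  obtain ⟨T₁, _, _, _, _, _, hT₁⟩ := Algebra.IsFiniteSplit.exists_tensorProduct_of_etale hm
  have hn : Module.rankAtStalk (R := T₁) (T₁ ⊗[R] (R ⊗[A] C)) =
      (Module.finrank R (R ⊗[A] C) : ℕ) := by
    ext p
    rw [Module.rankAtStalk_baseChange, Module.rankAtStalk_eq_finrank_of_free]
    rfl
  obtain ⟨T₂, _, _, _, _, _, hT₂⟩ := Algebra.IsFiniteSplit.exists_tensorProduct_of_etale hn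
  letI : Algebra R T₂ := ((algebraMap T₁ T₂).comp (algebraMap R T₁)).toAlgebra
  haveI : IsScalarTower R T₁ T₂ := .of_algebraMap_eq' rfl
  letI : Algebra A T₁ := ((algebraMap R T₁).comp (algebraMap A R)).toAlgebra
  haveI : IsScalarTower A R T₁ := .of_algebraMap_eq' rfl
  letI : Algebra A T₂ := ((algebraMap R T₂).comp (algebraMap A R)).toAlgebra
  haveI : IsScalarTower A R T₂ := .of_algebraMap_eq' rfl
  haveI : IsScalarTower A T₁ T₂ := .of_algebraMap_eq' rfl
  haveI : Module.FaithfullyFlat R T₂ := .trans R T₁ T₂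
  haveI hB₁ : Algebra.IsFiniteSplit T₁ (T₁ ⊗[A] B) :=
    .of_algEquiv (Algebra.TensorProduct.cancelBaseChange A R T₁ T₁ B)
  haveI hB₂ : Algebra.IsFiniteSplit T₂ (T₂ ⊗[A] B) := isFiniteSplit_of_tower B T₁ T₂
  haveI hC₂ : Algebra.IsFiniteSplit T₂ (T₂ ⊗[A] C) := by
    let e₁ : T₁ ⊗[R] (R ⊗[A] C) ≃ₐ[T₁] T₁ ⊗[A] C :=
      Algebra.TensorProduct.cancelBaseChange A R T₁ T₁ C
    let e₂ : T₂ ⊗[T₁] (T₁ ⊗[R] (R ⊗[A] C)) ≃ₐ[T₂] T₂ ⊗[T₁] (T₁ ⊗[A] C) :=
      Algebra.TensorProduct.congr AlgEquiv.refl e₁
    haveI : Algebra.IsFiniteSplit T₂ (T₂ ⊗[T₁] (T₁ ⊗[A] C)) :=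
      Algebra.IsFiniteSplit.of_algEquiv (S := T₂ ⊗[T₁] (T₁ ⊗[R] (R ⊗[A] C))) e₂
    exact .of_algEquiv (Algebra.TensorProduct.cancelBaseChange A T₁ T₂ T₂ C)
  set M := C ⧸ LinearMap.range (φ.toLinearMap - ψ.toLinearMap) with hM
  haveI h₂ : Module.Flat T₂ (T₂ ⊗[A] M) := by
    apply flat_tensor_of_localization_maximal
    intro q hq
    haveI : Algebra.IsFiniteSplit (Localization.AtPrime q) (Localization.AtPrime q ⊗[A] B) :=
      isFiniteSplit_of_tower B T₂ (Localization.AtPrime q)
    haveI : Algebra.IsFiniteSplit (Localization.AtPrime q) (Localization.AtPrime q ⊗[A] C) :=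
      isFiniteSplit_of_tower C T₂ (Localization.AtPrime q)
    exact flat_of_split φ ψ (Localization.AtPrime q) idem_eq_zero_or_one_of_isLocalRing
  haveI : Module.Flat T₂ (T₂ ⊗[R] (R ⊗[A] M)) :=
    Module.Flat.of_linearEquiv (AlgebraTensorModule.cancelBaseChange A R T₂ T₂ M)
  exact Module.Flat.of_flat_tensorProduct R (R ⊗[A] M) T₂

/-- The cokernel of the difference of two algebra maps between finite étale algebras is flat. -/
theorem flat_quotient : Module.Flat A (C ⧸ LinearMap.range (φ.toLinearMap - ψ.toLinearMap)) := by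
  haveI : Module.Flat A (A ⊗[A] (C ⧸ LinearMap.range (φ.toLinearMap - ψ.toLinearMap))) := by
    apply flat_tensor_of_localization_maximal
    intro q hq
    exact flat_of_isLocalRing φ ψ (Localization.AtPrime q)
  exact Module.Flat.of_linearEquiv (TensorProduct.lid A _).symm

/-- The difference of two algebra maps between finite étale algebras is a regular linear map. -/
theorem isRegularMap_sub : IsRegularMap (φ.toLinearMap - ψ.toLinearMap) := by
  haveI := flat_quotient φ ψ
  haveI : Module.FinitePresentation A C := .of_finite_of_finitePresentation A C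
  haveI : Module.FinitePresentation A (C ⧸ LinearMap.range (φ.toLinearMap - ψ.toLinearMap)) :=
    Module.finitePresentation_of_surjective _ (Submodule.mkQ_surjective _) (by
      rw [Submodule.ker_mkQ, LinearMap.range_eq_map]
      exact Submodule.FG.map _ Module.Finite.fg_top)
  haveI : Module.Projective A (C ⧸ LinearMap.range (φ.toLinearMap - ψ.toLinearMap)) :=
    Module.Flat.projective_of_finitePresentation
  haveI : Module.Projective A C := Module.Flat.projective_of_finitePresentation
  exact isRegularMap_of_projective_quotient _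

end main

end Groth.Agent.H6.FEtEq
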