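import Mathlib
import Groth.Agent.Lib.Helper6.FEtEq4

/-!
# Equalizers of finite étale algebras (helper6)

The equalizer of two algebra maps between finite étale algebras is finite étale and its formation
commutes with arbitrary base change.
-/

universe u

namespace Groth.Agent.H6.FEtEq

open TensorProduct

section quot

variable {R' : Type*} [CommRing R'] {B' C' : Type*} [CommRing B'] [CommRing C'] [Algebra R' B']
  [Algebra R' C'] {F F' : Type*}

/-- The relation on the index set generated by a pair of index maps. -/
def pairRel (s t : F' → F) (j j' : F) : Prop := ∃ i, s i = j ∧ t i = j'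

/-- The equalizer of two maps between split algebras induced by index maps is the split algebra
on the quotient of the index set. -/
theorem nonempty_equalizer_algEquiv (eB : B' ≃ₐ[R'] (F → R')) (eC : C' ≃ₐ[R'] (F' → R'))
    (f g : B' →ₐ[R'] C') (s t : F' → F)
    (hs : ∀ x k, eC (f x) k = eB x (s k)) (ht : ∀ x k, eC (g x) k = eB x (t k)) :
    Nonempty ((Quot (pairRel s t) → R') ≃ₐ[R'] AlgHom.equalizer f g) := by
  let G₀ : (Quot (pairRel s t) → R') →ₐ[R'] (F → R') :=
    AlgHom.pi fun j => Pi.evalAlgHom R' (fun _ => R') (Quot.mk _ j)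
  have hG₀ : ∀ h j, G₀ h j = h (Quot.mk _ j) := fun h j => rfl
  let G₁ : (Quot (pairRel s t) → R') →ₐ[R'] B' := eB.symm.toAlgHom.comp G₀
  have hG₁ : ∀ h, eB (G₁ h) = G₀ h := fun h => eB.apply_symm_apply _
  have hmem : ∀ h, G₁ h ∈ AlgHom.equalizer f g := by
    intro h
    rw [AlgHom.mem_equalizer]
    apply eC.injective
    funext k
    rw [hs, ht, hG₁, hG₀, hG₀]
    exact congrArg h (Quot.sound ⟨k, rfl, rfl⟩)
  let G : (Quot (pairRel s t) → R') →ₐ[R'] AlgHom.equalizer f g := G₁.codRestrict _ hmem
  have hG : ∀ h, ((G h : AlgHom.equalizer f g) : B') = G₁ h := fun h => rfl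
  refine ⟨AlgEquiv.ofBijective G ⟨?_, ?_⟩⟩
  · intro h h' hh
    funext c
    obtain ⟨j, rfl⟩ := Quot.exists_rep c
    have := congrArg (fun y : AlgHom.equalizer f g => eB (y : B') j) hh
    simpa only [hG, hG₁, hG₀] using this
  · intro y
    have hy : f (y : B') = g (y : B') := (AlgHom.mem_equalizer f g _).mp y.2
    have hresp : ∀ j j', pairRel s t j j' → eB (y : B') j = eB (y : B') j' := by
      rintro _ _ ⟨i, rfl, rfl⟩
      rw [← hs, ← ht, hy]
    refine ⟨fun c => Quot.lift (eB (y : B')) hresp c, ?_⟩
    apply Subtype.ext
    rw [hG]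
    apply eB.injective
    rw [hG₁]
    funext j
    rw [hG₀]

end quot

section stable

variable {R : Type u} [CommRing R] {A B : Type u} [CommRing A] [CommRing B] [Algebra R A]
  [Algebra R B] (f g : A →ₐ[R] B)

/-- The equalizer as a submodule is the kernel of the difference. -/
def equalizerEquivKer :
    AlgHom.equalizer f g ≃ₗ[R] LinearMap.ker (f.toLinearMap - g.toLinearMap) where
  toFun x := ⟨x.1, by
    have := (AlgHom.mem_equalizer f g _).mp x.2
    simp [LinearMap.mem_ker, this]⟩
  invFun x := ⟨x.1, by
    have := LinearMap.mem_ker.mp x.2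
    rw [LinearMap.sub_apply, sub_eq_zero] at this
    rw [AlgHom.mem_equalizer]
    exact this⟩
  map_add' _ _ := rfl
  map_smul' _ _ := rfl
  left_inv _ := rfl
  right_inv _ := rfl

theorem lTensor_toLinearMap (T : Type u) [CommRing T] [Algebra R T] (S : Type u) [CommRing S]
    [Algebra R S] [Algebra S T] [IsScalarTower R S T] (y : T ⊗[R] A) :
    f.toLinearMap.lTensor T y = Algebra.TensorProduct.map (AlgHom.id S T) f y := by
  induction y with
  | zero => simp
  | tmul a b => simp
  | add x y hx hy => rw [map_add, map_add, hx, hy]

theorem val_lTensor (T : Type u) [CommRing T] [Algebra R T] (S : Type u) [CommRing S]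
    [Algebra R S] [Algebra S T] [IsScalarTower R S T] (x : T ⊗[R] AlgHom.equalizer f g) :
    Algebra.TensorProduct.map (AlgHom.id S T) (AlgHom.equalizer f g).val x =
      (LinearMap.ker (f.toLinearMap - g.toLinearMap)).subtype.lTensor T
        ((equalizerEquivKer f g).toLinearMap.lTensor T x) := by
  induction x with
  | zero => simp
  | tmul a b => simp [equalizerEquivKer]
  | add x y hx hy => rw [map_add, map_add, map_add, hx, hy]

variable [Module.Finite R A] [Algebra.Etale R A] [Module.Finite R B] [Algebra.Etale R B]

theorem finite_equalizer : Module.Finite R (AlgHom.equalizer f g) := by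
  haveI := (isRegularMap_sub f g).finite_ker
  exact Module.Finite.equiv (equalizerEquivKer f g).symm

theorem projective_equalizer : Module.Projective R (AlgHom.equalizer f g) := by
  haveI : Module.FinitePresentation R A := .of_finite_of_finitePresentation R A
  haveI : Module.Projective R A := Module.Flat.projective_of_finitePresentation
  haveI := (isRegularMap_sub f g).projective_ker
  exact Module.Projective.of_equiv (equalizerEquivKer f g).symm

/-- Equalizers of finite étale algebras commute with arbitrary base change. -/
theorem bijective_tensorEqualizer (T : Type u) [CommRing T] [Algebra R T] (S : Type u)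
    [CommRing S] [Algebra R S] [Algebra S T] [IsScalarTower R S T] :
    Function.Bijective (AlgHom.tensorEqualizer S T f g) := by
  have hreg := isRegularMap_sub f g
  constructor
  · rw [injective_iff_map_eq_zero]
    intro x hx
    have h1 := congrArg Subtype.val hx
    rw [AlgHom.coe_tensorEqualizer, val_lTensor] at h1
    have h2 := hreg.injective_lTensor_subtype T (a₂ := 0) (by simpa using h1)
    have h3 : Function.Injective ((equalizerEquivKer f g).toLinearMap.lTensor T) :=
      ((equalizerEquivKer f g).lTensor T).injective
    exact h3 (by simpa using h2)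
  · intro y
    have hy := (AlgHom.mem_equalizer _ _ _).mp y.2
    have hker : (y : T ⊗[R] A) ∈ LinearMap.ker ((f.toLinearMap - g.toLinearMap).lTensor T) := by
      rw [LinearMap.mem_ker, LinearMap.lTensor_sub, LinearMap.sub_apply,
        lTensor_toLinearMap f T S, lTensor_toLinearMap g T S, hy, sub_self]
    rw [hreg.ker_lTensor T] at hker
    obtain ⟨z, hz⟩ := hker
    refine ⟨(equalizerEquivKer f g).symm.toLinearMap.lTensor T z, ?_⟩
    apply Subtype.ext
    rw [AlgHom.coe_tensorEqualizer, val_lTensor, ← hz]
    congr 1
    rw [← LinearMap.comp_apply, ← LinearMap.lTensor_comp]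
    simp

end stable

end Groth.Agent.H6.FEtEq
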