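import Mathlib
import Groth.Agent.Lib.Helper6.FEtEq5

/-!
# Equalizers of finite étale algebras are étale (helper6)
-/

universe u

namespace Groth.Agent.H6.FEtEq

open TensorProduct

section split

variable {R' : Type u} [CommRing R'] [Nontrivial R'] {B' C' : Type u} [CommRing B'] [CommRing C']
  [Algebra R' B'] [Algebra R' C']

/-- Over a ring with trivial idempotents, the equalizer of two maps between split algebras is
étale. -/
theorem etale_equalizer_of_split (hR' : ∀ e : R', IsIdempotentElem e → e = 0 ∨ e = 1)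
    [Algebra.IsFiniteSplit R' B'] [Algebra.IsFiniteSplit R' C'] (f g : B' →ₐ[R'] C') :
    Algebra.Etale R' (AlgHom.equalizer f g) := by
  obtain ⟨m, ⟨eB⟩⟩ := Algebra.IsFiniteSplit.nonempty_algEquiv_fun R' B'
  obtain ⟨n, ⟨eC⟩⟩ := Algebra.IsFiniteSplit.nonempty_algEquiv_fun R' C'
  let φ' : (Fin m → R') →ₐ[R'] (Fin n → R') := (eC.toAlgHom.comp f).comp eB.symm.toAlgHom
  let ψ' : (Fin m → R') →ₐ[R'] (Fin n → R') := (eC.toAlgHom.comp g).comp eB.symm.toAlgHom
  obtain ⟨s, hs⟩ := exists_index_map_of_trivial_idem hR' φ'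
  obtain ⟨t, ht⟩ := exists_index_map_of_trivial_idem hR' ψ'
  have hs' : ∀ x k, eC (f x) k = eB x (s k) := by
    intro x k
    rw [← hs (eB x) k]
    simp [φ']
  have ht' : ∀ x k, eC (g x) k = eB x (t k) := by
    intro x k
    rw [← ht (eB x) k]
    simp [ψ']
  obtain ⟨e⟩ := nonempty_equalizer_algEquiv eB eC f g s t hs' ht'
  exact Algebra.Etale.of_equiv e

end split

section main

variable {R : Type u} [CommRing R] {A B : Type u} [CommRing A] [CommRing B] [Algebra R A]
  [Algebra R B] (f g : A →ₐ[R] B)
  [Module.Finite R A] [Algebra.Etale R A] [Module.Finite R B] [Algebra.Etale R B]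

/-- Base change of the equalizer to a separably closed field is étale. -/
theorem etale_tensor_equalizer_of_isSepClosed (L : Type u) [Field L] [IsSepClosed L]
    [Algebra R L] : Algebra.Etale L (L ⊗[R] AlgHom.equalizer f g) := by
  have hL : ∀ e : L, IsIdempotentElem e → e = 0 ∨ e = 1 :=
    fun e he => idem_eq_zero_or_one_of_isLocalRing e he
  haveI := etale_equalizer_of_split hL
    (Algebra.TensorProduct.map (AlgHom.id L L) f) (Algebra.TensorProduct.map (AlgHom.id L L) g)
  let e : L ⊗[R] AlgHom.equalizer f g ≃ₐ[L] _ :=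
    AlgEquiv.ofBijective (AlgHom.tensorEqualizer L L f g) (bijective_tensorEqualizer f g L L)
  exact Algebra.Etale.of_equiv e.symm

theorem formallyUnramified_equalizer :
    Algebra.FormallyUnramified R (AlgHom.equalizer f g) := by
  haveI := finite_equalizer f g
  haveI : Module.Finite R Ω[AlgHom.equalizer f g⁄R] :=
    Module.Finite.trans (AlgHom.equalizer f g) _
  constructor
  rw [← Module.support_eq_empty_iff (R := R)]
  ext p
  simp only [Set.mem_empty_iff_false, iff_false]
  rw [Module.mem_support_iff_nontrivial_residueField_tensorProduct, not_nontrivial_iff_subsingleton]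
  let L := AlgebraicClosure p.asIdeal.ResidueField
  haveI := etale_tensor_equalizer_of_isSepClosed f g L
  let _ : Algebra (AlgHom.equalizer f g) (L ⊗[R] AlgHom.equalizer f g) :=
    Algebra.TensorProduct.rightAlgebra
  have h1 : Subsingleton (L ⊗[R] Ω[AlgHom.equalizer f g⁄R]) :=
    (KaehlerDifferential.tensorKaehlerEquivBase R L (AlgHom.equalizer f g)
      (L ⊗[R] AlgHom.equalizer f g)).subsingleton
  have h2 : Subsingleton (L ⊗[p.asIdeal.ResidueField]
      (p.asIdeal.ResidueField ⊗[R] Ω[AlgHom.equalizer f g⁄R])) :=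
    (AlgebraTensorModule.cancelBaseChange R p.asIdeal.ResidueField L L
      Ω[AlgHom.equalizer f g⁄R]).subsingleton
  exact Module.FaithfullyFlat.lTensor_reflects_triviality p.asIdeal.ResidueField L _

theorem etale_equalizer : Algebra.Etale R (AlgHom.equalizer f g) := by
  haveI := finite_equalizer f g
  haveI := projective_equalizer f g
  haveI := formallyUnramified_equalizer f g
  haveI : Module.FinitePresentation R (AlgHom.equalizer f g) :=
    Module.finitePresentation_of_projective R _
  exact Algebra.Etale.of_formallyUnramified_of_flat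

end main

/-- The property "finite étale" of ring homomorphisms. -/
def FinEt {R S : Type u} [CommRing R] [CommRing S] (f : R →+* S) : Prop := f.Finite ∧ f.Etale

theorem finEt_algebraMap {R S : Type u} [CommRing R] [CommRing S] [Algebra R S] :
    FinEt (algebraMap R S) ↔ Module.Finite R S ∧ Algebra.Etale R S := by
  rw [FinEt, RingHom.finite_algebraMap, RingHom.etale_algebraMap]

theorem finEt_respectsIso : RingHom.RespectsIso (@FinEt.{u}) :=
  RingHom.finite_respectsIso.and RingHom.Etale.respectsIso

theorem finEt_isStableUnderBaseChange : RingHom.IsStableUnderBaseChange (@FinEt.{u}) :=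
  RingHom.finite_isStableUnderBaseChange.and RingHom.Etale.isStableUnderBaseChange

theorem finEt_hasEqualizers : RingHom.HasEqualizers (@FinEt.{u}) := by
  intro R S T _ _ _ _ _ f g hS hT
  rw [finEt_algebraMap] at hS hT ⊢
  obtain ⟨_, _⟩ := hS
  obtain ⟨_, _⟩ := hT
  exact ⟨finite_equalizer f g, etale_equalizer f g⟩

theorem finEt_hasStableEqualizers : RingHom.HasStableEqualizers (@FinEt.{u}) := by
  intro R S A B _ _ _ _ _ _ _ f g hA hB
  rw [finEt_algebraMap] at hA hB
  obtain ⟨_, _⟩ := hA
  obtain ⟨_, _⟩ := hB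
  exact bijective_tensorEqualizer f g S R

theorem finEt_hasFiniteProducts : RingHom.HasFiniteProducts (@FinEt.{u}) := by
  intro R _ ι _ S _ _ hS
  simp only [finEt_algebraMap] at hS ⊢
  haveI : ∀ i, Module.Finite R (S i) := fun i => (hS i).1
  haveI : ∀ i, Algebra.Etale R (S i) := fun i => (hS i).2
  exact ⟨inferInstance, inferInstance⟩

end Groth.Agent.H6.FEtEq
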