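import Mathlib
import Groth.Prelude.Def_FEt
import Groth.Agent.Lib.Helper6.FEtEq6

/-!
# Finite étale covers of an affine scheme and finite étale algebras (helper6)
-/

universe u

open CategoryTheory CategoryTheory.Limits AlgebraicGeometry Opposite

namespace Groth.Agent.H6.FEtBr

open Groth.Agent.H6.FEtEq

/-- Finite étale ring maps as a morphism property of `CommRingCat`. -/
abbrev Qfe : MorphismProperty CommRingCat.{u} := RingHom.toMorphismProperty (@FinEt.{u})

instance : Qfe.{u}.RespectsIso :=
  RingHom.toMorphismProperty_respectsIso_iff.mp finEt_respectsIso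

instance : Qfe.{u}.IsStableUnderCobaseChange :=
  RingHom.isStableUnderCobaseChange_toMorphismProperty_iff.mpr finEt_isStableUnderBaseChange

theorem prop_SpecMap_iff {R S : CommRingCat.{u}} (φ : R ⟶ S) :
    FEt.prop (Spec.map φ) ↔ Qfe φ := by
  change (IsFinite (Spec.map φ) ∧ Etale (Spec.map φ)) ↔ (φ.hom.Finite ∧ φ.hom.Etale)
  rw [IsFinite.SpecMap_iff, HasRingHomProperty.Spec_iff (P := @Etale)]

variable (U : Scheme.{u}) [IsAffine U]

/-- `Spec` as a functor from finite étale `Γ(U)`-algebras to finite étale covers of an affine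
scheme `U`. -/
noncomputable def specFunctor : (Qfe.{u}.Under ⊤ Γ(U, ⊤))ᵒᵖ ⥤ FEt.Cat U where
  obj A := MorphismProperty.Over.mk ⊤ (Spec.map A.unop.hom ≫ U.isoSpec.inv)
    ((MorphismProperty.cancel_right_of_respectsIso FEt.prop _ _).mpr
      ((prop_SpecMap_iff _).mpr A.unop.prop))
  map {A A'} g := MorphismProperty.Over.homMk (Spec.map g.unop.right) (by
    change Spec.map g.unop.right ≫ Spec.map A'.unop.hom ≫ U.isoSpec.inv =
      Spec.map A.unop.hom ≫ U.isoSpec.inv
    rw [← Category.assoc, ← Spec.map_comp, MorphismProperty.Under.w]) trivial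
  map_id A := by
    apply MorphismProperty.Over.Hom.ext
    simp
    rfl
  map_comp f g := by
    apply MorphismProperty.Over.Hom.ext
    simp
    rfl

@[simp]
theorem specFunctor_obj_hom (A : (Qfe.{u}.Under ⊤ Γ(U, ⊤))ᵒᵖ) :
    ((specFunctor U).obj A).hom = Spec.map A.unop.hom ≫ U.isoSpec.inv := rfl

@[simp]
theorem specFunctor_obj_left (A : (Qfe.{u}.Under ⊤ Γ(U, ⊤))ᵒᵖ) :
    ((specFunctor U).obj A).left = Spec A.unop.right := rfl

@[simp]
theorem specFunctor_map_left {A A' : (Qfe.{u}.Under ⊤ Γ(U, ⊤))ᵒᵖ} (g : A ⟶ A') :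
    ((specFunctor U).map g).left = Spec.map g.unop.right := rfl

noncomputable def specFunctorFullyFaithful : (specFunctor U).FullyFaithful where
  preimage {A A'} h := (MorphismProperty.Under.homMk
    (Spec.preimage (h.left : Spec A.unop.right ⟶ Spec A'.unop.right)) (by
    apply Spec.map_injective
    have hw : (h.left : Spec A.unop.right ⟶ Spec A'.unop.right) ≫
        (Spec.map A'.unop.hom ≫ U.isoSpec.inv) = Spec.map A.unop.hom ≫ U.isoSpec.inv :=
      MorphismProperty.Over.w h
    rw [← Category.assoc] at hw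
    rw [Spec.map_comp, Spec.map_preimage]
    exact (cancel_mono _).mp hw) trivial).op
  map_preimage {A A'} h := by
    apply MorphismProperty.Over.Hom.ext
    simp
  preimage_map {A A'} g := by
    apply Quiver.Hom.unop_inj
    apply MorphismProperty.Under.Hom.ext
    simp

instance : (specFunctor U).Full := (specFunctorFullyFaithful U).full
instance : (specFunctor U).Faithful := (specFunctorFullyFaithful U).faithful

instance : (specFunctor U).EssSurj where
  mem_essImage Y := by
    let f : Y.left ⟶ U := Y.hom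
    haveI : IsFinite f := Y.prop.1
    haveI : Etale f := Y.prop.2
    haveI : IsAffine Y.left := isAffine_of_isAffineHom f
    have hQ : Qfe.{u} f.appTop :=
      ⟨f.finite_appTop, HasRingHomProperty.appTop (P := @Etale) f inferInstance⟩
    refine ⟨op (MorphismProperty.Under.mk ⊤ f.appTop hQ), ⟨?_⟩⟩
    refine MorphismProperty.Over.isoMk Y.left.isoSpec.symm ?_
    change Y.left.isoSpec.inv ≫ f = Spec.map f.appTop ≫ U.isoSpec.inv
    rw [Scheme.isoSpec_inv_naturality]

instance : (specFunctor U).IsEquivalence where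

end Groth.Agent.H6.FEtBr
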