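import Mathlib
import Groth.Agent.Lib.Helper6.FEtBr1

/-!
# Finite colimits of finite étale covers of affine schemes (helper6)
-/

universe u

open CategoryTheory CategoryTheory.Limits AlgebraicGeometry Opposite

namespace Groth.Agent.H6.FEtBr

open Groth.Agent.H6.FEtEq

variable {U V : Scheme.{u}} [IsAffine U] [IsAffine V] (g : U ⟶ V)

/-- The pullback square computing the base change of `Spec A` along a map of affine schemes. -/
theorem isPullback_spec (A : Qfe.{u}.Under ⊤ Γ(V, ⊤)) :
    IsPullback (Spec.map (pushout.inl A.hom g.appTop))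
      (Spec.map (pushout.inr A.hom g.appTop) ≫ U.isoSpec.inv)
      (Spec.map A.hom ≫ V.isoSpec.inv) g := by
  refine (isPullback_SpecMap_pushout A.hom g.appTop).paste_vert ?_
  exact IsPullback.of_vert_isIso ⟨Scheme.isoSpec_inv_naturality g⟩

theorem bcIso_naturality_aux {B B' : Qfe.{u}.Under ⊤ Γ(V, ⊤)} (β : B' ⟶ B)
    (w : B'.hom ≫ β.right ≫ pushout.inl B.hom g.appTop =
      g.appTop ≫ pushout.inr B.hom g.appTop)
    (w' : (pullback.fst (Spec.map B.hom ≫ V.isoSpec.inv) g ≫ Spec.map β.right) ≫
      Spec.map B'.hom ≫ V.isoSpec.inv = pullback.snd (Spec.map B.hom ≫ V.isoSpec.inv) g ≫ g) :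
    Spec.map (pushout.desc (β.right ≫ pushout.inl B.hom g.appTop)
        (pushout.inr B.hom g.appTop) w) ≫ (isPullback_spec g B').isoPullback.hom =
      (isPullback_spec g B).isoPullback.hom ≫
        pullback.lift (pullback.fst (Spec.map B.hom ≫ V.isoSpec.inv) g ≫ Spec.map β.right)
          (pullback.snd (Spec.map B.hom ≫ V.isoSpec.inv) g) w' := by
  apply pullback.hom_ext
  · rw [Category.assoc, IsPullback.isoPullback_hom_fst, Category.assoc, pullback.lift_fst,
      ← Category.assoc, IsPullback.isoPullback_hom_fst, ← Spec.map_comp, ← Spec.map_comp,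
      pushout.inl_desc]
  · rw [Category.assoc, IsPullback.isoPullback_hom_snd, Category.assoc, pullback.lift_snd,
      IsPullback.isoPullback_hom_snd, ← Category.assoc, ← Spec.map_comp, pushout.inr_desc]

/-- Base change along a map of affine schemes corresponds to the tensor product. -/
noncomputable def bcIso :
    (MorphismProperty.Under.pushout Qfe.{u} ⊤ g.appTop).op ⋙ specFunctor U ≅
      specFunctor V ⋙ FEt.restrict g :=
  NatIso.ofComponents
    (fun A => MorphismProperty.Over.isoMk (isPullback_spec g A.unop).isoPullback (by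
      change (isPullback_spec g A.unop).isoPullback.hom ≫ pullback.snd _ _ = _
      rw [IsPullback.isoPullback_hom_snd]
      rfl))
    (by
      intro A A' γ
      apply MorphismProperty.Over.Hom.ext
      exact bcIso_naturality_aux g γ.unop _ _)

instance hasFiniteLimits_under (R : CommRingCat.{u}) : HasFiniteLimits (Qfe.{u}.Under ⊤ R) :=
  CommRingCat.Under.hasFiniteLimits finEt_respectsIso finEt_hasFiniteProducts
    finEt_hasEqualizers R

instance preservesFiniteLimits_pushout {R S : CommRingCat.{u}} (f : R ⟶ S) :
    PreservesFiniteLimits (MorphismProperty.Under.pushout Qfe.{u} ⊤ f) :=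
  finEt_hasStableEqualizers.preservesFiniteLimits_pushout finEt_respectsIso
    finEt_hasFiniteProducts finEt_hasEqualizers f

/-- Finite étale covers of an affine scheme have finite colimits. -/
instance hasFiniteColimits_of_isAffine (U : Scheme.{u}) [IsAffine U] :
    HasFiniteColimits (FEt.Cat U) :=
  ⟨fun J _ _ => Adjunction.hasColimitsOfShape_of_equivalence (specFunctor U).inv⟩

/-- Base change along a morphism of affine schemes preserves finite colimits of finite étale
covers. -/
instance preservesFiniteColimits_restrict_of_isAffine :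
    PreservesFiniteColimits (FEt.restrict g) := by
  haveI := preservesFiniteColimits_op (MorphismProperty.Under.pushout Qfe.{u} ⊤ g.appTop)
  haveI : PreservesFiniteColimits (specFunctor V ⋙ FEt.restrict g) :=
    preservesFiniteColimits_of_natIso (bcIso g)
  let e : (specFunctor V).inv ⋙ specFunctor V ⋙ FEt.restrict g ≅ FEt.restrict g :=
    (Functor.associator _ _ _).symm ≪≫
      Functor.isoWhiskerRight (specFunctor V).asEquivalence.counitIso _ ≪≫ Functor.leftUnitor _
  exact preservesFiniteColimits_of_natIso e

end Groth.Agent.H6.FEtBr
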