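import Mathlib

/-!
# Gluing colimits in `P.Over ⊤ S` along a locally directed open cover (helper6)

A variant of `AlgebraicGeometry.Scheme.Cover.ColimitGluingData` where the transition maps of the
cover need not satisfy `P`; instead we assume that the local colimits are preserved by base change
along the transition maps.
-/

universe u

open CategoryTheory Limits MorphismProperty AlgebraicGeometry

namespace Groth.Agent.H6.FEtGl

variable {P : MorphismProperty Scheme.{u}} [P.IsStableUnderBaseChange] [P.IsMultiplicative]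
  {S : Scheme.{u}} {J : Type*} [Category* J] (D : J ⥤ P.Over ⊤ S)
  (𝒰 : S.OpenCover) [Category* 𝒰.I₀] [𝒰.LocallyDirected]

/-- The data required for gluing the colimits of the `Dᵢ : J ⥤ P.Over ⊤ (𝒰.X i)`. -/
structure CGD (D : J ⥤ P.Over ⊤ S) (𝒰 : S.OpenCover)
    [Category* 𝒰.I₀] [𝒰.LocallyDirected] where
  /-- The cocones on the `Dᵢ`. -/
  cocone (i : 𝒰.I₀) : Cocone (D ⋙ MorphismProperty.Over.pullback P ⊤ (𝒰.f i))
  /-- The cocones on the `Dᵢ` are colimiting. -/
  isColimit (i : 𝒰.I₀) : IsColimit (cocone i)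
  /-- The colimits are preserved by the transition maps. -/
  isColimitTrans {i j : 𝒰.I₀} (hij : i ⟶ j) :
    IsColimit ((MorphismProperty.Over.pullback P ⊤ (𝒰.trans hij)).mapCocone (cocone j))

namespace CGD

variable {D} {𝒰} (d : CGD D 𝒰)

/-- The comparison of the restricted diagrams. -/
noncomputable def natIso {i j : 𝒰.I₀} (hij : i ⟶ j) :
    D ⋙ Over.pullback P ⊤ (𝒰.f i) ≅
      (D ⋙ Over.pullback P ⊤ (𝒰.f j)) ⋙ Over.pullback P ⊤ (𝒰.trans hij) :=
  D.isoWhiskerLeft (Over.pullbackComp (𝒰.trans hij) (𝒰.f j) (𝒰.f i) (𝒰.trans_map hij).symm) ≪≫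
    (Functor.associator _ _ _).symm

/-- The canonical map between the restricted diagrams. -/
noncomputable def θ {i j : 𝒰.I₀} (hij : i ⟶ j) (a : J) :
    pullback (D.obj a).hom (𝒰.f i) ⟶ pullback (D.obj a).hom (𝒰.f j) :=
  pullback.map _ _ _ _ (𝟙 _) (𝒰.trans hij) (𝟙 _) (by simp) (by simp)

set_option backward.defeqAttrib.useBackward true in
set_option backward.isDefEq.respectTransparency false in
@[reassoc (attr := simp)]
lemma θ_fst {i j : 𝒰.I₀} (hij : i ⟶ j) (a : J) :
    θ (D := D) hij a ≫ pullback.fst _ _ = pullback.fst _ _ := by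
  simp [θ]

set_option backward.defeqAttrib.useBackward true in
set_option backward.isDefEq.respectTransparency false in
@[reassoc (attr := simp)]
lemma θ_snd {i j : 𝒰.I₀} (hij : i ⟶ j) (a : J) :
    θ (D := D) hij a ≫ pullback.snd _ _ = pullback.snd _ _ ≫ 𝒰.trans hij := by
  simp [θ]

set_option backward.defeqAttrib.useBackward true in
set_option backward.isDefEq.respectTransparency false in
lemma natIso_hom_app_left_fst {i j : 𝒰.I₀} (hij : i ⟶ j) (a : J) :
    ((natIso (D := D) hij).hom.app a).left ≫ pullback.fst _ _ = θ hij a := by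
  apply pullback.hom_ext
  · simp [natIso, θ]
  · simp [natIso, θ, pullback.condition]

/-- The comparison isomorphism of the local colimits. -/
noncomputable def iso1 {i j : 𝒰.I₀} (hij : i ⟶ j) :
    (d.cocone i).pt ≅ (Over.pullback P ⊤ (𝒰.trans hij)).obj (d.cocone j).pt :=
  (d.isColimit i).coconePointsIsoOfNatIso (d.isColimitTrans hij) (natIso hij)

/-- The transition maps of the local colimits. -/
noncomputable def t {i j : 𝒰.I₀} (hij : i ⟶ j) :
    (d.cocone i).pt.left ⟶ (d.cocone j).pt.left :=
  (d.iso1 hij).hom.left ≫ pullback.fst _ _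

set_option backward.defeqAttrib.useBackward true in
set_option backward.isDefEq.respectTransparency false in
@[reassoc]
lemma t_hom {i j : 𝒰.I₀} (hij : i ⟶ j) :
    d.t hij ≫ (d.cocone j).pt.hom = (d.cocone i).pt.hom ≫ 𝒰.trans hij := by
  have h : (d.iso1 hij).hom.left ≫ pullback.snd (d.cocone j).pt.hom (𝒰.trans hij) =
      (d.cocone i).pt.hom := MorphismProperty.Over.w (d.iso1 hij).hom
  rw [t, Category.assoc, pullback.condition, reassoc_of% h]

set_option backward.defeqAttrib.useBackward true in
set_option backward.isDefEq.respectTransparency false in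
lemma pullback_map_left_fst {X Y : Scheme.{u}} (f : X ⟶ Y) {A B : P.Over ⊤ Y} (m : A ⟶ B) :
    ((Over.pullback P ⊤ f).map m).left ≫ pullback.fst B.hom f = pullback.fst A.hom f ≫ m.left := by
  simp

set_option backward.defeqAttrib.useBackward true in
set_option backward.isDefEq.respectTransparency false in
@[reassoc]
lemma ι_t {i j : 𝒰.I₀} (hij : i ⟶ j) (a : J) :
    ((d.cocone i).ι.app a).left ≫ d.t hij = θ hij a ≫ ((d.cocone j).ι.app a).left := by
  have h : (d.cocone i).ι.app a ≫ (d.iso1 hij).hom =
      (natIso hij).hom.app a ≫ (Over.pullback P ⊤ (𝒰.trans hij)).map ((d.cocone j).ι.app a) := by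
    rw [iso1, IsColimit.coconePointsIsoOfNatIso_hom, IsColimit.ι_map]
    rfl
  have h' : ((d.cocone i).ι.app a).left ≫ (d.iso1 hij).hom.left =
      ((natIso hij).hom.app a).left ≫
        ((Over.pullback P ⊤ (𝒰.trans hij)).map ((d.cocone j).ι.app a)).left := congr($(h).left)
  have h2 : ((Over.pullback P ⊤ (𝒰.trans hij)).map ((d.cocone j).ι.app a)).left ≫
      pullback.fst (d.cocone j).pt.hom (𝒰.trans hij) =
      pullback.fst ((D ⋙ Over.pullback P ⊤ (𝒰.f j)).obj a).hom (𝒰.trans hij) ≫
        ((d.cocone j).ι.app a).left :=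
    pullback_map_left_fst (𝒰.trans hij) ((d.cocone j).ι.app a)
  calc ((d.cocone i).ι.app a).left ≫ d.t hij
      = (((d.cocone i).ι.app a).left ≫ (d.iso1 hij).hom.left) ≫
          pullback.fst (d.cocone j).pt.hom (𝒰.trans hij) := by rw [t, Category.assoc]
    _ = (((natIso hij).hom.app a).left ≫
          ((Over.pullback P ⊤ (𝒰.trans hij)).map ((d.cocone j).ι.app a)).left) ≫
          pullback.fst (d.cocone j).pt.hom (𝒰.trans hij) := by rw [h']
    _ = ((natIso hij).hom.app a).left ≫
          (pullback.fst ((D ⋙ Over.pullback P ⊤ (𝒰.f j)).obj a).hom (𝒰.trans hij) ≫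
            ((d.cocone j).ι.app a).left) := by
        rw [Category.assoc]
        exact congrArg (((natIso hij).hom.app a).left ≫ ·) h2
    _ = θ hij a ≫ ((d.cocone j).ι.app a).left := by
        rw [← Category.assoc]
        exact congrArg (· ≫ ((d.cocone j).ι.app a).left) (natIso_hom_app_left_fst hij a)

set_option backward.defeqAttrib.useBackward true in
set_option backward.isDefEq.respectTransparency false in
/-- Morphisms out of a local colimit lying over a map of the base are determined by their
restrictions to the diagram. -/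
lemma hom_ext_left' (i : 𝒰.I₀) {Z : Scheme.{u}} (ρ : 𝒰.X i ⟶ Z) (T : P.Over ⊤ Z)
    (u v : (d.cocone i).pt.left ⟶ T.left)
    (hu : u ≫ T.hom = (d.cocone i).pt.hom ≫ ρ)
    (hv : v ≫ T.hom = (d.cocone i).pt.hom ≫ ρ)
    (h : ∀ a, ((d.cocone i).ι.app a).left ≫ u = ((d.cocone i).ι.app a).left ≫ v) : u = v := by
  let u' : (d.cocone i).pt ⟶ (Over.pullback P ⊤ ρ).obj T :=
    MorphismProperty.Over.homMk (pullback.lift u (d.cocone i).pt.hom hu) (by simp) trivial
  let v' : (d.cocone i).pt ⟶ (Over.pullback P ⊤ ρ).obj T :=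
    MorphismProperty.Over.homMk (pullback.lift v (d.cocone i).pt.hom hv) (by simp) trivial
  have huv : u' = v' := by
    apply (d.isColimit i).hom_ext
    intro a
    apply MorphismProperty.Over.Hom.ext
    rw [MorphismProperty.Comma.comp_left, MorphismProperty.Comma.comp_left]
    apply pullback.hom_ext
    · simpa [u', v'] using h a
    · simp [u', v']
  have h1 : u'.left ≫ pullback.fst _ _ = u := by simp [u']
  have h2 : v'.left ≫ pullback.fst _ _ = v := by simp [v']
  rw [← h1, ← h2, huv]

/-- Morphisms out of a local colimit lying over a transition map are determined by their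
restrictions to the diagram. -/
lemma hom_ext_left {i k : 𝒰.I₀} (hik : i ⟶ k) (T : P.Over ⊤ (𝒰.X k))
    (u v : (d.cocone i).pt.left ⟶ T.left)
    (hu : u ≫ T.hom = (d.cocone i).pt.hom ≫ 𝒰.trans hik)
    (hv : v ≫ T.hom = (d.cocone i).pt.hom ≫ 𝒰.trans hik)
    (h : ∀ a, ((d.cocone i).ι.app a).left ≫ u = ((d.cocone i).ι.app a).left ≫ v) : u = v :=
  d.hom_ext_left' i (𝒰.trans hik) T u v hu hv h

set_option backward.defeqAttrib.useBackward true in
set_option backward.isDefEq.respectTransparency false in
@[simp]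
lemma t_id (i : 𝒰.I₀) : d.t (𝟙 i) = 𝟙 _ := by
  apply d.hom_ext_left (𝟙 i) (d.cocone i).pt
  · rw [t_hom]
  · simp
  · intro a
    rw [ι_t]
    have : θ (D := D) (𝟙 i) a = 𝟙 _ := by
      apply pullback.hom_ext <;> simp
    rw [this]
    exact (Category.id_comp _).trans (Category.comp_id _).symm

set_option backward.defeqAttrib.useBackward true in
set_option backward.isDefEq.respectTransparency false in
lemma t_comp {i j k : 𝒰.I₀} (hij : i ⟶ j) (hjk : j ⟶ k) :
    d.t (hij ≫ hjk) = d.t hij ≫ d.t hjk := by
  apply d.hom_ext_left (hij ≫ hjk) (d.cocone k).pt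
  · rw [t_hom]
  · rw [Category.assoc, t_hom, t_hom_assoc, 𝒰.trans_comp]
  · intro a
    rw [ι_t, ι_t_assoc, ι_t, ← Category.assoc]
    congr 1
    apply pullback.hom_ext <;> simp [𝒰.trans_comp]

/-- (Implementation): Underlying functor of associated relative gluing datum. -/
@[simps]
noncomputable def functor : 𝒰.I₀ ⥤ Scheme where
  obj i := (d.cocone i).pt.left
  map {i j} hij := d.t hij
  map_id i := d.t_id i
  map_comp hij hjk := d.t_comp hij hjk

set_option backward.defeqAttrib.useBackward true in
set_option backward.isDefEq.respectTransparency false in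
lemma isPullback {i j : 𝒰.I₀} (hij : i ⟶ j) :
    IsPullback (d.t hij) (d.cocone i).pt.hom (d.cocone j).pt.hom (𝒰.trans hij) := by
  let iso2 : (d.cocone i).pt.left ≅ pullback (d.cocone j).pt.hom (𝒰.trans hij) :=
    (MorphismProperty.Over.forget _ _ _ ⋙ Over.forget _).mapIso (d.iso1 hij)
  refine .of_iso (IsPullback.of_hasPullback _ _) iso2.symm (.refl _) (.refl _) (.refl _) ?_ ?_
      (by simp) (by simp)
  · simp only [Iso.symm_hom, Iso.refl_hom, Category.comp_id]
    rw [eq_comm, Iso.inv_comp_eq]
    rfl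
  · exact (MorphismProperty.Over.w (d.iso1 hij).inv).symm

end CGD

end Groth.Agent.H6.FEtGl
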