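import Mathlib
import Groth.Agent.Lib.Helper6.FEtGl1

/-!
# Gluing colimits in `P.Over ⊤ S`, part 2 (helper6)
-/

universe u

open CategoryTheory Limits MorphismProperty AlgebraicGeometry

namespace Groth.Agent.H6.FEtGl

variable {P : MorphismProperty Scheme.{u}} [P.IsStableUnderBaseChange] [P.IsMultiplicative]
  {S : Scheme.{u}} {J : Type*} [Category* J] {D : J ⥤ P.Over ⊤ S}
  {𝒰 : S.OpenCover} [Category* 𝒰.I₀] [𝒰.LocallyDirected]

namespace CGD

variable (d : CGD D 𝒰)

set_option backward.isDefEq.respectTransparency false in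
/-- The relative gluing datum associated to the family of the `colim Dᵢ`. -/
@[simps natTrans_app, simps -isSimp functor]
noncomputable
def relativeGluingData : 𝒰.RelativeGluingData where
  functor := d.functor
  natTrans.app i := (d.cocone i).pt.hom
  natTrans.naturality {i j} hij := d.t_hom hij
  equifibered {i j} hij := d.isPullback hij

variable [Quiver.IsThin 𝒰.I₀] [Small.{u} 𝒰.I₀] [IsZariskiLocalAtTarget P]

set_option backward.isDefEq.respectTransparency false in
/-- The result of gluing the `colim Dᵢ`. -/
noncomputable def glued : P.Over ⊤ S :=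
  Over.mk _ d.relativeGluingData.toBase <| by
    rw [IsZariskiLocalAtTarget.iff_of_openCover (P := P) 𝒰]
    intro i
    rw [Scheme.Cover.pullbackHom,
      ← (d.relativeGluingData.isPullback_natTrans_ι_toBase i).flip.isoPullback_inv_snd,
      P.cancel_left_of_respectsIso]
    exact (d.cocone i).pt.prop

set_option backward.isDefEq.respectTransparency false in
/-- `colim Dᵢ` is the pullback of the glued object over `S` along the inclusion `𝒰ᵢ ⟶ S`. -/
noncomputable
def pullbackGluedIso (i : 𝒰.I₀) :
    (MorphismProperty.Over.pullback P ⊤ (𝒰.f i)).obj d.glued ≅ (d.cocone i).pt :=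
  Over.isoMk (d.relativeGluingData.isPullback_natTrans_ι_toBase i).flip.isoPullback.symm

set_option backward.defeqAttrib.useBackward true in
set_option backward.isDefEq.respectTransparency false in
@[reassoc (attr := simp)]
lemma pullbackGluedIso_inv_fst (i : 𝒰.I₀) : (d.pullbackGluedIso i).inv.left ≫ pullback.fst _ _ =
    colimit.ι d.relativeGluingData.functor i := by
  simp [pullbackGluedIso, glued]

set_option backward.defeqAttrib.useBackward true in
set_option backward.isDefEq.respectTransparency false in
@[reassoc (attr := simp)]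
lemma pullbackGluedIso_inv_snd (i : 𝒰.I₀) :
    (d.pullbackGluedIso i).inv.left ≫ pullback.snd _ _ = (d.cocone i).pt.hom := by
  simp [pullbackGluedIso, glued]

set_option backward.defeqAttrib.useBackward true in
set_option backward.isDefEq.respectTransparency false in
/-- The cocone glued from the `colim Dᵢ`. -/
@[simps pt]
noncomputable def gluedCocone : Cocone D := by
  letI 𝒱 (a : J) : (D.obj a).left.OpenCover := 𝒰.pullback₁ (D.obj a).hom
  refine { pt := d.glued, ι.app a := ?_, ι.naturality {a b} f := ?_ }
  · refine ⟨(𝒱 a).glueMorphismsOverOfLocallyDirected ?_ ?_ ?_, trivial, trivial⟩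
    · intro i
      exact ((d.cocone i).ι.app a).left ≫ colimit.ι d.relativeGluingData.functor i
    · intro i j hij
      conv_rhs => rw [← colimit.w d.relativeGluingData.functor hij]
      simp only [← Category.assoc]
      congr 1
      exact (d.ι_t hij a).symm
    · intro
      simp [𝒱, pullback.condition, glued]
  · ext
    apply (𝒱 a).hom_ext
    intro i
    have : (𝒱 a).f i ≫ (D.map f).left =
        ((D ⋙ Over.pullback _ _ (𝒰.f i)).map f).left ≫ (𝒱 b).f i := by
      simp [𝒱]
    dsimp
    rw [Category.comp_id, Scheme.OpenCover.map_glueMorphismsOverOfLocallyDirected_left,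
      reassoc_of% this, Scheme.OpenCover.map_glueMorphismsOverOfLocallyDirected_left,
      ← Over.comp_left_assoc, ← Comma.comp_hom, ← Functor.comp_map, Cocone.w]

set_option backward.isDefEq.respectTransparency false in
@[reassoc]
lemma fst_gluedCocone_ι (a : J) (i : 𝒰.I₀) :
    pullback.fst (D.obj a).hom (𝒰.f i) ≫
      (d.gluedCocone.ι.app a).left =
      ((d.cocone i).ι.app a).left ≫ colimit.ι d.relativeGluingData.functor i := by
  simp only [gluedCocone]
  generalize_proofs _ _ _ _ _ _ _ _ _ _ _ _ h1 h2
  let 𝒱 : (D.obj a).left.OpenCover := 𝒰.pullback₁ (D.obj a).hom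
  apply 𝒱.map_glueMorphismsOverOfLocallyDirected_left _ h1 h2

set_option backward.defeqAttrib.useBackward true in
set_option backward.isDefEq.respectTransparency false in
lemma pullback_map_left_fst' {X Y : Scheme.{u}} (f : X ⟶ Y) {A B : P.Over ⊤ Y} (m : A ⟶ B) :
    ((Over.pullback P ⊤ f).map m).left ≫ pullback.fst B.hom f = pullback.fst A.hom f ≫ m.left := by
  simp

set_option backward.defeqAttrib.useBackward true in
set_option backward.isDefEq.respectTransparency false in
/-- Compatibility of the local descent maps with the transition maps. -/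
lemma t_desc_fst (s : Cocone D) {i j : 𝒰.I₀} (hij : i ⟶ j) :
    d.t hij ≫ ((d.isColimit j).desc ((Over.pullback P ⊤ (𝒰.f j)).mapCocone s)).left ≫
        pullback.fst s.pt.hom (𝒰.f j) =
      ((d.isColimit i).desc ((Over.pullback P ⊤ (𝒰.f i)).mapCocone s)).left ≫
        pullback.fst s.pt.hom (𝒰.f i) := by
  have wj : ((d.isColimit j).desc ((Over.pullback P ⊤ (𝒰.f j)).mapCocone s)).left ≫
      pullback.snd s.pt.hom (𝒰.f j) = (d.cocone j).pt.hom :=
    MorphismProperty.Over.w ((d.isColimit j).desc ((Over.pullback P ⊤ (𝒰.f j)).mapCocone s))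
  have wi : ((d.isColimit i).desc ((Over.pullback P ⊤ (𝒰.f i)).mapCocone s)).left ≫
      pullback.snd s.pt.hom (𝒰.f i) = (d.cocone i).pt.hom :=
    MorphismProperty.Over.w ((d.isColimit i).desc ((Over.pullback P ⊤ (𝒰.f i)).mapCocone s))
  apply d.hom_ext_left' i (𝒰.f i) s.pt
  · rw [Category.assoc, Category.assoc, pullback.condition, reassoc_of% wj, d.t_hom_assoc,
      𝒰.trans_map]
  · rw [Category.assoc, pullback.condition, reassoc_of% wi]
  · intro a
    have hj : ((d.cocone j).ι.app a).left ≫
        ((d.isColimit j).desc ((Over.pullback P ⊤ (𝒰.f j)).mapCocone s)).left =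
        ((Over.pullback P ⊤ (𝒰.f j)).map (s.ι.app a)).left :=
      congr($((d.isColimit j).fac ((Over.pullback P ⊤ (𝒰.f j)).mapCocone s) a).left)
    have hi : ((d.cocone i).ι.app a).left ≫
        ((d.isColimit i).desc ((Over.pullback P ⊤ (𝒰.f i)).mapCocone s)).left =
        ((Over.pullback P ⊤ (𝒰.f i)).map (s.ι.app a)).left :=
      congr($((d.isColimit i).fac ((Over.pullback P ⊤ (𝒰.f i)).mapCocone s) a).left)
    rw [d.ι_t_assoc, reassoc_of% hj, reassoc_of% hi]
    have h1 : ((Over.pullback P ⊤ (𝒰.f j)).map (s.ι.app a)).left ≫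
        pullback.fst s.pt.hom (𝒰.f j) = pullback.fst (D.obj a).hom (𝒰.f j) ≫ (s.ι.app a).left :=
      pullback_map_left_fst' (𝒰.f j) (s.ι.app a)
    have h2 : ((Over.pullback P ⊤ (𝒰.f i)).map (s.ι.app a)).left ≫
        pullback.fst s.pt.hom (𝒰.f i) = pullback.fst (D.obj a).hom (𝒰.f i) ≫ (s.ι.app a).left :=
      pullback_map_left_fst' (𝒰.f i) (s.ι.app a)
    refine Eq.trans ?_ h2.symm
    calc θ hij a ≫ ((Over.pullback P ⊤ (𝒰.f j)).map (s.ι.app a)).left ≫
          pullback.fst s.pt.hom (𝒰.f j)
        = θ hij a ≫ (pullback.fst (D.obj a).hom (𝒰.f j) ≫ (s.ι.app a).left) :=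
          congrArg (θ hij a ≫ ·) h1
      _ = pullback.fst (D.obj a).hom (𝒰.f i) ≫ (s.ι.app a).left := by
          rw [θ_fst_assoc]

set_option backward.defeqAttrib.useBackward true in
set_option backward.isDefEq.respectTransparency false in
/-- The glued cocone is colimiting. -/
noncomputable
def isColimitGluedCocone : IsColimit d.gluedCocone := by
  letI 𝒱 : d.glued.left.OpenCover := d.relativeGluingData.cover
  refine { desc s := ?_, fac := ?_, uniq := ?_ }
  · refine ⟨𝒱.glueMorphismsOverOfLocallyDirected ?_ ?_ ?_, trivial, trivial⟩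
    · intro i
      exact ((d.isColimit i).desc (Functor.mapCocone _ s)).left ≫ pullback.fst _ _
    · intro i j hij
      exact d.t_desc_fst s hij
    · intro i
      have : _ ≫ pullback.snd _ _ = _ := Over.w ((d.isColimit i).desc (Functor.mapCocone _ s))
      simp only [glued, Category.assoc, 𝒱, pullback.condition]
      rw [reassoc_of% this]
      simp
  · intro s a
    let 𝒲 (a : J) : (D.obj a).left.OpenCover := 𝒰.pullback₁ (D.obj a).hom
    ext
    refine (𝒲 a).hom_ext _ _ fun i ↦ ?_
    dsimp
    simp only [Precoverage.ZeroHypercover.pullback₁_toPreZeroHypercover,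
      PreZeroHypercover.pullback₁_f, 𝒲, fst_gluedCocone_ι_assoc]
    change _ ≫ 𝒱.f _ ≫ _ = _
    rw [Scheme.OpenCover.map_glueMorphismsOverOfLocallyDirected_left, ← Over.comp_left_assoc,
      ← Comma.comp_hom]
    simp
  · intro s m hm
    ext
    refine 𝒱.hom_ext _ _ fun i ↦ ?_
    have : (d.pullbackGluedIso i).inv ≫ (Over.pullback P ⊤ (𝒰.f i)).map m =
        (d.isColimit i).desc ((Over.pullback P ⊤ (𝒰.f i)).mapCocone s) := by
      refine (d.isColimit i).hom_ext fun a ↦ ?_
      rw [IsColimit.fac]
      ext
      apply pullback.hom_ext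
      · dsimp
        simp only [Category.assoc, limit.lift_π, PullbackCone.mk_π_app,
          pullbackGluedIso_inv_fst_assoc]
        rw [← congr($(hm a).left)]
        simp [fst_gluedCocone_ι_assoc]
      · simp
    rw [Scheme.OpenCover.map_glueMorphismsOverOfLocallyDirected_left]
    simp [𝒱, ← this]

set_option backward.defeqAttrib.useBackward true in
set_option backward.isDefEq.respectTransparency false in
/-- The restriction of the glued cocone to a member of the cover is the local colimit cocone. -/
noncomputable def mapCoconeGluedIso (i : 𝒰.I₀) :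
    (Over.pullback P ⊤ (𝒰.f i)).mapCocone d.gluedCocone ≅ d.cocone i :=
  Cocone.ext (d.pullbackGluedIso i) (by
    intro a
    rw [← Iso.eq_comp_inv]
    apply MorphismProperty.Over.Hom.ext
    have w : ((d.cocone i).ι.app a).left ≫ (d.cocone i).pt.hom =
        pullback.snd (D.obj a).hom (𝒰.f i) := MorphismProperty.Over.w ((d.cocone i).ι.app a)
    apply pullback.hom_ext
    · have h1 : ((Over.pullback P ⊤ (𝒰.f i)).map (d.gluedCocone.ι.app a)).left ≫
          pullback.fst d.glued.hom (𝒰.f i) =
          pullback.fst (D.obj a).hom (𝒰.f i) ≫ (d.gluedCocone.ι.app a).left :=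
        pullback_map_left_fst' (𝒰.f i) (d.gluedCocone.ι.app a)
      refine h1.trans ?_
      rw [fst_gluedCocone_ι]
      refine Eq.trans ?_ (Category.assoc _ _ _).symm
      exact (congrArg (((d.cocone i).ι.app a).left ≫ ·) (d.pullbackGluedIso_inv_fst i)).symm
    · have h2 : ((Over.pullback P ⊤ (𝒰.f i)).map (d.gluedCocone.ι.app a)).left ≫
          pullback.snd d.glued.hom (𝒰.f i) = pullback.snd (D.obj a).hom (𝒰.f i) := by
        simp
      refine h2.trans ?_
      refine Eq.trans ?_ (Category.assoc _ _ _).symm
      refine Eq.trans w.symm ?_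
      exact (congrArg (((d.cocone i).ι.app a).left ≫ ·) (d.pullbackGluedIso_inv_snd i)).symm)

/-- Base change to a member of the cover preserves the glued colimit. -/
noncomputable def isColimitMapCoconeGlued (i : 𝒰.I₀) :
    IsColimit ((Over.pullback P ⊤ (𝒰.f i)).mapCocone d.gluedCocone) :=
  (d.isColimit i).ofIsoColimit (d.mapCoconeGluedIso i).symm

end CGD

end Groth.Agent.H6.FEtGl
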