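import Mathlib
import Groth.Prelude.Def_FEt
import Groth.Agent.Lib.Helper6.FEtBr2
import Groth.Agent.Lib.Helper6.FEtGl2

/-!
# Finite colimits of finite étale covers of an arbitrary scheme (helper6)
-/

universe u

open CategoryTheory Limits MorphismProperty AlgebraicGeometry

namespace Groth.Agent.H6.FEtGl

open Groth.Agent.H6.FEtBr

instance (X : Scheme.{u}) (U : X.directedAffineCover.I₀) : IsAffine (X.directedAffineCover.X U) :=
  U.2

instance : IsZariskiLocalAtTarget FEt.prop.{u} := inferInstance

variable (X : Scheme.{u}) {J : Type} [SmallCategory J] [FinCategory J] (D : J ⥤ FEt.Cat X)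

/-- The gluing datum for a finite diagram of finite étale covers. -/
noncomputable def cgd : CGD (P := FEt.prop) D X.directedAffineCover where
  cocone i := colimit.cocone (D ⋙ FEt.restrict (X.directedAffineCover.f i))
  isColimit i := colimit.isColimit (D ⋙ FEt.restrict (X.directedAffineCover.f i))
  isColimitTrans {i j} hij :=
    isColimitOfPreserves (FEt.restrict (X.directedAffineCover.trans hij))
      (colimit.isColimit (D ⋙ FEt.restrict (X.directedAffineCover.f j)))

/-- The category of finite étale covers of any scheme has finite colimits. -/
theorem hasFiniteColimits : HasFiniteColimits (FEt.Cat X) :=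
  ⟨fun _ _ _ => ⟨fun D => ⟨⟨⟨(cgd X D).gluedCocone, (cgd X D).isColimitGluedCocone⟩⟩⟩⟩⟩

/-- Restriction to an affine open preserves finite colimits of finite étale covers. -/
theorem preservesColimit_restrict_affineOpen (U : X.affineOpens) :
    PreservesColimit D (FEt.restrict U.1.ι) :=
  preservesColimit_of_preserves_colimit_cocone (cgd X D).isColimitGluedCocone
    ((cgd X D).isColimitMapCoconeGlued U)

end Groth.Agent.H6.FEtGl
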