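import Mathlib
import Groth.Agent.Lib.Helper6.FEtGl3

/-!
# Base change preserves finite colimits of finite étale covers (helper6)
-/

universe u

open CategoryTheory Limits MorphismProperty AlgebraicGeometry

namespace Groth.Agent.H6.FEtGl

open Groth.Agent.H6.FEtBr

set_option backward.defeqAttrib.useBackward true in
set_option backward.isDefEq.respectTransparency false in
/-- Restrictions to the members of an open cover jointly reflect isomorphisms of finite étale
covers. -/
theorem isIso_of_isIso_restrict {X' : Scheme.{u}} (𝒲 : X'.OpenCover) {A B : FEt.Cat X'}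
    (m : A ⟶ B) (h : ∀ k, IsIso ((FEt.restrict (𝒲.f k)).map m)) : IsIso m := by
  suffices hl : IsIso m.left by
    haveI : IsIso ((MorphismProperty.Over.forget FEt.prop ⊤ X' ⋙ Over.forget X').map m) := hl
    exact isIso_of_reflects_iso m (MorphismProperty.Over.forget FEt.prop ⊤ X' ⋙ Over.forget X')
  change MorphismProperty.isomorphisms Scheme.{u} m.left
  rw [IsZariskiLocalAtTarget.iff_of_openCover (P := MorphismProperty.isomorphisms Scheme.{u})
    (𝒲.pullback₁ B.hom)]
  intro k
  change IsIso (pullback.snd m.left (pullback.fst B.hom (𝒲.f k)))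
  have hw : m.left ≫ B.hom = A.hom := MorphismProperty.Over.w m
  have hlift : IsIso ((FEt.restrict (𝒲.f k)).map m).left :=
    inferInstanceAs <| IsIso ((MorphismProperty.Over.forget FEt.prop ⊤ _ ⋙ Over.forget _).map
      ((FEt.restrict (𝒲.f k)).map m))
  have hl1 : ((FEt.restrict (𝒲.f k)).map m).left ≫ pullback.snd B.hom (𝒲.f k) =
      pullback.snd A.hom (𝒲.f k) := by
    simp [FEt.restrict]
  have hl2 : ((FEt.restrict (𝒲.f k)).map m).left ≫ pullback.fst B.hom (𝒲.f k) =
      pullback.fst A.hom (𝒲.f k) ≫ m.left := by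
    simp [FEt.restrict]
  have sq : IsPullback ((FEt.restrict (𝒲.f k)).map m).left (pullback.fst A.hom (𝒲.f k))
      (pullback.fst B.hom (𝒲.f k)) m.left := by
    refine IsPullback.of_right ?_ hl2 (IsPullback.of_hasPullback B.hom (𝒲.f k)).flip
    rw [hl1, hw]
    exact (IsPullback.of_hasPullback A.hom (𝒲.f k)).flip
  have := sq.flip.isoPullback_hom_snd
  rw [← Iso.eq_inv_comp] at this
  rw [this]
  infer_instance

section preserve

variable {X' X : Scheme.{u}} (f : X' ⟶ X) {J : Type} [SmallCategory J] [FinCategory J]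
  (D : J ⥤ FEt.Cat X)

/-- The index set of affine opens of the source mapping into an affine open of the target. -/
def SmallAffine : Type u := {W : X'.affineOpens // ∃ U : X.affineOpens, W.1 ≤ f ⁻¹ᵁ U.1}

theorem isOpenCover_smallAffine :
    TopologicalSpace.IsOpenCover (fun W : SmallAffine f => (W.1.1 : X'.Opens)) := by
  apply TopologicalSpace.IsOpenCover.mk
  rw [eq_top_iff]
  intro x _
  obtain ⟨U, hU, hxU, -⟩ := TopologicalSpace.Opens.isBasis_iff_nbhd.mp X.isBasis_affineOpens
    (show f x ∈ (⊤ : X.Opens) from trivial)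
  obtain ⟨W, hW, hxW, hWU⟩ := TopologicalSpace.Opens.isBasis_iff_nbhd.mp X'.isBasis_affineOpens
    (show x ∈ f ⁻¹ᵁ U from hxU)
  rw [TopologicalSpace.Opens.mem_iSup]
  exact ⟨⟨⟨W, hW⟩, ⟨⟨U, hU⟩, hWU⟩⟩, hxW⟩

/-- Restriction to a small affine open of the source preserves the colimit. -/
theorem preservesColimit_comp_restrict_smallAffine (W : SmallAffine f) :
    PreservesColimit D (FEt.restrict f ⋙ FEt.restrict W.1.1.ι) := by
  obtain ⟨U, hWU⟩ := W.2
  haveI : IsAffine (W.1.1 : X'.Opens).toScheme := W.1.2
  haveI : IsAffine (U.1 : X.Opens).toScheme := U.2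
  let fW : (W.1.1 : X'.Opens).toScheme ⟶ (U.1 : X.Opens).toScheme :=
    IsOpenImmersion.lift U.1.ι (W.1.1.ι ≫ f) (by
      rw [Scheme.Opens.range_ι]
      rintro _ ⟨y, rfl⟩
      exact hWU y.2)
  have comm : fW ≫ U.1.ι = W.1.1.ι ≫ f := IsOpenImmersion.lift_fac _ _ _
  let e : FEt.restrict f ⋙ FEt.restrict W.1.1.ι ≅ FEt.restrict U.1.ι ⋙ FEt.restrict fW :=
    (MorphismProperty.Over.pullbackComp (P := FEt.prop) (Q := ⊤) W.1.1.ι f).symm ≪≫
      MorphismProperty.Over.pullbackCongr comm.symm ≪≫
      MorphismProperty.Over.pullbackComp (P := FEt.prop) (Q := ⊤) fW U.1.ι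
  haveI := preservesColimit_restrict_affineOpen X D U
  haveI : PreservesColimit (D ⋙ FEt.restrict U.1.ι) (FEt.restrict fW) := inferInstance
  haveI : PreservesColimit D (FEt.restrict U.1.ι ⋙ FEt.restrict fW) := inferInstance
  exact preservesColimit_of_natIso D e.symm

/-- Base change along an arbitrary morphism preserves finite colimits of finite étale covers. -/
theorem preservesColimit_restrict : PreservesColimit D (FEt.restrict f) := by
  have hc := (cgd X D).isColimitGluedCocone
  refine preservesColimit_of_preserves_colimit_cocone hc ?_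
  have hc'' := (cgd X' (D ⋙ FEt.restrict f)).isColimitGluedCocone
  haveI : IsIso (hc''.desc ((FEt.restrict f).mapCocone (cgd X D).gluedCocone)) := by
    apply isIso_of_isIso_restrict (X'.openCoverOfIsOpenCover _ (isOpenCover_smallAffine f))
    intro W
    change IsIso ((FEt.restrict W.1.1.ι).map
      (hc''.desc ((FEt.restrict f).mapCocone (cgd X D).gluedCocone)))
    haveI := preservesColimit_restrict_affineOpen X' (D ⋙ FEt.restrict f) W.1
    have hA : IsColimit ((FEt.restrict W.1.1.ι).mapCocone
        (cgd X' (D ⋙ FEt.restrict f)).gluedCocone) := isColimitOfPreserves _ hc''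
    haveI := preservesColimit_comp_restrict_smallAffine f D W
    have hB0 : IsColimit ((FEt.restrict f ⋙ FEt.restrict W.1.1.ι).mapCocone
        (cgd X D).gluedCocone) := isColimitOfPreserves _ hc
    have hB : IsColimit ((FEt.restrict W.1.1.ι).mapCocone
        ((FEt.restrict f).mapCocone (cgd X D).gluedCocone)) :=
      hB0.ofIsoColimit (Functor.mapCoconeMapCocone _).symm
    let φ : (FEt.restrict W.1.1.ι).mapCocone (cgd X' (D ⋙ FEt.restrict f)).gluedCocone ⟶
        (FEt.restrict W.1.1.ι).mapCocone ((FEt.restrict f).mapCocone (cgd X D).gluedCocone) :=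
      (Cocone.functoriality _ (FEt.restrict W.1.1.ι)).map (hc''.descCoconeMorphism _)
    haveI : IsIso φ := IsColimit.hom_isIso hA hB φ
    exact inferInstanceAs (IsIso ((Cocone.forget _).map φ))
  exact IsColimit.ofPointIso hc''

/-- Base change of finite étale covers preserves finite colimits. -/
theorem preservesFiniteColimits_restrict : PreservesFiniteColimits (FEt.restrict f) :=
  ⟨fun _ _ _ => ⟨fun {D} => preservesColimit_restrict f D⟩⟩

end preserve

end Groth.Agent.H6.FEtGl
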