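import Mathlib
import Groth.Agent.Lib.Helper6.FEtGl4

/-!
# Finite limits and colimits of finite étale covers (helper6)
-/

universe u

open CategoryTheory Limits MorphismProperty AlgebraicGeometry

namespace Groth.Agent.H6.FEtGl

instance : FEt.prop.{u}.HasOfPostcompProperty FEt.prop.{u} where
  of_postcomp {X Y Z} f g hg hfg := by
    haveI : IsFinite g := hg.1
    haveI : Etale g := hg.2
    haveI : IsFinite (f ≫ g) := hfg.1
    haveI : Etale (f ≫ g) := hfg.2
    exact ⟨MorphismProperty.of_postcomp (W := @IsFinite) (W' := @IsSeparated) f g inferInstance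
      inferInstance, MorphismProperty.of_postcomp (W := @Etale) (W' := @Etale) f g inferInstance
      inferInstance⟩

theorem hasFiniteLimits (X : Scheme.{u}) : HasFiniteLimits (FEt.Cat X) := inferInstance

theorem preservesFiniteLimits_restrict {X Y : Scheme.{u}} (f : X ⟶ Y) :
    PreservesFiniteLimits (FEt.restrict f) :=
  inferInstanceAs <| PreservesFiniteLimits (MorphismProperty.Over.pullback FEt.prop ⊤ f)

end Groth.Agent.H6.FEtGl
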