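import Mathlib
import Groth.Prelude.Def_FEt

/-!
# Finite étale covers of `Spec R` and finite étale `R`-algebras (helper6)
-/

universe u

open CategoryTheory CategoryTheory.Limits AlgebraicGeometry Opposite

namespace Groth.Agent.H6.FEtGal

variable (R : Type u) [CommRing R]

theorem prop_SpecMap_algebraMap (B : Type u) [CommRing B] [Algebra R B] [Module.Finite R B]
    [Algebra.Etale R B] : FEt.prop (Spec.map (CommRingCat.ofHom (algebraMap R B))) := by
  constructor
  · rw [IsFinite.SpecMap_iff]
    exact RingHom.finite_algebraMap.mpr inferInstance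
  · rw [HasRingHomProperty.Spec_iff (P := @Etale)]
    exact RingHom.etale_algebraMap.mpr inferInstance

/-- `Spec` as a functor from finite étale `R`-algebras to finite étale covers of `Spec R`. -/
noncomputable def specFE :
    (CommAlgCat.FiniteEtale.{u} R)ᵒᵖ ⥤ FEt.Cat (Spec (CommRingCat.of R)) where
  obj B := MorphismProperty.Over.mk ⊤
    (Spec.map (CommRingCat.ofHom (algebraMap R B.unop.obj))) (prop_SpecMap_algebraMap R _)
  map {B B'} g := MorphismProperty.Over.homMk
    (Spec.map (CommRingCat.ofHom g.unop.hom.hom.toRingHom)) (by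
      change Spec.map _ ≫ Spec.map _ = Spec.map _
      rw [← Spec.map_comp, ← CommRingCat.ofHom_comp]
      congr 2
      exact g.unop.hom.hom.comp_algebraMap) trivial
  map_id A := by
    apply MorphismProperty.Over.Hom.ext
    simp
    rfl
  map_comp f g := by
    apply MorphismProperty.Over.Hom.ext
    exact Spec.map_comp (CommRingCat.ofHom g.unop.hom.hom.toRingHom)
      (CommRingCat.ofHom f.unop.hom.hom.toRingHom)

@[simp]
theorem specFE_obj_hom (B : (CommAlgCat.FiniteEtale.{u} R)ᵒᵖ) :
    ((specFE R).obj B).hom = Spec.map (CommRingCat.ofHom (algebraMap R B.unop.obj)) := rfl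

@[simp]
theorem specFE_obj_left (B : (CommAlgCat.FiniteEtale.{u} R)ᵒᵖ) :
    ((specFE R).obj B).left = Spec (CommRingCat.of B.unop.obj) := rfl

@[simp]
theorem specFE_map_left {B B' : (CommAlgCat.FiniteEtale.{u} R)ᵒᵖ} (g : B ⟶ B') :
    ((specFE R).map g).left = Spec.map (CommRingCat.ofHom g.unop.hom.hom.toRingHom) := rfl

/-- The algebra map attached to a morphism of spectra over `Spec R`. -/
noncomputable def algHomOfSpec {B B' : Type u} [CommRing B] [CommRing B'] [Algebra R B]
    [Algebra R B'] (h : Spec (CommRingCat.of B) ⟶ Spec (CommRingCat.of B'))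
    (hw : h ≫ Spec.map (CommRingCat.ofHom (algebraMap R B')) =
      Spec.map (CommRingCat.ofHom (algebraMap R B))) : B' →ₐ[R] B where
  toRingHom := (Spec.preimage h).hom
  commutes' r := by
    have h1 : CommRingCat.ofHom (algebraMap R B') ≫ Spec.preimage h =
        CommRingCat.ofHom (algebraMap R B) := by
      apply Spec.map_injective
      rw [Spec.map_comp, Spec.map_preimage, hw]
    exact congrArg (fun φ => φ.hom r) h1

theorem specMap_algHomOfSpec {B B' : Type u} [CommRing B] [CommRing B'] [Algebra R B]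
    [Algebra R B'] (h : Spec (CommRingCat.of B) ⟶ Spec (CommRingCat.of B'))
    (hw : h ≫ Spec.map (CommRingCat.ofHom (algebraMap R B')) =
      Spec.map (CommRingCat.ofHom (algebraMap R B))) :
    Spec.map (CommRingCat.ofHom (algHomOfSpec R h hw).toRingHom) = h :=
  Spec.map_preimage h

theorem algHomOfSpec_specMap {B B' : Type u} [CommRing B] [CommRing B'] [Algebra R B]
    [Algebra R B'] (φ : B' →ₐ[R] B)
    (hw : Spec.map (CommRingCat.ofHom φ.toRingHom) ≫
      Spec.map (CommRingCat.ofHom (algebraMap R B')) =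
      Spec.map (CommRingCat.ofHom (algebraMap R B))) :
    algHomOfSpec R (Spec.map (CommRingCat.ofHom φ.toRingHom)) hw = φ := by
  apply AlgHom.coe_ringHom_injective
  change (Spec.preimage (Spec.map (CommRingCat.ofHom φ.toRingHom))).hom = φ.toRingHom
  rw [Spec.preimage_map]
  rfl

noncomputable def specFEFullyFaithful : (specFE R).FullyFaithful where
  preimage {B B'} h := Quiver.Hom.op
    { hom := CommAlgCat.ofHom (algHomOfSpec R (h.left :
        Spec (CommRingCat.of B.unop.obj) ⟶ Spec (CommRingCat.of B'.unop.obj))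
        (MorphismProperty.Over.w h)) }
  map_preimage {B B'} h := by
    apply MorphismProperty.Over.Hom.ext
    exact specMap_algHomOfSpec R (h.left :
        Spec (CommRingCat.of B.unop.obj) ⟶ Spec (CommRingCat.of B'.unop.obj))
        (MorphismProperty.Over.w h)
  preimage_map {B B'} g := by
    apply Quiver.Hom.unop_inj
    apply ObjectProperty.hom_ext
    apply CommAlgCat.hom_ext
    exact algHomOfSpec_specMap R g.unop.hom.hom (MorphismProperty.Over.w ((specFE R).map g))

instance : (specFE R).Full := (specFEFullyFaithful R).full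
instance : (specFE R).Faithful := (specFEFullyFaithful R).faithful

instance : (specFE R).EssSurj where
  mem_essImage Y := by
    let f : Y.left ⟶ Spec (CommRingCat.of R) := Y.hom
    haveI : IsFinite f := Y.prop.1
    haveI : Etale f := Y.prop.2
    haveI : IsAffine Y.left := isAffine_of_isAffineHom f
    let φ : CommRingCat.of R ⟶ Γ(Y.left, ⊤) := (Scheme.ΓSpecIso (CommRingCat.of R)).inv ≫ f.appTop
    letI : Algebra R Γ(Y.left, ⊤) := φ.hom.toAlgebra
    have hφ : CommRingCat.ofHom (algebraMap R Γ(Y.left, ⊤)) = φ := rfl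
    have hfin : φ.hom.Finite := by
      have h1 : f.appTop.hom.Finite := f.finite_appTop
      have h2 : (Scheme.ΓSpecIso (CommRingCat.of R)).inv.hom.Finite :=
        RingHom.Finite.of_surjective _
          (ConcreteCategory.bijective_of_isIso (Scheme.ΓSpecIso (CommRingCat.of R)).inv).2
      exact h1.comp h2
    have het : φ.hom.Etale := by
      have h1 : f.appTop.hom.Etale := HasRingHomProperty.appTop (P := @Etale) f inferInstance
      have h2 : (Scheme.ΓSpecIso (CommRingCat.of R)).inv.hom.Etale :=
        RingHom.Etale.of_bijective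
          (ConcreteCategory.bijective_of_isIso (Scheme.ΓSpecIso (CommRingCat.of R)).inv)
      exact RingHom.Etale.stableUnderComposition _ _ h2 h1
    haveI : Module.Finite R Γ(Y.left, ⊤) := RingHom.finite_algebraMap.mp hfin
    haveI : Algebra.Etale R Γ(Y.left, ⊤) := RingHom.etale_algebraMap.mp het
    refine ⟨op (CommAlgCat.FiniteEtale.of R Γ(Y.left, ⊤)), ⟨?_⟩⟩
    refine MorphismProperty.Over.isoMk Y.left.isoSpec.symm ?_
    change Y.left.isoSpec.inv ≫ f = Spec.map (CommRingCat.ofHom (algebraMap R Γ(Y.left, ⊤)))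
    rw [hφ, Iso.inv_comp_eq, Spec.map_comp, ← Category.assoc, Scheme.isoSpec_hom_naturality,
      Category.assoc, Scheme.isoSpec_Spec_hom, ← Spec.map_comp, Iso.inv_hom_id, Spec.map_id,
      Category.comp_id]

instance : (specFE R).IsEquivalence where

section Fiber

variable {R} {Ω : Type u} [Field Ω] [Algebra R Ω]

/-- `R`-algebra maps `B → Ω` are the `Ω`-points of `Spec B` over the point `Spec Ω → Spec R`. -/
noncomputable def algHomEquivFiberObj (ξ₀ : Spec (CommRingCat.of Ω) ⟶ Spec (CommRingCat.of R))
    (hξ₀ : ξ₀ = Spec.map (CommRingCat.ofHom (algebraMap R Ω)))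
    (B : (CommAlgCat.FiniteEtale.{u} R)ᵒᵖ) :
    (B.unop.obj →ₐ[R] Ω) ≃ FEt.fiberObj ξ₀ ((specFE R).obj B) where
  toFun φ := ⟨Spec.map (CommRingCat.ofHom φ.toRingHom), by
    rw [hξ₀]
    change Spec.map _ ≫ Spec.map _ = Spec.map _
    rw [← Spec.map_comp, ← CommRingCat.ofHom_comp]
    congr 2
    exact φ.comp_algebraMap⟩
  invFun s := algHomOfSpec R (s.1 : Spec (CommRingCat.of Ω) ⟶ Spec (CommRingCat.of B.unop.obj))
    (by rw [← hξ₀]; exact s.2)
  left_inv φ := algHomOfSpec_specMap R φ _
  right_inv s := Subtype.ext (specMap_algHomOfSpec R _ _)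

/-- The fibre functor on finite étale covers of `Spec R` is the algebraic fibre functor. -/
noncomputable def fiberIso (ξ₀ : Spec (CommRingCat.of Ω) ⟶ Spec (CommRingCat.of R))
    (hξ₀ : ξ₀ = Spec.map (CommRingCat.ofHom (algebraMap R Ω))) :
    CommAlgCat.FiniteEtale.fiber.{u} R Ω ⋙ FintypeCat.incl ≅ specFE R ⋙ FEt.fiber ξ₀ :=
  NatIso.ofComponents (fun B => (algHomEquivFiberObj ξ₀ hξ₀ B).toIso) (by
    intro B B' g
    ext φ
    apply Subtype.ext
    exact Spec.map_comp (CommRingCat.ofHom g.unop.hom.hom.toRingHom)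
      (CommRingCat.ofHom (AlgHom.toRingHom φ)))

end Fiber

end Groth.Agent.H6.FEtGal
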