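import Mathlib
import Groth.Prelude.Def_FEt
import Groth.Agent.Lib.Helper6.FEtGal1

/-!
# The fibre functor and base change; finite étale covers of an algebraically closed point
(helper6)
-/

universe u

open CategoryTheory CategoryTheory.Limits AlgebraicGeometry Opposite

namespace Groth.Agent.H6.FEtGal

/-- Equal geometric points give isomorphic fibre functors. -/
noncomputable def fiberCongr {X : Scheme.{u}} {Ω : Type u} [Field Ω]
    {ξ ξ' : Spec (CommRingCat.of Ω) ⟶ X} (h : ξ = ξ') : FEt.fiber ξ ≅ FEt.fiber ξ' :=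
  eqToIso (by rw [h])

set_option backward.defeqAttrib.useBackward true in
set_option backward.isDefEq.respectTransparency false in
/-- The fibre of the base change at a point `ξ'` of `X'` is the fibre at its image. -/
noncomputable def restrictFiberEquiv {X X' : Scheme.{u}} (f : X' ⟶ X) {Ω : Type u} [Field Ω]
    (ξ' : Spec (CommRingCat.of Ω) ⟶ X') (ξ : Spec (CommRingCat.of Ω) ⟶ X) (h : ξ' ≫ f = ξ)
    (Y : FEt.Cat X) : FEt.fiberObj ξ' ((FEt.restrict f).obj Y) ≃ FEt.fiberObj ξ Y where
  toFun s := ⟨(s.1 : Spec (CommRingCat.of Ω) ⟶ pullback Y.hom f) ≫ pullback.fst Y.hom f, by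
    have h2 : (s.1 : Spec (CommRingCat.of Ω) ⟶ pullback Y.hom f) ≫ pullback.snd Y.hom f = ξ' :=
      s.2
    rw [Category.assoc, pullback.condition, ← Category.assoc, h2, h]⟩
  invFun t := ⟨(pullback.lift t.1 ξ' (by rw [t.2, h]) :
      Spec (CommRingCat.of Ω) ⟶ pullback Y.hom f), pullback.lift_snd _ _ _⟩
  left_inv s := by
    apply Subtype.ext
    apply pullback.hom_ext
    · exact pullback.lift_fst _ _ _
    · exact (pullback.lift_snd _ _ _).trans s.2.symm
  right_inv t := Subtype.ext (pullback.lift_fst _ _ _)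

set_option backward.defeqAttrib.useBackward true in
set_option backward.isDefEq.respectTransparency false in
/-- The fibre functor commutes with base change. -/
noncomputable def restrictFiberIso {X X' : Scheme.{u}} (f : X' ⟶ X) {Ω : Type u} [Field Ω]
    (ξ' : Spec (CommRingCat.of Ω) ⟶ X') (ξ : Spec (CommRingCat.of Ω) ⟶ X) (h : ξ' ≫ f = ξ) :
    FEt.restrict f ⋙ FEt.fiber ξ' ≅ FEt.fiber ξ :=
  NatIso.ofComponents (fun Y => (restrictFiberEquiv f ξ' ξ h Y).toIso) (by
    intro Y Y' φ
    ext s
    apply Subtype.ext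
    change ((s.1 : Spec (CommRingCat.of Ω) ⟶ pullback Y.hom f) ≫
      ((FEt.restrict f).map φ).left) ≫ pullback.fst Y'.hom f =
      ((s.1 : Spec (CommRingCat.of Ω) ⟶ pullback Y.hom f) ≫ pullback.fst Y.hom f) ≫ φ.left
    rw [Category.assoc, Category.assoc]
    congr 1
    simp [FEt.restrict])

section Point

variable (Ω : Type u) [Field Ω] [IsSepClosed Ω]

/-- Finite étale covers of the spectrum of a separably closed field are finite sets. -/
noncomputable def pointFunctor : FEt.Cat (Spec (CommRingCat.of Ω)) ⥤ FintypeCat.{u} :=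
  (specFE Ω).inv ⋙ CommAlgCat.FiniteEtale.fiber.{u} Ω Ω

instance : (pointFunctor Ω).IsEquivalence := by
  unfold pointFunctor
  infer_instance

theorem id_eq_specMap_algebraMap :
    𝟙 (Spec (CommRingCat.of Ω)) = Spec.map (CommRingCat.ofHom (algebraMap Ω Ω)) := by
  rw [Algebra.algebraMap_self]
  exact (Spec.map_id _).symm

/-- The underlying set of `pointFunctor` is the set of sections. -/
noncomputable def pointFunctorIso :
    pointFunctor Ω ⋙ FintypeCat.incl ≅ FEt.fiber (𝟙 (Spec (CommRingCat.of Ω))) :=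
  Functor.associator _ _ _ ≪≫
    Functor.isoWhiskerLeft (specFE Ω).inv (fiberIso (𝟙 _) (id_eq_specMap_algebraMap Ω)) ≪≫
    (Functor.associator _ _ _).symm ≪≫
    Functor.isoWhiskerRight (specFE Ω).asEquivalence.counitIso _ ≪≫ Functor.leftUnitor _

end Point

section GeomPoint

variable {X : Scheme.{u}} {Ω : Type u} [Field Ω] [IsSepClosed Ω]
  (ξ : Spec (CommRingCat.of Ω) ⟶ X)

/-- The fibre functor at a geometric point, with values in finite sets. -/
noncomputable def fiberFin : FEt.Cat X ⥤ FintypeCat.{u} :=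
  FEt.restrict ξ ⋙ pointFunctor Ω

/-- `fiberFin` lifts the fibre functor `FEt.fiber`. -/
noncomputable def fiberFinIso : fiberFin ξ ⋙ FintypeCat.incl ≅ FEt.fiber ξ :=
  Functor.associator _ _ _ ≪≫ Functor.isoWhiskerLeft (FEt.restrict ξ) (pointFunctorIso Ω) ≪≫
    restrictFiberIso ξ (𝟙 _) ξ (Category.id_comp ξ)

end GeomPoint

end Groth.Agent.H6.FEtGal
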