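import Mathlib
import Groth.Prelude.Def_FEt
import Groth.Agent.Lib.Helper6.FEtGal2
import Groth.Agent.Lib.Helper6.FEtFin1

/-!
# Monomorphisms of finite étale covers are inclusions of direct summands (helper6)
-/

universe u

open CategoryTheory CategoryTheory.Limits AlgebraicGeometry Opposite

namespace Groth.Agent.H6.FEtGal

open Groth.Agent.H6.FEtGl

section Exact

variable {X : Scheme.{u}} {Ω : Type u} [Field Ω] [IsSepClosed Ω]
  (ξ : Spec (CommRingCat.of Ω) ⟶ X)

theorem preservesFiniteLimits_fiberFin : PreservesFiniteLimits (fiberFin ξ) := by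
  haveI := preservesFiniteLimits_restrict ξ
  unfold fiberFin
  infer_instance

theorem preservesFiniteColimits_fiberFin : PreservesFiniteColimits (fiberFin ξ) := by
  haveI := preservesFiniteColimits_restrict ξ
  unfold fiberFin
  infer_instance

end Exact

section Mono

variable {X : Scheme.{u}}

theorem mono_left {A B : FEt.Cat X} (i : A ⟶ B) [Mono i] : Mono i.left := by
  haveI : Mono ((MorphismProperty.Over.forget FEt.prop ⊤ X).map i) := inferInstance
  exact inferInstanceAs (Mono ((Over.forget X).map ((MorphismProperty.Over.forget FEt.prop ⊤ X).map i)))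

theorem prop_left {A B : FEt.Cat X} (i : A ⟶ B) : FEt.prop i.left :=
  MorphismProperty.of_postcomp (W := FEt.prop) (W' := FEt.prop) i.left B.hom B.prop
    (by rw [MorphismProperty.Over.w]; exact A.prop)

/-- A monomorphism of finite étale covers is the inclusion of a direct summand. -/
theorem exists_complement {A B : FEt.Cat X} (i : A ⟶ B) [Mono i] :
    ∃ (Z : FEt.Cat X) (u : Z ⟶ B), Nonempty (IsColimit (BinaryCofan.mk i u)) := by
  haveI : Mono i.left := mono_left i
  have hi : FEt.prop i.left := prop_left i
  haveI : IsFinite i.left := hi.1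
  haveI : Etale i.left := hi.2
  haveI : IsOpenImmersion i.left := IsOpenImmersion.of_flat_of_mono i.left
  have hclosed : IsClosed (Set.range i.left) := i.left.isClosedMap.isClosed_range
  let Zo : B.left.Opens := ⟨(Set.range i.left)ᶜ, hclosed.isOpen_compl⟩
  haveI : IsClosedImmersion Zo.ι := IsClosedImmersion.of_isPreimmersion Zo.ι (by
    rw [Scheme.Opens.range_ι]
    exact isClosed_compl_iff.mpr i.left.isOpenEmbedding.isOpen_range)
  haveI : IsFinite B.hom := B.prop.1
  haveI : Etale B.hom := B.prop.2
  let Z : FEt.Cat X := MorphismProperty.Over.mk ⊤ (Zo.ι ≫ B.hom) ⟨inferInstance, inferInstance⟩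
  let u : Z ⟶ B := MorphismProperty.Over.homMk Zo.ι rfl trivial
  refine ⟨Z, u, ?_⟩
  obtain ⟨hc⟩ := nonempty_isColimit_binaryCofanMk_of_isCompl i.left Zo.ι (by
    rw [Scheme.Opens.opensRange_ι]
    rw [isCompl_iff, disjoint_iff, codisjoint_iff]
    constructor
    · ext x
      simp [Zo]
    · ext x
      simp [Zo])
  let G : FEt.Cat X ⥤ Scheme.{u} := MorphismProperty.Over.forget FEt.prop ⊤ X ⋙ Over.forget X
  exact ⟨isColimitOfReflects G ((isColimitMapCoconeBinaryCofanEquiv G i u).symm hc)⟩

end Mono

end Groth.Agent.H6.FEtGal
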