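import Mathlib
import Groth.Prelude.Def_FEt
import Groth.Agent.Lib.Helper6.FEtGal3
import Groth.Agent.Lib.Helper9.Misc.FEtConn

/-!
# The fibre functor of a connected scheme is conservative (helper6)
-/

universe u

open CategoryTheory CategoryTheory.Limits AlgebraicGeometry Opposite

namespace Groth.Agent.H6.FEtGal

section Nonempty

variable {X : Scheme.{u}} {Ω : Type u} [Field Ω] [IsSepClosed Ω]
  (ξ : Spec (CommRingCat.of Ω) ⟶ X)

/-- A nonempty finite étale cover of the spectrum of a separably closed field has a section. -/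
theorem nonempty_fiberObj_id (P : FEt.Cat (Spec (CommRingCat.of Ω))) [Nonempty P.left] :
    Nonempty (FEt.fiberObj (𝟙 (Spec (CommRingCat.of Ω))) P) := by
  obtain ⟨p⟩ := ‹Nonempty P.left›
  let Bop := (specFE Ω).objPreimage P
  let e : (specFE Ω).obj Bop ≅ P := (specFE Ω).objObjPreimageIso P
  let q : PrimeSpectrum Bop.unop.obj := (e.inv.left : P.left ⟶ Spec (CommRingCat.of Bop.unop.obj)) p
  let φ : Bop.unop.obj →ₐ[Ω] Ω := (Algebra.IsFiniteSplit.algHomEquivPrimeSpectrum Ω _).symm q
  let s := algHomEquivFiberObj (𝟙 _) (id_eq_specMap_algebraMap Ω) Bop φ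
  exact ⟨(FEt.fiber (𝟙 (Spec (CommRingCat.of Ω)))).map e.hom s⟩

/-- A nonempty finite étale cover of a connected scheme has nonempty geometric fibres. -/
theorem nonempty_fiberObj [ConnectedSpace X] (Z : FEt.Cat X) [Nonempty Z.left] :
    Nonempty (FEt.fiberObj ξ Z) := by
  obtain ⟨z⟩ := ‹Nonempty Z.left›
  let f : Z.left ⟶ X := Z.hom
  haveI : IsFinite f := Z.prop.1
  haveI : Etale f := Z.prop.2
  obtain ⟨pt⟩ : Nonempty (Spec (CommRingCat.of Ω)) := inferInstance
  obtain ⟨z', hz', -⟩ := Groth.Agent.H9.FEtConn.main f (ξ pt) z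
  obtain ⟨p, -, -⟩ := Scheme.Pullback.exists_preimage_pullback (f := f) (g := ξ) z' pt hz'
  haveI : Nonempty ((FEt.restrict ξ).obj Z).left := ⟨p⟩
  obtain ⟨s'⟩ := nonempty_fiberObj_id ((FEt.restrict ξ).obj Z)
  exact ⟨restrictFiberEquiv ξ (𝟙 _) ξ (Category.id_comp ξ) Z s'⟩

end Nonempty

section Cat

universe v w u'

variable {C : Type u'} [Category.{v} C] [HasPullbacks C]
  (F : C ⥤ FintypeCat.{w}) [PreservesLimitsOfShape WalkingCospan F]
  [PreservesColimitsOfShape (Discrete WalkingPair) F]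

/-- The first inclusion of a coproduct with an initial object is an isomorphism. -/
theorem isIso_inl_of_isInitial {A B Z : C} {i : A ⟶ B} {u : Z ⟶ B}
    (hc : IsColimit (BinaryCofan.mk i u)) (hZ : IsInitial Z) : IsIso i := by
  refine ⟨hc.desc (BinaryCofan.mk (𝟙 A) (hZ.to A)), hc.fac _ ⟨WalkingPair.left⟩, ?_⟩
  apply BinaryCofan.IsColimit.hom_ext hc
  · change i ≫ hc.desc (BinaryCofan.mk (𝟙 A) (hZ.to A)) ≫ i = i ≫ 𝟙 B
    have h1 : i ≫ hc.desc (BinaryCofan.mk (𝟙 A) (hZ.to A)) = 𝟙 A := hc.fac _ ⟨WalkingPair.left⟩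
    exact ((Category.assoc _ _ _).symm.trans (congrArg (· ≫ i) h1)).trans
      ((Category.id_comp i).trans (Category.comp_id i).symm)
  · exact hZ.hom_ext _ _

include F in
/-- A monomorphic direct summand inducing a bijection on fibres is an isomorphism, provided
objects with empty fibre are initial. -/
theorem isIso_of_mono_of_isIso_map
    (hemp : ∀ Z : C, IsEmpty (F.obj Z) → Nonempty (IsInitial Z))
    {A B Z : C} (i : A ⟶ B) (u : Z ⟶ B) (hc : IsColimit (BinaryCofan.mk i u))
    [IsIso (F.map i)] : IsIso i := by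
  let G := F ⋙ FintypeCat.incl
  have hc' : IsColimit (BinaryCofan.mk (G.map i) (G.map u)) :=
    isColimitMapCoconeBinaryCofanEquiv G i u (isColimitOfPreserves G hc)
  obtain ⟨-, -, h3⟩ := (Types.binaryCofan_isColimit_iff _).mp ⟨hc'⟩
  have hbij : Function.Bijective (F.map i) :=
    (ConcreteCategory.isIso_iff_bijective (F.map i)).mp inferInstance
  have hempty : IsEmpty (F.obj Z) := by
    refine ⟨fun z => ?_⟩
    obtain ⟨a, ha⟩ := hbij.2 (F.map u z)
    have h4 : (F.map u z) ∈ Set.range (BinaryCofan.mk (G.map i) (G.map u)).inl ⊓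
        Set.range (BinaryCofan.mk (G.map i) (G.map u)).inr := ⟨⟨a, ha⟩, ⟨z, rfl⟩⟩
    rw [h3.inf_eq_bot] at h4
    exact h4
  obtain ⟨hZ⟩ := hemp Z hempty
  exact isIso_inl_of_isInitial hc hZ

include F in
/-- A functor to finite sets preserving pullbacks and binary coproducts reflects isomorphisms as
soon as objects with empty fibre are initial and monomorphisms are direct summands. -/
theorem isIso_of_isIso_map
    (hsum : ∀ {A B : C} (i : A ⟶ B) [Mono i],
      ∃ (Z : C) (u : Z ⟶ B), Nonempty (IsColimit (BinaryCofan.mk i u)))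
    (hemp : ∀ Z : C, IsEmpty (F.obj Z) → Nonempty (IsInitial Z))
    {A B : C} (m : A ⟶ B) [IsIso (F.map m)] : IsIso m := by
  have h1 : IsIso (pullback.fst (F.map m) (F.map m)) := isIso_fst_of_mono (F.map m)
  have h2 : IsIso (F.map (pullback.fst m m)) := by
    rw [← PreservesPullback.iso_hom_fst]
    exact IsIso.comp_isIso
  have h3 : F.map (pullback.diagonal m) ≫ F.map (pullback.fst m m) = 𝟙 _ := by
    rw [← F.map_comp, pullback.diagonal_fst, F.map_id]
  haveI : IsIso (F.map (pullback.diagonal m)) := by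
    have : F.map (pullback.diagonal m) = inv (F.map (pullback.fst m m)) :=
      (IsIso.eq_inv_of_inv_hom_id h3)
    rw [this]
    infer_instance
  obtain ⟨Z, u, ⟨hc⟩⟩ := hsum (pullback.diagonal m)
  haveI : IsIso (pullback.diagonal m) := isIso_of_mono_of_isIso_map F hemp _ u hc
  haveI : Mono m := (pullback.isIso_diagonal_iff m).mp inferInstance
  obtain ⟨Z', u', ⟨hc'⟩⟩ := hsum m
  exact isIso_of_mono_of_isIso_map F hemp m u' hc'

end Cat

end Groth.Agent.H6.FEtGal
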