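import Mathlib
import Groth.Prelude.Def_FEt
import Groth.Agent.Lib.Helper6.FEtGal4

/-!
# Finite étale covers of a connected scheme form a Galois category (helper6)
-/

universe u

open CategoryTheory CategoryTheory.Limits AlgebraicGeometry Opposite

namespace Groth.Agent.H6.FEtGal

open Groth.Agent.H6.FEtGl

/-- A finite étale cover with empty total space is an initial object. -/
noncomputable def isInitialOfIsEmptyLeft {X : Scheme.{u}} (Z : FEt.Cat X) [IsEmpty Z.left] :
    IsInitial Z :=
  IsInitial.ofUniqueHom
    (fun Y => MorphismProperty.Over.homMk ((isInitialOfIsEmpty (X := Z.left)).to Y.left)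
      ((isInitialOfIsEmpty (X := Z.left)).hom_ext _ _) trivial)
    (fun Y m => MorphismProperty.Over.Hom.ext ((isInitialOfIsEmpty (X := Z.left)).hom_ext _ _))

theorem hasColimitsOfShape_singleObj (X : Scheme.{u}) (G : Type u) [Group G] [Finite G] :
    HasColimitsOfShape (SingleObj G) (FEt.Cat X) := by
  haveI := hasFiniteColimits X
  obtain ⟨G', hg, hf, ⟨e⟩⟩ := Finite.exists_type_univ_nonempty_mulEquiv G
  exact Limits.hasColimitsOfShape_of_equivalence e.toSingleObjEquiv.symm

/-- Finite étale covers of any scheme form a pre-Galois category. -/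
theorem preGaloisCategory (X : Scheme.{u}) : PreGaloisCategory (FEt.Cat X) := by
  haveI := hasFiniteColimits X
  haveI := hasFiniteLimits X
  exact
  { hasTerminal := inferInstance
    hasPullbacks := inferInstance
    hasFiniteCoproducts := inferInstance
    hasQuotientsByFiniteGroups := fun G _ _ => hasColimitsOfShape_singleObj X G
    monoInducesIsoOnDirectSummand := fun i _ => exists_complement i }

section Fiber

variable {X : Scheme.{u}} [ConnectedSpace X] {Ω : Type u} [Field Ω] [IsSepClosed Ω]
  (ξ : Spec (CommRingCat.of Ω) ⟶ X)

theorem nonempty_isInitial_of_isEmpty_fiberFin (Z : FEt.Cat X) (h : IsEmpty ((fiberFin ξ).obj Z)) :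
    Nonempty (IsInitial Z) := by
  have h1 : IsEmpty Z.left := by
    by_contra hne
    rw [not_isEmpty_iff] at hne
    obtain ⟨s⟩ := nonempty_fiberObj ξ Z
    exact h.elim (((fiberFinIso ξ).app Z).inv s)
  exact ⟨isInitialOfIsEmptyLeft Z⟩

theorem reflectsIsomorphisms_fiberFin : (fiberFin ξ).ReflectsIsomorphisms := by
  haveI := preservesFiniteLimits_fiberFin ξ
  haveI := preservesFiniteColimits_fiberFin ξ
  refine ⟨fun {A B} m hm => ?_⟩
  exact isIso_of_isIso_map (fiberFin ξ) (fun i _ => exists_complement i)
    (nonempty_isInitial_of_isEmpty_fiberFin ξ) m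

/-- The fibre functor at a geometric point of a connected scheme is a fibre functor in the sense
of Galois categories. -/
theorem fiberFunctor_fiberFin :
    @PreGaloisCategory.FiberFunctor (FEt.Cat X) _ (preGaloisCategory X) (fiberFin ξ) := by
  haveI := preservesFiniteLimits_fiberFin ξ
  haveI := preservesFiniteColimits_fiberFin ξ
  letI := preGaloisCategory X
  exact
  { preservesTerminalObjects := inferInstance
    preservesPullbacks := inferInstance
    preservesFiniteCoproducts := inferInstance
    preservesEpis := preservesEpimorphisms_of_preservesColimitsOfShape _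
    preservesQuotientsByFiniteGroups := fun G _ _ => by
      obtain ⟨G', hg, hf, ⟨e⟩⟩ := Finite.exists_type_univ_nonempty_mulEquiv G
      exact Limits.preservesColimitsOfShape_of_equiv e.toSingleObjEquiv.symm _
    reflectsIsos := reflectsIsomorphisms_fiberFin ξ }

end Fiber

end Groth.Agent.H6.FEtGal
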