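import Mathlib
import Groth.Prelude.Def_FEt
import Groth.Agent.Lib.Helper6.FEtGal5
import Groth.Agent.S0266

/-!
# Independence of the base point for the fibre functor on finite étale covers (helper6)
-/

universe u

open CategoryTheory CategoryTheory.Limits AlgebraicGeometry Opposite

namespace Groth.Agent.H6.FEtGal

variable {X : Scheme.{u}} [ConnectedSpace X] {Ω Ω' : Type u} [Field Ω] [IsSepClosed Ω]
  [Field Ω'] [IsSepClosed Ω']
  (ξ : Spec (CommRingCat.of Ω) ⟶ X) (ξ' : Spec (CommRingCat.of Ω') ⟶ X)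

include ξ in
/-- Finite étale covers of a connected scheme with a geometric point form a Galois category. -/
theorem galoisCategory : GaloisCategory (FEt.Cat X) :=
  { toPreGaloisCategory := preGaloisCategory X
    hasFiberFunctor := ⟨fiberFin ξ, ⟨fiberFunctor_fiberFin ξ⟩⟩ }

theorem nonempty_fiberFin_iso : Nonempty (fiberFin ξ' ≅ fiberFin ξ) := by
  letI := galoisCategory ξ
  haveI : PreGaloisCategory.FiberFunctor (fiberFin ξ) := fiberFunctor_fiberFin ξ
  haveI := preservesFiniteLimits_fiberFin ξ'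
  haveI := preservesFiniteColimits_fiberFin ξ'
  exact Groth.Agent.S0266.result (fiberFin ξ) (fiberFin ξ')

/-- The fibre functors at two geometric points of a connected scheme are isomorphic. -/
theorem nonempty_fiber_iso : Nonempty (FEt.fiber ξ ≅ FEt.fiber ξ') := by
  obtain ⟨e⟩ := nonempty_fiberFin_iso ξ' ξ
  exact ⟨(fiberFinIso ξ).symm ≪≫ Functor.isoWhiskerRight e FintypeCat.incl ≪≫ fiberFinIso ξ'⟩

/-- Every morphism between fibre functors of a connected scheme is an isomorphism. -/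
theorem isIso_fiber_hom (φ : FEt.fiber ξ ⟶ FEt.fiber ξ') : IsIso φ := by
  letI := galoisCategory ξ
  haveI : PreGaloisCategory.FiberFunctor (fiberFin ξ) := fiberFunctor_fiberFin ξ
  obtain ⟨e⟩ := nonempty_fiberFin_iso ξ ξ'
  let ψ : fiberFin ξ ⋙ FintypeCat.incl ⟶ fiberFin ξ' ⋙ FintypeCat.incl :=
    (fiberFinIso ξ).hom ≫ φ ≫ (fiberFinIso ξ').inv
  let hW := Functor.FullyFaithful.whiskeringRight
    (Functor.FullyFaithful.ofFullyFaithful FintypeCat.incl.{u}) (FEt.Cat X)
  let ψ₀ : fiberFin ξ ⟶ fiberFin ξ' := hW.preimage ψ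
  have hψ₀ : Functor.whiskerRight ψ₀ FintypeCat.incl = ψ := hW.map_preimage ψ
  have h1 : IsIso (ψ₀ ≫ e.hom) := PreGaloisCategory.FibreFunctor.end_isIso (fiberFin ξ) _
  have h2 : IsIso ψ₀ := by
    have : ψ₀ = (ψ₀ ≫ e.hom) ≫ e.inv := by simp
    rw [this]
    infer_instance
  have h3 : IsIso ψ := by
    rw [← hψ₀]
    infer_instance
  have h4 : φ = (fiberFinIso ξ).inv ≫ ψ ≫ (fiberFinIso ξ').hom := by
    simp [ψ]
  rw [h4]
  infer_instance

end Groth.Agent.H6.FEtGal
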