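import Mathlib
import Groth.Prelude.Def_FEt
import Groth.Agent.Lib.Helper6.FEtGal6

/-!
# Connected objects of the Galois category of finite étale covers (helper6)
-/

universe u

open CategoryTheory CategoryTheory.Limits AlgebraicGeometry Opposite

namespace Groth.Agent.H6.FEtGal

open PreGaloisCategory

variable {X : Scheme.{u}}

/-- A morphism of finite étale covers which is an isomorphism of schemes is an isomorphism. -/
theorem isIso_of_isIso_left {A B : FEt.Cat X} (i : A ⟶ B) [IsIso i.left] : IsIso i := by
  let G : FEt.Cat X ⥤ Scheme.{u} := MorphismProperty.Over.forget FEt.prop ⊤ X ⋙ Over.forget X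
  haveI : IsIso (G.map i) := inferInstanceAs (IsIso i.left)
  exact isIso_of_reflects_iso i G

theorem mono_of_mono_left {A B : FEt.Cat X} (i : A ⟶ B) [Mono i.left] : Mono i := by
  let G : FEt.Cat X ⥤ Scheme.{u} := MorphismProperty.Over.forget FEt.prop ⊤ X ⋙ Over.forget X
  haveI : Mono (G.map i) := inferInstanceAs (Mono i.left)
  exact G.mono_of_mono_map inferInstance

section

variable [ConnectedSpace X] {Ω : Type u} [Field Ω] [IsSepClosed Ω]
  (ξ : Spec (CommRingCat.of Ω) ⟶ X)

include ξ in
theorem nonempty_left_iff_not_isInitial (Z : FEt.Cat X) :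
    Nonempty Z.left ↔ (IsInitial Z → False) := by
  letI := galoisCategory ξ
  haveI : FiberFunctor (fiberFin ξ) := fiberFunctor_fiberFin ξ
  rw [not_initial_iff_fiber_nonempty (fiberFin ξ) Z]
  constructor
  · intro h
    obtain ⟨s⟩ := nonempty_fiberObj ξ Z
    exact ⟨((fiberFinIso ξ).app Z).inv s⟩
  · rintro ⟨z⟩
    have s : FEt.fiberObj ξ Z := ((fiberFinIso ξ).app Z).hom z
    obtain ⟨pt⟩ : Nonempty (Spec (CommRingCat.of Ω)) := inferInstance
    exact ⟨s.1 pt⟩

include ξ in
/-- A finite étale cover with connected total space is a connected object. -/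
theorem isConnected_of_connectedSpace (Y : FEt.Cat X) [ConnectedSpace Y.left] :
    @IsConnected (FEt.Cat X) _ Y := by
  refine ⟨(nonempty_left_iff_not_isInitial ξ Y).mp inferInstance, fun Z i _ hZ => ?_⟩
  obtain ⟨z⟩ := (nonempty_left_iff_not_isInitial ξ Z).mpr hZ
  haveI : Mono i.left := mono_left i
  have hi : FEt.prop i.left := prop_left i
  haveI : IsFinite i.left := hi.1
  haveI : Etale i.left := hi.2
  haveI : IsOpenImmersion i.left := IsOpenImmersion.of_flat_of_mono i.left
  have hclopen : IsClopen (Set.range i.left) :=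
    ⟨i.left.isClosedMap.isClosed_range, i.left.isOpenEmbedding.isOpen_range⟩
  have huniv : Set.range i.left = Set.univ := hclopen.eq_univ ⟨_, ⟨z, rfl⟩⟩
  haveI : Surjective i.left := ⟨Set.range_eq_univ.mp huniv⟩
  haveI : IsIso i.left := Flat.isIso_of_surjective_of_mono i.left
  exact isIso_of_isIso_left i

include ξ in
/-- The total space of a connected object is connected. -/
theorem connectedSpace_of_isConnected (Y : FEt.Cat X) (hY : @IsConnected (FEt.Cat X) _ Y) :
    ConnectedSpace Y.left := by
  haveI : Nonempty Y.left := (nonempty_left_iff_not_isInitial ξ Y).mpr hY.notInitial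
  haveI : PreconnectedSpace Y.left := by
    rw [preconnectedSpace_iff_clopen]
    intro U hU
    by_cases hne : U.Nonempty
    · right
      let Uo : Y.left.Opens := ⟨U, hU.isOpen⟩
      haveI : IsClosedImmersion Uo.ι := IsClosedImmersion.of_isPreimmersion Uo.ι (by
        rw [Scheme.Opens.range_ι]
        exact hU.isClosed)
      haveI : IsFinite Y.hom := Y.prop.1
      haveI : Etale Y.hom := Y.prop.2
      let Z : FEt.Cat X :=
        MorphismProperty.Over.mk ⊤ (Uo.ι ≫ Y.hom) ⟨inferInstance, inferInstance⟩
      let i : Z ⟶ Y := MorphismProperty.Over.homMk Uo.ι rfl trivial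
      haveI : Mono i.left := inferInstanceAs (Mono Uo.ι)
      haveI : Mono i := mono_of_mono_left i
      haveI : Nonempty Z.left := by
        obtain ⟨y, hy⟩ := hne
        exact ⟨(⟨y, hy⟩ : Uo)⟩
      haveI : IsIso i :=
        hY.noTrivialComponent Z i ((nonempty_left_iff_not_isInitial ξ Z).mp inferInstance)
      haveI : IsIso Uo.ι := inferInstanceAs (IsIso
        ((MorphismProperty.Over.forget FEt.prop ⊤ X ⋙ Over.forget X).map i))
      have h1 : Set.range Uo.ι = Set.univ :=
        Set.range_eq_univ.mpr Uo.ι.surjective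
      rw [Scheme.Opens.range_ι] at h1
      exact h1
    · left
      exact Set.not_nonempty_iff_eq_empty.mp hne
  exact { toNonempty := inferInstance }

end

end Groth.Agent.H6.FEtGal
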