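import Mathlib
import Groth.Prelude.Def_FEt
import Groth.Agent.Lib.Helper6.FEtDim1B
import Groth.Agent.Lib.Helper6.FEtConnCat1

/-!
# Degree of a finite étale morphism and geometric fibres (helper6)

* `finrank_eq_card_lifts`: the rank of a finite étale morphism at the image of a geometric point
  (separably closed field) is the number of lifts of the geometric point.
* `isIso_of_bijective_fiber`: a morphism of finite étale covers which is bijective on all geometric
  fibres is an isomorphism (no connectedness assumption on the base).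
-/

universe u

open CategoryTheory CategoryTheory.Limits AlgebraicGeometry Opposite

namespace Groth.Agent.H6.FEtDeg

section Field

variable (Ω : Type u) [Field Ω]

/-- `Ω`-algebra maps from a finite power of a field `Ω` to `Ω` are the evaluations. -/
theorem algHom_pi_eq_eval (n : ℕ) (ψ : (Fin n → Ω) →ₐ[Ω] Ω) :
    ∃ i : Fin n, ∀ f : Fin n → Ω, ψ f = f i := by
  classical
  have hsum : ∑ i : Fin n, ψ (Pi.single i 1) = 1 := by
    rw [← map_sum]
    have : (∑ i : Fin n, (Pi.single i (1 : Ω) : Fin n → Ω)) = 1 := by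
      ext j
      simp [Finset.sum_apply, Pi.single_apply]
    rw [this, map_one]
  obtain ⟨i, hi⟩ : ∃ i : Fin n, ψ (Pi.single i 1) ≠ 0 := by
    by_contra hcon
    have hcon' : ∀ i : Fin n, ψ (Pi.single i 1) = 0 := fun i => by
      by_contra hne
      exact hcon ⟨i, hne⟩
    rw [Finset.sum_eq_zero (fun i _ => hcon' i)] at hsum
    exact zero_ne_one hsum
  have hj : ∀ j : Fin n, j ≠ i → ψ (Pi.single j 1) = 0 := by
    intro j hji
    have h0 : (Pi.single j (1 : Ω) : Fin n → Ω) * Pi.single i 1 = 0 := by
      ext k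
      simp only [Pi.mul_apply, Pi.single_apply, Pi.zero_apply]
      by_cases hk : k = j
      · subst hk
        simp [hji]
      · simp [hk]
    have h1 : ψ (Pi.single j 1) * ψ (Pi.single i 1) = 0 := by rw [← map_mul, h0, map_zero]
    rcases mul_eq_zero.mp h1 with h | h
    · exact h
    · exact absurd h hi
  have hi1 : ψ (Pi.single i 1) = 1 := by
    have h2 : ∑ j : Fin n, ψ (Pi.single j 1) = ψ (Pi.single i 1) := by
      apply Finset.sum_eq_single i
      · intro j _ hji
        exact hj j hji
      · intro h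
        exact absurd (Finset.mem_univ i) h
    exact h2.symm.trans hsum
  refine ⟨i, fun f => ?_⟩
  have hf : f = ∑ j : Fin n, f j • (Pi.single j (1 : Ω) : Fin n → Ω) := by
    ext k
    simp [Finset.sum_apply, Pi.single_apply]
  conv_lhs => rw [hf]
  rw [map_sum]
  simp only [map_smul, smul_eq_mul]
  rw [Finset.sum_eq_single i]
  · rw [hi1, mul_one]
  · intro j _ hji
    rw [hj j hji, mul_zero]
  · intro h
    exact absurd (Finset.mem_univ i) h

/-- The sections of `Spec (Fin n → Ω) ⟶ Spec Ω`. -/
noncomputable def sectionsPiEquiv (n : ℕ) :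
    {s : Spec (CommRingCat.of Ω) ⟶ Spec (CommRingCat.of (Fin n → Ω)) //
      s ≫ Spec.map (CommRingCat.ofHom (algebraMap Ω (Fin n → Ω))) = 𝟙 _} ≃ Fin n := by
  classical
  refine Equiv.symm (Equiv.ofBijective (fun i => ⟨Spec.map (CommRingCat.ofHom
    (Pi.evalRingHom (fun _ : Fin n => Ω) i)), ?_⟩) ⟨?_, ?_⟩)
  · rw [← Spec.map_comp, ← Spec.map_id]
    congr 1
  · intro i j hij
    have h1 := congrArg Subtype.val hij
    have h2 := Spec.map_injective h1
    have h3 : Pi.evalRingHom (fun _ : Fin n => Ω) i = Pi.evalRingHom (fun _ : Fin n => Ω) j :=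
      congrArg CommRingCat.Hom.hom h2
    by_contra hne
    have h4 := congrArg (fun φ : (Fin n → Ω) →+* Ω => φ (Pi.single i 1)) h3
    simp only [Pi.evalRingHom_apply, Pi.single_eq_same] at h4
    rw [Pi.single_eq_of_ne (Ne.symm hne)] at h4
    exact one_ne_zero h4
  · rintro ⟨s, hs⟩
    obtain ⟨φ, rfl⟩ := Spec.map_surjective s
    have hφ : (CommRingCat.ofHom (algebraMap Ω (Fin n → Ω))) ≫ φ = 𝟙 _ := by
      apply Spec.map_injective
      rw [Spec.map_comp, Spec.map_id]
      exact hs
    let ψ : (Fin n → Ω) →ₐ[Ω] Ω :=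
      { φ.hom with
        commutes' := fun r => by
          have := congrArg (fun m : CommRingCat.of Ω ⟶ CommRingCat.of Ω => m.hom r) hφ
          exact this }
    obtain ⟨i, hi⟩ := algHom_pi_eq_eval Ω n ψ
    refine ⟨i, Subtype.ext ?_⟩
    change Spec.map _ = Spec.map φ
    congr 1
    apply CommRingCat.hom_ext
    exact RingHom.ext (fun f => (hi f).symm)

theorem card_sections_pi (n : ℕ) :
    Nat.card {s : Spec (CommRingCat.of Ω) ⟶ Spec (CommRingCat.of (Fin n → Ω)) //
      s ≫ Spec.map (CommRingCat.ofHom (algebraMap Ω (Fin n → Ω))) = 𝟙 _} = n := by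
  rw [Nat.card_congr (sectionsPiEquiv Ω n), Nat.card_eq_fintype_card, Fintype.card_fin]

variable [IsSepClosed Ω]

/-- The degree of a finite étale scheme over a separably closed field is its number of rational
points. -/
theorem finrank_eq_card_sections {P : Scheme.{u}} (c : P ⟶ Spec (CommRingCat.of Ω)) [IsFinite c]
    [Etale c] (x : Spec (CommRingCat.of Ω)) :
    c.finrank x = Nat.card {s : Spec (CommRingCat.of Ω) ⟶ P // s ≫ c = 𝟙 _} := by
  obtain ⟨n, e, he⟩ := Groth.Agent.H6.FEtDim1.exists_iso_spec_pi Ω c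
  have hs : Spec.map (CommRingCat.ofHom (algebraMap Ω (Fin n → Ω))) = e.inv ≫ c := by
    rw [← he, Iso.inv_hom_id_assoc]
  haveI : IsFinite (Spec.map (CommRingCat.ofHom (algebraMap Ω (Fin n → Ω)))) := by
    rw [hs]; infer_instance
  haveI : Etale (Spec.map (CommRingCat.ofHom (algebraMap Ω (Fin n → Ω)))) := by
    rw [hs]; infer_instance
  have h1 : c.finrank x = n := by
    rw [← he, Scheme.Hom.finrank_comp_left_of_isIso, Groth.Agent.H6.FEtDim1.finrank_specMap_pi]
  rw [h1, ← card_sections_pi Ω n]
  refine Nat.card_congr ?_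
  exact
    { toFun := fun s => ⟨s.1 ≫ e.inv, by rw [Category.assoc, ← he, Iso.inv_hom_id_assoc]; exact s.2⟩
      invFun := fun s => ⟨s.1 ≫ e.hom, by rw [Category.assoc, he]; exact s.2⟩
      left_inv := fun s => Subtype.ext (by simp)
      right_inv := fun s => Subtype.ext (by simp) }

/-- The rank of a finite étale morphism at the image of a geometric point is the number of lifts
of the geometric point. -/
theorem finrank_eq_card_lifts {Z Y : Scheme.{u}} (f : Z ⟶ Y) [IsFinite f] [Etale f]
    (ξ : Spec (CommRingCat.of Ω) ⟶ Y) (x : Spec (CommRingCat.of Ω)) :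
    f.finrank (ξ x) = Nat.card {η : Spec (CommRingCat.of Ω) ⟶ Z // η ≫ f = ξ} := by
  rw [← Scheme.Hom.finrank_pullback_snd f ξ x, finrank_eq_card_sections Ω (pullback.snd f ξ) x]
  refine Nat.card_congr ?_
  exact
    { toFun := fun s => ⟨s.1 ≫ pullback.fst f ξ, by
        rw [Category.assoc, pullback.condition, ← Category.assoc, s.2, Category.id_comp]⟩
      invFun := fun η => ⟨pullback.lift η.1 (𝟙 _) (by rw [η.2, Category.id_comp]),
        pullback.lift_snd _ _ _⟩
      left_inv := fun s => Subtype.ext (by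
        apply pullback.hom_ext
        · exact pullback.lift_fst _ _ _
        · exact (pullback.lift_snd _ _ _).trans s.2.symm)
      right_inv := fun η => Subtype.ext (pullback.lift_fst _ _ _) }

end Field

section Iso

variable {Y : Scheme.{u}}

/-- A morphism of finite étale covers is finite étale. -/
theorem isFinite_left {P Q : FEt.Cat Y} (g : P ⟶ Q) : IsFinite g.left := by
  haveI : IsFinite (g.left ≫ Q.hom) := by
    rw [MorphismProperty.Over.w g]; exact P.prop.1
  haveI : IsFinite Q.hom := Q.prop.1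
  exact IsFinite.of_comp g.left Q.hom

theorem etale_left {P Q : FEt.Cat Y} (g : P ⟶ Q) : Etale g.left := by
  haveI : Etale (g.left ≫ Q.hom) := by
    rw [MorphismProperty.Over.w g]; exact P.prop.2
  haveI : Etale Q.hom := Q.prop.2
  exact MorphismProperty.of_postcomp (W := @Etale) (W' := @Etale) g.left Q.hom
      inferInstance inferInstance

/-- A morphism of finite étale covers which is bijective on all geometric fibres (with values in
algebraically closed fields) is an isomorphism. -/
theorem isIso_of_bijective_fiber {P Q : FEt.Cat Y} (g : P ⟶ Q)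
    (h : ∀ (Ω : Type u) [Field Ω] [IsAlgClosed Ω] (ξ : Spec (CommRingCat.of Ω) ⟶ Y),
      Function.Bijective ((FEt.fiber ξ).map g)) : IsIso g := by
  haveI := isFinite_left g
  haveI := etale_left g
  haveI : IsIso g.left := by
    rw [Scheme.Hom.isIso_iff_finrank_eq]
    ext q
    let Ω := AlgebraicClosure (Q.left.residueField q)
    let ζ : Spec (CommRingCat.of Ω) ⟶ Q.left :=
      Spec.map (CommRingCat.ofHom (algebraMap (Q.left.residueField q) Ω)) ≫
        Q.left.fromSpecResidueField q
    obtain ⟨pt⟩ : Nonempty (Spec (CommRingCat.of Ω)) := inferInstance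
    have hpt : ζ pt = q := by
      change (Q.left.fromSpecResidueField q) _ = q
      exact Scheme.fromSpecResidueField_apply _ _
    rw [← hpt, finrank_eq_card_lifts Ω g.left ζ pt, Pi.one_apply]
    let ξ : Spec (CommRingCat.of Ω) ⟶ Y := ζ ≫ Q.hom
    have hb := h Ω ξ
    rw [Nat.card_eq_one_iff_unique]
    let ζ' : FEt.fiberObj ξ Q := ⟨ζ, rfl⟩
    obtain ⟨η, hη⟩ := hb.2 ζ'
    have hη' : η.1 ≫ g.left = ζ := congrArg Subtype.val hη
    refine ⟨⟨fun a b => ?_⟩, ⟨⟨η.1, hη'⟩⟩⟩
    have ha : a.1 ≫ P.hom = ξ := by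
      rw [← MorphismProperty.Over.w g, ← Category.assoc, a.2]
    have hb' : b.1 ≫ P.hom = ξ := by
      rw [← MorphismProperty.Over.w g, ← Category.assoc, b.2]
    have : (⟨a.1, ha⟩ : FEt.fiberObj ξ P) = ⟨b.1, hb'⟩ := by
      apply hb.1
      apply Subtype.ext
      change a.1 ≫ g.left = b.1 ≫ g.left
      rw [a.2, b.2]
    exact Subtype.ext (congrArg (fun t : FEt.fiberObj ξ P => t.1) this)
  exact Groth.Agent.H6.FEtGal.isIso_of_isIso_left g

end Iso

end Groth.Agent.H6.FEtDeg
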