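import Mathlib
import Groth.Prelude.Def_FEt
import Groth.Agent.Lib.Helper6.FEtDeg1

/-!
# A finite étale ring map with unique lifting of geometric points is bijective (helper6)
-/

universe u v

open CategoryTheory CategoryTheory.Limits AlgebraicGeometry

namespace Groth.Agent.H6.GalRing

/-- A ring map `θ` with `Spec θ` finite étale such that every ring map to an algebraically closed
field lifts uniquely along `θ` is bijective. -/
theorem bijective_of_unique_lift {C D : Type u} [CommRing C] [CommRing D] (θ : C →+* D)
    [IsFinite (Spec.map (CommRingCat.ofHom θ))] [Etale (Spec.map (CommRingCat.ofHom θ))]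
    (h : ∀ (Ω : Type u) [Field Ω] [IsAlgClosed Ω] (χ : C →+* Ω),
      ∃! ω : D →+* Ω, ω.comp θ = χ) :
    Function.Bijective θ := by
  have hiso : IsIso (Spec.map (CommRingCat.ofHom θ)) := by
    rw [Scheme.Hom.isIso_iff_finrank_eq]
    ext q
    let Ω := AlgebraicClosure ((Spec (CommRingCat.of C)).residueField q)
    let ζ : Spec (CommRingCat.of Ω) ⟶ Spec (CommRingCat.of C) :=
      Spec.map (CommRingCat.ofHom (algebraMap ((Spec (CommRingCat.of C)).residueField q) Ω)) ≫
        (Spec (CommRingCat.of C)).fromSpecResidueField q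
    obtain ⟨pt⟩ : Nonempty (Spec (CommRingCat.of Ω)) := inferInstance
    have hpt : ζ pt = q := by
      change ((Spec (CommRingCat.of C)).fromSpecResidueField q) _ = q
      exact Scheme.fromSpecResidueField_apply _ _
    rw [← hpt, Groth.Agent.H6.FEtDeg.finrank_eq_card_lifts Ω _ ζ pt, Pi.one_apply,
      Nat.card_eq_one_iff_unique]
    obtain ⟨χ, hχ⟩ : ∃ χ : CommRingCat.of C ⟶ CommRingCat.of Ω, Spec.map χ = ζ :=
      Spec.map_surjective ζ
    obtain ⟨ω, hω, huniq⟩ := h Ω χ.hom
    have hlift : ∀ w : CommRingCat.of D ⟶ CommRingCat.of Ω,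
        Spec.map w ≫ Spec.map (CommRingCat.ofHom θ) = ζ → w.hom.comp θ = χ.hom := by
      intro w hw
      rw [← Spec.map_comp, ← hχ] at hw
      have := Spec.map_injective hw
      exact congrArg CommRingCat.Hom.hom this
    constructor
    · constructor
      rintro ⟨η, hη⟩ ⟨η', hη'⟩
      obtain ⟨w, rfl⟩ := Spec.map_surjective η
      obtain ⟨w', rfl⟩ := Spec.map_surjective η'
      have h1 := huniq _ (hlift w hη)
      have h2 := huniq _ (hlift w' hη')
      apply Subtype.ext
      change Spec.map w = Spec.map w'
      congr 1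
      apply CommRingCat.hom_ext
      exact h1.trans h2.symm
    · refine ⟨⟨Spec.map (CommRingCat.ofHom ω), ?_⟩⟩
      rw [← Spec.map_comp, ← hχ]
      congr 1
      apply CommRingCat.hom_ext
      exact hω
  exact isIso_SpecMap_iff.mp hiso

/-- A ring map from a finite product to a domain factors through a unique projection. -/
theorem exists_eval_of_ringHom_pi {G : Type v} [Finite G] {B Ω : Type u} [CommRing B] [CommRing Ω]
    [IsDomain Ω] (ω : (G → B) →+* Ω) :
    ∃ g : G, ∀ f : G → B, ω f = ω (fun _ => f g) := by
  classical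
  haveI := Fintype.ofFinite G
  have hsum : ∑ i : G, ω (Pi.single i 1) = 1 := by
    rw [← map_sum]
    have : (∑ i : G, (Pi.single i (1 : B) : G → B)) = 1 := by
      ext j
      simp [Finset.sum_apply, Pi.single_apply]
    rw [this, map_one]
  obtain ⟨i, hi⟩ : ∃ i : G, ω (Pi.single i 1) ≠ 0 := by
    by_contra hcon
    have hcon' : ∀ i : G, ω (Pi.single i 1) = 0 := fun i => by
      by_contra hne
      exact hcon ⟨i, hne⟩
    rw [Finset.sum_eq_zero (fun i _ => hcon' i)] at hsum
    exact zero_ne_one hsum
  have hj : ∀ j : G, j ≠ i → ω (Pi.single j 1) = 0 := by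
    intro j hji
    have h0 : (Pi.single j (1 : B) : G → B) * Pi.single i 1 = 0 := by
      ext k
      simp only [Pi.mul_apply, Pi.single_apply, Pi.zero_apply]
      by_cases hk : k = j
      · subst hk
        simp [hji]
      · simp [hk]
    have h1 : ω (Pi.single j 1) * ω (Pi.single i 1) = 0 := by rw [← map_mul, h0, map_zero]
    rcases mul_eq_zero.mp h1 with h | h
    · exact h
    · exact absurd h hi
  have hi1 : ω (Pi.single i 1) = 1 := by
    have h2 : ∑ j : G, ω (Pi.single j 1) = ω (Pi.single i 1) := by
      apply Finset.sum_eq_single i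
      · intro j _ hji
        exact hj j hji
      · intro h
        exact absurd (Finset.mem_univ i) h
    exact h2.symm.trans hsum
  refine ⟨i, fun f => ?_⟩
  have h3 : ∀ f' : G → B, ω f' = ω (f' * Pi.single i 1) := by
    intro f'
    rw [map_mul, hi1, mul_one]
  rw [h3 f, h3 (fun _ => f i)]
  congr 1
  ext k
  simp only [Pi.mul_apply, Pi.single_apply]
  by_cases hk : k = i
  · subst hk
    simp
  · simp [hk]

end Groth.Agent.H6.GalRing
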