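import Mathlib
import Groth.Prelude.Def_FEt
import Groth.Prelude.Def_SGA1t
import Groth.Agent.Lib.Helper6.GalRing1
import Groth.Agent.Lib.Helper6.GalRing2

/-!
# From a principal cover of `Spec A` to a Galois extension of rings (helper6)
-/

universe u v

open CategoryTheory CategoryTheory.Limits AlgebraicGeometry TensorProduct

namespace Groth.Agent.H6.GalRing

section Bridge

variable {A : Type u} [CommRing A] (P : FEt.Cat (Spec (CommRingCat.of A)))

/-- The structure map `A → Γ(P, O_P)`. -/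
noncomputable def phi : CommRingCat.of A ⟶ Γ(P.left, ⊤) :=
  (Scheme.ΓSpecIso (CommRingCat.of A)).inv ≫ P.hom.appTop

/-- `Γ(P, O_P)` as an `A`-algebra. -/
@[instance_reducible]
noncomputable def algGamma : Algebra A Γ(P.left, ⊤) := (phi P).hom.toAlgebra

attribute [local instance] algGamma

theorem algebraMap_eq : algebraMap A Γ(P.left, ⊤) = (phi P).hom := rfl

instance isAffine_left : IsAffine P.left := by
  haveI : IsFinite P.hom := P.prop.1
  let f : P.left ⟶ Spec (CommRingCat.of A) := P.hom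
  haveI : IsAffineHom f := inferInstanceAs (IsAffineHom P.hom)
  exact isAffine_of_isAffineHom f

theorem hom_eq : P.hom = P.left.isoSpec.hom ≫ Spec.map (phi P) := by
  have h1 := Scheme.isoSpec_hom_naturality (X := P.left) (Y := Spec (CommRingCat.of A)) P.hom
  rw [Scheme.isoSpec_Spec_hom] at h1
  rw [phi, Spec.map_comp, ← Category.assoc, h1, Category.assoc, ← Spec.map_comp,
    Iso.inv_hom_id, Spec.map_id, Category.comp_id]

theorem specMap_phi : Spec.map (phi P) = P.left.isoSpec.inv ≫ P.hom := by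
  rw [hom_eq P, Iso.inv_hom_id_assoc]

instance finite_gamma : Module.Finite A Γ(P.left, ⊤) := by
  haveI : IsFinite P.hom := P.prop.1
  haveI : IsFinite (Spec.map (phi P)) := by rw [specMap_phi]; infer_instance
  exact (IsFinite.SpecMap_iff (f := phi P)).mp inferInstance

instance etale_gamma : Algebra.Etale A Γ(P.left, ⊤) := by
  haveI : Etale P.hom := P.prop.2
  haveI : Etale (Spec.map (phi P)) := by rw [specMap_phi]; infer_instance
  exact (HasRingHomProperty.Spec_iff (P := @Etale) (φ := phi P)).mp inferInstance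

theorem faithfullyFlat_gamma (hs : Function.Surjective P.hom.base) :
    Module.FaithfullyFlat A Γ(P.left, ⊤) := by
  apply Module.FaithfullyFlat.of_comap_surjective
  intro q
  obtain ⟨x, hx⟩ := hs q
  refine ⟨P.left.isoSpec.hom x, ?_⟩
  have h1 : (Spec.map (phi P)) (P.left.isoSpec.hom x) = q := by
    rw [← Scheme.Hom.comp_apply, ← hom_eq]
    exact hx
  exact h1

/-- The `A`-algebra endomorphism of `Γ(P, O_P)` induced by an endomorphism of `P`. -/
noncomputable def sigmaHom (s : P ⟶ P) : Γ(P.left, ⊤) →ₐ[A] Γ(P.left, ⊤) :=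
  { s.left.appTop.hom with
    commutes' := fun r => by
      change (s.left.appTop.hom) ((phi P).hom r) = (phi P).hom r
      have h1 : phi P ≫ s.left.appTop = phi P := by
        rw [phi, Category.assoc, ← Scheme.Hom.comp_appTop, MorphismProperty.Over.w s]
      exact congrArg (fun m : CommRingCat.of A ⟶ Γ(P.left, ⊤) => m.hom r) h1 }

@[simp] theorem sigmaHom_apply (s : P ⟶ P) (x : Γ(P.left, ⊤)) :
    sigmaHom P s x = s.left.appTop.hom x := rfl

theorem sigmaHom_id : sigmaHom P (𝟙 P) = AlgHom.id A _ := by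
  ext x
  change (𝟙 P : P ⟶ P).left.appTop.hom x = x
  have : (𝟙 P : P ⟶ P).left = 𝟙 P.left := rfl
  rw [this, Scheme.Hom.id_appTop]
  rfl

theorem sigmaHom_comp (s t : P ⟶ P) : sigmaHom P (s ≫ t) = (sigmaHom P s).comp (sigmaHom P t) := by
  ext x
  change (s ≫ t).left.appTop.hom x = s.left.appTop.hom (t.left.appTop.hom x)
  have : (s ≫ t).left = s.left ≫ t.left := rfl
  rw [this, Scheme.Hom.comp_appTop]
  rfl

variable {G : Type v} [CommGroup G] (ρ : G →* Aut P)

/-- The action of `G` on `Γ(P, O_P)` by algebra endomorphisms. -/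
noncomputable def sigma₀ : G →* (Γ(P.left, ⊤) →ₐ[A] Γ(P.left, ⊤)) where
  toFun g := sigmaHom P (ρ g).hom
  map_one' := by
    rw [map_one]
    exact sigmaHom_id P
  map_mul' g h := by
    rw [mul_comm g h, map_mul]
    exact sigmaHom_comp P (ρ g).hom (ρ h).hom

/-- The action of `G` on `Γ(P, O_P)` by algebra automorphisms. -/
noncomputable def sigma : G →* (Γ(P.left, ⊤) ≃ₐ[A] Γ(P.left, ⊤)) :=
  (AlgEquiv.algHomUnitsEquiv A Γ(P.left, ⊤)).toMonoidHom.comp (sigma₀ P ρ).toHomUnits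

theorem sigma_apply (g : G) (x : Γ(P.left, ⊤)) :
    sigma P ρ g x = (ρ g).hom.left.appTop.hom x := rfl

/-- The point of `P` defined by a ring map `Γ(P, O_P) → Ω`. -/
noncomputable def pointOf {Ω : Type u} [Field Ω] (ψ : Γ(P.left, ⊤) →+* Ω) :
    Spec (CommRingCat.of Ω) ⟶ P.left :=
  Spec.map (CommRingCat.ofHom ψ) ≫ P.left.isoSpec.inv

theorem pointOf_hom {Ω : Type u} [Field Ω] (ψ : Γ(P.left, ⊤) →+* Ω) :
    pointOf P ψ ≫ P.hom = Spec.map (CommRingCat.ofHom (ψ.comp (algebraMap A Γ(P.left, ⊤)))) := by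
  rw [pointOf, Category.assoc, ← specMap_phi, ← Spec.map_comp]
  rfl

theorem pointOf_comp_left {Ω : Type u} [Field Ω] (ψ : Γ(P.left, ⊤) →+* Ω) (s : P ⟶ P) :
    pointOf P ψ ≫ s.left = pointOf P (ψ.comp (sigmaHom P s : Γ(P.left, ⊤) →+* Γ(P.left, ⊤))) := by
  rw [pointOf, pointOf, Category.assoc, ← Scheme.isoSpec_inv_naturality, ← Category.assoc,
    ← Spec.map_comp]
  rfl

theorem pointOf_injective {Ω : Type u} [Field Ω] {ψ ψ' : Γ(P.left, ⊤) →+* Ω}
    (h : pointOf P ψ = pointOf P ψ') : ψ = ψ' := by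
  rw [pointOf, pointOf, cancel_mono] at h
  exact congrArg CommRingCat.Hom.hom (Spec.map_injective h)

/-- Simple transitivity on geometric fibres, in terms of ring maps. -/
theorem existsUnique_of_isPrincipal (hP : SGA1t.IsPrincipal G P ρ) {Ω : Type u} [Field Ω]
    [IsAlgClosed Ω] (ψ₁ ψ₂ : Γ(P.left, ⊤) →+* Ω)
    (h12 : ψ₁.comp (algebraMap A Γ(P.left, ⊤)) = ψ₂.comp (algebraMap A Γ(P.left, ⊤))) :
    ∃! g : G, ψ₁.comp (sigma P ρ g : Γ(P.left, ⊤) →+* Γ(P.left, ⊤)) = ψ₂ := by
  let ξ : Spec (CommRingCat.of Ω) ⟶ Spec (CommRingCat.of A) :=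
    Spec.map (CommRingCat.ofHom (ψ₁.comp (algebraMap A Γ(P.left, ⊤))))
  let s : FEt.fiberObj ξ P := ⟨pointOf P ψ₁, pointOf_hom P ψ₁⟩
  let t : FEt.fiberObj ξ P := ⟨pointOf P ψ₂, by rw [pointOf_hom P ψ₂, ← h12]⟩
  obtain ⟨g, hg, huniq⟩ := hP.2 Ω ξ s t
  have key : ∀ g' : G, ((FEt.fiber ξ).map (ρ g').hom s = t) ↔
      ψ₁.comp (sigma P ρ g' : Γ(P.left, ⊤) →+* Γ(P.left, ⊤)) = ψ₂ := by
    intro g'
    constructor
    · intro h
      have h1 : pointOf P ψ₁ ≫ (ρ g').hom.left = pointOf P ψ₂ := congrArg Subtype.val h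
      rw [pointOf_comp_left] at h1
      exact pointOf_injective P h1
    · intro h
      apply Subtype.ext
      change pointOf P ψ₁ ≫ (ρ g').hom.left = pointOf P ψ₂
      rw [pointOf_comp_left, ← h]
      rfl
  exact ⟨g, (key g).mp hg, fun g' hg' => huniq g' ((key g').mpr hg')⟩

end Bridge

end Groth.Agent.H6.GalRing
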