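import Mathlib
import Groth.Prelude.Def_FEt
import Groth.Prelude.Def_SGA1t
import Groth.Agent.Lib.Helper6.GalRing4
import Groth.Agent.Lib.Helper6.ArtSch1

/-!
# Principal `ℤ/p`-covers of an affine scheme of characteristic `p` are Artin–Schreier (helper6)
-/

universe u

open CategoryTheory CategoryTheory.Limits AlgebraicGeometry TensorProduct

namespace Groth.Agent.H6.GalRing

attribute [local instance] algGamma

/-- The isomorphism of spectra induced by a ring isomorphism. -/
noncomputable def specIsoOfRingEquiv {R S : Type u} [CommRing R] [CommRing S] (ε : R ≃+* S) :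
    Spec (CommRingCat.of S) ≅ Spec (CommRingCat.of R) where
  hom := Spec.map (CommRingCat.ofHom (ε : R →+* S))
  inv := Spec.map (CommRingCat.ofHom (ε.symm : S →+* R))
  hom_inv_id := by
    rw [← Spec.map_comp, ← Spec.map_id]
    congr 1
    exact CommRingCat.hom_ext (RingHom.ext fun x => ε.apply_symm_apply x)
  inv_hom_id := by
    rw [← Spec.map_comp, ← Spec.map_id]
    congr 1
    exact CommRingCat.hom_ext (RingHom.ext fun x => ε.symm_apply_apply x)

/-- **S3721.** -/
theorem principal_cover_is_artinSchreier (A : Type u) [CommRing A] (p : ℕ) [Fact p.Prime]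
    [CharP A p] (P : FEt.Cat (Spec (CommRingCat.of A))) (ρ : Multiplicative (ZMod p) →* Aut P)
    (hP : SGA1t.IsPrincipal (Multiplicative (ZMod p)) P ρ) :
    ∃ (a : A) (e : P.left ≅ Spec (CommRingCat.of (SGA1t.artinSchreier A p a))),
      e.hom ≫ Spec.map (CommRingCat.ofHom (algebraMap A (SGA1t.artinSchreier A p a))) = P.hom ∧
      ∀ j : ZMod p, (ρ (Multiplicative.ofAdd j)).hom.left ≫ e.hom =
        e.hom ≫ Spec.map (CommRingCat.ofHom (SGA1t.artinSchreierShift A p a j)) := by
  haveI := faithfullyFlat_gamma P hP.1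
  have hθ := theta_bijective P ρ hP
  obtain ⟨a, ε, hε1, hε2⟩ := exists_artinSchreier p (sigma P ρ) hθ
  refine ⟨a, P.left.isoSpec ≪≫ specIsoOfRingEquiv ε, ?_, ?_⟩
  · rw [Iso.trans_hom, Category.assoc, hom_eq P]
    congr 1
    change Spec.map _ ≫ Spec.map _ = _
    rw [← Spec.map_comp]
    congr 1
    exact CommRingCat.hom_ext (RingHom.ext fun x => hε1 x)
  · intro j
    have hnat := Scheme.isoSpec_hom_naturality (X := P.left) (Y := P.left)
      (ρ (Multiplicative.ofAdd j)).hom.left
    rw [Iso.trans_hom, ← Category.assoc, ← hnat, Category.assoc, Category.assoc]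
    congr 1
    change Spec.map _ ≫ Spec.map _ = Spec.map _ ≫ Spec.map _
    rw [← Spec.map_comp, ← Spec.map_comp]
    congr 1
    exact CommRingCat.hom_ext (RingHom.ext fun t => hε2 j t)

end Groth.Agent.H6.GalRing
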