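import Mathlib
import Groth.Prelude
import Groth.Agent.Lib.Helper1.FibDimBC
import Groth.Agent.Lib.Helper1.DimFormula3
import Groth.Agent.Lib.Helper1.FlatDimLocal

set_option autoImplicit false
universe u
open CategoryTheory CategoryTheory.Limits AlgebraicGeometry

namespace Groth.Agent.H6.BCDim

theorem exists_nat_of_ne {d : WithBot ℕ∞} (h1 : d ≠ ⊥) (h2 : d ≠ ⊤) : ∃ n : ℕ, d = n := by
  induction d using WithBot.recBotCoe with
  | bot => exact absurd rfl h1
  | coe d =>
    induction d using ENat.recTopCoe with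
    | top => exact absurd rfl h2
    | coe n => exact ⟨n, rfl⟩

theorem cancel_aux (n a a' : ℕ) (e : WithBot ℕ∞)
    (h : ((n : WithBot ℕ∞) + e) + (a' : WithBot ℕ∞) = (n : WithBot ℕ∞) + (a : WithBot ℕ∞)) :
    e + (a' : WithBot ℕ∞) = (a : WithBot ℕ∞) := by
  induction e using WithBot.recBotCoe with
  | bot =>
    exfalso
    rw [WithBot.add_bot, WithBot.bot_add] at h
    have h1 : (⊥ : WithBot ℕ∞) = (((n + a : ℕ) : ℕ∞) : WithBot ℕ∞) := by exact_mod_cast h
    exact WithBot.bot_ne_coe h1
  | coe e =>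
    induction e using ENat.recTopCoe with
    | top =>
      exfalso
      have h1 : ((((n : ℕ∞) + ⊤ + (a' : ℕ∞)) : ℕ∞) : WithBot ℕ∞) =
          (((n + a : ℕ) : ℕ∞) : WithBot ℕ∞) := by exact_mod_cast h
      rw [WithBot.coe_inj, add_top, top_add] at h1
      exact ENat.top_ne_natCast _ h1
    | coe m =>
      have h1 : (((n + m + a' : ℕ) : ℕ∞) : WithBot ℕ∞) = (((n + a : ℕ) : ℕ∞) : WithBot ℕ∞) := by
        exact_mod_cast h
      rw [WithBot.coe_inj, ENat.natCast_inj] at h1
      have h2 : m + a' = a := by omega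
      norm_cast

attribute [local instance] Curv2.stalkAlgebra Curv2.resAlgebra

/-- **S7589**: dimension formulas for the base change of a scheme locally of finite type over a
field to a field extension. -/
theorem main (k : Type u) [Field k] (X : Scheme.{u}) [X.Over (Spec (CommRingCat.of k))]
    [LocallyOfFiniteType (X ↘ (Spec (CommRingCat.of k)))]
    (K : Type u) [Field K] [Algebra k K] (y : ↥(Curv2.bc k X K)) (a a' : ℕ)
    (ha : Algebra.trdeg k (X.residueField (Curv2.bcFst k X K y)) = a)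
    (ha' : letI : (Curv2.bc k X K).Over (Spec (CommRingCat.of K)) := ⟨Curv2.bcSnd k X K⟩
      Algebra.trdeg K ((Curv2.bc k X K).residueField y) = a') :
    ringKrullDim ((Curv2.bc k X K).presheaf.stalk y) + (a' : WithBot ℕ∞) =
        ringKrullDim (X.presheaf.stalk (Curv2.bcFst k X K y)) + (a : WithBot ℕ∞) ∧
      ringKrullDim (↥((Curv2.bc k X K).presheaf.stalk y) ⧸
        Ideal.map ((Curv2.bcFst k X K).stalkMap y).hom
          (IsLocalRing.maximalIdeal ↥(X.presheaf.stalk (Curv2.bcFst k X K y)))) +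
          (a' : WithBot ℕ∞) = (a : WithBot ℕ∞) := by
  letI : (Curv2.bc k X K).Over (Spec (CommRingCat.of K)) := ⟨Curv2.bcSnd k X K⟩
  have sq : IsPullback (Curv2.bcFst k X K) (Curv2.bcSnd k X K) (X ↘ Spec (CommRingCat.of k))
      (Spec.map (CommRingCat.ofHom (algebraMap k K))) := IsPullback.of_hasPullback _ _
  haveI : LocallyOfFiniteType (Curv2.bcSnd k X K) := inferInstance
  have hloc := Groth.Agent.H1.FibDimBC.localDim_eq_of_isPullback_field
    (CommRingCat.ofHom (algebraMap k K)) (X ↘ Spec (CommRingCat.of k)) (Curv2.bcSnd k X K)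
    (Curv2.bcFst k X K) sq y
  obtain ⟨t, ht, hX⟩ := Groth.Agent.H1.DimFormula.exists_localDim_eq_stalk_add_trdeg
    (X ↘ Spec (CommRingCat.of k)) (Curv2.bcFst k X K y)
  obtain ⟨t', ht', hY⟩ := Groth.Agent.H1.DimFormula.exists_localDim_eq_stalk_add_trdeg
    (Curv2.bcSnd k X K) y
  have e1 : t = a := by
    have h := ha
    change @Algebra.trdeg k _ _ _ (Curv2.resMap k X _).toAlgebra = _ at h
    rw [Groth.Agent.H1.DimFormula.resMap_eq] at h
    exact_mod_cast ht.symm.trans h
  have e2 : t' = a' := by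
    have h := ha'
    change @Algebra.trdeg K _ _ _ (Curv2.resMap K (Curv2.bc k X K) y).toAlgebra = _ at h
    rw [Groth.Agent.H1.DimFormula.resMap_eq] at h
    exact_mod_cast ht'.symm.trans h
  subst e1 e2
  have part1 : ringKrullDim ((Curv2.bc k X K).presheaf.stalk y) + (t' : WithBot ℕ∞) =
      ringKrullDim (X.presheaf.stalk (Curv2.bcFst k X K y)) + (t : WithBot ℕ∞) := by
    rw [← hX, ← hY, hloc]
  refine ⟨part1, ?_⟩
  -- flatness and the dimension formula
  haveI hflat : Flat (Curv2.bcFst k X K) := Groth.Agent.H1.FibDimBC.flat_of_isPullback_field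
    (CommRingCat.ofHom (algebraMap k K)) (X ↘ Spec (CommRingCat.of k)) (Curv2.bcSnd k X K)
    (Curv2.bcFst k X K) sq
  haveI : IsLocallyNoetherian X :=
    LocallyOfFiniteType.isLocallyNoetherian (X ↘ Spec (CommRingCat.of k))
  haveI : IsLocallyNoetherian (Curv2.bc k X K) :=
    LocallyOfFiniteType.isLocallyNoetherian (Curv2.bcSnd k X K)
  letI : Algebra (X.presheaf.stalk (Curv2.bcFst k X K y)) ((Curv2.bc k X K).presheaf.stalk y) :=
    ((Curv2.bcFst k X K).stalkMap y).hom.toAlgebra
  haveI : Module.Flat (X.presheaf.stalk (Curv2.bcFst k X K y))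
      ((Curv2.bc k X K).presheaf.stalk y) := Flat.stalkMap (Curv2.bcFst k X K) y
  haveI : IsLocalHom (algebraMap (X.presheaf.stalk (Curv2.bcFst k X K y))
      ((Curv2.bc k X K).presheaf.stalk y)) :=
    inferInstanceAs (IsLocalHom ((Curv2.bcFst k X K).stalkMap y).hom)
  have hdim := Groth.Agent.H1.FlatDim.ringKrullDim_eq_add_fiber_of_flat
    (X.presheaf.stalk (Curv2.bcFst k X K y)) ((Curv2.bc k X K).presheaf.stalk y)
  obtain ⟨n, hn⟩ := exists_nat_of_ne
    (ringKrullDim_ne_bot (R := X.presheaf.stalk (Curv2.bcFst k X K y)))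
    (ringKrullDim_ne_top (R := X.presheaf.stalk (Curv2.bcFst k X K y)))
  rw [hdim, hn] at part1
  exact cancel_aux n t t' _ part1

end Groth.Agent.H6.BCDim
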