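import Mathlib
import Groth.Prelude
import Groth.Agent.Lib.Helper1.FibDimBC
import Groth.Agent.Lib.Helper1.DimFormula3
import Groth.Agent.Lib.Helper2.CMFib1
import Groth.Agent.Lib.Helper6.FiberDict
import Groth.Agent.Lib.Helper6.BCDim

set_option autoImplicit false
universe u
open TensorProduct

namespace Groth.Agent.H6.BCDimAlg

variable (k S K : Type u) [Field k] [CommRing S] [Algebra k S] [Algebra.FiniteType k S]
  [Field K] [Algebra k K]

/-- `S ⊗[k] K` is of finite type over `K` (right algebra structure). -/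
theorem finiteType_right :
    letI : Algebra K (S ⊗[k] K) := Algebra.TensorProduct.rightAlgebra
    Algebra.FiniteType K (S ⊗[k] K) := by
  letI : Algebra K (S ⊗[k] K) := Algebra.TensorProduct.rightAlgebra
  let e : K ⊗[k] S ≃ₐ[K] S ⊗[k] K :=
    AlgEquiv.ofRingEquiv (f := (Algebra.TensorProduct.comm k K S).toRingEquiv) (by
      intro c
      change (Algebra.TensorProduct.comm k K S) (algebraMap K (K ⊗[k] S) c) = (1 : S) ⊗ₜ[k] c
      rw [Algebra.TensorProduct.algebraMap_apply, Algebra.TensorProduct.comm_tmul]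
      rfl)
  exact Algebra.FiniteType.equiv inferInstance e

theorem isNoeth : IsNoetherianRing (S ⊗[k] K) := by
  letI : Algebra K (S ⊗[k] K) := Algebra.TensorProduct.rightAlgebra
  haveI := finiteType_right k S K
  exact Algebra.FiniteType.isNoetherianRing K (S ⊗[k] K)

/-- the local dimension is invariant under extension of the base field. -/
theorem localDim_eq (q : Ideal S) [q.IsPrime] (Q : Ideal (S ⊗[k] K)) [Q.IsPrime]
    [Q.LiesOver q] :
    FlatMor.localDim (PrimeSpectrum (S ⊗[k] K)) ⟨Q, inferInstance⟩ =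
      FlatMor.localDim (PrimeSpectrum S) ⟨q, inferInstance⟩ := by
  have sq := AlgebraicGeometry.isPullback_SpecMap_of_isPushout _ _ _ _
    (CommRingCat.isPushout_tensorProduct k S K)
  haveI : AlgebraicGeometry.LocallyOfFiniteType
      (AlgebraicGeometry.Spec.map (CommRingCat.ofHom (algebraMap k S))) := by
    rw [AlgebraicGeometry.HasRingHomProperty.Spec_iff
      (P := @AlgebraicGeometry.LocallyOfFiniteType)]
    exact RingHom.finiteType_algebraMap.mpr inferInstance
  have h := Groth.Agent.H1.FibDimBC.localDim_eq_of_isPullback_field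
    (CommRingCat.ofHom (algebraMap k K)) _ _ _ sq (⟨Q, inferInstance⟩ : PrimeSpectrum (S ⊗[k] K))
  refine h.trans ?_
  congr 1
  exact PrimeSpectrum.ext (Ideal.LiesOver.over (p := q) (P := Q)).symm

/-- the dimension formula for the flat extension `S → S ⊗[k] K`. -/
theorem dim_add (q : Ideal S) [q.IsPrime] (Q : Ideal (S ⊗[k] K)) [Q.IsPrime]
    [hQ : Q.LiesOver q] :
    ringKrullDim (EGA4.FibLocRing S (S ⊗[k] K) Q) + ringKrullDim (Localization.AtPrime q) =
      ringKrullDim (Localization.AtPrime Q) := by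
  haveI : IsNoetherianRing S := Algebra.FiniteType.isNoetherianRing k S
  haveI : IsNoetherianRing (S ⊗[k] K) := isNoeth k S K
  have hq : q = Q.comap (algebraMap S (S ⊗[k] K)) := hQ.over
  subst hq
  have h := (Groth.Agent.H2.CMFib.depth_and_dim (R := S) (S := S ⊗[k] K) Q).2
  rw [Module.supportDim_self_eq_ringKrullDim, Module.supportDim_self_eq_ringKrullDim,
    Module.supportDim_quotient_eq_ringKrullDim] at h
  rw [h, add_comm]

/-- the fibre dimension is the drop of the transcendence degrees. -/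
theorem dim_add_trdeg (q : Ideal S) [q.IsPrime] (r : ℕ)
    (hr : Algebra.trdeg k q.ResidueField = r) (Q : Ideal (S ⊗[k] K)) [Q.IsPrime] [Q.LiesOver q]
    (rQ : ℕ)
    (hrQ : letI : Algebra K (S ⊗[k] K) := Algebra.TensorProduct.rightAlgebra
      Algebra.trdeg K Q.ResidueField = rQ) :
    ringKrullDim (EGA4.FibLocRing S (S ⊗[k] K) Q) + (rQ : WithBot ℕ∞) = (r : WithBot ℕ∞) := by
  letI : Algebra K (S ⊗[k] K) := Algebra.TensorProduct.rightAlgebra
  haveI := finiteType_right k S K
  obtain ⟨t, ht, -, hloc⟩ := Groth.Agent.H1.DimFormula.localDim_primeSpectrum (k := k) q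
  obtain ⟨t', ht', -, hloc'⟩ := Groth.Agent.H1.DimFormula.localDim_primeSpectrum (k := K)
    (S := S ⊗[k] K) Q
  have e1 : t = r := by exact_mod_cast ht.symm.trans hr
  have e2 : t' = rQ := by exact_mod_cast ht'.symm.trans hrQ
  subst e1 e2
  have h1 := localDim_eq k S K q Q
  rw [hloc, hloc'] at h1
  have h2 := dim_add k S K q Q
  haveI : IsNoetherianRing S := Algebra.FiniteType.isNoetherianRing k S
  haveI : IsNoetherianRing (Localization.AtPrime q) :=
    IsLocalization.isNoetherianRing q.primeCompl _ inferInstance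
  obtain ⟨n, hn⟩ := Groth.Agent.H6.BCDim.exists_nat_of_ne
    (ringKrullDim_ne_bot (R := Localization.AtPrime q))
    (ringKrullDim_ne_top (R := Localization.AtPrime q))
  rw [← h2, hn, add_comm (ringKrullDim _) (n : WithBot ℕ∞)] at h1
  exact Groth.Agent.H6.BCDim.cancel_aux n t t' _ h1

/-- over every prime there is a prime with zero-dimensional fibre local ring. -/
theorem exists_zero (q : Ideal S) [q.IsPrime] :
    ∃ (q' : Ideal (S ⊗[k] K)) (_ : q'.IsPrime), q'.LiesOver q ∧
      ringKrullDim (EGA4.FibLocRing S (S ⊗[k] K) q') = 0 := by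
  haveI : IsNoetherianRing (S ⊗[k] K) := isNoeth k S K
  obtain ⟨t, ht, htq, -, hdim⟩ :=
    Groth.Agent.H6.FiberDict.exists_fibre_zero (B := S) (C := S ⊗[k] K) q
  haveI := ht
  refine ⟨t, ht, ⟨htq.symm⟩, ?_⟩
  rw [(Groth.Agent.H6.FiberDict.depth_and_dim_self (A := S) (B := S ⊗[k] K) t).2,
    Module.supportDim_quotient_eq_ringKrullDim] at hdim
  exact hdim

/-- **S9180** -/
theorem main (q : Ideal S) [q.IsPrime] (r : ℕ)
    (hr : Algebra.trdeg k q.ResidueField = r) (qK : Ideal (S ⊗[k] K)) [qK.IsPrime] [qK.LiesOver q]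
    (rK : ℕ)
    (hrK : letI : Algebra K (S ⊗[k] K) := Algebra.TensorProduct.rightAlgebra
      Algebra.trdeg K qK.ResidueField = rK) :
    ringKrullDim (EGA4.FibLocRing S (S ⊗[k] K) qK) + ringKrullDim (Localization.AtPrime q) =
        ringKrullDim (Localization.AtPrime qK) ∧
      ringKrullDim (EGA4.FibLocRing S (S ⊗[k] K) qK) + (rK : WithBot ℕ∞) = (r : WithBot ℕ∞) ∧
      ∃ (q' : Ideal (S ⊗[k] K)) (_ : q'.IsPrime), q'.LiesOver q ∧
        ringKrullDim (EGA4.FibLocRing S (S ⊗[k] K) q') = 0 :=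
  ⟨dim_add k S K q qK, dim_add_trdeg k S K q r hr qK rK hrK, exists_zero k S K q⟩

end Groth.Agent.H6.BCDimAlg
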