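import Mathlib
import Groth.Agent.S8925

/-! Local-global principle for injectivity over Noetherian rings. -/

set_option autoImplicit false
universe u
set_option linter.style.haveILetI false

namespace Groth.Agent.H6.BCInj

/-- finitely many elements each killed by an element of `T` are killed by a common one -/
theorem exists_common_smul_eq_zero {C : Type*} [CommRing C] {M : Type*} [AddCommGroup M]
    [Module C M] (T : Submonoid C) (G : Finset M) (h : ∀ g ∈ G, ∃ c ∈ T, c • g = 0) :
    ∃ c ∈ T, ∀ g ∈ G, c • g = 0 := by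
  classical
  induction G using Finset.induction_on with
  | empty => exact ⟨1, T.one_mem, fun g hg => absurd hg (Finset.notMem_empty g)⟩
  | insert a G ha ih =>
    obtain ⟨c, hc, hcG⟩ := ih (fun g hg => h g (Finset.mem_insert_of_mem hg))
    obtain ⟨d, hd, hda⟩ := h a (Finset.mem_insert_self a G)
    refine ⟨c * d, T.mul_mem hc hd, fun g hg => ?_⟩
    rcases Finset.mem_insert.mp hg with rfl | hg
    · rw [mul_smul, hda, smul_zero]
    · rw [mul_comm, mul_smul, hcG g hg, smul_zero]

/-- a finitely generated submodule each element of which is killed by an element of `T` is killed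
by a single element of `T` -/
theorem exists_smul_eq_zero_of_fg {C : Type*} [CommRing C] {M : Type*} [AddCommGroup M]
    [Module C M] (T : Submonoid C) (N : Submodule C M) (hN : N.FG)
    (h : ∀ x ∈ N, ∃ c ∈ T, c • x = 0) : ∃ c ∈ T, ∀ x ∈ N, c • x = 0 := by
  obtain ⟨G, rfl⟩ := hN
  obtain ⟨c, hc, hcG⟩ := exists_common_smul_eq_zero T G
    (fun g hg => h g (Submodule.subset_span hg))
  refine ⟨c, hc, fun x hx => ?_⟩
  have hle : Submodule.span C (G : Set M) ≤ LinearMap.ker (LinearMap.lsmul C M c) := by
    rw [Submodule.span_le]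
    intro g hg
    exact hcG g hg
  exact hle hx

/-- **Local-global principle for injectivity** (with a set `S` of scalars acting bijectively):
it suffices that the localizations at the primes disjoint from `S` are injective. -/
theorem injective_of_localized {C : Type u} [CommRing C] [IsNoetherianRing C]
    (M : Type u) [AddCommGroup M] [Module C M]
    (S : Submonoid C) (hS : ∀ s ∈ S, Function.Bijective (fun x : M => s • x))
    (h : ∀ (Q : Ideal C) [Q.IsPrime], Disjoint (Q : Set C) S →
      Module.Injective C (LocalizedModule Q.primeCompl M)) :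
    Module.Injective C M := by
  apply Module.Baer.injective
  intro J φ
  let U : Ideal C :=
    { carrier := {u | ∃ y : M, ∀ j : J, u • φ j = (j : C) • y}
      add_mem' := by
        rintro a b ⟨y, hy⟩ ⟨z, hz⟩
        exact ⟨y + z, fun j => by rw [add_smul, hy, hz, smul_add]⟩
      zero_mem' := ⟨0, fun j => by rw [zero_smul, smul_zero]⟩
      smul_mem' := by
        rintro c a ⟨y, hy⟩
        exact ⟨c • y, fun j => by rw [smul_eq_mul, mul_smul, hy, smul_comm]⟩ }
  have hU : ∃ s ∈ S, s ∈ U := by
    by_contra hne
    push Not at hne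
    have hdisj : Disjoint (U : Set C) S := by
      rw [Set.disjoint_left]
      intro x hxU hxS
      exact hne x hxS hxU
    obtain ⟨Q, hQ, hUQ, hQS⟩ := Ideal.exists_le_prime_disjoint U S hdisj
    have hinj := h Q hQS
    obtain ⟨ψ, hψ⟩ := Module.Baer.of_injective hinj J
      ((LocalizedModule.mkLinearMap Q.primeCompl M) ∘ₗ φ)
    obtain ⟨⟨y, t⟩, hyt⟩ := IsLocalizedModule.surj Q.primeCompl
      (LocalizedModule.mkLinearMap Q.primeCompl M) (ψ 1)
    -- `t • ψ 1 = mk y`
    let δ : J →ₗ[C] M := (t : C) • φ - (LinearMap.toSpanSingleton C M y) ∘ₗ J.subtype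
    have hδ : ∀ x ∈ LinearMap.range δ, ∃ c ∈ Q.primeCompl, c • x = 0 := by
      rintro _ ⟨j, rfl⟩
      have h0 : LocalizedModule.mkLinearMap Q.primeCompl M (δ j) = 0 := by
        change LocalizedModule.mkLinearMap Q.primeCompl M ((t : C) • φ j - (j : C) • y) = 0
        rw [map_sub, map_smul, map_smul, ← hyt]
        have := hψ (j : C) j.2
        rw [LinearMap.comp_apply] at this
        rw [← this]
        change (t : C) • ψ (j : C) - (j : C) • (t : C) • ψ 1 = 0
        rw [← map_smul, ← map_smul, ← map_smul, smul_eq_mul, smul_eq_mul, smul_eq_mul, mul_one,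
          mul_comm, sub_self]
      have h1 : LocalizedModule.mkLinearMap Q.primeCompl M (δ j) =
          LocalizedModule.mkLinearMap Q.primeCompl M 0 := by rw [h0, map_zero]
      obtain ⟨c, hc⟩ := IsLocalizedModule.exists_of_eq (S := Q.primeCompl) h1
      exact ⟨c, c.2, by rw [Submonoid.smul_def, smul_zero] at hc; exact hc⟩
    have hfg : (LinearMap.range δ).FG := by
      rw [LinearMap.range_eq_map]
      exact Submodule.FG.map _ (Module.Finite.fg_top)
    obtain ⟨c, hc, hcδ⟩ := exists_smul_eq_zero_of_fg Q.primeCompl _ hfg hδ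
    have hmem : c * (t : C) ∈ U := by
      refine ⟨c • y, fun j => ?_⟩
      have := hcδ (δ j) ⟨j, rfl⟩
      change c • ((t : C) • φ j - (j : C) • y) = 0 at this
      rw [smul_sub, sub_eq_zero] at this
      rw [mul_smul, this, smul_comm]
    exact (Q.primeCompl.mul_mem hc t.2) (hUQ hmem)
  obtain ⟨s, hsS, y, hy⟩ := hU
  obtain ⟨y', rfl⟩ := (hS s hsS).2 y
  refine ⟨LinearMap.toSpanSingleton C M y', ?_⟩
  intro x hx
  apply (hS s hsS).1
  change s • (x • y') = s • φ ⟨x, hx⟩
  rw [hy ⟨x, hx⟩, smul_comm]

end Groth.Agent.H6.BCInj
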