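import Groth.Agent.Lib.Helper6.FlatHull2
import Groth.Agent.Lib.Helper6.GorLC

/-! Flat base change of the injective hull of the residue field: the cases of a residue field
closed fibre and of an Artinian Gorenstein closed fibre. -/

universe u
set_option linter.unusedSectionVars false
open TensorProduct IsLocalRing InjHull CategoryTheory

namespace Groth.Agent.H6

namespace FlatHull

variable {A : Type u} [CommRing A] [IsLocalRing A] [IsNoetherianRing A]
  {B : Type u} [CommRing B] [IsLocalRing B] [IsNoetherianRing B] [Algebra A B] [Module.Flat A B]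
variable {E : Type u} [AddCommGroup E] [Module A E]

/-- **S0312** -/
theorem exists_hull_tensor_of_map_eq {f : (A ⧸ maximalIdeal A) →ₗ[A] E} (hf : IsInjectiveHull f)
    (hm : (maximalIdeal A).map (algebraMap A B) = maximalIdeal B) :
    ∃ g : (B ⧸ maximalIdeal B) →ₗ[B] B ⊗[A] E, IsInjectiveHull g := by
  have hmax : ((maximalIdeal A).map (algebraMap A B)).IsMaximal := hm ▸ maximalIdeal.isMaximal B
  haveI : IsSimpleModule B (B ⧸ (maximalIdeal A).map (algebraMap A B)) :=
    isSimpleModule_iff_quot_maximal.mpr ⟨_, hmax, ⟨LinearEquiv.refl B _⟩⟩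
  haveI : Nontrivial (B ⧸ (maximalIdeal A).map (algebraMap A B)) :=
    Ideal.Quotient.nontrivial_iff.mpr hmax.ne_top
  refine exists_hull_tensor hf hm.le 1 (by rw [pow_one, hm]) ?_ 1 one_ne_zero ?_ ?_
  · rw [Module.length_eq_one]
    exact ENat.one_ne_top
  · intro b hb
    rw [← hm] at hb
    rw [Algebra.smul_def, mul_one]
    exact Ideal.Quotient.eq_zero_iff_mem.mpr hb
  · intro y _
    obtain ⟨b, rfl⟩ := Ideal.Quotient.mk_surjective y
    exact ⟨b, by rw [Algebra.smul_def, mul_one]; rfl⟩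

/-- **S11359** -/
theorem exists_hull_tensor_of_gorenstein {f : (A ⧸ maximalIdeal A) →ₗ[A] E}
    (hf : IsInjectiveHull f)
    (hG : LocCoh.IsGorensteinLocalRing (B ⧸ (maximalIdeal A).map (algebraMap A B)))
    (hArt : IsArtinianRing (B ⧸ (maximalIdeal A).map (algebraMap A B))) :
    ∃ g : (B ⧸ maximalIdeal B) →ₗ[B] B ⊗[A] E, IsInjectiveHull g := by
  set J := (maximalIdeal A).map (algebraMap A B) with hJdef
  haveI : IsLocalRing (B ⧸ J) := hG.toIsLocalRing
  have hJtop : J ≠ ⊤ := Ideal.Quotient.nontrivial_iff.mp inferInstance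
  have hJ : J ≤ maximalIdeal B := IsLocalRing.le_maximalIdeal hJtop
  -- the quotient map is local
  haveI hloc : IsLocalHom (Ideal.Quotient.mk J) :=
    IsLocalHom.of_surjective _ Ideal.Quotient.mk_surjective
  have hmem : ∀ b : B, b ∈ maximalIdeal B ↔ Ideal.Quotient.mk J b ∈ maximalIdeal (B ⧸ J) := by
    intro b
    rw [IsLocalRing.mem_maximalIdeal, IsLocalRing.mem_maximalIdeal, mem_nonunits_iff,
      mem_nonunits_iff, isUnit_map_iff]
  -- nilpotence
  obtain ⟨k, hk⟩ := (isArtinianRing_iff_isNilpotent_maximalIdeal (B ⧸ J)).mp hArt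
  have hs : maximalIdeal B ^ k ≤ J := by
    intro b hb
    rw [← Ideal.Quotient.eq_zero_iff_mem]
    have h1 : Ideal.Quotient.mk J b ∈ (maximalIdeal B ^ k).map (Ideal.Quotient.mk J) :=
      Ideal.mem_map_of_mem _ hb
    rw [Ideal.map_pow] at h1
    have h2 : (maximalIdeal B).map (Ideal.Quotient.mk J) ≤ maximalIdeal (B ⧸ J) :=
      IsLocalRing.map_maximalIdeal_le _
    have h3 := Ideal.pow_right_mono h2 k h1
    rw [hk] at h3
    exact h3
  -- finite length
  have hfl : Module.length B (B ⧸ J) ≠ ⊤ := by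
    rw [Module.length_eq_of_surjective (S := B) (R := B ⧸ J) (M := B ⧸ J)
      Ideal.Quotient.mk_surjective]
    exact Module.length_ne_top
  -- the quotient is self-injective and an injective hull of its residue field
  have hd : ringKrullDim (B ⧸ J) = (0 : ℕ) := by
    haveI : Ring.KrullDimLE 0 (B ⧸ J) := inferInstance
    exact ringKrullDimZero_iff_ringKrullDim_eq_zero.mp inferInstance
  obtain ⟨N, hN⟩ := hG.exists_hasInjectiveDimensionLT
  have h1 := Bass.hasInjectiveDimensionLT_of_gorenstein N hN 0 hd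
  rw [zero_add] at h1
  haveI : Injective (ModuleCat.of (B ⧸ J) (B ⧸ J)) :=
    injective_iff_hasInjectiveDimensionLT_one.mpr h1
  haveI : Module.Injective (B ⧸ J) (B ⧸ J) :=
    Module.injective_module_of_injective_object (B ⧸ J) (ModuleCat.of (B ⧸ J) (B ⧸ J))
  obtain ⟨p, hp, φ, hφ⟩ :=
    IH.exists_hull_quot_of_indecomposable (GorLC.indecomposable_self (R := B ⧸ J))
  have hpm : p = maximalIdeal (B ⧸ J) :=
    IsLocalRing.eq_maximalIdeal (Ideal.isMaximal_of_isPrime p)
  subst hpm
  have hsoc := IH.torsionBySet_eq_range (maximalIdeal (B ⧸ J)) hφ.toIsEssentialInj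
  have hφ1 : φ 1 ≠ 0 := by
    intro h
    have : (1 : (B ⧸ J) ⧸ maximalIdeal (B ⧸ J)) = 0 := hφ.injective (h.trans (map_zero φ).symm)
    exact one_ne_zero this
  have hsmul : ∀ (b : B) (y : B ⧸ J), b • y = Ideal.Quotient.mk J b • y := fun b y => rfl
  have hφm : ∀ c : B ⧸ J, φ (Ideal.Quotient.mk _ c) = c • φ 1 := by
    intro c
    rw [← map_smul]
    congr 1
    rw [Algebra.smul_def, mul_one]
    rfl
  refine exists_hull_tensor hf hJ k hs hfl (φ 1) hφ1 ?_ ?_
  · intro b hb
    rw [hsmul, ← hφm, Ideal.Quotient.eq_zero_iff_mem.mpr ((hmem b).mp hb), map_zero]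
  · intro y hy
    have hy' : y ∈ Submodule.torsionBySet (B ⧸ J) (B ⧸ J) (maximalIdeal (B ⧸ J) : Set (B ⧸ J)) := by
      rw [Submodule.mem_torsionBySet_iff]
      rintro ⟨c, hc⟩
      obtain ⟨b, rfl⟩ := Ideal.Quotient.mk_surjective c
      change Ideal.Quotient.mk J b • y = 0
      rw [← hsmul]
      exact hy b ((hmem b).mpr hc)
    rw [hsoc] at hy'
    obtain ⟨c, rfl⟩ := hy'
    obtain ⟨c, rfl⟩ := Ideal.Quotient.mk_surjective c
    obtain ⟨b, rfl⟩ := Ideal.Quotient.mk_surjective c
    exact ⟨b, by rw [hφm, hsmul]⟩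

end FlatHull

end Groth.Agent.H6
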