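import Mathlib
import Groth.Agent.Lib.Helper6.InjHull

/-! Bass: over a Noetherian ring direct sums of injective modules are injective. -/

universe u

namespace Groth.Agent.H6

namespace IH

variable {R : Type u} [CommRing R]

theorem directSum_injective [IsNoetherianRing R] {ι : Type u} (E : ι → Type u)
    [∀ i, AddCommGroup (E i)] [∀ i, Module R (E i)] (hE : ∀ i, Module.Injective R (E i)) :
    Module.Injective R (DirectSum ι E) := by
  classical
  refine Module.Baer.injective ?_
  intro J g
  obtain ⟨s, hs⟩ := (IsNoetherian.noetherian J : J.FG)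
  -- a finite set of indices supporting the image of `g`
  have hsJ : ∀ a ∈ s, a ∈ J := fun a ha => hs ▸ Submodule.subset_span ha
  let t : Finset ι := s.attach.biUnion (fun a => DFinsupp.support (g ⟨a.1, hsJ a.1 a.2⟩))
  have hvan : ∀ (x : R) (hx : x ∈ J) (i : ι), i ∉ t → (g ⟨x, hx⟩) i = 0 := by
    intro x hx i hi
    have hx' : x ∈ Submodule.span R (s : Set R) := by rw [hs]; exact hx
    suffices H : ∀ (x : R) (_ : x ∈ Submodule.span R (s : Set R)) (hx : x ∈ J),
        (g ⟨x, hx⟩) i = 0 from H x hx' hx
    intro x hx'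
    induction hx' using Submodule.span_induction with
    | mem a ha =>
      intro hx
      by_contra hne
      apply hi
      rw [Finset.mem_biUnion]
      exact ⟨⟨a, ha⟩, Finset.mem_attach _ _, DFinsupp.mem_support_iff.mpr hne⟩
    | zero =>
      intro hx
      have : (⟨0, hx⟩ : J) = 0 := rfl
      rw [this, map_zero]
      rfl
    | add a b ha hb iha ihb =>
      intro hx
      have haJ : a ∈ J := hs ▸ ha
      have hbJ : b ∈ J := hs ▸ hb
      have : (⟨a + b, hx⟩ : J) = ⟨a, haJ⟩ + ⟨b, hbJ⟩ := rfl
      rw [this, map_add, DirectSum.add_apply, iha haJ, ihb hbJ, add_zero]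
    | smul c a ha iha =>
      intro hx
      have haJ : a ∈ J := hs ▸ ha
      have : (⟨c • a, hx⟩ : J) = c • ⟨a, haJ⟩ := rfl
      rw [this, map_smul, DirectSum.smul_apply, iha haJ, smul_zero]
  -- extend each component
  have hext : ∀ i : ι, ∃ h : R →ₗ[R] E i, ∀ (x : R) (hx : x ∈ J),
      h x = (g ⟨x, hx⟩) i := by
    intro i
    obtain ⟨h, hh⟩ := Module.Baer.of_injective (hE i) J (DirectSum.component R ι E i ∘ₗ g)
    exact ⟨h, fun x hx => hh x hx⟩
  choose h hh using hext
  let elt : DirectSum ι E := ∑ i ∈ t, DirectSum.lof R ι E i (h i 1)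
  refine ⟨LinearMap.toSpanSingleton R _ elt, fun x hx => ?_⟩
  rw [LinearMap.toSpanSingleton_apply]
  apply DFinsupp.ext
  intro i
  rw [DirectSum.smul_apply]
  have helt : elt i = if i ∈ t then h i 1 else 0 := by
    change (∑ j ∈ t, DirectSum.lof R ι E j (h j 1)) i = _
    rw [DFinsupp.finset_sum_apply]
    split_ifs with hi
    · rw [Finset.sum_eq_single i]
      · exact DirectSum.lof_apply R i (h i 1)
      · intro j _ hji
        exact DFinsupp.single_eq_of_ne hji.symm
      · intro hi'
        exact absurd hi hi'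
    · apply Finset.sum_eq_zero
      intro j hj
      have : j ≠ i := fun hji => hi (hji ▸ hj)
      exact DFinsupp.single_eq_of_ne this.symm
  rw [helt]
  split_ifs with hi
  · rw [← map_smul, smul_eq_mul, mul_one, hh i x hx]
  · rw [smul_zero, hvan x hx i hi]

end IH

end Groth.Agent.H6
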