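import Groth.Agent.Lib.Helper6.InjHull
import Groth.Agent.Lib.Helper6.InjBass

/-!
# Decomposition of injective modules over Noetherian rings into indecomposables (Matlis)
-/

namespace Groth.Agent.H6

namespace IH

open InjHull

universe u v

section Lattice

variable {α : Type*} [CompleteLattice α] [IsModularLattice α]

theorem sSupIndep_insert {s : Set α} {a : α} (hs : sSupIndep s) (ha : Disjoint a (sSup s)) :
    sSupIndep (insert a s) := by
  intro x hx
  by_cases hxa : x = a
  · subst hxa
    refine ha.mono_right (sSup_le_sSup ?_)
    rintro y ⟨hy, hyx⟩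
    rcases hy with rfl | hy
    · exact absurd rfl hyx
    · exact hy
  · have hxs : x ∈ s := hx.resolve_left hxa
    have h : insert a s \ {x} = insert a (s \ {x}) := by
      rw [Set.insert_diff_of_notMem]
      rw [Set.mem_singleton_iff]
      exact Ne.symm hxa
    rw [h, sSup_insert, sup_comm]
    refine (hs hxs).disjoint_sup_right_of_disjoint_sup_left ?_
    have : x ⊔ sSup (s \ {x}) = sSup s := by
      rw [← sSup_insert, Set.insert_diff_singleton, Set.insert_eq_of_mem hxs]
    rw [this]
    exact ha.symm

end Lattice

section Transport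

variable {R : Type u} [CommRing R] {M M' : Type v} [AddCommGroup M] [Module R M]
  [AddCommGroup M'] [Module R M']

theorem indecomposable_of_equiv (e : M ≃ₗ[R] M') (h : IsIndecomposable R M) :
    IsIndecomposable R M' := by
  haveI := h.1
  refine ⟨e.injective.nontrivial, fun N N' hNN' => ?_⟩
  have h1 := (Submodule.orderIsoMapComap e.symm).isCompl hNN'
  rcases h.2 _ _ h1 with h2 | h2
  · left
    exact (map_eq_bot_iff (Submodule.orderIsoMapComap e.symm)).mp h2
  · right
    exact (map_eq_bot_iff (Submodule.orderIsoMapComap e.symm)).mp h2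

end Transport

section Decomp

variable {R : Type u} [CommRing R] [IsNoetherianRing R]
variable {I : Type u} [AddCommGroup I] [Module R I]

/-- A nonzero injective submodule of an injective module over a Noetherian ring contains an
indecomposable injective submodule. -/
theorem exists_indecomposable_le (C : Submodule R I) [Module.Injective R C] (hC : C ≠ ⊥) :
    ∃ N : Submodule R I, N ≤ C ∧ N ≠ ⊥ ∧ IsIndecomposable R N ∧ Module.Injective R N := by
  haveI : Nontrivial C := Submodule.nontrivial_iff_ne_bot.mpr hC
  obtain ⟨p, hp⟩ := associatedPrimes.nonempty R C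
  obtain ⟨hprime, f, hf⟩ := (isAssociatedPrime_iff_exists_injective_linearMap p C).mp hp
  obtain ⟨B, N, hB, hcompl, hull⟩ := exists_hull_in f hf
  have hind := indecomposable_of_hull_quot p hull
  haveI := hull.isInjective
  let e : B ≃ₗ[R] B.map C.subtype :=
    Submodule.equivMapOfInjective C.subtype (Submodule.injective_subtype C) B
  have hind' := indecomposable_of_equiv e hind
  refine ⟨B.map C.subtype, Submodule.map_subtype_le C B, ?_, hind', injective_of_equiv e⟩
  haveI := hind'.1
  exact Submodule.nontrivial_iff_ne_bot.mp inferInstance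

open Classical in
/-- **S0307** (Matlis): over a Noetherian ring every injective module is an internal direct sum
of indecomposable injective submodules. -/
theorem exists_internal_decomposition [Module.Injective R I] :
    ∃ (ι : Type u) (E : ι → Submodule R I), DirectSum.IsInternal E ∧
      ∀ i, IsIndecomposable R (E i) ∧ Module.Injective R (E i) := by
  have zorn := zorn_subset
    (S := {s : Set (Submodule R I) | sSupIndep s ∧
      ∀ N ∈ s, IsIndecomposable R N ∧ Module.Injective R N})
    fun c hc1 hc2 =>
      ⟨⋃₀ c,
        ⟨iSupIndep_sUnion_of_directed hc2.directedOn fun s hs => (hc1 hs).1,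
          fun N ⟨s, sc, hN⟩ => (hc1 sc).2 N hN⟩,
        fun _ => Set.subset_sUnion_of_mem⟩
  obtain ⟨T, hT⟩ := zorn
  letI : DecidableEq ↥T := fun a b => Classical.propDecidable (a = b)
  have hindep : iSupIndep (fun N : T => (N : Submodule R I)) := (sSupIndep_iff T).mp hT.prop.1
  have hinj : Function.Injective (DirectSum.coeLinearMap (fun N : T => (N : Submodule R I))) :=
    hindep.dfinsupp_lsum_injective
  have hrange : LinearMap.range (DirectSum.coeLinearMap (fun N : T => (N : Submodule R I))) =
      ⨆ N : T, (N : Submodule R I) := (Submodule.iSup_eq_range_dfinsupp_lsum _).symm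
  haveI : Module.Injective R (DirectSum T fun N : T => ((N : Submodule R I) : Type u)) :=
    directSum_injective _ (fun N => (hT.prop.2 N N.2).2)
  haveI : Module.Injective R (⨆ N : T, (N : Submodule R I) : Submodule R I) :=
    injective_of_equiv ((LinearEquiv.ofInjective _ hinj).trans (LinearEquiv.ofEq _ _ hrange))
  obtain ⟨C, hC⟩ := exists_isCompl_of_injective (⨆ N : T, (N : Submodule R I) : Submodule R I)
  have hC0 : C = ⊥ := by
    by_contra hne
    haveI : Module.Injective R C := injective_of_isCompl hC.symm
    obtain ⟨N0, hN0C, hN0ne, hN0ind, hN0inj⟩ := exists_indecomposable_le C hne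
    have hsup : sSup T = ⨆ N : T, (N : Submodule R I) := sSup_eq_iSup' T
    have hdisj : Disjoint N0 (sSup T) := by
      rw [hsup]
      exact (hC.disjoint.mono_right hN0C).symm
    have hmem : insert N0 T ∈ {s : Set (Submodule R I) | sSupIndep s ∧
        ∀ N ∈ s, IsIndecomposable R N ∧ Module.Injective R N} := by
      refine ⟨sSupIndep_insert hT.prop.1 hdisj, fun N hN => ?_⟩
      rcases hN with rfl | hN
      · exact ⟨hN0ind, hN0inj⟩
      · exact hT.prop.2 N hN
    have hle : insert N0 T ⊆ T := hT.le_of_ge hmem (Set.subset_insert N0 T)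
    have hN0T : N0 ∈ T := hle (Set.mem_insert N0 T)
    have : N0 ≤ sSup T := le_sSup hN0T
    exact hN0ne (disjoint_self.mp (hdisj.mono_right this))
  have htop : (⨆ N : T, (N : Submodule R I)) = ⊤ := by
    have := hC.sup_eq_top
    rwa [hC0, sup_bot_eq] at this
  exact ⟨T, fun N => (N : Submodule R I),
    DirectSum.isInternal_submodule_of_iSupIndep_of_iSup_eq_top hindep htop,
    fun N => hT.prop.2 N N.2⟩

end Decomp

end IH

end Groth.Agent.H6
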