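import Mathlib
import Groth.Agent.Lib.Helper6.BCInj1
import Groth.Agent.Lib.Helper6.InjHullLoc
import Groth.Agent.Lib.Helper6.InjHullLocal
import Groth.Agent.Lib.Helper6.FlatHull3
import Groth.Agent.Lib.Helper6.InjDecomp
import Groth.Agent.Lib.Helper6.InjBass

/-! Base change of `E(A/p)` along a flat map with "unramified primes". -/

set_option autoImplicit false
universe u
set_option linter.style.haveILetI false
open TensorProduct IsLocalRing InjHull

namespace Groth.Agent.H6.BCInj

theorem injective_of_subsingleton' {R : Type u} [CommRing R] (N : Type u) [AddCommGroup N]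
    [Module R N] [Subsingleton N] : Module.Injective R N :=
  ⟨fun _ _ _ _ _ _ _ _ _ => ⟨0, fun _ => Subsingleton.elim _ _⟩⟩

theorem hull_cast {R : Type u} [CommRing R] {E : Type u} [AddCommGroup E] [Module R E]
    (I J : Ideal R) (h : I = J) (g : (R ⧸ I) →ₗ[R] E) (hg : IsInjectiveHull g) :
    ∃ g' : (R ⧸ J) →ₗ[R] E, IsInjectiveHull g' := by
  subst h
  exact ⟨g, hg⟩

section

variable {A : Type u} [CommRing A] [IsNoetherianRing A] (p : Ideal A) [hp : p.IsPrime]
  {E : Type u} [AddCommGroup E] [Module A E] {f : (A ⧸ p) →ₗ[A] E}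

include hp in
/-- `E(A/p)` is `p`-power torsion, elementwise. -/
theorem exists_pow_smul_eq_zero (hf : IsInjectiveHull f) {a : A} (ha : a ∈ p) (x : E) :
    ∃ k : ℕ, a ^ k • x = 0 := by
  obtain ⟨g, hg⟩ := IH.exists_hull_localized p.primeCompl p hf
  obtain ⟨g', hg'⟩ := hull_cast _ _ (Localization.AtPrime.map_eq_maximalIdeal (I := p)) g hg
  have hpt := IH.powerTorsion_of_hull (maximalIdeal (Localization.AtPrime p)) hg'
  obtain ⟨k, hk⟩ := hpt (LocalizedModule.mkLinearMap p.primeCompl E x)
  refine ⟨k, ?_⟩
  have hmem : algebraMap A (Localization.AtPrime p) a ^ k ∈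
      maximalIdeal (Localization.AtPrime p) ^ k := by
    apply Ideal.pow_mem_pow
    rw [← Localization.AtPrime.map_eq_maximalIdeal (I := p)]
    exact Ideal.mem_map_of_mem _ ha
  have h0 := hk _ hmem
  rw [← map_pow, algebraMap_smul, ← map_smul] at h0
  have hinj := (IH.mkLinearMap_bijective_of_hull p.primeCompl p hf
    (Set.disjoint_left.mpr fun x hx hx' => hx' hx)).1
  exact hinj (h0.trans (map_zero _).symm)

end


section Main

variable {A : Type u} [CommRing A] [IsNoetherianRing A] (p : Ideal A) [hp : p.IsPrime]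
  {E : Type u} [AddCommGroup E] [Module A E] {f : (A ⧸ p) →ₗ[A] E}
  (B : Type u) [CommRing B] [Algebra A B] [IsNoetherianRing B] [Module.Flat A B]

/-- scalars from `A` outside `p` act bijectively on `B ⊗ E(A/p)` -/
theorem smul_bijective_tensor (hf : IsInjectiveHull f) {a : A} (ha : a ∉ p) :
    Function.Bijective (fun x : B ⊗[A] E => algebraMap A B a • x) := by
  have hbij := IH.smul_bijective_of_hull p hf ha
  let e : E ≃ₗ[A] E := LinearEquiv.ofBijective (LinearMap.lsmul A E a) hbij
  have heq : (fun x : B ⊗[A] E => algebraMap A B a • x) = (LinearEquiv.lTensor B e) := by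
    funext x
    induction x using TensorProduct.induction_on with
    | zero => rw [smul_zero, map_zero]
    | tmul b y =>
      rw [LinearEquiv.lTensor_tmul, algebraMap_smul]
      change a • (b ⊗ₜ[A] y) = b ⊗ₜ[A] (a • y)
      rw [TensorProduct.tmul_smul]
    | add x y hx hy => rw [smul_add, map_add, hx, hy]
  rw [heq]
  exact (LinearEquiv.lTensor B e).bijective

include hp in
theorem exists_pow_smul_tensor_eq_zero (hf : IsInjectiveHull f) {a : A} (ha : a ∈ p)
    (x : B ⊗[A] E) : ∃ k : ℕ, algebraMap A B a ^ k • x = 0 := by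
  induction x using TensorProduct.induction_on with
  | zero => exact ⟨0, smul_zero _⟩
  | tmul b y =>
    obtain ⟨k, hk⟩ := exists_pow_smul_eq_zero p hf ha y
    refine ⟨k, ?_⟩
    rw [← map_pow, algebraMap_smul, ← TensorProduct.tmul_smul, hk, TensorProduct.tmul_zero]
  | add x y hx hy =>
    obtain ⟨k, hk⟩ := hx
    obtain ⟨l, hl⟩ := hy
    refine ⟨k + l, ?_⟩
    rw [smul_add, pow_add, mul_smul (_ ^ k) (_ ^ l) y, hl, smul_zero, add_zero, mul_comm, mul_smul,
      hk, smul_zero]

end Main


section Key

variable {A : Type u} [CommRing A] [IsNoetherianRing A] (p : Ideal A) [hp : p.IsPrime]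
  {E : Type u} [AddCommGroup E] [Module A E] {f : (A ⧸ p) →ₗ[A] E}
  (B : Type u) [CommRing B] [Algebra A B] [IsNoetherianRing B] [Module.Flat A B]

theorem injective_localized_of_under_eq (hf : IsInjectiveHull f) (Q : Ideal B) [hQ : Q.IsPrime]
    (hQp : Q.comap (algebraMap A B) = p)
    (hcond : Ideal.map (algebraMap B (Localization.AtPrime Q)) (p.map (algebraMap A B)) =
      maximalIdeal (Localization.AtPrime Q)) :
    Module.Injective B (LocalizedModule Q.primeCompl (B ⊗[A] E)) := by
  haveI : Q.LiesOver p := ⟨hQp.symm⟩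
  letI := Localization.AtPrime.algebraOfLiesOver p Q
  haveI : IsLocalHom (algebraMap (Localization.AtPrime p) (Localization.AtPrime Q)) := by
    rw [RingHom.algebraMap_toAlgebra]
    exact Localization.isLocalHom_localRingHom p Q (algebraMap A B) Ideal.LiesOver.over
  -- the hull over `A_p`
  obtain ⟨g, hg⟩ := IH.exists_hull_localized p.primeCompl p hf
  obtain ⟨g', hg'⟩ := hull_cast _ _ (Localization.AtPrime.map_eq_maximalIdeal (I := p)) g hg
  have hm : (maximalIdeal (Localization.AtPrime p)).map
      (algebraMap (Localization.AtPrime p) (Localization.AtPrime Q)) =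
      maximalIdeal (Localization.AtPrime Q) := by
    rw [← Localization.AtPrime.map_eq_maximalIdeal (I := p), Ideal.map_map, ← hcond, Ideal.map_map,
      ← IsScalarTower.algebraMap_eq, ← IsScalarTower.algebraMap_eq]
  obtain ⟨g'', hg''⟩ := FlatHull.exists_hull_tensor_of_map_eq
    (B := Localization.AtPrime Q) hg' hm
  haveI := hg''.isInjective
  -- the chain of isomorphisms
  let e3 : (Localization.AtPrime p) ⊗[A] E ≃ₗ[Localization.AtPrime p]
      LocalizedModule p.primeCompl E :=
    (IsLocalizedModule.isBaseChange p.primeCompl (Localization.AtPrime p)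
      (LocalizedModule.mkLinearMap p.primeCompl E)).equiv
  let e4 : (Localization.AtPrime Q) ⊗[Localization.AtPrime p]
      ((Localization.AtPrime p) ⊗[A] E) ≃ₗ[Localization.AtPrime Q]
      (Localization.AtPrime Q) ⊗[Localization.AtPrime p] (LocalizedModule p.primeCompl E) :=
    TensorProduct.AlgebraTensorModule.congr (LinearEquiv.refl _ _) e3
  let e2 : (Localization.AtPrime Q) ⊗[Localization.AtPrime p]
      ((Localization.AtPrime p) ⊗[A] E) ≃ₗ[Localization.AtPrime Q]
      (Localization.AtPrime Q) ⊗[A] E :=
    TensorProduct.AlgebraTensorModule.cancelBaseChange A (Localization.AtPrime p)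
      (Localization.AtPrime Q) (Localization.AtPrime Q) E
  haveI : Module.Injective (Localization.AtPrime Q) ((Localization.AtPrime Q) ⊗[A] E) :=
    IH.injective_of_equiv (e4.symm.trans e2)
  haveI : Module.Injective B ((Localization.AtPrime Q) ⊗[A] E) :=
    Groth.Agent.S8925.result B (Localization.AtPrime Q) _
  let e1 : LocalizedModule Q.primeCompl (B ⊗[A] E) ≃ₗ[B] (Localization.AtPrime Q) ⊗[A] E :=
    IsLocalizedModule.iso Q.primeCompl
      (TensorProduct.AlgebraTensorModule.rTensor A E (Algebra.linearMap B (Localization.AtPrime Q)))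
  exact IH.injective_of_equiv e1.symm

end Key


section Assemble

variable {A : Type u} [CommRing A] [IsNoetherianRing A] (p : Ideal A) [hp : p.IsPrime]
  {E : Type u} [AddCommGroup E] [Module A E] {f : (A ⧸ p) →ₗ[A] E}
  (B : Type u) [CommRing B] [Algebra A B] [IsNoetherianRing B] [Module.Flat A B]

include hp in
theorem injective_tensor_hull (hf : IsInjectiveHull f)
    (h : ∀ q : PrimeSpectrum B, Ideal.map (algebraMap B (Localization.AtPrime q.asIdeal))
      ((q.asIdeal.comap (algebraMap A B)).map (algebraMap A B)) =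
        maximalIdeal (Localization.AtPrime q.asIdeal)) :
    Module.Injective B (B ⊗[A] E) := by
  apply injective_of_localized (B ⊗[A] E) (Algebra.algebraMapSubmonoid B p.primeCompl)
  · rintro _ ⟨a, ha, rfl⟩
    exact smul_bijective_tensor p B hf ha
  · intro Q hQ hdisj
    have hle : Q.comap (algebraMap A B) ≤ p := by
      intro a ha
      by_contra hap
      exact Set.disjoint_left.mp hdisj ha ⟨a, hap, rfl⟩
    by_cases heq : Q.comap (algebraMap A B) = p
    · have h1 := h ⟨Q, hQ⟩
      rw [heq] at h1
      exact injective_localized_of_under_eq p B hf Q heq h1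
    · have hex : ∃ a ∈ p, a ∉ Q.comap (algebraMap A B) := by
        by_contra hne
        push Not at hne
        exact heq (le_antisymm hle hne)
      obtain ⟨a, hap, haQ⟩ := hex
      haveI : Subsingleton (LocalizedModule Q.primeCompl (B ⊗[A] E)) := by
        rw [LocalizedModule.subsingleton_iff]
        intro x
        obtain ⟨k, hk⟩ := exists_pow_smul_tensor_eq_zero p B hf hap x
        exact ⟨algebraMap A B a ^ k, Q.primeCompl.pow_mem haQ k, hk⟩
      exact injective_of_subsingleton' _

end Assemble

/-- **S1745** -/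
theorem main (A B : Type u) [CommRing A] [CommRing B] [Algebra A B] [IsNoetherianRing A]
    [IsNoetherianRing B] [Module.Flat A B]
    (h : ∀ q : PrimeSpectrum B, Ideal.map (algebraMap B (Localization.AtPrime q.asIdeal))
      ((q.asIdeal.comap (algebraMap A B)).map (algebraMap A B)) =
        maximalIdeal (Localization.AtPrime q.asIdeal))
    (I : Type u) [AddCommGroup I] [Module A I] [Module.Injective A I] :
    Module.Injective B (B ⊗[A] I) := by
  classical
  obtain ⟨ι, E, hint, hE⟩ := IH.exists_internal_decomposition (R := A) (I := I)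
  let e0 : (DirectSum ι fun i => E i) ≃ₗ[A] I :=
    LinearEquiv.ofBijective (DirectSum.coeLinearMap E) hint
  let e1 : B ⊗[A] (DirectSum ι fun i => E i) ≃ₗ[B] B ⊗[A] I :=
    TensorProduct.AlgebraTensorModule.congr (LinearEquiv.refl B B) e0
  let e2 : B ⊗[A] (DirectSum ι fun i => E i) ≃ₗ[B] DirectSum ι fun i => B ⊗[A] E i :=
    TensorProduct.directSumRight A B B fun i => E i
  have hinj : ∀ i, Module.Injective B (B ⊗[A] E i) := by
    intro i
    haveI := (hE i).2
    obtain ⟨p, hp, f, hf⟩ := IH.exists_hull_quot_of_indecomposable (hE i).1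
    exact injective_tensor_hull p B hf h
  haveI := IH.directSum_injective (fun i => B ⊗[A] E i) hinj
  let e : (DirectSum ι fun i => B ⊗[A] E i) ≃ₗ[B] B ⊗[A] I := e2.symm.trans e1
  exact IH.injective_of_equiv (Q := DirectSum ι fun i => B ⊗[A] E i) (Q' := B ⊗[A] I) e

end Groth.Agent.H6.BCInj
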