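import Mathlib

universe u
open CategoryTheory CategoryTheory.Limits

set_option linter.unusedSectionVars false
set_option linter.unusedSimpArgs false
set_option linter.style.haveILetI false
namespace Groth.Agent.H6.BCS

/-- base change of a dual basis along a pushout square of rings (type-level version). -/
theorem exists_dualBasis_baseChange (A B C D : Type u) [CommRing A] [CommRing B] [CommRing C]
    [CommRing D] [Algebra A B] [Algebra A C] [Algebra B D] [Algebra C D] [Algebra A D]
    [IsScalarTower A B D] [IsScalarTower A C D] [hP : Algebra.IsPushout A C B D]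
    {n : ℕ} (r : Fin n → B) (φ : Fin n → (B →ₗ[A] A))
    (hdec : ∀ x : B, x = ∑ j, φ j x • r j) :
    ∃ Φ : Fin n → (D →ₗ[C] C), (∀ j x, Φ j (algebraMap B D x) = algebraMap A C (φ j x)) ∧
      ∀ t : D, t = ∑ j, Φ j t • algebraMap B D (r j) := by
  have ibc : IsBaseChange C (IsScalarTower.toAlgHom A B D).toLinearMap := hP.out
  let Φ : Fin n → (D →ₗ[C] C) := fun j => ibc.lift ((Algebra.linearMap A C).comp (φ j))
  have hΦ : ∀ j x, Φ j (algebraMap B D x) = algebraMap A C (φ j x) := by
    intro j x
    exact ibc.lift_eq ((Algebra.linearMap A C).comp (φ j)) x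
  refine ⟨Φ, hΦ, ?_⟩
  intro t
  refine ibc.inductionOn t (fun t => t = ∑ j, Φ j t • algebraMap B D (r j)) ?_ ?_ ?_ ?_
  · simp
  · intro x
    change algebraMap B D x = ∑ j, Φ j (algebraMap B D x) • algebraMap B D (r j)
    simp only [hΦ]
    conv_lhs => rw [hdec x]
    rw [map_sum]
    refine Finset.sum_congr rfl fun j _ => ?_
    rw [Algebra.smul_def, map_mul, ← IsScalarTower.algebraMap_apply A B D,
      IsScalarTower.algebraMap_apply A C D, ← Algebra.smul_def]
  · intro c t ht
    simp only [map_smul, smul_eq_mul, mul_smul]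
    rw [← Finset.smul_sum, ← ht]
  · intro t₁ t₂ h₁ h₂
    simp only [map_add, add_smul, Finset.sum_add_distrib]
    rw [← h₁, ← h₂]


/-- base change of a dual basis along a pushout square of commutative rings (ring-hom form). -/
theorem exists_dualBasis_of_isPushout {A B C D : CommRingCat.{u}} (α : A ⟶ B) (γ : A ⟶ C)
    (ε : B ⟶ D) (ψ : C ⟶ D) (H : IsPushout α γ ε ψ) {n : ℕ} (r : Fin n → B)
    (φ : Fin n → (B → A)) (hadd : ∀ j x y, φ j (x + y) = φ j x + φ j y)
    (hsmul : ∀ j a x, φ j (α.hom a * x) = a * φ j x)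
    (hdec : ∀ x : B, x = ∑ j, α.hom (φ j x) * r j) :
    ∃ Φ : Fin n → (D →+ C),
      (∀ j c t, Φ j (ψ.hom c * t) = c * Φ j t) ∧
      (∀ j x, Φ j (ε.hom x) = γ.hom (φ j x)) ∧
      (∀ t : D, t = ∑ j, ψ.hom (Φ j t) * ε.hom (r j)) := by
  letI : Algebra A B := α.hom.toAlgebra
  letI : Algebra A C := γ.hom.toAlgebra
  letI : Algebra B D := ε.hom.toAlgebra
  letI : Algebra C D := ψ.hom.toAlgebra
  letI : Algebra A D := (α ≫ ε).hom.toAlgebra
  haveI : IsScalarTower A B D := IsScalarTower.of_algebraMap_eq (fun _ => rfl)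
  haveI : IsScalarTower A C D := IsScalarTower.of_algebraMap_eq (fun a => by
    have := congrArg (fun q => q.hom a) H.w
    exact this)
  have H' : IsPushout (CommRingCat.ofHom (algebraMap A B)) (CommRingCat.ofHom (algebraMap A C))
      (CommRingCat.ofHom (algebraMap B D)) (CommRingCat.ofHom (algebraMap C D)) := H
  haveI hP : Algebra.IsPushout A C B D := (CommRingCat.isPushout_iff_isPushout.mp H').symm
  let φl : Fin n → (B →ₗ[A] A) := fun j =>
    { toFun := φ j
      map_add' := hadd j
      map_smul' := fun a x => by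
        rw [Algebra.smul_def]
        exact hsmul j a x }
  obtain ⟨Φ, h1, h2⟩ := exists_dualBasis_baseChange A B C D r φl (fun x => by
    have := hdec x
    simp only [Algebra.smul_def]
    exact this)
  refine ⟨fun j => (Φ j).toAddMonoidHom, fun j c t => ?_, fun j x => h1 j x,
    fun t => ?_⟩
  · have := (Φ j).map_smul c t
    rw [Algebra.smul_def] at this
    exact this
  · have := h2 t
    simp only [Algebra.smul_def] at this
    exact this

end Groth.Agent.H6.BCS
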