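import Mathlib

universe u
open CategoryTheory CategoryTheory.Limits AlgebraicGeometry TopologicalSpace Opposite

set_option linter.unusedSectionVars false
set_option linter.unusedSimpArgs false
set_option linter.style.haveILetI false
namespace Groth.Agent.H6.ClopIdem

variable (W : Scheme.{u})

/-- sections agreeing on an open cover agree. -/
theorem eq_of_res_eq {ι : Type*} (U : ι → W.Opens) (V : W.Opens) (hUV : ∀ i, U i ≤ V)
    (hcov : V ≤ ⨆ i, U i) (s t : Γ(W, V))
    (h : ∀ i, (W.presheaf.map (homOfLE (hUV i)).op).hom s =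
      (W.presheaf.map (homOfLE (hUV i)).op).hom t) : s = t :=
  W.sheaf.eq_of_locally_eq' U V (fun i => homOfLE (hUV i)) hcov s t h

/-- gluing sections on an open cover. -/
theorem exists_glue {ι : Type*} (U : ι → W.Opens) (V : W.Opens) (hUV : ∀ i, U i ≤ V)
    (hcov : V ≤ ⨆ i, U i) (sf : ∀ i, Γ(W, U i))
    (hcompat : ∀ i j, (W.presheaf.map (homOfLE (inf_le_left : U i ⊓ U j ≤ U i)).op).hom (sf i) =
      (W.presheaf.map (homOfLE (inf_le_right : U i ⊓ U j ≤ U j)).op).hom (sf j)) :
    ∃ s : Γ(W, V), ∀ i, (W.presheaf.map (homOfLE (hUV i)).op).hom s = sf i := by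
  obtain ⟨s0, hs, -⟩ := W.sheaf.existsUnique_gluing' U V (fun i => homOfLE (hUV i)) hcov sf
    (fun i j => hcompat i j)
  exact ⟨s0, hs⟩

/-- the idempotent of a clopen subset. -/
theorem exists_idempotent_of_isClopen (Z : W.Opens) (hZ : IsClosed (Z : Set W)) :
    ∃ e : Γ(W, ⊤), IsIdempotentElem e ∧ W.basicOpen e = Z := by
  let Zc : W.Opens := ⟨(Z : Set W)ᶜ, hZ.isOpen_compl⟩
  let U : Bool → W.Opens := fun b => if b then Z else Zc
  have hcov : (⊤ : W.Opens) ≤ ⨆ i, U i := by
    intro x _
    rw [Opens.mem_iSup]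
    by_cases hx : x ∈ Z
    · exact ⟨true, hx⟩
    · exact ⟨false, hx⟩
  have hdisj : Z ⊓ Zc = ⊥ := by
    ext x
    simp only [Opens.coe_inf, Opens.coe_bot, Set.mem_inter_iff, Set.mem_empty_iff_false,
      iff_false, not_and]
    intro hx hx'
    exact hx' hx
  let sf : ∀ b, Γ(W, U b) := fun b => if b then 1 else 0
  have hsub : ∀ (O : W.Opens), O = ⊥ → Subsingleton Γ(W, O) := by
    rintro O rfl
    infer_instance
  have hcompat : ∀ i j,
      (W.presheaf.map (homOfLE (inf_le_left : U i ⊓ U j ≤ U i)).op).hom (sf i) =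
      (W.presheaf.map (homOfLE (inf_le_right : U i ⊓ U j ≤ U j)).op).hom (sf j) := by
    intro i j
    cases i <;> cases j
    · rfl
    · haveI := hsub (U false ⊓ U true) (by rw [inf_comm]; exact hdisj)
      exact Subsingleton.elim _ _
    · haveI := hsub (U true ⊓ U false) hdisj
      exact Subsingleton.elim _ _
    · rfl
  obtain ⟨e, he⟩ := exists_glue W U ⊤ (fun _ => le_top) hcov sf hcompat
  have he1 : (W.presheaf.map (homOfLE (le_top : Z ≤ ⊤)).op).hom e = 1 := he true
  have he0 : (W.presheaf.map (homOfLE (le_top : Zc ≤ ⊤)).op).hom e = 0 := he false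
  refine ⟨e, ?_, ?_⟩
  · refine eq_of_res_eq W U ⊤ (fun _ => le_top) hcov _ _ ?_
    intro b
    cases b
    · change (W.presheaf.map (homOfLE (le_top : Zc ≤ ⊤)).op).hom (e * e) =
        (W.presheaf.map (homOfLE (le_top : Zc ≤ ⊤)).op).hom e
      rw [map_mul, he0, mul_zero]
    · change (W.presheaf.map (homOfLE (le_top : Z ≤ ⊤)).op).hom (e * e) =
        (W.presheaf.map (homOfLE (le_top : Z ≤ ⊤)).op).hom e
      rw [map_mul, he1, mul_one]
  · have h1 : Z ⊓ W.basicOpen e = Z := by
      rw [← Scheme.basicOpen_res W e (homOfLE (le_top : Z ≤ ⊤)).op]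
      change W.basicOpen ((W.presheaf.map (homOfLE (le_top : Z ≤ ⊤)).op).hom e) = Z
      rw [he1]
      exact W.basicOpen_of_isUnit isUnit_one
    have h0 : Zc ⊓ W.basicOpen e = ⊥ := by
      rw [← Scheme.basicOpen_res W e (homOfLE (le_top : Zc ≤ ⊤)).op]
      change W.basicOpen ((W.presheaf.map (homOfLE (le_top : Zc ≤ ⊤)).op).hom e) = ⊥
      rw [he0]
      exact W.basicOpen_zero _
    apply le_antisymm
    · intro x hx
      by_contra hxZ
      have : x ∈ Zc ⊓ W.basicOpen e := ⟨hxZ, hx⟩
      rw [h0] at this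
      exact this
    · rw [← h1]
      exact inf_le_right

/-- the basic open of an idempotent global section is closed. -/
theorem isClosed_basicOpen_of_idempotent (e : Γ(W, ⊤)) (he : IsIdempotentElem e) :
    IsClosed (W.basicOpen e : Set W) := by
  have h1 : W.basicOpen e ⊓ W.basicOpen (1 - e) = ⊥ := by
    rw [← Scheme.basicOpen_mul]
    have : e * (1 - e) = 0 := by
      rw [mul_sub, mul_one, he.eq, sub_self]
    rw [this]
    exact W.basicOpen_zero _
  have h2 : (W.basicOpen e : Set W)ᶜ = (W.basicOpen (1 - e) : Set W) := by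
    ext x
    constructor
    · intro hx
      -- in the local ring at `x`, `e` or `1 - e` is a unit
      have hmem : x ∈ (⊤ : W.Opens) := trivial
      have := IsLocalRing.isUnit_or_isUnit_of_add_one (R := W.presheaf.stalk x)
        (a := (W.presheaf.germ ⊤ x hmem).hom e) (b := (W.presheaf.germ ⊤ x hmem).hom (1 - e))
        (by rw [← map_add, add_sub_cancel, map_one])
      rcases this with h | h
      · exact absurd ((W.mem_basicOpen _ _ hmem).mpr h) hx
      · exact (W.mem_basicOpen _ _ hmem).mpr h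
    · intro hx hx'
      have : x ∈ W.basicOpen e ⊓ W.basicOpen (1 - e) := ⟨hx', hx⟩
      rw [h1] at this
      exact this
  rw [← isOpen_compl_iff, h2]
  exact (W.basicOpen (1 - e)).isOpen

/-- an idempotent global section whose basic open is everything equals one. -/
theorem eq_one_of_idempotent_of_basicOpen_eq_top (e : Γ(W, ⊤)) (he : IsIdempotentElem e)
    (h : W.basicOpen e = ⊤) : e = 1 := by
  have hu : IsUnit e := by
    apply RingedSpace.isUnit_of_isUnit_germ W.toRingedSpace ⊤ e
    intro x hx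
    have hx' : x ∈ W.basicOpen e := by rw [h]; trivial
    exact (W.mem_basicOpen e x hx).mp hx'
  obtain ⟨u, rfl⟩ := hu
  have h1 := congrArg (fun x => ((u⁻¹ : (Γ(W, ⊤))ˣ) : Γ(W, ⊤)) * x) he.eq
  simpa using h1

end Groth.Agent.H6.ClopIdem
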