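import Mathlib
import Groth.Agent.Lib.Helper6.BCS1
import Groth.Agent.Lib.Helper6.ClopIdem

universe u
open CategoryTheory CategoryTheory.Limits AlgebraicGeometry TopologicalSpace Opposite

set_option linter.unusedSectionVars false
set_option linter.unusedSimpArgs false
set_option linter.style.haveILetI false
namespace Groth.Agent.H6.BCS

variable {P Y' X S : Scheme.{u}} {pr : P ⟶ Y'} {pr' : P ⟶ X} {π : Y' ⟶ S} {f : X ⟶ S}

section

variable (H : IsPullback pr pr' π f) (U : S.Opens)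

include H in
theorem preimage_eq : pr ⁻¹ᵁ (π ⁻¹ᵁ U) = pr' ⁻¹ᵁ (f ⁻¹ᵁ U) := by
  change (pr ≫ π) ⁻¹ᵁ U = (pr' ≫ f) ⁻¹ᵁ U
  rw [H.w]

include H in
theorem preimage_le (V : X.Opens) (hVU : V ≤ f ⁻¹ᵁ U) : pr' ⁻¹ᵁ V ≤ pr ⁻¹ᵁ (π ⁻¹ᵁ U) := by
  rw [preimage_eq H U]
  exact fun x hx => hVU hx

include H in
theorem isPushout_sections (hU : IsAffineOpen U) (hπU : IsAffineOpen (π ⁻¹ᵁ U)) (V : X.Opens)
    (hV : IsAffineOpen V) (hVU : V ≤ f ⁻¹ᵁ U) :
    IsPushout (π.app U) (f.appLE U V hVU)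
      (pr.appLE (π ⁻¹ᵁ U) (pr' ⁻¹ᵁ V) (preimage_le H U V hVU)) (pr'.app V) := by
  have hUY : pr' ⁻¹ᵁ V = pr ⁻¹ᵁ (π ⁻¹ᵁ U) ⊓ pr' ⁻¹ᵁ V := by
    apply le_antisymm
    · exact le_inf (preimage_le H U V hVU) le_rfl
    · exact inf_le_right
  have iso := isIso_pushoutSection_of_isAffineOpen H hVU (le_refl (π ⁻¹ᵁ U)) hUY hU hV hπU
  have po := (isIso_pushoutSection_iff H hVU (le_refl _) hUY).mp iso
  rw [Scheme.Hom.app_eq_appLE (f := π), Scheme.Hom.app_eq_appLE (f := pr')]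
  exact po


theorem res_res (W : Scheme.{u}) {U₁ U₂ U₃ : W.Opens} (h₁ : U₁ ≤ U₂) (h₂ : U₂ ≤ U₃)
    (x : Γ(W, U₃)) :
    (W.presheaf.map (homOfLE h₁).op).hom ((W.presheaf.map (homOfLE h₂).op).hom x) =
      (W.presheaf.map (homOfLE (h₁.trans h₂)).op).hom x := by
  rw [← CommRingCat.comp_apply, ← Functor.map_comp]
  rfl

theorem cover_affine_le (X : Scheme.{u}) (W : X.Opens) :
    W ≤ ⨆ V : { V : X.Opens // IsAffineOpen V ∧ V ≤ W }, (V : X.Opens) := by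
  intro x hx
  obtain ⟨_, ⟨V, hV, rfl⟩, hxV, hVW⟩ :=
    X.isBasis_affineOpens.exists_subset_of_mem_open hx W.2
  rw [Opens.mem_iSup]
  exact ⟨⟨V, hV, hVW⟩, hxV⟩

include H in
theorem bijective_app_of_dualBasis (hU : IsAffineOpen U) (hπU : IsAffineOpen (π ⁻¹ᵁ U))
    (hf : Function.Bijective (f.app U).hom)
    {n : ℕ} (r : Fin n → Γ(Y', π ⁻¹ᵁ U)) (φ : Fin n → (Γ(Y', π ⁻¹ᵁ U) → Γ(S, U)))
    (hadd : ∀ j x y, φ j (x + y) = φ j x + φ j y)
    (hsmul : ∀ j a x, φ j ((π.app U).hom a * x) = a * φ j x)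
    (hdec : ∀ x : Γ(Y', π ⁻¹ᵁ U), x = ∑ j, (π.app U).hom (φ j x) * r j) :
    Function.Bijective (pr.app (π ⁻¹ᵁ U)).hom := by
  -- the index type of affine opens inside `f ⁻¹ U`
  let I := { V : X.Opens // IsAffineOpen V ∧ V ≤ f ⁻¹ᵁ U }
  -- the data for each affine open
  have hex : ∀ V : I, ∃ Φ : Fin n → (Γ(P, pr' ⁻¹ᵁ V.1) →+ Γ(X, V.1)),
      (∀ j c t, Φ j ((pr'.app V.1).hom c * t) = c * Φ j t) ∧
      (∀ j x, Φ j ((pr.appLE (π ⁻¹ᵁ U) (pr' ⁻¹ᵁ V.1) (preimage_le H U V.1 V.2.2)).hom x) =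
        (f.appLE U V.1 V.2.2).hom (φ j x)) ∧
      (∀ t, t = ∑ j, (pr'.app V.1).hom (Φ j t) *
        (pr.appLE (π ⁻¹ᵁ U) (pr' ⁻¹ᵁ V.1) (preimage_le H U V.1 V.2.2)).hom (r j)) := fun V =>
    exists_dualBasis_of_isPushout _ _ _ _ (isPushout_sections H U hU hπU V.1 V.2.1 V.2.2)
      r φ hadd hsmul hdec
  choose Φ hΦsmul hΦeps hΦdec using hex
  -- restriction maps
  have hεres : ∀ (V V' : I) (h : V'.1 ≤ V.1) (x : Γ(Y', π ⁻¹ᵁ U)),
      (P.presheaf.map (homOfLE (show pr' ⁻¹ᵁ V'.1 ≤ pr' ⁻¹ᵁ V.1 from fun y hy => h hy)).op).hom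
        ((pr.appLE (π ⁻¹ᵁ U) (pr' ⁻¹ᵁ V.1) (preimage_le H U V.1 V.2.2)).hom x) =
      (pr.appLE (π ⁻¹ᵁ U) (pr' ⁻¹ᵁ V'.1) (preimage_le H U V'.1 V'.2.2)).hom x := by
    intro V V' h x
    have := Scheme.Hom.appLE_map pr (preimage_le H U V.1 V.2.2)
      (homOfLE (show pr' ⁻¹ᵁ V'.1 ≤ pr' ⁻¹ᵁ V.1 from fun y hy => h hy)).op
    exact congrArg (fun q => q.hom x) this
  have hψres : ∀ (V V' : I) (h : V'.1 ≤ V.1) (c : Γ(X, V.1)),
      (P.presheaf.map (homOfLE (show pr' ⁻¹ᵁ V'.1 ≤ pr' ⁻¹ᵁ V.1 from fun y hy => h hy)).op).hom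
        ((pr'.app V.1).hom c) =
      (pr'.app V'.1).hom ((X.presheaf.map (homOfLE h).op).hom c) := by
    intro V V' h c
    have := pr'.naturality (homOfLE h).op
    exact (congrArg (fun q => q.hom c) this).symm
  have hγres : ∀ (V V' : I) (h : V'.1 ≤ V.1) (a : Γ(S, U)),
      (X.presheaf.map (homOfLE h).op).hom ((f.appLE U V.1 V.2.2).hom a) =
      (f.appLE U V'.1 V'.2.2).hom a := by
    intro V V' h a
    have := Scheme.Hom.appLE_map f V.2.2 (homOfLE h).op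
    exact congrArg (fun q => q.hom a) this
  -- naturality of `Φ`
  have hnat : ∀ (V V' : I) (h : V'.1 ≤ V.1) (j : Fin n) (t : Γ(P, pr' ⁻¹ᵁ V.1)),
      Φ V' j ((P.presheaf.map (homOfLE (show pr' ⁻¹ᵁ V'.1 ≤ pr' ⁻¹ᵁ V.1 from
        fun y hy => h hy)).op).hom t) = (X.presheaf.map (homOfLE h).op).hom (Φ V j t) := by
    intro V V' h j t
    conv_lhs => rw [hΦdec V t]
    conv_rhs => rw [hΦdec V t]
    rw [map_sum, map_sum, map_sum, map_sum]
    refine Finset.sum_congr rfl fun k _ => ?_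
    rw [map_mul, hψres V V' h, hεres V V' h, hΦsmul, hΦeps, hΦsmul, hΦeps, map_mul, hγres V V' h]
  have hinj : Function.Injective (pr.app (π ⁻¹ᵁ U)).hom := by
    rw [injective_iff_map_eq_zero]
    intro s hs
    have hcoef : ∀ j, φ j s = 0 := by
      intro j
      apply hf.1
      rw [map_zero]
      refine ClopIdem.eq_of_res_eq X (fun V : I => V.1) (f ⁻¹ᵁ U) (fun V => V.2.2)
        (cover_affine_le X _) _ _ ?_
      intro V
      rw [map_zero]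
      have h1 : (X.presheaf.map (homOfLE V.2.2).op).hom ((f.app U).hom (φ j s)) =
          (f.appLE U V.1 V.2.2).hom (φ j s) := rfl
      have h2 : (pr.appLE (π ⁻¹ᵁ U) (pr' ⁻¹ᵁ V.1) (preimage_le H U V.1 V.2.2)).hom s =
          (P.presheaf.map (homOfLE (preimage_le H U V.1 V.2.2)).op).hom
            ((pr.app (π ⁻¹ᵁ U)).hom s) := rfl
      rw [h1, ← hΦeps V j s, h2, hs, map_zero, map_zero]
    rw [hdec s]
    simp [hcoef]
  have hsurj : Function.Surjective (pr.app (π ⁻¹ᵁ U)).hom := by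
    intro t
    let tV : ∀ V : I, Γ(P, pr' ⁻¹ᵁ V.1) := fun V =>
      (P.presheaf.map (homOfLE (preimage_le H U V.1 V.2.2)).op).hom t
    have htV : ∀ (V V' : I) (h : V'.1 ≤ V.1),
        (P.presheaf.map (homOfLE (show pr' ⁻¹ᵁ V'.1 ≤ pr' ⁻¹ᵁ V.1 from
          fun y hy => h hy)).op).hom (tV V) = tV V' := by
      intro V V' h
      exact res_res P _ _ t
    have hglue : ∀ j, ∃ c : Γ(X, f ⁻¹ᵁ U), ∀ V : I,
        (X.presheaf.map (homOfLE V.2.2).op).hom c = Φ V j (tV V) := by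
      intro j
      refine ClopIdem.exists_glue X (fun V : I => V.1) (f ⁻¹ᵁ U) (fun V => V.2.2)
        (cover_affine_le X _) (fun V => Φ V j (tV V)) ?_
      intro V₁ V₂
      refine ClopIdem.eq_of_res_eq X
        (fun V₃ : { V : X.Opens // IsAffineOpen V ∧ V ≤ V₁.1 ⊓ V₂.1 } => V₃.1) (V₁.1 ⊓ V₂.1)
        (fun V₃ => V₃.2.2) (cover_affine_le X _) _ _ ?_
      intro V₃
      let V₃' : I := ⟨V₃.1, V₃.2.1, V₃.2.2.trans (inf_le_left.trans V₁.2.2)⟩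
      have h31 : V₃'.1 ≤ V₁.1 := V₃.2.2.trans inf_le_left
      have h32 : V₃'.1 ≤ V₂.1 := V₃.2.2.trans inf_le_right
      rw [res_res, res_res]
      have e1 := hnat V₁ V₃' h31 j (tV V₁)
      have e2 := hnat V₂ V₃' h32 j (tV V₂)
      rw [htV V₁ V₃' h31] at e1
      rw [htV V₂ V₃' h32] at e2
      exact e1.symm.trans e2
    choose c hc using hglue
    choose a ha using fun j => hf.2 (c j)
    refine ⟨∑ j, (π.app U).hom (a j) * r j, ?_⟩
    have hcovP : pr ⁻¹ᵁ (π ⁻¹ᵁ U) ≤ ⨆ V : I, pr' ⁻¹ᵁ V.1 := by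
      intro x hx
      rw [preimage_eq H U] at hx
      have := cover_affine_le X (f ⁻¹ᵁ U) hx
      rw [Opens.mem_iSup] at this ⊢
      obtain ⟨V, hV⟩ := this
      exact ⟨V, hV⟩
    refine ClopIdem.eq_of_res_eq P (fun V : I => pr' ⁻¹ᵁ V.1) (pr ⁻¹ᵁ (π ⁻¹ᵁ U))
      (fun V => preimage_le H U V.1 V.2.2) hcovP _ _ ?_
    intro V
    have h2 : ∀ s, (P.presheaf.map (homOfLE (preimage_le H U V.1 V.2.2)).op).hom
          ((pr.app (π ⁻¹ᵁ U)).hom s) =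
        (pr.appLE (π ⁻¹ᵁ U) (pr' ⁻¹ᵁ V.1) (preimage_le H U V.1 V.2.2)).hom s := fun _ => rfl
    have hw : ∀ a' : Γ(S, U),
        (pr.appLE (π ⁻¹ᵁ U) (pr' ⁻¹ᵁ V.1) (preimage_le H U V.1 V.2.2)).hom ((π.app U).hom a') =
        (pr'.app V.1).hom ((f.appLE U V.1 V.2.2).hom a') := by
      intro a'
      have := (isPushout_sections H U hU hπU V.1 V.2.1 V.2.2).w
      exact congrArg (fun q => q.hom a') this
    have hγ : ∀ j, (f.appLE U V.1 V.2.2).hom (a j) = Φ V j (tV V) := by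
      intro j
      have h1 : (f.appLE U V.1 V.2.2).hom (a j) =
          (X.presheaf.map (homOfLE V.2.2).op).hom ((f.app U).hom (a j)) := rfl
      rw [h1, ha j, hc j V]
    rw [h2, map_sum]
    conv_rhs => rw [show (P.presheaf.map (homOfLE (preimage_le H U V.1 V.2.2)).op).hom t = tV V
      from rfl, hΦdec V (tV V)]
    refine Finset.sum_congr rfl fun j _ => ?_
    rw [map_mul, hw, hγ]
  exact ⟨hinj, hsurj⟩

end

end Groth.Agent.H6.BCS
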