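import Mathlib
import Groth.Agent.Lib.Helper6.BCS2

universe u
open CategoryTheory CategoryTheory.Limits AlgebraicGeometry TopologicalSpace Opposite

set_option linter.unusedSectionVars false
set_option linter.unusedSimpArgs false
set_option linter.style.haveILetI false
namespace Groth.Agent.H6.BCS

/-- dual basis of the sections of a finite locally free morphism over an affine open. -/
theorem exists_dualBasis_sections {Y' S : Scheme.{u}} (π : Y' ⟶ S) [IsFinite π] [Flat π]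
    [LocallyOfFinitePresentation π] (U : S.Opens) (hU : IsAffineOpen U) :
    ∃ (n : ℕ) (r : Fin n → Γ(Y', π ⁻¹ᵁ U)) (φ : Fin n → (Γ(Y', π ⁻¹ᵁ U) → Γ(S, U))),
      (∀ j x y, φ j (x + y) = φ j x + φ j y) ∧
      (∀ j a x, φ j ((π.app U).hom a * x) = a * φ j x) ∧
      (∀ x : Γ(Y', π ⁻¹ᵁ U), x = ∑ j, (π.app U).hom (φ j x) * r j) := by
  have hπU : IsAffineOpen (π ⁻¹ᵁ U) := hU.preimage π
  letI : Algebra Γ(S, U) Γ(Y', π ⁻¹ᵁ U) := (π.app U).hom.toAlgebra
  haveI : Module.Finite Γ(S, U) Γ(Y', π ⁻¹ᵁ U) := IsFinite.finite_app (f := π) U hU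
  haveI : Module.Flat Γ(S, U) Γ(Y', π ⁻¹ᵁ U) := by
    have := π.flat_appLE hU hπU le_rfl
    rw [Scheme.Hom.appLE_eq_app] at this
    exact this
  haveI : Algebra.FinitePresentation Γ(S, U) Γ(Y', π ⁻¹ᵁ U) := by
    have := π.finitePresentation_appLE hU hπU le_rfl
    rw [Scheme.Hom.appLE_eq_app] at this
    exact this
  haveI : Module.FinitePresentation Γ(S, U) Γ(Y', π ⁻¹ᵁ U) :=
    Module.FinitePresentation.of_finite_of_finitePresentation _ _
  haveI : Module.Projective Γ(S, U) Γ(Y', π ⁻¹ᵁ U) :=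
    Module.Flat.projective_of_finitePresentation
  obtain ⟨n, p, g, -, -, hpg⟩ :=
    Module.Finite.exists_comp_eq_id_of_projective Γ(S, U) Γ(Y', π ⁻¹ᵁ U)
  refine ⟨n, fun j => p (Pi.single j 1), fun j x => g x j, ?_, ?_, ?_⟩
  · intro j x y
    change g (x + y) j = g x j + g y j
    rw [map_add]
    rfl
  · intro j a x
    have : (π.app U).hom a * x = a • x := (Algebra.smul_def a x).symm
    change g ((π.app U).hom a * x) j = a * g x j
    rw [this, map_smul]
    rfl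
  · intro x
    have h1 : p (g x) = x := congrArg (fun q => q x) hpg
    have h2 : g x = ∑ j, (g x j) • (Pi.single j 1 : Fin n → Γ(S, U)) := by
      ext k
      simp [Finset.sum_apply, Pi.single_apply]
    conv_lhs => rw [← h1, h2]
    rw [map_sum]
    refine Finset.sum_congr rfl fun j _ => ?_
    rw [map_smul, Algebra.smul_def]
    rfl


/-- a morphism inducing bijections on the sections over the members of a cover of the target which
is closed under refinement of pairwise intersections induces a bijection on global sections. -/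
theorem bijective_app_top_of_cover {P T : Scheme.{u}} (q : P ⟶ T) {ι : Type*}
    (𝒱 : ι → T.Opens) (hcov : (⊤ : T.Opens) ≤ ⨆ i, 𝒱 i)
    (href : ∀ i j, 𝒱 i ⊓ 𝒱 j ≤ ⨆ k : { k : ι // 𝒱 k ≤ 𝒱 i ⊓ 𝒱 j }, 𝒱 k.1)
    (hbij : ∀ i, Function.Bijective (q.app (𝒱 i)).hom) :
    Function.Bijective (q.app ⊤).hom := by
  have hnat : ∀ (V V' : T.Opens) (h : V' ≤ V) (s : Γ(T, V)),
      (q.app V').hom ((T.presheaf.map (homOfLE h).op).hom s) =
      (P.presheaf.map (homOfLE (show q ⁻¹ᵁ V' ≤ q ⁻¹ᵁ V from fun y hy => h hy)).op).hom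
        ((q.app V).hom s) := by
    intro V V' h s
    have := q.naturality (homOfLE h).op
    exact congrArg (fun φ => φ.hom s) this
  have hcovP : (q ⁻¹ᵁ (⊤ : T.Opens)) ≤ ⨆ i, q ⁻¹ᵁ 𝒱 i := by
    intro x _
    have := hcov (show q.base x ∈ (⊤ : T.Opens) from trivial)
    rw [Opens.mem_iSup] at this ⊢
    exact this
  constructor
  · rw [injective_iff_map_eq_zero]
    intro s hs
    refine ClopIdem.eq_of_res_eq T 𝒱 ⊤ (fun _ => le_top) hcov _ _ ?_
    intro i
    rw [map_zero]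
    apply (hbij i).1
    rw [hnat ⊤ (𝒱 i) le_top s, hs, map_zero, map_zero]
  · intro t
    choose s hs using fun i => (hbij i).2
      ((P.presheaf.map (homOfLE (show q ⁻¹ᵁ 𝒱 i ≤ q ⁻¹ᵁ ⊤ from fun y _ => trivial)).op).hom t)
    obtain ⟨s0, hs0⟩ := ClopIdem.exists_glue T 𝒱 ⊤ (fun _ => le_top) hcov s (by
      intro i j
      refine ClopIdem.eq_of_res_eq T (fun k : { k : ι // 𝒱 k ≤ 𝒱 i ⊓ 𝒱 j } => 𝒱 k.1)
        (𝒱 i ⊓ 𝒱 j) (fun k => k.2) (href i j) _ _ ?_
      intro k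
      rw [res_res, res_res]
      have hki : 𝒱 k.1 ≤ 𝒱 i := k.2.trans inf_le_left
      have hkj : 𝒱 k.1 ≤ 𝒱 j := k.2.trans inf_le_right
      have e1 : (T.presheaf.map (homOfLE hki).op).hom (s i) = s k.1 := by
        apply (hbij k.1).1
        rw [hnat (𝒱 i) (𝒱 k.1) hki (s i), hs i, hs k.1, res_res]
      have e2 : (T.presheaf.map (homOfLE hkj).op).hom (s j) = s k.1 := by
        apply (hbij k.1).1
        rw [hnat (𝒱 j) (𝒱 k.1) hkj (s j), hs j, hs k.1, res_res]
      exact e1.trans e2.symm)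
    refine ⟨s0, ?_⟩
    refine ClopIdem.eq_of_res_eq P (fun i => q ⁻¹ᵁ 𝒱 i) (q ⁻¹ᵁ ⊤)
      (fun i => fun y _ => trivial) hcovP _ _ ?_
    intro i
    rw [← hnat ⊤ (𝒱 i) le_top s0, hs0 i, hs i]

/-- sections of the base change of a finite locally free morphism along a morphism `f` with
`𝒪_S ≅ f_* 𝒪_X`. -/
theorem bijective_app_top_of_isPullback {P Y' X S : Scheme.{u}} {pr : P ⟶ Y'} {pr' : P ⟶ X}
    {π : Y' ⟶ S} {f : X ⟶ S} (H : IsPullback pr pr' π f) [IsFinite π] [Flat π]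
    [LocallyOfFinitePresentation π] (hf : ∀ U : S.Opens, Function.Bijective (f.app U).hom) :
    Function.Bijective (pr.app ⊤).hom := by
  let I := { U : S.Opens // IsAffineOpen U }
  refine bijective_app_top_of_cover pr (fun U : I => π ⁻¹ᵁ U.1) ?_ ?_ ?_
  · intro y _
    obtain ⟨_, ⟨U, hU, rfl⟩, hyU, -⟩ :=
      S.isBasis_affineOpens.exists_subset_of_mem_open (Set.mem_univ (π.base y)) isOpen_univ
    rw [Opens.mem_iSup]
    exact ⟨⟨U, hU⟩, hyU⟩
  · intro U₁ U₂ y hy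
    have hy' : π.base y ∈ U₁.1 ⊓ U₂.1 := hy
    obtain ⟨_, ⟨U, hU, rfl⟩, hyU, hU12⟩ :=
      S.isBasis_affineOpens.exists_subset_of_mem_open hy' (U₁.1 ⊓ U₂.1).2
    rw [Opens.mem_iSup]
    exact ⟨⟨⟨U, hU⟩, fun z hz => hU12 hz⟩, hyU⟩
  · intro U
    obtain ⟨n, r, φ, hadd, hsmul, hdec⟩ := exists_dualBasis_sections π U.1 U.2
    exact bijective_app_of_dualBasis H U.1 U.2 (U.2.preimage π) (hf U.1) r φ hadd hsmul hdec

end Groth.Agent.H6.BCS
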