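import Groth.Agent.Lib.Helper6.GrStarBass

universe u
open CategoryTheory CategoryTheory.Abelian
open scoped TensorProduct
set_option linter.unusedSectionVars false

namespace Groth.Agent.H6

namespace BassGlobal

section Local

variable {A : Type u} [CommRing A] [IsLocalRing A] [IsNoetherianRing A]
  (N : Type u) [AddCommGroup N] [Module A N]

theorem ext_zero_nontrivial_iff :
    ¬ Subsingleton (Ext.{u} (ModuleCat.of A (IsLocalRing.ResidueField A)) (ModuleCat.of A N) 0) ↔
      IsLocalRing.maximalIdeal A ∈ associatedPrimes A N := by
  constructor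
  · intro h
    rw [not_subsingleton_iff_nontrivial] at h
    obtain ⟨x, hx⟩ := exists_ne (0 : Ext.{u} (ModuleCat.of A (IsLocalRing.ResidueField A))
      (ModuleCat.of A N) 0)
    obtain ⟨φ, rfl⟩ := (Ext.mk₀_bijective _ _).2 x
    have hφ : φ ≠ 0 := by
      rintro rfl
      exact hx (Ext.mk₀_zero _ _)
    have hy : φ.hom (1 : IsLocalRing.ResidueField A) ≠ 0 := by
      intro h1
      apply hφ
      ext z
      obtain ⟨r, rfl⟩ := IsLocalRing.residue_surjective z
      have : (IsLocalRing.residue A r : IsLocalRing.ResidueField A) =
          r • (1 : IsLocalRing.ResidueField A) := by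
        rw [Algebra.smul_def, mul_one]; rfl
      change φ.hom (IsLocalRing.residue A r) = 0
      rw [this, map_smul, h1, smul_zero]
    rw [AssociatedPrimes.mem_iff, isAssociatedPrime_iff]
    refine ⟨inferInstance, φ.hom 1, ?_⟩
    symm
    refine (IsLocalRing.maximalIdeal.isMaximal A).eq_of_le ?_ ?_ |>.symm
    · rw [Ne, Ideal.eq_top_iff_one, Submodule.mem_colon_singleton, one_smul]
      exact hy
    · intro a ha
      rw [Submodule.mem_colon_singleton, Submodule.mem_bot, ← map_smul]
      have : a • (1 : IsLocalRing.ResidueField A) = 0 := by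
        rw [Algebra.smul_def, mul_one]
        exact (IsLocalRing.residue_eq_zero_iff a).mpr ha
      rw [this, map_zero]
  · intro h
    rw [AssociatedPrimes.mem_iff, isAssociatedPrime_iff] at h
    obtain ⟨_, y, hy⟩ := h
    have hle : IsLocalRing.maximalIdeal A ≤ LinearMap.ker (LinearMap.toSpanSingleton A N y) := by
      intro a ha
      rw [hy, Submodule.mem_colon_singleton, Submodule.mem_bot] at ha
      rw [LinearMap.mem_ker, LinearMap.toSpanSingleton_apply]
      exact ha
    let φ : IsLocalRing.ResidueField A →ₗ[A] N :=
      Submodule.liftQ (IsLocalRing.maximalIdeal A) (LinearMap.toSpanSingleton A N y) hle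
    have hφ1 : φ (1 : IsLocalRing.ResidueField A) = y := by
      have : φ (Submodule.Quotient.mk (1 : A)) = y :=
        (Submodule.liftQ_apply _ _ _).trans (by rw [LinearMap.toSpanSingleton_apply, one_smul])
      exact this
    have hy0 : y ≠ 0 := by
      rintro rfl
      have : (1 : A) ∈ IsLocalRing.maximalIdeal A := by
        rw [hy, Submodule.mem_colon_singleton, smul_zero]
        exact Submodule.zero_mem _
      exact (IsLocalRing.maximalIdeal.isMaximal A).ne_top ((Ideal.eq_top_iff_one _).mpr this)
    intro hsub
    have h1 : Ext.mk₀ (ModuleCat.ofHom φ) = (0 : Ext.{u} (ModuleCat.of A (IsLocalRing.ResidueField A))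
      (ModuleCat.of A N) 0) := hsub.elim _ _
    rw [← Ext.mk₀_zero] at h1
    have h2 := (Ext.mk₀_bijective _ _).1 h1
    apply hy0
    rw [← hφ1]
    have := congrArg (fun f => f.hom (1 : IsLocalRing.ResidueField A)) h2
    exact this

end Local

variable {R : Type u} [CommRing R] [IsNoetherianRing R]

theorem bassNum_zero_ne_zero_iff (q : Ideal R) [q.IsPrime] (M : Type u) [AddCommGroup M]
    [Module R M] : GrLC.bassNum q M 0 ≠ 0 ↔ q ∈ associatedPrimes R M := by
  rw [Ne, bassNum_eq_zero_iff, ext_zero_nontrivial_iff]
  constructor
  · intro h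
    have := Module.associatedPrimes.comap_mem_associatedPrimes_of_mem_associatedPrimes_of_isLocalizedModule_of_fg
      q.primeCompl (LocalizedModule.mkLinearMap q.primeCompl M)
      (IsLocalRing.maximalIdeal (Localization.AtPrime q)) h
      ((isNoetherianRing_iff_ideal_fg R).mp inferInstance _)
    have h2 : Ideal.comap (algebraMap R (Localization.AtPrime q))
        (IsLocalRing.maximalIdeal (Localization.AtPrime q)) = q :=
      Localization.AtPrime.comap_maximalIdeal
    rwa [h2] at this
  · intro h
    exact Module.associatedPrimes.mem_associatedPrimes_atPrime_of_mem_associatedPrimes h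

end BassGlobal

end Groth.Agent.H6
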