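import Groth.Agent.Lib.Helper6.SocDecomp
import Groth.Agent.Lib.Helper6.GrExt

universe u
open CategoryTheory CategoryTheory.Abelian
open scoped TensorProduct
set_option linter.unusedSectionVars false

namespace Groth.Agent.H6

namespace ExtLin

variable {R : Type u} [CommRing R]
variable {S : ShortComplex (ModuleCat.{u} R)} (hS : S.ShortExact)

/-- the connecting isomorphism when `Ext^{>0}(F, X₂)` vanishes and `Hom(F, X₁) → Hom(F, X₂)` is
surjective -/
noncomputable def δEquiv' (F : ModuleCat.{u} R) (h : ∀ i, Subsingleton (Ext F S.X₂ (i + 1)))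
    (h0 : ∀ x₂ : Ext F S.X₂ 0, ∃ x₁ : Ext F S.X₁ 0, x₁.comp (Ext.mk₀ S.f) (add_zero 0) = x₂)
    (i : ℕ) : Ext F S.X₃ i ≃ₗ[R] Ext F S.X₁ (i + 1) :=
  LinearEquiv.ofBijective (hS.extClass.postcompOfLinear R F rfl) (by
    constructor
    · rw [← LinearMap.ker_eq_bot, eq_bot_iff]
      intro x hx
      rw [LinearMap.mem_ker] at hx
      obtain ⟨x₂, rfl⟩ := Ext.covariant_sequence_exact₃ F hS x rfl hx
      cases i with
      | zero =>
        obtain ⟨x₁, rfl⟩ := h0 x₂
        rw [Ext.comp_assoc_of_third_deg_zero, Ext.mk₀_comp_mk₀, S.zero, Ext.mk₀_zero,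
          Ext.comp_zero]
        exact Submodule.zero_mem _
      | succ j =>
        rw [(h j).elim x₂ 0, Ext.zero_comp]
        exact Submodule.zero_mem _
    · intro x₁
      exact Ext.covariant_sequence_exact₁ F hS x₁ ((h i).elim _ _) rfl)

end ExtLin

namespace Soc

section Shift

variable {R : Type u} [CommRing R] [IsNoetherianRing R] (p : Ideal R) [hp : p.IsPrime]
variable {A B C : Type u} [AddCommGroup A] [Module R A] [AddCommGroup B] [Module R B]
  [AddCommGroup C] [Module R C] (φ : A →ₗ[R] B) (ψ : B →ₗ[R] C)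
  (hφ : Function.Injective φ) (hψ : Function.Surjective ψ) (hex : Function.Exact φ ψ)

include hφ hψ hex in
/-- dimension shifting for Bass numbers along `0 → A → B → C → 0` when `B` has no higher Bass
numbers at `p` and the same socle at `p` as `A` -/
theorem bassNum_shift (hB : ∀ i, GrLC.bassNum p B (i + 1) = 0)
    (hsoc : (soc p A).map (LocalizedModule.map p.primeCompl φ) = soc p B) (i : ℕ) :
    GrLC.bassNum p C i = GrLC.bassNum p A (i + 1) := by
  let Rp := Localization.AtPrime p
  let m := IsLocalRing.maximalIdeal Rp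
  let F := LocalizedModule.map p.primeCompl φ
  let G := LocalizedModule.map p.primeCompl ψ
  have hFG : Function.Exact F G := LocalizedModule.map_exact p.primeCompl φ ψ hex
  have hFinj : Function.Injective F := LocalizedModule.map_injective _ φ hφ
  have hGsurj : Function.Surjective G := LocalizedModule.map_surjective _ ψ hψ
  let S : ShortComplex (ModuleCat.{u} Rp) :=
    ShortComplex.mk (ModuleCat.ofHom F) (ModuleCat.ofHom G) (by
      ext y; exact hFG.apply_apply_eq_zero y)
  have hS : S.ShortExact := ModuleCat.shortComplex_shortExact S hFG hFinj hGsurj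
  let k := ModuleCat.of Rp (IsLocalRing.ResidueField Rp)
  have h : ∀ i, Subsingleton (Ext.{u} k S.X₂ (i + 1)) := fun i =>
    (BassGlobal.bassNum_eq_zero_iff p B (i + 1)).mp (hB i)
  have h0 : ∀ x₂ : Ext.{u} k S.X₂ 0, ∃ x₁ : Ext.{u} k S.X₁ 0,
      x₁.comp (Ext.mk₀ S.f) (add_zero 0) = x₂ := by
    intro x₂
    obtain ⟨g, rfl⟩ := (Ext.mk₀_bijective _ _).2 x₂
    have hg1 : g.hom (1 : IsLocalRing.ResidueField Rp) ∈ soc p B := by
      unfold soc
      rw [Submodule.mem_torsionBySet_iff]
      rintro ⟨c, hc⟩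
      change c • g.hom 1 = 0
      rw [← map_smul]
      have : c • (1 : IsLocalRing.ResidueField Rp) = 0 := by
        rw [Algebra.smul_def, mul_one]
        exact (IsLocalRing.residue_eq_zero_iff c).mpr hc
      rw [this, map_zero]
    rw [← hsoc] at hg1
    obtain ⟨a, ha, hFa⟩ := hg1
    have hle : m ≤ LinearMap.ker (LinearMap.toSpanSingleton Rp (LocalizedModule p.primeCompl A) a) := by
      intro c hc
      rw [LinearMap.mem_ker, LinearMap.toSpanSingleton_apply]
      exact (Submodule.mem_torsionBySet_iff _ _).mp ha ⟨c, hc⟩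
    let g' : IsLocalRing.ResidueField Rp →ₗ[Rp] LocalizedModule p.primeCompl A :=
      Submodule.liftQ m (LinearMap.toSpanSingleton Rp _ a) hle
    have hg'1 : g' (1 : IsLocalRing.ResidueField Rp) = a := by
      have : g' (Submodule.Quotient.mk (1 : Rp)) = a :=
        (Submodule.liftQ_apply _ _ _).trans (by rw [LinearMap.toSpanSingleton_apply, one_smul])
      exact this
    refine ⟨Ext.mk₀ (ModuleCat.ofHom g'), ?_⟩
    rw [Ext.mk₀_comp_mk₀]
    congr 1
    ext z
    obtain ⟨c, rfl⟩ := IsLocalRing.residue_surjective z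
    have hc1 : (IsLocalRing.residue Rp c : IsLocalRing.ResidueField Rp) =
        c • (1 : IsLocalRing.ResidueField Rp) := by
      rw [Algebra.smul_def, mul_one]; rfl
    change F (g' (IsLocalRing.residue Rp c)) = g.hom (IsLocalRing.residue Rp c)
    rw [hc1, map_smul, map_smul, map_smul, hg'1, hFa]
  exact (ExtLin.δEquiv' hS k h h0 i).length_eq

end Shift

end Soc

end Groth.Agent.H6
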