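import Groth.Agent.Lib.Helper6.Cpt3

/-! # A projective object which is small with respect to coproducts is compact in `D(A)` -/

universe w' w v u
open CategoryTheory Limits DerivedCategory Opposite

namespace Groth.Agent.H6.Cpt

variable {A : Type u} [Category.{v} A] [Abelian A]

section Small

/-- if `Hom(P, -)` preserves coproducts of shape `I`, then every map from `P` into a coproduct
factors through a finite sub-sum -/
lemma surjF_of_preservesCoyoneda {I : Type v} (P : A)
    [PreservesColimitsOfShape (Discrete I) (preadditiveCoyoneda.obj (op P))]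
    {F : I → A} (c : Cofan F) (hc : IsColimit c) : SurjF P c := by
  have hc' : IsColimit (Cofan.mk c.pt c.inj) :=
    IsColimit.ofIsoColimit hc (Cocones.ext (Iso.refl _) (by rintro ⟨j⟩; simp [Cofan.inj]))
  let cE : Cofan (fun i => (preadditiveCoyoneda.obj (op P)).obj (F i)) :=
    Cofan.mk ((preadditiveCoyoneda.obj (op P)).obj c.pt)
      (fun i => (preadditiveCoyoneda.obj (op P)).map (c.inj i))
  have hcE : IsColimit cE := isColimitCofanMkObjOfIsColimit _ _ _ hc'
  intro y
  obtain ⟨s, x, hx⟩ := exists_finset_sum_of_isColimit cE hcE y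
  exact ⟨s, x, hx⟩

end Small

section Degreewise

variable {I : Type w} [HasColimitsOfShape (Discrete I) A]
  {K : I → CochainComplex A ℤ} {c : Cofan K}

/-- degreewise, a coproduct cofan of complexes is a coproduct cofan -/
noncomputable def isColimitDeg (hc : IsColimit c) (p : ℤ) :
    IsColimit (Cofan.mk (c.pt.X p) (fun i => (c.inj i).f p)) :=
  mkCofanColimit _
    (fun t => (Groth.Agent.H2.CoprodCx.exists_desc_degree hc p t.inj).choose)
    (fun t j => (Groth.Agent.H2.CoprodCx.exists_desc_degree hc p t.inj).choose_spec j)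
    (fun t m hm => Groth.Agent.H2.CoprodCx.hom_ext_degree hc (fun j =>
      (hm j).trans ((Groth.Agent.H2.CoprodCx.exists_desc_degree hc p t.inj).choose_spec j).symm))

end Degreewise

section Main

variable [HasDerivedCategory.{w'} A] {I : Type w} [HasColimitsOfShape (Discrete I) A]

instance projective_single_X (P : A) [Projective P] (n : ℤ) :
    Projective (((HomologicalComplex.single A (ComplexShape.up ℤ) 0).obj P).X n) := by
  by_cases hn : n = 0
  · subst hn
    exact Projective.of_iso (HomologicalComplex.singleObjXSelf (ComplexShape.up ℤ) 0 P).symm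
      inferInstance
  · exact (HomologicalComplex.isZero_single_obj_X (ComplexShape.up ℤ) 0 P n hn).projective

lemma isKProjective_single (P : A) [Projective P] :
    CochainComplex.IsKProjective ((HomologicalComplex.single A (ComplexShape.up ℤ) 0).obj P) :=
  CochainComplex.isKProjective_of_projective _ 0

/-- morphisms in the derived category out of a projective object placed in degree zero are
represented by morphisms of complexes -/
lemma exists_Q_map_eq (P : A) [Projective P] (L : CochainComplex A ℤ)
    (y : Q.obj ((HomologicalComplex.single A (ComplexShape.up ℤ) 0).obj P) ⟶ Q.obj L) :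
    ∃ φ : (HomologicalComplex.single A (ComplexShape.up ℤ) 0).obj P ⟶ L, Q.map φ = y := by
  haveI := isKProjective_single P
  obtain ⟨g, hg⟩ := (CochainComplex.IsKProjective.Qh_map_bijective
    ((HomologicalComplex.single A (ComplexShape.up ℤ) 0).obj P)
    ((HomotopyCategory.quotient _ _).obj L)).2
    ((quotientCompQhIso A).hom.app _ ≫ y ≫ (quotientCompQhIso A).inv.app L)
  obtain ⟨φ, rfl⟩ := (HomotopyCategory.quotient _ _).map_surjective g
  refine ⟨φ, ?_⟩
  have h := (quotientCompQhIso A).hom.naturality φ
  rw [Functor.comp_map, hg] at h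
  simp only [Category.assoc, Iso.inv_hom_id_app, Category.comp_id] at h
  exact ((cancel_epi _).1 h).symm

theorem surjF_single_projective (P : A) [Projective P]
    (hP : ∀ (F : I → A) (c : Cofan F), IsColimit c → SurjF P c)
    (K : I → CochainComplex A ℤ) (c : Cofan K) (hc : IsColimit c) :
    SurjF ((singleFunctor A 0).obj P) (Qc c) := by
  classical
  intro y
  obtain ⟨φ, hφ⟩ := exists_Q_map_eq P c.pt y
  -- degree zero component
  obtain ⟨s, x, hx⟩ := hP _ _ (isColimitDeg hc 0)
    ((HomologicalComplex.singleObjXSelf (ComplexShape.up ℤ) 0 P).inv ≫ φ.f 0)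
  have hd : ((HomologicalComplex.singleObjXSelf (ComplexShape.up ℤ) 0 P).inv ≫ φ.f 0) ≫
      c.pt.d 0 1 = 0 := by
    rw [Category.assoc, φ.comm 0 1, HomologicalComplex.single_obj_d, zero_comp, comp_zero]
  have hI : InjF P (Cofan.mk (c.pt.X 1) (fun i => (c.inj i).f 1)) :=
    injF_of_isColimit P (isColimitDeg hc 1)
  have hx0 : ∀ i ∈ s, x i ≫ (K i).d 0 1 = 0 := by
    refine hI s (fun i => x i ≫ (K i).d 0 1) ?_
    rw [← hd, hx, Preadditive.sum_comp]
    refine Finset.sum_congr rfl (fun i _ => ?_)
    change (x i ≫ (K i).d 0 1) ≫ (c.inj i).f 1 = (x i ≫ (c.inj i).f 0) ≫ c.pt.d 0 1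
    rw [Category.assoc, Category.assoc, (c.inj i).comm 0 1]
  let x' : ∀ i, P ⟶ (K i).X 0 := fun i => if i ∈ s then x i else 0
  have hx' : ∀ i, x' i ≫ (K i).d 0 1 = 0 := by
    intro i
    by_cases hi : i ∈ s
    · simp only [x', if_pos hi]
      exact hx0 i hi
    · simp only [x', if_neg hi, zero_comp]
  let ψ : ∀ i, (HomologicalComplex.single A (ComplexShape.up ℤ) 0).obj P ⟶ K i := fun i =>
    HomologicalComplex.mkHomFromSingle (x' i) (fun k hk => by
      obtain rfl : (0 : ℤ) + 1 = k := hk
      exact hx' i)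
  have hψ : φ = ∑ i ∈ s, ψ i ≫ c.inj i := by
    apply HomologicalComplex.from_single_hom_ext
    have h1 : φ.f 0 = (HomologicalComplex.singleObjXSelf (ComplexShape.up ℤ) 0 P).hom ≫
        ((HomologicalComplex.singleObjXSelf (ComplexShape.up ℤ) 0 P).inv ≫ φ.f 0) := by
      rw [Iso.hom_inv_id_assoc]
    rw [h1, hx]
    have h2 : (∑ i ∈ s, ψ i ≫ c.inj i).f 0 = ∑ i ∈ s, (ψ i ≫ c.inj i).f 0 :=
      map_sum ((HomologicalComplex.eval A (ComplexShape.up ℤ) 0).mapAddHom
        (X := (HomologicalComplex.single A (ComplexShape.up ℤ) 0).obj P) (Y := c.pt)) _ s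
    rw [h2, Preadditive.comp_sum]
    refine Finset.sum_congr rfl (fun i hi => ?_)
    change _ = (ψ i).f 0 ≫ (c.inj i).f 0
    rw [HomologicalComplex.mkHomFromSingle_f]
    simp only [x', if_pos hi, Category.assoc]
    rfl
  refine ⟨s, fun i => Q.map (ψ i), ?_⟩
  rw [← hφ, hψ, Functor.map_sum]
  refine Finset.sum_congr rfl (fun i _ => ?_)
  exact Functor.map_comp _ _ _

end Main

end Groth.Agent.H6.Cpt
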