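import Mathlib
import Groth.Agent.Lib.Helper6.KInjG6
import Groth.Agent.Lib.Helper2.DProd1

/-! # Products in the derived category of a Grothendieck abelian category -/

set_option autoImplicit false

namespace Groth.Agent.H6.DProdG

open CategoryTheory Limits DerivedCategory

universe w v u

variable {A : Type u} [Category.{v} A] [Abelian A] [IsGrothendieckAbelian.{v} A]
  [HasDerivedCategory.{w} A]

/-- every object of `D(A)` is represented by a K-injective complex -/
lemma exists_kInjective_iso (X : DerivedCategory A) :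
    ∃ (I : CochainComplex A ℤ), I.IsKInjective ∧ (∀ n, Injective (I.X n)) ∧
      Nonempty (Q.obj I ≅ X) := by
  obtain ⟨I, f, hI, hf, -, hinj⟩ := KInjG.main (Q.objPreimage X)
  have : IsIso (Q.map f) := (isIso_Q_map_iff_quasiIso _ f).2 hf
  exact ⟨I, hI, hinj, ⟨(asIso (Q.map f)).symm ≪≫ Q.objObjPreimageIso X⟩⟩

theorem hasProduct {J : Type v} (K : J → DerivedCategory A) : HasProduct K := by
  have h : ∀ j, ∃ (I : CochainComplex A ℤ), I.IsKInjective ∧ Nonempty (Q.obj I ≅ K j) := by
    intro j
    obtain ⟨I, hI, -, e⟩ := exists_kInjective_iso (K j)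
    exact ⟨I, hI, e⟩
  choose I hI e using h
  have : HasLimit (Discrete.functor (fun j => Q.obj (I j))) :=
    ⟨⟨⟨_, H2.DProd.isLimitFan I⟩⟩⟩
  have iso : Discrete.functor K ≅ Discrete.functor (fun j => Q.obj (I j)) :=
    Discrete.natIso (fun ⟨j⟩ => (e j).some.symm)
  exact hasLimit_of_iso iso.symm

theorem hasProducts : HasProducts.{v} (DerivedCategory A) := by
  intro J
  exact ⟨fun F => by
    haveI : HasLimit (Discrete.functor (F.obj ∘ Discrete.mk)) := hasProduct (F.obj ∘ Discrete.mk)
    exact hasLimit_of_iso (Discrete.natIsoFunctor (F := F)).symm⟩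

end Groth.Agent.H6.DProdG
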