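import Mathlib
import Groth.Prelude.Def_CohDer
import Groth.Agent.Lib.Helper6.Cpt5
import Groth.Agent.Lib.Helper6.DProdG
import Groth.Agent.Lib.Helper2.DCoprod1
import Groth.Agent.Lib.Helper2.DProd1

/-!
# Small derived categories and compact generation by a small projective separator
-/

set_option autoImplicit false

namespace Groth.Agent.H6.BrownG

open CategoryTheory Limits DerivedCategory Opposite

universe w v u

section Small

variable (A : Type u) [Category.{v} A] [Abelian A] [IsGrothendieckAbelian.{v} A]

attribute [local instance] HasDerivedCategory.standard in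
lemma locallySmall_derivedCategory : LocallySmall.{v} (DerivedCategory A) where
  hom_small X Y := by
    obtain ⟨I, hI, -, ⟨e⟩⟩ := DProdG.exists_kInjective_iso Y
    let M := Q.objPreimage X
    let eX : Q.obj M ≅ X := Q.objObjPreimageIso X
    have h1 : Small.{v} (Q.obj M ⟶ Q.obj I) :=
      small_of_surjective (f := fun g : M ⟶ I => Q.map g)
        (fun φ => H2.DProd.exists_Q_map_eq φ)
    refine small_of_injective (f := fun φ : X ⟶ Y => eX.hom ≫ φ ≫ e.inv) (fun a b h => ?_)
    simpa using h

set_option warn.classDefReducibility false in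
attribute [local instance] HasDerivedCategory.standard in
/-- a derived category with small Hom-types -/
noncomputable def hasDerivedCategorySmall : HasDerivedCategory.{v} A :=
  haveI := locallySmall_derivedCategory A
  show MorphismProperty.HasLocalization.{v} (HomologicalComplex.quasiIso A (ComplexShape.up ℤ))
  from MorphismProperty.hasLocalizationOfLocallySmall' _
    (Q : CochainComplex A ℤ ⥤ DerivedCategory A)

end Small

section Gen

variable {A : Type u} [Category.{v} A] [Abelian A] [HasDerivedCategory.{w} A]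
variable (P : A) [Projective P]

lemma homology_zero_of_forall_eq_zero (hP : IsSeparator P) (L : CochainComplex A ℤ)
    (h : ∀ y : Q.obj ((HomologicalComplex.single A (ComplexShape.up ℤ) 0).obj P) ⟶ Q.obj L,
      y = 0) :
    IsZero (L.homology 0) := by
  rw [IsZero.iff_id_eq_zero]
  apply hP.def
  intro f
  rw [Category.comp_id, comp_zero]
  obtain ⟨g, hg⟩ : ∃ g : P ⟶ L.cycles 0, g ≫ L.homologyπ 0 = f :=
    ⟨Projective.factorThru f (L.homologyπ 0), Projective.factorThru_comp _ _⟩
  have hx : (g ≫ L.iCycles 0) ≫ L.d 0 1 = 0 := by simp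
  let φ : (HomologicalComplex.single A (ComplexShape.up ℤ) 0).obj P ⟶ L :=
    HomologicalComplex.mkHomFromSingle (g ≫ L.iCycles 0) (fun k hk => by
      obtain rfl : (0 : ℤ) + 1 = k := hk
      exact hx)
  have hφ : Q.map φ = 0 := h _
  haveI := Cpt.isKProjective_single P
  have h1 : Qh.map ((HomotopyCategory.quotient A (ComplexShape.up ℤ)).map φ) =
      Qh.map ((HomotopyCategory.quotient A (ComplexShape.up ℤ)).map 0) := by
    rw [← cancel_mono ((quotientCompQhIso A).hom.app L), quotientCompQhIso_hom_naturality,
      quotientCompQhIso_hom_naturality, hφ, Q.map_zero]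
  have H : Homotopy φ 0 := HomotopyCategory.homotopyOfEq _ _
    ((CochainComplex.IsKProjective.Qh_map_bijective _ _).1 h1)
  have e0 := H.comm 0
  rw [dNext_eq H.hom (show (ComplexShape.up ℤ).Rel 0 1 by simp),
    prevD_eq H.hom (show (ComplexShape.up ℤ).Rel (-1) 0 by simp),
    HomologicalComplex.single_obj_d, zero_comp, zero_add, HomologicalComplex.zero_f, add_zero,
    HomologicalComplex.mkHomFromSingle_f] at e0
  have e1 : g ≫ L.iCycles 0 =
      ((HomologicalComplex.singleObjXSelf (ComplexShape.up ℤ) 0 P).inv ≫ H.hom 0 (-1)) ≫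
        L.d (-1) 0 := by
    simp only [Category.assoc, ← e0, Iso.inv_hom_id_assoc]
  have e2 : g = ((HomologicalComplex.singleObjXSelf (ComplexShape.up ℤ) 0 P).inv ≫
      H.hom 0 (-1)) ≫ L.toCycles (-1) 0 := by
    rw [← cancel_mono (L.iCycles 0), e1]
    simp only [Category.assoc, HomologicalComplex.toCycles_i]
  rw [← hg, e2, Category.assoc, HomologicalComplex.toCycles_comp_homologyπ, comp_zero]

theorem generates_single (hP : IsSeparator P) :
    CohDer.Generates (fun _ : PUnit.{v + 1} => (singleFunctor A 0).obj P) := by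
  intro K hK
  have hn : ∀ n : ℤ, IsZero ((homologyFunctor A n).obj K) := by
    intro n
    let L := Q.objPreimage (K⟦n⟧)
    let eL : Q.obj L ≅ K⟦n⟧ := Q.objObjPreimageIso _
    have h0 : IsZero (L.homology 0) := homology_zero_of_forall_eq_zero P hP L (fun y => by
      have := hK PUnit.unit n (y ≫ eL.hom)
      rw [← cancel_mono eL.hom]
      exact this.trans zero_comp.symm)
    have iso1 : (homologyFunctor A 0).obj (K⟦n⟧) ≅ (homologyFunctor A n).obj K :=
      ((homologyFunctor A 0).shiftIso n 0 n (add_zero n)).app K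
    have iso2 : (homologyFunctor A 0).obj (Q.obj L) ≅ (homologyFunctor A 0).obj (K⟦n⟧) :=
      (homologyFunctor A 0).mapIso eL
    have iso3 : (homologyFunctor A 0).obj (Q.obj L) ≅ L.homology 0 :=
      (homologyFunctorFactors A 0).app L
    exact IsZero.of_iso h0 (iso1.symm ≪≫ iso2.symm ≪≫ iso3)
  rw [IsZero.iff_id_eq_zero]
  haveI : IsIso (0 : K ⟶ K) := (isIso_iff A (0 : K ⟶ K)).2 (fun n =>
    ⟨⟨0, (hn n).eq_of_src _ _, (hn n).eq_of_src _ _⟩⟩)
  exact (IsIso.hom_inv_id (0 : K ⟶ K)).symm.trans zero_comp

end Gen

section Cpt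

variable {A : Type u} [Category.{v} A] [Abelian A] [IsGrothendieckAbelian.{v} A]
  [HasDerivedCategory.{v} A] [HasCoproducts.{v} (DerivedCategory A)]
variable (P : A) [Projective P]

open Cpt in
theorem isCompactObject_single
    (hsm : ∀ (I : Type v),
      PreservesColimitsOfShape (Discrete I) (preadditiveCoyoneda.obj (op P))) :
    CohDer.IsCompactObject ((singleFunctor A 0).obj P) := by
  intro ι X
  apply bijective_homSumToHomCoprod
  have hex : ∀ i, ∃ K : CochainComplex A ℤ, Nonempty (X i ≅ Q.obj K) :=
    fun i => ⟨Q.objPreimage (X i), ⟨(Q.objObjPreimageIso (X i)).symm⟩⟩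
  choose K e using hex
  let e' : ∀ i, X i ≅ Q.obj (K i) := fun i => (e i).some
  have hc := coproductIsCoproduct K
  haveI := hsm ι
  have hS := surjF_single_projective P
    (fun F c hc => surjF_of_preservesCoyoneda _ c hc) K _ hc
  have hD : IsColimit (Qc (Cofan.mk (∐ K) (Sigma.ι K))) :=
    Groth.Agent.H2.DCoprod.isColimitMapCofan hc
  let w : Discrete.functor (fun i => Q.obj (K i)) ≅ Discrete.functor X :=
    Discrete.natIso (fun i => (e' i.as).symm)
  refine surjF_of_iso _ (fun i => (e' i).symm)
    (IsColimit.coconePointsIsoOfNatIso hD (coproductIsCoproduct X) w) (fun i => ?_) hS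
  exact IsColimit.comp_coconePointsIsoOfNatIso_hom hD (coproductIsCoproduct X) w ⟨i⟩

theorem isCompactlyGenerated_of_projective_separator (hP : IsSeparator P)
    (hsm : ∀ (I : Type v),
      PreservesColimitsOfShape (Discrete I) (preadditiveCoyoneda.obj (op P))) :
    CohDer.IsCompactlyGenerated (DerivedCategory A) :=
  ⟨PUnit.{v + 1}, fun _ => (singleFunctor A 0).obj P,
    fun _ => isCompactObject_single P hsm, generates_single P hP⟩

end Cpt

end Groth.Agent.H6.BrownG
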