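import Mathlib
import Groth.Agent.Lib.Helper6.KInjG6

/-!
# The right derivability structure given by K-injective complexes

If every complex of `A` has a K-injective resolution (e.g. `A` Grothendieck abelian), the
inclusion of K-injective objects into the homotopy category is a right derivability structure
for the quasi-isomorphisms. Consequently every functor on the homotopy category has a pointwise
right derived functor, whose unit is an isomorphism at K-injective complexes, and a functor
with a natural transformation which is an isomorphism at K-injectives is a right derived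
functor.
-/

set_option autoImplicit false

namespace Groth.Agent.H6.KInjDS

open CategoryTheory Limits

universe v u

variable (A : Type u) [Category.{v} A] [Abelian A]

/-- existence of K-injective resolutions -/
class HasKInjRes : Prop where
  exists_res : ∀ M : CochainComplex A ℤ, ∃ (I : CochainComplex A ℤ) (f : M ⟶ I),
    I.IsKInjective ∧ QuasiIso f

instance [IsGrothendieckAbelian.{v} A] : HasKInjRes A := ⟨fun M => by
  obtain ⟨I, f, h1, h2, -, -⟩ := KInjG.main M
  exact ⟨I, f, h1, h2⟩⟩

/-- K-injective objects of the homotopy category -/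
def kInj : ObjectProperty (HomotopyCategory A (ComplexShape.up ℤ)) :=
  fun X => CochainComplex.IsKInjective X.as

/-- the full subcategory of K-injective objects of the homotopy category -/
abbrev KInj := (kInj A).FullSubcategory

/-- the localizer morphism given by the inclusion of K-injective objects -/
def Φ : LocalizerMorphism (MorphismProperty.isomorphisms (KInj A))
    (HomotopyCategory.quasiIso A (ComplexShape.up ℤ)) where
  functor := (kInj A).ι
  map := by
    intro X Y f (hf : IsIso f)
    intro i
    change IsIso ((HomotopyCategory.homologyFunctor A _ i).map ((kInj A).ι.map f))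
    infer_instance

section

attribute [local instance] HasDerivedCategory.standard

open DerivedCategory

variable {A}

/-- lifting along quasi-isomorphisms into K-injective objects -/
lemma exists_lift {X Y J : HomotopyCategory A (ComplexShape.up ℤ)} (hJ : kInj A J) (w : X ⟶ Y)
    (hw : HomotopyCategory.quasiIso A _ w) (g : X ⟶ J) : ∃ h : Y ⟶ J, w ≫ h = g := by
  haveI : CochainComplex.IsKInjective J.as := hJ
  haveI : IsIso (Qh.map w) :=
    Localization.inverts Qh (HomotopyCategory.quasiIso A _) w hw
  obtain ⟨h, hh⟩ := (CochainComplex.IsKInjective.Qh_map_bijective Y J.as).2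
    (inv (Qh.map w) ≫ Qh.map g)
  refine ⟨h, (CochainComplex.IsKInjective.Qh_map_bijective X J.as).1 ?_⟩
  change Qh.map (w ≫ h) = Qh.map g
  rw [Functor.map_comp, hh, IsIso.hom_inv_id_assoc]
  rfl

variable (A)

lemma hasRightResolutions [HasKInjRes A] : (Φ A).HasRightResolutions := by
  intro X
  obtain ⟨I, f, hI, hf⟩ := HasKInjRes.exists_res X.as
  exact ⟨{ X₁ := ⟨(HomotopyCategory.quotient A _).obj I, hI⟩
           w := (HomotopyCategory.quotient A _).map f
           hw := (HomotopyCategory.quotient_map_mem_quasiIso_iff f).2 hf }⟩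

instance [HasKInjRes A] (X : HomotopyCategory A (ComplexShape.up ℤ)) :
    IsConnected ((Φ A).RightResolution X) := by
  haveI : Nonempty ((Φ A).RightResolution X) := hasRightResolutions A X
  refine zigzag_isConnected (fun R R' => Zigzag.of_hom ?_)
  exact { f := ObjectProperty.homMk (exists_lift R'.X₁.2 R.w R.hw R'.w).choose
          comm := (exists_lift R'.X₁.2 R.w R.hw R'.w).choose_spec }

instance arrow_hasRightResolutions [HasKInjRes A] : (Φ A).arrow.HasRightResolutions := by
  intro f
  obtain ⟨RX⟩ := hasRightResolutions A f.left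
  obtain ⟨RY⟩ := hasRightResolutions A f.right
  obtain ⟨g, hg⟩ := exists_lift RY.X₁.2 RX.w RX.hw (f.hom ≫ RY.w)
  exact ⟨{ X₁ := Arrow.mk (ObjectProperty.homMk g : RX.X₁ ⟶ RY.X₁)
           w := Arrow.homMk RX.w RY.w hg
           hw := ⟨RX.hw, RY.hw⟩ }⟩

instance [HasKInjRes A] : ((Φ A).functor ⋙ Qh).IsEquivalence where
  faithful := ⟨fun {X Y} f g h => by
    haveI : CochainComplex.IsKInjective Y.obj.as := Y.2
    apply InducedCategory.Hom.ext
    exact (CochainComplex.IsKInjective.Qh_map_bijective X.obj Y.obj.as).1 h⟩
  full := ⟨fun {X Y} φ => by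
    haveI : CochainComplex.IsKInjective Y.obj.as := Y.2
    obtain ⟨ψ, hψ⟩ := (CochainComplex.IsKInjective.Qh_map_bijective X.obj Y.obj.as).2 φ
    exact ⟨ObjectProperty.homMk ψ, hψ⟩⟩
  essSurj := ⟨fun Y => by
    obtain ⟨I, f, hI, hf⟩ := HasKInjRes.exists_res (Q.objPreimage Y)
    haveI : IsIso (Q.map f) := (isIso_Q_map_iff_quasiIso _ f).2 hf
    exact ⟨⟨(HomotopyCategory.quotient A _).obj I, hI⟩,
      ⟨(quotientCompQhIso A).app I ≪≫ (asIso (Q.map f)).symm ≪≫ Q.objObjPreimageIso Y⟩⟩⟩

instance [HasKInjRes A] : (Φ A).IsLocalizedEquivalence := by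
  haveI : ((Φ A).functor ⋙ Qh).IsLocalization (MorphismProperty.isomorphisms (KInj A)) :=
    Functor.IsLocalization.of_isEquivalence _ _ le_rfl
  exact LocalizerMorphism.IsLocalizedEquivalence.of_isLocalization_of_isLocalization (Φ A) Qh

end

instance [HasKInjRes A] : (Φ A).IsRightDerivabilityStructure :=
  LocalizerMorphism.IsRightDerivabilityStructure.mk' (Φ A)

variable {A} {H : Type*} [Category H] (F' : HomotopyCategory A (ComplexShape.up ℤ) ⥤ H)

lemma derives : (Φ A).Derives F' := fun _ _ f (hf : IsIso f) => by
  change IsIso (F'.map ((kInj A).ι.map f))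
  infer_instance

variable [HasKInjRes A]

theorem hasPointwiseRightDerivedFunctor :
    F'.HasPointwiseRightDerivedFunctor (HomotopyCategory.quasiIso A (ComplexShape.up ℤ)) :=
  (derives F').hasPointwiseRightDerivedFunctor

variable {D₂ : Type*} [Category D₂] (L₂ : HomotopyCategory A (ComplexShape.up ℤ) ⥤ D₂)
  [L₂.IsLocalization (HomotopyCategory.quasiIso A (ComplexShape.up ℤ))]
  {RF : D₂ ⥤ H} (α : F' ⟶ L₂ ⋙ RF)

/-- the unit of a right derived functor is an isomorphism at K-injective complexes -/
theorem isIso_app_of_isKInjective
    [RF.IsRightDerivedFunctor α (HomotopyCategory.quasiIso A (ComplexShape.up ℤ))]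
    (I : CochainComplex A ℤ) [hI : I.IsKInjective] :
    IsIso (α.app ((HomotopyCategory.quotient A _).obj I)) :=
  (derives F').isIso_of_isRightDerivedFunctor α ⟨(HomotopyCategory.quotient A _).obj I, hI⟩

/-- a natural transformation which is an isomorphism at K-injective complexes exhibits a
right derived functor -/
theorem isRightDerivedFunctor_of_isIso
    (hα : ∀ (I : CochainComplex A ℤ), I.IsKInjective →
      IsIso (α.app ((HomotopyCategory.quotient A _).obj I))) :
    RF.IsRightDerivedFunctor α (HomotopyCategory.quasiIso A (ComplexShape.up ℤ)) :=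
  (derives F').isRightDerivedFunctor_of_isIso α (fun X₁ => hα X₁.obj.as X₁.2)

end Groth.Agent.H6.KInjDS
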