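import Mathlib
import Groth.Agent.Lib.Helper6.KInjDS
import Groth.Agent.Lib.Lead.DAdj.MapHC

/-!
# Derived adjunction `F_D ⊣ RG` for an exact left adjoint `F`

Transfer of right derived functors between the complex level and the homotopy level,
complex-level consequences of the K-injective derivability structure, and the derived
adjunction.
-/

set_option autoImplicit false

namespace Groth.Agent.H6.DerAdj

open CategoryTheory Limits DerivedCategory

universe w w' v v' u u'

section Transfer

variable {B : Type u} [Category.{v} B] [Abelian B] [HasDerivedCategory.{w} B]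
  {H : Type*} [Category H]

variable (B) in
/-- the quotient functor to the homotopy category -/
abbrev quo : CochainComplex B ℤ ⥤ HomotopyCategory B (ComplexShape.up ℤ) :=
  HomotopyCategory.quotient B (ComplexShape.up ℤ)

variable (F' : HomotopyCategory B (ComplexShape.up ℤ) ⥤ H) (RF : DerivedCategory B ⥤ H)

/-- complex-level unit from a homotopy-level one -/
noncomputable def unitCx (αh : F' ⟶ Qh ⋙ RF) : quo B ⋙ F' ⟶ Q ⋙ RF :=
  Functor.whiskerLeft (quo B) αh ≫ (Functor.associator _ _ _).inv ≫
    Functor.whiskerRight (quotientCompQhIso B).hom RF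

lemma unitCx_app (αh : F' ⟶ Qh ⋙ RF) (K : CochainComplex B ℤ) :
    (unitCx F' RF αh).app K =
      αh.app ((quo B).obj K) ≫ RF.map ((quotientCompQhIso B).hom.app K) := by
  simp [unitCx]

lemma isRightDerivedFunctor_unitCx_iff (αh : F' ⟶ Qh ⋙ RF) :
    RF.IsRightDerivedFunctor (unitCx F' RF αh)
        (HomologicalComplex.quasiIso B (ComplexShape.up ℤ)) ↔
      RF.IsRightDerivedFunctor αh (HomotopyCategory.quasiIso B (ComplexShape.up ℤ)) := by
  rw [Functor.isRightDerivedFunctor_iff_isLeftKanExtension,
    Functor.isRightDerivedFunctor_iff_isLeftKanExtension]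
  haveI : F'.IsLeftKanExtension (Iso.refl (quo B ⋙ F')).inv :=
    (Functor.isRightDerivedFunctor_iff_isLeftKanExtension _ _
      (HomologicalComplex.homotopyEquivalences B (ComplexShape.up ℤ))).1
      (Functor.isRightDerivedFunctor_of_inverts
        (HomologicalComplex.homotopyEquivalences B (ComplexShape.up ℤ)) F' (Iso.refl _))
  exact (Functor.isLeftKanExtension_iff_postcompose (Iso.refl (quo B ⋙ F')).inv Q
    (quotientCompQhIso B) αh (unitCx F' RF αh) (by ext K; simp [unitCx])).symm

variable (Fc : CochainComplex B ℤ ⥤ H) (e : Fc ≅ quo B ⋙ F') (α : Fc ⟶ Q ⋙ RF)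

/-- descend a complex-level unit to the homotopy category -/
noncomputable def unitH : F' ⟶ Qh ⋙ RF :=
  Quotient.natTransLift _ (e.inv ≫ α ≫ Functor.whiskerRight (quotientCompQhIso B).inv RF ≫
    (Functor.associator _ _ _).hom)

lemma unitH_app (K : CochainComplex B ℤ) :
    (unitH F' RF Fc e α).app ((quo B).obj K) =
      e.inv.app K ≫ α.app K ≫ RF.map ((quotientCompQhIso B).inv.app K) := by
  change (e.inv ≫ α ≫ Functor.whiskerRight (quotientCompQhIso B).inv RF ≫
    (Functor.associator _ _ _).hom).app K = _
  simp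

lemma unitCx_unitH : unitCx F' RF (unitH F' RF Fc e α) = e.inv ≫ α := by
  ext K
  rw [unitCx_app, unitH_app]
  simp [← Functor.map_comp]

lemma isRightDerivedFunctor_iff_unitH :
    RF.IsRightDerivedFunctor α (HomologicalComplex.quasiIso B (ComplexShape.up ℤ)) ↔
      RF.IsRightDerivedFunctor (unitH F' RF Fc e α)
        (HomotopyCategory.quasiIso B (ComplexShape.up ℤ)) := by
  rw [← isRightDerivedFunctor_unitCx_iff, unitCx_unitH,
    Functor.isRightDerivedFunctor_iff_isLeftKanExtension,
    Functor.isRightDerivedFunctor_iff_isLeftKanExtension]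
  exact Functor.isLeftKanExtension_iff_of_iso₂ α (e.inv ≫ α) e (Iso.refl RF) (by ext; simp)

/-- a homotopy-level right derived functor is a complex-level right derived functor -/
lemma isRightDerivedFunctor_cx_of_h (αh : F' ⟶ Qh ⋙ RF)
    [RF.IsRightDerivedFunctor αh (HomotopyCategory.quasiIso B (ComplexShape.up ℤ))] :
    RF.IsRightDerivedFunctor (e.hom ≫ unitCx F' RF αh)
      (HomologicalComplex.quasiIso B (ComplexShape.up ℤ)) := by
  have h := (isRightDerivedFunctor_unitCx_iff F' RF αh).2 inferInstance
  rw [Functor.isRightDerivedFunctor_iff_isLeftKanExtension] at h ⊢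
  exact (Functor.isLeftKanExtension_iff_of_iso₂ (e.hom ≫ unitCx F' RF αh) (unitCx F' RF αh) e
    (Iso.refl RF) (by ext; simp)).2 h

variable [KInjDS.HasKInjRes B]

include F' e in
/-- complex-level: the unit of a right derived functor is an isomorphism at K-injectives -/
theorem isIso_app_cx
    [RF.IsRightDerivedFunctor α (HomologicalComplex.quasiIso B (ComplexShape.up ℤ))]
    (I : CochainComplex B ℤ) [I.IsKInjective] : IsIso (α.app I) := by
  haveI := (isRightDerivedFunctor_iff_unitH F' RF Fc e α).1 inferInstance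
  have h1 := KInjDS.isIso_app_of_isKInjective F' Qh (unitH F' RF Fc e α) I
  have h2 : α.app I = e.hom.app I ≫ (unitH F' RF Fc e α).app ((quo B).obj I) ≫
      RF.map ((quotientCompQhIso B).hom.app I) := by
    rw [unitH_app]
    simp [← Functor.map_comp]
  rw [h2]
  infer_instance

include F' e in
/-- complex-level: a unit which is an isomorphism at K-injectives exhibits a right derived
functor -/
theorem isRightDerivedFunctor_cx_of_isIso
    (hα : ∀ (I : CochainComplex B ℤ), I.IsKInjective → IsIso (α.app I)) :
    RF.IsRightDerivedFunctor α (HomologicalComplex.quasiIso B (ComplexShape.up ℤ)) := by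
  refine (isRightDerivedFunctor_iff_unitH F' RF Fc e α).2
    (KInjDS.isRightDerivedFunctor_of_isIso F' Qh (unitH F' RF Fc e α) (fun I hI => ?_))
  haveI := hα I hI
  change IsIso ((unitH F' RF Fc e α).app ((quo B).obj I))
  rw [unitH_app]
  infer_instance

end Transfer

section Adj

variable {A : Type u'} [Category.{v'} A] [Abelian A] [HasDerivedCategory.{w'} A]
  {B : Type u} [Category.{v} B] [Abelian B] [HasDerivedCategory.{w} B] [KInjDS.HasKInjRes B]
  {F : A ⥤ B} {G : B ⥤ A} (adj : F ⊣ G) [F.Additive] [G.Additive]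
  [PreservesFiniteLimits F] [PreservesFiniteColimits F]

variable (G) in
/-- the homotopy-level functor induced by `G` -/
noncomputable abbrev Gh : HomotopyCategory B (ComplexShape.up ℤ) ⥤ DerivedCategory A :=
  G.mapHomotopyCategory (ComplexShape.up ℤ) ⋙ Qh

variable (G) in
/-- the factorization of the complex-level functor through the homotopy category -/
noncomputable def eG : G.mapHomologicalComplex (ComplexShape.up ℤ) ⋙ Q ≅ quo B ⋙ Gh G :=
  Functor.isoWhiskerLeft _ (quotientCompQhIso A).symm ≪≫ (Functor.associator _ _ _).symm ≪≫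
    Functor.isoWhiskerRight (G.mapHomotopyCategoryFactors (ComplexShape.up ℤ)).symm Qh ≪≫
    Functor.associator _ _ _

variable (RG : DerivedCategory B ⥤ DerivedCategory A)
  (α : G.mapHomologicalComplex (ComplexShape.up ℤ) ⋙ Q ⟶ Q ⋙ RG)
  [RG.IsRightDerivedFunctor α (HomologicalComplex.quasiIso B (ComplexShape.up ℤ))]

lemma isIso_unit_app (I : CochainComplex B ℤ) [I.IsKInjective] : IsIso (α.app I) :=
  isIso_app_cx (Gh G) RG _ (eG G) α I

lemma isRightDerivedFunctor_comp {H' : Type*} [Category H'] (T : DerivedCategory A ⥤ H') :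
    (RG ⋙ T).IsRightDerivedFunctor
      (Functor.whiskerRight α T ≫ (Functor.associator _ _ _).hom)
      (HomologicalComplex.quasiIso B (ComplexShape.up ℤ)) := by
  refine isRightDerivedFunctor_cx_of_isIso (Gh G ⋙ T) (RG ⋙ T) _
    (Functor.isoWhiskerRight (eG G) T ≪≫ Functor.associator _ _ _) _ (fun I hI => ?_)
  haveI := isIso_unit_app RG α I
  simp only [NatTrans.comp_app, Functor.whiskerRight_app, Functor.associator_hom_app]
  infer_instance

/-- the derived adjunction -/
noncomputable def derivedAdj : F.mapDerivedCategory ⊣ RG :=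
  haveI : F.mapDerivedCategory.IsLeftDerivedFunctor F.mapDerivedCategoryFactors.hom
      (HomologicalComplex.quasiIso A (ComplexShape.up ℤ)) :=
    Functor.isLeftDerivedFunctor_of_inverts _ _ _
  haveI : (F.mapDerivedCategory ⋙ RG).IsLeftDerivedFunctor
      ((Functor.associator _ _ _).inv ≫ Functor.whiskerRight F.mapDerivedCategoryFactors.hom RG)
      (HomologicalComplex.quasiIso A (ComplexShape.up ℤ)) :=
    Functor.isLeftDerivedFunctor_of_inverts (HomologicalComplex.quasiIso A (ComplexShape.up ℤ))
      (F.mapDerivedCategory ⋙ RG)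
      ((Functor.associator _ _ _).symm ≪≫ Functor.isoWhiskerRight F.mapDerivedCategoryFactors RG)
  haveI := isRightDerivedFunctor_comp RG α F.mapDerivedCategory
  (Groth.Agent.LD.DAdj.mapHCAdj adj (ComplexShape.up ℤ)).derived
    (HomologicalComplex.quasiIso A (ComplexShape.up ℤ))
    (HomologicalComplex.quasiIso B (ComplexShape.up ℤ)) F.mapDerivedCategoryFactors.hom α

lemma derivedAdj_counit_fac (K : CochainComplex B ℤ) :
    F.mapDerivedCategory.map (α.app K) ≫ (derivedAdj adj RG α).counit.app (Q.obj K) =
      F.mapDerivedCategoryFactors.hom.app ((G.mapHomologicalComplex _).obj K) ≫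
        Q.map ((Groth.Agent.LD.DAdj.mapHCAdj adj (ComplexShape.up ℤ)).counit.app K) := by
  haveI := isRightDerivedFunctor_comp RG α F.mapDerivedCategory
  exact Adjunction.derivedε_fac_app (Groth.Agent.LD.DAdj.mapHCAdj adj (ComplexShape.up ℤ))
    (HomologicalComplex.quasiIso B (ComplexShape.up ℤ)) F.mapDerivedCategoryFactors.hom α K

theorem isIso_counit (h : ∀ X : B, IsIso (adj.counit.app X)) :
    IsIso (derivedAdj adj RG α).counit := by
  have key : ∀ (I : CochainComplex B ℤ), I.IsKInjective →
      IsIso ((derivedAdj adj RG α).counit.app (Q.obj I)) := by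
    intro I hI
    haveI := isIso_unit_app RG α I
    haveI : IsIso ((Groth.Agent.LD.DAdj.mapHCAdj adj (ComplexShape.up ℤ)).counit.app I) := by
      haveI : ∀ i, IsIso (((Groth.Agent.LD.DAdj.mapHCAdj adj
          (ComplexShape.up ℤ)).counit.app I).f i) := fun i => h (I.X i)
      exact HomologicalComplex.Hom.isIso_of_components _
    exact IsIso.of_isIso_fac_left (derivedAdj_counit_fac adj RG α I)
  haveI : ∀ Y, IsIso ((derivedAdj adj RG α).counit.app Y) := fun Y => by
    obtain ⟨I, f, hI, hf⟩ := KInjDS.HasKInjRes.exists_res (Q.objPreimage Y)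
    haveI : IsIso (Q.map f) := (isIso_Q_map_iff_quasiIso _ f).2 hf
    have e : Y ≅ Q.obj I := (Q.objObjPreimageIso Y).symm ≪≫ asIso (Q.map f)
    exact (NatTrans.isIso_app_iff_of_iso _ e).2 (key I hI)
  exact NatIso.isIso_of_isIso_app _

/-- derived adjunction for a homotopy-level total right derived functor, with a fully
faithful right adjoint -/
theorem main_of_isIso_counit (h : ∀ X : B, IsIso (adj.counit.app X))
    [(Gh G).HasRightDerivedFunctor (HomotopyCategory.quasiIso B (ComplexShape.up ℤ))] :
    Nonempty (F.mapDerivedCategory ⊣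
        (Gh G).totalRightDerived Qh (HomotopyCategory.quasiIso B (ComplexShape.up ℤ))) ∧
      ((Gh G).totalRightDerived Qh (HomotopyCategory.quasiIso B (ComplexShape.up ℤ))).Full ∧
      ((Gh G).totalRightDerived Qh (HomotopyCategory.quasiIso B (ComplexShape.up ℤ))).Faithful ∧
      Nonempty ((Gh G).totalRightDerived Qh (HomotopyCategory.quasiIso B (ComplexShape.up ℤ)) ⋙
        F.mapDerivedCategory ≅ 𝟭 (DerivedCategory B)) := by
  haveI := isRightDerivedFunctor_cx_of_h (Gh G)
    ((Gh G).totalRightDerived Qh (HomotopyCategory.quasiIso B (ComplexShape.up ℤ))) _ (eG G)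
    ((Gh G).totalRightDerivedUnit Qh (HomotopyCategory.quasiIso B (ComplexShape.up ℤ)))
  let a := derivedAdj adj
    ((Gh G).totalRightDerived Qh (HomotopyCategory.quasiIso B (ComplexShape.up ℤ)))
    ((eG G).hom ≫ unitCx (Gh G) _
      ((Gh G).totalRightDerivedUnit Qh (HomotopyCategory.quasiIso B (ComplexShape.up ℤ))))
  haveI : IsIso a.counit := isIso_counit adj _ _ h
  exact ⟨⟨a⟩, a.fullyFaithfulROfIsIsoCounit.full, a.fullyFaithfulROfIsIsoCounit.faithful,
    ⟨asIso a.counit⟩⟩

end Adj

section GP

open IsGrothendieckAbelian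

theorem gabrielPopescu {C : Type u} [Category.{v} C] [Abelian C]
    [IsGrothendieckAbelian.{v} C] [HasDerivedCategory.{w} C] (U : C) (hU : IsSeparator U)
    [HasDerivedCategory.{w'} (ModuleCat.{v} (End U)ᵐᵒᵖ)]
    [(IsGrothendieckAbelian.tensorObj U).Additive]
    [PreservesFiniteLimits (IsGrothendieckAbelian.tensorObj U)]
    [PreservesFiniteColimits (IsGrothendieckAbelian.tensorObj U)]
    [((preadditiveCoyonedaObj U).mapHomotopyCategory (ComplexShape.up ℤ) ⋙
      DerivedCategory.Qh).HasRightDerivedFunctor
      (HomotopyCategory.quasiIso C (ComplexShape.up ℤ))] :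
    let RG := ((preadditiveCoyonedaObj U).mapHomotopyCategory (ComplexShape.up ℤ) ⋙
      DerivedCategory.Qh).totalRightDerived
      DerivedCategory.Qh (HomotopyCategory.quasiIso C (ComplexShape.up ℤ))
    let LF := (IsGrothendieckAbelian.tensorObj U).mapDerivedCategory
    Nonempty (LF ⊣ RG) ∧ RG.Full ∧ RG.Faithful ∧
      Nonempty (RG ⋙ LF ≅ 𝟭 (DerivedCategory C)) := by
  intro RG LF
  haveI := GabrielPopescu.full U hU
  haveI : (preadditiveCoyonedaObj U).Faithful :=
    (isSeparator_iff_faithful_preadditiveCoyonedaObj U).1 hU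
  exact main_of_isIso_counit (tensorObjPreadditiveCoyonedaObjAdjunction U)
    (fun X => inferInstance)

end GP

end Groth.Agent.H6.DerAdj
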