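import Mathlib
import Groth.Agent.Lib.Helper6.BrownG1
import Groth.Agent.Lib.Helper6.DerAdj1
import Groth.Agent.Lib.Helper2.Brown9

/-!
# Brown representability for the derived category of a Grothendieck abelian category
(via Gabriel–Popescu and Brown representability for compactly generated categories)
-/

set_option autoImplicit false

namespace Groth.Agent.H6.BrownG

open CategoryTheory Limits DerivedCategory Opposite

universe w v u u'

section Refl

variable {T : Type u} [Category.{v} T] {T' : Type u'} [Category.{v} T']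
  {LF : T' ⥤ T} {RG : T ⥤ T'} (a : LF ⊣ RG) [RG.Full] [RG.Faithful]
  (H0 : Tᵒᵖ ⥤ Type v)

include a in
theorem isRepresentable_of_reflective [(LF.op ⋙ H0).IsRepresentable] : H0.IsRepresentable := by
  let r := (LF.op ⋙ H0).representableBy
  let Y := (LF.op ⋙ H0).reprX
  haveI hη : IsIso (LF.map (a.unit.app Y)) := by
    have h : LF.map (a.unit.app Y) = inv (a.counit.app (LF.obj Y)) :=
      IsIso.eq_inv_of_inv_hom_id (a.left_triangle_components Y)
    rw [h]
    infer_instance
  have hsurj : ∃ rr : RG.obj (LF.obj Y) ⟶ Y, a.unit.app Y ≫ rr = 𝟙 Y := by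
    have hb : Function.Bijective (H0.map (LF.map (a.unit.app Y)).op) := by
      rw [← isIso_iff_bijective]
      infer_instance
    obtain ⟨x, hx⟩ := hb.2 (r.homEquiv (𝟙 Y))
    refine ⟨r.homEquiv.symm x, ?_⟩
    apply r.homEquiv.injective
    rw [r.homEquiv_comp, Equiv.apply_symm_apply]
    exact hx
  obtain ⟨rr, hrr⟩ := hsurj
  have hrr' : rr ≫ a.unit.app Y = 𝟙 _ := by
    have h1 : a.unit.app Y ≫ (rr ≫ a.unit.app Y) =
        a.unit.app Y ≫ 𝟙 (RG.obj (LF.obj Y)) :=
      (Category.assoc _ _ _).symm.trans (by
        rw [hrr]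
        exact (Category.id_comp _).trans (Category.comp_id _).symm)
    have h2 := congrArg (a.homEquiv _ _).symm h1
    have e1 := a.homEquiv_naturality_left_symm (a.unit.app Y) (rr ≫ a.unit.app Y)
    have e2 := a.homEquiv_naturality_left_symm (a.unit.app Y) (𝟙 (RG.obj (LF.obj Y)))
    rw [e1, e2] at h2
    have h3 := (cancel_epi (LF.map (a.unit.app Y))).1 h2
    exact (a.homEquiv _ _).symm.injective h3
  let ηiso : Y ≅ RG.obj (LF.obj Y) := ⟨a.unit.app Y, rr, hrr, hrr'⟩
  let E4 : ∀ Z : T, H0.obj (op Z) ≃ H0.obj (op (LF.obj (RG.obj Z))) := fun Z =>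
    (H0.mapIso (asIso (a.counit.app Z)).op).toEquiv
  have hE4 : ∀ (Z : T) (y : H0.obj (op Z)), E4 Z y = H0.map (a.counit.app Z).op y :=
    fun Z y => rfl
  let hE : ∀ Z : T, (Z ⟶ LF.obj Y) ≃ H0.obj (op Z) := fun Z =>
    ((Functor.FullyFaithful.ofFullyFaithful RG).homEquiv.trans
      (ηiso.symm.homToEquiv.trans r.homEquiv)).trans (E4 Z).symm
  refine ⟨LF.obj Y, ⟨⟨fun {Z} => hE Z, ?_⟩⟩⟩
  intro Z' Z f g
  change (E4 Z').symm (r.homEquiv (RG.map (f ≫ g) ≫ rr)) =
    H0.map f.op ((E4 Z).symm (r.homEquiv (RG.map g ≫ rr)))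
  rw [Equiv.symm_apply_eq, RG.map_comp, Category.assoc, r.homEquiv_comp]
  generalize hx : r.homEquiv (RG.map g ≫ rr) = x
  obtain ⟨y, rfl⟩ := (E4 Z).surjective x
  rw [Equiv.symm_apply_apply, hE4, hE4]
  change H0.map (LF.map (RG.map f)).op (H0.map (a.counit.app Z).op y) = _
  rw [← FunctorToTypes.map_comp_apply, ← FunctorToTypes.map_comp_apply, ← op_comp, ← op_comp]
  rw [show LF.map (RG.map f) ≫ a.counit.app Z = a.counit.app Z' ≫ f from
    a.counit.naturality f]

end Refl

section Mod

variable (R : Type v) [Ring R]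

lemma isSeparator_self : IsSeparator (ModuleCat.of R R) := by
  rw [isSeparator_def]
  intro X Y f g h
  ext x
  have := h (ModuleCat.ofHom (LinearMap.toSpanSingleton R X x))
  simpa using congrArg (fun k => k.hom (1 : R)) this

instance : Projective (ModuleCat.of R R) :=
  (IsProjective.iff_projective (R := R) R).1 inferInstance

/-- `Hom(R, -)` is the forgetful functor -/
noncomputable def coyonedaIso :
    preadditiveCoyoneda.obj (op (ModuleCat.of R R)) ≅
      forget₂ (ModuleCat.{v} R) AddCommGrpCat.{v} :=
  NatIso.ofComponents (fun M => AddEquiv.toAddCommGrpIso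
    { toFun := fun (f : ModuleCat.of R R ⟶ M) => f.hom (1 : R)
      invFun := fun x => ModuleCat.ofHom (LinearMap.toSpanSingleton R M x)
      left_inv := fun f => by
        apply ModuleCat.hom_ext
        apply LinearMap.ext_ring
        simp
      right_inv := fun x => by simp
      map_add' := fun f g => rfl }) (fun {M N} f => by
        ext g
        rfl)

lemma preservesColimitsOfShape_coyoneda (I : Type v) :
    PreservesColimitsOfShape (Discrete I)
      (preadditiveCoyoneda.obj (op (ModuleCat.of R R))) :=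
  preservesColimitsOfShape_of_natIso (coyonedaIso R).symm

end Mod

section Main

open CategoryTheory.Pretriangulated.Opposite CategoryTheory.Pretriangulated

variable {A : Type u} [Category.{v} A] [Abelian A] [IsGrothendieckAbelian.{v} A]
  [HasDerivedCategory.{v} A]

/-- Brown representability for the derived category of a Grothendieck abelian category -/
theorem brown (H : (DerivedCategory A)ᵒᵖ ⥤ AddCommGrpCat.{v}) [H.IsHomological]
    [∀ (ι : Type v), PreservesLimitsOfShape (Discrete ι) H] :
    (H ⋙ forget AddCommGrpCat.{v}).IsRepresentable := by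
  let U := separator A
  have hU : IsSeparator U := isSeparator_separator A
  let R := (End U)ᵐᵒᵖ
  letI : HasDerivedCategory.{v} (ModuleCat.{v} R) := hasDerivedCategorySmall (ModuleCat.{v} R)
  let F := IsGrothendieckAbelian.tensorObj U
  let G := preadditiveCoyonedaObj U
  let adj : F ⊣ G := IsGrothendieckAbelian.tensorObjPreadditiveCoyonedaObjAdjunction U
  haveI : F.Additive := adj.left_adjoint_additive
  haveI : PreservesFiniteLimits F :=
    IsGrothendieckAbelian.GabrielPopescu.preservesFiniteLimits U hU
  haveI : PreservesFiniteColimits F := by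
    haveI := adj.leftAdjoint_preservesColimits
    infer_instance
  haveI := IsGrothendieckAbelian.GabrielPopescu.full U hU
  haveI : G.Faithful := (isSeparator_iff_faithful_preadditiveCoyonedaObj U).1 hU
  haveI := KInjDS.hasPointwiseRightDerivedFunctor (DerAdj.Gh G)
  obtain ⟨⟨a⟩, hfull, hfaith, -⟩ := DerAdj.main_of_isIso_counit adj (fun X => inferInstance)
  haveI : HasCoproducts.{v} (DerivedCategory (ModuleCat.{v} R)) :=
    fun J => H2.DCoprod.hasColimitsOfShape_discrete (ModuleCat.{v} R) J
  have hcg : CohDer.IsCompactlyGenerated (DerivedCategory (ModuleCat.{v} R)) :=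
    isCompactlyGenerated_of_projective_separator (ModuleCat.of R R) (isSeparator_self R)
      (preservesColimitsOfShape_coyoneda R)
  let LF := F.mapDerivedCategory
  haveI : ∀ (κ : Type v), PreservesLimitsOfShape (Discrete κ) LF.op := by
    intro κ
    haveI := a.leftAdjoint_preservesColimits
    haveI : PreservesColimitsOfShape (Discrete κ)ᵒᵖ LF :=
      preservesColimitsOfShape_of_equiv (Discrete.opposite _).symm _
    exact preservesLimitsOfShape_op _ _
  haveI : ∀ (κ : Type v), PreservesLimitsOfShape (Discrete κ) (LF.op ⋙ H) :=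
    fun κ => inferInstance
  have hrep : ((LF.op ⋙ H) ⋙ forget AddCommGrpCat.{v}).IsRepresentable :=
    H2.Brown.brown_of_isCompactlyGenerated hcg (LF.op ⋙ H)
  haveI : (LF.op ⋙ (H ⋙ forget AddCommGrpCat.{v})).IsRepresentable := hrep
  exact isRepresentable_of_reflective a (H ⋙ forget AddCommGrpCat.{v})

/-- exact coproduct-preserving functors out of `D(A)` are left adjoints -/
theorem isLeftAdjoint {D : Type u'} [Category.{v} D] [Preadditive D] [HasZeroObject D]
    [HasShift D ℤ] [∀ n : ℤ, (shiftFunctor D n).Additive] [Pretriangulated D]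
    (F : DerivedCategory A ⥤ D) [F.CommShift ℤ] [F.IsTriangulated]
    [∀ (ι : Type v), PreservesColimitsOfShape (Discrete ι) F] :
    F.IsLeftAdjoint :=
  H2.Brown.isLeftAdjoint_of_brown (fun H _ _ => brown H) F

end Main

end Groth.Agent.H6.BrownG
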