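import Mathlib

set_option autoImplicit false
set_option linter.style.haveILetI false

namespace Groth.Agent.H6.CDec

universe u

open MvPolynomial in
/-- Spreading out a `K`-point of a finitely presented algebra, where `K` is generated as a field by
the image of `A`: it extends to a section over `A_d / I A_d` for some `d` with nonzero image and a
finitely generated ideal `I` in the kernel. -/
theorem exists_section {A B K : Type u} [CommRing A] [CommRing B] [Field K] [Algebra A B]
    [Algebra.FinitePresentation A B] (α : A →+* K) (β : B →+* K)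
    (hβ : β.comp (algebraMap A B) = α)
    (hK : ∀ k : K, ∃ a d : A, α d ≠ 0 ∧ k * α d = α a) :
    ∃ (d : A) (I : Ideal A), α d ≠ 0 ∧ I.FG ∧ I ≤ RingHom.ker α ∧
      Nonempty (B →ₐ[A] (Localization.Away d ⧸ I.map (algebraMap A (Localization.Away d)))) := by
  classical
  obtain ⟨n, f, hfsurj, hfker⟩ := Algebra.FinitePresentation.out (R := A) (A := B)
  -- common denominator
  have h1 : ∀ i : Fin n, ∃ a d : A, α d ≠ 0 ∧ β (f (X i)) * α d = α a := fun i => hK _
  choose a₀ d₀ hd₀ ha₀ using h1
  let d : A := ∏ i, d₀ i
  have hd : α d ≠ 0 := by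
    rw [map_prod]
    exact Finset.prod_ne_zero_iff.mpr fun i _ => hd₀ i
  let a : Fin n → A := fun i => a₀ i * ∏ j ∈ Finset.univ.erase i, d₀ j
  have ha : ∀ i, β (f (X i)) * α d = α (a i) := by
    intro i
    have : d = d₀ i * ∏ j ∈ Finset.univ.erase i, d₀ j :=
      (Finset.mul_prod_erase Finset.univ d₀ (Finset.mem_univ i)).symm
    rw [this, map_mul, ← mul_assoc, ha₀ i, ← map_mul]
  let L := Localization.Away d
  have hunit : IsUnit (α d) := isUnit_iff_ne_zero.mpr hd
  let αL : L →+* K := IsLocalization.Away.lift d hunit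
  have hαL : ∀ x : A, αL (algebraMap A L x) = α x := fun x => IsLocalization.Away.lift_eq d hunit x
  let c : Fin n → L := fun i => IsLocalization.mk' L (a i) (⟨d, Submonoid.mem_powers d⟩ : Submonoid.powers d)
  let ev : MvPolynomial (Fin n) A →ₐ[A] L := aeval c
  have hαc : ∀ i, αL (c i) = β (f (X i)) := by
    intro i
    have h2 : c i * algebraMap A L d = algebraMap A L (a i) := IsLocalization.mk'_spec L _ _
    have h3 := congrArg αL h2
    rw [map_mul, hαL, hαL, ← ha i] at h3
    exact mul_right_cancel₀ hd h3
  have hcomp : αL.comp (ev : MvPolynomial (Fin n) A →+* L) = β.comp (f : MvPolynomial (Fin n) A →+* B) := by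
    apply MvPolynomial.ringHom_ext
    · intro r
      simp only [RingHom.comp_apply, RingHom.coe_coe]
      rw [← MvPolynomial.algebraMap_eq, AlgHom.commutes, AlgHom.commutes, hαL]
      exact (RingHom.congr_fun hβ r).symm
    · intro i
      simp only [RingHom.comp_apply, RingHom.coe_coe]
      rw [show ev (X i) = c i from aeval_X c i, hαc]
  obtain ⟨G, hG⟩ := hfker
  -- numerators
  have h4 : ∀ g : MvPolynomial (Fin n) A, ∃ (e : A) (N : ℕ), ev g * algebraMap A L (d ^ N) = algebraMap A L e := by
    intro g
    obtain ⟨⟨e, s⟩, he⟩ := IsLocalization.mk'_surjective (Submonoid.powers d) (ev g)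
    obtain ⟨N, hN⟩ := s.2
    refine ⟨e, N, ?_⟩
    have hN' : d ^ N = (s : A) := hN
    rw [← he, hN']
    exact IsLocalization.mk'_spec L _ _
  choose e N he using h4
  let I : Ideal A := Ideal.span ((G.image e : Finset A) : Set A)
  have hIker : I ≤ RingHom.ker α := by
    rw [Ideal.span_le]
    intro x hx
    obtain ⟨g, hg, rfl⟩ := Finset.mem_image.mp hx
    rw [SetLike.mem_coe, RingHom.mem_ker]
    have hgker : f g = 0 := by
      have : g ∈ RingHom.ker f.toRingHom := by rw [← hG]; exact Ideal.subset_span hg
      exact this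
    have h5 := congrArg αL (he g)
    rw [map_mul, hαL, hαL] at h5
    have h6 : αL (ev g) = 0 := by
      have := RingHom.congr_fun hcomp g
      simp only [RingHom.comp_apply, RingHom.coe_coe] at this
      rw [this, hgker, map_zero]
    rw [h6, zero_mul] at h5
    exact h5.symm
  refine ⟨d, I, hd, ⟨G.image e, rfl⟩, hIker, ?_⟩
  -- the induced map
  let IL := I.map (algebraMap A L)
  let ev' : MvPolynomial (Fin n) A →ₐ[A] (L ⧸ IL) := (Ideal.Quotient.mkₐ A IL).comp ev
  have hkill : ∀ g : MvPolynomial (Fin n) A, f g = 0 → ev' g = 0 := by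
    intro g hg
    have hgmem : g ∈ Ideal.span (G : Set (MvPolynomial (Fin n) A)) := by rw [hG]; exact hg
    have : Ideal.span (G : Set (MvPolynomial (Fin n) A)) ≤ RingHom.ker ev'.toRingHom := by
      rw [Ideal.span_le]
      intro g' hg'
      rw [SetLike.mem_coe, RingHom.mem_ker]
      show Ideal.Quotient.mk IL (ev g') = 0
      rw [Ideal.Quotient.eq_zero_iff_mem]
      have hu : IsUnit (algebraMap A L (d ^ N g')) :=
        IsLocalization.map_units L (⟨d ^ N g', N g', rfl⟩ : Submonoid.powers d)
      have h7 : ev g' * algebraMap A L (d ^ N g') ∈ IL := by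
        rw [he g']
        exact Ideal.mem_map_of_mem _ (Ideal.subset_span (Finset.mem_image_of_mem e hg'))
      obtain ⟨v, hv⟩ := hu
      have h8 := IL.mul_mem_right (↑v⁻¹ : L) h7
      rwa [mul_assoc, ← hv, Units.mul_inv, mul_one] at h8
    exact this hgmem
  have hkill' : ∀ g : MvPolynomial (Fin n) A, g ∈ RingHom.ker f → ev' g = 0 := fun g hg => hkill g hg
  exact ⟨(Ideal.Quotient.liftₐ (RingHom.ker f) ev' hkill').comp
    (Ideal.quotientKerAlgEquivOfSurjective hfsurj).symm.toAlgHom⟩

/-- A ring map to a field which inverts `d` and kills `I` factors through `A_d / I A_d`. -/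
theorem exists_lift_quot {A K : Type u} [CommRing A] [Field K] (α : A →+* K) (d : A)
    (I : Ideal A) (hd : α d ≠ 0) (hI : I ≤ RingHom.ker α) :
    ∃ αQ : (Localization.Away d ⧸ I.map (algebraMap A (Localization.Away d))) →+* K,
      αQ.comp (algebraMap A (Localization.Away d ⧸ I.map (algebraMap A (Localization.Away d)))) =
        α := by
  have hunit : IsUnit (α d) := Ne.isUnit hd
  let αL : Localization.Away d →+* K := IsLocalization.Away.lift d hunit
  have hαL : αL.comp (algebraMap A (Localization.Away d)) = α :=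
    RingHom.ext fun a => IsLocalization.Away.lift_eq d hunit a
  have hILker : ∀ a ∈ I.map (algebraMap A (Localization.Away d)), αL a = 0 := by
    have : I.map (algebraMap A (Localization.Away d)) ≤ RingHom.ker αL := by
      rw [Ideal.map_le_iff_le_comap]
      intro a ha
      rw [Ideal.mem_comap, RingHom.mem_ker]
      have := hI ha
      rw [RingHom.mem_ker, ← hαL] at this
      exact this
    exact fun a ha => this ha
  refine ⟨Ideal.Quotient.lift _ αL hILker, ?_⟩
  ext a
  show Ideal.Quotient.lift _ αL hILker (Ideal.Quotient.mk _ (algebraMap A (Localization.Away d) a)) = α a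
  rw [Ideal.Quotient.lift_mk, ← hαL]
  rfl

end Groth.Agent.H6.CDec
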