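import Mathlib
import Groth.Agent.Lib.Helper6.QFS
import Groth.Agent.Lib.Helper6.CDec1

set_option autoImplicit false
set_option linter.style.haveILetI false
open CategoryTheory AlgebraicGeometry CategoryTheory.Limits Topology

namespace Groth.Agent.H6.CDec

universe u

variable {X Y : Scheme.{u}}

/-- every element of the residue field at a point of an affine open is a fraction of values. -/
theorem exists_fraction {V : Y.Opens} (hV : IsAffineOpen V) (y : Y) (hy : y ∈ V)
    (k : Y.residueField y) :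
    ∃ a d : Γ(Y, V), (Y.evaluation V y hy).hom d ≠ 0 ∧
      k * (Y.evaluation V y hy).hom d = (Y.evaluation V y hy).hom a := by
  obtain ⟨s, rfl⟩ := Y.residue_surjective y k
  letI := Y.presheaf.algebra_section_stalk (⟨y, hy⟩ : V)
  haveI := hV.isLocalization_stalk ⟨y, hy⟩
  obtain ⟨⟨a, d⟩, had⟩ := IsLocalization.surj (hV.primeIdealOf ⟨y, hy⟩).asIdeal.primeCompl s
  have hu : IsUnit (algebraMap Γ(Y, V) (Y.presheaf.stalk y) d) :=
    IsLocalization.map_units (Y.presheaf.stalk y) d
  refine ⟨a, d, ?_, ?_⟩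
  · have : IsUnit ((Y.residue y).hom (algebraMap Γ(Y, V) (Y.presheaf.stalk y) d)) :=
      hu.map (Y.residue y).hom
    exact this.ne_zero
  · have := congrArg (Y.residue y).hom had
    rw [map_mul] at this
    exact this


set_option backward.isDefEq.respectTransparency false in
theorem exists_local_stratum (f : X ⟶ Y) [LocallyOfFinitePresentation f] (x : X)
    (hx : Function.Bijective (f.residueFieldMap x)) :
    ∃ (Z : Scheme.{u}) (z : Z ⟶ Y), f x ∈ Set.range z ∧ IsAffine Z ∧ IsImmersion z ∧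
      LocallyOfFinitePresentation z ∧ ∃ s : Z ⟶ pullback f z, s ≫ pullback.snd f z = 𝟙 Z := by
  obtain ⟨_, ⟨V, hV, rfl⟩, hyV, -⟩ := Y.isBasis_affineOpens.exists_subset_of_mem_open
    (Set.mem_univ (f x)) isOpen_univ
  obtain ⟨_, ⟨U, hU, rfl⟩, hxU, hUsub⟩ := X.isBasis_affineOpens.exists_subset_of_mem_open
    (show x ∈ ((f ⁻¹ᵁ V : X.Opens) : Set X) from hyV) (f ⁻¹ᵁ V).isOpen
  have e : U ≤ f ⁻¹ᵁ V := hUsub
  set φ := f.appLE V U e with hφ
  letI algAB : Algebra Γ(Y, V) Γ(X, U) := φ.hom.toAlgebra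
  haveI : Algebra.FinitePresentation Γ(Y, V) Γ(X, U) := f.finitePresentation_appLE hV hU e
  have hnat : Spec.map φ ≫ hV.fromSpec = hU.fromSpec ≫ f :=
    IsAffineOpen.SpecMap_appLE_fromSpec f hV hU e
  haveI : IsIso (f.residueFieldMap x) := (ConcreteCategory.isIso_iff_bijective _).mpr hx
  let α : Γ(Y, V) →+* Y.residueField (f x) := (Y.evaluation V (f x) hyV).hom
  let β : Γ(X, U) →+* Y.residueField (f x) :=
    (X.evaluation U x hxU ≫ inv (f.residueFieldMap x)).hom
  have hβ : β.comp (algebraMap Γ(Y, V) Γ(X, U)) = α := by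
    have h1 : φ ≫ X.evaluation U x hxU ≫ inv (f.residueFieldMap x) = Y.evaluation V (f x) hyV := by
      rw [← Category.assoc, IsIso.comp_inv_eq, Scheme.evaluation_naturality]
      rw [hφ, Scheme.Hom.appLE, Category.assoc]
      congr 1
      simp only [Scheme.evaluation]
      rw [← Category.assoc, TopCat.Presheaf.germ_res]
    exact congrArg CommRingCat.Hom.hom h1
  obtain ⟨d, I, hd, hIfg, hIker, ⟨s⟩⟩ := exists_section α β hβ (exists_fraction hV (f x) hyV)
  let L := Localization.Away d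
  let IL : Ideal L := I.map (algebraMap Γ(Y, V) L)
  let ψ₁ : Γ(Y, V) ⟶ CommRingCat.of L := CommRingCat.ofHom (algebraMap Γ(Y, V) L)
  let ψ₂ : CommRingCat.of L ⟶ CommRingCat.of (L ⧸ IL) := CommRingCat.ofHom (Ideal.Quotient.mk IL)
  let ψ : Γ(Y, V) ⟶ CommRingCat.of (L ⧸ IL) := CommRingCat.ofHom (algebraMap Γ(Y, V) (L ⧸ IL))
  have hψ : ψ = ψ₁ ≫ ψ₂ := rfl
  let z : Spec (CommRingCat.of (L ⧸ IL)) ⟶ Y := Spec.map ψ ≫ hV.fromSpec
  haveI : IsOpenImmersion (Spec.map ψ₁) := inferInstance
  haveI : IsClosedImmersion (Spec.map ψ₂) :=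
    IsClosedImmersion.spec_of_surjective _ Ideal.Quotient.mk_surjective
  have hz : z = Spec.map ψ₂ ≫ Spec.map ψ₁ ≫ hV.fromSpec := by
    show Spec.map ψ ≫ hV.fromSpec = _
    rw [hψ, Spec.map_comp, Category.assoc]
  refine ⟨Spec (CommRingCat.of (L ⧸ IL)), z, ?_, inferInstance, ?_, ?_, ?_⟩
  · obtain ⟨αQ, hαQ'⟩ := exists_lift_quot α d I hd hIker
    have hαQ : ψ ≫ CommRingCat.ofHom αQ = Y.evaluation V (f x) hyV := by
      ext a
      exact RingHom.congr_fun hαQ' a
    have hpt : Spec.map (CommRingCat.ofHom αQ) ≫ z = Y.fromSpecResidueField (f x) := by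
      show Spec.map (CommRingCat.ofHom αQ) ≫ Spec.map ψ ≫ hV.fromSpec = _
      rw [← Spec.map_comp_assoc, hαQ, Scheme.evaluation, Spec.map_comp_assoc,
        Scheme.fromSpecResidueField, ← hV.fromSpecStalk_eq_fromSpecStalk hyV]
      rfl
    have hne : Nonempty (Spec (Y.residueField (f x))) := inferInstance
    obtain ⟨p⟩ := hne
    refine ⟨Spec.map (CommRingCat.ofHom αQ) p, ?_⟩
    rw [← Scheme.Hom.comp_apply, hpt]
    have : Y.fromSpecResidueField (f x) p ∈ Set.range (Y.fromSpecResidueField (f x)) := ⟨p, rfl⟩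
    rw [Scheme.range_fromSpecResidueField] at this
    exact this
  · rw [hz]; infer_instance
  · haveI : LocallyOfFinitePresentation (Spec.map ψ) := by
      rw [HasRingHomProperty.Spec_iff (P := @LocallyOfFinitePresentation)]
      show (algebraMap Γ(Y, V) (L ⧸ IL)).FinitePresentation
      rw [RingHom.finitePresentation_algebraMap]
      haveI : Algebra.FinitePresentation Γ(Y, V) L := IsLocalization.Away.finitePresentation d
      haveI : Algebra.FinitePresentation L (L ⧸ IL) :=
        Algebra.FinitePresentation.quotient (hIfg.map _)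
      exact Algebra.FinitePresentation.trans Γ(Y, V) L (L ⧸ IL)
    show LocallyOfFinitePresentation (Spec.map ψ ≫ hV.fromSpec)
    infer_instance
  · have hs : φ ≫ CommRingCat.ofHom s.toRingHom = ψ := by
      ext a
      exact s.commutes a
    refine ⟨pullback.lift (Spec.map (CommRingCat.ofHom s.toRingHom) ≫ hU.fromSpec) (𝟙 _) ?_, ?_⟩
    · rw [Category.assoc, ← hnat, ← Spec.map_comp_assoc, hs, Category.id_comp]
    · exact pullback.lift_snd _ _ _


theorem s1440 (f : X ⟶ Y) [LocallyOfFinitePresentation f] [CompactSpace ↑Y]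
    [QuasiSeparatedSpace ↑Y]
    (hcd : ∀ y : Y, ∃ x : X, f x = y ∧ Function.Bijective (f.residueFieldMap x)) :
    ∃ (n : ℕ) (Z : Fin n → Scheme.{u}) (z : ∀ i, Z i ⟶ Y),
      (∀ y : Y, ∃ i, y ∈ Set.range ⇑(z i)) ∧
      ∀ i, IsImmersion (z i) ∧ LocallyOfFinitePresentation (z i) ∧ QuasiCompact (z i) ∧
        QuasiSeparated (z i) ∧
        ∃ s : Z i ⟶ pullback f (z i), s ≫ pullback.snd f (z i) = 𝟙 (Z i) := by
  classical
  choose x hx hbij using hcd
  have key := fun y => exists_local_stratum f (x y) (hbij y)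
  choose Z z hmem haff himm hlfp hsec using key
  have hqc : ∀ y, QuasiCompact (z y) := fun y => by
    haveI := haff y
    infer_instance
  have hC : ∀ y, IsConstructible (Set.range (z y)) := by
    intro y
    haveI := hlfp y
    haveI := hqc y
    rw [← Set.image_univ]
    exact (z y).isConstructible_image .univ
  obtain ⟨t, ht⟩ := QFS.exists_finset_cover_of_isConstructible (fun y => Set.range (z y)) hC
    (fun y => ⟨y, by have := hmem y; rw [hx y] at this; exact this⟩)
  let e := t.equivFin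
  refine ⟨t.card, fun i => Z (e.symm i), fun i => z (e.symm i), ?_, ?_⟩
  · intro y
    obtain ⟨i, hi, hy⟩ := ht y
    refine ⟨e ⟨i, hi⟩, ?_⟩
    show y ∈ Set.range ⇑(z ↑(e.symm (e ⟨i, hi⟩)))
    rw [Equiv.symm_apply_apply]
    exact hy
  · intro i
    haveI := himm (e.symm i).1
    exact ⟨himm _, hlfp _, hqc _, inferInstance, hsec _⟩

end Groth.Agent.H6.CDec
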