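import Mathlib

/-! # Comparison of two sequences of functors satisfying dimension shifting -/

set_option autoImplicit false

open CategoryTheory Limits

namespace Groth.Agent.H6.CL

universe w v u

variable (𝒜 : Type u) [Category.{v} 𝒜] [Abelian 𝒜]

/-- A sequence of group-valued functors with connecting maps satisfying dimension shifting
along short exact sequences with injective middle term. -/
structure Shift where
  T : ℕ → 𝒜 → Type w
  grp : ∀ p F, AddCommGroup (T p F)
  map : ∀ (p : ℕ) {F F' : 𝒜}, (F ⟶ F') → (T p F →+ T p F')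
  δ : ∀ (S : ShortComplex 𝒜) (_ : S.ShortExact) (p : ℕ), T p S.X₃ →+ T (p + 1) S.X₁
  δ_bij : ∀ (S : ShortComplex 𝒜) (hS : S.ShortExact), Injective S.X₂ → ∀ p : ℕ,
    Function.Bijective (δ S hS (p + 1))
  δ_surj : ∀ (S : ShortComplex 𝒜) (hS : S.ShortExact), Injective S.X₂ →
    Function.Surjective (δ S hS 0)
  δ_ker : ∀ (S : ShortComplex 𝒜) (hS : S.ShortExact), Injective S.X₂ → ∀ x : T 0 S.X₃,
    δ S hS 0 x = 0 ↔ x ∈ (map 0 S.g).range

attribute [instance] Shift.grp

variable {𝒜}

/-- The short exact sequence `0 ⟶ M ⟶ I ⟶ Q ⟶ 0` with `I` injective. -/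
noncomputable abbrev sesU [EnoughInjectives 𝒜] (M : 𝒜) : ShortComplex 𝒜 :=
  ShortComplex.mk (Injective.ι M) (cokernel.π (Injective.ι M)) (cokernel.condition _)

lemma sesU_shortExact [EnoughInjectives 𝒜] (M : 𝒜) : (sesU M).ShortExact where
  exact := ShortComplex.exact_of_g_is_cokernel _ (cokernelIsCokernel _)
  mono_f := by dsimp [sesU]; infer_instance
  epi_g := by dsimp [sesU]; infer_instance

lemma sesU_injective [EnoughInjectives 𝒜] (M : 𝒜) : Injective (sesU M).X₂ := by
  dsimp [sesU]; infer_instance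

namespace Shift

variable [EnoughInjectives 𝒜] (A B : Shift.{w} 𝒜)

/-- degree one in terms of degree zero -/
noncomputable def oneEquiv (F : 𝒜) :
    A.T 1 F ≃+ (A.T 0 (sesU F).X₃ ⧸ (A.map 0 (sesU F).g).range) := by
  have hker : (A.δ (sesU F) (sesU_shortExact F) 0).ker = (A.map 0 (sesU F).g).range := by
    ext x
    rw [AddMonoidHom.mem_ker]
    exact A.δ_ker (sesU F) (sesU_shortExact F) (sesU_injective F) x
  exact (QuotientAddGroup.quotientKerEquivOfSurjective _
    (A.δ_surj (sesU F) (sesU_shortExact F) (sesU_injective F))).symm.trans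
    (QuotientAddGroup.quotientAddEquivOfEq hker)

theorem nonempty_equiv (e : ∀ F, A.T 0 F ≃+ B.T 0 F)
    (he : ∀ {F F' : 𝒜} (φ : F ⟶ F') (x : A.T 0 F), e F' (A.map 0 φ x) = B.map 0 φ (e F x)) :
    ∀ (p : ℕ) (F : 𝒜), Nonempty (A.T p F ≃+ B.T p F) := by
  intro p
  induction p using Nat.twoStepInduction with
  | zero => exact fun F => ⟨e F⟩
  | one =>
    intro F
    have hmap : AddSubgroup.map ((e (sesU F).X₃ : A.T 0 (sesU F).X₃ →+ B.T 0 (sesU F).X₃))
        (A.map 0 (sesU F).g).range = (B.map 0 (sesU F).g).range := by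
      ext y
      constructor
      · rintro ⟨_, ⟨x, rfl⟩, rfl⟩
        exact ⟨e _ x, (he _ x).symm⟩
      · rintro ⟨x, rfl⟩
        refine ⟨A.map 0 (sesU F).g ((e _).symm x), ⟨_, rfl⟩, ?_⟩
        change e _ (A.map 0 (sesU F).g ((e _).symm x)) = _
        rw [he, AddEquiv.apply_symm_apply]
    exact ⟨(A.oneEquiv F).trans ((QuotientAddGroup.congr _ _ (e (sesU F).X₃) hmap).trans
      (B.oneEquiv F).symm)⟩
  | more p _ ih =>
    intro F
    obtain ⟨e'⟩ := ih (sesU F).X₃
    exact ⟨(AddEquiv.ofBijective _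
      (A.δ_bij (sesU F) (sesU_shortExact F) (sesU_injective F) p)).symm.trans
      (e'.trans (AddEquiv.ofBijective _
        (B.δ_bij (sesU F) (sesU_shortExact F) (sesU_injective F) p)))⟩

end Shift

end Groth.Agent.H6.CL
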