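import Groth.Agent.Lib.Helper6.CL1

/-! # The shift structure `F ↦ Ext A (G F) p` for an exact functor `G` -/

set_option autoImplicit false

open CategoryTheory Limits Abelian

namespace Groth.Agent.H6.CL

universe w v u v' u'

section Aux

variable {ℬ : Type u'} [Category.{v'} ℬ] [Abelian ℬ] [HasExt.{w} ℬ] (A : ℬ)
  {S : ShortComplex ℬ} (hS : S.ShortExact)

lemma comp_g_comp_extClass {n : ℕ} (y : Ext A S.X₂ n) :
    (y.comp (Ext.mk₀ S.g) (add_zero n)).comp hS.extClass (rfl : n + 1 = n + 1) = 0 := by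
  rw [Ext.comp_assoc_of_second_deg_zero, hS.comp_extClass, Ext.comp_zero]

lemma δ_injective_of_subsingleton {n : ℕ} (h : Subsingleton (Ext A S.X₂ n))
    (x : Ext A S.X₃ n) (hx : x.comp hS.extClass (rfl : n + 1 = n + 1) = 0) : x = 0 := by
  obtain ⟨y, hy⟩ := Ext.covariant_sequence_exact₃ A hS x rfl hx
  have : y = 0 := Subsingleton.elim _ _
  subst this
  rw [Ext.zero_comp] at hy
  exact hy.symm

lemma δ_surjective_of_subsingleton {n : ℕ} (h : Subsingleton (Ext A S.X₂ (n + 1)))
    (z : Ext A S.X₁ (n + 1)) : ∃ x : Ext A S.X₃ n, x.comp hS.extClass rfl = z :=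
  Ext.covariant_sequence_exact₁ A hS z (Subsingleton.elim _ _) rfl

end Aux

variable {𝒜 : Type u} [Category.{v} 𝒜] [Abelian 𝒜]
  {ℬ : Type u'} [Category.{v'} ℬ] [Abelian ℬ] [HasExt.{w} ℬ]
  (A : ℬ) (G : 𝒜 ⥤ ℬ) [G.Additive] [PreservesFiniteLimits G] [PreservesFiniteColimits G]
  (hG : ∀ (I : 𝒜), Injective I → ∀ p : ℕ, Subsingleton (Ext A (G.obj I) (p + 1)))

/-- the shift structure -/
noncomputable def extShift : Shift.{w} 𝒜 where
  T p F := Ext A (G.obj F) p
  grp p F := inferInstance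
  map p {F F'} φ := (Ext.mk₀ (G.map φ)).postcomp A (add_zero p)
  δ S hS p := (hS.map_of_exact G).extClass.postcomp A rfl
  δ_bij S hS hI p := by
    constructor
    · rw [injective_iff_map_eq_zero]
      intro x hx
      exact δ_injective_of_subsingleton A (hS.map_of_exact G) (hG S.X₂ hI p) x hx
    · intro z
      exact δ_surjective_of_subsingleton A (hS.map_of_exact G) (hG S.X₂ hI (p + 1)) z
  δ_surj S hS hI := by
    intro z
    exact δ_surjective_of_subsingleton A (hS.map_of_exact G) (hG S.X₂ hI 0) z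
  δ_ker S hS hI x := by
    constructor
    · intro hx
      obtain ⟨y, hy⟩ := Ext.covariant_sequence_exact₃ A (hS.map_of_exact G) x rfl hx
      exact ⟨y, hy⟩
    · rintro ⟨y, rfl⟩
      exact comp_g_comp_extClass A (hS.map_of_exact G) y

end Groth.Agent.H6.CL
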