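import Mathlib
import Groth.Agent.S11180
import Groth.Agent.S0543

/-! Helper6: compatible families over complete local flat algebras come from the module
(S11181). -/

set_option linter.unusedSectionVars false

namespace Groth.Agent.H6.CLFam

universe u

open TensorProduct IsLocalRing

/-- bundled complete Noetherian local flat `A`-algebra -/
structure Obj (A : Type u) [CommRing A] where
  B : Type u
  [cr : CommRing B]
  [alg : Algebra A B]
  [noeth : IsNoetherianRing B]
  [loc : IsLocalRing B]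
  compl : IsAdicComplete (IsLocalRing.maximalIdeal B) B
  flat : Module.Flat A B

attribute [instance] Obj.cr Obj.alg Obj.noeth Obj.loc

/-- compatibility of a family -/
def Compat {A : Type u} [CommRing A] {M : Type u} [AddCommGroup M] [Module A M]
    (x : ∀ β : Obj A, β.B ⊗[A] M) : Prop :=
  ∀ (β β' : Obj A) (g : β.B →ₐ[A] β'.B), LinearMap.rTensor M g.toLinearMap (x β) = x β'

/-- every compatible family comes from an element -/
def Good (A : Type u) [CommRing A] (M : Type u) [AddCommGroup M] [Module A M] : Prop :=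
  ∀ x : (∀ β : Obj A, β.B ⊗[A] M), Compat x → ∃ m : M, ∀ β : Obj A, x β = (1 : β.B) ⊗ₜ[A] m

theorem rl_comm {A : Type*} [CommRing A] {B B' N N' : Type*} [AddCommGroup B] [Module A B]
    [AddCommGroup B'] [Module A B'] [AddCommGroup N] [Module A N] [AddCommGroup N'] [Module A N']
    (φ : B →ₗ[A] B') (k : N →ₗ[A] N') (t : B ⊗[A] N) :
    LinearMap.rTensor N' φ (LinearMap.lTensor B k t) =
      LinearMap.lTensor B' k (LinearMap.rTensor N φ t) := by
  have e1 := LinearMap.congr_fun (LinearMap.rTensor_comp_lTensor B φ k) t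
  have e2 := LinearMap.congr_fun (LinearMap.lTensor_comp_rTensor B φ k) t
  rw [LinearMap.comp_apply] at e1 e2
  rw [e1, e2]

theorem good_of_subsingleton (A : Type u) [CommRing A] (N : Type u) [AddCommGroup N] [Module A N]
    [Subsingleton N] : Good A N := by
  intro x _
  refine ⟨0, fun β => ?_⟩
  rw [TensorProduct.tmul_zero]
  induction x β using TensorProduct.induction_on with
  | zero => rfl
  | tmul b n => rw [Subsingleton.elim n 0, TensorProduct.tmul_zero]
  | add a b ha hb => rw [ha, hb, add_zero]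

theorem good_of_exact (A : Type u) [CommRing A] {N₁ N₂ N₃ : Type u} [AddCommGroup N₁] [Module A N₁]
    [AddCommGroup N₂] [Module A N₂] [AddCommGroup N₃] [Module A N₃]
    (f : N₁ →ₗ[A] N₂) (g : N₂ →ₗ[A] N₃) (hf : Function.Injective f) (hg : Function.Surjective g)
    (hfg : Function.Exact f g) (h₁ : Good A N₁) (h₃ : Good A N₃) : Good A N₂ := by
  intro x hx
  obtain ⟨m₃, hm₃⟩ := h₃ (fun β => LinearMap.lTensor β.B g (x β)) (fun β β' φ => by
    show LinearMap.rTensor N₃ φ.toLinearMap (LinearMap.lTensor β.B g (x β)) =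
      LinearMap.lTensor β'.B g (x β')
    rw [rl_comm, hx β β' φ])
  obtain ⟨m₂, rfl⟩ := hg m₃
  have hy : ∀ β : Obj A, ∃ z : β.B ⊗[A] N₁,
      LinearMap.lTensor β.B f z = x β - (1 : β.B) ⊗ₜ[A] m₂ := by
    intro β
    have hex := lTensor_exact β.B hfg hg
    apply (hex _).mp
    rw [map_sub, hm₃ β, LinearMap.lTensor_tmul, sub_self]
  choose z hz using hy
  have hinj : ∀ β : Obj A, Function.Injective (LinearMap.lTensor β.B f) := fun β => by
    haveI := β.flat
    exact Module.Flat.lTensor_preserves_injective_linearMap f hf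
  obtain ⟨m₁, hm₁⟩ := h₁ z (fun β β' φ => by
    apply hinj β'
    rw [← rl_comm, hz β, hz β', map_sub, hx β β' φ, LinearMap.rTensor_tmul,
      AlgHom.toLinearMap_apply, map_one])
  refine ⟨f m₁ + m₂, fun β => ?_⟩
  have h := hz β
  rw [hm₁ β, LinearMap.lTensor_tmul] at h
  rw [TensorProduct.tmul_add, h]
  abel

section Quot

variable {A : Type u} [CommRing A] (I : Ideal A) (B : Type u) [CommRing B] [Algebra A B]

theorem tmul_mk (b : B) (a : A) :
    b ⊗ₜ[A] (Ideal.Quotient.mk I a) = (a • b) ⊗ₜ[A] (1 : A ⧸ I) := by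
  have h : Ideal.Quotient.mk I a = a • (1 : A ⧸ I) := by
    rw [← Ideal.Quotient.algebraMap_eq, Algebra.algebraMap_eq_smul_one]
  rw [h, TensorProduct.tmul_smul, TensorProduct.smul_tmul']

theorem exists_tmul_one (t : B ⊗[A] (A ⧸ I)) : ∃ b : B, t = b ⊗ₜ[A] (1 : A ⧸ I) := by
  induction t using TensorProduct.induction_on with
  | zero => exact ⟨0, (TensorProduct.zero_tmul _ _).symm⟩
  | tmul b d =>
    obtain ⟨a', rfl⟩ := Ideal.Quotient.mk_surjective d
    exact ⟨a' • b, tmul_mk I B b a'⟩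
  | add t t' ht ht' =>
    obtain ⟨b, rfl⟩ := ht
    obtain ⟨b', rfl⟩ := ht'
    exact ⟨b + b', (TensorProduct.add_tmul _ _ _).symm⟩

theorem smul_eq_zero_of_mem {t : A} (ht : t ∈ I) (q : B ⊗[A] (A ⧸ I)) : t • q = 0 := by
  induction q using TensorProduct.induction_on with
  | zero => exact smul_zero t
  | tmul b d =>
    obtain ⟨a', rfl⟩ := Ideal.Quotient.mk_surjective d
    have h0 : t • (Ideal.Quotient.mk I a') = 0 := by
      have : t • (Ideal.Quotient.mk I a') = Ideal.Quotient.mk I (t * a') := rfl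
      rw [this, Ideal.Quotient.eq_zero_iff_mem]
      exact I.mul_mem_right _ ht
    rw [← TensorProduct.tmul_smul, h0, TensorProduct.tmul_zero]
  | add a b ha hb => rw [smul_add, ha, hb, add_zero]

theorem eq_zero_of_smul_eq_zero [I.IsPrime] [Module.Flat A B] {t : A} (ht : t ∉ I)
    (q : B ⊗[A] (A ⧸ I)) (h : t • q = 0) : q = 0 := by
  let μ : (A ⧸ I) →ₗ[A] (A ⧸ I) := LinearMap.lsmul A (A ⧸ I) t
  have hμ : Function.Injective μ := by
    rw [injective_iff_map_eq_zero]
    intro d hd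
    obtain ⟨a', rfl⟩ := Ideal.Quotient.mk_surjective d
    have h1 : t • (Ideal.Quotient.mk I a') = Ideal.Quotient.mk I (t * a') := rfl
    have hd' : t • (Ideal.Quotient.mk I a') = 0 := hd
    rw [h1, Ideal.Quotient.eq_zero_iff_mem] at hd'
    rw [Ideal.Quotient.eq_zero_iff_mem]
    exact (Ideal.IsPrime.mem_or_mem inferInstance hd').resolve_left ht
  have hinj := Module.Flat.lTensor_preserves_injective_linearMap (M := B) μ hμ
  have hval : ∀ q : B ⊗[A] (A ⧸ I), LinearMap.lTensor B μ q = t • q := by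
    intro q
    induction q using TensorProduct.induction_on with
    | zero => rw [map_zero, smul_zero]
    | tmul b d =>
      rw [LinearMap.lTensor_tmul, ← TensorProduct.tmul_smul]
      rfl
    | add a b ha hb => rw [map_add, ha, hb, smul_add]
  apply hinj
  rw [hval, h, map_zero]

theorem tmul_one_eq_zero_of_mem {b : B} (hb : b ∈ I.map (algebraMap A B)) :
    b ⊗ₜ[A] (1 : A ⧸ I) = 0 := by
  have hb' : b ∈ Submodule.span B ((algebraMap A B) '' (I : Set A)) := hb
  refine Submodule.span_induction (p := fun y _ => y ⊗ₜ[A] (1 : A ⧸ I) = 0) ?_ ?_ ?_ ?_ hb'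
  · rintro _ ⟨a, ha, rfl⟩
    have h0 : a • (1 : A ⧸ I) = 0 := by
      rw [← Algebra.algebraMap_eq_smul_one, Ideal.Quotient.algebraMap_eq,
        Ideal.Quotient.eq_zero_iff_mem]
      exact ha
    rw [Algebra.algebraMap_eq_smul_one, TensorProduct.smul_tmul, h0, TensorProduct.tmul_zero]
  · exact TensorProduct.zero_tmul _ _
  · intro y y' _ _ h h'
    rw [TensorProduct.add_tmul, h, h', add_zero]
  · intro c y _ h
    have h1 : (c • y) ⊗ₜ[A] (1 : A ⧸ I) = c • (y ⊗ₜ[A] (1 : A ⧸ I)) :=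
      (TensorProduct.smul_tmul' c y 1).symm
    rw [h1, h, smul_zero]

end Quot

/-- base change to a flat algebra detects nonvanishing at a prime containing the annihilator -/
theorem rTensor_ne_zero {A B C : Type u} [CommRing A] [CommRing B] [CommRing C] [Algebra A B]
    [Algebra A C] [Algebra B C] [IsScalarTower A B C] [Module.Flat B C] (D : Type u)
    [AddCommGroup D] [Module A D] (𝔫 : Ideal C) (h𝔫 : 𝔫 ≠ ⊤) (y : B ⊗[A] D)
    (hy : ∀ b : B, b • y = 0 → algebraMap B C b ∈ 𝔫) :
    LinearMap.rTensor D (IsScalarTower.toAlgHom A B C).toLinearMap y ≠ 0 := by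
  intro h0
  let τ : B →ₗ[B] B ⊗[A] D := LinearMap.toSpanSingleton B (B ⊗[A] D) y
  let J : Ideal B := LinearMap.ker τ
  let ι : (B ⧸ J) →ₗ[B] B ⊗[A] D := Submodule.liftQ J τ le_rfl
  have hι : Function.Injective ι := by
    rw [← LinearMap.ker_eq_bot]
    exact Submodule.ker_liftQ_eq_bot _ _ _ le_rfl
  have hinj : Function.Injective (ι.lTensor C) :=
    Module.Flat.lTensor_preserves_injective_linearMap ι hι
  let e := TensorProduct.AlgebraTensorModule.cancelBaseChange A B B C D
  have he : ∀ t : B ⊗[A] D, e ((1 : C) ⊗ₜ[B] t) =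
      LinearMap.rTensor D (IsScalarTower.toAlgHom A B C).toLinearMap t := by
    intro t
    induction t using TensorProduct.induction_on with
    | zero => rw [TensorProduct.tmul_zero, map_zero, map_zero]
    | tmul b d =>
      rw [TensorProduct.AlgebraTensorModule.cancelBaseChange_tmul, LinearMap.rTensor_tmul]
      congr 1
      rw [Algebra.smul_def, mul_one]
      rfl
    | add t t' ht ht' => rw [TensorProduct.tmul_add, map_add, map_add, ht, ht']
  have h1 : (1 : C) ⊗ₜ[B] y = 0 := by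
    apply e.injective
    rw [he, h0, map_zero]
  have h2 : (1 : C) ⊗ₜ[B] (Submodule.Quotient.mk 1 : B ⧸ J) = 0 := by
    apply hinj
    rw [LinearMap.lTensor_tmul, map_zero]
    have hι1 : ι (Submodule.Quotient.mk 1) = y := by
      show τ 1 = y
      simp [τ]
    rw [hι1, h1]
  let ev : C →ₗ[B] (C ⧸ 𝔫) := (Ideal.Quotient.mkₐ B 𝔫).toLinearMap
  have hJ : J ≤ LinearMap.ker (Algebra.linearMap B (C ⧸ 𝔫)) := by
    intro b hb
    have hb' : b • y = 0 := by
      have hτ : τ b = 0 := hb
      simpa [τ] using hτ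
    rw [LinearMap.mem_ker, Algebra.linearMap_apply]
    show Ideal.Quotient.mk 𝔫 (algebraMap B C b) = 0
    exact Ideal.Quotient.eq_zero_iff_mem.mpr (hy b hb')
  let fac : (B ⧸ J) →ₗ[B] (C ⧸ 𝔫) := Submodule.liftQ J (Algebra.linearMap B (C ⧸ 𝔫)) hJ
  let ℓ : C ⊗[B] (B ⧸ J) →ₗ[B] (C ⧸ 𝔫) :=
    (LinearMap.mul' B (C ⧸ 𝔫)) ∘ₗ TensorProduct.map ev fac
  have h3 : ℓ ((1 : C) ⊗ₜ[B] (Submodule.Quotient.mk 1 : B ⧸ J)) = 1 := by
    simp only [ℓ, LinearMap.comp_apply, TensorProduct.map_tmul, LinearMap.mul'_apply]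
    have e1 : ev 1 = 1 := map_one (Ideal.Quotient.mkₐ B 𝔫)
    have e2 : fac (Submodule.Quotient.mk 1) = 1 := by
      show algebraMap B (C ⧸ 𝔫) 1 = 1
      exact map_one _
    rw [e1, e2, mul_one]
  rw [h2, map_zero] at h3
  haveI : Nontrivial (C ⧸ 𝔫) := Ideal.Quotient.nontrivial_iff.2 h𝔫
  exact zero_ne_one h3

section Compl

theorem factorPow_evalₐ {S : Type*} [CommRing S] (I : Ideal S) {m n : ℕ} (hmn : m ≤ n)
    (x : AdicCompletion I S) :
    Ideal.Quotient.factorPow I hmn (AdicCompletion.evalₐ I n x) = AdicCompletion.evalₐ I m x := by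
  obtain ⟨r, rfl⟩ := AdicCompletion.mk_surjective I S x
  rw [AdicCompletion.evalₐ_mk, AdicCompletion.evalₐ_mk]
  exact AdicCompletion.Ideal.mk_eq_mk I hmn r

theorem nonempty_cmap {R S T : Type*} [CommRing R] [CommRing S] [CommRing T] [Algebra R S]
    [Algebra R T] (I : Ideal S) (J : Ideal T) (φ : S →ₐ[R] T) (h : I ≤ J.comap φ) :
    Nonempty (AdicCompletion I S →ₐ[R] AdicCompletion J T) := by
  haveI : IsScalarTower R S (AdicCompletion I S) := IsScalarTower.of_algebraMap_eq (fun a => rfl)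
  have hpow : ∀ n, I ^ n ≤ (J ^ n).comap φ := fun n =>
    (Ideal.pow_right_mono h n).trans (Ideal.le_comap_pow _ n)
  refine ⟨AdicCompletion.liftAlgHom J
    (fun n => (Ideal.quotientMapₐ (J ^ n) φ (hpow n)).comp
      ((AdicCompletion.evalₐ I n).restrictScalars R)) ?_⟩
  intro m n hle
  refine AlgHom.ext fun x => ?_
  have h1 := (factorPow_evalₐ I hle x).symm
  show Ideal.Quotient.factorₐ R (Ideal.pow_le_pow_right hle)
      (Ideal.quotientMapₐ (J ^ n) φ (hpow n) (AdicCompletion.evalₐ I n x)) =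
    Ideal.quotientMapₐ (J ^ m) φ (hpow m) (AdicCompletion.evalₐ I m x)
  rw [h1]
  obtain ⟨s, hs⟩ := Ideal.Quotient.mk_surjective (AdicCompletion.evalₐ I n x)
  rw [← hs]
  rfl

theorem map_map_eq {A L T : Type*} [CommRing A] [CommRing L] [CommRing T] [Algebra A L]
    [Algebra L T] [Algebra A T] [IsScalarTower A L T] (J : Ideal A) (I : Ideal L)
    (h : J.map (algebraMap A L) = I) : I.map (algebraMap L T) = J.map (algebraMap A T) := by
  subst h
  rw [Ideal.map_map, ← IsScalarTower.algebraMap_eq]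

end Compl

/-- the completion of the localization at a prime -/
abbrev Cpl (B : Type u) [CommRing B] (P : Ideal B) [P.IsPrime] : Type u :=
  AdicCompletion (maximalIdeal (Localization.AtPrime P)) (Localization.AtPrime P)

theorem exists_lmap {A : Type u} [CommRing A] (𝔭 : Ideal A) [𝔭.IsPrime] (B : Type u) [CommRing B]
    [Algebra A B] (P : Ideal B) [P.IsPrime] (hP : P.comap (algebraMap A B) = 𝔭) :
    ∃ φ : Localization.AtPrime 𝔭 →ₐ[A] Localization.AtPrime P,
      maximalIdeal (Localization.AtPrime 𝔭) ≤ (maximalIdeal (Localization.AtPrime P)).comap φ := by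
  have hiff : ∀ a : A, algebraMap A B a ∈ P ↔ a ∈ 𝔭 := fun a => by
    rw [← hP, Ideal.mem_comap]
  have hu : ∀ y : 𝔭.primeCompl,
      IsUnit ((Algebra.ofId A (Localization.AtPrime P)) (y : A)) := by
    intro y
    have hy : algebraMap A B y ∈ P.primeCompl :=
      Ideal.mem_primeCompl_iff.mpr (fun hmem => Ideal.mem_primeCompl_iff.mp y.2 ((hiff _).mp hmem))
    have h := IsLocalization.map_units (Localization.AtPrime P)
      (⟨algebraMap A B y, hy⟩ : P.primeCompl)
    rw [Algebra.ofId_apply, IsScalarTower.algebraMap_apply A B (Localization.AtPrime P)]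
    exact h
  refine ⟨IsLocalization.liftAlgHom (M := 𝔭.primeCompl)
    (f := Algebra.ofId A (Localization.AtPrime P)) hu, ?_⟩
  rw [← IsLocalization.AtPrime.map_eq_maximalIdeal 𝔭 (Localization.AtPrime 𝔭),
    Ideal.map_le_iff_le_comap]
  intro a ha
  rw [Ideal.mem_comap, Ideal.mem_comap, AlgHom.commutes,
    IsScalarTower.algebraMap_apply A B (Localization.AtPrime P),
    ← IsLocalization.AtPrime.map_eq_maximalIdeal P (Localization.AtPrime P)]
  exact Ideal.mem_map_of_mem _ ((hiff a).mpr ha)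

theorem exists_approx (A : Type u) [CommRing A] [IsNoetherianRing A] (𝔭 : Ideal A) [𝔭.IsPrime]
    (b₀ : Cpl A 𝔭) :
    ∃ a s : A, s ∉ 𝔭 ∧
      s • b₀ - algebraMap A (Cpl A 𝔭) a ∈ 𝔭.map (algebraMap A (Cpl A 𝔭)) := by
  haveI : IsScalarTower A (Localization.AtPrime 𝔭) (Cpl A 𝔭) :=
    IsScalarTower.of_algebraMap_eq (fun a => rfl)
  obtain ⟨r, hr⟩ := Ideal.Quotient.mk_surjective
    (AdicCompletion.evalOneₐ (maximalIdeal (Localization.AtPrime 𝔭)) b₀)
  obtain ⟨a, s, has⟩ := IsLocalization.exists_mk'_eq 𝔭.primeCompl r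
  refine ⟨a, (s : A), Ideal.mem_primeCompl_iff.mp s.2, ?_⟩
  have hker : b₀ - algebraMap (Localization.AtPrime 𝔭) (Cpl A 𝔭) r ∈
      RingHom.ker (AdicCompletion.evalOneₐ (maximalIdeal (Localization.AtPrime 𝔭))).toRingHom := by
    rw [RingHom.mem_ker]
    show AdicCompletion.evalOneₐ (maximalIdeal (Localization.AtPrime 𝔭))
      (b₀ - algebraMap (Localization.AtPrime 𝔭) (Cpl A 𝔭) r) = 0
    rw [map_sub, AlgHom.commutes, ← hr, Ideal.Quotient.algebraMap_eq, sub_self]
  rw [AdicCompletion.ker_evalOneₐ_eq_map _ (IsNoetherian.noetherian _),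
    map_map_eq 𝔭 (maximalIdeal (Localization.AtPrime 𝔭))
      (IsLocalization.AtPrime.map_eq_maximalIdeal 𝔭 (Localization.AtPrime 𝔭))] at hker
  have hsr : (s : A) • r = algebraMap A (Localization.AtPrime 𝔭) a := by
    rw [← has, Algebra.smul_def, mul_comm, IsLocalization.mk'_spec]
  have h2 : (s : A) • algebraMap (Localization.AtPrime 𝔭) (Cpl A 𝔭) r =
      algebraMap A (Cpl A 𝔭) a := by
    rw [IsScalarTower.algebraMap_apply A (Localization.AtPrime 𝔭) (Cpl A 𝔭) a, ← hsr,
      Algebra.smul_def, Algebra.smul_def, map_mul,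
      ← IsScalarTower.algebraMap_apply A (Localization.AtPrime 𝔭) (Cpl A 𝔭)]
  have h3 : (s : A) • b₀ - algebraMap A (Cpl A 𝔭) a =
      (s : A) • (b₀ - algebraMap (Localization.AtPrime 𝔭) (Cpl A 𝔭) r) := by
    rw [smul_sub, h2]
  rw [h3]
  exact Submodule.smul_of_tower_mem _ (s : A) hker

/-- the completed localization as an object -/
noncomputable def cplObj (A : Type u) [CommRing A] (B : Type u) [CommRing B] [Algebra A B]
    [IsNoetherianRing B] (hflat : Module.Flat A B) (P : Ideal B) [P.IsPrime] : Obj A :=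
  haveI := hflat
  haveI : IsNoetherianRing (Cpl B P) := Groth.Agent.S0543.result _ _
  haveI : IsScalarTower A (Localization.AtPrime P) (Cpl B P) :=
    IsScalarTower.of_algebraMap_eq (fun a => rfl)
  haveI : Module.Flat A (Localization.AtPrime P) := Module.Flat.trans A B (Localization.AtPrime P)
  haveI : Module.Flat (Localization.AtPrime P) (Cpl B P) := AdicCompletion.flat_of_isNoetherian _
  { B := Cpl B P
    compl := inferInstance
    flat := Module.Flat.trans A (Localization.AtPrime P) (Cpl B P) }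

theorem exists_base (A : Type u) [CommRing A] [IsNoetherianRing A] (𝔭 : Ideal A) [𝔭.IsPrime] :
    ∃ β₀ : Obj A,
      (∀ b₀ : β₀.B, ∃ a s : A, s ∉ 𝔭 ∧
        s • b₀ - algebraMap A β₀.B a ∈ 𝔭.map (algebraMap A β₀.B)) ∧
      (∀ (B : Type u) [CommRing B] [Algebra A B] [IsNoetherianRing B] (_ : Module.Flat A B)
        (P : Ideal B) [P.IsPrime] (_ : P.comap (algebraMap A B) = 𝔭),
        ∃ (γ : Obj A) (_ : Algebra B γ.B) (_ : IsScalarTower A B γ.B) (_ : Module.Flat B γ.B),
          (∀ b ∈ P, algebraMap B γ.B b ∈ maximalIdeal γ.B) ∧ Nonempty (β₀.B →ₐ[A] γ.B)) := by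
  refine ⟨cplObj A A inferInstance 𝔭, ?_, ?_⟩
  · intro b₀
    obtain ⟨a, s, hs, h⟩ := exists_approx A 𝔭 b₀
    exact ⟨a, s, hs, h⟩
  · intro B _ _ _ hflat P _ hP
    haveI : IsScalarTower A (Localization.AtPrime P) (Cpl B P) :=
      IsScalarTower.of_algebraMap_eq (fun a => rfl)
    haveI : IsScalarTower B (Localization.AtPrime P) (Cpl B P) :=
      IsScalarTower.of_algebraMap_eq (fun a => rfl)
    have tower : IsScalarTower A B (Cpl B P) := IsScalarTower.of_algebraMap_eq (fun a => by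
      rw [IsScalarTower.algebraMap_apply A (Localization.AtPrime P) (Cpl B P),
        IsScalarTower.algebraMap_apply B (Localization.AtPrime P) (Cpl B P),
        ← IsScalarTower.algebraMap_apply A B (Localization.AtPrime P)])
    haveI : Module.Flat (Localization.AtPrime P) (Cpl B P) :=
      AdicCompletion.flat_of_isNoetherian _
    have flatB : Module.Flat B (Cpl B P) := Module.Flat.trans B (Localization.AtPrime P) (Cpl B P)
    obtain ⟨φ, hφ⟩ := exists_lmap 𝔭 B P hP
    refine ⟨cplObj A B hflat P, (inferInstance : Algebra B (Cpl B P)), tower, flatB, ?_,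
      nonempty_cmap _ _ φ hφ⟩
    intro b hb
    show algebraMap B (Cpl B P) b ∈ maximalIdeal (Cpl B P)
    rw [AdicCompletion.maximalIdeal_eq_map,
      IsScalarTower.algebraMap_apply B (Localization.AtPrime P) (Cpl B P)]
    apply Ideal.mem_map_of_mem
    rw [← IsLocalization.AtPrime.map_eq_maximalIdeal P (Localization.AtPrime P)]
    exact Ideal.mem_map_of_mem _ hb

theorem good_quot (A : Type u) [CommRing A] [IsNoetherianRing A] (𝔭 : Ideal A) [𝔭.IsPrime] :
    Good A (A ⧸ 𝔭) := by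
  intro x hx
  obtain ⟨β₀, hP1, hP2⟩ := exists_base A 𝔭
  obtain ⟨b₀, hb₀⟩ := exists_tmul_one 𝔭 β₀.B (x β₀)
  obtain ⟨a, s, hs, hmem⟩ := hP1 b₀
  have key0 : s • x β₀ = (1 : β₀.B) ⊗ₜ[A] (Ideal.Quotient.mk 𝔭 a) := by
    rw [hb₀, TensorProduct.smul_tmul', tmul_mk 𝔭 β₀.B (1 : β₀.B) a, ← sub_eq_zero,
      ← TensorProduct.sub_tmul]
    apply tmul_one_eq_zero_of_mem 𝔭 β₀.B
    rw [← Algebra.algebraMap_eq_smul_one]
    exact hmem
  have key : ∀ β : Obj A, s • x β = (1 : β.B) ⊗ₜ[A] (Ideal.Quotient.mk 𝔭 a) := by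
    intro β
    by_contra hne
    haveI := β.flat
    have hy0 : s • x β - (1 : β.B) ⊗ₜ[A] (Ideal.Quotient.mk 𝔭 a) ≠ 0 :=
      fun h => hne (sub_eq_zero.mp h)
    obtain ⟨P, hPass, hle⟩ := exists_le_isAssociatedPrime_of_isNoetherianRing β.B _ hy0
    obtain ⟨hPprime, z, hz⟩ := isAssociatedPrime_iff.mp hPass
    haveI := hPprime
    have hPcomap : P.comap (algebraMap A β.B) = 𝔭 := by
      apply le_antisymm
      · intro t ht
        by_contra htp
        have ht' : algebraMap A β.B t ∈ P := ht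
        rw [hz, Submodule.mem_colon_singleton, Submodule.mem_bot, algebraMap_smul] at ht'
        have hz0 : z = 0 := eq_zero_of_smul_eq_zero 𝔭 β.B htp z ht'
        apply hPprime.ne_top
        rw [Ideal.eq_top_iff_one, hz, Submodule.mem_colon_singleton, hz0, smul_zero]
        exact Submodule.zero_mem _
      · intro t ht
        rw [Ideal.mem_comap]
        apply hle
        rw [Submodule.mem_colon_singleton, Submodule.mem_bot, algebraMap_smul]
        exact smul_eq_zero_of_mem 𝔭 β.B ht _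
    obtain ⟨γ, algBC, towerABC, flatBC, hPmax, ⟨ψ₀⟩⟩ := hP2 β.B β.flat P hPcomap
    letI := algBC
    haveI := towerABC
    haveI := flatBC
    have h4 : s • x γ = (1 : γ.B) ⊗ₜ[A] (Ideal.Quotient.mk 𝔭 a) := by
      rw [← hx β₀ γ ψ₀, ← map_smul, key0, LinearMap.rTensor_tmul, AlgHom.toLinearMap_apply,
        map_one]
    have h3 : LinearMap.rTensor (A ⧸ 𝔭) (IsScalarTower.toAlgHom A β.B γ.B).toLinearMap
        (s • x β - (1 : β.B) ⊗ₜ[A] (Ideal.Quotient.mk 𝔭 a)) = 0 := by
      rw [map_sub, map_smul, hx β γ (IsScalarTower.toAlgHom A β.B γ.B), h4,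
        LinearMap.rTensor_tmul, AlgHom.toLinearMap_apply, map_one, sub_self]
    exact rTensor_ne_zero (A ⧸ 𝔭) (maximalIdeal γ.B)
      (IsLocalRing.maximalIdeal.isMaximal γ.B).ne_top _
      (fun b hb => hPmax b (hle (by
        rw [Submodule.mem_colon_singleton, Submodule.mem_bot]
        exact hb))) h3
  -- divide by `s`
  have hmem2 : Ideal.Quotient.mk (𝔭 ⊔ Ideal.span {s}) a = 0 := by
    apply Groth.Agent.S11180.result A (A ⧸ (𝔭 ⊔ Ideal.span {s}))
    intro B _ _ _ _ hB hBf
    let β : Obj A := { B := B, compl := hB, flat := hBf }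
    let π : (A ⧸ 𝔭) →ₗ[A] (A ⧸ (𝔭 ⊔ Ideal.span {s})) :=
      Submodule.mapQ 𝔭 (𝔭 ⊔ Ideal.span {s}) LinearMap.id le_sup_left
    have h1 : LinearMap.lTensor B π (s • x β) = 0 := by
      rw [map_smul]
      exact smul_eq_zero_of_mem (𝔭 ⊔ Ideal.span {s}) B
        (Ideal.mem_sup_right (Ideal.mem_span_singleton_self s)) _
    have h2 : s • x β = (1 : B) ⊗ₜ[A] (Ideal.Quotient.mk 𝔭 a) := key β
    rw [h2, LinearMap.lTensor_tmul] at h1
    exact h1
  rw [Ideal.Quotient.eq_zero_iff_mem] at hmem2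
  obtain ⟨p, hp, q, hq, hpq⟩ := Submodule.mem_sup.mp hmem2
  obtain ⟨d, rfl⟩ := Ideal.mem_span_singleton'.mp hq
  have hd : Ideal.Quotient.mk 𝔭 a = s • Ideal.Quotient.mk 𝔭 d := by
    have h1 : s • Ideal.Quotient.mk 𝔭 d = Ideal.Quotient.mk 𝔭 (s * d) := rfl
    rw [h1, Ideal.Quotient.eq, ← hpq]
    have h2 : p + d * s - s * d = p := by ring
    rw [h2]
    exact hp
  refine ⟨Ideal.Quotient.mk 𝔭 d, fun β => ?_⟩
  haveI := β.flat
  have h0 : s • (x β - (1 : β.B) ⊗ₜ[A] (Ideal.Quotient.mk 𝔭 d)) = 0 := by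
    rw [smul_sub, key β, ← TensorProduct.tmul_smul, ← hd, sub_self]
  exact sub_eq_zero.mp (eq_zero_of_smul_eq_zero 𝔭 β.B hs _ h0)

theorem good_of_finite (A : Type u) [CommRing A] [IsNoetherianRing A] (M : Type u)
    [AddCommGroup M] [Module A M] [Module.Finite A M] : Good A M := by
  induction ‹Module.Finite A M› using
    IsNoetherianRing.induction_on_isQuotientEquivQuotientPrime A with
  | subsingleton N => exact good_of_subsingleton A N
  | quotient N p f =>
    haveI := p.2
    exact good_of_exact A (f.symm : (A ⧸ p.1) →ₗ[A] N) (0 : N →ₗ[A] PUnit.{u + 1})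
      f.symm.injective (Function.surjective_to_subsingleton _)
      ((LinearMap.exact_zero_iff_surjective PUnit.{u + 1} (f.symm : (A ⧸ p.1) →ₗ[A] N)).2
        f.symm.surjective) (good_quot A p.1) (good_of_subsingleton A PUnit)
  | exact N₁ N₂ N₃ f g hf hg hfg h₁ h₃ => exact good_of_exact A f g hf hg hfg h₁ h₃

theorem main (A : Type u) [CommRing A] [IsNoetherianRing A] (M : Type u) [AddCommGroup M]
    [Module A M] [Module.Finite A M]
    (x : ∀ (B : Type u) [CommRing B] [Algebra A B] [IsNoetherianRing B] [IsLocalRing B],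
      IsAdicComplete (IsLocalRing.maximalIdeal B) B → Module.Flat A B → TensorProduct A B M)
    (hx : ∀ (B : Type u) [CommRing B] [Algebra A B] [IsNoetherianRing B] [IsLocalRing B]
      (hB : IsAdicComplete (IsLocalRing.maximalIdeal B) B) (hBf : Module.Flat A B) (B' : Type u)
      [CommRing B'] [Algebra A B'] [IsNoetherianRing B'] [IsLocalRing B']
      (hB' : IsAdicComplete (IsLocalRing.maximalIdeal B') B') (hB'f : Module.Flat A B')
      (g : B →ₐ[A] B'), LinearMap.rTensor M g.toLinearMap (x B hB hBf) = x B' hB' hB'f) :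
    ∃! m : M, ∀ (B : Type u) [CommRing B] [Algebra A B] [IsNoetherianRing B] [IsLocalRing B]
      (hB : IsAdicComplete (IsLocalRing.maximalIdeal B) B) (hBf : Module.Flat A B),
      x B hB hBf = (1 : B) ⊗ₜ[A] m := by
  obtain ⟨m, hm⟩ := good_of_finite A M (fun β => x β.B β.compl β.flat)
    (fun β β' g => hx β.B β.compl β.flat β'.B β'.compl β'.flat g)
  have hm' : ∀ (B : Type u) [CommRing B] [Algebra A B] [IsNoetherianRing B] [IsLocalRing B]
      (hB : IsAdicComplete (IsLocalRing.maximalIdeal B) B) (hBf : Module.Flat A B),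
      x B hB hBf = (1 : B) ⊗ₜ[A] m := fun B _ _ _ _ hB hBf =>
    hm { B := B, compl := hB, flat := hBf }
  refine ⟨m, hm', ?_⟩
  intro m₂ hm₂
  have h0 : m₂ - m = 0 := by
    apply Groth.Agent.S11180.result A M
    intro B _ _ _ _ hB hBf
    rw [TensorProduct.tmul_sub, ← hm₂ B hB hBf, ← hm' B hB hBf, sub_self]
  exact sub_eq_zero.mp h0

end Groth.Agent.H6.CLFam
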