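import Mathlib
import Groth.Prelude
import Groth.Agent.Lib.Helper1.DimFormula
import Groth.Agent.Lib.Helper6.CMEqui
import Groth.Agent.Lib.Helper6.CMChain

/-!
# Decomposition of a Cohen–Macaulay algebra of finite type over a field into equidimensional pieces
-/

set_option autoImplicit false
universe u

namespace Groth.Agent.H6

namespace CMPi

theorem support_self (R : Type u) [CommRing R] : Module.support R R = Set.univ := by
  rw [Module.support_eq_zeroLocus]
  have : Module.annihilator R R = ⊥ := by
    rw [eq_bot_iff]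
    intro a ha
    have := Module.mem_annihilator.mp ha (1 : R)
    simpa using this
  rw [this]
  simp

/-- In a Cohen–Macaulay ring, killing a minimal prime does not change the dimension of a local
ring. -/
theorem ringKrullDim_localization_quotient_minimal (S : Type u) [CommRing S]
    [LocCoh.IsCohenMacaulayRing S] (M : Ideal S) [hM : M.IsPrime] (p : Ideal S)
    (hp : p ∈ minimalPrimes S) (hpM : p ≤ M) :
    ringKrullDim (Localization.AtPrime M ⧸ p.map (algebraMap S (Localization.AtPrime M))) =
      ringKrullDim (Localization.AtPrime M) := by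
  haveI hpp : p.IsPrime := hp.1.1
  haveI hCM : LocCoh.IsCohenMacaulayLocalRing (Localization.AtPrime M) :=
    LocCoh.IsCohenMacaulayRing.isCohenMacaulayLocalRing_localization M
  have hd : Disjoint (M.primeCompl : Set S) (p : Set S) := by
    rw [Set.disjoint_left]
    intro a ha hap
    exact ha (hpM hap)
  haveI hP : (p.map (algebraMap S (Localization.AtPrime M))).IsPrime :=
    IsLocalization.isPrime_of_isPrime_disjoint M.primeCompl _ _ hpp hd
  have hc : (p.map (algebraMap S (Localization.AtPrime M))).comap
      (algebraMap S (Localization.AtPrime M)) = p :=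
    IsLocalization.under_map_of_isPrime_disjoint M.primeCompl _ hpp hd
  have hht : (p.map (algebraMap S (Localization.AtPrime M))).height = 0 := by
    have h := IsLocalization.height_under M.primeCompl
      (p.map (algebraMap S (Localization.AtPrime M)))
    rw [Ideal.under_def, hc] at h
    rw [← h]
    exact Ideal.height_eq_zero_iff.mpr hp
  have h1 := CMChain.ringKrullDim_eq_add (R := Localization.AtPrime M)
    (M := Localization.AtPrime M) hCM.supportDim_eq_depth (support_self _) ⟨_, hP⟩
  change ringKrullDim (Localization.AtPrime M) =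
    ringKrullDim (Localization.AtPrime M ⧸ p.map (algebraMap S (Localization.AtPrime M))) +
      ((p.map (algebraMap S (Localization.AtPrime M))).height : WithBot ℕ∞) at h1
  rw [hht, WithBot.coe_zero, add_zero] at h1
  exact h1.symm

/-- In a Cohen–Macaulay algebra of finite type over a field, every irreducible component through a
closed point has dimension the height of that point. -/
theorem ringKrullDim_quotient_eq_height (k S : Type u) [Field k] [CommRing S] [Algebra k S]
    [Algebra.FiniteType k S] [LocCoh.IsCohenMacaulayRing S]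
    (M : Ideal S) [hM : M.IsMaximal] (p : Ideal S)
    (hp : p ∈ minimalPrimes S) (hpM : p ≤ M) :
    ringKrullDim (S ⧸ p) = (M.height : WithBot ℕ∞) := by
  haveI : IsNoetherianRing S := Algebra.FiniteType.isNoetherianRing k S
  haveI hMp : M.IsPrime := hM.isPrime
  haveI hpp : p.IsPrime := hp.1.1
  apply le_antisymm
  · have h1 := H1.DimFormula.ringKrullDim_quotient_le k S ⟨p, hpp⟩ ⟨M, hMp⟩ hpM
    have h2 : ringKrullDim (S ⧸ M) = 0 := by
      letI := Ideal.Quotient.field M
      exact ringKrullDim_eq_zero_of_field _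
    change ringKrullDim (S ⧸ p) ≤ (M.height : WithBot ℕ∞) + ringKrullDim (S ⧸ M) at h1
    rwa [h2, add_zero] at h1
  · have h1 := ringKrullDim_localization_quotient_minimal S M p hp hpM
    rw [IsLocalization.AtPrime.ringKrullDim_eq_height M (Localization.AtPrime M),
      CMEqui.ringKrullDim_localization_quotient_ideal p M hpM] at h1
    rw [← h1]
    have hQ : (M.map (Ideal.Quotient.mk p)).IsPrime :=
      Ideal.map_isPrime_of_surjective Ideal.Quotient.mk_surjective
        (by rw [Ideal.mk_ker]; exact hpM)
    exact Ideal.height_le_ringKrullDim_of_ne_top hQ.ne_top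

/-- **Main theorem** (S9156). -/
theorem main (k S : Type u) [Field k] [CommRing S] [Algebra k S]
    [Algebra.FiniteType k S] [LocCoh.IsCohenMacaulayRing S] : ∃ (N : ℕ) (T : Fin (N + 1) → Type u) (_ : ∀ d, CommRing (T d))
    (_ : ∀ d, Algebra k (T d)),
      Nonempty (S ≃ₐ[k] ((d : Fin (N + 1)) → T d)) ∧
        ∀ (d : Fin (N + 1)) (m : Ideal (T d)), m.IsMaximal → m.height = (d : ℕ) := by
  classical
  haveI : IsNoetherianRing S := Algebra.FiniteType.isNoetherianRing k S
  have hfin : (minimalPrimes S).Finite := minimalPrimes.finite_of_isNoetherianRing S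
  have hnat : ∀ p ∈ minimalPrimes S, ∃ n : ℕ, ringKrullDim (S ⧸ p) = n := by
    intro p hp
    haveI := hp.1.1
    obtain ⟨M, hM, hpM⟩ := Ideal.exists_le_maximal p hp.1.1.ne_top
    haveI := hM
    haveI := hM.isPrime
    refine ⟨M.height.toNat, ?_⟩
    rw [ringKrullDim_quotient_eq_height k S M p hp hpM]
    have : ((M.height.toNat : ℕ) : ℕ∞) = M.height :=
      ENat.natCast_toNat Ideal.height_ne_top_of_isPrime
    rw [← this]
    rfl
  choose! δ hδ using hnat
  let N : ℕ := hfin.toFinset.sup δ
  have hδN : ∀ p ∈ minimalPrimes S, δ p ≤ N := fun p hp =>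
    Finset.le_sup (f := δ) (hfin.mem_toFinset.mpr hp)
  let I : Fin (N + 1) → Ideal S := fun d =>
    (hfin.toFinset.filter (fun p => δ p = (d : ℕ))).inf id
  have hIM : ∀ (d : Fin (N + 1)) (M : Ideal S) [M.IsMaximal], I d ≤ M →
      ∃ p ∈ minimalPrimes S, p ≤ M ∧ δ p = d := by
    intro d M hM hle
    obtain ⟨p, hp, hpM⟩ := (Ideal.IsPrime.inf_le' hM.isPrime).mp hle
    rw [Finset.mem_filter, Set.Finite.mem_toFinset] at hp
    exact ⟨p, hp.1, hpM, hp.2⟩
  have hht : ∀ (d : Fin (N + 1)) (M : Ideal S) [M.IsMaximal], I d ≤ M →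
      M.height = (d : ℕ) := by
    intro d M hM hle
    obtain ⟨p, hp, hpM, hpd⟩ := hIM d M hle
    have h1 := ringKrullDim_quotient_eq_height k S M p hp hpM
    rw [hδ p hp, hpd] at h1
    exact_mod_cast h1.symm
  have hcop : Pairwise (Function.onFun IsCoprime I) := by
    intro d e hde
    change IsCoprime (I d) (I e)
    rw [Ideal.isCoprime_iff_sup_eq]
    by_contra hne
    obtain ⟨M, hM, hle⟩ := Ideal.exists_le_maximal _ hne
    haveI := hM
    have h1 := hht d M (le_sup_left.trans hle)
    have h2 := hht e M (le_sup_right.trans hle)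
    rw [h1] at h2
    have : (d : ℕ) = (e : ℕ) := by exact_mod_cast h2
    exact hde (Fin.ext this)
  obtain ⟨n, hn⟩ := IsNoetherianRing.isNilpotent_nilradical S
  have hn' : nilradical S ^ (n + 1) = ⊥ := by
    rw [pow_succ, hn, zero_mul, Ideal.zero_eq_bot]
  have hinf : ⨅ d, I d ≤ nilradical S := by
    change _ ≤ (⊥ : Ideal S).radical
    rw [← Ideal.sInf_minimalPrimes]
    apply le_sInf
    intro p hp
    have hp' : p ∈ minimalPrimes S := hp
    refine (iInf_le I ⟨δ p, Nat.lt_succ_of_le (hδN p hp')⟩).trans ?_
    exact Finset.inf_le (f := id)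
      (Finset.mem_filter.mpr ⟨hfin.mem_toFinset.mpr hp', rfl⟩)
  let J : Fin (N + 1) → Ideal S := fun d => I d ^ (n + 1)
  have hcopJ : Pairwise (Function.onFun IsCoprime J) := fun d e hde => (hcop hde).pow
  have hJbot : ⨅ d, J d = ⊥ := by
    have h1 : ∏ d ∈ Finset.univ, J d = ⨅ d ∈ Finset.univ, J d :=
      Ideal.prod_eq_iInf_of_pairwise_isCoprime (fun d _ e _ hde => hcopJ hde)
    simp only [Finset.mem_univ, iInf_pos] at h1
    rw [← h1, Finset.prod_pow, eq_bot_iff, ← hn']
    apply Ideal.pow_right_mono
    refine le_trans ?_ hinf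
    refine Ideal.prod_le_inf.trans ?_
    rw [Finset.inf_univ_eq_iInf]
  let φ : S →ₐ[k] ((d : Fin (N + 1)) → S ⧸ J d) :=
    AlgHom.pi (fun d => Ideal.Quotient.mkₐ k (J d))
  have hφinj : Function.Injective φ := by
    rw [injective_iff_map_eq_zero]
    intro x hx
    have hx' : x ∈ ⨅ d, J d := by
      rw [Ideal.mem_iInf]
      intro d
      have := congrFun hx d
      exact Ideal.Quotient.eq_zero_iff_mem.mp this
    rw [hJbot] at hx'
    exact Ideal.mem_bot.mp hx'
  have hφsurj : Function.Surjective φ := by
    intro y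
    obtain ⟨r, hr⟩ := Ideal.pi_quotient_surjective hcopJ y
    exact ⟨r, funext hr⟩
  refine ⟨N, fun d => S ⧸ J d, fun d => inferInstance, fun d => inferInstance,
    ⟨AlgEquiv.ofBijective φ ⟨hφinj, hφsurj⟩⟩, ?_⟩
  intro d m hm
  haveI := hm
  let M : Ideal S := m.comap (Ideal.Quotient.mk (J d))
  haveI hMmax : M.IsMaximal :=
    Ideal.comap_isMaximal_of_surjective _ Ideal.Quotient.mk_surjective
  haveI hMp : M.IsPrime := hMmax.isPrime
  have hJM : J d ≤ M := by
    intro x hx
    change Ideal.Quotient.mk (J d) x ∈ m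
    rw [Ideal.Quotient.eq_zero_iff_mem.mpr hx]
    exact m.zero_mem
  have hIM' : I d ≤ M := Ideal.IsPrime.le_of_pow_le hJM
  have hm_eq : M.map (Ideal.Quotient.mk (J d)) = m :=
    Ideal.map_comap_of_surjective _ Ideal.Quotient.mk_surjective m
  obtain ⟨p, hp, hpM, hpd⟩ := hIM d M hIM'
  have hMht := hht d M hIM'
  have hIp : I d ≤ p := Finset.inf_le (f := id)
    (Finset.mem_filter.mpr ⟨hfin.mem_toFinset.mpr hp, hpd⟩)
  have hJp : J d ≤ p := (Ideal.pow_le_self (Nat.succ_ne_zero n)).trans hIp
  have h1 := CMEqui.ringKrullDim_localization_quotient_ideal (J d) M hJM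
  rw [hm_eq] at h1
  have hup : ringKrullDim (Localization.AtPrime M ⧸
      (J d).map (algebraMap S (Localization.AtPrime M))) ≤
      ringKrullDim (Localization.AtPrime M) := ringKrullDim_quotient_le _
  have hlow : ringKrullDim (Localization.AtPrime M ⧸
      p.map (algebraMap S (Localization.AtPrime M))) ≤
      ringKrullDim (Localization.AtPrime M ⧸
        (J d).map (algebraMap S (Localization.AtPrime M))) :=
    ringKrullDim_le_of_surjective (Ideal.Quotient.factor (Ideal.map_mono hJp))
      (Ideal.Quotient.factor_surjective _)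
  rw [ringKrullDim_localization_quotient_minimal S M p hp hpM] at hlow
  have h2 := le_antisymm hup hlow
  rw [h1, IsLocalization.AtPrime.ringKrullDim_eq_height M (Localization.AtPrime M), hMht] at h2
  exact_mod_cast h2

end CMPi

end Groth.Agent.H6
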