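import Mathlib

/-!
# Complete reduced local rings and DVRs, part 1 (helper6)

Primes of coheight one in a Noetherian local ring; their intersection is zero when the ring is
reduced and not a field.
-/

set_option autoImplicit false
universe u
open IsLocalRing

namespace Groth.Agent.H6.CRD

/-- primes of coheight one: `p ≠ m` and no prime strictly between `p` and `m`. -/
def CohtOne (A : Type u) [CommRing A] [IsLocalRing A] (p : Ideal A) : Prop :=
  p.IsPrime ∧ p ≠ maximalIdeal A ∧ ∀ q : Ideal A, q.IsPrime → p < q → q = maximalIdeal A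

/-- In a Noetherian local domain, if a nonzero element lies in all nonzero non-maximal primes, then
there is no nonzero non-maximal prime. -/
theorem domain_key (D : Type u) [CommRing D] [IsDomain D] [IsNoetherianRing D] [IsLocalRing D]
    (x : D) (hx : x ≠ 0)
    (h : ∀ P : Ideal D, P.IsPrime → P ≠ ⊥ → P ≠ maximalIdeal D → x ∈ P)
    (P : Ideal D) (hP : P.IsPrime) (hP0 : P ≠ ⊥) : P = maximalIdeal D := by
  classical
  by_contra hPm
  have hPlt : P < maximalIdeal D := lt_of_le_of_ne (IsLocalRing.le_maximalIdeal hP.ne_top) hPm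
  have hbotP : (⊥ : Ideal D) < P := bot_lt_iff_ne_bot.mpr hP0
  have hm2 : (2 : ℕ∞) ≤ (maximalIdeal D).height := by
    have h1 : (⊥ : Ideal D).height < P.height := Ideal.height_strict_mono_of_isPrime hbotP
    have h2 : P.height < (maximalIdeal D).height := Ideal.height_strict_mono_of_isPrime hPlt
    have h3 : (1 : ℕ∞) ≤ P.height := Order.one_le_iff_pos.mpr (lt_of_le_of_lt zero_le h1)
    have h4 : P.height + 1 ≤ (maximalIdeal D).height := Order.add_one_le_of_lt h2
    calc (2 : ℕ∞) = 1 + 1 := by norm_num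
      _ ≤ P.height + 1 := by gcongr
      _ ≤ _ := h4
  have hfin : (Ideal.span {x}).minimalPrimes.Finite :=
    Ideal.finite_minimalPrimes_of_isNoetherianRing _ _
  have hht : ∀ Q ∈ (Ideal.span {x}).minimalPrimes, Q.height ≤ 1 := fun Q hQ =>
    Ideal.height_le_one_of_isPrincipal_of_mem_minimalPrimes _ Q hQ
  -- a minimal prime over `x` inside `P`
  have hxP : x ∈ P := h P hP hP0 hPm
  obtain ⟨Q0, hQ0, hQ0P⟩ := Ideal.exists_minimalPrimes_le
    (show Ideal.span {x} ≤ P from (Ideal.span_singleton_le_iff_mem _).mpr hxP)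
  have hnot : ¬ ((maximalIdeal D : Set D) ⊆ ⋃ Q ∈ (↑hfin.toFinset : Set (Ideal D)), (Q : Set D)) := by
    intro hsub
    rw [Ideal.subset_union_prime ⊥ ⊥ (fun Q hQ _ _ => ((hfin.mem_toFinset).mp hQ).isPrime)]
      at hsub
    obtain ⟨Q, hQ, hmQ⟩ := hsub
    have h1 := hht Q ((hfin.mem_toFinset).mp hQ)
    have h2 := Ideal.height_mono hmQ
    have : (2 : ℕ∞) ≤ 1 := hm2.trans (h2.trans h1)
    norm_num at this
  obtain ⟨y, hym, hyS⟩ := Set.not_subset.mp hnot
  have hyS' : ∀ Q ∈ (Ideal.span {x}).minimalPrimes, y ∉ Q := by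
    intro Q hQ hyQ
    apply hyS
    simp only [Set.mem_iUnion]
    exact ⟨Q, Finset.mem_coe.mpr ((hfin.mem_toFinset).mpr hQ), hyQ⟩
  have hy0 : y ≠ 0 := by
    rintro rfl
    exact hyS' Q0 hQ0 (zero_mem _)
  have hytop : Ideal.span {y} ≠ ⊤ := by
    intro htop
    have : Ideal.span {y} ≤ maximalIdeal D := (Ideal.span_singleton_le_iff_mem _).mpr hym
    rw [htop] at this
    exact (maximalIdeal.isMaximal D).ne_top (top_le_iff.mp this)
  obtain ⟨P', hP'⟩ := Ideal.nonempty_minimalPrimes hytop
  have hP'prime : P'.IsPrime := hP'.isPrime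
  have hyP' : y ∈ P' := hP'.1.2 (Ideal.mem_span_singleton_self y)
  have hP'ht : P'.height ≤ 1 :=
    Ideal.height_le_one_of_isPrincipal_of_mem_minimalPrimes _ P' hP'
  have hP'0 : P' ≠ ⊥ := by
    rintro rfl
    exact hy0 (by simpa using hyP')
  have hP'm : P' ≠ maximalIdeal D := by
    rintro rfl
    have : (2 : ℕ∞) ≤ 1 := hm2.trans hP'ht
    norm_num at this
  have hxP' : x ∈ P' := h P' hP'prime hP'0 hP'm
  obtain ⟨Q, hQ, hQP'⟩ := Ideal.exists_minimalPrimes_le
    (show Ideal.span {x} ≤ P' from (Ideal.span_singleton_le_iff_mem _).mpr hxP')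
  have hQprime : Q.IsPrime := hQ.isPrime
  have hQ0 : Q ≠ ⊥ := by
    rintro rfl
    have := hQ.1.2 (Ideal.mem_span_singleton_self x)
    exact hx (by simpa using this)
  rcases eq_or_lt_of_le hQP' with heq | hlt
  · exact hyS' Q hQ (heq ▸ hyP')
  · have h1 : Q.height < P'.height := Ideal.height_strict_mono_of_isPrime hlt
    have h2 : Q.height = 0 := by
      have : Q.height < 1 := lt_of_lt_of_le h1 hP'ht
      exact ENat.lt_one_iff_eq_zero.mp this
    exact hQ0 (Ideal.height_eq_zero_iff_eq_bot.mp h2)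


/-- a reduced local ring whose maximal ideal is a minimal prime is a field. -/
theorem isField_of_maximalIdeal_mem_minimalPrimes (A : Type u) [CommRing A] [IsLocalRing A]
    [IsReduced A] (h : maximalIdeal A ∈ minimalPrimes A) : IsField A := by
  rw [IsLocalRing.isField_iff_maximalIdeal_eq]
  have h1 : ∀ p : Ideal A, p.IsPrime → p = maximalIdeal A := by
    intro p hp
    have hle : p ≤ maximalIdeal A := IsLocalRing.le_maximalIdeal hp.ne_top
    exact le_antisymm hle (h.2 ⟨hp, bot_le⟩ hle)
  have h2 : nilradical A = maximalIdeal A := by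
    rw [nilradical_eq_sInf]
    apply le_antisymm
    · exact sInf_le (inferInstance : (maximalIdeal A).IsPrime)
    · refine le_sInf fun p hp => ?_
      rw [h1 p hp]
  rw [← h2, nilradical_eq_zero]
  rfl

/-- In a reduced Noetherian local ring which is not a field, every nonzero element is outside some
prime of coheight one. -/
theorem exists_cohtOne_not_mem (A : Type u) [CommRing A] [IsNoetherianRing A] [IsLocalRing A]
    [IsReduced A] (hA : ¬ IsField A) (x : A) (hx : x ≠ 0) :
    ∃ p : Ideal A, CohtOne A p ∧ x ∉ p := by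
  classical
  -- a minimal prime not containing x
  obtain ⟨q, hq, hxq⟩ : ∃ q ∈ minimalPrimes A, x ∉ q := by
    by_contra hcon
    push Not at hcon
    have : x ∈ sInf (minimalPrimes A) := by
      rw [Ideal.mem_sInf]
      exact fun {p} hp => hcon p hp
    rw [minimalPrimes, Ideal.sInf_minimalPrimes] at this
    have h2 : (⊥ : Ideal A).radical = nilradical A := rfl
    rw [h2, nilradical_eq_zero] at this
    exact hx (by simpa using this)
  have hqprime : q.IsPrime := hq.1.1
  have hqm : q ≠ maximalIdeal A := by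
    rintro rfl
    exact hA (isField_of_maximalIdeal_mem_minimalPrimes A hq)
  let T : Set (Ideal A) := {p | p.IsPrime ∧ x ∉ p ∧ p ≠ maximalIdeal A}
  have hT : T.Nonempty := ⟨q, hqprime, hxq, hqm⟩
  obtain ⟨p, ⟨hp, hxp, hpm⟩, hmax⟩ :=
    (set_has_maximal_iff_noetherian (R := A) (M := A)).mpr inferInstance T hT
  refine ⟨p, ⟨hp, hpm, fun q' hq' hlt => ?_⟩, hxp⟩
  -- pass to D = A/p
  haveI : IsLocalRing (A ⧸ p) :=
    IsLocalRing.of_surjective' (Ideal.Quotient.mk p) Ideal.Quotient.mk_surjective
  haveI : IsDomain (A ⧸ p) := Ideal.Quotient.isDomain p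
  have hmk : Function.Surjective (Ideal.Quotient.mk p) := Ideal.Quotient.mk_surjective
  have hcomap_max : (maximalIdeal (A ⧸ p)).comap (Ideal.Quotient.mk p) = maximalIdeal A := by
    haveI : ((maximalIdeal (A ⧸ p)).comap (Ideal.Quotient.mk p)).IsMaximal :=
      Ideal.comap_isMaximal_of_surjective _ hmk
    exact IsLocalRing.eq_maximalIdeal inferInstance
  have hxbar : Ideal.Quotient.mk p x ≠ 0 := by
    rwa [Ne, Ideal.Quotient.eq_zero_iff_mem]
  have key := domain_key (A ⧸ p) (Ideal.Quotient.mk p x) hxbar ?_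
    (q'.map (Ideal.Quotient.mk p))
    (Ideal.map_isPrime_of_surjective hmk (by rw [Ideal.mk_ker]; exact hlt.le)) ?_
  · -- q' = comap (map q') = comap m = m
    have h1 : (q'.map (Ideal.Quotient.mk p)).comap (Ideal.Quotient.mk p) = q' := by
      rw [Ideal.comap_map_of_surjective _ hmk, ← RingHom.ker_eq_comap_bot, Ideal.mk_ker]
      exact sup_eq_left.mpr hlt.le
    rw [← h1, key, hcomap_max]
  · intro P' hP' hP'0 hP'm
    by_contra hxP'
    set p' := P'.comap (Ideal.Quotient.mk p) with hp'
    have hp'prime : p'.IsPrime := Ideal.comap_isPrime _ _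
    have hmap : p'.map (Ideal.Quotient.mk p) = P' := Ideal.map_comap_of_surjective _ hmk _
    have hpp' : p ≤ p' := by
      intro a ha
      rw [hp', Ideal.mem_comap, Ideal.Quotient.eq_zero_iff_mem.mpr ha]
      exact zero_mem _
    have hpne : p ≠ p' := by
      intro heq
      apply hP'0
      rw [← hmap, ← heq, Ideal.map_quotient_self]
    have hp'm : p' ≠ maximalIdeal A := by
      intro heq
      apply hP'm
      rw [← hmap, heq, ← hcomap_max, Ideal.map_comap_of_surjective _ hmk]
    have hxp' : x ∉ p' := fun hx' => hxP' hx'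
    exact hmax p' ⟨hp'prime, hxp', hp'm⟩ (lt_of_le_of_ne hpp' hpne)
  · intro h0
    have : q' ≤ p := by
      rw [← Ideal.mk_ker (I := p), RingHom.ker_eq_comap_bot, ← h0]
      exact Ideal.le_comap_map
    exact absurd hlt (not_lt_of_ge this)

/-- the intersection of the primes of coheight one is zero -/
theorem iInf_cohtOne (A : Type u) [CommRing A] [IsNoetherianRing A] [IsLocalRing A]
    [IsReduced A] (hA : ¬ IsField A) :
    ⨅ p : {p : Ideal A // CohtOne A p}, (p : Ideal A) = ⊥ := by
  rw [eq_bot_iff]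
  intro x hx
  by_contra hx0
  obtain ⟨p, hp, hxp⟩ := exists_cohtOne_not_mem A hA x (by simpa using hx0)
  rw [Ideal.mem_iInf] at hx
  exact hxp (hx ⟨p, hp⟩)

end Groth.Agent.H6.CRD
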