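import Mathlib
import Groth.Prelude.Def_Found
import Groth.Agent.Lib.Helper8.Japanese.CompleteNagata
import Groth.Agent.Lib.Helper8.Hens.IntegralHens
import Groth.Agent.Lib.Helper6.CRD1

/-!
# Complete reduced local rings and DVRs, part 2 (helper6)

For a prime `p` of coheight one in a complete Noetherian local ring `A`, the normalization of `A ⧸ p`
is a discrete valuation ring, finite over `A`.
-/

set_option autoImplicit false
universe u
open IsLocalRing

namespace Groth.Agent.H6.CRD

variable (A : Type u) [CommRing A]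

/-- the normalization of `A ⧸ p` -/
abbrev Nrm (p : Ideal A) : Type u := integralClosure (A ⧸ p) (FractionRing (A ⧸ p))

/-- the canonical map `A → Nrm A p` -/
noncomputable def toNrm (p : Ideal A) : A →+* Nrm A p :=
  (algebraMap (A ⧸ p) (Nrm A p)).comp (Ideal.Quotient.mk p)

theorem ker_toNrm (p : Ideal A) [p.IsPrime] : RingHom.ker (toNrm A p) = p := by
  haveI : IsDomain (A ⧸ p) := Ideal.Quotient.isDomain p
  have hinj : Function.Injective (algebraMap (A ⧸ p) (Nrm A p)) :=
    FaithfulSMul.algebraMap_injective _ _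
  ext a
  rw [RingHom.mem_ker, toNrm, RingHom.comp_apply, map_eq_zero_iff _ hinj,
    Ideal.Quotient.eq_zero_iff_mem]

variable [IsNoetherianRing A] [IsLocalRing A] [IsAdicComplete (maximalIdeal A) A]

theorem henselianLocalRing_of_complete : HenselianLocalRing A := by
  refine ⟨fun f hf a₀ h1 h2 => ?_⟩
  exact HenselianRing.is_henselian (I := maximalIdeal A) f hf a₀ h1 (h2.map _)

theorem finite_nrm (p : Ideal A) [p.IsPrime] : Module.Finite (A ⧸ p) (Nrm A p) := by
  haveI : IsDomain (A ⧸ p) := Ideal.Quotient.isDomain p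
  have h := (Groth.Agent.H8.Jap.isNagata_of_complete_local A).2 p
  exact h (FractionRing (A ⧸ p)) inferInstance

theorem toNrm_finite (p : Ideal A) [p.IsPrime] : (toNrm A p).Finite := by
  haveI := finite_nrm A p
  exact RingHom.Finite.comp (RingHom.finite_algebraMap.mpr inferInstance)
    (RingHom.Finite.of_surjective _ Ideal.Quotient.mk_surjective)

theorem isLocalRing_nrm (p : Ideal A) [p.IsPrime] : IsLocalRing (Nrm A p) := by
  haveI : IsDomain (A ⧸ p) := Ideal.Quotient.isDomain p
  haveI := henselianLocalRing_of_complete A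
  letI : Algebra A (Nrm A p) := (toNrm A p).toAlgebra
  haveI : Module.Finite A (Nrm A p) := toNrm_finite A p
  exact Groth.Agent.H8.Hens.isLocalRing_of_isDomain_of_finite A (Nrm A p)

theorem toNrm_isLocalHom (p : Ideal A) [p.IsPrime] : IsLocalHom (toNrm A p) := by
  haveI : IsDomain (A ⧸ p) := Ideal.Quotient.isDomain p
  haveI : IsLocalHom (Ideal.Quotient.mk p) :=
    IsLocalHom.of_surjective _ Ideal.Quotient.mk_surjective
  haveI : IsLocalHom (algebraMap (A ⧸ p) (Nrm A p)) := inferInstance
  exact RingHom.isLocalHom_comp _ _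

theorem isDVR_nrm (p : Ideal A) (hp : CohtOne A p) :
    ∃ (_ : IsDomain (Nrm A p)), IsDiscreteValuationRing (Nrm A p) := by
  haveI : p.IsPrime := hp.1
  haveI : IsDomain (A ⧸ p) := Ideal.Quotient.isDomain p
  haveI : IsLocalRing (A ⧸ p) :=
    IsLocalRing.of_surjective' (Ideal.Quotient.mk p) Ideal.Quotient.mk_surjective
  haveI := finite_nrm A p
  haveI := isLocalRing_nrm A p
  haveI : IsNoetherianRing (Nrm A p) := Algebra.FiniteType.isNoetherianRing (A ⧸ p) (Nrm A p)
  haveI : IsDomain (Nrm A p) := inferInstance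
  refine ⟨inferInstance, ?_⟩
  have hinj : Function.Injective (algebraMap (A ⧸ p) (Nrm A p)) :=
    FaithfulSMul.algebraMap_injective _ _
  have hmk : Function.Surjective (Ideal.Quotient.mk p) := Ideal.Quotient.mk_surjective
  have hnf : ¬ IsField (Nrm A p) := by
    intro hf
    have hD : IsField (A ⧸ p) := isField_of_isIntegral_of_isField hinj hf
    have : p.IsMaximal := Ideal.Quotient.maximal_of_isField p hD
    exact hp.2.1 (IsLocalRing.eq_maximalIdeal this)
  have hmax_ne : maximalIdeal (Nrm A p) ≠ ⊥ :=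
    fun h => hnf (IsLocalRing.isField_iff_maximalIdeal_eq.mpr h)
  have htfae := (IsDiscreteValuationRing.TFAE (Nrm A p) hnf).out 0 3
  apply htfae.mpr
  refine ⟨?_, ?_⟩
  · exact integralClosure.isIntegrallyClosedOfFiniteExtension (FractionRing (A ⧸ p))
      (L := FractionRing (A ⧸ p))
  · refine ⟨maximalIdeal (Nrm A p), ⟨hmax_ne, inferInstance⟩, ?_⟩
    rintro Q ⟨hQ0, hQ⟩
    have h1 : Q.comap (algebraMap (A ⧸ p) (Nrm A p)) ≠ ⊥ :=
      Ideal.IsIntegral.comap_ne_bot (A ⧸ p) hQ0
    set q := Q.comap (algebraMap (A ⧸ p) (Nrm A p)) with hq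
    have hqprime : q.IsPrime := Ideal.comap_isPrime _ _
    set q' := q.comap (Ideal.Quotient.mk p) with hq'
    have hq'prime : q'.IsPrime := Ideal.comap_isPrime _ _
    have hmap : q'.map (Ideal.Quotient.mk p) = q := Ideal.map_comap_of_surjective _ hmk _
    have hpq' : p ≤ q' := by
      intro a ha
      rw [hq', Ideal.mem_comap, Ideal.Quotient.eq_zero_iff_mem.mpr ha]
      exact zero_mem _
    have hpne : p ≠ q' := by
      intro heq
      apply h1
      rw [← hmap, ← heq, Ideal.map_quotient_self]
    have hq'm : q' = maximalIdeal A := hp.2.2 q' hq'prime (lt_of_le_of_ne hpq' hpne)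
    have hqmax : q.IsMaximal := by
      rw [← hmap, hq'm, IsLocalRing.map_maximalIdeal_of_surjective (Ideal.Quotient.mk p) hmk]
      exact maximalIdeal.isMaximal _
    haveI : Q.IsMaximal := Ideal.IsIntegral.isMaximal_of_isMaximal_comap (R := A ⧸ p) Q hqmax
    exact IsLocalRing.eq_maximalIdeal inferInstance

end Groth.Agent.H6.CRD
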