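import Mathlib
import Groth.Agent.Lib.Lead.Chev
import Groth.Agent.Lib.Helper6.CRD2

/-!
# Complete reduced local rings and DVRs, part 3 (helper6)

Chevalley's lemma for arbitrary families of ideals, and the final assembly: in a complete reduced
Noetherian local ring which is not a field, finite intersections of kernels of finite local maps
to DVRs are cofinal among the powers of the maximal ideal.
-/

set_option autoImplicit false
universe u v
open IsLocalRing

namespace Groth.Agent.H6.CRD

section Chev

variable (R : Type u) [CommRing R] [IsNoetherianRing R] [IsLocalRing R]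
variable {ι : Type v} (a : ι → Ideal R)

theorem exists_min_mod [DecidableEq ι] (k : ℕ) :
    ∃ s0 : Finset ι, ∀ s : Finset ι, s0.inf a ≤ s.inf a ⊔ maximalIdeal R ^ k := by
  rcases Nat.eq_zero_or_pos k with rfl | hk
  · exact ⟨∅, fun s => by simp⟩
  · have hmin : maximalIdeal R ∈ (maximalIdeal R ^ k).minimalPrimes := by
      refine ⟨⟨inferInstance, Ideal.pow_le_self hk.ne'⟩, fun q ⟨hq1, hq2⟩ _ => ?_⟩
      exact hq1.le_of_pow_le hq2
    have : IsArtinianRing (R ⧸ maximalIdeal R ^ k) :=
      IsLocalRing.quotient_artinian_of_mem_minimalPrimes_of_isLocalRing _ hmin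
    let T : Set (Ideal (R ⧸ maximalIdeal R ^ k)) :=
      Set.range (fun s : Finset ι => (s.inf a).map (Ideal.Quotient.mk (maximalIdeal R ^ k)))
    have hT : T.Nonempty := ⟨_, ⟨∅, rfl⟩⟩
    obtain ⟨J, ⟨s0, rfl⟩, hJmin⟩ := IsArtinian.set_has_minimal T hT
    refine ⟨s0, fun s => ?_⟩
    have h1 : ((s0 ∪ s).inf a).map (Ideal.Quotient.mk (maximalIdeal R ^ k)) ≤
        (s0.inf a).map (Ideal.Quotient.mk (maximalIdeal R ^ k)) :=
      Ideal.map_mono (Finset.inf_mono Finset.subset_union_left)
    have h2 : ((s0 ∪ s).inf a).map (Ideal.Quotient.mk (maximalIdeal R ^ k)) =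
        (s0.inf a).map (Ideal.Quotient.mk (maximalIdeal R ^ k)) :=
      eq_of_le_of_not_lt h1 (hJmin _ ⟨s0 ∪ s, rfl⟩)
    have h3 : (s0.inf a).map (Ideal.Quotient.mk (maximalIdeal R ^ k)) ≤
        (s.inf a).map (Ideal.Quotient.mk (maximalIdeal R ^ k)) := by
      rw [← h2]
      exact Ideal.map_mono (Finset.inf_mono Finset.subset_union_right)
    calc s0.inf a ≤ ((s0.inf a).map (Ideal.Quotient.mk (maximalIdeal R ^ k))).comap
          (Ideal.Quotient.mk (maximalIdeal R ^ k)) := Ideal.le_comap_map
      _ ≤ ((s.inf a).map (Ideal.Quotient.mk (maximalIdeal R ^ k))).comap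
          (Ideal.Quotient.mk (maximalIdeal R ^ k)) := Ideal.comap_mono h3
      _ = s.inf a ⊔ maximalIdeal R ^ k := by
        rw [Ideal.comap_map_of_surjective _ Ideal.Quotient.mk_surjective]
        congr 1
        rw [← RingHom.ker_eq_comap_bot, Ideal.mk_ker]

/-- Chevalley's lemma for an arbitrary family of ideals with zero intersection. -/
theorem chevalley_family [IsAdicComplete (maximalIdeal R) R] (hinf : ⨅ i, a i = ⊥) (n : ℕ) :
    ∃ s : Finset ι, s.inf a ≤ maximalIdeal R ^ n := by
  classical
  choose s0 hs0 using exists_min_mod R a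
  let c : ℕ → Ideal R := fun k => ((Finset.range (k + 1)).biUnion s0).inf a
  have hc : Antitone c := by
    intro i j hij
    apply Finset.inf_mono
    apply Finset.biUnion_subset_biUnion_of_subset_left
    exact Finset.range_mono (by omega)
  have hck : ∀ k, c k ≤ (s0 k).inf a := by
    intro k
    apply Finset.inf_mono
    exact Finset.subset_biUnion_of_mem s0 (Finset.mem_range.mpr (Nat.lt_succ_self k))
  have hcinf : ⨅ k, c k = ⊥ := by
    rw [eq_bot_iff, ← hinf]
    refine le_iInf fun i => ?_
    intro x hx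
    rw [Ideal.mem_iInf] at hx
    apply Groth.Agent.LD.Chev.mem_of_forall_mem_sup R (a i) x
    intro k
    have := hs0 k {i} (hck k (hx k))
    simpa using this
  obtain ⟨k, hk⟩ := Groth.Agent.LD.Chev.chevalley R c hc hcinf n
  exact ⟨_, hk⟩

end Chev

/-- **EGA 0_IV 23.1.? / IV 7.?**: In a complete reduced Noetherian local ring that is not a field,
finite intersections of kernels of local finite homomorphisms to discrete valuation rings are
cofinal with the powers of the maximal ideal. -/
theorem main (A : Type u) [CommRing A] [IsNoetherianRing A]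
    [IsLocalRing A] [IsReduced A] [IsAdicComplete (IsLocalRing.maximalIdeal A) A]
    (hA : ¬ IsField A) (n : ℕ) :
    ∃ (k : ℕ) (V : Fin k → Type u) (_ : ∀ i, CommRing (V i)) (_ : ∀ i, IsDomain (V i))
      (_ : ∀ i, IsDiscreteValuationRing (V i)) (φ : ∀ i, A →+* V i),
      (∀ i, IsLocalHom (φ i) ∧ (φ i).Finite) ∧
        ⨅ i, RingHom.ker (φ i) ≤ IsLocalRing.maximalIdeal A ^ n := by
  classical
  obtain ⟨s, hs⟩ := chevalley_family A (fun p : {p : Ideal A // CohtOne A p} => (p : Ideal A))
    (iInf_cohtOne A hA) n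
  let e : Fin s.card ≃ s := s.equivFin.symm
  have hprime : ∀ i, ((e i).1.1).IsPrime := fun i => (e i).1.2.1
  refine ⟨s.card, fun i => Nrm A (e i).1.1, fun i => inferInstance,
    fun i => (isDVR_nrm A _ (e i).1.2).1, fun i => (isDVR_nrm A _ (e i).1.2).2,
    fun i => toNrm A (e i).1.1, fun i => ?_, ?_⟩
  · haveI := hprime i
    exact ⟨toNrm_isLocalHom A _, toNrm_finite A _⟩
  · refine le_trans ?_ hs
    refine Finset.le_inf fun b hb => ?_
    refine le_trans (iInf_le _ (e.symm ⟨b, hb⟩)) ?_
    haveI := hprime (e.symm ⟨b, hb⟩)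
    rw [ker_toNrm]
    simp

end Groth.Agent.H6.CRD
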