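import Groth.Agent.Lib.Helper6.ArtFunSmoothRing
import Groth.Agent.Lib.Helper6.ArtFunFormal
import Groth.Agent.Lib.Helper6.ArtFunSurj

/-!
# Coproducts and pushouts of complete local Noetherian algebras (helper6)
-/

set_option autoImplicit false
universe u v
open CategoryTheory

namespace Groth.Agent.H6.CRingOps

open ArtFun ArtFun.Art IsLocalRing Groth.Agent.H6

variable {Λ : Type u} {k : Type u} [CommRing Λ] [Field k] [Algebra Λ k]

section Quot

variable (S : CRing Λ k) (J : Ideal S.carrier) (hJ : J ≤ maximalIdeal S.carrier)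

/-- quotient of a complete local Noetherian algebra by an ideal in the maximal ideal -/
noncomputable def cquot : CRing Λ k :=
  haveI : Nontrivial (S.carrier ⧸ J) :=
    Ideal.Quotient.nontrivial_iff.2
      (ne_top_of_le_ne_top (maximalIdeal.isMaximal S.carrier).ne_top hJ)
  haveI : IsLocalRing (S.carrier ⧸ J) :=
    IsLocalRing.of_surjective' (Ideal.Quotient.mk J) Ideal.Quotient.mk_surjective
  haveI := S.isAdicComplete
  { carrier := S.carrier ⧸ J
    res := Ideal.Quotient.liftₐ J S.res (fun a ha => (S.mem_maximalIdeal_iff a).1 (hJ ha))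
    res_surjective := fun c => by
      obtain ⟨a, ha⟩ := S.res_surjective c
      exact ⟨Ideal.Quotient.mk J a, ha⟩
    isAdicComplete := isAdicComplete_quotient _ }

/-- the quotient map -/
noncomputable def cquotMk : S.carrier →ₐ[Λ] (cquot S J hJ).carrier := Ideal.Quotient.mkₐ Λ J

lemma cquot_res_comp : (cquot S J hJ).res.comp (cquotMk S J hJ) = S.res :=
  Ideal.Quotient.liftₐ_comp J S.res _

lemma cquotMk_surjective : Function.Surjective (cquotMk S J hJ) := Ideal.Quotient.mk_surjective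

lemma cquotMk_eq_zero_iff (a : S.carrier) : cquotMk S J hJ a = 0 ↔ a ∈ J :=
  Ideal.Quotient.eq_zero_iff_mem

/-- maps out of the quotient -/
noncomputable def cquotLift {T : Type u} [CommRing T] [Algebra Λ T] (g : S.carrier →ₐ[Λ] T)
    (hg : ∀ a ∈ J, g a = 0) : (cquot S J hJ).carrier →ₐ[Λ] T := Ideal.Quotient.liftₐ J g hg

lemma cquotLift_comp {T : Type u} [CommRing T] [Algebra Λ T] (g : S.carrier →ₐ[Λ] T)
    (hg : ∀ a ∈ J, g a = 0) : (cquotLift S J hJ g hg).comp (cquotMk S J hJ) = g :=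
  Ideal.Quotient.liftₐ_comp J g hg

end Quot

section Free

/-- a complete local algebra which is free on the variables `σ` with given residues -/
structure FreeData (σ : Type) (π : MvPolynomial σ Λ →ₐ[Λ] k) where
  P : CRing Λ k
  ι : MvPolynomial σ Λ →ₐ[Λ] P.carrier
  hresι : P.res.comp ι = π
  hext : ∀ (A : Art Λ k) (g : MvPolynomial σ Λ →ₐ[Λ] A), A.res.comp g = π →
    ∃ φ : HomSet P.carrier P.res A, φ.1.comp ι = g
  huniq : ∀ (A : Art Λ k) (φ ψ : HomSet P.carrier P.res A), φ.1.comp ι = ψ.1.comp ι → φ = ψ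

theorem exists_freeData [IsNoetherianRing Λ] {σ : Type} [Finite σ] (π : MvPolynomial σ Λ →ₐ[Λ] k)
    (hπ : Function.Surjective π) : Nonempty (FreeData σ π) := by
  obtain ⟨S, _, _, _, _, hc, resS, ι, hres, hresι, hext, huniq⟩ := exists_smooth_ring π hπ
  exact ⟨{ P := { carrier := S, res := resS, res_surjective := hres, isAdicComplete := hc }
           ι := ι, hresι := hresι, hext := hext, huniq := huniq }⟩

variable {σ : Type} {π : MvPolynomial σ Λ →ₐ[Λ] k} (D : FreeData σ π)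

theorem FreeData.uniq (T : CRing Λ k) (G G' : D.P.carrier →ₐ[Λ] T.carrier)
    (hG : T.res.comp G = D.P.res) (hG' : T.res.comp G' = D.P.res)
    (h : G.comp D.ι = G'.comp D.ι) : G = G' := by
  apply cring_hom_ext T
  intro n
  have hh : ∀ (H : D.P.carrier →ₐ[Λ] T.carrier), T.res.comp H = D.P.res →
      (T.trunc n).res.comp ((T.truncHom n).1.comp H) = D.P.res := by
    intro H hH
    rw [← AlgHom.comp_assoc, (T.truncHom n).2, hH]
  have := D.huniq (T.trunc n) ⟨(T.truncHom n).1.comp G, hh G hG⟩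
    ⟨(T.truncHom n).1.comp G', hh G' hG'⟩ (by
      change ((T.truncHom n).1.comp G).comp D.ι = ((T.truncHom n).1.comp G').comp D.ι
      rw [AlgHom.comp_assoc, AlgHom.comp_assoc, h])
  exact congrArg Subtype.val this

theorem FreeData.ext' (T : CRing Λ k) (g : MvPolynomial σ Λ →ₐ[Λ] T.carrier)
    (hg : T.res.comp g = π) :
    ∃ G : D.P.carrier →ₐ[Λ] T.carrier, T.res.comp G = D.P.res ∧ G.comp D.ι = g := by
  have hgn : ∀ n, (T.trunc n).res.comp ((T.truncHom n).1.comp g) = π := fun n => by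
    rw [← AlgHom.comp_assoc, (T.truncHom n).2, hg]
  choose φ hφ using fun n => D.hext (T.trunc n) ((T.truncHom n).1.comp g) (hgn n)
  have hcompat : ∀ n, HomSet.map (T.truncMap n) (φ (n + 1)) = φ n := by
    intro n
    apply D.huniq
    change ((T.truncMap n).toAlgHom.comp (φ (n + 1)).1).comp D.ι = (φ n).1.comp D.ι
    rw [AlgHom.comp_assoc, hφ, hφ, ← AlgHom.comp_assoc]
    have := congrArg Subtype.val (T.truncMap_truncHom n)
    change (T.truncMap n).toAlgHom.comp (T.truncHom (n + 1)).1 = (T.truncHom n).1 at this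
    rw [this]
  obtain ⟨G, hG, hGn⟩ := exists_limit_hom T φ hcompat
  refine ⟨G, hG, ?_⟩
  apply cring_hom_ext T
  intro n
  rw [← AlgHom.comp_assoc, hGn, hφ]

end Free

section Presentation

variable [IsNoetherianRing Λ] [Module.Finite Λ k]

theorem exists_presentation (R : CRing Λ k) :
    ∃ (σ : Type) (_ : Finite σ) (π : MvPolynomial σ Λ →ₐ[Λ] k) (D : FreeData σ π)
      (φ : D.P.carrier →ₐ[Λ] R.carrier), Function.Surjective π ∧ R.res.comp φ = D.P.res ∧
        Function.Surjective φ := by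
  classical
  obtain ⟨a, r₁, hr₁⟩ := Submodule.fg_iff_exists_fin_generating_family.1
    (IsNoetherian.noetherian (maximalIdeal R.carrier))
  obtain ⟨b, c, hc⟩ := Module.Finite.exists_fin (R := Λ) (M := k)
  choose s hs using fun j => R.res_surjective (c j)
  let r : Fin a ⊕ Fin b → R.carrier := Sum.elim r₁ s
  let g₀ : MvPolynomial (Fin a ⊕ Fin b) Λ →ₐ[Λ] R.carrier := MvPolynomial.aeval r
  let π : MvPolynomial (Fin a ⊕ Fin b) Λ →ₐ[Λ] k := R.res.comp g₀
  have hπX : ∀ j, π (MvPolynomial.X (Sum.inr j)) = c j := fun j => by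
    change R.res (MvPolynomial.aeval r (MvPolynomial.X (Sum.inr j))) = c j
    rw [MvPolynomial.aeval_X]
    exact hs j
  have hπ : Function.Surjective π := by
    intro x
    have hx : x ∈ Submodule.span Λ (Set.range c) := by rw [hc]; trivial
    have hle : Submodule.span Λ (Set.range c) ≤ LinearMap.range π.toLinearMap := by
      rw [Submodule.span_le]
      rintro _ ⟨j, rfl⟩
      exact ⟨MvPolynomial.X (Sum.inr j), hπX j⟩
    obtain ⟨p, hp⟩ := hle hx
    exact ⟨p, hp⟩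
  obtain ⟨D⟩ := exists_freeData π hπ
  obtain ⟨φ, hφres, hφι⟩ := D.ext' R g₀ rfl
  refine ⟨_, inferInstance, π, D, φ, hπ, hφres, ?_⟩
  haveI := D.P.isAdicComplete
  haveI := R.isAdicComplete
  have htfae := surjective_tfae D.P.res R.res D.P.res_surjective R.res_surjective φ hφres
  have h01 := htfae.out 0 1
  rw [h01]
  apply le_antisymm
  · refine sup_le ?_ (Ideal.pow_le_self two_ne_zero)
    rw [Ideal.map_le_iff_le_comap]
    intro x hx
    rw [Ideal.mem_comap, R.mem_maximalIdeal_iff]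
    have : R.res (φ x) = D.P.res x := congrArg (fun f : D.P.carrier →ₐ[Λ] k => f x) hφres
    rw [this, ← D.P.mem_maximalIdeal_iff]
    exact hx
  · refine le_sup_of_le_left ?_
    rw [← hr₁]
    change Ideal.span (Set.range r₁) ≤ _
    rw [Ideal.span_le]
    rintro _ ⟨i, rfl⟩
    have h1 : φ (D.ι (MvPolynomial.X (Sum.inl i))) = r₁ i := by
      have := congrArg
        (fun f : MvPolynomial (Fin a ⊕ Fin b) Λ →ₐ[Λ] R.carrier => f (MvPolynomial.X (Sum.inl i)))
        hφι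
      change φ (D.ι (MvPolynomial.X (Sum.inl i))) =
        MvPolynomial.aeval r (MvPolynomial.X (Sum.inl i)) at this
      rw [this, MvPolynomial.aeval_X]
      rfl
    rw [← h1]
    apply Ideal.mem_map_of_mem
    rw [D.P.mem_maximalIdeal_iff]
    have h2 : D.P.res (D.ι (MvPolynomial.X (Sum.inl i))) = π (MvPolynomial.X (Sum.inl i)) :=
      congrArg
        (fun f : MvPolynomial (Fin a ⊕ Fin b) Λ →ₐ[Λ] k => f (MvPolynomial.X (Sum.inl i)))
        D.hresι
    rw [h2]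
    change R.res (MvPolynomial.aeval r (MvPolynomial.X (Sum.inl i))) = 0
    rw [MvPolynomial.aeval_X]
    change R.res (r₁ i) = 0
    rw [← R.mem_maximalIdeal_iff, ← hr₁]
    exact Submodule.subset_span ⟨i, rfl⟩

end Presentation

section Coproduct

variable [IsNoetherianRing Λ] [Module.Finite Λ k]

theorem exists_coproduct (R S : CRing Λ k) :
    ∃ (P : CRing Λ k) (i₁ : R.carrier →ₐ[Λ] P.carrier) (i₂ : S.carrier →ₐ[Λ] P.carrier),
      P.res.comp i₁ = R.res ∧ P.res.comp i₂ = S.res ∧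
      ∀ (T : CRing Λ k) (g₁ : R.carrier →ₐ[Λ] T.carrier) (g₂ : S.carrier →ₐ[Λ] T.carrier),
        T.res.comp g₁ = R.res → T.res.comp g₂ = S.res →
          ∃! h : P.carrier →ₐ[Λ] T.carrier, T.res.comp h = P.res ∧ h.comp i₁ = g₁ ∧
            h.comp i₂ = g₂ := by
  classical
  obtain ⟨σ₁, _, π₁, D₁, φ₁, hπ₁, hφ₁res, hφ₁⟩ := exists_presentation R
  obtain ⟨σ₂, _, π₂, D₂, φ₂, hπ₂, hφ₂res, hφ₂⟩ := exists_presentation S
  let π : MvPolynomial (σ₁ ⊕ σ₂) Λ →ₐ[Λ] k := MvPolynomial.aeval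
    (Sum.elim (fun i => π₁ (MvPolynomial.X i)) (fun j => π₂ (MvPolynomial.X j)))
  have hπinl : π.comp (MvPolynomial.rename Sum.inl) = π₁ := by
    apply MvPolynomial.algHom_ext
    intro i
    simp [π]
  have hπinr : π.comp (MvPolynomial.rename Sum.inr) = π₂ := by
    apply MvPolynomial.algHom_ext
    intro i
    simp [π]
  have hπ : Function.Surjective π := by
    intro x
    obtain ⟨p, hp⟩ := hπ₁ x
    refine ⟨MvPolynomial.rename Sum.inl p, ?_⟩
    rw [← hp, ← hπinl]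
    rfl
  obtain ⟨D⟩ := exists_freeData π hπ
  obtain ⟨j₁, hj₁res, hj₁ι⟩ := D₁.ext' D.P (D.ι.comp (MvPolynomial.rename Sum.inl))
    (by rw [← AlgHom.comp_assoc, D.hresι, hπinl])
  obtain ⟨j₂, hj₂res, hj₂ι⟩ := D₂.ext' D.P (D.ι.comp (MvPolynomial.rename Sum.inr))
    (by rw [← AlgHom.comp_assoc, D.hresι, hπinr])
  have hj₁X : ∀ i, D.ι (MvPolynomial.X (Sum.inl i)) = j₁ (D₁.ι (MvPolynomial.X i)) := fun i => by
    have := congrArg (fun f : MvPolynomial σ₁ Λ →ₐ[Λ] D.P.carrier => f (MvPolynomial.X i)) hj₁ι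
    change j₁ (D₁.ι (MvPolynomial.X i)) =
      D.ι (MvPolynomial.rename Sum.inl (MvPolynomial.X i)) at this
    rw [this, MvPolynomial.rename_X]
  have hj₂X : ∀ i, D.ι (MvPolynomial.X (Sum.inr i)) = j₂ (D₂.ι (MvPolynomial.X i)) := fun i => by
    have := congrArg (fun f : MvPolynomial σ₂ Λ →ₐ[Λ] D.P.carrier => f (MvPolynomial.X i)) hj₂ι
    change j₂ (D₂.ι (MvPolynomial.X i)) =
      D.ι (MvPolynomial.rename Sum.inr (MvPolynomial.X i)) at this
    rw [this, MvPolynomial.rename_X]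
  have hres₁ : ∀ x, D.P.res (j₁ x) = D₁.P.res x := fun x =>
    congrArg (fun f : D₁.P.carrier →ₐ[Λ] k => f x) hj₁res
  have hres₂ : ∀ x, D.P.res (j₂ x) = D₂.P.res x := fun x =>
    congrArg (fun f : D₂.P.carrier →ₐ[Λ] k => f x) hj₂res
  have hφres₁ : ∀ x, R.res (φ₁ x) = D₁.P.res x := fun x =>
    congrArg (fun f : D₁.P.carrier →ₐ[Λ] k => f x) hφ₁res
  have hφres₂ : ∀ x, S.res (φ₂ x) = D₂.P.res x := fun x =>
    congrArg (fun f : D₂.P.carrier →ₐ[Λ] k => f x) hφ₂res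
  let K : Ideal D.P.carrier := Ideal.map j₁ (RingHom.ker φ₁) ⊔ Ideal.map j₂ (RingHom.ker φ₂)
  have hK : K ≤ maximalIdeal D.P.carrier := by
    refine sup_le ?_ ?_
    · rw [Ideal.map_le_iff_le_comap]
      intro x hx
      rw [Ideal.mem_comap, D.P.mem_maximalIdeal_iff, hres₁, ← hφres₁, (RingHom.mem_ker).1 hx,
        map_zero]
    · rw [Ideal.map_le_iff_le_comap]
      intro x hx
      rw [Ideal.mem_comap, D.P.mem_maximalIdeal_iff, hres₂, ← hφres₂, (RingHom.mem_ker).1 hx,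
        map_zero]
  have hmk_res : (cquot D.P K hK).res.comp (cquotMk D.P K hK) = D.P.res := cquot_res_comp D.P K hK
  have hmk_surj := cquotMk_surjective D.P K hK
  have hker₁ : RingHom.ker φ₁.toRingHom ≤ RingHom.ker ((cquotMk D.P K hK).comp j₁).toRingHom := by
    intro x hx
    rw [RingHom.mem_ker]
    change cquotMk D.P K hK (j₁ x) = 0
    rw [cquotMk_eq_zero_iff]
    exact Ideal.mem_sup_left (Ideal.mem_map_of_mem _ hx)
  have hker₂ : RingHom.ker φ₂.toRingHom ≤ RingHom.ker ((cquotMk D.P K hK).comp j₂).toRingHom := by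
    intro x hx
    rw [RingHom.mem_ker]
    change cquotMk D.P K hK (j₂ x) = 0
    rw [cquotMk_eq_zero_iff]
    exact Ideal.mem_sup_right (Ideal.mem_map_of_mem _ hx)
  have hi₁ : (AlgHom.liftOfSurjective φ₁ hφ₁ ((cquotMk D.P K hK).comp j₁) hker₁).comp φ₁ =
      (cquotMk D.P K hK).comp j₁ := AlgHom.liftOfSurjective_comp _ _ _ _
  have hi₂ : (AlgHom.liftOfSurjective φ₂ hφ₂ ((cquotMk D.P K hK).comp j₂) hker₂).comp φ₂ =
      (cquotMk D.P K hK).comp j₂ := AlgHom.liftOfSurjective_comp _ _ _ _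
  generalize AlgHom.liftOfSurjective φ₁ hφ₁ ((cquotMk D.P K hK).comp j₁) hker₁ = i₁ at hi₁
  generalize AlgHom.liftOfSurjective φ₂ hφ₂ ((cquotMk D.P K hK).comp j₂) hker₂ = i₂ at hi₂
  refine ⟨cquot D.P K hK, i₁, i₂, ?_, ?_, ?_⟩
  · apply (AlgHom.cancel_right hφ₁).1
    rw [AlgHom.comp_assoc, hi₁, ← AlgHom.comp_assoc, hmk_res, hj₁res, hφ₁res]
  · apply (AlgHom.cancel_right hφ₂).1
    rw [AlgHom.comp_assoc, hi₂, ← AlgHom.comp_assoc, hmk_res, hj₂res, hφ₂res]
  · intro T g₁ g₂ hg₁ hg₂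
    have hT₁ : ∀ x, T.res (g₁ x) = R.res x := fun x =>
      congrArg (fun f : R.carrier →ₐ[Λ] k => f x) hg₁
    have hT₂ : ∀ x, T.res (g₂ x) = S.res x := fun x =>
      congrArg (fun f : S.carrier →ₐ[Λ] k => f x) hg₂
    have hP₁ : ∀ p, D₁.P.res (D₁.ι p) = π₁ p := fun p =>
      congrArg (fun f : MvPolynomial σ₁ Λ →ₐ[Λ] k => f p) D₁.hresι
    have hP₂ : ∀ p, D₂.P.res (D₂.ι p) = π₂ p := fun p =>
      congrArg (fun f : MvPolynomial σ₂ Λ →ₐ[Λ] k => f p) D₂.hresι
    let g : MvPolynomial (σ₁ ⊕ σ₂) Λ →ₐ[Λ] T.carrier := MvPolynomial.aeval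
      (Sum.elim (fun i => g₁ (φ₁ (D₁.ι (MvPolynomial.X i))))
        (fun j => g₂ (φ₂ (D₂.ι (MvPolynomial.X j)))))
    have hgres : T.res.comp g = π := by
      apply MvPolynomial.algHom_ext
      intro i
      rcases i with i | j
      · change T.res (MvPolynomial.aeval _ (MvPolynomial.X (Sum.inl i))) =
          MvPolynomial.aeval _ (MvPolynomial.X (Sum.inl i))
        rw [MvPolynomial.aeval_X, MvPolynomial.aeval_X]
        change T.res (g₁ (φ₁ (D₁.ι (MvPolynomial.X i)))) = π₁ (MvPolynomial.X i)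
        rw [hT₁, hφres₁, hP₁]
      · change T.res (MvPolynomial.aeval _ (MvPolynomial.X (Sum.inr j))) =
          MvPolynomial.aeval _ (MvPolynomial.X (Sum.inr j))
        rw [MvPolynomial.aeval_X, MvPolynomial.aeval_X]
        change T.res (g₂ (φ₂ (D₂.ι (MvPolynomial.X j)))) = π₂ (MvPolynomial.X j)
        rw [hT₂, hφres₂, hP₂]
    obtain ⟨G, hGres, hGι⟩ := D.ext' T g hgres
    have hGX₁ : ∀ i, G (D.ι (MvPolynomial.X (Sum.inl i))) = g₁ (φ₁ (D₁.ι (MvPolynomial.X i))) :=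
      fun i => by
        have := congrArg
          (fun f : MvPolynomial (σ₁ ⊕ σ₂) Λ →ₐ[Λ] T.carrier => f (MvPolynomial.X (Sum.inl i))) hGι
        change G (D.ι (MvPolynomial.X (Sum.inl i))) =
          MvPolynomial.aeval _ (MvPolynomial.X (Sum.inl i)) at this
        rw [this, MvPolynomial.aeval_X]
        rfl
    have hGX₂ : ∀ i, G (D.ι (MvPolynomial.X (Sum.inr i))) = g₂ (φ₂ (D₂.ι (MvPolynomial.X i))) :=
      fun i => by
        have := congrArg
          (fun f : MvPolynomial (σ₁ ⊕ σ₂) Λ →ₐ[Λ] T.carrier => f (MvPolynomial.X (Sum.inr i))) hGι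
        change G (D.ι (MvPolynomial.X (Sum.inr i))) =
          MvPolynomial.aeval _ (MvPolynomial.X (Sum.inr i)) at this
        rw [this, MvPolynomial.aeval_X]
        rfl
    have hGj₁ : G.comp j₁ = g₁.comp φ₁ := by
      apply D₁.uniq T
      · rw [← AlgHom.comp_assoc, hGres, hj₁res]
      · rw [← AlgHom.comp_assoc, hg₁, hφ₁res]
      · apply MvPolynomial.algHom_ext
        intro i
        change G (j₁ (D₁.ι (MvPolynomial.X i))) = g₁ (φ₁ (D₁.ι (MvPolynomial.X i)))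
        rw [← hj₁X, hGX₁]
    have hGj₂ : G.comp j₂ = g₂.comp φ₂ := by
      apply D₂.uniq T
      · rw [← AlgHom.comp_assoc, hGres, hj₂res]
      · rw [← AlgHom.comp_assoc, hg₂, hφ₂res]
      · apply MvPolynomial.algHom_ext
        intro i
        change G (j₂ (D₂.ι (MvPolynomial.X i))) = g₂ (φ₂ (D₂.ι (MvPolynomial.X i)))
        rw [← hj₂X, hGX₂]
    have hGj₁a : ∀ y, G (j₁ y) = g₁ (φ₁ y) := fun y =>
      congrArg (fun f : D₁.P.carrier →ₐ[Λ] T.carrier => f y) hGj₁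
    have hGj₂a : ∀ y, G (j₂ y) = g₂ (φ₂ y) := fun y =>
      congrArg (fun f : D₂.P.carrier →ₐ[Λ] T.carrier => f y) hGj₂
    have hKker : K ≤ RingHom.ker G := by
      refine sup_le ?_ ?_
      · rw [Ideal.map_le_iff_le_comap]
        intro y hy
        rw [Ideal.mem_comap, RingHom.mem_ker, hGj₁a, (RingHom.mem_ker).1 hy, map_zero]
      · rw [Ideal.map_le_iff_le_comap]
        intro y hy
        rw [Ideal.mem_comap, RingHom.mem_ker, hGj₂a, (RingHom.mem_ker).1 hy, map_zero]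
    have hGK : ∀ x ∈ K, G x = 0 := fun x hx => hKker hx
    have hh : (cquotLift D.P K hK G hGK).comp (cquotMk D.P K hK) = G := cquotLift_comp D.P K hK G hGK
    generalize cquotLift D.P K hK G hGK = h at hh
    refine ⟨h, ⟨?_, ?_, ?_⟩, ?_⟩
    · apply (AlgHom.cancel_right hmk_surj).1
      rw [AlgHom.comp_assoc, hh, hGres, hmk_res]
    · apply (AlgHom.cancel_right hφ₁).1
      rw [AlgHom.comp_assoc, hi₁, ← AlgHom.comp_assoc, hh, hGj₁]
    · apply (AlgHom.cancel_right hφ₂).1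
      rw [AlgHom.comp_assoc, hi₂, ← AlgHom.comp_assoc, hh, hGj₂]
    · rintro h' ⟨hres', h1', h2'⟩
      apply (AlgHom.cancel_right hmk_surj).1
      rw [hh]
      have hi₁a : ∀ y, cquotMk D.P K hK (j₁ y) = i₁ (φ₁ y) := fun y =>
        (congrArg (fun f : D₁.P.carrier →ₐ[Λ] (cquot D.P K hK).carrier => f y) hi₁).symm
      have hi₂a : ∀ y, cquotMk D.P K hK (j₂ y) = i₂ (φ₂ y) := fun y =>
        (congrArg (fun f : D₂.P.carrier →ₐ[Λ] (cquot D.P K hK).carrier => f y) hi₂).symm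
      have h1a : ∀ y, h' (i₁ y) = g₁ y := fun y =>
        congrArg (fun f : R.carrier →ₐ[Λ] T.carrier => f y) h1'
      have h2a : ∀ y, h' (i₂ y) = g₂ y := fun y =>
        congrArg (fun f : S.carrier →ₐ[Λ] T.carrier => f y) h2'
      apply D.uniq T
      · rw [← AlgHom.comp_assoc, hres', hmk_res]
      · exact hGres
      · apply MvPolynomial.algHom_ext
        intro i
        rcases i with i | j
        · change h' (cquotMk D.P K hK (D.ι (MvPolynomial.X (Sum.inl i)))) =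
            G (D.ι (MvPolynomial.X (Sum.inl i)))
          rw [hGX₁, hj₁X, hi₁a, h1a]
        · change h' (cquotMk D.P K hK (D.ι (MvPolynomial.X (Sum.inr j)))) =
            G (D.ι (MvPolynomial.X (Sum.inr j)))
          rw [hGX₂, hj₂X, hi₂a, h2a]

theorem exists_pushout (R S₁ S₂ : CRing Λ k)
    (f₁ : R.carrier →ₐ[Λ] S₁.carrier) (hf₁ : S₁.res.comp f₁ = R.res)
    (f₂ : R.carrier →ₐ[Λ] S₂.carrier) (hf₂ : S₂.res.comp f₂ = R.res) :
    ∃ (P : CRing Λ k) (i₁ : S₁.carrier →ₐ[Λ] P.carrier) (i₂ : S₂.carrier →ₐ[Λ] P.carrier),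
      P.res.comp i₁ = S₁.res ∧ P.res.comp i₂ = S₂.res ∧ i₁.comp f₁ = i₂.comp f₂ ∧
      ∀ (T : CRing Λ k) (g₁ : S₁.carrier →ₐ[Λ] T.carrier) (g₂ : S₂.carrier →ₐ[Λ] T.carrier),
        T.res.comp g₁ = S₁.res → T.res.comp g₂ = S₂.res → g₁.comp f₁ = g₂.comp f₂ →
          ∃! h : P.carrier →ₐ[Λ] T.carrier, T.res.comp h = P.res ∧ h.comp i₁ = g₁ ∧
            h.comp i₂ = g₂ := by
  classical
  obtain ⟨C, i₁, i₂, hi₁, hi₂, huniv⟩ := exists_coproduct S₁ S₂
  have hi₁a : ∀ x, C.res (i₁ x) = S₁.res x := fun x =>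
    congrArg (fun f : S₁.carrier →ₐ[Λ] k => f x) hi₁
  have hi₂a : ∀ x, C.res (i₂ x) = S₂.res x := fun x =>
    congrArg (fun f : S₂.carrier →ₐ[Λ] k => f x) hi₂
  have hf₁a : ∀ x, S₁.res (f₁ x) = R.res x := fun x =>
    congrArg (fun f : R.carrier →ₐ[Λ] k => f x) hf₁
  have hf₂a : ∀ x, S₂.res (f₂ x) = R.res x := fun x =>
    congrArg (fun f : R.carrier →ₐ[Λ] k => f x) hf₂
  let K : Ideal C.carrier := Ideal.span (Set.range fun r : R.carrier => i₁ (f₁ r) - i₂ (f₂ r))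
  have hK : K ≤ maximalIdeal C.carrier := by
    rw [Ideal.span_le]
    rintro _ ⟨r, rfl⟩
    rw [SetLike.mem_coe, C.mem_maximalIdeal_iff, map_sub, sub_eq_zero, hi₁a, hi₂a, hf₁a, hf₂a]
  have hmk_res : (cquot C K hK).res.comp (cquotMk C K hK) = C.res := cquot_res_comp C K hK
  have hmk_surj := cquotMk_surjective C K hK
  refine ⟨cquot C K hK, (cquotMk C K hK).comp i₁, (cquotMk C K hK).comp i₂, ?_, ?_, ?_, ?_⟩
  · rw [← AlgHom.comp_assoc, hmk_res, hi₁]
  · rw [← AlgHom.comp_assoc, hmk_res, hi₂]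
  · apply AlgHom.ext
    intro r
    change cquotMk C K hK (i₁ (f₁ r)) = cquotMk C K hK (i₂ (f₂ r))
    rw [← sub_eq_zero, ← map_sub, cquotMk_eq_zero_iff]
    exact Ideal.subset_span ⟨r, rfl⟩
  · intro T g₁ g₂ hg₁ hg₂ hgf
    obtain ⟨h₀, ⟨h₀res, h₀1, h₀2⟩, h₀uniq⟩ := huniv T g₁ g₂ hg₁ hg₂
    have hKker : K ≤ RingHom.ker h₀ := by
      rw [Ideal.span_le]
      rintro _ ⟨r, rfl⟩
      rw [SetLike.mem_coe, RingHom.mem_ker, map_sub, sub_eq_zero]
      have e1 : h₀ (i₁ (f₁ r)) = g₁ (f₁ r) :=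
        congrArg (fun f : S₁.carrier →ₐ[Λ] T.carrier => f (f₁ r)) h₀1
      have e2 : h₀ (i₂ (f₂ r)) = g₂ (f₂ r) :=
        congrArg (fun f : S₂.carrier →ₐ[Λ] T.carrier => f (f₂ r)) h₀2
      rw [e1, e2]
      exact congrArg (fun f : R.carrier →ₐ[Λ] T.carrier => f r) hgf
    have hkill : ∀ x ∈ K, h₀ x = 0 := fun x hx => hKker hx
    have hh : (cquotLift C K hK h₀ hkill).comp (cquotMk C K hK) = h₀ := cquotLift_comp C K hK h₀ hkill
    generalize cquotLift C K hK h₀ hkill = h at hh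
    refine ⟨h, ⟨?_, ?_, ?_⟩, ?_⟩
    · apply (AlgHom.cancel_right hmk_surj).1
      rw [AlgHom.comp_assoc, hh, h₀res, hmk_res]
    · rw [← AlgHom.comp_assoc, hh, h₀1]
    · rw [← AlgHom.comp_assoc, hh, h₀2]
    · rintro h' ⟨hres', h1', h2'⟩
      apply (AlgHom.cancel_right hmk_surj).1
      rw [hh]
      apply h₀uniq
      refine ⟨?_, ?_, ?_⟩
      · rw [← AlgHom.comp_assoc, hres', hmk_res]
      · rw [AlgHom.comp_assoc]
        exact h1'
      · rw [AlgHom.comp_assoc]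
        exact h2'

end Coproduct

end Groth.Agent.H6.CRingOps
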