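import Groth.Agent.Lib.Helper6.CRingCoprod
import Groth.Agent.Lib.Helper6.ArtFunEssential

/-!
# Limits of surjective systems of Artinian local algebras, I (helper6)

Chevalley's lemma and the limit of a system all of whose transition maps have kernel in the square
of the maximal ideal.
-/

set_option autoImplicit false
universe u v
open CategoryTheory

namespace Groth.Agent.H6.CRingOps

open ArtFun ArtFun.Art IsLocalRing Groth.Agent.H6

section Chevalley

variable {S : Type u} [CommRing S] [IsLocalRing S] [IsNoetherianRing S]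

lemma artinian_quot_pow (c : ℕ) : IsArtinianRing (S ⧸ maximalIdeal S ^ (c + 1)) := by
  have hle : maximalIdeal S ^ (c + 1) ≤ maximalIdeal S := Ideal.pow_le_self (Nat.succ_ne_zero c)
  haveI : Nontrivial (S ⧸ maximalIdeal S ^ (c + 1)) :=
    Ideal.Quotient.nontrivial_iff.2 (ne_top_of_le_ne_top (maximalIdeal.isMaximal S).ne_top hle)
  haveI : IsLocalRing (S ⧸ maximalIdeal S ^ (c + 1)) :=
    IsLocalRing.of_surjective' (Ideal.Quotient.mk _) Ideal.Quotient.mk_surjective
  rw [isArtinianRing_iff_isNilpotent_maximalIdeal]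
  refine ⟨c + 1, ?_⟩
  rw [← IsLocalRing.map_maximalIdeal_of_surjective (Ideal.Quotient.mk _)
    Ideal.Quotient.mk_surjective, ← Ideal.map_pow, Ideal.zero_eq_bot, Ideal.map_eq_bot_iff_le_ker,
    Ideal.mk_ker]

lemma exists_stab (I : ℕ → Ideal S) (hI : Antitone I) (c : ℕ) :
    ∃ N, ∀ j, N ≤ j → I j ⊔ maximalIdeal S ^ (c + 1) = I N ⊔ maximalIdeal S ^ (c + 1) := by
  haveI : IsArtinianRing (S ⧸ maximalIdeal S ^ (c + 1)) := artinian_quot_pow c
  let q := Ideal.Quotient.mk (maximalIdeal S ^ (c + 1))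
  let F : ℕ →o (Ideal (S ⧸ maximalIdeal S ^ (c + 1)))ᵒᵈ :=
    ⟨fun j => OrderDual.toDual ((I j).map q), fun a b hab => Ideal.map_mono (hI hab)⟩
  obtain ⟨N, hN⟩ := IsArtinian.monotone_stabilizes F
  refine ⟨N, fun j hj => ?_⟩
  have h1 : (I N).map q = (I j).map q := congrArg OrderDual.ofDual (hN j hj)
  have h2 := congrArg (Ideal.comap q) h1
  rw [Ideal.comap_map_of_surjective q Ideal.Quotient.mk_surjective,
    Ideal.comap_map_of_surjective q Ideal.Quotient.mk_surjective] at h2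
  have h3 : Ideal.comap q ⊥ = maximalIdeal S ^ (c + 1) := by
    rw [← RingHom.ker_eq_comap_bot, Ideal.mk_ker]
  rw [h3] at h2
  exact h2.symm

/-- Chevalley's lemma: in a complete Noetherian local ring a decreasing sequence of open ideals with
zero intersection tends to zero. -/
theorem chevalley [IsAdicComplete (maximalIdeal S) S] (I : ℕ → Ideal S) (hI : Antitone I)
    (hopen : ∀ j, ∃ c, maximalIdeal S ^ c ≤ I j) (hinf : ⨅ j, I j = ⊥) (n : ℕ) :
    ∃ N, I N ≤ maximalIdeal S ^ n := by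
  classical
  rcases n with _ | c₀
  · exact ⟨0, by rw [pow_zero, Ideal.one_eq_top]; exact le_top⟩
  by_contra hcon
  push Not at hcon
  choose N hN using exists_stab I hI
  have hE_le : ∀ c j, I (N c) ⊔ maximalIdeal S ^ (c + 1) ≤ I j ⊔ maximalIdeal S ^ (c + 1) := by
    intro c j
    rcases le_total (N c) j with h | h
    · rw [hN c j h]
    · exact sup_le_sup_right (hI h) _
  have hE_succ : ∀ c, I (N c) ⊔ maximalIdeal S ^ (c + 1) ≤
      (I (N (c + 1)) ⊔ maximalIdeal S ^ (c + 1 + 1)) ⊔ maximalIdeal S ^ (c + 1) := by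
    intro c
    have h1 := hN c (max (N c) (N (c + 1))) (le_max_left _ _)
    have h2 := hN (c + 1) (max (N c) (N (c + 1))) (le_max_right _ _)
    rw [← h1, ← h2]
    exact sup_le (le_sup_of_le_left le_sup_left) le_sup_right
  obtain ⟨y₀, hy₀I, hy₀⟩ := SetLike.not_le_iff_exists.1 (hcon (N c₀))
  have hsplit : ∀ (i : ℕ) (y : S), y ∈ I (N (c₀ + i)) ⊔ maximalIdeal S ^ (c₀ + i + 1) →
      ∃ y', y' ∈ I (N (c₀ + (i + 1))) ⊔ maximalIdeal S ^ (c₀ + (i + 1) + 1) ∧
        y - y' ∈ maximalIdeal S ^ (c₀ + i + 1) := by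
    intro i y hy
    obtain ⟨a, ha, b, hb, hab⟩ := Submodule.mem_sup.1 (hE_succ (c₀ + i) hy)
    refine ⟨a, ha, ?_⟩
    have : y - a = b := by rw [← hab]; ring
    rw [this]
    exact hb
  choose! nxt hnxt1 hnxt2 using hsplit
  obtain ⟨y, hy0, hysucc⟩ : ∃ y : ℕ → S, y 0 = y₀ ∧ ∀ i, y (i + 1) = nxt i (y i) :=
    ⟨fun i => Nat.rec y₀ (fun i yi => nxt i yi) i, rfl, fun i => rfl⟩
  have hyE : ∀ i, y i ∈ I (N (c₀ + i)) ⊔ maximalIdeal S ^ (c₀ + i + 1) := by
    intro i
    induction i with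
    | zero => rw [hy0]; exact Ideal.mem_sup_left hy₀I
    | succ i ih => rw [hysucc]; exact hnxt1 i (y i) ih
  have hysub : ∀ i, y i - y (i + 1) ∈ maximalIdeal S ^ (c₀ + i + 1) := fun i => by
    rw [hysucc]; exact hnxt2 i (y i) (hyE i)
  have hysub_le : ∀ a b, a ≤ b → y a - y b ∈ maximalIdeal S ^ (c₀ + a + 1) := by
    intro a b hab
    induction b, hab using Nat.le_induction with
    | base => simp
    | succ n hn ih =>
      have h2 : y n - y (n + 1) ∈ maximalIdeal S ^ (c₀ + a + 1) :=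
        Ideal.pow_le_pow_right (by omega) (hysub n)
      have := Ideal.add_mem _ ih h2
      simpa using this
  have hcauchy : ∀ {m n : ℕ}, m ≤ n →
      y m ≡ y n [SMOD (maximalIdeal S ^ m • ⊤ : Submodule S S)] := by
    intro m n hmn
    rw [SModEq.sub_mem, smul_eq_mul, Ideal.mul_top]
    exact Ideal.pow_le_pow_right (by omega) (hysub_le m n hmn)
  obtain ⟨L, hL⟩ := IsPrecomplete.prec (inferInstance : IsPrecomplete (maximalIdeal S) S) hcauchy
  have hL' : ∀ n, y n - L ∈ maximalIdeal S ^ n := by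
    intro n
    have := hL n
    rwa [SModEq.sub_mem, smul_eq_mul, Ideal.mul_top] at this
  have hLmem : L ∈ ⨅ j, I j := by
    rw [Submodule.mem_iInf]
    intro j
    obtain ⟨c, hc⟩ := hopen j
    have e1 : y c ∈ I j := by
      obtain ⟨a, ha, b, hb, hab⟩ := Submodule.mem_sup.1 (hE_le (c₀ + c) j (hyE c))
      rw [← hab]
      exact Ideal.add_mem _ ha (hc (Ideal.pow_le_pow_right (by omega) hb))
    have e2 : y c - L ∈ I j := hc (hL' c)
    have := Ideal.sub_mem _ e1 e2
    simpa using this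
  rw [hinf, Ideal.mem_bot] at hLmem
  apply hy₀
  have e1 := hysub_le 0 (c₀ + 1) (Nat.zero_le _)
  have e2 := hL' (c₀ + 1)
  rw [hLmem, sub_zero] at e2
  have := Ideal.add_mem _ e1 e2
  rw [hy0] at this
  simpa using this

end Chevalley

variable {Λ : Type u} {k : Type u} [CommRing Λ] [Field k] [Algebra Λ k]

section Tower

variable {P : Type u} [CommRing P] [Algebra Λ P] {resP : P →ₐ[Λ] k}
  (B : ℕ → Art Λ k) (g : ∀ j, B (j + 1) ⟶ B j)
  (hlift : ∀ j (ψ : HomSet P resP (B j)), Function.Surjective ψ.1 →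
    ∃ ψ' : HomSet P resP (B (j + 1)), HomSet.map (g j) ψ' = ψ ∧ Function.Surjective ψ'.1)
  (ψ₀ : HomSet P resP (B 0)) (hψ₀ : Function.Surjective ψ₀.1)

/-- a compatible tower of surjections obtained by successive liftings -/
noncomputable def tower : ∀ j, {ψ : HomSet P resP (B j) // Function.Surjective ψ.1}
  | 0 => ⟨ψ₀, hψ₀⟩
  | j + 1 => ⟨Classical.choose (hlift j (tower j).1 (tower j).2),
      (Classical.choose_spec (hlift j (tower j).1 (tower j).2)).2⟩

include hlift hψ₀ in
theorem exists_tower : ∃ Ψ : ∀ j, HomSet P resP (B j), Ψ 0 = ψ₀ ∧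
    (∀ j, Function.Surjective (Ψ j).1) ∧ ∀ j, HomSet.map (g j) (Ψ (j + 1)) = Ψ j :=
  ⟨fun j => (tower B g hlift ψ₀ hψ₀ j).1, rfl, fun j => (tower B g hlift ψ₀ hψ₀ j).2,
    fun j => (Classical.choose_spec (hlift j (tower B g hlift ψ₀ hψ₀ j).1
      (tower B g hlift ψ₀ hψ₀ j).2)).1⟩

end Tower

/-- an Artinian object as a complete local Noetherian algebra -/
noncomputable def artCRing (A : Art Λ k) : CRing Λ k :=
  { carrier := A
    res := A.res
    res_surjective := A.res_surjective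
    isAdicComplete := art_isAdicComplete A }

section Stable

variable [IsNoetherianRing Λ] [Module.Finite Λ k]

/-- the limit of a surjective system whose transition maps have kernels in the square of the
maximal ideal -/
theorem stable_limit (B : ℕ → Art Λ k) (g : ∀ j, B (j + 1) ⟶ B j)
    (hg : ∀ j, Function.Surjective (g j))
    (hker : ∀ j, RingHom.ker (g j).toAlgHom ≤ maximalIdeal (B (j + 1)) ^ 2) :
    ∃ (S : CRing Λ k) (π : ∀ n, HomSet S.carrier S.res (B n)),
      (∀ n, HomSet.map (g n) (π (n + 1)) = π n) ∧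
      (∀ n, Function.Surjective (π n).1) ∧
      (∀ a : ∀ n, B n, (∀ n, g n (a (n + 1)) = a n) →
        ∃! s : S.carrier, ∀ n, (π n).1 s = a n) ∧
      (∀ n, ∃ N, RingHom.ker (π N).1 ≤ maximalIdeal S.carrier ^ n) ∧
      (∀ n, ∃ N, maximalIdeal S.carrier ^ N ≤ RingHom.ker (π n).1) := by
  classical
  obtain ⟨σ, _, π₀, D, φ₀, hπ₀, hφ₀res, hφ₀⟩ := exists_presentation (artCRing (B 0))
  have hsm := smooth_of_poly D.hresι D.hext D.huniq
  have hresP := D.P.res_surjective
  have hlift : ∀ j (ψ : HomSet D.P.carrier D.P.res (B j)), Function.Surjective ψ.1 →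
      ∃ ψ' : HomSet D.P.carrier D.P.res (B (j + 1)), HomSet.map (g j) ψ' = ψ ∧
        Function.Surjective ψ'.1 := by
    intro j ψ hψ
    obtain ⟨ψ', hψ'⟩ := hsm (g j) (hg j) ψ
    refine ⟨ψ', hψ', ?_⟩
    haveI := D.P.isAdicComplete
    haveI := art_isAdicComplete (B (j + 1))
    have htfae := surjective_tfae D.P.res (B (j + 1)).res hresP (B (j + 1)).res_surjective
      ψ'.1 ψ'.2
    have h01 := htfae.out 0 1
    rw [h01]
    have hψ'a : ∀ p, g j (ψ'.1 p) = ψ.1 p := fun p =>
      congrArg (fun t : HomSet D.P.carrier D.P.res (B j) => t.1 p) hψ'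
    apply le_antisymm
    · refine sup_le ?_ (Ideal.pow_le_self two_ne_zero)
      rw [Ideal.map_le_iff_le_comap]
      intro x hx
      exact homSet_mem_maximalIdeal hresP ψ' hx
    · intro x hx
      obtain ⟨p, hp⟩ := hψ (g j x)
      have hpm : p ∈ maximalIdeal D.P.carrier := by
        rw [D.P.mem_maximalIdeal_iff]
        have e : (B j).res (ψ.1 p) = D.P.res p :=
          congrArg (fun f : D.P.carrier →ₐ[Λ] k => f p) ψ.2
        rw [← e, hp, Art.res_app (g j), ← Art.mem_maximalIdeal_iff]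
        exact hx
      have hd : x - ψ'.1 p ∈ RingHom.ker (g j).toAlgHom := by
        rw [RingHom.mem_ker, map_sub, sub_eq_zero]
        exact hp.symm.trans (hψ'a p).symm
      have : x = ψ'.1 p + (x - ψ'.1 p) := by ring
      rw [this]
      exact Ideal.add_mem _ (Ideal.mem_sup_left (Ideal.mem_map_of_mem _ hpm))
        (Ideal.mem_sup_right (hker j hd))
  obtain ⟨Ψ, -, hΨsurj, hΨ⟩ := exists_tower B g hlift ⟨φ₀, hφ₀res⟩ hφ₀
  have hΨa : ∀ j p, g j ((Ψ (j + 1)).1 p) = (Ψ j).1 p := fun j p =>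
    congrArg (fun t : HomSet D.P.carrier D.P.res (B j) => t.1 p) (hΨ j)
  let J : Ideal D.P.carrier := ⨅ j, RingHom.ker (Ψ j).1
  have hJ : J ≤ maximalIdeal D.P.carrier := (iInf_le _ 0).trans (homSet_ker_le hresP (Ψ 0))
  have hJmem : ∀ p, p ∈ J ↔ ∀ j, (Ψ j).1 p = 0 := by
    intro p
    rw [Submodule.mem_iInf]
    exact forall_congr' fun j => RingHom.mem_ker
  have hmk_surj := cquotMk_surjective D.P J hJ
  have hmk_res := cquot_res_comp D.P J hJ
  obtain ⟨π, hπmk⟩ : ∃ π : ∀ j, HomSet (cquot D.P J hJ).carrier (cquot D.P J hJ).res (B j),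
      ∀ j p, (π j).1 (cquotMk D.P J hJ p) = (Ψ j).1 p := by
    have hkill : ∀ j, ∀ a ∈ J, (Ψ j).1 a = 0 := fun j a ha => (hJmem a).1 ha j
    refine ⟨fun j => ⟨cquotLift D.P J hJ (Ψ j).1 (hkill j), ?_⟩, fun j p => ?_⟩
    · apply (AlgHom.cancel_right hmk_surj).1
      rw [AlgHom.comp_assoc, cquotLift_comp, (Ψ j).2, hmk_res]
    · exact congrArg (fun f : D.P.carrier →ₐ[Λ] B j => f p) (cquotLift_comp D.P J hJ (Ψ j).1 (hkill j))
  have hcompat : ∀ n, HomSet.map (g n) (π (n + 1)) = π n := by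
    intro n
    apply homSet_ext
    intro s
    obtain ⟨p, rfl⟩ := hmk_surj s
    change g n ((π (n + 1)).1 (cquotMk D.P J hJ p)) = (π n).1 (cquotMk D.P J hJ p)
    rw [hπmk, hπmk, hΨa]
  have hcompata : ∀ n s, g n ((π (n + 1)).1 s) = (π n).1 s := fun n s =>
    congrArg (fun t : HomSet (cquot D.P J hJ).carrier (cquot D.P J hJ).res (B n) => t.1 s)
      (hcompat n)
  have hsurj : ∀ n, Function.Surjective (π n).1 := by
    intro n b
    obtain ⟨p, hp⟩ := hΨsurj n b
    exact ⟨cquotMk D.P J hJ p, by rw [hπmk, hp]⟩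
  have hanti : Antitone fun j => RingHom.ker (π j).1 := by
    apply antitone_nat_of_succ_le
    intro n s hs
    rw [RingHom.mem_ker] at hs ⊢
    rw [← hcompata, hs]
    exact map_zero (g n).toAlgHom
  have hopen : ∀ j, ∃ c, maximalIdeal (cquot D.P J hJ).carrier ^ c ≤ RingHom.ker (π j).1 := by
    intro j
    obtain ⟨c, hc⟩ := art_maximalIdeal_pow_eq_bot (B j)
    exact ⟨c, homSet_pow_le_ker (cquot D.P J hJ).res_surjective (π j) hc⟩
  have hinf : ⨅ j, RingHom.ker (π j).1 = ⊥ := by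
    rw [eq_bot_iff]
    intro s hs
    rw [Submodule.mem_iInf] at hs
    obtain ⟨p, rfl⟩ := hmk_surj s
    rw [Ideal.mem_bot, cquotMk_eq_zero_iff, hJmem]
    intro j
    have := hs j
    rw [RingHom.mem_ker, hπmk] at this
    exact this
  haveI := (cquot D.P J hJ).isAdicComplete
  have hchev := chevalley (fun j => RingHom.ker (π j).1) hanti hopen hinf
  -- compatible elements
  have hdown : ∀ (a : ∀ n, B n), (∀ n, g n (a (n + 1)) = a n) →
      ∀ (x : (cquot D.P J hJ).carrier) (j' j : ℕ), j ≤ j' → (π j').1 x = a j' →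
        (π j).1 x = a j := by
    intro a ha x j'
    induction j' with
    | zero =>
      intro j hj hx
      obtain rfl : j = 0 := Nat.le_zero.1 hj
      exact hx
    | succ j' ih =>
      intro j hj hx
      rcases Nat.lt_or_ge j (j' + 1) with h | h
      · apply ih j (Nat.lt_succ_iff.1 h)
        rw [← hcompata, hx, ha]
      · obtain rfl : j = j' + 1 := le_antisymm hj h
        exact hx
  refine ⟨cquot D.P J hJ, π, hcompat, hsurj, ?_, hchev, hopen⟩
  intro a ha
  have huniq : ∀ s s' : (cquot D.P J hJ).carrier, (∀ n, (π n).1 s = a n) →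
      (∀ n, (π n).1 s' = a n) → s = s' := by
    intro s s' hs hs'
    have : s - s' ∈ ⨅ j, RingHom.ker (π j).1 := by
      rw [Submodule.mem_iInf]
      intro j
      rw [RingHom.mem_ker, map_sub, hs, hs', sub_self]
    rw [hinf, Ideal.mem_bot] at this
    exact sub_eq_zero.1 this
  choose sj hsj using fun j => hsurj j (a j)
  choose Nn hNn using hchev
  obtain ⟨M, hM0, hMsucc⟩ : ∃ M : ℕ → ℕ, M 0 = Nn 0 ∧
      ∀ n, M (n + 1) = max (M n + 1) (Nn (n + 1)) :=
    ⟨fun n => Nat.rec (Nn 0) (fun n r => max (r + 1) (Nn (n + 1))) n, rfl, fun n => rfl⟩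
  have hMmono : Monotone M := by
    apply monotone_nat_of_le_succ
    intro n
    rw [hMsucc]
    exact (Nat.le_succ _).trans (le_max_left _ _)
  have hMN : ∀ n, Nn n ≤ M n := by
    intro n
    rcases n with _ | n
    · rw [hM0]
    · rw [hMsucc]; exact le_max_right _ _
  have hMge : ∀ n, n ≤ M n := by
    intro n
    induction n with
    | zero => exact Nat.zero_le _
    | succ n ih => rw [hMsucc]; exact (Nat.succ_le_succ ih).trans (le_max_left _ _)
  have hcauchy : ∀ {m n : ℕ}, m ≤ n → sj (M m) ≡ sj (M n)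
      [SMOD (maximalIdeal (cquot D.P J hJ).carrier ^ m • ⊤ :
        Submodule (cquot D.P J hJ).carrier (cquot D.P J hJ).carrier)] := by
    intro m n hmn
    rw [SModEq.sub_mem, smul_eq_mul, Ideal.mul_top]
    apply hNn m
    apply hanti (hMN m)
    change sj (M m) - sj (M n) ∈ RingHom.ker (π (M m)).1
    rw [RingHom.mem_ker, map_sub, hsj,
      hdown a ha (sj (M n)) (M n) (M m) (hMmono hmn) (hsj (M n)), sub_self]
  obtain ⟨L, hL⟩ := IsPrecomplete.prec (inferInstance :
    IsPrecomplete (maximalIdeal (cquot D.P J hJ).carrier) (cquot D.P J hJ).carrier) hcauchy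
  have hL' : ∀ n, sj (M n) - L ∈ maximalIdeal (cquot D.P J hJ).carrier ^ n := by
    intro n
    have := hL n
    rwa [SModEq.sub_mem, smul_eq_mul, Ideal.mul_top] at this
  have hLa : ∀ j, (π j).1 L = a j := by
    intro j
    obtain ⟨c, hc⟩ := hopen j
    have h1 : sj (M (max c j)) - L ∈ RingHom.ker (π j).1 :=
      hc (Ideal.pow_le_pow_right (le_max_left c j) (hL' (max c j)))
    rw [RingHom.mem_ker, map_sub, sub_eq_zero] at h1
    rw [← h1]
    exact hdown a ha _ (M (max c j)) j ((le_max_right c j).trans (hMge _)) (hsj _)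
  exact ⟨L, hLa, fun s hs => huniq s L hs hLa⟩

end Stable

end Groth.Agent.H6.CRingOps
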