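import Groth.Agent.Lib.Helper6.CRingLimit1

/-!
# Limits of surjective systems of Artinian local algebras, II (helper6)

Reduction of the general case (bounded embedding dimension) to the stable case.
-/

set_option autoImplicit false
universe u v
open CategoryTheory

namespace Groth.Agent.H6.CRingOps

open ArtFun ArtFun.Art IsLocalRing Groth.Agent.H6

variable {Λ : Type u} {k : Type u} [CommRing Λ] [Field k] [Algebra Λ k]

section Transition

variable (A : ℕ → Art Λ k) (f : ∀ n, A (n + 1) ⟶ A n)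

/-- composite transition maps -/
noncomputable def tr (m n : ℕ) (h : n ≤ m) : A m ⟶ A n :=
  (Functor.ofOpSequence f).map (homOfLE h).op

lemma tr_self (n : ℕ) : tr A f n n le_rfl = 𝟙 (A n) := by
  have : (homOfLE (le_refl n)).op = 𝟙 (Opposite.op n) := rfl
  unfold tr
  rw [this]
  exact (Functor.ofOpSequence f).map_id _

lemma tr_succ' (n : ℕ) : tr A f (n + 1) n (Nat.le_succ n) = f n :=
  Functor.ofOpSequence_map_homOfLE_succ f n

lemma tr_comp {m n l : ℕ} (h₁ : n ≤ m) (h₂ : l ≤ n) :
    tr A f m n h₁ ≫ tr A f n l h₂ = tr A f m l (h₂.trans h₁) := by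
  have := (Functor.ofOpSequence f).map_comp (homOfLE h₁).op (homOfLE h₂).op
  exact this.symm

lemma tr_succ {m n : ℕ} (h : n ≤ m) :
    tr A f (m + 1) n (Nat.le_succ_of_le h) = f m ≫ tr A f m n h := by
  rw [← tr_succ' A f m, tr_comp]

lemma tr_surjective (hf : ∀ n, Function.Surjective (f n)) {m n : ℕ} (h : n ≤ m) :
    Function.Surjective (tr A f m n h) := by
  induction m, h using Nat.le_induction with
  | base => rw [tr_self]; exact Function.surjective_id
  | succ m hm ih =>
    rw [tr_succ A f hm]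
    intro x
    obtain ⟨y, rfl⟩ := ih x
    obtain ⟨z, rfl⟩ := hf m y
    exact ⟨z, rfl⟩

lemma tr_apply_compat (a : ∀ n, A n) (ha : ∀ n, f n (a (n + 1)) = a n) {m n : ℕ} (h : n ≤ m) :
    tr A f m n h (a m) = a n := by
  induction m, h using Nat.le_induction with
  | base => rw [tr_self]; rfl
  | succ m hm ih =>
    rw [tr_succ A f hm]
    change tr A f m n hm (f m (a (m + 1))) = a n
    rw [ha, ih]

/-- the limit of the system is the limit of a shifted system -/
theorem limit_of_shift (n₀ : ℕ) (hf : ∀ n, Function.Surjective (f n))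
    (h : ∃ (S : CRing Λ k) (π : ∀ n, HomSet S.carrier S.res (A (n₀ + n))),
      (∀ n, HomSet.map (f (n₀ + n)) (π (n + 1)) = π n) ∧
      (∀ n, Function.Surjective (π n).1) ∧
      (∀ a : ∀ n, A (n₀ + n), (∀ n, f (n₀ + n) (a (n + 1)) = a n) →
        ∃! s : S.carrier, ∀ n, (π n).1 s = a n) ∧
      (∀ n, ∃ N, RingHom.ker (π N).1 ≤ maximalIdeal S.carrier ^ n) ∧
      (∀ n, ∃ N, maximalIdeal S.carrier ^ N ≤ RingHom.ker (π n).1)) :
    ∃ (S : CRing Λ k) (π : ∀ n, HomSet S.carrier S.res (A n)),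
      (∀ n, HomSet.map (f n) (π (n + 1)) = π n) ∧
      (∀ n, Function.Surjective (π n).1) ∧
      (∀ a : ∀ n, A n, (∀ n, f n (a (n + 1)) = a n) →
        ∃! s : S.carrier, ∀ n, (π n).1 s = a n) ∧
      (∀ n, ∃ N, RingHom.ker (π N).1 ≤ maximalIdeal S.carrier ^ n) ∧
      (∀ n, ∃ N, maximalIdeal S.carrier ^ N ≤ RingHom.ker (π n).1) := by
  obtain ⟨S, π', hc', hs', hex', h4', h5'⟩ := h
  have hc'a : ∀ n s, f (n₀ + n) ((π' (n + 1)).1 s) = (π' n).1 s := fun n s =>
    congrArg (fun t : HomSet S.carrier S.res (A (n₀ + n)) => t.1 s) (hc' n)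
  have L1 : ∀ (j m : ℕ) (h : j ≤ m) (s : S.carrier), (π' j).1 s =
      tr A f (n₀ + m) (n₀ + j) (Nat.add_le_add_left h n₀) ((π' m).1 s) := by
    intro j m h s
    induction m, h using Nat.le_induction with
    | base => rw [tr_self]; rfl
    | succ m hm ih =>
      rw [ih, ← hc'a m s]
      have e := tr_succ A f (Nat.add_le_add_left hm n₀)
      exact (congrArg (fun u : A (n₀ + m + 1) ⟶ A (n₀ + j) => u ((π' (m + 1)).1 s)) e).symm
  let π : ∀ n, HomSet S.carrier S.res (A n) := fun n =>
    HomSet.map (tr A f (n₀ + n) n (Nat.le_add_left n n₀)) (π' n)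
  have hπa : ∀ n s, (π n).1 s = tr A f (n₀ + n) n (Nat.le_add_left n n₀) ((π' n).1 s) :=
    fun _ _ => rfl
  have hπshift : ∀ j s, (π (n₀ + j)).1 s = (π' j).1 s := by
    intro j s
    rw [hπa, L1 j (n₀ + j) (Nat.le_add_left j n₀) s]
  refine ⟨S, π, ?_, ?_, ?_, ?_, ?_⟩
  · intro n
    apply homSet_ext
    intro s
    change f n ((π (n + 1)).1 s) = (π n).1 s
    rw [hπa, hπa, ← hc'a n s]
    have e1 : tr A f (n₀ + (n + 1)) (n + 1) (Nat.le_add_left (n + 1) n₀) ≫ f n =
        tr A f (n₀ + (n + 1)) n ((Nat.le_succ n).trans (Nat.le_add_left (n + 1) n₀)) := by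
      rw [← tr_succ' A f n, tr_comp]
    have e2 : f (n₀ + n) ≫ tr A f (n₀ + n) n (Nat.le_add_left n n₀) =
        tr A f (n₀ + (n + 1)) n ((Nat.le_succ n).trans (Nat.le_add_left (n + 1) n₀)) := by
      rw [← tr_succ' A f (n₀ + n), tr_comp]
      rfl
    exact (congrArg (fun u : A (n₀ + (n + 1)) ⟶ A n => u ((π' (n + 1)).1 s)) e1).trans
      (congrArg (fun u : A (n₀ + (n + 1)) ⟶ A n => u ((π' (n + 1)).1 s)) e2).symm
  · intro n x
    obtain ⟨y, rfl⟩ := tr_surjective A f hf (Nat.le_add_left n n₀) x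
    obtain ⟨s, hs⟩ := hs' n y
    exact ⟨s, by rw [hπa, hs]⟩
  · intro a ha
    obtain ⟨s, hs, hsu⟩ := hex' (fun n => a (n₀ + n)) (fun n => ha (n₀ + n))
    refine ⟨s, fun n => ?_, fun s' hs' => ?_⟩
    · rw [hπa, hs n]
      exact tr_apply_compat A f a ha _
    · apply hsu
      intro j
      rw [← hπshift]
      exact hs' (n₀ + j)
  · intro n
    obtain ⟨N, hN⟩ := h4' n
    refine ⟨n₀ + N, fun s hs => hN ?_⟩
    rw [RingHom.mem_ker] at hs ⊢
    rw [← hπshift]
    exact hs
  · intro n
    obtain ⟨N, hN⟩ := h5' n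
    refine ⟨N, hN.trans fun s hs => ?_⟩
    rw [RingHom.mem_ker] at hs ⊢
    rw [hπa, hs]
    exact map_zero (tr A f (n₀ + n) n (Nat.le_add_left n n₀)).toAlgHom

end Transition

section Stabilise

/-- a surjection between Artinian local algebras with the same embedding dimension has its kernel
in the square of the maximal ideal -/
theorem ker_le_sq_of_spanFinrank_eq {A B : Art Λ k} (f : B ⟶ A) (hf : Function.Surjective f)
    (h : (maximalIdeal B).spanFinrank = (maximalIdeal A).spanFinrank) :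
    RingHom.ker f.toAlgHom ≤ maximalIdeal B ^ 2 := by
  classical
  intro z hz
  by_contra hz2
  have hzf : f z = 0 := hz
  have hfg : (maximalIdeal B).FG := IsNoetherian.noetherian _
  obtain ⟨s, hscard, hsspan⟩ := Submodule.FG.exists_span_finset_card_eq_spanFinrank hfg
  have hzm : z ∈ maximalIdeal B := by
    rw [Art.mem_maximalIdeal_iff, ← Art.res_app f, hzf, map_zero]
  have hsm : ∀ x ∈ s, x ∈ maximalIdeal B := fun x hx => by
    rw [← hsspan]; exact Submodule.subset_span hx
  have hzs : z ∈ Submodule.span B (s : Set B) := by rw [hsspan]; exact hzm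
  obtain ⟨c, -, hc⟩ := Submodule.mem_span_finset.1 hzs
  have hex : ∃ x₀ ∈ s, IsUnit (c x₀) := by
    by_contra hno
    push Not at hno
    apply hz2
    rw [← hc, pow_two]
    refine Ideal.sum_mem _ fun x hx => ?_
    rw [smul_eq_mul]
    exact Ideal.mul_mem_mul ((IsLocalRing.mem_maximalIdeal _).2 (hno x hx)) (hsm x hx)
  obtain ⟨x₀, hx₀, hu⟩ := hex
  let T : Ideal A := Ideal.span ((fun x => f x) '' ((s.erase x₀ : Finset B) : Set B))
  have hfx : ∀ x ∈ s, f x ∈ T := by
    intro x hx
    by_cases hxx : x = x₀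
    · subst hxx
      have hsum : f (c x) * f x + ∑ y ∈ s.erase x, f (c y) * f y = 0 := by
        have := congrArg (fun b => f b) hc
        simp only [map_sum, smul_eq_mul, map_mul] at this
        rw [hzf] at this
        rw [← this]
        exact Finset.add_sum_erase s (fun y => f (c y) * f y) hx
      have hmem : f (c x) * f x ∈ T := by
        have : f (c x) * f x = - ∑ y ∈ s.erase x, f (c y) * f y := eq_neg_of_add_eq_zero_left hsum
        rw [this]
        refine T.neg_mem (Ideal.sum_mem _ fun y hy => ?_)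
        exact Ideal.mul_mem_left _ _ (Ideal.subset_span ⟨y, hy, rfl⟩)
      exact (Ideal.unit_mul_mem_iff_mem T (hu.map f.toAlgHom)).1 hmem
    · exact Ideal.subset_span ⟨x, Finset.mem_erase.2 ⟨hxx, hx⟩, rfl⟩
  have hT : T = maximalIdeal A := by
    apply le_antisymm
    · rw [Ideal.span_le]
      rintro _ ⟨x, hx, rfl⟩
      exact art_hom_mem_maximalIdeal f (hsm x (Finset.mem_of_mem_erase hx))
    · rw [← IsLocalRing.map_maximalIdeal_of_surjective (f.toAlgHom : B →+* A) hf,
        Ideal.map_le_iff_le_comap, ← hsspan]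
      change Ideal.span (s : Set B) ≤ _
      rw [Ideal.span_le]
      intro x hx
      exact hfx x hx
  have h1 : (maximalIdeal A).spanFinrank ≤ (s.erase x₀).card := by
    rw [← hT]
    refine (Submodule.spanFinrank_span_le_ncard_of_finite
      ((s.erase x₀).finite_toSet.image _)).trans ?_
    refine (Set.ncard_image_le (s.erase x₀).finite_toSet).trans ?_
    rw [Set.ncard_coe_finset]
  have h2 : (s.erase x₀).card = s.card - 1 := Finset.card_erase_of_mem hx₀
  have h3 : 0 < s.card := Finset.card_pos.2 ⟨x₀, hx₀⟩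
  omega

variable [IsNoetherianRing Λ] [Module.Finite Λ k]

/-- the limit of a surjective system of Artinian local algebras of bounded embedding dimension is a
complete local Noetherian algebra -/
theorem exists_limit (A : ℕ → Art Λ k) (f : ∀ n, A (n + 1) ⟶ A n)
    (hf : ∀ n, Function.Surjective (f n)) (d : ℕ)
    (hd : ∀ n, Module.finrank (IsLocalRing.ResidueField (A n))
      (IsLocalRing.CotangentSpace (A n)) ≤ d) :
    ∃ (S : CRing Λ k) (π : ∀ n, HomSet S.carrier S.res (A n)),
      (∀ n, HomSet.map (f n) (π (n + 1)) = π n) ∧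
      (∀ n, Function.Surjective (π n).1) ∧
      (∀ a : ∀ n, A n, (∀ n, f n (a (n + 1)) = a n) →
        ∃! s : S.carrier, ∀ n, (π n).1 s = a n) ∧
      (∀ n, ∃ N, RingHom.ker (π N).1 ≤ maximalIdeal S.carrier ^ n) ∧
      (∀ n, ∃ N, maximalIdeal S.carrier ^ N ≤ RingHom.ker (π n).1) := by
  classical
  let μ : ℕ → ℕ := fun n => (maximalIdeal (A n)).spanFinrank
  have hμd : ∀ n, μ n ≤ d := fun n => by
    haveI : IsNoetherianRing (A n) := inferInstance
    change (maximalIdeal (A n)).spanFinrank ≤ d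
    rw [IsLocalRing.spanFinrank_maximalIdeal_eq_finrank_cotangentSpace]
    exact hd n
  have hμmono : ∀ n, μ n ≤ μ (n + 1) := fun n => by
    have h1 := Ideal.spanFinrank_map_le_of_fg ((f n).toAlgHom : A (n + 1) →+* A n)
      (I := maximalIdeal (A (n + 1))) (IsNoetherian.noetherian _)
    rw [IsLocalRing.map_maximalIdeal_of_surjective ((f n).toAlgHom : A (n + 1) →+* A n) (hf n)]
      at h1
    exact h1
  obtain ⟨n₀, hn₀⟩ : ∃ n₀, ∀ n, μ n ≤ μ n₀ := by
    by_contra hcon
    push Not at hcon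
    have : ∀ c, ∃ n, c ≤ μ n := by
      intro c
      induction c with
      | zero => exact ⟨0, Nat.zero_le _⟩
      | succ c ih =>
        obtain ⟨n, hn⟩ := ih
        obtain ⟨n', hn'⟩ := hcon n
        exact ⟨n', by omega⟩
    obtain ⟨n, hn⟩ := this (d + 1)
    have := hμd n
    omega
  have hμmono' : Monotone μ := monotone_nat_of_le_succ hμmono
  have hstable : ∀ j, μ (n₀ + j + 1) = μ (n₀ + j) := fun j =>
    le_antisymm ((hn₀ _).trans (hμmono' (Nat.le_add_right n₀ j))) (hμmono _)
  have hker : ∀ j, RingHom.ker (f (n₀ + j)).toAlgHom ≤ maximalIdeal (A (n₀ + j + 1)) ^ 2 :=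
    fun j => ker_le_sq_of_spanFinrank_eq (f (n₀ + j)) (hf _) (hstable j)
  exact limit_of_shift A f n₀ hf
    (stable_limit (fun j => A (n₀ + j)) (fun j => f (n₀ + j)) (fun j => hf _) hker)

end Stabilise

end Groth.Agent.H6.CRingOps
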