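import Mathlib
import Groth.Prelude.Def_EtRam
import Groth.Agent.Lib.Helper8.ASK.ShC

/-!
# Finite étale algebras over a DVR are (tamely, indeed un-) ramified at every place
-/

set_option autoImplicit false
universe u

namespace Groth.Agent.H6.CTame

open IsLocalRing

section Unram

variable {A : Type u} [CommRing A] [IsLocalRing A]
  {B' : Type u} [CommRing B'] [Algebra A B'] [Algebra.Etale A B']

/-- Unramifiedness, elementwise: for a prime `q` of the étale algebra `B'` lying over the maximal
ideal, an element of `q` becomes, after multiplication by an element outside `q`, a combination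
of elements of the maximal ideal of `A`. -/
theorem exists_mul_mem_map (q : Ideal B') [q.IsPrime]
    (hq : (maximalIdeal A).map (algebraMap A B') ≤ q) (b : B') (hb : b ∈ q) :
    ∃ c : B', c ∉ q ∧ c * b ∈ (maximalIdeal A).map (algebraMap A B') := by
  set S := Localization.AtPrime q with hS
  haveI : Algebra.FormallyUnramified B' S := Algebra.FormallyUnramified.of_isLocalization q.primeCompl
  haveI : Algebra.FormallyUnramified A S := Algebra.FormallyUnramified.comp A B' S
  haveI : Algebra.EssFiniteType B' S := Algebra.EssFiniteType.of_isLocalization S q.primeCompl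
  haveI : Algebra.EssFiniteType A S := Algebra.EssFiniteType.comp A B' S
  haveI : IsLocalHom (algebraMap A S) := by
    constructor
    intro a ha
    by_contra hna
    have h1 : a ∈ maximalIdeal A := hna
    have h2 : algebraMap A B' a ∈ q := hq (Ideal.mem_map_of_mem _ h1)
    have h3 : algebraMap B' S (algebraMap A B' a) ∈ maximalIdeal S := by
      rw [← Localization.AtPrime.map_eq_maximalIdeal]
      exact Ideal.mem_map_of_mem _ h2
    rw [IsScalarTower.algebraMap_apply A B' S] at ha
    exact h3 ha
  have hmap : (maximalIdeal A).map (algebraMap A S) = maximalIdeal S :=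
    Algebra.FormallyUnramified.map_maximalIdeal
  have hb' : algebraMap B' S b ∈ (maximalIdeal A).map (algebraMap A S) := by
    rw [hmap, ← Localization.AtPrime.map_eq_maximalIdeal]
    exact Ideal.mem_map_of_mem _ hb
  rw [IsScalarTower.algebraMap_eq A B' S, ← Ideal.map_map] at hb'
  rw [IsLocalization.mem_map_algebraMap_iff q.primeCompl] at hb'
  obtain ⟨⟨⟨x, hx⟩, ⟨c, hc⟩⟩, hxc⟩ := hb'
  simp only at hxc
  rw [← map_mul, IsLocalization.eq_iff_exists q.primeCompl] at hxc
  obtain ⟨⟨c', hc'⟩, hcc⟩ := hxc
  simp only at hcc
  refine ⟨c' * c, q.primeCompl.mul_mem hc' hc, ?_⟩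
  have : c' * c * b = c' * x := by rw [← hcc]; ring
  rw [this]
  exact Ideal.mul_mem_left _ _ hx

end Unram

end Groth.Agent.H6.CTame
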