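import Mathlib
import Groth.Prelude.Def_EtRam
import Groth.Agent.Lib.Helper8.ASK.ShC
import Groth.Agent.Lib.Helper6.CTame1

/-!
# Finite étale algebras over a DVR are tamely ramified at every place (algebra form)
-/

set_option autoImplicit false
universe u

namespace Groth.Agent.H6.CTame

open IsLocalRing

set_option maxHeartbeats 1000000 in
/-- Let `A` be a DVR, `B'` an integral étale `A`-algebra and `ψ : B' → E` a ring map to a field
extending the injection `g : A → E`, such that `E` is generated (as a ring of fractions with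
denominators in `A`) by the image of `B'`.  Then `E` is tamely ramified with respect to `A`. -/
theorem tame_of_etale (A : Type u) [CommRing A] [IsDomain A] [IsDiscreteValuationRing A]
    (B' : Type u) [CommRing B'] [Algebra A B'] [Algebra.Etale A B'] [Algebra.IsIntegral A B']
    (E : Type u) [Field E] (g : A →+* E) (hg : Function.Injective g)
    (ψ : B' →+* E) (hψ : ∀ a, ψ (algebraMap A B' a) = g a)
    (hgen : ∀ e : E, ∃ (b : B') (a : A), a ≠ 0 ∧ e * g a = ψ b) :
    EtRam.IsTamelyRamified A g := by
  classical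
  intro V hV
  letI algAV : Algebra A V := (RingHom.codRestrict g V hV.1).toAlgebra
  intro hloc
  have hAV : ∀ a : A, ((algebraMap A V a : V) : E) = g a := fun _ => rfl
  -- the image of `B'` lies in `V`
  have hψV : ∀ b : B', ψ b ∈ V := by
    intro b
    have hint : IsIntegral V (ψ b) := by
      obtain ⟨P, hPm, hP⟩ := Algebra.IsIntegral.isIntegral (R := A) b
      refine ⟨P.map (algebraMap A V), hPm.map _, ?_⟩
      rw [Polynomial.eval₂_map]
      have h1 : (algebraMap V E).comp (algebraMap A V) = ψ.comp (algebraMap A B') := by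
        ext a
        simp only [RingHom.comp_apply, hψ]
        rfl
      rw [h1, ← Polynomial.hom_eval₂, hP, map_zero]
    obtain ⟨v, hv⟩ := IsIntegrallyClosed.isIntegral_iff.mp hint
    rw [← hv]
    exact v.2
  set ψV : B' →+* V := ψ.codRestrict V hψV with hψVdef
  have hψVc : ∀ b, ((ψV b : V) : E) = ψ b := fun _ => rfl
  have hψVA : ∀ a, ψV (algebraMap A B' a) = algebraMap A V a := fun a =>
    Subtype.ext (by rw [hψVc, hψ, hAV])
  set q : Ideal B' := (maximalIdeal V).comap ψV with hqdef
  haveI : q.IsPrime := Ideal.comap_isPrime _ _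
  have hmA : ∀ a ∈ maximalIdeal A, algebraMap A V a ∈ maximalIdeal V := by
    intro a ha
    exact ((local_hom_TFAE (algebraMap A V)).out 0 2 rfl rfl).mp hloc
      (Ideal.mem_map_of_mem _ ha)
  have hq : (maximalIdeal A).map (algebraMap A B') ≤ q := by
    rw [Ideal.map_le_iff_le_comap]
    intro a ha
    show ψV (algebraMap A B' a) ∈ maximalIdeal V
    rw [hψVA]
    exact hmA a ha
  obtain ⟨π, hπ⟩ := IsDiscreteValuationRing.exists_irreducible A
  have hπm : maximalIdeal A = Ideal.span {π} := hπ.maximalIdeal_eq
  have hπ0 : π ≠ 0 := hπ.ne_zero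
  have hgπ0 : g π ≠ 0 := fun h => hπ0 (hg (by rw [h, map_zero]))
  have hπV : algebraMap A V π ∈ maximalIdeal V := hmA π (by rw [hπm]; exact Ideal.mem_span_singleton_self π)
  -- unramifiedness, elementwise
  have hunr : ∀ b ∈ q, ∃ c b₁ : B', c ∉ q ∧ c * b = algebraMap A B' π * b₁ := by
    intro b hb
    obtain ⟨c, hc, hcb⟩ := exists_mul_mem_map q hq b hb
    rw [hπm, Ideal.map_span, Set.image_singleton, Ideal.mem_span_singleton'] at hcb
    obtain ⟨b₁, hb₁⟩ := hcb
    exact ⟨c, b₁, hc, by rw [← hb₁, mul_comm]⟩
  have hunit : ∀ c : B', c ∉ q → IsUnit (ψV c) := by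
    intro c hc
    by_contra hnu
    exact hc hnu
  -- key induction
  have key : ∀ (n : ℕ) (v : E), v ∈ V → ∀ b : B', v * g π ^ n = ψ b →
      ∃ b' c : B', c ∉ q ∧ v * ψ c = ψ b' := by
    intro n
    induction n with
    | zero =>
      intro v _ b hb
      refine ⟨b, 1, fun h => ?_, by rw [map_one, mul_one, ← hb, pow_zero, mul_one]⟩
      exact (Ideal.IsPrime.ne_top inferInstance) ((Ideal.eq_top_iff_one q).mpr h)
    | succ n ih =>
      intro v hv b hb
      have hbq : b ∈ q := by
        show ψV b ∈ maximalIdeal V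
        have h1 : ψV b = ⟨v, hv⟩ * (algebraMap A V π) ^ (n + 1) := by
          apply Subtype.ext
          rw [hψVc, ← hb]
          simp [hAV]
        rw [h1, pow_succ, ← mul_assoc]
        exact Ideal.mul_mem_left _ _ hπV
      obtain ⟨c₁, b₁, hc₁, hcb⟩ := hunr b hbq
      have h2 : (v * ψ c₁) * g π ^ n = ψ b₁ := by
        have h3 : (v * ψ c₁) * g π ^ n * g π = ψ b₁ * g π := by
          have : ψ (c₁ * b) = ψ (algebraMap A B' π * b₁) := by rw [hcb]
          rw [map_mul, map_mul, hψ, ← hb] at this
          rw [pow_succ] at this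
          linear_combination this
        exact mul_right_cancel₀ hgπ0 h3
      obtain ⟨b', c', hc', hbc'⟩ := ih (v * ψ c₁) (V.mul_mem _ _ hv (hψV c₁)) b₁ h2
      refine ⟨b', c₁ * c', fun h => ?_, by rw [map_mul, ← mul_assoc]; exact hbc'⟩
      rcases Ideal.IsPrime.mem_or_mem inferInstance h with h | h
      · exact hc₁ h
      · exact hc' h
  have hfrac : ∀ v : E, v ∈ V → ∃ b c : B', c ∉ q ∧ v * ψ c = ψ b := by
    intro v hv
    obtain ⟨b, a, ha, hab⟩ := hgen v
    obtain ⟨n, u, hu⟩ := IsDiscreteValuationRing.eq_unit_mul_pow_irreducible ha hπ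
    have h1 : v * g π ^ n = ψ (b * algebraMap A B' ((u⁻¹ : Aˣ) : A)) := by
      rw [map_mul, hψ, ← hab, hu, map_mul, map_pow]
      have : g (u : A) * g ((u⁻¹ : Aˣ) : A) = 1 := by rw [← map_mul, Units.mul_inv, map_one]
      linear_combination (-(v * g π ^ n)) * this
    obtain ⟨b', c, hc, hbc⟩ := key n v hv _ h1
    exact ⟨b', c, hc, hbc⟩
  -- weak unramifiedness
  have hmV : maximalIdeal V = Ideal.span {algebraMap A V π} := by
    apply le_antisymm
    · intro v hv
      obtain ⟨b, c, hc, hbc⟩ := hfrac (v : E) v.2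
      have hbq : b ∈ q := by
        show ψV b ∈ maximalIdeal V
        have : ψV b = v * ψV c := Subtype.ext (by rw [hψVc]; simp only [MulMemClass.coe_mul, hψVc]; exact hbc.symm)
        rw [this]
        exact Ideal.mul_mem_right _ _ hv
      obtain ⟨c₁, b₁, hc₁, hcb⟩ := hunr b hbq
      obtain ⟨w, hw⟩ := (hunit c hc).mul (hunit c₁ hc₁)
      rw [Ideal.mem_span_singleton']
      refine ⟨ψV b₁ * ((w⁻¹ : Vˣ) : V), ?_⟩
      have h4 : v * (w : V) = algebraMap A V π * ψV b₁ := by
        rw [hw]
        apply Subtype.ext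
        have : ψ (c₁ * b) = ψ (algebraMap A B' π * b₁) := by rw [hcb]
        rw [map_mul, map_mul, hψ, ← hbc] at this
        simp only [MulMemClass.coe_mul, hψVc, hAV]
        linear_combination this
      calc ψV b₁ * ((w⁻¹ : Vˣ) : V) * algebraMap A V π
          = (algebraMap A V π * ψV b₁) * ((w⁻¹ : Vˣ) : V) := by ring
        _ = v * ((w : V) * ((w⁻¹ : Vˣ) : V)) := by rw [← h4]; ring
        _ = v := by rw [Units.mul_inv, mul_one]
    · rw [Ideal.span_singleton_le_iff_mem]
      exact hπV
  have hπV0 : algebraMap A V π ≠ 0 := fun h => hgπ0 (by rw [← hAV, h]; rfl)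
  refine ⟨?_, ?_⟩
  · -- separability of the residue field extension
    let φ : B' →ₐ[A] ResidueField V :=
      { ((residue V).comp ψV) with
        commutes' := fun a => by
          show residue V (ψV (algebraMap A B' a)) = _
          rw [hψVA]
          rfl }
    have hφ : ∀ b, φ b = residue V (ψV b) := fun _ => rfl
    rw [← separableClosure.eq_top_iff, eq_top_iff]
    intro x _
    obtain ⟨v, rfl⟩ := residue_surjective x
    obtain ⟨b, c, hc, hbc⟩ := hfrac (v : E) v.2
    have h1 : residue V v * φ c = φ b := by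
      rw [hφ, hφ, ← map_mul]
      congr 1
      exact Subtype.ext (by simp only [MulMemClass.coe_mul, hψVc]; exact hbc)
    have hc0 : φ c ≠ 0 := by
      rw [hφ]
      exact ((hunit c hc).map (residue V)).ne_zero
    have h2 : residue V v = φ b / φ c := by rw [eq_div_iff hc0]; exact h1
    rw [h2]
    exact div_mem (mem_separableClosure_iff.mpr (Groth.Agent.H8.Sh.isSeparable_of_etale φ b))
      (mem_separableClosure_iff.mpr (Groth.Agent.H8.Sh.isSeparable_of_etale φ c))
  · -- the ramification index is one
    intro p hp _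
    have hmap : (maximalIdeal A).map (algebraMap A V) = maximalIdeal V := by
      rw [hπm, Ideal.map_span, Set.image_singleton, hmV]
    have he : Ideal.ramificationIdx' (maximalIdeal A) (maximalIdeal V) = 1 := by
      apply Ideal.ramificationIdx'_spec
      · rw [pow_one, hmap]
      · rw [hmap]
        intro hle
        have h1 : algebraMap A V π ∈ maximalIdeal V ^ 2 := hle hπV
        rw [hmV, Ideal.span_singleton_pow, Ideal.mem_span_singleton'] at h1
        obtain ⟨w, hw⟩ := h1
        have h2 : algebraMap A V π * (w * algebraMap A V π - 1) = 0 := by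
          linear_combination hw
        rcases mul_eq_zero.mp h2 with h | h
        · exact hπV0 h
        · have hu : IsUnit (algebraMap A V π) :=
            .of_mul_eq_one w (by linear_combination h)
          exact hπV hu
    rw [he]
    exact fun h => hp.one_lt.ne' (Nat.dvd_one.mp h)

end Groth.Agent.H6.CTame
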