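import Mathlib
import Groth.Prelude.Def_EtRam
import Groth.Agent.Lib.Helper6.CTame2

/-!
# Finite étale covers of a proper scheme are tamely ramified at every place
-/

set_option autoImplicit false
universe u

namespace Groth.Agent.H6.CTame

open AlgebraicGeometry CategoryTheory CategoryTheory.Limits IsLocalRing

/-- From generation as a field to the fraction form. -/
theorem hgen_of_adjoin {Kx E : Type u} [Field Kx] [Field E] [Algebra Kx E]
    (A : ValuationSubring Kx) {B' : Type u} [CommRing B'] [Algebra A B'] [Algebra.IsIntegral A B']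
    (ψ : B' →+* E) (hψ : ∀ a : A, ψ (algebraMap A B' a) = algebraMap Kx E (a : Kx))
    (htop : IntermediateField.adjoin Kx (Set.range ψ) = ⊤) (e : E) :
    ∃ (b : B') (a : A), a ≠ 0 ∧ e * algebraMap Kx E (a : Kx) = ψ b := by
  have halg : ∀ x ∈ Set.range ψ, IsAlgebraic Kx x := by
    rintro _ ⟨b, rfl⟩
    obtain ⟨P, hPm, hP⟩ := Algebra.IsIntegral.isIntegral (R := A) b
    have hint : IsIntegral Kx (ψ b) := by
      refine ⟨P.map A.subtype, hPm.map _, ?_⟩
      rw [Polynomial.eval₂_map]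
      have h1 : (algebraMap Kx E).comp A.subtype = ψ.comp (algebraMap A B') := by
        ext a
        simp only [RingHom.comp_apply, hψ]
        rfl
      rw [h1, ← Polynomial.hom_eval₂, hP, map_zero]
    exact hint.isAlgebraic
  have he : e ∈ Algebra.adjoin Kx (Set.range ψ) := by
    rw [← IntermediateField.adjoin_toSubalgebra_of_isAlgebraic halg, htop]
    trivial
  induction he using Algebra.adjoin_induction with
  | mem x hx =>
    obtain ⟨b, rfl⟩ := hx
    exact ⟨b, 1, one_ne_zero, by simp⟩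
  | algebraMap r =>
    rcases A.mem_or_inv_mem r with hr | hr
    · exact ⟨algebraMap A B' ⟨r, hr⟩, 1, one_ne_zero, by rw [hψ]; simp⟩
    · by_cases hr0 : r = 0
      · exact ⟨0, 1, one_ne_zero, by simp [hr0]⟩
      · refine ⟨1, ⟨r⁻¹, hr⟩, fun h => ?_, ?_⟩
        · have : (r⁻¹ : Kx) = 0 := congrArg Subtype.val h
          exact hr0 (inv_eq_zero.mp this)
        · rw [map_one, ← map_mul]
          show algebraMap Kx E (r * r⁻¹) = 1
          rw [mul_inv_cancel₀ hr0, map_one]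
  | add x y _ _ hx hy =>
    obtain ⟨b₁, a₁, ha₁, h₁⟩ := hx
    obtain ⟨b₂, a₂, ha₂, h₂⟩ := hy
    refine ⟨algebraMap A B' a₂ * b₁ + algebraMap A B' a₁ * b₂, a₁ * a₂, mul_ne_zero ha₁ ha₂, ?_⟩
    rw [map_add, map_mul, map_mul, hψ, hψ, ← h₁, ← h₂]
    show _ * algebraMap Kx E ((a₁ : Kx) * (a₂ : Kx)) = _
    rw [map_mul]
    ring
  | mul x y _ _ hx hy =>
    obtain ⟨b₁, a₁, ha₁, h₁⟩ := hx
    obtain ⟨b₂, a₂, ha₂, h₂⟩ := hy
    refine ⟨b₁ * b₂, a₁ * a₂, mul_ne_zero ha₁ ha₂, ?_⟩
    rw [map_mul, ← h₁, ← h₂]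
    show _ * algebraMap Kx E ((a₁ : Kx) * (a₂ : Kx)) = _
    rw [map_mul]
    ring

end Groth.Agent.H6.CTame
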