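import Mathlib
import Groth.Prelude.Def_EtRam
import Groth.Agent.Lib.Helper6.CTame3

/-!
# Finite étale covers of a proper scheme are tamely ramified at every place
-/

set_option autoImplicit false
universe u

namespace Groth.Agent.H6.CTame

open AlgebraicGeometry CategoryTheory CategoryTheory.Limits IsLocalRing

set_option maxHeartbeats 2000000 in
theorem main (k : Type u) [Field k] {X Y : Scheme.{u}} (s : X ⟶ Spec (CommRingCat.of k))
    [IsProper s] (f : Y ⟶ X) [IsFinite f] [Etale f] (y : Y)
    (A : ValuationSubring (X.residueField (f.base y))) [IsDiscreteValuationRing A]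
    (a : Spec (CommRingCat.of A) ⟶ Spec (CommRingCat.of k))
    (ha : Spec.map (CommRingCat.ofHom A.subtype) ≫ a = X.fromSpecResidueField (f.base y) ≫ s) :
    EtRam.IsTamelyRamified A ((f.residueFieldMap y).hom.comp A.subtype) := by
  classical
  -- valuative criterion
  have hex : ValuativeCriterion.Existence s := by
    have h : UniversallyClosed s := inferInstance
    rw [UniversallyClosed.eq_valuativeCriterion] at h
    exact h.1
  let S : ValuativeCommSq s :=
    { R := A, K := X.residueField (f.base y), i₁ := X.fromSpecResidueField (f.base y), i₂ := a,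
      commSq := ⟨ha.symm⟩ }
  obtain ⟨⟨l, hl₁, hl₂⟩⟩ := (hex S).exists_lift
  have hl₁' : Spec.map (CommRingCat.ofHom A.subtype) ≫ l = X.fromSpecResidueField (f.base y) :=
    hl₁
  set g : A →+* Y.residueField y := (f.residueFieldMap y).hom.comp A.subtype with hg
  have hcomm : Y.fromSpecResidueField y ≫ f = Spec.map (CommRingCat.ofHom g) ≫ l := by
    have h1 : CommRingCat.ofHom g = CommRingCat.ofHom A.subtype ≫ f.residueFieldMap y := rfl
    rw [h1, Spec.map_comp, Category.assoc, hl₁',
      Scheme.Hom.SpecMap_residueFieldMap_fromSpecResidueField]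
  haveI : IsAffine (pullback f l) := isAffine_of_isAffineHom (pullback.snd f l)
  let t : Spec (Y.residueField y) ⟶ pullback f l :=
    pullback.lift (Y.fromSpecResidueField y) (Spec.map (CommRingCat.ofHom g)) hcomm
  let φ₀ : CommRingCat.of A ⟶ Γ(pullback f l, ⊤) :=
    (Scheme.ΓSpecIso (CommRingCat.of A)).inv ≫ (pullback.snd f l).appTop
  let ψ₀ : Γ(pullback f l, ⊤) ⟶ Y.residueField y :=
    t.appTop ≫ (Scheme.ΓSpecIso (Y.residueField y)).hom
  have hφψ : φ₀ ≫ ψ₀ = CommRingCat.ofHom g := by
    simp only [φ₀, ψ₀, Category.assoc]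
    rw [← Scheme.Hom.comp_appTop_assoc, pullback.lift_snd, Scheme.ΓSpecIso_naturality,
      Iso.inv_hom_id_assoc]
    rfl
  have hSpecψ : Spec.map ψ₀ ≫ (pullback f l).isoSpec.inv = t := by
    simp only [ψ₀, Spec.map_comp, Category.assoc]
    rw [Scheme.isoSpec_inv_naturality, ← Scheme.isoSpec_Spec_hom, Iso.hom_inv_id_assoc]
  -- algebra structures
  letI algAB : Algebra A Γ(pullback f l, ⊤) := φ₀.hom.toAlgebra
  have hAB : ∀ a : A, algebraMap A Γ(pullback f l, ⊤) a = φ₀.hom a := fun _ => rfl
  have hetale : RingHom.Etale φ₀.hom := by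
    have h1 : RingHom.Etale (pullback.snd f l).appTop.hom :=
      (HasRingHomProperty.iff_of_isAffine (P := @Etale)).mp inferInstance
    exact (RingHom.Etale.respectsIso.cancel_left_isIso
      (Scheme.ΓSpecIso (CommRingCat.of A)).inv (pullback.snd f l).appTop).mpr h1
  haveI : Algebra.Etale A Γ(pullback f l, ⊤) := hetale
  have hfin : φ₀.hom.Finite := by
    have h1 : (pullback.snd f l).appTop.hom.Finite := Scheme.Hom.finite_appTop _
    exact (RingHom.finite_respectsIso.cancel_left_isIso
      (Scheme.ΓSpecIso (CommRingCat.of A)).inv (pullback.snd f l).appTop).mpr h1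
  haveI : Module.Finite A Γ(pullback f l, ⊤) := hfin
  haveI : Algebra.IsIntegral A Γ(pullback f l, ⊤) := Algebra.IsIntegral.of_finite _ _
  letI algK : Algebra (X.residueField (f.base y)) (Y.residueField y) :=
    (f.residueFieldMap y).hom.toAlgebra
  have hψ : ∀ a : A, ψ₀.hom (algebraMap A Γ(pullback f l, ⊤) a) = g a := by
    intro a
    rw [hAB]
    exact congrArg (fun h => h.hom a) hφψ
  have hginj : Function.Injective g :=
    (f.residueFieldMap y).hom.injective.comp Subtype.val_injective
  -- generation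
  have htop : IntermediateField.adjoin (X.residueField (f.base y)) (Set.range ψ₀.hom) = ⊤ := by
    set E₀ : IntermediateField (X.residueField (f.base y)) (Y.residueField y) :=
      IntermediateField.adjoin (X.residueField (f.base y)) (Set.range ψ₀.hom) with hE₀
    let ψE : Γ(pullback f l, ⊤) →+* E₀ :=
      RingHom.codRestrict ψ₀.hom E₀ (fun b => IntermediateField.subset_adjoin _ _ ⟨b, rfl⟩)
    let incl : E₀ →+* Y.residueField y := algebraMap E₀ (Y.residueField y)
    have hψE : CommRingCat.ofHom ψE ≫ CommRingCat.ofHom incl = ψ₀ := rfl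
    let h₀ : Spec (CommRingCat.of E₀) ⟶ Y :=
      Spec.map (CommRingCat.ofHom ψE) ≫ (pullback f l).isoSpec.inv ≫ pullback.fst f l
    have hh₀ : Spec.map (CommRingCat.ofHom incl) ≫ h₀ = Y.fromSpecResidueField y := by
      simp only [h₀]
      rw [← Category.assoc, ← Spec.map_comp, hψE, ← Category.assoc, hSpecψ, pullback.lift_fst]
    set pp := Scheme.SpecToEquivOfField E₀ Y h₀ with hpp
    have hpp' : Spec.map pp.2 ≫ Y.fromSpecResidueField pp.1 = h₀ :=
      (Scheme.SpecToEquivOfField E₀ Y).left_inv h₀
    have h2 : (Scheme.SpecToEquivOfField (Y.residueField y) Y).symm ⟨y, 𝟙 _⟩ =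
        (Scheme.SpecToEquivOfField (Y.residueField y) Y).symm
          ⟨pp.1, pp.2 ≫ CommRingCat.ofHom incl⟩ := by
      show Spec.map (𝟙 _) ≫ Y.fromSpecResidueField y =
        Spec.map (pp.2 ≫ CommRingCat.ofHom incl) ≫ Y.fromSpecResidueField pp.1
      rw [Spec.map_id, Category.id_comp, Spec.map_comp, Category.assoc, hpp', hh₀]
    have h3 := (Scheme.SpecToEquivOfField (Y.residueField y) Y).symm.injective h2
    rw [Scheme.SpecToEquivOfField_eq_iff] at h3
    obtain ⟨e, he⟩ := h3
    rw [eq_top_iff]
    intro z _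
    have h4 : z = incl (pp.2.hom ((Y.residueFieldCongr e).hom.hom z)) := by
      have := congrArg (fun h => h.hom z) he
      exact this
    rw [h4]
    exact (pp.2.hom ((Y.residueFieldCongr e).hom.hom z)).2
  refine tame_of_etale A Γ(pullback f l, ⊤) (Y.residueField y) g hginj ψ₀.hom hψ ?_
  intro e
  exact hgen_of_adjoin A ψ₀.hom (fun a => hψ a) htop e

end Groth.Agent.H6.CTame
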