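import Mathlib
import Groth.Agent.Lib.Helper6.InjHullQuot
import Groth.Agent.Lib.Helper6.InjHullLocal

/-! Injective hulls under ring isomorphisms and surjections of local rings. -/

universe u
set_option linter.unusedSectionVars false
open InjHull IsLocalRing

namespace Groth.Agent.H6

namespace CanGQ

section RingEquiv

variable {Q R : Type u} [CommRing Q] [CommRing R] (e : Q ≃+* R)
variable {M E : Type u} [AddCommGroup M] [Module R M] [AddCommGroup E] [Module R E]
  [Module Q M] [Module Q E]

/-- injectivity is invariant under ring isomorphisms -/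
theorem injective_of_ringEquiv (hE : ∀ (q : Q) (x : E), q • x = e q • x)
    [Module.Injective R E] : Module.Injective Q E := by
  refine Module.Baer.injective ?_
  intro J h
  let J' : Ideal R := J.comap (e.symm : R →+* Q)
  have hmem : ∀ j : J', e.symm (j : R) ∈ J := fun j => j.2
  let h' : J' →ₗ[R] E :=
    { toFun := fun j => h ⟨e.symm (j : R), hmem j⟩
      map_add' := fun j j' => by
        have : (⟨e.symm ((j + j' : J') : R), hmem (j + j')⟩ : J) =
            ⟨e.symm (j : R), hmem j⟩ + ⟨e.symm (j' : R), hmem j'⟩ := by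
          apply Subtype.ext
          simp
        rw [this, map_add]
      map_smul' := fun r j => by
        have : (⟨e.symm ((r • j : J') : R), hmem (r • j)⟩ : J) =
            e.symm r • ⟨e.symm (j : R), hmem j⟩ := by
          apply Subtype.ext
          simp
        rw [this, map_smul, hE, e.apply_symm_apply]
        rfl }
  obtain ⟨k, hk⟩ := Module.Injective.extension_property R E J' R J'.subtype
    (Submodule.injective_subtype J') h'
  let k' : Q →ₗ[Q] E :=
    { toFun := fun q => k (e q)
      map_add' := fun q q' => by rw [map_add, map_add]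
      map_smul' := fun q q' => by
        rw [smul_eq_mul, map_mul, ← smul_eq_mul, map_smul, hE]
        rfl }
  refine ⟨k', fun x hx => ?_⟩
  have hx' : e x ∈ J' := by
    change e.symm (e x) ∈ J
    rw [e.symm_apply_apply]
    exact hx
  have h1 := LinearMap.congr_fun hk ⟨e x, hx'⟩
  change k (e x) = _
  change k (e x) = h' ⟨e x, hx'⟩ at h1
  rw [h1]
  change h ⟨e.symm (e x), _⟩ = _
  congr 1
  apply Subtype.ext
  exact e.symm_apply_apply x

/-- injective hulls are invariant under ring isomorphisms -/
theorem hull_of_ringEquiv (hE : ∀ (q : Q) (x : E), q • x = e q • x)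
    {f : M →ₗ[R] E} (hf : IsInjectiveHull f) (f' : M →ₗ[Q] E) (hff' : ∀ x, f' x = f x) :
    IsInjectiveHull f' := by
  haveI := hf.isInjective
  refine ⟨(IH.isEssentialInj_iff f').mpr ⟨?_, ?_⟩, injective_of_ringEquiv e hE⟩
  · intro x y hxy
    rw [hff', hff'] at hxy
    exact hf.injective hxy
  · intro y hy
    obtain ⟨r, hr0, x, hx⟩ := ((IH.isEssentialInj_iff f).mp hf.toIsEssentialInj).2 y hy
    refine ⟨e.symm r, ?_, x, ?_⟩
    · rw [hE, e.apply_symm_apply]
      exact hr0
    · rw [hE, e.apply_symm_apply, hff']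
      exact hx

end RingEquiv


section Surj

variable {S R : Type u} [CommRing S] [CommRing R] [IsLocalRing S] [IsLocalRing R] [Algebra S R]
variable {E : Type u} [AddCommGroup E] [Module R E] [Module S E] [IsScalarTower S R E]
variable {ES : Type u} [AddCommGroup ES] [Module S ES]

/-- for a surjection `S → R` of local rings, the injective hull of the residue field of `R` is the
submodule of the injective hull over `S` killed by the kernel -/
theorem exists_hull_equiv_torsion (hg : Function.Surjective (algebraMap S R))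
    {f : (R ⧸ maximalIdeal R) →ₗ[R] E} (hf : IsInjectiveHull f)
    {fS : (S ⧸ maximalIdeal S) →ₗ[S] ES} (hfS : IsInjectiveHull fS) :
    Nonempty (E ≃ₗ[S] Submodule.torsionBySet S ES
      ((RingHom.ker (algebraMap S R) : Ideal S) : Set S)) := by
  set I : Ideal S := RingHom.ker (algebraMap S R) with hI
  let eqv : (S ⧸ I) ≃+* R := RingHom.quotientKerEquivOfSurjective hg
  have heqv : ∀ s : S, eqv (Ideal.Quotient.mk I s) = algebraMap S R s := fun s => rfl
  haveI : IsLocalRing (S ⧸ I) := eqv.symm.isLocalRing
  obtain ⟨g₁, hg₁⟩ := IH.exists_hull_torsionBySet_residue I hfS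
  letI mQE : Module (S ⧸ I) E := Module.compHom E (eqv : (S ⧸ I) →+* R)
  have hE : ∀ (q : S ⧸ I) (x : E), q • x = eqv q • x := fun _ _ => rfl
  letI mQk : Module (S ⧸ I) (R ⧸ maximalIdeal R) :=
    Module.compHom (R ⧸ maximalIdeal R) (eqv : (S ⧸ I) →+* R)
  have hk : ∀ (q : S ⧸ I) (x : R ⧸ maximalIdeal R), q • x = eqv q • x := fun _ _ => rfl
  let f' : (R ⧸ maximalIdeal R) →ₗ[S ⧸ I] E :=
    { toFun := f
      map_add' := f.map_add
      map_smul' := fun q x => f.map_smul (eqv q) x }
  have hf' : IsInjectiveHull f' := hull_of_ringEquiv eqv hE hf f' (fun _ => rfl)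
  let ρ₀ : ResidueField (S ⧸ I) ≃+* ResidueField R := ResidueField.mapEquiv eqv
  let ρ : ResidueField (S ⧸ I) ≃ₗ[S ⧸ I] (R ⧸ maximalIdeal R) :=
    { ρ₀.toAddEquiv with
      map_smul' := fun q x => by
        change ρ₀ (q • x) = eqv q • ρ₀ x
        rw [Algebra.smul_def, map_mul, Algebra.smul_def]
        rfl }
  obtain ⟨c, -⟩ := IH.exists_equiv_of_hulls (IH.hull_comp_equiv hf' ρ) hg₁
  refine ⟨{ c.toAddEquiv with map_smul' := fun s x => ?_ }⟩
  change c (s • x) = s • c x
  have h1 : s • x = (Ideal.Quotient.mk I s) • x := by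
    rw [hE, heqv, algebraMap_smul]
  rw [h1, map_smul]
  rfl

end Surj

end CanGQ

end Groth.Agent.H6
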