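import Groth.Agent.Lib.Helper6.CanGQ2

/-! The explicit canonical module `R ⊗_S Ext^{dim S - dim R}_S(R, S)` of a quotient `R` of a
Gorenstein local ring `S`; congruence of `Ext` along isomorphisms. -/

universe u
set_option linter.unusedSectionVars false
open InjHull IsLocalRing CategoryTheory CategoryTheory.Abelian TensorProduct

namespace Groth.Agent.H6.CanLoc

/-- `Ext` is invariant under isomorphisms in both variables (linear version) -/
noncomputable def extCongr {C : Type*} [Category C] [Abelian C] [HasExt C] (R : Type*) [CommRing R]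
    [Linear R C] {X X' Y Y' : C} (e : X ≅ X') (e' : Y ≅ Y') (n : ℕ) :
    Ext X Y n ≃ₗ[R] Ext X' Y' n :=
  LinearEquiv.ofLinearMap
    ((Ext.precompOfLinear (Ext.mk₀ e.inv) R Y' (zero_add n)) ∘ₗ
      (Ext.postcompOfLinear (Ext.mk₀ e'.hom) R X (add_zero n)))
    ((Ext.precompOfLinear (Ext.mk₀ e.hom) R Y (zero_add n)) ∘ₗ
      (Ext.postcompOfLinear (Ext.mk₀ e'.inv) R X' (add_zero n)))
    (by
      ext α
      simp only [LinearMap.comp_apply, LinearMap.id_apply, Ext.bilinearCompOfLinear_apply_apply,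
        LinearMap.flip_apply]
      rw [Ext.comp_assoc_of_third_deg_zero, Ext.comp_assoc_of_third_deg_zero, Ext.mk₀_comp_mk₀,
        e'.inv_hom_id, Ext.comp_mk₀_id, Ext.mk₀_comp_mk₀_assoc, e.inv_hom_id, Ext.mk₀_id_comp])
    (by
      ext α
      simp only [LinearMap.comp_apply, LinearMap.id_apply, Ext.bilinearCompOfLinear_apply_apply,
        LinearMap.flip_apply]
      rw [Ext.comp_assoc_of_third_deg_zero, Ext.comp_assoc_of_third_deg_zero, Ext.mk₀_comp_mk₀,
        e'.hom_inv_id, Ext.comp_mk₀_id, Ext.mk₀_comp_mk₀_assoc, e.hom_inv_id, Ext.mk₀_id_comp])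

set_option maxHeartbeats 800000 in
/-- the explicit canonical module of a quotient of a Gorenstein local ring -/
theorem can_ext (R : Type u) [CommRing R] [IsNoetherianRing R] [IsLocalRing R] (n : ℕ)
    (hn : ringKrullDim R = n) (E : Type u) [AddCommGroup E] [Module R E]
    (f : IsLocalRing.ResidueField R →ₗ[R] E) (hf : InjHull.IsInjectiveHull f) (S : Type u)
    [CommRing S] [LocCoh.IsGorensteinLocalRing S] [Algebra S R]
    (hg' : Function.Surjective (algebraMap S R)) (N : ℕ) (hN : ringKrullDim S = N) :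
    Nonempty (((R ⊗[S] (Ext (ModuleCat.of S R) (ModuleCat.of S S) (N - n))) →ₗ[R] E) ≃ₗ[R]
      LocCoh.H (IsLocalRing.maximalIdeal R) n R) := by
  haveI : Module.Finite S R := Module.Finite.of_surjective (Algebra.linearMap S R) hg'
  letI : Module S E := Module.compHom E (algebraMap S R)
  haveI : IsScalarTower S R E := ⟨fun s r x => by
    change (s • r) • x = (algebraMap S R s) • (r • x)
    rw [Algebra.smul_def, mul_smul]⟩
  have hnN : n ≤ N := by
    have := ringKrullDim_le_of_surjective (algebraMap S R) hg'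
    rw [hn, hN] at this
    exact_mod_cast this
  obtain ⟨ES, _, _, fS, hfS⟩ := IH.exists_injectiveHull (R := S) (S ⧸ maximalIdeal S)
  obtain ⟨ld⟩ := LD.local_duality_gorenstein N hN ES fS hfS R (N - n) n (by omega)
  -- `X` is killed by the kernel
  have hIX : ∀ s ∈ RingHom.ker (algebraMap S R),
      ∀ α : Ext (ModuleCat.of S R) (ModuleCat.of S S) (N - n), s • α = 0 := fun s hs α =>
    Bass.smul_ext_eq_zero (ModuleCat.of S R) (ModuleCat.of S S) s (fun r => by
      change s • (r : R) = 0
      rw [Algebra.smul_def, hs, zero_mul]) (N - n) α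
  obtain ⟨c⟩ := CanGQ.exists_hull_equiv_torsion hg' hf hfS
  -- the kernel-torsion part of `ES`
  let T : Submodule S ES :=
    Submodule.torsionBySet S ES ((RingHom.ker (algebraMap S R) : Ideal S) : Set S)
  -- `Hom(X, T) ≅ Hom(X, ES)`
  let e2 : (Ext (ModuleCat.of S R) (ModuleCat.of S S) (N - n) →ₗ[S] T) ≃ₗ[S]
      (Ext (ModuleCat.of S R) (ModuleCat.of S S) (N - n) →ₗ[S] ES) :=
    LinearEquiv.ofBijective (LinearMap.compRight S T.subtype) (by
      constructor
      · intro l l' h
        ext x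
        exact LinearMap.congr_fun h x
      · intro l
        refine ⟨LinearMap.codRestrict T l (fun x => ?_), ?_⟩
        · rw [Submodule.mem_torsionBySet_iff]
          rintro ⟨s, hs⟩
          change s • l x = 0
          rw [← map_smul, hIX s hs, map_zero]
        · ext x
          rfl)
  let e1' : (Ext (ModuleCat.of S R) (ModuleCat.of S S) (N - n) →ₗ[S] E) ≃ₗ[S]
      (Ext (ModuleCat.of S R) (ModuleCat.of S S) (N - n) →ₗ[S] T) :=
    LinearEquiv.arrowCongr (LinearEquiv.refl S _) c
  let K := R ⊗[S] (Ext (ModuleCat.of S R) (ModuleCat.of S S) (N - n))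
  let e1 : (Ext (ModuleCat.of S R) (ModuleCat.of S S) (N - n) →ₗ[S] E) ≃ₗ[R] (K →ₗ[R] E) :=
    LinearMap.liftBaseChangeEquiv R
  -- independence of the base
  obtain ⟨φ, hφ⟩ := Groth.Agent.S11614.result S R (maximalIdeal S) R n
  have hmap : Ideal.map (algebraMap S R) (maximalIdeal S) = maximalIdeal R := by
    rcases Ideal.map_eq_top_or_isMaximal_of_surjective _ hg' (maximalIdeal.isMaximal S) with h | h
    · exfalso
      haveI : IsLocalHom (algebraMap S R) := IsLocalHom.of_surjective _ hg'
      have hle := IsLocalRing.map_maximalIdeal_le (algebraMap S R)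
      rw [h] at hle
      exact (maximalIdeal.isMaximal R).ne_top (top_le_iff.mp hle)
    · exact IsLocalRing.eq_maximalIdeal h
  obtain ⟨cst⟩ := CanGQ.H_congr_ideal R n hmap
  -- the chain
  let Ψ : (K →ₗ[R] E) ≃+ LocCoh.H (maximalIdeal R) n R :=
    e1.symm.toAddEquiv.trans (e1'.toAddEquiv.trans (e2.toAddEquiv.trans
      (ld.symm.toAddEquiv.trans (φ.symm.trans cst.toAddEquiv))))
  refine ⟨?_⟩
  refine AddEquiv.toLinearEquiv Ψ (fun r ψ => ?_)
  obtain ⟨s, rfl⟩ := hg' r
  have h1 : e1.symm (algebraMap S R s • ψ) = s • e1.symm ψ := by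
    rw [map_smul]
    ext x
    exact algebraMap_smul R s ((e1.symm ψ) x)
  have h2 : ∀ z : LocCoh.H (maximalIdeal S) n R, φ.symm (s • z) = algebraMap S R s • φ.symm z := by
    intro z
    apply φ.injective
    rw [hφ, AddEquiv.apply_symm_apply, AddEquiv.apply_symm_apply]
  change cst (φ.symm (ld.symm (e2 (e1' (e1.symm (algebraMap S R s • ψ)))))) =
    algebraMap S R s • cst (φ.symm (ld.symm (e2 (e1' (e1.symm ψ)))))
  rw [h1, map_smul, map_smul, map_smul, h2, map_smul]

end Groth.Agent.H6.CanLoc
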