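import Groth.Agent.Lib.Helper6.CanLoc1
import Groth.Agent.Lib.Helper6.ExtBaseChange

universe u
set_option linter.unusedSectionVars false
open InjHull IsLocalRing CategoryTheory CategoryTheory.Abelian TensorProduct

namespace Groth.Agent.H6.CanLoc

variable {S R : Type u} [CommRing S] [CommRing R] [Algebra S R] [IsNoetherianRing S]
  [IsNoetherianRing R]

attribute [local instance] Localization.AtPrime.algebraOfLiesOver

variable (hπ : Function.Surjective (algebraMap S R)) (p : Ideal R) [p.IsPrime]

include hπ in
/-- `R_p` is the base change of `R` to `S_P` -/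
theorem nonempty_baseChange_equiv :
    Nonempty ((Localization.AtPrime (p.under S)) ⊗[S] R ≃ₗ[Localization.AtPrime (p.under S)]
      Localization.AtPrime p) := by
  have hS : Algebra.algebraMapSubmonoid R (p.under S).primeCompl = p.primeCompl :=
    Submonoid.map_comap_eq_of_surjective hπ p.primeCompl
  haveI hloc : IsLocalizedModule (Algebra.algebraMapSubmonoid R (p.under S).primeCompl)
      (Algebra.linearMap R (Localization.AtPrime p)) := by
    rw [hS]; infer_instance
  haveI := IsLocalizedModule.restrictScalars (R := S) (p.under S).primeCompl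
    (Algebra.linearMap R (Localization.AtPrime p))
  exact ⟨(IsLocalizedModule.isBaseChange (p.under S).primeCompl (Localization.AtPrime (p.under S))
    ((Algebra.linearMap R (Localization.AtPrime p)).restrictScalars S)).equiv⟩

include hπ in
/-- localization of the explicit canonical module -/
theorem nonempty_loc_equiv [Module.Finite S R] (c : ℕ) :
    Nonempty (LocalizedModule p.primeCompl (R ⊗[S] (Ext (ModuleCat.of S R) (ModuleCat.of S S) c))
      ≃ₗ[Localization.AtPrime p]
      (Localization.AtPrime p) ⊗[Localization.AtPrime (p.under S)]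
        (Ext (ModuleCat.of (Localization.AtPrime (p.under S)) (Localization.AtPrime p))
          (ModuleCat.of (Localization.AtPrime (p.under S)) (Localization.AtPrime (p.under S))) c)) := by
  set B := Localization.AtPrime p with hB
  set T := Localization.AtPrime (p.under S) with hT
  set X := Ext (ModuleCat.of S R) (ModuleCat.of S S) c with hX
  let e1 : LocalizedModule p.primeCompl (R ⊗[S] X) ≃ₗ[B] B ⊗[R] (R ⊗[S] X) :=
    (IsLocalizedModule.isBaseChange p.primeCompl B
      (LocalizedModule.mkLinearMap p.primeCompl (R ⊗[S] X))).equiv.symm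
  let e3 : B ⊗[R] (R ⊗[S] X) ≃ₗ[B] B ⊗[S] X :=
    TensorProduct.AlgebraTensorModule.cancelBaseChange S R B B X
  let e4 : B ⊗[S] X ≃ₗ[B] B ⊗[T] (T ⊗[S] X) :=
    (TensorProduct.AlgebraTensorModule.cancelBaseChange S T B B X).symm
  obtain ⟨e5⟩ := ExtBC.nonempty_equiv (A := S) (B := T) R S c
  obtain ⟨eR⟩ := nonempty_baseChange_equiv hπ p
  let eS : T ⊗[S] S ≃ₗ[T] T := TensorProduct.AlgebraTensorModule.rid S T T
  let e6 := extCongr T eR.toModuleIso eS.toModuleIso c
  exact ⟨e1.trans (e3.trans (e4.trans
    (TensorProduct.AlgebraTensorModule.congr (LinearEquiv.refl B B) (e5.trans e6))))⟩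

end Groth.Agent.H6.CanLoc
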