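import Mathlib
import Groth.Agent.Lib.Helper6.EWCompare
import Groth.Agent.Lib.Helper6.InjHullLocal

/-! Uniqueness of the canonical module of a Noetherian local ring (no completion needed):
uses the natural isomorphism `H^n_m(M) ≃ Hom(Hom(M, K), E)`. -/

universe u
open IsLocalRing InjHull

namespace Groth.Agent.H6.CanUniq

variable {R : Type u} [CommRing R] [IsNoetherianRing R] [IsLocalRing R]
variable {E : Type u} [AddCommGroup E] [Module R E] {f : (R ⧸ maximalIdeal R) →ₗ[R] E}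

/-- functionals killed by the maximal ideal -/
def Soc {N : Type u} [AddCommGroup N] [Module R N] (l : N →ₗ[R] E) : Prop :=
  ∀ a ∈ maximalIdeal R, a • l = 0

theorem Soc.map {N N' : Type u} [AddCommGroup N] [Module R N] [AddCommGroup N'] [Module R N']
    {l : N →ₗ[R] E} (hl : Soc l) (T : (N →ₗ[R] E) →ₗ[R] (N' →ₗ[R] E)) : Soc (T l) := by
  intro a ha
  rw [← map_smul, hl a ha, map_zero]

theorem Soc.mapEquiv {N N' : Type u} [AddCommGroup N] [Module R N] [AddCommGroup N'] [Module R N']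
    {l : N →ₗ[R] E} (hl : Soc l) (T : (N →ₗ[R] E) ≃ₗ[R] (N' →ₗ[R] E)) : Soc (T l) := by
  intro a ha
  rw [← map_smul, hl a ha, map_zero]

theorem Soc.comp {N N' : Type u} [AddCommGroup N] [Module R N] [AddCommGroup N'] [Module R N']
    {l : N →ₗ[R] E} (hl : Soc l) (h : N' →ₗ[R] N) : Soc (l ∘ₗ h) := by
  intro a ha
  rw [← LinearMap.smul_comp, hl a ha, LinearMap.zero_comp]

theorem smul_top_le_ker {N : Type u} [AddCommGroup N] [Module R N] {l : N →ₗ[R] E} (hl : Soc l) :
    maximalIdeal R • (⊤ : Submodule R N) ≤ LinearMap.ker l := by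
  rw [Submodule.smul_le]
  intro a ha x _
  rw [LinearMap.mem_ker, map_smul]
  have := LinearMap.congr_fun (hl a ha) x
  simpa using this

/-- separation: an element killed by all socle functionals lies in `m N` -/
theorem mem_smul_top_of_forall (hf : IsInjectiveHull f) {N : Type u} [AddCommGroup N] [Module R N]
    (x : N) (h : ∀ l : N →ₗ[R] E, Soc l → l x = 0) :
    x ∈ maximalIdeal R • (⊤ : Submodule R N) := by
  haveI := hf.isInjective
  by_contra hx
  have hx0 : (maximalIdeal R • (⊤ : Submodule R N)).mkQ x ≠ 0 := by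
    rwa [Ne, Submodule.mkQ_apply, Submodule.Quotient.mk_eq_zero]
  obtain ⟨φ, hφ⟩ := IH.exists_hom_apply_ne_zero f hf.injective hx0
  refine hφ (h (φ ∘ₗ (maximalIdeal R • (⊤ : Submodule R N)).mkQ) ?_)
  intro a ha
  ext y
  change a • φ (Submodule.Quotient.mk y) = 0
  rw [← map_smul, ← Submodule.Quotient.mk_smul,
    (Submodule.Quotient.mk_eq_zero _).mpr (Submodule.smul_mem_smul ha Submodule.mem_top), map_zero]

/-- representation: every functional on `Hom(N, E)` is, on socle functionals, evaluation at an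
element of the finite module `N` -/
theorem exists_rep (hf : IsInjectiveHull f) (N : Type u) [AddCommGroup N] [Module R N]
    [Module.Finite R N] (L : (N →ₗ[R] E) →ₗ[R] E) :
    ∃ g : N, ∀ l : N →ₗ[R] E, Soc l → L l = l g := by
  set P : Submodule R N := maximalIdeal R • (⊤ : Submodule R N) with hP
  have hfl : IsFiniteLength R (N ⧸ P) := by
    apply IH.isFiniteLength_of_powerTorsion
    intro v
    refine ⟨1, fun a ha => ?_⟩
    rw [pow_one] at ha
    obtain ⟨y, rfl⟩ := Submodule.Quotient.mk_surjective _ v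
    rw [← Submodule.Quotient.mk_smul, Submodule.Quotient.mk_eq_zero]
    exact Submodule.smul_mem_smul ha Submodule.mem_top
  obtain ⟨v, hv⟩ := (IH.eval_bijective_of_finiteLength hf (N ⧸ P) hfl).2
    (L ∘ₗ LinearMap.lcomp R E P.mkQ)
  obtain ⟨g, rfl⟩ := Submodule.Quotient.mk_surjective _ v
  refine ⟨g, fun l hl => ?_⟩
  have h1 := LinearMap.congr_fun hv (P.liftQ l (smul_top_le_ker hl))
  rw [LinearMap.applyₗ_apply_apply, Submodule.liftQ_apply, LinearMap.comp_apply] at h1
  rw [h1]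
  congr 1

/-- Nakayama: an endomorphism congruent to the identity modulo `m` is bijective -/
theorem bijective_of_sub_id_mem {K : Type u} [AddCommGroup K] [Module R K] [Module.Finite R K]
    (h : K →ₗ[R] K)
    (hh : h - LinearMap.id ∈ maximalIdeal R • (⊤ : Submodule R (K →ₗ[R] K))) :
    Function.Bijective h := by
  have hsurj : Function.Surjective h := by
    rw [← LinearMap.range_eq_top, eq_top_iff]
    apply Submodule.le_of_le_smul_of_le_jacobson_bot (I := maximalIdeal R) Module.Finite.fg_top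
      (IsLocalRing.maximalIdeal_le_jacobson _)
    intro k _
    have hk : (h - LinearMap.id : K →ₗ[R] K) k ∈ maximalIdeal R • (⊤ : Submodule R K) := by
      have h2 : (LinearMap.applyₗ k : (K →ₗ[R] K) →ₗ[R] K) (h - LinearMap.id) ∈
          Submodule.map (LinearMap.applyₗ k : (K →ₗ[R] K) →ₗ[R] K)
            (maximalIdeal R • (⊤ : Submodule R (K →ₗ[R] K))) := Submodule.mem_map_of_mem hh
      rw [Submodule.map_smul''] at h2
      exact Submodule.smul_mono le_rfl le_top h2
    have : k = h k - (h - LinearMap.id : K →ₗ[R] K) k := by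
      rw [LinearMap.sub_apply, LinearMap.id_apply]; abel
    rw [this]
    exact Submodule.sub_mem _ (Submodule.mem_sup_left (LinearMap.mem_range_self h k))
      (Submodule.mem_sup_right hk)
  exact ⟨OrzechProperty.injective_of_surjective_endomorphism h hsurj, hsurj⟩

variable (K K' : Type u) [AddCommGroup K] [Module R K] [Module.Finite R K]
  [AddCommGroup K'] [Module R K'] [Module.Finite R K']

/-- abstract uniqueness from a natural isomorphism `Hom(Hom(-,K),E) ≃ Hom(Hom(-,K'),E)` -/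
theorem core (hf : IsInjectiveHull f)
    (ΘK : ((K →ₗ[R] K) →ₗ[R] E) ≃ₗ[R] ((K →ₗ[R] K') →ₗ[R] E))
    (ΘK' : ((K' →ₗ[R] K) →ₗ[R] E) ≃ₗ[R] ((K' →ₗ[R] K') →ₗ[R] E))
    (nat1 : ∀ (h : K →ₗ[R] K') (ξ : (K →ₗ[R] K) →ₗ[R] E),
      ΘK' (ξ ∘ₗ LinearMap.lcomp R K h) = (ΘK ξ) ∘ₗ LinearMap.lcomp R K' h)
    (nat2 : ∀ (h : K' →ₗ[R] K) (ξ : (K' →ₗ[R] K) →ₗ[R] E),
      ΘK (ξ ∘ₗ LinearMap.lcomp R K h) = (ΘK' ξ) ∘ₗ LinearMap.lcomp R K' h) :
    Nonempty (K ≃ₗ[R] K') := by
  obtain ⟨g, hg⟩ := exists_rep hf (K →ₗ[R] K')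
    ((LinearMap.applyₗ (LinearMap.id : K →ₗ[R] K)) ∘ₗ (ΘK.symm : _ →ₗ[R] _))
  obtain ⟨g', hg'⟩ := exists_rep hf (K' →ₗ[R] K)
    ((LinearMap.applyₗ (LinearMap.id : K' →ₗ[R] K')) ∘ₗ (ΘK' : _ →ₗ[R] _))
  have hg2 : ∀ l : (K →ₗ[R] K') →ₗ[R] E, Soc l → (ΘK.symm l) LinearMap.id = l g := hg
  have hg2' : ∀ l : (K' →ₗ[R] K) →ₗ[R] E, Soc l → (ΘK' l) LinearMap.id = l g' := hg'
  -- claim 1
  have c1 : ∀ μ : (K' →ₗ[R] K') →ₗ[R] E, Soc μ → μ (g ∘ₗ g') = μ LinearMap.id := by
    intro μ hμ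
    have hν : Soc (ΘK'.symm μ) := hμ.mapEquiv ΘK'.symm
    have e1 : μ LinearMap.id = (ΘK'.symm μ) g' := by
      rw [← hg2' _ hν, LinearEquiv.apply_symm_apply]
    have hl : Soc (μ ∘ₗ LinearMap.lcomp R K' g') := hμ.comp _
    have e2 : ΘK.symm (μ ∘ₗ LinearMap.lcomp R K' g') = (ΘK'.symm μ) ∘ₗ LinearMap.lcomp R K g' := by
      rw [LinearEquiv.symm_apply_eq, nat2, LinearEquiv.apply_symm_apply]
    have e3 := hg2 _ hl
    rw [e2] at e3
    change (ΘK'.symm μ) (LinearMap.id ∘ₗ g') = μ (g ∘ₗ g') at e3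
    rw [← e3, e1, LinearMap.id_comp]
  -- claim 2
  have c2 : ∀ μ : (K →ₗ[R] K) →ₗ[R] E, Soc μ → μ (g' ∘ₗ g) = μ LinearMap.id := by
    intro μ hμ
    have hl : Soc (ΘK μ) := hμ.mapEquiv ΘK
    have e1 : μ LinearMap.id = (ΘK μ) g := by
      rw [← hg2 _ hl, LinearEquiv.symm_apply_apply]
    have hν : Soc (μ ∘ₗ LinearMap.lcomp R K g) := hμ.comp _
    have e3 := hg2' _ hν
    rw [nat1] at e3
    change (ΘK μ) (LinearMap.id ∘ₗ g) = μ (g' ∘ₗ g) at e3
    rw [← e3, e1, LinearMap.id_comp]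
  have b1 : Function.Bijective (g ∘ₗ g') := by
    apply bijective_of_sub_id_mem
    apply mem_smul_top_of_forall hf
    intro μ hμ
    rw [map_sub, c1 μ hμ, sub_self]
  have b2 : Function.Bijective (g' ∘ₗ g) := by
    apply bijective_of_sub_id_mem
    apply mem_smul_top_of_forall hf
    intro μ hμ
    rw [map_sub, c2 μ hμ, sub_self]
  refine ⟨LinearEquiv.ofBijective g ⟨?_, ?_⟩⟩
  · have := b2.1
    rw [LinearMap.coe_comp] at this
    exact Function.Injective.of_comp this
  · have := b1.2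
    rw [LinearMap.coe_comp] at this
    exact Function.Surjective.of_comp this

/-- **S7691**: uniqueness of the canonical module -/
theorem unique (n : ℕ) (hn : ringKrullDim R = n) (hf : IsInjectiveHull f)
    (eK : (K →ₗ[R] E) ≃ₗ[R] LocCoh.H (maximalIdeal R) n R)
    (eK' : (K' →ₗ[R] E) ≃ₗ[R] LocCoh.H (maximalIdeal R) n R) :
    Nonempty (K ≃ₗ[R] K') := by
  haveI : Module.Injective R E := hf.isInjective
  have hdim : ringKrullDim R ≤ (n : WithBot ℕ∞) := le_of_eq hn
  have key : ∀ (M M' : Type u) [AddCommGroup M] [Module R M] [Module.Finite R M]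
      [AddCommGroup M'] [Module R M'] [Module.Finite R M'] (h : M →ₗ[R] M')
      (ξ : (M →ₗ[R] K) →ₗ[R] E),
      ((EW.canEquiv (maximalIdeal R) n hdim E K eK M').symm.trans
        (EW.canEquiv (maximalIdeal R) n hdim E K' eK' M')) (ξ ∘ₗ LinearMap.lcomp R K h) =
      (((EW.canEquiv (maximalIdeal R) n hdim E K eK M).symm.trans
        (EW.canEquiv (maximalIdeal R) n hdim E K' eK' M)) ξ) ∘ₗ LinearMap.lcomp R K' h := by
    intro M M' _ _ _ _ _ _ h ξ
    set t := (EW.canEquiv (maximalIdeal R) n hdim E K eK M).symm ξ with ht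
    have h1 : EW.canEquiv (maximalIdeal R) n hdim E K eK M'
        (((localCohomology (maximalIdeal R) n).map (ModuleCat.ofHom h)).hom t) =
        ξ ∘ₗ LinearMap.lcomp R K h := by
      ext φ
      rw [EW.canEquiv_naturality, ht, LinearEquiv.apply_symm_apply]
      rfl
    rw [LinearEquiv.trans_apply, LinearEquiv.trans_apply, ← h1, LinearEquiv.symm_apply_apply]
    ext φ
    rw [EW.canEquiv_naturality]
    rfl
  exact core K K' hf _ _ (fun h ξ => key K K' h ξ) (fun h ξ => key K' K h ξ)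

end Groth.Agent.H6.CanUniq
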