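import Groth.Agent.Lib.Helper6.CanLoc2
import Groth.Agent.Lib.Helper6.CanUniq
import Groth.Agent.Lib.Helper6.LDLoc5
import Groth.Agent.Lib.Helper6.GorReg
import Groth.Agent.Lib.Helper6.CanReg

/-! Localization of the canonical module of a quotient of a Gorenstein local ring (S7697). -/

universe u
set_option linter.unusedSectionVars false
open InjHull IsLocalRing CategoryTheory CategoryTheory.Abelian TensorProduct

namespace Groth.Agent.H6.CanLoc

attribute [local instance] Localization.AtPrime.algebraOfLiesOver

/-- vanishing of low `Ext` into a Gorenstein local ring -/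
theorem ext_vanish (T : Type u) [CommRing T] [LocCoh.IsGorensteinLocalRing T] (N' : ℕ)
    (hN' : ringKrullDim T = N') (M : Type u) [AddCommGroup M] [Module T M] [Module.Finite T M]
    (h : ℕ) (hh : Module.supportDim T M ≤ (h : WithBot ℕ∞)) (i : ℕ) (hi : i + h < N') :
    Subsingleton (Ext (ModuleCat.of T M) (ModuleCat.of T T) i) := by
  obtain ⟨ES, _, _, fS, hfS⟩ := IH.exists_injectiveHull (R := T) (T ⧸ maximalIdeal T)
  obtain ⟨ld⟩ := LD.local_duality_gorenstein N' hN' ES fS hfS M i (N' - i) (by omega)
  have h0 : Subsingleton (LocCoh.H (maximalIdeal T) (N' - i) M) := by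
    apply LC.subsingleton_of_supportDim_lt
    refine lt_of_le_of_lt hh ?_
    have : h < N' - i := by omega
    exact_mod_cast this
  have h1 : Subsingleton (Ext (ModuleCat.of T M) (ModuleCat.of T T) i →ₗ[T] ES) :=
    ld.symm.toEquiv.subsingleton
  exact (LDL.subsingleton_dual_iff hfS _).mp h1

variable (R : Type u) [CommRing R] [IsNoetherianRing R] [IsLocalRing R] (n : ℕ)
  (hn : ringKrullDim R = n) (E : Type u) [AddCommGroup E] [Module R E]
  (f : IsLocalRing.ResidueField R →ₗ[R] E) (hf : InjHull.IsInjectiveHull f)
  (K : Type u) [AddCommGroup K] [Module R K] [Module.Finite R K]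
  (eK : (K →ₗ[R] E) ≃ₗ[R] LocCoh.H (IsLocalRing.maximalIdeal R) n R)
  (S : Type u) [CommRing S] [LocCoh.IsGorensteinLocalRing S] [Algebra S R]
  (hπ : Function.Surjective (algebraMap S R))

include hn hf eK hπ in
set_option maxHeartbeats 800000 in
/-- **S7697** (algebra form) -/
theorem can_localization (p : Ideal R) [p.IsPrime]
    (hp : Nontrivial (LocalizedModule p.primeCompl K)) (h : ℕ)
    (hh : ringKrullDim (Localization.AtPrime p) = h) (E' : Type u) [AddCommGroup E']
    [Module (Localization.AtPrime p) E']
    (f' : IsLocalRing.ResidueField (Localization.AtPrime p) →ₗ[Localization.AtPrime p] E')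
    (hf' : InjHull.IsInjectiveHull f') :
    Nonempty ((LocalizedModule p.primeCompl K →ₗ[Localization.AtPrime p] E') ≃ₗ[Localization.AtPrime p]
      LocCoh.H (IsLocalRing.maximalIdeal (Localization.AtPrime p)) h (Localization.AtPrime p)) := by
  haveI : Module.Finite S R := Module.Finite.of_surjective (Algebra.linearMap S R) hπ
  obtain ⟨N, hN⟩ := Bass.exists_ringKrullDim_eq (A := S)
  obtain ⟨e0⟩ := can_ext R n hn E f hf S hπ N hN
  obtain ⟨eKK⟩ := CanUniq.unique K (R ⊗[S] (Ext (ModuleCat.of S R) (ModuleCat.of S S) (N - n)))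
    n hn hf eK e0
  -- the localizations
  haveI hGT : LocCoh.IsGorensteinLocalRing (Localization.AtPrime (p.under S)) :=
    LDL.gor_localization (p.under S)
  haveI : IsNoetherianRing (Localization.AtPrime p) :=
    IsLocalization.isNoetherianRing p.primeCompl _ inferInstance
  obtain ⟨N', hN'⟩ := Bass.exists_ringKrullDim_eq (A := Localization.AtPrime (p.under S))
  have hπ' : Function.Surjective
      (algebraMap (Localization.AtPrime (p.under S)) (Localization.AtPrime p)) :=
    RingHom.surjective_localRingHom_of_surjective (algebraMap S R) hπ p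
  haveI : Module.Finite (Localization.AtPrime (p.under S)) (Localization.AtPrime p) :=
    Module.Finite.of_surjective (Algebra.linearMap _ _) hπ'
  obtain ⟨e1⟩ := can_ext (Localization.AtPrime p) h hh E' f' hf'
    (Localization.AtPrime (p.under S)) hπ' N' hN'
  obtain ⟨eloc⟩ := nonempty_loc_equiv hπ p (N - n)
  let eK0 : LocalizedModule p.primeCompl K ≃ₗ[Localization.AtPrime p]
      LocalizedModule p.primeCompl (R ⊗[S] (Ext (ModuleCat.of S R) (ModuleCat.of S S) (N - n))) :=
    IsLocalizedModule.mapEquiv p.primeCompl (LocalizedModule.mkLinearMap p.primeCompl K)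
      (LocalizedModule.mkLinearMap p.primeCompl _) (Localization.AtPrime p) eKK
  -- dimension bookkeeping
  obtain ⟨hP, e, hhP, he, hsum⟩ := LDL.ht_add_dim N hN (p.under S)
  have hN'P : N' = hP := by
    have := IsLocalization.AtPrime.ringKrullDim_eq_height (p.under S)
      (Localization.AtPrime (p.under S))
    rw [hN', hhP] at this
    exact_mod_cast this
  have hhp : ((p.height : ℕ∞) : WithBot ℕ∞) = h := by
    rw [← IsLocalization.AtPrime.ringKrullDim_eq_height p (Localization.AtPrime p), hh]
  have he' : ringKrullDim (R ⧸ p) = e := by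
    rw [← LDL.ringKrullDim_quotient_under hπ p, he]
  have hle := Bass.height_add_ringKrullDim_quotient_le (⟨p, inferInstance⟩ : PrimeSpectrum R)
  change ringKrullDim (R ⧸ p) + ((p.height : ℕ∞) : WithBot ℕ∞) ≤ _ at hle
  rw [he', hhp, hn] at hle
  have hle' : e + h ≤ n := by exact_mod_cast hle
  have hhN' : h ≤ N' := by
    have := ringKrullDim_le_of_surjective _ hπ'
    rw [hh, hN'] at this
    exact_mod_cast this
  have hcc : N - n = N' - h := by
    by_contra hne
    have hlt : (N - n) + h < N' := by omega
    have hsd : Module.supportDim (Localization.AtPrime (p.under S)) (Localization.AtPrime p) ≤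
        (h : WithBot ℕ∞) := by
      refine (CanReg.supportDim_le_of_kill (RingHom.ker
        (algebraMap (Localization.AtPrime (p.under S)) (Localization.AtPrime p))) _ ?_).trans ?_
      · intro r hr x
        rw [Algebra.smul_def, hr, zero_mul]
      · rw [ringKrullDim_eq_of_ringEquiv (RingHom.quotientKerEquivOfSurjective hπ'), hh]
    haveI := ext_vanish (Localization.AtPrime (p.under S)) N' hN' (Localization.AtPrime p) h hsd
      (N - n) hlt
    haveI : Subsingleton (LocalizedModule p.primeCompl K) :=
      (eK0.trans eloc).toEquiv.subsingleton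
    exact not_subsingleton _ ‹Subsingleton (LocalizedModule p.primeCompl K)›
  rw [← hcc] at e1
  exact ⟨(LinearEquiv.congrLeft E' (Localization.AtPrime p) (eK0.trans eloc)).trans e1⟩

end Groth.Agent.H6.CanLoc
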