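import Groth.Agent.Lib.Helper6.Canon
import Groth.Prelude.Def_AffAlg

set_option autoImplicit false
set_option linter.style.haveILetI false
universe u

open CategoryTheory CategoryTheory.Limits AlgebraicGeometry TopologicalSpace Opposite

noncomputable section

namespace Groth.Agent.H6.Canon

open AlgebraicGeometry.Scheme AlgebraicGeometry.Scheme.AffineZariskiSite RelSpec

variable {X S : Scheme.{u}}

lemma algHom_app {Y : Scheme.{u}} (f : X ⟶ S) (g : Y ⟶ S) (h : Y ⟶ X) (w : h ≫ f = g) (U : S.Opens) :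
    (AffAlg.algHom f g h w).app (op U) =
      h.appLE (f ⁻¹ᵁ U) (g ⁻¹ᵁ U) (by subst w; exact le_rfl) := by
  subst w
  simp [AffAlg.algHom, Scheme.Hom.appLE]
  rfl

lemma appLE_key {X Z : Scheme.{u}} (V : X.Opens) (c : X ⟶ Z) (W : Z.Opens) (hWV : V ≤ c ⁻¹ᵁ W)
    (ιU : Spec Γ(X, V) ⟶ Z) (hι : ⊤ ≤ ιU ⁻¹ᵁ W) (h1 : V.ι ≫ c = V.toSpecΓ ≫ ιU) :
    ιU.appLE W ⊤ hι ≫ (Scheme.ΓSpecIso Γ(X, V)).hom = c.appLE W V hWV := by
  have e1 : (⊤ : V.toScheme.Opens) ≤ (V.ι ≫ c) ⁻¹ᵁ W := by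
    rw [Scheme.Hom.comp_preimage]
    intro x _
    exact hWV x.2
  have e2 : (⊤ : V.toScheme.Opens) ≤ (V.toSpecΓ ≫ ιU) ⁻¹ᵁ W := h1 ▸ e1
  have h2 : (V.ι ≫ c).appLE W ⊤ e1 = (V.toSpecΓ ≫ ιU).appLE W ⊤ e2 := by
    congr 1
  have h3 : c.appLE W V hWV ≫ V.topIso.inv = (V.ι ≫ c).appLE W ⊤ e1 := by
    rw [← Scheme.Hom.appLE_comp_appLE _ _ _ V ⊤ hWV (by simp)]
    congr 1
    rw [Scheme.Opens.ι_appLE]
    rfl
  have h4 : (ιU.appLE W ⊤ hι ≫ (Scheme.ΓSpecIso Γ(X, V)).hom) ≫ V.topIso.inv =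
      (V.toSpecΓ ≫ ιU).appLE W ⊤ e2 := by
    rw [← Scheme.Hom.appLE_comp_appLE _ _ _ ⊤ ⊤ hι le_top, Category.assoc,
      ← Scheme.Opens.toSpecΓ_appTop]
    congr 1
    simp only [Scheme.Hom.appLE, Scheme.Hom.appTop]
    exact (Category.comp_id _).symm.trans (congrArg _ (CategoryTheory.Functor.map_id _ _).symm)
  rw [← cancel_mono V.topIso.inv, h3, h4, h2]

variable (f : X ⟶ S) [QuasiCompact f] [QuasiSeparated f]

theorem gammaAff_eq_appLE (U : S.Opens) (hU : IsAffineOpen U) :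
    (QCAlg.directImage f).gammaAff U hU =
      (canon f).appLE ((QCAlg.directImage f).π ⁻¹ᵁ U) (f ⁻¹ᵁ U) (by
        rw [← Scheme.Hom.comp_preimage, canon_π]) :=
  appLE_key (f ⁻¹ᵁ U) (canon f) ((QCAlg.directImage f).π ⁻¹ᵁ U) _ ((QCAlg.directImage f).ι U hU)
    ((QCAlg.directImage f).top_le_preimage U hU) (ι_canon f U hU)

/-- the canonical morphism induces the comparison map on direct image algebras. -/
theorem gammaMap_eq_algHom :
    (QCAlg.directImage f).gammaMap =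
      AffAlg.algHom (QCAlg.directImage f).π f (canon f) (canon_π f) := by
  apply (Functor.IsCoverDense.restrictHomEquivHom (G := Scheme.AffineZariskiSite.toOpensFunctor S)
    (K := Opens.grothendieckTopology S)
    (ℱ := (QCAlg.directImage f).π.base _* (QCAlg.directImage f).spec.presheaf)
    (ℱ' := (⟨(QCAlg.directImage f).presheaf, (QCAlg.directImage f).isSheaf⟩ :
      TopCat.Sheaf CommRingCat.{u} S.carrier))).symm.injective
  ext U : 2
  change (QCAlg.directImage f).gammaMap.app (op U.unop.1) =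
    (AffAlg.algHom (QCAlg.directImage f).π f (canon f) (canon_π f)).app (op U.unop.1)
  rw [(QCAlg.directImage f).gammaMap_app U.unop.1 U.unop.2, algHom_app, gammaAff_eq_appLE]

end Groth.Agent.H6.Canon
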