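import Mathlib

set_option autoImplicit false
set_option linter.dupNamespace false

namespace Groth.Agent.H6.Cat

variable {P : Type*} [PartialOrder P]

/-- codimension in a poset: sup of lengths of chains starting at `a` and ending below `b` -/
noncomputable def cd (a b : P) : ℕ∞ :=
  ⨆ (s : LTSeries P) (_ : s.head = a ∧ s.last ≤ b), (s.length : ℕ∞)

def IsSat (s : LTSeries P) : Prop := ∀ i : Fin s.length, s i.castSucc ⋖ s i.succ

def Cat (P : Type*) [PartialOrder P] : Prop :=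
  ∀ a b : P, a ≤ b → cd a b ≠ ⊤ ∧
    ∀ s : LTSeries P, s.head = a → s.last = b → IsSat s → (s.length : ℕ∞) = cd a b

theorem le_cd {a b : P} (s : LTSeries P) (h1 : s.head = a) (h2 : s.last ≤ b) :
    (s.length : ℕ∞) ≤ cd a b :=
  le_iSup₂_of_le s ⟨h1, h2⟩ le_rfl

theorem cd_le_iff {a b : P} (n : ℕ∞) :
    cd a b ≤ n ↔ ∀ s : LTSeries P, s.head = a → s.last ≤ b → (s.length : ℕ∞) ≤ n := by
  unfold cd
  rw [iSup₂_le_iff]
  exact ⟨fun h s h1 h2 => h s ⟨h1, h2⟩, fun h s hs => h s hs.1 hs.2⟩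

theorem isSat_smash {p q : LTSeries P} (h : p.last = q.head) (hp : IsSat p) (hq : IsSat q) :
    IsSat (RelSeries.smash p q h) := by
  have key : ∀ i : Fin (p.length + q.length),
      (RelSeries.smash p q h) i.castSucc ⋖ (RelSeries.smash p q h) i.succ := by
    intro i
    refine Fin.addCases (fun j => ?_) (fun j => ?_) i
    · rw [RelSeries.smash_castAdd, RelSeries.smash_succ_castAdd]
      exact hp j
    · rw [RelSeries.smash_natAdd, RelSeries.smash_succ_natAdd]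
      exact hq j
  exact fun i => key i

/-- two-element chain -/
def pair (a b : P) (h : a < b) : LTSeries P where
  length := 1
  toFun := ![a, b]
  step := by
    intro i
    have : i = 0 := Subsingleton.elim _ _
    subst this
    exact h

@[simp] theorem pair_head (a b : P) (h : a < b) : (pair a b h).head = a := rfl
@[simp] theorem pair_last (a b : P) (h : a < b) : (pair a b h).last = b := rfl
@[simp] theorem pair_length (a b : P) (h : a < b) : (pair a b h).length = 1 := rfl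

theorem isSat_pair (a b : P) (h : a ⋖ b) : IsSat (pair a b h.lt) := by
  have key : ∀ i : Fin 1, (pair a b h.lt) i.castSucc ⋖ (pair a b h.lt) i.succ := by
    intro i
    have : i = (0 : Fin 1) := Subsingleton.elim _ _
    subst this
    exact h
  exact fun i => key i

theorem isSat_singleton (a : P) : IsSat (RelSeries.singleton _ a : LTSeries P) :=
  fun i => i.elim0

theorem exists_sat (n : ℕ) : ∀ a b : P, a ≤ b →
    (∀ s : LTSeries P, s.head = a → s.last ≤ b → s.length ≤ n) →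
    ∃ s : LTSeries P, s.head = a ∧ s.last = b ∧ IsSat s := by
  induction n with
  | zero =>
    intro a b hab hbd
    rcases hab.eq_or_lt with rfl | hlt
    · exact ⟨RelSeries.singleton _ a, rfl, rfl, isSat_singleton a⟩
    · exfalso
      have := hbd (pair a b hlt) rfl le_rfl
      simp at this
  | succ m ih =>
    intro a b hab hbd
    rcases hab.eq_or_lt with rfl | hlt
    · exact ⟨RelSeries.singleton _ a, rfl, rfl, isSat_singleton a⟩
    by_cases hcov : a ⋖ b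
    · exact ⟨pair a b hlt, rfl, rfl, isSat_pair a b hcov⟩
    · rw [not_covBy_iff hlt] at hcov
      obtain ⟨c, hac, hcb⟩ := hcov
      obtain ⟨s1, h11, h12, h13⟩ := ih a c hac.le (by
        intro s h1 h2
        have := hbd (s.snoc b (lt_of_le_of_lt h2 hcb)) (by simp [h1]) (by simp)
        simp at this
        omega)
      obtain ⟨s2, h21, h22, h23⟩ := ih c b hcb.le (by
        intro s h1 h2
        have := hbd (s.cons a (by rw [h1]; exact hac)) (by simp) (by simp [h2])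
        simp at this
        omega)
      refine ⟨RelSeries.smash s1 s2 (h12.trans h21.symm), ?_, ?_, isSat_smash _ h13 h23⟩
      · simp [h11]
      · simp [h22]

theorem Cat.exists_sat (hC : Cat P) {a b : P} (hab : a ≤ b) :
    ∃ s : LTSeries P, s.head = a ∧ s.last = b ∧ IsSat s ∧ (s.length : ℕ∞) = cd a b := by
  obtain ⟨h1, h2⟩ := hC a b hab
  obtain ⟨n, hn⟩ := ENat.ne_top_iff_exists.mp h1
  obtain ⟨s, hs1, hs2, hs3⟩ := Groth.Agent.H6.Cat.exists_sat n a b hab (by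
    intro s hs1 hs2
    have := le_cd s hs1 hs2
    rw [← hn] at this
    exact_mod_cast this)
  exact ⟨s, hs1, hs2, hs3, h2 s hs1 hs2 hs3⟩

theorem Cat.cd_add (hC : Cat P) {a b c : P} (hab : a ≤ b) (hbc : b ≤ c) :
    cd a c = cd a b + cd b c := by
  obtain ⟨s1, h11, h12, h13, h14⟩ := hC.exists_sat hab
  obtain ⟨s2, h21, h22, h23, h24⟩ := hC.exists_sat hbc
  have := (hC a c (hab.trans hbc)).2 (RelSeries.smash s1 s2 (h12.trans h21.symm))
    (by simp [h11]) (by simp [h22]) (isSat_smash _ h13 h23)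
  rw [← this, ← h14, ← h24]
  simp

theorem one_le_cd {a b : P} (h : a < b) : 1 ≤ cd a b := by
  have := le_cd (pair a b h) rfl le_rfl
  simpa using this

theorem Cat.cd_covBy (hC : Cat P) {a b : P} (h : a ⋖ b) : cd a b = 1 := by
  have := (hC a b h.le).2 (pair a b h.lt) rfl rfl (isSat_pair a b h)
  rw [← this]; rfl

/-- natural number valued codimension -/
noncomputable def cdn (a b : P) : ℕ := (cd a b).toNat

theorem Cat.cdn_add (hC : Cat P) {a b c : P} (hab : a ≤ b) (hbc : b ≤ c) :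
    cdn a c = cdn a b + cdn b c := by
  unfold cdn
  rw [hC.cd_add hab hbc, ENat.toNat_add (hC a b hab).1 (hC b c hbc).1]

theorem Cat.one_le_cdn (hC : Cat P) {a b : P} (h : a < b) : 1 ≤ cdn a b := by
  unfold cdn
  have h1 := one_le_cd h
  have h2 := (hC a b h.le).1
  obtain ⟨n, hn⟩ := ENat.ne_top_iff_exists.mp h2
  rw [← hn] at h1 ⊢
  simp only [ENat.toNat_natCast]
  exact_mod_cast h1

theorem Cat.cdn_covBy (hC : Cat P) {a b : P} (h : a ⋖ b) : cdn a b = 1 := by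
  unfold cdn
  rw [hC.cd_covBy h]; rfl


open Classical in
/-- the dimension function attached to a base point `x` and "generic points" `η i` -/
noncomputable def delta (x : P) {ι : Type*} (η : ι → P) (y : P) : ℤ :=
  if h : ∃ i, y ≤ η i then (cdn x (η h.choose) : ℤ) - cdn y (η h.choose) else 0

theorem delta_eq (hC : Cat P) (x : P) (𝒰 : Set P) {ι : Type*} (η : ι → P)
    (hb : ∀ i, x ≤ η i)
    (hc : ∀ y ∈ 𝒰, ∀ i j, y ≤ η i → y ≤ η j → ∃ w, y ≤ w ∧ x ≤ w ∧ w ≤ η i ∧ w ≤ η j)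
    {y : P} (hy : y ∈ 𝒰) {i : ι} (hi : y ≤ η i) :
    delta x η y = (cdn x (η i) : ℤ) - cdn y (η i) := by
  have hex : ∃ i, y ≤ η i := ⟨i, hi⟩
  unfold delta
  rw [dif_pos hex]
  obtain ⟨w, hyw, hxw, hwi, hwj⟩ := hc y hy hex.choose i hex.choose_spec hi
  rw [hC.cdn_add hxw hwi, hC.cdn_add hyw hwi, hC.cdn_add hxw hwj, hC.cdn_add hyw hwj]
  push_cast
  ring

theorem exists_delta (hC : Cat P) (x : P) (𝒰 : Set P) {ι : Type*} (η : ι → P)
    (ha : ∀ y ∈ 𝒰, ∃ i, y ≤ η i) (hb : ∀ i, x ≤ η i)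
    (hc : ∀ y ∈ 𝒰, ∀ i j, y ≤ η i → y ≤ η j → ∃ w, y ≤ w ∧ x ≤ w ∧ w ≤ η i ∧ w ≤ η j) :
    ∃ δ : P → ℤ, (∀ y ∈ 𝒰, ∀ y' ∈ 𝒰, y < y' → δ y < δ y') ∧
      (∀ y ∈ 𝒰, ∀ y' ∈ 𝒰, y ⋖ y' → δ y' = δ y + 1) := by
  refine ⟨delta x η, ?_, ?_⟩
  · intro y hy y' hy' hlt
    obtain ⟨i, hi⟩ := ha y' hy'
    rw [delta_eq hC x 𝒰 η hb hc hy' hi, delta_eq hC x 𝒰 η hb hc hy (hlt.le.trans hi),
      hC.cdn_add hlt.le hi]
    have := hC.one_le_cdn hlt
    push_cast
    omega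
  · intro y hy y' hy' hcov
    obtain ⟨i, hi⟩ := ha y' hy'
    rw [delta_eq hC x 𝒰 η hb hc hy' hi, delta_eq hC x 𝒰 η hb hc hy (hcov.le.trans hi),
      hC.cdn_add hcov.le hi, hC.cdn_covBy hcov]
    push_cast
    ring


open TopologicalSpace

universe u

/-- Noetherian sober space: good neighbourhood of a point -/
theorem exists_good_closed {Y : Type u} [TopologicalSpace Y] [QuasiSober Y] [NoetherianSpace Y]
    (x : Y) :
    ∃ (C : Set Y) (_ : IsClosed C) (_ : x ∉ C) (ι : Type u) (η : ι → Y),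
      (∀ y ∉ C, ∃ i, η i ⤳ y) ∧ (∀ i, η i ⤳ x) ∧
      (∀ y ∉ C, ∀ i j, η i ⤳ y → η j ⤳ y → ∃ w, w ⤳ y ∧ w ⤳ x ∧ η i ⤳ w ∧ η j ⤳ w) := by
  classical
  obtain ⟨S₀, hS₀f, hS₀c, hS₀i, hS₀u⟩ :=
    NoetherianSpace.exists_finite_set_isClosed_irreducible (isClosed_univ (X := Y))
  have hpair : ∀ Z Z' : Set Y, ∃ S : Set (Set Y), (IsClosed Z → IsClosed Z' →
      S.Finite ∧ (∀ t ∈ S, IsClosed t) ∧ (∀ t ∈ S, IsIrreducible t) ∧ Z ∩ Z' = ⋃₀ S) := by
    intro Z Z'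
    by_cases h : IsClosed Z ∧ IsClosed Z'
    · obtain ⟨S, h1, h2, h3, h4⟩ :=
        NoetherianSpace.exists_finite_set_isClosed_irreducible (h.1.inter h.2)
      exact ⟨S, fun _ _ => ⟨h1, h2, h3, h4⟩⟩
    · exact ⟨∅, fun h1 h2 => (h ⟨h1, h2⟩).elim⟩
  choose S₁ hS₁ using hpair
  let All : Set (Set Y) := S₀ ∪ ⋃ Z ∈ S₀, ⋃ Z' ∈ S₀, S₁ Z Z'
  have hAllf : All.Finite := by
    refine hS₀f.union ?_
    refine hS₀f.biUnion fun Z hZ => hS₀f.biUnion fun Z' hZ' => ?_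
    exact (hS₁ Z Z' (hS₀c Z hZ) (hS₀c Z' hZ')).1
  have hAllc : ∀ t ∈ All, IsClosed t := by
    rintro t (ht | ht)
    · exact hS₀c t ht
    · simp only [Set.mem_iUnion] at ht
      obtain ⟨Z, hZ, Z', hZ', ht⟩ := ht
      exact (hS₁ Z Z' (hS₀c Z hZ) (hS₀c Z' hZ')).2.1 t ht
  let Bad : Set (Set Y) := {F ∈ All | x ∉ F}
  have hBadf : Bad.Finite := hAllf.subset (fun F hF => hF.1)
  let C : Set Y := ⋃₀ Bad
  have hCc : IsClosed C := by
    show IsClosed (⋃₀ Bad)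
    rw [Set.sUnion_eq_biUnion]
    exact hBadf.isClosed_biUnion fun F hF => hAllc F hF.1
  have hxC : x ∉ C := by
    rintro ⟨F, hF, hxF⟩
    exact hF.2 hxF
  have hnotC : ∀ y ∉ C, ∀ F ∈ All, y ∈ F → x ∈ F := by
    intro y hy F hF hyF
    by_contra hx
    exact hy ⟨F, ⟨hF, hx⟩, hyF⟩
  have hgen : ∀ t : Set Y, IsIrreducible t → IsClosed t → ∃ g : Y, ∀ y, g ⤳ y ↔ y ∈ t := by
    intro t ht htc
    obtain ⟨g, hg⟩ := QuasiSober.sober ht htc
    exact ⟨g, isGenericPoint_iff_specializes.mp hg⟩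
  let ι := {Z : Set Y // Z ∈ S₀ ∧ x ∈ Z}
  have hη : ∀ i : ι, ∃ g : Y, ∀ y, g ⤳ y ↔ y ∈ i.1 := fun i =>
    hgen i.1 (hS₀i i.1 i.2.1) (hS₀c i.1 i.2.1)
  choose η hηs using hη
  refine ⟨C, hCc, hxC, ι, η, ?_, ?_, ?_⟩
  · intro y hy
    have : y ∈ ⋃₀ S₀ := hS₀u ▸ Set.mem_univ y
    obtain ⟨Z, hZ, hyZ⟩ := this
    have hxZ := hnotC y hy Z (Or.inl hZ) hyZ
    exact ⟨⟨Z, hZ, hxZ⟩, (hηs _ y).mpr hyZ⟩
  · intro i
    exact (hηs i x).mpr i.2.2
  · intro y hy i j hi hj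
    have hyi := (hηs i y).mp hi
    have hyj := (hηs j y).mp hj
    obtain ⟨h1, h2, h3, h4⟩ := hS₁ i.1 j.1 (hS₀c _ i.2.1) (hS₀c _ j.2.1)
    have : y ∈ ⋃₀ S₁ i.1 j.1 := h4 ▸ ⟨hyi, hyj⟩
    obtain ⟨W, hW, hyW⟩ := this
    have hWAll : W ∈ All := by
      right
      simp only [Set.mem_iUnion]
      exact ⟨i.1, i.2.1, j.1, j.2.1, hW⟩
    have hxW := hnotC y hy W hWAll hyW
    obtain ⟨w, hw⟩ := hgen W (h3 W hW) (h2 W hW)
    have hwW : w ∈ W := (hw w).mp specializes_rfl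
    have hwij : w ∈ i.1 ∩ j.1 := h4 ▸ ⟨W, hW, hwW⟩
    exact ⟨w, (hw y).mpr hyW, (hw x).mpr hxW, (hηs i w).mpr hwij.1, (hηs j w).mpr hwij.2⟩

/-- the version inside an ambient space -/
theorem exists_good_nbhd {X : Type u} [TopologicalSpace X] [QuasiSober X]
    (x : X) (U₀ : Opens X) (hx : x ∈ U₀) [NoetherianSpace U₀] :
    ∃ (U : Opens X) (_ : x ∈ U) (ι : Type u) (η : ι → X),
      (∀ y ∈ U, ∃ i, η i ⤳ y) ∧ (∀ i, η i ⤳ x) ∧
      (∀ y ∈ U, ∀ i j, η i ⤳ y → η j ⤳ y → ∃ w, w ⤳ y ∧ w ⤳ x ∧ η i ⤳ w ∧ η j ⤳ w) := by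
  have : QuasiSober U₀ := U₀.isOpen.isOpenEmbedding_subtypeVal.quasiSober
  obtain ⟨C, hCc, hxC, ι, η, ha, hb, hc⟩ := exists_good_closed (⟨x, hx⟩ : U₀)
  refine ⟨⟨Subtype.val '' Cᶜ, U₀.isOpen.isOpenEmbedding_subtypeVal.isOpenMap _ hCc.isOpen_compl⟩,
    ⟨⟨x, hx⟩, hxC, rfl⟩, ι, fun i => (η i : X), ?_, ?_, ?_⟩
  · rintro _ ⟨y, hy, rfl⟩
    obtain ⟨i, hi⟩ := ha y hy
    exact ⟨i, (subtype_specializes_iff _ _).mp hi⟩
  · intro i
    exact (subtype_specializes_iff _ _).mp (hb i)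
  · rintro _ ⟨y, hy, rfl⟩ i j hi hj
    obtain ⟨w, h1, h2, h3, h4⟩ := hc y hy i j ((subtype_specializes_iff _ _).mpr hi)
      ((subtype_specializes_iff _ _).mpr hj)
    exact ⟨w, (subtype_specializes_iff _ _).mp h1, (subtype_specializes_iff _ _).mp h2,
      (subtype_specializes_iff _ _).mp h3, (subtype_specializes_iff _ _).mp h4⟩


end Groth.Agent.H6.Cat
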