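import Mathlib
import Groth.Prelude.Def_W4stktopologysheavesDim
import Groth.Agent.Lib.Helper6.Cat1

set_option autoImplicit false
set_option linter.dupNamespace false

namespace Groth.Agent.H6.Cat

open TopologicalSpace

universe u
variable {X : Type u} [TopologicalSpace X]

/-- closure of a point as an irreducible closed set -/
def cl (p : X) : IrreducibleCloseds X :=
  ⟨closure {p}, isIrreducible_singleton.closure, isClosed_closure⟩

theorem cl_le_cl {p q : X} : cl q ≤ cl p ↔ p ⤳ q := by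
  rw [specializes_iff_closure_subset]
  exact Iff.rfl

theorem exists_cl_eq [QuasiSober X] (Z : IrreducibleCloseds X) : ∃ g, cl g = Z := by
  obtain ⟨g, hg⟩ := QuasiSober.sober Z.2 Z.3
  exact ⟨g, IrreducibleCloseds.ext hg.def⟩

theorem cl_injective [T0Space X] : Function.Injective (cl : X → IrreducibleCloseds X) := by
  intro p q h
  have h1 : closure {p} = closure {q} := congrArg (fun Z : IrreducibleCloseds X => (Z : Set X)) h
  exact (inseparable_iff_closure_eq.mpr h1).eq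

theorem cl_lt_cl [T0Space X] {p q : X} : cl q < cl p ↔ (p ⤳ q ∧ p ≠ q) := by
  rw [lt_iff_le_and_ne, cl_le_cl]
  constructor
  · rintro ⟨h1, h2⟩
    exact ⟨h1, fun h => h2 (h ▸ rfl)⟩
  · rintro ⟨h1, h2⟩
    exact ⟨h1, fun h => h2 (cl_injective h).symm⟩

theorem isCatenarySpace_iff : PtTop.IsCatenarySpace X ↔ Cat (IrreducibleCloseds X) := by
  unfold PtTop.IsCatenarySpace Cat
  have h : ∀ T T' : IrreducibleCloseds X, PtTop.codim T (T' : Set X) = cd T T' := by
    intro T T'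
    rfl
  simp only [h]
  rfl

theorem exists_dimFun_of_cat [QuasiSober X] [T0Space X] (hC : PtTop.IsCatenarySpace X)
    (x : X) (U₀ : Opens X) (hx : x ∈ U₀) [NoetherianSpace U₀] :
    ∃ U : Opens X, x ∈ U ∧ ∃ δ : U → ℤ, PtTop.IsDimensionFunction δ := by
  rw [isCatenarySpace_iff] at hC
  obtain ⟨U, hxU, ι, η, ha, hb, hc⟩ := exists_good_nbhd x U₀ hx
  obtain ⟨δ, hδ1, hδ2⟩ := exists_delta hC (cl x) (cl '' (U : Set X)) (fun i => cl (η i))
    (by
      rintro _ ⟨y, hy, rfl⟩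
      obtain ⟨i, hi⟩ := ha y hy
      exact ⟨i, cl_le_cl.mpr hi⟩)
    (fun i => cl_le_cl.mpr (hb i))
    (by
      rintro _ ⟨y, hy, rfl⟩ i j hi hj
      obtain ⟨w, h1, h2, h3, h4⟩ := hc y hy i j (cl_le_cl.mp hi) (cl_le_cl.mp hj)
      exact ⟨cl w, cl_le_cl.mpr h1, cl_le_cl.mpr h2, cl_le_cl.mpr h3, cl_le_cl.mpr h4⟩)
  refine ⟨U, hxU, fun p => δ (cl p.1), ?_, ?_⟩
  · intro a b hab hne
    have h1 : (a : X) ⤳ (b : X) := (subtype_specializes_iff _ _).mp hab
    have h2 : (a : X) ≠ (b : X) := fun h => hne (Subtype.ext h)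
    exact hδ1 _ ⟨b.1, b.2, rfl⟩ _ ⟨a.1, a.2, rfl⟩ (cl_lt_cl.mpr ⟨h1, h2⟩)
  · rintro a b ⟨hab, hne, him⟩
    have h1 : (a : X) ⤳ (b : X) := (subtype_specializes_iff _ _).mp hab
    have h2 : (a : X) ≠ (b : X) := fun h => hne (Subtype.ext h)
    apply hδ2 _ ⟨b.1, b.2, rfl⟩ _ ⟨a.1, a.2, rfl⟩
    refine ⟨cl_lt_cl.mpr ⟨h1, h2⟩, ?_⟩
    intro Z hZ1 hZ2
    obtain ⟨g, rfl⟩ := exists_cl_eq Z
    rw [cl_lt_cl] at hZ1 hZ2
    have hgU : g ∈ U := hZ1.1.mem_open U.isOpen b.2
    rcases him ⟨g, hgU⟩ ((subtype_specializes_iff _ _).mpr hZ2.1)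
      ((subtype_specializes_iff _ _).mpr hZ1.1) with h | h
    · exact hZ2.2 (congrArg Subtype.val h).symm
    · exact hZ1.2 (congrArg Subtype.val h)

theorem cat_of_dimFun [QuasiSober X] [T0Space X]
    (h : ∀ x : X, ∃ U : Opens X, x ∈ U ∧ ∃ δ : U → ℤ, PtTop.IsDimensionFunction δ) :
    PtTop.IsCatenarySpace X := by
  classical
  rw [isCatenarySpace_iff]
  intro T T' hTT'
  obtain ⟨ξ, rfl⟩ := exists_cl_eq T
  obtain ⟨ξ', rfl⟩ := exists_cl_eq T'
  obtain ⟨U, hξU, δ, hδ1, hδ2⟩ := h ξ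
  let d : IrreducibleCloseds X → ℤ := fun Z =>
    if h : ∃ g, cl g = Z ∧ g ∈ U then δ ⟨h.choose, h.choose_spec.2⟩ else 0
  have hd : ∀ (g : X) (hg : g ∈ U), d (cl g) = δ ⟨g, hg⟩ := by
    intro g hg
    have hex : ∃ g', cl g' = cl g ∧ g' ∈ U := ⟨g, rfl, hg⟩
    show (if h : ∃ g', cl g' = cl g ∧ g' ∈ U then δ ⟨h.choose, h.choose_spec.2⟩ else 0) = _
    rw [dif_pos hex]
    congr 1
    exact Subtype.ext (cl_injective hex.choose_spec.1)
  have hmemU : ∀ g : X, cl ξ ≤ cl g → g ∈ U := fun g hg =>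
    (cl_le_cl.mp hg).mem_open U.isOpen hξU
  have claim1 : ∀ Z Z' : IrreducibleCloseds X, cl ξ ≤ Z → Z < Z' → d Z < d Z' := by
    intro Z Z' hZ hlt
    obtain ⟨g, rfl⟩ := exists_cl_eq Z
    obtain ⟨g', rfl⟩ := exists_cl_eq Z'
    have hg := hmemU g hZ
    have hg' := hmemU g' (hZ.trans hlt.le)
    rw [hd g hg, hd g' hg']
    rw [cl_lt_cl] at hlt
    exact hδ1 ⟨g', hg'⟩ ⟨g, hg⟩ ((subtype_specializes_iff _ _).mpr hlt.1)
      (fun h => hlt.2 (congrArg Subtype.val h))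
  have claim2 : ∀ Z Z' : IrreducibleCloseds X, cl ξ ≤ Z → Z ⋖ Z' → d Z' = d Z + 1 := by
    intro Z Z' hZ hcov
    obtain ⟨g, rfl⟩ := exists_cl_eq Z
    obtain ⟨g', rfl⟩ := exists_cl_eq Z'
    have hg := hmemU g hZ
    have hg' := hmemU g' (hZ.trans hcov.le)
    rw [hd g hg, hd g' hg']
    have hlt := cl_lt_cl.mp hcov.lt
    apply hδ2 ⟨g', hg'⟩ ⟨g, hg⟩
    refine ⟨(subtype_specializes_iff _ _).mpr hlt.1, fun h => hlt.2 (congrArg Subtype.val h), ?_⟩
    intro z hz1 hz2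
    have h1 : cl g ≤ cl z.1 := cl_le_cl.mpr ((subtype_specializes_iff _ _).mp hz2)
    have h2 : cl z.1 ≤ cl g' := cl_le_cl.mpr ((subtype_specializes_iff _ _).mp hz1)
    rcases hcov.eq_or_eq h1 h2 with h | h
    · right; exact Subtype.ext (cl_injective h)
    · left; exact Subtype.ext (cl_injective h)
  have claim3 : ∀ s : LTSeries (IrreducibleCloseds X), s.head = cl ξ →
      ∀ i : Fin (s.length + 1), d (s 0) + (i : ℕ) ≤ d (s i) := by
    intro s hs i
    induction i using Fin.induction with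
    | zero => simp
    | succ i ih =>
      have h1 : cl ξ ≤ s i.castSucc := hs ▸ s.head_le _
      have h2 := claim1 _ _ h1 (s.step i)
      simp only [Fin.val_succ, Fin.val_castSucc] at ih ⊢
      push_cast
      omega
  have claim4 : ∀ s : LTSeries (IrreducibleCloseds X), s.head = cl ξ → IsSat s →
      ∀ i : Fin (s.length + 1), d (s 0) + (i : ℕ) = d (s i) := by
    intro s hs hsat i
    induction i using Fin.induction with
    | zero => simp
    | succ i ih =>
      have h1 : cl ξ ≤ s i.castSucc := hs ▸ s.head_le _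
      have h2 := claim2 _ _ h1 (hsat i)
      simp only [Fin.val_succ, Fin.val_castSucc] at ih ⊢
      push_cast
      omega
  have hmono : ∀ Z : IrreducibleCloseds X, cl ξ ≤ Z → Z ≤ cl ξ' → d Z ≤ d (cl ξ') := by
    intro Z h1 h2
    rcases h2.eq_or_lt with rfl | h3
    · exact le_rfl
    · exact (claim1 _ _ h1 h3).le
  have hbound : ∀ s : LTSeries (IrreducibleCloseds X), s.head = cl ξ → s.last ≤ cl ξ' →
      (s.length : ℤ) ≤ d (cl ξ') - d (cl ξ) := by
    intro s hs1 hs2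
    have h1 := claim3 s hs1 (Fin.last _)
    have h2 := hmono s.last (hs1 ▸ s.head_le_last) hs2
    have h3 : s 0 = cl ξ := hs1
    have h4 : s (Fin.last _) = s.last := rfl
    rw [h3, h4] at h1
    simp only [Fin.val_last] at h1
    omega
  constructor
  · have : cd (cl ξ) (cl ξ') ≤ ((d (cl ξ') - d (cl ξ)).toNat : ℕ∞) := by
      rw [cd_le_iff]
      intro s hs1 hs2
      have := hbound s hs1 hs2
      have h2 : s.length ≤ (d (cl ξ') - d (cl ξ)).toNat := by omega
      exact_mod_cast h2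
    exact ne_top_of_le_ne_top (ENat.natCast_ne_top _) this
  · intro s hs1 hs2 hsat
    apply le_antisymm (le_cd s hs1 hs2.le)
    rw [cd_le_iff]
    intro t ht1 ht2
    have h1 := hbound t ht1 ht2
    have h2 := claim4 s hs1 hsat (Fin.last _)
    have h3 : s 0 = cl ξ := hs1
    have h4 : s (Fin.last _) = cl ξ' := hs2
    rw [h3, h4] at h2
    simp only [Fin.val_last] at h2
    have h5 : t.length ≤ s.length := by omega
    exact_mod_cast h5


end Groth.Agent.H6.Cat
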