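import Mathlib
import Groth.Prelude.Def_W4stktopologysheavesDim
import Groth.Prelude.Def_Found
import Groth.Agent.Lib.Helper6.Cat2
import Groth.Agent.Lib.Helper5.Catenary
import Groth.Agent.Lib.Helper1.Cat1

set_option autoImplicit false
set_option linter.dupNamespace false

namespace Groth.Agent.H6.Cat3

open Groth.Agent.H6.Cat Groth.Agent.H5 TopologicalSpace

universe u

section order
variable {P : Type*} [PartialOrder P]

theorem head_eq_last_of_length_zero (s : LTSeries P) (h : s.length = 0) : s.head = s.last := by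
  unfold RelSeries.head RelSeries.last
  congr 1
  ext
  simp [h]

theorem exists_sat_ge (n : ℕ) : ∀ a b : P, a ≤ b →
    (∀ s : LTSeries P, s.head = a → s.last ≤ b → s.length ≤ n) →
    ∀ t : LTSeries P, t.head = a → t.last = b →
    ∃ s : LTSeries P, s.head = a ∧ s.last = b ∧ IsSat s ∧ t.length ≤ s.length := by
  induction n with
  | zero =>
    intro a b hab hbd t h1 h2
    obtain ⟨s, hs1, hs2, hs3⟩ := Groth.Agent.H6.Cat.exists_sat 0 a b hab hbd
    have := hbd t h1 h2.le
    exact ⟨s, hs1, hs2, hs3, by omega⟩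
  | succ m ih =>
    intro a b hab hbd t h1 h2
    by_cases ht : t.length = 0
    · obtain ⟨s, hs1, hs2, hs3⟩ := Groth.Agent.H6.Cat.exists_sat (m + 1) a b hab hbd
      exact ⟨s, hs1, hs2, hs3, by omega⟩
    · have hac : a < t 1 := by
        rw [← h1]
        apply t.strictMono
        rw [Fin.lt_def]
        simp only [Fin.val_zero]
        rw [Fin.val_one', Nat.mod_eq_of_lt (by omega)]
        omega
      have hcb : t 1 ≤ b := h2 ▸ t.monotone (Fin.le_last _)
      obtain ⟨s', hs'1, hs'2, hs'3, hs'4⟩ := ih (t 1) b hcb (by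
        intro s hs1 hs2
        have := hbd (s.cons a (by rw [hs1]; exact hac)) (by simp) (by simp [hs2])
        simp at this
        omega) (t.tail ht) (RelSeries.head_tail t ht) ((RelSeries.last_tail t ht).trans h2)
      obtain ⟨s'', hs''1, hs''2, hs''3⟩ := Groth.Agent.H6.Cat.exists_sat (m + 1) a (t 1) hac.le (by
        intro s hs1 hs2
        exact hbd s hs1 (hs2.trans hcb))
      refine ⟨RelSeries.smash s'' s' (hs''2.trans hs'1.symm), by simp [hs''1], by simp [hs'2],
        isSat_smash _ hs''3 hs'3, ?_⟩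
      have hpos : s''.length ≠ 0 := by
        intro h0
        have := head_eq_last_of_length_zero s'' h0
        rw [hs''1, hs''2] at this
        exact hac.ne this
      simp only [RelSeries.smash_length]
      have : (t.tail ht).length = t.length - 1 := rfl
      omega

theorem cat_iff_orderCatenary : Cat P ↔ OrderCatenary P := by
  constructor
  · intro hC
    refine ⟨?_, ?_⟩
    · intro p q hpq
      obtain ⟨n, hn⟩ := ENat.ne_top_iff_exists.mp (hC p q hpq).1
      refine ⟨n, fun s hs hl => ?_⟩
      have := le_cd s hs hl.le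
      rw [← hn] at this
      exact_mod_cast this
    · intro s t hh hl hs ht
      have h1 := (hC s.head s.last s.head_le_last).2 s rfl rfl hs
      have h2 := (hC s.head s.last s.head_le_last).2 t hh.symm hl.symm ht
      have := h1.trans h2.symm
      exact_mod_cast this
  · intro hO a b hab
    obtain ⟨n, hn⟩ := hO.1 a b hab
    have hbd : ∀ s : LTSeries P, s.head = a → s.last ≤ b → s.length ≤ n := by
      intro s hs hl
      rcases hl.eq_or_lt with h | h
      · exact hn s hs h
      · have := hn (s.snoc b h) (by simp [hs]) (by simp)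
        simp at this
        omega
    refine ⟨?_, ?_⟩
    · intro htop
      have : cd a b ≤ (n : ℕ∞) := by
        rw [cd_le_iff]
        intro s hs hl
        exact_mod_cast hbd s hs hl
      rw [htop] at this
      simp at this
    · intro s hs hl hsat
      apply le_antisymm (le_cd s hs hl.le)
      rw [cd_le_iff]
      intro t ht1 ht2
      have key : ∀ t : LTSeries P, t.head = a → t.last = b → t.length ≤ s.length := by
        intro t ht1 ht2
        obtain ⟨t', h1, h2, h3, h4⟩ := exists_sat_ge n a b hab hbd t ht1 ht2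
        have := hO.2 t' s (h1.trans hs.symm) (h2.trans hl.symm) h3 hsat
        omega
      rcases ht2.eq_or_lt with h | h
      · exact_mod_cast key t ht1 h
      · have := key (t.snoc b h) (by simp [ht1]) (by simp)
        simp at this
        have h' : t.length ≤ s.length := by omega
        exact_mod_cast h'

/-- reversal of a chain, as a chain in the dual order -/
def rev {α : Type*} [PartialOrder α] (s : LTSeries α) : LTSeries αᵒᵈ :=
  LTSeries.mk s.length (fun i => OrderDual.toDual (s i.rev)) (by
    intro i j hij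
    exact s.strictMono (Fin.rev_lt_rev.mpr hij))

theorem rev_length {α : Type*} [PartialOrder α] (s : LTSeries α) : (rev s).length = s.length := rfl

theorem rev_head {α : Type*} [PartialOrder α] (s : LTSeries α) :
    (rev s).head = OrderDual.toDual s.last := by
  show OrderDual.toDual (s (Fin.rev 0)) = _
  rw [Fin.rev_zero]
  rfl

theorem rev_last {α : Type*} [PartialOrder α] (s : LTSeries α) :
    (rev s).last = OrderDual.toDual s.head := by
  show OrderDual.toDual (s (Fin.rev (Fin.last _))) = _
  rw [Fin.rev_last]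
  rfl

theorem rev_sat {α : Type*} [PartialOrder α] (s : LTSeries α)
    (h : ∀ i : Fin s.length, s (Fin.castSucc i) ⋖ s (Fin.succ i)) :
    ∀ i : Fin (rev s).length, (rev s) (Fin.castSucc i) ⋖ (rev s) (Fin.succ i) := by
  have key : ∀ i : Fin s.length,
      OrderDual.toDual (s (Fin.rev (Fin.castSucc i))) ⋖ OrderDual.toDual (s (Fin.rev (Fin.succ i))) := by
    intro i
    rw [toDual_covBy_toDual_iff]
    have := h (Fin.rev i)
    rw [Fin.rev_castSucc, Fin.rev_succ]
    exact this
  exact fun i => key i

theorem orderCatenary_of_dual {α : Type*} [PartialOrder α] (h : OrderCatenary αᵒᵈ) :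
    OrderCatenary α := by
  refine ⟨?_, ?_⟩
  · intro p q hpq
    obtain ⟨n, hn⟩ := h.1 (OrderDual.toDual q) (OrderDual.toDual p) hpq
    refine ⟨n, fun s hs hl => ?_⟩
    exact hn (rev s) ((rev_head s).trans (congrArg _ hl)) ((rev_last s).trans (congrArg _ hs))
  · intro s t hh hl hs ht
    exact h.2 (rev s) (rev t) ((rev_head s).trans ((congrArg _ hl).trans (rev_head t).symm))
      ((rev_last s).trans ((congrArg _ hh).trans (rev_last t).symm)) (rev_sat s hs) (rev_sat t ht)

theorem orderCatenary_dual_iff {α : Type*} [PartialOrder α] :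
    OrderCatenary αᵒᵈ ↔ OrderCatenary α := by
  refine ⟨orderCatenary_of_dual, fun h => ?_⟩
  apply orderCatenary_of_dual
  exact OrderCatenary.of_orderIso (OrderIso.dualDual α).symm h

end order

section top
variable {X : Type u} [TopologicalSpace X]

theorem isPreirreducible_of_image {Y : Type*} [TopologicalSpace Y] {f : Y → X}
    (hf : Topology.IsInducing f) {s : Set Y} (h : IsPreirreducible (f '' s)) :
    IsPreirreducible s := by
  intro u v hu hv hsu hsv
  obtain ⟨u', hu', rfl⟩ := hf.isOpen_iff.mp hu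
  obtain ⟨v', hv', rfl⟩ := hf.isOpen_iff.mp hv
  obtain ⟨a, ha1, ha2⟩ := hsu
  obtain ⟨b, hb1, hb2⟩ := hsv
  obtain ⟨_, ⟨c, hc, rfl⟩, hc2⟩ := h u' v' hu' hv' ⟨f a, ⟨a, ha1, rfl⟩, ha2⟩ ⟨f b, ⟨b, hb1, rfl⟩, hb2⟩
  exact ⟨c, hc, hc2⟩

theorem map_le_map_iff {Y : Type*} [TopologicalSpace Y] {f : Y → X}
    (hf : Topology.IsInducing f) (a b : IrreducibleCloseds Y) :
    IrreducibleCloseds.map f hf.continuous a ≤ IrreducibleCloseds.map f hf.continuous b ↔ a ≤ b := by
  refine ⟨fun hle => ?_, fun hle => IrreducibleCloseds.map_mono hf.continuous hle⟩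
  have h1 : closure (f '' (a : Set Y)) ⊆ closure (f '' (b : Set Y)) := hle
  have h2 := Set.preimage_mono (f := f) h1
  rw [← hf.closure_eq_preimage_closure_image, ← hf.closure_eq_preimage_closure_image,
    a.isClosed.closure_eq, b.isClosed.closure_eq] at h2
  exact h2

/-- order embedding of irreducible closed subsets along an inducing map -/
noncomputable def mapEmb {Y : Type*} [TopologicalSpace Y] (f : Y → X) (hf : Topology.IsInducing f) :
    IrreducibleCloseds Y ↪o IrreducibleCloseds X :=
  OrderEmbedding.ofMapLEIff (IrreducibleCloseds.map f hf.continuous) (map_le_map_iff hf)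

theorem mapEmb_apply {Y : Type*} [TopologicalSpace Y] (f : Y → X) (hf : Topology.IsInducing f)
    (a : IrreducibleCloseds Y) : (mapEmb f hf a : Set X) = closure (f '' (a : Set Y)) := rfl

theorem ordConnected_range_of_isLocallyClosed (S : Set X) (hS : IsLocallyClosed S) :
    (Set.range (mapEmb (Subtype.val : S → X) Topology.IsInducing.subtypeVal)).OrdConnected := by
  constructor
  rintro _ ⟨T1, rfl⟩ _ ⟨T3, rfl⟩ Z ⟨hZ1, hZ3⟩
  obtain ⟨U, C, hU, hC, rfl⟩ := hS
  have h1 : closure (Subtype.val '' (T1 : Set ↥(U ∩ C))) ⊆ (Z : Set X) := hZ1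
  have h3 : (Z : Set X) ⊆ closure (Subtype.val '' (T3 : Set ↥(U ∩ C))) := hZ3
  have hZC : (Z : Set X) ⊆ C := by
    refine h3.trans (closure_minimal ?_ hC)
    rintro _ ⟨y, -, rfl⟩
    exact y.2.2
  have hne : ((Z : Set X) ∩ U).Nonempty := by
    obtain ⟨y, hy⟩ := T1.isIrreducible.nonempty
    exact ⟨y.1, h1 (subset_closure ⟨y, hy, rfl⟩), y.2.1⟩
  have himg : Subtype.val '' ((Subtype.val : ↥(U ∩ C) → X) ⁻¹' (Z : Set X)) = (Z : Set X) ∩ U := by
    rw [Subtype.image_preimage_coe]
    ext x
    constructor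
    · rintro ⟨⟨hxU, -⟩, hxZ⟩
      exact ⟨hxZ, hxU⟩
    · rintro ⟨hxZ, hxU⟩
      exact ⟨⟨hxU, hZC hxZ⟩, hxZ⟩
  have hcl : closure ((Z : Set X) ∩ U) = (Z : Set X) := by
    apply le_antisymm
    · exact closure_minimal Set.inter_subset_left Z.isClosed
    · exact subset_closure_inter_of_isPreirreducible_of_isOpen Z.isIrreducible.isPreirreducible hU hne
  have hirr : IsIrreducible ((Subtype.val : ↥(U ∩ C) → X) ⁻¹' (Z : Set X)) := by
    refine ⟨?_, ?_⟩
    · obtain ⟨x, hxZ, hxU⟩ := hne
      exact ⟨⟨x, hxU, hZC hxZ⟩, hxZ⟩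
    · apply isPreirreducible_of_image Topology.IsInducing.subtypeVal
      rw [himg, ← isPreirreducible_iff_closure, hcl]
      exact Z.isIrreducible.isPreirreducible
  refine ⟨⟨_, hirr, Z.isClosed.preimage continuous_subtype_val⟩, ?_⟩
  apply IrreducibleCloseds.ext
  rw [mapEmb_apply]
  show closure (Subtype.val '' ((Subtype.val : ↥(U ∩ C) → X) ⁻¹' (Z : Set X))) = _
  rw [himg, hcl]

theorem orderCatenary_of_isLocallyClosed (S : Set X) (hS : IsLocallyClosed S)
    (h : OrderCatenary (IrreducibleCloseds X)) : OrderCatenary (IrreducibleCloseds S) :=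
  OrderCatenary.of_embedding _ (ordConnected_range_of_isLocallyClosed S hS) h

theorem isCatenarySpace_iff_orderCatenary :
    PtTop.IsCatenarySpace X ↔ OrderCatenary (IrreducibleCloseds X) :=
  isCatenarySpace_iff.trans cat_iff_orderCatenary

theorem isCatenarySpace_of_isLocallyClosed (S : Set X) (hS : IsLocallyClosed S)
    (h : PtTop.IsCatenarySpace X) : PtTop.IsCatenarySpace S := by
  rw [isCatenarySpace_iff_orderCatenary] at h ⊢
  exact orderCatenary_of_isLocallyClosed S hS h

theorem isCatenarySpace_of_open_cover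
    (h : ∀ x : X, ∃ U : Opens X, x ∈ U ∧ PtTop.IsCatenarySpace U) : PtTop.IsCatenarySpace X := by
  rw [isCatenarySpace_iff_orderCatenary]
  apply OrderCatenary.of_upperSet_cover
  intro Z
  obtain ⟨x, hx⟩ := Z.isIrreducible.nonempty
  obtain ⟨U, hxU, hU⟩ := h x
  rw [isCatenarySpace_iff_orderCatenary] at hU
  refine ⟨{V : IrreducibleCloseds X | ((Subtype.val : U → X) ⁻¹' V).Nonempty}, ?_, ?_, ?_⟩
  · exact ⟨⟨x, hxU⟩, hx⟩
  · intro a b hab ⟨y, hy⟩
    exact ⟨y, hab hy⟩
  · exact OrderCatenary.of_orderIso
      (IrreducibleCloseds.orderIsoOfIsOpenEmbedding (Subtype.val : U → X)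
        U.isOpen.isOpenEmbedding_subtypeVal).symm hU

theorem isCatenarySpace_iff_open_cover :
    PtTop.IsCatenarySpace X ↔ ∀ x : X, ∃ U : Opens X, x ∈ U ∧ PtTop.IsCatenarySpace U := by
  refine ⟨fun h x => ⟨⊤, trivial, ?_⟩, isCatenarySpace_of_open_cover⟩
  exact isCatenarySpace_of_isLocallyClosed ((⊤ : Opens X) : Set X) (⊤ : Opens X).isOpen.isLocallyClosed h

theorem isCatenarySpace_of_homeomorph {Y : Type u} [TopologicalSpace Y] (e : X ≃ₜ Y)
    (h : PtTop.IsCatenarySpace Y) : PtTop.IsCatenarySpace X := by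
  rw [isCatenarySpace_iff_orderCatenary] at h ⊢
  refine OrderCatenary.of_embedding (mapEmb e e.isInducing) ?_ h
  have : Set.range (mapEmb e e.isInducing) = Set.univ := by
    rw [Set.eq_univ_iff_forall]
    intro Z
    have hirr : IsIrreducible (e ⁻¹' (Z : Set Y)) := by
      have := Z.isIrreducible.image e.symm e.symm.continuous.continuousOn
      rwa [e.symm.image_eq_preimage_symm] at this
    refine ⟨⟨_, hirr, Z.isClosed.preimage e.continuous⟩, ?_⟩
    apply IrreducibleCloseds.ext
    rw [mapEmb_apply]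
    show closure (e '' (e ⁻¹' (Z : Set Y))) = _
    rw [Set.image_preimage_eq _ e.surjective, Z.isClosed.closure_eq]
  rw [this]
  exact Set.ordConnected_univ

end top

end Groth.Agent.H6.Cat3
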