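import Mathlib
import Groth.Agent.Lib.Helper6.Cat3

set_option autoImplicit false
set_option linter.dupNamespace false

namespace Groth.Agent.H6.Cat4

open Groth.Agent.H6.Cat Groth.Agent.H6.Cat3 Groth.Agent.H5 TopologicalSpace AlgebraicGeometry
open CategoryTheory

universe u

theorem isCatenarySpace_primeSpectrum_iff (R : Type u) [CommRing R] :
    PtTop.IsCatenarySpace (PrimeSpectrum R) ↔ CAlg.IsCatenary R := by
  rw [isCatenarySpace_iff_orderCatenary, isCatenary_iff_orderCatenary]
  rw [← orderCatenary_dual_iff (α := PrimeSpectrum R)]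
  constructor
  · intro h
    exact OrderCatenary.of_orderIso (PrimeSpectrum.pointsEquivIrreducibleCloseds (R := R)).dual h
  · intro h
    exact OrderCatenary.of_orderIso (PrimeSpectrum.pointsEquivIrreducibleCloseds (R := R)).dual.symm h

theorem isCatenarySpace_affine_iff (S : Scheme.{u}) (U : S.Opens) (hU : IsAffineOpen U) :
    PtTop.IsCatenarySpace U ↔ CAlg.IsCatenary Γ(S, U) := by
  have e : U ≃ₜ PrimeSpectrum Γ(S, U) := Scheme.homeoOfIso hU.isoSpec
  rw [← isCatenarySpace_primeSpectrum_iff]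
  exact ⟨isCatenarySpace_of_homeomorph e.symm, isCatenarySpace_of_homeomorph e⟩

theorem isCatenarySpace_of_affine_cover (S : Scheme.{u})
    (h : ∀ s : S, ∃ U : S.affineOpens, s ∈ (U : S.Opens) ∧ CAlg.IsCatenary Γ(S, U)) :
    PtTop.IsCatenarySpace S := by
  apply isCatenarySpace_of_open_cover
  intro x
  obtain ⟨U, hxU, hU⟩ := h x
  exact ⟨U.1, hxU, (isCatenarySpace_affine_iff S U.1 U.2).mpr hU⟩

theorem isCatenary_affine_of_isCatenarySpace (S : Scheme.{u}) (h : PtTop.IsCatenarySpace S)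
    (U : S.affineOpens) : CAlg.IsCatenary Γ(S, U) := by
  rw [← isCatenarySpace_affine_iff S U.1 U.2]
  exact isCatenarySpace_of_isLocallyClosed ((U : S.Opens) : Set S) U.1.isOpen.isLocallyClosed h

theorem exists_affine_mem (S : Scheme.{u}) (s : S) : ∃ U : S.affineOpens, s ∈ (U : S.Opens) := by
  obtain ⟨U, hU, hs, -⟩ := exists_isAffineOpen_mem_and_subset (X := S) (x := s) (U := ⊤) trivial
  exact ⟨⟨U, hU⟩, hs⟩

theorem scheme_main1 (S : Scheme.{u}) :
    (PtTop.IsCatenarySpace S ↔ ∀ U : S.affineOpens, CAlg.IsCatenary Γ(S, U)) ∧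
    (PtTop.IsCatenarySpace S ↔
      ∀ s : S, ∃ U : S.affineOpens, s ∈ (U : S.Opens) ∧ CAlg.IsCatenary Γ(S, U)) := by
  refine ⟨⟨isCatenary_affine_of_isCatenarySpace S, fun h => ?_⟩, ⟨fun h s => ?_,
    isCatenarySpace_of_affine_cover S⟩⟩
  · apply isCatenarySpace_of_affine_cover
    intro s
    obtain ⟨U, hU⟩ := exists_affine_mem S s
    exact ⟨U, hU, h U⟩
  · obtain ⟨U, hU⟩ := exists_affine_mem S s
    exact ⟨U, hU, isCatenary_affine_of_isCatenarySpace S h U⟩

theorem scheme_main2 (X : Scheme.{u}) :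
    PtTop.IsCatenarySpace X ↔ ∀ x : X, CAlg.IsCatenary (X.presheaf.stalk x) := by
  constructor
  · intro h x
    obtain ⟨U, hxU⟩ := exists_affine_mem X x
    have hA := isCatenary_affine_of_isCatenarySpace X h U
    let _ := X.presheaf.algebra_section_stalk ⟨x, hxU⟩
    have hloc := U.2.isLocalization_stalk ⟨x, hxU⟩
    exact isCatenary_of_isLocalization Γ(X, U) (U.2.primeIdealOf ⟨x, hxU⟩).asIdeal.primeCompl
      (X.presheaf.stalk x) hA
  · intro h
    apply isCatenarySpace_of_affine_cover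
    intro s
    obtain ⟨U, hsU⟩ := exists_affine_mem X s
    refine ⟨U, hsU, ?_⟩
    apply Groth.Agent.Lib.Helper1.Cat.isCatenary_of_localization_cover
    intro p
    have hy : U.2.fromSpec p ∈ (U : X.Opens) := (U.2.isoSpec.inv _).2
    refine ⟨p.asIdeal.primeCompl, X.presheaf.stalk (U.2.fromSpec p), inferInstance,
      X.presheaf.algebra_section_stalk ⟨_, hy⟩, U.2.isLocalization_stalk' p hy, ?_, h _⟩
    exact Set.disjoint_left.mpr fun a ha ha' => ha ha'

end Groth.Agent.H6.Cat4
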