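import Mathlib
import Groth.Agent.Lib.Helper6.Cat4

set_option autoImplicit false
set_option linter.dupNamespace false

namespace Groth.Agent.H6.Cat5

open Groth.Agent.H6.Cat Groth.Agent.H6.Cat3 Groth.Agent.H6.Cat4 Groth.Agent.H5 TopologicalSpace
open AlgebraicGeometry CategoryTheory

universe u

theorem isCatenary_of_ringEquiv {A B : Type u} [CommRing A] [CommRing B] (e : A ≃+* B)
    (h : CAlg.IsCatenary A) : CAlg.IsCatenary B := by
  rw [isCatenary_iff_orderCatenary] at h ⊢
  exact OrderCatenary.of_orderIso (PrimeSpectrum.comapEquiv e).symm h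

theorem isCatenary_of_surjective {A B : Type u} [CommRing A] [CommRing B] (f : A →+* B)
    (hf : Function.Surjective f) (h : CAlg.IsCatenary A) : CAlg.IsCatenary B :=
  isCatenary_of_ringEquiv (RingHom.quotientKerEquivOfSurjective hf)
    (isCatenary_quotient A (RingHom.ker f) h)

/-- a scheme all of whose stalks are universally catenary is universally catenary -/
theorem catenary_of_stalks (S : Scheme.{u})
    (hS : ∀ s : S, CAlg.IsUniversallyCatenary (S.presheaf.stalk s))
    (X : Scheme.{u}) (f : X ⟶ S) (hf : LocallyOfFiniteType f) : PtTop.IsCatenarySpace X := by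
  apply isCatenarySpace_of_affine_cover
  intro x
  obtain ⟨U, hxU⟩ := exists_affine_mem S (f x)
  obtain ⟨V, hV, hxV, hVU⟩ := exists_isAffineOpen_mem_and_subset (X := X) (x := x)
    (U := f ⁻¹ᵁ U.1) hxU
  refine ⟨⟨V, hV⟩, hxV, ?_⟩
  have hφ : (f.appLE U.1 V hVU).hom.FiniteType := hf.finiteType_appLE U.2 hV hVU
  set φ : Γ(S, U.1) →+* Γ(X, V) := (f.appLE U.1 V hVU).hom with hφdef
  apply Groth.Agent.Lib.Helper1.Cat.isCatenary_of_localization_cover
  intro q
  let p : PrimeSpectrum Γ(S, U.1) := PrimeSpectrum.comap φ q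
  have hy : U.2.fromSpec p ∈ (U : S.Opens) := (U.2.isoSpec.inv _).2
  let _ : Algebra Γ(S, U.1) (S.presheaf.stalk (U.2.fromSpec p)) :=
    S.presheaf.algebra_section_stalk ⟨_, hy⟩
  have hloc : IsLocalization p.asIdeal.primeCompl (S.presheaf.stalk (U.2.fromSpec p)) :=
    U.2.isLocalization_stalk' p hy
  refine ⟨p.asIdeal.primeCompl.map φ, Localization (p.asIdeal.primeCompl.map φ), inferInstance,
    inferInstance, inferInstance, ?_, ?_⟩
  · rw [Set.disjoint_left]
    rintro _ ⟨a, ha, rfl⟩ ha'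
    exact ha ha'
  · have hψ := RingHom.finiteType_localizationPreserves φ p.asIdeal.primeCompl
      (S.presheaf.stalk (U.2.fromSpec p)) (Localization (p.asIdeal.primeCompl.map φ)) hφ
    let _ : Algebra (S.presheaf.stalk (U.2.fromSpec p)) (Localization (p.asIdeal.primeCompl.map φ)) :=
      (IsLocalization.map (Localization (p.asIdeal.primeCompl.map φ)) φ
        (Submonoid.le_comap_map p.asIdeal.primeCompl)).toAlgebra
    exact (hS (U.2.fromSpec p)).2 _ hψ

theorem stalks_of_catenary (S : Scheme.{u}) [IsLocallyNoetherian S]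
    (H : ∀ (X : Scheme.{u}) (f : X ⟶ S), LocallyOfFiniteType f → PtTop.IsCatenarySpace X)
    (s : S) : CAlg.IsUniversallyCatenary (S.presheaf.stalk s) := by
  refine ⟨inferInstance, ?_⟩
  intro C _ _ hC
  obtain ⟨U, hsU⟩ := exists_affine_mem S s
  let _ : Algebra Γ(S, U.1) (S.presheaf.stalk s) := S.presheaf.algebra_section_stalk ⟨s, hsU⟩
  have hloc : IsLocalization (U.2.primeIdealOf ⟨s, hsU⟩).asIdeal.primeCompl (S.presheaf.stalk s) :=
    U.2.isLocalization_stalk ⟨s, hsU⟩
  obtain ⟨n, π, hπ⟩ := Algebra.FiniteType.iff_quotient_mvPolynomial''.mp hC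
  have h1 : CAlg.IsCatenary (MvPolynomial (Fin n) Γ(S, U.1)) := by
    have hft : LocallyOfFiniteType (Spec.map (CommRingCat.ofHom
        (algebraMap Γ(S, U.1) (MvPolynomial (Fin n) Γ(S, U.1))))) := by
      rw [HasRingHomProperty.Spec_iff (P := @LocallyOfFiniteType)]
      rw [CommRingCat.hom_ofHom, RingHom.finiteType_algebraMap]
      infer_instance
    have hoi : IsOpenImmersion U.2.fromSpec := U.2.isOpenImmersion_fromSpec
    have hft2 : LocallyOfFiniteType U.2.fromSpec := locallyOfFiniteType_of_isOpenImmersion _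
    have := H (Spec (CommRingCat.of (MvPolynomial (Fin n) Γ(S, U.1))))
      (Spec.map (CommRingCat.ofHom (algebraMap Γ(S, U.1) (MvPolynomial (Fin n) Γ(S, U.1))))
        ≫ U.2.fromSpec) (locallyOfFiniteType_comp _ _ (hf := hft) (hg := hft2))
    exact (isCatenarySpace_primeSpectrum_iff _).mp this
  have h2 : CAlg.IsCatenary (MvPolynomial (Fin n) (S.presheaf.stalk s)) := by
    let _ := MvPolynomial.algebraMvPolynomial (σ := Fin n) (R := Γ(S, U.1))
      (S := S.presheaf.stalk s)
    exact isCatenary_of_isLocalization _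
      ((U.2.primeIdealOf ⟨s, hsU⟩).asIdeal.primeCompl.map (MvPolynomial.C (σ := Fin n))) _ h1
  exact isCatenary_of_surjective π.toRingHom hπ h2

theorem main (S : Scheme.{u}) [IsLocallyNoetherian S] :
    (∀ (X : Scheme.{u}) (f : X ⟶ S), LocallyOfFiniteType f → PtTop.IsCatenarySpace X) ↔
      ∀ s : S, CAlg.IsUniversallyCatenary (S.presheaf.stalk s) :=
  ⟨stalks_of_catenary S, catenary_of_stalks S⟩

end Groth.Agent.H6.Cat5
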