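import Mathlib
import Groth.Prelude.Def_DerCA

set_option autoImplicit false
set_option linter.unusedSectionVars false

open CategoryTheory Limits Category

universe v u

namespace Groth.Agent.H6.Cech

open CochainComplex HomComplex

variable {C : Type u} [Category.{v} C] [Preadditive C] [HasBinaryBiproducts C]
  {K L : CochainComplex C ℤ} (φ : K ⟶ L)

lemma to_ext {A : C} (p q : ℤ) (hpq : p + -1 = q) (f g : A ⟶ (mappingCocone φ).X p)
    (h1 : f ≫ (mappingCocone.fst φ).f p = g ≫ (mappingCocone.fst φ).f p)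
    (h2 : f ≫ (mappingCocone.snd φ).v p q hpq = g ≫ (mappingCocone.snd φ).v p q hpq) : f = g := by
  have h := mappingCocone.id_X φ p q hpq
  rw [← comp_id f, ← comp_id g, ← h, Preadditive.comp_add, Preadditive.comp_add,
    reassoc_of% h1, reassoc_of% h2]

lemma from_ext {A : C} (p q : ℤ) (hpq : p + -1 = q) (f g : (mappingCocone φ).X p ⟶ A)
    (h1 : (mappingCocone.inl φ).v p p (add_zero p) ≫ f = (mappingCocone.inl φ).v p p (add_zero p) ≫ g)
    (h2 : (mappingCocone.inr φ).1.v q p (by lia) ≫ f = (mappingCocone.inr φ).1.v q p (by lia) ≫ g) :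
    f = g := by
  have h := mappingCocone.id_X φ p q hpq
  rw [← id_comp f, ← id_comp g, ← h, Preadditive.add_comp, Preadditive.add_comp,
    assoc, assoc, assoc, assoc, h1, h2]

lemma liftCochain_id : mappingCocone.liftCochain φ (Cochain.ofHom (mappingCocone.fst φ))
    (mappingCocone.snd φ) (by norm_num : (-1 : ℤ) + 1 = 0) = Cochain.ofHom (𝟙 _) := by
  ext p
  apply to_ext φ p (p + -1) rfl
  · simp
  · simp

/-- The differential of `snd`. -/
lemma δ_snd : δ (-1) 0 (mappingCocone.snd φ) = -Cochain.ofHom (mappingCocone.fst φ ≫ φ) := by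
  have h := mappingCocone.δ_liftCochain φ (Cochain.ofHom (mappingCocone.fst φ))
    (mappingCocone.snd φ) (by norm_num : (-1 : ℤ) + 1 = 0) 1 (by norm_num)
  rw [liftCochain_id, δ_ofHom, δ_ofHom, Cochain.zero_comp, zero_sub, eq_comm, neg_eq_zero] at h
  rw [eq_neg_iff_add_eq_zero, Cochain.ofHom_comp]
  ext p
  have h1 := congrArg (fun (γ : Cochain _ _ 1) => γ.v p (p + 1) rfl) h
  simp only [Cochain.zero_v] at h1
  rw [Cochain.comp_v _ _ (zero_add 1) p p (p+1) (add_zero p) rfl] at h1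
  have h2 := h1 =≫ (mappingCocone.snd φ).v (p+1) p (by lia)
  rw [assoc, mappingCocone.inr_v_snd_v, comp_id, zero_comp] at h2
  exact h2


section Map

variable {K₁ L₁ K₂ L₂ K₃ L₃ : CochainComplex C ℤ} (φ₁ : K₁ ⟶ L₁) (φ₂ : K₂ ⟶ L₂) (φ₃ : K₃ ⟶ L₃)
  (a : K₁ ⟶ K₂) (b : L₁ ⟶ L₂) (comm : φ₁ ≫ b = a ≫ φ₂)
  (a' : K₂ ⟶ K₃) (b' : L₂ ⟶ L₃) (comm' : φ₂ ≫ b' = a' ≫ φ₃)

/-- Functoriality of the mapping cocone. -/
noncomputable def coconeMap : mappingCocone φ₁ ⟶ mappingCocone φ₂ :=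
  mappingCocone.lift φ₂ (mappingCocone.fst φ₁ ≫ a)
    ((mappingCocone.snd φ₁).comp (Cochain.ofHom b) (add_zero _)) (by
      rw [δ_comp_ofHom, δ_snd, assoc, ← comm, ← assoc, Cochain.ofHom_comp _ b]
      simp)

@[reassoc (attr := simp)]
lemma coconeMap_fst : coconeMap φ₁ φ₂ a b comm ≫ mappingCocone.fst φ₂ = mappingCocone.fst φ₁ ≫ a := by
  simp [coconeMap]

@[reassoc (attr := simp)]
lemma coconeMap_f_fst_f (p : ℤ) : (coconeMap φ₁ φ₂ a b comm).f p ≫ (mappingCocone.fst φ₂).f p =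
    (mappingCocone.fst φ₁).f p ≫ a.f p := by
  simp [coconeMap]

@[reassoc (attr := simp)]
lemma coconeMap_f_snd_v (p q : ℤ) (hpq : p + -1 = q) :
    (coconeMap φ₁ φ₂ a b comm).f p ≫ (mappingCocone.snd φ₂).v p q hpq =
      (mappingCocone.snd φ₁).v p q hpq ≫ b.f q := by
  simp [coconeMap]

lemma coconeMap_id : coconeMap φ₁ φ₁ (𝟙 _) (𝟙 _) (by simp) = 𝟙 _ := by
  ext p
  apply to_ext φ₁ p (p + -1) rfl <;> simp

lemma coconeMap_comp : coconeMap φ₁ φ₃ (a ≫ a') (b ≫ b') (by rw [reassoc_of% comm, comm', assoc]) =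
    coconeMap φ₁ φ₂ a b comm ≫ coconeMap φ₂ φ₃ a' b' comm' := by
  ext p
  apply to_ext φ₃ p (p + -1) rfl <;> simp

@[reassoc (attr := simp)]
lemma inl_v_coconeMap_f (p : ℤ) :
    (mappingCocone.inl φ₁).v p p (add_zero p) ≫ (coconeMap φ₁ φ₂ a b comm).f p =
      a.f p ≫ (mappingCocone.inl φ₂).v p p (add_zero p) := by
  apply to_ext φ₂ p (p + -1) rfl <;> simp

@[reassoc (attr := simp)]
lemma inr_v_coconeMap_f (p q : ℤ) (hpq : p + 1 = q) :
    (mappingCocone.inr φ₁).1.v p q hpq ≫ (coconeMap φ₁ φ₂ a b comm).f q =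
      b.f p ≫ (mappingCocone.inr φ₂).1.v p q hpq := by
  apply to_ext φ₂ q p (by lia) <;> simp

lemma coconeMap_zero : coconeMap φ₁ φ₂ 0 0 (by simp) = 0 := by
  ext p
  apply to_ext φ₂ p (p + -1) rfl <;> simp

lemma coconeMap_add (a₂ : K₁ ⟶ K₂) (b₂ : L₁ ⟶ L₂) (comm₂ : φ₁ ≫ b₂ = a₂ ≫ φ₂) :
    coconeMap φ₁ φ₂ (a + a₂) (b + b₂) (by rw [Preadditive.comp_add, Preadditive.add_comp, comm, comm₂]) =
      coconeMap φ₁ φ₂ a b comm + coconeMap φ₁ φ₂ a₂ b₂ comm₂ := by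
  ext p
  apply to_ext φ₂ p (p + -1) rfl <;> simp

end Map

section Diff

lemma d_snd_v (p q r : ℤ) (hpq : p + 1 = q) (hr : p + -1 = r) :
    (mappingCocone φ).d p q ≫ (mappingCocone.snd φ).v q p (by lia) =
      -(mappingCocone.fst φ).f p ≫ φ.f p - (mappingCocone.snd φ).v p r hr ≫ L.d r p := by
  have h := congrArg (fun (γ : Cochain _ _ 0) => γ.v p p (add_zero p)) (δ_snd φ)
  beta_reduce at h
  rw [δ_v (-1) 0 (by norm_num) _ p p (add_zero p) r q (by lia) (by lia)] at h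
  simp only [Int.negOnePow_zero, one_smul, Cochain.neg_v, Cochain.ofHom_v,
    HomologicalComplex.comp_f] at h
  rw [← h]
  abel

lemma inr_v_d (p q q' : ℤ) (hpq : p + 1 = q) (hq : q + 1 = q') :
    (mappingCocone.inr φ).1.v p q hpq ≫ (mappingCocone φ).d q q' =
      -L.d p q ≫ (mappingCocone.inr φ).1.v q q' hq := by
  apply to_ext φ q' q (by lia)
  · rw [assoc, ← (mappingCocone.fst φ).comm q q', mappingCocone.inr_v_fst_f_assoc, zero_comp]
    simp
  · rw [assoc, d_snd_v φ q q' p hq (by lia)]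
    simp

lemma inl_v_d (p q : ℤ) (hpq : p + 1 = q) :
    (mappingCocone.inl φ).v p p (add_zero p) ≫ (mappingCocone φ).d p q =
      K.d p q ≫ (mappingCocone.inl φ).v q q (add_zero q) -
        φ.f p ≫ (mappingCocone.inr φ).1.v p q hpq := by
  apply to_ext φ q p (by lia)
  · rw [assoc, ← (mappingCocone.fst φ).comm p q, mappingCocone.inl_v_fst_f_assoc]
    simp
  · rw [assoc, d_snd_v φ p q (p + -1) hpq rfl]
    simp

end Diff

end Groth.Agent.H6.Cech
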