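import Mathlib
import Groth.Prelude.Def_DerCA
import Groth.Agent.Lib.Helper6.Cech1
import Groth.Agent.Lib.Helper5.ExtCech.H0
import Groth.Agent.Lib.Helper6.LCTorsion

set_option autoImplicit false
set_option linter.unusedSectionVars false

open CategoryTheory Limits Category

universe u

namespace Groth.Agent.H6.Cech

open CochainComplex HomComplex DerCA

variable {R : Type u} [CommRing R]

/-- Elementwise acyclicity of a complex of modules in degree `q`. -/
def Acyc (K : DRing.Cx R) (q : ℤ) : Prop :=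
  ∀ x : K.X q, (K.d q (q + 1)).hom x = 0 → ∃ y : K.X (q - 1), (K.d (q - 1) q).hom y = x

lemma isZero_homology_iff (K : DRing.Cx R) (q : ℤ) : IsZero (K.homology q) ↔ Acyc K q := by
  rw [← HomologicalComplex.exactAt_iff_isZero_homology,
    HomologicalComplex.exactAt_iff' K (q - 1) q (q + 1) (by simp) (by simp),
    ShortComplex.moduleCat_exact_iff]
  rfl


lemma acyc_iff' (K : DRing.Cx R) (p q r : ℤ) (hpq : p + 1 = q) (hqr : q + 1 = r) :
    Acyc K q ↔ ∀ x : K.X q, (K.d q r).hom x = 0 → ∃ y : K.X p, (K.d p q).hom y = x := by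
  obtain rfl : p = q - 1 := by lia
  obtain rfl : r = q + 1 := by lia
  exact Iff.rfl

/-- Termwise localisation preserves acyclicity. -/
lemma acyc_loc (S : Submonoid R) (K : DRing.Cx R) (n : ℤ) (h : Acyc K n) :
    Acyc ((locCx S).obj K) n := by
  intro l hl
  induction l using LocalizedModule.induction_on with
  | h m s =>
    have hl' : ((locFunctor S).map (K.d n (n + 1))).hom
        (LocalizedModule.mk m s : LocalizedModule S (K.X n)) = 0 := hl
    rw [H5ExtCech.locFunctor_map_mk] at hl'
    have hl'' : (LocalizedModule.mk ((K.d n (n + 1)).hom m) s :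
        LocalizedModule S (K.X (n + 1))) = 0 := hl'
    rw [H5ExtCech.mk_eq_zero_iff'] at hl''
    obtain ⟨u, hu⟩ := hl''
    have h1 : (K.d n (n + 1)).hom ((u : R) • m) = 0 := by
      rw [map_smul]; exact hu
    obtain ⟨y, hy⟩ := h _ h1
    refine ⟨(LocalizedModule.mk y (u * s) : LocalizedModule S (K.X (n - 1))), ?_⟩
    change ((locFunctor S).map (K.d (n - 1) n)).hom
        (LocalizedModule.mk y (u * s) : LocalizedModule S (K.X (n - 1))) = _
    rw [H5ExtCech.locFunctor_map_mk, hy]
    exact LocalizedModule.mk_cancel_common_left u s m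

/-- For an injective module over a Noetherian ring, `Z ⟶ Z_f` is surjective. -/
lemma exists_pow_smul_eq_of_injective [IsNoetherianRing R] (Z : Type u) [AddCommGroup Z] [Module R Z]
    [Module.Injective R Z] (f : R) (z : Z) (n : ℕ) :
    ∃ (z' : Z) (i : ℕ), f ^ (i + n) • z' = f ^ i • z := by
  let a : ℕ →o Ideal R :=
    { toFun := fun k => LinearMap.ker (LinearMap.toSpanSingleton R R (f ^ k))
      monotone' := by
        apply monotone_nat_of_le_succ
        intro k r hr
        rw [LinearMap.mem_ker, LinearMap.toSpanSingleton_apply] at hr ⊢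
        rw [smul_eq_mul] at hr
        rw [pow_succ, smul_eq_mul, ← mul_assoc, hr, zero_mul] }
  obtain ⟨i, hi⟩ := monotone_stabilizes_iff_noetherian.mpr (inferInstance : IsNoetherian R R) a
  let p : Ideal R := a (i + n)
  let ι : (R ⧸ p) →ₗ[R] R := Submodule.liftQ p (LinearMap.toSpanSingleton R R (f ^ (i + n))) le_rfl
  have hι : Function.Injective ι := by
    rw [← LinearMap.ker_eq_bot]
    exact Submodule.ker_liftQ_eq_bot _ _ _ le_rfl
  have hp : p ≤ LinearMap.ker (LinearMap.toSpanSingleton R Z (f ^ i • z)) := by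
    intro r hr
    have h1 : r ∈ a i := by
      rw [hi (i + n) (by lia)]; exact hr
    have h1' : r ∈ LinearMap.ker (LinearMap.toSpanSingleton R R (f ^ i)) := h1
    rw [LinearMap.mem_ker, LinearMap.toSpanSingleton_apply] at h1' ⊢
    rw [smul_smul, ← smul_eq_mul, h1', zero_smul]
  let g : (R ⧸ p) →ₗ[R] Z := Submodule.liftQ p (LinearMap.toSpanSingleton R Z (f ^ i • z)) hp
  obtain ⟨h, hh⟩ := Module.Injective.out ι hι g
  refine ⟨h 1, i, ?_⟩
  have h2 := hh (Submodule.Quotient.mk 1)
  have h3 : ι (Submodule.Quotient.mk 1) = f ^ (i + n) • (1 : R) := by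
    change Submodule.liftQ p (LinearMap.toSpanSingleton R R (f ^ (i + n))) le_rfl (Submodule.Quotient.mk 1) = _
    rw [Submodule.liftQ_apply, LinearMap.toSpanSingleton_apply, one_smul, smul_eq_mul, mul_one]
  have h4 : g (Submodule.Quotient.mk 1) = f ^ i • z := by
    change Submodule.liftQ p (LinearMap.toSpanSingleton R Z (f ^ i • z)) hp (Submodule.Quotient.mk 1) = _
    rw [Submodule.liftQ_apply, LinearMap.toSpanSingleton_apply, one_smul]
  rw [h3, h4, map_smul] at h2
  exact h2

section Elem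

variable {K L : DRing.Cx R} (φ : K ⟶ L)

local notation "C" => mappingCocone φ

lemma e_fst_d (p q : ℤ) (c : (C).X p) :
    ((mappingCocone.fst φ).f q).hom (((C).d p q).hom c) =
      (K.d p q).hom (((mappingCocone.fst φ).f p).hom c) := by
  have h := congrArg (fun ψ => ψ.hom c) ((mappingCocone.fst φ).comm p q)
  exact h.symm

lemma e_snd_d (p q r : ℤ) (hpq : p + 1 = q) (hr : p + -1 = r) (c : (C).X p) :
    ((mappingCocone.snd φ).v q p (by lia)).hom (((C).d p q).hom c) =
      -(φ.f p).hom (((mappingCocone.fst φ).f p).hom c) -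
        (L.d r p).hom (((mappingCocone.snd φ).v p r hr).hom c) := by
  have h := congrArg (fun ψ => ψ.hom c) (d_snd_v φ p q r hpq hr)
  exact h

lemma e_fst_inl (p : ℤ) (k : K.X p) :
    ((mappingCocone.fst φ).f p).hom (((mappingCocone.inl φ).v p p (add_zero p)).hom k) = k := by
  have h := congrArg (fun ψ => ψ.hom k) (mappingCocone.inl_v_fst_f φ p)
  exact h

lemma e_snd_inl (p q : ℤ) (hpq : p + -1 = q) (k : K.X p) :
    ((mappingCocone.snd φ).v p q hpq).hom (((mappingCocone.inl φ).v p p (add_zero p)).hom k) = 0 := by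
  have h := congrArg (fun ψ => ψ.hom k) (mappingCocone.inl_v_snd_v φ p q hpq)
  exact h

lemma e_fst_inr (p q : ℤ) (hpq : p + 1 = q) (l : L.X p) :
    ((mappingCocone.fst φ).f q).hom (((mappingCocone.inr φ).1.v p q hpq).hom l) = 0 := by
  have h := congrArg (fun ψ => ψ.hom l) (mappingCocone.inr_v_fst_f φ p q hpq)
  exact h

lemma e_snd_inr (p q : ℤ) (hpq : p + 1 = q) (l : L.X p) :
    ((mappingCocone.snd φ).v q p (by lia)).hom (((mappingCocone.inr φ).1.v p q hpq).hom l) = l := by
  have h := congrArg (fun ψ => ψ.hom l) (mappingCocone.inr_v_snd_v φ p q hpq)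
  exact h

lemma e_id (p q : ℤ) (hpq : p + -1 = q) (c : (C).X p) :
    ((mappingCocone.inl φ).v p p (add_zero p)).hom (((mappingCocone.fst φ).f p).hom c) +
      ((mappingCocone.inr φ).1.v q p (by lia)).hom (((mappingCocone.snd φ).v p q hpq).hom c) = c := by
  have h := congrArg (fun ψ => ψ.hom c) (mappingCocone.id_X φ p q hpq)
  exact h

lemma e_ext (p q : ℤ) (hpq : p + -1 = q) (c c' : (C).X p)
    (h1 : ((mappingCocone.fst φ).f p).hom c = ((mappingCocone.fst φ).f p).hom c')
    (h2 : ((mappingCocone.snd φ).v p q hpq).hom c = ((mappingCocone.snd φ).v p q hpq).hom c') :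
    c = c' := by
  rw [← e_id φ p q hpq c, ← e_id φ p q hpq c', h1, h2]

lemma e_d_inl (p q : ℤ) (hpq : p + 1 = q) (k : K.X p) :
    ((C).d p q).hom (((mappingCocone.inl φ).v p p (add_zero p)).hom k) =
      ((mappingCocone.inl φ).v q q (add_zero q)).hom ((K.d p q).hom k) -
        ((mappingCocone.inr φ).1.v p q hpq).hom ((φ.f p).hom k) := by
  have h := congrArg (fun ψ => ψ.hom k) (inl_v_d φ p q hpq)
  exact h

lemma e_d_inr (p q q' : ℤ) (hpq : p + 1 = q) (hq : q + 1 = q') (l : L.X p) :
    ((C).d q q').hom (((mappingCocone.inr φ).1.v p q hpq).hom l) =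
      -((mappingCocone.inr φ).1.v q q' hq).hom ((L.d p q).hom l) := by
  have h := congrArg (fun ψ => ψ.hom l) (inr_v_d φ p q q' hpq hq)
  exact h

/-- **Lemma A**: acyclicity of a mapping cocone in degree `q`. -/
lemma acyc_cocone (q : ℤ) (hK : Acyc K q)
    (hL : ∀ l : L.X (q - 1), (L.d (q - 1) q).hom l = 0 →
      ∃ (k : K.X (q - 1)) (l' : L.X (q - 1 - 1)), (K.d (q - 1) q).hom k = 0 ∧
        l = (φ.f (q - 1)).hom k + (L.d (q - 1 - 1) (q - 1)).hom l') :
    Acyc (C) q := by
  intro c hc
  -- first coordinate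
  have h1 : (K.d q (q + 1)).hom (((mappingCocone.fst φ).f q).hom c) = 0 := by
    rw [← e_fst_d, hc, map_zero]
  obtain ⟨k', hk'⟩ := hK _ h1
  have hq1 : q - 1 + 1 = q := by lia
  have hq2 : q + -1 = q - 1 := by lia
  have hq3 : q - 1 - 1 + 1 = q - 1 := by lia
  set c' := c - ((C).d (q - 1) q).hom (((mappingCocone.inl φ).v (q - 1) (q - 1) (add_zero _)).hom k')
    with hc'
  have hf : ((mappingCocone.fst φ).f q).hom c' = 0 := by
    rw [hc', map_sub, e_fst_d, e_fst_inl, hk', sub_self]
  set l' := ((mappingCocone.snd φ).v q (q - 1) hq2).hom c' with hl'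
  have hc'eq : c' = ((mappingCocone.inr φ).1.v (q - 1) q hq1).hom l' := by
    have h := e_id φ q (q - 1) hq2 c'
    rw [hf, map_zero, zero_add] at h
    exact h.symm
  have hdc' : ((C).d q (q + 1)).hom c' = 0 := by
    rw [hc', map_sub, hc, zero_sub, neg_eq_zero]
    have h := congrArg (fun ψ => ψ.hom (((mappingCocone.inl φ).v (q - 1) (q - 1) (add_zero _)).hom k'))
      ((C).d_comp_d (q - 1) q (q + 1))
    exact h
  have hdl' : (L.d (q - 1) q).hom l' = 0 := by
    have h := e_d_inr φ (q - 1) q (q + 1) hq1 rfl l'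
    rw [← hc'eq, hdc', eq_comm, neg_eq_zero] at h
    have h2 := e_snd_inr φ q (q + 1) rfl ((L.d (q - 1) q).hom l')
    rw [h, map_zero] at h2
    exact h2.symm
  obtain ⟨k'', l'', hk'', hl''⟩ := hL l' hdl'
  refine ⟨((mappingCocone.inl φ).v (q - 1) (q - 1) (add_zero _)).hom k' -
    ((mappingCocone.inl φ).v (q - 1) (q - 1) (add_zero _)).hom k'' -
      ((mappingCocone.inr φ).1.v (q - 1 - 1) (q - 1) hq3).hom l'', ?_⟩
  rw [map_sub, map_sub, e_d_inl φ (q - 1) q hq1 k'', hk'', map_zero, zero_sub,
    e_d_inr φ (q - 1 - 1) (q - 1) q hq3 hq1 l'', sub_neg_eq_add, sub_neg_eq_add, add_assoc, ← map_add,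
    ← hl'', ← hc'eq, hc']
  abel

lemma acyc_cocone' (q p p' : ℤ) (hp : p + 1 = q) (hp' : p' + 1 = p) (hK : Acyc K q)
    (hL : ∀ l : L.X p, (L.d p q).hom l = 0 →
      ∃ (k : K.X p) (l' : L.X p'), (K.d p q).hom k = 0 ∧
        l = (φ.f p).hom k + (L.d p' p).hom l') :
    Acyc (C) q := by
  obtain rfl : p = q - 1 := by lia
  obtain rfl : p' = q - 1 - 1 := by lia
  exact acyc_cocone φ q hK hL

end Elem

/-- The degree-zero cycles as a submodule. -/
noncomputable def Z0 (K : DRing.Cx R) : Submodule R (K.X 0) := LinearMap.ker (K.d 0 1).hom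

lemma z0_equiv_homology (K : DRing.Cx R) (hK : IsZero (K.X (0 - 1))) :
    Nonempty (Z0 K ≃ₗ[R] K.homology 0) := by
  have hinj := H5ExtCech.iCycles_injective K 0
  have hrange : LinearMap.range (K.iCycles 0).hom = Z0 K := by
    apply le_antisymm
    · rintro _ ⟨c, rfl⟩
      have h2 : (K.iCycles 0 ≫ K.d 0 1).hom c = 0 := by
        rw [K.iCycles_d]; rfl
      exact h2
    · intro x hx
      have hex : (ShortComplex.mk _ _ (K.iCycles_d 0 1)).Exact :=
        ShortComplex.exact_of_f_is_kernel _ (K.cyclesIsKernel 0 1 (by simp))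
      rw [ShortComplex.moduleCat_exact_iff] at hex
      exact hex x hx
  let e1 : K.cycles 0 ≃ₗ[R] Z0 K :=
    (LinearEquiv.ofInjective (K.iCycles 0).hom hinj).trans (LinearEquiv.ofEq _ _ hrange)
  have hbij : Function.Bijective (K.homologyπ 0).hom := by
    refine ⟨?_, H5ExtCech.homologyπ_surjective K 0⟩
    rw [injective_iff_map_eq_zero]
    intro c hc
    exact H5ExtCech.cycle_eq_zero_of_homologyπ_eq_zero K 0 hK c hc
  exact ⟨e1.symm.trans (LinearEquiv.ofBijective (K.homologyπ 0).hom hbij)⟩

/-- **S17778 core**: the extended Čech complex of an injective module over a Noetherian ring is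
acyclic in positive degrees. -/
theorem acyc_extCech_of_injective [IsNoetherianRing R] : ∀ (fs : List R) (E : Type u)
    [AddCommGroup E] [Module R E] [Module.Injective R E] (q : ℤ), 1 ≤ q →
    Acyc (extCech (ModuleCat.of R E) fs) q := by
  intro fs
  induction fs with
  | nil =>
    intro E _ _ _ q hq x _
    have hz : IsZero ((extCech (ModuleCat.of R E) []).X q) :=
      HomologicalComplex.isZero_single_obj_X (ComplexShape.up ℤ) 0 _ q (by lia)
    have := ModuleCat.subsingleton_of_isZero hz
    exact ⟨0, Subsingleton.elim _ _⟩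
  | cons f fs ih =>
    intro E _ _ _ q hq
    have hK := ih E q hq
    rcases eq_or_lt_of_le hq with h1 | h2
    · -- `q = 1`
      obtain rfl : q = 1 := h1.symm
      set K := extCech (ModuleCat.of R E) fs with hKdef
      refine acyc_cocone' _ 1 0 (-1) (by norm_num) (by norm_num) hK ?_
      intro l hl
      have hK0 : IsZero (K.X (0 - 1)) := H5ExtCech.isZero_extCech_X _ fs (0 - 1) (Or.inl (by norm_num))
      obtain ⟨e0⟩ := z0_equiv_homology K hK0
      obtain ⟨e1⟩ := H5ExtCech.nonempty_H0_linearEquiv (ModuleCat.of R E) fs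
      have : Module.Injective R (DRing.torsionSub (Ideal.span {a : R | a ∈ fs}) E) :=
        LC.torsionSub_injective _ E
      have : Module.Injective R (Z0 K) :=
        (Module.Baer.of_equiv (e0.trans e1).symm (Module.Baer.of_injective inferInstance)).injective
      have hlm : ∃ (m : K.X 0) (s : Submonoid.powers f),
          l = (LocalizedModule.mk m s : LocalizedModule (Submonoid.powers f) (K.X 0)) := by
        induction l using LocalizedModule.induction_on with
        | h m s => exact ⟨m, s, rfl⟩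
      obtain ⟨m, ⟨s, n, rfl⟩, hls⟩ := hlm
      subst hls
      have hl' : ((locFunctor (Submonoid.powers f)).map (K.d 0 1)).hom
          (LocalizedModule.mk m ⟨f ^ n, n, rfl⟩ :
            LocalizedModule (Submonoid.powers f) (K.X 0)) = 0 := hl
      rw [H5ExtCech.locFunctor_map_mk] at hl'
      have hl'' : (LocalizedModule.mk ((K.d 0 1).hom m) ⟨f ^ n, n, rfl⟩ :
          LocalizedModule (Submonoid.powers f) (K.X 1)) = 0 := hl'
      rw [H5ExtCech.mk_eq_zero_iff'] at hl''
      obtain ⟨⟨u, j, rfl⟩, hu⟩ := hl''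
      have hzc : f ^ j • m ∈ Z0 K := by
        change (K.d 0 1).hom (f ^ j • m) = 0
        rw [map_smul]; exact hu
      obtain ⟨z', i, hz'⟩ := exists_pow_smul_eq_of_injective (Z0 K) f ⟨f ^ j • m, hzc⟩ (n + j)
      have hz'' : f ^ (i + (n + j)) • (z' : K.X 0) = f ^ i • f ^ j • m := by
        have := congrArg Subtype.val hz'
        exact this
      refine ⟨(z' : K.X 0), 0, z'.2, ?_⟩
      rw [map_zero, add_zero]
      change (LocalizedModule.mk m ⟨f ^ n, n, rfl⟩ :
            LocalizedModule (Submonoid.powers f) (K.X 0)) = LocalizedModule.mk (z' : K.X 0) 1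
      rw [LocalizedModule.mk_eq]
      refine ⟨⟨f ^ (i + j), i + j, rfl⟩, ?_⟩
      change f ^ (i + j) • (1 : R) • m = f ^ (i + j) • f ^ n • (z' : K.X 0)
      rw [one_smul, smul_smul, ← pow_add, show i + j + n = i + (n + j) by lia, hz'', smul_smul,
        ← pow_add]
    · -- `q ≥ 2`
      refine acyc_cocone' _ q (q - 1) (q - 1 - 1) (by lia) (by lia) hK ?_
      intro l hl
      have hKq := acyc_loc (Submonoid.powers f) _ (q - 1) (ih E (q - 1) (by lia))
      rw [acyc_iff' _ (q - 1 - 1) (q - 1) q (by lia) (by lia)] at hKq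
      obtain ⟨y, hy⟩ := hKq l hl
      exact ⟨0, y, by rw [map_zero], by rw [map_zero, zero_add, hy]⟩

end Groth.Agent.H6.Cech
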