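import Mathlib
import Groth.Prelude.Def_DerCA
import Groth.Agent.Lib.Helper6.Cech2

set_option autoImplicit false
set_option linter.unusedSectionVars false

open CategoryTheory Limits Category

universe u

namespace Groth.Agent.H6.Cech

open CochainComplex HomComplex DerCA

variable {R : Type u} [CommRing R]

lemma locCxUnit_naturality (S : Submonoid R) {K K' : DRing.Cx R} (a : K ⟶ K') :
    locCxUnit S K ≫ (locCx S).map a = a ≫ locCxUnit S K' := by
  apply HomologicalComplex.hom_ext
  intro i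
  exact ((locUnit S).naturality (a.f i)).symm

lemma coconeMap_congr {K₁ L₁ K₂ L₂ : DRing.Cx R} (φ₁ : K₁ ⟶ L₁) (φ₂ : K₂ ⟶ L₂)
    {a a' : K₁ ⟶ K₂} {b b' : L₁ ⟶ L₂} (comm : φ₁ ≫ b = a ≫ φ₂) (ha : a = a') (hb : b = b') :
    coconeMap φ₁ φ₂ a b comm = coconeMap φ₁ φ₂ a' b' (by rw [← ha, ← hb]; exact comm) := by
  subst ha hb
  rfl

/-- Functoriality of the extended Čech complex in the module. -/
noncomputable def cechMap {M N : ModuleCat.{u} R} (g : M ⟶ N) :
    ∀ fs : List R, extCech M fs ⟶ extCech N fs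
  | [] => (HomologicalComplex.single (ModuleCat.{u} R) (ComplexShape.up ℤ) 0).map g
  | f :: fs => coconeMap (locCxUnit (Submonoid.powers f) (extCech M fs))
      (locCxUnit (Submonoid.powers f) (extCech N fs)) (cechMap g fs)
      ((locCx (Submonoid.powers f)).map (cechMap g fs)) (locCxUnit_naturality _ _)

lemma cechMap_id (M : ModuleCat.{u} R) : ∀ fs : List R, cechMap (𝟙 M) fs = 𝟙 _
  | [] => (HomologicalComplex.single (ModuleCat.{u} R) (ComplexShape.up ℤ) 0).map_id M
  | f :: fs => by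
    change coconeMap _ _ _ _ _ = _
    rw [coconeMap_congr _ _ _ (cechMap_id M fs)
      (by rw [cechMap_id M fs, CategoryTheory.Functor.map_id])]
    exact coconeMap_id _

lemma cechMap_comp {M N P : ModuleCat.{u} R} (g : M ⟶ N) (g' : N ⟶ P) :
    ∀ fs : List R, cechMap (g ≫ g') fs = cechMap g fs ≫ cechMap g' fs
  | [] => (HomologicalComplex.single (ModuleCat.{u} R) (ComplexShape.up ℤ) 0).map_comp g g'
  | f :: fs => by
    change coconeMap _ _ _ _ _ = coconeMap _ _ _ _ _ ≫ coconeMap _ _ _ _ _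
    rw [coconeMap_congr _ _ _ (cechMap_comp g g' fs)
      (by rw [cechMap_comp g g' fs, CategoryTheory.Functor.map_comp])]
    exact coconeMap_comp _ _ _ _ _ _ _ _ _

lemma cechMap_add {M N : ModuleCat.{u} R} (g g' : M ⟶ N) :
    ∀ fs : List R, cechMap (g + g') fs = cechMap g fs + cechMap g' fs
  | [] => (HomologicalComplex.single (ModuleCat.{u} R) (ComplexShape.up ℤ) 0).map_add
  | f :: fs => by
    change coconeMap _ _ _ _ _ = coconeMap _ _ _ _ _ + coconeMap _ _ _ _ _
    rw [coconeMap_congr _ _ _ (cechMap_add g g' fs)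
      (by rw [cechMap_add g g' fs, CategoryTheory.Functor.map_add])]
    exact coconeMap_add _ _ _ _ _ _ _ _

/-- The extended Čech complex as a functor of the module. -/
noncomputable def cechFunctor (fs : List R) : ModuleCat.{u} R ⥤ DRing.Cx R where
  obj M := extCech M fs
  map g := cechMap g fs
  map_id M := cechMap_id M fs
  map_comp g g' := cechMap_comp g g' fs

instance (fs : List R) : (cechFunctor fs).Additive where
  map_add {M N g g'} := cechMap_add g g' fs


/-- Elementwise short exactness of a pair of maps of modules. -/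
structure SES {A B C : ModuleCat.{u} R} (f : A ⟶ B) (g : B ⟶ C) : Prop where
  inj : Function.Injective f.hom
  exact : Function.Exact f.hom g.hom
  surj : Function.Surjective g.hom

lemma ses_of_shortExact (S : ShortComplex (ModuleCat.{u} R)) (hS : S.ShortExact) : SES S.f S.g where
  inj := hS.moduleCat_injective_f
  exact := (ShortComplex.ShortExact.moduleCat_exact_iff_function_exact S).1 hS.exact
  surj := hS.moduleCat_surjective_g

lemma shortExact_of_ses (S : ShortComplex (ModuleCat.{u} R)) (h : SES S.f S.g) : S.ShortExact :=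
  ModuleCat.shortComplex_shortExact S h.exact h.inj h.surj

lemma ses_loc (S : Submonoid R) {A B C : ModuleCat.{u} R} {f : A ⟶ B} {g : B ⟶ C} (h : SES f g) :
    SES ((locFunctor S).map f) ((locFunctor S).map g) where
  inj := IsLocalizedModule.map_injective S (LocalizedModule.mkLinearMap S A)
    (LocalizedModule.mkLinearMap S B) f.hom h.inj
  exact := IsLocalizedModule.map_exact S (LocalizedModule.mkLinearMap S A)
    (LocalizedModule.mkLinearMap S B) (LocalizedModule.mkLinearMap S C) f.hom g.hom h.exact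
  surj := IsLocalizedModule.map_surjective S (LocalizedModule.mkLinearMap S B)
    (LocalizedModule.mkLinearMap S C) g.hom h.surj

lemma ses_of_isZero {A B C : ModuleCat.{u} R} (f : A ⟶ B) (g : B ⟶ C) (hA : IsZero A) (hB : IsZero B)
    (hC : IsZero C) : SES f g := by
  have := ModuleCat.subsingleton_of_isZero hA
  have := ModuleCat.subsingleton_of_isZero hB
  have := ModuleCat.subsingleton_of_isZero hC
  refine ⟨fun x y _ => Subsingleton.elim _ _, fun y => ?_, fun y => ⟨0, Subsingleton.elim _ _⟩⟩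
  exact ⟨fun _ => ⟨0, Subsingleton.elim _ _⟩, fun _ => Subsingleton.elim _ _⟩

lemma ses_conj {A B C A' B' C' : ModuleCat.{u} R} {f : A ⟶ B} {g : B ⟶ C} (h : SES f g)
    (eA : A' ≅ A) (eB : B' ≅ B) (eC : C' ≅ C) :
    SES (eA.hom ≫ f ≫ eB.inv) (eB.hom ≫ g ≫ eC.inv) := by
  have hA := eA.toLinearEquiv
  have iB : ∀ x, eB.hom.hom (eB.inv.hom x) = x := fun x => by
    have := congrArg (fun ψ => ψ.hom x) eB.inv_hom_id
    exact this
  have iB' : ∀ x, eB.inv.hom (eB.hom.hom x) = x := fun x => by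
    have := congrArg (fun ψ => ψ.hom x) eB.hom_inv_id
    exact this
  have iC : ∀ x, eC.hom.hom (eC.inv.hom x) = x := fun x => by
    have := congrArg (fun ψ => ψ.hom x) eC.inv_hom_id
    exact this
  have iA : ∀ x, eA.hom.hom (eA.inv.hom x) = x := fun x => by
    have := congrArg (fun ψ => ψ.hom x) eA.inv_hom_id
    exact this
  have iA' : ∀ x, eA.inv.hom (eA.hom.hom x) = x := fun x => by
    have := congrArg (fun ψ => ψ.hom x) eA.hom_inv_id
    exact this
  have injB : Function.Injective eB.inv.hom := fun x y hxy => by rw [← iB x, ← iB y, hxy]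
  have injC : Function.Injective eC.inv.hom := fun x y hxy => by rw [← iC x, ← iC y, hxy]
  have injA : Function.Injective eA.hom.hom := fun x y hxy => by rw [← iA' x, ← iA' y, hxy]
  refine ⟨?_, ?_, ?_⟩
  · intro x y hxy
    exact injA (h.inj (injB hxy))
  · intro y
    change eC.inv.hom (g.hom (eB.hom.hom y)) = 0 ↔ _
    constructor
    · intro hy
      have h1 : g.hom (eB.hom.hom y) = 0 := injC (by rw [hy, map_zero])
      obtain ⟨a, ha⟩ := (h.exact _).1 h1
      refine ⟨eA.inv.hom a, ?_⟩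
      change eB.inv.hom (f.hom (eA.hom.hom (eA.inv.hom a))) = y
      rw [iA, ha, iB']
    · rintro ⟨a, rfl⟩
      change eC.inv.hom (g.hom (eB.hom.hom (eB.inv.hom (f.hom (eA.hom.hom a))))) = 0
      rw [iB, (h.exact _).2 ⟨_, rfl⟩, map_zero]
  · intro z
    obtain ⟨b, hb⟩ := h.surj (eC.hom.hom z)
    refine ⟨eB.inv.hom b, ?_⟩
    change eC.inv.hom (g.hom (eB.hom.hom (eB.inv.hom b))) = z
    rw [iB, hb]
    have := congrArg (fun ψ => ψ.hom z) eC.hom_inv_id
    exact this


section SesCocone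

variable {K₁ L₁ K₂ L₂ K₃ L₃ : DRing.Cx R} (φ₁ : K₁ ⟶ L₁) (φ₂ : K₂ ⟶ L₂) (φ₃ : K₃ ⟶ L₃)
  (a : K₁ ⟶ K₂) (b : L₁ ⟶ L₂) (comm : φ₁ ≫ b = a ≫ φ₂)
  (a' : K₂ ⟶ K₃) (b' : L₂ ⟶ L₃) (comm' : φ₂ ≫ b' = a' ≫ φ₃)

lemma e_fst_map (n : ℤ) (x : (mappingCocone φ₁).X n) :
    ((mappingCocone.fst φ₂).f n).hom (((coconeMap φ₁ φ₂ a b comm).f n).hom x) =
      (a.f n).hom (((mappingCocone.fst φ₁).f n).hom x) := by
  have h := congrArg (fun ψ => ψ.hom x) (coconeMap_f_fst_f φ₁ φ₂ a b comm n)
  exact h

lemma e_snd_map (n p : ℤ) (hp : n + -1 = p) (x : (mappingCocone φ₁).X n) :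
    ((mappingCocone.snd φ₂).v n p hp).hom (((coconeMap φ₁ φ₂ a b comm).f n).hom x) =
      (b.f p).hom (((mappingCocone.snd φ₁).v n p hp).hom x) := by
  have h := congrArg (fun ψ => ψ.hom x) (coconeMap_f_snd_v φ₁ φ₂ a b comm n p hp)
  exact h

lemma e_map_inl (n : ℤ) (k : K₁.X n) :
    ((coconeMap φ₁ φ₂ a b comm).f n).hom (((mappingCocone.inl φ₁).v n n (add_zero n)).hom k) =
      ((mappingCocone.inl φ₂).v n n (add_zero n)).hom ((a.f n).hom k) := by
  have h := congrArg (fun ψ => ψ.hom k) (inl_v_coconeMap_f φ₁ φ₂ a b comm n)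
  exact h

lemma e_map_inr (p n : ℤ) (hp : p + 1 = n) (l : L₁.X p) :
    ((coconeMap φ₁ φ₂ a b comm).f n).hom (((mappingCocone.inr φ₁).1.v p n hp).hom l) =
      ((mappingCocone.inr φ₂).1.v p n hp).hom ((b.f p).hom l) := by
  have h := congrArg (fun ψ => ψ.hom l) (inr_v_coconeMap_f φ₁ φ₂ a b comm p n hp)
  exact h

lemma ses_cocone (n p : ℤ) (hp : n + -1 = p) (h1 : SES (a.f n) (a'.f n)) (h2 : SES (b.f p) (b'.f p)) :
    SES ((coconeMap φ₁ φ₂ a b comm).f n) ((coconeMap φ₂ φ₃ a' b' comm').f n) := by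
  have hp' : p + 1 = n := by lia
  refine ⟨?_, ?_, ?_⟩
  · intro x y hxy
    apply e_ext φ₁ n p hp
    · apply h1.inj
      rw [← e_fst_map φ₁ φ₂ a b comm, ← e_fst_map φ₁ φ₂ a b comm, hxy]
    · apply h2.inj
      rw [← e_snd_map φ₁ φ₂ a b comm, ← e_snd_map φ₁ φ₂ a b comm, hxy]
  · intro y
    constructor
    · intro hy
      have hy1 : (a'.f n).hom (((mappingCocone.fst φ₂).f n).hom y) = 0 := by
        rw [← e_fst_map φ₂ φ₃ a' b' comm', hy, map_zero]
      have hy2 : (b'.f p).hom (((mappingCocone.snd φ₂).v n p hp).hom y) = 0 := by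
        rw [← e_snd_map φ₂ φ₃ a' b' comm', hy, map_zero]
      obtain ⟨k, hk⟩ := (h1.exact _).1 hy1
      obtain ⟨l, hl⟩ := (h2.exact _).1 hy2
      refine ⟨((mappingCocone.inl φ₁).v n n (add_zero n)).hom k +
        ((mappingCocone.inr φ₁).1.v p n hp').hom l, ?_⟩
      rw [map_add, e_map_inl, e_map_inr, hk, hl]
      exact e_id φ₂ n p hp y
    · rintro ⟨x, rfl⟩
      apply e_ext φ₃ n p hp
      · rw [e_fst_map, e_fst_map, map_zero, (h1.exact _).2 ⟨_, rfl⟩]
      · rw [e_snd_map, e_snd_map, map_zero, (h2.exact _).2 ⟨_, rfl⟩]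
  · intro z
    obtain ⟨k, hk⟩ := h1.surj (((mappingCocone.fst φ₃).f n).hom z)
    obtain ⟨l, hl⟩ := h2.surj (((mappingCocone.snd φ₃).v n p hp).hom z)
    refine ⟨((mappingCocone.inl φ₂).v n n (add_zero n)).hom k +
        ((mappingCocone.inr φ₂).1.v p n hp').hom l, ?_⟩
    rw [map_add, e_map_inl, e_map_inr, hk, hl]
    exact e_id φ₃ n p hp z

end SesCocone

/-- The extended Čech complex is degreewise exact in the module. -/
theorem ses_cechMap {A B C : ModuleCat.{u} R} {f : A ⟶ B} {g : B ⟶ C} (h : SES f g) :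
    ∀ (fs : List R) (n : ℤ), SES ((cechMap f fs).f n) ((cechMap g fs).f n) := by
  intro fs
  induction fs with
  | nil =>
    intro n
    by_cases hn : n = 0
    · subst hn
      change SES (((HomologicalComplex.single (ModuleCat.{u} R) (ComplexShape.up ℤ) 0).map f).f 0)
        (((HomologicalComplex.single (ModuleCat.{u} R) (ComplexShape.up ℤ) 0).map g).f 0)
      rw [HomologicalComplex.single_map_f_self, HomologicalComplex.single_map_f_self]
      exact ses_conj h _ _ _
    · exact ses_of_isZero _ _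
        (HomologicalComplex.isZero_single_obj_X (ComplexShape.up ℤ) 0 _ n hn)
        (HomologicalComplex.isZero_single_obj_X (ComplexShape.up ℤ) 0 _ n hn)
        (HomologicalComplex.isZero_single_obj_X (ComplexShape.up ℤ) 0 _ n hn)
  | cons f₀ fs ih =>
    intro n
    exact ses_cocone _ _ _ _ _ _ _ _ _ n (n + -1) rfl (ih n) (ses_loc _ (ih (n + -1)))

end Groth.Agent.H6.Cech
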