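import Mathlib
import Groth.Prelude.Def_DerCA
import Groth.Agent.Lib.Helper6.Cech3
import Groth.Agent.Lib.Helper8.LC.LCDelta

set_option autoImplicit false
set_option linter.unusedSectionVars false

open CategoryTheory Limits Category

universe u

namespace Groth.Agent.H6.Cech

open CochainComplex HomComplex DerCA Groth.Agent.H8.LC

variable {R : Type u} [CommRing R]

lemma shortExact_map_cechFunctor (fs : List R) {S : ShortComplex (ModuleCat.{u} R)}
    (hS : S.ShortExact) : (S.map (cechFunctor fs)).ShortExact :=
  HomologicalComplex.shortExact_of_degreewise_shortExact _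
    (fun n => shortExact_of_ses _ (ses_cechMap (ses_of_shortExact S hS) fs n))

/-- Čech cohomology as a δ-functor. -/
noncomputable def cechDelta (fs : List R) : DeltaFunctor (ModuleCat.{u} R) (ModuleCat.{u} R) where
  F n := cechFunctor fs ⋙ HomologicalComplex.homologyFunctor _ _ (n : ℤ)
  δ hS n := (shortExact_map_cechFunctor fs hS).δ (n : ℤ) ((n + 1 : ℕ) : ℤ) (by simp)
  δ_naturality hS hS' φ n :=
    HomologicalComplex.HomologySequence.δ_naturality ((cechFunctor fs).mapShortComplex.map φ)
      (shortExact_map_cechFunctor fs hS) (shortExact_map_cechFunctor fs hS') _ _ _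
  map_comp_map {S} hS n := by
    rw [← Functor.map_comp, S.zero, Functor.map_zero]
  map_comp_δ hS n := (shortExact_map_cechFunctor fs hS).comp_δ _ _ _
  δ_comp_map hS n := (shortExact_map_cechFunctor fs hS).δ_comp _ _ _
  mono₀ {S} hS := by
    have hex := (shortExact_map_cechFunctor fs hS).homology_exact₁ (-1) 0 (by simp)
    apply hex.mono_g
    apply IsZero.eq_of_src
    have hz : IsZero ((extCech S.X₃ fs).X (-1)) :=
      H5ExtCech.isZero_extCech_X S.X₃ fs (-1) (Or.inl (by norm_num))
    exact ShortComplex.isZero_homology_of_isZero_X₂ _ hz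
  exact₂ hS n := (shortExact_map_cechFunctor fs hS).homology_exact₂ _
  exact₃ hS n := (shortExact_map_cechFunctor fs hS).homology_exact₃ _ _ _
  exact₁ hS n := (shortExact_map_cechFunctor fs hS).homology_exact₁ _ _ _


lemma cechDelta_effaceable [IsNoetherianRing R] (fs : List R) : (cechDelta fs).Effaceable := by
  intro I _ n
  have : Module.Injective R I := Module.injective_module_of_injective_object R I
  change IsZero ((extCech I fs).homology ((n + 1 : ℕ) : ℤ))
  rw [isZero_homology_iff]
  exact acyc_extCech_of_injective fs I _ (by push_cast; lia)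

/-- The augmentation `extCech M fs ⟶ M[0]`. -/
noncomputable def aug (M : ModuleCat.{u} R) : ∀ fs : List R,
    extCech M fs ⟶ (HomologicalComplex.single (ModuleCat.{u} R) (ComplexShape.up ℤ) 0).obj M
  | [] => 𝟙 _
  | f :: fs => mappingCocone.fst (locCxUnit (Submonoid.powers f) (extCech M fs)) ≫ aug M fs

lemma aug_naturality {M N : ModuleCat.{u} R} (g : M ⟶ N) : ∀ fs : List R,
    cechMap g fs ≫ aug N fs =
      aug M fs ≫ (HomologicalComplex.single (ModuleCat.{u} R) (ComplexShape.up ℤ) 0).map g
  | [] => by
    change (HomologicalComplex.single (ModuleCat.{u} R) (ComplexShape.up ℤ) 0).map g ≫ 𝟙 _ = 𝟙 _ ≫ _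
    rw [comp_id, id_comp]
  | f :: fs => by
    change coconeMap _ _ _ _ _ ≫ (mappingCocone.fst _ ≫ aug N fs) =
      (mappingCocone.fst _ ≫ aug M fs) ≫ _
    rw [← assoc, coconeMap_fst, assoc, aug_naturality g fs, assoc]

/-- The natural map `H⁰(extCech M fs) ⟶ M`. -/
noncomputable def eps (M : ModuleCat.{u} R) (fs : List R) : (extCech M fs).homology 0 ⟶ M :=
  HomologicalComplex.homologyMap (aug M fs) 0 ≫
    (HomologicalComplex.singleObjHomologySelfIso (ComplexShape.up ℤ) 0 M).hom

lemma eps_naturality {M N : ModuleCat.{u} R} (g : M ⟶ N) (fs : List R) :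
    HomologicalComplex.homologyMap (cechMap g fs) 0 ≫ eps N fs = eps M fs ≫ g := by
  unfold eps
  rw [← assoc, ← HomologicalComplex.homologyMap_comp, aug_naturality,
    HomologicalComplex.homologyMap_comp, assoc,
    HomologicalComplex.singleObjHomologySelfIso_hom_naturality, assoc]

lemma eps_cons (M : ModuleCat.{u} R) (f : R) (fs : List R) :
    eps M (f :: fs) = HomologicalComplex.homologyMap
      (mappingCocone.fst (locCxUnit (Submonoid.powers f) (extCech M fs))) 0 ≫ eps M fs := by
  unfold eps
  change HomologicalComplex.homologyMap (mappingCocone.fst _ ≫ aug M fs) 0 ≫ _ = _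
  rw [HomologicalComplex.homologyMap_comp, assoc]


lemma tors_eq (I : Ideal R) (M : Type u) [AddCommGroup M] [Module R M] :
    tors I M = DRing.torsionSub I M := rfl

/-- `eps` is injective with image the torsion submodule. -/
theorem eps_spec (M : ModuleCat.{u} R) : ∀ fs : List R,
    Function.Injective (eps M fs).hom ∧
      LinearMap.range (eps M fs).hom = tors (Ideal.span {a : R | a ∈ fs}) M := by
  intro fs
  induction fs with
  | nil =>
    have hbij : Function.Bijective (eps M []).hom := by
      have : IsIso (eps M []) := by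
        unfold eps
        change IsIso (HomologicalComplex.homologyMap
          (𝟙 ((HomologicalComplex.single (ModuleCat.{u} R) (ComplexShape.up ℤ) 0).obj M)) 0 ≫ _)
        rw [HomologicalComplex.homologyMap_id, id_comp]
        infer_instance
      exact ConcreteCategory.bijective_of_isIso (eps M [])
    refine ⟨hbij.1, ?_⟩
    rw [LinearMap.range_eq_top.2 hbij.2, eq_comm, eq_top_iff]
    intro m _
    refine ⟨1, fun a ha => ?_⟩
    have : a = 0 := by
      have h1 : ({a : R | a ∈ ([] : List R)} : Set R) = ∅ := by ext; simp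
      rw [pow_one, h1, Ideal.span_empty] at ha
      exact ha
    rw [this, zero_smul]
  | cons f fs ih =>
    obtain ⟨hinj, hrange⟩ := ih
    set K := extCech M fs with hKdef
    set lam := locCxUnit (Submonoid.powers f) K with hlam
    have hK : IsZero (K.X (0 - 1)) := H5ExtCech.isZero_extCech_X M fs (0 - 1) (Or.inl (by norm_num))
    have hL : IsZero (((locCx (Submonoid.powers f)).obj K).X (-1)) :=
      (locFunctor (Submonoid.powers f)).map_isZero (by simpa using hK)
    have hcons : ∀ x, (eps M (f :: fs)).hom x = (eps M fs).hom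
        ((HomologicalComplex.homologyMap (mappingCocone.fst lam) 0).hom x) := by
      intro x
      rw [eps_cons]; rfl
    constructor
    · intro x y hxy
      rw [hcons, hcons] at hxy
      exact H5ExtCech.homologyMap_fst_injective lam hK hL (hinj hxy)
    · ext m
      rw [H5ExtCech.span_cons, tors_eq, H5ExtCech.mem_torsionSub_sup_iff, ← tors_eq, ← hrange]
      constructor
      · rintro ⟨x, rfl⟩
        rw [hcons]
        refine ⟨⟨_, rfl⟩, ?_⟩
        have h1 := H5ExtCech.homologyMap_fst_comp lam 0 x
        rw [H5ExtCech.homologyMap_locCxUnit_eq_zero_iff f K hK] at h1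
        obtain ⟨n, hn⟩ := h1
        exact ⟨n, by rw [← map_smul, hn, map_zero]⟩
      · rintro ⟨⟨y, rfl⟩, n, hn⟩
        have h1 : f ^ n • y = 0 := by
          apply hinj
          rw [map_smul, hn, map_zero]
        have h2 := (H5ExtCech.homologyMap_locCxUnit_eq_zero_iff f K hK y).2 ⟨n, h1⟩
        obtain ⟨x, hx⟩ := H5ExtCech.exists_homologyMap_fst_eq lam 0 _ h2
        exact ⟨x, (hcons x).trans (by rw [hx])⟩


/-- `H⁰` of the Čech complex, as a linear equivalence with the torsion submodule. -/
noncomputable def h0Equiv (M : ModuleCat.{u} R) (fs : List R) :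
    (extCech M fs).homology 0 ≃ₗ[R] tors (Ideal.span {a : R | a ∈ fs}) M :=
  (LinearEquiv.ofInjective (eps M fs).hom (eps_spec M fs).1).trans
    (LinearEquiv.ofEq _ _ (eps_spec M fs).2)

lemma h0Equiv_coe (M : ModuleCat.{u} R) (fs : List R) (x : (extCech M fs).homology 0) :
    ((h0Equiv M fs x : tors (Ideal.span {a : R | a ∈ fs}) M) : M) = (eps M fs).hom x := rfl

/-- The natural isomorphism `Ȟ⁰ ≅ Γ_I`. -/
noncomputable def cechH0Iso (fs : List R) :
    (cechDelta fs).F 0 ≅ Γ (Ideal.span {a : R | a ∈ fs}) :=
  NatIso.ofComponents (fun M => (h0Equiv M fs).toModuleIso) (by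
    intro M N g
    ext x
    apply Subtype.ext
    have h := congrArg (fun ψ => ψ.hom x) (eps_naturality g fs)
    exact h)

/-- **Čech cohomology is local cohomology** (Noetherian ring), as a natural isomorphism. -/
noncomputable def cechIsoLC [IsNoetherianRing R] (fs : List R) (n : ℕ) :
    (cechDelta fs).F n ≅ localCohomology (Ideal.span {a : R | a ∈ fs}) n :=
  DeltaFunctor.extIso (T := cechDelta fs) (S := lcDelta (Ideal.span {a : R | a ∈ fs}))
    (cechDelta_effaceable fs) (lcDelta_effaceable _)
    (cechH0Iso fs ≪≫ (H0Iso (Ideal.span {a : R | a ∈ fs})).symm) n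

end Groth.Agent.H6.Cech
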