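import Mathlib

set_option autoImplicit false

namespace Groth.Agent.H6.Chain

/-- `Reach x r a b s`: there is a strictly increasing chain of naturals from `a` to `b` whose
trapezoid sum `∑ (x next - x prev) * (r next + r prev)` equals `s`. -/
inductive Reach (x r : ℕ → ℝ) (a : ℕ) : ℕ → ℝ → Prop
  | refl : Reach x r a a 0
  | step {j k : ℕ} {s : ℝ} : Reach x r a j s → j < k →
      Reach x r a k (s + (x k - x j) * (r k + r j))

variable {x r : ℕ → ℝ}

theorem Reach.le {a b : ℕ} {s : ℝ} (h : Reach x r a b s) : a ≤ b := by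
  induction h with
  | refl => exact le_rfl
  | step _ hjk ih => exact ih.trans hjk.le

theorem Reach.cast {a b : ℕ} {s s' : ℝ} (h : Reach x r a b s) (hs : s = s') : Reach x r a b s' :=
  hs ▸ h

theorem Reach.trans {a b c : ℕ} {s t : ℝ} (h₁ : Reach x r a b s) (h₂ : Reach x r b c t) :
    Reach x r a c (s + t) := by
  induction h₂ with
  | refl => exact h₁.cast (add_zero s).symm
  | step _ hjk ih => exact (Reach.step ih hjk).cast (by ring)

theorem Reach.single {a b : ℕ} (hab : a < b) :
    Reach x r a b ((x b - x a) * (r b + r a)) :=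
  (Reach.step Reach.refl hab).cast (by ring)

/-- change of the grid by a translation, and of the values on the relevant range -/
theorem Reach.congr {x' r' : ℕ → ℝ} {a b : ℕ} {s : ℝ} (t : ℝ) (h : Reach x r a b s)
    (hx : ∀ i, a ≤ i → i ≤ b → x' i = x i + t) (hr : ∀ i, a ≤ i → i ≤ b → r' i = r i) :
    Reach x' r' a b s := by
  induction h with
  | refl => exact Reach.refl
  | @step j k s hj hjk ih =>
    have hak : a ≤ k := hj.le.trans hjk.le
    have h1 := ih (fun i hi hij => hx i hi (hij.trans hjk.le))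
      (fun i hi hij => hr i hi (hij.trans hjk.le))
    refine (Reach.step h1 hjk).cast ?_
    rw [hx k hak le_rfl, hx j hj.le hjk.le, hr k hak le_rfl, hr j hj.le hjk.le]
    ring

/-- reversal -/
theorem Reach.reverse {a b : ℕ} {s : ℝ} (N : ℕ) (h : Reach x r a b s) (hb : b ≤ N) :
    Reach (fun i => -x (N - i)) (fun i => r (N - i)) (N - b) (N - a) s := by
  induction h with
  | refl => exact Reach.refl
  | @step j k s hj hjk ih =>
    have h1 := ih (hjk.le.trans hb)
    have hlt : N - k < N - j := by omega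
    have h2 : Reach (fun i => -x (N - i)) (fun i => r (N - i)) (N - k) (N - j)
        (((fun i => -x (N - i)) (N - j) - (fun i => -x (N - i)) (N - k)) *
          ((fun i => r (N - i)) (N - j) + (fun i => r (N - i)) (N - k))) := Reach.single hlt
    refine (h2.trans h1).cast ?_
    have e1 : N - (N - j) = j := by omega
    have e2 : N - (N - k) = k := by omega
    simp only [e1, e2]
    ring

theorem Reach.toChain {a b : ℕ} {s : ℝ} (h : Reach x r a b s) :
    ∃ (μ : ℕ) (c : Fin (μ + 1) → ℕ), StrictMono c ∧ c 0 = a ∧ c (Fin.last μ) = b ∧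
      ∑ j : Fin μ, (x (c j.succ) - x (c j.castSucc)) * (r (c j.succ) + r (c j.castSucc)) = s := by
  induction h with
  | refl =>
    refine ⟨0, fun _ => a, ?_, rfl, rfl, by simp⟩
    intro i j hij
    have hi : i = 0 := Fin.ext (by omega)
    have hj : j = 0 := Fin.ext (by omega)
    rw [hi, hj] at hij
    exact absurd hij (lt_irrefl _)
  | @step j k s hj hjk ih =>
    obtain ⟨μ, c, hc, hc0, hcl, hsum⟩ := ih
    refine ⟨μ + 1, Fin.snoc c k, ?_, ?_, ?_, ?_⟩
    · rw [Fin.strictMono_iff_lt_succ]
      intro i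
      rcases Fin.eq_castSucc_or_eq_last i with ⟨i', rfl⟩ | rfl
      · rw [Fin.snoc_castSucc, ← Fin.castSucc_succ, Fin.snoc_castSucc]
        exact hc (Fin.castSucc_lt_succ (i := i'))
      · rw [Fin.snoc_castSucc, Fin.succ_last, Fin.snoc_last, hcl]
        exact hjk
    · have : (0 : Fin (μ + 1 + 1)) = Fin.castSucc (0 : Fin (μ + 1)) := rfl
      rw [this, Fin.snoc_castSucc, hc0]
    · rw [Fin.snoc_last]
    · rw [Fin.sum_univ_castSucc]
      congr 1
      · rw [← hsum]
        apply Finset.sum_congr rfl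
        intro i _
        rw [← Fin.castSucc_succ, Fin.snoc_castSucc, Fin.snoc_castSucc]
      · rw [Fin.succ_last, Fin.snoc_last, Fin.snoc_castSucc, hcl]

/-- lowering the grid (with the same endpoints) lowers the trapezoid sum, for antitone values -/
theorem Reach.lower {e E : ℕ → ℝ} {a b : ℕ} {s : ℝ} (hle : ∀ i, e i ≤ E i) (h0 : e a = E a)
    (hanti : Antitone r) (h : Reach E r a b s) :
    ∃ s', Reach e r a b s' ∧ s' + 2 * (E b - e b) * r b ≤ s := by
  induction h with
  | refl => exact ⟨0, Reach.refl, by rw [h0]; simp⟩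
  | @step j k s hj hjk ih =>
    obtain ⟨s', hs', hle'⟩ := ih
    refine ⟨_, Reach.step hs' hjk, ?_⟩
    have h1 : 0 ≤ E j - e j := sub_nonneg.mpr (hle j)
    have h2 : 0 ≤ E k - e k := sub_nonneg.mpr (hle k)
    have h3 : 0 ≤ r j - r k := sub_nonneg.mpr (hanti hjk.le)
    have h4 : 0 ≤ ((E j - e j) + (E k - e k)) * (r j - r k) := mul_nonneg (add_nonneg h1 h2) h3
    nlinarith

end Groth.Agent.H6.Chain
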