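import Mathlib
import Groth.Agent.Lib.Helper6.Chain1

set_option autoImplicit false

namespace Groth.Agent.H6.Chain

theorem sum_linear (α β : ℝ) (m : ℕ) :
    ∑ i ∈ Finset.range (m + 1), (α + β * (i : ℝ)) = ((m : ℝ) + 1) * α + β * ((m : ℝ) * ((m : ℝ) + 1) / 2) := by
  induction m with
  | zero => simp
  | succ m ih =>
    rw [Finset.sum_range_succ, ih]
    push_cast
    ring

/-- Hermite–Hadamard on a uniform grid: some chain from `0` to `m` has trapezoid sum at most
`2m/(m+1)` times the sum of the values. -/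
theorem uniform (r : ℕ → ℝ) : ∀ m : ℕ, ∃ s, Reach (fun i => (i : ℝ)) r 0 m s ∧
    s * ((m : ℝ) + 1) ≤ 2 * (m : ℝ) * ∑ i ∈ Finset.range (m + 1), r i := by
  intro m
  induction m using Nat.strong_induction_on with
  | _ K ih =>
  rcases Nat.eq_zero_or_pos K with rfl | hK
  · exact ⟨0, Reach.refl, by simp⟩
  -- choose the predecessor
  let q : ℕ → ℝ := fun i => (r i - r K) / ((K : ℝ) - (i : ℝ))
  obtain ⟨j, hjmem, hjmin⟩ := Finset.exists_min_image (Finset.range K) q ⟨0, Finset.mem_range.mpr hK⟩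
  have hjK : j < K := Finset.mem_range.mp hjmem
  obtain ⟨sj, hreach, hsj⟩ := ih j hjK
  set Q := q j with hQ
  have hJK : (j : ℝ) < (K : ℝ) := by exact_mod_cast hjK
  have hJ0 : (0 : ℝ) ≤ (j : ℝ) := Nat.cast_nonneg j
  set α : ℝ := r K + Q * K with hα
  set β : ℝ := -Q with hβ
  let d : ℕ → ℝ := fun i => r i - (α + β * (i : ℝ))
  have hdK : d K = 0 := by simp only [d, hα, hβ]; ring
  have hdj : d j = 0 := by
    simp only [d, hα, hβ, hQ, q]
    have : (K : ℝ) - (j : ℝ) ≠ 0 := by linarith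
    field_simp
    ring
  have hdnn : ∀ i ∈ Finset.range (K + 1), 0 ≤ d i := by
    intro i hi
    rcases Nat.lt_or_ge i K with hiK | hiK
    · have h1 := hjmin i (Finset.mem_range.mpr hiK)
      have hpos : (0 : ℝ) < (K : ℝ) - (i : ℝ) := by
        have : (i : ℝ) < (K : ℝ) := by exact_mod_cast hiK
        linarith
      have h2 : Q * ((K : ℝ) - (i : ℝ)) ≤ r i - r K := by
        have := (le_div_iff₀ hpos).mp h1
        exact this
      simp only [d, hα, hβ]
      linarith
    · have : i = K := by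
        have := Finset.mem_range.mp hi
        omega
      rw [this, hdK]
  have hsplit : ∀ m, ∑ i ∈ Finset.range (m + 1), r i =
      (((m : ℝ) + 1) * α + β * ((m : ℝ) * ((m : ℝ) + 1) / 2)) + ∑ i ∈ Finset.range (m + 1), d i := by
    intro m
    rw [← sum_linear, ← Finset.sum_add_distrib]
    apply Finset.sum_congr rfl
    intro i _
    simp only [d]
    ring
  set a := ∑ i ∈ Finset.range (j + 1), d i with ha
  set b := ∑ i ∈ Finset.range (K + 1), d i with hb
  have hab : a ≤ b := by
    apply Finset.sum_le_sum_of_subset_of_nonneg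
    · intro i hi
      rw [Finset.mem_range] at hi ⊢
      omega
    · intro i hi _
      exact hdnn i hi
  have ha0 : 0 ≤ a := by
    apply Finset.sum_nonneg
    intro i hi
    apply hdnn
    rw [Finset.mem_range] at hi ⊢
    omega
  refine ⟨_, Reach.step hreach hjK, ?_⟩
  rw [hsplit j] at hsj
  rw [hsplit K]
  have hrj : r j = α + β * (j : ℝ) := by
    have := hdj
    simp only [d] at this
    linarith
  have hrK : r K = α + β * (K : ℝ) := by
    have := hdK
    simp only [d] at this
    linarith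
  rw [hrj, hrK]
  set t := sj - (2 * (j : ℝ) * α + β * (j : ℝ) ^ 2) with ht
  have h1 : t * ((j : ℝ) + 1) ≤ 2 * (j : ℝ) * a := by
    simp only [ht]
    nlinarith
  have h2 : t * ((K : ℝ) + 1) ≤ 2 * (K : ℝ) * b := by
    have h3 : t * ((K : ℝ) + 1) * ((j : ℝ) + 1) ≤ 2 * (K : ℝ) * b * ((j : ℝ) + 1) := by
      have h4 : t * ((j : ℝ) + 1) * ((K : ℝ) + 1) ≤ 2 * (j : ℝ) * a * ((K : ℝ) + 1) :=
        mul_le_mul_of_nonneg_right h1 (by linarith)
      have h5 : 2 * (j : ℝ) * a * ((K : ℝ) + 1) ≤ 2 * (j : ℝ) * b * ((K : ℝ) + 1) := by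
        apply mul_le_mul_of_nonneg_right _ (by linarith)
        apply mul_le_mul_of_nonneg_left hab (by linarith)
      have hb0 : 0 ≤ b := ha0.trans hab
      have h6 : 2 * (j : ℝ) * b * ((K : ℝ) + 1) ≤ 2 * (K : ℝ) * b * ((j : ℝ) + 1) := by
        nlinarith
      nlinarith
    exact le_of_mul_le_mul_right h3 (by linarith)
  simp only [ht] at h2
  nlinarith

end Groth.Agent.H6.Chain
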