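import Mathlib
import Groth.Agent.Lib.Helper6.Chain2

set_option autoImplicit false

namespace Groth.Agent.H6.Chain

/-- a supporting chord across a gap -/
theorem exists_support_chord (x r : ℕ → ℝ) (n p : ℕ) (hp : p < n)
    (hx : ∀ i j, i < j → j ≤ n → x i < x j) :
    ∃ u v, u ≤ p ∧ p < v ∧ v ≤ n ∧
      ∀ i ≤ n, r u + (r v - r u) / (x v - x u) * (x i - x u) ≤ r i := by
  classical
  set xs : ℝ := (x p + x (p + 1)) / 2 with hxs
  have hxp : x p < x (p + 1) := hx p (p + 1) (Nat.lt_succ_self p) hp
  have hxs1 : x p < xs := by rw [hxs]; linarith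
  have hxs2 : xs < x (p + 1) := by rw [hxs]; linarith
  let ψ : ℕ × ℕ → ℝ := fun uv =>
    r uv.1 + (r uv.2 - r uv.1) * (xs - x uv.1) / (x uv.2 - x uv.1)
  have hne : (Finset.range (p + 1) ×ˢ Finset.Ico (p + 1) (n + 1)).Nonempty := by
    refine ⟨(p, p + 1), ?_⟩
    rw [Finset.mem_product, Finset.mem_range, Finset.mem_Ico]
    omega
  obtain ⟨⟨u, v⟩, huv, hmin⟩ := Finset.exists_min_image _ ψ hne
  rw [Finset.mem_product, Finset.mem_range, Finset.mem_Ico] at huv
  obtain ⟨hu, hv1, hv2⟩ := huv
  have hup : u ≤ p := by omega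
  have hpv : p < v := by omega
  have hvn : v ≤ n := by omega
  -- monotonicity helpers
  have hxle : ∀ i, i ≤ p → x i ≤ x p := by
    intro i hi
    rcases Nat.lt_or_ge i p with h | h
    · exact (hx i p h (by omega)).le
    · have : i = p := by omega
      rw [this]
  have hxge : ∀ i, p < i → i ≤ n → x (p + 1) ≤ x i := by
    intro i hi hin
    rcases Nat.lt_or_ge (p + 1) i with h | h
    · exact (hx (p + 1) i h hin).le
    · have : i = p + 1 := by omega
      rw [this]
  have hxu : x u < xs := lt_of_le_of_lt (hxle u hup) hxs1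
  have hxv : xs < x v := lt_of_lt_of_le hxs2 (hxge v hpv hvn)
  have hw : 0 < x v - x u := by linarith
  set σ : ℝ := (r v - r u) / (x v - x u) with hσ
  have hσw : σ * (x v - x u) = r v - r u := by
    rw [hσ]; field_simp
  have hψuv : ψ (u, v) = r u + σ * (xs - x u) := by
    simp only [ψ, hσ]
    ring
  refine ⟨u, v, hup, hpv, hvn, ?_⟩
  intro i hin
  rcases Nat.lt_or_ge p i with hi | hi
  · -- right side: compare with (u, i)
    have hmem : (u, i) ∈ Finset.range (p + 1) ×ˢ Finset.Ico (p + 1) (n + 1) := by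
      rw [Finset.mem_product, Finset.mem_range, Finset.mem_Ico]
      omega
    have h1 := hmin (u, i) hmem
    rw [hψuv] at h1
    have hxi : xs < x i := lt_of_lt_of_le hxs2 (hxge i hi hin)
    have hwi : 0 < x i - x u := by linarith
    have hp1 : 0 < xs - x u := by linarith
    simp only [ψ] at h1
    -- σ * p1 ≤ (r i - r u) * p1 / w
    have h2 : σ * (xs - x u) ≤ (r i - r u) * (xs - x u) / (x i - x u) := by linarith
    rw [le_div_iff₀ hwi] at h2
    have h3 : σ * (x i - x u) ≤ r i - r u := by
      have : (σ * (x i - x u)) * (xs - x u) ≤ (r i - r u) * (xs - x u) := by nlinarith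
      exact le_of_mul_le_mul_right this hp1
    linarith
  · -- left side: compare with (i, v)
    have hmem : (i, v) ∈ Finset.range (p + 1) ×ˢ Finset.Ico (p + 1) (n + 1) := by
      rw [Finset.mem_product, Finset.mem_range, Finset.mem_Ico]
      omega
    have h1 := hmin (i, v) hmem
    rw [hψuv] at h1
    have hxi : x i < xs := lt_of_le_of_lt (hxle i hi) hxs1
    have hwi : 0 < x v - x i := by linarith
    have hp2 : 0 < x v - xs := by linarith
    simp only [ψ] at h1
    have h2 : (r u + σ * (xs - x u) - r i) ≤ (r v - r i) * (xs - x i) / (x v - x i) := by linarith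
    rw [le_div_iff₀ hwi] at h2
    -- p2 * (ℓ(x i) - r i) ≤ 0
    have h3 : (x v - xs) * (r u + σ * (x i - x u) - r i) ≤ 0 := by
      have hrv : r v = r u + σ * (x v - x u) := by linarith
      rw [hrv] at h2
      nlinarith
    have h4 : r u + σ * (x i - x u) - r i ≤ 0 := by
      by_contra hcon
      push Not at hcon
      have := mul_pos hp2 hcon
      linarith
    linarith

end Groth.Agent.H6.Chain
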