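import Mathlib
import Groth.Agent.Lib.Helper6.Chain3

set_option autoImplicit false

namespace Groth.Agent.H6.Chain

/-- the worst-case grid: `i` for `i ≤ n - g`, `i + g` afterwards -/
noncomputable def EE (n g : ℕ) (i : ℕ) : ℝ := (i : ℝ) + (if n - g < i then (g : ℝ) else 0)

theorem EE_left {n g i : ℕ} (h : i ≤ n - g) : EE n g i = i := by
  simp [EE, not_lt.mpr h]

theorem EE_right {n g i : ℕ} (h : n - g < i) : EE n g i = i + g := by
  simp [EE, h]

theorem EE_strictMono (n g : ℕ) : StrictMono (EE n g) := by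
  intro i j hij
  have hij' : (i : ℝ) < (j : ℝ) := by exact_mod_cast hij
  unfold EE
  by_cases h1 : n - g < i
  · have h2 : n - g < j := h1.trans hij
    simp only [h1, h2, if_true]
    linarith
  · simp only [h1, if_false]
    by_cases h2 : n - g < j
    · simp only [h2, if_true]
      have : (0 : ℝ) ≤ g := Nat.cast_nonneg g
      linarith
    · simp only [h2, if_false]
      linarith

theorem sum_EE (n g : ℕ) (hgn : g ≤ n) :
    ∑ i ∈ Finset.range (n + 1), EE n g i = (n : ℝ) * ((n : ℝ) + 1) / 2 + (g : ℝ) * (g : ℝ) := by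
  unfold EE
  rw [Finset.sum_add_distrib]
  congr 1
  · have := sum_linear 0 1 n
    simp only [zero_add, one_mul, mul_zero] at this
    rw [this]
  · rw [← Finset.sum_range_add_sum_Ico _ (show n - g + 1 ≤ n + 1 by omega)]
    have h1 : ∑ i ∈ Finset.range (n - g + 1), (if n - g < i then (g : ℝ) else 0) = 0 := by
      apply Finset.sum_eq_zero
      intro i hi
      rw [Finset.mem_range] at hi
      rw [if_neg (by omega)]
    have h2 : ∑ i ∈ Finset.Ico (n - g + 1) (n + 1), (if n - g < i then (g : ℝ) else 0) =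
        (g : ℝ) * (g : ℝ) := by
      rw [Finset.sum_congr rfl (g := fun _ => (g : ℝ))]
      · rw [Finset.sum_const, Nat.card_Ico, nsmul_eq_mul]
        congr 1
        have : n + 1 - (n - g + 1) = g := by omega
        rw [this]
      · intro i hi
        rw [Finset.mem_Ico] at hi
        rw [if_pos (by omega)]
    rw [h1, h2, zero_add]

theorem scale_le {t a J K : ℝ} (hJ : 0 ≤ J) (hJK : J ≤ K) (ha : 0 ≤ a)
    (h : t * (J + 1) ≤ 2 * J * a) : t * (K + 1) ≤ 2 * K * a := by
  have h3 : t * (K + 1) * (J + 1) ≤ 2 * K * a * (J + 1) := by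
    have h4 : t * (J + 1) * (K + 1) ≤ 2 * J * a * (K + 1) :=
      mul_le_mul_of_nonneg_right h (by linarith)
    have h6 : 2 * J * a * (K + 1) ≤ 2 * K * a * (J + 1) := by nlinarith
    nlinarith
  exact le_of_mul_le_mul_right h3 (by linarith)

theorem alg_final {U V N G σ α a c D s₁ s₃ : ℝ} (hU0 : 0 ≤ U) (hUV : U < V) (hVN : V ≤ N)
    (ha0 : 0 ≤ a) (hc0 : 0 ≤ c) (hacD : a + c ≤ D)
    (hs1 : s₁ * (U + 1) ≤ 2 * U * ((U + 1) * α + σ * (U * (U + 1) / 2) + a))
    (hs3 : s₃ * ((N - V) + 1) ≤ 2 * (N - V) * (((N - V) + 1) * (α + σ * (N + G)) +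
      -σ * ((N - V) * ((N - V) + 1) / 2) + c))
    (hS0 : (N + 1) * α + σ * (N * (N + 1) / 2 + G * G) + D = 0) :
    (s₁ + (V + G - U) * ((α + σ * (V + G)) + (α + σ * U)) + s₃) * (N + 1) ≤
      -2 * G * D + σ * ((N + G) * G * (N + 1 - 2 * G)) := by
  have hUN : U ≤ N := by linarith
  set t₁ : ℝ := s₁ - (2 * U * α + σ * U ^ 2) with ht1
  set t₃ : ℝ := s₃ - (2 * (N - V) * (α + σ * (N + G)) - σ * (N - V) ^ 2) with ht3
  have h1 : t₁ * (U + 1) ≤ 2 * U * a := by
    have e : 2 * U * ((U + 1) * α + σ * (U * (U + 1) / 2) + a) =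
        (2 * U * α + σ * U ^ 2) * (U + 1) + 2 * U * a := by ring
    have e2 : t₁ * (U + 1) = s₁ * (U + 1) - (2 * U * α + σ * U ^ 2) * (U + 1) := by
      simp only [ht1]; ring
    rw [e2]; linarith
  have h3 : t₃ * ((N - V) + 1) ≤ 2 * (N - V) * c := by
    have e : 2 * (N - V) * (((N - V) + 1) * (α + σ * (N + G)) +
        -σ * ((N - V) * ((N - V) + 1) / 2) + c) =
        (2 * (N - V) * (α + σ * (N + G)) - σ * (N - V) ^ 2) * ((N - V) + 1) +
          2 * (N - V) * c := by ring
    have e2 : t₃ * ((N - V) + 1) = s₃ * ((N - V) + 1) -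
        (2 * (N - V) * (α + σ * (N + G)) - σ * (N - V) ^ 2) * ((N - V) + 1) := by
      simp only [ht3]; ring
    rw [e2]; linarith
  have h1' : t₁ * (N + 1) ≤ 2 * N * a := scale_le hU0 hUN ha0 h1
  have h3' : t₃ * (N + 1) ≤ 2 * N * c :=
    scale_le (by linarith) (by linarith) hc0 h3
  have hN0 : 0 ≤ N := by linarith
  have hNa : 2 * N * (a + c) ≤ 2 * N * D :=
    mul_le_mul_of_nonneg_left hacD (by linarith)
  have hid : s₁ + (V + G - U) * ((α + σ * (V + G)) + (α + σ * U)) + s₃ =
      t₁ + t₃ + 2 * α * (N + G) + σ * (N + G) ^ 2 := by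
    simp only [ht1, ht3]; ring
  have key : (t₁ + t₃ + 2 * α * (N + G) + σ * (N + G) ^ 2) * (N + 1) =
      t₁ * (N + 1) + t₃ * (N + 1) + 2 * (N + G) * ((N + 1) * α) + σ * (N + 1) * (N + G) ^ 2 := by
    ring
  have hα' : (N + 1) * α = -(σ * (N * (N + 1) / 2 + G * G)) - D := by linarith
  rw [hid, key, hα']
  have e3 : 2 * (N + G) * (-(σ * (N * (N + 1) / 2 + G * G)) - D) + σ * (N + 1) * (N + G) ^ 2 =
      -2 * N * D - 2 * G * D + σ * ((N + G) * G * (N + 1 - 2 * G)) := by ring
  have e4 : 2 * N * (a + c) = 2 * N * a + 2 * N * c := by ring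
  linarith

theorem main_nat (n g : ℕ) (hg : 1 ≤ g) (hn : 2 * g ≤ n) (r : ℕ → ℝ) (hanti : Antitone r)
    (hsum : ∑ i ∈ Finset.range (n + 1), r i = 0) (hne : ∃ i ≤ n, r i ≠ 0) :
    ∃ s, Reach (EE n g) r 0 n s ∧ s < 0 := by
  obtain ⟨u, v, hup, hpv, hvn, hsup⟩ := exists_support_chord (EE n g) r n (n - g) (by omega)
    (fun i j hij _ => EE_strictMono n g hij)
  have huv : u < v := by omega
  have hEu : EE n g u = u := EE_left hup
  have hEv : EE n g v = v + g := EE_right hpv
  -- real parameters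
  set U : ℝ := (u : ℝ) with hU
  set V : ℝ := (v : ℝ) with hV
  set N : ℝ := (n : ℝ) with hN
  set G : ℝ := (g : ℝ) with hG
  have hG1 : (1 : ℝ) ≤ G := by rw [hG]; exact_mod_cast hg
  have hNG : 2 * G ≤ N := by rw [hG, hN]; exact_mod_cast hn
  have hU0 : (0 : ℝ) ≤ U := Nat.cast_nonneg u
  have hUV : U < V := by rw [hU, hV]; exact_mod_cast huv
  have hVN : V ≤ N := by rw [hV, hN]; exact_mod_cast hvn
  have hUN : U ≤ N := by linarith
  set σ : ℝ := (r v - r u) / (EE n g v - EE n g u) with hσ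
  have hw : 0 < EE n g v - EE n g u := by rw [hEu, hEv]; linarith
  have hσw : σ * (EE n g v - EE n g u) = r v - r u := by rw [hσ]; field_simp
  have hσ0 : σ ≤ 0 := by
    rw [hσ]
    apply div_nonpos_of_nonpos_of_nonneg _ hw.le
    linarith [hanti huv.le]
  set α : ℝ := r u - σ * U with hα
  let d : ℕ → ℝ := fun i => r i - (α + σ * EE n g i)
  have hd0 : ∀ i ≤ n, 0 ≤ d i := by
    intro i hi
    have := hsup i hi
    simp only [d, hα]
    rw [hEu] at this
    linarith
  have hdu : d u = 0 := by simp only [d, hα, hEu]; ring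
  have hdv : d v = 0 := by
    simp only [d, hα]
    rw [hEu] at hσw
    linarith
  have hr : ∀ i, r i = α + σ * EE n g i + d i := by intro i; simp only [d]; ring
  -- left chain
  obtain ⟨s₁, hR1, hs1⟩ := uniform r u
  have hR1' : Reach (EE n g) r 0 u s₁ := by
    refine hR1.congr 0 (fun i _ hi => ?_) (fun i _ _ => rfl)
    rw [EE_left (hi.trans hup)]; simp
  -- right chain
  set m : ℕ := n - v with hm
  have hmN : (m : ℝ) = N - V := by rw [hm, Nat.cast_sub hvn]
  obtain ⟨s₃, hR3, hs3⟩ := uniform (fun i => r (n - i)) m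
  have hR3' : Reach (EE n g) r v n s₃ := by
    have h1 := hR3.reverse n (show m ≤ n by omega)
    have e1 : n - m = v := by omega
    have e2 : n - 0 = n := by omega
    rw [e1, e2] at h1
    refine h1.congr (N + G) (fun i hvi hin => ?_) (fun i hvi hin => ?_)
    · rw [EE_right (by omega), Nat.cast_sub hin]
      ring
    · show r i = r (n - (n - i))
      congr 1
      omega
  have hR2 : Reach (EE n g) r u v ((EE n g v - EE n g u) * (r v + r u)) := Reach.single huv
  refine ⟨_, (hR1'.trans hR2).trans hR3', ?_⟩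
  -- sums
  set a : ℝ := ∑ i ∈ Finset.range (u + 1), d i with ha
  set c : ℝ := ∑ i ∈ Finset.range (m + 1), d (n - i) with hc
  set D : ℝ := ∑ i ∈ Finset.range (n + 1), d i with hD
  have ha0 : 0 ≤ a := Finset.sum_nonneg (fun i hi => hd0 i (by
    rw [Finset.mem_range] at hi; omega))
  have hc0 : 0 ≤ c := Finset.sum_nonneg (fun i hi => hd0 (n - i) (by omega))
  have hcIco : c = ∑ i ∈ Finset.Ico v (n + 1), d i := by
    rw [hc, Finset.range_eq_Ico, Finset.sum_Ico_reflect d 0 (show m + 1 ≤ n + 1 by omega)]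
    congr 2
    omega
  have hacD : a + c ≤ D := by
    rw [hcIco, hD, ← Finset.sum_range_add_sum_Ico d (show v ≤ n + 1 by omega)]
    apply add_le_add_left
    apply Finset.sum_le_sum_of_subset_of_nonneg
    · intro i hi
      rw [Finset.mem_range] at hi ⊢
      omega
    · intro i hi _
      rw [Finset.mem_range] at hi
      exact hd0 i (by omega)
  have hS1 : ∑ i ∈ Finset.range (u + 1), r i = (U + 1) * α + σ * (U * (U + 1) / 2) + a := by
    rw [ha, ← sum_linear, ← Finset.sum_add_distrib]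
    apply Finset.sum_congr rfl
    intro i hi
    rw [Finset.mem_range] at hi
    rw [hr i, EE_left (by omega)]
  have hS3 : ∑ i ∈ Finset.range (m + 1), r (n - i) =
      ((m : ℝ) + 1) * (α + σ * (N + G)) + (-σ) * ((m : ℝ) * ((m : ℝ) + 1) / 2) + c := by
    rw [hc, ← sum_linear, ← Finset.sum_add_distrib]
    apply Finset.sum_congr rfl
    intro i hi
    rw [Finset.mem_range] at hi
    rw [hr (n - i), EE_right (by omega), Nat.cast_sub (by omega)]
    ring
  have hS0 : (N + 1) * α + σ * (N * (N + 1) / 2 + G * G) + D = 0 := by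
    rw [← hsum, ← sum_EE n g (by omega)]
    have h1 : ∑ i ∈ Finset.range (n + 1), r i =
        ∑ i ∈ Finset.range (n + 1), (α + σ * EE n g i + d i) :=
      Finset.sum_congr rfl (fun i _ => hr i)
    rw [h1, Finset.sum_add_distrib, Finset.sum_add_distrib, Finset.sum_const, Finset.card_range,
      ← Finset.mul_sum, nsmul_eq_mul]
    push_cast
    ring
  rw [hS1, ← hU] at hs1
  rw [hS3, hmN] at hs3
  have hD0 : 0 ≤ D := by linarith
  have hrv : r v = α + σ * (V + G) := by
    have := hr v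
    rw [hdv, hEv] at this
    linarith
  have hru : r u = α + σ * U := by
    have := hr u
    rw [hdu, hEu] at this
    linarith
  have htot : (s₁ + (EE n g v - EE n g u) * (r v + r u) + s₃) * (N + 1) ≤
      -2 * G * D + σ * ((N + G) * G * (N + 1 - 2 * G)) := by
    rw [hEu, hEv, hrv, hru]
    exact alg_final hU0 hUV hVN ha0 hc0 hacD hs1 hs3 hS0
  have hpos : 0 < (N + G) * G * (N + 1 - 2 * G) := by
    apply mul_pos (mul_pos (by linarith) (by linarith)) (by linarith)
  by_contra hcon
  push Not at hcon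
  have hN1 : 0 < N + 1 := by linarith
  have h0 : 0 ≤ (s₁ + (EE n g v - EE n g u) * (r v + r u) + s₃) * (N + 1) :=
    mul_nonneg hcon hN1.le
  have hGD : 0 ≤ G * D := mul_nonneg (by linarith) hD0
  have hσterm : σ * ((N + G) * G * (N + 1 - 2 * G)) ≤ 0 :=
    mul_nonpos_of_nonpos_of_nonneg hσ0 hpos.le
  have hD00 : D = 0 := by
    have : G * D ≤ 0 := by linarith
    have h2 : G * D = 0 := le_antisymm this hGD
    rcases mul_eq_zero.mp h2 with h | h
    · linarith
    · exact h
  have hσ00 : σ = 0 := by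
    have : 0 ≤ σ * ((N + G) * G * (N + 1 - 2 * G)) := by rw [hD00] at htot; linarith
    have h2 : σ * ((N + G) * G * (N + 1 - 2 * G)) = 0 := le_antisymm hσterm this
    rcases mul_eq_zero.mp h2 with h | h
    · exact h
    · linarith
  have hα0 : α = 0 := by
    rw [hD00, hσ00] at hS0
    have : (N + 1) * α = 0 := by linarith
    rcases mul_eq_zero.mp this with h | h
    · linarith
    · exact h
  have hdz : ∀ i ∈ Finset.range (n + 1), d i = 0 := by
    have := (Finset.sum_eq_zero_iff_of_nonneg (fun i hi => hd0 i (by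
      rw [Finset.mem_range] at hi; omega))).mp hD00
    exact this
  obtain ⟨i, hin, hri⟩ := hne
  apply hri
  rw [hr i, hdz i (Finset.mem_range.mpr (by omega)), hα0, hσ00]
  ring

end Groth.Agent.H6.Chain
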