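import Mathlib
import Groth.Agent.Lib.Helper6.Chain4

set_option autoImplicit false

namespace Groth.Agent.H6.Chain

theorem final (n g : ℕ) (hg : 1 ≤ g) (hn : 2 * g ≤ n)
    (e : Fin (n + 1) → ℕ) (he0 : e 0 = 0) (hen : e (Fin.last n) = n + g)
    (hle : ∀ i : Fin (n + 1), (i : ℕ) ≤ n - g → e i ≤ (i : ℕ))
    (hle' : ∀ i : Fin (n + 1), e i ≤ (i : ℕ) + g)
    (r : Fin (n + 1) → ℝ) (hanti : Antitone r) (hsum : ∑ i, r i = 0) (hr : r ≠ 0) :
    ∃ (μ : ℕ) (c : Fin (μ + 1) → Fin (n + 1)), StrictMono c ∧ c 0 = 0 ∧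
      c (Fin.last μ) = Fin.last n ∧
      ∑ j : Fin μ, ((e (c j.succ) : ℝ) - (e (c j.castSucc) : ℝ)) *
        (r (c j.succ) + r (c j.castSucc)) < 0 := by
  let clamp : ℕ → Fin (n + 1) := fun i => ⟨min i n, by omega⟩
  have hclamp : ∀ i (hi : i ≤ n), clamp i = ⟨i, by omega⟩ := by
    intro i hi
    apply Fin.ext
    show min i n = i
    omega
  let rN : ℕ → ℝ := fun i => r (clamp i)
  let eN : ℕ → ℝ := fun i => (e (clamp i) : ℝ)
  have hantiN : Antitone rN := by
    intro i j hij
    apply hanti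
    show (clamp i : ℕ) ≤ (clamp j : ℕ)
    show min i n ≤ min j n
    omega
  have hsumN : ∑ i ∈ Finset.range (n + 1), rN i = 0 := by
    rw [Finset.sum_range, ← hsum]
    apply Finset.sum_congr rfl
    intro i _
    show r (clamp i) = r i
    congr 1
    rw [hclamp i (by omega)]
  have hneN : ∃ i ≤ n, rN i ≠ 0 := by
    obtain ⟨i, hi⟩ := Function.ne_iff.mp hr
    refine ⟨i, by omega, ?_⟩
    show r (clamp i) ≠ 0
    rw [hclamp i (by omega)]
    exact hi
  obtain ⟨s, hs, hs0⟩ := main_nat n g hg hn rN hantiN hsumN hneN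
  have hleN : ∀ i, eN i ≤ EE n g i := by
    intro i
    show (e (clamp i) : ℝ) ≤ EE n g i
    rcases Nat.lt_or_ge n i with hi | hi
    · have : clamp i = Fin.last n := by
        apply Fin.ext
        show min i n = n
        omega
      rw [this, hen, EE_right (by omega)]
      push_cast
      have : (n : ℝ) ≤ (i : ℝ) := by exact_mod_cast hi.le
      linarith
    · rw [hclamp i hi]
      rcases Nat.lt_or_ge (n - g) i with h2 | h2
      · rw [EE_right h2]
        have := hle' ⟨i, by omega⟩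
        exact_mod_cast this
      · rw [EE_left h2]
        have := hle ⟨i, by omega⟩ h2
        exact_mod_cast this
  have h0N : eN 0 = EE n g 0 := by
    show (e (clamp 0) : ℝ) = EE n g 0
    rw [hclamp 0 (by omega), EE_left (by omega)]
    have : (⟨0, by omega⟩ : Fin (n + 1)) = 0 := rfl
    rw [this, he0]
  obtain ⟨s', hs', hle2⟩ := hs.lower hleN h0N hantiN
  have hnn : EE n g n - eN n = 0 := by
    show EE n g n - (e (clamp n) : ℝ) = 0
    rw [hclamp n le_rfl, EE_right (by omega)]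
    have : (⟨n, by omega⟩ : Fin (n + 1)) = Fin.last n := rfl
    rw [this, hen]
    push_cast
    ring
  have hs'0 : s' < 0 := by
    rw [hnn] at hle2
    linarith
  obtain ⟨μ, c, hc, hc0, hcl, hcsum⟩ := hs'.toChain
  have hcn : ∀ j, c j ≤ n := by
    intro j
    rw [← hcl]
    exact hc.monotone (Fin.le_last j)
  refine ⟨μ, fun j => ⟨c j, by have := hcn j; omega⟩, ?_, ?_, ?_, ?_⟩
  · intro i j hij
    exact hc hij
  · apply Fin.ext
    exact hc0
  · apply Fin.ext
    exact hcl
  · rw [← hcsum] at hs'0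
    refine lt_of_eq_of_lt ?_ hs'0
    apply Finset.sum_congr rfl
    intro j _
    show _ = (eN (c j.succ) - eN (c j.castSucc)) * (rN (c j.succ) + rN (c j.castSucc))
    show _ = ((e (clamp (c j.succ)) : ℝ) - (e (clamp (c j.castSucc)) : ℝ)) *
      (r (clamp (c j.succ)) + r (clamp (c j.castSucc)))
    rw [hclamp _ (hcn j.succ), hclamp _ (hcn j.castSucc)]

end Groth.Agent.H6.Chain
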