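import Mathlib
import Groth.Agent.Lib.Helper6.InjHullLocal

/-! For a finite local algebra `B` over a Noetherian local ring `A`, `Hom_A(B, E_A)` is an injective
hull of the residue field of `B`. -/

set_option autoImplicit false
universe u
set_option linter.style.haveILetI false
open IsLocalRing CategoryTheory

namespace Groth.Agent.H6.CoextHull

variable (A B : Type u) [CommRing A] [CommRing B] [Algebra A B]
  (E : Type u) [AddCommGroup E] [Module A E]

/-- the coextended module `Hom_A(B, E)` -/
noncomputable abbrev D : ModuleCat.{u} B :=
  (ModuleCat.coextendScalars (algebraMap A B)).obj (ModuleCat.of A E)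

theorem D_injective [Module.Injective A E] : Module.Injective B (D A B E) := by
  haveI : CategoryTheory.Injective (ModuleCat.of A E) :=
    Module.injective_object_of_injective_module A E
  haveI := CategoryTheory.Injective.injective_of_adjoint
    (ModuleCat.restrictCoextendScalarsAdj (algebraMap A B)) (ModuleCat.of A E)
  exact Module.injective_module_of_injective_object B _

variable {A B E}

theorem D_smul_apply (b x : B) (φ : D A B E) : (b • φ) x = φ (x * b) := rfl

theorem D_ext {φ ψ : D A B E} (h : ∀ x : B, φ x = ψ x) : φ = ψ :=
  ModuleCat.CoextendScalars.ext (LinearMap.ext h)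

theorem D_map_add (φ : D A B E) (x y : B) : φ (x + y) = φ x + φ y :=
  map_add (ModuleCat.CoextendScalars.equiv (algebraMap A B) (ModuleCat.of A E) φ) x y

theorem D_map_zero (φ : D A B E) : φ (0 : B) = 0 :=
  map_zero (ModuleCat.CoextendScalars.equiv (algebraMap A B) (ModuleCat.of A E) φ)

theorem D_map_smul (φ : D A B E) (r : A) (x : B) : φ (r • x) = r • φ x := by
  have := map_smul (ModuleCat.CoextendScalars.equiv (algebraMap A B) (ModuleCat.of A E) φ) r
    (show (ModuleCat.restrictScalars (algebraMap A B)).obj (ModuleCat.of B B) from x)
  rw [← this]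
  congr 1
  rw [ModuleCat.restrictScalars.smul_def (M := ModuleCat.of B B), Algebra.smul_def]
  rfl

theorem D_zero_apply (x : B) : (0 : D A B E) x = 0 := rfl

/-- build an element of `D` from an `A`-linear map -/
noncomputable def mkD (g : B →ₗ[A] E) : D A B E :=
  (ModuleCat.CoextendScalars.equiv (algebraMap A B) (ModuleCat.of A E)).symm
    { toFun := fun x => g (show B from x)
      map_add' := fun x y => by
        show g ((show B from x) + (show B from y)) = _
        rw [map_add]
      map_smul' := fun r x => by
        have : (show B from (r • x)) = r • (show B from x) := by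
          have h1 : (show B from (r • x)) = algebraMap A B r * (show B from x) := by
            rw [ModuleCat.restrictScalars.smul_def (M := ModuleCat.of B B)]
            rfl
          rw [h1, ← Algebra.smul_def]
        show g (show B from (r • x)) = _
        rw [this, map_smul]
        rfl }

theorem mkD_apply (g : B →ₗ[A] E) (x : B) : mkD g x = g x := rfl

/-- plain evaluation -/
noncomputable def ev (φ : D A B E) (x : B) : E := φ x

theorem ev_smul (b x : B) (φ : D A B E) : ev (b • φ) x = ev φ (x * b) := rfl
theorem ev_ext {φ ψ : D A B E} (h : ∀ x : B, ev φ x = ev ψ x) : φ = ψ := D_ext h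
theorem ev_add (φ : D A B E) (x y : B) : ev φ (x + y) = ev φ x + ev φ y := D_map_add φ x y
theorem ev_zero (φ : D A B E) : ev φ 0 = 0 := D_map_zero φ
theorem ev_map_smul (φ : D A B E) (r : A) (x : B) : ev φ (r • x) = r • ev φ x := D_map_smul φ r x
theorem ev_zero_elt (x : B) : ev (0 : D A B E) x = 0 := rfl
theorem ev_mkD (g : B →ₗ[A] E) (x : B) : ev (mkD g) x = g x := rfl
theorem ev_add_elt (φ ψ : D A B E) (x : B) : ev (φ + ψ) x = ev φ x + ev ψ x := rfl

/-- evaluation as an `A`-linear map -/
noncomputable def evₗ (φ : D A B E) : B →ₗ[A] E where
  toFun := ev φ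
  map_add' := ev_add φ
  map_smul' := ev_map_smul φ

theorem evₗ_apply (φ : D A B E) (x : B) : evₗ φ x = ev φ x := rfl

end Groth.Agent.H6.CoextHull
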