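import Mathlib
import Groth.Agent.Lib.Helper6.CoextHull

set_option autoImplicit false
universe u
set_option linter.style.haveILetI false
open IsLocalRing CategoryTheory

namespace Groth.Agent.H6.CoextHull

variable {A B : Type u} [CommRing A] [CommRing B] [Algebra A B]
  {E : Type u} [AddCommGroup E] [Module A E]

section Loc
variable [IsLocalRing A] [IsLocalRing B] [Module.Finite A B]

theorem comap_maximalIdeal : (maximalIdeal B).comap (algebraMap A B) = maximalIdeal A := by
  haveI : Algebra.IsIntegral A B := Algebra.IsIntegral.of_finite A B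
  haveI : ((maximalIdeal B).comap (algebraMap A B)).IsMaximal :=
    Ideal.isMaximal_comap_of_isIntegral_of_isMaximal (R := A) (maximalIdeal B)
  exact IsLocalRing.eq_maximalIdeal inferInstance

theorem algebraMap_mem {a : A} (ha : a ∈ maximalIdeal A) : algebraMap A B a ∈ maximalIdeal B := by
  rw [← comap_maximalIdeal (A := A) (B := B)] at ha
  exact ha

theorem maximalIdeal_le_radical (n : ℕ) (hn : n ≠ 0) :
    maximalIdeal B ≤ ((maximalIdeal A ^ n).map (algebraMap A B)).radical := by
  haveI : Algebra.IsIntegral A B := Algebra.IsIntegral.of_finite A B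
  rw [Ideal.radical_eq_sInf]
  refine le_sInf ?_
  rintro q ⟨hq1, hq2⟩
  haveI := hq2
  have h1 : maximalIdeal A ≤ q.comap (algebraMap A B) := by
    intro a ha
    have : algebraMap A B (a ^ n) ∈ q := hq1 (Ideal.mem_map_of_mem _ (Ideal.pow_mem_pow ha n))
    rw [map_pow] at this
    exact hq2.mem_of_pow_mem n this
  have h2 : q.comap (algebraMap A B) = maximalIdeal A :=
    ((maximalIdeal.isMaximal A).eq_of_le (Ideal.comap_ne_top _ hq2.ne_top) h1).symm
  haveI : q.IsMaximal := by
    apply Ideal.isMaximal_of_isIntegral_of_isMaximal_comap (R := A) q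
    rw [h2]; infer_instance
  rw [IsLocalRing.eq_maximalIdeal this]

theorem exists_pow_le [IsNoetherianRing B] (n : ℕ) :
    ∃ N : ℕ, maximalIdeal B ^ N ≤ (maximalIdeal A ^ n).map (algebraMap A B) := by
  by_cases hn : n = 0
  · subst hn
    refine ⟨0, ?_⟩
    rw [pow_zero, pow_zero, Ideal.one_eq_top, Ideal.one_eq_top, Ideal.map_top]
  · exact Ideal.exists_pow_le_of_le_radical_of_fg (maximalIdeal_le_radical n hn)
      (IsNoetherian.noetherian _)

/-- `Hom_A(B, E)` is `m_B`-power torsion when `E` is `m_A`-power torsion. -/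
theorem D_powerTorsion [IsNoetherianRing B]
    (hE : LocCoh.IsPowerTorsion (maximalIdeal A) E) :
    LocCoh.IsPowerTorsion (maximalIdeal B) (D A B E) := by
  intro φ
  -- a uniform exponent on generators
  obtain ⟨s, hs⟩ := (Module.Finite.fg_top : (⊤ : Submodule A B).FG)
  have h1 : ∃ n : ℕ, ∀ x ∈ s, ∀ a ∈ maximalIdeal A ^ n, a • ev φ x = 0 := by
    classical
    choose k hk using fun x : B => hE (ev φ x)
    refine ⟨s.sup k, fun x hx a ha => hk x a ?_⟩
    exact Ideal.pow_le_pow_right (Finset.le_sup hx) ha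
  obtain ⟨n, hn⟩ := h1
  have h2 : ∀ x : B, ∀ a ∈ maximalIdeal A ^ n, a • ev φ x = 0 := by
    intro x
    have hx : x ∈ Submodule.span A (s : Set B) := by rw [hs]; trivial
    induction hx using Submodule.span_induction with
    | mem y hy => exact hn y hy
    | zero => intro a _; rw [ev_zero, smul_zero]
    | add y z _ _ hy hz => intro a ha; rw [ev_add, smul_add, hy a ha, hz a ha, add_zero]
    | smul r y _ hy => intro a ha; rw [ev_map_smul, smul_comm, hy a ha, smul_zero]
  obtain ⟨N, hN⟩ := exists_pow_le (A := A) (B := B) n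
  refine ⟨N, fun b hb => ?_⟩
  have hb' := hN hb
  apply ev_ext
  intro x
  rw [ev_smul, ev_zero_elt]
  -- b ∈ map (m^n)
  have : ∀ b ∈ (maximalIdeal A ^ n).map (algebraMap A B), ∀ x : B, ev φ (x * b) = 0 := by
    intro b hb
    refine Submodule.span_induction (p := fun b _ => ∀ x : B, ev φ (x * b) = 0) ?_ ?_ ?_ ?_ hb
    · rintro _ ⟨a, ha, rfl⟩ x
      rw [mul_comm, ← Algebra.smul_def, ev_map_smul]
      exact h2 x a ha
    · intro x; rw [mul_zero, ev_zero]
    · intro y z _ _ hy hz x; rw [mul_add, ev_add, hy, hz, add_zero]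
    · intro c y _ hy x
      rw [smul_eq_mul, ← mul_assoc]
      exact hy (x * c)
  exact this b hb' x

end Loc

end Groth.Agent.H6.CoextHull
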