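import Mathlib
import Groth.Agent.Lib.Helper6.CoextHull2

set_option autoImplicit false
universe u
set_option linter.style.haveILetI false
open IsLocalRing CategoryTheory

namespace Groth.Agent.H6.CoextHull

variable {A B : Type u} [CommRing A] [CommRing B] [Algebra A B]
  {E : Type u} [AddCommGroup E] [Module A E]

section Loc
variable [IsLocalRing A] [IsLocalRing B] [Module.Finite A B]

/-- a form killed by `m_B` vanishes on `m_B` -/
theorem ev_eq_zero_of_mem {φ : D A B E}
    (hφ : φ ∈ Submodule.torsionBySet B (D A B E) ((maximalIdeal B : Ideal B) : Set B)) {b : B}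
    (hb : b ∈ maximalIdeal B) : ev φ b = 0 := by
  have h1 := (Submodule.mem_torsionBySet_iff _ _).1 hφ ⟨b, hb⟩
  have h2 : ev (b • φ) (1 : B) = 0 := by
    have : b • φ = 0 := h1
    rw [this]; rfl
  rwa [ev_smul, one_mul] at h2

/-- the form on the residue field induced by a form killed by `m_B` -/
noncomputable def bar (φ : D A B E)
    (hφ : φ ∈ Submodule.torsionBySet B (D A B E) ((maximalIdeal B : Ideal B) : Set B)) :
    (B ⧸ maximalIdeal B) →ₗ[A] E where
  toFun := Quotient.lift (fun b : B => ev φ b) (by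
    intro a b hab
    have h1 : a - b ∈ maximalIdeal B := by
      have := (Submodule.quotientRel_def _).1 hab
      exact this
    have h2 := ev_eq_zero_of_mem hφ h1
    have h3 : ev φ a = ev φ ((a - b) + b) := by rw [sub_add_cancel]
    show ev φ a = ev φ b
    rw [h3, ev_add, h2, zero_add])
  map_add' := by
    intro x y
    obtain ⟨a, rfl⟩ := Ideal.Quotient.mk_surjective x
    obtain ⟨b, rfl⟩ := Ideal.Quotient.mk_surjective y
    exact ev_add φ a b
  map_smul' := by
    intro r x
    obtain ⟨a, rfl⟩ := Ideal.Quotient.mk_surjective x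
    exact ev_map_smul φ r a

theorem bar_mk (φ : D A B E)
    (hφ : φ ∈ Submodule.torsionBySet B (D A B E) ((maximalIdeal B : Ideal B) : Set B)) (b : B) :
    bar φ hφ (Ideal.Quotient.mk _ b) = ev φ b := rfl

theorem residue_powerTorsion :
    LocCoh.IsPowerTorsion (maximalIdeal A) (B ⧸ maximalIdeal B) := by
  intro x
  refine ⟨1, fun a ha => ?_⟩
  rw [pow_one] at ha
  obtain ⟨b, rfl⟩ := Ideal.Quotient.mk_surjective x
  have h1 : a • Ideal.Quotient.mk (maximalIdeal B) b =
      Ideal.Quotient.mk (maximalIdeal B) (algebraMap A B a * b) := by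
    rw [← Algebra.smul_def]; rfl
  rw [h1]
  exact Ideal.Quotient.eq_zero_iff_mem.2 (Ideal.mul_mem_right _ _ (algebraMap_mem ha))

variable [IsNoetherianRing A] {f : (A ⧸ maximalIdeal A) →ₗ[A] E}

theorem length_dual_residue (hf : InjHull.IsInjectiveHull f) :
    Module.length A ((B ⧸ maximalIdeal B) →ₗ[A] E) = Module.length A (B ⧸ maximalIdeal B) :=
  IH.length_hom_eq hf _ (IH.isFiniteLength_of_powerTorsion _ residue_powerTorsion)

theorem length_residue_ne_top : Module.length A (B ⧸ maximalIdeal B) ≠ ⊤ := by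
  rw [Module.length_ne_top_iff]
  exact IH.isFiniteLength_of_powerTorsion _ residue_powerTorsion

theorem exists_smul_eq (hf : InjHull.IsInjectiveHull f) (φ ψ : D A B E)
    (hφ : φ ∈ Submodule.torsionBySet B (D A B E) ((maximalIdeal B : Ideal B) : Set B))
    (hψ : ψ ∈ Submodule.torsionBySet B (D A B E) ((maximalIdeal B : Ideal B) : Set B))
    (hne : φ ≠ 0) : ∃ b : B, b • φ = ψ := by
  letI : Field (B ⧸ maximalIdeal B) := Ideal.Quotient.field _
  let T : (B ⧸ maximalIdeal B) →ₗ[A] ((B ⧸ maximalIdeal B) →ₗ[A] E) :=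
    (LinearMap.llcomp A (B ⧸ maximalIdeal B) (B ⧸ maximalIdeal B) E (bar φ hφ)) ∘ₗ
      (LinearMap.mul A (B ⧸ maximalIdeal B))
  have hT : ∀ c x, T c x = bar φ hφ (c * x) := fun c x => rfl
  have hinj : Function.Injective T := by
    rw [injective_iff_map_eq_zero]
    intro c hc
    by_contra hc0
    apply hne
    apply ev_ext
    intro x
    have h1 : T c (c⁻¹ * Ideal.Quotient.mk _ x) = 0 := by rw [hc]; rfl
    rw [hT, ← mul_assoc, mul_inv_cancel₀ hc0, one_mul, bar_mk] at h1
    rw [h1]; rfl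
  have hsurj : Function.Surjective T := by
    refine IH.surjective_of_injective_of_length_le T hinj ?_ ?_
    · rw [length_dual_residue hf]; exact length_residue_ne_top
    · rw [length_dual_residue hf]
  obtain ⟨c, hc⟩ := hsurj (bar ψ hψ)
  obtain ⟨b, rfl⟩ := Ideal.Quotient.mk_surjective c
  refine ⟨b, ev_ext fun x => ?_⟩
  rw [ev_smul, ← bar_mk φ hφ, ← bar_mk ψ hψ, ← hc, hT, map_mul, mul_comm]

/-- a nonzero form killed by `m_B` -/
theorem exists_ne_zero_mem (hf : InjHull.IsInjectiveHull f) : ∃ φ : D A B E, φ ≠ 0 ∧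
    φ ∈ Submodule.torsionBySet B (D A B E) ((maximalIdeal B : Ideal B) : Set B) := by
  have h1 : Nontrivial ((B ⧸ maximalIdeal B) →ₗ[A] E) := by
    rw [← Module.length_pos_iff (R := A), length_dual_residue hf, Module.length_pos_iff]
    infer_instance
  obtain ⟨g, hg⟩ := exists_ne (0 : (B ⧸ maximalIdeal B) →ₗ[A] E)
  let q : B →ₗ[A] (B ⧸ maximalIdeal B) := (Ideal.Quotient.mkₐ A (maximalIdeal B)).toLinearMap
  have hq : ∀ x : B, q x = Ideal.Quotient.mk (maximalIdeal B) x := fun x => rfl
  let φ : D A B E := mkD (g ∘ₗ q)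
  have hφ : ∀ x : B, ev φ x = g (Ideal.Quotient.mk (maximalIdeal B) x) := fun x => rfl
  refine ⟨φ, ?_, ?_⟩
  · intro h0
    apply hg
    ext x
    obtain ⟨b, rfl⟩ := Ideal.Quotient.mk_surjective x
    rw [← hφ, h0]
    rfl
  · rw [Submodule.mem_torsionBySet_iff]
    rintro ⟨b, hb⟩
    apply ev_ext
    intro x
    show ev (b • φ) x = 0
    rw [ev_smul, hφ, map_mul, Ideal.Quotient.eq_zero_iff_mem.2 hb, mul_zero, map_zero]

theorem isSimpleModule_socle (hf : InjHull.IsInjectiveHull f) :
    IsSimpleModule B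
      (Submodule.torsionBySet B (D A B E) ((maximalIdeal B : Ideal B) : Set B)) := by
  rw [isSimpleModule_iff_toSpanSingleton_surjective]
  constructor
  · obtain ⟨φ, hne, hφ⟩ := exists_ne_zero_mem (B := B) hf
    exact ⟨⟨⟨φ, hφ⟩, 0, fun h => hne (congrArg Subtype.val h)⟩⟩
  · rintro ⟨φ, hφ⟩ hne ⟨ψ, hψ⟩
    obtain ⟨b, hb⟩ := exists_smul_eq hf φ ψ hφ hψ (fun h => hne (Subtype.ext h))
    exact ⟨b, Subtype.ext hb⟩

/-- **S5156**: `Hom_A(B, E_A(k_A))` is an injective hull of the residue field of `B`. -/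
theorem main [IsNoetherianRing B] (hf : InjHull.IsInjectiveHull f) :
    ∃ g : (B ⧸ maximalIdeal B) →ₗ[B] (D A B E), InjHull.IsInjectiveHull g := by
  rw [IH.exists_hull_iff]
  haveI := hf.isInjective
  refine ⟨D_injective A B E, D_powerTorsion (IH.powerTorsion_of_hull _ hf), ?_⟩
  haveI := isSimpleModule_socle (B := B) hf
  exact IsSimpleModule.congr (IH.homQuotEquiv (maximalIdeal B) (D A B E))

end Loc

end Groth.Agent.H6.CoextHull
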