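import Mathlib
import Groth.Agent.Lib.Helper6.CoextHull

/-! `Hom_A(B, E)` for a finite algebra `B` over a Noetherian local ring `A`: torsion and socles at
maximal ideals of `B`. -/

set_option autoImplicit false
universe u
set_option linter.style.haveILetI false
open IsLocalRing CategoryTheory

namespace Groth.Agent.H6.CoextSemi

open CoextHull

variable {A B : Type u} [CommRing A] [CommRing B] [Algebra A B]
  {E : Type u} [AddCommGroup E] [Module A E]

section Loc
variable [IsLocalRing A] [Module.Finite A B]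

theorem comap_eq (n : Ideal B) [n.IsMaximal] : n.comap (algebraMap A B) = maximalIdeal A := by
  haveI : Algebra.IsIntegral A B := Algebra.IsIntegral.of_finite A B
  haveI : (n.comap (algebraMap A B)).IsMaximal :=
    Ideal.isMaximal_comap_of_isIntegral_of_isMaximal (R := A) n
  exact IsLocalRing.eq_maximalIdeal inferInstance

theorem algebraMap_mem (n : Ideal B) [n.IsMaximal] {a : A} (ha : a ∈ maximalIdeal A) :
    algebraMap A B a ∈ n := by
  rw [← comap_eq (A := A) n] at ha
  exact ha

/-- every prime of `B` containing `m_A^k B` (`k ≠ 0`) is maximal -/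
theorem isMaximal_of_le (k : ℕ) (q : Ideal B) [hq2 : q.IsPrime]
    (hq1 : (maximalIdeal A ^ k).map (algebraMap A B) ≤ q) : q.IsMaximal := by
  haveI : Algebra.IsIntegral A B := Algebra.IsIntegral.of_finite A B
  have h1 : maximalIdeal A ≤ q.comap (algebraMap A B) := by
    intro a ha
    have : algebraMap A B (a ^ k) ∈ q := hq1 (Ideal.mem_map_of_mem _ (Ideal.pow_mem_pow ha k))
    rw [map_pow] at this
    exact hq2.mem_of_pow_mem k this
  have h2 : q.comap (algebraMap A B) = maximalIdeal A :=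
    ((maximalIdeal.isMaximal A).eq_of_le (Ideal.comap_ne_top _ hq2.ne_top) h1).symm
  apply Ideal.isMaximal_of_isIntegral_of_isMaximal_comap (R := A) q
  rw [h2]; infer_instance

/-- every element of `Hom_A(B, E)` is killed by some `m_A^N B` -/
theorem D_killed (hE : LocCoh.IsPowerTorsion (maximalIdeal A) E) (φ : D A B E) :
    ∃ N : ℕ, ∀ b ∈ (maximalIdeal A ^ N).map (algebraMap A B), b • φ = 0 := by
  obtain ⟨s, hs⟩ := (Module.Finite.fg_top : (⊤ : Submodule A B).FG)
  have h1 : ∃ n : ℕ, ∀ x ∈ s, ∀ a ∈ maximalIdeal A ^ n, a • ev φ x = 0 := by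
    classical
    choose k hk using fun x : B => hE (ev φ x)
    refine ⟨s.sup k, fun x hx a ha => hk x a ?_⟩
    exact Ideal.pow_le_pow_right (Finset.le_sup hx) ha
  obtain ⟨n, hn⟩ := h1
  have h2 : ∀ x : B, ∀ a ∈ maximalIdeal A ^ n, a • ev φ x = 0 := by
    intro x
    have hx : x ∈ Submodule.span A (s : Set B) := by rw [hs]; trivial
    induction hx using Submodule.span_induction with
    | mem y hy => exact hn y hy
    | zero => intro a _; rw [ev_zero, smul_zero]
    | add y z _ _ hy hz => intro a ha; rw [ev_add, smul_add, hy a ha, hz a ha, add_zero]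
    | smul r y _ hy => intro a ha; rw [ev_map_smul, smul_comm, hy a ha, smul_zero]
  refine ⟨n, fun b hb => ?_⟩
  apply ev_ext
  intro x
  rw [ev_smul, ev_zero_elt]
  have : ∀ b ∈ (maximalIdeal A ^ n).map (algebraMap A B), ∀ x : B, ev φ (x * b) = 0 := by
    intro b hb
    refine Submodule.span_induction (p := fun b _ => ∀ x : B, ev φ (x * b) = 0) ?_ ?_ ?_ ?_ hb
    · rintro _ ⟨a, ha, rfl⟩ x
      rw [mul_comm, ← Algebra.smul_def, ev_map_smul]
      exact h2 x a ha
    · intro x; rw [mul_zero, ev_zero]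
    · intro y z _ _ hy hz x; rw [mul_add, ev_add, hy, hz, add_zero]
    · intro c y _ hy x
      rw [smul_eq_mul, ← mul_assoc]
      exact hy (x * c)
  exact this b hb x

variable (n : Ideal B) [n.IsMaximal]

/-- a form killed by `n` vanishes on `n` -/
theorem ev_eq_zero_of_mem {φ : D A B E}
    (hφ : φ ∈ Submodule.torsionBySet B (D A B E) (n : Set B)) {b : B}
    (hb : b ∈ n) : ev φ b = 0 := by
  have h1 := (Submodule.mem_torsionBySet_iff _ _).1 hφ ⟨b, hb⟩
  have h2 : ev (b • φ) (1 : B) = 0 := by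
    have : b • φ = 0 := h1
    rw [this]; rfl
  rwa [ev_smul, one_mul] at h2

/-- the form on the residue field induced by a form killed by `n` -/
noncomputable def bar (φ : D A B E)
    (hφ : φ ∈ Submodule.torsionBySet B (D A B E) (n : Set B)) :
    (B ⧸ n) →ₗ[A] E where
  toFun := Quotient.lift (fun b : B => ev φ b) (by
    intro a b hab
    have h1 : a - b ∈ n := by
      have := (Submodule.quotientRel_def _).1 hab
      exact this
    have h2 := ev_eq_zero_of_mem n hφ h1
    have h3 : ev φ a = ev φ ((a - b) + b) := by rw [sub_add_cancel]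
    show ev φ a = ev φ b
    rw [h3, ev_add, h2, zero_add])
  map_add' := by
    intro x y
    obtain ⟨a, rfl⟩ := Ideal.Quotient.mk_surjective x
    obtain ⟨b, rfl⟩ := Ideal.Quotient.mk_surjective y
    exact ev_add φ a b
  map_smul' := by
    intro r x
    obtain ⟨a, rfl⟩ := Ideal.Quotient.mk_surjective x
    exact ev_map_smul φ r a

theorem bar_mk (φ : D A B E)
    (hφ : φ ∈ Submodule.torsionBySet B (D A B E) (n : Set B)) (b : B) :
    bar n φ hφ (Ideal.Quotient.mk _ b) = ev φ b := rfl

theorem residue_powerTorsion :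
    LocCoh.IsPowerTorsion (maximalIdeal A) (B ⧸ n) := by
  intro x
  refine ⟨1, fun a ha => ?_⟩
  rw [pow_one] at ha
  obtain ⟨b, rfl⟩ := Ideal.Quotient.mk_surjective x
  have h1 : a • Ideal.Quotient.mk n b =
      Ideal.Quotient.mk n (algebraMap A B a * b) := by
    rw [← Algebra.smul_def]; rfl
  rw [h1]
  exact Ideal.Quotient.eq_zero_iff_mem.2 (Ideal.mul_mem_right _ _ (algebraMap_mem n ha))

variable [IsNoetherianRing A] {f : (A ⧸ maximalIdeal A) →ₗ[A] E}

theorem length_dual_residue (hf : InjHull.IsInjectiveHull f) :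
    Module.length A ((B ⧸ n) →ₗ[A] E) = Module.length A (B ⧸ n) :=
  IH.length_hom_eq hf _ (IH.isFiniteLength_of_powerTorsion _ (residue_powerTorsion n))

theorem length_residue_ne_top : Module.length A (B ⧸ n) ≠ ⊤ := by
  rw [Module.length_ne_top_iff]
  exact IH.isFiniteLength_of_powerTorsion _ (residue_powerTorsion n)

theorem exists_smul_eq (hf : InjHull.IsInjectiveHull f) (φ ψ : D A B E)
    (hφ : φ ∈ Submodule.torsionBySet B (D A B E) (n : Set B))
    (hψ : ψ ∈ Submodule.torsionBySet B (D A B E) (n : Set B))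
    (hne : φ ≠ 0) : ∃ b : B, b • φ = ψ := by
  letI : Field (B ⧸ n) := Ideal.Quotient.field _
  let T : (B ⧸ n) →ₗ[A] ((B ⧸ n) →ₗ[A] E) :=
    (LinearMap.llcomp A (B ⧸ n) (B ⧸ n) E (bar n φ hφ)) ∘ₗ
      (LinearMap.mul A (B ⧸ n))
  have hT : ∀ c x, T c x = bar n φ hφ (c * x) := fun c x => rfl
  have hinj : Function.Injective T := by
    rw [injective_iff_map_eq_zero]
    intro c hc
    by_contra hc0
    apply hne
    apply ev_ext
    intro x
    have h1 : T c (c⁻¹ * Ideal.Quotient.mk _ x) = 0 := by rw [hc]; rfl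
    rw [hT, ← mul_assoc, mul_inv_cancel₀ hc0, one_mul, bar_mk] at h1
    rw [h1]; rfl
  have hsurj : Function.Surjective T := by
    refine IH.surjective_of_injective_of_length_le T hinj ?_ ?_
    · rw [length_dual_residue n hf]; exact length_residue_ne_top n
    · rw [length_dual_residue n hf]
  obtain ⟨c, hc⟩ := hsurj (bar n ψ hψ)
  obtain ⟨b, rfl⟩ := Ideal.Quotient.mk_surjective c
  refine ⟨b, ev_ext fun x => ?_⟩
  rw [ev_smul, ← bar_mk n φ hφ, ← bar_mk n ψ hψ, ← hc, hT, map_mul, mul_comm]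

/-- a nonzero form killed by `n` -/
theorem exists_ne_zero_mem (hf : InjHull.IsInjectiveHull f) : ∃ φ : D A B E, φ ≠ 0 ∧
    φ ∈ Submodule.torsionBySet B (D A B E) (n : Set B) := by
  have h1 : Nontrivial ((B ⧸ n) →ₗ[A] E) := by
    rw [← Module.length_pos_iff (R := A), length_dual_residue n hf, Module.length_pos_iff]
    exact Ideal.Quotient.nontrivial_iff.mpr (Ideal.IsMaximal.ne_top inferInstance)
  obtain ⟨g, hg⟩ := exists_ne (0 : (B ⧸ n) →ₗ[A] E)
  let q : B →ₗ[A] (B ⧸ n) := (Ideal.Quotient.mkₐ A n).toLinearMap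
  let φ : D A B E := mkD (g ∘ₗ q)
  have hφ : ∀ x : B, ev φ x = g (Ideal.Quotient.mk n x) := fun x => rfl
  refine ⟨φ, ?_, ?_⟩
  · intro h0
    apply hg
    ext x
    obtain ⟨b, rfl⟩ := Ideal.Quotient.mk_surjective x
    rw [← hφ, h0]
    rfl
  · rw [Submodule.mem_torsionBySet_iff]
    rintro ⟨b, hb⟩
    apply ev_ext
    intro x
    show ev (b • φ) x = 0
    rw [ev_smul, hφ, map_mul, Ideal.Quotient.eq_zero_iff_mem.2 hb, mul_zero, map_zero]

theorem isSimpleModule_socle (hf : InjHull.IsInjectiveHull f) :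
    IsSimpleModule B (Submodule.torsionBySet B (D A B E) (n : Set B)) := by
  rw [isSimpleModule_iff_toSpanSingleton_surjective]
  constructor
  · obtain ⟨φ, hne, hφ⟩ := exists_ne_zero_mem n hf
    exact ⟨⟨⟨φ, hφ⟩, 0, fun h => hne (congrArg Subtype.val h)⟩⟩
  · rintro ⟨φ, hφ⟩ hne ⟨ψ, hψ⟩
    obtain ⟨b, hb⟩ := exists_smul_eq n hf φ ψ hφ hψ (fun h => hne (Subtype.ext h))
    exact ⟨b, Subtype.ext hb⟩

end Loc

end Groth.Agent.H6.CoextSemi
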