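import Mathlib
import Groth.Agent.Lib.Helper6.CoextSemi1
import Groth.Agent.Lib.Helper6.LCTorsion

/-! `Hom_A(B, E)` decomposes as the direct sum of the injective hulls of the residue fields of `B`. -/

set_option autoImplicit false
universe u
set_option linter.style.haveILetI false
open IsLocalRing CategoryTheory

namespace Groth.Agent.H6.CoextSemi

open CoextHull InjHull

variable {A B : Type u} [CommRing A] [CommRing B] [Algebra A B]
  {E : Type u} [AddCommGroup E] [Module A E]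

variable [IsLocalRing A] [Module.Finite A B]

theorem finite_maximalSpectrum (A B : Type u) [CommRing A] [CommRing B] [Algebra A B]
    [IsLocalRing A] [Module.Finite A B] : Finite (MaximalSpectrum B) := by
  have h := Algebra.QuasiFinite.finite_primesOver (R := A) (S := B) (maximalIdeal A)
  haveI := h.to_subtype
  refine Finite.of_injective (β := (maximalIdeal A).primesOver B)
    (fun n => ⟨n.asIdeal, n.isMaximal.isPrime, ⟨?_⟩⟩) ?_
  · haveI := n.isMaximal
    exact (comap_eq (A := A) n.asIdeal).symm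
  · intro n n' h
    exact MaximalSpectrum.ext (congrArg Subtype.val h)

variable (A E) in
/-- the `n`-power torsion part of `Hom_A(B, E)` -/
noncomputable def J (n : MaximalSpectrum B) : Submodule B (D A B E) :=
  DRing.torsionSub n.asIdeal (D A B E)

theorem mem_J {n : MaximalSpectrum B} {φ : D A B E} :
    φ ∈ J A E n ↔ ∃ k : ℕ, ∀ b ∈ n.asIdeal ^ k, b • φ = 0 := Iff.rfl

theorem torsionBySet_le_J (n : MaximalSpectrum B) (k : ℕ) :
    Submodule.torsionBySet B (D A B E) ((n.asIdeal ^ k : Ideal B) : Set B) ≤ J A E n := by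
  intro φ hφ
  rw [Submodule.mem_torsionBySet_iff] at hφ
  exact ⟨k, fun b hb => hφ ⟨b, hb⟩⟩

theorem coprime_pow (k : ℕ) (n n' : MaximalSpectrum B) (h : n ≠ n') :
    n.asIdeal ^ k ⊔ n'.asIdeal ^ k = ⊤ := by
  haveI := n.isMaximal
  haveI := n'.isMaximal
  apply Ideal.pow_sup_pow_eq_top
  rw [← Ideal.isCoprime_iff_sup_eq]
  exact Ideal.isCoprime_of_isMaximal (fun h' => h (MaximalSpectrum.ext h'))

theorem iSup_J [IsNoetherianRing B] (hE : LocCoh.IsPowerTorsion (maximalIdeal A) E) :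
    iSup (J (B := B) A E) = ⊤ := by
  classical
  haveI := finite_maximalSpectrum A B
  haveI : Fintype (MaximalSpectrum B) := Fintype.ofFinite _
  rw [eq_top_iff]
  intro φ _
  obtain ⟨N, hN⟩ := D_killed hE φ
  -- use exponent `N + 1`
  set 𝔞 : Ideal B := (maximalIdeal A ^ (N + 1)).map (algebraMap A B) with h𝔞
  have hkill : ∀ b ∈ 𝔞, b • φ = 0 := fun b hb =>
    hN b (Ideal.map_mono (Ideal.pow_le_pow_right (Nat.le_succ N)) hb)
  have hjac : (⨅ n : MaximalSpectrum B, n.asIdeal) ≤ 𝔞.radical := by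
    rw [Ideal.radical_eq_sInf]
    refine le_sInf ?_
    rintro q ⟨hq1, hq2⟩
    haveI := hq2
    have hmax : q.IsMaximal := isMaximal_of_le (A := A) (N + 1) q hq1
    exact iInf_le (fun n : MaximalSpectrum B => n.asIdeal) ⟨q, hmax⟩
  obtain ⟨k, hk⟩ := Ideal.exists_pow_le_of_le_radical_of_fg hjac (IsNoetherian.noetherian _)
  have hprod : (⨅ n ∈ (Finset.univ : Finset (MaximalSpectrum B)), n.asIdeal ^ k) ≤ 𝔞 := by
    rw [← Ideal.prod_eq_iInf_of_pairwise_isCoprime]
    · rw [Finset.prod_pow]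
      refine le_trans (Ideal.pow_right_mono ?_ k) hk
      refine le_trans Ideal.prod_le_inf ?_
      rw [Finset.inf_eq_iInf]
      exact le_iInf fun n => iInf₂_le n (Finset.mem_univ n)
    · intro n _ n' _ hne
      show IsCoprime (n.asIdeal ^ k) (n'.asIdeal ^ k)
      rw [Ideal.isCoprime_iff_sup_eq]
      exact coprime_pow k n n' hne
  have hmem : φ ∈ Submodule.torsionBySet B (D A B E)
      ((⨅ n ∈ (Finset.univ : Finset (MaximalSpectrum B)), n.asIdeal ^ k : Ideal B) : Set B) := by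
    rw [Submodule.mem_torsionBySet_iff]
    rintro ⟨b, hb⟩
    exact hkill b (hprod hb)
  rw [← Submodule.iSup_torsionBySet_ideal_eq_torsionBySet_iInf] at hmem
  · refine (iSup₂_le fun n _ => ?_ : _ ≤ iSup (J (B := B) A E)) hmem
    exact le_trans (torsionBySet_le_J n k) (le_iSup _ n)
  · intro n _ n' _ hne
    exact coprime_pow k n n' hne

theorem iSupIndep_J : iSupIndep (J (B := B) A E) := by
  classical
  haveI := finite_maximalSpectrum A B
  haveI : Fintype (MaximalSpectrum B) := Fintype.ofFinite _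
  rw [iSupIndep_def]
  intro i
  rw [disjoint_iff, eq_bot_iff]
  set 𝔟 : Ideal B := ⨅ j ∈ (Finset.univ.erase i : Finset (MaximalSpectrum B)), j.asIdeal with h𝔟
  have h1 : (⨆ (j : MaximalSpectrum B) (_ : j ≠ i), J A E j) ≤ DRing.torsionSub 𝔟 (D A B E) := by
    refine iSup₂_le fun j hj => ?_
    rintro φ ⟨k, hk⟩
    refine ⟨k, fun b hb => hk b (Ideal.pow_right_mono ?_ k hb)⟩
    exact iInf₂_le j (Finset.mem_erase.2 ⟨hj, Finset.mem_univ j⟩)
  have hcop : i.asIdeal ⊔ 𝔟 = ⊤ := by
    refine Ideal.sup_iInf_eq_top fun j hj => ?_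
    haveI := i.isMaximal
    haveI := j.isMaximal
    rw [← Ideal.isCoprime_iff_sup_eq]
    exact Ideal.isCoprime_of_isMaximal
      (fun h' => (Finset.mem_erase.1 hj).1 (MaximalSpectrum.ext h').symm)
  rintro φ ⟨⟨k, hk⟩, hφ2⟩
  obtain ⟨k', hk'⟩ := h1 hφ2
  have h2 : i.asIdeal ^ k ⊔ 𝔟 ^ k' = ⊤ := Ideal.pow_sup_pow_eq_top hcop
  have h3 : (1 : B) ∈ i.asIdeal ^ k ⊔ 𝔟 ^ k' := by rw [h2]; trivial
  obtain ⟨a, ha, b, hb, hab⟩ := Submodule.mem_sup.1 h3
  rw [Submodule.mem_bot, ← one_smul B φ, ← hab, add_smul, hk a ha, hk' b hb, add_zero]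

end Groth.Agent.H6.CoextSemi
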