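import Mathlib
import Groth.Agent.Lib.Helper6.CoextSemi2

set_option autoImplicit false
universe u
set_option linter.style.haveILetI false
open IsLocalRing CategoryTheory

namespace Groth.Agent.H6.CoextSemi

open CoextHull InjHull

variable {A B : Type u} [CommRing A] [CommRing B] [Algebra A B]
  {E : Type u} [AddCommGroup E] [Module A E]

variable [IsLocalRing A] [IsNoetherianRing A] [Module.Finite A B]
  {f : (A ⧸ maximalIdeal A) →ₗ[A] E}

theorem hull_J (hf : IsInjectiveHull f) (n : MaximalSpectrum B) :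
    ∃ g : (B ⧸ n.asIdeal) →ₗ[B] J A E n, IsInjectiveHull g := by
  haveI := n.isMaximal
  haveI : IsNoetherianRing B := IsNoetherianRing.of_finite A B
  haveI := hf.isInjective
  haveI : Module.Injective B (D A B E) := D_injective A B E
  haveI hJinj : Module.Injective B (J A E n) := LC.torsionSub_injective n.asIdeal (D A B E)
  obtain ⟨φ0, hne, hφ0⟩ := exists_ne_zero_mem n.asIdeal hf
  have hφ0J : φ0 ∈ J A E n := by
    refine ⟨1, fun b hb => ?_⟩
    rw [pow_one] at hb
    exact (Submodule.mem_torsionBySet_iff _ _).1 hφ0 ⟨b, hb⟩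
  let g : (B ⧸ n.asIdeal) →ₗ[B] J A E n :=
    Submodule.liftQ n.asIdeal (LinearMap.toSpanSingleton B (J A E n) ⟨φ0, hφ0J⟩) (by
      intro b hb
      rw [LinearMap.mem_ker, LinearMap.toSpanSingleton_apply]
      apply Subtype.ext
      exact (Submodule.mem_torsionBySet_iff _ _).1 hφ0 ⟨b, hb⟩)
  have hg : ∀ b : B, ((g (Ideal.Quotient.mk _ b) : J A E n) : D A B E) = b • φ0 := fun b => rfl
  haveI : IsSimpleModule B (B ⧸ n.asIdeal) :=
    isSimpleModule_iff_quot_maximal.mpr ⟨_, n.isMaximal, ⟨LinearEquiv.refl B _⟩⟩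
  have hginj : Function.Injective g := by
    rw [← LinearMap.ker_eq_bot]
    rcases eq_bot_or_eq_top (LinearMap.ker g) with h | h
    · exact h
    · exfalso
      apply hne
      have h1 : g (Ideal.Quotient.mk _ 1) = 0 := by
        have : Ideal.Quotient.mk n.asIdeal 1 ∈ LinearMap.ker g := by rw [h]; trivial
        exact this
      have h2 := hg 1
      rw [h1, one_smul] at h2
      exact h2.symm
  refine ⟨g, ⟨(IH.isEssentialInj_iff g).mpr ⟨hginj, fun x hx => ?_⟩, hJinj⟩⟩
  obtain ⟨k, hk⟩ := x.2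
  have hx' : ∃ k : ℕ, ∀ b ∈ n.asIdeal ^ k, b • x = 0 :=
    ⟨k, fun b hb => Subtype.ext (hk b hb)⟩
  obtain ⟨r, hr0, hr⟩ := IH.exists_smul_mem_torsionBySet n.asIdeal hx hx'
  refine ⟨r, hr0, ?_⟩
  have hr' : ((r • x : J A E n) : D A B E) ∈
      Submodule.torsionBySet B (D A B E) (n.asIdeal : Set B) := by
    rw [Submodule.mem_torsionBySet_iff]
    rintro ⟨b, hb⟩
    have := (Submodule.mem_torsionBySet_iff _ _).1 hr ⟨b, hb⟩
    exact congrArg Subtype.val this
  obtain ⟨b, hb⟩ := exists_smul_eq n.asIdeal hf φ0 _ hφ0 hr' hne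
  refine ⟨Ideal.Quotient.mk _ b, Subtype.ext ?_⟩
  rw [hg, hb]

/-- **S11184** -/
theorem main (hf : IsInjectiveHull f) :
    ∃ J : MaximalSpectrum B → Submodule B (D A B E), iSupIndep J ∧ iSup J = ⊤ ∧
      ∀ n : MaximalSpectrum B, ∃ g : (B ⧸ n.asIdeal) →ₗ[B] J n, IsInjectiveHull g := by
  haveI : IsNoetherianRing B := IsNoetherianRing.of_finite A B
  exact ⟨J A E, iSupIndep_J, iSup_J (IH.powerTorsion_of_hull _ hf), hull_J hf⟩

end Groth.Agent.H6.CoextSemi
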