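import Mathlib
import Groth.Agent.Lib.Helper6.InjHullLocal
import Groth.Agent.Lib.Helper6.ExtBaseChange

/-! `Ext` into Artinian modules, and finite length criteria. -/

universe u
set_option linter.unusedSectionVars false
open CategoryTheory CategoryTheory.Abelian IsLocalRing

namespace Groth.Agent.H6.Cof

section Ext

variable {R : Type u} [CommRing R]

/-- scalars killing the second variable kill `Ext` -/
theorem smul_ext_eq_zero_right (X Y : ModuleCat.{u} R) (a : R) (ha : ∀ y : Y, a • y = 0) (i : ℕ)
    (α : Ext X Y i) : a • α = 0 := by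
  have h0 : a • 𝟙 Y = 0 := by
    ext y
    exact ha y
  rw [← Ext.comp_mk₀_id α, ← Ext.comp_smul, ← Ext.mk₀_smul, h0, Ext.mk₀_zero, Ext.comp_zero]

/-- scalars killing the first variable kill `Ext` -/
theorem smul_ext_eq_zero_left (X Y : ModuleCat.{u} R) (a : R) (ha : ∀ x : X, a • x = 0) (i : ℕ)
    (α : Ext X Y i) : a • α = 0 := by
  have h0 : a • 𝟙 X = 0 := by
    ext x
    exact ha x
  rw [← Ext.mk₀_id_comp α, ← Ext.smul_comp, ← Ext.mk₀_smul, h0, Ext.mk₀_zero, Ext.zero_comp]

variable [IsNoetherianRing R]

/-- `Ext` from a finitely generated module into an Artinian module is Artinian -/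
theorem isArtinian_ext (Y : ModuleCat.{u} R) [IsArtinian R Y] (i : ℕ) :
    ∀ (X : ModuleCat.{u} R) [Module.Finite R X], IsArtinian R (Ext X Y i) := by
  induction i with
  | zero =>
    intro X _
    obtain ⟨s, g, hg⟩ := Module.Finite.exists_fin' R X
    -- `Hom(X, Y) ↪ Hom(R^s, Y) = Y^s`
    let φ : (X →ₗ[R] Y) →ₗ[R] (Fin s → Y) :=
      { toFun := fun l j => l (g (Pi.single j 1))
        map_add' := fun l l' => rfl
        map_smul' := fun r l => rfl }
    have hφ : Function.Injective φ := by
      intro l l' h
      apply LinearMap.ext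
      intro x
      obtain ⟨v, rfl⟩ := hg x
      have hv : v = ∑ j, v j • (Pi.single j (1 : R) : Fin s → R) := by
        ext k
        simp [Finset.sum_apply, Pi.single_apply]
      rw [hv]
      simp only [map_sum, map_smul]
      refine Finset.sum_congr rfl (fun j _ => ?_)
      congr 1
      exact congrFun h j
    haveI : IsArtinian R (X →ₗ[R] Y) := isArtinian_of_injective φ hφ
    exact isArtinian_of_linearEquiv (ExtBC.homEquivExt₀ X Y)
  | succ n ih =>
    intro X _
    rcases Module.exists_finite_presentation R X with ⟨P, _, _, _, _, f, surjf⟩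
    let S := f.shortComplexKer
    have hS : S.ShortExact := LinearMap.shortExact_shortComplexKer surjf
    haveI proj : Projective S.X₂ := ModuleCat.projective_of_categoryTheory_projective S.X₂
    haveI : Module.Finite R S.X₁ := by
      change Module.Finite R (LinearMap.ker f)
      infer_instance
    haveI := ih S.X₁
    let g₁ : Ext S.X₁ Y n →ₗ[R] Ext S.X₃ Y (n + 1) :=
      hS.extClass.precompOfLinear R Y (add_comm 1 n)
    have hsurj : Function.Surjective g₁ := by
      intro x₃
      exact Ext.contravariant_sequence_exact₃ hS _ x₃ (Ext.eq_zero_of_projective _) (add_comm 1 n)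
    exact isArtinian_of_surjective _ g₁ hsurj

end Ext

section FL

variable {R : Type u} [CommRing R] [IsLocalRing R] [IsNoetherianRing R]

/-- an Artinian module killed by a power of the maximal ideal has finite length -/
theorem isFiniteLength_of_isArtinian_of_pow (k : ℕ) :
    ∀ (X : Type u) [AddCommGroup X] [Module R X] [IsArtinian R X],
      (∀ a ∈ maximalIdeal R ^ k, ∀ x : X, a • x = 0) → IsFiniteLength R X := by
  induction k with
  | zero =>
    intro X _ _ _ h
    haveI : Subsingleton X := ⟨fun x y => by
      have hx := h 1 (by simp) x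
      have hy := h 1 (by simp) y
      rw [one_smul] at hx hy
      rw [hx, hy]⟩
    exact IsFiniteLength.of_subsingleton
  | succ k ih =>
    intro X _ _ _ h
    set S : Submodule R X := Submodule.torsionBySet R X (maximalIdeal R : Set R) with hS
    -- the socle has finite length
    haveI hSfin : Module.Finite (R ⧸ maximalIdeal R) S := IH.finite_socle_of_isArtinian X
    haveI : Module.Finite R S := Module.Finite.trans (R ⧸ maximalIdeal R) S
    have hS1 : IsFiniteLength R S := by
      apply IH.isFiniteLength_of_powerTorsion
      intro y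
      refine ⟨1, fun a ha => ?_⟩
      rw [pow_one] at ha
      apply Subtype.ext
      have := (Submodule.mem_torsionBySet_iff _ _).mp y.2 ⟨a, ha⟩
      exact this
    -- the quotient is killed by `m^k`
    have hQ : IsFiniteLength R (X ⧸ S) := by
      apply ih (X ⧸ S)
      intro a ha y
      obtain ⟨x, rfl⟩ := Submodule.Quotient.mk_surjective S y
      rw [← Submodule.Quotient.mk_smul, Submodule.Quotient.mk_eq_zero, hS,
        Submodule.mem_torsionBySet_iff]
      rintro ⟨b, hb⟩
      change b • a • x = 0
      rw [← mul_smul]
      apply h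
      rw [pow_succ']
      exact Ideal.mul_mem_mul hb ha
    rw [isFiniteLength_iff_isNoetherian_isArtinian] at hS1 hQ ⊢
    haveI := hS1.1
    haveI := hQ.1
    refine ⟨isNoetherian_of_range_eq_ker S.subtype S.mkQ ?_, inferInstance⟩
    rw [Submodule.range_subtype, Submodule.ker_mkQ]

end FL

end Groth.Agent.H6.Cof
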