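import Groth.Agent.Lib.Helper6.HLVMain
import Groth.Agent.Lib.Helper6.CMKit
import Groth.Agent.Lib.Helper6.LCTop

/-! Top local cohomology over a complete local ring: annihilator. -/

universe u
set_option linter.unusedSectionVars false
open CategoryTheory CategoryTheory.Abelian IsLocalRing

namespace Groth.Agent.H6.Cof

section General

variable {R : Type u} [CommRing R] [IsLocalRing R] [IsNoetherianRing R]

/-- an ideal whose quotient has dimension `< 1` contains a power of the maximal ideal -/
theorem maximalIdeal_le_radical_of_dim_lt_one (J : Ideal R)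
    (hlt : ringKrullDim (R ⧸ J) < 1) : maximalIdeal R ≤ J.radical := by
  rw [Ideal.radical_eq_sInf]
  refine le_sInf ?_
  rintro q ⟨hJq, hq⟩
  haveI := hq
  by_contra hne
  have hqlt : q < maximalIdeal R :=
    lt_of_le_of_ne (IsLocalRing.le_maximalIdeal hq.ne_top) (fun h => hne (h ▸ le_rfl))
  have h3 := Dim.ringKrullDim_quotient_add_one_le hqlt
  have h4 : (0 : WithBot ℕ∞) ≤ ringKrullDim (R ⧸ maximalIdeal R) := by
    haveI : Nontrivial (R ⧸ maximalIdeal R) :=
      Ideal.Quotient.nontrivial_iff.mpr (Ideal.IsPrime.ne_top')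
    exact ringKrullDim_nonneg_of_nontrivial
  have h5 : (1 : WithBot ℕ∞) ≤ ringKrullDim (R ⧸ q) := by
    calc (1 : WithBot ℕ∞) = 0 + 1 := by simp
      _ ≤ ringKrullDim (R ⧸ maximalIdeal R) + 1 := by gcongr
      _ ≤ _ := h3
  have h6 : ringKrullDim (R ⧸ q) ≤ ringKrullDim (R ⧸ J) :=
    ringKrullDim_le_of_surjective (Ideal.Quotient.factor hJq)
      (Ideal.Quotient.factor_surjective hJq)
  exact absurd (lt_of_le_of_lt (h5.trans h6) hlt) (lt_irrefl _)

end General

section Complete

variable {R : Type u} [CommRing R] [IsLocalRing R] [IsNoetherianRing R]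
  [IsAdicComplete (maximalIdeal R) R]

/-- Hartshorne–Lichtenbaum vanishing for a module over a complete local ring -/
theorem top_vanish_module (I : Ideal R) (n : ℕ) (N : Type u) [AddCommGroup N] [Module R N]
    [Module.Finite R N] (hdim : Module.supportDim R N ≤ n)
    (h : ∀ p : PrimeSpectrum R, p ∈ Module.support R N → ringKrullDim (R ⧸ p.asIdeal) = n →
      1 ≤ ringKrullDim (R ⧸ (I ⊔ p.asIdeal))) :
    Subsingleton (LocCoh.H I n N) := by
  suffices hmain : ∀ (F : Type u) [AddCommGroup F] [Module R F], Module.Finite R F →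
      Module.support R F ⊆ Module.support R N → Subsingleton (LocCoh.H I n F) from
    hmain N inferInstance le_rfl
  intro F _ _ hF
  refine IsNoetherianRing.induction_on_isQuotientEquivQuotientPrime R hF
    (motive := fun N' _ _ _ => Module.support R N' ⊆ Module.support R N →
      Subsingleton (LocCoh.H I n N')) ?_ ?_ ?_
  · intro N' _ _ _ _ _
    exact LC.subsingleton_of_subsingleton I n N'
  · intro N' _ _ _ p e hsub
    haveI := p.2
    have hpN' : p ∈ Module.support R N' := by
      rw [Module.mem_support_iff_of_finite]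
      have : Module.annihilator R N' = Module.annihilator R (R ⧸ p.1) := e.annihilator_eq
      rw [this, Ideal.annihilator_quotient]
    have hpN : p ∈ Module.support R N := hsub hpN'
    have hle : ringKrullDim (R ⧸ p.1) ≤ (n : WithBot ℕ∞) :=
      (CM.ringKrullDim_quotient_le_supportDim N p.1
        (Module.mem_support_iff_of_finite.mp hpN)).trans hdim
    have hq : Subsingleton (LocCoh.H I n (R ⧸ p.1)) := by
      rcases lt_or_eq_of_le hle with hlt | heq
      · apply LC.subsingleton_of_supportDim_lt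
        rw [Module.supportDim_quotient_eq_ringKrullDim]
        exact hlt
      · exact HLVMain.top_vanish_quotient n I p.1 heq (h p hpN heq)
    exact LC.subsingleton_of_linearEquiv e.symm hq
  · intro N₁ _ _ _ N₂ _ _ _ N₃ _ _ _ f g hf hg hex h1 h3 hsub
    have hs1 : Module.support R N₁ ⊆ Module.support R N₂ :=
      Module.support_subset_of_injective f hf
    have hs3 : Module.support R N₃ ⊆ Module.support R N₂ :=
      Module.support_subset_of_surjective g hg
    exact LC.subsingleton_of_exact I n f g hf hg hex (h1 (hs1.trans hsub)) (h3 (hs3.trans hsub))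

end Complete

end Groth.Agent.H6.Cof

namespace Groth.Agent.H6.Cof

section Ann

variable {R : Type u} [CommRing R] [IsLocalRing R] [IsNoetherianRing R]
  [IsAdicComplete (maximalIdeal R) R]

set_option maxHeartbeats 800000 in
/-- over a complete local ring, `I + Ann H^n_I(M)` contains a power of the maximal ideal when
`dim M ≤ n` -/
theorem exists_pow_le_sup_annihilator (I : Ideal R) (n : ℕ) (M : Type u) [AddCommGroup M]
    [Module R M] [Module.Finite R M] (hdim : Module.supportDim R M ≤ n) :
    ∃ k : ℕ, maximalIdeal R ^ k ≤ I ⊔ Module.annihilator R (LocCoh.H I n M) := by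
  classical
  have hfin : (Module.annihilator R M).minimalPrimes.Finite :=
    Ideal.finite_minimalPrimes_of_isNoetherianRing R _
  let good : Ideal R → Prop := fun q =>
    ringKrullDim (R ⧸ q) = n ∧ maximalIdeal R ≤ (I ⊔ q).radical
  let Sg : Finset (Ideal R) := hfin.toFinset.filter good
  let Sb : Finset (Ideal R) := hfin.toFinset.filter (fun q => ¬ good q)
  set 𝔤 : Ideal R := Sg.inf id with h𝔤
  set 𝔠 : Ideal R := Sb.inf id with h𝔠
  have hrad : 𝔤 ⊓ 𝔠 ≤ (Module.annihilator R M).radical := by
    rw [← Ideal.sInf_minimalPrimes]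
    refine le_sInf fun q hq => ?_
    by_cases hgq : good q
    · exact inf_le_left.trans (Finset.inf_le (f := id)
        (Finset.mem_filter.mpr ⟨hfin.mem_toFinset.mpr hq, hgq⟩))
    · exact inf_le_right.trans (Finset.inf_le (f := id)
        (Finset.mem_filter.mpr ⟨hfin.mem_toFinset.mpr hq, hgq⟩))
  obtain ⟨k, hk⟩ := Ideal.exists_pow_le_of_le_radical_of_fg hrad (IsNoetherian.noetherian _)
  set N : Submodule R M := DRing.torsionSub 𝔠 M with hN
  -- (1) `𝔤^k M ⊆ N`
  have h1 : ∀ g ∈ 𝔤 ^ k, ∀ x : M, g • x ∈ N := by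
    intro g hg x
    refine ⟨k, fun c hc => ?_⟩
    rw [← mul_smul]
    have hmem : c * g ∈ (𝔤 ⊓ 𝔠) ^ k := by
      have h2 : c * g ∈ 𝔠 ^ k * 𝔤 ^ k := Ideal.mul_mem_mul hc hg
      rw [← mul_pow] at h2
      exact Ideal.pow_right_mono (by rw [mul_comm]; exact Ideal.mul_le_inf) k h2
    exact Module.mem_annihilator.mp (hk hmem) x
  -- (2) vanishing of `H^n_I(N)`
  have h2 : Subsingleton (LocCoh.H I n N) := by
    apply top_vanish_module I n N
      ((Module.supportDim_le_of_injective N.subtype N.injective_subtype).trans hdim)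
    intro p hpN hpdim
    haveI := p.2
    obtain ⟨x, hx⟩ := Module.mem_support_iff_exists_annihilator.mp hpN
    obtain ⟨j, hj⟩ := x.2
    have hcp : 𝔠 ≤ p.asIdeal := by
      apply Ideal.IsPrime.le_of_pow_le (n := j)
      intro a ha
      apply hx
      rw [Submodule.mem_annihilator_span_singleton]
      exact Subtype.ext (hj a ha)
    obtain ⟨q, hqSb, hqp⟩ := (Ideal.IsPrime.inf_le' p.2).mp hcp
    obtain ⟨hqP, hqbad⟩ := Finset.mem_filter.mp hqSb
    have hqP' : q ∈ (Module.annihilator R M).minimalPrimes := hfin.mem_toFinset.mp hqP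
    haveI hqprime : q.IsPrime := hqP'.1.1
    have hqdim : ringKrullDim (R ⧸ q) ≤ n :=
      (CM.ringKrullDim_quotient_le_supportDim M q hqP'.1.2).trans hdim
    have hqeq : q = p.asIdeal := by
      by_contra hne
      have hlt : q < p.asIdeal := lt_of_le_of_ne hqp hne
      have h3 := Dim.ringKrullDim_quotient_add_one_le hlt
      rw [hpdim] at h3
      have h4 : ((n : ℕ) : WithBot ℕ∞) + 1 ≤ n := h3.trans hqdim
      have h5 : ((n + 1 : ℕ) : WithBot ℕ∞) ≤ (n : WithBot ℕ∞) := by exact_mod_cast h4
      have h6 : n + 1 ≤ n := by exact_mod_cast h5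
      omega
    subst hqeq
    by_contra hlt
    rw [not_le] at hlt
    exact hqbad ⟨hpdim, maximalIdeal_le_radical_of_dim_lt_one _ hlt⟩
  -- (3) elements of `𝔤^k` kill `H^n_I(M)`
  have h3 : 𝔤 ^ k ≤ Module.annihilator R (LocCoh.H I n M) := by
    intro g hg
    rw [Module.mem_annihilator]
    intro y
    let φ : M →ₗ[R] N := LinearMap.codRestrict N (LinearMap.lsmul R M g) (fun x => h1 g hg x)
    have hfac : g • 𝟙 (ModuleCat.of R M) = ModuleCat.ofHom φ ≫ ModuleCat.ofHom N.subtype := by
      apply ModuleCat.hom_ext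
      apply LinearMap.ext
      intro x
      rfl
    have := LC.map_smul_id (I := I) (i := n) (M := ModuleCat.of R M) g y
    rw [← this, hfac, Functor.map_comp, ModuleCat.hom_comp, LinearMap.comp_apply]
    have hz : ((localCohomology I n).map (ModuleCat.ofHom φ)).hom y = 0 :=
      Subsingleton.elim (h := h2) _ _
    rw [hz, map_zero]
  -- (4) `I + 𝔤^k` is `m`-primary
  have h4 : maximalIdeal R ≤ (I ⊔ 𝔤 ^ k).radical := by
    rw [Ideal.radical_eq_sInf]
    refine le_sInf ?_
    rintro 𝔭 ⟨hle, h𝔭⟩
    haveI := h𝔭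
    have hg𝔭 : 𝔤 ≤ 𝔭 := Ideal.IsPrime.le_of_pow_le (le_sup_right.trans hle)
    obtain ⟨q, hqSg, hq𝔭⟩ := (Ideal.IsPrime.inf_le' h𝔭).mp hg𝔭
    obtain ⟨-, -, hqgood⟩ := Finset.mem_filter.mp hqSg
    refine hqgood.trans ?_
    rw [Ideal.IsPrime.radical_le_iff h𝔭]
    exact sup_le (le_sup_left.trans hle) hq𝔭
  obtain ⟨k', hk'⟩ := Ideal.exists_pow_le_of_le_radical_of_fg h4 (IsNoetherian.noetherian _)
  exact ⟨k', hk'.trans (sup_le_sup_left h3 I)⟩

end Ann

end Groth.Agent.H6.Cof
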