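import Groth.Agent.Lib.Helper6.CofA
import Groth.Agent.Lib.Helper6.CofB
import Groth.Agent.Lib.Helper6.CanCompl3
import Groth.Agent.Lib.Helper6.ExtCmp
import Groth.Agent.S11617

/-! Cofiniteness of the top local cohomology module (Delfino–Marley). -/

universe u
set_option linter.unusedSectionVars false
open CategoryTheory CategoryTheory.Abelian IsLocalRing TensorProduct Opposite

namespace Groth.Agent.H6.Cof

variable {R : Type u} [CommRing R] [IsLocalRing R] [IsNoetherianRing R]

/-- the base change of `R/I` is killed by the extension of `I` -/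
theorem map_smul_tensor_quot (R' : Type u) [CommRing R'] [Algebra R R'] (I : Ideal R)
    (b : R') (hb : b ∈ I.map (algebraMap R R')) (z : R' ⊗[R] (R ⧸ I)) : b • z = 0 := by
  unfold Ideal.map at hb
  induction hb using Submodule.span_induction with
  | mem s hs =>
    obtain ⟨a, ha, rfl⟩ := hs
    induction z using TensorProduct.induction_on with
    | zero => exact smul_zero _
    | tmul r' x =>
      obtain ⟨x, rfl⟩ := Ideal.Quotient.mk_surjective x
      have h0 : a • (Ideal.Quotient.mk I x) = 0 := by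
        rw [Algebra.smul_def]
        have : algebraMap R (R ⧸ I) a = 0 := Ideal.Quotient.eq_zero_iff_mem.mpr ha
        rw [this, zero_mul]
      rw [TensorProduct.smul_tmul', show algebraMap R R' a • r' = a • r' from by
        rw [smul_eq_mul, Algebra.smul_def], TensorProduct.smul_tmul, h0, TensorProduct.tmul_zero]
    | add x y hx hy => rw [smul_add, hx, hy, add_zero]
  | zero => exact zero_smul _ _
  | add s t _ _ hs ht => rw [add_smul, hs, ht, add_zero]
  | smul c s _ hs => rw [smul_eq_mul, mul_smul, hs, smul_zero]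


set_option maxHeartbeats 1600000 in
/-- the annihilator statement, descended from the completion -/
theorem exists_pow_smul_ext_eq_zero (I : Ideal R) (M : Type u) [AddCommGroup M] [Module R M]
    [Module.Finite R M] (n : ℕ) (hdim : Module.supportDim R M ≤ n) (i : ℕ) :
    ∃ k : ℕ, ∀ a ∈ maximalIdeal R ^ k,
      ∀ ξ : Ext (ModuleCat.of R (R ⧸ I)) (ModuleCat.of R (LocCoh.H I n M)) i, a • ξ = 0 := by
  set R' := AdicCompletion (maximalIdeal R) R with hR'
  have hc : CanCompl.IsComplLike R R' := CanCompl.complLike_adicCompletion R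
  haveI : IsNoetherianRing R' := Groth.Agent.S0543.result R _
  haveI : IsAdicComplete (maximalIdeal R') R' := CanCompl.isAdicComplete_completion R
  haveI : Module.Flat R R' := hc.flat
  haveI : Module.FaithfullyFlat R R' := hc.faithfullyFlat
  set I' := I.map (algebraMap R R') with hI'
  have hdim' : Module.supportDim R' (R' ⊗[R] M) ≤ n := by
    rw [hc.supportDim_tensor M]
    exact hdim
  obtain ⟨k, hk⟩ := exists_pow_le_sup_annihilator I' n (R' ⊗[R] M) hdim'
  obtain ⟨e⟩ := Groth.Agent.S11617.result R R' I M n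
  obtain ⟨eX⟩ := ExtBC.nonempty_equiv (A := R) (B := R') (R ⧸ I) (LocCoh.H I n M) i
  refine ⟨k, fun a ha ξ => ?_⟩
  -- `algebraMap a ∈ m'^k`
  have ha' : algebraMap R R' a ∈ maximalIdeal R' ^ k := by
    rw [← hc.map_max, ← Ideal.map_pow]
    exact Ideal.mem_map_of_mem _ ha
  obtain ⟨b, hb, c, hcann, hbc⟩ := Submodule.mem_sup.mp (hk ha')
  have hc' : ∀ z : R' ⊗[R] LocCoh.H I n M, c • z = 0 := by
    intro z
    apply e.injective
    rw [map_smul, map_zero]
    exact Module.mem_annihilator.mp hcann _
  -- kill the base-changed `Ext`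
  have hkill : ∀ ζ : Ext (ModuleCat.of R' (R' ⊗[R] (R ⧸ I)))
      (ModuleCat.of R' (R' ⊗[R] LocCoh.H I n M)) i, algebraMap R R' a • ζ = 0 := by
    intro ζ
    rw [← hbc, add_smul, smul_ext_eq_zero_left _ _ b (fun z => map_smul_tensor_quot R' I b hb z),
      smul_ext_eq_zero_right _ _ c hc', add_zero]
  have h1 : (1 : R') ⊗ₜ[R] (a • ξ) = 0 := by
    apply eX.injective
    rw [map_zero, TensorProduct.tmul_smul, ← algebraMap_smul R' a ((1 : R') ⊗ₜ[R] ξ), map_smul]
    exact hkill _
  have hinj := Module.FaithfullyFlat.tensorProduct_mk_injective (A := R) (B := R')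
    (Ext (ModuleCat.of R (R ⧸ I)) (ModuleCat.of R (LocCoh.H I n M)) i)
  exact hinj (by rw [TensorProduct.mk_apply, h1, map_zero])

/-- **S17760** (Delfino–Marley): `Ext^i(R/I, H^n_I(M))` has finite length for `n = dim M` -/
theorem main (I : Ideal R) (M : Type u) [AddCommGroup M] [Module R M] [Module.Finite R M] (n : ℕ)
    (hdim : Module.supportDim R M ≤ n) (i : ℕ) :
    IsFiniteLength R (((Ext R (ModuleCat.{u} R) i).obj (op (ModuleCat.of R (R ⧸ I)))).obj
      (ModuleCat.of R (LocCoh.H I n M))) := by
  haveI : IsArtinian R (LocCoh.H I n M) := LC.isArtinian_H_top I n M hdim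
  haveI : IsArtinian R (ModuleCat.of R (LocCoh.H I n M)) := ‹_›
  haveI : Module.Finite R (ModuleCat.of R (R ⧸ I)) :=
    Module.Finite.of_surjective (Algebra.linearMap R (R ⧸ I)) Ideal.Quotient.mk_surjective
  haveI := isArtinian_ext (ModuleCat.of R (LocCoh.H I n M)) i (ModuleCat.of R (R ⧸ I))
  obtain ⟨k, hk⟩ := exists_pow_smul_ext_eq_zero I M n hdim i
  have hfl := isFiniteLength_of_isArtinian_of_pow k
    (Ext (ModuleCat.of R (R ⧸ I)) (ModuleCat.of R (LocCoh.H I n M)) i) hk
  exact (ExtCmp.cmp i (ModuleCat.of R (R ⧸ I)) (ModuleCat.of R (LocCoh.H I n M))).symm.isFiniteLength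
    hfl

end Groth.Agent.H6.Cof
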