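import Groth.Agent.Lib.Helper6.CofC
import Groth.Agent.Lib.Helper6.HLVEasy
import Groth.Agent.Lib.Helper6.LDLoc1

/-! Coassociated primes of the top local cohomology module (Dibaei–Yassemi). -/

universe u
set_option linter.unusedSectionVars false
open CategoryTheory CategoryTheory.Abelian IsLocalRing TensorProduct Opposite

namespace Groth.Agent.H6.Cof

section Sup

variable {S : Type u} [CommRing S] [IsNoetherianRing S]

/-- for a module killed by `J`, local cohomology with respect to `a` and `a ⊔ J` agree -/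
theorem nonempty_sup_equiv (a J : Ideal S) (G : Type u) [AddCommGroup G] [Module S G]
    (hG : ∀ s ∈ J, ∀ x : G, s • x = 0) (i : ℕ) :
    Nonempty (LocCoh.H a i G ≃ₗ[S] LocCoh.H (a ⊔ J) i G) := by
  have htors : Module.IsTorsionBySet S G (J : Set S) := fun x s => hG s.1 s.2 x
  letI : Module (S ⧸ J) G := htors.module
  haveI : IsScalarTower S (S ⧸ J) G := htors.isScalarTower
  obtain ⟨φ1, h1⟩ := Groth.Agent.S11614.result S (S ⧸ J) a G i
  obtain ⟨φ2, h2⟩ := Groth.Agent.S11614.result S (S ⧸ J) (a ⊔ J) G i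
  have e : Ideal.map (algebraMap S (S ⧸ J)) (a ⊔ J) = Ideal.map (algebraMap S (S ⧸ J)) a := by
    rw [Ideal.map_sup]
    have : Ideal.map (algebraMap S (S ⧸ J)) J = ⊥ := by
      change Ideal.map (Ideal.Quotient.mk J) J = ⊥
      exact Ideal.map_quotient_self J
    rw [this, sup_bot_eq]
  have key : ∀ K : Ideal (S ⧸ J), K = Ideal.map (algebraMap S (S ⧸ J)) a →
      ∀ φ : LocCoh.H K i G ≃+ LocCoh.H (a ⊔ J) i G,
      (∀ (r : S) (x : LocCoh.H K i G), φ (algebraMap S (S ⧸ J) r • x) = r • φ x) →
      Nonempty (LocCoh.H a i G ≃ₗ[S] LocCoh.H (a ⊔ J) i G) := by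
    intro K hK φ hφ
    subst hK
    refine ⟨AddEquiv.toLinearEquiv (φ1.symm.trans φ) (fun r y => ?_)⟩
    change φ (φ1.symm (r • y)) = r • φ (φ1.symm y)
    have : φ1.symm (r • y) = algebraMap S (S ⧸ J) r • φ1.symm y := by
      apply φ1.injective
      rw [h1, AddEquiv.apply_symm_apply, AddEquiv.apply_symm_apply]
    rw [this, hφ]
  exact key _ e φ2 h2

end Sup

section Nonvanish

variable {R : Type u} [CommRing R] [IsLocalRing R] [IsNoetherianRing R]

/-- non-vanishing of the top local cohomology of a module killed by a good prime -/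
theorem nontrivial_top_of_good (I p : Ideal R) (hrad : (I ⊔ p).radical = maximalIdeal R) (n : ℕ)
    (X : Type u) [AddCommGroup X] [Module R X] [Module.Finite R X]
    (hX : ∀ s ∈ p, ∀ x : X, s • x = 0) (hdim : Module.supportDim R X = n) :
    Nontrivial (LocCoh.H I n X) := by
  obtain ⟨e1⟩ := nonempty_sup_equiv I p X hX n
  have hrad' : (I ⊔ p).radical = (maximalIdeal R).radical := by
    rw [hrad, Ideal.IsPrime.radical (maximalIdeal.isMaximal R).isPrime]
  have e2 := ((localCohomology.isoOfSameRadical hrad' n).app (ModuleCat.of R X)).toLinearEquiv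
  haveI := LC.nontrivial_H_of_supportDim_eq n X hdim
  exact (e1.trans e2).toEquiv.nontrivial

end Nonvanish


section Right

variable {R : Type u} [CommRing R] [IsNoetherianRing R]

set_option maxHeartbeats 800000 in
/-- if `H^n_I(M/pM) = 0` and `dim M ≤ n` then `H^n_I(M) = p H^n_I(M)` -/
theorem mem_smul_top_of_vanish (I p : Ideal R) (n : ℕ) (M : Type u) [AddCommGroup M] [Module R M]
    [Module.Finite R M] (hdim : Module.supportDim R M ≤ n)
    (hvan : Subsingleton (LocCoh.H I n (M ⧸ (p • ⊤ : Submodule R M)))) (y : LocCoh.H I n M) :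
    y ∈ (p • ⊤ : Submodule R (LocCoh.H I n M)) := by
  classical
  obtain ⟨s, hs⟩ := (IsNoetherian.noetherian p : p.FG)
  set Q : Submodule R M := p • ⊤ with hQ
  let Ψ : (s → M) →ₗ[R] M := ∑ j : s, (j : R) • LinearMap.proj j
  have hΨ_apply : ∀ v : s → M, Ψ v = ∑ j : s, (j : R) • v j := by
    intro v
    simp [Ψ, LinearMap.sum_apply]
  have hmem : ∀ v, Ψ v ∈ Q := by
    intro v
    rw [hΨ_apply]
    refine Submodule.sum_mem _ (fun j _ => Submodule.smul_mem_smul ?_ trivial)
    rw [← hs]
    exact Ideal.subset_span j.2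
  have hrange : Q ≤ LinearMap.range Ψ := by
    rw [hQ, Submodule.smul_le]
    intro r hr m _
    rw [← hs] at hr
    induction hr using Submodule.span_induction with
    | mem j hj =>
      refine ⟨Pi.single (⟨j, hj⟩ : s) m, ?_⟩
      rw [hΨ_apply, Finset.sum_eq_single (⟨j, hj⟩ : s)]
      · simp
      · intro b _ hb
        rw [Pi.single_eq_of_ne hb, smul_zero]
      · intro h
        exact absurd (Finset.mem_univ _) h
    | zero => rw [zero_smul]; exact Submodule.zero_mem _
    | add a b _ _ ha hb => rw [add_smul]; exact Submodule.add_mem _ ha hb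
    | smul c a _ ha => rw [smul_eq_mul, mul_smul]; exact Submodule.smul_mem _ c ha
  let ψ : (s → M) →ₗ[R] Q := LinearMap.codRestrict Q Ψ hmem
  have hψsurj : Function.Surjective ψ := by
    rintro ⟨x, hx⟩
    obtain ⟨v, rfl⟩ := hrange hx
    exact ⟨v, rfl⟩
  -- vanishing for the kernel
  have hker : Subsingleton (LocCoh.H I (n + 1) (LinearMap.ker ψ)) := by
    apply LC.subsingleton_of_supportDim_lt
    have h1 : Module.supportDim R (LinearMap.ker ψ) ≤ Module.supportDim R M := by
      rw [Module.supportDim_eq_ringKrullDim_quotient_annihilator,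
        Module.supportDim_eq_ringKrullDim_quotient_annihilator]
      have hann : Module.annihilator R M ≤ Module.annihilator R (LinearMap.ker ψ) := by
        intro a ha
        rw [Module.mem_annihilator] at ha ⊢
        rintro ⟨v, hv⟩
        apply Subtype.ext
        funext j
        exact ha (v j)
      exact ringKrullDim_le_of_surjective (Ideal.Quotient.factor hann)
        (Ideal.Quotient.factor_surjective hann)
    refine lt_of_le_of_lt (h1.trans hdim) ?_
    exact_mod_cast Nat.lt_succ_self n
  obtain ⟨w, hS⟩ := Depth.shortExact_mk (LinearMap.ker ψ).subtype ψ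
    (Submodule.injective_subtype _) hψsurj (by
      rw [LinearMap.exact_iff]
      simp)
  have hsurj1 := LC.map_g_surjective (I := I) hS n hker
  have hsurj2 := LC.map_f_surjective (I := I) (LC.subSES_shortExact Q) n hvan
  obtain ⟨z, rfl⟩ := hsurj2 y
  obtain ⟨t, rfl⟩ := hsurj1 z
  change ((localCohomology I n).map (ModuleCat.ofHom Q.subtype)).hom
    (((localCohomology I n).map (ModuleCat.ofHom ψ)).hom t) ∈ _
  rw [← LC.map_comp_hom]
  have hfac : ModuleCat.ofHom ψ ≫ ModuleCat.ofHom Q.subtype =
      ∑ j : s, (ModuleCat.ofHom (LinearMap.proj (R := R) (φ := fun _ : s => M) j) ≫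
        ((j : R) • 𝟙 (ModuleCat.of R M))) := by
    apply ModuleCat.hom_ext
    apply LinearMap.ext
    intro v
    change Ψ v = _
    rw [hΨ_apply]
    simp [ModuleCat.hom_sum, LinearMap.sum_apply]
  rw [hfac, LC.map_sum_hom]
  refine Submodule.sum_mem _ (fun j _ => ?_)
  rw [LC.map_comp_hom, LC.map_smul_id]
  refine Submodule.smul_mem_smul ?_ trivial
  rw [← hs]
  exact Ideal.subset_span j.2

end Right

end Groth.Agent.H6.Cof
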