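import Groth.Agent.Lib.Helper6.CofD
import Groth.Agent.Lib.Helper6.LDLoc3

/-! S17759: coassociated primes of the top local cohomology module. -/

universe u
set_option linter.unusedSectionVars false
open CategoryTheory CategoryTheory.Abelian IsLocalRing TensorProduct Opposite InjHull

namespace Groth.Agent.H6.Cof

variable {R : Type u} [CommRing R] [IsLocalRing R] [IsNoetherianRing R]

/-- the quotient `M/pM` is killed by `p` -/
theorem smul_quot_eq_zero (p : Ideal R) (M : Type u) [AddCommGroup M] [Module R M]
    (s : R) (hs : s ∈ p) (x : M ⧸ (p • ⊤ : Submodule R M)) : s • x = 0 := by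
  obtain ⟨m, rfl⟩ := Submodule.Quotient.mk_surjective _ x
  rw [← Submodule.Quotient.mk_smul, Submodule.Quotient.mk_eq_zero]
  exact Submodule.smul_mem_smul hs trivial

/-- dimension of a module killed by `p` -/
theorem supportDim_le_of_smul_eq_zero (p : Ideal R) (X : Type u) [AddCommGroup X] [Module R X]
    [Module.Finite R X] (hX : ∀ s ∈ p, ∀ x : X, s • x = 0) :
    Module.supportDim R X ≤ ringKrullDim (R ⧸ p) := by
  rw [Module.supportDim_eq_ringKrullDim_quotient_annihilator]
  have hann : p ≤ Module.annihilator R X := fun s hs => Module.mem_annihilator.mpr (hX s hs)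
  exact ringKrullDim_le_of_surjective (Ideal.Quotient.factor hann)
    (Ideal.Quotient.factor_surjective hann)

variable [IsAdicComplete (maximalIdeal R) R]

set_option maxHeartbeats 1600000 in
/-- **S17759** -/
theorem main759 (E : Type u) [AddCommGroup E] [Module R E]
    (f : IsLocalRing.ResidueField R →ₗ[R] E) (hf : IsInjectiveHull f) (I : Ideal R) (M : Type u)
    [AddCommGroup M] [Module R M] [Module.Finite R M] (n : ℕ)
    (hn : Module.supportDim R M = n) :
    associatedPrimes R (LocCoh.H I n M →ₗ[R] E) =
      {p : Ideal R | p.IsPrime ∧ Module.annihilator R M ≤ p ∧ ringKrullDim (R ⧸ p) = n ∧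
        (I ⊔ p).radical = IsLocalRing.maximalIdeal R} := by
  ext p
  constructor
  · intro hp
    obtain ⟨hprime, x, hx⟩ := (isAssociatedPrime_iff).mp hp
    haveI := hprime
    have hmem : ∀ a : R, a ∈ p ↔ a • x = 0 := by
      intro a
      rw [hx, Submodule.mem_colon_singleton, Submodule.mem_bot]
    have hx0 : x ≠ 0 := by
      intro h
      apply hprime.ne_top
      rw [Ideal.eq_top_iff_one, hmem, h, smul_zero]
    -- the annihilator of `H` is contained in `p`
    have hannH : Module.annihilator R (LocCoh.H I n M) ≤ p := by
      intro c hc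
      rw [hmem]
      apply LinearMap.ext
      intro y
      rw [LinearMap.smul_apply, ← map_smul, Module.mem_annihilator.mp hc y, map_zero,
        LinearMap.zero_apply]
    have hannM : Module.annihilator R M ≤ p := by
      refine le_trans ?_ hannH
      intro a ha
      rw [Module.mem_annihilator]
      intro y
      exact LC.smul_eq_zero_of_smul_eq_zero (I := I) (i := n) (M := ModuleCat.of R M) a
        (fun m => Module.mem_annihilator.mp ha m) y
    have hI : I ≠ ⊤ := by
      intro hI
      apply hx0
      haveI : Subsingleton (LocCoh.H I n M) :=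
        Depth.subsingleton_H_of_smul_top_eq_top I M (by rw [hI]; simp) n
      apply LinearMap.ext
      intro y
      rw [Subsingleton.elim y 0, map_zero, map_zero]
    refine ⟨hprime, hannM, ?_, ?_⟩
    · -- dimension
      have hle : ringKrullDim (R ⧸ p) ≤ n := by
        rw [← hn]
        exact CM.ringKrullDim_quotient_le_supportDim M p hannM
      rcases lt_or_eq_of_le hle with hlt | heq
      · exfalso
        apply hx0
        have hvan : Subsingleton (LocCoh.H I n (M ⧸ (p • ⊤ : Submodule R M))) := by
          apply LC.subsingleton_of_supportDim_lt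
          exact lt_of_le_of_lt (supportDim_le_of_smul_eq_zero p _ (smul_quot_eq_zero p M)) hlt
        apply LinearMap.ext
        intro y
        have hy := mem_smul_top_of_vanish I p n M (le_of_eq hn) hvan y
        rw [LinearMap.zero_apply]
        refine Submodule.smul_induction_on hy (fun a ha y' _ => ?_) (fun a b ha hb => ?_)
        · have := (hmem a).mp ha
          rw [map_smul, ← LinearMap.smul_apply, this, LinearMap.zero_apply]
        · rw [map_add, ha, hb, add_zero]
      · exact heq
    · -- radical
      obtain ⟨k, hk⟩ := exists_pow_le_sup_annihilator I n M (le_of_eq hn)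
      apply le_antisymm
      · rw [Ideal.IsPrime.radical_le_iff (maximalIdeal.isMaximal R).isPrime]
        exact sup_le (IsLocalRing.le_maximalIdeal hI) (IsLocalRing.le_maximalIdeal hprime.ne_top)
      · intro a ha
        refine ⟨k, ?_⟩
        exact (sup_le_sup_left hannH I) (hk (Ideal.pow_mem_pow ha k))
  · rintro ⟨hprime, hannM, hdim, hrad⟩
    haveI := hprime
    set Q : Submodule R M := p • ⊤ with hQ
    have hkill := smul_quot_eq_zero p M
    -- `M/pM` has dimension `n`
    have hdimQ : Module.supportDim R (M ⧸ Q) = n := by
      apply le_antisymm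
      · rw [← hdim]
        exact supportDim_le_of_smul_eq_zero p _ hkill
      · rw [← hdim]
        apply CM.ringKrullDim_quotient_le_supportDim (M ⧸ Q) p
        rw [← Module.mem_support_iff_of_finite (p := ⟨p, hprime⟩), Module.support_quotient]
        refine ⟨Module.mem_support_iff_of_finite.mpr hannM, ?_⟩
        rw [PrimeSpectrum.mem_zeroLocus]
    haveI hnt : Nontrivial (LocCoh.H I n (M ⧸ Q)) :=
      nontrivial_top_of_good I p hrad n (M ⧸ Q) hkill hdimQ
    -- a nonzero functional on `H^n_I(M/pM)`
    have hdual : ¬ Subsingleton (LocCoh.H I n (M ⧸ Q) →ₗ[R] E) := by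
      rw [LDL.subsingleton_dual_iff hf]
      exact not_subsingleton _
    rw [not_subsingleton_iff_nontrivial] at hdual
    obtain ⟨φ', hφ'⟩ := exists_ne (0 : LocCoh.H I n (M ⧸ Q) →ₗ[R] E)
    -- surjectivity of `H^n_I(M) → H^n_I(M/pM)`
    have hvanQ : Subsingleton (LocCoh.H I (n + 1) Q) := by
      apply LC.subsingleton_of_supportDim_lt
      refine lt_of_le_of_lt ((Module.supportDim_le_of_injective Q.subtype
        Q.injective_subtype).trans (le_of_eq hn)) ?_
      exact_mod_cast Nat.lt_succ_self n
    have hsurj := LC.map_g_surjective (I := I) (LC.subSES_shortExact Q) n hvanQ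
    let π : LocCoh.H I n M →ₗ[R] LocCoh.H I n (M ⧸ Q) :=
      ((localCohomology I n).map (ModuleCat.ofHom Q.mkQ)).hom
    have hπ : Function.Surjective π := hsurj
    refine (isAssociatedPrime_iff).mpr ⟨hprime, φ'.comp π, ?_⟩
    ext a
    rw [Submodule.mem_colon_singleton, Submodule.mem_bot]
    constructor
    · intro ha
      apply LinearMap.ext
      intro y
      rw [LinearMap.smul_apply, LinearMap.comp_apply, ← map_smul, ← map_smul, LinearMap.zero_apply]
      have : a • π y = 0 :=
        LC.smul_eq_zero_of_smul_eq_zero (I := I) (i := n) (M := ModuleCat.of R (M ⧸ Q)) a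
          (fun m => hkill a ha m) (π y)
      rw [map_smul, this, map_zero]
    · intro ha
      by_contra hap
      apply hφ'
      -- multiplication by `a` is surjective on `H^n_I(M/pM)`
      have hlt : Module.supportDim R (QuotSMulTop a (M ⧸ Q)) < (n : WithBot ℕ∞) := by
        by_cases hsub : Subsingleton (QuotSMulTop a (M ⧸ Q))
        · haveI := hsub
          rw [Module.supportDim_eq_bot_of_subsingleton]
          exact WithBot.bot_lt_coe _
        · rw [not_subsingleton_iff_nontrivial] at hsub
          obtain ⟨d, hd⟩ := LC.exists_supportDim_eq (R := R) (QuotSMulTop a (M ⧸ Q))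
          obtain ⟨q, hq, hqann, hqdim⟩ := LC.exists_prime_ringKrullDim_eq _ d hd
          haveI := hq
          have hpq : p ≤ q := by
            refine le_trans ?_ hqann
            intro s hs
            rw [Module.mem_annihilator]
            intro z
            obtain ⟨z, rfl⟩ := Submodule.Quotient.mk_surjective _ z
            rw [← Submodule.Quotient.mk_smul, hkill s hs z, Submodule.Quotient.mk_zero]
          have haq : a ∈ q := by
            apply hqann
            rw [Module.mem_annihilator]
            intro z
            obtain ⟨z, rfl⟩ := Submodule.Quotient.mk_surjective _ z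
            rw [← Submodule.Quotient.mk_smul, Submodule.Quotient.mk_eq_zero]
            exact Submodule.smul_mem_pointwise_smul z a ⊤ trivial
          have hlt : p < q := lt_of_le_of_ne hpq (fun h => hap (h ▸ haq))
          have h3 := Dim.ringKrullDim_quotient_add_one_le hlt
          rw [hqdim, hdim] at h3
          rw [hd]
          have h4 : ((d + 1 : ℕ) : WithBot ℕ∞) ≤ (n : WithBot ℕ∞) := by exact_mod_cast h3
          have h5 : d + 1 ≤ n := by exact_mod_cast h4
          exact_mod_cast h5
      apply LinearMap.ext
      intro z
      obtain ⟨z', rfl⟩ := LC.smul_surjective_of_supportDim_lt I (M ⧸ Q) n (le_of_eq hdimQ) a hlt z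
      obtain ⟨y, rfl⟩ := hπ z'
      have := LinearMap.congr_fun ha y
      rw [LinearMap.smul_apply, LinearMap.comp_apply, ← map_smul, LinearMap.zero_apply] at this
      rw [LinearMap.zero_apply]
      exact this

end Groth.Agent.H6.Cof
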