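import Groth.Agent.Lib.Helper6.CofE
import Groth.Agent.Lib.Helper6.LDLoc7
import Groth.Agent.Lib.Helper6.MatlisComplete
import Groth.Agent.Lib.Helper6.LCArtinian

/-! S2936: Matlis duals of the local cohomology modules over a complete local ring. -/

universe u
set_option linter.unusedSectionVars false
open CategoryTheory CategoryTheory.Abelian IsLocalRing TensorProduct Opposite InjHull

namespace Groth.Agent.H6.Cof

section Gor

variable {S : Type u} [CommRing S] [hG : LocCoh.IsGorensteinLocalRing S]
  (N : Type u) [AddCommGroup N] [Module S N] [Module.Finite S N]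

/-- over a Gorenstein local ring, primes containing the annihilator of `H^i_m(N)` have
dimension at most `i` -/
theorem dim_le_of_annihilator_le (i : ℕ) (Q : Ideal S) [Q.IsPrime]
    (hQ : Module.annihilator S (LocCoh.H (maximalIdeal S) i N) ≤ Q) :
    ringKrullDim (S ⧸ Q) ≤ i := by
  obtain ⟨d, hd⟩ := Bass.exists_ringKrullDim_eq (A := S)
  by_cases hi : i ≤ d
  · obtain ⟨k, hk⟩ : ∃ k, k + i = d := ⟨d - i, by omega⟩
    obtain ⟨E, _, _, f, hf⟩ := IH.exists_injectiveHull (R := S) (IsLocalRing.ResidueField S)
    obtain ⟨e0⟩ := LD.local_duality_gorenstein d hd E f hf N k i hk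
    rw [e0.annihilator_eq, ← IH.annihilator_dual_eq hf] at hQ
    have hsupp : (⟨Q, ‹_›⟩ : PrimeSpectrum S) ∈
        Module.support S (Ext (ModuleCat.of S N) (ModuleCat.of S S) k) :=
      Module.mem_support_iff_of_finite.mpr hQ
    have hnt : Nontrivial (LocalizedModule Q.primeCompl
        (Ext (ModuleCat.of S N) (ModuleCat.of S S) k)) := hsupp
    have hnp : ¬ LDL.Pred (A := S) N i Q := by
      intro hp
      exact not_subsingleton _ ((LDL.core_iff N d hd i k hk Q).mpr hp)
    by_contra hcon
    apply hnp
    intro e j he hj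
    exfalso
    apply hcon
    rw [he]
    have : e ≤ i := by omega
    exact_mod_cast this
  · exfalso
    rw [not_le] at hi
    have hvan : Subsingleton (LocCoh.H (maximalIdeal S) i N) := by
      apply LC.subsingleton_of_supportDim_lt
      refine lt_of_le_of_lt (Module.supportDim_le_ringKrullDim _ _) ?_
      rw [hd]
      exact_mod_cast hi
    have : Module.annihilator S (LocCoh.H (maximalIdeal S) i N) = ⊤ := by
      rw [Module.annihilator_eq_top_iff]
      exact hvan
    rw [this] at hQ
    exact (‹Q.IsPrime›).ne_top (top_le_iff.mp hQ)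

end Gor

section Quot

variable {S A : Type u} [CommRing S] [CommRing A] [Algebra S A]
  [hG : LocCoh.IsGorensteinLocalRing S] [IsLocalRing A] [IsNoetherianRing A]
  (hπ : Function.Surjective (algebraMap S A))
  (M : Type u) [AddCommGroup M] [Module A M] [Module S M] [IsScalarTower S A M]
  [Module.Finite A M]

include hπ in
/-- the same over a quotient of a Gorenstein local ring -/
theorem dim_le_of_annihilator_le_A (i : ℕ) (p : Ideal A) [p.IsPrime]
    (hp : Module.annihilator A (LocCoh.H (maximalIdeal A) i M) ≤ p) :
    ringKrullDim (A ⧸ p) ≤ i := by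
  haveI : Module.Finite S A := Module.Finite.of_surjective (Algebra.linearMap S A) hπ
  haveI : Module.Finite S M := Module.Finite.trans A M
  obtain ⟨φ, hφ⟩ := LDL.exists_semilinear hπ M i
  have hann : Module.annihilator S (LocCoh.H (maximalIdeal S) i M) =
      (Module.annihilator A (LocCoh.H (maximalIdeal A) i M)).comap (algebraMap S A) := by
    ext s
    rw [Ideal.mem_comap, Module.mem_annihilator, Module.mem_annihilator]
    constructor
    · intro h x
      have := h (φ x)
      rw [← hφ] at this
      exact φ.injective (this.trans (map_zero φ).symm)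
    · intro h y
      obtain ⟨x, rfl⟩ := φ.surjective y
      rw [← hφ, h x, map_zero]
  rw [← LDL.ringKrullDim_quotient_under hπ p]
  apply dim_le_of_annihilator_le M i (p.under S)
  rw [hann, Ideal.under_def]
  exact Ideal.comap_mono hp

end Quot


section Main

variable {A : Type u} [CommRing A] [IsLocalRing A] [IsNoetherianRing A]
  [IsAdicComplete (maximalIdeal A) A]

set_option maxHeartbeats 1600000 in
/-- **S2936** -/
theorem main2936 (E : Type u) [AddCommGroup E] [Module A E]
    (f : IsLocalRing.ResidueField A →ₗ[A] E) (hf : IsInjectiveHull f) (M : Type u)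
    [AddCommGroup M] [Module A M] [Module.Finite A M] [Nontrivial M] (n : ℕ)
    (hn : Module.supportDim A M = n) :
    (∀ i : ℕ, Module.Finite A (LocCoh.H (maximalIdeal A) i M →ₗ[A] E) ∧
      Module.supportDim A (LocCoh.H (maximalIdeal A) i M →ₗ[A] E) ≤ (i : WithBot ℕ∞)) ∧
    Module.supportDim A (LocCoh.H (maximalIdeal A) n M →ₗ[A] E) = n ∧
    associatedPrimes A (LocCoh.H (maximalIdeal A) n M →ₗ[A] E) =
      {p | p ∈ associatedPrimes A M ∧ ringKrullDim (A ⧸ p) = n} := by
  obtain ⟨S, _, _, g, hg⟩ := CanCompl.exists_gorenstein_surj A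
  letI : Algebra S A := g.toAlgebra
  have hπ : Function.Surjective (algebraMap S A) := hg
  letI : Module S M := Module.compHom M (algebraMap S A)
  haveI : IsScalarTower S A M := ⟨fun s a x => by
    change (s • a) • x = algebraMap S A s • (a • x)
    rw [Algebra.smul_def, mul_smul]⟩
  have hfin : ∀ i : ℕ, Module.Finite A (LocCoh.H (maximalIdeal A) i M →ₗ[A] E) := by
    intro i
    haveI := LC.isArtinian_H (maximalIdeal A) i M
    exact IH.finite_dual_of_isArtinian hf _
  have hdimle : ∀ i : ℕ,
      Module.supportDim A (LocCoh.H (maximalIdeal A) i M →ₗ[A] E) ≤ (i : WithBot ℕ∞) := by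
    intro i
    haveI := hfin i
    by_cases hsub : Subsingleton (LocCoh.H (maximalIdeal A) i M →ₗ[A] E)
    · rw [Module.supportDim_eq_bot_of_subsingleton]
      exact bot_le
    · rw [not_subsingleton_iff_nontrivial] at hsub
      obtain ⟨d, hd⟩ := LC.exists_supportDim_eq (R := A)
        (LocCoh.H (maximalIdeal A) i M →ₗ[A] E)
      obtain ⟨p, hp, hpann, hpdim⟩ := LC.exists_prime_ringKrullDim_eq _ d hd
      haveI := hp
      rw [hd, ← hpdim]
      apply dim_le_of_annihilator_le_A hπ M i p
      rw [IH.annihilator_dual_eq hf]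
      exact hpann
  have hAss := main759 E f hf (maximalIdeal A) M n hn
  refine ⟨fun i => ⟨hfin i, hdimle i⟩, ?_, ?_⟩
  · apply le_antisymm (hdimle n)
    obtain ⟨p, hp, hpann, hpdim⟩ := LC.exists_prime_ringKrullDim_eq M n hn
    haveI := hp
    haveI := hfin n
    have hpA : p ∈ associatedPrimes A (LocCoh.H (maximalIdeal A) n M →ₗ[A] E) := by
      rw [hAss]
      refine ⟨hp, hpann, hpdim, ?_⟩
      rw [sup_eq_left.mpr (IsLocalRing.le_maximalIdeal hp.ne_top)]
      exact Ideal.IsPrime.radical (maximalIdeal.isMaximal A).isPrime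
    rw [← hpdim]
    exact CM.ringKrullDim_quotient_le_supportDim _ p
      (CM.annihilator_le_of_mem_associatedPrimes hpA)
  · rw [hAss]
    ext p
    constructor
    · rintro ⟨hprime, hann, hdim, -⟩
      refine ⟨?_, hdim⟩
      apply Module.associatedPrimes.minimalPrimes_annihilator_subset_associatedPrimes A M
      refine ⟨⟨hprime, hann⟩, ?_⟩
      rintro q ⟨hq, hqann⟩ hqp
      by_contra hne
      have hlt : q < p := lt_of_le_not_ge hqp hne
      haveI := hq
      haveI := hprime
      have h3 := Dim.ringKrullDim_quotient_add_one_le hlt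
      have h4 := CM.ringKrullDim_quotient_le_supportDim M q hqann
      rw [hn] at h4
      rw [hdim] at h3
      have h5 : ((n + 1 : ℕ) : WithBot ℕ∞) ≤ (n : WithBot ℕ∞) := by
        have := h3.trans h4
        exact_mod_cast this
      have h6 : n + 1 ≤ n := by exact_mod_cast h5
      omega
    · rintro ⟨hpass, hdim⟩
      have hprime : p.IsPrime := hpass.isPrime
      refine ⟨hprime, CM.annihilator_le_of_mem_associatedPrimes hpass, hdim, ?_⟩
      rw [sup_eq_left.mpr (IsLocalRing.le_maximalIdeal hprime.ne_top)]
      exact Ideal.IsPrime.radical (maximalIdeal.isMaximal A).isPrime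

end Main

end Groth.Agent.H6.Cof
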