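import Mathlib

/-! # Resolving complexes with cohomology in a subclass: the inductive step -/

namespace Groth.Agent.H6.DCohEq

open CategoryTheory Limits

universe v u

variable {𝒜 : Type u} [Category.{v} 𝒜] [Abelian 𝒜]

/-- the axioms on a class `E` of objects (closed under isomorphisms, subobjects, finite sums,
containing zero objects, and such that epimorphisms onto members of `E` can be refined by
members of `E`). -/
structure Adm (E : ObjectProperty 𝒜) : Prop where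
  iso : ∀ {X Y : 𝒜}, (X ≅ Y) → E X → E Y
  sub : ∀ {X Y : 𝒜} (i : X ⟶ Y) [Mono i], E Y → E X
  sum : ∀ {X Y : 𝒜}, E X → E Y → E (X ⊞ Y)
  zero : ∀ {Z : 𝒜}, IsZero Z → E Z
  lift : ∀ {W N : 𝒜} (π : W ⟶ N) [Epi π], E N → ∃ (B : 𝒜) (i : B ⟶ W), E B ∧ Epi (i ≫ π)

theorem exists_step {E : ObjectProperty 𝒜} (hE : Adm E)
    (S : ShortComplex 𝒜) (hS : E S.homology)
    {L Z : 𝒜} (hL : E L) (α : L ⟶ S.X₃) (z : Z ⟶ L) [Mono z] :
    ∃ (L' : 𝒜) (_ : E L') (d' : L' ⟶ Z) (α' : L' ⟶ S.X₂),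
      (d' ≫ z) ≫ α = α' ≫ S.g ∧
      (∀ ⦃A : 𝒜⦄ (y : A ⟶ Z) (k : A ⟶ S.X₂), y ≫ z ≫ α = k ≫ S.g →
        ∃ (A' : 𝒜) (π : A' ⟶ A) (_ : Epi π) (y' : A' ⟶ L'), π ≫ y = y' ≫ d') ∧
      (∀ ⦃A : 𝒜⦄ (x : A ⟶ S.X₂), x ≫ S.g = 0 →
        ∃ (A' : 𝒜) (π : A' ⟶ A) (_ : Epi π) (y : A' ⟶ L') (_ : y ≫ d' = 0) (k : A' ⟶ S.X₁),
          π ≫ x = y ≫ α' + k ≫ S.f) := by
  -- the pullback
  let p₁ : pullback (z ≫ α) S.g ⟶ Z := pullback.fst _ _
  let p₂ : pullback (z ≫ α) S.g ⟶ S.X₂ := pullback.snd _ _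
  have hp : p₁ ≫ z ≫ α = p₂ ≫ S.g := pullback.condition
  have hN : E (Abelian.image p₁) := hE.sub (Abelian.image.ι p₁ ≫ z) hL
  obtain ⟨B₁, i₁, hB₁, hi₁⟩ := hE.lift (Abelian.factorThruImage p₁) hN
  obtain ⟨B₂, i₂, hB₂, hi₂⟩ := hE.lift S.homologyπ hS
  refine ⟨B₁ ⊞ B₂, hE.sum hB₁ hB₂, biprod.desc (i₁ ≫ p₁) 0,
    biprod.desc (i₁ ≫ p₂) (i₂ ≫ S.iCycles), ?_, ?_, ?_⟩
  · apply biprod.hom_ext'
    · simp only [biprod.inl_desc_assoc, Category.assoc, biprod.inl_desc]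
      rw [hp]
    · simp
  · intro A y k hyk
    let w : A ⟶ pullback (z ≫ α) S.g := pullback.lift y k hyk
    obtain ⟨A', π, hπ, b, hb⟩ := surjective_up_to_refinements_of_epi
      (i₁ ≫ Abelian.factorThruImage p₁) (w ≫ Abelian.factorThruImage p₁)
    refine ⟨A', π, hπ, b ≫ biprod.inl, ?_⟩
    have h1 := congrArg (fun t => t ≫ Abelian.image.ι p₁) hb
    simp only [Category.assoc, Abelian.image.fac] at h1
    have hw : w ≫ p₁ = y := pullback.lift_fst _ _ _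
    rw [hw] at h1
    rw [h1, Category.assoc, biprod.inl_desc]
  · intro A x hx
    obtain ⟨A₁, π₁, hπ₁, b, hb⟩ := surjective_up_to_refinements_of_epi
      (i₂ ≫ S.homologyπ) (S.liftCycles x hx ≫ S.homologyπ)
    have h0 : (π₁ ≫ S.liftCycles x hx - b ≫ i₂) ≫ S.homologyπ = 0 := by
      rw [Preadditive.sub_comp, Category.assoc, hb, Category.assoc, sub_self]
    obtain ⟨A₂, π₂, hπ₂, k, hk⟩ :=
      (S.comp_homologyπ_eq_zero_iff_up_to_refinements _).1 h0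
    refine ⟨A₂, π₂ ≫ π₁, epi_comp _ _, π₂ ≫ b ≫ biprod.inr, ?_, k, ?_⟩
    · simp
    · have h1 := congrArg (fun t => t ≫ S.iCycles) hk
      simp only [Category.assoc, Preadditive.sub_comp, Preadditive.comp_sub,
        ShortComplex.liftCycles_i, ShortComplex.toCycles_i] at h1
      rw [sub_eq_iff_eq_add] at h1
      simp only [Category.assoc, biprod.inr_desc]
      rw [h1, add_comm]

end Groth.Agent.H6.DCohEq
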