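import Mathlib
import Groth.Agent.Lib.Helper6.DCohEq1

/-! # Resolving `ℕ`-indexed chain complexes with homology in a subclass -/

namespace Groth.Agent.H6.DCohEq

open CategoryTheory Limits HomologicalComplex ZeroObject

universe v u

variable {𝒜 : Type u} [Category.{v} 𝒜] [Abelian 𝒜] {E : ObjectProperty 𝒜}

/-- the data produced by `exists_step`. -/
structure Step (E : ObjectProperty 𝒜) (S : ShortComplex 𝒜) {L Z : 𝒜} (α : L ⟶ S.X₃)
    (z : Z ⟶ L) where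
  L' : 𝒜
  hL' : E L'
  d' : L' ⟶ Z
  α' : L' ⟶ S.X₂
  comm : (d' ≫ z) ≫ α = α' ≫ S.g
  mono_part : ∀ ⦃A : 𝒜⦄ (y : A ⟶ Z) (k : A ⟶ S.X₂), y ≫ z ≫ α = k ≫ S.g →
    ∃ (A' : 𝒜) (π : A' ⟶ A) (_ : Epi π) (y' : A' ⟶ L'), π ≫ y = y' ≫ d'
  epi_part : ∀ ⦃A : 𝒜⦄ (x : A ⟶ S.X₂), x ≫ S.g = 0 →
    ∃ (A' : 𝒜) (π : A' ⟶ A) (_ : Epi π) (y : A' ⟶ L') (_ : y ≫ d' = 0) (k : A' ⟶ S.X₁),
      π ≫ x = y ≫ α' + k ≫ S.f

lemma nonempty_step (hE : Adm E) (S : ShortComplex 𝒜) (hS : E S.homology) {L Z : 𝒜}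
    (hL : E L) (α : L ⟶ S.X₃) (z : Z ⟶ L) [Mono z] : Nonempty (Step E S α z) := by
  obtain ⟨L', hL', d', α', h1, h2, h3⟩ := exists_step hE S hS hL α z
  exact ⟨⟨L', hL', d', α', h1, h2, h3⟩⟩

/-- the state of the recursion. -/
structure St (E : ObjectProperty 𝒜) (T : 𝒜) where
  L : 𝒜
  hL : E L
  α : L ⟶ T
  Z : 𝒜
  z : Z ⟶ L
  hz : Mono z

namespace St

variable {S : ShortComplex 𝒜} (s : St E S.X₃) (t : Step E S s.α s.z)

/-- the next state. -/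
noncomputable def next : St E S.X₂ where
  L := t.L'
  hL := t.hL'
  α := t.α'
  Z := kernel t.d'
  z := kernel.ι t.d'
  hz := inferInstance

/-- the differential. -/
noncomputable def dOf : (s.next t).L ⟶ s.L := t.d' ≫ s.z

lemma z_dOf : (s.next t).z ≫ s.dOf t = 0 := by
  show kernel.ι t.d' ≫ t.d' ≫ s.z = 0
  rw [kernel.condition_assoc, zero_comp]

lemma dOf_α : s.dOf t ≫ s.α = (s.next t).α ≫ S.g := t.comm

lemma exists_fac {A : 𝒜} (x : A ⟶ (s.next t).L) (hx : x ≫ s.dOf t = 0) :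
    ∃ y : A ⟶ (s.next t).Z, y ≫ (s.next t).z = x := by
  haveI := s.hz
  have h : x ≫ t.d' = 0 := by
    rw [← cancel_mono s.z, zero_comp, Category.assoc]
    exact hx
  exact ⟨kernel.lift _ x h, kernel.lift_ι _ _ _⟩

lemma mono_aux {A : 𝒜} (x₂ : A ⟶ s.L) (y : A ⟶ s.Z) (hy : y ≫ s.z = x₂)
    (y₁ : A ⟶ S.X₂) (h : x₂ ≫ s.α = y₁ ≫ S.g) :
    ∃ (A' : 𝒜) (π : A' ⟶ A) (_ : Epi π) (x₁ : A' ⟶ (s.next t).L),
      π ≫ x₂ = x₁ ≫ s.dOf t := by
  obtain ⟨A', π, hπ, y', hy'⟩ := t.mono_part y y₁ (by rw [← Category.assoc, hy]; exact h)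
  refine ⟨A', π, hπ, y', ?_⟩
  show π ≫ x₂ = y' ≫ t.d' ≫ s.z
  rw [← hy, ← Category.assoc, hy', Category.assoc]

lemma epi_aux {A : 𝒜} (x : A ⟶ S.X₂) (hx : x ≫ S.g = 0) :
    ∃ (A' : 𝒜) (π : A' ⟶ A) (_ : Epi π) (y : A' ⟶ (s.next t).L) (_ : y ≫ s.dOf t = 0)
      (k : A' ⟶ S.X₁), π ≫ x = y ≫ (s.next t).α + k ≫ S.f := by
  obtain ⟨A', π, hπ, y, hy, k, hk⟩ := t.epi_part x hx
  refine ⟨A', π, hπ, y, ?_, k, hk⟩
  show y ≫ t.d' ≫ s.z = 0
  rw [← Category.assoc, hy, zero_comp]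

end St

variable (hE : Adm E) (K : ChainComplex 𝒜 ℕ) (hK : ∀ n, E (K.homology n))

include hE hK in
lemma hsc (n : ℕ) : E (K.sc' (n + 2) (n + 1) n).homology :=
  hE.iso (ShortComplex.homologyMapIso (K.isoSc' (n + 2) (n + 1) n (by simp) (by simp))) (hK (n + 1))

include hE hK in
lemma hsc0 : E (K.sc' 1 0 0).homology :=
  hE.iso (ShortComplex.homologyMapIso (K.isoSc' 1 0 0 (by simp) (by simp))) (hK 0)

/-- the initial (fictitious) state. -/
noncomputable def init : St E (K.X 0) where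
  L := 0
  hL := hE.zero (isZero_zero _)
  α := 0
  Z := 0
  z := 0
  hz := ⟨fun _ _ _ => (isZero_zero _).eq_of_tgt _ _⟩

/-- the initial step. -/
noncomputable def t0 : Step E (K.sc' 1 0 0) (init hE K).α (init hE K).z :=
  haveI := (init hE K).hz
  (nonempty_step hE (K.sc' 1 0 0) (hsc0 hE K hK) (init hE K).hL (init hE K).α (init hE K).z).some

/-- the state in degree `0`. -/
noncomputable def st0 : St E (K.X 0) :=
  St.next (S := K.sc' 1 0 0) (init hE K) (t0 hE K hK)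

/-- the inductive step. -/
noncomputable def stepOf (n : ℕ) (s : St E (K.X n)) :
    Step E (K.sc' (n + 2) (n + 1) n) s.α s.z :=
  haveI := s.hz
  (nonempty_step hE (K.sc' (n + 2) (n + 1) n) (hsc hE K hK n) s.hL s.α s.z).some

/-- the sequence of states. -/
noncomputable def st (n : ℕ) : St E (K.X n) :=
  Nat.rec (motive := fun n => St E (K.X n)) (st0 hE K hK)
    (fun n s => St.next (S := K.sc' (n + 2) (n + 1) n) s (stepOf hE K hK n s)) n

/-- the sequence of steps. -/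
noncomputable def tn (n : ℕ) :
    Step E (K.sc' (n + 2) (n + 1) n) (st hE K hK n).α (st hE K hK n).z :=
  stepOf hE K hK n (st hE K hK n)

lemma st_succ (n : ℕ) : st hE K hK (n + 1) =
    St.next (S := K.sc' (n + 2) (n + 1) n) (st hE K hK n) (tn hE K hK n) := rfl

lemma st_zero : st hE K hK 0 = st0 hE K hK := rfl

/-- the objects of the resolution. -/
noncomputable def RX (n : ℕ) : 𝒜 := (st hE K hK n).L

lemma RX_mem (n : ℕ) : E (RX hE K hK n) := (st hE K hK n).hL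

/-- the differential of the resolution. -/
noncomputable def Rd (n : ℕ) : RX hE K hK (n + 1) ⟶ RX hE K hK n :=
  St.dOf (S := K.sc' (n + 2) (n + 1) n) (st hE K hK n) (tn hE K hK n)

lemma Rd_comp_Rd (n : ℕ) : Rd hE K hK (n + 1) ≫ Rd hE K hK n = 0 := by
  have h : (st hE K hK (n + 1)).z ≫ Rd hE K hK n = 0 :=
    St.z_dOf (S := K.sc' (n + 2) (n + 1) n) (st hE K hK n) (tn hE K hK n)
  exact (Category.assoc (tn hE K hK (n + 1)).d' (st hE K hK (n + 1)).z (Rd hE K hK n)).trans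
    ((congrArg (fun x => (tn hE K hK (n + 1)).d' ≫ x) h).trans comp_zero)

/-- the resolution. -/
noncomputable def R : ChainComplex 𝒜 ℕ :=
  ChainComplex.of (RX hE K hK) (Rd hE K hK) (Rd_comp_Rd hE K hK)

lemma R_d (n : ℕ) : (R hE K hK).d (n + 1) n = Rd hE K hK n := ChainComplex.of_d _ _ _

lemma R_mem (n : ℕ) : E ((R hE K hK).X n) := RX_mem hE K hK n

lemma Rd_α (n : ℕ) : Rd hE K hK n ≫ (st hE K hK n).α =
    (st hE K hK (n + 1)).α ≫ K.d (n + 1) n :=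
  St.dOf_α (S := K.sc' (n + 2) (n + 1) n) (st hE K hK n) (tn hE K hK n)

/-- the comparison map. -/
noncomputable def ρ : R hE K hK ⟶ K where
  f n := (st hE K hK n).α
  comm' i j hij := by
    obtain rfl : j + 1 = i := hij
    rw [R_d]
    exact (Rd_α hE K hK j).symm

lemma mono_homologyMap_succ (n : ℕ) : Mono (homologyMap (ρ hE K hK) (n + 1)) := by
  rw [mono_homologyMap_iff_up_to_refinements _ (n + 2) (n + 1) n (by simp) (by simp)]
  intro A x₂ hx₂ y₁ hy₁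
  rw [R_d] at hx₂
  obtain ⟨y, hy⟩ := St.exists_fac (S := K.sc' (n + 2) (n + 1) n) (st hE K hK n) (tn hE K hK n)
    x₂ hx₂
  obtain ⟨A', π, hπ, x₁, hx₁⟩ := St.mono_aux (S := K.sc' (n + 3) (n + 2) (n + 1))
    (st hE K hK (n + 1)) (tn hE K hK (n + 1)) x₂ y hy y₁ hy₁
  refine ⟨A', π, hπ, x₁, ?_⟩
  rw [R_d]
  exact hx₁

lemma epi_homologyMap_succ (n : ℕ) : Epi (homologyMap (ρ hE K hK) (n + 1)) := by
  rw [epi_homologyMap_iff_up_to_refinements _ (n + 2) (n + 1) n (by simp) (by simp)]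
  intro A y₂ hy₂
  obtain ⟨A', π, hπ, y, hy, k, hk⟩ := St.epi_aux (S := K.sc' (n + 2) (n + 1) n)
    (st hE K hK n) (tn hE K hK n) y₂ hy₂
  refine ⟨A', π, hπ, y, ?_, k, hk⟩
  rw [R_d]
  exact hy

lemma mono_homologyMap_zero : Mono (homologyMap (ρ hE K hK) 0) := by
  rw [mono_homologyMap_iff_up_to_refinements _ 1 0 0 (by simp) (by simp)]
  intro A x₂ hx₂ y₁ hy₁
  have h0 : x₂ ≫ (t0 hE K hK).d' = 0 := (isZero_zero 𝒜).eq_of_tgt _ _
  obtain ⟨y, hy⟩ : ∃ y : A ⟶ (st hE K hK 0).Z, y ≫ (st hE K hK 0).z = x₂ :=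
    ⟨kernel.lift _ x₂ h0, kernel.lift_ι _ _ _⟩
  obtain ⟨A', π, hπ, x₁, hx₁⟩ := St.mono_aux (S := K.sc' 2 1 0)
    (st hE K hK 0) (tn hE K hK 0) x₂ y hy y₁ hy₁
  refine ⟨A', π, hπ, x₁, ?_⟩
  rw [R_d]
  exact hx₁

lemma epi_homologyMap_zero : Epi (homologyMap (ρ hE K hK) 0) := by
  rw [epi_homologyMap_iff_up_to_refinements _ 1 0 0 (by simp) (by simp)]
  intro A y₂ hy₂
  obtain ⟨A', π, hπ, y, hy, k, hk⟩ := St.epi_aux (S := K.sc' 1 0 0)
    (init hE K) (t0 hE K hK) y₂ hy₂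
  refine ⟨A', π, hπ, y, ?_, k, hk⟩
  rw [(R hE K hK).shape 0 0 (by simp), comp_zero]

instance quasiIso_ρ : QuasiIso (ρ hE K hK) := by
  rw [quasiIso_iff]
  intro n
  rw [quasiIsoAt_iff_isIso_homologyMap]
  cases n with
  | zero =>
    haveI := mono_homologyMap_zero hE K hK
    haveI := epi_homologyMap_zero hE K hK
    exact isIso_of_mono_of_epi _
  | succ n =>
    haveI := mono_homologyMap_succ hE K hK n
    haveI := epi_homologyMap_succ hE K hK n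
    exact isIso_of_mono_of_epi _

include hE hK in
theorem exists_resolution_nat :
    ∃ (R : ChainComplex 𝒜 ℕ) (ρ : R ⟶ K), (∀ n, E (R.X n)) ∧ QuasiIso ρ :=
  ⟨R hE K hK, ρ hE K hK, R_mem hE K hK, inferInstance⟩

end Groth.Agent.H6.DCohEq
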