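import Mathlib
import Groth.Agent.Lib.Helper2.Resol3

/-!
# Left resolutions of bounded above complexes by a class of objects (dual of `H2.Resol`)
-/

namespace Groth.Agent.H6.LRes

open CategoryTheory CategoryTheory.Limits HomologicalComplex

universe v u

variable {A : Type u} [Category.{v} A] [Abelian A]

section NatLevel

variable (P : ObjectProperty A) (hP : ∀ X : A, ∃ (Y : A) (π : Y ⟶ X), P Y ∧ Epi π)

/-- the dual property -/
def Pop : Aᵒᵖ → Prop := fun X => P X.unop

include hP in
lemma hPop : ∀ X : Aᵒᵖ, ∃ (Y : Aᵒᵖ) (ι : X ⟶ Y), Pop P Y ∧ Mono ι := by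
  intro X
  obtain ⟨Y, π, hY, hπ⟩ := hP X.unop
  exact ⟨Opposite.op Y, π.op, hY, inferInstance⟩

variable (K : ChainComplex A ℕ)

/-- `K.op` as a cochain complex. -/
noncomputable def opC : CochainComplex Aᵒᵖ ℕ := K.op

/-- the `ℕ`-indexed left resolution -/
noncomputable def resN : ChainComplex A ℕ :=
  (H2.Resol.res (Pop P) (hPop P hP) (opC K)).unop

/-- the comparison map -/
noncomputable def resNMap : resN P hP K ⟶ K :=
  (unopFunctor A (ComplexShape.up ℕ)).map (H2.Resol.resMap (Pop P) (hPop P hP) (opC K)).op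

lemma resNMap_f (n : ℕ) : (resNMap P hP K).f n =
    ((H2.Resol.resMap (Pop P) (hPop P hP) (opC K)).f n).unop := rfl

instance (n : ℕ) : Epi ((resNMap P hP K).f n) := by
  rw [resNMap_f]
  haveI : Mono ((H2.Resol.resMap (Pop P) (hPop P hP) (opC K)).f n) := inferInstance
  exact unop_epi_of_mono _

lemma resN_mem (n : ℕ) : P ((resN P hP K).X n) :=
  H2.Resol.res_mem (Pop P) (hPop P hP) (opC K) n

instance quasiIso_resNMap : QuasiIso (resNMap P hP K) := by
  unfold resNMap
  exact (quasiIso_unopFunctor_map_iff _).2 inferInstance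

end NatLevel

section IntLevel

variable (K : CochainComplex A ℤ) (b : ℤ) [K.IsStrictlyLE b]

lemma hasLift (L : ChainComplex A ℕ)
    (φ : K.restriction (ComplexShape.embeddingUpIntLE b) ⟶ L) :
    (ComplexShape.embeddingUpIntLE b).HasLift φ := by
  intro j hj i' hi'
  exfalso
  refine hj.2 (j + 1) ?_
  change b - ((j + 1 : ℕ) : ℤ) + 1 = b - (j : ℤ)
  push_cast
  omega

lemma isIso_liftExtend_id :
    IsIso ((ComplexShape.embeddingUpIntLE b).liftExtend
      (𝟙 (K.restriction (ComplexShape.embeddingUpIntLE b))) (hasLift K b _ _)) := by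
  apply (config := { allowSynthFailures := true }) HomologicalComplex.Hom.isIso_of_components
  intro n
  by_cases hn : n ≤ b
  · obtain ⟨k, rfl⟩ : ∃ k : ℕ, n = b - k := ⟨(b - n).toNat, by omega⟩
    have hk : (ComplexShape.embeddingUpIntLE b).f k = b - k := rfl
    exact ((ComplexShape.embeddingUpIntLE b).isIso_liftExtend_f_iff _ _ hk).mpr inferInstance
  · have h1 : IsZero (K.X n) := K.isZero_of_isStrictlyLE b n (by omega)
    have h2 : IsZero (((K.restriction (ComplexShape.embeddingUpIntLE b)).extend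
        (ComplexShape.embeddingUpIntLE b)).X n) := by
      apply isZero_extend_X
      intro i hi
      have : (ComplexShape.embeddingUpIntLE b).f i = b - i := rfl
      omega
    exact ⟨⟨0, h1.eq_of_src _ _, h2.eq_of_src _ _⟩⟩

variable (P : ObjectProperty A) [P.IsClosedUnderIsomorphisms]
  (hP : ∀ X : A, ∃ (Y : A) (π : Y ⟶ X), P Y ∧ Epi π)

include hP in
/-- Left resolutions of bounded above complexes by objects of `P`. -/
theorem exists_left_resolution (hP0 : ∃ Z : A, IsZero Z ∧ P Z) :
    ∃ (R : CochainComplex A ℤ) (ρ : R ⟶ K), R.IsStrictlyLE b ∧ (∀ n, P (R.X n)) ∧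
      (∀ n, Epi (ρ.f n)) ∧ QuasiIso ρ := by
  obtain ⟨Z, hZ, hPZ⟩ := hP0
  let e := ComplexShape.embeddingUpIntLE b
  let K' := K.restriction e
  let R' := resN P hP K'
  let ρ' : R' ⟶ K' := resNMap P hP K'
  haveI := isIso_liftExtend_id K b
  let θ := e.liftExtend (𝟙 K') (hasLift K b _ _)
  have hzero : ∀ n : ℤ, ¬ n ≤ b → IsZero ((R'.extend e).X n) := by
    intro n hn
    apply isZero_extend_X
    intro k hk
    have : e.f k = b - k := rfl
    omega
  refine ⟨R'.extend e, extendMap ρ' e ≫ inv θ, ?_, ?_, ?_, ?_⟩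
  · rw [CochainComplex.isStrictlyLE_iff]
    intro i hi
    exact hzero i (by omega)
  · intro n
    by_cases hn : n ≤ b
    · obtain ⟨k, rfl⟩ : ∃ k : ℕ, n = b - k := ⟨(b - n).toNat, by omega⟩
      have hk : e.f k = b - k := rfl
      exact P.prop_of_iso (extendXIso R' e hk).symm (resN_mem P hP K' k)
    · exact P.prop_of_iso (hZ.iso (hzero n hn)) hPZ
  · intro n
    rw [HomologicalComplex.comp_f]
    haveI : Epi ((extendMap ρ' e).f n) := by
      by_cases hn : n ≤ b
      · obtain ⟨k, rfl⟩ : ∃ k : ℕ, n = b - k := ⟨(b - n).toNat, by omega⟩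
        have hk : e.f k = b - k := rfl
        rw [extendMap_f ρ' e hk]
        infer_instance
      · have hz : IsZero (((K.restriction e).extend e).X n) := by
          apply isZero_extend_X
          intro k hk
          have : e.f k = b - k := rfl
          omega
        exact ⟨fun _ _ _ => hz.eq_of_src _ _⟩
    infer_instance
  · have h1 : QuasiIso (extendMap ρ' e) := inferInstance
    have h2 : QuasiIso (inv θ) := inferInstance
    exact quasiIso_comp _ _ (hφ := h1) (hφ' := h2)

end IntLevel

end Groth.Agent.H6.LRes
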