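import Mathlib
import Groth.Agent.Lib.Helper6.DCohEq2
import Groth.Agent.Lib.Helper6.LRes1

/-! # Resolving bounded above complexes with cohomology in a subclass -/

namespace Groth.Agent.H6.DCohEq

open CategoryTheory Limits HomologicalComplex ZeroObject

universe v u

variable {𝒜 : Type u} [Category.{v} 𝒜] [Abelian 𝒜] {E : ObjectProperty 𝒜}

theorem exists_resolution (hE : Adm E) (K : CochainComplex 𝒜 ℤ) (b : ℤ) [K.IsStrictlyLE b]
    (hK : ∀ i, E (K.homology i)) :
    ∃ (R : CochainComplex 𝒜 ℤ) (ρ : R ⟶ K), R.IsStrictlyLE b ∧ (∀ n, E (R.X n)) ∧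
      QuasiIso ρ := by
  let e := ComplexShape.embeddingUpIntLE b
  let K' := K.restriction e
  haveI := LRes.isIso_liftExtend_id K b
  let θ := e.liftExtend (𝟙 K') (LRes.hasLift K b _ _)
  have hK' : ∀ k : ℕ, E (K'.homology k) := by
    intro k
    have hk : e.f k = b - k := rfl
    refine hE.iso ?_ (hK (b - k))
    exact ((HomologicalComplex.homologyFunctor 𝒜 _ (b - k)).mapIso (asIso θ)) ≪≫
      extendHomologyIso K' e hk
  obtain ⟨R', ρ', hR', hρ'⟩ := exists_resolution_nat hE K' hK'
  have hzero : ∀ n : ℤ, ¬ n ≤ b → IsZero ((R'.extend e).X n) := by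
    intro n hn
    apply isZero_extend_X
    intro k hk
    have : e.f k = b - k := rfl
    omega
  refine ⟨R'.extend e, extendMap ρ' e ≫ inv θ, ?_, ?_, ?_⟩
  · rw [CochainComplex.isStrictlyLE_iff]
    intro i hi
    exact hzero i (by omega)
  · intro n
    by_cases hn : n ≤ b
    · obtain ⟨k, rfl⟩ : ∃ k : ℕ, n = b - k := ⟨(b - n).toNat, by omega⟩
      have hk : e.f k = b - k := rfl
      exact hE.iso (extendXIso R' e hk).symm (hR' k)
    · exact hE.zero (hzero n hn)
  · have h1 : QuasiIso (extendMap ρ' e) := (quasiIso_extendMap_iff ρ' e).2 hρ'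
    have h2 : QuasiIso (inv θ) := inferInstance
    exact quasiIso_comp _ _ (hφ := h1) (hφ' := h2)

end Groth.Agent.H6.DCohEq
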