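import Mathlib
import Groth.Agent.Lib.Helper6.DCohEq3

/-! # Lifting complexes and homotopies through a fully faithful exact functor -/

namespace Groth.Agent.H6.DCohEq

open CategoryTheory Limits HomologicalComplex

universe v₁ v₂ u₁ u₂

variable {ℬ : Type u₁} [Category.{v₁} ℬ] [Abelian ℬ]
  {𝒜 : Type u₂} [Category.{v₂} 𝒜] [Abelian 𝒜]
  (Φ : ℬ ⥤ 𝒜) [Φ.Additive] [Φ.Full] [Φ.Faithful]
  (E : ObjectProperty 𝒜)

/-- the hypotheses relating `E` and `Φ`. -/
structure Rel : Prop where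
  adm : Adm E
  mem : ∀ B, E (Φ.obj B)
  pre : ∀ X, E X → ∃ B, Nonempty (Φ.obj B ≅ X)

variable {E}

/-- preimage of a homotopy. -/
noncomputable def homotopyPreimage {ι : Type*} {c : ComplexShape ι}
    {K L : HomologicalComplex ℬ c} (f g : K ⟶ L)
    (h : Homotopy ((Φ.mapHomologicalComplex c).map f) ((Φ.mapHomologicalComplex c).map g)) :
    Homotopy f g where
  hom i j := Φ.preimage (h.hom i j)
  zero i j hij := Φ.map_injective (by rw [Φ.map_preimage, Φ.map_zero]; exact h.zero i j hij)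
  comm i := Φ.map_injective (by
    show Φ.map (f.f i) = Φ.map (K.d i (c.next i) ≫ Φ.preimage (h.hom (c.next i) i) +
      Φ.preimage (h.hom i (c.prev i)) ≫ L.d (c.prev i) i + g.f i)
    rw [Functor.map_add, Functor.map_add, Functor.map_comp, Functor.map_comp, Φ.map_preimage,
      Φ.map_preimage]
    exact h.comm i)

include Φ in
lemma exists_lift_complex (hΦ : Rel Φ E) (R : CochainComplex 𝒜 ℤ) (hR : ∀ n, E (R.X n)) (b : ℤ)
    [R.IsStrictlyLE b] :
    ∃ (Y : CochainComplex ℬ ℤ) (_ : Y.IsStrictlyLE b),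
      Nonempty ((Φ.mapHomologicalComplex _).obj Y ≅ R) := by
  have h := fun n => hΦ.pre _ (hR n)
  choose B hB using h
  let e : ∀ n, Φ.obj (B n) ≅ R.X n := fun n => (hB n).some
  let δ : ∀ n, B n ⟶ B (n + 1) := fun n =>
    Φ.preimage ((e n).hom ≫ R.d n (n + 1) ≫ (e (n + 1)).inv)
  have hδ : ∀ n, Φ.map (δ n) = (e n).hom ≫ R.d n (n + 1) ≫ (e (n + 1)).inv :=
    fun n => Φ.map_preimage _
  have sq : ∀ n, δ n ≫ δ (n + 1) = 0 := fun n => Φ.map_injective (by
    rw [Φ.map_comp, hδ, hδ, Φ.map_zero]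
    simp)
  have key : ∀ i, (e i).hom ≫ R.d i (i + 1) = Φ.map (δ i) ≫ (e (i + 1)).hom := by
    intro i
    rw [hδ]
    simp
  let Y : CochainComplex ℬ ℤ := CochainComplex.of B δ sq
  let ε : (Φ.mapHomologicalComplex _).obj Y ≅ R :=
    HomologicalComplex.Hom.isoOfComponents e (by
      rintro i j (rfl : i + 1 = j)
      exact (key i).trans (congrArg (fun t => Φ.map t ≫ (e (i + 1)).hom)
        (CochainComplex.of_d B δ i).symm))
  haveI : CochainComplex.IsStrictlyLE ((Φ.mapHomologicalComplex _).obj Y) b :=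
    CochainComplex.isStrictlyLE_of_iso ε.symm b
  exact ⟨Y, (CochainComplex.isStrictlyLE_mapHomologicalComplex_obj_iff Y Φ b).1 inferInstance, ⟨ε⟩⟩

include Φ in
lemma exists_resolution' (hΦ : Rel Φ E) (K : CochainComplex 𝒜 ℤ) (b : ℤ) [K.IsStrictlyLE b]
    (hK : ∀ i, E (K.homology i)) :
    ∃ (Y : CochainComplex ℬ ℤ) (_ : Y.IsStrictlyLE b)
      (ρ : (Φ.mapHomologicalComplex _).obj Y ⟶ K), QuasiIso ρ := by
  obtain ⟨R, ρ, hR, hRE, hρ⟩ := exists_resolution hΦ.adm K b hK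
  obtain ⟨Y, hY, ⟨ε⟩⟩ := exists_lift_complex Φ hΦ R hRE b
  exact ⟨Y, hY, ε.hom ≫ ρ, inferInstance⟩

variable [PreservesFiniteLimits Φ] [PreservesFiniteColimits Φ]

include Φ in
lemma mem_homology_map (hΦ : Rel Φ E) (M : CochainComplex ℬ ℤ) (i : ℤ) :
    E (((Φ.mapHomologicalComplex _).obj M).homology i) :=
  hΦ.adm.iso ((M.sc i).mapHomologyIso Φ).symm (hΦ.mem _)

lemma mem_homology_of_quasiIso (hE : Adm E) {K L : CochainComplex 𝒜 ℤ} (s : K ⟶ L) [QuasiIso s]
    (hL : ∀ i, E (L.homology i)) (i : ℤ) : E (K.homology i) :=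
  hE.iso (asIso (homologyMap s i)).symm (hL i)

end Groth.Agent.H6.DCohEq
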