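import Mathlib
import Groth.Agent.Lib.Helper6.DCohEq4
import Groth.Agent.Lib.Helper2.DCoprod1

/-! # Bounded above derived categories: `D⁻(ℬ) → D⁻_E(𝒜)` is an equivalence -/

namespace Groth.Agent.H6.DCohEq

open CategoryTheory Limits HomologicalComplex DerivedCategory

universe w₁ w₂ v₁ v₂ u₁ u₂

variable {ℬ : Type u₁} [Category.{v₁} ℬ] [Abelian ℬ] [HasDerivedCategory.{w₁} ℬ]
  {𝒜 : Type u₂} [Category.{v₂} 𝒜] [Abelian 𝒜] [HasDerivedCategory.{w₂} 𝒜]
  (Φ : ℬ ⥤ 𝒜) [Φ.Additive] [Φ.Full] [Φ.Faithful]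
  [PreservesFiniteLimits Φ] [PreservesFiniteColimits Φ]
  {E : ObjectProperty 𝒜}

/-- abbreviation for the comparison isomorphism. -/
noncomputable abbrev fac (M : CochainComplex ℬ ℤ) :
    Φ.mapDerivedCategory.obj (Q.obj M) ≅ Q.obj ((Φ.mapHomologicalComplex _).obj M) :=
  Φ.mapDerivedCategoryFactors.app M

lemma fac_naturality {M N : CochainComplex ℬ ℤ} (f : M ⟶ N) :
    Φ.mapDerivedCategory.map (Q.map f) ≫ (fac Φ N).hom =
      (fac Φ M).hom ≫ Q.map ((Φ.mapHomologicalComplex _).map f) :=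
  Φ.mapDerivedCategoryFactors_hom_naturality f

include Φ in
theorem surj_Q (hΦ : Rel Φ E) (M N : CochainComplex ℬ ℤ) (b : ℤ) [M.IsStrictlyLE b]
    (f : Φ.mapDerivedCategory.obj (Q.obj M) ⟶ Φ.mapDerivedCategory.obj (Q.obj N)) :
    ∃ φ : Q.obj M ⟶ Q.obj N, Φ.mapDerivedCategory.map φ = f := by
  haveI : CochainComplex.IsStrictlyLE ((Φ.mapHomologicalComplex _).obj M) b :=
    (CochainComplex.isStrictlyLE_mapHomologicalComplex_obj_iff M Φ b).2 inferInstance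
  obtain ⟨X', hX', s, hs, g, hfg⟩ := right_fac_of_isStrictlyLE
    ((fac Φ M).inv ≫ f ≫ (fac Φ N).hom) b
  haveI : QuasiIso s := (isIso_Q_map_iff_quasiIso _ s).1 hs
  have hX'E : ∀ i, E (X'.homology i) :=
    mem_homology_of_quasiIso hΦ.adm s (mem_homology_map Φ hΦ M)
  obtain ⟨Y, hY, ρ, hρ⟩ := exists_resolution' Φ hΦ X' b hX'E
  obtain ⟨s', hs'⟩ := (Φ.mapHomologicalComplex _).map_surjective (ρ ≫ s)
  obtain ⟨g', hg'⟩ := (Φ.mapHomologicalComplex _).map_surjective (ρ ≫ g)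
  haveI : QuasiIso s' := by
    rw [← quasiIso_map_iff_of_preservesHomology s' Φ, hs']
    infer_instance
  haveI : IsIso (Q.map s') := (isIso_Q_map_iff_quasiIso _ s').2 inferInstance
  haveI : IsIso (Q.map ρ) := (isIso_Q_map_iff_quasiIso _ ρ).2 inferInstance
  refine ⟨inv (Q.map s') ≫ Q.map g', ?_⟩
  rw [Functor.map_comp, Functor.map_inv, IsIso.inv_comp_eq]
  have hf : f = (fac Φ M).hom ≫ (inv (Q.map s) ≫ Q.map g) ≫ (fac Φ N).inv := by
    rw [← hfg]
    simp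
  rw [hf, ← Category.assoc, fac_naturality, hs', ← cancel_mono (fac Φ N).hom, fac_naturality, hg']
  simp

include Φ in
theorem inj_Q (hΦ : Rel Φ E) (M N : CochainComplex ℬ ℤ) (b : ℤ) [M.IsStrictlyLE b]
    (φ : Q.obj M ⟶ Q.obj N) (hφ : Φ.mapDerivedCategory.map φ = 0) : φ = 0 := by
  obtain ⟨M', hM', s, hs, g, rfl⟩ := right_fac_of_isStrictlyLE φ b
  have h1 : Φ.mapDerivedCategory.map (Q.map g) = 0 := by
    rw [Functor.map_comp, Functor.map_inv, IsIso.inv_comp_eq, comp_zero] at hφ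
    exact hφ
  have h2 : Q.map ((Φ.mapHomologicalComplex _).map g) = 0 := by
    have := fac_naturality Φ g
    rw [h1, zero_comp] at this
    rw [← cancel_epi (fac Φ M').hom, ← this, comp_zero]
  obtain ⟨N₀, t, ht, ⟨H⟩⟩ := H2.DCoprod.exists_quasiIso_comp_homotopy_zero _ h2
  haveI : CochainComplex.IsStrictlyLE ((Φ.mapHomologicalComplex _).obj M') b :=
    (CochainComplex.isStrictlyLE_mapHomologicalComplex_obj_iff M' Φ b).2 inferInstance
  let t₁ : N₀.truncLE b ⟶ (Φ.mapHomologicalComplex _).obj M' :=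
    CochainComplex.truncLEMap t b ≫ CochainComplex.ιTruncLE _ b
  haveI h3 : QuasiIso (CochainComplex.truncLEMap t b) := by
    rw [CochainComplex.quasiIso_truncLEMap_iff]
    infer_instance
  haveI ht₁ : QuasiIso t₁ := inferInstance
  have e₁ : t₁ = N₀.ιTruncLE b ≫ t := CochainComplex.ιTruncLE_naturality t b
  have H₁ : Homotopy (t₁ ≫ (Φ.mapHomologicalComplex _).map g) 0 :=
    (Homotopy.ofEq (by rw [e₁, Category.assoc])).trans
      ((H.compLeft (N₀.ιTruncLE b)).trans (Homotopy.ofEq comp_zero))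
  have hNE : ∀ i, E ((N₀.truncLE b).homology i) :=
    mem_homology_of_quasiIso hΦ.adm t₁ (mem_homology_map Φ hΦ M')
  obtain ⟨Y, hY, ρ, hρ⟩ := exists_resolution' Φ hΦ (N₀.truncLE b) b hNE
  obtain ⟨u, hu⟩ := (Φ.mapHomologicalComplex _).map_surjective (ρ ≫ t₁)
  haveI : QuasiIso u := by
    rw [← quasiIso_map_iff_of_preservesHomology u Φ, hu]
    infer_instance
  haveI : IsIso (Q.map u) := (isIso_Q_map_iff_quasiIso _ u).2 inferInstance
  have H₂ : Homotopy ((Φ.mapHomologicalComplex _).map (u ≫ g))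
      ((Φ.mapHomologicalComplex _).map 0) :=
    (Homotopy.ofEq (by rw [Functor.map_comp, hu, Category.assoc])).trans
      ((H₁.compLeft ρ).trans (Homotopy.ofEq (by rw [comp_zero, Functor.map_zero])))
  have h4 : Q.map (u ≫ g) = Q.map 0 := Q_map_eq_of_homotopy _ (homotopyPreimage Φ _ _ H₂)
  rw [Functor.map_comp, Functor.map_zero] at h4
  have h5 : Q.map g = 0 := by rw [← cancel_epi (Q.map u), h4, comp_zero]
  rw [h5, comp_zero]

include Φ in
theorem bijective_map (hΦ : Rel Φ E) (M N : DerivedCategory ℬ) (b : ℤ) [M.IsLE b] [N.IsLE b] :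
    Function.Bijective (fun φ : M ⟶ N => Φ.mapDerivedCategory.map φ) := by
  obtain ⟨M', hM', ⟨eM⟩⟩ := M.exists_iso_Q_obj_of_isLE b
  obtain ⟨N', hN', ⟨eN⟩⟩ := N.exists_iso_Q_obj_of_isLE b
  constructor
  · intro φ₁ φ₂ h
    have h0 : Φ.mapDerivedCategory.map φ₁ = Φ.mapDerivedCategory.map φ₂ := h
    have h' : Φ.mapDerivedCategory.map (eM.inv ≫ (φ₁ - φ₂) ≫ eN.hom) = 0 := by
      rw [Functor.map_comp, Functor.map_comp, Functor.map_sub, h0, sub_self, zero_comp, comp_zero]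
    have h2 := inj_Q Φ hΦ M' N' b _ h'
    rw [← cancel_epi eM.hom, Iso.hom_inv_id_assoc, comp_zero, ← cancel_mono eN.inv,
      Category.assoc, Iso.hom_inv_id, Category.comp_id, zero_comp] at h2
    exact sub_eq_zero.1 h2
  · intro f
    obtain ⟨φ₀, hφ₀⟩ := surj_Q Φ hΦ M' N' b
      (Φ.mapDerivedCategory.map eM.inv ≫ f ≫ Φ.mapDerivedCategory.map eN.hom)
    refine ⟨eM.hom ≫ φ₀ ≫ eN.inv, ?_⟩
    show Φ.mapDerivedCategory.map (eM.hom ≫ φ₀ ≫ eN.inv) = f
    rw [Functor.map_comp, Functor.map_comp, hφ₀]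
    simp only [Category.assoc, ← Functor.map_comp, Iso.hom_inv_id, CategoryTheory.Functor.map_id,
      Category.comp_id]
    rw [← Category.assoc, ← Functor.map_comp, Iso.hom_inv_id, CategoryTheory.Functor.map_id,
      Category.id_comp]

include Φ in
theorem exists_preimage (hΦ : Rel Φ E) (K : DerivedCategory 𝒜) (b : ℤ) [K.IsLE b]
    (hK : ∀ i, E ((DerivedCategory.homologyFunctor 𝒜 i).obj K)) :
    ∃ M : DerivedCategory ℬ, M.IsLE b ∧ Nonempty (Φ.mapDerivedCategory.obj M ≅ K) := by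
  obtain ⟨K', hK', ⟨eK⟩⟩ := K.exists_iso_Q_obj_of_isLE b
  have hK'E : ∀ i, E (K'.homology i) := fun i =>
    hΦ.adm.iso ((DerivedCategory.homologyFunctor 𝒜 i).mapIso eK ≪≫
      (homologyFunctorFactors 𝒜 i).app K') (hK i)
  obtain ⟨Y, hY, ρ, hρ⟩ := exists_resolution' Φ hΦ K' b hK'E
  haveI : IsIso (Q.map ρ) := (isIso_Q_map_iff_quasiIso _ ρ).2 inferInstance
  exact ⟨Q.obj Y, inferInstance, ⟨fac Φ Y ≪≫ asIso (Q.map ρ) ≪≫ eK.symm⟩⟩

end Groth.Agent.H6.DCohEq
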