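import Mathlib
import Groth.Agent.Lib.Lead.QC.SubSup
import Groth.Agent.Lib.Lead.QC.Iso
import Groth.Agent.Lib.Lead.QC.Closure
import Groth.Agent.Lib.Lead.QC.Gen

/-! # Epimorphisms onto coherent modules are refined by coherent submodules -/

universe u
open CategoryTheory Limits AlgebraicGeometry TopologicalSpace Opposite

namespace Groth.Agent.H6.DCohEq

open Groth.Agent.LD.QC

variable {X : Scheme.{u}}

theorem exists_coh_sub_epi [CompactSpace X] [QuasiSeparatedSpace X] {W N : X.Modules}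
    (π : W ⟶ N) [Epi π] (hW : W.IsQuasicoherent) (hN : N.IsQuasicoherent)
    (hNft : N.IsFiniteType) :
    ∃ (F : X.Modules) (u : F ⟶ W), Mono u ∧ F.IsQuasicoherent ∧ F.IsFiniteType ∧
      Epi (u ≫ π) := by
  classical
  -- a finite affine cover
  have hV : ∀ x : X, ∃ V : X.affineOpens, x ∈ V.1 := by
    intro x
    obtain ⟨V, hV, hxV, -⟩ := exists_isAffineOpen_mem_and_subset (x := x) (U := ⊤) trivial
    exact ⟨⟨V, hV⟩, hxV⟩
  choose V hxV using hV
  obtain ⟨Z, hZ⟩ := isCompact_univ.elim_finite_subcover (fun x : X => ((V x).1 : Set X))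
    (fun x => (V x).1.2) (fun x _ => Set.mem_iUnion.mpr ⟨x, hxV x⟩)
  -- generators
  have hgen : ∀ x : X, ∃ S : Finset Γ(N, (V x).1), Submodule.span Γ(X, (V x).1) (S : Set Γ(N, (V x).1)) = ⊤ := by
    intro x
    haveI := finite_sections_of_isFiniteType N hNft (V x).2
    exact Module.Finite.fg_top
  choose S hS using hgen
  have hsurj : ∀ x : X, Function.Surjective (π.app (V x).1) :=
    fun x => epi_app_affine hW hN π (V x).2
  choose lift hlift using hsurj
  let ι := Σ z : {z // z ∈ Z}, {n // n ∈ S z.1}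
  obtain ⟨F, u, hu, hFq, hFft, hsec⟩ := exists_sub_finiteType_of_sections W
    (Finset.univ : Finset ι) (fun a => V a.1.1) (fun a => lift a.1.1 a.2.1)
  haveI := hu
  refine ⟨F, u, hu, hFq, hFft, ?_⟩
  have hC : (cokernel (u ≫ π)).IsQuasicoherent := qc_cokernel _ hFq hN
  have hzero : IsZero (cokernel (u ≫ π)) := by
    apply isZero_of_affine_cover
    intro x
    obtain ⟨z, hzZ, hxz⟩ := Set.mem_iUnion₂.mp (hZ (Set.mem_univ x))
    refine ⟨(V z).1, (V z).2, hxz, fun c => ?_⟩
    obtain ⟨n, rfl⟩ := epi_app_affine hN hC (cokernel.π (u ≫ π)) (V z).2 c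
    have hle : Submodule.span Γ(X, (V z).1) (S z : Set Γ(N, (V z).1)) ≤
        LinearMap.ker (appLinear (cokernel.π (u ≫ π)) (V z).1) := by
      rw [Submodule.span_le]
      intro n₀ hn₀
      obtain ⟨g, hg⟩ := hsec ⟨⟨z, hzZ⟩, ⟨n₀, hn₀⟩⟩ (Finset.mem_univ _)
      rw [SetLike.mem_coe, LinearMap.mem_ker, appLinear_apply]
      have h1 : n₀ = (u ≫ π).app (V z).1 g := by
        change n₀ = π.app (V z).1 (u.app (V z).1 g)
        rw [hg]
        exact (hlift z n₀).symm
      rw [h1]
      change ((u ≫ π) ≫ cokernel.π (u ≫ π)).app (V z).1 g = 0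
      rw [cokernel.condition]
      rfl
    have hn : n ∈ LinearMap.ker (appLinear (cokernel.π (u ≫ π)) (V z).1) :=
      hle (by rw [hS z]; trivial)
    rw [LinearMap.mem_ker, appLinear_apply] at hn
    exact hn
  exact Preadditive.epi_of_isZero_cokernel _ hzero

end Groth.Agent.H6.DCohEq
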