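import Mathlib
import Groth.Prelude.Def_DCoh2
import Groth.Agent.Lib.Helper6.DCohEq5
import Groth.Agent.Lib.Helper6.DCohEq6

/-! # `D⁻(Coh(X)) ≃ D⁻_{Coh}(QCoh(X))` for Noetherian `X` -/

universe u
open CategoryTheory Limits AlgebraicGeometry

attribute [local instance] HasDerivedCategory.standard

namespace Groth.Agent.H6.DCohEq

section abstract

universe v₁ v₂ u₁ u₂

variable {ℬ : Type u₁} [Category.{v₁} ℬ] [Abelian ℬ]
  {𝒜 : Type u₂} [Category.{v₂} 𝒜] [Abelian 𝒜]
  (Φ : ℬ ⥤ 𝒜) [Φ.Additive] [Φ.Full] [Φ.Faithful]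
  {E : ObjectProperty 𝒜}

open ZeroObject in
include Φ in
lemma rel_of (hiso : ∀ {X Y : 𝒜}, (X ≅ Y) → E X → E Y) (mem : ∀ B, E (Φ.obj B))
    (pre : ∀ X, E X → ∃ B, Nonempty (Φ.obj B ≅ X))
    (sub : ∀ {X Y : 𝒜} (i : X ⟶ Y) [Mono i], E Y → E X)
    (lift : ∀ {W N : 𝒜} (π : W ⟶ N) [Epi π], E N →
      ∃ (B : 𝒜) (i : B ⟶ W), E B ∧ Epi (i ≫ π)) : Rel Φ E where
  adm :=
    { iso := hiso
      sub := sub
      lift := lift
      sum := by
        intro X Y hX hY
        obtain ⟨B₁, ⟨e₁⟩⟩ := pre X hX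
        obtain ⟨B₂, ⟨e₂⟩⟩ := pre Y hY
        haveI : PreservesBinaryBiproducts Φ := preservesBinaryBiproducts_of_preservesBiproducts Φ
        exact hiso (Φ.mapBiprod B₁ B₂ ≪≫ biprod.mapIso e₁ e₂) (mem _)
      zero := by
        intro Z hZ
        exact hiso (Φ.mapZeroObject ≪≫ hZ.isoZero.symm) (mem 0) }
  mem := mem
  pre := pre

end abstract

open Groth.Agent.LD.QC

variable (X : Scheme.{u}) [IsNoetherian X]
    [ObjectProperty.ContainsZero (fun M : X.Modules => Coh.IsQCoh M)] [ObjectProperty.IsClosedUnderKernels (fun M : X.Modules => Coh.IsQCoh M)]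
    [ObjectProperty.IsClosedUnderCokernels (fun M : X.Modules => Coh.IsQCoh M)] [ObjectProperty.IsClosedUnderFiniteProducts (fun M : X.Modules => Coh.IsQCoh M)]
    [ObjectProperty.ContainsZero (fun M : X.Modules => Coh.IsCoh M)] [ObjectProperty.IsClosedUnderKernels (fun M : X.Modules => Coh.IsCoh M)]
    [ObjectProperty.IsClosedUnderCokernels (fun M : X.Modules => Coh.IsCoh M)] [ObjectProperty.IsClosedUnderFiniteProducts (fun M : X.Modules => Coh.IsCoh M)]

/-- the inclusion `Coh(X) ⥤ QCoh(X)`. -/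
abbrev Φc : ObjectProperty.FullSubcategory (fun M : X.Modules => Coh.IsCoh M) ⥤
    ObjectProperty.FullSubcategory (fun M : X.Modules => Coh.IsQCoh M) :=
  ObjectProperty.lift (fun M : X.Modules => Coh.IsQCoh M)
    (ObjectProperty.ι (fun M : X.Modules => Coh.IsCoh M)) (fun M => M.property.1)

/-- coherent objects of `QCoh(X)`. -/
def Ec : ObjectProperty (ObjectProperty.FullSubcategory (fun M : X.Modules => Coh.IsQCoh M)) :=
  fun M => Coh.IsCoh M.obj

theorem rel_c : Rel (Φc X) (Ec X) := by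
  refine rel_of (Φc X) ?_ ?_ ?_ ?_ ?_
  · intro A B e hA
    haveI : Epi ((ObjectProperty.ι (fun M : X.Modules => Coh.IsQCoh M)).map e.hom) :=
      inferInstance
    exact ⟨B.property, isFiniteType_of_epi
      ((ObjectProperty.ι (fun M : X.Modules => Coh.IsQCoh M)).map e.hom) A.property B.property
      hA.2⟩
  · intro B
    exact B.property
  · intro A hA
    exact ⟨⟨A.obj, hA⟩, ⟨Iso.refl _⟩⟩
  · intro A B i hi hB
    haveI := ObjectProperty.preservesMonomorphisms_ι_of_isNormalEpiCategory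
      (fun M : X.Modules => Coh.IsQCoh M)
    haveI : Mono ((ObjectProperty.ι (fun M : X.Modules => Coh.IsQCoh M)).map i) :=
      inferInstance
    exact ⟨A.property, isFiniteType_of_mono
      ((ObjectProperty.ι (fun M : X.Modules => Coh.IsQCoh M)).map i) A.property B.property hB.2⟩
  · intro W N π hπ hN
    haveI := ObjectProperty.preservesEpimorphisms_ι_of_isNormalMonoCategory
      (fun M : X.Modules => Coh.IsQCoh M)
    haveI : Epi ((ObjectProperty.ι (fun M : X.Modules => Coh.IsQCoh M)).map π) :=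
      inferInstance
    obtain ⟨F, u, hu, hFq, hFft, hepi⟩ := exists_coh_sub_epi
      ((ObjectProperty.ι (fun M : X.Modules => Coh.IsQCoh M)).map π) W.property N.property hN.2
    refine ⟨⟨F, hFq⟩, ObjectProperty.homMk u, ⟨hFq, hFft⟩, ?_⟩
    apply (ObjectProperty.ι (fun M : X.Modules => Coh.IsQCoh M)).epi_of_epi_map
    exact hepi

variable
    [PreservesFiniteLimits (ObjectProperty.lift (fun M : X.Modules => Coh.IsQCoh M) (ObjectProperty.ι (fun M : X.Modules => Coh.IsCoh M)) (fun M => M.property.1))]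
    [PreservesFiniteColimits (ObjectProperty.lift (fun M : X.Modules => Coh.IsQCoh M) (ObjectProperty.ι (fun M : X.Modules => Coh.IsCoh M)) (fun M => M.property.1))]

theorem main7262 :
    (∀ (M N : DerivedCategory (ObjectProperty.FullSubcategory (fun M : X.Modules => Coh.IsCoh M))) (b : ℤ), M.IsLE b → N.IsLE b →
      Function.Bijective (fun φ : M ⟶ N => (ObjectProperty.lift (fun M : X.Modules => Coh.IsQCoh M) (ObjectProperty.ι (fun M : X.Modules => Coh.IsCoh M)) (fun M => M.property.1)).mapDerivedCategory.map φ)) ∧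
    ∀ (K : DerivedCategory (ObjectProperty.FullSubcategory (fun M : X.Modules => Coh.IsQCoh M))) (b : ℤ), K.IsLE b →
      (∀ i : ℤ, Coh.IsCoh ((DerivedCategory.homologyFunctor (ObjectProperty.FullSubcategory (fun M : X.Modules => Coh.IsQCoh M)) i).obj K).obj) →
      ∃ M : DerivedCategory (ObjectProperty.FullSubcategory (fun M : X.Modules => Coh.IsCoh M)), M.IsLE b ∧
        Nonempty ((ObjectProperty.lift (fun M : X.Modules => Coh.IsQCoh M) (ObjectProperty.ι (fun M : X.Modules => Coh.IsCoh M)) (fun M => M.property.1)).mapDerivedCategory.obj M ≅ K) := by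
  refine ⟨fun M N b hM hN => ?_, fun K b hK hKE => ?_⟩
  · exact bijective_map (Φc X) (rel_c X) M N b
  · exact exists_preimage (Φc X) (rel_c X) K b hKE

end Groth.Agent.H6.DCohEq
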