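import Mathlib
import Groth.Agent.Lib.Helper6.DCohEq5
import Groth.Agent.Lib.Helper2.DPlusFF2

/-! # Bounded derived categories: `D^b(ℬ) → D^b_E(𝒜)` through an intermediate category -/

namespace Groth.Agent.H6.DCohEq

open CategoryTheory Limits HomologicalComplex DerivedCategory

universe w v u

section tExact

variable {A : Type*} [Category A] [Abelian A] [HasDerivedCategory A]
  {B : Type*} [Category B] [Abelian B] [HasDerivedCategory B]
  (F : A ⥤ B) [F.Additive] [PreservesFiniteLimits F] [PreservesFiniteColimits F]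

/-- exact functors commute with the homology of complexes, naturally. -/
noncomputable def cxHomologyNatIso (n : ℤ) :
    F.mapHomologicalComplex (ComplexShape.up ℤ) ⋙
        HomologicalComplex.homologyFunctor B (ComplexShape.up ℤ) n ≅
      HomologicalComplex.homologyFunctor A (ComplexShape.up ℤ) n ⋙ F :=
  NatIso.ofComponents (fun K => (K.sc n).mapHomologyIso F)
    (fun f => ShortComplex.mapHomologyIso_hom_naturality
      ((HomologicalComplex.shortComplexFunctor A (ComplexShape.up ℤ) n).map f) F)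

/-- exact functors commute with the homology functors of derived categories, naturally. -/
noncomputable def homologyMapDerivedNatIso (n : ℤ) :
    F.mapDerivedCategory ⋙ homologyFunctor B n ≅ homologyFunctor A n ⋙ F :=
  Localization.liftNatIso Q (HomologicalComplex.quasiIso A (ComplexShape.up ℤ))
    (Q ⋙ F.mapDerivedCategory ⋙ homologyFunctor B n) (Q ⋙ homologyFunctor A n ⋙ F) _ _
    ((Functor.associator _ _ _).symm ≪≫
      Functor.isoWhiskerRight F.mapDerivedCategoryFactors (homologyFunctor B n) ≪≫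
      Functor.associator _ _ _ ≪≫
      Functor.isoWhiskerLeft _ (homologyFunctorFactors B n) ≪≫ cxHomologyNatIso F n ≪≫
      Functor.isoWhiskerRight (homologyFunctorFactors A n).symm F ≪≫ Functor.associator _ _ _)

lemma isZero_map_iff [F.Faithful] (Y : A) : IsZero (F.obj Y) ↔ IsZero Y := by
  constructor
  · intro h
    rw [IsZero.iff_id_eq_zero]
    apply F.map_injective
    rw [F.map_id, F.map_zero]
    exact (IsZero.iff_id_eq_zero _).1 h
  · intro h
    exact F.map_isZero h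

lemma isZero_homology_map_iff [F.Faithful] (M : DerivedCategory A) (i : ℤ) :
    IsZero ((homologyFunctor B i).obj (F.mapDerivedCategory.obj M)) ↔
      IsZero ((homologyFunctor A i).obj M) :=
  (((homologyMapDerivedNatIso F i).app M).isZero_iff).trans (isZero_map_iff F _)

lemma isGE_map_iff [F.Faithful] (M : DerivedCategory A) (a : ℤ) :
    (F.mapDerivedCategory.obj M).IsGE a ↔ M.IsGE a := by
  rw [DerivedCategory.isGE_iff, DerivedCategory.isGE_iff]
  exact forall_congr' fun i => forall_congr' fun _ => isZero_homology_map_iff F M i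

lemma isLE_map_iff [F.Faithful] (M : DerivedCategory A) (b : ℤ) :
    (F.mapDerivedCategory.obj M).IsLE b ↔ M.IsLE b := by
  rw [DerivedCategory.isLE_iff, DerivedCategory.isLE_iff]
  exact forall_congr' fun i => forall_congr' fun _ => isZero_homology_map_iff F M i

end tExact

section comp

universe w₁ w₂ v₁ v₂ u₁ u₂ u₃

variable {C₁ : Type u₁} [Category.{v₁} C₁] [Abelian C₁] [HasDerivedCategory.{w₁} C₁]
  {C₂ : Type u₂} [Category.{v₂} C₂] [Abelian C₂] [HasDerivedCategory.{w₂} C₂]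
  {C₃ : Type u₃} [Category.{v₁} C₃] [Abelian C₃] [HasDerivedCategory.{w₁} C₃]
  (F : C₁ ⥤ C₂) (G : C₂ ⥤ C₃) (H : C₁ ⥤ C₃) [F.Additive] [G.Additive] [H.Additive]
  [PreservesFiniteLimits F] [PreservesFiniteColimits F]
  [PreservesFiniteLimits G] [PreservesFiniteColimits G]
  [PreservesFiniteLimits H] [PreservesFiniteColimits H]

/-- derived functor of a composite of exact functors (after helper7's `QB16.mapDCComp`). -/
noncomputable def mapDCComp (e : F ⋙ G ≅ H) :
    F.mapDerivedCategory ⋙ G.mapDerivedCategory ≅ H.mapDerivedCategory :=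
  letI : Localization.Lifting Q (HomologicalComplex.quasiIso C₁ (ComplexShape.up ℤ))
      (F.mapHomologicalComplex (ComplexShape.up ℤ) ⋙ G.mapHomologicalComplex (ComplexShape.up ℤ) ⋙ Q)
      (F.mapDerivedCategory ⋙ G.mapDerivedCategory) :=
    ⟨(Functor.associator _ _ _).symm ≪≫
      Functor.isoWhiskerRight F.mapDerivedCategoryFactors G.mapDerivedCategory ≪≫
      Functor.associator _ _ _ ≪≫
      Functor.isoWhiskerLeft (F.mapHomologicalComplex (ComplexShape.up ℤ))
        G.mapDerivedCategoryFactors⟩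
  letI : Localization.Lifting Q (HomologicalComplex.quasiIso C₁ (ComplexShape.up ℤ))
      (H.mapHomologicalComplex (ComplexShape.up ℤ) ⋙ Q) H.mapDerivedCategory :=
    ⟨H.mapDerivedCategoryFactors⟩
  Localization.liftNatIso Q (HomologicalComplex.quasiIso C₁ (ComplexShape.up ℤ))
    (F.mapHomologicalComplex (ComplexShape.up ℤ) ⋙ G.mapHomologicalComplex (ComplexShape.up ℤ) ⋙ Q)
    (H.mapHomologicalComplex (ComplexShape.up ℤ) ⋙ Q) _ _
    ((Functor.associator _ _ _).symm ≪≫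
      Functor.isoWhiskerRight (Functor.mapHomologicalComplexCompIso e (ComplexShape.up ℤ)) Q)

end comp

section bounded

universe w₁ w₂ v₁ v₂ u₁ u₂ u₃

variable {ℬ : Type u₁} [Category.{v₁} ℬ] [Abelian ℬ] [HasDerivedCategory.{w₁} ℬ]
  {𝒞 : Type u₂} [Category.{v₂} 𝒞] [Abelian 𝒞] [HasDerivedCategory.{w₂} 𝒞]
  {𝒜 : Type u₃} [Category.{v₁} 𝒜] [Abelian 𝒜] [HasDerivedCategory.{w₁} 𝒜]
  (Φ : ℬ ⥤ 𝒞) (ι : 𝒞 ⥤ 𝒜) (Ψ : ℬ ⥤ 𝒜) [Φ.Additive] [ι.Additive] [Ψ.Additive]
  [PreservesFiniteLimits Φ] [PreservesFiniteColimits Φ]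
  [PreservesFiniteLimits ι] [PreservesFiniteColimits ι]
  [PreservesFiniteLimits Ψ] [PreservesFiniteColimits Ψ]
  [Φ.Full] [Φ.Faithful] [ι.Full] [ι.Faithful]
  (e : Φ ⋙ ι ≅ Ψ) {E : ObjectProperty 𝒞} (hΦ : Rel Φ E)
  (hinj : ∀ X' : 𝒞, ∃ (Y' : 𝒞) (i : X' ⟶ Y'), Mono i ∧ Injective (ι.obj Y'))

include e hΦ hinj in
theorem bijective_map_bounded (M N : DerivedCategory ℬ) (a b : ℤ) [M.IsLE b] [N.IsLE b]
    [N.IsGE a] :
    Function.Bijective (fun φ : M ⟶ N => Ψ.mapDerivedCategory.map φ) := by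
  let η := mapDCComp Φ ι Ψ e
  have h1 := bijective_map Φ hΦ M N b
  haveI : (Φ.mapDerivedCategory.obj N).IsGE a := (isGE_map_iff Φ N a).2 inferInstance
  have h2 := H2.DPlusFF.map_bijective ι hinj (Φ.mapDerivedCategory.obj M)
    (Φ.mapDerivedCategory.obj N) a
  have h3 := (Iso.homCongr (η.app M) (η.app N)).bijective.comp (h2.comp h1)
  convert h3 using 1
  funext φ
  have hn := η.hom.naturality φ
  dsimp [Iso.homCongr] at hn ⊢
  rw [hn, Iso.inv_hom_id_app_assoc]

include e hΦ hinj in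
theorem exists_preimage_bounded (K : DerivedCategory 𝒜) (a b : ℤ) [K.IsGE a] [K.IsLE b]
    (hK : ∀ i : ℤ, ∃ B : ℬ, Nonempty (Ψ.obj B ≅ (homologyFunctor 𝒜 i).obj K)) :
    ∃ M : DerivedCategory ℬ, M.IsGE a ∧ M.IsLE b ∧
      Nonempty (Ψ.mapDerivedCategory.obj M ≅ K) := by
  let η := mapDCComp Φ ι Ψ e
  have hZ : ∀ i : ℤ, ι.essImage ((homologyFunctor 𝒜 i).obj K) := by
    intro i
    obtain ⟨B, ⟨θ⟩⟩ := hK i
    exact ⟨Φ.obj B, ⟨e.app B ≪≫ θ⟩⟩
  obtain ⟨I, hI, -, ⟨θ⟩⟩ := H2.DPlusFF.essSurj ι hinj K a hZ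
  have hLle : (Q.obj I).IsLE b :=
    (isLE_map_iff ι (Q.obj I) b).1 (DerivedCategory.TStructure.t.isLE_of_iso θ.symm b)
  have hLge : (Q.obj I).IsGE a :=
    (isGE_map_iff ι (Q.obj I) a).1 (DerivedCategory.TStructure.t.isGE_of_iso θ.symm a)
  have hE' : ∀ i : ℤ, E ((homologyFunctor 𝒞 i).obj (Q.obj I)) := by
    intro i
    obtain ⟨B, ⟨κ⟩⟩ := hK i
    have iso1 : ι.obj ((homologyFunctor 𝒞 i).obj (Q.obj I)) ≅ ι.obj (Φ.obj B) :=
      ((homologyMapDerivedNatIso ι i).app (Q.obj I)).symm ≪≫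
        (homologyFunctor 𝒜 i).mapIso θ ≪≫ κ.symm ≪≫ (e.app B).symm
    exact hΦ.adm.iso (ι.preimageIso iso1).symm (hΦ.mem B)
  obtain ⟨M, hM, ⟨κ⟩⟩ := exists_preimage Φ hΦ (Q.obj I) b hE'
  have hMge : M.IsGE a :=
    (isGE_map_iff Φ M a).1 (DerivedCategory.TStructure.t.isGE_of_iso κ.symm a)
  exact ⟨M, hMge, hM, ⟨(η.app M).symm ≪≫ ι.mapDerivedCategory.mapIso κ ≪≫ θ⟩⟩

end bounded

end Groth.Agent.H6.DCohEq
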