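import Mathlib
import Groth.Prelude.Def_DCoh2
import Groth.Agent.Lib.Helper6.DCohEq7
import Groth.Agent.Lib.Helper6.DCohEq8
import Groth.Agent.Lib.Lead.QCGroth
import Groth.Agent.Lib.Lead.Inj.HullB

/-! # `D^b(Coh(X)) ≃ D^b_{Coh}(O_X)` for Noetherian `X` -/

universe u
open CategoryTheory Limits AlgebraicGeometry

attribute [local instance] HasDerivedCategory.standard

namespace Groth.Agent.H6.DCohEq

open Groth.Agent.LD

variable (X : Scheme.{u})

/-- quasi-coherent modules, as in the statements. -/
abbrev PQ : ObjectProperty X.Modules := fun M : X.Modules => Coh.IsQCoh M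

/-- coherent modules, as in the statements. -/
abbrev PC : ObjectProperty X.Modules := fun M : X.Modules => Coh.IsCoh M

instance pq_containsZero : (PQ X).ContainsZero :=
  (QCGroth.containsZero X : (QCohCat.isQCoh X).ContainsZero)

instance pq_kernels : (PQ X).IsClosedUnderKernels :=
  (QCGroth.isClosedUnderKernels X : (QCohCat.isQCoh X).IsClosedUnderKernels)

instance pq_cokernels : (PQ X).IsClosedUnderCokernels :=
  (QCGroth.isClosedUnderCokernels X : (QCohCat.isQCoh X).IsClosedUnderCokernels)

instance pq_finiteProducts : (PQ X).IsClosedUnderFiniteProducts :=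
  (QCGroth.isClosedUnderFiniteProducts X : (QCohCat.isQCoh X).IsClosedUnderFiniteProducts)

instance pq_preservesFiniteLimits : PreservesFiniteLimits (PQ X).ι :=
  (QCGroth.preservesFiniteLimits_ι X : PreservesFiniteLimits (QCohCat.isQCoh X).ι)

lemma pq_isClosedUnderColimitsOfShape_fin (J : Type) [SmallCategory J] [FinCategory J] :
    (PQ X).IsClosedUnderColimitsOfShape J where
  colimitsOfShape_le := by
    rintro M ⟨h⟩
    have h1 : (colimit h.diag).IsQuasicoherent := QC.qc_finColimit h.diag h.prop_diag_obj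
    exact QC.qc_of_iso (h.isColimit.coconePointUniqueUpToIso (colimit.isColimit _)).symm h1

instance pq_preservesFiniteColimits : PreservesFiniteColimits (PQ X).ι where
  preservesFiniteColimits J _ _ := by
    haveI := pq_isClosedUnderColimitsOfShape_fin X J
    infer_instance

section main

variable [IsNoetherian X]
    [ObjectProperty.ContainsZero (fun M : X.Modules => Coh.IsCoh M)] [ObjectProperty.IsClosedUnderKernels (fun M : X.Modules => Coh.IsCoh M)]
    [ObjectProperty.IsClosedUnderCokernels (fun M : X.Modules => Coh.IsCoh M)] [ObjectProperty.IsClosedUnderFiniteProducts (fun M : X.Modules => Coh.IsCoh M)]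
    [PreservesFiniteLimits (ObjectProperty.ι (fun M : X.Modules => Coh.IsCoh M))] [PreservesFiniteColimits (ObjectProperty.ι (fun M : X.Modules => Coh.IsCoh M))]

lemma phic_preservesFiniteLimits : PreservesFiniteLimits (Φc X) where
  preservesFiniteLimits J _ _ := by
    haveI : PreservesLimitsOfShape J (Φc X ⋙ (PQ X).ι) :=
      (inferInstance : PreservesLimitsOfShape J (PC X).ι)
    exact preservesLimitsOfShape_of_reflects_of_preserves (Φc X) (PQ X).ι

lemma phic_preservesFiniteColimits : PreservesFiniteColimits (Φc X) where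
  preservesFiniteColimits J _ _ := by
    haveI : PreservesColimitsOfShape J (Φc X ⋙ (PQ X).ι) :=
      (inferInstance : PreservesColimitsOfShape J (PC X).ι)
    exact preservesColimitsOfShape_of_reflects_of_preserves (Φc X) (PQ X).ι

omit [ObjectProperty.ContainsZero (fun M : X.Modules => Coh.IsCoh M)] [ObjectProperty.IsClosedUnderKernels (fun M : X.Modules => Coh.IsCoh M)]
    [ObjectProperty.IsClosedUnderCokernels (fun M : X.Modules => Coh.IsCoh M)] [ObjectProperty.IsClosedUnderFiniteProducts (fun M : X.Modules => Coh.IsCoh M)]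
    [PreservesFiniteLimits (ObjectProperty.ι (fun M : X.Modules => Coh.IsCoh M))] [PreservesFiniteColimits (ObjectProperty.ι (fun M : X.Modules => Coh.IsCoh M))] in
lemma hinj_c : ∀ X' : (PQ X).FullSubcategory,
    ∃ (Y' : (PQ X).FullSubcategory) (i : X' ⟶ Y'), Mono i ∧ Injective ((PQ X).ι.obj Y') := by
  intro X'
  obtain ⟨E, i, hi, hE, hEq⟩ := HullB.exists_qcoh_injective X'.obj X'.property
  refine ⟨⟨E, hEq⟩, ObjectProperty.homMk i, ?_, hE⟩
  haveI : Mono ((PQ X).ι.map (ObjectProperty.homMk i : X' ⟶ ⟨E, hEq⟩)) := hi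
  exact (PQ X).ι.mono_of_mono_map this

theorem main1049 :
    (∀ (M N : DerivedCategory (ObjectProperty.FullSubcategory (fun M : X.Modules => Coh.IsCoh M))) (a b : ℤ), M.IsGE a → M.IsLE b → N.IsGE a → N.IsLE b →
      Function.Bijective (fun φ : M ⟶ N => (ObjectProperty.ι (fun M : X.Modules => Coh.IsCoh M)).mapDerivedCategory.map φ)) ∧
    ∀ (K : DCoh.D X) (a b : ℤ), K.IsGE a → K.IsLE b → DCoh.IsCohD K →
      ∃ M : DerivedCategory (ObjectProperty.FullSubcategory (fun M : X.Modules => Coh.IsCoh M)), M.IsGE a ∧ M.IsLE b ∧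
        Nonempty ((ObjectProperty.ι (fun M : X.Modules => Coh.IsCoh M)).mapDerivedCategory.obj M ≅ K) := by
  haveI := phic_preservesFiniteLimits X
  haveI := phic_preservesFiniteColimits X
  have e : Φc X ⋙ (PQ X).ι ≅ (PC X).ι := Iso.refl _
  refine ⟨fun M N a b hMa hMb hNa hNb => ?_, fun K a b hKa hKb hK => ?_⟩
  · exact bijective_map_bounded (Φc X) (PQ X).ι (PC X).ι e (rel_c X) (hinj_c X) M N a b
  · refine exists_preimage_bounded (Φc X) (PQ X).ι (PC X).ι e (rel_c X) (hinj_c X) K a b ?_
    intro i
    exact ⟨⟨_, hK i⟩, ⟨Iso.refl _⟩⟩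

end main

end Groth.Agent.H6.DCohEq
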