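import Mathlib
import Groth.Prelude.Def_DCoh2
import Groth.Agent.Lib.Helper6.DCohEq9
import Groth.Agent.Lib.Lead.QC.SubSup

/-! # `Coh(Y)` is an abelian subcategory of `Mod(O_Y)` for a locally Noetherian scheme `Y` -/

universe u
open CategoryTheory Limits AlgebraicGeometry ZeroObject

namespace Groth.Agent.H6.CohExt

open Groth.Agent.LD Groth.Agent.H6.DCohEq

variable (Y : Scheme.{u})

instance pc_iso : (PC Y).IsClosedUnderIsomorphisms where
  of_iso e h := by
    haveI : Epi e.hom := inferInstance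
    exact ⟨QC.qc_of_iso e h.1, QC.isFiniteType_of_epi e.hom h.1 (QC.qc_of_iso e h.1) h.2⟩

variable {Y} in
lemma isFiniteType_of_isZero {M : Y.Modules} (hM : IsZero M) (hq : M.IsQuasicoherent) :
    M.IsFiniteType := by
  haveI := hq
  rw [QC.isFiniteType_iff_finite_sections]
  intro U hU
  haveI : Subsingleton Γ(M, U) := by
    have h0 : (𝟙 M : M ⟶ M) = 0 := hM.eq_of_src _ _
    have key : ∀ a : Γ(M, U), a = 0 := by
      intro a
      have ha : a = (𝟙 M : M ⟶ M).app U a := rfl
      rw [ha, h0]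
      rfl
    exact ⟨fun a b => (key a).trans (key b).symm⟩
  infer_instance

instance pc_containsZero : (PC Y).ContainsZero :=
  ⟨⟨0, isZero_zero _, SC.qc_zero Y, isFiniteType_of_isZero (isZero_zero _) (SC.qc_zero Y)⟩⟩

instance pc_kernels [IsLocallyNoetherian Y] : (PC Y).IsClosedUnderKernels := by
  refine ⟨?_⟩
  rintro _ ⟨f, k, hk, ⟨h1, h2⟩⟩
  have e : k.pt ≅ kernel f := IsLimit.conePointUniqueUpToIso hk (limit.isLimit _)
  refine (PC Y).prop_of_iso e.symm ?_
  have hq := QC.qc_kernel f h1.1 h2.1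
  exact ⟨hq, QC.isFiniteType_of_mono (kernel.ι f) hq h1.1 h1.2⟩

instance pc_cokernels : (PC Y).IsClosedUnderCokernels := by
  refine ⟨?_⟩
  rintro _ ⟨f, k, hk, ⟨h1, h2⟩⟩
  have e : k.pt ≅ cokernel f := IsColimit.coconePointUniqueUpToIso hk (colimit.isColimit _)
  refine (PC Y).prop_of_iso e.symm ?_
  have hq := QC.qc_cokernel f h1.1 h2.1
  exact ⟨hq, QC.isFiniteType_of_epi (cokernel.π f) h2.1 hq h2.2⟩

instance pc_binaryProducts : (PC Y).IsClosedUnderBinaryProducts where
  limitsOfShape_le := by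
    rintro M ⟨h⟩
    let A := h.diag.obj ⟨WalkingPair.left⟩
    let B := h.diag.obj ⟨WalkingPair.right⟩
    have hA : PC Y A := h.prop_diag_obj _
    have hB : PC Y B := h.prop_diag_obj _
    have e : M ≅ A ⊞ B :=
      h.isLimit.conePointUniqueUpToIso (limit.isLimit _) ≪≫
        HasLimit.isoOfNatIso (diagramIsoPair h.diag) ≪≫ (biprod.isoProd A B).symm
    haveI := hA.1
    haveI := hB.1
    exact (PC Y).prop_of_iso e.symm
      ⟨SC.qc_biprod A B hA.1 hB.1, QC.isFiniteType_biprod A B hA.2 hB.2⟩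

instance pc_finiteProducts : (PC Y).IsClosedUnderFiniteProducts :=
  ObjectProperty.IsClosedUnderFiniteProducts.mk'

instance pc_preservesFiniteLimits [IsLocallyNoetherian Y] : PreservesFiniteLimits (PC Y).ι :=
  ((Functor.preservesFiniteLimits_tfae (PC Y).ι).out 2 3).1 (fun _ _ f => (PC Y).preservesKernels_ι f)

instance pc_preservesFiniteColimits [IsLocallyNoetherian Y] :
    PreservesFiniteColimits (PC Y).ι :=
  ((Functor.preservesFiniteColimits_tfae (PC Y).ι).out 2 3).1
    (fun _ _ f => (PC Y).preservesCokernels_ι f)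

variable {Y} in
/-- homology of a complex of coherent modules is coherent. -/
lemma isCoh_homology [IsLocallyNoetherian Y] (S : ShortComplex Y.Modules) (h₁ : PC Y S.X₁)
    (h₂ : PC Y S.X₂) (h₃ : PC Y S.X₃) : PC Y S.homology := by
  have hc : PC Y S.cycles := (PC Y).prop_of_isLimit_kernelFork S.cyclesIsKernel h₂ h₃
  exact (PC Y).prop_of_isColimit_cokernelCofork S.homologyIsCokernel h₁ hc

end Groth.Agent.H6.CohExt
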