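import Mathlib

/-! # Subcomplexes with terms in a class which are generically everything -/

namespace Groth.Agent.H6.CohExt

open CategoryTheory Limits

universe v₁ v₂ u₁ u₂

variable {𝒜 : Type u₁} [Category.{v₁} 𝒜] [Abelian 𝒜] {𝒰 : Type u₂} [Category.{v₂} 𝒰] [Abelian 𝒰]
  (R : 𝒜 ⥤ 𝒰) [R.Additive] [PreservesFiniteLimits R] [PreservesFiniteColimits R]
  (P Qc : ObjectProperty 𝒜)

include R in
theorem exists_subcomplex
    (hsum : ∀ {A B : 𝒜}, P A → P B → P (A ⊞ B))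
    (himg : ∀ {A F : 𝒜} (p : A ⟶ F), P A → Qc F → P (Abelian.image p))
    (F : CochainComplex 𝒜 ℤ) (hF : ∀ n, Qc (F.X n))
    (hC : ∀ n, ∃ (C : 𝒜) (c : C ⟶ F.X n), Mono c ∧ P C ∧ IsIso (R.map c)) :
    ∃ (G : CochainComplex 𝒜 ℤ) (ι : G ⟶ F), (∀ n, Mono (ι.f n)) ∧ (∀ n, P (G.X n)) ∧
      ∀ n, IsIso (R.map (ι.f n)) := by
  choose C c hc hP hiso using hC
  let p : ∀ n : ℤ, C n ⊞ C (n - 1) ⟶ F.X n := fun n =>
    biprod.desc (c n) (c (n - 1) ≫ F.d (n - 1) n)
  let GX : ℤ → 𝒜 := fun n => Abelian.image (p n)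
  let ιn : ∀ n, GX n ⟶ F.X n := fun n => Abelian.image.ι (p n)
  let en : ∀ n, C n ⊞ C (n - 1) ⟶ GX n := fun n => Abelian.factorThruImage (p n)
  have hfac : ∀ n, en n ≫ ιn n = p n := fun n => Abelian.image.fac (p n)
  haveI : ∀ n, Mono (ιn n) := fun n => inferInstanceAs (Mono (Abelian.image.ι (p n)))
  haveI : ∀ n, Epi (en n) := fun n => inferInstanceAs (Epi (Abelian.factorThruImage (p n)))
  have hw : ∀ (m k : ℤ) (_ : m = k - 1), ∃ w : C m ⟶ GX k, w ≫ ιn k = c m ≫ F.d m k := by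
    intro m k hm
    subst hm
    refine ⟨biprod.inr ≫ en k, ?_⟩
    rw [Category.assoc, hfac]
    exact biprod.inr_desc _ _
  have hδ : ∀ n : ℤ, ∃ δ : GX n ⟶ GX (n + 1), δ ≫ ιn (n + 1) = ιn n ≫ F.d n (n + 1) := by
    intro n
    obtain ⟨w, hw'⟩ := hw n (n + 1) (by omega)
    have sq : CommSq (biprod.fst ≫ w) (en n) (ιn (n + 1)) (ιn n ≫ F.d n (n + 1)) := ⟨by
      rw [← Category.assoc (en n), hfac, Category.assoc, hw']
      apply biprod.hom_ext'
      · simp [p]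
      · simp [p]⟩
    exact ⟨sq.lift, sq.fac_right⟩
  choose δ hδ' using hδ
  have hsq : ∀ n, δ n ≫ δ (n + 1) = 0 := by
    intro n
    rw [← cancel_mono (ιn (n + 1 + 1)), Category.assoc, hδ', ← Category.assoc, hδ',
      Category.assoc, F.d_comp_d, comp_zero, zero_comp]
  let G : CochainComplex 𝒜 ℤ := CochainComplex.of GX δ hsq
  let ι : G ⟶ F :=
    { f := fun n => ιn n
      comm' := by
        rintro i j (rfl : i + 1 = j)
        exact (hδ' i).symm.trans (congrArg (fun t => t ≫ ιn (i + 1))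
          (CochainComplex.of_d GX δ i).symm) }
  refine ⟨G, ι, fun n => inferInstanceAs (Mono (ιn n)), fun n => ?_, fun n => ?_⟩
  · exact himg (p n) (hsum (hP n) (hP (n - 1))) (hF n)
  · have h1 : (biprod.inl ≫ en n) ≫ ιn n = c n := by
      rw [Category.assoc, hfac]
      exact biprod.inl_desc _ _
    have h2 : R.map (biprod.inl ≫ en n) ≫ R.map (ιn n) = R.map (c n) := by
      rw [← R.map_comp, h1]
    haveI := hiso n
    haveI : Epi (R.map (ιn n)) := epi_of_epi_fac h2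
    haveI : Mono (R.map (ιn n)) := inferInstance
    exact isIso_of_mono_of_epi (R.map (ιn n))

end Groth.Agent.H6.CohExt
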