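import Mathlib
import Groth.Prelude.Def_DCoh2
import Groth.Prelude.Def_CxOX
import Groth.Agent.Lib.Helper6.CohExt1
import Groth.Agent.Lib.Helper6.CohExt2
import Groth.Agent.Lib.Lead.QC.Push
import Groth.Agent.S2250

/-! # Bounded coherent complexes on an open of a Noetherian scheme extend -/

universe u
open CategoryTheory Limits AlgebraicGeometry

attribute [local instance] HasDerivedCategory.standard

namespace Groth.Agent.H6.CohExt

open Groth.Agent.LD Groth.Agent.H6.DCohEq

variable {X : Scheme.{u}}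

lemma pc_biprod {A B : X.Modules} (hA : PC X A) (hB : PC X B) : PC X (A ⊞ B) := by
  haveI := hA.1
  haveI := hB.1
  exact ⟨SC.qc_biprod A B hA.1 hB.1, QC.isFiniteType_biprod A B hA.2 hB.2⟩

lemma pc_image {A F : X.Modules} (p : A ⟶ F) (hA : PC X A) (hF : PQ X F) :
    PC X (Abelian.image p) := by
  have hq : (Abelian.image p).IsQuasicoherent := QC.qc_kernel _ hF (QC.qc_cokernel p hA.1 hF)
  exact ⟨hq, QC.isFiniteType_of_epi (Abelian.factorThruImage p) hA.1 hq hA.2⟩

/-- the local extension step (from lead's S2250). -/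
lemma exists_coh_sub [IsNoetherian X] (U : X.Opens) (F : X.Modules) (hF : PQ X F)
    (hFU : PC (U : Scheme.{u}) (F.restrict U.ι)) :
    ∃ (C : X.Modules) (c : C ⟶ F), Mono c ∧ PC X C ∧
      IsIso ((Scheme.Modules.restrictFunctor U.ι).map c) := by
  haveI : Coh.IsQCoh F := hF
  haveI : Coh.IsQCoh (F.restrict U.ι) := hFU.1
  have hX : ∀ x : X, ∃ V : X.Opens, x ∈ V ∧ TopologicalSpace.NoetherianSpace (V : Set X) :=
    fun x => ⟨⊤, trivial, inferInstance⟩
  obtain ⟨G', i', e, hi', hq, hft, he⟩ :=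
    Groth.Agent.S2250.result hX U F (F.restrict U.ι) (𝟙 _) hFU.2
  refine ⟨G', i', hi', ⟨hq, hft⟩, ?_⟩
  rw [Category.comp_id] at he
  rw [← he]
  infer_instance

open DerivedCategory in
theorem main1017 (X : Scheme.{u}) [IsNoetherian X] (U : X.Opens)
    (F : DCoh.D (U : Scheme.{u})) (hF : DCoh.IsCohD F) (a b : ℤ) [F.IsGE a] [F.IsLE b] :
    ∃ (G : CochainComplex X.Modules ℤ) (a' b' : ℤ), DCoh.IsCohD (DCoh.toD X G) ∧ (DCoh.toD X G).IsGE a' ∧ (DCoh.toD X G).IsLE b' ∧
      Nonempty (DerivedCategory.Q.obj ((DCoh.restrictCx U).obj G) ≅ F) := by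
  haveI : CompactSpace (U : Scheme.{u}) :=
    isCompact_iff_compactSpace.1 (TopologicalSpace.NoetherianSpace.isCompact (U : Set X))
  haveI : IsNoetherian (U : Scheme.{u}) := { }
  let j : (U : Scheme.{u}) ⟶ X := U.ι
  let Ψ := (PC (U : Scheme.{u})).ι
  -- step 1: a bounded complex of coherent modules on `U`
  obtain ⟨M, hMa, hMb, ⟨θ⟩⟩ := (main1049 (U : Scheme.{u})).2 F a b inferInstance inferInstance hF
  obtain ⟨M', hM'a, hM'b, ⟨eM⟩⟩ := M.exists_iso_Q_obj_of_isGE_of_isLE a b
  let N : CochainComplex (U : Scheme.{u}).Modules ℤ := (Ψ.mapHomologicalComplex _).obj M'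
  have eN : Q.obj N ≅ F :=
    (Ψ.mapDerivedCategoryFactors.app M').symm ≪≫ Ψ.mapDerivedCategory.mapIso eM.symm ≪≫ θ
  have hNc : ∀ n, PC (U : Scheme.{u}) (N.X n) := fun n => (M'.X n).property
  haveI hNa : N.IsStrictlyGE a :=
    (CochainComplex.isStrictlyGE_mapHomologicalComplex_obj_iff M' Ψ a).2 inferInstance
  haveI hNb : N.IsStrictlyLE b :=
    (CochainComplex.isStrictlyLE_mapHomologicalComplex_obj_iff M' Ψ b).2 inferInstance
  -- step 2: push forward to `X`
  let 𝓕 : CochainComplex X.Modules ℤ :=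
    ((Scheme.Modules.pushforward j).mapHomologicalComplex _).obj N
  let R := Scheme.Modules.restrictFunctor j
  let ε := Scheme.Modules.restrictFunctorAdjCounitIso j
  have h𝓕q : ∀ n, PQ X (𝓕.X n) := fun n => by
    haveI : (N.X n).IsQuasicoherent := (hNc n).1
    exact QC.qc_pushforward j (N.X n)
  have h𝓕U : ∀ n, PC (U : Scheme.{u}) ((𝓕.X n).restrict j) := fun n =>
    (PC (U : Scheme.{u})).prop_of_iso (ε.app (N.X n)).symm (hNc n)
  -- step 3: the coherent subcomplex
  obtain ⟨G, ι, hιmono, hGc, hιiso⟩ := exists_subcomplex R (PC X) (PQ X)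
    (fun hA hB => pc_biprod hA hB) (fun p hA hF => pc_image p hA hF) 𝓕 h𝓕q
    (fun n => exists_coh_sub U (𝓕.X n) (h𝓕q n) (h𝓕U n))
  have hzero : ∀ n, IsZero (N.X n) → IsZero (G.X n) := by
    intro n hn
    haveI := hιmono n
    have h1 : IsZero (𝓕.X n) := (Scheme.Modules.pushforward j).map_isZero hn
    exact IsZero.of_mono (ι.f n) h1
  haveI hGa : G.IsStrictlyGE a := by
    rw [CochainComplex.isStrictlyGE_iff]
    intro i hi
    exact hzero i (N.isZero_of_isStrictlyGE a i hi)
  haveI hGb : G.IsStrictlyLE b := by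
    rw [CochainComplex.isStrictlyLE_iff]
    intro i hi
    exact hzero i (N.isZero_of_isStrictlyLE b i hi)
  refine ⟨G, a, b, ?_, inferInstance, inferInstance, ?_⟩
  · intro i
    exact (PC X).prop_of_iso ((homologyFunctorFactors X.Modules i).app G).symm
      (isCoh_homology (G.sc i) (hGc _) (hGc _) (hGc _))
  · -- the restriction of `G` is isomorphic to `N`
    haveI : ∀ n, IsIso (((DCoh.restrictCx U).map ι).f n) := fun n => hιiso n
    haveI : IsIso ((DCoh.restrictCx U).map ι) := HomologicalComplex.Hom.isIso_of_components _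
    let e2 : (DCoh.restrictCx U).obj 𝓕 ≅ N :=
      HomologicalComplex.Hom.isoOfComponents (fun n => ε.app (N.X n)) (by
        intro i k _
        exact (ε.hom.naturality (N.d i k)).symm)
    exact ⟨Q.mapIso (asIso ((DCoh.restrictCx U).map ι) ≪≫ e2) ≪≫ eN⟩

end Groth.Agent.H6.CohExt
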