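import Mathlib

/-!
# helper6: coherent modules (finitely generated, f.g. submodules finitely presented)
-/

set_option autoImplicit false
set_option linter.style.haveILetI false
set_option linter.unusedTactic false
set_option linter.unusedVariables false

universe u

namespace Groth.Agent.H6.Coh

variable {R : Type u} [CommRing R] {N M : Type u} [AddCommGroup N] [Module R N]
  [AddCommGroup M] [Module R M]

/-- coherent module -/
def IsCoh (R : Type u) [CommRing R] (M : Type u) [AddCommGroup M] [Module R M] : Prop :=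
  Module.Finite R M ∧ ∀ P : Submodule R M, P.FG → Module.FinitePresentation R P

lemma coh_submodule (hM : IsCoh R M) (Q : Submodule R M) (hQ : Q.FG) : IsCoh R Q := by
  refine ⟨Module.Finite.iff_fg.2 hQ, fun P hP => ?_⟩
  have h1 : (P.map Q.subtype).FG := hP.map _
  haveI := hM.2 _ h1
  exact Module.FinitePresentation.of_equiv
    (Submodule.equivMapOfInjective Q.subtype Q.injective_subtype P).symm

lemma coh_ker_fg (hM : IsCoh R M) [Module.Finite R N] (φ : N →ₗ[R] M) : (LinearMap.ker φ).FG := by
  have hr : (LinearMap.range φ).FG := by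
    rw [LinearMap.range_eq_map]
    exact (Module.Finite.iff_fg.1 inferInstance : (⊤ : Submodule R N).FG).map φ
  haveI := hM.2 _ hr
  have := Module.FinitePresentation.fg_ker φ.rangeRestrict φ.surjective_rangeRestrict
  rwa [LinearMap.ker_rangeRestrict] at this

lemma coh_quotient (hM : IsCoh R M) (Q : Submodule R M) (hQ : Q.FG) : IsCoh R (M ⧸ Q) := by
  haveI := hM.1
  refine ⟨inferInstance, fun P hP => ?_⟩
  set Q' : Submodule R M := P.comap Q.mkQ with hQ'
  have hQQ' : Q ≤ Q' := by
    intro x hx
    rw [hQ', Submodule.mem_comap, Submodule.mkQ_apply, (Submodule.Quotient.mk_eq_zero Q).2 hx]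
    exact P.zero_mem
  have hQ'fg : Q'.FG := by
    apply Submodule.fg_of_fg_map_of_fg_inf_ker Q.mkQ
    · rw [hQ', Submodule.map_comap_eq_of_surjective Q.mkQ_surjective]
      exact hP
    · rw [Submodule.ker_mkQ, inf_eq_right.2 hQQ']
      exact hQ
  haveI := hM.2 _ hQ'fg
  let ψ : Q' →ₗ[R] P := (Q.mkQ.domRestrict Q').codRestrict P (fun x => x.2)
  have hψ : Function.Surjective ψ := by
    rintro ⟨y, hy⟩
    obtain ⟨x, rfl⟩ := Q.mkQ_surjective y
    exact ⟨⟨x, hy⟩, rfl⟩
  have hker : (LinearMap.ker ψ).FG := by
    apply Submodule.fg_of_fg_map_injective Q'.subtype Q'.injective_subtype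
    have : (LinearMap.ker ψ).map Q'.subtype = Q := by
      ext x
      constructor
      · rintro ⟨⟨y, hy⟩, hyk, rfl⟩
        have : Q.mkQ y = 0 := congrArg Subtype.val (LinearMap.mem_ker.1 hyk)
        exact (Submodule.Quotient.mk_eq_zero Q).1 this
      · intro hx
        refine ⟨⟨x, hQQ' hx⟩, ?_, rfl⟩
        show ψ ⟨x, hQQ' hx⟩ = 0
        apply Subtype.ext
        exact (Submodule.Quotient.mk_eq_zero Q).2 hx
    rw [this]
    exact hQ
  exact Module.finitePresentation_of_surjective ψ hψ hker

lemma range_fg [Module.Finite R N] (φ : N →ₗ[R] M) : (LinearMap.range φ).FG := by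
  rw [LinearMap.range_eq_map]
  exact (Module.Finite.iff_fg.1 inferInstance : (⊤ : Submodule R N).FG).map φ

end Groth.Agent.H6.Coh
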