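import Mathlib
import Groth.Agent.Lib.Helper2.Rat8
import Groth.Agent.Lib.Helper7.Reg1
import Groth.Agent.S0543

/-! Helper6: completions of a regular local ring under a cotangent-surjective map (S11551). -/

namespace Groth.Agent.H6.ComplBij

universe u

open IsLocalRing

theorem main (A B : Type u) [CommRing A] [CommRing B] [IsRegularLocalRing A] [IsLocalRing B]
    [IsNoetherianRing B] (φ : A →+* B) [IsLocalHom φ]
    (hk : Function.Bijective (IsLocalRing.ResidueField.map φ))
    (hdim : ringKrullDim B = ringKrullDim A)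
    (hcot : IsLocalRing.maximalIdeal B ≤
      Ideal.map φ (IsLocalRing.maximalIdeal A) ⊔ IsLocalRing.maximalIdeal B ^ 2)
    (ψ : AdicCompletion (IsLocalRing.maximalIdeal A) A →+*
      AdicCompletion (IsLocalRing.maximalIdeal B) B)
    (hψ : ψ.comp (algebraMap A (AdicCompletion (IsLocalRing.maximalIdeal A) A)) =
      (algebraMap B (AdicCompletion (IsLocalRing.maximalIdeal B) B)).comp φ) :
    Function.Bijective ψ := by
  -- (a) Nakayama
  have hle : maximalIdeal B ≤ Ideal.map φ (maximalIdeal A) := by
    apply Submodule.le_of_le_smul_of_le_jacobson_bot (I := maximalIdeal B)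
      (IsNoetherian.noetherian _)
    · rw [IsLocalRing.jacobson_eq_maximalIdeal ⊥ bot_ne_top]
    · rw [smul_eq_mul, ← pow_two]
      exact hcot
  have hge : Ideal.map φ (maximalIdeal A) ≤ maximalIdeal B :=
    ((IsLocalRing.local_hom_TFAE φ).out 0 2).mp ‹IsLocalHom φ›
  have hmB : Ideal.map φ (maximalIdeal A) = maximalIdeal B := le_antisymm hge hle
  -- (b)
  have hmap : Ideal.map ψ (maximalIdeal (AdicCompletion (maximalIdeal A) A)) =
      maximalIdeal (AdicCompletion (maximalIdeal B) B) := by
    rw [AdicCompletion.maximalIdeal_eq_map (R := A), Ideal.map_map, hψ, ← Ideal.map_map, hmB,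
      AdicCompletion.maximalIdeal_eq_map (R := B)]
  haveI : IsHausdorff ((maximalIdeal (AdicCompletion (maximalIdeal A) A)).map ψ)
      (AdicCompletion (maximalIdeal B) B) := by
    rw [hmap]
    infer_instance
  -- (c)
  have hmod : Function.Surjective ((Ideal.Quotient.mk
      ((maximalIdeal (AdicCompletion (maximalIdeal A) A)).map ψ)).comp ψ) := by
    intro ybar
    obtain ⟨y, rfl⟩ := Ideal.Quotient.mk_surjective ybar
    obtain ⟨bbar, hb⟩ := (AdicCompletion.residueField_map_bijective B).2 (residue _ y)
    obtain ⟨b, rfl⟩ := residue_surjective bbar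
    obtain ⟨abar, ha⟩ := hk.2 (residue B b)
    obtain ⟨a, rfl⟩ := residue_surjective abar
    rw [IsLocalRing.ResidueField.map_residue] at hb ha
    refine ⟨algebraMap A _ a, ?_⟩
    rw [RingHom.comp_apply, Ideal.Quotient.eq, hmap]
    have h1 : ψ (algebraMap A _ a) = algebraMap B (AdicCompletion (maximalIdeal B) B) (φ a) :=
      RingHom.congr_fun hψ a
    have h2 : φ a - b ∈ maximalIdeal B := Ideal.Quotient.eq.mp ha
    have h3 : algebraMap B (AdicCompletion (maximalIdeal B) B) b - y ∈
        maximalIdeal (AdicCompletion (maximalIdeal B) B) := Ideal.Quotient.eq.mp hb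
    have h4 : algebraMap B (AdicCompletion (maximalIdeal B) B) (φ a - b) ∈
        maximalIdeal (AdicCompletion (maximalIdeal B) B) := by
      rw [AdicCompletion.maximalIdeal_eq_map (R := B)]
      exact Ideal.mem_map_of_mem _ h2
    have h5 : ψ (algebraMap A _ a) - y =
        algebraMap B (AdicCompletion (maximalIdeal B) B) (φ a - b) +
          (algebraMap B (AdicCompletion (maximalIdeal B) B) b - y) := by
      rw [h1, map_sub]
      ring
    rw [h5]
    exact Ideal.add_mem _ h4 h3
  -- (d)
  have hsurj : Function.Surjective ψ :=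
    surjective_of_mk_map_comp_surjective
      (I := maximalIdeal (AdicCompletion (maximalIdeal A) A)) ψ hmod
  refine ⟨?_, hsurj⟩
  -- (e)
  haveI : IsNoetherianRing (AdicCompletion (maximalIdeal A) A) := Groth.Agent.S0543.result _ _
  haveI : IsRegularLocalRing (AdicCompletion (maximalIdeal A) A) := by
    rw [isRegularLocalRing_iff, AdicCompletion.spanFinrank_maximalIdeal_eq,
      Groth.Agent.H2.Rat.ringKrullDim_completion A]
    exact IsRegularLocalRing.spanFinrank_maximalIdeal
  haveI : IsDomain (AdicCompletion (maximalIdeal A) A) := Groth.Agent.H7.Reg.isDomain _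
  rw [RingHom.injective_iff_ker_eq_bot]
  by_contra hK
  obtain ⟨r, hr, hr0⟩ := Submodule.exists_mem_ne_zero_of_ne_bot hK
  have hnzd : r ∈ nonZeroDivisors (AdicCompletion (maximalIdeal A) A) :=
    mem_nonZeroDivisors_of_ne_zero hr0
  have h1 := ringKrullDim_quotient_succ_le_of_nonZeroDivisor hnzd
  have hspan : Ideal.span {r} ≤ RingHom.ker ψ := by
    rw [Ideal.span_le]
    intro x hx
    rw [Set.mem_singleton_iff] at hx
    rw [hx]
    exact hr
  have h2 : ringKrullDim (AdicCompletion (maximalIdeal A) A ⧸ RingHom.ker ψ) ≤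
      ringKrullDim (AdicCompletion (maximalIdeal A) A ⧸ Ideal.span {r}) :=
    ringKrullDim_le_of_surjective (Ideal.Quotient.factor hspan)
      (Ideal.Quotient.factor_surjective hspan)
  have h3 : ringKrullDim (AdicCompletion (maximalIdeal A) A ⧸ RingHom.ker ψ) =
      ringKrullDim (AdicCompletion (maximalIdeal B) B) :=
    ringKrullDim_eq_of_ringEquiv (RingHom.quotientKerEquivOfSurjective hsurj)
  rw [h3, Groth.Agent.H2.Rat.ringKrullDim_completion B, hdim,
    ← Groth.Agent.H2.Rat.ringKrullDim_completion A] at h2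
  have h4 := h1.trans' (add_le_add_left h2 1)
  have h5 : ((maximalIdeal (AdicCompletion (maximalIdeal A) A)).spanFinrank : WithBot ℕ∞) =
      ringKrullDim (AdicCompletion (maximalIdeal A) A) :=
    IsRegularLocalRing.spanFinrank_maximalIdeal
  rw [← h5] at h4
  have h6 : (maximalIdeal (AdicCompletion (maximalIdeal A) A)).spanFinrank + 1 ≤
      (maximalIdeal (AdicCompletion (maximalIdeal A) A)).spanFinrank := by
    exact_mod_cast h4
  omega

end Groth.Agent.H6.ComplBij
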