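import Mathlib
import Groth.Agent.Lib.Helper6.DimLemmas

/-! Existence of a prime of dimension one above an ideal of positive dimension in a local ring. -/

set_option autoImplicit false
universe u
open IsLocalRing

namespace Groth.Agent.H6.HLVDimOne

variable {R : Type u} [CommRing R] [IsLocalRing R] [IsNoetherianRing R]

theorem exists_prime_ne_maximalIdeal (I : Ideal R) (hI : 1 ≤ ringKrullDim (R ⧸ I)) :
    ∃ Q : Ideal R, Q.IsPrime ∧ I ≤ Q ∧ Q ≠ maximalIdeal R := by
  by_contra hcon
  push Not at hcon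
  have hsub : Subsingleton (PrimeSpectrum.zeroLocus (R := R) (I : Set R)) := by
    refine ⟨fun a b => ?_⟩
    apply Subtype.ext
    apply PrimeSpectrum.ext
    have ha := hcon a.1.asIdeal a.1.2 ((PrimeSpectrum.mem_zeroLocus _ _).mp a.2)
    have hb := hcon b.1.asIdeal b.1.2 ((PrimeSpectrum.mem_zeroLocus _ _).mp b.2)
    rw [ha, hb]
  have h1 : ringKrullDim (R ⧸ I) ≤ 0 := by
    rw [ringKrullDim_quotient]
    exact Order.krullDim_nonpos_of_subsingleton
  exact absurd (hI.trans h1) (by norm_num)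

theorem exists_prime_dim_one (I : Ideal R) (hI : 1 ≤ ringKrullDim (R ⧸ I)) :
    ∃ P : Ideal R, P.IsPrime ∧ I ≤ P ∧ ringKrullDim (R ⧸ P) = 1 := by
  obtain ⟨Q, hQ, hIQ, hQm⟩ := exists_prime_ne_maximalIdeal I hI
  set S : Set (Ideal R) := {Q' | Q'.IsPrime ∧ Q ≤ Q' ∧ Q' ≠ maximalIdeal R} with hS
  have hne : S.Nonempty := ⟨Q, hQ, le_rfl, hQm⟩
  obtain ⟨P, hPS, hPmax⟩ := (set_has_maximal_iff_noetherian (R := R) (M := R)).mpr inferInstance S hne
  obtain ⟨hPprime, hQP, hPm⟩ := hPS
  haveI := hPprime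
  refine ⟨P, hPprime, hIQ.trans hQP, ?_⟩
  have hlt : P < maximalIdeal R := lt_of_le_of_ne (le_maximalIdeal hPprime.ne_top) hPm
  apply le_antisymm
  · have h := Dim.ringKrullDim_quotient_eq_coheight (⟨P, hPprime⟩ : PrimeSpectrum R)
    change ringKrullDim (R ⧸ P) = _ at h
    rw [h]
    have : Order.coheight (⟨P, hPprime⟩ : PrimeSpectrum R) ≤ ((1 : ℕ) : ℕ∞) := by
      rw [Order.coheight_le_coe_iff]
      intro y hy
      have hy' : P < y.asIdeal := hy
      have hym : y.asIdeal = maximalIdeal R := by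
        by_contra hne
        exact hPmax y.asIdeal ⟨y.2, hQP.trans hy'.le, hne⟩ hy'
      have : Order.coheight y = 0 := by
        rw [Order.coheight_eq_zero]
        intro z hz
        have hz' : y.asIdeal ≤ z.asIdeal := hz
        have : z.asIdeal ≤ y.asIdeal := by
          rw [hym]; exact le_maximalIdeal z.2.ne_top
        exact this
      rw [this]
      norm_num
    exact_mod_cast this
  · have h := Dim.ringKrullDim_quotient_add_one_le hlt
    have h5 : (0 : WithBot ℕ∞) ≤ ringKrullDim (R ⧸ maximalIdeal R) :=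
      ringKrullDim_nonneg_of_nontrivial
    calc (1 : WithBot ℕ∞) = 0 + 1 := by simp
      _ ≤ ringKrullDim (R ⧸ maximalIdeal R) + 1 := by gcongr
      _ ≤ _ := h

end Groth.Agent.H6.HLVDimOne
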