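import Mathlib
import Groth.Agent.S3866

/-! A local ring finite over a complete Noetherian local ring is complete. -/

set_option autoImplicit false
universe u
open IsLocalRing

namespace Groth.Agent.H6.HLVComplete

theorem isAdicComplete_of_pow_le {S : Type*} [CommRing S] {M : Type*} [AddCommGroup M] [Module S M]
    (I J : Ideal S) (hJI : J ≤ I) (e : ℕ) (he : I ^ e ≤ J) [IsAdicComplete J M] :
    IsAdicComplete I M := by
  have he' : I ^ (e + 1) ≤ J := (Ideal.pow_le_pow_right (Nat.le_succ e)).trans he
  have hle : ∀ n : ℕ, (I ^ ((e + 1) * n) • ⊤ : Submodule S M) ≤ J ^ n • ⊤ := by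
    intro n
    rw [pow_mul]
    exact Submodule.smul_mono_left (Ideal.pow_right_mono he' n)
  have hle2 : ∀ n : ℕ, (J ^ n • ⊤ : Submodule S M) ≤ I ^ n • ⊤ := fun n =>
    Submodule.smul_mono_left (Ideal.pow_right_mono hJI n)
  have hH : IsHausdorff I M := by
    refine ⟨fun x hx => ?_⟩
    apply IsHausdorff.haus (inferInstance : IsHausdorff J M)
    intro n
    exact (hx ((e + 1) * n)).mono (hle n)
  have hP : IsPrecomplete I M := by
    refine ⟨fun f hf => ?_⟩
    obtain ⟨L, hL⟩ := IsPrecomplete.prec (inferInstance : IsPrecomplete J M)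
      (f := fun n => f ((e + 1) * n)) (by
        intro m n hmn
        exact (hf (Nat.mul_le_mul_left (e + 1) hmn)).mono (hle m))
    refine ⟨L, fun n => ?_⟩
    have h1 : f n ≡ f ((e + 1) * n) [SMOD (I ^ n • ⊤ : Submodule S M)] :=
      hf (Nat.le_mul_of_pos_left n (Nat.succ_pos e))
    exact h1.trans ((hL n).mono (hle2 n))
  exact { toIsHausdorff := hH, toIsPrecomplete := hP }

variable (A : Type u) [CommRing A] [IsNoetherianRing A] [IsLocalRing A]
  [IsAdicComplete (maximalIdeal A) A]
  (B : Type u) [CommRing B] [IsLocalRing B] [Algebra A B] [Module.Finite A B]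

theorem isAdicComplete_of_finite
    (hloc : (maximalIdeal A).map (algebraMap A B) ≤ maximalIdeal B) :
    IsAdicComplete (maximalIdeal B) B := by
  haveI : IsNoetherianRing B := IsNoetherianRing.of_finite A B
  haveI h1 : IsAdicComplete (maximalIdeal A) B := Groth.Agent.S3866.result A (maximalIdeal A) B
  haveI h2 : IsAdicComplete ((maximalIdeal A).map (algebraMap A B)) B :=
    { toIsHausdorff := IsHausdorff.map_algebraMap_iff.mpr h1.toIsHausdorff
      toIsPrecomplete := IsPrecomplete.map_algebraMap_iff.mpr h1.toIsPrecomplete }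
  have hrad : maximalIdeal B ≤ ((maximalIdeal A).map (algebraMap A B)).radical := by
    rw [Ideal.radical_eq_sInf]
    refine le_sInf ?_
    rintro Q ⟨hQ, hQp⟩
    haveI := hQp
    have hc : Q.comap (algebraMap A B) = maximalIdeal A := by
      apply IsLocalRing.eq_maximalIdeal
      have hle : maximalIdeal A ≤ Q.comap (algebraMap A B) := Ideal.map_le_iff_le_comap.mp hQ
      exact (maximalIdeal.isMaximal A).eq_of_le (Ideal.comap_ne_top _ hQp.ne_top) hle ▸
        maximalIdeal.isMaximal A
    have hQmax : Q.IsMaximal := by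
      apply Ideal.isMaximal_of_isIntegral_of_isMaximal_comap (R := A) Q
      rw [hc]; exact maximalIdeal.isMaximal A
    exact (IsLocalRing.eq_maximalIdeal hQmax).ge
  obtain ⟨e, he⟩ := Ideal.exists_pow_le_of_le_radical_of_fg hrad (IsNoetherian.noetherian _)
  exact isAdicComplete_of_pow_le (maximalIdeal B) _ hloc e he

end Groth.Agent.H6.HLVComplete
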