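import Mathlib
import Groth.Agent.S11642
import Groth.Agent.Lib.Helper5.CA.Symb
import Groth.Agent.Lib.Helper6.LCLib
import Groth.Agent.Lib.Helper6.DepthKit

/-! Core case of the Hartshorne–Lichtenbaum vanishing theorem: complete Gorenstein local domain,
prime `P` with `dim R/P = 1`. -/

set_option autoImplicit false
universe u
open IsLocalRing CategoryTheory CategoryTheory.Abelian

namespace Groth.Agent.H6.HLVCore

open Groth.Agent.H5.Symb

section Symb

variable (R : Type u) [CommRing R] [IsDomain R] [IsLocalRing R] [IsNoetherianRing R]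

theorem symb_le_self (P : Ideal R) [P.IsPrime] {m : ℕ} (hm : 1 ≤ m) : symb R P m ≤ P := by
  have h1 : symb R P m ≤ symb R P 1 := symb_antitone R P hm
  refine h1.trans ?_
  unfold symb
  rw [pow_one, Localization.AtPrime.map_eq_maximalIdeal]
  exact (Localization.AtPrime.under_maximalIdeal (I := P)).le

theorem mem_symb_of_mul_mem (P : Ideal R) [P.IsPrime] (m : ℕ) {t r : R} (ht : t ∉ P)
    (h : t * r ∈ symb R P m) : r ∈ symb R P m := by
  unfold symb at h ⊢
  rw [Ideal.mem_comap] at h ⊢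
  rw [map_mul] at h
  have hu : IsUnit (algebraMap R (Localization.AtPrime P) t) :=
    IsLocalization.map_units (Localization.AtPrime P) (⟨t, ht⟩ : P.primeCompl)
  obtain ⟨u, hu⟩ := hu
  have : algebraMap R (Localization.AtPrime P) r =
      ((u⁻¹ : (Localization.AtPrime P)ˣ) : Localization.AtPrime P) *
        (algebraMap R (Localization.AtPrime P) t * algebraMap R (Localization.AtPrime P) r) := by
    rw [← hu, ← mul_assoc, Units.inv_mul, one_mul]
  rw [this]
  exact Ideal.mul_mem_left _ _ h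

end Symb

variable {R : Type u} [CommRing R] [IsDomain R] [LocCoh.IsGorensteinLocalRing R]

theorem depth_pos_quot_symb (P : Ideal R) [P.IsPrime] (hP : P ≠ maximalIdeal R) (m : ℕ) :
    0 < LocCoh.depth R (R ⧸ symb R P m) := by
  obtain ⟨t, htm, htP⟩ : ∃ t, t ∈ maximalIdeal R ∧ t ∉ P := by
    by_contra hcon
    push_neg at hcon
    exact hP (le_antisymm (IsLocalRing.le_maximalIdeal Ideal.IsPrime.ne_top') hcon)
  have hreg : IsSMulRegular (R ⧸ symb R P m) t := by
    intro a b hab
    obtain ⟨a, rfl⟩ := Ideal.Quotient.mk_surjective a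
    obtain ⟨b, rfl⟩ := Ideal.Quotient.mk_surjective b
    simp only [smul_eq_mul] at hab
    have h1 : (Ideal.Quotient.mk (symb R P m)) (t * a) = (Ideal.Quotient.mk (symb R P m)) (t * b) := by
      simpa [Algebra.smul_def] using hab
    rw [Ideal.Quotient.eq] at h1 ⊢
    apply mem_symb_of_mul_mem R P m htP
    rw [mul_sub]
    exact h1
  have h := Groth.Agent.H6.Depth.idealDepth_quotSMulTop_add_one (maximalIdeal R)
    (R ⧸ symb R P m) t htm hreg
  unfold LocCoh.depth
  rw [← h]
  exact lt_of_lt_of_le (by norm_num) (le_add_self)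

theorem core [IsAdicComplete (maximalIdeal R) R] (d : ℕ) (hd : ringKrullDim R = d)
    (P : Ideal R) [P.IsPrime] (hP : ringKrullDim (R ⧸ P) = 1) :
    Subsingleton (LocCoh.H P d R) := by
  have hPm : P ≠ maximalIdeal R := by
    intro h
    have : ringKrullDim (R ⧸ maximalIdeal R) = 0 := ringKrullDim_eq_zero_of_isField
      ((Ideal.Quotient.maximal_ideal_iff_isField_quotient _).mp (maximalIdeal.isMaximal R))
    rw [h, this] at hP
    exact absurd hP (by norm_num)
  refine ⟨fun a b => ?_⟩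
  suffices h0 : ∀ x : LocCoh.H P d R, x = 0 by rw [h0 a, h0 b]
  intro x
  obtain ⟨n, y, rfl⟩ := LC.lcι_surj (I := P) (i := d) (M := ModuleCat.of R R) x
  obtain ⟨m, hnm, hm⟩ := symb_le_pow R P hP n
  rw [LC.lcι_eq_zero_iff]
  have hn1 : n ≤ max m 1 := hnm.trans (le_max_left _ _)
  refine ⟨max m 1, hn1, ?_⟩
  have h1 : P ^ (max m 1) ≤ symb R P (max m 1) := pow_le_symb R P _
  have h2 : symb R P (max m 1) ≤ P ^ n := (symb_antitone R P (le_max_left m 1)).trans hm
  let a : LC.Q P (max m 1) ⟶ ModuleCat.of R (R ⧸ symb R P (max m 1)) :=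
    ModuleCat.ofHom (Submodule.mapQ _ _ LinearMap.id h1)
  let b : ModuleCat.of R (R ⧸ symb R P (max m 1)) ⟶ LC.Q P n :=
    ModuleCat.ofHom (Submodule.mapQ _ _ LinearMap.id h2)
  have hab : LC.proj P hn1 = a ≫ b := by
    ext x
    rfl
  haveI : Nontrivial (R ⧸ symb R P (max m 1)) :=
    Ideal.Quotient.nontrivial_iff.mpr (fun h => Ideal.IsPrime.ne_top'
      (top_le_iff.mp (h ▸ symb_le_self R P (le_max_right m 1))))
  have hsub : Subsingleton (Ext (ModuleCat.of R (R ⧸ symb R P (max m 1))) (ModuleCat.of R R) d) :=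
    (Groth.Agent.S11642.result R d hd (R ⧸ symb R P (max m 1))).mp
      (depth_pos_quot_symb P hPm _)
  rw [hab, ← Ext.mk₀_comp_mk₀,
    Ext.comp_assoc (Ext.mk₀ a) (Ext.mk₀ b) y (zero_add 0) (zero_add d) (by omega)]
  rw [Subsingleton.elim ((Ext.mk₀ b).comp y (zero_add d)) 0, Ext.comp_zero]

end Groth.Agent.H6.HLVCore
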