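import Mathlib
import Groth.Agent.S0342
import Groth.Agent.S0343
import Groth.Agent.S0344
import Groth.Agent.S0558
import Groth.Agent.S9829
import Groth.Agent.S17969

/-! Gorenstein-ness of monogenic finite torsion-free local domains over regular local rings. -/

set_option autoImplicit false
universe u
open IsLocalRing Polynomial

namespace Groth.Agent.H6.HLVGor

theorem gorenstein_of_isField (K : Type u) [CommRing K] (h : IsField K) :
    LocCoh.IsGorensteinLocalRing K := by
  letI := h.toField
  exact Groth.Agent.S0342.result K

theorem gorenstein_of_ringEquiv {A B : Type u} [CommRing A] [CommRing B] (e : A ≃+* B)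
    [LocCoh.IsGorensteinLocalRing A] : LocCoh.IsGorensteinLocalRing B := by
  haveI : IsLocalRing B := e.isLocalRing
  haveI : IsNoetherianRing B := isNoetherianRing_of_ringEquiv A e
  letI : Algebra A B := e.toRingHom.toAlgebra
  haveI : IsLocalHom (algebraMap A B) :=
    ⟨fun a ha => by
      have h1 : IsUnit (e a) := ha
      have := h1.map e.symm
      simpa using this⟩
  haveI : Module.Flat A B := by
    let l : A ≃ₗ[A] B :=
      { e with
        map_smul' := fun r a => by
          show e (r * a) = (algebraMap A B r) * e a
          rw [map_mul]; rfl }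
    exact Module.Flat.of_linearEquiv l.symm
  have hmax : (maximalIdeal A).map (algebraMap A B) = maximalIdeal B := by
    have : ((maximalIdeal A).map (e : A →+* B)).IsMaximal :=
      (maximalIdeal.isMaximal A).map_bijective (e : A →+* B) e.bijective
    exact IsLocalRing.eq_maximalIdeal this
  refine (Groth.Agent.S0344.result A B).mpr ⟨inferInstance, ?_⟩
  apply gorenstein_of_isField
  rw [hmax]
  exact (Ideal.Quotient.maximal_ideal_iff_isField_quotient _).mp (maximalIdeal.isMaximal B)

section Hyper

variable (A : Type u) [CommRing A] [IsRegularLocalRing A]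
  (B : Type u) [CommRing B] [IsDomain B] [IsLocalRing B] [Algebra A B] [Module.Finite A B]
  [NoZeroSMulDivisors A B]

theorem gorenstein_of_monogenic (x : B) (hx : Algebra.adjoin A {x} = ⊤) :
    LocCoh.IsGorensteinLocalRing B := by
  haveI : IsDomain A := Groth.Agent.S0558.result A
  haveI : IsIntegrallyClosed A := Groth.Agent.S9829.result A
  obtain ⟨P, hmonic, -, hker⟩ := Groth.Agent.S17969.result A B x hx
  set φ : A[X] →ₐ[A] B := Polynomial.aeval x with hφ
  have hφsurj : Function.Surjective φ := by
    rw [← AlgHom.range_eq_top, ← Algebra.adjoin_singleton_eq_range_aeval]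
    exact hx
  have hint : Algebra.IsIntegral A B := inferInstance
  -- the maximal ideal of `A` maps into that of `B`
  have hloc : ∀ a : A, a ∈ maximalIdeal A → algebraMap A B a ∈ maximalIdeal B := by
    intro a ha
    have hinj : Function.Injective (algebraMap A B) := FaithfulSMul.algebraMap_injective A B
    obtain ⟨Q, hQmax, hQ⟩ := Ideal.exists_ideal_over_maximal_of_isIntegral (S := B)
      (maximalIdeal A) (by
        rw [(RingHom.injective_iff_ker_eq_bot _).mp hinj]; exact bot_le)
    have : Q = maximalIdeal B := IsLocalRing.eq_maximalIdeal hQmax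
    rw [← this]
    have : a ∈ Q.comap (algebraMap A B) := by rw [hQ]; exact ha
    exact this
  -- the prime `n` of `A[X]`
  set n : Ideal A[X] := (maximalIdeal B).comap (φ : A[X] →+* B) with hn
  haveI hnprime : n.IsPrime := Ideal.comap_isPrime _ _
  have hnC : n.comap (C : A →+* A[X]) = maximalIdeal A := by
    ext a
    rw [Ideal.mem_comap, hn, Ideal.mem_comap]
    have : (φ : A[X] →+* B) (C a) = algebraMap A B a := by
      show Polynomial.aeval x (C a) = _
      rw [Polynomial.aeval_C]
    rw [this]
    constructor
    · intro h
      by_contra hna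
      have hu : IsUnit a := by
        by_contra hu
        exact hna ((IsLocalRing.mem_maximalIdeal a).mpr hu)
      exact (IsLocalRing.mem_maximalIdeal _).mp h (hu.map (algebraMap A B))
    · exact hloc a
  haveI hSreg : IsRegularLocalRing (Localization.AtPrime n) :=
    Polynomial.isRegularLocalRing_localization_atPrime_of_comap_eq_maximalIdeal A n hnC
  haveI hSgor : LocCoh.IsGorensteinLocalRing (Localization.AtPrime n) :=
    Groth.Agent.S0342.result _
  haveI : IsDomain (Localization.AtPrime n) :=
    IsLocalization.isDomain_localization n.primeCompl_le_nonZeroDivisors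
  -- the map from the localization to `B`
  have hunits : ∀ y : n.primeCompl, IsUnit ((φ : A[X] →+* B) y) := by
    intro y
    have : (φ : A[X] →+* B) y ∉ maximalIdeal B := fun h => y.2 h
    by_contra hu
    exact this ((IsLocalRing.mem_maximalIdeal _).mpr hu)
  set ψ : Localization.AtPrime n →+* B := IsLocalization.lift hunits with hψ
  have hψφ : ∀ a : A[X], ψ (algebraMap A[X] (Localization.AtPrime n) a) = φ a := fun a =>
    IsLocalization.lift_eq hunits a
  have hψsurj : Function.Surjective ψ := by
    intro b
    obtain ⟨a, ha⟩ := hφsurj b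
    exact ⟨algebraMap _ _ a, by rw [hψφ, ha]⟩
  set P' : Localization.AtPrime n := algebraMap A[X] (Localization.AtPrime n) P with hP'
  have hφP : φ P = 0 := by
    have : P ∈ RingHom.ker (Polynomial.aeval x : A[X] →ₐ[A] B).toRingHom := by
      rw [hker]; exact Ideal.mem_span_singleton_self P
    exact this
  have hkerψ : RingHom.ker ψ = Ideal.span {P'} := by
    apply le_antisymm
    · intro s hs
      obtain ⟨a, t, rfl⟩ := IsLocalization.exists_mk'_eq n.primeCompl s
      rw [RingHom.mem_ker, IsLocalization.lift_mk'_spec] at hs
      have h0 : φ a = 0 := by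
        have : (φ : A[X] →+* B) a = 0 := by rw [hs, mul_zero]
        exact this
      have ha : a ∈ Ideal.span {P} := by
        rw [← hker]; exact h0
      obtain ⟨c, rfl⟩ := Ideal.mem_span_singleton'.mp ha
      rw [Ideal.mem_span_singleton']
      refine ⟨IsLocalization.mk' _ c t, ?_⟩
      rw [hP', mul_comm, IsLocalization.mul_mk'_eq_mk'_of_mul, mul_comm]
    · rw [Ideal.span_singleton_le_iff_mem, RingHom.mem_ker, hP', hψφ, hφP]
  have hP'max : P' ∈ maximalIdeal (Localization.AtPrime n) := by
    rw [hP', IsLocalization.AtPrime.to_map_mem_maximal_iff (Localization.AtPrime n) n]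
    show (φ : A[X] →+* B) P ∈ maximalIdeal B
    have : (φ : A[X] →+* B) P = 0 := hφP
    rw [this]; exact Ideal.zero_mem _
  have hP'ne : P' ≠ 0 := by
    rw [hP']
    intro h0
    have hinj : Function.Injective (algebraMap A[X] (Localization.AtPrime n)) :=
      IsLocalization.injective _ n.primeCompl_le_nonZeroDivisors
    exact hmonic.ne_zero (hinj (by rw [h0, map_zero]))
  have hP'reg : IsSMulRegular (Localization.AtPrime n) P' := by
    intro a b hab
    simp only [smul_eq_mul] at hab
    exact mul_left_cancel₀ hP'ne hab
  haveI : LocCoh.IsGorensteinLocalRing (Localization.AtPrime n ⧸ Ideal.span {P'}) :=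
    (Groth.Agent.S0343.result _ P' hP'max hP'reg).mp hSgor
  let e : (Localization.AtPrime n ⧸ Ideal.span {P'}) ≃+* B :=
    (Ideal.quotEquivOfEq hkerψ.symm).trans (RingHom.quotientKerEquivOfSurjective hψsurj)
  exact gorenstein_of_ringEquiv (A := Localization.AtPrime n ⧸ Ideal.span {P'}) e

end Hyper

end Groth.Agent.H6.HLVGor
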