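import Mathlib
import Groth.Agent.S0581
import Groth.Agent.S0333
import Groth.Agent.S11614
import Groth.Agent.Lib.Helper5.FSm.PSReg
import Groth.Agent.Lib.Helper2.DimFG
import Groth.Agent.Lib.Helper6.DimLemmas
import Groth.Agent.Lib.Helper6.HLVCore
import Groth.Agent.Lib.Helper6.HLVGor
import Groth.Agent.Lib.Helper6.HLVComplete

/-! Hartshorne–Lichtenbaum vanishing: complete local domain, prime of dimension one. -/

set_option autoImplicit false
universe u
open IsLocalRing CategoryTheory

namespace Groth.Agent.H6.HLVDomain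

section Integral

variable (B R : Type*) [CommRing B] [CommRing R] [Algebra B R] [Algebra.IsIntegral B R]
  [IsLocalRing R]

theorem isLocalRing_of_integral (hinj : Function.Injective (algebraMap B R)) : IsLocalRing B := by
  apply IsLocalRing.of_unique_max_ideal
  refine ⟨(maximalIdeal R).comap (algebraMap B R),
    Ideal.isMaximal_comap_of_isIntegral_of_isMaximal _, ?_⟩
  intro M hM
  obtain ⟨Q, hQmax, hQ⟩ := Ideal.exists_ideal_over_maximal_of_isIntegral (S := R) M
    (by rw [(RingHom.injective_iff_ker_eq_bot _).mp hinj]; exact bot_le)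
  rw [← hQ, IsLocalRing.eq_maximalIdeal hQmax]

theorem comap_maximalIdeal_of_integral [IsLocalRing B] :
    (maximalIdeal R).comap (algebraMap B R) = maximalIdeal B :=
  IsLocalRing.eq_maximalIdeal (Ideal.isMaximal_comap_of_isIntegral_of_isMaximal _)

end Integral

section DimOne

variable {B : Type u} [CommRing B] [IsLocalRing B]

theorem eq_or_eq_maximalIdeal_of_dim_one (p q : Ideal B) [p.IsPrime] [hq : q.IsPrime]
    (hp : ringKrullDim (B ⧸ p) = 1) (hpq : p ≤ q) : q = p ∨ q = maximalIdeal B := by
  by_contra hcon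
  push Not at hcon
  have h1 : p < q := lt_of_le_of_ne hpq (Ne.symm hcon.1)
  have h2 : q < maximalIdeal B := lt_of_le_of_ne (le_maximalIdeal hq.ne_top) hcon.2
  have h3 := Dim.ringKrullDim_quotient_add_one_le h1
  have h4 := Dim.ringKrullDim_quotient_add_one_le h2
  have h5 : (0 : WithBot ℕ∞) ≤ ringKrullDim (B ⧸ maximalIdeal B) :=
    ringKrullDim_nonneg_of_nontrivial
  have h6 : (1 : WithBot ℕ∞) ≤ ringKrullDim (B ⧸ q) := by
    calc (1 : WithBot ℕ∞) = 0 + 1 := by simp
      _ ≤ ringKrullDim (B ⧸ maximalIdeal B) + 1 := by gcongr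
      _ ≤ _ := h4
  have h7 : (2 : WithBot ℕ∞) ≤ ringKrullDim (B ⧸ p) := by
    calc (2 : WithBot ℕ∞) = 1 + 1 := by norm_num
      _ ≤ ringKrullDim (B ⧸ q) + 1 := by gcongr
      _ ≤ _ := h3
  rw [hp] at h7
  exact absurd h7 (by norm_num)

end DimOne

variable {R : Type u} [CommRing R] [IsDomain R] [IsLocalRing R] [IsNoetherianRing R]
  [IsAdicComplete (maximalIdeal R) R]

theorem top_vanish_aux (A : Type u) [CommRing A] [IsRegularLocalRing A]
    [IsAdicComplete (maximalIdeal A) A] [Algebra A R] [Module.Finite A R]
    (hinj : Function.Injective (algebraMap A R)) (d : ℕ) (hd : ringKrullDim R = d)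
    (P : Ideal R) [P.IsPrime] (hP : ringKrullDim (R ⧸ P) = 1) :
    Subsingleton (LocCoh.H P d R) := by
  classical
  haveI : IsDomain A := Groth.Agent.S0558.result A
  haveI : Algebra.IsIntegral A R := inferInstance
  set p : Ideal A := P.comap (algebraMap A R) with hp
  have hfin : (p.primesOver R).Finite := Algebra.QuasiFinite.finite_primesOver p
  -- prime avoidance
  obtain ⟨b, hbP, hb⟩ : ∃ b ∈ P, ∀ Q ∈ p.primesOver R, Q ≠ P → b ∉ Q := by
    by_contra hcon
    push Not at hcon
    set T := hfin.toFinset.erase P with hT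
    have hsub : (P : Set R) ⊆ ⋃ Q ∈ (T : Set (Ideal R)), ((id Q : Ideal R) : Set R) := by
      intro b hb
      obtain ⟨Q, hQ, hQP, hbQ⟩ := hcon b hb
      refine Set.mem_biUnion (x := Q) ?_ hbQ
      rw [hT]
      simp only [Finset.coe_erase, Set.Finite.coe_toFinset, Set.mem_diff, Set.mem_singleton_iff]
      exact ⟨hQ, hQP⟩
    have hprime : ∀ Q ∈ T, Q ≠ P → Q ≠ P → (id Q : Ideal R).IsPrime := by
      intro Q hQ _ _
      rw [hT, Finset.mem_erase, Set.Finite.mem_toFinset] at hQ
      exact hQ.2.1
    obtain ⟨Q, hQT, hPQ⟩ := (Ideal.subset_union_prime (s := T) (f := id) P P hprime).mp hsub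
    rw [hT, Finset.mem_erase, Set.Finite.mem_toFinset] at hQT
    obtain ⟨hQP, hQprime, hQover⟩ := hQT
    have hlt : P < Q := lt_of_le_of_ne hPQ (Ne.symm hQP)
    have := Ideal.IsIntegral.comap_lt_comap (R := A) hlt
    have h2 : p = Q.comap (algebraMap A R) := hQover.over
    rw [← h2] at this
    exact lt_irrefl _ this
  -- the subalgebra `B = A[b]`
  set B : Subalgebra A R := Algebra.adjoin A {b} with hB
  have hbB : b ∈ B := Algebra.subset_adjoin (Set.mem_singleton b)
  haveI : IsNoetherian A R := isNoetherian_of_isNoetherianRing_of_finite A R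
  haveI hBfin : Module.Finite A B := Module.IsNoetherian.finite A (Subalgebra.toSubmodule B)
  have hBinj : Function.Injective (algebraMap B R) := Subtype.val_injective
  haveI : Algebra.IsIntegral B R := Algebra.IsIntegral.tower_top (R := A)
  haveI : Module.Finite B R := Module.Finite.of_restrictScalars_finite A B R
  haveI hBloc : IsLocalRing B := isLocalRing_of_integral B R hBinj
  have hABinj : Function.Injective (algebraMap A B) := by
    intro a a' h
    apply hinj
    have := congrArg (algebraMap B R) h
    rwa [← IsScalarTower.algebraMap_apply, ← IsScalarTower.algebraMap_apply] at this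
  haveI : NoZeroSMulDivisors A B := ⟨fun {c x} h => by
    rw [Algebra.smul_def] at h
    rcases mul_eq_zero.mp h with h | h
    · exact Or.inl (hABinj (by rw [h, map_zero]))
    · exact Or.inr h⟩
  have hadj : Algebra.adjoin A {(⟨b, hbB⟩ : B)} = ⊤ := by
    have := Algebra.adjoin_adjoin_coe_preimage (R := A) (s := ({b} : Set R))
    convert this using 2
    ext x
    simp only [Set.mem_singleton_iff, Set.mem_preimage]
    exact Subtype.ext_iff
  haveI hBgor : LocCoh.IsGorensteinLocalRing B :=
    HLVGor.gorenstein_of_monogenic A B ⟨b, hbB⟩ hadj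
  have hloc : (maximalIdeal A).map (algebraMap A B) ≤ maximalIdeal B := by
    rw [Ideal.map_le_iff_le_comap, comap_maximalIdeal_of_integral A B]
  haveI hBcomp : IsAdicComplete (maximalIdeal B) B :=
    HLVComplete.isAdicComplete_of_finite A B hloc
  have hdB : ringKrullDim B = d := by
    rw [← hd]
    exact (Groth.Agent.H2.DimFG.ringKrullDim_eq_of_integral_injective B R hBinj).symm
  -- the prime `p'` of `B`
  set p' : Ideal B := P.comap (algebraMap B R) with hp'
  haveI : p'.IsPrime := Ideal.comap_isPrime _ _
  have hdp' : ringKrullDim (B ⧸ p') = 1 := by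
    rw [← hP]
    exact (Groth.Agent.H2.DimFG.ringKrullDim_eq_of_integral_injective (B ⧸ p') (R ⧸ P)
      Ideal.algebraMap_quotient_injective).symm
  have hcore : Subsingleton (LocCoh.H p' d B) := HLVCore.core d hdB p' hdp'
  -- vanishing on the `B`-module `R`
  have hvanB : Subsingleton (LocCoh.H p' d R) := by
    refine Groth.Agent.S0333.result B p' d hdB B ?_ hcore R d le_rfl
    intro q _ _ hq
    rw [Module.support_of_noZeroSMulDivisors]
    trivial
  obtain ⟨φ, -⟩ := Groth.Agent.S11614.result B R p' R d
  have hvanR : Subsingleton (LocCoh.H (p'.map (algebraMap B R)) d R) := φ.toEquiv.subsingleton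
  -- compare radicals
  have hrad : (p'.map (algebraMap B R)).radical = P.radical := by
    apply le_antisymm
    · exact Ideal.radical_mono Ideal.map_comap_le
    · rw [Ideal.IsPrime.radical ‹P.IsPrime›, Ideal.radical_eq_sInf]
      refine le_sInf ?_
      rintro Q ⟨hQ, hQprime⟩
      haveI := hQprime
      have hle : p' ≤ Q.comap (algebraMap B R) := Ideal.map_le_iff_le_comap.mp hQ
      rcases eq_or_eq_maximalIdeal_of_dim_one p' (Q.comap (algebraMap B R)) hdp' hle with h | h
      · -- `Q` lies over `p`, contains `b`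
        have hQover : Q ∈ p.primesOver R := by
          refine ⟨hQprime, ⟨?_⟩⟩
          show p = Q.comap (algebraMap A R)
          rw [IsScalarTower.algebraMap_eq A B R, ← Ideal.comap_comap, h, hp', Ideal.comap_comap,
            ← IsScalarTower.algebraMap_eq]
        have hbQ : b ∈ Q := by
          have : (⟨b, hbB⟩ : B) ∈ Q.comap (algebraMap B R) := by
            rw [h, hp', Ideal.mem_comap]; exact hbP
          exact this
        by_contra hPQ
        exact hb Q hQover (fun hQP => hPQ (hQP ▸ le_rfl)) hbQ
      · have hQmax : Q.IsMaximal :=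
          Ideal.isMaximal_of_isIntegral_of_isMaximal_comap (R := B) Q
            (by rw [h]; exact maximalIdeal.isMaximal B)
        rw [IsLocalRing.eq_maximalIdeal hQmax]
        exact le_maximalIdeal Ideal.IsPrime.ne_top'
  have e := (localCohomology.isoOfSameRadical hrad d).app (ModuleCat.of R R)
  exact e.toLinearEquiv.symm.toEquiv.subsingleton

end Groth.Agent.H6.HLVDomain
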