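import Mathlib
import Groth.Agent.S0581
import Groth.Agent.S0333
import Groth.Agent.S1736
import Groth.Agent.S11614
import Groth.Agent.S11617
import Groth.Agent.S0547
import Groth.Agent.S0543
import Groth.Agent.S0325
import Groth.Agent.Lib.Helper5.FSm.PSReg
import Groth.Agent.Lib.Helper6.LCCd
import Groth.Agent.Lib.Helper6.HLVDomain
import Groth.Agent.Lib.Helper6.HLVDimOne

/-! The Hartshorne–Lichtenbaum vanishing theorem. -/

set_option autoImplicit false
universe u
open IsLocalRing CategoryTheory TensorProduct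

namespace Groth.Agent.H6.HLVMain

section Domain

variable {R : Type u} [CommRing R] [IsDomain R] [IsLocalRing R] [IsNoetherianRing R]
  [IsAdicComplete (maximalIdeal R) R]

/-- complete local domain, prime of dimension one -/
theorem top_vanish_prime (d : ℕ) (hd : ringKrullDim R = d) (P : Ideal R) [P.IsPrime]
    (hP : ringKrullDim (R ⧸ P) = 1) : Subsingleton (LocCoh.H P d R) := by
  obtain ⟨Λ, _, n, f, hΛ, hinj, hfin, -⟩ := Groth.Agent.S0581.result R
  have key : ∀ [IsRegularLocalRing Λ] [IsAdicComplete (maximalIdeal Λ) Λ],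
      Subsingleton (LocCoh.H P d R) := by
    intro _ _
    haveI : IsRegularLocalRing (MvPowerSeries (Fin n) Λ) :=
      (Groth.Agent.H5.FSm.isRegularLocalRing_mvPowerSeries Λ n).1
    haveI : IsAdicComplete (maximalIdeal (MvPowerSeries (Fin n) Λ)) (MvPowerSeries (Fin n) Λ) :=
      Groth.Agent.H5.FSm.isAdicComplete_maximalIdeal_mvPowerSeries Λ n
    letI : Algebra (MvPowerSeries (Fin n) Λ) R := f.toAlgebra
    haveI : Module.Finite (MvPowerSeries (Fin n) Λ) R := hfin
    exact HLVDomain.top_vanish_aux (MvPowerSeries (Fin n) Λ) hinj d hd P hP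
  rcases hΛ with hΛ | hΛ
  · letI := hΛ.toField
    haveI : IsAdicComplete (maximalIdeal Λ) Λ := by
      rw [IsLocalRing.maximalIdeal_eq_bot]
      infer_instance
    exact key
  · obtain ⟨hdom, hdvr, hcomp, -⟩ := hΛ
    exact key

/-- **Hartshorne–Lichtenbaum vanishing** for a complete local domain. -/
theorem cd_lt_domain (d : ℕ) (hd : ringKrullDim R = d) (I : Ideal R)
    (hI : 1 ≤ ringKrullDim (R ⧸ I)) (M : Type u) [AddCommGroup M] [Module R M] (i : ℕ)
    (hi : d ≤ i) : Subsingleton (LocCoh.H I i M) := by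
  obtain ⟨P, hPprime, hIP, hP⟩ := HLVDimOne.exists_prime_dim_one I hI
  haveI := hPprime
  have h1 : Subsingleton (LocCoh.H P d R) := top_vanish_prime d hd P hP
  have hcd : ∀ (M : Type u) [AddCommGroup M] [Module R M] (i : ℕ), d ≤ i →
      Subsingleton (LocCoh.H P i M) := by
    intro M _ _ i hi
    refine Groth.Agent.S0333.result R P d hd R ?_ h1 M i hi
    intro q _ _ hq
    rw [Module.support_of_noZeroSMulDivisors]
    trivial
  refine Groth.Agent.S1736.result R d hd I P hIP ?_ hcd M i hi
  rw [IsLocalRing.jacobson_eq_maximalIdeal ⊥ bot_ne_top]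
  exact le_maximalIdeal hPprime.ne_top

end Domain

section Complete

variable {R : Type u} [CommRing R] [IsLocalRing R] [IsNoetherianRing R]
  [IsAdicComplete (maximalIdeal R) R]

theorem top_vanish_quotient (d : ℕ) (I : Ideal R) (q : Ideal R) [q.IsPrime]
    (hq : ringKrullDim (R ⧸ q) = d) (h : 1 ≤ ringKrullDim (R ⧸ (I ⊔ q))) :
    Subsingleton (LocCoh.H I d (R ⧸ q)) := by
  haveI : IsLocalRing (R ⧸ q) :=
    IsLocalRing.of_surjective' (Ideal.Quotient.mk q) Ideal.Quotient.mk_surjective
  have hlh : IsLocalHom (algebraMap R (R ⧸ q)) :=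
    Function.Surjective.isLocalHom (Ideal.Quotient.mk q) Ideal.Quotient.mk_surjective
  have hloc : (maximalIdeal R).map (algebraMap R (R ⧸ q)) ≤ maximalIdeal (R ⧸ q) :=
    ((IsLocalRing.local_hom_TFAE (algebraMap R (R ⧸ q))).out 0 2).mp hlh
  haveI : IsAdicComplete (maximalIdeal (R ⧸ q)) (R ⧸ q) :=
    HLVComplete.isAdicComplete_of_finite R (R ⧸ q) hloc
  have hI' : 1 ≤ ringKrullDim ((R ⧸ q) ⧸ I.map (algebraMap R (R ⧸ q))) := by
    have e := DoubleQuot.quotQuotEquivQuotSup q I
    have : ringKrullDim ((R ⧸ q) ⧸ I.map (Ideal.Quotient.mk q)) = ringKrullDim (R ⧸ (q ⊔ I)) :=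
      ringKrullDim_eq_of_ringEquiv e
    rw [sup_comm] at this
    rw [← this] at h
    exact h
  have h1 : Subsingleton (LocCoh.H (I.map (algebraMap R (R ⧸ q))) d (R ⧸ q)) :=
    cd_lt_domain d hq _ hI' (R ⧸ q) d le_rfl
  obtain ⟨φ, -⟩ := Groth.Agent.S11614.result R (R ⧸ q) I (R ⧸ q) d
  exact φ.symm.toEquiv.subsingleton

/-- **Hartshorne–Lichtenbaum vanishing** for a complete local ring. -/
theorem cd_lt_complete (d : ℕ) (hd : ringKrullDim R = d) (I : Ideal R)
    (h : ∀ p ∈ minimalPrimes R, ringKrullDim (R ⧸ p) = d → 1 ≤ ringKrullDim (R ⧸ (I ⊔ p)))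
    (M : Type u) [AddCommGroup M] [Module R M] (i : ℕ) (hi : d ≤ i) :
    Subsingleton (LocCoh.H I i M) := by
  rcases Nat.lt_or_ge d i with hlt | hge
  · exact Groth.Agent.S0325.result R I d hd.le M i hlt
  have hid : i = d := le_antisymm hge hi
  subst hid
  apply LC.subsingleton_of_forall_finite
  intro F _ _ hF
  refine IsNoetherianRing.induction_on_isQuotientEquivQuotientPrime R hF
    (motive := fun N _ _ _ => Subsingleton (LocCoh.H I i N)) ?_ ?_ ?_
  · intro N _ _ _ _
    exact LC.subsingleton_of_subsingleton I i N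
  · intro N _ _ _ p e
    haveI := p.2
    have hle : ringKrullDim (R ⧸ p.1) ≤ (i : WithBot ℕ∞) := hd ▸ ringKrullDim_quotient_le p.1
    have hq : Subsingleton (LocCoh.H I i (R ⧸ p.1)) := by
      rcases lt_or_eq_of_le hle with hlt | heq
      · apply LC.subsingleton_of_supportDim_lt
        rw [Module.supportDim_quotient_eq_ringKrullDim]
        exact hlt
      · have hmin := Dim.mem_minimalPrimes_of_ringKrullDim_quotient_eq i hd p.1 heq
        exact top_vanish_quotient i I p.1 heq (h p.1 hmin heq)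
    exact LC.subsingleton_of_linearEquiv e.symm hq
  · intro N₁ _ _ _ N₂ _ _ _ N₃ _ _ _ f g hf hg hex h1 h3
    exact LC.subsingleton_of_exact I i f g hf hg hex h1 h3

end Complete

section General

variable {R : Type u} [CommRing R] [IsLocalRing R] [IsNoetherianRing R]

/-- **Hartshorne–Lichtenbaum vanishing theorem.** -/
theorem main (I : Ideal R) (d : ℕ) (hd : ringKrullDim R = d)
    (h : ∀ p ∈ minimalPrimes (AdicCompletion (maximalIdeal R) R),
      ringKrullDim (AdicCompletion (maximalIdeal R) R ⧸ p) = d →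
      1 ≤ ringKrullDim (AdicCompletion (maximalIdeal R) R ⧸
        (I.map (algebraMap R (AdicCompletion (maximalIdeal R) R)) ⊔ p)))
    (M : Type u) [AddCommGroup M] [Module R M] (i : ℕ) (hi : d ≤ i) :
    Subsingleton (LocCoh.H I i M) := by
  set R' := AdicCompletion (maximalIdeal R) R with hR'
  have hfg : (maximalIdeal R).FG := IsNoetherian.noetherian _
  haveI : IsNoetherianRing R' := Groth.Agent.S0543.result R _
  have hdim' : ringKrullDim R' = d := by rw [← hd]; exact Groth.Agent.S0547.result R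
  haveI : IsAdicComplete (maximalIdeal R') R' := by
    rw [AdicCompletion.maximalIdeal_eq_map (R := R)]
    exact (IsAdicComplete.map_algebraMap_iff (R := R) (S := R') (M := R')
      (I := maximalIdeal R)).mpr (AdicCompletion.isAdicComplete hfg)
  set I' := I.map (algebraMap R R') with hI'
  have h1 : Subsingleton (LocCoh.H I' d R') := cd_lt_complete d hdim' I' h R' d le_rfl
  -- descend to `R`
  haveI : Module.FaithfullyFlat R R' := Module.FaithfullyFlat.of_flat_of_isLocalHom
  have h2 : Subsingleton (LocCoh.H I d R) := by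
    obtain ⟨e⟩ := Groth.Agent.S11617.result R R' I R d
    have h3 : Subsingleton (LocCoh.H I' d (R' ⊗[R] R)) :=
      LC.subsingleton_of_linearEquiv (TensorProduct.AlgebraTensorModule.rid R R' R').symm h1
    haveI h4 : Subsingleton (R' ⊗[R] LocCoh.H I d R) := e.toEquiv.subsingleton
    exact Module.FaithfullyFlat.lTensor_reflects_triviality R R' _
  refine Groth.Agent.S0333.result R I d hd R ?_ h2 M i hi
  intro q _ _ hq
  rw [Module.support_of_algebra]
  have : RingHom.ker (algebraMap R R) = ⊥ := by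
    rw [Algebra.algebraMap_self]
    exact RingHom.ker_eq_bot_iff_eq_zero _ |>.mpr (fun x hx => hx)
  rw [this]
  simp

end General

end Groth.Agent.H6.HLVMain
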