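import Mathlib
set_option autoImplicit false
open Topology Filter

namespace Groth.Agent.H6.Conn

/-- An entire function of polynomial growth has vanishing higher derivatives at `0`. -/
lemma iteratedDeriv_eq_zero_of_growth (f : ℂ → ℂ) (hf : Differentiable ℂ f) (C : ℝ) (N : ℕ)
    (hb : ∀ s, ‖f s‖ ≤ C * (1 + ‖s‖) ^ N) (k : ℕ) (hk : N < k) : iteratedDeriv k f 0 = 0 := by
  have hC : 0 ≤ C := by
    have := hb 0
    simp only [norm_zero, add_zero, one_pow, mul_one] at this
    exact (norm_nonneg _).trans this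
  rw [← norm_eq_zero]
  have h1 : ∀ R : ℝ, 1 ≤ R → ‖iteratedDeriv k f 0‖ ≤ (k.factorial * C * 2 ^ N) / R := by
    intro R hR
    have hR0 : 0 < R := lt_of_lt_of_le one_pos hR
    have h2 := Complex.norm_iteratedDeriv_le_of_forall_mem_sphere_norm_le (f := f) (c := 0)
      (C := C * (1 + R) ^ N) k hR0 hf.diffContOnCl (fun z hz => by
        have : ‖z‖ = R := by simpa using hz
        rw [← this]; exact hb z)
    refine h2.trans ?_
    rw [div_le_div_iff₀ (pow_pos hR0 k) hR0]
    have h3 : (1 + R) ^ N ≤ (2 * R) ^ N := by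
      apply pow_le_pow_left₀ (by positivity)
      linarith
    have h4 : R ^ (N + 1) ≤ R ^ k := pow_le_pow_right₀ hR hk
    calc (k.factorial : ℝ) * (C * (1 + R) ^ N) * R
        ≤ k.factorial * (C * (2 * R) ^ N) * R := by gcongr
      _ = k.factorial * C * 2 ^ N * R ^ (N + 1) := by rw [mul_pow]; ring
      _ ≤ k.factorial * C * 2 ^ N * R ^ k := by gcongr
  have h5 : Tendsto (fun R : ℝ => (k.factorial * C * 2 ^ N) / R) atTop (𝓝 0) :=
    tendsto_const_nhds.div_atTop tendsto_id
  have h6 : ‖iteratedDeriv k f 0‖ ≤ 0 :=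
    ge_of_tendsto h5 (by filter_upwards [eventually_ge_atTop (1 : ℝ)] with R hR using h1 R hR)
  exact le_antisymm h6 (norm_nonneg _)

/-- An entire function of polynomial growth is its Taylor polynomial. -/
lemma eq_taylor_of_growth (f : ℂ → ℂ) (hf : Differentiable ℂ f) (C : ℝ) (N : ℕ)
    (hb : ∀ s, ‖f s‖ ≤ C * (1 + ‖s‖) ^ N) (s : ℂ) :
    f s = ∑ n ∈ Finset.range (N + 1), ((n.factorial : ℂ)⁻¹ * iteratedDeriv n f 0) * s ^ n := by
  have h1 := Complex.taylorSeries_eq_of_entire' 0 s hf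
  rw [← h1, tsum_eq_sum (s := Finset.range (N + 1))]
  · simp
  · intro n hn
    rw [Finset.mem_range, not_lt] at hn
    rw [iteratedDeriv_eq_zero_of_growth f hf C N hb n hn]
    simp

/-- An entire function of polynomial growth is a polynomial. -/
lemma exists_polynomial_of_entire_of_growth (f : ℂ → ℂ) (hf : Differentiable ℂ f) (C : ℝ) (N : ℕ)
    (hb : ∀ s, ‖f s‖ ≤ C * (1 + ‖s‖) ^ N) :
    ∃ q : Polynomial ℂ, q.natDegree ≤ N ∧ ∀ s, f s = q.eval s := by
  refine ⟨∑ n ∈ Finset.range (N + 1),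
    Polynomial.C ((n.factorial : ℂ)⁻¹ * iteratedDeriv n f 0) * Polynomial.X ^ n, ?_, ?_⟩
  · apply Polynomial.natDegree_sum_le_of_forall_le
    intro n hn
    refine (Polynomial.natDegree_C_mul_X_pow_le _ _).trans ?_
    exact Nat.lt_succ_iff.1 (Finset.mem_range.1 hn)
  · intro s
    rw [eq_taylor_of_growth f hf C N hb s]
    simp [Polynomial.eval_finsetSum]

end Groth.Agent.H6.Conn

namespace Groth.Agent.H6.Conn

/-- Removable singularities at finitely many points, keeping a continuous bound. -/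
lemma exists_entire_extension (S : Finset ℂ) : ∀ (f : ℂ → ℂ), DifferentiableOn ℂ f (↑S : Set ℂ)ᶜ →
    ∀ (B : ℂ → ℝ), Continuous B → (∀ s ∉ S, ‖f s‖ ≤ B s) →
    ∃ g : ℂ → ℂ, Differentiable ℂ g ∧ (∀ s ∉ S, g s = f s) ∧ ∀ s, ‖g s‖ ≤ B s := by
  classical
  induction S using Finset.induction_on with
  | empty =>
    intro f hf B _ hb
    refine ⟨f, ?_, fun _ _ => rfl, fun s => hb s (by simp)⟩
    have : ((∅ : Finset ℂ) : Set ℂ)ᶜ = Set.univ := by simp
    rw [this] at hf
    exact differentiableOn_univ.1 hf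
  | insert a S' ha ih =>
    intro f hf B hB hb
    set f₁ := Function.update f a (limUnder (𝓝[≠] a) f) with hf₁
    have hO : IsOpen ((↑S' : Set ℂ)ᶜ) := S'.finite_toSet.isClosed.isOpen_compl
    have haO : a ∈ (↑S' : Set ℂ)ᶜ := by simpa using ha
    have hins : ((↑(insert a S') : Set ℂ))ᶜ = (↑S' : Set ℂ)ᶜ \ {a} := by
      ext x; simp [not_or, and_comm]
    have hf₁eq : ∀ x, x ≠ a → f₁ x = f x := fun x hx => Function.update_of_ne hx _ _
    -- differentiability near a
    obtain ⟨M, hM⟩ := (isCompact_closedBall a 1).exists_bound_of_continuousOn hB.continuousOn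
    have hs₀ : (↑S' : Set ℂ)ᶜ ∩ Metric.ball a 1 ∈ 𝓝 a :=
      Filter.inter_mem (hO.mem_nhds haO) (Metric.ball_mem_nhds a one_pos)
    have hd1 : DifferentiableOn ℂ f₁ ((↑S' : Set ℂ)ᶜ ∩ Metric.ball a 1) := by
      apply Complex.differentiableOn_update_limUnder_of_bddAbove hs₀
      · apply hf.mono
        rw [hins]
        rintro x ⟨⟨hx1, -⟩, hx2⟩
        exact ⟨hx1, hx2⟩
      · refine ⟨M, ?_⟩
        rintro _ ⟨x, ⟨⟨hx1, hx2⟩, hx3⟩, rfl⟩
        have hx : x ∉ insert a S' := by
          rw [Finset.mem_insert, not_or]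
          exact ⟨hx3, by simpa using hx1⟩
        refine (hb x hx).trans ((le_abs_self _).trans ?_)
        exact hM x (Metric.ball_subset_closedBall hx2)
    have hdiff : DifferentiableOn ℂ f₁ (↑S' : Set ℂ)ᶜ := by
      intro x hx
      apply DifferentiableAt.differentiableWithinAt
      by_cases hxa : x = a
      · subst hxa
        exact hd1.differentiableAt hs₀
      · have h1 : DifferentiableAt ℂ f x := by
          apply hf.differentiableAt
          rw [hins]
          exact (hO.sdiff isClosed_singleton).mem_nhds ⟨hx, hxa⟩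
        refine h1.congr_of_eventuallyEq ?_
        filter_upwards [isOpen_ne.mem_nhds hxa] with y hy using hf₁eq y hy
    have hbound : ∀ s ∉ S', ‖f₁ s‖ ≤ B s := by
      intro s hs
      by_cases hsa : s = a
      · subst hsa
        have hc : ContinuousAt f₁ s := (hd1.differentiableAt hs₀).continuousAt
        have h1 : Tendsto (fun x => ‖f₁ x‖) (𝓝[≠] s) (𝓝 ‖f₁ s‖) :=
          (hc.norm).tendsto.mono_left nhdsWithin_le_nhds
        have h2 : Tendsto B (𝓝[≠] s) (𝓝 (B s)) := hB.continuousAt.tendsto.mono_left nhdsWithin_le_nhds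
        refine le_of_tendsto_of_tendsto h1 h2 ?_
        have : (↑S' : Set ℂ)ᶜ ∩ {s}ᶜ ∈ 𝓝[≠] s :=
          Filter.inter_mem (mem_nhdsWithin_of_mem_nhds (hO.mem_nhds haO)) self_mem_nhdsWithin
        filter_upwards [this] with x hx
        rw [hf₁eq x hx.2]
        apply hb
        rw [Finset.mem_insert, not_or]
        exact ⟨hx.2, by simpa using hx.1⟩
      · rw [hf₁eq s hsa]
        apply hb
        rw [Finset.mem_insert, not_or]
        exact ⟨hsa, hs⟩
    obtain ⟨g, hg1, hg2, hg3⟩ := ih f₁ hdiff B hB hbound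
    refine ⟨g, hg1, fun s hs => ?_, hg3⟩
    rw [Finset.mem_insert, not_or] at hs
    rw [hg2 s hs.2, hf₁eq s hs.1]

/-- One-variable key lemma: a function holomorphic off a finite set, of polynomial growth, is a
polynomial there. -/
theorem exists_polynomial_of_growth (S : Finset ℂ) (f : ℂ → ℂ)
    (hf : DifferentiableOn ℂ f (↑S : Set ℂ)ᶜ) (C : ℝ) (N : ℕ)
    (hb : ∀ s ∉ S, ‖f s‖ ≤ C * (1 + ‖s‖) ^ N) :
    ∃ q : Polynomial ℂ, q.natDegree ≤ N ∧ ∀ s ∉ S, f s = q.eval s := by
  obtain ⟨g, hg1, hg2, hg3⟩ := exists_entire_extension S f hf (fun s => C * (1 + ‖s‖) ^ N)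
    (by fun_prop) hb
  obtain ⟨q, hq1, hq2⟩ := exists_polynomial_of_entire_of_growth g hg1 C N hg3
  exact ⟨q, hq1, fun s hs => by rw [← hg2 s hs, hq2]⟩

end Groth.Agent.H6.Conn
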