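import Mathlib
import Groth.Agent.Lib.Helper6.Conn1
set_option autoImplicit false
open Topology Filter

namespace Groth.Agent.H6.Conn

/-- Multi-variable key lemma: a function holomorphic on an open set `V` whose complement meets every
line through a base point `v₀` in a finite set, analytic at `v₀`, and of polynomial growth on `V`,
coincides on `V` with the truncation of its Taylor series at `v₀`. -/
theorem eq_partialSum_of_growth {E : Type*} [NormedAddCommGroup E] [NormedSpace ℂ E]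
    (V : Set E) (hV : IsOpen V) (g : E → ℂ) (hg : DifferentiableOn ℂ g V) (v₀ : E) (hv₀ : v₀ ∈ V)
    (p : FormalMultilinearSeries ℂ E ℂ) (r : ENNReal) (hp : HasFPowerSeriesOnBall g p v₀ r)
    (hfin : ∀ β : E, {s : ℂ | v₀ + s • β ∉ V}.Finite) (C : ℝ) (N : ℕ)
    (hb : ∀ v ∈ V, ‖g v‖ ≤ C * (1 + ‖v‖) ^ N) (v : E) (hv : v ∈ V) :
    g v = ∑ k ∈ Finset.range (N + 1), p k (fun _ => v - v₀) := by
  classical
  set β := v - v₀ with hβ
  have hC : 0 ≤ C := by
    have := hb v₀ hv₀
    have h2 : 0 < (1 + ‖v₀‖) ^ N := by positivity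
    by_contra hneg
    push Not at hneg
    have : C * (1 + ‖v₀‖) ^ N < 0 := mul_neg_of_neg_of_pos hneg h2
    linarith [norm_nonneg (g v₀)]
  let h : ℂ → ℂ := fun s => g (v₀ + s • β)
  let S : Finset ℂ := (hfin β).toFinset
  have hS : ∀ s, s ∉ S ↔ v₀ + s • β ∈ V := by
    intro s
    simp [S]
  have hdiff : DifferentiableOn ℂ h (↑S : Set ℂ)ᶜ := by
    intro s hs
    have hs' : v₀ + s • β ∈ V := (hS s).1 (by simpa using hs)
    apply DifferentiableAt.differentiableWithinAt
    have h1 : DifferentiableAt ℂ g (v₀ + s • β) := hg.differentiableAt (hV.mem_nhds hs')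
    have h2 : DifferentiableAt ℂ (fun s : ℂ => v₀ + s • β) s := by fun_prop
    exact h1.comp s h2
  have hbound : ∀ s ∉ S, ‖h s‖ ≤ (C * (1 + ‖v₀‖ + ‖β‖) ^ N) * (1 + ‖s‖) ^ N := by
    intro s hs
    have hs' : v₀ + s • β ∈ V := (hS s).1 hs
    refine (hb _ hs').trans ?_
    rw [mul_assoc, ← mul_pow]
    gcongr
    calc 1 + ‖v₀ + s • β‖ ≤ 1 + (‖v₀‖ + ‖s‖ * ‖β‖) := by
          gcongr
          exact (norm_add_le _ _).trans (by rw [norm_smul])
      _ ≤ (1 + ‖v₀‖ + ‖β‖) * (1 + ‖s‖) := by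
          nlinarith [norm_nonneg v₀, norm_nonneg β, norm_nonneg s,
            mul_nonneg (norm_nonneg v₀) (norm_nonneg s)]
  obtain ⟨f, hf1, hf2, hf3⟩ := exists_entire_extension S h hdiff
    (fun s => (C * (1 + ‖v₀‖ + ‖β‖) ^ N) * (1 + ‖s‖) ^ N) (by fun_prop) hbound
  have h0S : (0 : ℂ) ∉ S := (hS 0).2 (by simpa using hv₀)
  have h1S : (1 : ℂ) ∉ S := (hS 1).2 (by simp [hβ, hv])
  -- the Taylor coefficients of `f` at `0` are those of `g` in the direction `β`
  have hev : h =ᶠ[𝓝 0] f := by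
    have : (↑S : Set ℂ)ᶜ ∈ 𝓝 (0 : ℂ) :=
      S.finite_toSet.isClosed.isOpen_compl.mem_nhds (by simpa using h0S)
    filter_upwards [this] with s hs
    exact (hf2 s (by simpa using hs)).symm
  let u : ℂ →L[ℂ] E := ContinuousLinearMap.toSpanSingleton ℂ β
  have hu1 : u 1 = β := by simp [u]
  have hp0 : HasFPowerSeriesOnBall (fun y => g (v₀ + y)) p (u 0) r := by
    rw [map_zero]
    exact ⟨hp.r_le, hp.r_pos, fun {y} hy => by simpa using hp.hasSum hy⟩
  have hph := hp0.compContinuousLinearMap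
  have hcoef : ∀ n : ℕ, (n.factorial : ℂ) * p n (fun _ => β) = iteratedDeriv n f 0 := by
    intro n
    have h1 := hph.factorial_smul (1 : ℂ) n
    rw [FormalMultilinearSeries.compContinuousLinearMap_apply] at h1
    have h2 : iteratedDeriv n h 0 = iteratedDeriv n f 0 := hev.iteratedDeriv_eq n
    rw [← h2, iteratedDeriv_eq_iteratedFDeriv]
    have h3 : (fun y => g (v₀ + y)) ∘ ⇑u = h := by
      funext s
      simp [h, u]
    rw [h3] at h1
    rw [← h1, nsmul_eq_mul]
    simp only [Function.comp_def, hu1]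
  have htaylor := eq_taylor_of_growth f hf1 _ N hf3 1
  have hg1 : g v = f 1 := by
    rw [hf2 1 h1S]
    simp [h, hβ]
  rw [hg1, htaylor]
  apply Finset.sum_congr rfl
  intro n _
  rw [← hcoef n, one_pow, mul_one, ← mul_assoc,
    inv_mul_cancel₀ (Nat.cast_ne_zero.2 n.factorial_ne_zero), one_mul]

end Groth.Agent.H6.Conn
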