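import Mathlib
set_option autoImplicit false
open Topology Filter

namespace Groth.Agent.H6.Conn

section IFT

variable {E : Type*} [NormedAddCommGroup E] [NormedSpace ℂ E]

/-- The continuous linear equivalence `(x, w) ↦ (x, ℓ (x, w))` when `ℓ (0, 1) ≠ 0`. -/
noncomputable def shearEquiv (ℓ : E × ℂ →L[ℂ] ℂ) (ha : ℓ (0, 1) ≠ 0) : (E × ℂ) ≃L[ℂ] (E × ℂ) :=
  ContinuousLinearEquiv.equivOfInverse
    ((ContinuousLinearMap.fst ℂ E ℂ).prod ℓ)
    ((ContinuousLinearMap.fst ℂ E ℂ).prod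
      ((ℓ (0, 1))⁻¹ • (ContinuousLinearMap.snd ℂ E ℂ -
        ℓ.comp ((ContinuousLinearMap.inl ℂ E ℂ).comp (ContinuousLinearMap.fst ℂ E ℂ)))))
    (by
      rintro ⟨x, w⟩
      have h1 : ℓ (x, w) = ℓ (x, 0) + w * ℓ (0, 1) := by
        have : (x, w) = (x, (0 : ℂ)) + w • ((0 : E), (1 : ℂ)) := by simp
        rw [this, map_add, map_smul, smul_eq_mul]
      simp only [ContinuousLinearMap.prod_apply, ContinuousLinearMap.coe_fst',
        smul_apply, sub_apply, ContinuousLinearMap.coe_snd',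
        ContinuousLinearMap.comp_apply, ContinuousLinearMap.inl_apply, smul_eq_mul, Prod.mk.injEq,
        true_and]
      rw [h1]
      field_simp
      ring)
    (by
      rintro ⟨x, c⟩
      have h1 : ∀ w : ℂ, ℓ (x, w) = ℓ (x, 0) + w * ℓ (0, 1) := by
        intro w
        have : (x, w) = (x, (0 : ℂ)) + w • ((0 : E), (1 : ℂ)) := by simp
        rw [this, map_add, map_smul, smul_eq_mul]
      simp only [ContinuousLinearMap.prod_apply, ContinuousLinearMap.coe_fst',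
        smul_apply, sub_apply, ContinuousLinearMap.coe_snd',
        ContinuousLinearMap.comp_apply, ContinuousLinearMap.inl_apply, smul_eq_mul, Prod.mk.injEq,
        true_and]
      rw [h1]
      field_simp
      ring)

lemma coe_shearEquiv (ℓ : E × ℂ →L[ℂ] ℂ) (ha : ℓ (0, 1) ≠ 0) :
    (shearEquiv ℓ ha : (E × ℂ) →L[ℂ] (E × ℂ)) = (ContinuousLinearMap.fst ℂ E ℂ).prod ℓ := rfl


variable [CompleteSpace E]

/-- Analytic implicit function theorem for one dependent variable. -/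
theorem exists_analytic_root (F : E × ℂ → ℂ) (hF : AnalyticOnNhd ℂ F Set.univ) (p₀ : E × ℂ)
    (h0 : F p₀ = 0) (hd : fderiv ℂ F p₀ (0, 1) ≠ 0) :
    ∃ (S : Set (E × ℂ)) (N : Set E) (φ : E → ℂ), IsOpen S ∧ p₀ ∈ S ∧ IsOpen N ∧ p₀.1 ∈ N ∧
      AnalyticOnNhd ℂ φ N ∧ φ p₀.1 = p₀.2 ∧ (∀ v ∈ N, (v, φ v) ∈ S ∧ F (v, φ v) = 0) ∧
      (∀ p ∈ S, F p = 0 → p.1 ∈ N ∧ φ p.1 = p.2) := by
  let Φ : E × ℂ → E × ℂ := fun p => (p.1, F p)
  have hΦan : AnalyticOnNhd ℂ Φ Set.univ := fun p _ =>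
    (analyticAt_fst).prod (hF p (Set.mem_univ p))
  have hΦd : ∀ p, HasFDerivAt Φ ((ContinuousLinearMap.fst ℂ E ℂ).prod (fderiv ℂ F p)) p := fun p =>
    hasFDerivAt_fst.prodMk (hF p (Set.mem_univ p)).differentiableAt.hasFDerivAt
  have hΦs : HasStrictFDerivAt Φ
      (shearEquiv (fderiv ℂ F p₀) hd : (E × ℂ) →L[ℂ] (E × ℂ)) p₀ := by
    have h1 := (hΦan p₀ (Set.mem_univ p₀)).hasStrictFDerivAt
    rw [(hΦd p₀).fderiv] at h1
    exact h1
  let e := hΦs.toOpenPartialHomeomorph Φ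
  have he : ∀ q, e q = Φ q := fun q => rfl
  have hp0 : p₀ ∈ e.source := hΦs.mem_toOpenPartialHomeomorph_source
  have hcont : Continuous fun p => fderiv ℂ F p (0, 1) := by
    have h1 : Continuous (fderiv ℂ F) := by
      rw [← continuousOn_univ]
      exact hF.fderiv.continuousOn
    exact h1.clm_apply continuous_const
  let S : Set (E × ℂ) := e.source ∩ {p | fderiv ℂ F p (0, 1) ≠ 0}
  have hS : IsOpen S := e.open_source.inter (isOpen_ne_fun hcont continuous_const)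
  let N : Set E := (fun v : E => (v, (0 : ℂ))) ⁻¹' (e.symm.source ∩ e.symm ⁻¹' S)
  have hN : IsOpen N := (e.symm.isOpen_inter_preimage hS).preimage (by fun_prop)
  have hp0' : e p₀ = (p₀.1, 0) := by rw [he]; simp [Φ, h0]
  have hsymm0 : e.symm (p₀.1, 0) = p₀ := by rw [← hp0']; exact e.left_inv hp0
  refine ⟨S, N, fun v => (e.symm (v, 0)).2, hS, ⟨hp0, hd⟩, hN, ?_, ?_, ?_, ?_, ?_⟩
  · refine ⟨?_, ?_⟩
    · change (p₀.1, (0 : ℂ)) ∈ e.target
      rw [← hp0']; exact e.map_source hp0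
    · change e.symm (p₀.1, 0) ∈ S
      rw [hsymm0]; exact ⟨hp0, hd⟩
  · intro v hv
    obtain ⟨hv1, hv2⟩ := hv
    have hv1' : (v, (0 : ℂ)) ∈ e.target := hv1
    have hq : e.symm (v, 0) ∈ S := hv2
    have h1 : AnalyticAt ℂ e.symm (v, 0) := by
      apply e.analyticAt_symm (i := shearEquiv (fderiv ℂ F (e.symm (v, 0))) hq.2) hv1'
      · exact hΦan _ (Set.mem_univ _)
      · exact (hΦd _).fderiv
    have h2 : AnalyticAt ℂ (fun v : E => (v, (0 : ℂ))) v := analyticAt_id.prod analyticAt_const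
    have h3 : AnalyticAt ℂ (fun p : E × ℂ => p.2) (e.symm (v, 0)) := analyticAt_snd
    have h4 : AnalyticAt ℂ (e.symm ∘ fun v : E => (v, (0 : ℂ))) v := h1.comp_of_eq h2 rfl
    exact h3.comp_of_eq h4 rfl
  · change (e.symm (p₀.1, 0)).2 = p₀.2
    rw [hsymm0]
  · intro v hv
    obtain ⟨hv1, hv2⟩ := hv
    have hv1' : (v, (0 : ℂ)) ∈ e.target := hv1
    have hq : e.symm (v, 0) ∈ S := hv2
    have h1 : e (e.symm (v, 0)) = (v, 0) := e.right_inv hv1'
    rw [he] at h1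
    have h2 : (e.symm (v, 0)).1 = v := congrArg Prod.fst h1
    have h3 : F (e.symm (v, 0)) = 0 := congrArg Prod.snd h1
    have h4 : (v, (e.symm (v, 0)).2) = e.symm (v, 0) := by
      ext
      · exact h2.symm
      · rfl
    change (v, (e.symm (v, 0)).2) ∈ S ∧ F (v, (e.symm (v, 0)).2) = 0
    rw [h4]
    exact ⟨hq, h3⟩
  · intro p hp hFp
    have h1 : e p = (p.1, 0) := by rw [he]; simp [Φ, hFp]
    have h2 : e.symm (p.1, 0) = p := by rw [← h1]; exact e.left_inv hp.1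
    refine ⟨⟨?_, ?_⟩, ?_⟩
    · change (p.1, (0 : ℂ)) ∈ e.target
      rw [← h1]; exact e.map_source hp.1
    · change e.symm (p.1, 0) ∈ S
      rw [h2]; exact hp
    · change (e.symm (p.1, 0)).2 = p.2
      rw [h2]

end IFT

section poly

variable {n : ℕ}
open Polynomial

/-- Specialisation of a polynomial with polynomial coefficients at a point `v`. -/
noncomputable abbrev spec (P : (MvPolynomial (Fin n) ℂ)[X]) (v : Fin n → ℂ) : ℂ[X] :=
  P.map (MvPolynomial.eval v)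

/-- The function `(v, w) ↦ P(v, w)`. -/
noncomputable def polyFun (P : (MvPolynomial (Fin n) ℂ)[X]) (p : (Fin n → ℂ) × ℂ) : ℂ :=
  (spec P p.1).eval p.2

lemma polyFun_eq_sum (P : (MvPolynomial (Fin n) ℂ)[X]) (p : (Fin n → ℂ) × ℂ) :
    polyFun P p = ∑ k ∈ Finset.range (P.natDegree + 1),
      MvPolynomial.eval p.1 (P.coeff k) * p.2 ^ k := by
  unfold polyFun spec
  rw [Polynomial.eval_map, Polynomial.eval₂_eq_sum_range]

lemma analyticOnNhd_polyFun (P : (MvPolynomial (Fin n) ℂ)[X]) :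
    AnalyticOnNhd ℂ (polyFun P) Set.univ := by
  have h : polyFun P = fun p => ∑ k ∈ Finset.range (P.natDegree + 1),
      MvPolynomial.eval p.1 (P.coeff k) * p.2 ^ k := funext (polyFun_eq_sum P)
  rw [h]
  intro p _
  apply Finset.analyticAt_fun_sum
  intro k _
  have h1 : AnalyticAt ℂ (fun q : (Fin n → ℂ) × ℂ => MvPolynomial.eval q.1 (P.coeff k)) p :=
    ((AnalyticOnNhd.eval_mvPolynomial (P.coeff k)) p.1 (Set.mem_univ _)).comp_of_eq
      analyticAt_fst rfl
  have h2 : AnalyticAt ℂ (fun q : (Fin n → ℂ) × ℂ => q.2 ^ k) p := analyticAt_snd.pow k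
  exact h1.mul h2

lemma fderiv_polyFun (P : (MvPolynomial (Fin n) ℂ)[X]) (v : Fin n → ℂ) (w : ℂ) :
    fderiv ℂ (polyFun P) (v, w) (0, 1) = (spec P v).derivative.eval w := by
  have h1 : HasFDerivAt (polyFun P) (fderiv ℂ (polyFun P) (v, w)) (v, w) :=
    (analyticOnNhd_polyFun P (v, w) (Set.mem_univ _)).differentiableAt.hasFDerivAt
  have h2 : HasDerivAt (fun z : ℂ => (v, z)) ((0 : Fin n → ℂ), (1 : ℂ)) w :=
    (hasDerivAt_const w v).prodMk (hasDerivAt_id w)
  have h3 := h1.comp_hasDerivAt w h2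
  have h4 : HasDerivAt (fun z : ℂ => (spec P v).eval z) ((spec P v).derivative.eval w) w :=
    (spec P v).hasDerivAt w
  exact h3.unique h4

end poly

end Groth.Agent.H6.Conn
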