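import Mathlib
import Groth.Agent.Lib.Helper6.Conn3
set_option autoImplicit false
open Topology Filter

namespace Groth.Agent.H6.Conn

section sheets

variable {n : ℕ}
open Polynomial

lemma spec_monic (P : (MvPolynomial (Fin n) ℂ)[X]) (hP : P.Monic) (v : Fin n → ℂ) :
    (spec P v).Monic := hP.map _

lemma spec_natDegree (P : (MvPolynomial (Fin n) ℂ)[X]) (hP : P.Monic) (v : Fin n → ℂ) :
    (spec P v).natDegree = P.natDegree := hP.natDegree_map _

lemma card_roots_spec (P : (MvPolynomial (Fin n) ℂ)[X]) (hP : P.Monic) (v : Fin n → ℂ) :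
    Multiset.card (spec P v).roots = P.natDegree := by
  rw [← spec_natDegree P hP v]
  exact Polynomial.splits_iff_card_roots.1 (IsAlgClosed.splits _)

lemma nodup_roots_of_simple (p : ℂ[X]) (hp : p ≠ 0)
    (hs : ∀ w, p.eval w = 0 → p.derivative.eval w ≠ 0) : p.roots.Nodup := by
  rw [Multiset.nodup_iff_count_le_one]
  intro w
  rw [Polynomial.count_roots]
  by_contra hlt
  push Not at hlt
  obtain ⟨h1, h2⟩ := (Polynomial.one_lt_rootMultiplicity_iff_isRoot hp).1 hlt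
  exact hs w h1 h2

/-- Local sheets of the root cover near a point with simple roots. -/
theorem exists_sheets (P : (MvPolynomial (Fin n) ℂ)[X]) (hP : P.Monic) (v₀ : Fin n → ℂ)
    (hs : ∀ w, (spec P v₀).eval w = 0 → (spec P v₀).derivative.eval w ≠ 0) :
    ∃ (N : Set (Fin n → ℂ)) (φ : ℂ → (Fin n → ℂ) → ℂ), IsOpen N ∧ v₀ ∈ N ∧
      (∀ w ∈ (spec P v₀).roots.toFinset, AnalyticOnNhd ℂ (φ w) N ∧ φ w v₀ = w) ∧
      ∀ v ∈ N, Set.InjOn (fun w => φ w v) ((spec P v₀).roots.toFinset : Set ℂ) ∧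
        (spec P v).roots.toFinset = (spec P v₀).roots.toFinset.image (fun w => φ w v) ∧
        (spec P v).roots.Nodup := by
  classical
  set R₀ := (spec P v₀).roots.toFinset with hR₀
  have hne : ∀ v, spec P v ≠ 0 := fun v => (spec_monic P hP v).ne_zero
  have key : ∀ w : ℂ, w ∈ R₀ → ∃ (S : Set ((Fin n → ℂ) × ℂ)) (N : Set (Fin n → ℂ))
      (φ : (Fin n → ℂ) → ℂ), IsOpen S ∧ (v₀, w) ∈ S ∧ IsOpen N ∧ v₀ ∈ N ∧
      AnalyticOnNhd ℂ φ N ∧ φ v₀ = w ∧ (∀ v ∈ N, (v, φ v) ∈ S ∧ polyFun P (v, φ v) = 0) ∧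
      (∀ p ∈ S, polyFun P p = 0 → p.1 ∈ N ∧ φ p.1 = p.2) := by
    intro w hw
    have hw' : (spec P v₀).eval w = 0 := by
      have := (Multiset.mem_toFinset.1 hw)
      exact (Polynomial.mem_roots (hne v₀)).1 this
    exact exists_analytic_root (polyFun P) (analyticOnNhd_polyFun P) (v₀, w) hw'
      (by rw [fderiv_polyFun]; exact hs w hw')
  choose! S N φ hSo hS0 hNo hN0 han hφ0 hroot huniq using key
  have hd : R₀.card = P.natDegree := by
    rw [← card_roots_spec P hP v₀, hR₀]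
    exact Multiset.toFinset_card_of_nodup (nodup_roots_of_simple _ (hne v₀) hs)
  have hev1 : ∀ᶠ v in 𝓝 v₀, ∀ w ∈ R₀, v ∈ N w := by
    rw [eventually_all_finset]
    intro w hw
    exact (hNo w hw).mem_nhds (hN0 w hw)
  have hev2 : ∀ᶠ v in 𝓝 v₀, ∀ w₁ ∈ R₀, ∀ w₂ ∈ R₀, w₁ ≠ w₂ → φ w₁ v ≠ φ w₂ v := by
    rw [eventually_all_finset]
    intro w₁ hw₁
    rw [eventually_all_finset]
    intro w₂ hw₂
    by_cases h12 : w₁ = w₂
    · exact Eventually.of_forall fun v h => absurd h12 h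
    · have c1 : ContinuousAt (φ w₁) v₀ := (han w₁ hw₁ v₀ (hN0 w₁ hw₁)).continuousAt
      have c2 : ContinuousAt (φ w₂) v₀ := (han w₂ hw₂ v₀ (hN0 w₂ hw₂)).continuousAt
      have c3 : ContinuousAt (fun v => φ w₁ v - φ w₂ v) v₀ := c1.sub c2
      have h0 : φ w₁ v₀ - φ w₂ v₀ ≠ 0 := by
        rw [hφ0 w₁ hw₁, hφ0 w₂ hw₂]; exact sub_ne_zero.2 h12
      filter_upwards [c3.eventually_ne h0] with v hv _
      exact sub_ne_zero.1 hv
  obtain ⟨N', hN'sub, hN'o, hN'0⟩ := mem_nhds_iff.1 (hev1.and hev2)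
  refine ⟨N', φ, hN'o, hN'0, fun w hw => ⟨(han w hw).mono fun v hv => (hN'sub hv).1 w hw,
    hφ0 w hw⟩, fun v hv => ?_⟩
  obtain ⟨hv1, hv2⟩ := hN'sub hv
  have hinj : Set.InjOn (fun w => φ w v) (R₀ : Set ℂ) := by
    intro w₁ hw₁ w₂ hw₂ h
    by_contra hne'
    exact hv2 w₁ hw₁ w₂ hw₂ hne' h
  have hsub : R₀.image (fun w => φ w v) ⊆ (spec P v).roots.toFinset := by
    intro z hz
    obtain ⟨w, hw, rfl⟩ := Finset.mem_image.1 hz
    rw [Multiset.mem_toFinset, Polynomial.mem_roots (hne v)]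
    exact (hroot w hw v (hv1 w hw)).2
  have hcard1 : (R₀.image (fun w => φ w v)).card = P.natDegree := by
    rw [Finset.card_image_of_injOn hinj, hd]
  have hcard2 : (spec P v).roots.toFinset.card ≤ Multiset.card (spec P v).roots :=
    Multiset.toFinset_card_le _
  have hcard3 : Multiset.card (spec P v).roots = P.natDegree := card_roots_spec P hP v
  have heq : R₀.image (fun w => φ w v) = (spec P v).roots.toFinset :=
    Finset.eq_of_subset_of_card_le hsub (by rw [hcard1]; exact hcard2.trans hcard3.le)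
  refine ⟨hinj, heq.symm, ?_⟩
  rw [← Multiset.toFinset_card_eq_card_iff_nodup, ← heq, hcard1, hcard3]

end sheets

end Groth.Agent.H6.Conn
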