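import Mathlib
import Groth.Agent.Lib.Helper6.Conn4
set_option autoImplicit false
open Topology Filter

namespace Groth.Agent.H6.Conn

section qf

variable {n : ℕ}
open Polynomial

/-- The root cover over the locus `δ ≠ 0`. -/
def Wset (P : (MvPolynomial (Fin n) ℂ)[X]) (δ : MvPolynomial (Fin n) ℂ) :
    Set ((Fin n → ℂ) × ℂ) :=
  {p | MvPolynomial.eval p.1 δ ≠ 0 ∧ polyFun P p = 0}

open Classical in
/-- The value at `c` of the product of `T - z` over the roots `z` of `P(v, T)` with `(v, z) ∈ u`. -/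
noncomputable def qf (P : (MvPolynomial (Fin n) ℂ)[X]) (u : Set ((Fin n → ℂ) × ℂ)) (c : ℂ)
    (v : Fin n → ℂ) : ℂ :=
  ∏ z ∈ (spec P v).roots.toFinset.filter (fun z => (v, z) ∈ u), (c - z)

lemma isOpen_nonvanishing (δ : MvPolynomial (Fin n) ℂ) :
    IsOpen {v : Fin n → ℂ | MvPolynomial.eval v δ ≠ 0} :=
  isOpen_ne_fun (MvPolynomial.continuous_eval δ) continuous_const

theorem analyticOnNhd_qf (P : (MvPolynomial (Fin n) ℂ)[X]) (hP : P.Monic)
    (δ : MvPolynomial (Fin n) ℂ)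
    (hsep : ∀ v w, MvPolynomial.eval v δ ≠ 0 → (spec P v).eval w = 0 →
      (spec P v).derivative.eval w ≠ 0)
    (u u' : Set ((Fin n → ℂ) × ℂ)) (hu : IsOpen u) (hu' : IsOpen u')
    (hcov : Wset P δ ⊆ u ∪ u') (hdisj : Wset P δ ∩ (u ∩ u') = ∅) (c : ℂ) :
    AnalyticOnNhd ℂ (qf P u c) {v | MvPolynomial.eval v δ ≠ 0} := by
  classical
  intro v₀ hv₀
  have hv₀' : MvPolynomial.eval v₀ δ ≠ 0 := hv₀
  obtain ⟨N, φ, hNo, hN0, hφ, hN⟩ := exists_sheets P hP v₀ (fun w => hsep v₀ w hv₀')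
  set R₀ := (spec P v₀).roots.toFinset with hR₀
  have hne : ∀ v, spec P v ≠ 0 := fun v => (spec_monic P hP v).ne_zero
  have hV : ∀ᶠ v in 𝓝 v₀, v ∈ N ∧ MvPolynomial.eval v δ ≠ 0 :=
    Filter.Eventually.and (hNo.mem_nhds hN0) ((isOpen_nonvanishing δ).mem_nhds hv₀')
  have hmem : ∀ᶠ v in 𝓝 v₀, ∀ w ∈ R₀, ((v, φ w v) ∈ u ↔ (v₀, w) ∈ u) := by
    rw [eventually_all_finset]
    intro w hw
    have hc : ContinuousAt (fun v => (v, φ w v)) v₀ :=
      continuousAt_id.prodMk ((hφ w hw).1 v₀ hN0).continuousAt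
    have hval : (fun v => (v, φ w v)) v₀ = (v₀, w) := by simp [(hφ w hw).2]
    have hwW : (v₀, w) ∈ Wset P δ := by
      refine ⟨hv₀', ?_⟩
      have := (Multiset.mem_toFinset.1 hw)
      exact (Polynomial.mem_roots (hne v₀)).1 this
    by_cases hwu : (v₀, w) ∈ u
    · have : ∀ᶠ v in 𝓝 v₀, (v, φ w v) ∈ u :=
        hc.eventually (by rw [hval]; exact hu.mem_nhds hwu)
      filter_upwards [this] with v hv
      exact ⟨fun _ => hwu, fun _ => hv⟩
    · have hwu' : (v₀, w) ∈ u' := (hcov hwW).resolve_left hwu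
      have : ∀ᶠ v in 𝓝 v₀, (v, φ w v) ∈ u' :=
        hc.eventually (by rw [hval]; exact hu'.mem_nhds hwu')
      filter_upwards [this, hV] with v hv hvV
      refine ⟨fun h => ?_, fun h => absurd h hwu⟩
      exfalso
      have hroot : (spec P v).eval (φ w v) = 0 := by
        have h1 : φ w v ∈ (spec P v).roots.toFinset := by
          rw [(hN v hvV.1).2.1]
          exact Finset.mem_image_of_mem _ hw
        exact (Polynomial.mem_roots (hne v)).1 (Multiset.mem_toFinset.1 h1)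
      have hW : (v, φ w v) ∈ Wset P δ := ⟨hvV.2, hroot⟩
      have : (v, φ w v) ∈ Wset P δ ∩ (u ∩ u') := ⟨hW, h, hv⟩
      rw [hdisj] at this
      exact this
  have hEq : qf P u c =ᶠ[𝓝 v₀]
      fun v => ∏ w ∈ R₀.filter (fun w => (v₀, w) ∈ u), (c - φ w v) := by
    filter_upwards [hV, hmem] with v hvV hvm
    obtain ⟨hinj, himg, -⟩ := hN v hvV.1
    unfold qf
    rw [himg, Finset.filter_image]
    have hfilt : R₀.filter (fun a => (v, φ a v) ∈ u) = R₀.filter (fun w => (v₀, w) ∈ u) :=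
      Finset.filter_congr hvm
    rw [hfilt, Finset.prod_image]
    intro w₁ hw₁ w₂ hw₂ h
    exact hinj (Finset.mem_filter.1 hw₁).1 (Finset.mem_filter.1 hw₂).1 h
  refine AnalyticAt.congr ?_ hEq.symm
  apply Finset.analyticAt_fun_prod
  intro w hw
  exact analyticAt_const.sub ((hφ w (Finset.mem_filter.1 hw).1).1 v₀ hN0)

end qf

end Groth.Agent.H6.Conn
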