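import Mathlib
import Groth.Agent.Lib.Helper6.Conn5
import Groth.Agent.Lib.Helper6.An15a
set_option autoImplicit false
open Topology Filter

namespace Groth.Agent.H6.Conn

section growth

variable {E : Type*} [NormedAddCommGroup E]

/-- Real functions of polynomial growth. -/
def PolyGrowth (f : E → ℝ) : Prop :=
  ∃ (C : ℝ) (N : ℕ), 0 ≤ C ∧ ∀ v, f v ≤ C * (1 + ‖v‖) ^ N

lemma one_le_one_add_norm (v : E) : 1 ≤ 1 + ‖v‖ := le_add_of_nonneg_right (norm_nonneg v)

lemma PolyGrowth.const (c : ℝ) : PolyGrowth (fun _ : E => c) :=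
  ⟨|c|, 0, abs_nonneg c, fun v => by simpa using le_abs_self c⟩

lemma PolyGrowth.mono {f g : E → ℝ} (hg : PolyGrowth g) (h : ∀ v, f v ≤ g v) : PolyGrowth f := by
  obtain ⟨C, N, hC, hb⟩ := hg
  exact ⟨C, N, hC, fun v => (h v).trans (hb v)⟩

lemma pow_le_pow_max_left (v : E) (N M : ℕ) : (1 + ‖v‖) ^ N ≤ (1 + ‖v‖) ^ max N M :=
  pow_le_pow_right₀ (one_le_one_add_norm v) (le_max_left _ _)

lemma pow_le_pow_max_right (v : E) (N M : ℕ) : (1 + ‖v‖) ^ M ≤ (1 + ‖v‖) ^ max N M :=
  pow_le_pow_right₀ (one_le_one_add_norm v) (le_max_right _ _)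

lemma PolyGrowth.add {f g : E → ℝ} (hf : PolyGrowth f) (hg : PolyGrowth g) :
    PolyGrowth (fun v => f v + g v) := by
  obtain ⟨C, N, hC, hb⟩ := hf
  obtain ⟨D, M, hD, hd⟩ := hg
  refine ⟨C + D, max N M, add_nonneg hC hD, fun v => ?_⟩
  rw [add_mul]
  exact add_le_add ((hb v).trans (mul_le_mul_of_nonneg_left (pow_le_pow_max_left v N M) hC))
    ((hd v).trans (mul_le_mul_of_nonneg_left (pow_le_pow_max_right v N M) hD))

lemma PolyGrowth.mul {f g : E → ℝ} (hf : PolyGrowth f) (hg : PolyGrowth g)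
    (hf0 : ∀ v, 0 ≤ f v) (hg0 : ∀ v, 0 ≤ g v) :
    PolyGrowth (fun v => f v * g v) := by
  obtain ⟨C, N, hC, hb⟩ := hf
  obtain ⟨D, M, hD, hd⟩ := hg
  refine ⟨C * D, N + M, mul_nonneg hC hD, fun v => ?_⟩
  calc f v * g v ≤ (C * (1 + ‖v‖) ^ N) * (D * (1 + ‖v‖) ^ M) :=
        mul_le_mul (hb v) (hd v) (hg0 v) ((hf0 v).trans (hb v))
    _ = C * D * (1 + ‖v‖) ^ (N + M) := by rw [pow_add]; ring

lemma PolyGrowth.pow {f : E → ℝ} (hf : PolyGrowth f) (hf0 : ∀ v, 0 ≤ f v) (k : ℕ) :
    PolyGrowth (fun v => f v ^ k) := by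
  induction k with
  | zero => simpa using PolyGrowth.const (E := E) 1
  | succ k ih =>
    simp only [pow_succ]
    exact ih.mul hf (fun v => pow_nonneg (hf0 v) k) hf0

lemma PolyGrowth.sum {ι : Type*} (s : Finset ι) (f : ι → E → ℝ) (hf : ∀ i ∈ s, PolyGrowth (f i)) :
    PolyGrowth (fun v => ∑ i ∈ s, f i v) := by
  classical
  induction s using Finset.induction_on with
  | empty => simpa using PolyGrowth.const (E := E) 0
  | insert a s ha ih =>
    simp only [Finset.sum_insert ha]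
    exact (hf a (Finset.mem_insert_self a s)).add
      (ih fun i hi => hf i (Finset.mem_insert_of_mem hi))

lemma PolyGrowth.norm : PolyGrowth (fun v : E => ‖v‖) :=
  ⟨1, 1, zero_le_one, fun v => by simp⟩

end growth

section growth2

variable {n : ℕ}
open Polynomial

lemma polyGrowth_eval (G : MvPolynomial (Fin n) ℂ) :
    PolyGrowth (fun v : Fin n → ℂ => ‖MvPolynomial.eval v G‖) := by
  induction G using MvPolynomial.induction_on with
  | C a => simpa using PolyGrowth.const (E := Fin n → ℂ) ‖a‖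
  | add p q hp hq =>
    refine (hp.add hq).mono fun v => ?_
    rw [map_add]
    exact norm_add_le _ _
  | mul_X p i hp =>
    have h1 : PolyGrowth (fun v : Fin n → ℂ => ‖v i‖) :=
      PolyGrowth.norm.mono fun v => norm_le_pi_norm v i
    refine (hp.mul h1 (fun v => norm_nonneg _) (fun v => norm_nonneg _)).mono fun v => ?_
    rw [map_mul, MvPolynomial.eval_X, norm_mul]

/-- The roots of `P(v, T)` grow at most polynomially in `v`. -/
lemma exists_root_growth (P : (MvPolynomial (Fin n) ℂ)[X]) (hP : P.Monic) :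
    ∃ B : (Fin n → ℂ) → ℝ, PolyGrowth B ∧ (∀ v, 1 ≤ B v) ∧
      ∀ v z, (spec P v).eval z = 0 → ‖z‖ ≤ B v := by
  refine ⟨fun v => 1 + ∑ k ∈ Finset.range P.natDegree, ‖MvPolynomial.eval v (P.coeff k)‖,
    (PolyGrowth.const 1).add (PolyGrowth.sum _ _ fun k _ => polyGrowth_eval _), fun v => ?_,
    fun v z hz => ?_⟩
  · exact le_add_of_nonneg_right (Finset.sum_nonneg fun k _ => norm_nonneg _)
  · have h := Groth.Agent.H6.An.norm_le_of_monic_root (spec P v) (spec_monic P hP v) z hz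
    rw [spec_natDegree P hP v] at h
    simpa [spec, Polynomial.coeff_map] using h

lemma polyGrowth_qf (P : (MvPolynomial (Fin n) ℂ)[X]) (hP : P.Monic)
    (u : Set ((Fin n → ℂ) × ℂ)) (c : ℂ) : PolyGrowth (fun v => ‖qf P u c v‖) := by
  classical
  obtain ⟨B, hB, hB1, hBr⟩ := exists_root_growth P hP
  have h1 : PolyGrowth (fun v => (‖c‖ + B v) ^ P.natDegree) :=
    ((PolyGrowth.const ‖c‖).add hB).pow (fun v => by have := hB1 v; positivity) _
  refine h1.mono fun v => ?_
  have hne : spec P v ≠ 0 := (spec_monic P hP v).ne_zero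
  unfold qf
  rw [norm_prod]
  have h2 : ∀ z ∈ (spec P v).roots.toFinset.filter (fun z => (v, z) ∈ u), ‖c - z‖ ≤ ‖c‖ + B v := by
    intro z hz
    have hz' : (spec P v).eval z = 0 :=
      (Polynomial.mem_roots hne).1 (Multiset.mem_toFinset.1 (Finset.mem_filter.1 hz).1)
    exact (norm_sub_le _ _).trans (add_le_add_right (hBr v z hz') _)
  have h3 := Finset.prod_le_prod (fun z _ => norm_nonneg (c - z)) h2
  rw [Finset.prod_const] at h3
  refine h3.trans ?_
  have h4 : 1 ≤ ‖c‖ + B v := by have := hB1 v; have := norm_nonneg c; linarith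
  apply pow_le_pow_right₀ h4
  calc ((spec P v).roots.toFinset.filter (fun z => (v, z) ∈ u)).card
      ≤ (spec P v).roots.toFinset.card := Finset.card_filter_le _ _
    _ ≤ Multiset.card (spec P v).roots := Multiset.toFinset_card_le _
    _ = P.natDegree := card_roots_spec P hP v

end growth2

end Groth.Agent.H6.Conn
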