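import Mathlib
import Groth.Agent.Lib.Helper6.Conn6
import Groth.Agent.Lib.Helper6.Conn2
import Groth.Agent.Lib.Helper6.An9
set_option autoImplicit false
open Topology Filter

namespace Groth.Agent.H6.Conn

section polynomiality

variable {n : ℕ}
open Polynomial

lemma exists_mvPolynomial_of_multilinear (k : ℕ)
    (f : ContinuousMultilinearMap ℂ (fun _ : Fin k => Fin n → ℂ) ℂ) (v₀ : Fin n → ℂ) :
    ∃ G : MvPolynomial (Fin n) ℂ, ∀ v, f (fun _ => v - v₀) = MvPolynomial.eval v G := by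
  classical
  refine ⟨∑ r : Fin k → Fin n, MvPolynomial.C (f fun i => Pi.single (r i) (1 : ℂ)) *
    ∏ i, (MvPolynomial.X (r i) - MvPolynomial.C (v₀ (r i))), fun v => ?_⟩
  have hx : ∀ x : Fin n → ℂ, x = ∑ j, x j • (Pi.single j (1 : ℂ) : Fin n → ℂ) := by
    intro x
    funext i
    simp [Finset.sum_apply, Pi.single_apply]
  have h1 : (fun _ : Fin k => v - v₀) =
      fun _ : Fin k => ∑ j, (v - v₀) j • (Pi.single j (1 : ℂ) : Fin n → ℂ) := by
    funext i
    exact hx (v - v₀)
  rw [h1, ContinuousMultilinearMap.map_sum]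
  rw [map_sum]
  apply Finset.sum_congr rfl
  intro r _
  rw [ContinuousMultilinearMap.map_smul_univ]
  simp only [map_mul, MvPolynomial.eval_C, map_prod, map_sub, MvPolynomial.eval_X, smul_eq_mul,
    Pi.sub_apply]
  ring

lemma finite_line_compl (δ : MvPolynomial (Fin n) ℂ) (v₀ : Fin n → ℂ)
    (hv₀ : MvPolynomial.eval v₀ δ ≠ 0) (β : Fin n → ℂ) :
    {s : ℂ | v₀ + s • β ∉ {v | MvPolynomial.eval v δ ≠ 0}}.Finite := by
  have hline : ∀ s : ℂ, Groth.Agent.H6.An.linePt v₀ (v₀ + β) s = v₀ + s • β := by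
    intro s
    funext i
    simp [Groth.Agent.H6.An.linePt]
  let L : ℂ[X] := Groth.Agent.H6.An.lineCoeff v₀ (v₀ + β) δ
  have hL : ∀ s, L.eval s = MvPolynomial.eval (v₀ + s • β) δ := by
    intro s
    rw [Groth.Agent.H6.An.eval_lineCoeff, hline]
    rfl
  have hL0 : L ≠ 0 := by
    intro h0
    have := hL 0
    rw [h0] at this
    simp at this
    exact hv₀ this.symm
  refine (Polynomial.finite_setOfPred_isRoot hL0).subset ?_
  intro s hs
  simp only [Set.mem_ofPred_eq, not_not] at hs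
  change L.eval s = 0
  rw [hL, hs]

/-- A function analytic on the nonvanishing locus of a nonzero polynomial `δ` and of polynomial
growth there coincides on that locus with a polynomial function. -/
theorem exists_mvPolynomial_of_growth (δ : MvPolynomial (Fin n) ℂ) (v₀ : Fin n → ℂ)
    (hv₀ : MvPolynomial.eval v₀ δ ≠ 0) (g : (Fin n → ℂ) → ℂ)
    (hg : AnalyticOnNhd ℂ g {v | MvPolynomial.eval v δ ≠ 0})
    (hb : PolyGrowth (fun v => ‖g v‖)) :
    ∃ G : MvPolynomial (Fin n) ℂ, ∀ v, MvPolynomial.eval v δ ≠ 0 → g v = MvPolynomial.eval v G := by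
  obtain ⟨C, N, -, hC⟩ := hb
  obtain ⟨p, hp⟩ := hg v₀ hv₀
  obtain ⟨r, hr⟩ := hp
  have key := eq_partialSum_of_growth {v | MvPolynomial.eval v δ ≠ 0} (isOpen_nonvanishing δ) g
    hg.differentiableOn v₀ hv₀ p r hr (finite_line_compl δ v₀ hv₀) C N (fun v _ => hC v)
  choose G hG using fun k => exists_mvPolynomial_of_multilinear k (p k) v₀
  refine ⟨∑ k ∈ Finset.range (N + 1), G k, fun v hv => ?_⟩
  rw [key v hv, map_sum]
  exact Finset.sum_congr rfl fun k _ => hG k v

end polynomiality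

end Groth.Agent.H6.Conn
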