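import Mathlib
import Groth.Agent.Lib.Helper6.Conn7
set_option autoImplicit false
open Topology Filter

namespace Groth.Agent.H6.Conn

section final

variable {n : ℕ}
open Polynomial

open Classical in
/-- The product of `T - z` over the roots `z` of `P(v, T)` with `(v, z) ∈ u`. -/
noncomputable def qpoly (P : (MvPolynomial (Fin n) ℂ)[X]) (u : Set ((Fin n → ℂ) × ℂ))
    (v : Fin n → ℂ) : ℂ[X] :=
  ∏ z ∈ (spec P v).roots.toFinset.filter (fun z => (v, z) ∈ u), (X - C z)

lemma eval_qpoly (P : (MvPolynomial (Fin n) ℂ)[X]) (u : Set ((Fin n → ℂ) × ℂ))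
    (v : Fin n → ℂ) (c : ℂ) : (qpoly P u v).eval c = qf P u c v := by
  unfold qpoly qf
  rw [Polynomial.eval_prod]
  simp

open Classical in
lemma natDegree_qpoly (P : (MvPolynomial (Fin n) ℂ)[X]) (u : Set ((Fin n → ℂ) × ℂ))
    (v : Fin n → ℂ) : (qpoly P u v).natDegree =
      ((spec P v).roots.toFinset.filter (fun z => (v, z) ∈ u)).card := by
  unfold qpoly
  rw [Polynomial.natDegree_prod_of_monic _ _ (fun z _ => Polynomial.monic_X_sub_C z)]
  simp

lemma natDegree_qpoly_le (P : (MvPolynomial (Fin n) ℂ)[X]) (hP : P.Monic)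
    (u : Set ((Fin n → ℂ) × ℂ)) (v : Fin n → ℂ) : (qpoly P u v).natDegree ≤ P.natDegree := by
  classical
  rw [natDegree_qpoly]
  calc ((spec P v).roots.toFinset.filter (fun z => (v, z) ∈ u)).card
      ≤ (spec P v).roots.toFinset.card := Finset.card_filter_le _ _
    _ ≤ Multiset.card (spec P v).roots := Multiset.toFinset_card_le _
    _ = P.natDegree := card_roots_spec P hP v

lemma qpoly_monic (P : (MvPolynomial (Fin n) ℂ)[X]) (u : Set ((Fin n → ℂ) × ℂ))
    (v : Fin n → ℂ) : (qpoly P u v).Monic := by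
  unfold qpoly
  exact Polynomial.monic_prod_of_monic _ _ fun z _ => Polynomial.monic_X_sub_C z

lemma qpoly_mul_qpoly (P : (MvPolynomial (Fin n) ℂ)[X]) (hP : P.Monic)
    (δ : MvPolynomial (Fin n) ℂ)
    (hsep : ∀ v w, MvPolynomial.eval v δ ≠ 0 → (spec P v).eval w = 0 →
      (spec P v).derivative.eval w ≠ 0)
    (u u' : Set ((Fin n → ℂ) × ℂ))
    (hcov : Wset P δ ⊆ u ∪ u') (hdisj : Wset P δ ∩ (u ∩ u') = ∅)
    (v : Fin n → ℂ) (hv : MvPolynomial.eval v δ ≠ 0) :
    qpoly P u v * qpoly P u' v = spec P v := by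
  classical
  have hne : spec P v ≠ 0 := (spec_monic P hP v).ne_zero
  have hnd : (spec P v).roots.Nodup := nodup_roots_of_simple _ hne (fun w => hsep v w hv)
  have h1 : (spec P v).roots.toFinset.filter (fun z => (v, z) ∈ u') =
      (spec P v).roots.toFinset.filter (fun z => ¬ (v, z) ∈ u) := by
    apply Finset.filter_congr
    intro z hz
    have hz' : (spec P v).eval z = 0 :=
      (Polynomial.mem_roots hne).1 (Multiset.mem_toFinset.1 hz)
    have hW : (v, z) ∈ Wset P δ := ⟨hv, hz'⟩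
    constructor
    · intro h' h
      have : (v, z) ∈ Wset P δ ∩ (u ∩ u') := ⟨hW, h, h'⟩
      rw [hdisj] at this
      exact this
    · intro h
      exact (hcov hW).resolve_left h
  unfold qpoly
  rw [h1, Finset.prod_filter_mul_prod_filter_not]
  have h2 := Polynomial.prod_multiset_X_sub_C_of_monic_of_roots_card_eq (spec_monic P hP v)
    (by rw [card_roots_spec P hP v, spec_natDegree P hP v])
  conv_rhs => rw [← h2]
  rw [Finset.prod_eq_multiset_prod, Multiset.toFinset_val, Multiset.dedup_eq_self.2 hnd]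

lemma eq_of_eval_eq_on (δ : MvPolynomial (Fin n) ℂ) (hδ : δ ≠ 0) (G₁ G₂ : MvPolynomial (Fin n) ℂ)
    (h : ∀ v, MvPolynomial.eval v δ ≠ 0 → MvPolynomial.eval v G₁ = MvPolynomial.eval v G₂) :
    G₁ = G₂ := by
  have h1 : (G₁ - G₂) * δ = 0 := by
    apply MvPolynomial.funext
    intro v
    rw [map_mul, map_sub, map_zero]
    by_cases hv : MvPolynomial.eval v δ = 0
    · rw [hv, mul_zero]
    · rw [h v hv, sub_self, zero_mul]
  rcases mul_eq_zero.1 h1 with h2 | h2
  · exact sub_eq_zero.1 h2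
  · exact absurd h2 hδ

lemma exists_nonvanishing (δ : MvPolynomial (Fin n) ℂ) (hδ : δ ≠ 0) :
    ∃ v₀ : Fin n → ℂ, MvPolynomial.eval v₀ δ ≠ 0 := by
  by_contra h
  push Not at h
  apply hδ
  apply MvPolynomial.funext
  intro v
  rw [h v, map_zero]

/-- There is a polynomial in `ℂ[v][T]` specialising to `qpoly P u v` on the locus `δ ≠ 0`. -/
lemma exists_lift_qpoly (P : (MvPolynomial (Fin n) ℂ)[X]) (hP : P.Monic)
    (δ : MvPolynomial (Fin n) ℂ) (hδ : δ ≠ 0)
    (hsep : ∀ v w, MvPolynomial.eval v δ ≠ 0 → (spec P v).eval w = 0 →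
      (spec P v).derivative.eval w ≠ 0)
    (u u' : Set ((Fin n → ℂ) × ℂ)) (hu : IsOpen u) (hu' : IsOpen u')
    (hcov : Wset P δ ⊆ u ∪ u') (hdisj : Wset P δ ∩ (u ∩ u') = ∅) :
    ∃ Q : (MvPolynomial (Fin n) ℂ)[X], ∀ v, MvPolynomial.eval v δ ≠ 0 → spec Q v = qpoly P u v := by
  classical
  obtain ⟨v₀, hv₀⟩ := exists_nonvanishing δ hδ
  have key : ∀ c : ℂ, ∃ G : MvPolynomial (Fin n) ℂ, ∀ v, MvPolynomial.eval v δ ≠ 0 →
      qf P u c v = MvPolynomial.eval v G := fun c =>
    exists_mvPolynomial_of_growth δ v₀ hv₀ (qf P u c)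
      (analyticOnNhd_qf P hP δ hsep u u' hu hu' hcov hdisj c) (polyGrowth_qf P hP u c)
  choose G hG using key
  let s : Finset ℕ := Finset.range (P.natDegree + 1)
  let node : ℕ → ℂ := fun j => (j : ℂ)
  have hnode : Set.InjOn node s := fun a _ b _ h => Nat.cast_injective h
  refine ⟨∑ j ∈ s, C (G (node j)) * (Lagrange.basis s node j).map MvPolynomial.C, fun v hv => ?_⟩
  have hdeg : (qpoly P u v).degree < s.card := by
    rw [Finset.card_range]
    refine (Polynomial.degree_le_natDegree).trans_lt ?_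
    exact_mod_cast Nat.lt_succ_of_le (natDegree_qpoly_le P hP u v)
  rw [Lagrange.eq_interpolate hnode hdeg, Lagrange.interpolate_apply]
  unfold spec
  rw [Polynomial.map_sum]
  apply Finset.sum_congr rfl
  intro j _
  rw [Polynomial.map_mul, Polynomial.map_C, Polynomial.map_map, eval_qpoly, hG (node j) v hv]
  congr 1
  have : (MvPolynomial.eval v).comp (MvPolynomial.C : ℂ →+* MvPolynomial (Fin n) ℂ) =
      RingHom.id ℂ := by
    ext c
    simp
  rw [this, Polynomial.map_id]

/-- **Theorem T**: the root cover of an irreducible monic polynomial over the locus where it is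
separable is connected in the complex topology. -/
theorem isPreconnected_Wset (P : (MvPolynomial (Fin n) ℂ)[X]) (hP : P.Monic) (hirr : Irreducible P)
    (δ : MvPolynomial (Fin n) ℂ) (hδ : δ ≠ 0)
    (hsep : ∀ v w, MvPolynomial.eval v δ ≠ 0 → (spec P v).eval w = 0 →
      (spec P v).derivative.eval w ≠ 0) :
    IsPreconnected (Wset P δ) := by
  classical
  rw [isPreconnected_iff_subset_of_disjoint]
  intro u u' hu hu' hcov hdisj
  have hcov' : Wset P δ ⊆ u' ∪ u := by rwa [Set.union_comm]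
  have hdisj' : Wset P δ ∩ (u' ∩ u) = ∅ := by rwa [Set.inter_comm u' u]
  obtain ⟨Q, hQ⟩ := exists_lift_qpoly P hP δ hδ hsep u u' hu hu' hcov hdisj
  obtain ⟨Q', hQ'⟩ := exists_lift_qpoly P hP δ hδ hsep u' u hu' hu hcov' hdisj'
  have hmul : Q * Q' = P := by
    ext k : 1
    apply eq_of_eval_eq_on δ hδ
    intro v hv
    have h1 : spec (Q * Q') v = spec P v := by
      unfold spec
      rw [Polynomial.map_mul]
      change spec Q v * spec Q' v = spec P v
      rw [hQ v hv, hQ' v hv]
      exact qpoly_mul_qpoly P hP δ hsep u u' hcov hdisj v hv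
    have h2 := congrArg (fun p => p.coeff k) h1
    simp only [spec, Polynomial.coeff_map] at h2
    exact h2
  -- a unit factor forces the corresponding part to be empty
  have hempty : ∀ (Q₀ : (MvPolynomial (Fin n) ℂ)[X]) (u₀ : Set ((Fin n → ℂ) × ℂ)),
      (∀ v, MvPolynomial.eval v δ ≠ 0 → spec Q₀ v = qpoly P u₀ v) → IsUnit Q₀ →
      ∀ p ∈ Wset P δ, p ∉ u₀ := by
    intro Q₀ u₀ hQ₀ hunit p hp hpu
    obtain ⟨r, -, rfl⟩ := Polynomial.isUnit_iff.1 hunit
    have h1 := hQ₀ p.1 hp.1
    have h2 : (qpoly P u₀ p.1).natDegree = 0 := by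
      rw [← h1]
      unfold spec
      rw [Polynomial.map_C, Polynomial.natDegree_C]
    rw [natDegree_qpoly, Finset.card_eq_zero] at h2
    have hne : spec P p.1 ≠ 0 := (spec_monic P hP p.1).ne_zero
    have h3 : p.2 ∈ (spec P p.1).roots.toFinset.filter (fun z => (p.1, z) ∈ u₀) := by
      rw [Finset.mem_filter, Multiset.mem_toFinset, Polynomial.mem_roots hne]
      exact ⟨hp.2, hpu⟩
    rw [h2] at h3
    exact absurd h3 (Finset.notMem_empty _)
  rcases hirr.isUnit_or_isUnit hmul.symm with h | h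
  · right
    intro p hp
    exact (hcov hp).resolve_left (hempty Q u hQ h p hp)
  · left
    intro p hp
    exact (hcov hp).resolve_right (hempty Q' u' hQ' h p hp)

end final

end Groth.Agent.H6.Conn
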