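import Mathlib
set_option autoImplicit false
open Polynomial

namespace Groth.Agent.H6.Conn

section primitive

open scoped nonZeroDivisors IntermediateField

/-- A finite torsion-free domain extension `A` of a domain `R` of characteristic zero contains an
element `t` such that some nonzero multiple `d • A` lies in `R[t]`. -/
theorem exists_primitive_integral (R A : Type) [CommRing R] [IsDomain R] [CommRing A] [IsDomain A]
    [Algebra R A] [FaithfulSMul R A] [Module.Finite R A] [CharZero R] :
    ∃ t : A, ∃ d : R, d ≠ 0 ∧ ∀ a : A, ∃ F : R[X], aeval t F = algebraMap R A d * a := by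
  classical
  let K := FractionRing R
  let L := FractionRing A
  let _ : Algebra K L := FractionRing.liftAlgebra R L
  have : IsScalarTower R K L := FractionRing.isScalarTower_liftAlgebra R L
  have : Algebra.IsIntegral R A := Algebra.IsIntegral.of_finite R A
  have : Algebra.IsAlgebraic R A := Algebra.IsIntegral.isAlgebraic
  have : Module.Finite K L :=
    Module.Finite.of_isLocalization R A (Rₚ := K) (Sₚ := L) R⁰
  have : CharZero K := charZero_of_injective_algebraMap (IsFractionRing.injective R K)
  obtain ⟨α, hα⟩ := Field.exists_primitive_element K L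
  -- write `α = t / r₀`
  obtain ⟨⟨t, m⟩, hm⟩ := IsLocalization.surj (Algebra.algebraMapSubmonoid A R⁰) α
  obtain ⟨r₀, hr₀, hr₀m⟩ := m.2
  have hr₀ne : r₀ ≠ 0 := nonZeroDivisors.ne_zero hr₀
  have hr₀K : algebraMap R K r₀ ≠ 0 := by
    rw [Ne, IsFractionRing.to_map_eq_zero_iff]; exact hr₀ne
  have hαt : α = (algebraMap K L (algebraMap R K r₀))⁻¹ * algebraMap A L t := by
    have h1 : algebraMap A L (m : A) = algebraMap K L (algebraMap R K r₀) := by
      rw [← hr₀m, ← IsScalarTower.algebraMap_apply, ← IsScalarTower.algebraMap_apply]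
    simp only at hm
    rw [h1] at hm
    rw [← hm]
    have : algebraMap K L (algebraMap R K r₀) ≠ 0 := by
      rw [Ne, map_eq_zero]; exact hr₀K
    rw [mul_comm α, ← mul_assoc, inv_mul_cancel₀ this, one_mul]
  -- every element of `L` is a `K`-polynomial in `t`
  have hpoly : ∀ y : L, ∃ G : K[X], aeval (algebraMap A L t) G = y := by
    intro y
    have hy : y ∈ (K⟮α⟯).toSubalgebra := by rw [hα]; trivial
    rw [IntermediateField.adjoin_simple_toSubalgebra_of_isAlgebraic
      (Algebra.IsAlgebraic.isAlgebraic α), Algebra.adjoin_singleton_eq_range_aeval] at hy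
    obtain ⟨G, rfl⟩ := hy
    refine ⟨G.comp (C (algebraMap R K r₀)⁻¹ * X), ?_⟩
    rw [Polynomial.aeval_comp]
    congr 1
    rw [hαt]
    simp
  -- clear denominators
  have hclear : ∀ a : A, ∃ b : R, b ≠ 0 ∧ ∃ F : R[X], aeval t F = algebraMap R A b * a := by
    intro a
    obtain ⟨G, hG⟩ := hpoly (algebraMap A L a)
    obtain ⟨b, hbM, hb⟩ := IsLocalization.integerNormalization_spec R⁰ G
    refine ⟨b, nonZeroDivisors.ne_zero hbM, IsLocalization.integerNormalization R⁰ G, ?_⟩
    apply IsFractionRing.injective A L
    rw [← algebraMap_smul K b G] at hb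
    have h1 := congrArg (aeval (algebraMap A L t)) hb
    rw [Polynomial.aeval_map_algebraMap, Polynomial.aeval_algebraMap_apply, map_smul, hG] at h1
    rw [h1, map_mul, Algebra.smul_def, ← IsScalarTower.algebraMap_apply,
      ← IsScalarTower.algebraMap_apply]
  -- common denominator over a finite generating set
  obtain ⟨T, hT⟩ := (inferInstance : Module.Finite R A)
  choose b hb F hF using hclear
  let d : R := ∏ a ∈ T, b a
  have hd : d ≠ 0 := Finset.prod_ne_zero_iff.2 fun a _ => hb a
  refine ⟨t, d, hd, ?_⟩
  let M : Submodule R A :=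
    { carrier := {a | ∃ F : R[X], aeval t F = algebraMap R A d * a}
      add_mem' := by
        rintro a₁ a₂ ⟨F₁, h₁⟩ ⟨F₂, h₂⟩
        exact ⟨F₁ + F₂, by rw [map_add, h₁, h₂, mul_add]⟩
      zero_mem' := ⟨0, by simp⟩
      smul_mem' := by
        rintro r a ⟨F₁, h₁⟩
        refine ⟨C r * F₁, ?_⟩
        rw [map_mul, h₁, Polynomial.aeval_C, Algebra.smul_def]
        ring }
  have hM : M = ⊤ := by
    rw [eq_top_iff, ← hT, Submodule.span_le]
    intro a ha
    refine ⟨C (∏ a' ∈ T.erase a, b a') * F a, ?_⟩
    rw [map_mul, hF a, Polynomial.aeval_C, ← mul_assoc, ← map_mul, Finset.prod_erase_mul T b ha]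
  intro a
  have : a ∈ M := by rw [hM]; trivial
  exact this

end primitive

section bezout

open scoped nonZeroDivisors

/-- Over an integrally closed domain of characteristic zero, the minimal polynomial of an integral
element of a domain and its derivative generate an ideal containing a nonzero constant. -/
theorem exists_bezout_minpoly (R A : Type) [CommRing R] [IsDomain R] [CommRing A] [IsDomain A]
    [Algebra R A] [FaithfulSMul R A] [CharZero R] [IsIntegrallyClosed R]
    (t : A) (ht : IsIntegral R t) :
    ∃ d : R, d ≠ 0 ∧ ∃ U V : R[X],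
      U * minpoly R t + V * derivative (minpoly R t) = C d := by
  classical
  let K := FractionRing R
  have : CharZero K := charZero_of_injective_algebraMap (IsFractionRing.injective R K)
  set P := minpoly R t with hP
  have hmonic : P.Monic := minpoly.monic ht
  have hirr : Irreducible (P.map (algebraMap R K)) :=
    (hmonic.irreducible_iff_irreducible_map_fraction_map).1 (minpoly.irreducible ht)
  have hsep : (P.map (algebraMap R K)).Separable := hirr.separable
  obtain ⟨a, b, hab⟩ := hsep
  obtain ⟨b₁, hb₁M, hb₁⟩ := IsLocalization.integerNormalization_spec R⁰ a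
  obtain ⟨b₂, hb₂M, hb₂⟩ := IsLocalization.integerNormalization_spec R⁰ b
  refine ⟨b₁ * b₂, mul_ne_zero (nonZeroDivisors.ne_zero hb₁M) (nonZeroDivisors.ne_zero hb₂M),
    C b₂ * IsLocalization.integerNormalization R⁰ a,
    C b₁ * IsLocalization.integerNormalization R⁰ b, ?_⟩
  apply Polynomial.map_injective (algebraMap R K) (IsFractionRing.injective R K)
  rw [Polynomial.map_add, Polynomial.map_mul, Polynomial.map_mul, Polynomial.map_mul,
    Polynomial.map_mul, hb₁, hb₂, ← Polynomial.derivative_map, Polynomial.map_C, Polynomial.map_C,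
    Polynomial.map_C, map_mul]
  have e1 : b₁ • a = C (algebraMap R K b₁) * a := by
    rw [← algebraMap_smul K b₁ a, Polynomial.smul_eq_C_mul]
  have e2 : b₂ • b = C (algebraMap R K b₂) * b := by
    rw [← algebraMap_smul K b₂ b, Polynomial.smul_eq_C_mul]
  rw [e1, e2, Polynomial.C_mul]
  calc C (algebraMap R K b₂) * (C (algebraMap R K b₁) * a) * map (algebraMap R K) P +
        C (algebraMap R K b₁) * (C (algebraMap R K b₂) * b) *
          derivative (map (algebraMap R K) P)
      = C (algebraMap R K b₁) * C (algebraMap R K b₂) *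
          (a * map (algebraMap R K) P + b * derivative (map (algebraMap R K) P)) := by ring
    _ = C (algebraMap R K b₁) * C (algebraMap R K b₂) := by rw [hab, mul_one]

end bezout

end Groth.Agent.H6.Conn
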