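import Mathlib
import Groth.Agent.Lib.Helper6.Conn8
import Groth.Agent.Lib.Helper6.Conn9
set_option autoImplicit false
open Topology Filter Polynomial

namespace Groth.Agent.H6.Conn

section algcore

variable {n : ℕ}

/-- Evaluation of a polynomial in `ℂ[v][T]` at a point `(v, w)`, as a ring homomorphism. -/
noncomputable def evalHom (p : (Fin n → ℂ) × ℂ) : (MvPolynomial (Fin n) ℂ)[X] →+* ℂ :=
  Polynomial.eval₂RingHom (MvPolynomial.eval p.1) p.2

lemma polyFun_eq_evalHom (F : (MvPolynomial (Fin n) ℂ)[X]) (p : (Fin n → ℂ) × ℂ) :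
    polyFun F p = evalHom p F := by
  unfold polyFun spec evalHom
  rw [Polynomial.eval_map]
  rfl

lemma evalHom_C (p : (Fin n → ℂ) × ℂ) (r : MvPolynomial (Fin n) ℂ) :
    evalHom p (C r) = MvPolynomial.eval p.1 r := by
  unfold evalHom
  simp

lemma evalHom_X (p : (Fin n → ℂ) × ℂ) : evalHom p X = p.2 := by
  unfold evalHom
  simp

lemma continuous_polyFun (F : (MvPolynomial (Fin n) ℂ)[X]) : Continuous (polyFun F) := by
  rw [← continuousOn_univ]
  exact (analyticOnNhd_polyFun F).continuousOn


/-- **Algebraic core**: a finitely generated `ℂ`-domain is, over a dense open subset, the root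
cover of an irreducible monic polynomial over the locus where it is separable. -/
theorem algCore (A : Type) [CommRing A] [IsDomain A] [Algebra ℂ A] [Algebra.FiniteType ℂ A] :
    ∃ (n : ℕ) (P : (MvPolynomial (Fin n) ℂ)[X]) (δ : MvPolynomial (Fin n) ℂ) (h : A)
      (Θ : Wset P δ → (A →ₐ[ℂ] ℂ)),
      P.Monic ∧ Irreducible P ∧ δ ≠ 0 ∧
      (∀ v w, MvPolynomial.eval v δ ≠ 0 → (spec P v).eval w = 0 →
        (spec P v).derivative.eval w ≠ 0) ∧
      h ≠ 0 ∧ (∀ a : A, Continuous fun p => Θ p a) ∧
      (∀ φ : A →ₐ[ℂ] ℂ, φ h ≠ 0 → ∃ p, Θ p = φ) := by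
  classical
  obtain ⟨n, g, hginj, hgfin⟩ := exists_finite_inj_algHom_of_fg ℂ A
  algebraize [g.toRingHom]
  have : IsScalarTower ℂ (MvPolynomial (Fin n) ℂ) A :=
    IsScalarTower.of_algebraMap_eq fun c => (g.commutes c).symm
  have : Module.IsTorsionFree (MvPolynomial (Fin n) ℂ) A :=
    Module.isTorsionFree_iff_algebraMap_injective.2 hginj
  have : FaithfulSMul (MvPolynomial (Fin n) ℂ) A :=
    (faithfulSMul_iff_algebraMap_injective _ _).2 hginj
  have : Module.Finite (MvPolynomial (Fin n) ℂ) A := hgfin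
  have : Algebra.IsIntegral (MvPolynomial (Fin n) ℂ) A := Algebra.IsIntegral.of_finite _ _
  obtain ⟨t, d₀, hd₀, hF⟩ := exists_primitive_integral (MvPolynomial (Fin n) ℂ) A
  have ht : IsIntegral (MvPolynomial (Fin n) ℂ) t := Algebra.IsIntegral.isIntegral t
  obtain ⟨d₁, hd₁, U, V, hUV⟩ := exists_bezout_minpoly (MvPolynomial (Fin n) ℂ) A t ht
  set P := minpoly (MvPolynomial (Fin n) ℂ) t with hPdef
  choose Fa hFa using hF
  let δ : MvPolynomial (Fin n) ℂ := d₀ * d₁
  have hδ : δ ≠ 0 := mul_ne_zero hd₀ hd₁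
  have hd₀p : ∀ p ∈ Wset P δ, MvPolynomial.eval p.1 d₀ ≠ 0 := by
    intro p hp h0
    apply hp.1
    change MvPolynomial.eval p.1 (d₀ * d₁) = 0
    rw [map_mul, h0, zero_mul]
  -- evaluation kills the kernel of `aeval t`
  have hkill : ∀ p ∈ Wset P δ, ∀ F : (MvPolynomial (Fin n) ℂ)[X], aeval t F = 0 →
      evalHom p F = 0 := by
    intro p hp F hF0
    obtain ⟨G, rfl⟩ := minpoly.isIntegrallyClosed_dvd ht hF0
    rw [map_mul, ← polyFun_eq_evalHom, hp.2, zero_mul]
  have hkill2 : ∀ p ∈ Wset P δ, ∀ F₁ F₂ : (MvPolynomial (Fin n) ℂ)[X], aeval t F₁ = aeval t F₂ →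
      evalHom p F₁ = evalHom p F₂ := by
    intro p hp F₁ F₂ h12
    have := hkill p hp (F₁ - F₂) (by rw [map_sub, h12, sub_self])
    rw [map_sub] at this
    exact sub_eq_zero.1 this
  let θ : (Fin n → ℂ) × ℂ → A → ℂ := fun p a => evalHom p (Fa a) / MvPolynomial.eval p.1 d₀
  let Θ : Wset P δ → (A →ₐ[ℂ] ℂ) := fun p =>
    { toFun := θ p.1
      map_one' := by
        have hd := hd₀p p.1 p.2
        have h1 : evalHom p.1 (Fa 1) = evalHom p.1 (C d₀) :=
          hkill2 p.1 p.2 _ _ (by rw [hFa, Polynomial.aeval_C, mul_one])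
        change evalHom p.1 (Fa 1) / _ = 1
        rw [h1, evalHom_C, div_self hd]
      map_mul' := by
        intro a b
        have hd := hd₀p p.1 p.2
        have h1 : evalHom p.1 (C d₀ * Fa (a * b)) = evalHom p.1 (Fa a * Fa b) :=
          hkill2 p.1 p.2 _ _ (by
            rw [map_mul, map_mul, hFa, hFa, hFa, Polynomial.aeval_C]; ring)
        rw [map_mul, map_mul, evalHom_C] at h1
        change evalHom p.1 (Fa (a * b)) / _ = (evalHom p.1 (Fa a) / _) * (evalHom p.1 (Fa b) / _)
        field_simp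
        rw [← h1]; ring
      map_zero' := by
        have h1 : evalHom p.1 (Fa 0) = evalHom p.1 0 :=
          hkill2 p.1 p.2 _ _ (by rw [hFa, mul_zero, map_zero])
        change evalHom p.1 (Fa 0) / _ = 0
        rw [h1, map_zero, zero_div]
      map_add' := by
        intro a b
        have h1 : evalHom p.1 (Fa (a + b)) = evalHom p.1 (Fa a + Fa b) :=
          hkill2 p.1 p.2 _ _ (by rw [map_add, hFa, hFa, hFa, mul_add])
        change evalHom p.1 (Fa (a + b)) / _ = (evalHom p.1 (Fa a) / _) + (evalHom p.1 (Fa b) / _)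
        rw [h1, map_add, add_div]
      commutes' := by
        intro c
        have hd := hd₀p p.1 p.2
        have h1 : evalHom p.1 (Fa (algebraMap ℂ A c)) = evalHom p.1 (C (d₀ * MvPolynomial.C c)) :=
          hkill2 p.1 p.2 _ _ (by
            rw [hFa, Polynomial.aeval_C, map_mul,
              IsScalarTower.algebraMap_apply ℂ (MvPolynomial (Fin n) ℂ) A]
            rfl)
        change evalHom p.1 (Fa (algebraMap ℂ A c)) / _ = c
        rw [h1, evalHom_C, map_mul, MvPolynomial.eval_C]
        field_simp }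
  have hΘ : ∀ (p : Wset P δ) (a : A), Θ p a = polyFun (Fa a) p.1 / MvPolynomial.eval p.1.1 d₀ := by
    intro p a
    rw [polyFun_eq_evalHom]
    rfl
  refine ⟨n, P, δ, algebraMap (MvPolynomial (Fin n) ℂ) A δ, Θ, minpoly.monic ht, minpoly.irreducible ht, hδ, ?_, ?_, ?_, ?_⟩
  · -- separability
    intro v w hv hw
    have h1 := congrArg (evalHom (v, w)) hUV
    rw [map_add, map_mul, map_mul, evalHom_C, ← polyFun_eq_evalHom P] at h1
    have h2 : polyFun P (v, w) = 0 := hw
    rw [h2, mul_zero, zero_add] at h1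
    have h3 : MvPolynomial.eval v d₁ ≠ 0 := by
      intro h0
      apply hv
      change MvPolynomial.eval v (d₀ * d₁) = 0
      rw [map_mul, h0, mul_zero]
    have h4 : evalHom (v, w) (derivative P) ≠ 0 := by
      intro h0
      rw [h0, mul_zero] at h1
      exact h3 h1.symm
    rw [← polyFun_eq_evalHom] at h4
    unfold polyFun spec at h4
    rw [← Polynomial.derivative_map] at h4
    exact h4
  · intro h0
    exact hδ (hginj (by rw [map_zero]; exact h0))
  · intro a
    simp_rw [hΘ]
    apply Continuous.div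
    · exact (continuous_polyFun (Fa a)).comp continuous_subtype_val
    · exact (MvPolynomial.continuous_eval d₀).comp (continuous_fst.comp continuous_subtype_val)
    · intro p
      exact hd₀p p.1 p.2
  · intro φ hφ
    let v : Fin n → ℂ := fun i => φ (algebraMap (MvPolynomial (Fin n) ℂ) A (MvPolynomial.X i))
    let w : ℂ := φ t
    have hR : ∀ r : MvPolynomial (Fin n) ℂ,
        MvPolynomial.eval v r = φ (algebraMap (MvPolynomial (Fin n) ℂ) A r) := by
      intro r
      have : (MvPolynomial.eval v : MvPolynomial (Fin n) ℂ →+* ℂ) =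
          (φ : A →+* ℂ).comp (algebraMap (MvPolynomial (Fin n) ℂ) A) := by
        apply MvPolynomial.ringHom_ext
        · intro c
          simp only [MvPolynomial.eval_C, RingHom.comp_apply]
          rw [← MvPolynomial.algebraMap_eq, ← IsScalarTower.algebraMap_apply ℂ _ A]
          exact (φ.commutes c).symm
        · intro i
          simp [v]
      exact congrArg (fun F => F r) this
    have hE : ∀ F : (MvPolynomial (Fin n) ℂ)[X], evalHom (v, w) F = φ (aeval t F) := by
      intro F
      have : evalHom (v, w) = (φ : A →+* ℂ).comp (aeval t : _ →ₐ[MvPolynomial (Fin n) ℂ] A) := by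
        apply Polynomial.ringHom_ext
        · intro r
          rw [evalHom_C]
          simp only [RingHom.comp_apply]
          rw [hR r]
          simp
        · rw [evalHom_X]
          simp [w]
      exact congrArg (fun G => G F) this
    have hpW : (v, w) ∈ Wset P δ := by
      refine ⟨?_, ?_⟩
      · change MvPolynomial.eval v δ ≠ 0
        rw [hR]
        exact hφ
      · rw [polyFun_eq_evalHom, hE, minpoly.aeval, map_zero]
    refine ⟨⟨(v, w), hpW⟩, ?_⟩
    apply AlgHom.ext
    intro a
    change evalHom (v, w) (Fa a) / MvPolynomial.eval v d₀ = φ a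
    have hd := hd₀p (v, w) hpW
    rw [hE, hFa, map_mul, ← hR]
    field_simp

end algcore

end Groth.Agent.H6.Conn
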