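import Mathlib
import Groth.Agent.Lib.Helper6.Conn10
import Groth.Agent.Lib.Helper6.An10
set_option autoImplicit false
open AlgebraicGeometry CategoryTheory An Topology

namespace Groth.Agent.H6.Conn

open Groth.Agent.H6.An

section affine

variable {X : Scheme.{0}} [X.Over SC] [LocallyOfFiniteType (X ↘ SC)] [IsAffine X]

/-- On an affine scheme of finite type over `ℂ`, the `ℂ`-points of an irreducible closed subset form
a connected set in the complex topology. -/
theorem isPreconnected_specializes_of_isAffine (η : X) :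
    IsPreconnected {x : Pts X | η ⤳ x.pt} := by
  let _ : Algebra ℂ Γ(X, ⊤) := (strHom X).toAlgebra
  have hft : Algebra.FiniteType ℂ Γ(X, ⊤) := finiteType_strHom
  let 𝔭 := vanishingIdeal η
  have : Algebra.FiniteType ℂ (Γ(X, ⊤) ⧸ 𝔭) :=
    Algebra.FiniteType.of_surjective (Ideal.Quotient.mkₐ ℂ 𝔭) (Ideal.Quotient.mkₐ_surjective ℂ 𝔭)
  obtain ⟨n, P, δ, hbar, Θ, hPm, hPi, hδ, hsep, hh0, hcont, hsurj⟩ := algCore (Γ(X, ⊤) ⧸ 𝔭)
  obtain ⟨h, rfl⟩ := Ideal.Quotient.mk_surjective hbar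
  have hh : h ∉ 𝔭 := fun hm => hh0 (Ideal.Quotient.eq_zero_iff_mem.2 hm)
  have hηh : η ∈ X.basicOpen h := by
    by_contra hc
    exact hh ((mem_vanishingIdeal_iff η h).2 hc)
  obtain ⟨m, s, hs⟩ := exists_generators (X := X)
  have hemb := isClosedEmbedding_coordMap s hs
  -- the map from the root cover to the points of `X`
  let ψ : Wset P δ → (Γ(X, ⊤) →ₐ[ℂ] ℂ) := fun p => (Θ p).comp (Ideal.Quotient.mkₐ ℂ 𝔭)
  let Θ' : Wset P δ → Pts X := fun p =>
    ofHom (ψ p).toRingHom (by ext c; exact (ψ p).commutes c)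
  have hΘ' : ∀ p a, (Θ' p).evTop a = Θ p (Ideal.Quotient.mk 𝔭 a) := fun p a => by
    have := evTopHom_ofHom (X := X) (ψ p).toRingHom (by ext c; exact (ψ p).commutes c)
    exact congrArg (fun F => F a) this
  have hΘ'c : Continuous Θ' := by
    rw [hemb.isInducing.continuous_iff]
    apply continuous_pi
    intro j
    change Continuous fun p => (Θ' p).evTop (s j)
    simp_rw [hΘ']
    exact hcont _
  have hW : PreconnectedSpace (Wset P δ) :=
    Subtype.preconnectedSpace (isPreconnected_Wset P hPm hPi δ hδ hsep)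
  have hrange : IsPreconnected (Set.range Θ') := isPreconnected_range hΘ'c
  have hsub1 : Set.range Θ' ⊆ {x : Pts X | η ⤳ x.pt} := by
    rintro _ ⟨p, rfl⟩
    change η ⤳ (Θ' p).pt
    rw [specializes_pt_iff]
    intro a ha
    rw [hΘ', Ideal.Quotient.eq_zero_iff_mem.2 ha, map_zero]
  have hsub2 : {y : Pts X | η ⤳ y.pt ∧ y.pt ∈ X.basicOpen h} ⊆ Set.range Θ' := by
    rintro y ⟨hy1, hy2⟩
    have hy1' : ∀ a ∈ 𝔭, charOfPt y a = 0 := fun a ha => (specializes_pt_iff η y).1 hy1 a ha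
    let φ : (Γ(X, ⊤) ⧸ 𝔭) →ₐ[ℂ] ℂ := Ideal.Quotient.liftₐ 𝔭 (charOfPt y) hy1'
    have hφ : ∀ a, φ (Ideal.Quotient.mk 𝔭 a) = y.evTop a := by
      intro a
      change Ideal.Quotient.liftₐ 𝔭 (charOfPt y) hy1' (Ideal.Quotient.mk 𝔭 a) = _
      rw [Ideal.Quotient.liftₐ_apply]
      exact Ideal.Quotient.lift_mk 𝔭 (charOfPt y : Γ(X, ⊤) →+* ℂ) hy1'
    have hφh : φ (Ideal.Quotient.mk 𝔭 h) ≠ 0 := by
      rw [hφ]
      exact (pt_mem_basicOpen_top_iff y h).1 hy2
    obtain ⟨p, hp⟩ := hsurj φ hφh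
    refine ⟨p, ?_⟩
    apply ext_of_evTopHom
    ext a
    change (Θ' p).evTop a = y.evTop a
    rw [hΘ', hp, hφ]
  apply hrange.subset_closure hsub1
  intro x hx
  exact closure_mono hsub2 (mem_closure_of_specializes η h hηh x hx)

end affine

end Groth.Agent.H6.Conn
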