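import Mathlib
import Groth.Agent.Lib.Helper6.Conn11
set_option autoImplicit false
open AlgebraicGeometry CategoryTheory An Topology

namespace Groth.Agent.H6.Conn

open Groth.Agent.H6.An

section general

variable {X : Scheme.{0}} [X.Over SC] [LocallyOfFiniteType (X ↘ SC)]

/-- The `ℂ`-points of an irreducible closed subset of a scheme locally of finite type over `ℂ` form a
connected set in the complex topology. -/
theorem isPreconnected_specializes (η : X) : IsPreconnected {x : Pts X | η ⤳ x.pt} := by
  obtain ⟨U, hU, hηU⟩ : ∃ U : X.Opens, IsAffineOpen U ∧ η ∈ U := by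
    obtain ⟨_, ⟨U, hU, rfl⟩, hxU, -⟩ :=
      (X.isBasis_affineOpens).exists_subset_of_mem_open (Set.mem_univ η) isOpen_univ
    exact ⟨U, hU, hxU⟩
  have : IsAffine U.toScheme := hU
  let η' : U.toScheme := ⟨η, hηU⟩
  have h1 := isPreconnected_specializes_of_isAffine (X := U.toScheme) η'
  have h2 : IsPreconnected (Pts.map U.ι '' {x | η' ⤳ x.pt}) :=
    h1.image _ (Pts.continuous_map U.ι).continuousOn
  apply h2.subset_closure
  · rintro _ ⟨x', hx', rfl⟩
    change η ⤳ (Pts.map U.ι x').pt
    rw [Pts.pt_map]
    exact Specializes.map (f := U.ι) hx' U.ι.continuous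
  · intro x hx
    have hx0 : η ⤳ x.pt := hx
    have hT : IsLocallyClosed (closure {η} ∩ (U : Set X)) :=
      isClosed_closure.isLocallyClosed.inter U.2.isLocallyClosed
    have hx' : x.pt ∈ closure (closure {η} ∩ (U : Set X)) := by
      have : η ∈ closure {η} ∩ (U : Set X) := ⟨subset_closure rfl, hηU⟩
      exact closure_mono (Set.singleton_subset_iff.2 this) (specializes_iff_mem_closure.1 hx0)
    have := mem_closure_pt_preimage hT x hx'
    refine closure_mono ?_ this
    rintro y ⟨hy1, hy2⟩
    have hyr : y ∈ Set.range (Pts.map U.ι) := by rw [range_map_ι]; exact hy2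
    obtain ⟨y', rfl⟩ := hyr
    refine ⟨y', ?_, rfl⟩
    rw [Pts.pt_map] at hy1
    exact U.ι.isOpenEmbedding.isInducing.specializes_iff.1 (specializes_iff_mem_closure.2 hy1)

end general

end Groth.Agent.H6.Conn
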