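import Mathlib
import Groth.Agent.Lib.Helper6.Conn12
import Groth.Agent.Lib.Helper6.An11
set_option autoImplicit false
open AlgebraicGeometry CategoryTheory An Topology TopologicalSpace

namespace Groth.Agent.H6.Conn

open Groth.Agent.H6.An

section topo

variable {T : Type*} [TopologicalSpace T]

/-- In a Noetherian quasi-sober space, a subset stable under specialization and generization is
closed (it is a finite union of irreducible components). -/
lemma isClosed_of_stable [QuasiSober T] [NoetherianSpace T] (Z : Set T)
    (hs : StableUnderSpecialization Z) (hg : StableUnderGeneralization Z) : IsClosed Z := by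
  have hZ : Z = ⋃₀ {C ∈ irreducibleComponents T | C ⊆ Z} := by
    apply subset_antisymm
    · intro x hx
      obtain ⟨ξ, hξ⟩ := QuasiSober.sober (isIrreducible_irreducibleComponent (x := x))
        isClosed_irreducibleComponent
      have hξx : ξ ⤳ x := by
        rw [specializes_iff_mem_closure, hξ.def]
        exact mem_irreducibleComponent
      have hξZ : ξ ∈ Z := hg hξx hx
      refine ⟨irreducibleComponent x, ⟨irreducibleComponent_mem_irreducibleComponents x, ?_⟩,
        mem_irreducibleComponent⟩
      intro c hc
      have hξc : ξ ⤳ c := by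
        rw [specializes_iff_mem_closure, hξ.def]
        exact hc
      exact hs hξc hξZ
    · rintro x ⟨C, ⟨-, hC⟩, hx⟩
      exact hC hx
  rw [hZ]
  rw [Set.sUnion_eq_biUnion]
  apply Set.Finite.isClosed_biUnion
  · exact (NoetherianSpace.finite_irreducibleComponents).subset fun C hC => hC.1
  · intro C hC
    exact isClosed_of_mem_irreducibleComponents C hC.1

end topo

section main

variable {X : Scheme.{0}} [X.Over SC] [LocallyOfFiniteType (X ↘ SC)]

/-- In a scheme locally of finite type over `ℂ`, a subset stable under specialization and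
generization is closed. -/
lemma isClosed_of_stable_of_lft (Z : Set X)
    (hs : StableUnderSpecialization Z) (hg : StableUnderGeneralization Z) : IsClosed Z := by
  have hcov : TopologicalSpace.IsOpenCover (fun i : X.affineOpens => (i : X.Opens)) :=
    AlgebraicGeometry.iSup_affineOpens_eq_top X
  rw [hcov.isClosed_iff_coe_preimage]
  intro U
  have : IsAffine (U : X.Opens).toScheme := U.2
  have h1 : NoetherianSpace ((U : X.Opens).toScheme) :=
    noetherianSpace_of_isAffine_lft (X := (U : X.Opens).toScheme)
  have h2 : QuasiSober ((U : X.Opens).toScheme) := inferInstance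
  apply @isClosed_of_stable _ _ h2 h1
  · intro x y hxy hx
    exact hs ((subtype_specializes_iff x y).1 hxy) hx
  · intro x y hxy hx
    exact hg ((subtype_specializes_iff y x).1 hxy) hx

lemma nonempty_specializes (x : X) : ({y : Pts X | x ⤳ y.pt}).Nonempty := by
  obtain ⟨p, hp, hpc⟩ := nonempty_inter_closedPoints (Z := closure {x})
    ⟨x, subset_closure rfl⟩ isClosed_closure.isLocallyClosed
  obtain ⟨y, rfl⟩ := exists_pt_eq hpc
  exact ⟨y, specializes_iff_mem_closure.2 hp⟩

lemma isClosed_setOf_specializes_subset (M : Set (Pts X)) (hM : IsClopen M) :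
    IsClosed {x : X | {y : Pts X | x ⤳ y.pt} ⊆ M} := by
  apply isClosed_of_stable_of_lft
  · intro x x' hxx' hx y hy
    exact hx (hxx'.trans hy)
  · intro x x'' hx''x hx
    obtain ⟨y, hy⟩ := nonempty_specializes x
    have hyM : y ∈ M := hx hy
    have hy'' : y ∈ {y : Pts X | x'' ⤳ y.pt} := hx''x.trans hy
    exact (isPreconnected_specializes x'').subset_isClopen hM ⟨y, hy'', hyM⟩

theorem preconnectedSpace_pts [PreconnectedSpace X] : PreconnectedSpace (Pts X) := by
  rw [preconnectedSpace_iff_clopen]
  intro M hM
  set Z : Set X := {x : X | {y : Pts X | x ⤳ y.pt} ⊆ M} with hZ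
  set Z' : Set X := {x : X | {y : Pts X | x ⤳ y.pt} ⊆ Mᶜ} with hZ'
  have hZc : IsClosed Z := isClosed_setOf_specializes_subset M hM
  have hZ'c : IsClosed Z' := isClosed_setOf_specializes_subset Mᶜ hM.compl
  have hcompl : Z' = Zᶜ := by
    ext x
    constructor
    · intro hx' hx
      obtain ⟨y, hy⟩ := nonempty_specializes x
      exact hx' hy (hx hy)
    · intro hx y hy hyM
      apply hx
      exact (isPreconnected_specializes x).subset_isClopen hM ⟨y, hy, hyM⟩
  have hZclopen : IsClopen Z := ⟨hZc, by rw [← isClosed_compl_iff, ← hcompl]; exact hZ'c⟩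
  have hM_eq : M = Pts.pt ⁻¹' Z := by
    ext y
    constructor
    · intro hy y' hy'
      have h1 : y'.pt ∈ closure {y.pt} := specializes_iff_mem_closure.1 hy'
      rw [(isClosed_singleton_pt y).closure_eq] at h1
      have : y' = y := pt_injective h1
      rw [this]; exact hy
    · intro hy
      exact hy (show y.pt ⤳ y.pt from specializes_rfl)
  rcases isClopen_iff.1 hZclopen with h | h
  · left; rw [hM_eq, h, Set.preimage_empty]
  · right; rw [hM_eq, h, Set.preimage_univ]

end main

end Groth.Agent.H6.Conn
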