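import Mathlib
import Groth.Agent.Lib.Helper6.Conn13
set_option autoImplicit false
open AlgebraicGeometry CategoryTheory An Topology TopologicalSpace

namespace Groth.Agent.H6.Conn

open Groth.Agent.H6.An

section main2

variable {X : Scheme.{0}} [X.Over SC] [LocallyOfFiniteType (X ↘ SC)]

lemma eq_empty_of_preimage_pt_eq_empty {Z : Set X} (hZ : IsLocallyClosed Z)
    (h : (Pts.pt ⁻¹' Z : Set (Pts X)) = ∅) : Z = ∅ := by
  by_contra hne
  obtain ⟨p, hp, hpc⟩ := nonempty_inter_closedPoints (Z := Z)
    (Set.nonempty_iff_ne_empty.2 hne) hZ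
  obtain ⟨y, rfl⟩ := exists_pt_eq hpc
  have : y ∈ (Pts.pt ⁻¹' Z : Set (Pts X)) := hp
  rw [h] at this
  exact this

theorem preconnectedSpace_of_pts [PreconnectedSpace (Pts X)] : PreconnectedSpace X := by
  rw [preconnectedSpace_iff_clopen]
  intro Z hZ
  have h1 : IsClopen (Pts.pt ⁻¹' Z : Set (Pts X)) := hZ.preimage Pts.continuous_pt
  rcases isClopen_iff.1 h1 with h | h
  · left
    exact eq_empty_of_preimage_pt_eq_empty hZ.isOpen.isLocallyClosed h
  · right
    have h2 : (Pts.pt ⁻¹' Zᶜ : Set (Pts X)) = ∅ := by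
      rw [Set.preimage_compl, h, Set.compl_univ]
    have := eq_empty_of_preimage_pt_eq_empty hZ.compl.isOpen.isLocallyClosed h2
    exact Set.compl_empty_iff.1 this

/-- S4191. -/
theorem connectedSpace_iff_pts : ConnectedSpace ↥X ↔ ConnectedSpace (Pts X) := by
  constructor
  · intro h
    have := preconnectedSpace_pts (X := X)
    have : Nonempty (Pts X) := nonempty_iff_pts.1 h.toNonempty
    exact ⟨this⟩
  · intro h
    have := preconnectedSpace_of_pts (X := X)
    have : Nonempty X := nonempty_iff_pts.2 h.toNonempty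
    exact ⟨this⟩

end main2

end Groth.Agent.H6.Conn
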