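import Mathlib
import Groth.Agent.Lib.Helper6.Conn14
set_option autoImplicit false
open AlgebraicGeometry CategoryTheory An Topology TopologicalSpace

namespace Groth.Agent.H6.Conn

open Groth.Agent.H6.An

section topo2

variable {T : Type*} [TopologicalSpace T]

/-- Connected components of a Noetherian space are open. -/
lemma isOpen_connectedComponent_of_noetherianSpace [NoetherianSpace T] (x : T) :
    IsOpen (connectedComponent x) := by
  have h : (connectedComponent x)ᶜ =
      ⋃₀ {C ∈ irreducibleComponents T | Disjoint C (connectedComponent x)} := by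
    apply subset_antisymm
    · intro y hy
      refine ⟨irreducibleComponent y, ⟨irreducibleComponent_mem_irreducibleComponents y, ?_⟩,
        mem_irreducibleComponent⟩
      rw [Set.disjoint_left]
      intro z hz hzx
      apply hy
      have h1 : irreducibleComponent y ⊆ connectedComponent z :=
        (isIrreducible_irreducibleComponent (x := y)).isConnected.isPreconnected
          |>.subset_connectedComponent hz
      rw [← connectedComponent_eq hzx] at h1
      exact h1 mem_irreducibleComponent
    · rintro y ⟨C, ⟨-, hC⟩, hy⟩ hyx
      exact Set.disjoint_left.1 hC hy hyx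
  rw [← isClosed_compl_iff, h, Set.sUnion_eq_biUnion]
  apply Set.Finite.isClosed_biUnion
  · exact (NoetherianSpace.finite_irreducibleComponents).subset fun C hC => hC.1
  · intro C hC
    exact isClosed_of_mem_irreducibleComponents C hC.1

end topo2

section pi0

variable {X : Scheme.{0}} [X.Over SC] [LocallyOfFiniteType (X ↘ SC)]

/-- Connected components of a scheme locally of finite type over `ℂ` are open. -/
lemma isOpen_connectedComponent_of_lft (x : X) : IsOpen (connectedComponent x) := by
  rw [isOpen_iff_mem_nhds]
  intro y hy
  obtain ⟨U, hU, hyU⟩ : ∃ U : X.Opens, IsAffineOpen U ∧ y ∈ U := by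
    obtain ⟨_, ⟨U, hU, rfl⟩, hxU, -⟩ :=
      (X.isBasis_affineOpens).exists_subset_of_mem_open (Set.mem_univ y) isOpen_univ
    exact ⟨U, hU, hxU⟩
  have : IsAffine U.toScheme := hU
  have h1 : NoetherianSpace (U.toScheme) := noetherianSpace_of_isAffine_lft (X := U.toScheme)
  let y' : U.toScheme := ⟨y, hyU⟩
  have h2 : IsOpen (connectedComponent y') :=
    @isOpen_connectedComponent_of_noetherianSpace _ _ h1 y'
  have h3 : IsOpen (U.ι '' connectedComponent y') := U.ι.isOpenEmbedding.isOpenMap _ h2
  have h4 : _root_.IsPreconnected (U.ι '' connectedComponent y') :=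
    isPreconnected_connectedComponent.image _ U.ι.continuous.continuousOn
  have h5 : y ∈ U.ι '' connectedComponent y' := ⟨y', mem_connectedComponent, rfl⟩
  have h6 : U.ι '' connectedComponent y' ⊆ connectedComponent x := by
    rw [connectedComponent_eq hy]
    exact h4.subset_connectedComponent h5
  exact Filter.mem_of_superset (h3.mem_nhds h5) h6

/-- S4192. -/
theorem connectedComponentsMap_pt_bijective :
    Function.Bijective (Pts.continuous_pt (X := X)).connectedComponentsMap := by
  constructor
  · intro c₁ c₂ h
    obtain ⟨y₁, rfl⟩ := ConnectedComponents.surjective_coe c₁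
    obtain ⟨y₂, rfl⟩ := ConnectedComponents.surjective_coe c₂
    have h' : ((y₁.pt : X) : _root_.ConnectedComponents X) = (y₂.pt : X) := h
    rw [ConnectedComponents.coe_eq_coe'] at h'
    rw [ConnectedComponents.coe_eq_coe']
    let U : X.Opens := ⟨connectedComponent y₂.pt, isOpen_connectedComponent_of_lft _⟩
    have hconn : ConnectedSpace (U.toScheme) :=
      Subtype.connectedSpace (isConnected_connectedComponent (x := y₂.pt))
    have hconn' : ConnectedSpace (Pts U.toScheme) := connectedSpace_iff_pts.1 hconn
    have hr : _root_.IsPreconnected (Set.range (Pts.map U.ι)) :=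
      isPreconnected_range (Pts.continuous_map U.ι)
    rw [range_map_ι] at hr
    have hy₂ : y₂ ∈ Pts.pt ⁻¹' (U : Set X) := mem_connectedComponent
    have hy₁ : y₁ ∈ Pts.pt ⁻¹' (U : Set X) := h'
    exact hr.subset_connectedComponent hy₂ hy₁
  · intro c
    obtain ⟨x, rfl⟩ := ConnectedComponents.surjective_coe c
    obtain ⟨p, hp, hpc⟩ := nonempty_inter_closedPoints (Z := connectedComponent x)
      ⟨x, mem_connectedComponent⟩ isClosed_connectedComponent.isLocallyClosed
    obtain ⟨y, rfl⟩ := exists_pt_eq hpc
    refine ⟨(y : _root_.ConnectedComponents (Pts X)), ?_⟩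
    change ((y.pt : X) : _root_.ConnectedComponents X) = x
    rw [ConnectedComponents.coe_eq_coe']
    exact hp

end pi0

end Groth.Agent.H6.Conn
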