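import Mathlib

universe u
open CategoryTheory CategoryTheory.Limits AlgebraicGeometry TopologicalSpace Opposite

set_option linter.unusedSectionVars false
set_option linter.unusedSimpArgs false
set_option linter.style.haveILetI false
namespace Groth.Agent.H6.QCClosure

/-- affine case: a point in the closure of the image of `Spec C → Spec B` is a specialization of a
point of the image. -/
theorem exists_specializes_comap {B C : Type u} [CommRing B] [CommRing C] (φ : B →+* C)
    (p : PrimeSpectrum B) (hp : p ∈ closure (Set.range (PrimeSpectrum.comap φ))) :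
    ∃ q : PrimeSpectrum C, PrimeSpectrum.comap φ q ⤳ p := by
  rw [PrimeSpectrum.closure_range_comap, PrimeSpectrum.mem_zeroLocus] at hp
  obtain ⟨Q, -, hQ, hQp⟩ := Ideal.exists_ideal_comap_le_prime (f := φ) p.asIdeal ⊥ (by
    intro x hx
    exact hp hx)
  refine ⟨⟨Q, hQ⟩, ?_⟩
  rw [← PrimeSpectrum.le_iff_specializes]
  exact hQp

theorem exists_specializes_specMap {B C : CommRingCat.{u}} (h : Spec C ⟶ Spec B)
    (p : Spec B) (hp : p ∈ closure (Set.range h.base)) : ∃ q : Spec C, h.base q ⤳ p := by
  obtain ⟨φ, rfl⟩ := Spec.map_surjective h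
  exact exists_specializes_comap φ.hom p hp

/-- for a quasi-compact morphism, the closure of the image is the set of specializations of points
of the image. -/
theorem exists_specializes_of_mem_closure_range {A Y : Scheme.{u}} (f : A ⟶ Y) [QuasiCompact f]
    {y : Y} (hy : y ∈ closure (Set.range f.base)) : ∃ a : A, f.base a ⤳ y := by
  obtain ⟨_, ⟨O, hO, rfl⟩, hyO, -⟩ :=
    Y.isBasis_affineOpens.exists_subset_of_mem_open (Set.mem_univ y) isOpen_univ
  have hK : IsCompact ((f ⁻¹ᵁ O : A.Opens) : Set A) :=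
    QuasiCompact.isCompact_preimage (f := f) _ O.isOpen hO.isCompact
  obtain ⟨C, g, hg⟩ := isCompact_iff_exists.mp hK
  have hrange : Set.range (g ≫ f).base = Set.range f.base ∩ (O : Set Y) := by
    rw [Scheme.Hom.comp_base, TopCat.coe_comp, Set.range_comp, hg]
    ext z
    constructor
    · rintro ⟨a, ha, rfl⟩
      exact ⟨⟨a, rfl⟩, ha⟩
    · rintro ⟨⟨a, rfl⟩, ha⟩
      exact ⟨a, ha, rfl⟩
  have hsub : Set.range (g ≫ f).base ⊆ Set.range hO.fromSpec.base := by
    rw [hO.range_fromSpec, hrange]
    exact Set.inter_subset_right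
  haveI := hO.isOpenImmersion_fromSpec
  let h₁ : Spec C ⟶ Spec Γ(Y, O) := IsOpenImmersion.lift hO.fromSpec (g ≫ f) hsub
  have hh₁ : h₁ ≫ hO.fromSpec = g ≫ f := IsOpenImmersion.lift_fac _ _ _
  obtain ⟨y₁, hy₁⟩ : ∃ y₁ : Spec Γ(Y, O), hO.fromSpec.base y₁ = y := by
    have : y ∈ Set.range hO.fromSpec.base := by rw [hO.range_fromSpec]; exact hyO
    exact this
  have hcl : y ∈ closure (Set.range (g ≫ f).base) := by
    rw [hrange, Set.inter_comm]
    exact O.isOpen.inter_closure ⟨hyO, hy⟩
  have hy₁cl : y₁ ∈ closure (Set.range h₁.base) := by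
    rw [hO.fromSpec.isOpenEmbedding.isEmbedding.closure_eq_preimage_closure_image, Set.mem_preimage,
      hy₁, ← Set.range_comp]
    have : (hO.fromSpec.base ∘ h₁.base) = (g ≫ f).base := by
      rw [← hh₁]; rfl
    rw [this]
    exact hcl
  obtain ⟨c, hc⟩ := exists_specializes_specMap h₁ y₁ hy₁cl
  refine ⟨g.base c, ?_⟩
  have := hc.map hO.fromSpec.continuous
  rw [hy₁] at this
  have e : hO.fromSpec.base (h₁.base c) = f.base (g.base c) := by
    have := congrArg (fun ψ => ψ.base c) hh₁
    simpa using this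
  rwa [e] at this

end Groth.Agent.H6.QCClosure
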