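import Mathlib
import Groth.Prelude
import Groth.Agent.Lib.Helper6.FEtAff
import Groth.Agent.Lib.Helper8.Hens.StrictSection

universe u
open CategoryTheory CategoryTheory.Limits AlgebraicGeometry TopologicalSpace Opposite TensorProduct

set_option linter.unusedSectionVars false
set_option linter.unusedSimpArgs false
set_option linter.style.haveILetI false
namespace Groth.Agent.H6.StrictHensPt

/-- lifting a morphism from a strictly henselian local scheme through a finite étale morphism, with
prescribed image of the closed point. -/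
theorem exists_lift_of_strictlyHenselian {X Y : Scheme.{u}} (π : Y ⟶ X) [IsFinite π] [Etale π]
    (y : Y) (R : Type u) [CommRing R] [HenselianLocalRing R]
    [IsSepClosed (IsLocalRing.ResidueField R)]
    (s : Spec (CommRingCat.of R) ⟶ X) (hs : s.base (IsLocalRing.closedPoint R) = π.base y) :
    ∃ γ : Spec (CommRingCat.of R) ⟶ Y, γ ≫ π = s ∧ γ.base (IsLocalRing.closedPoint R) = y ∧
      (Flat s → Flat γ) := by
  have hfin : IsFinite (pullback.snd π s) := MorphismProperty.pullback_snd _ _ inferInstance
  have het : Etale (pullback.snd π s) := MorphismProperty.pullback_snd _ _ inferInstance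
  let T' : FEt.Cat (Spec (CommRingCat.of R)) :=
    MorphismProperty.Over.mk ⊤ (pullback.snd π s) ⟨hfin, het⟩
  obtain ⟨B, _, _, hBf, hBe, e₀, he₀⟩ := Groth.Agent.H6.FEtAff.exists_affine_model R T'
  change pullback π s ≅ Spec (CommRingCat.of B) at e₀
  change e₀.hom ≫ Spec.map (CommRingCat.ofHom (algebraMap R B)) = pullback.snd π s at he₀
  obtain ⟨t, ht1, ht2⟩ := Scheme.Pullback.exists_preimage_pullback (f := π) (g := s) y
    (IsLocalRing.closedPoint R) hs.symm
  let q : PrimeSpectrum B := e₀.hom.base t
  have hq : q.asIdeal.comap (algebraMap R B) = IsLocalRing.maximalIdeal R := by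
    have h1 : (Spec.map (CommRingCat.ofHom (algebraMap R B))).base (e₀.hom.base t) =
        IsLocalRing.closedPoint R := by
      rw [← ht2, ← he₀]; rfl
    have h2 := congrArg PrimeSpectrum.asIdeal h1
    exact h2
  obtain ⟨g, hg⟩ := Groth.Agent.H8.Hens.StrictSec.exists_algHom_comap_eq R B q.asIdeal hq
  let σ : Spec (CommRingCat.of R) ⟶ pullback π s :=
    Spec.map (CommRingCat.ofHom g.toRingHom) ≫ e₀.inv
  have hσ : σ ≫ pullback.snd π s = 𝟙 _ := by
    change (Spec.map (CommRingCat.ofHom g.toRingHom) ≫ e₀.inv) ≫ pullback.snd π s = 𝟙 _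
    rw [← he₀, Category.assoc, Iso.inv_hom_id_assoc, ← Spec.map_comp, ← CommRingCat.ofHom_comp]
    have : g.toRingHom.comp (algebraMap R B) = RingHom.id R := by
      apply RingHom.ext; intro r
      change g (algebraMap R B r) = r
      rw [g.commutes]; rfl
    rw [this]
    exact Spec.map_id _
  refine ⟨σ ≫ pullback.fst π s, ?_, ?_, ?_⟩
  · rw [Category.assoc, pullback.condition, ← Category.assoc, hσ, Category.id_comp]
  · have h1 : (Spec.map (CommRingCat.ofHom g.toRingHom)).base (IsLocalRing.closedPoint R) = q := by
      apply PrimeSpectrum.ext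
      exact hg
    have h2 : σ.base (IsLocalRing.closedPoint R) = t := by
      change e₀.inv.base ((Spec.map (CommRingCat.ofHom g.toRingHom)).base
        (IsLocalRing.closedPoint R)) = t
      rw [h1]
      change (e₀.hom ≫ e₀.inv).base t = t
      rw [Iso.hom_inv_id]; rfl
    change (pullback.fst π s).base (σ.base (IsLocalRing.closedPoint R)) = y
    rw [h2, ht1]
  · intro hflat
    haveI : Etale (σ ≫ pullback.snd π s) := by rw [hσ]; infer_instance
    haveI : Etale σ := Etale.of_comp σ (pullback.snd π s)
    haveI : Flat (pullback.fst π s) := MorphismProperty.pullback_fst _ _ hflat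
    infer_instance

end Groth.Agent.H6.StrictHensPt
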