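import Mathlib
import Groth.Prelude
import Groth.Agent.S0537
import Groth.Agent.S0538
import Groth.Agent.S0539
import Groth.Agent.Lib.Helper6.FEtFF2
import Groth.Agent.Lib.Helper6.QCClosure
import Groth.Agent.Lib.Helper6.StrictHensPt
import Groth.Agent.Lib.Helper9.Misc.FLH1

universe u
open CategoryTheory CategoryTheory.Limits AlgebraicGeometry TopologicalSpace Opposite TensorProduct

set_option linter.unusedSectionVars false
set_option linter.unusedSimpArgs false
set_option linter.style.haveILetI false
namespace Groth.Agent.H6.ConnInf

open Groth.Agent.H6.FEtFF

/-- a map with dense range such that images of complementary clopen subsets have disjoint closures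
induces a bijection on clopen subsets. -/
theorem clopen_of_disjoint_closures {P Y : Scheme.{u}} (q : P ⟶ Y) (hd : DenseRange q.base)
    (h : ∀ W : Set P, IsClopen W → Disjoint (closure (q.base '' W)) (closure (q.base '' Wᶜ))) :
    ClopenInj q ∧ ClopenSurj q := by
  constructor
  · intro Z hZ hr
    have := hd.closure_range
    rw [Set.eq_univ_iff_forall]
    intro y
    have hy : y ∈ closure (Set.range q.base) := by rw [this]; trivial
    exact (closure_minimal hr hZ.isClosed) hy
  · intro Z' hZ'
    have hdis := h Z' hZ'
    have hcov : closure (q.base '' Z') ∪ closure (q.base '' Z'ᶜ) = Set.univ := by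
      rw [← closure_union, ← Set.image_union, Set.union_compl_self, Set.image_univ]
      exact hd.closure_range
    have hcompl : (closure (q.base '' Z'))ᶜ = closure (q.base '' Z'ᶜ) := by
      ext y
      constructor
      · intro hy
        have : y ∈ closure (q.base '' Z') ∪ closure (q.base '' Z'ᶜ) := by rw [hcov]; trivial
        rcases this with h1 | h1
        · exact absurd h1 hy
        · exact h1
      · intro hy hy'
        exact Set.disjoint_left.mp hdis hy' hy
    refine ⟨closure (q.base '' Z'), ⟨isClosed_closure, ?_⟩, ?_⟩
    · rw [← isClosed_compl_iff, hcompl]; exact isClosed_closure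
    · ext p
      constructor
      · intro hp
        by_contra hp'
        have h1 : q.base p ∈ closure (q.base '' Z'ᶜ) := subset_closure ⟨p, hp', rfl⟩
        exact Set.disjoint_left.mp hdis hp h1
      · intro hp
        exact subset_closure ⟨p, hp, rfl⟩

/-- the inclusion of a clopen subset is quasi-compact. -/
theorem quasiCompact_ι_of_isClosed {P : Scheme.{u}} (W : P.Opens) (hW : IsClosed (W : Set P)) :
    QuasiCompact W.ι := by
  rw [quasiCompact_iff]
  intro K hKo hKc
  rw [W.ι.isOpenEmbedding.isEmbedding.isCompact_iff, Set.image_preimage_eq_inter_range]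
  rw [Scheme.Opens.range_ι]
  exact hKc.inter_right hW

end Groth.Agent.H6.ConnInf
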