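import Mathlib
import Groth.Prelude
import Groth.Agent.Lib.Helper6.ConnInf

universe u
open CategoryTheory CategoryTheory.Limits AlgebraicGeometry TopologicalSpace Opposite TensorProduct

set_option linter.unusedSectionVars false
set_option linter.unusedSimpArgs false
set_option linter.style.haveILetI false
namespace Groth.Agent.H6.ConnInf

open Groth.Agent.H6.FEtFF

/-- the canonical morphism from the spectrum of a strict henselization of the local ring at `x`. -/
noncomputable abbrev sMap (X : Scheme.{u}) (x : X) (R : Type u) [CommRing R]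
    [Algebra (X.presheaf.stalk x) R] : Spec (CommRingCat.of R) ⟶ X :=
  Spec.map (CommRingCat.ofHom (algebraMap (X.presheaf.stalk x) R)) ≫ X.fromSpecStalk x

theorem sMap_closedPoint (X : Scheme.{u}) (x : X) (R : Type u) [CommRing R] [IsLocalRing R]
    [Algebra (X.presheaf.stalk x) R] [IsLocalHom (algebraMap (X.presheaf.stalk x) R)] :
    (sMap X x R).base (IsLocalRing.closedPoint R) = x := by
  have h1 : (Spec.map (CommRingCat.ofHom (algebraMap (X.presheaf.stalk x) R))).base
      (IsLocalRing.closedPoint R) = IsLocalRing.closedPoint (X.presheaf.stalk x) :=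
    IsLocalRing.comap_closedPoint (algebraMap (X.presheaf.stalk x) R)
  change (X.fromSpecStalk x).base ((Spec.map (CommRingCat.ofHom
    (algebraMap (X.presheaf.stalk x) R))).base (IsLocalRing.closedPoint R)) = x
  rw [h1]
  exact Scheme.fromSpecStalk_closedPoint

theorem flat_sMap (X : Scheme.{u}) (x : X) (R : Type u) [CommRing R] [IsLocalRing R]
    [Algebra (X.presheaf.stalk x) R] [IsLocalHom (algebraMap (X.presheaf.stalk x) R)]
    [Hensel.IsStrictHenselization (X.presheaf.stalk x) R] : Flat (sMap X x R) := by
  haveI : Module.FaithfullyFlat (X.presheaf.stalk x) R :=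
    Groth.Agent.S0539.result (X.presheaf.stalk x) R
  haveI : Flat (Spec.map (CommRingCat.ofHom (algebraMap (X.presheaf.stalk x) R))) := by
    rw [Flat.SpecMap_iff]
    exact RingHom.flat_algebraMap_iff.mpr inferInstance
  haveI := Groth.Agent.H9.FLH.flat_fromSpecStalk X x
  infer_instance

/-- points of the strict henselization other than the closed point map into `U`. -/
theorem sMap_mem {X : Scheme.{u}} (U : X.Opens)
    (hcl : ∀ x : X, x ∉ U → IsClosed ({x} : Set X))
    (x : X) (R : Type u) [CommRing R] [IsLocalRing R] [Algebra (X.presheaf.stalk x) R]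
    [IsLocalHom (algebraMap (X.presheaf.stalk x) R)]
    [Hensel.IsStrictHenselization (X.presheaf.stalk x) R]
    (r : Spec (CommRingCat.of R)) (hr : r ≠ IsLocalRing.closedPoint R) :
    (sMap X x R).base r ∈ U := by
  by_contra hx'
  have h1 : r ⤳ IsLocalRing.closedPoint R := IsLocalRing.specializes_closedPoint (R := R) r
  have h2 : (sMap X x R).base r ⤳ (sMap X x R).base (IsLocalRing.closedPoint R) :=
    h1.map (sMap X x R).continuous
  rw [sMap_closedPoint] at h2
  have h4 : x ∈ closure {(sMap X x R).base r} := specializes_iff_mem_closure.mp h2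
  rw [(hcl _ hx').closure_eq, Set.mem_singleton_iff] at h4
  have h5 : (X.fromSpecStalk x).base ((Spec.map (CommRingCat.ofHom
      (algebraMap (X.presheaf.stalk x) R))).base r) =
      (X.fromSpecStalk x).base (IsLocalRing.closedPoint (X.presheaf.stalk x)) := by
    rw [Scheme.fromSpecStalk_closedPoint]
    exact h4.symm
  have h6 := (X.fromSpecStalk x).isEmbedding.injective h5
  have h7 : Ideal.comap (algebraMap (X.presheaf.stalk x) R) r.asIdeal =
      IsLocalRing.maximalIdeal (X.presheaf.stalk x) := congrArg PrimeSpectrum.asIdeal h6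
  have h8 : Ideal.map (algebraMap (X.presheaf.stalk x) R)
      (IsLocalRing.maximalIdeal (X.presheaf.stalk x)) ≤ r.asIdeal := by
    rw [Ideal.map_le_iff_le_comap, h7]
  rw [Groth.Agent.S0538.result (X.presheaf.stalk x) R] at h8
  have h9 : r.asIdeal = IsLocalRing.maximalIdeal R :=
    ((IsLocalRing.maximalIdeal.isMaximal R).eq_of_le r.isPrime.ne_top h8).symm
  exact hr (PrimeSpectrum.ext h9)

end Groth.Agent.H6.ConnInf
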