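import Mathlib
import Groth.Prelude
import Groth.Agent.Lib.Helper6.ConnInf2

universe u
open CategoryTheory CategoryTheory.Limits AlgebraicGeometry TopologicalSpace Opposite TensorProduct

set_option linter.unusedSectionVars false
set_option linter.unusedSimpArgs false
set_option linter.style.haveILetI false
namespace Groth.Agent.H6.ConnInf

open Groth.Agent.H6.FEtFF

/-- if all punctured points land in the image of the clopen `W₀`, then the closed point's image is
not in the closure of the image of the complement. -/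
theorem not_mem_closure_compl {P Y : Scheme.{u}} (q : P ⟶ Y) [IsOpenImmersion q] [QuasiCompact q]
    (R : Type u) [CommRing R] [IsLocalRing R] (γ : Spec (CommRingCat.of R) ⟶ Y) [Flat γ]
    (hy : γ.base (IsLocalRing.closedPoint R) ∉ Set.range q.base)
    (W₀ : Set P) (hW₀ : IsClopen W₀)
    (h : ∀ r : Spec (CommRingCat.of R), r ≠ IsLocalRing.closedPoint R → γ.base r ∈ q.base '' W₀) :
    γ.base (IsLocalRing.closedPoint R) ∉ closure (q.base '' W₀ᶜ) := by
  intro hcl'
  let W' : P.Opens := ⟨W₀ᶜ, hW₀.compl.isOpen⟩
  haveI : QuasiCompact W'.ι := quasiCompact_ι_of_isClosed W' hW₀.compl.isClosed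
  have hrange : Set.range (W'.ι ≫ q).base = q.base '' W₀ᶜ := by
    rw [Scheme.Hom.comp_base, TopCat.coe_comp, Set.range_comp, Scheme.Opens.range_ι]
    rfl
  obtain ⟨a, ha⟩ := Groth.Agent.H6.QCClosure.exists_specializes_of_mem_closure_range (W'.ι ≫ q)
    (by rw [hrange]; exact hcl')
  have hgen : GeneralizingMap γ.base := Flat.generalizingMap γ
  obtain ⟨r', -, hr'z⟩ := hgen ha
  have hr'ne : r' ≠ IsLocalRing.closedPoint R := by
    intro he
    apply hy
    rw [← he, hr'z]
    exact ⟨(W'.ι.base a), rfl⟩
  obtain ⟨w, hw, hw'⟩ := h r' hr'ne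
  have h1 : q.base w = q.base (W'.ι.base a) := by rw [hw', hr'z]; rfl
  have h2 := q.isOpenEmbedding.injective h1
  have h3 : W'.ι.base a ∈ W₀ᶜ := a.2
  rw [← h2] at h3
  exact h3 hw

theorem disjoint_closures {X : Scheme.{u}} (U : X.Opens) [QuasiCompact U.ι]
    (hcl : ∀ x : X, x ∉ U → IsClosed ({x} : Set X))
    (hsh : ∀ x : X, x ∉ U → ∀ (R : Type u) [CommRing R] [IsLocalRing R]
      [Algebra (X.presheaf.stalk x) R]
      [IsLocalHom (algebraMap (X.presheaf.stalk x) R)]
      [Hensel.IsStrictHenselization (X.presheaf.stalk x) R],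
      ConnectedSpace (FEt.puncturedSpec R : Scheme.{u}))
    {Y : Scheme.{u}} (π : Y ⟶ X) [IsFinite π] [Etale π]
    (W : Set ↥(pullback π U.ι)) (hW : IsClopen W) :
    Disjoint (closure ((pullback.fst π U.ι).base '' W))
      (closure ((pullback.fst π U.ι).base '' Wᶜ)) := by
  rw [Set.disjoint_left]
  intro y hy hy'
  set q := pullback.fst π U.ι with hq
  have hrq : Set.range q.base = π.base ⁻¹' (U : Set X) := by
    rw [hq, Scheme.Pullback.range_fst, Scheme.Opens.range_ι]
  by_cases hyr : y ∈ Set.range q.base
  · obtain ⟨p, rfl⟩ := hyr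
    have e := q.isOpenEmbedding.isEmbedding
    have h1 : p ∈ closure W := by
      rw [e.closure_eq_preimage_closure_image]; exact hy
    have h2 : p ∈ closure Wᶜ := by
      rw [e.closure_eq_preimage_closure_image]; exact hy'
    rw [hW.isClosed.closure_eq] at h1
    rw [hW.compl.isClosed.closure_eq] at h2
    exact h2 h1
  · have hx : π.base y ∉ U := by
      intro hx
      apply hyr
      rw [hrq]
      exact hx
    obtain ⟨R, _, _, _, _, hSH⟩ := Groth.Agent.S0537.result (X.presheaf.stalk (π.base y))
    have hconn := hsh (π.base y) hx R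
    haveI : HenselianLocalRing R := hSH.henselian
    haveI : IsSepClosed (IsLocalRing.ResidueField R) := hSH.isSepClosure.sep_closed
    obtain ⟨γ, hγπ, hγy, hγflat⟩ :=
      Groth.Agent.H6.StrictHensPt.exists_lift_of_strictlyHenselian π y R
        (sMap X (π.base y) R) (sMap_closedPoint X (π.base y) R)
    haveI : Flat γ := hγflat (flat_sMap X (π.base y) R)
    have hyr' : γ.base (IsLocalRing.closedPoint R) ∉ Set.range q.base := by rw [hγy]; exact hyr
    -- punctured points land in the range of q
    have hpunct : ∀ r : Spec (CommRingCat.of R), r ≠ IsLocalRing.closedPoint R →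
        γ.base r ∈ Set.range q.base := by
      intro r hr
      rw [hrq, Set.mem_preimage]
      have h1 : π.base (γ.base r) = (sMap X (π.base y) R).base r := by
        rw [← hγπ]; rfl
      rw [h1]
      exact sMap_mem U hcl (π.base y) R r hr
    let A : Set ↥(FEt.puncturedSpec R : Scheme.{u}) := {r | γ.base r.1 ∈ q.base '' W}
    have hcont : Continuous (fun r : ↥(FEt.puncturedSpec R : Scheme.{u}) => γ.base r.1) :=
      γ.continuous.comp continuous_subtype_val
    have hAo : IsOpen A := (q.isOpenEmbedding.isOpenMap W hW.isOpen).preimage hcont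
    have hAc : Aᶜ = {r | γ.base r.1 ∈ q.base '' Wᶜ} := by
      ext r
      constructor
      · intro hr
        obtain ⟨p, hp⟩ := hpunct r.1 r.2
        refine ⟨p, ?_, hp⟩
        intro hpW
        exact hr ⟨p, hpW, hp⟩
      · rintro ⟨p, hp, hp'⟩ ⟨p', hp'W, hp''⟩
        have := q.isOpenEmbedding.injective (hp'.trans hp''.symm)
        rw [this] at hp
        exact hp hp'W
    have hAco : IsOpen Aᶜ := by
      rw [hAc]
      exact (q.isOpenEmbedding.isOpenMap Wᶜ hW.compl.isOpen).preimage hcont
    have hAclopen : IsClopen A := ⟨isOpen_compl_iff.mp hAco, hAo⟩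
    rcases isClopen_iff.mp hAclopen with hA | hA
    · -- A = ∅ : all punctured points land in the image of Wᶜ
      have hall : ∀ r : Spec (CommRingCat.of R), r ≠ IsLocalRing.closedPoint R →
          γ.base r ∈ q.base '' Wᶜ := by
        intro r hr
        have : (⟨r, hr⟩ : ↥(FEt.puncturedSpec R : Scheme.{u})) ∈ Aᶜ := by
          rw [hA, Set.compl_empty]; trivial
        rw [hAc] at this
        exact this
      have := not_mem_closure_compl q R γ hyr' Wᶜ hW.compl hall
      rw [compl_compl, hγy] at this
      exact this hy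
    · have hall : ∀ r : Spec (CommRingCat.of R), r ≠ IsLocalRing.closedPoint R →
          γ.base r ∈ q.base '' W := by
        intro r hr
        have : (⟨r, hr⟩ : ↥(FEt.puncturedSpec R : Scheme.{u})) ∈ A := by
          rw [hA]; trivial
        exact this
      have := not_mem_closure_compl q R γ hyr' W hW hall
      rw [hγy] at this
      exact this hy'

theorem s1145 {X : Scheme.{u}} (U : X.Opens)
    (hU : Dense (U : Set X)) [QuasiCompact U.ι] (hcl : ∀ x : X, x ∉ U → IsClosed ({x} : Set X))
    (hsh : ∀ x : X, x ∉ U → ∀ (R : Type u) [CommRing R] [IsLocalRing R]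
      [Algebra (X.presheaf.stalk x) R]
      [IsLocalHom (algebraMap (X.presheaf.stalk x) R)]
      [Hensel.IsStrictHenselization (X.presheaf.stalk x) R],
      ConnectedSpace (FEt.puncturedSpec R : Scheme.{u})) :
    (FEt.restrict U.ι).Full ∧ (FEt.restrict U.ι).Faithful := by
  have key : ∀ Y : FEt.Cat X, ClopenInj (pullback.fst Y.hom U.ι) ∧
      ClopenSurj (pullback.fst Y.hom U.ι) := by
    intro Y
    let π : Y.left ⟶ X := Y.hom
    haveI : IsFinite π := Y.prop.1
    haveI : Etale π := Y.prop.2
    refine clopen_of_disjoint_closures (pullback.fst π U.ι) ?_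
      (fun W hW => disjoint_closures U hcl hsh π W hW)
    -- density
    have hrq : Set.range (pullback.fst π U.ι).base = π.base ⁻¹' (U : Set X) := by
      rw [Scheme.Pullback.range_fst, Scheme.Opens.range_ι]
    rw [DenseRange, hrq]
    exact hU.preimage π.isOpenMap
  exact full_faithful_of_clopen U.ι (fun Y => (key Y).1) (fun Y => (key Y).2)

end Groth.Agent.H6.ConnInf
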