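import Mathlib

universe u
open CategoryTheory CategoryTheory.Limits AlgebraicGeometry TopologicalSpace Opposite

set_option linter.unusedSectionVars false
set_option linter.unusedSimpArgs false
set_option linter.style.haveILetI false
namespace Groth.Agent.H6.ConnInf

/-- a nonempty closed subset of a sober space contains a point none of whose proper
generalizations lies in the subset. -/
theorem exists_minimal_generalization {Y : Type*} [TopologicalSpace Y] [QuasiSober Y] [T0Space Y]
    {B : Set Y} (hB : IsClosed B) (hne : B.Nonempty) :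
    ∃ y ∈ B, ∀ z ∈ B, z ⤳ y → z = y := by
  obtain ⟨b, hb⟩ := hne
  obtain ⟨t, ht, hbt, hmax⟩ := exists_preirreducible ({(⟨b, hb⟩ : B)} : Set B)
    isPreirreducible_singleton
  have hbt' : (⟨b, hb⟩ : B) ∈ t := hbt rfl
  have htcl : IsClosed t := by
    have h1 := hmax (closure t) ht.closure subset_closure
    rw [← h1]; exact isClosed_closure
  let C' : Set Y := Subtype.val '' t
  have hC'cl : IsClosed C' := hB.isClosedEmbedding_subtypeVal.isClosedMap t htcl
  have hC'irr : IsIrreducible C' :=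
    ⟨⟨b, ⟨b, hb⟩, hbt', rfl⟩, ht.image _ continuous_subtype_val.continuousOn⟩
  obtain ⟨y, hy⟩ := QuasiSober.sober hC'irr hC'cl
  have hyC' : y ∈ C' := hy.mem
  have hyB : y ∈ B := by
    obtain ⟨w, -, rfl⟩ := hyC'
    exact w.2
  refine ⟨y, hyB, fun z hz hzy => ?_⟩
  let u : Set B := closure {(⟨z, hz⟩ : B)}
  have hu : IsPreirreducible u := isPreirreducible_singleton.closure
  have htu : t ⊆ u := by
    intro w hw
    change w ∈ closure {(⟨z, hz⟩ : B)}
    rw [closure_subtype, Set.image_singleton]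
    have h1 : (w : Y) ∈ C' := ⟨w, hw, rfl⟩
    have h2 : (w : Y) ∈ closure {y} := by rw [hy.def]; exact h1
    have h3 : closure {y} ⊆ closure {z} :=
      closure_minimal (Set.singleton_subset_iff.mpr (specializes_iff_mem_closure.mp hzy))
        isClosed_closure
    exact h3 h2
  have hut := hmax u hu htu
  have hzt : (⟨z, hz⟩ : B) ∈ t := by rw [← hut]; exact subset_closure rfl
  have hzC' : z ∈ C' := ⟨⟨z, hz⟩, hzt, rfl⟩
  have hyz : y ⤳ z := by
    rw [specializes_iff_mem_closure, hy.def]; exact hzC'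
  exact (hzy.antisymm hyz).eq

/-- In a quasi-sober `T0` space with finitely many irreducible components, there is a finite set
of points such that every point is a specialization of one of them. -/
theorem exists_finite_generic {Z : Type*} [TopologicalSpace Z] [QuasiSober Z] [T0Space Z]
    (h : (irreducibleComponents Z).Finite) :
    ∃ Ξ : Set Z, Ξ.Finite ∧ ∀ x : Z, ∃ ξ ∈ Ξ, ξ ⤳ x := by
  refine ⟨⋃ C ∈ irreducibleComponents Z, {ξ | IsGenericPoint ξ C}, ?_, ?_⟩
  · refine h.biUnion fun C _ => Set.Subsingleton.finite ?_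
    intro a ha b hb
    exact ha.eq hb
  · intro x
    obtain ⟨ξ, hξ⟩ := QuasiSober.sober (isIrreducible_irreducibleComponent (x := x))
      isClosed_irreducibleComponent
    refine ⟨ξ, ?_, ?_⟩
    · simp only [Set.mem_iUnion]
      exact ⟨_, irreducibleComponent_mem_irreducibleComponents x, hξ⟩
    · rw [specializes_iff_mem_closure, hξ.def]
      exact mem_irreducibleComponent

/-- for a finite flat morphism to a scheme whose quasi-compact opens have finitely many irreducible
components, the closure of an open subset of the source consists of specializations of its points. -/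
theorem exists_specializes_of_mem_closure_open {X Y : Scheme.{u}} (π : Y ⟶ X) [IsFinite π] [Flat π]
    (hirr : ∀ V : X.Opens, IsCompact (V : Set X) → (irreducibleComponents ↥V).Finite)
    (O : Set Y) (hO : IsOpen O) (y : Y) (hy : y ∈ closure O) : ∃ z ∈ O, z ⤳ y := by
  obtain ⟨_, ⟨X₀, hX₀, rfl⟩, hyX₀, -⟩ :=
    X.isBasis_affineOpens.exists_subset_of_mem_open (Set.mem_univ (π.base y)) isOpen_univ
  haveI : QuasiSober ↥X₀ := X₀.isOpenEmbedding'.quasiSober
  obtain ⟨Ξ, hΞfin, hΞ⟩ := exists_finite_generic (hirr X₀ hX₀.isCompact)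
  let F : Set Y := π.base ⁻¹' (Subtype.val '' Ξ)
  have hF : F.Finite := π.finite_preimage (hΞfin.image _)
  have hgen : GeneralizingMap π.base := Flat.generalizingMap π
  let Y₀ : Set Y := π.base ⁻¹' (X₀ : Set X)
  have hY₀ : IsOpen Y₀ := X₀.isOpen.preimage π.continuous
  have hcov : ∀ y' ∈ Y₀, ∃ η ∈ F, η ⤳ y' := by
    intro y' hy'
    obtain ⟨ξ, hξ, hξx⟩ := hΞ ⟨π.base y', hy'⟩
    have h1 : (ξ : X) ⤳ π.base y' := hξx.map continuous_subtype_val
    obtain ⟨η, hη, hηξ⟩ := hgen h1
    exact ⟨η, ⟨ξ, hξ, hηξ.symm⟩, hη⟩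
  have h1 : y ∈ closure (Y₀ ∩ O) := hY₀.inter_closure ⟨hyX₀, hy⟩
  have h2 : Y₀ ∩ O ⊆ ⋃ η ∈ F, (Y₀ ∩ O ∩ closure {η}) := by
    intro w hw
    obtain ⟨η, hη, hηw⟩ := hcov w hw.1
    simp only [Set.mem_iUnion]
    exact ⟨η, hη, hw, specializes_iff_mem_closure.mp hηw⟩
  have h3 := closure_mono h2 h1
  rw [hF.closure_biUnion] at h3
  simp only [Set.mem_iUnion] at h3
  obtain ⟨η, hη, h4⟩ := h3
  have h5 : (Y₀ ∩ O ∩ closure {η}).Nonempty := by
    by_contra hne
    rw [Set.not_nonempty_iff_eq_empty] at hne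
    rw [hne, closure_empty] at h4
    exact h4
  obtain ⟨z₀, ⟨-, hz₀O⟩, hz₀η⟩ := h5
  have hηz₀ : η ⤳ z₀ := specializes_iff_mem_closure.mpr hz₀η
  refine ⟨η, hηz₀.mem_open hO hz₀O, ?_⟩
  rw [specializes_iff_mem_closure]
  have : closure (Y₀ ∩ O ∩ closure {η}) ⊆ closure {η} :=
    closure_minimal Set.inter_subset_right isClosed_closure
  exact this h4

end Groth.Agent.H6.ConnInf
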