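import Mathlib
import Groth.Prelude
import Groth.Agent.Lib.Helper6.ConnInf3
import Groth.Agent.Lib.Helper6.ConnInf4

universe u
open CategoryTheory CategoryTheory.Limits AlgebraicGeometry TopologicalSpace Opposite TensorProduct

set_option linter.unusedSectionVars false
set_option linter.unusedSimpArgs false
set_option linter.style.haveILetI false
namespace Groth.Agent.H6.ConnInf

open Groth.Agent.H6.FEtFF

/-- only the closed point of the strict henselization maps to `x`. -/
theorem eq_closedPoint_of_sMap_eq {X : Scheme.{u}}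
    (x : X) (R : Type u) [CommRing R] [IsLocalRing R] [Algebra (X.presheaf.stalk x) R]
    [IsLocalHom (algebraMap (X.presheaf.stalk x) R)]
    [Hensel.IsStrictHenselization (X.presheaf.stalk x) R]
    (r : Spec (CommRingCat.of R)) (hr : (sMap X x R).base r = x) :
    r = IsLocalRing.closedPoint R := by
  have h5 : (X.fromSpecStalk x).base ((Spec.map (CommRingCat.ofHom
      (algebraMap (X.presheaf.stalk x) R))).base r) =
      (X.fromSpecStalk x).base (IsLocalRing.closedPoint (X.presheaf.stalk x)) := by
    rw [Scheme.fromSpecStalk_closedPoint]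
    exact hr
  have h6 := (X.fromSpecStalk x).isEmbedding.injective h5
  have h7 : Ideal.comap (algebraMap (X.presheaf.stalk x) R) r.asIdeal =
      IsLocalRing.maximalIdeal (X.presheaf.stalk x) := congrArg PrimeSpectrum.asIdeal h6
  have h8 : Ideal.map (algebraMap (X.presheaf.stalk x) R)
      (IsLocalRing.maximalIdeal (X.presheaf.stalk x)) ≤ r.asIdeal := by
    rw [Ideal.map_le_iff_le_comap, h7]
  rw [Groth.Agent.S0538.result (X.presheaf.stalk x) R] at h8
  have h9 : r.asIdeal = IsLocalRing.maximalIdeal R :=
    ((IsLocalRing.maximalIdeal.isMaximal R).eq_of_le r.isPrime.ne_top h8).symm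
  exact PrimeSpectrum.ext h9

theorem disjoint_closures' {X : Scheme.{u}} (U : X.Opens) (hU : Dense (U : Set X))
    (hirr : ∀ V : X.Opens, IsCompact (V : Set X) → (irreducibleComponents ↥V).Finite)
    (hsh : ∀ x : X, x ∉ U → ∀ (R : Type u) [CommRing R] [IsLocalRing R]
      [Algebra (X.presheaf.stalk x) R]
      [IsLocalHom (algebraMap (X.presheaf.stalk x) R)]
      [Hensel.IsStrictHenselization (X.presheaf.stalk x) R],
      ConnectedSpace (FEt.puncturedSpec R : Scheme.{u}))
    {Y : Scheme.{u}} (π : Y ⟶ X) [IsFinite π] [Etale π]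
    (W : Set ↥(pullback π U.ι)) (hW : IsClopen W) :
    Disjoint (closure ((pullback.fst π U.ι).base '' W))
      (closure ((pullback.fst π U.ι).base '' Wᶜ)) := by
  rw [Set.disjoint_iff_inter_eq_empty]
  by_contra hne
  rw [← Ne, ← Set.nonempty_iff_ne_empty] at hne
  set q := pullback.fst π U.ι with hq
  have hrq : Set.range q.base = π.base ⁻¹' (U : Set X) := by
    rw [hq, Scheme.Pullback.range_fst, Scheme.Opens.range_ι]
  have hdense : closure (Set.range q.base) = Set.univ := by
    rw [hrq]
    exact (hU.preimage π.isOpenMap).closure_eq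
  obtain ⟨y, ⟨hy, hy'⟩, hmin⟩ := exists_minimal_generalization
    (isClosed_closure.inter isClosed_closure) hne
  have hyr : y ∉ Set.range q.base := by
    rintro ⟨p, rfl⟩
    have e := q.isOpenEmbedding.isEmbedding
    have h1 : p ∈ closure W := by
      rw [e.closure_eq_preimage_closure_image]; exact hy
    have h2 : p ∈ closure Wᶜ := by
      rw [e.closure_eq_preimage_closure_image]; exact hy'
    rw [hW.isClosed.closure_eq] at h1
    rw [hW.compl.isClosed.closure_eq] at h2
    exact h2 h1
  have hx : π.base y ∉ U := by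
    intro hx
    apply hyr
    rw [hrq]
    exact hx
  obtain ⟨R, _, _, _, _, hSH⟩ := Groth.Agent.S0537.result (X.presheaf.stalk (π.base y))
  have hconn := hsh (π.base y) hx R
  haveI : HenselianLocalRing R := hSH.henselian
  haveI : IsSepClosed (IsLocalRing.ResidueField R) := hSH.isSepClosure.sep_closed
  obtain ⟨γ, hγπ, hγy, hγflat⟩ :=
    Groth.Agent.H6.StrictHensPt.exists_lift_of_strictlyHenselian π y R
      (sMap X (π.base y) R) (sMap_closedPoint X (π.base y) R)
  haveI : Flat γ := hγflat (flat_sMap X (π.base y) R)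
  have hgen : GeneralizingMap γ.base := Flat.generalizingMap γ
  -- punctured points avoid the bad set
  have hpunct : ∀ r : Spec (CommRingCat.of R), r ≠ IsLocalRing.closedPoint R →
      ¬ (γ.base r ∈ closure (q.base '' W) ∧ γ.base r ∈ closure (q.base '' Wᶜ)) := by
    intro r hr hB
    have h1 : r ⤳ IsLocalRing.closedPoint R := IsLocalRing.specializes_closedPoint (R := R) r
    have h2 : γ.base r ⤳ y := by
      have := h1.map γ.continuous
      rwa [hγy] at this
    have h3 := hmin (γ.base r) hB h2
    apply hr
    apply eq_closedPoint_of_sMap_eq (π.base y) R r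
    rw [← hγπ]
    change π.base (γ.base r) = π.base y
    rw [h3]
  have hcover : closure (q.base '' W) ∪ closure (q.base '' Wᶜ) = Set.univ := by
    rw [← closure_union, ← Set.image_union, Set.union_compl_self, Set.image_univ]
    exact hdense
  let A : Set ↥(FEt.puncturedSpec R : Scheme.{u}) := {r | γ.base r.1 ∈ (closure (q.base '' Wᶜ))ᶜ}
  have hcont : Continuous (fun r : ↥(FEt.puncturedSpec R : Scheme.{u}) => γ.base r.1) :=
    γ.continuous.comp continuous_subtype_val
  have hAo : IsOpen A := isClosed_closure.isOpen_compl.preimage hcont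
  have hAc : Aᶜ = {r | γ.base r.1 ∈ (closure (q.base '' W))ᶜ} := by
    ext r
    constructor
    · intro hr hr'
      have hr2 : γ.base r.1 ∈ closure (q.base '' Wᶜ) := by
        by_contra h
        exact hr h
      exact hpunct r.1 r.2 ⟨hr', hr2⟩
    · intro hr hr'
      have : γ.base r.1 ∈ closure (q.base '' W) ∪ closure (q.base '' Wᶜ) := by
        rw [hcover]; trivial
      rcases this with h | h
      · exact hr h
      · exact hr' h
  have hAco : IsOpen Aᶜ := by
    rw [hAc]
    exact isClosed_closure.isOpen_compl.preimage hcont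
  have hAclopen : IsClopen A := ⟨isOpen_compl_iff.mp hAco, hAo⟩
  -- the common endgame
  have endgame : ∀ W₀ : Set ↥(pullback π U.ι), IsOpen W₀ → y ∈ closure (q.base '' W₀) →
      (∀ r : Spec (CommRingCat.of R), r ≠ IsLocalRing.closedPoint R →
        γ.base r ∉ closure (q.base '' W₀)) → False := by
    intro W₀ hW₀ hyW₀ hall
    obtain ⟨z, hz, hzy⟩ := exists_specializes_of_mem_closure_open π hirr (q.base '' W₀)
      (q.isOpenEmbedding.isOpenMap W₀ hW₀) y hyW₀
    rw [← hγy] at hzy
    obtain ⟨r', -, hr'z⟩ := hgen hzy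
    have hr'ne : r' ≠ IsLocalRing.closedPoint R := by
      intro he
      apply hyr
      rw [← hγy, ← he, hr'z]
      obtain ⟨w, -, hw⟩ := hz
      exact ⟨w, hw⟩
    apply hall r' hr'ne
    rw [hr'z]
    exact subset_closure hz
  rcases isClopen_iff.mp hAclopen with hA | hA
  · -- A = ∅
    refine endgame W hW.isOpen hy (fun r hr => ?_)
    have : (⟨r, hr⟩ : ↥(FEt.puncturedSpec R : Scheme.{u})) ∈ Aᶜ := by
      rw [hA, Set.compl_empty]; trivial
    rw [hAc] at this
    exact this
  · refine endgame Wᶜ hW.compl.isOpen hy' (fun r hr => ?_)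
    have : (⟨r, hr⟩ : ↥(FEt.puncturedSpec R : Scheme.{u})) ∈ A := by
      rw [hA]; trivial
    exact this

theorem s7283 {X : Scheme.{u}} (U : X.Opens)
    (hU : Dense (U : Set X))
    (hirr : ∀ V : X.Opens, IsCompact (V : Set X) → (irreducibleComponents ↥V).Finite)
    (hsh : ∀ x : X, x ∉ U → ∀ (R : Type u) [CommRing R] [IsLocalRing R]
      [Algebra (X.presheaf.stalk x) R]
      [IsLocalHom (algebraMap (X.presheaf.stalk x) R)]
      [Hensel.IsStrictHenselization (X.presheaf.stalk x) R],
      ConnectedSpace (FEt.puncturedSpec R : Scheme.{u})) :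
    (FEt.restrict U.ι).Full ∧ (FEt.restrict U.ι).Faithful := by
  have key : ∀ Y : FEt.Cat X, ClopenInj (pullback.fst Y.hom U.ι) ∧
      ClopenSurj (pullback.fst Y.hom U.ι) := by
    intro Y
    let π : Y.left ⟶ X := Y.hom
    haveI : IsFinite π := Y.prop.1
    haveI : Etale π := Y.prop.2
    refine clopen_of_disjoint_closures (pullback.fst π U.ι) ?_
      (fun W hW => disjoint_closures' U hU hirr hsh π W hW)
    have hrq : Set.range (pullback.fst π U.ι).base = π.base ⁻¹' (U : Set X) := by
      rw [Scheme.Pullback.range_fst, Scheme.Opens.range_ι]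
    rw [DenseRange, hrq]
    exact hU.preimage π.isOpenMap
  exact full_faithful_of_clopen U.ι (fun Y => (key Y).1) (fun Y => (key Y).2)

end Groth.Agent.H6.ConnInf
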