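import Groth.Prelude.Def_Conn
import Mathlib.LinearAlgebra.TensorProduct.Basis
import Mathlib.LinearAlgebra.FreeModule.Basic
import Mathlib.LinearAlgebra.Trace
import Mathlib.LinearAlgebra.FreeModule.Finite.Basic

/-!
# Basic lemmas on connections at ring level (helper6)
-/

universe v u

open TensorProduct

namespace Groth.Agent.H6.CN

variable {A : Type v} {B Ω M M' : Type u} [CommRing A] [CommRing B] [Algebra A B]
  [AddCommGroup Ω] [Module B Ω] [Module A Ω] [IsScalarTower A B Ω]
  [AddCommGroup M] [Module B M] [Module A M] [IsScalarTower A B M]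
  [AddCommGroup M'] [Module B M'] [Module A M'] [IsScalarTower A B M']

/-- Contraction `M ⊗ Ω → M` with a functional `θ : Ω → B`. -/
noncomputable def contr (θ : Ω →ₗ[B] B) : M ⊗[B] Ω →ₗ[B] M :=
  (TensorProduct.rid B M).toLinearMap ∘ₗ TensorProduct.map LinearMap.id θ

@[simp] theorem contr_tmul (θ : Ω →ₗ[B] B) (m : M) (ω : Ω) :
    contr θ (m ⊗ₜ[B] ω) = θ ω • m := by
  simp [contr]

omit [Module A Ω] [IsScalarTower A B Ω] in
theorem along_eq (nabla : M →ₗ[A] M ⊗[B] Ω) (θ : Ω →ₗ[B] B) (m : M) :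
    Conn.along nabla θ m = contr θ (nabla m) := rfl

theorem along_smul {δ : Derivation A B Ω} {nabla : M →ₗ[A] M ⊗[B] Ω} (hc : Conn.IsConn δ nabla)
    (θ : Ω →ₗ[B] B) (b : B) (m : M) :
    Conn.along nabla θ (b • m) = b • Conn.along nabla θ m + θ (δ b) • m := by
  rw [along_eq, hc b m, map_add, map_smul, contr_tmul, along_eq]

/-- naturality of contraction -/
theorem contr_map (θ : Ω →ₗ[B] B) (φ : M →ₗ[B] M') (x : M ⊗[B] Ω) :
    contr θ (TensorProduct.map φ LinearMap.id x) = φ (contr θ x) := by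
  induction x using TensorProduct.induction_on with
  | zero => simp
  | tmul m ω => simp
  | add x y hx hy => simp only [map_add, hx, hy]

omit [Module A M] [IsScalarTower A B M] [Module A Ω] [IsScalarTower A B Ω] in
theorem contr_eq_equiv {κ : Type*} [DecidableEq κ] (b : Module.Basis κ B Ω) (x : M ⊗[B] Ω) (i : κ) :
    contr (b.coord i) x = TensorProduct.equivFinsuppOfBasisRight b x i :=
  (TensorProduct.equivFinsuppOfBasisRight_apply b x i).symm

omit [Module A M] [IsScalarTower A B M] [Module A Ω] [IsScalarTower A B Ω] in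
theorem ext_contr {κ : Type*} (b : Module.Basis κ B Ω) {x y : M ⊗[B] Ω}
    (h : ∀ i, contr (b.coord i) x = contr (b.coord i) y) : x = y := by
  classical
  apply (TensorProduct.equivFinsuppOfBasisRight b).injective
  ext i
  rw [← contr_eq_equiv, ← contr_eq_equiv, h i]

omit [Module A M] [IsScalarTower A B M] [Module A Ω] [IsScalarTower A B Ω]
  [Module A M'] [IsScalarTower A B M'] in
/-- Elements of `Hom(M, M') ⊗ Ω` are determined by their evaluations when `Ω` is free. -/
theorem ext_ev [Module.Free B Ω] {z z' : (M →ₗ[B] M') ⊗[B] Ω}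
    (h : ∀ m : M, TensorProduct.map (LinearMap.applyₗ m) LinearMap.id z =
      TensorProduct.map (LinearMap.applyₗ m) LinearMap.id z') : z = z' := by
  let b := Module.Free.chooseBasis B Ω
  apply ext_contr b
  intro i
  apply LinearMap.ext
  intro m
  have h1 := congrArg (contr (b.coord i)) (h m)
  rw [contr_map, contr_map] at h1
  exact h1

/-- Evaluation of the covariant derivative of a homomorphism. -/
theorem along_hom_apply {nabla : M →ₗ[A] M ⊗[B] Ω} {nabla' : M' →ₗ[A] M' ⊗[B] Ω}
    {nabla'' : (M →ₗ[B] M') →ₗ[A] (M →ₗ[B] M') ⊗[B] Ω}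
    (hE : Conn.IsHomConn nabla nabla' nabla'') (θ : Ω →ₗ[B] B) (φ : M →ₗ[B] M') (m : M) :
    Conn.along nabla'' θ φ m =
      Conn.along nabla' θ (φ m) - φ (Conn.along nabla θ m) := by
  have h := congrArg (contr θ) (hE φ m)
  rw [contr_map, map_sub, contr_map] at h
  exact h

section Trace

variable {B M : Type*} [CommRing B] [AddCommGroup M] [Module B M]

/-- `tr [∂, φ] = D (tr φ)` for a "derivation" `∂` of a finite free module over `D`. -/
theorem trace_bracket {ι : Type*} [Fintype ι] [DecidableEq ι] (b : Module.Basis ι B M)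
    (D : B →+ B) (d : M →+ M)
    (hd : ∀ (c : B) (m : M), d (c • m) = c • d m + D c • m)
    (φ ψ : M →ₗ[B] M) (hψ : ∀ m, ψ m = d (φ m) - φ (d m)) :
    LinearMap.trace B M ψ = D (LinearMap.trace B M φ) := by
  have htr : ∀ χ : M →ₗ[B] M, LinearMap.trace B M χ = ∑ j, b.repr (χ (b j)) j := by
    intro χ
    rw [LinearMap.trace_eq_matrix_trace B b, Matrix.trace]
    simp [LinearMap.toMatrix_apply]
  rw [htr ψ, htr φ, map_sum]
  -- expand
  have h1 : ∀ j, d (φ (b j)) =
      ∑ k, (b.repr (φ (b j)) k • d (b k) + D (b.repr (φ (b j)) k) • b k) := by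
    intro j
    conv_lhs => rw [← b.sum_repr (φ (b j))]
    rw [map_sum]
    exact Finset.sum_congr rfl fun k _ => hd _ _
  have h2 : ∀ j, φ (d (b j)) = ∑ k, b.repr (d (b j)) k • φ (b k) := by
    intro j
    conv_lhs => rw [← b.sum_repr (d (b j))]
    rw [map_sum]
    exact Finset.sum_congr rfl fun k _ => map_smul _ _ _
  have h3 : ∀ j, b.repr (ψ (b j)) j =
      (∑ k, b.repr (φ (b j)) k * b.repr (d (b k)) j) + D (b.repr (φ (b j)) j)
        - ∑ k, b.repr (d (b j)) k * b.repr (φ (b k)) j := by
    intro j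
    rw [hψ, h1, h2, map_sub, Finsupp.sub_apply, map_sum, map_sum, Finsupp.finset_sum_apply,
      Finsupp.finset_sum_apply]
    simp only [map_add, map_smul, Finsupp.add_apply, Finsupp.smul_apply, smul_eq_mul,
      Module.Basis.repr_self, Finsupp.single_apply, mul_ite, mul_one, mul_zero,
      Finset.sum_add_distrib, Finset.sum_ite_eq', Finset.mem_univ, if_true]
  simp only [h3]
  rw [Finset.sum_sub_distrib, Finset.sum_add_distrib]
  have hswap : ∑ j, ∑ k, b.repr (d (b j)) k * b.repr (φ (b k)) j =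
      ∑ j, ∑ k, b.repr (φ (b j)) k * b.repr (d (b k)) j := by
    rw [Finset.sum_comm]
    refine Finset.sum_congr rfl fun j _ => Finset.sum_congr rfl fun k _ => mul_comm _ _
  rw [hswap]
  abel

end Trace

end Groth.Agent.H6.CN
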