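import Mathlib

set_option autoImplicit false
open CategoryTheory CategoryTheory.Limits Opposite Simplicial SimplexCategory
universe v u

namespace Groth.Agent.H6.CoskExt

/-! ### combinatorics -/

theorem not_surj {Δ : SimplexCategory} {N : ℕ} (h : Δ.len < N) (φ : Δ ⟶ ⦋N⦌) :
    ¬ Function.Surjective φ.toOrderHom := by
  intro hs
  have := Fintype.card_le_of_surjective _ hs
  simp at this
  omega

/-- two factorizations through distinct faces share a common refinement -/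
theorem common_face {Δ : SimplexCategory} {N : ℕ} (i j : Fin (N + 2)) (hij : i ≤ j)
    (ψ ψ' : Δ ⟶ ⦋N + 1⦌) (h : ψ ≫ δ (Fin.castSucc i) = ψ' ≫ δ j.succ) :
    ∃ χ : Δ ⟶ ⦋N⦌, ψ = χ ≫ δ j ∧ ψ' = χ ≫ δ i := by
  have hmiss : ∀ x, ψ'.toOrderHom x ≠ i := by
    intro x hx
    have h1 := congrArg (fun f => f.toOrderHom x) h
    simp only [comp_toOrderHom, OrderHom.comp_coe, Function.comp_apply] at h1
    rw [hx] at h1
    have h2 : (δ j.succ).toOrderHom i = Fin.castSucc i := by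
      show j.succ.succAbove i = _
      exact Fin.succAbove_of_castSucc_lt _ _ (Fin.castSucc_lt_succ_iff.mpr hij)
    rw [h2] at h1
    have h3 : (δ (Fin.castSucc i)).toOrderHom (ψ.toOrderHom x) ≠ Fin.castSucc i := by
      show (Fin.castSucc i).succAbove _ ≠ _
      exact Fin.succAbove_ne _ _
    exact h3 h1
  obtain ⟨χ, hχ⟩ := eq_comp_δ_of_not_surjective' ψ' i hmiss
  refine ⟨χ, ?_, hχ⟩
  rw [hχ, Category.assoc, δ_comp_δ hij, ← Category.assoc] at h
  exact (cancel_mono _).1 h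

/-! ### the functor on simplex-category morphisms -/

variable {C : Type u} [Category.{v} C] (n : ℕ) (U : (SimplexCategory.Truncated (n + 1))ᵒᵖ ⥤ C)

/-- `U` applied to a morphism of the simplex category between truncated objects. -/
def Umap {Δ Δ' : SimplexCategory} (hΔ : Δ.len ≤ n + 1) (hΔ' : Δ'.len ≤ n + 1) (ψ : Δ ⟶ Δ') :
    U.obj (op ⟨Δ', hΔ'⟩) ⟶ U.obj (op ⟨Δ, hΔ⟩) :=
  U.map (Truncated.Hom.tr ψ hΔ hΔ').op

theorem Umap_comp {Δ Δ' Δ'' : SimplexCategory} (hΔ : Δ.len ≤ n + 1) (hΔ' : Δ'.len ≤ n + 1)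
    (hΔ'' : Δ''.len ≤ n + 1) (ψ : Δ ⟶ Δ') (ψ' : Δ' ⟶ Δ'') :
    Umap n U hΔ hΔ'' (ψ ≫ ψ') = Umap n U hΔ' hΔ'' ψ' ≫ Umap n U hΔ hΔ' ψ := by
  unfold Umap
  rw [← U.map_comp]
  rfl

theorem Umap_id {Δ : SimplexCategory} (hΔ : Δ.len ≤ n + 1) :
    Umap n U hΔ hΔ (𝟙 Δ) = 𝟙 _ := by
  unfold Umap
  exact U.map_id _

variable (T : C)
  (π : Fin (n + 3) → (T ⟶ U.obj (op ⟨⦋n + 1⦌, le_refl _⟩)))
  (hπ : ∀ i j : Fin (n + 2), i ≤ j →
    π (Fin.castSucc i) ≫ Umap n U (Nat.le_succ n) (le_refl _) (δ j) =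
      π j.succ ≫ Umap n U (Nat.le_succ n) (le_refl _) (δ i))

include hπ in
theorem indep_lt {Δ : SimplexCategory} (hΔ : Δ.len ≤ n + 1) (i j : Fin (n + 2)) (hij : i ≤ j)
    (ψ ψ' : Δ ⟶ ⦋n + 1⦌) (h : ψ ≫ δ (Fin.castSucc i) = ψ' ≫ δ j.succ) :
    π (Fin.castSucc i) ≫ Umap n U hΔ (le_refl _) ψ = π j.succ ≫ Umap n U hΔ (le_refl _) ψ' := by
  obtain ⟨χ, rfl, rfl⟩ := common_face i j hij ψ ψ' h
  rw [Umap_comp n U hΔ (Nat.le_succ n) (le_refl _), Umap_comp n U hΔ (Nat.le_succ n) (le_refl _),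
    ← Category.assoc, ← Category.assoc, hπ i j hij]

include hπ in
theorem indep {Δ : SimplexCategory} (hΔ : Δ.len ≤ n + 1) (k l : Fin (n + 3))
    (ψ ψ' : Δ ⟶ ⦋n + 1⦌) (h : ψ ≫ δ k = ψ' ≫ δ l) :
    π k ≫ Umap n U hΔ (le_refl _) ψ = π l ≫ Umap n U hΔ (le_refl _) ψ' := by
  rcases lt_trichotomy k l with hkl | rfl | hkl
  · obtain ⟨i, rfl⟩ := Fin.exists_castSucc_eq.2 (Fin.ne_last_of_lt hkl)
    obtain ⟨j, rfl⟩ := Fin.exists_succ_eq.2 (Fin.ne_zero_of_lt hkl)
    exact indep_lt n U T π hπ hΔ i j (Fin.castSucc_lt_succ_iff.1 hkl) ψ ψ' h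
  · rw [(cancel_mono _).1 h]
  · obtain ⟨i, rfl⟩ := Fin.exists_castSucc_eq.2 (Fin.ne_last_of_lt hkl)
    obtain ⟨j, rfl⟩ := Fin.exists_succ_eq.2 (Fin.ne_zero_of_lt hkl)
    exact (indep_lt n U T π hπ hΔ i j (Fin.castSucc_lt_succ_iff.1 hkl) ψ' ψ h.symm).symm

/-- the leg of the cone with apex `T` -/
noncomputable def leg {Δ : SimplexCategory} (hΔ : Δ.len ≤ n + 1) (φ : Δ ⟶ ⦋n + 2⦌) :
    T ⟶ U.obj (op ⟨Δ, hΔ⟩) :=
  π (eq_comp_δ_of_not_surjective φ (not_surj (Nat.lt_succ_of_le hΔ) φ)).choose ≫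
    Umap n U hΔ (le_refl _)
      (eq_comp_δ_of_not_surjective φ (not_surj (Nat.lt_succ_of_le hΔ) φ)).choose_spec.choose

include hπ in
theorem leg_eq {Δ : SimplexCategory} (hΔ : Δ.len ≤ n + 1) (φ : Δ ⟶ ⦋n + 2⦌)
    (k : Fin (n + 3)) (ψ : Δ ⟶ ⦋n + 1⦌) (h : φ = ψ ≫ δ k) :
    leg n U T π hΔ φ = π k ≫ Umap n U hΔ (le_refl _) ψ := by
  unfold leg
  apply indep n U T π hπ hΔ
  rw [← (eq_comp_δ_of_not_surjective φ (not_surj (Nat.lt_succ_of_le hΔ) φ)).choose_spec.choose_spec]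
  exact h

include hπ in
theorem leg_comp {Δ Δ' : SimplexCategory} (hΔ : Δ.len ≤ n + 1) (hΔ' : Δ'.len ≤ n + 1)
    (φ : Δ ⟶ ⦋n + 2⦌) (f : Δ' ⟶ Δ) :
    leg n U T π hΔ φ ≫ Umap n U hΔ' hΔ f = leg n U T π hΔ' (f ≫ φ) := by
  obtain ⟨k, ψ, h⟩ := eq_comp_δ_of_not_surjective φ (not_surj (Nat.lt_succ_of_le hΔ) φ)
  rw [leg_eq n U T π hπ hΔ φ k ψ h, leg_eq n U T π hπ hΔ' (f ≫ φ) k (f ≫ ψ) (by rw [h, Category.assoc]),
    Category.assoc, ← Umap_comp]

include hπ in
theorem leg_δ (k : Fin (n + 3)) : leg n U T π (le_refl _) (δ k) = π k := by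
  rw [leg_eq n U T π hπ (le_refl _) (δ k) k (𝟙 _) (Category.id_comp _).symm, Umap_id, Category.comp_id]

/-! ### the cone with apex `T` -/

/-- the restriction functor between truncated simplex categories (opposite) -/
abbrev L := (SimplexCategory.Truncated.incl (n + 1) (n + 2) (Nat.le_succ _)).op

/-- the top object -/
abbrev top : (SimplexCategory.Truncated (n + 2))ᵒᵖ := op ⟨⦋n + 2⦌, le_refl _⟩

/-- cone over the structured arrow diagram with apex `T` -/
noncomputable def coneT : Cone (StructuredArrow.proj (top n) (L n) ⋙ U) where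
  pt := T
  π :=
    { app := fun X => leg n U T π X.right.unop.property X.hom.unop.hom
      naturality := fun X X' f => by
        have hw := StructuredArrow.w f
        have e : X'.hom.unop.hom = f.right.unop.hom ≫ X.hom.unop.hom := by
          rw [← hw]; rfl
        have h2 := leg_comp n U T π hπ X.right.unop.property X'.right.unop.property
          X.hom.unop.hom f.right.unop.hom
        rw [← e] at h2
        refine (Category.id_comp _).trans ?_
        exact h2.symm }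

/-- the structured arrow given by the `k`-th face -/
def mkδ (k : Fin (n + 3)) : StructuredArrow (top n) (L n) :=
  StructuredArrow.mk (S := top n) (T := L n)
    (Y := op (⟨⦋n + 1⦌, le_refl (n + 1)⟩ : SimplexCategory.Truncated (n + 1)))
    (Truncated.Hom.tr (n := n + 2) (δ k) (Nat.le_succ (n + 1)) (le_refl (n + 2))).op

variable {n U}

theorem cone_w (s : Cone (StructuredArrow.proj (top n) (L n) ⋙ U)) (k : Fin (n + 3))
    (X : StructuredArrow (top n) (L n)) (ψ : X.right.unop.obj ⟶ ⦋n + 1⦌)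
    (h : X.hom.unop.hom = ψ ≫ δ k) :
    s.π.app (mkδ n k) ≫ Umap n U X.right.unop.property (le_refl _) ψ = s.π.app X := by
  let f : mkδ n k ⟶ X :=
    StructuredArrow.homMk (Truncated.Hom.tr ψ X.right.unop.property (le_refl _)).op (by
      apply Quiver.Hom.unop_inj
      apply ObjectProperty.hom_ext
      exact h.symm)
  exact s.w f

theorem faces (s : Cone (StructuredArrow.proj (top n) (L n) ⋙ U)) (i j : Fin (n + 2))
    (hij : i ≤ j) :
    s.π.app (mkδ n (Fin.castSucc i)) ≫ Umap n U (Nat.le_succ n) (le_refl _) (δ j) =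
      s.π.app (mkδ n j.succ) ≫ Umap n U (Nat.le_succ n) (le_refl _) (δ i) := by
  let X : StructuredArrow (top n) (L n) :=
    StructuredArrow.mk (S := top n) (T := L n)
      (Y := op (⟨⦋n⦌, Nat.le_succ n⟩ : SimplexCategory.Truncated (n + 1)))
      (Truncated.Hom.tr (n := n + 2) (δ i ≫ δ j.succ)
        ((Nat.le_succ n).trans (Nat.le_succ (n + 1))) (le_refl (n + 2))).op
  have h1 := cone_w s (Fin.castSucc i) X (δ j) (δ_comp_δ hij)
  have h2 := cone_w s j.succ X (δ i) rfl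
  exact h1.trans h2.symm

variable (huniv : ∀ (S : C) (g : Fin (n + 3) → (S ⟶ U.obj (op ⟨⦋n + 1⦌, le_refl _⟩))),
    (∀ i j : Fin (n + 2), i ≤ j →
      g (Fin.castSucc i) ≫ Umap n U (Nat.le_succ n) (le_refl _) (δ j) =
        g j.succ ≫ Umap n U (Nat.le_succ n) (le_refl _) (δ i)) →
      ∃! t : S ⟶ T, ∀ k : Fin (n + 3), t ≫ π k = g k)

/-- `T` is the limit -/
noncomputable def isLimitT : IsLimit (coneT n U T π hπ) where
  lift s := (huniv s.pt (fun k => s.π.app (mkδ n k)) (faces s)).choose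
  fac s X := by
    obtain ⟨k, ψ, h⟩ := eq_comp_δ_of_not_surjective X.hom.unop.hom
      (not_surj (Nat.lt_succ_of_le X.right.unop.property) _)
    have h1 := (huniv s.pt (fun k => s.π.app (mkδ n k)) (faces s)).choose_spec.1 k
    have h2 := leg_eq n U T π hπ X.right.unop.property X.hom.unop.hom k ψ h
    show _ ≫ leg n U T π X.right.unop.property X.hom.unop.hom = _
    rw [h2, ← Category.assoc, h1]
    exact cone_w s k X ψ h
  uniq s m' hm := by
    apply (huniv s.pt (fun k => s.π.app (mkδ n k)) (faces s)).choose_spec.2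
    intro k
    have h1 := hm (mkδ n k)
    have h2 := leg_δ n U T π hπ k
    rw [← h2]
    exact h1

include hπ huniv in
theorem hasPointwise : (L n).HasPointwiseRightKanExtension U := by
  intro Y
  obtain ⟨⟨⟨a⟩, ha⟩⟩ := Y
  by_cases h : a ≤ n + 1
  · let Y' : (SimplexCategory.Truncated (n + 1))ᵒᵖ := op ⟨⦋a⦌, h⟩
    have hI : IsInitial (StructuredArrow.mk (𝟙 ((L n).obj Y'))) := StructuredArrow.mkIdInitial
    exact ⟨⟨_, limitOfDiagramInitial hI _⟩⟩
  · have ha' : a ≤ n + 2 := ha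
    obtain rfl : a = n + 2 := by omega
    exact ⟨⟨_, isLimitT T π hπ huniv⟩⟩

include hπ huniv in
theorem isIso_of_faces (V : (SimplexCategory.Truncated (n + 2))ᵒᵖ ⥤ C)
    (α : (L n) ⋙ V ⟶ U) [V.IsRightKanExtension α]
    (t : V.obj (top n) ⟶ T)
    (ht : ∀ k : Fin (n + 3), t ≫ π k =
      V.map (Truncated.Hom.tr (δ k) (Nat.le_succ _) (le_refl _)).op ≫
        α.app (op ⟨⦋n + 1⦌, le_refl _⟩)) : IsIso t := by
  haveI := hasPointwise T π hπ huniv
  have hV := Functor.isPointwiseRightKanExtensionOfIsRightKanExtension V α (top n)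
  have hT := isLimitT T π hπ huniv
  have key : ∀ X : StructuredArrow (top n) (L n),
      t ≫ (coneT n U T π hπ).π.app X =
        ((Functor.RightExtension.mk V α).coneAt (top n)).π.app X := by
    intro X
    obtain ⟨k, ψ, h⟩ := eq_comp_δ_of_not_surjective X.hom.unop.hom
      (not_surj (Nat.lt_succ_of_le X.right.unop.property) _)
    have h2 := leg_eq n U T π hπ X.right.unop.property X.hom.unop.hom k ψ h
    show t ≫ leg n U T π X.right.unop.property X.hom.unop.hom = V.map X.hom ≫ α.app X.right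
    rw [h2, ← Category.assoc, ht k, Category.assoc]
    have hnat := α.naturality (Truncated.Hom.tr ψ X.right.unop.property (le_refl _)).op
    unfold Umap
    rw [← hnat, ← Category.assoc]
    congr 1
    rw [Functor.comp_map, ← V.map_comp]
    congr 1
    apply Quiver.Hom.unop_inj
    apply ObjectProperty.hom_ext
    exact h.symm
  have e : t = (IsLimit.conePointUniqueUpToIso hV hT).hom := by
    apply hT.hom_ext
    intro X
    exact (key X).trans (IsLimit.conePointUniqueUpToIso_hom_comp hV hT X).symm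
  rw [e]
  infer_instance

end Groth.Agent.H6.CoskExt
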