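import Mathlib
import Groth.Prelude.Def_CotT

set_option autoImplicit false
universe u v w t m
open scoped TensorProduct

namespace Groth.Agent.H6.CotTLib

variable {A : Type u} {B : Type v} {ι : Type w} {σ : Type t}
variable [CommRing A] [CommRing B] [Algebra A B]
variable (P : Algebra.Presentation A B ι σ)

theorem toCot_surjective : Function.Surjective (CotT.toCot P) := by
  intro x
  obtain ⟨k, rfl⟩ := Algebra.Extension.Cotangent.mk_surjective x
  have hk : (k : P.toExtension.Ring) ∈ LinearMap.range (CotT.jmap P) := by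
    rw [CotT.range_jmap]; exact k.2
  obtain ⟨f, hf⟩ := hk
  refine ⟨(1 : B) ⊗ₜ f, ?_⟩
  rw [CotT.toCot_tmul, one_smul]
  congr 1
  exact Subtype.ext hf

theorem exists_one_tmul (x : CotT.L1 P) : ∃ f : CotT.relMod P, x = (1 : B) ⊗ₜ f := by
  induction x using TensorProduct.induction_on with
  | zero => exact ⟨0, (TensorProduct.tmul_zero _ _).symm⟩
  | tmul b f =>
    obtain ⟨r, rfl⟩ := P.toExtension.algebraMap_surjective b
    refine ⟨r • f, ?_⟩
    rw [← TensorProduct.smul_tmul, Algebra.smul_def, mul_one]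
  | add x y hx hy =>
    obtain ⟨f, rfl⟩ := hx
    obtain ⟨g, rfl⟩ := hy
    exact ⟨f + g, (TensorProduct.tmul_add _ _ _).symm⟩

theorem exists_of_mem_sq (y : P.toExtension.Ring) (hy : y ∈ P.toExtension.ker ^ 2) :
    ∃ g : CotT.relMod P, CotT.jmap P g = y ∧ ((1 : B) ⊗ₜ[P.toExtension.Ring] g : CotT.L1 P) = 0 := by
  rw [sq] at hy
  induction hy using Submodule.mul_induction_on' with
  | mem_mul_mem a ha b hb =>
    have hb' : b ∈ LinearMap.range (CotT.jmap P) := by rw [CotT.range_jmap]; exact hb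
    obtain ⟨g', rfl⟩ := hb'
    refine ⟨a • g', by rw [map_smul, smul_eq_mul], ?_⟩
    rw [← TensorProduct.smul_tmul, Algebra.smul_def, mul_one]
    have : algebraMap P.toExtension.Ring B a = 0 := ha
    rw [this, TensorProduct.zero_tmul]
  | add x _ y _ hx hy =>
    obtain ⟨g₁, h₁, h₁'⟩ := hx
    obtain ⟨g₂, h₂, h₂'⟩ := hy
    exact ⟨g₁ + g₂, by rw [map_add, h₁, h₂], by rw [TensorProduct.tmul_add, h₁', h₂', add_zero]⟩

theorem ker_toCot_le_range_d2 : LinearMap.ker (CotT.toCot P) ≤ LinearMap.range (CotT.d2 P) := by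
  intro x hx
  obtain ⟨f, rfl⟩ := exists_one_tmul P x
  rw [LinearMap.mem_ker, CotT.toCot_tmul, one_smul, Algebra.Extension.Cotangent.mk_eq_zero_iff] at hx
  obtain ⟨g, hg, hg0⟩ := exists_of_mem_sq P _ hx
  have hq : f - g ∈ CotT.relKer P := by
    show CotT.jmap P (f - g) = 0
    rw [map_sub, hg]
    exact sub_self _
  refine ⟨Submodule.Quotient.mk ((1 : B) ⊗ₜ ⟨f - g, hq⟩), ?_⟩
  rw [CotT.d2_mk_tmul, TensorProduct.tmul_sub, hg0, sub_zero]

theorem range_d2_eq_ker_toCot : LinearMap.range (CotT.d2 P) = LinearMap.ker (CotT.toCot P) := by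
  apply le_antisymm
  · rw [LinearMap.range_le_ker_iff]
    exact CotT.toCot_comp_d2 P
  · exact ker_toCot_le_range_d2 P

variable (M : Type m) [AddCommGroup M] [Module B M]

theorem comp_cotangentComplex_eq_zero_iff (φ : CotT.L0 P →ₗ[B] M) :
    φ ∘ₗ CotT.d1 P = 0 ↔ φ ∘ₗ P.toExtension.cotangentComplex = 0 := by
  constructor
  · intro h
    ext x
    obtain ⟨y, rfl⟩ := toCot_surjective P x
    exact LinearMap.congr_fun h y
  · intro h
    rw [CotT.d1, ← LinearMap.comp_assoc, h, LinearMap.zero_comp]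

/-- A cocycle `c : L₁ → M` (vanishing on the image of `d₂`) descends along `toCot` to `I/I² → M`. -/
theorem exists_factor_toCot (c : CotT.L1 P →ₗ[B] M) (hc : c ∘ₗ CotT.d2 P = 0) :
    ∃ φ : P.toExtension.Cotangent →ₗ[B] M, φ ∘ₗ CotT.toCot P = c := by
  have hker : LinearMap.ker (CotT.toCot P) ≤ LinearMap.ker c := by
    rw [← range_d2_eq_ker_toCot, LinearMap.range_le_ker_iff]
    exact hc
  let e := LinearMap.quotKerEquivOfSurjective (CotT.toCot P) (toCot_surjective P)
  refine ⟨(Submodule.liftQ _ c hker) ∘ₗ e.symm.toLinearMap, ?_⟩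
  ext x
  have : e.symm (CotT.toCot P x) = Submodule.Quotient.mk x := by
    rw [LinearEquiv.symm_apply_eq]
    rfl
  simp only [LinearMap.comp_apply, LinearEquiv.coe_coe, this, Submodule.liftQ_apply]

end Groth.Agent.H6.CotTLib
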