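import Groth.Agent.Lib.Helper6.CotTHom
import Groth.Agent.Lib.Helper6.CotTLib

set_option autoImplicit false

noncomputable section

universe u v w t w' t' m e e'

open TensorProduct CotT

namespace Groth.Agent.H6.CotTHom

section Ext

variable {A : Type u} {B : Type v} [CommRing A] [CommRing B] [Algebra A B]
variable (E : Algebra.Extension.{e} A B) (E' : Algebra.Extension.{e'} A B)
variable (M : Type m) [AddCommGroup M] [Module B M]

/-- `H⁰` of the dual of the naive cotangent complex of an extension -/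
abbrev T0E : Submodule B (E.CotangentSpace →ₗ[B] M) := LinearMap.ker (LinearMap.lcomp B M E.cotangentComplex)

/-- `H¹` of the dual of the naive cotangent complex of an extension -/
abbrev T1E : Type _ := (E.Cotangent →ₗ[B] M) ⧸ LinearMap.range (LinearMap.lcomp B M E.cotangentComplex)

variable {E E'}

/-- pull-back on `T1E` -/
def pull1E (f : E.Hom E') : T1E E' M →ₗ[B] T1E E M :=
  Submodule.mapQ _ _ (LinearMap.lcomp B M (Algebra.Extension.Cotangent.map f)) (by
    rintro _ ⟨ψ, rfl⟩
    refine ⟨ψ ∘ₗ Algebra.Extension.CotangentSpace.map f, ?_⟩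
    refine LinearMap.ext fun x => ?_
    simp [Algebra.Extension.CotangentSpace.map_cotangentComplex])

lemma pull1E_mk (f : E.Hom E') (φ : E'.Cotangent →ₗ[B] M) :
    pull1E M f (Submodule.Quotient.mk φ) = Submodule.Quotient.mk (φ ∘ₗ Algebra.Extension.Cotangent.map f) := rfl

lemma pull1E_eq (f g : E.Hom E') : pull1E M f = pull1E M g := by
  refine Submodule.linearMap_qext _ (LinearMap.ext fun φ => ?_)
  change Submodule.Quotient.mk (φ ∘ₗ Algebra.Extension.Cotangent.map f) =
    Submodule.Quotient.mk (φ ∘ₗ Algebra.Extension.Cotangent.map g)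
  rw [Submodule.Quotient.eq]
  refine ⟨φ ∘ₗ f.sub g, ?_⟩
  rw [LinearMap.lcomp_apply', LinearMap.comp_assoc, ← Algebra.Extension.Cotangent.map_sub_map, LinearMap.comp_sub]

lemma pull1E_id : pull1E M (Algebra.Extension.Hom.id E) = LinearMap.id := by
  refine Submodule.linearMap_qext _ (LinearMap.ext fun φ => ?_)
  change Submodule.Quotient.mk (φ ∘ₗ Algebra.Extension.Cotangent.map (Algebra.Extension.Hom.id E)) =
    Submodule.Quotient.mk φ
  rw [Algebra.Extension.Cotangent.map_id, LinearMap.comp_id]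

lemma pull1E_comp (f : E.Hom E') (g : E'.Hom E) :
    pull1E M (g.comp f) = pull1E M f ∘ₗ pull1E M g := by
  refine Submodule.linearMap_qext _ (LinearMap.ext fun φ => ?_)
  change Submodule.Quotient.mk (φ ∘ₗ Algebra.Extension.Cotangent.map (g.comp f)) =
    Submodule.Quotient.mk ((φ ∘ₗ Algebra.Extension.Cotangent.map g) ∘ₗ Algebra.Extension.Cotangent.map f)
  rw [Algebra.Extension.Cotangent.map_comp]
  rfl

/-- `T1E` does not depend on the extension -/
def T1Eequiv (f : E.Hom E') (g : E'.Hom E) : T1E E M ≃ₗ[B] T1E E' M :=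
  LinearEquiv.ofLinear (pull1E M g) (pull1E M f)
    (by rw [← pull1E_comp, pull1E_eq M (f.comp g) (Algebra.Extension.Hom.id E'), pull1E_id])
    (by rw [← pull1E_comp, pull1E_eq M (g.comp f) (Algebra.Extension.Hom.id E), pull1E_id])

/-- pull-back on `T0E` -/
def pull0E (f : E.Hom E') : T0E E' M →ₗ[B] T0E E M :=
  LinearMap.restrict (LinearMap.lcomp B M (Algebra.Extension.CotangentSpace.map f)) (by
    intro ψ hψ
    rw [LinearMap.mem_ker, LinearMap.lcomp_apply'] at hψ ⊢
    refine LinearMap.ext fun x => ?_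
    have := LinearMap.congr_fun hψ (Algebra.Extension.Cotangent.map f x)
    simpa [Algebra.Extension.CotangentSpace.map_cotangentComplex] using this)

lemma pull0E_coe (f : E.Hom E') (ψ : T0E E' M) :
    (pull0E M f ψ : E.CotangentSpace →ₗ[B] M) =
      (ψ : E'.CotangentSpace →ₗ[B] M) ∘ₗ Algebra.Extension.CotangentSpace.map f := rfl

lemma pull0E_eq (f g : E.Hom E') : pull0E M f = pull0E M g := by
  refine LinearMap.ext fun ψ => Subtype.ext ?_
  rw [pull0E_coe, pull0E_coe, ← sub_eq_zero, ← LinearMap.comp_sub,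
    Algebra.Extension.CotangentSpace.map_sub_map]
  have hψ := ψ.2
  rw [LinearMap.mem_ker, LinearMap.lcomp_apply'] at hψ
  refine LinearMap.ext fun x => ?_
  exact LinearMap.congr_fun hψ (f.sub g x)

lemma pull0E_id : pull0E M (Algebra.Extension.Hom.id E) = LinearMap.id := by
  refine LinearMap.ext fun ψ => Subtype.ext ?_
  rw [pull0E_coe, Algebra.Extension.CotangentSpace.map_id, LinearMap.comp_id]
  rfl

lemma pull0E_comp (f : E.Hom E') (g : E'.Hom E) :
    pull0E M (g.comp f) = pull0E M f ∘ₗ pull0E M g := by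
  refine LinearMap.ext fun ψ => Subtype.ext ?_
  rw [pull0E_coe, Algebra.Extension.CotangentSpace.map_comp]
  rfl

/-- `T0E` does not depend on the extension -/
def T0Eequiv (f : E.Hom E') (g : E'.Hom E) : T0E E M ≃ₗ[B] T0E E' M :=
  LinearEquiv.ofLinear (pull0E M g) (pull0E M f)
    (by rw [← pull0E_comp, pull0E_eq M (f.comp g) (Algebra.Extension.Hom.id E'), pull0E_id])
    (by rw [← pull0E_comp, pull0E_eq M (g.comp f) (Algebra.Extension.Hom.id E), pull0E_id])

end Ext

section Pres

variable {A : Type u} {B : Type v} {ι : Type w} {σ : Type t} {ι' : Type w'} {σ' : Type t'}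
variable [CommRing A] [CommRing B] [Algebra A B]
variable (P : Algebra.Presentation A B ι σ) (P' : Algebra.Presentation A B ι' σ')
variable (M : Type m) [AddCommGroup M] [Module B M]

lemma ker_homToT1 :
    LinearMap.ker (CotT.homToT1 P M) = LinearMap.range (LinearMap.lcomp B M P.toExtension.cotangentComplex) := by
  ext φ
  rw [LinearMap.mem_ker, LinearMap.mem_range]
  unfold CotT.homToT1
  rw [LinearMap.comp_apply, Submodule.mkQ_apply, Submodule.Quotient.mk_eq_zero]
  show (∃ ψ, CotT.d1Star P M ψ = φ ∘ₗ CotT.toCot P) ↔ _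
  constructor
  · rintro ⟨ψ, hψ⟩
    refine ⟨ψ, ?_⟩
    rw [LinearMap.lcomp_apply']
    rw [CotT.d1Star_apply, CotT.d1, ← LinearMap.comp_assoc] at hψ
    ext x
    obtain ⟨y, rfl⟩ := Groth.Agent.H6.CotTLib.toCot_surjective P x
    exact LinearMap.congr_fun hψ y
  · rintro ⟨ψ, hψ⟩
    refine ⟨ψ, ?_⟩
    rw [LinearMap.lcomp_apply'] at hψ
    rw [CotT.d1Star_apply, CotT.d1, ← LinearMap.comp_assoc, hψ]

lemma homToT1_surjective : Function.Surjective (CotT.homToT1 P M) := by
  intro t
  obtain ⟨⟨c, hc⟩, rfl⟩ := Submodule.Quotient.mk_surjective _ t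
  have hc' : c ∘ₗ CotT.d2 P = 0 := by
    have := hc
    rwa [LinearMap.mem_ker, CotT.d2Star_apply] at this
  obtain ⟨φ, hφ⟩ := Groth.Agent.H6.CotTLib.exists_factor_toCot P M c hc'
  refine ⟨φ, ?_⟩
  unfold CotT.homToT1
  rw [LinearMap.comp_apply, Submodule.mkQ_apply]
  congr 1
  exact Subtype.ext hφ

/-- `T¹` of a presentation is `H¹` of the dual of the naive cotangent complex -/
def T1equivT1E : T1 P M ≃ₗ[B] T1E P.toExtension M :=
  (LinearMap.quotKerEquivOfSurjective (CotT.homToT1 P M) (homToT1_surjective P M)).symm ≪≫ₗ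
    Submodule.quotEquivOfEq _ _ (ker_homToT1 P M)

lemma T0_eq_T0E : LinearMap.ker (CotT.d1Star P M) = T0E P.toExtension M := by
  ext φ
  rw [LinearMap.mem_ker, LinearMap.mem_ker, CotT.d1Star_apply, LinearMap.lcomp_apply']
  exact Groth.Agent.H6.CotTLib.comp_cotangentComplex_eq_zero_iff P M φ

theorem nonempty_T1equiv : Nonempty (T1 P M ≃ₗ[B] T1 P' M) :=
  ⟨(T1equivT1E P M) ≪≫ₗ
    (T1Eequiv M (P.defaultHom P'.toGenerators).toExtensionHom (P'.defaultHom P.toGenerators).toExtensionHom) ≪≫ₗ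
    (T1equivT1E P' M).symm⟩

theorem nonempty_T0equiv : Nonempty (T0 P M ≃ₗ[B] T0 P' M) :=
  ⟨(LinearEquiv.ofEq _ _ (T0_eq_T0E P M)) ≪≫ₗ
    (T0Eequiv M (P.defaultHom P'.toGenerators).toExtensionHom (P'.defaultHom P.toGenerators).toExtensionHom) ≪≫ₗ
    (LinearEquiv.ofEq _ _ (T0_eq_T0E P' M)).symm⟩

end Pres

end Groth.Agent.H6.CotTHom
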