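import Mathlib
import Groth.Agent.Lib.Helper6.CotTHom2

set_option autoImplicit false

noncomputable section

open TensorProduct Algebra Algebra.Extension

namespace Groth.Agent.H6.CotTBC

section Pull

variable {R : Type*} {S : Type*} [CommRing R] [CommRing S] [Algebra R S]
variable {R' : Type*} {S' : Type*} [CommRing R'] [CommRing S'] [Algebra R' S']
variable [Algebra R R'] [Algebra S S'] [Algebra R S'] [IsScalarTower R R' S'] [IsScalarTower R S S']
variable {P : Extension R S} {P' : Extension R' S'}
variable {M : Type*} [AddCommGroup M] [Module S M] [Module S' M] [IsScalarTower S S' M]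

/-- pull-back of a cocycle along a morphism of extensions (over varying base rings) -/
def pullCo (f : P.Hom P') (φ : P'.Cotangent →ₗ[S'] M) : P.Cotangent →ₗ[S] M :=
  (φ.restrictScalars S) ∘ₗ Cotangent.map f

lemma pullCo_apply (f : P.Hom P') (φ : P'.Cotangent →ₗ[S'] M) (x : P.Cotangent) :
    pullCo f φ x = φ (Cotangent.map f x) := rfl

lemma pullCo_coboundary (f : P.Hom P') (ψ : P'.CotangentSpace →ₗ[S'] M) :
    pullCo f (ψ ∘ₗ P'.cotangentComplex) =
      ((ψ.restrictScalars S) ∘ₗ CotangentSpace.map f) ∘ₗ P.cotangentComplex := by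
  ext x
  simp only [pullCo_apply, LinearMap.comp_apply, LinearMap.restrictScalars_apply]
  rw [CotangentSpace.map_cotangentComplex]

lemma pullCo_sub (f g : P.Hom P') (φ : P'.Cotangent →ₗ[S'] M) :
    pullCo f φ - pullCo g φ = ((φ.restrictScalars S) ∘ₗ f.sub g) ∘ₗ P.cotangentComplex := by
  ext x
  have h := LinearMap.congr_fun (Cotangent.map_sub_map f g) x
  simp only [LinearMap.sub_apply, LinearMap.comp_apply] at h
  simp only [pullCo_apply, LinearMap.sub_apply, LinearMap.comp_apply, LinearMap.restrictScalars_apply]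
  rw [← map_sub, h]

end Pull

section BC1

variable {A : Type*} {B : Type*} [CommRing A] [CommRing B] [Algebra A B]
variable {A' : Type*} {B' : Type*} [CommRing A'] [CommRing B'] [Algebra A' B']
variable [Algebra A A'] [Algebra B B'] [Algebra A B'] [IsScalarTower A A' B'] [IsScalarTower A B B']
variable {ι : Type*} (G : Generators A B ι) (G' : Generators A' B' ι)
variable {M : Type*} [AddCommGroup M] [Module B M] [Module B' M] [IsScalarTower B B' M]

include G G' in
theorem exists_preimage_ker (f : G.toExtension.Hom G'.toExtension)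
    (hf : ∀ x : MvPolynomial ι A, f.toRingHom x = MvPolynomial.map (algebraMap A A') x)
    (hA : Function.Surjective (algebraMap A A'))
    (hker : ∀ b : B, algebraMap B B' b = 0 →
      ∃ (a : A) (c : B), algebraMap A A' a = 0 ∧ b = algebraMap A B a * c)
    (x' : G'.toExtension.ker) :
    ∃ x : G.toExtension.ker, f.toRingHom x.1 = x'.1 := by
  obtain ⟨x0, hx0⟩ := MvPolynomial.map_surjective (σ := ι) (algebraMap A A') hA x'.1
  obtain ⟨x, hx⟩ : ∃ x : G.toExtension.Ring, f.toRingHom x = x'.1 := ⟨x0, by rw [hf]; exact hx0⟩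
  have h1 : algebraMap B B' (algebraMap G.toExtension.Ring B x) = 0 := by
    rw [← f.algebraMap_toRingHom, hx]
    exact x'.2
  obtain ⟨a, c, ha, hc⟩ := hker _ h1
  obtain ⟨r, rfl⟩ := G.toExtension.algebraMap_surjective c
  refine ⟨⟨x - algebraMap A G.toExtension.Ring a * r, ?_⟩, ?_⟩
  · show algebraMap G.toExtension.Ring B _ = 0
    rw [map_sub, map_mul, hc, sub_eq_zero]
    congr 1
    exact (IsScalarTower.algebraMap_apply A G.toExtension.Ring B a)
  · show f.toRingHom (x - algebraMap A G.toExtension.Ring a * r) = x'.1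
    rw [map_sub, map_mul, hx, f.toRingHom_algebraMap, ha, map_zero, zero_mul, sub_zero]

set_option backward.isDefEq.respectTransparency false in
include G G' in
theorem map_basis (f : G.toExtension.Hom G'.toExtension)
    (hf : ∀ x : MvPolynomial ι A, f.toRingHom x = MvPolynomial.map (algebraMap A A') x) (i : ι) :
    CotangentSpace.map f (G.cotangentSpaceBasis i) = G'.cotangentSpaceBasis i := by
  rw [Generators.cotangentSpaceBasis_apply, Generators.cotangentSpaceBasis_apply]
  erw [CotangentSpace.map_tmul]
  rw [map_one]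
  congr 2
  show f.toRingHom (MvPolynomial.X i) = MvPolynomial.X i
  rw [hf, MvPolynomial.map_X]

theorem bc1_injective (f : G.toExtension.Hom G'.toExtension)
    (hf : ∀ x : MvPolynomial ι A, f.toRingHom x = MvPolynomial.map (algebraMap A A') x)
    (hA : Function.Surjective (algebraMap A A'))
    (hker : ∀ b : B, algebraMap B B' b = 0 →
      ∃ (a : A) (c : B), algebraMap A A' a = 0 ∧ b = algebraMap A B a * c)
    (φ' : G'.toExtension.Cotangent →ₗ[B'] M) (ψ : G.toExtension.CotangentSpace →ₗ[B] M)
    (h : pullCo f φ' = ψ ∘ₗ G.toExtension.cotangentComplex) :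
    ∃ ψ' : G'.toExtension.CotangentSpace →ₗ[B'] M,
      φ' = ψ' ∘ₗ G'.toExtension.cotangentComplex := by
  let ψ' : G'.toExtension.CotangentSpace →ₗ[B'] M :=
    G'.cotangentSpaceBasis.constr B' (fun i => ψ (G.cotangentSpaceBasis i))
  have hψ' : (ψ'.restrictScalars B) ∘ₗ CotangentSpace.map f = ψ := by
    refine G.cotangentSpaceBasis.ext fun i => ?_
    rw [LinearMap.comp_apply, LinearMap.restrictScalars_apply]
    rw [map_basis G G' f hf i]
    exact Module.Basis.constr_basis _ _ _ _
  refine ⟨ψ', ?_⟩
  ext z'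
  obtain ⟨x', rfl⟩ := Cotangent.mk_surjective z'
  obtain ⟨x, hx⟩ := exists_preimage_ker G G' f hf hA hker x'
  have h2 : Cotangent.mk x' = Cotangent.map f (Cotangent.mk x) := by
    rw [Cotangent.map_mk]
    congr 1
    exact Subtype.ext hx.symm
  have h3 := LinearMap.congr_fun h (Cotangent.mk x)
  rw [pullCo_apply] at h3
  rw [h2, h3, LinearMap.comp_apply, LinearMap.comp_apply, ← CotangentSpace.map_cotangentComplex,
    ← hψ']
  rfl

end BC1

end Groth.Agent.H6.CotTBC
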