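import Mathlib
import Groth.Agent.Lib.Helper6.CotTHom2

set_option autoImplicit false

noncomputable section

open TensorProduct Algebra Algebra.Extension

namespace Groth.Agent.H6.CotTBC

section BC2

variable {k : Type*} {S : Type*} [CommRing k] [CommRing S] [Algebra k S] (P : Extension k S)
variable (T : Type*) [CommRing T] [Algebra k T] [Module.Flat k T]
variable {M : Type*} [AddCommGroup M] [Module (T ⊗[k] S) M]

attribute [local instance] Algebra.TensorProduct.rightAlgebra

theorem bc2_surjective [Module S M] [IsScalarTower S (T ⊗[k] S) M]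
    (φ : P.Cotangent →ₗ[S] M) :
    ∃ φ₁ : (P.baseChange (T := T)).Cotangent →ₗ[T ⊗[k] S] M,
      ∀ x, φ₁ (Cotangent.map (P.toBaseChange T) x) = φ x := by
  letI : Module T M := Module.compHom M (algebraMap T (T ⊗[k] S))
  haveI : IsScalarTower T (T ⊗[k] S) M := IsScalarTower.of_compHom T (T ⊗[k] S) M
  letI : Module k M := Module.compHom M (algebraMap k (T ⊗[k] S))
  haveI : IsScalarTower k (T ⊗[k] S) M := IsScalarTower.of_compHom k (T ⊗[k] S) M
  haveI : IsScalarTower k T M := ⟨fun a t m => by
    rw [← algebraMap_smul (T ⊗[k] S) (a • t) m, ← algebraMap_smul (T ⊗[k] S) t m,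
      ← algebraMap_smul (T ⊗[k] S) a (_ : M), smul_smul, Algebra.smul_def, map_mul,
      ← IsScalarTower.algebraMap_apply k T (T ⊗[k] S)]⟩
  haveI : IsScalarTower k S M := ⟨fun a s m => by
    rw [← algebraMap_smul (T ⊗[k] S) (a • s) m, ← algebraMap_smul (T ⊗[k] S) s m,
      ← algebraMap_smul (T ⊗[k] S) a (_ : M), smul_smul, Algebra.smul_def, map_mul,
      ← IsScalarTower.algebraMap_apply k S (T ⊗[k] S)]⟩
  let F : (P.baseChange (T := T)).Cotangent →ₗ[T] M :=
    (LinearMap.liftBaseChange T (φ.restrictScalars k)) ∘ₗ (P.tensorCotangentOfFlat T).symm.toLinearMap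
  have hF : ∀ (t : T) (x : P.Cotangent), F (t • Cotangent.map (P.toBaseChange T) x) = t • φ x := by
    intro t x
    have : (P.tensorCotangentOfFlat T).symm (t • Cotangent.map (P.toBaseChange T) x) = t ⊗ₜ x := by
      rw [LinearEquiv.symm_apply_eq, tensorCotangentOfFlat_tmul]
    show (LinearMap.liftBaseChange T (φ.restrictScalars k))
      ((P.tensorCotangentOfFlat T).symm (t • Cotangent.map (P.toBaseChange T) x)) = _
    rw [this, LinearMap.liftBaseChange_tmul]
    rfl
  have hcomm : ∀ (s : S) (t : T) (m : M), s • t • m = t • s • m := by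
    intro s t m
    rw [← algebraMap_smul (T ⊗[k] S) s (t • m), ← algebraMap_smul (T ⊗[k] S) t m,
      ← algebraMap_smul (T ⊗[k] S) s m, ← algebraMap_smul (T ⊗[k] S) t (_ : M), smul_smul, smul_smul,
      mul_comm]
  have hcomm' : ∀ (s : S) (t : T) (z : (P.baseChange (T := T)).Cotangent), s • t • z = t • s • z := by
    intro s t z
    rw [← algebraMap_smul (T ⊗[k] S) s (t • z), ← algebraMap_smul (T ⊗[k] S) t z,
      ← algebraMap_smul (T ⊗[k] S) s z, ← algebraMap_smul (T ⊗[k] S) t (_ : (P.baseChange (T := T)).Cotangent),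
      smul_smul, smul_smul, mul_comm]
  have hS : ∀ (s : S) (z : (P.baseChange (T := T)).Cotangent), F (s • z) = s • F z := by
    intro s z
    obtain ⟨w, rfl⟩ := (P.tensorCotangentOfFlat T).surjective z
    induction w using TensorProduct.induction_on with
    | zero => simp
    | add w₁ w₂ h₁ h₂ => rw [map_add, smul_add, map_add, h₁, h₂, map_add, smul_add]
    | tmul t x =>
      rw [tensorCotangentOfFlat_tmul, hcomm', ← map_smul, hF, hF, map_smul, hcomm]
  have hsm : ∀ (t : T) (s : S) (m : M), (t ⊗ₜ[k] s : T ⊗[k] S) • m = t • s • m := by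
    intro t s m
    rw [← algebraMap_smul (T ⊗[k] S) s m, ← algebraMap_smul (T ⊗[k] S) t (_ : M), smul_smul]
    congr 1
    rw [Algebra.TensorProduct.algebraMap_apply, Algebra.TensorProduct.right_algebraMap_apply,
      Algebra.TensorProduct.tmul_mul_tmul, mul_one, Algebra.algebraMap_self_apply, one_mul]
  have hsm' : ∀ (t : T) (s : S) (z : (P.baseChange (T := T)).Cotangent),
      (t ⊗ₜ[k] s : T ⊗[k] S) • z = t • s • z := by
    intro t s m
    rw [← algebraMap_smul (T ⊗[k] S) s m, ← algebraMap_smul (T ⊗[k] S) t (_ : (P.baseChange (T := T)).Cotangent),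
      smul_smul]
    congr 1
    rw [Algebra.TensorProduct.algebraMap_apply, Algebra.TensorProduct.right_algebraMap_apply,
      Algebra.TensorProduct.tmul_mul_tmul, mul_one, Algebra.algebraMap_self_apply, one_mul]
  refine ⟨{ toFun := F, map_add' := F.map_add, map_smul' := fun b z => ?_ }, fun x => ?_⟩
  · show F (b • z) = b • F z
    induction b using TensorProduct.induction_on with
    | zero => simp
    | add b₁ b₂ h₁ h₂ => rw [add_smul, map_add, h₁, h₂, add_smul]
    | tmul t s => rw [hsm', hsm, map_smul, hS]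
  · show F (Cotangent.map (P.toBaseChange T) x) = φ x
    have := hF 1 x
    rwa [one_smul, one_smul] at this

end BC2

end Groth.Agent.H6.CotTBC
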