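import Mathlib

set_option autoImplicit false
universe w v u t

open CategoryTheory CategoryTheory.Limits CategoryTheory.Abelian

namespace Groth.Agent.H6.CotTExt

section abstract

variable {R : Type t} [CommRing R] {C : Type u} [Category.{v} C] [Abelian C] [Linear R C]
  [HasExt.{w} C]

variable {S : ShortComplex C} (hS : S.ShortExact) [Projective S.X₂] (Y : C)

/-- the connecting map `Hom(X₁, Y) → Ext¹(X₃, Y)` -/
noncomputable def Δ : (S.X₁ ⟶ Y) →ₗ[R] Ext.{w} S.X₃ Y 1 where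
  toFun χ := hS.extClass.comp (Ext.mk₀ χ) (add_zero 1)
  map_add' χ χ' := by
    rw [Ext.mk₀_add, Ext.comp_add]
  map_smul' b χ := by
    rw [RingHom.id_apply, Ext.mk₀_smul, Ext.comp_smul]

include hS in
lemma Δ_surjective : Function.Surjective (Δ (R := R) hS Y) := by
  intro w
  have hw0 : (Ext.mk₀ S.g).comp w (zero_add 1) = 0 := Ext.eq_zero_of_projective _
  obtain ⟨x₁, hx₁⟩ := Ext.contravariant_sequence_exact₃ hS _ w hw0 (n₀ := 0) rfl
  obtain ⟨g, rfl⟩ := (Ext.mk₀_bijective _ _).2 x₁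
  exact ⟨g, hx₁⟩

lemma ker_Δ : LinearMap.ker (Δ (R := R) hS Y) = LinearMap.range (Linear.leftComp R Y S.f) := by
  ext χ
  rw [LinearMap.mem_ker, LinearMap.mem_range]
  constructor
  · intro h0
    obtain ⟨x₂, hx₂⟩ := Ext.contravariant_sequence_exact₁ hS _ (Ext.mk₀ χ) (n₁ := 1) rfl h0
    obtain ⟨φ, rfl⟩ := (Ext.mk₀_bijective _ _).2 x₂
    rw [Ext.mk₀_comp_mk₀] at hx₂
    exact ⟨φ, (Ext.mk₀_bijective _ _).1 hx₂⟩
  · rintro ⟨φ, rfl⟩
    change hS.extClass.comp (Ext.mk₀ (S.f ≫ φ)) (add_zero 1) = 0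
    rw [← Ext.mk₀_comp_mk₀, ← Ext.comp_assoc_of_third_deg_zero, hS.extClass_comp, Ext.zero_comp]

/-- `Ext¹(X₃, Y) ≅ Hom(X₁, Y) / restrictions` -/
noncomputable def extEquiv :
    ((S.X₁ ⟶ Y) ⧸ LinearMap.range (Linear.leftComp R Y S.f)) ≃ₗ[R] Ext.{w} S.X₃ Y 1 :=
  (Submodule.quotEquivOfEq _ _ (ker_Δ hS Y).symm) ≪≫ₗ
    (LinearMap.quotKerEquivOfSurjective _ (Δ_surjective hS Y))

end abstract

end Groth.Agent.H6.CotTExt
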