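import Mathlib
import Groth.Agent.Lib.Helper6.CotTExt

set_option autoImplicit false
universe u

open CategoryTheory CategoryTheory.Limits CategoryTheory.Abelian

namespace Groth.Agent.H6.CotTExt

section concrete

variable {B : Type u} [CommRing B]
variable {L2 L1 C Y : Type u} [AddCommGroup L2] [Module B L2] [AddCommGroup L1] [Module B L1]
  [AddCommGroup C] [Module B C] [AddCommGroup Y] [Module B Y]
variable (d2 : L2 →ₗ[B] L1) (p : L1 →ₗ[B] C)

/-- the short exact sequence `0 → ker p → L1 → C → 0` in `ModuleCat` -/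
noncomputable def SC : ShortComplex (ModuleCat.{u} B) :=
  ShortComplex.mk (ModuleCat.ofHom (LinearMap.ker p).subtype) (ModuleCat.ofHom p) (by
    ext x
    exact x.2)

lemma SC_shortExact (hp : Function.Surjective p) : (SC p).ShortExact := by
  refine ShortComplex.ShortExact.mk' ?_ ?_ ?_
  · rw [ShortComplex.moduleCat_exact_iff]
    intro x hx
    exact ⟨⟨x, hx⟩, rfl⟩
  · rw [ModuleCat.mono_iff_injective]
    exact Subtype.val_injective
  · rw [ModuleCat.epi_iff_surjective]
    exact hp

variable (hex : LinearMap.range d2 = LinearMap.ker p)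

/-- `d₂` with values in `ker p` -/
noncomputable def d2' : L2 →ₗ[B] LinearMap.ker p :=
  LinearMap.codRestrict _ d2 (fun x => by rw [← hex]; exact LinearMap.mem_range_self _ x)

lemma d2'_surjective : Function.Surjective (d2' d2 p hex) := by
  rintro ⟨y, hy⟩
  rw [← hex] at hy
  obtain ⟨x, rfl⟩ := hy
  exact ⟨x, rfl⟩

lemma ker_d2' : LinearMap.ker (d2' d2 p hex) = LinearMap.ker d2 := by
  ext x
  simp only [LinearMap.mem_ker, d2']
  constructor
  · intro h; exact congrArg Subtype.val h
  · intro h; exact Subtype.ext h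

variable (hkill : ∀ ψ : L2 →ₗ[B] Y, ∀ n, d2 n = 0 → ψ n = 0)

/-- `Hom(ker p, Y) ≃ Hom(L2, Y)` when all maps `L2 → Y` kill `ker d₂`. -/
noncomputable def Φ : (LinearMap.ker p →ₗ[B] Y) ≃ₗ[B] (L2 →ₗ[B] Y) :=
  LinearEquiv.ofBijective (LinearMap.lcomp B Y (d2' d2 p hex)) (by
    constructor
    · intro χ χ' h
      refine LinearMap.ext fun y => ?_
      obtain ⟨x, rfl⟩ := d2'_surjective d2 p hex y
      exact LinearMap.congr_fun h x
    · intro ψ
      have hle : LinearMap.ker (d2' d2 p hex) ≤ LinearMap.ker ψ := by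
        rw [ker_d2']
        intro n hn
        exact hkill ψ n hn
      refine ⟨(Submodule.liftQ _ ψ hle) ∘ₗ
        (LinearMap.quotKerEquivOfSurjective _ (d2'_surjective d2 p hex)).symm.toLinearMap, ?_⟩
      refine LinearMap.ext fun x => ?_
      simp only [LinearMap.lcomp_apply', LinearMap.comp_apply, LinearEquiv.coe_coe]
      have : (LinearMap.quotKerEquivOfSurjective _ (d2'_surjective d2 p hex)).symm (d2' d2 p hex x) =
          Submodule.Quotient.mk x := by
        rw [LinearEquiv.symm_apply_eq]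
        rfl
      rw [this, Submodule.liftQ_apply])

variable [Module.Projective B L1]

include hex hkill in
theorem nonempty_equiv (hp : Function.Surjective p) :
    Nonempty (((L2 →ₗ[B] Y) ⧸ LinearMap.range (LinearMap.lcomp B Y d2)) ≃ₗ[B]
      Ext.{u} (ModuleCat.of B C) (ModuleCat.of B Y) 1) := by
  have hS := SC_shortExact p hp
  haveI : Projective (SC p).X₂ := by
    change Projective (ModuleCat.of B L1)
    exact (IsProjective.iff_projective _).mp inferInstance
  let F : ((SC p).X₁ ⟶ ModuleCat.of B Y) ≃ₗ[B] (L2 →ₗ[B] Y) :=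
    (ModuleCat.homLinearEquiv (S := B)) ≪≫ₗ Φ d2 p hex hkill
  have hF : (LinearMap.range (Linear.leftComp B (ModuleCat.of B Y) (SC p).f)).map F.toLinearMap =
      LinearMap.range (LinearMap.lcomp B Y d2) := by
    ext ψ
    simp only [Submodule.mem_map, LinearMap.mem_range]
    constructor
    · rintro ⟨_, ⟨φ, rfl⟩, rfl⟩
      refine ⟨φ.hom, ?_⟩
      refine LinearMap.ext fun x => ?_
      rfl
    · rintro ⟨φ, rfl⟩
      refine ⟨_, ⟨ModuleCat.ofHom φ, rfl⟩, ?_⟩
      refine LinearMap.ext fun x => ?_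
      rfl
  exact ⟨(Submodule.Quotient.equiv _ _ F hF).symm ≪≫ₗ extEquiv hS (ModuleCat.of B Y)⟩

end concrete

end Groth.Agent.H6.CotTExt
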