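import Mathlib

set_option autoImplicit false

namespace Groth.Agent.H6.PseudoRetract

variable {R : Type*} [CommRing R] (S : Submonoid R)
variable {M F : Type*} [AddCommGroup M] [Module R M] [AddCommGroup F] [Module R F]

/-- a module which is a retract up to an element of `S` of a projective module has projective
localization. -/
theorem projective_localizedModule_of_pseudoRetract [Module.Projective R F]
    (π : F →ₗ[R] M) (ε : M →ₗ[R] F) (s : R) (hs : s ∈ S) (h : π ∘ₗ ε = s • LinearMap.id) :
    Module.Projective (Localization S) (LocalizedModule S M) := by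
  let fM := LocalizedModule.mkLinearMap S M
  let fF := LocalizedModule.mkLinearMap S F
  let πS : LocalizedModule S F →ₗ[R] LocalizedModule S M := IsLocalizedModule.map S fF fM π
  let εS : LocalizedModule S M →ₗ[R] LocalizedModule S F := IsLocalizedModule.map S fM fF ε
  have h1 : πS ∘ₗ εS = s • LinearMap.id := by
    rw [← IsLocalizedModule.map_comp' S fM fF fM, h, map_smul, IsLocalizedModule.map_id]
  let u := (IsLocalizedModule.map_units fM ⟨s, hs⟩).unit
  have hu : (u : Module.End R (LocalizedModule S M)) = s • LinearMap.id := by
    ext x
    simp [u, Module.algebraMap_end_apply]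
  let i : LocalizedModule S M →ₗ[R] LocalizedModule S F := εS ∘ₗ (↑u⁻¹ : Module.End R (LocalizedModule S M))
  have h2 : πS ∘ₗ i = LinearMap.id := by
    rw [← LinearMap.comp_assoc, h1, ← hu]
    exact u.mul_inv
  let i' : LocalizedModule S M →ₗ[Localization S] LocalizedModule S F :=
    LinearMap.extendScalarsOfIsLocalization S (Localization S) i
  let π' : LocalizedModule S F →ₗ[Localization S] LocalizedModule S M :=
    LinearMap.extendScalarsOfIsLocalization S (Localization S) πS
  refine Module.Projective.of_split i' π' ?_
  ext x
  exact LinearMap.congr_fun h2 x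

/-- conversely, if the localization of a finitely presented module is projective, it is a retract up
to an element of `S` of any module surjecting onto it. -/
theorem exists_pseudoRetract_of_projective [Module.FinitePresentation R M]
    [Module.Projective (Localization S) (LocalizedModule S M)]
    (π : F →ₗ[R] M) (hπ : Function.Surjective π) :
    ∃ (ε : M →ₗ[R] F) (s : R), s ∈ S ∧ π ∘ₗ ε = s • LinearMap.id := by
  let fM := LocalizedModule.mkLinearMap S M
  let fF := LocalizedModule.mkLinearMap S F
  let πS : LocalizedModule S F →ₗ[R] LocalizedModule S M := IsLocalizedModule.map S fF fM π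
  have hπS : Function.Surjective πS := IsLocalizedModule.map_surjective S fF fM π hπ
  let π' : LocalizedModule S F →ₗ[Localization S] LocalizedModule S M :=
    LinearMap.extendScalarsOfIsLocalization S (Localization S) πS
  obtain ⟨σ, hσ⟩ := Module.projective_lifting_property π' LinearMap.id hπS
  let g : M →ₗ[R] LocalizedModule S F := (σ.restrictScalars R) ∘ₗ fM
  obtain ⟨h, s, hh⟩ := Module.FinitePresentation.exists_lift_of_isLocalizedModule S fF g
  have h3 : fM ∘ₗ (π ∘ₗ h) = fM ∘ₗ ((s : R) • LinearMap.id) := by
    rw [← LinearMap.comp_assoc, ← IsLocalizedModule.map_comp S fF fM π, LinearMap.comp_assoc, hh]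
    ext x
    simp only [LinearMap.comp_apply, LinearMap.smul_apply, LinearMap.id_apply, g,
      LinearMap.restrictScalars_apply, map_smul]
    have := LinearMap.congr_fun hσ (fM x)
    simp only [LinearMap.comp_apply, LinearMap.id_apply] at this
    have h4 : πS (σ (fM x)) = fM x := this
    change πS (s • σ (fM x)) = _
    rw [show (s • σ (fM x)) = (s : R) • σ (fM x) from rfl, map_smul, h4]
  haveI : Module.Finite R M := inferInstance
  obtain ⟨s', hs'⟩ := Module.Finite.exists_smul_of_comp_eq_of_isLocalizedModule S fM _ _ h3
  refine ⟨(s' : R) • h, (s' : R) * (s : R), S.mul_mem s'.2 s.2, ?_⟩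
  rw [LinearMap.comp_smul, mul_smul]
  exact hs'

end Groth.Agent.H6.PseudoRetract
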