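import Mathlib
import Groth.Prelude.Def_CotT
import Groth.Agent.Lib.Helper6.CotTHom2
import Groth.Agent.Lib.Helper6.PseudoRetract

set_option autoImplicit false

universe u v w

open TensorProduct

namespace Groth.Agent.H6.CotTFam

open Groth.Agent.H6.CotTHom

section Cond

variable {A : Type u} {B : Type v} [CommRing A] [CommRing B] [Algebra A B]
variable (E : Algebra.Extension.{w} A B)

/-- the conormal map has a retraction up to a power of `f` -/
def Cond (f : B) : Prop :=
  ∃ (n : ℕ) (ψ : E.CotangentSpace →ₗ[B] E.Cotangent), ψ ∘ₗ E.cotangentComplex = f ^ n • LinearMap.id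

variable {E}

theorem smul_eq_zero_of_cond {f : B} (h : Cond E f) :
    ∃ n : ℕ, ∀ (M : Type*) [AddCommGroup M] [Module B M] (x : T1E E M), f ^ n • x = 0 := by
  obtain ⟨n, ψ, hψ⟩ := h
  refine ⟨n, fun M _ _ x => ?_⟩
  obtain ⟨φ, rfl⟩ := Submodule.Quotient.mk_surjective _ x
  rw [← Submodule.Quotient.mk_smul, Submodule.Quotient.mk_eq_zero]
  refine ⟨φ ∘ₗ ψ, ?_⟩
  rw [LinearMap.lcomp_apply', LinearMap.comp_assoc, hψ, LinearMap.comp_smul, LinearMap.comp_id]

theorem cond_of_smul_eq_zero {f : B} (n : ℕ)
    (h : ∀ x : T1E E E.Cotangent, f ^ n • x = 0) : Cond E f := by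
  have h1 := h (Submodule.Quotient.mk LinearMap.id)
  rw [← Submodule.Quotient.mk_smul, Submodule.Quotient.mk_eq_zero] at h1
  obtain ⟨ψ, hψ⟩ := h1
  exact ⟨n, ψ, hψ⟩

end Cond

section Smooth

variable {A B : Type u} [CommRing A] [CommRing B] [Algebra A B] [Algebra.FinitePresentation A B]
variable {ι : Type w} (P : Algebra.Generators A B ι)

theorem subset_smoothLocus_of_cond (f : B) (h : Cond P.toExtension f) :
    (↑(PrimeSpectrum.basicOpen f) : Set (PrimeSpectrum B)) ⊆ Algebra.smoothLocus A B := by
  obtain ⟨n, ψ, hψ⟩ := h
  rw [Algebra.smoothLocus_eq_compl_support_inter, Set.subset_inter_iff]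
  constructor
  · intro q hq hq'
    obtain ⟨m, hm⟩ := Module.mem_support_iff_exists_annihilator.mp hq'
    have h0 : f ^ n • m = 0 := by
      obtain ⟨m', rfl⟩ := P.equivH1Cotangent.surjective m
      rw [← map_smul]
      have : f ^ n • m' = 0 := by
        apply P.toExtension.h1Cotangentι_injective
        rw [map_smul, map_zero]
        have h1 := LinearMap.congr_fun hψ (P.toExtension.h1Cotangentι m')
        simp only [LinearMap.comp_apply, LinearMap.smul_apply, LinearMap.id_apply] at h1
        rw [← h1]
        have h2 : P.toExtension.cotangentComplex (P.toExtension.h1Cotangentι m') = 0 := m'.2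
        rw [h2, map_zero]
      rw [this, map_zero]
    have h1 : f ^ n ∈ (Submodule.span B {m}).annihilator := by
      rw [Submodule.mem_annihilator_span_singleton]
      exact h0
    exact hq (q.2.mem_of_pow_mem n (hm h1))
  · rw [Module.basicOpen_subset_freeLocus_iff]
    let d := P.toExtension.cotangentComplex
    let π := P.toExtension.toKaehler
    have hex : Function.Exact d π := P.toExtension.exact_cotangentComplex_toKaehler
    have hπ : Function.Surjective π := P.toExtension.toKaehler_surjective
    let e : P.toExtension.CotangentSpace →ₗ[B] P.toExtension.CotangentSpace :=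
      f ^ n • LinearMap.id - d ∘ₗ ψ
    have hed : ∀ x, e (d x) = 0 := by
      intro x
      have h1 := LinearMap.congr_fun hψ x
      simp only [LinearMap.comp_apply, LinearMap.smul_apply, LinearMap.id_apply] at h1
      simp only [e, LinearMap.sub_apply, LinearMap.smul_apply, LinearMap.id_apply, LinearMap.comp_apply]
      change f ^ n • d x - d (ψ (P.toExtension.cotangentComplex x)) = 0
      rw [h1, map_smul, sub_self]
    have hle : LinearMap.ker π ≤ LinearMap.ker e := by
      intro x hx
      obtain ⟨y, rfl⟩ := (hex x).mp hx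
      exact hed y
    let ε : Ω[B⁄A] →ₗ[B] P.toExtension.CotangentSpace :=
      (Submodule.liftQ _ e hle) ∘ₗ (LinearMap.quotKerEquivOfSurjective π hπ).symm.toLinearMap
    have hε : ∀ x, ε (π x) = e x := by
      intro x
      simp only [ε, LinearMap.comp_apply, LinearEquiv.coe_coe]
      have : (LinearMap.quotKerEquivOfSurjective π hπ).symm (π x) = Submodule.Quotient.mk x := by
        rw [LinearEquiv.symm_apply_eq]
        rfl
      rw [this, Submodule.liftQ_apply]
    have hπε : π ∘ₗ ε = f ^ n • LinearMap.id := by
      refine LinearMap.ext fun y => ?_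
      obtain ⟨x, rfl⟩ := hπ y
      simp only [LinearMap.comp_apply, LinearMap.smul_apply, LinearMap.id_apply]
      rw [hε]
      simp only [e, LinearMap.sub_apply, LinearMap.smul_apply, LinearMap.id_apply, LinearMap.comp_apply,
        map_sub, map_smul]
      rw [hex.apply_apply_eq_zero, sub_zero]
    haveI : Module.Projective B P.toExtension.CotangentSpace :=
      Module.Projective.of_basis P.cotangentSpaceBasis
    exact PseudoRetract.projective_localizedModule_of_pseudoRetract (Submonoid.powers f) π ε (f ^ n)
      ⟨n, rfl⟩ hπε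

end Smooth

end Groth.Agent.H6.CotTFam
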