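import Mathlib
import Groth.Prelude.Def_CotT
import Groth.Agent.Lib.Helper6.CotTFam

set_option autoImplicit false

universe u v w

open TensorProduct

namespace Groth.Agent.H6.CotTFam

open Groth.Agent.H6.CotTHom

section Kill

variable {B : Type*} [CommRing B] {N : Type*} [AddCommGroup N] [Module B N]

theorem exists_pow_smul_eq_zero_of_fg (f : B) (K : Submodule B N) (hK : K.FG)
    (h : ∀ m ∈ K, ∃ k : ℕ, f ^ k • m = 0) : ∃ a : ℕ, ∀ m ∈ K, f ^ a • m = 0 := by
  classical
  obtain ⟨s, rfl⟩ := hK
  have h' : ∀ m : N, ∃ k : ℕ, m ∈ s → f ^ k • m = 0 := by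
    intro m
    by_cases hm : m ∈ s
    · obtain ⟨k, hk⟩ := h m (Submodule.subset_span hm)
      exact ⟨k, fun _ => hk⟩
    · exact ⟨0, fun h => absurd h hm⟩
  choose k hk using h'
  refine ⟨s.sup k, fun m hm => ?_⟩
  induction hm using Submodule.span_induction with
  | mem x hx =>
    have hle : k x ≤ s.sup k := Finset.le_sup hx
    obtain ⟨c, hc⟩ := Nat.exists_eq_add_of_le hle
    rw [hc, pow_add, mul_comm, mul_smul, hk x hx, smul_zero]
  | zero => rw [smul_zero]
  | add x y _ _ hx hy => rw [smul_add, hx, hy, add_zero]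
  | smul r x _ hx => rw [smul_comm, hx, smul_zero]

end Kill

section Smooth

variable {A B : Type u} [CommRing A] [CommRing B] [Algebra A B] [Algebra.FinitePresentation A B]
variable {ι : Type w} (P : Algebra.Generators A B ι)

theorem cond_of_subset_smoothLocus [IsNoetherianRing B] [Module.Finite B P.toExtension.Cotangent] (f : B)
    (h : (↑(PrimeSpectrum.basicOpen f) : Set (PrimeSpectrum B)) ⊆ Algebra.smoothLocus A B) :
    Cond P.toExtension f := by
  rw [Algebra.smoothLocus_eq_compl_support_inter, Set.subset_inter_iff] at h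
  obtain ⟨h1, h2⟩ := h
  let d := P.toExtension.cotangentComplex
  let π := P.toExtension.toKaehler
  have hex : Function.Exact d π := P.toExtension.exact_cotangentComplex_toKaehler
  have hπ : Function.Surjective π := P.toExtension.toKaehler_surjective
  -- step 1: pseudo-section of π
  rw [Module.basicOpen_subset_freeLocus_iff] at h2
  haveI : Module.Projective (Localization (Submonoid.powers f)) (LocalizedModule (Submonoid.powers f) Ω[B⁄A]) := h2
  obtain ⟨ε, s, ⟨m, rfl⟩, hε⟩ := PseudoRetract.exists_pseudoRetract_of_projective (Submonoid.powers f) π hπ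
  -- step 2: lift through d
  let e : P.toExtension.CotangentSpace →ₗ[B] P.toExtension.CotangentSpace :=
    f ^ m • LinearMap.id - ε ∘ₗ π
  have hπe : ∀ x, π (e x) = 0 := by
    intro x
    have h3 := LinearMap.congr_fun hε (π x)
    simp only [LinearMap.comp_apply, LinearMap.smul_apply, LinearMap.id_apply] at h3
    simp only [e, LinearMap.sub_apply, LinearMap.smul_apply, LinearMap.id_apply, LinearMap.comp_apply,
      map_sub, map_smul]
    rw [h3, sub_self]
  have he_mem : ∀ x, e x ∈ LinearMap.range d := by
    intro x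
    exact (hex (e x)).mp (hπe x)
  haveI : Module.Projective B P.toExtension.CotangentSpace :=
    Module.Projective.of_basis P.cotangentSpaceBasis
  obtain ⟨ψ0, hψ0⟩ := Module.projective_lifting_property d.rangeRestrict
    (LinearMap.codRestrict (LinearMap.range d) e he_mem) (LinearMap.surjective_rangeRestrict d)
  have hdψ0 : ∀ x, d (ψ0 x) = e x := by
    intro x
    have := LinearMap.congr_fun hψ0 x
    exact congrArg Subtype.val this
  -- step 3: kill the kernel of d
  have hkill : ∃ a : ℕ, ∀ y ∈ LinearMap.ker d, f ^ a • y = 0 := by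
    haveI : IsNoetherian B P.toExtension.Cotangent := isNoetherian_of_isNoetherianRing_of_finite B _
    refine exists_pow_smul_eq_zero_of_fg f (LinearMap.ker d) (IsNoetherian.noetherian _) ?_
    intro y hy
    have hsub : Subsingleton (LocalizedModule.Away f (Algebra.H1Cotangent A B)) := by
      rw [LocalizedModule.subsingleton_iff_disjoint]
      rw [Set.disjoint_left]
      intro q hq hq'
      exact h1 hq hq'
    rw [LocalizedModule.subsingleton_iff] at hsub
    let y' : P.toExtension.H1Cotangent := ⟨y, hy⟩
    obtain ⟨r, ⟨k, rfl⟩, hr⟩ := hsub (P.equivH1Cotangent y')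
    refine ⟨k, ?_⟩
    replace hr : f ^ k • P.equivH1Cotangent y' = 0 := hr
    rw [← map_smul] at hr
    have h4 : f ^ k • y' = 0 :=
      P.equivH1Cotangent.injective (by rw [hr, map_zero])
    exact congrArg Subtype.val h4
  obtain ⟨a, ha⟩ := hkill
  refine ⟨a + m, f ^ a • ψ0, ?_⟩
  refine LinearMap.ext fun x => ?_
  simp only [LinearMap.comp_apply, LinearMap.smul_apply, LinearMap.id_apply]
  have h5 : ψ0 (d x) - f ^ m • x ∈ LinearMap.ker d := by
    rw [LinearMap.mem_ker, map_sub, hdψ0, map_smul]
    simp only [e, LinearMap.sub_apply, LinearMap.smul_apply, LinearMap.id_apply, LinearMap.comp_apply]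
    rw [hex.apply_apply_eq_zero, map_zero, sub_zero, sub_self]
  have h6 := ha _ h5
  rw [smul_sub, sub_eq_zero] at h6
  change f ^ a • ψ0 (d x) = _
  rw [h6, pow_add, mul_smul]

end Smooth

end Groth.Agent.H6.CotTFam
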