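import Mathlib
import Groth.Prelude.Def_CotT
import Groth.Agent.Lib.Helper6.CotTFam2

set_option autoImplicit false

universe u

open TensorProduct

namespace Groth.Agent.H6.CotTFam

open Groth.Agent.H6.CotTHom

theorem main (A B : Type u) [CommRing A] [CommRing B] [Algebra A B] [Algebra.FinitePresentation A B]
    [IsNoetherianRing B] (f : B) :
    ((↑(PrimeSpectrum.basicOpen f) : Set (PrimeSpectrum B)) ⊆ Algebra.smoothLocus A B) ↔
    ∃ n₀ : ℕ, ∀ (M : Type u) [AddCommGroup M] [Module B M] [Module.Finite B M],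
      ∀ x : CotT.T1 (CotT.canon A B) M, f ^ n₀ • x = 0 := by
  let P := Algebra.Presentation.ofFinitePresentation A B
  haveI : Module.Finite B P.toExtension.Cotangent := Algebra.Extension.Cotangent.finite P.fg_ker
  have key : ∀ (M : Type u) [AddCommGroup M] [Module B M],
      Nonempty (CotT.T1 (CotT.canon A B) M ≃ₗ[B] T1E P.toExtension M) := by
    intro M _ _
    obtain ⟨e⟩ := nonempty_T1equiv (CotT.canon A B) P M
    exact ⟨e ≪≫ₗ T1equivT1E P M⟩
  constructor
  · intro h
    have hc := cond_of_subset_smoothLocus P.toGenerators f h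
    obtain ⟨n, hn⟩ := smul_eq_zero_of_cond hc
    refine ⟨n, fun M _ _ _ x => ?_⟩
    obtain ⟨e⟩ := key M
    apply e.injective
    rw [map_smul, map_zero]
    exact hn M (e x)
  · rintro ⟨n, hn⟩
    refine subset_smoothLocus_of_cond P.toGenerators f (cond_of_smul_eq_zero n ?_)
    intro x
    obtain ⟨e⟩ := key P.toExtension.Cotangent
    obtain ⟨y, rfl⟩ := e.surjective x
    rw [← map_smul, hn P.toExtension.Cotangent y, map_zero]

end Groth.Agent.H6.CotTFam
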