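import Groth.Prelude.Def_CotT2
import Mathlib

set_option autoImplicit false

/-!
# Abstract morphisms of presentations of one ring `B` (over possibly different bases) and the induced
maps on `T²`; homotopy invariance and functoriality.
-/

noncomputable section

universe u v w t u' w' t' u'' w'' t'' m

open TensorProduct CotT

namespace Groth.Agent.H6.CotTHom

section TMap

variable {R : Type*} {R' : Type*} {B : Type*} [CommRing R] [CommRing R'] [CommRing B] [Algebra R B] [Algebra R' B]
variable (τ : R →+* R') (hτ : ∀ r, algebraMap R' B (τ r) = algebraMap R B r)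
variable {N : Type*} {N' : Type*} [AddCommMonoid N] [Module R N] [AddCommMonoid N'] [Module R' N']
variable (g : N →ₛₗ[τ] N')

/-- additive version of `tmap` -/
def tmapAdd : B ⊗[R] N →+ B ⊗[R'] N' :=
  TensorProduct.liftAddHom
    { toFun := fun b =>
        { toFun := fun x => b ⊗ₜ[R'] g x
          map_zero' := by rw [map_zero, TensorProduct.tmul_zero]
          map_add' := fun x y => by rw [map_add, TensorProduct.tmul_add] }
      map_zero' := AddMonoidHom.ext fun x => by
        change (0 : B) ⊗ₜ[R'] g x = 0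
        rw [TensorProduct.zero_tmul]
      map_add' := fun b b' => AddMonoidHom.ext fun x => by
        change (b + b') ⊗ₜ[R'] g x = b ⊗ₜ[R'] g x + b' ⊗ₜ[R'] g x
        rw [TensorProduct.add_tmul] }
    (fun r b x => by
      change (r • b) ⊗ₜ[R'] g x = b ⊗ₜ[R'] g (r • x)
      rw [LinearMap.map_smulₛₗ, ← TensorProduct.smul_tmul, Algebra.smul_def r b,
        Algebra.smul_def (τ r), hτ])

lemma tmapAdd_tmul (b : B) (x : N) : tmapAdd τ hτ g (b ⊗ₜ x) = b ⊗ₜ g x := rfl

/-- `B ⊗_R N → B ⊗_{R'} N'`, `b ⊗ x ↦ b ⊗ g x` for `g` semilinear over `τ : R → R'` (compatible with the maps to `B`). -/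
def tmap : B ⊗[R] N →ₗ[B] B ⊗[R'] N' where
  toFun := tmapAdd τ hτ g
  map_add' x y := map_add _ x y
  map_smul' b z := by
    induction z using TensorProduct.induction_on with
    | zero => rw [smul_zero, map_zero, smul_zero]
    | add x y hx hy => rw [smul_add, map_add, hx, hy, map_add, smul_add]
    | tmul c x =>
      rw [TensorProduct.smul_tmul', smul_eq_mul, tmapAdd_tmul, tmapAdd_tmul, RingHom.id_apply,
        TensorProduct.smul_tmul', smul_eq_mul]

@[simp] lemma tmap_tmul (b : B) (x : N) : tmap τ hτ g (b ⊗ₜ x) = b ⊗ₜ g x := rfl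

end TMap

variable {A : Type u} {B : Type v} {ι : Type w} {σ : Type t}
variable {A' : Type u'} {ι' : Type w'} {σ' : Type t'}
variable {A'' : Type u''} {ι'' : Type w''} {σ'' : Type t''}
variable [CommRing A] [CommRing B] [Algebra A B] [CommRing A'] [Algebra A' B] [CommRing A''] [Algebra A'' B]
variable (P : Algebra.Presentation A B ι σ) (P' : Algebra.Presentation A' B ι' σ')
  (P'' : Algebra.Presentation A'' B ι'' σ'')

/-- An abstract morphism between two presentations of the same ring `B` (the base rings may differ): a ring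
map `R → R'` compatible with the maps to `B`, and lifts of the images of the relations. -/
structure AM where
  τ : P.toExtension.Ring →+* P'.toExtension.Ring
  hτ : ∀ r, algebraMap P'.toExtension.Ring B (τ r) = algebraMap P.toExtension.Ring B r
  relVal : σ → relMod P'
  jmap_relVal : ∀ s, jmap P' (relVal s) = τ (rel P s)

variable {P P' P''}

/-- `F → F'` attached to a ring map and a family of values. -/
def rmap (τ : P.toExtension.Ring →+* P'.toExtension.Ring) (v : σ → relMod P') : relMod P →ₛₗ[τ] relMod P' where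
  toFun f := Finsupp.linearCombination P'.toExtension.Ring v (Finsupp.mapRange τ (map_zero _) f)
  map_add' f g := by rw [Finsupp.mapRange_add (map_add _), map_add]
  map_smul' r f := by
    rw [← map_smul]
    congr 1
    ext s
    simp [Finsupp.mapRange_apply, map_mul]

@[simp] lemma rmap_single (τ : P.toExtension.Ring →+* P'.toExtension.Ring) (v : σ → relMod P') (s : σ)
    (r : P.toExtension.Ring) : rmap τ v (Finsupp.single s r) = τ r • v s := by
  simp [rmap]

lemma jmap_rmap (τ : P.toExtension.Ring →+* P'.toExtension.Ring) (v : σ → relMod P')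
    (hv : ∀ s, jmap P' (v s) = τ (rel P s)) (f : relMod P) : jmap P' (rmap τ v f) = τ (jmap P f) := by
  induction f using Finsupp.induction_linear with
  | zero => simp
  | add f g hf hg => rw [map_add, map_add, hf, hg, map_add, map_add]
  | single s r => rw [rmap_single, map_smul, hv, jmap_single, smul_eq_mul, map_mul]

namespace AM

variable (h : AM P P')

/-- `F → F'` -/
def relModMap : relMod P →ₛₗ[h.τ] relMod P' := rmap h.τ h.relVal

@[simp] lemma relModMap_single (s : σ) (r : P.toExtension.Ring) :
    h.relModMap (Finsupp.single s r) = h.τ r • h.relVal s := rmap_single _ _ _ _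

lemma jmap_relModMap (f : relMod P) : jmap P' (h.relModMap f) = h.τ (jmap P f) :=
  jmap_rmap _ _ h.jmap_relVal f

/-- `Q → Q'` -/
def relKerMap : relKer P →ₛₗ[h.τ] relKer P' :=
  (h.relModMap.comp (relKer P).subtype).codRestrict (relKer P') (fun q => by
    change jmap P' (h.relModMap (q : relMod P)) = 0
    rw [jmap_relModMap, show jmap P (q : relMod P) = 0 from q.2, map_zero])

@[simp] lemma relKerMap_coe (q : relKer P) : (h.relKerMap q : relMod P') = h.relModMap q := rfl

lemma relModMap_mem_trivRel {y : relMod P} (hy : y ∈ trivRel P) : h.relModMap y ∈ trivRel P' := by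
  induction hy using Submodule.span_induction with
  | mem x hx =>
    obtain ⟨a, b, rfl⟩ := hx
    refine Submodule.subset_span ⟨h.relModMap a, h.relModMap b, ?_⟩
    rw [map_sub, LinearMap.map_smulₛₗ, LinearMap.map_smulₛₗ, jmap_relModMap, jmap_relModMap]
  | zero => simp
  | add x y _ _ hx hy => rw [map_add]; exact Submodule.add_mem _ hx hy
  | smul r x _ hx => rw [LinearMap.map_smulₛₗ]; exact Submodule.smul_mem _ _ hx

/-- `L₁ → L₁'` -/
def L1map : L1 P →ₗ[B] L1 P' := tmap h.τ h.hτ h.relModMap

@[simp] lemma L1map_tmul (b : B) (f : relMod P) : h.L1map (b ⊗ₜ f) = b ⊗ₜ h.relModMap f := rfl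

/-- `B ⊗ Q → L₂'` -/
def L2mapAux : B ⊗[P.toExtension.Ring] relKer P →ₗ[B] L2 P' :=
  (Submodule.mkQ _) ∘ₗ tmap h.τ h.hτ h.relKerMap

lemma L2mapAux_tmul (b : B) (q : relKer P) :
    h.L2mapAux (b ⊗ₜ q) = Submodule.Quotient.mk (b ⊗ₜ h.relKerMap q) := rfl

/-- `L₂ → L₂'` -/
def L2map : L2 P →ₗ[B] L2 P' :=
  Submodule.liftQ _ h.L2mapAux (by
    rintro _ ⟨z, rfl⟩
    rw [LinearMap.mem_ker]
    induction z using TensorProduct.induction_on with
    | zero => simp
    | add x y hx hy => rw [map_add, map_add, hx, hy, add_zero]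
    | tmul b k =>
      rw [LinearMap.baseChange_tmul, L2mapAux_tmul, Submodule.Quotient.mk_eq_zero]
      refine ⟨b ⊗ₜ ⟨h.relKerMap (k : relKer P), ?_⟩, rfl⟩
      change (h.relKerMap (k : relKer P) : relMod P') ∈ trivRel P'
      rw [relKerMap_coe]
      exact h.relModMap_mem_trivRel k.2)

@[simp] lemma L2map_mk_tmul (b : B) (q : relKer P) :
    h.L2map (Submodule.Quotient.mk (b ⊗ₜ q)) = Submodule.Quotient.mk (b ⊗ₜ h.relKerMap q) := rfl

lemma d2_L2map (z : L2 P) : d2 P' (h.L2map z) = h.L1map (d2 P z) := by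
  induction z using Submodule.Quotient.induction_on with
  | H z =>
    induction z using TensorProduct.induction_on with
    | zero => simp
    | add x y hx hy =>
      rw [Submodule.Quotient.mk_add, map_add, map_add, hx, hy, map_add, map_add]
    | tmul b q => rw [L2map_mk_tmul, d2_mk_tmul, d2_mk_tmul, L1map_tmul, relKerMap_coe]

variable (M : Type m) [AddCommGroup M] [Module B M]

/-- `T²(P', M) → T²(P, M)` -/
def T2pull : T2 P' M →ₗ[B] T2 P M :=
  Submodule.mapQ (LinearMap.range (d2Star P' M)) (LinearMap.range (d2Star P M))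
    (LinearMap.lcomp B M h.L2map) (by
    rintro _ ⟨ψ, rfl⟩
    refine ⟨ψ ∘ₗ h.L1map, ?_⟩
    refine LinearMap.ext fun z => ?_
    simp [d2_L2map])

lemma T2pull_mk (ψ : L2 P' →ₗ[B] M) :
    h.T2pull M (Submodule.Quotient.mk ψ) = Submodule.Quotient.mk (ψ ∘ₗ h.L2map) := rfl

end AM

section IdComp

/-- identity -/
def AM.id (P : Algebra.Presentation A B ι σ) : AM P P where
  τ := RingHom.id _
  hτ _ := rfl
  relVal s := Finsupp.single s 1
  jmap_relVal s := by rw [jmap_single, one_mul]; rfl

lemma AM.id_relModMap (f : relMod P) : (AM.id P).relModMap f = f := by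
  induction f using Finsupp.induction_linear with
  | zero => simp
  | add f g hf hg => rw [map_add, hf, hg]
  | single s r =>
    rw [AM.relModMap_single]
    change r • Finsupp.single s (1 : P.toExtension.Ring) = _
    rw [Finsupp.smul_single, smul_eq_mul, mul_one]

lemma AM.id_L2map : (AM.id P).L2map = LinearMap.id := by
  refine Submodule.linearMap_qext _ ?_
  refine TensorProduct.AlgebraTensorModule.ext fun b q => ?_
  change Submodule.Quotient.mk (b ⊗ₜ (AM.id P).relKerMap q) = Submodule.Quotient.mk (b ⊗ₜ q)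
  have : (AM.id P).relKerMap q = q := Subtype.ext (AM.id_relModMap _)
  rw [this]

lemma AM.id_T2pull (M : Type m) [AddCommGroup M] [Module B M] :
    (AM.id P).T2pull M = LinearMap.id := by
  refine Submodule.linearMap_qext _ (LinearMap.ext fun ψ => ?_)
  change Submodule.Quotient.mk (ψ ∘ₗ (AM.id P).L2map) = Submodule.Quotient.mk ψ
  rw [AM.id_L2map, LinearMap.comp_id]

/-- composition -/
def AM.comp (g : AM P' P'') (h : AM P P') : AM P P'' where
  τ := g.τ.comp h.τ
  hτ r := by rw [RingHom.comp_apply, g.hτ, h.hτ]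
  relVal s := g.relModMap (h.relVal s)
  jmap_relVal s := by rw [g.jmap_relModMap, h.jmap_relVal, RingHom.comp_apply]

lemma AM.comp_relModMap (g : AM P' P'') (h : AM P P') (f : relMod P) :
    (g.comp h).relModMap f = g.relModMap (h.relModMap f) := by
  induction f using Finsupp.induction_linear with
  | zero => simp
  | add f f' hf hf' => rw [map_add, hf, hf', map_add, map_add]
  | single s r =>
    rw [AM.relModMap_single, AM.relModMap_single, LinearMap.map_smulₛₗ]
    rfl

lemma AM.comp_L2map (g : AM P' P'') (h : AM P P') : (g.comp h).L2map = g.L2map ∘ₗ h.L2map := by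
  refine Submodule.linearMap_qext _ ?_
  refine TensorProduct.AlgebraTensorModule.ext fun b q => ?_
  change Submodule.Quotient.mk (b ⊗ₜ (g.comp h).relKerMap q) =
    Submodule.Quotient.mk (b ⊗ₜ g.relKerMap (h.relKerMap q))
  have : (g.comp h).relKerMap q = g.relKerMap (h.relKerMap q) := Subtype.ext (AM.comp_relModMap g h _)
  rw [this]

lemma AM.comp_T2pull (g : AM P' P'') (h : AM P P') (M : Type m) [AddCommGroup M] [Module B M] :
    (g.comp h).T2pull M = h.T2pull M ∘ₗ g.T2pull M := by
  refine Submodule.linearMap_qext _ (LinearMap.ext fun ψ => ?_)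
  change Submodule.Quotient.mk (ψ ∘ₗ (g.comp h).L2map) = Submodule.Quotient.mk ((ψ ∘ₗ g.L2map) ∘ₗ h.L2map)
  rw [AM.comp_L2map, LinearMap.comp_assoc]

end IdComp

section KN

variable (P')

/-- `F'/F₀'` as a non-unital commutative ring with `a * b = j(a) • b`. -/
def KN : Type _ := relMod P' ⧸ trivRel P'

instance : AddCommGroup (KN P') := inferInstanceAs (AddCommGroup (relMod P' ⧸ trivRel P'))
instance : Module P'.toExtension.Ring (KN P') :=
  inferInstanceAs (Module P'.toExtension.Ring (relMod P' ⧸ trivRel P'))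

/-- the quotient map -/
def KN.mk : relMod P' →ₗ[P'.toExtension.Ring] KN P' := (trivRel P').mkQ

lemma KN.mk_surjective : Function.Surjective (KN.mk P') := Submodule.mkQ_surjective _

lemma KN.mk_eq_zero_iff (x : relMod P') : KN.mk P' x = 0 ↔ x ∈ trivRel P' :=
  Submodule.Quotient.mk_eq_zero _

/-- induced `j` -/
def KN.jbar : KN P' →ₗ[P'.toExtension.Ring] P'.toExtension.Ring :=
  Submodule.liftQ _ (jmap P') (trivRel_le_relKer P')

@[simp] lemma KN.jbar_mk (x : relMod P') : KN.jbar P' (KN.mk P' x) = jmap P' x := rfl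

lemma KN.koszul (a b : KN P') : KN.jbar P' a • b = KN.jbar P' b • a := by
  obtain ⟨a, rfl⟩ := KN.mk_surjective P' a
  obtain ⟨b, rfl⟩ := KN.mk_surjective P' b
  rw [KN.jbar_mk, KN.jbar_mk, ← map_smul, ← map_smul, ← sub_eq_zero, ← map_sub, KN.mk_eq_zero_iff]
  exact Submodule.subset_span ⟨a, b, rfl⟩

instance : Mul (KN P') := ⟨fun a b => KN.jbar P' a • b⟩

lemma KN.mul_def (a b : KN P') : a * b = KN.jbar P' a • b := rfl

instance : NonUnitalCommRing (KN P') where
  left_distrib a b c := by simp only [KN.mul_def, smul_add]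
  right_distrib a b c := by simp only [KN.mul_def, map_add, add_smul]
  zero_mul a := by simp only [KN.mul_def, map_zero, zero_smul]
  mul_zero a := by simp only [KN.mul_def, smul_zero]
  mul_assoc a b c := by simp only [KN.mul_def, map_smul, smul_eq_mul, mul_smul]
  mul_comm a b := KN.koszul P' a b

instance : IsScalarTower P'.toExtension.Ring (KN P') (KN P') where
  smul_assoc r a b := by
    change (r • a) * b = r • (a * b)
    simp only [KN.mul_def, map_smul, smul_eq_mul, mul_smul]

instance : SMulCommClass P'.toExtension.Ring (KN P') (KN P') where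
  smul_comm r a b := by
    change r • (a * b) = a * (r • b)
    simp only [KN.mul_def]
    rw [smul_comm]

/-- second projection `E → R'`, `(r, n) ↦ r + j n` -/
def KN.p2 : Unitization P'.toExtension.Ring (KN P') →+* P'.toExtension.Ring where
  toFun x := x.fst + KN.jbar P' x.snd
  map_one' := by simp
  map_zero' := by simp
  map_add' x y := by
    simp only [Unitization.fst_add, Unitization.snd_add, map_add]
    ring
  map_mul' x y := by
    simp only [Unitization.fst_mul, Unitization.snd_mul, map_add, map_smul, smul_eq_mul, KN.mul_def]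
    ring

end KN

section Homotopy

variable (k k' : AM P P')

lemma exists_lift_sub (x : P.toExtension.Ring) : ∃ f : relMod P', jmap P' f = k.τ x - k'.τ x := by
  have : k.τ x - k'.τ x ∈ LinearMap.range (jmap P') := by
    rw [range_jmap]
    change _ ∈ RingHom.ker (algebraMap P'.toExtension.Ring B)
    rw [RingHom.mem_ker, map_sub, k.hτ, k'.hτ, sub_self]
  exact this

/-- chosen lifts of `τ(x_i) - τ'(x_i)` -/
def liftX (i : ι) : relMod P' := (exists_lift_sub k k' (MvPolynomial.X i : MvPolynomial ι A)).choose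

lemma jmap_liftX (i : ι) :
    jmap P' (liftX k k' i) = k.τ (MvPolynomial.X i : MvPolynomial ι A) - k'.τ (MvPolynomial.X i : MvPolynomial ι A) :=
  (exists_lift_sub k k' (MvPolynomial.X i : MvPolynomial ι A)).choose_spec

/-- the ring map `R → E = R' ⋉ F'/F₀'` with `p₁ T = τ'`, `p₂ T = τ` -/
def TT : P.toExtension.Ring →+* Unitization P'.toExtension.Ring (KN P') :=
  (MvPolynomial.eval₂Hom ((Unitization.inlRingHom P'.toExtension.Ring (KN P')).comp
      (k'.τ.comp (MvPolynomial.C : A →+* MvPolynomial ι A)))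
    (fun i => Unitization.inl (k'.τ (MvPolynomial.X i : MvPolynomial ι A)) +
      ((KN.mk P' (liftX k k' i) : KN P') : Unitization P'.toExtension.Ring (KN P'))) :
    MvPolynomial ι A →+* Unitization P'.toExtension.Ring (KN P'))

lemma fst_TT (r : P.toExtension.Ring) : (TT k k' r).fst = k'.τ r := by
  have : ((Unitization.fstHom P'.toExtension.Ring (KN P')).toRingHom.comp (TT k k') :
      MvPolynomial ι A →+* P'.toExtension.Ring) = k'.τ := by
    refine MvPolynomial.ringHom_ext (fun a => ?_) (fun i => ?_)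
    · simp [TT]; rfl
    · simp [TT]; rfl
  exact RingHom.congr_fun this r

variable (hC : ∀ a : A, k.τ (MvPolynomial.C a : MvPolynomial ι A) = k'.τ (MvPolynomial.C a : MvPolynomial ι A))
include hC

lemma p2_TT (r : P.toExtension.Ring) : KN.p2 P' (TT k k' r) = k.τ r := by
  have : ((KN.p2 P').comp (TT k k') : MvPolynomial ι A →+* P'.toExtension.Ring) = k.τ := by
    refine MvPolynomial.ringHom_ext (fun a => ?_) (fun i => ?_)
    · simp [TT, KN.p2]
      exact (hC a).symm
    · simp [TT, KN.p2, jmap_liftX]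
      rfl
  exact RingHom.congr_fun this r

omit hC in
/-- the lifted twisted derivation `D̃ : R → F'/F₀'` -/
def Dt (r : P.toExtension.Ring) : KN P' := (TT k k' r).snd

omit hC in
lemma Dt_add (r s : P.toExtension.Ring) : Dt k k' (r + s) = Dt k k' r + Dt k k' s := by
  simp only [Dt, map_add, Unitization.snd_add]

omit hC in
lemma Dt_zero : Dt k k' 0 = 0 := by
  simp only [Dt, map_zero, Unitization.snd_zero]

lemma jbar_Dt (r : P.toExtension.Ring) : KN.jbar P' (Dt k k' r) = k.τ r - k'.τ r := by
  have h1 := p2_TT k k' hC r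
  have h2 := fst_TT k k' r
  change (TT k k' r).fst + KN.jbar P' (TT k k' r).snd = k.τ r at h1
  rw [h2] at h1
  rw [← h1]
  change KN.jbar P' (TT k k' r).snd = _
  ring

lemma Dt_mul (r s : P.toExtension.Ring) :
    Dt k k' (r * s) = k.τ r • Dt k k' s + k'.τ s • Dt k k' r := by
  have h1 : Dt k k' (r * s) = (TT k k' r).fst • Dt k k' s + (TT k k' s).fst • Dt k k' r +
      Dt k k' r * Dt k k' s := by
    simp only [Dt, map_mul, Unitization.snd_mul]
  rw [h1, fst_TT, fst_TT, KN.mul_def, jbar_Dt k k' hC, sub_smul]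
  abel

/-- chosen lifts of `D̃(rel s)` -/
def wlift (s : σ) : relMod P' := (KN.mk_surjective P' (Dt k k' (rel P s))).choose

omit hC in
lemma mk_wlift (s : σ) : KN.mk P' (wlift k k' s) = Dt k k' (rel P s) :=
  (KN.mk_surjective P' (Dt k k' (rel P s))).choose_spec

/-- the homotopy `S : F → F'` (it lands in `Q'`) -/
def Smap : relMod P →ₛₗ[k.τ] relMod P' :=
  rmap k.τ (fun s => k.relVal s - k'.relVal s - wlift k k' s)

lemma jmap_Smap (f : relMod P) : jmap P' (Smap k k' f) = 0 := by
  have h0 : ∀ s, jmap P' (k.relVal s - k'.relVal s - wlift k k' s) = k.τ (0 * rel P s) := by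
    intro s
    rw [map_sub, map_sub, k.jmap_relVal, k'.jmap_relVal, ← KN.jbar_mk, mk_wlift, jbar_Dt k k' hC,
      zero_mul, map_zero, sub_self]
  induction f using Finsupp.induction_linear with
  | zero => simp
  | add f g hf hg => rw [map_add, map_add, hf, hg, add_zero]
  | single s r =>
    rw [Smap, rmap_single, map_smul, h0, zero_mul, map_zero, smul_zero]

/-- key identity: `[h f - h' f - S f] = D̃ (j f)` in `F'/F₀'` -/
lemma key (f : relMod P) :
    KN.mk P' (k.relModMap f - k'.relModMap f - Smap k k' f) = Dt k k' (jmap P f) := by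
  induction f using Finsupp.induction_linear with
  | zero => simp [Dt_zero]
  | add f g hf hg =>
    rw [map_add, map_add, map_add, add_sub_add_comm, add_sub_add_comm, map_add, hf, hg, map_add, Dt_add]
  | single s r =>
    rw [AM.relModMap_single, AM.relModMap_single, Smap, rmap_single, jmap_single, Dt_mul k k' hC]
    have e1 : k.τ r • k.relVal s - k'.τ r • k'.relVal s -
        k.τ r • (k.relVal s - k'.relVal s - wlift k k' s) =
        (k.τ r - k'.τ r) • k'.relVal s + k.τ r • wlift k k' s := by
      rw [smul_sub, smul_sub, sub_smul]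
      abel
    rw [e1, map_add, map_smul, map_smul, mk_wlift, ← jbar_Dt k k' hC, KN.koszul, KN.jbar_mk,
      k'.jmap_relVal, add_comm]

lemma sub_mem_trivRel (q : relKer P) :
    k.relModMap q - k'.relModMap q - Smap k k' q ∈ trivRel P' := by
  rw [← KN.mk_eq_zero_iff, key k k' hC, show jmap P (q : relMod P) = 0 from q.2, Dt_zero]

/-- `S` with values in `Q'` -/
def Sker : relMod P →ₛₗ[k.τ] relKer P' :=
  (Smap k k').codRestrict (relKer P') (fun f => jmap_Smap k k' hC f)

/-- the homotopy `L₁ → L₂'` -/
def s1 : L1 P →ₗ[B] L2 P' := (Submodule.mkQ _) ∘ₗ tmap k.τ k.hτ (Sker k k' hC)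

lemma s1_tmul (b : B) (f : relMod P) :
    s1 k k' hC (b ⊗ₜ f) = Submodule.Quotient.mk (b ⊗ₜ Sker k k' hC f) := rfl

lemma L2map_sub : k.L2map - k'.L2map = s1 k k' hC ∘ₗ d2 P := by
  refine Submodule.linearMap_qext _ ?_
  refine TensorProduct.AlgebraTensorModule.ext fun b q => ?_
  change Submodule.Quotient.mk (b ⊗ₜ k.relKerMap q) - Submodule.Quotient.mk (b ⊗ₜ k'.relKerMap q) =
    s1 k k' hC (d2 P (Submodule.Quotient.mk (b ⊗ₜ q)))
  have e : b ⊗ₜ[P'.toExtension.Ring] k.relKerMap q - b ⊗ₜ[P'.toExtension.Ring] k'.relKerMap q -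
      b ⊗ₜ[P'.toExtension.Ring] (Sker k k' hC) ↑q =
      b ⊗ₜ[P'.toExtension.Ring] (k.relKerMap q - k'.relKerMap q - Sker k k' hC q) := by
    have h1 := (TensorProduct.mk P'.toExtension.Ring B (relKer P') b).map_sub
      (k.relKerMap q - k'.relKerMap q) (Sker k k' hC q)
    have h2 := (TensorProduct.mk P'.toExtension.Ring B (relKer P') b).map_sub
      (k.relKerMap q) (k'.relKerMap q)
    rw [h2] at h1
    exact h1.symm
  rw [d2_mk_tmul, s1_tmul, ← Submodule.Quotient.mk_sub, ← sub_eq_zero, ← Submodule.Quotient.mk_sub,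
    e, Submodule.Quotient.mk_eq_zero]
  refine ⟨b ⊗ₜ ⟨k.relKerMap q - k'.relKerMap q - Sker k k' hC q, ?_⟩, rfl⟩
  exact sub_mem_trivRel k k' hC q

theorem T2pull_eq (M : Type m) [AddCommGroup M] [Module B M] : k.T2pull M = k'.T2pull M := by
  refine Submodule.linearMap_qext _ (LinearMap.ext fun ψ => ?_)
  change Submodule.Quotient.mk (ψ ∘ₗ k.L2map) = Submodule.Quotient.mk (ψ ∘ₗ k'.L2map)
  rw [Submodule.Quotient.eq]
  refine ⟨ψ ∘ₗ s1 k k' hC, ?_⟩
  rw [d2Star_apply, LinearMap.comp_assoc, ← L2map_sub k k' hC, LinearMap.comp_sub]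

end Homotopy

section Equiv

lemma T2pull_comp_eq_id (h : AM P P') (g : AM P' P)
    (h1 : ∀ a : A, (g.comp h).τ (MvPolynomial.C a : MvPolynomial ι A) = (MvPolynomial.C a : MvPolynomial ι A))
    (M : Type m) [AddCommGroup M] [Module B M] : h.T2pull M ∘ₗ g.T2pull M = LinearMap.id := by
  have e1 := AM.comp_T2pull g h M
  have e2 := T2pull_eq (g.comp h) (AM.id P) h1 M
  have e3 := AM.id_T2pull (P := P) M
  rw [← e1, e2, e3]

/-- mutually inverse-up-to-homotopy abstract morphisms give an isomorphism on `T²` -/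
def T2equiv (h : AM P P') (g : AM P' P)
    (h1 : ∀ a : A, (g.comp h).τ (MvPolynomial.C a : MvPolynomial ι A) = (MvPolynomial.C a : MvPolynomial ι A))
    (h2 : ∀ a : A', (h.comp g).τ (MvPolynomial.C a : MvPolynomial ι' A') = (MvPolynomial.C a : MvPolynomial ι' A'))
    (M : Type m) [AddCommGroup M] [Module B M] : T2 P M ≃ₗ[B] T2 P' M :=
  LinearEquiv.ofLinear (g.T2pull M) (h.T2pull M)
    (T2pull_comp_eq_id g h h2 M) (T2pull_comp_eq_id h g h1 M)

/-- existence of an abstract morphism over the same base -/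
lemma exists_AM (P : Algebra.Presentation A B ι σ) (P₁ : Algebra.Presentation A B ι' σ') :
    ∃ h : AM P P₁, ∀ a : A, h.τ (MvPolynomial.C a : MvPolynomial ι A) = (MvPolynomial.C a : MvPolynomial ι' A) := by
  have hs : ∀ i : ι, ∃ x : P₁.toExtension.Ring, algebraMap P₁.toExtension.Ring B x = P.val i :=
    fun i => P₁.toExtension.algebraMap_surjective _
  choose v hv using hs
  let τ : P.toExtension.Ring →+* P₁.toExtension.Ring :=
    ((MvPolynomial.aeval v : MvPolynomial ι A →ₐ[A] P₁.toExtension.Ring) : MvPolynomial ι A →+* P₁.toExtension.Ring)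
  have hτ : ∀ r, algebraMap P₁.toExtension.Ring B (τ r) = algebraMap P.toExtension.Ring B r := by
    intro r
    have : ((algebraMap P₁.toExtension.Ring B).comp τ : MvPolynomial ι A →+* B) =
        (algebraMap P.toExtension.Ring B : MvPolynomial ι A →+* B) := by
      refine MvPolynomial.ringHom_ext (fun a => ?_) (fun i => ?_)
      · change algebraMap P₁.toExtension.Ring B (MvPolynomial.aeval v (MvPolynomial.C a)) =
          algebraMap P.toExtension.Ring B (MvPolynomial.C a)
        rw [MvPolynomial.aeval_C, ← IsScalarTower.algebraMap_apply]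
        exact (IsScalarTower.algebraMap_apply A P.toExtension.Ring B a)
      · change algebraMap P₁.toExtension.Ring B (MvPolynomial.aeval v (MvPolynomial.X i)) =
          algebraMap P.toExtension.Ring B (MvPolynomial.X i)
        rw [MvPolynomial.aeval_X, hv]
        exact ((algebraMap_toExtension P (MvPolynomial.X i)).trans (MvPolynomial.aeval_X _ _)).symm
    exact RingHom.congr_fun this r
  have hr : ∀ s : σ, ∃ f : relMod P₁, jmap P₁ f = τ (rel P s) := by
    intro s
    have : τ (rel P s) ∈ LinearMap.range (jmap P₁) := by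
      rw [range_jmap]
      change _ ∈ RingHom.ker (algebraMap P₁.toExtension.Ring B)
      rw [RingHom.mem_ker, hτ, algebraMap_rel]
    exact this
  choose rv hrv using hr
  refine ⟨⟨τ, hτ, rv, hrv⟩, fun a => ?_⟩
  change MvPolynomial.aeval v (MvPolynomial.C a) = _
  rw [MvPolynomial.aeval_C]
  rfl

theorem nonempty_T2equiv (P : Algebra.Presentation A B ι σ) (P₁ : Algebra.Presentation A B ι' σ')
    (M : Type m) [AddCommGroup M] [Module B M] : Nonempty (T2 P M ≃ₗ[B] T2 P₁ M) := by
  obtain ⟨h, hh⟩ := exists_AM P P₁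
  obtain ⟨g, hg⟩ := exists_AM P₁ P
  refine ⟨T2equiv h g (fun a => ?_) (fun a => ?_) M⟩
  · change g.τ (h.τ _) = _
    rw [hh, hg]
  · change h.τ (g.τ _) = _
    rw [hg, hh]

end Equiv

end Groth.Agent.H6.CotTHom
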