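import Groth.Agent.Lib.Helper6.CotTHom2

set_option autoImplicit false

noncomputable section

universe u v w t w' t' m

open TensorProduct CotT

namespace Groth.Agent.H6.CotTHom

variable {A : Type u} {B : Type v} {ι : Type w} {σ : Type t}
variable [CommRing A] [CommRing B] [Algebra A B]
variable (P : Algebra.Presentation A B ι σ)
variable (M : Type m) [AddCommGroup M] [Module B M]

/-- if every relation among the chosen generators of the kernel is trivial then `L₂ = 0` -/
lemma L2_subsingleton_of_relKer_le (h : relKer P ≤ trivRel P) : Subsingleton (L2 P) := by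
  refine ⟨fun x y => ?_⟩
  have key : ∀ z : L2 P, z = 0 := by
    intro z
    induction z using Submodule.Quotient.induction_on with
    | H z =>
      rw [Submodule.Quotient.mk_eq_zero]
      induction z using TensorProduct.induction_on with
      | zero => exact Submodule.zero_mem _
      | add x y hx hy => exact Submodule.add_mem _ hx hy
      | tmul b q => exact ⟨b ⊗ₜ ⟨q, h q.2⟩, rfl⟩
  rw [key x, key y]

lemma T2_subsingleton_of_relKer_le (h : relKer P ≤ trivRel P) : Subsingleton (T2 P M) := by
  haveI := L2_subsingleton_of_relKer_le P h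
  refine ⟨fun x y => ?_⟩
  obtain ⟨ψ, rfl⟩ := Submodule.Quotient.mk_surjective _ x
  obtain ⟨ψ', rfl⟩ := Submodule.Quotient.mk_surjective _ y
  congr 1
  exact LinearMap.ext fun z => by rw [Subsingleton.elim z 0, map_zero, map_zero]

lemma T2_subsingleton_of_isEmpty [IsEmpty σ] : Subsingleton (T2 P M) := by
  refine T2_subsingleton_of_relKer_le P M fun q _ => ?_
  rw [Subsingleton.elim q 0]
  exact Submodule.zero_mem _

lemma T1_subsingleton_of_isEmpty [IsEmpty σ] : Subsingleton (T1 P M) := by
  refine ⟨fun x y => ?_⟩
  obtain ⟨ψ, rfl⟩ := Submodule.Quotient.mk_surjective _ x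
  obtain ⟨ψ', rfl⟩ := Submodule.Quotient.mk_surjective _ y
  congr 1
  refine Subtype.ext ((L1basis P).ext fun s => isEmptyElim s)

end Groth.Agent.H6.CotTHom
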