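import Mathlib

set_option autoImplicit false

namespace Groth.Agent.H6.CotTKos

variable {R : Type*} [CommRing R] {n : ℕ} (r : Fin n → R)

/-- `j : Rⁿ → R`, `e_i ↦ r_i` -/
noncomputable def jj : (Fin n →₀ R) →ₗ[R] R := Finsupp.linearCombination R r

/-- the trivial (Koszul) relations -/
noncomputable def triv : Submodule R (Fin n →₀ R) := Submodule.span R {y | ∃ a b : Fin n →₀ R, y = jj r a • b - jj r b • a}

lemma triv_le_ker : triv r ≤ LinearMap.ker (jj r) := by
  refine Submodule.span_le.mpr ?_
  rintro _ ⟨a, b, rfl⟩
  simp [mul_comm]

/-- relations among a "regular sequence" are generated by the Koszul relations -/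
theorem ker_le_triv
    (hreg : ∀ k : Fin n, ∀ a : R, a * r k ∈ Ideal.span (r '' {i | i < k}) → a ∈ Ideal.span (r '' {i | i < k})) :
    LinearMap.ker (jj r) ≤ triv r := by
  have key : ∀ k : ℕ, k ≤ n → ∀ f : Fin n →₀ R, jj r f = 0 → (∀ i : Fin n, k ≤ i.val → f i = 0) → f ∈ triv r := by
    intro k
    induction k with
    | zero =>
      intro _ f _ hf
      have : f = 0 := Finsupp.ext fun i => hf i (Nat.zero_le _)
      rw [this]; exact Submodule.zero_mem _
    | succ k ih =>
      intro hk f hf0 hf
      let kk : Fin n := ⟨k, hk⟩
      -- f' = f.erase kk supported in {i < kk}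
      have hf' : f.erase kk ∈ Finsupp.supported R R {i : Fin n | i < kk} := by
        rw [Finsupp.mem_supported']
        intro i hi
        by_cases hik : i = kk
        · rw [hik, Finsupp.erase_same]
        · rw [Finsupp.erase_ne hik]
          refine hf i ?_
          have h1 : ¬ i < kk := hi
          have h2 : i.val ≠ k := fun h => hik (Fin.ext h)
          have h3 : ¬ i.val < k := fun h => h1 h
          omega
      have hsplit : f = f.erase kk + Finsupp.single kk (f kk) := (Finsupp.erase_add_single kk f).symm
      have h1 : f kk * r kk = - jj r (f.erase kk) := by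
        have := hf0
        rw [hsplit, map_add] at this
        have h2 : jj r (Finsupp.single kk (f kk)) = f kk * r kk := by
          simp [jj, Finsupp.linearCombination_single]
        rw [h2] at this
        exact eq_neg_of_add_eq_zero_right this
      -- f kk ∈ span
      have h2 : f kk * r kk ∈ Ideal.span (r '' {i : Fin n | i < kk}) := by
        rw [h1]
        refine neg_mem ?_
        exact (Finsupp.mem_span_image_iff_linearCombination R).mpr ⟨f.erase kk, hf', rfl⟩
      have h3 := hreg kk (f kk) h2
      obtain ⟨c, hc, hcj⟩ := (Finsupp.mem_span_image_iff_linearCombination R).mp h3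
      have hcj' : jj r c = f kk := hcj
      have hckk : c kk = 0 := by
        rw [Finsupp.mem_supported'] at hc
        exact hc kk (lt_irrefl kk)
      have hK : jj r c • Finsupp.single kk (1 : R) - jj r (Finsupp.single kk (1 : R)) • c ∈ triv r :=
        Submodule.subset_span ⟨c, Finsupp.single kk 1, rfl⟩
      have hj1 : jj r (Finsupp.single kk (1 : R)) = r kk := by
        simp [jj, Finsupp.linearCombination_single]
      set g : Fin n →₀ R := f - (jj r c • Finsupp.single kk (1 : R) - jj r (Finsupp.single kk (1 : R)) • c) with hg
      have hg0 : jj r g = 0 := by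
        rw [hg, map_sub, hf0, zero_sub, neg_eq_zero]
        exact triv_le_ker r hK
      have hgv : ∀ i : Fin n, k ≤ i.val → g i = 0 := by
        intro i hi
        rw [hg, hcj', hj1]
        simp only [Finsupp.coe_sub, Finsupp.coe_smul, Pi.sub_apply, Pi.smul_apply, smul_eq_mul]
        by_cases hik : i = kk
        · rw [hik, Finsupp.single_eq_same, hckk]
          ring
        · have h4 : k + 1 ≤ i.val := by
            have : i.val ≠ k := fun h => hik (Fin.ext h)
            omega
          have h5 : c i = 0 := by
            rw [Finsupp.mem_supported'] at hc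
            refine hc i ?_
            intro (h6 : i < kk)
            have : i.val < k := h6
            omega
          rw [hf i h4, Finsupp.single_eq_of_ne hik, h5]
          ring
      have hgt := ih (by omega) g hg0 hgv
      have : f = g + (jj r c • Finsupp.single kk (1 : R) - jj r (Finsupp.single kk (1 : R)) • c) := by
        rw [hg]; abel
      rw [this]
      exact Submodule.add_mem _ hgt hK
  intro f hf
  exact key n le_rfl f hf (fun i hi => absurd i.2 (by omega))

end Groth.Agent.H6.CotTKos
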