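import Mathlib
import Groth.Agent.Lib.Helper6.CotTKos

/-! Intrinsic "syzygetic" property of a generating system `j : F → R` of an ideal: the relations
with coefficients in the ideal are trivial (Koszul) relations.  Independence of the generating
system. -/

set_option autoImplicit false

namespace Groth.Agent.H6.CotTSyz

variable {R : Type*} [CommRing R]

section Gen

variable {F : Type*} [AddCommGroup F] [Module R F] (j : F →ₗ[R] R)

/-- the trivial (Koszul) relations -/
def TT : Submodule R F := Submodule.span R {y | ∃ a b : F, y = j a • b - j b • a}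

lemma TT_le_ker : TT j ≤ LinearMap.ker j := by
  refine Submodule.span_le.mpr ?_
  rintro _ ⟨a, b, rfl⟩
  simp [mul_comm]

lemma smul_mem_TT {x : F} (hx : j x = 0) (v : F) : j v • x ∈ TT j := by
  have : j v • x = j v • x - j x • v := by rw [hx, zero_smul, sub_zero]
  rw [this]
  exact Submodule.subset_span ⟨v, x, rfl⟩

/-- the ideal generated by the system -/
def II : Ideal R := LinearMap.range j

/-- relations with coefficients in the ideal are trivial -/
def Syz : Prop := LinearMap.ker j ⊓ (II j • (⊤ : Submodule R F)) ≤ TT j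

end Gen

section Iso

variable {F F' : Type*} [AddCommGroup F] [Module R F] [AddCommGroup F'] [Module R F']
variable (j : F →ₗ[R] R) (j' : F' →ₗ[R] R) (e : F ≃ₗ[R] F') (he : ∀ x, j' (e x) = j x)

include he

lemma map_TT : (TT j).map e.toLinearMap = TT j' := by
  apply le_antisymm
  · rw [Submodule.map_le_iff_le_comap]
    refine Submodule.span_le.mpr ?_
    rintro _ ⟨a, b, rfl⟩
    refine Submodule.subset_span ⟨e a, e b, ?_⟩
    simp [he]
  · refine Submodule.span_le.mpr ?_
    rintro _ ⟨a, b, rfl⟩
    refine ⟨j (e.symm a) • e.symm b - j (e.symm b) • e.symm a,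
      Submodule.subset_span ⟨_, _, rfl⟩, ?_⟩
    have h1 : j (e.symm a) = j' a := by rw [← he, e.apply_symm_apply]
    have h2 : j (e.symm b) = j' b := by rw [← he, e.apply_symm_apply]
    simp [h1, h2]

lemma II_eq : II j = II j' := by
  ext r
  constructor
  · rintro ⟨x, rfl⟩; exact ⟨e x, he x⟩
  · rintro ⟨x, rfl⟩; exact ⟨e.symm x, by rw [← he, e.apply_symm_apply]⟩

lemma syz_of_iso (h : Syz j) : Syz j' := by
  intro x hx
  rw [← map_TT j j' e he]
  refine ⟨e.symm x, h ⟨?_, ?_⟩, e.apply_symm_apply x⟩
  · show j (e.symm x) = 0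
    rw [← he, e.apply_symm_apply]; exact hx.1
  · have h2 := hx.2
    rw [← II_eq j j' e he] at h2
    have : (II j • (⊤ : Submodule R F')).map e.symm.toLinearMap ≤ II j • (⊤ : Submodule R F) := by
      rw [Submodule.map_smul'']
      exact Submodule.smul_mono le_rfl le_top
    exact this ⟨x, h2, rfl⟩

end Iso

section Add

variable {F G : Type*} [AddCommGroup F] [Module R F] [AddCommGroup G] [Module R G]
variable (j : F →ₗ[R] R) (jG : G →ₗ[R] R) (a : G →ₗ[R] F) (ha : ∀ y, j (a y) = jG y)

include ha

lemma II_coprod : II (j.coprod jG) = II j := by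
  ext r
  constructor
  · rintro ⟨⟨x, y⟩, rfl⟩
    refine ⟨x + a y, ?_⟩
    simp [ha]
  · rintro ⟨x, rfl⟩
    exact ⟨(x, 0), by simp⟩

lemma pi_mem_TT {u : F × G} (hu : u ∈ TT (j.coprod jG)) : u.1 + a u.2 ∈ TT j := by
  induction hu using Submodule.span_induction with
  | mem x hx =>
    obtain ⟨v, w, rfl⟩ := hx
    refine Submodule.subset_span ⟨v.1 + a v.2, w.1 + a w.2, ?_⟩
    simp only [LinearMap.coprod_apply, Prod.fst_sub, Prod.smul_fst, Prod.snd_sub, Prod.smul_snd, map_sub,
      map_smul, map_add, ha]
    module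
  | zero => simp
  | add x y _ _ hx hy =>
    have : (x + y).1 + a (x + y).2 = (x.1 + a x.2) + (y.1 + a y.2) := by
      simp only [Prod.fst_add, Prod.snd_add, map_add]; abel
    rw [this]; exact Submodule.add_mem _ hx hy
  | smul r x _ hx =>
    have : (r • x).1 + a (r • x).2 = r • (x.1 + a x.2) := by
      simp only [Prod.smul_fst, Prod.smul_snd, map_smul, smul_add]
    rw [this]; exact Submodule.smul_mem _ _ hx

omit ha in
lemma inl_mem_TT {x : F} (hx : x ∈ TT j) : ((x, 0) : F × G) ∈ TT (j.coprod jG) := by
  induction hx using Submodule.span_induction with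
  | mem x hx =>
    obtain ⟨v, w, rfl⟩ := hx
    refine Submodule.subset_span ⟨(v, 0), (w, 0), ?_⟩
    simp
  | zero => exact Submodule.zero_mem _
  | add x y _ _ hx hy =>
    have : ((x + y, 0) : F × G) = (x, 0) + (y, 0) := by simp
    rw [this]; exact Submodule.add_mem _ hx hy
  | smul r x _ hx =>
    have : ((r • x, 0) : F × G) = r • (x, 0) := by simp
    rw [this]; exact Submodule.smul_mem _ _ hx

lemma kappa_mem_TT {y : G} (hy : y ∈ II j • (⊤ : Submodule R G)) :
    ((- a y, y) : F × G) ∈ TT (j.coprod jG) := by
  refine Submodule.smul_induction_on hy ?_ ?_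
  · intro r hr n _
    obtain ⟨v, rfl⟩ := hr
    have h0 : (j.coprod jG) ((- a n, n) : F × G) = 0 := by simp [ha]
    have h1 := smul_mem_TT (j.coprod jG) h0 ((v, 0) : F × G)
    have h2 : (j.coprod jG) ((v, 0) : F × G) = j v := by simp
    rw [h2] at h1
    have : ((- a (j v • n), j v • n) : F × G) = j v • ((- a n, n) : F × G) := by simp
    rw [this]; exact h1
  · intro x y hx hy
    have : ((- a (x + y), x + y) : F × G) = (- a x, x) + (- a y, y) := by
      simp only [map_add, neg_add, Prod.mk_add_mk]
    rw [this]; exact Submodule.add_mem _ hx hy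

theorem syz_coprod_iff : Syz (j.coprod jG) ↔ Syz j := by
  constructor
  · intro h x hx
    have h1 : ((x, 0) : F × G) ∈ TT (j.coprod jG) := by
      refine h ⟨?_, ?_⟩
      · show (j.coprod jG) ((x, 0) : F × G) = 0
        simpa using hx.1
      · rw [II_coprod j jG a ha]
        have : (II j • (⊤ : Submodule R F)).map (LinearMap.inl R F G) ≤
            II j • (⊤ : Submodule R (F × G)) := by
          rw [Submodule.map_smul'']
          exact Submodule.smul_mono le_rfl le_top
        exact this ⟨x, hx.2, rfl⟩
    have := pi_mem_TT j jG a ha h1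
    simpa using this
  · intro h z hz
    have hz2 : z.2 ∈ II j • (⊤ : Submodule R G) := by
      have h2 := hz.2
      rw [II_coprod j jG a ha] at h2
      have : (II j • (⊤ : Submodule R (F × G))).map (LinearMap.snd R F G) ≤
          II j • (⊤ : Submodule R G) := by
        rw [Submodule.map_smul'']
        exact Submodule.smul_mono le_rfl le_top
      exact this ⟨z, h2, rfl⟩
    have hz1 : z.1 + a z.2 ∈ TT j := by
      refine h ⟨?_, ?_⟩
      · show j (z.1 + a z.2) = 0
        rw [map_add, ha]
        have : (j.coprod jG) z = 0 := hz.1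
        rw [LinearMap.coprod_apply] at this
        exact this
      · have h2 := hz.2
        rw [II_coprod j jG a ha] at h2
        have : (II j • (⊤ : Submodule R (F × G))).map ((LinearMap.fst R F G) + a ∘ₗ (LinearMap.snd R F G)) ≤
            II j • (⊤ : Submodule R F) := by
          rw [Submodule.map_smul'']
          exact Submodule.smul_mono le_rfl le_top
        exact this ⟨z, h2, rfl⟩
    have hdecomp : z = (z.1 + a z.2, 0) + (- a z.2, z.2) := by
      ext <;> simp
    rw [hdecomp]
    exact Submodule.add_mem _ (inl_mem_TT j jG hz1) (kappa_mem_TT j jG a ha hz2)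

end Add

section Fam

variable {σ τ : Type*} (f : σ → R) (g : τ → R)

/-- the generating system of a family -/
noncomputable def jf : (σ →₀ R) →ₗ[R] R := Finsupp.linearCombination R f

lemma II_jf : II (jf f) = Ideal.span (Set.range f) := by
  unfold II jf
  exact Finsupp.range_linearCombination (R := R) (v := f)

theorem syz_of_span_eq (h : Ideal.span (Set.range f) = Ideal.span (Set.range g)) (hg : Syz (jf g)) :
    Syz (jf f) := by
  -- lifts
  have h1 : ∀ t : τ, ∃ x : σ →₀ R, jf f x = g t := by
    intro t
    have : g t ∈ II (jf f) := by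
      rw [II_jf, h]; exact Ideal.subset_span ⟨t, rfl⟩
    exact this
  have h2 : ∀ s : σ, ∃ x : τ →₀ R, jf g x = f s := by
    intro s
    have : f s ∈ II (jf g) := by
      rw [II_jf, ← h]; exact Ideal.subset_span ⟨s, rfl⟩
    exact this
  choose a₁ ha₁ using h1
  choose a₂ ha₂ using h2
  let A₁ : (τ →₀ R) →ₗ[R] (σ →₀ R) := Finsupp.linearCombination R a₁
  let A₂ : (σ →₀ R) →ₗ[R] (τ →₀ R) := Finsupp.linearCombination R a₂
  have hA₁ : ∀ y, jf f (A₁ y) = jf g y := by
    intro y
    induction y using Finsupp.induction_linear with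
    | zero => simp
    | add x y hx hy => rw [map_add, map_add, hx, hy, map_add]
    | single t r => simp [A₁, jf, Finsupp.linearCombination_single] ; rw [← ha₁ t]; rfl
  have hA₂ : ∀ y, jf g (A₂ y) = jf f y := by
    intro y
    induction y using Finsupp.induction_linear with
    | zero => simp
    | add x y hx hy => rw [map_add, map_add, hx, hy, map_add]
    | single t r => simp [A₂, jf, Finsupp.linearCombination_single] ; rw [← ha₂ t]; rfl
  have s1 : Syz ((jf g).coprod (jf f)) := (syz_coprod_iff (jf g) (jf f) A₂ hA₂).mpr hg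
  have s2 : Syz ((jf f).coprod (jf g)) :=
    syz_of_iso _ _ (LinearEquiv.prodComm R (τ →₀ R) (σ →₀ R)) (fun x => by
      simp [add_comm]) s1
  exact (syz_coprod_iff (jf f) (jf g) A₁ hA₁).mp s2

end Fam

section Reg

variable {n : ℕ} (r : Fin n → R)

theorem syz_of_regular
    (hreg : ∀ k : Fin n, ∀ a : R, a * r k ∈ Ideal.span (r '' {i | i < k}) → a ∈ Ideal.span (r '' {i | i < k})) :
    Syz (jf r) := by
  intro x hx
  have := CotTKos.ker_le_triv r hreg hx.1
  exact this

end Reg

end Groth.Agent.H6.CotTSyz
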