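import Mathlib
import Groth.Prelude.Def_CotT
import Groth.Agent.Lib.Helper6.CotTLib
import Groth.Agent.Lib.Helper6.CotTSyz

set_option autoImplicit false

universe u v w t m

open TensorProduct

namespace Groth.Agent.H6.CotTT2

section Tensor

variable {R : Type*} {B : Type*} [CommRing R] [CommRing B] [Algebra R B]
variable (hsurj : Function.Surjective (algebraMap R B))
include hsurj in
theorem exists_one_tmul {N : Type*} [AddCommMonoid N] [Module R N] (x : B ⊗[R] N) : ∃ n : N, x = (1 : B) ⊗ₜ n := by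
  induction x using TensorProduct.induction_on with
  | zero => exact ⟨0, by simp⟩
  | tmul b n =>
    obtain ⟨r, rfl⟩ := hsurj b
    refine ⟨r • n, ?_⟩
    rw [TensorProduct.tmul_smul, TensorProduct.smul_tmul', Algebra.smul_def, mul_one]
  | add x y hx hy =>
    obtain ⟨n, rfl⟩ := hx
    obtain ⟨n', rfl⟩ := hy
    exact ⟨n + n', by rw [TensorProduct.tmul_add]⟩

include hsurj in
theorem mem_smul_top_of_one_tmul_eq_zero {N : Type*} [AddCommGroup N] [Module R N] (x : N) (hx : (1 : B) ⊗ₜ[R] x = 0) :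
    x ∈ RingHom.ker (algebraMap R B) • (⊤ : Submodule R N) := by
  let I := RingHom.ker (algebraMap R B)
  let e : (R ⧸ I) ≃ₐ[R] B := Ideal.quotientKerAlgEquivOfSurjective (f := Algebra.ofId R B) hsurj
  let E : (B ⊗[R] N) ≃ₗ[R] ((R ⧸ I) ⊗[R] N) :=
    TensorProduct.congr e.symm.toLinearEquiv (LinearEquiv.refl R N)
  have h1 : E ((1 : B) ⊗ₜ[R] x) = (1 : R ⧸ I) ⊗ₜ[R] x := by
    simp [E]
  have h2 : (TensorProduct.quotTensorEquivQuotSMul N I) ((1 : R ⧸ I) ⊗ₜ[R] x) = Submodule.Quotient.mk x :=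
    TensorProduct.quotTensorEquivQuotSMul_mk_one_tmul I x
  rw [hx, map_zero] at h1
  rw [← h1, map_zero] at h2
  exact (Submodule.Quotient.mk_eq_zero _).mp h2.symm

end Tensor

section Pres

variable {A : Type u} {B : Type v} {ι : Type w} {σ : Type t}
variable [CommRing A] [CommRing B] [Algebra A B]
variable (P : Algebra.Presentation A B ι σ)

open CotT

theorem d2_injective (h : relKer P ⊓ (P.toExtension.ker • ⊤) ≤ trivRel P) :
    Function.Injective (d2 P) := by
  rw [injective_iff_map_eq_zero]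
  intro z hz
  obtain ⟨w, rfl⟩ := Submodule.Quotient.mk_surjective _ z
  obtain ⟨q, rfl⟩ := exists_one_tmul P.toExtension.algebraMap_surjective w
  rw [d2_mk_tmul] at hz
  have hq := mem_smul_top_of_one_tmul_eq_zero P.toExtension.algebraMap_surjective (q : relMod P) hz
  have hq' : (q : relMod P) ∈ trivRel P := h ⟨q.2, hq⟩
  rw [Submodule.Quotient.mk_eq_zero]
  exact ⟨(1 : B) ⊗ₜ ⟨q, hq'⟩, by simp⟩

theorem syz_iff : CotTSyz.Syz (jmap P) ↔ relKer P ⊓ (P.toExtension.ker • ⊤) ≤ trivRel P := by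
  have h1 : CotTSyz.II (jmap P) = P.toExtension.ker := by
    unfold CotTSyz.II
    rw [range_jmap]
  unfold CotTSyz.Syz
  rw [h1]
  rfl

variable (M : Type m) [AddCommGroup M] [Module B M]

theorem T2_subsingleton_of_injective_of_projective (hinj : Function.Injective (d2 P))
    [Module.Projective B P.toExtension.Cotangent] : Subsingleton (T2 P M) := by
  obtain ⟨s, hs⟩ := Module.projective_lifting_property (toCot P) LinearMap.id
    (CotTLib.toCot_surjective P)
  -- retraction of d2
  let π : L1 P →ₗ[B] L1 P := LinearMap.id - s ∘ₗ toCot P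
  have hπ : ∀ x, π x ∈ LinearMap.range (d2 P) := by
    intro x
    rw [CotTLib.range_d2_eq_ker_toCot, LinearMap.mem_ker]
    simp only [π, LinearMap.sub_apply, LinearMap.id_apply, LinearMap.comp_apply, map_sub]
    have := LinearMap.congr_fun hs (toCot P x)
    simp only [LinearMap.comp_apply, LinearMap.id_apply] at this
    rw [this, sub_self]
  let e := LinearEquiv.ofInjective (d2 P) hinj
  let ρ : L1 P →ₗ[B] L2 P := e.symm.toLinearMap ∘ₗ (LinearMap.codRestrict _ π hπ)
  have hρ : ρ ∘ₗ d2 P = LinearMap.id := by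
    refine LinearMap.ext fun z => ?_
    simp only [ρ, LinearMap.comp_apply, LinearEquiv.coe_coe, LinearMap.id_apply]
    rw [LinearEquiv.symm_apply_eq]
    apply Subtype.ext
    simp only [LinearMap.codRestrict_apply, π, LinearMap.sub_apply, LinearMap.id_apply, LinearMap.comp_apply]
    have : toCot P (d2 P z) = 0 := LinearMap.congr_fun (toCot_comp_d2 P) z
    rw [this, map_zero, sub_zero]
    rfl
  refine ⟨fun a b => ?_⟩
  obtain ⟨ψ, rfl⟩ := Submodule.Quotient.mk_surjective _ a
  obtain ⟨ψ', rfl⟩ := Submodule.Quotient.mk_surjective _ b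
  rw [Submodule.Quotient.eq]
  refine ⟨(ψ - ψ') ∘ₗ ρ, ?_⟩
  rw [d2Star_apply, LinearMap.comp_assoc, hρ, LinearMap.comp_id]

end Pres

end Groth.Agent.H6.CotTT2
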