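import Mathlib
import Groth.Prelude.Def_CotT
import Groth.Agent.Lib.Helper6.CotTT2

set_option autoImplicit false

universe u v w t

open TensorProduct CotT

namespace Groth.Agent.H6.CotTT2

variable {A : Type u} {B : Type v} {ι : Type w} {σ : Type t}
variable [CommRing A] [CommRing B] [Algebra A B]
variable (P : Algebra.Presentation A B ι σ)

/-- every element of `L₂` is the class of `1 ⊗ q` -/
theorem exists_mk_one_tmul (z : L2 P) : ∃ q : relKer P, z = Submodule.Quotient.mk ((1 : B) ⊗ₜ q) := by
  obtain ⟨w, rfl⟩ := Submodule.Quotient.mk_surjective _ z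
  obtain ⟨q, rfl⟩ := exists_one_tmul P.toExtension.algebraMap_surjective w
  exact ⟨q, rfl⟩

lemma smul_relKer_le_trivRel (x : P.toExtension.Ring) (hx : x ∈ P.toExtension.ker) (k : relKer P) :
    x • (k : relMod P) ∈ trivRel P := by
  have hx' : x ∈ LinearMap.range (jmap P) := by rw [range_jmap]; exact hx
  obtain ⟨f, rfl⟩ := hx'
  have hk : jmap P (k : relMod P) = 0 := k.2
  have : jmap P f • (k : relMod P) = jmap P f • (k : relMod P) - jmap P (k : relMod P) • f := by
    rw [hk, zero_smul, sub_zero]
  rw [this]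
  exact Submodule.subset_span ⟨f, k, rfl⟩

theorem mk_one_tmul_eq_zero_iff (q : relKer P) :
    (Submodule.Quotient.mk ((1 : B) ⊗ₜ q) : L2 P) = 0 ↔ (q : relMod P) ∈ trivRel P := by
  constructor
  · intro h
    rw [Submodule.Quotient.mk_eq_zero] at h
    obtain ⟨w, hw⟩ := h
    obtain ⟨t, rfl⟩ := exists_one_tmul P.toExtension.algebraMap_surjective w
    rw [LinearMap.baseChange_tmul] at hw
    have h1 : (1 : B) ⊗ₜ[P.toExtension.Ring] (q - (trivRelKer P).subtype t) = 0 := by
      have := map_sub (TensorProduct.mk P.toExtension.Ring B (relKer P) 1) q ((trivRelKer P).subtype t)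
      rw [TensorProduct.mk_apply, TensorProduct.mk_apply, TensorProduct.mk_apply] at this
      rw [this, hw, sub_self]
    have h2 := mem_smul_top_of_one_tmul_eq_zero (N := relKer P) P.toExtension.algebraMap_surjective
      (q - (trivRelKer P).subtype t) h1
    have h3 : ∀ y ∈ (RingHom.ker (algebraMap P.toExtension.Ring B) • (⊤ : Submodule P.toExtension.Ring (relKer P))),
        ((y : relKer P) : relMod P) ∈ trivRel P := by
      intro y hy
      refine Submodule.smul_induction_on hy ?_ ?_
      · intro r hr n _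
        exact smul_relKer_le_trivRel P r hr n
      · intro x y hx hy
        exact Submodule.add_mem _ hx hy
    have h4 := h3 _ h2
    have h5 : ((t : relKer P) : relMod P) ∈ trivRel P := t.2
    have : (q : relMod P) = ((q - (trivRelKer P).subtype t : relKer P) : relMod P) + ((t : relKer P) : relMod P) := by
      simp
    rw [this]
    exact Submodule.add_mem _ h4 h5
  · intro h
    rw [Submodule.Quotient.mk_eq_zero]
    exact ⟨(1 : B) ⊗ₜ ⟨q, h⟩, by simp⟩

theorem mk_one_tmul_eq_iff (q q' : relKer P) :
    (Submodule.Quotient.mk ((1 : B) ⊗ₜ q) : L2 P) = Submodule.Quotient.mk ((1 : B) ⊗ₜ q') ↔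
      (q : relMod P) - q' ∈ trivRel P := by
  have := map_sub (TensorProduct.mk P.toExtension.Ring B (relKer P) 1) q q'
  rw [TensorProduct.mk_apply, TensorProduct.mk_apply, TensorProduct.mk_apply] at this
  rw [← sub_eq_zero, ← Submodule.Quotient.mk_sub, ← this, mk_one_tmul_eq_zero_iff]
  rfl

end Groth.Agent.H6.CotTT2
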