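import Mathlib
import Groth.Prelude.Def_CotT

set_option autoImplicit false
universe u w m
open scoped TensorProduct

namespace Groth.Agent.H6.CotTLES

open CotT

variable {A B : Type u} [CommRing A] [CommRing B] [Algebra A B] {ι σ : Type w}
  (P : Algebra.Presentation A B ι σ)
  {M' M M'' : Type m} [AddCommGroup M'] [Module B M'] [AddCommGroup M] [Module B M]
  [AddCommGroup M''] [Module B M'']
  (f : M' →ₗ[B] M) (g : M →ₗ[B] M'')

instance : Module.Free B (L0 P) := Module.Free.of_basis P.cotangentSpaceBasis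
instance : Module.Free B (L1 P) := Module.Free.of_basis (L1basis P)

/-- factor a map killed by `g` through `f`. -/
lemma exists_factor {L : Type*} [AddCommGroup L] [Module B L] (hf : Function.Injective f)
    (hfg : Function.Exact f g) (c : L →ₗ[B] M) (hc : g ∘ₗ c = 0) :
    ∃ c' : L →ₗ[B] M', f ∘ₗ c' = c := by
  have h : ∀ x, c x ∈ LinearMap.range f := fun x => (hfg (c x)).mp (LinearMap.congr_fun hc x)
  refine ⟨(LinearEquiv.ofInjective f hf).symm.toLinearMap ∘ₗ LinearMap.codRestrict _ c h, ?_⟩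
  ext x
  simp only [LinearMap.comp_apply, LinearEquiv.coe_coe]
  exact congrArg Subtype.val ((LinearEquiv.ofInjective f hf).apply_symm_apply ⟨c x, h x⟩)

lemma exists_lift {L : Type*} [AddCommGroup L] [Module B L] [Module.Projective B L]
    (hg : Function.Surjective g) (c : L →ₗ[B] M'') : ∃ c' : L →ₗ[B] M, g ∘ₗ c' = c :=
  Module.projective_lifting_property g c hg

lemma comp_injective {L : Type*} [AddCommGroup L] [Module B L] (hf : Function.Injective f)
    {a b : L →ₗ[B] M'} (h : f ∘ₗ a = f ∘ₗ b) : a = b := by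
  ext x; exact hf (LinearMap.congr_fun h x)

end Groth.Agent.H6.CotTLES

namespace Groth.Agent.H6.CotTLES
open CotT Function

variable {A B : Type u} [CommRing A] [CommRing B] [Algebra A B] {ι σ : Type w}
  (P : Algebra.Presentation A B ι σ)

section one
variable (N : Type m) [AddCommGroup N] [Module B N]

noncomputable def i0 : (L0 P →ₗ[B] N) →ₗ[B] cocycles1 P N :=
  LinearMap.codRestrict (cocycles1 P N) (d1Star P N) (fun ψ => by
    rw [LinearMap.mem_ker]; exact LinearMap.congr_fun (d2Star_comp_d1Star P N) ψ)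

@[simp] lemma i0_val (ψ : L0 P →ₗ[B] N) : ((i0 P N ψ : cocycles1 P N) : L1 P →ₗ[B] N) = ψ ∘ₗ d1 P := rfl

lemma exact_ι0 : Exact (LinearMap.ker (d1Star P N)).subtype (i0 P N) := by
  intro ψ
  constructor
  · intro h
    refine ⟨⟨ψ, ?_⟩, rfl⟩
    rw [LinearMap.mem_ker]
    exact congrArg Subtype.val h
  · rintro ⟨x, rfl⟩
    apply Subtype.ext
    exact x.2

lemma exact_π0 : Exact (i0 P N) (coboundaries1 P N).mkQ := by
  intro c
  rw [Submodule.mkQ_apply, Submodule.Quotient.mk_eq_zero]
  constructor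
  · rintro ⟨ψ, hψ⟩
    exact ⟨ψ, Subtype.ext hψ⟩
  · rintro ⟨ψ, rfl⟩
    exact ⟨ψ, rfl⟩

abbrev Q1 : Type _ := (L1 P →ₗ[B] N) ⧸ LinearMap.range (d1Star P N)

noncomputable def i1 : Q1 P N →ₗ[B] (L2 P →ₗ[B] N) :=
  Submodule.liftQ _ (d2Star P N) (by
    rw [LinearMap.range_le_ker_iff]; exact d2Star_comp_d1Star P N)

@[simp] lemma i1_mk (c : L1 P →ₗ[B] N) :
    i1 P N (Submodule.Quotient.mk c) = c ∘ₗ d2 P := rfl

noncomputable def ι1 : T1 P N →ₗ[B] Q1 P N :=
  Submodule.mapQ _ _ (cocycles1 P N).subtype le_rfl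

@[simp] lemma ι1_mk (c : cocycles1 P N) :
    ι1 P N (Submodule.Quotient.mk c) = Submodule.Quotient.mk (c : L1 P →ₗ[B] N) := rfl

lemma ι1_injective : Injective (ι1 P N) := by
  rw [injective_iff_map_eq_zero]
  intro x
  induction x using Submodule.Quotient.induction_on with
  | _ c =>
    intro h
    rw [ι1_mk, Submodule.Quotient.mk_eq_zero] at h
    rw [Submodule.Quotient.mk_eq_zero]
    exact h

lemma exact_ι1 : Exact (ι1 P N) (i1 P N) := by
  intro q
  induction q using Submodule.Quotient.induction_on with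
  | _ c =>
    constructor
    · intro h
      refine ⟨Submodule.Quotient.mk ⟨c, ?_⟩, rfl⟩
      rw [LinearMap.mem_ker]; exact h
    · rintro ⟨x, hx⟩
      induction x using Submodule.Quotient.induction_on with
      | _ c' =>
        rw [← hx, ι1_mk, i1_mk]
        exact c'.2

lemma exact_π1 : Exact (i1 P N) (LinearMap.range (d2Star P N)).mkQ := by
  intro e
  rw [Submodule.mkQ_apply, Submodule.Quotient.mk_eq_zero]
  constructor
  · rintro ⟨c, rfl⟩
    exact ⟨Submodule.Quotient.mk c, rfl⟩
  · rintro ⟨q, rfl⟩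
    induction q using Submodule.Quotient.induction_on with
    | _ c => exact ⟨c, rfl⟩

end one

end Groth.Agent.H6.CotTLES

namespace Groth.Agent.H6.CotTLES
open CotT Function

variable {A B : Type u} [CommRing A] [CommRing B] [Algebra A B] {ι σ : Type w}
  (P : Algebra.Presentation A B ι σ)

section two
variable {N N' : Type m} [AddCommGroup N] [Module B N] [AddCommGroup N'] [Module B N']
  (h : N →ₗ[B] N')

/-- postcomposition -/
noncomputable abbrev post (L : Type*) [AddCommGroup L] [Module B L] :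
    (L →ₗ[B] N) →ₗ[B] (L →ₗ[B] N') := LinearMap.llcomp B L N N' h

noncomputable def Q1map : Q1 P N →ₗ[B] Q1 P N' :=
  Submodule.mapQ _ _ (post h (L1 P)) (by
    rintro _ ⟨ψ, rfl⟩
    exact ⟨h ∘ₗ ψ, by rw [d1Star_apply, LinearMap.comp_assoc]; rfl⟩)

@[simp] lemma Q1map_mk (c : L1 P →ₗ[B] N) :
    Q1map P h (Submodule.Quotient.mk c) = Submodule.Quotient.mk (h ∘ₗ c) := rfl

@[simp] lemma T0map_val (x : T0 P N) : ((T0map P h x : T0 P N') : L0 P →ₗ[B] N') = h ∘ₗ (x : L0 P →ₗ[B] N) := rfl

@[simp] lemma cocycles1Map_val (c : cocycles1 P N) :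
    ((cocycles1Map P h c : cocycles1 P N') : L1 P →ₗ[B] N') = h ∘ₗ (c : L1 P →ₗ[B] N) := rfl

@[simp] lemma T1map_mk (c : cocycles1 P N) :
    T1map P h (Submodule.Quotient.mk c) = Submodule.Quotient.mk (cocycles1Map P h c) := rfl

@[simp] lemma T2map_mk (e : L2 P →ₗ[B] N) :
    T2map P h (Submodule.Quotient.mk e) = Submodule.Quotient.mk (h ∘ₗ e) := rfl

end two

section three
variable {M' M M'' : Type m} [AddCommGroup M'] [Module B M'] [AddCommGroup M] [Module B M]
  [AddCommGroup M''] [Module B M'']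
  (f : M' →ₗ[B] M) (g : M →ₗ[B] M'') (hf : Injective f) (hg : Surjective g) (hfg : Exact f g)

include hfg in
lemma gf_zero : g.comp f = 0 := by
  ext x; exact hfg.apply_apply_eq_zero x

include hf hfg in
/-- left exactness of `Hom(L, -)`. -/
lemma exact_llcomp (L : Type*) [AddCommGroup L] [Module B L] :
    Exact (post f L) (post g L) := by
  intro c
  constructor
  · intro hc
    obtain ⟨c', hc'⟩ := exists_factor f g hf hfg c hc
    exact ⟨c', hc'⟩
  · rintro ⟨c', rfl⟩
    show g.comp (f.comp c') = 0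
    rw [← LinearMap.comp_assoc, gf_zero f g hfg, LinearMap.zero_comp]

include hf in
lemma injective_llcomp (L : Type*) [AddCommGroup L] [Module B L] :
    Injective (post f L) := fun _ _ h => comp_injective f hf h

include hg in
lemma surjective_llcomp (L : Type*) [AddCommGroup L] [Module B L] [Module.Projective B L] :
    Surjective (post g L) := fun c => exists_lift g hg c

include hf hfg in
lemma exact_cocycles1Map : Exact (cocycles1Map P f) (cocycles1Map P g) := by
  intro c
  constructor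
  · intro hc
    have hc0 : g ∘ₗ (c : L1 P →ₗ[B] M) = 0 := congrArg Subtype.val hc
    obtain ⟨c', hc'⟩ := exists_factor f g hf hfg _ hc0
    refine ⟨⟨c', ?_⟩, Subtype.ext hc'⟩
    rw [LinearMap.mem_ker, d2Star_apply]
    apply comp_injective f hf
    rw [← LinearMap.comp_assoc, hc', LinearMap.comp_zero]
    exact c.2
  · rintro ⟨c', rfl⟩
    apply Subtype.ext
    show g.comp (f.comp (c' : L1 P →ₗ[B] M')) = 0
    rw [← LinearMap.comp_assoc, gf_zero f g hfg, LinearMap.zero_comp]

include hf in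
lemma injective_cocycles1Map : Injective (cocycles1Map P f) := by
  intro a b h
  apply Subtype.ext
  exact comp_injective f hf (congrArg Subtype.val h)

include hf hg hfg in
lemma exact_Q1map : Exact (Q1map P f) (Q1map P g) := by
  intro q
  induction q using Submodule.Quotient.induction_on with
  | _ c =>
    constructor
    · intro hc
      rw [Q1map_mk, Submodule.Quotient.mk_eq_zero] at hc
      obtain ⟨ψ'', hψ''⟩ := hc
      obtain ⟨ψ, hψ⟩ := exists_lift g hg ψ''
      have h0 : g ∘ₗ (c - ψ ∘ₗ d1 P) = 0 := by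
        rw [LinearMap.comp_sub, ← LinearMap.comp_assoc, hψ, sub_eq_zero]
        exact hψ''.symm
      obtain ⟨c', hc'⟩ := exists_factor f g hf hfg _ h0
      refine ⟨Submodule.Quotient.mk c', ?_⟩
      rw [Q1map_mk, hc', Submodule.Quotient.eq]
      refine ⟨-ψ, ?_⟩
      rw [d1Star_apply]
      refine LinearMap.ext fun x => ?_
      simp only [LinearMap.comp_apply, LinearMap.neg_apply, LinearMap.sub_apply]
      abel
    · rintro ⟨q', hq'⟩
      rw [← hq']
      induction q' using Submodule.Quotient.induction_on with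
      | _ c' =>
        rw [Q1map_mk, Q1map_mk, ← LinearMap.comp_assoc, gf_zero f g hfg, LinearMap.zero_comp]
        rfl

include hg in
lemma surjective_Q1map : Surjective (Q1map P g) := by
  intro q
  induction q using Submodule.Quotient.induction_on with
  | _ c =>
    obtain ⟨c', hc'⟩ := exists_lift g hg c
    exact ⟨Submodule.Quotient.mk c', by rw [Q1map_mk, hc']⟩

end three

end Groth.Agent.H6.CotTLES

namespace Groth.Agent.H6.CotTLES
open CotT Function

variable {A B : Type u} [CommRing A] [CommRing B] [Algebra A B] {ι σ : Type w}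
  (P : Algebra.Presentation A B ι σ)
variable {M' M M'' : Type m} [AddCommGroup M'] [Module B M'] [AddCommGroup M] [Module B M]
  [AddCommGroup M''] [Module B M'']
  (f : M' →ₗ[B] M) (g : M →ₗ[B] M'') (hf : Injective f) (hg : Surjective g) (hfg : Exact f g)

include hf in
lemma T0map_injective : Injective (T0map P f) := by
  intro a b h
  apply Subtype.ext
  exact comp_injective f hf (congrArg Subtype.val h)

include hf hfg in
lemma exact_T0map : Exact (T0map P f) (T0map P g) := by
  intro y
  constructor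
  · intro hy
    have hy0 : g.comp (y : L0 P →ₗ[B] M) = 0 := congrArg Subtype.val hy
    obtain ⟨x, hx⟩ := exists_factor f g hf hfg _ hy0
    refine ⟨⟨x, ?_⟩, Subtype.ext hx⟩
    rw [LinearMap.mem_ker, d1Star_apply]
    apply comp_injective f hf
    rw [← LinearMap.comp_assoc, hx, LinearMap.comp_zero]
    exact y.2
  · rintro ⟨x, rfl⟩
    apply Subtype.ext
    show g.comp (f.comp (x : L0 P →ₗ[B] M')) = 0
    rw [← LinearMap.comp_assoc, gf_zero f g hfg, LinearMap.zero_comp]

include hf hg hfg in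
lemma exact_T1map : Exact (T1map P f) (T1map P g) := by
  intro y
  induction y using Submodule.Quotient.induction_on with
  | _ c =>
    constructor
    · intro hc
      rw [T1map_mk, Submodule.Quotient.mk_eq_zero] at hc
      obtain ⟨ψ'', hψ''⟩ := hc
      have hψ''' : ψ'' ∘ₗ d1 P = g.comp (c : L1 P →ₗ[B] M) := hψ''
      obtain ⟨ψ, hψ⟩ := exists_lift g hg ψ''
      have h0 : g.comp ((c : L1 P →ₗ[B] M) - ψ ∘ₗ d1 P) = 0 := by
        rw [LinearMap.comp_sub, ← LinearMap.comp_assoc, hψ, sub_eq_zero]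
        exact hψ'''.symm
      obtain ⟨c', hc'⟩ := exists_factor f g hf hfg _ h0
      have hc'mem : c' ∈ cocycles1 P M' := by
        rw [LinearMap.mem_ker, d2Star_apply]
        apply comp_injective f hf
        rw [← LinearMap.comp_assoc, hc', LinearMap.comp_zero, LinearMap.sub_comp, LinearMap.comp_assoc,
          d1_comp_d2, LinearMap.comp_zero, sub_zero]
        exact c.2
      refine ⟨Submodule.Quotient.mk ⟨c', hc'mem⟩, ?_⟩
      rw [T1map_mk, Submodule.Quotient.eq]
      refine ⟨-ψ, ?_⟩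
      show (-ψ) ∘ₗ d1 P = f.comp c' - (c : L1 P →ₗ[B] M)
      rw [hc']
      refine LinearMap.ext fun x => ?_
      simp only [LinearMap.comp_apply, LinearMap.neg_apply, LinearMap.sub_apply]
      abel
    · rintro ⟨x, hx⟩
      rw [← hx]
      induction x using Submodule.Quotient.induction_on with
      | _ c' =>
        rw [T1map_mk, T1map_mk, Submodule.Quotient.mk_eq_zero]
        refine ⟨0, ?_⟩
        show (0 : L0 P →ₗ[B] M'') ∘ₗ d1 P = g.comp (f.comp (c' : L1 P →ₗ[B] M'))
        rw [← LinearMap.comp_assoc, gf_zero f g hfg, LinearMap.zero_comp, LinearMap.zero_comp]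

set_option maxHeartbeats 2000000 in
include hf hg hfg in
lemma exact_T2map : Exact (T2map P f) (T2map P g) := by
  intro y
  induction y using Submodule.Quotient.induction_on with
  | _ e =>
    constructor
    · intro he
      rw [T2map_mk, Submodule.Quotient.mk_eq_zero] at he
      obtain ⟨ψ'', hψ''⟩ := he
      have hψ''' : ψ'' ∘ₗ d2 P = g.comp e := hψ''
      obtain ⟨ψ, hψ⟩ := exists_lift g hg ψ''
      have h0 : g.comp (e - ψ ∘ₗ d2 P) = 0 := by
        rw [LinearMap.comp_sub, ← LinearMap.comp_assoc, hψ, sub_eq_zero]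
        exact hψ'''.symm
      obtain ⟨e', he'⟩ := exists_factor f g hf hfg _ h0
      refine ⟨Submodule.Quotient.mk e', ?_⟩
      rw [T2map_mk, Submodule.Quotient.eq]
      refine ⟨-ψ, ?_⟩
      show (-ψ) ∘ₗ d2 P = f.comp e' - e
      rw [he']
      refine LinearMap.ext fun x => ?_
      simp only [LinearMap.comp_apply, LinearMap.neg_apply, LinearMap.sub_apply]
      abel
    · rintro ⟨x, hx⟩
      obtain ⟨e', rfl⟩ := Submodule.Quotient.mk_surjective _ x
      have h1 : T2map P g (Submodule.Quotient.mk e) = T2map P g (T2map P f (Submodule.Quotient.mk e')) :=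
        congrArg _ hx.symm
      rw [h1, T2map_mk, T2map_mk, ← LinearMap.comp_assoc, gf_zero f g hfg, LinearMap.zero_comp]
      rfl

end Groth.Agent.H6.CotTLES

namespace Groth.Agent.H6.CotTLES
open CotT Function

variable {A B : Type u} [CommRing A] [CommRing B] [Algebra A B] {ι σ : Type w}
  (P : Algebra.Presentation A B ι σ)
variable {M' M M'' : Type m} [AddCommGroup M'] [Module B M'] [AddCommGroup M] [Module B M]
  [AddCommGroup M''] [Module B M'']
  (f : M' →ₗ[B] M) (g : M →ₗ[B] M'') (hf : Injective f) (hg : Surjective g) (hfg : Exact f g)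

include hf hg hfg in
lemma exists_δ₀ : ∃ δ₀ : T0 P M'' →ₗ[B] T1 P M',
    Exact (T0map P g) δ₀ ∧ Exact δ₀ (T1map P f) := by
  have h₁ : (cocycles1Map P f).comp (i0 P M') = (i0 P M).comp (post f (L0 P)) := by
    refine LinearMap.ext fun ψ => Subtype.ext ?_
    show f.comp (ψ ∘ₗ d1 P) = (f.comp ψ) ∘ₗ d1 P
    rw [LinearMap.comp_assoc]
  have h₂ : (cocycles1Map P g).comp (i0 P M) = (i0 P M'').comp (post g (L0 P)) := by
    refine LinearMap.ext fun ψ => Subtype.ext ?_
    show g.comp (ψ ∘ₗ d1 P) = (g.comp ψ) ∘ₗ d1 P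
    rw [LinearMap.comp_assoc]
  have hrow1 := exact_llcomp f g hf hfg (L0 P)
  have hrow2 := exact_cocycles1Map P f g hf hfg
  have hsurj := surjective_llcomp g hg (L0 P)
  have hinj := injective_cocycles1Map P f hf
  refine ⟨SnakeLemma.δ' (i0 P M') (i0 P M) (i0 P M'') (post f (L0 P)) (post g (L0 P)) hrow1
    (cocycles1Map P f) (cocycles1Map P g) hrow2 h₁ h₂
    (LinearMap.ker (d1Star P M'')).subtype (exact_ι0 P M'')
    (coboundaries1 P M').mkQ (exact_π0 P M') hsurj hinj, ?_, ?_⟩
  · refine SnakeLemma.exact_δ'_right (i0 P M') (i0 P M) (i0 P M'') (post f (L0 P)) (post g (L0 P)) hrow1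
      (cocycles1Map P f) (cocycles1Map P g) hrow2 h₁ h₂
      (LinearMap.ker (d1Star P M)).subtype (exact_ι0 P M)
      (LinearMap.ker (d1Star P M'')).subtype (exact_ι0 P M'')
      (coboundaries1 P M').mkQ (exact_π0 P M') hsurj hinj (T0map P g) ?_ (Subtype.val_injective)
    rfl
  · refine SnakeLemma.exact_δ'_left (i0 P M') (i0 P M) (i0 P M'') (post f (L0 P)) (post g (L0 P)) hrow1
      (cocycles1Map P f) (cocycles1Map P g) hrow2 h₁ h₂
      (LinearMap.ker (d1Star P M'')).subtype (exact_ι0 P M'')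
      (coboundaries1 P M').mkQ (exact_π0 P M') (coboundaries1 P M).mkQ (exact_π0 P M) hsurj hinj
      (T1map P f) ?_ (Submodule.mkQ_surjective _)
    rfl

end Groth.Agent.H6.CotTLES

namespace Groth.Agent.H6.CotTLES
open CotT Function

variable {A B : Type u} [CommRing A] [CommRing B] [Algebra A B] {ι σ : Type w}
  (P : Algebra.Presentation A B ι σ)
variable {M' M M'' : Type m} [AddCommGroup M'] [Module B M'] [AddCommGroup M] [Module B M]
  [AddCommGroup M''] [Module B M'']
  (f : M' →ₗ[B] M) (g : M →ₗ[B] M'') (hf : Injective f) (hg : Surjective g) (hfg : Exact f g)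

set_option maxHeartbeats 2000000 in
include hf hg hfg in
lemma exists_δ₁ : ∃ δ₁ : T1 P M'' →ₗ[B] T2 P M',
    Exact (T1map P g) δ₁ ∧ Exact δ₁ (T2map P f) := by
  have h₁ : (post f (L2 P)).comp (i1 P M') = (i1 P M).comp (Q1map P f) := by
    refine Submodule.linearMap_qext _ (LinearMap.ext fun c => ?_)
    show f.comp (c ∘ₗ d2 P) = (f.comp c) ∘ₗ d2 P
    rw [LinearMap.comp_assoc]
  have h₂ : (post g (L2 P)).comp (i1 P M) = (i1 P M'').comp (Q1map P g) := by
    refine Submodule.linearMap_qext _ (LinearMap.ext fun c => ?_)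
    show g.comp (c ∘ₗ d2 P) = (g.comp c) ∘ₗ d2 P
    rw [LinearMap.comp_assoc]
  have hrow1 := exact_Q1map P f g hf hg hfg
  have hrow2 := exact_llcomp f g hf hfg (L2 P)
  have hsurj := surjective_Q1map P g hg
  have hinj := injective_llcomp f hf (L2 P)
  refine ⟨SnakeLemma.δ' (i1 P M') (i1 P M) (i1 P M'') (Q1map P f) (Q1map P g) hrow1
    (post f (L2 P)) (post g (L2 P)) hrow2 h₁ h₂
    (ι1 P M'') (exact_ι1 P M'')
    (LinearMap.range (d2Star P M')).mkQ (exact_π1 P M') hsurj hinj, ?_, ?_⟩
  · refine SnakeLemma.exact_δ'_right (i1 P M') (i1 P M) (i1 P M'') (Q1map P f) (Q1map P g) hrow1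
      (post f (L2 P)) (post g (L2 P)) hrow2 h₁ h₂
      (ι1 P M) (exact_ι1 P M)
      (ι1 P M'') (exact_ι1 P M'')
      (LinearMap.range (d2Star P M')).mkQ (exact_π1 P M') hsurj hinj (T1map P g) ?_ (ι1_injective P M'')
    refine Submodule.linearMap_qext _ (LinearMap.ext fun c => ?_)
    rfl
  · refine SnakeLemma.exact_δ'_left (i1 P M') (i1 P M) (i1 P M'') (Q1map P f) (Q1map P g) hrow1
      (post f (L2 P)) (post g (L2 P)) hrow2 h₁ h₂
      (ι1 P M'') (exact_ι1 P M'')
      (LinearMap.range (d2Star P M')).mkQ (exact_π1 P M') (LinearMap.range (d2Star P M)).mkQ (exact_π1 P M)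
      hsurj hinj (T2map P f) ?_ (Submodule.mkQ_surjective _)
    rfl

include hf hg hfg in
theorem main : Function.Injective (CotT.T0map P f) ∧ Function.Exact (CotT.T0map P f) (CotT.T0map P g) ∧
      Function.Exact (CotT.T1map P f) (CotT.T1map P g) ∧ Function.Exact (CotT.T2map P f) (CotT.T2map P g) ∧
      ∃ (δ₀ : CotT.T0 P M'' →ₗ[B] CotT.T1 P M') (δ₁ : CotT.T1 P M'' →ₗ[B] CotT.T2 P M'),
        Function.Exact (CotT.T0map P g) δ₀ ∧ Function.Exact δ₀ (CotT.T1map P f) ∧
        Function.Exact (CotT.T1map P g) δ₁ ∧ Function.Exact δ₁ (CotT.T2map P f) := by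
  obtain ⟨δ₀, h0a, h0b⟩ := exists_δ₀ P f g hf hg hfg
  obtain ⟨δ₁, h1a, h1b⟩ := exists_δ₁ P f g hf hg hfg
  exact ⟨T0map_injective P f hf, exact_T0map P f g hf hfg, exact_T1map P f g hf hg hfg,
    exact_T2map P f g hf hg hfg, δ₀, δ₁, h0a, h0b, h1a, h1b⟩

end Groth.Agent.H6.CotTLES
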