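import Mathlib
import Groth.Agent.Lib.Helper6.CotTSyz

/-! Local-to-global principle for the syzygetic property. -/

set_option autoImplicit false

namespace Groth.Agent.H6.CotTSyz

section Loc

variable {R : Type*} [CommRing R] (S : Submonoid R) (R' : Type*) [CommRing R'] [Algebra R R']
  [IsLocalization S R']
variable {σ : Type*} (f : σ → R)

/-- the localization map on free modules -/
noncomputable def phi : (σ →₀ R) →ₗ[R] (σ →₀ R') :=
  Finsupp.mapRange.linearMap (Algebra.linearMap R R')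

instance : IsLocalizedModule S (phi R' (σ := σ)) := by
  haveI : IsLocalizedModule S (Algebra.linearMap R R') :=
    (isLocalizedModule_iff_isLocalization).mpr inferInstance
  unfold phi
  infer_instance

lemma phi_smul (r : R) (x : σ →₀ R) : phi R' (r • x) = algebraMap R R' r • phi R' x := by
  rw [map_smul, algebraMap_smul]

lemma jf_phi (x : σ →₀ R) :
    jf (fun s => algebraMap R R' (f s)) (phi R' x) = algebraMap R R' (jf f x) := by
  induction x using Finsupp.induction_linear with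
  | zero => simp
  | add x y hx hy => rw [map_add, map_add, hx, hy, map_add, map_add]
  | single s r =>
    simp [phi, jf, Finsupp.linearCombination_single]

lemma phi_gen (a b : σ →₀ R) :
    phi R' (jf f a • b - jf f b • a) =
      jf (fun s => algebraMap R R' (f s)) (phi R' a) • phi R' b -
        jf (fun s => algebraMap R R' (f s)) (phi R' b) • phi R' a := by
  rw [map_sub, phi_smul, phi_smul, jf_phi, jf_phi]

lemma exists_of_mem_TT {y : σ →₀ R'} (hy : y ∈ TT (jf (fun s => algebraMap R R' (f s)))) :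
    ∃ u ∈ S, ∃ t ∈ TT (jf f), (u : R) • y = phi R' t := by
  induction hy using Submodule.span_induction with
  | mem x hx =>
    obtain ⟨a', b', rfl⟩ := hx
    obtain ⟨⟨a, sa⟩, ha⟩ := IsLocalizedModule.surj S (phi R' (σ := σ)) a'
    obtain ⟨⟨b, sb⟩, hb⟩ := IsLocalizedModule.surj S (phi R' (σ := σ)) b'
    refine ⟨sa * sb, (sa * sb).2, jf f a • b - jf f b • a, Submodule.subset_span ⟨a, b, rfl⟩, ?_⟩
    rw [phi_gen]
    have ha' : algebraMap R R' (sa : R) • a' = phi R' a := by
      rw [algebraMap_smul]; exact ha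
    have hb' : algebraMap R R' (sb : R) • b' = phi R' b := by
      rw [algebraMap_smul]; exact hb
    rw [← ha', ← hb', ← algebraMap_smul R' ((sa : R) * (sb : R)), map_mul]
    simp only [map_smul, smul_eq_mul]
    module
  | zero => exact ⟨1, S.one_mem, 0, Submodule.zero_mem _, by simp⟩
  | add x y _ _ hx hy =>
    obtain ⟨u₁, hu₁, t₁, ht₁, h₁⟩ := hx
    obtain ⟨u₂, hu₂, t₂, ht₂, h₂⟩ := hy
    refine ⟨u₁ * u₂, S.mul_mem hu₁ hu₂, u₂ • t₁ + u₁ • t₂,
      Submodule.add_mem _ (Submodule.smul_mem _ _ ht₁) (Submodule.smul_mem _ _ ht₂), ?_⟩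
    rw [map_add, map_smul, map_smul, ← h₁, ← h₂, smul_add, smul_smul, smul_smul, mul_comm u₂ u₁]
  | smul r x _ hx =>
    obtain ⟨u, hu, t, ht, h⟩ := hx
    obtain ⟨⟨r₀, s⟩, hr⟩ := IsLocalization.surj S r
    refine ⟨s * u, S.mul_mem s.2 hu, r₀ • t, Submodule.smul_mem _ _ ht, ?_⟩
    rw [map_smul, ← h]
    have hr' : r * algebraMap R R' (s : R) = algebraMap R R' r₀ := hr
    rw [← algebraMap_smul R' ((s : R) * u), ← algebraMap_smul R' r₀, ← algebraMap_smul R' u, map_mul,
      ← hr']
    module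

lemma phi_mem_smul_top {q : σ →₀ R} (hq : q ∈ II (jf f) • (⊤ : Submodule R (σ →₀ R))) :
    phi R' q ∈ II (jf (fun s => algebraMap R R' (f s))) • (⊤ : Submodule R' (σ →₀ R')) := by
  refine Submodule.smul_induction_on hq ?_ ?_
  · intro r hr n _
    obtain ⟨v, rfl⟩ := hr
    rw [phi_smul, ← jf_phi]
    exact Submodule.smul_mem_smul ⟨_, rfl⟩ Submodule.mem_top
  · intro x y hx hy
    rw [map_add]; exact Submodule.add_mem _ hx hy

theorem exists_smul_mem_TT (hsyz : Syz (jf (fun s => algebraMap R R' (f s)))) {q : σ →₀ R}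
    (hq : q ∈ LinearMap.ker (jf f) ⊓ II (jf f) • (⊤ : Submodule R (σ →₀ R))) :
    ∃ u ∈ S, (u : R) • q ∈ TT (jf f) := by
  have h1 : phi R' q ∈ TT (jf (fun s => algebraMap R R' (f s))) := by
    refine hsyz ⟨?_, phi_mem_smul_top R' f hq.2⟩
    show jf (fun s => algebraMap R R' (f s)) (phi R' q) = 0
    rw [jf_phi, show jf f q = 0 from hq.1, map_zero]
  obtain ⟨u, hu, t, ht, h⟩ := exists_of_mem_TT S R' f h1
  have h2 : phi R' (u • q) = phi R' t := by rw [map_smul, h]
  obtain ⟨w, hw⟩ := IsLocalizedModule.exists_of_eq (S := S) (f := phi R' (σ := σ)) h2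
  refine ⟨w * u, S.mul_mem w.2 hu, ?_⟩
  have h3 : ((w : R) * u) • q = (w : R) • t := by
    rw [mul_smul]; exact hw
  rw [h3]
  exact Submodule.smul_mem _ _ ht

end Loc

section Global

variable {R : Type*} [CommRing R] {σ : Type*} (f : σ → R)

theorem syz_of_forall_maximal
    (h : ∀ (𝔫 : Ideal R) [𝔫.IsMaximal], Ideal.span (Set.range f) ≤ 𝔫 →
      Syz (jf (fun s => algebraMap R (Localization.AtPrime 𝔫) (f s)))) : Syz (jf f) := by
  intro q hq
  let 𝔞 : Ideal R := (TT (jf f)).colon ({q} : Set (σ →₀ R))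
  have hmem : ∀ r : R, r ∈ 𝔞 ↔ r • q ∈ TT (jf f) := by
    intro r
    exact Submodule.mem_colon_singleton (N := TT (jf f)) (x := q) (r := r)
  by_cases htop : 𝔞 = ⊤
  · have : (1 : R) ∈ 𝔞 := by rw [htop]; exact Submodule.mem_top
    rw [hmem, one_smul] at this
    exact this
  · exfalso
    obtain ⟨𝔫, h𝔫, hle⟩ := Ideal.exists_le_maximal 𝔞 htop
    haveI := h𝔫
    by_cases hI : Ideal.span (Set.range f) ≤ 𝔫
    · obtain ⟨u, hu, hu'⟩ := exists_smul_mem_TT 𝔫.primeCompl (Localization.AtPrime 𝔫) f (h 𝔫 hI) hq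
      exact hu (hle ((hmem u).mpr hu'))
    · rw [Ideal.span_le] at hI
      obtain ⟨_, ⟨s, rfl⟩, hs⟩ := Set.not_subset.mp hI
      have h1 : jf f (Finsupp.single s 1) = f s := by
        simp [jf, Finsupp.linearCombination_single]
      have h2 := smul_mem_TT (jf f) (show jf f q = 0 from hq.1) (Finsupp.single s 1)
      rw [h1] at h2
      exact hs (hle ((hmem (f s)).mpr h2))

end Global

end Groth.Agent.H6.CotTSyz
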