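import Mathlib
import Groth.Prelude.Def_CotT
import Groth.Agent.Lib.Helper6.CotTSyz
import Groth.Agent.Lib.Helper6.CotTL2

set_option autoImplicit false

universe u

open TensorProduct CotT Function

namespace Groth.Agent.H6.CotTP0

open CotTSyz

/-- `A[∅] ≃ A` -/
noncomputable def e (A : Type u) [CommRing A] : MvPolynomial PEmpty.{u+1} A ≃+* A :=
  MvPolynomial.isEmptyRingEquiv A PEmpty.{u+1}

lemma e_C {A : Type u} [CommRing A] (x : A) : e A (MvPolynomial.C x) = x := by
  simp [e]
  exact MvPolynomial.coeff_zero_C x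

lemma C_e {A : Type u} [CommRing A] (x : MvPolynomial PEmpty.{u+1} A) : MvPolynomial.C (e A x) = x :=
  (e A).injective (e_C (e A x))

variable {A B : Type u} [CommRing A] [CommRing B] [Algebra A B] (hs : Surjective (algebraMap A B))
  {n : ℕ} (a : Fin n → A) (hker : RingHom.ker (algebraMap A B) = Ideal.span (Set.range a))

/-- generators with no variables -/
noncomputable abbrev G : Algebra.Generators A B PEmpty.{u+1} := Algebra.Generators.ofSurjectiveAlgebraMap hs

include hs in
lemma halg (x : MvPolynomial PEmpty.{u+1} A) :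
    algebraMap (G hs).toExtension.Ring B x = algebraMap A B (e A x) := by
  conv_lhs => rw [← C_e x]
  exact (IsScalarTower.algebraMap_apply A (G hs).toExtension.Ring B (e A x)).symm

include hker in
lemma span_eq_ker :
    Ideal.span (Set.range fun i => (MvPolynomial.C (a i) : (G hs).toExtension.Ring)) = (G hs).ker := by
  have h1 : Ideal.span (Set.range fun i => (MvPolynomial.C (a i) : MvPolynomial PEmpty.{u+1} A)) =
      Ideal.map (MvPolynomial.C : A →+* MvPolynomial PEmpty.{u+1} A) (Ideal.span (Set.range a)) := by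
    rw [Ideal.map_span, ← Set.range_comp]; rfl
  have h2 : ((e A : MvPolynomial PEmpty.{u+1} A →+* A).comp
      (MvPolynomial.C : A →+* MvPolynomial PEmpty.{u+1} A)) = RingHom.id A :=
    RingHom.ext fun a => e_C a
  apply le_antisymm
  · intro x hx
    change algebraMap (G hs).toExtension.Ring B x = 0
    rw [halg hs, ← RingHom.mem_ker, hker]
    have hx' : (x : MvPolynomial PEmpty.{u+1} A) ∈
        Ideal.map (MvPolynomial.C : A →+* MvPolynomial PEmpty.{u+1} A) (Ideal.span (Set.range a)) := by
      rw [← h1]; exact hx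
    have := Ideal.mem_map_of_mem (e A : MvPolynomial PEmpty.{u+1} A →+* A) hx'
    rwa [Ideal.map_map, h2, Ideal.map_id] at this
  · intro x hx
    have hx1 : algebraMap (G hs).toExtension.Ring B x = 0 := hx
    rw [halg hs, ← RingHom.mem_ker, hker] at hx1
    have := Ideal.mem_map_of_mem (MvPolynomial.C : A →+* MvPolynomial PEmpty.{u+1} A) hx1
    rw [← h1, C_e] at this
    exact this

/-- the presentation of `B = A/(a)` over `A` with no variables and relations `a i` -/
noncomputable def P0 : Algebra.Presentation A B PEmpty.{u+1} (Fin n) where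
  toGenerators := G hs
  relation := fun i => MvPolynomial.C (a i)
  span_range_relation_eq_ker := span_eq_ker hs a hker

/-- coefficientwise `e` -/
noncomputable def E : relMod (P0 hs a hker) →+ (Fin n →₀ A) :=
  Finsupp.mapRange.addMonoidHom ((e A : MvPolynomial PEmpty.{u+1} A →+* A) : MvPolynomial PEmpty.{u+1} A →+ A)

lemma E_apply (f : relMod (P0 hs a hker)) (i : Fin n) : E hs a hker f i = e A (f i) := rfl

lemma E_smul (r : (P0 hs a hker).toExtension.Ring) (f : relMod (P0 hs a hker)) :
    E hs a hker (r • f) = e A r • E hs a hker f := by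
  ext i
  rw [E_apply, Finsupp.smul_apply, Finsupp.smul_apply, E_apply, smul_eq_mul, smul_eq_mul]
  exact map_mul (e A) r (f i)

lemma E_single (i : Fin n) (r : (P0 hs a hker).toExtension.Ring) :
    E hs a hker (Finsupp.single i r) = Finsupp.single i (e A r) := by
  ext k
  rw [E_apply]
  by_cases hk : i = k
  · subst hk; rw [Finsupp.single_eq_same, Finsupp.single_eq_same]
  · rw [Finsupp.single_eq_of_ne (Ne.symm hk), Finsupp.single_eq_of_ne (Ne.symm hk)]
    exact map_zero (e A)

lemma jf_E (f : relMod (P0 hs a hker)) : jf a (E hs a hker f) = e A (jmap (P0 hs a hker) f) := by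
  induction f using Finsupp.induction_linear with
  | zero => rw [map_zero, map_zero, map_zero]; exact (map_zero (e A)).symm
  | add f g hf hg => rw [map_add, map_add, hf, hg, map_add]; exact (map_add (e A) _ _).symm
  | single i r =>
    rw [jmap_single, E_single]
    unfold jf
    rw [Finsupp.linearCombination_single, smul_eq_mul]
    refine Eq.trans ?_ (map_mul (e A) r (rel (P0 hs a hker) i)).symm
    congr 1
    exact (e_C (a i)).symm

lemma E_mem_TT {y : relMod (P0 hs a hker)} (hy : y ∈ trivRel (P0 hs a hker)) :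
    E hs a hker y ∈ TT (jf a) := by
  induction hy using Submodule.span_induction with
  | mem x hx =>
    obtain ⟨p, q, rfl⟩ := hx
    rw [map_sub, E_smul, E_smul, ← jf_E, ← jf_E]
    exact Submodule.subset_span ⟨_, _, rfl⟩
  | zero => rw [map_zero]; exact Submodule.zero_mem _
  | add x y _ _ hx hy => rw [map_add]; exact Submodule.add_mem _ hx hy
  | smul r x _ hx => rw [E_smul]; exact Submodule.smul_mem _ _ hx

/-- transport of `H₁`-regularity from the presentation to the family `a` -/
theorem ker_le_TT_of_relKer_le (h : relKer (P0 hs a hker) ≤ trivRel (P0 hs a hker)) :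
    LinearMap.ker (jf a) ≤ TT (jf a) := by
  intro c hc
  let c' : relMod (P0 hs a hker) :=
    Finsupp.mapRange (MvPolynomial.C : A →+* MvPolynomial PEmpty.{u+1} A) (map_zero _) c
  have hE : E hs a hker c' = c := by
    ext i
    rw [E_apply]
    exact e_C (c i)
  have h1 : c' ∈ relKer (P0 hs a hker) := by
    change jmap (P0 hs a hker) c' = 0
    apply (e A).injective
    rw [← jf_E, hE]
    exact hc.trans (map_zero (e A)).symm
  rw [← hE]
  exact E_mem_TT hs a hker (h h1)

section Nak

variable [IsLocalRing A] [IsNoetherianRing A] [IsLocalRing B]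

omit [IsNoetherianRing A] in
/-- `d₂` has image in `𝔪 L₁` when the generators are minimal -/
lemma d2_mem_smul (hmin : ∀ c : Fin n →₀ A, jf a c = 0 → ∀ i, c i ∈ IsLocalRing.maximalIdeal A)
    (z : L2 (P0 hs a hker)) :
    d2 (P0 hs a hker) z ∈ (IsLocalRing.maximalIdeal B • ⊤ : Submodule B (L1 (P0 hs a hker))) := by
  obtain ⟨q, rfl⟩ := CotTT2.exists_mk_one_tmul (P0 hs a hker) z
  rw [d2_mk_tmul]
  haveI : IsLocalHom (algebraMap A B) := hs.isLocalHom
  have hcoef : ∀ i, algebraMap (P0 hs a hker).toExtension.Ring B ((q : relMod (P0 hs a hker)) i) ∈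
      IsLocalRing.maximalIdeal B := by
    intro i
    have h1 : jf a (E hs a hker q) = 0 := by
      rw [jf_E]
      have : jmap (P0 hs a hker) (q : relMod (P0 hs a hker)) = 0 := q.2
      rw [this]
      exact map_zero (e A)
    have h2 := hmin _ h1 i
    rw [E_apply] at h2
    have h3 : algebraMap (P0 hs a hker).toExtension.Ring B ((q : relMod (P0 hs a hker)) i) =
        algebraMap A B (e A ((q : relMod (P0 hs a hker)) i)) := halg hs _
    rw [h3]
    exact map_nonunit (algebraMap A B) _ h2
  have hq : (q : relMod (P0 hs a hker)) =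
      ∑ i ∈ (q : relMod (P0 hs a hker)).support, Finsupp.single i ((q : relMod (P0 hs a hker)) i) :=
    (Finsupp.sum_single _).symm
  rw [hq, TensorProduct.tmul_sum]
  refine Submodule.sum_mem _ fun i _ => ?_
  have h4 : (1 : B) ⊗ₜ[(P0 hs a hker).toExtension.Ring] Finsupp.single i ((q : relMod (P0 hs a hker)) i) =
      algebraMap (P0 hs a hker).toExtension.Ring B ((q : relMod (P0 hs a hker)) i) •
        ((1 : B) ⊗ₜ[(P0 hs a hker).toExtension.Ring] Finsupp.single i (1 : (P0 hs a hker).toExtension.Ring)) := by
    have h5 : Finsupp.single i ((q : relMod (P0 hs a hker)) i) =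
        ((q : relMod (P0 hs a hker)) i) • Finsupp.single i (1 : (P0 hs a hker).toExtension.Ring) := by
      rw [Finsupp.smul_single, smul_eq_mul, mul_one]
    rw [h5, ← TensorProduct.smul_tmul, TensorProduct.smul_tmul', Algebra.smul_def, mul_one, smul_eq_mul, mul_one]
  rw [h4]
  exact Submodule.smul_mem_smul (hcoef i) Submodule.mem_top

omit [IsLocalRing A] [IsLocalRing B] in
/-- `L₂` is a finite module -/
lemma finite_L2 : Module.Finite B (L2 (P0 hs a hker)) := by
  haveI : IsNoetherianRing (P0 hs a hker).toExtension.Ring :=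
    isNoetherianRing_of_ringEquiv A (e A).symm
  haveI : IsNoetherian (P0 hs a hker).toExtension.Ring (relMod (P0 hs a hker)) :=
    isNoetherian_of_isNoetherianRing_of_finite _ _
  haveI : Module.Finite (P0 hs a hker).toExtension.Ring (relKer (P0 hs a hker)) :=
    Module.Finite.of_fg (IsNoetherian.noetherian _)
  infer_instance

set_option maxHeartbeats 1600000 in
/-- vanishing of `T²` with minimal generators forces `H₁`-regularity -/
theorem relKer_le_trivRel
    (hmin : ∀ c : Fin n →₀ A, jf a c = 0 → ∀ i, c i ∈ IsLocalRing.maximalIdeal A)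
    (hT : ∀ (M : Type u) [AddCommGroup M] [Module B M], Subsingleton (T2 (P0 hs a hker) M)) :
    relKer (P0 hs a hker) ≤ trivRel (P0 hs a hker) := by
  set P := P0 hs a hker with hP
  let N : Submodule B (L2 P) := IsLocalRing.maximalIdeal B • ⊤
  haveI := hT (L2 P ⧸ N)
  have h0 : (Submodule.Quotient.mk N.mkQ : T2 P (L2 P ⧸ N)) = Submodule.Quotient.mk 0 :=
    Subsingleton.elim _ _
  rw [Submodule.Quotient.eq, sub_zero] at h0
  obtain ⟨φ, hφ⟩ := h0
  have htop : (⊤ : Submodule B (L2 P)) ≤ N := by
    intro z _
    have h1 : N.mkQ z = φ (d2 P z) := by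
      rw [← hφ]; rfl
    have h2 := d2_mem_smul hs a hker hmin z
    have h3 : φ (d2 P z) ∈ (IsLocalRing.maximalIdeal B • ⊤ : Submodule B (L2 P ⧸ N)) := by
      have := Submodule.mem_map_of_mem (f := φ) h2
      rw [Submodule.map_smul''] at this
      exact Submodule.smul_mono le_rfl le_top this
    have h4 : (IsLocalRing.maximalIdeal B • ⊤ : Submodule B (L2 P ⧸ N)) = ⊥ := by
      rw [eq_bot_iff]
      refine Submodule.smul_le.mpr ?_
      intro b hb y _
      obtain ⟨y, rfl⟩ := Submodule.Quotient.mk_surjective _ y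
      rw [← Submodule.Quotient.mk_smul, Submodule.mem_bot, Submodule.Quotient.mk_eq_zero]
      exact Submodule.smul_mem_smul hb Submodule.mem_top
    rw [h4, Submodule.mem_bot] at h3
    rw [← h1] at h3
    exact (Submodule.Quotient.mk_eq_zero N).mp h3
  haveI := finite_L2 hs a hker
  have hbot : (⊤ : Submodule B (L2 P)) = ⊥ :=
    Submodule.eq_bot_of_le_smul_of_le_jacobson_bot (IsLocalRing.maximalIdeal B) ⊤ Module.Finite.fg_top
      htop (by rw [IsLocalRing.jacobson_eq_maximalIdeal ⊥ bot_ne_top])
  intro q hq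
  have h5 : (Submodule.Quotient.mk ((1 : B) ⊗ₜ (⟨q, hq⟩ : relKer P)) : L2 P) ∈ (⊤ : Submodule B (L2 P)) :=
    Submodule.mem_top
  rw [hbot, Submodule.mem_bot, CotTT2.mk_one_tmul_eq_zero_iff] at h5
  exact h5

end Nak

end Groth.Agent.H6.CotTP0
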