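import Mathlib
import Groth.Agent.Lib.Helper6.CotTSyz
import Groth.Agent.Lib.Helper6.CotTLoc
import Groth.Agent.Lib.Helper1.RegSeq
import Groth.Agent.S0561

set_option autoImplicit false

namespace Groth.Agent.H6.CotTSyz

open RingTheory.Sequence

section A

variable {R : Type*} [CommRing R]

omit [CommRing R] in
lemma mem_take_ofFn {n : ℕ} (x : Fin n → R) (k : ℕ) (a : R) :
    a ∈ (List.ofFn x).take k ↔ ∃ i : Fin n, i.val < k ∧ x i = a := by
  rw [List.mem_take_iff_getElem]
  constructor
  · rintro ⟨i, hi, rfl⟩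
    have hi' : i < n := by
      have := (lt_min_iff.mp hi).2
      simpa using this
    refine ⟨⟨i, hi'⟩, (lt_min_iff.mp hi).1, ?_⟩
    simp
  · rintro ⟨i, hik, rfl⟩
    refine ⟨i.val, lt_min_iff.mpr ⟨hik, by simp⟩, ?_⟩
    simp

theorem hreg_of_isWeaklyRegular {n : ℕ} (x : Fin n → R) (h : IsWeaklyRegular R (List.ofFn x)) :
    ∀ k : Fin n, ∀ a : R, a * x k ∈ Ideal.span (x '' {i | i < k}) → a ∈ Ideal.span (x '' {i | i < k}) := by
  intro k a ha
  rw [isWeaklyRegular_iff_Fin] at h
  have hk : k.val < (List.ofFn x).length := by simp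
  have h1 := h ⟨k.val, hk⟩
  have hset : Ideal.ofList ((List.ofFn x).take k.val) = Ideal.span (x '' {i | i < k}) := by
    unfold Ideal.ofList
    congr 1
    ext b
    simp only [Set.mem_ofPred_eq, Set.mem_image]
    rw [mem_take_ofFn]
    constructor
    · rintro ⟨i, hi, rfl⟩; exact ⟨i, hi, rfl⟩
    · rintro ⟨i, hi, rfl⟩; exact ⟨i, hi, rfl⟩
  have hsm : (Ideal.ofList ((List.ofFn x).take k.val) • (⊤ : Submodule R R)) = Ideal.span (x '' {i | i < k}) := by
    rw [hset, smul_eq_mul, Ideal.mul_top]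
  have hx : (List.ofFn x)[k.val] = x k := by simp
  simp only [Fin.getElem_fin] at h1
  rw [hx] at h1
  have h2 : x k • (Submodule.Quotient.mk a : R ⧸ (Ideal.ofList ((List.ofFn x).take k.val) • (⊤ : Submodule R R))) = 0 := by
    rw [← Submodule.Quotient.mk_smul, Submodule.Quotient.mk_eq_zero, hsm, smul_eq_mul, mul_comm]
    exact ha
  have h3 := h1 (by rw [h2, smul_zero] : x k • (Submodule.Quotient.mk a : R ⧸ (Ideal.ofList ((List.ofFn x).take k.val) • (⊤ : Submodule R R))) = x k • 0)
  rw [Submodule.Quotient.mk_eq_zero, hsm] at h3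
  exact h3

end A

section LocalC

universe u

variable {R : Type u} [CommRing R] [IsRegularLocalRing R] (I : Ideal R) [IsRegularLocalRing (R ⧸ I)]

/-- In a regular local ring, any generating family of an ideal with regular quotient has only
trivial relations modulo the ideal. -/
theorem syz_of_regularLocal {σ : Type*} (f : σ → R) (hf : Ideal.span (Set.range f) = I) : Syz (jf f) := by
  obtain ⟨d, hd⟩ : ∃ d : ℕ, ringKrullDim R = d := by
    have h1 := (IsRegularLocalRing.spanFinrank_maximalIdeal (R := R))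
    exact ⟨_, h1.symm⟩
  obtain ⟨x, c, hc, hx, hI⟩ := Groth.Agent.S0561.result R d hd I
  have hreg := Groth.Agent.H1.Reg.isRegular_ofFn d hd x hx
  have hreg' := hreg_of_isWeaklyRegular x hreg.toIsWeaklyRegular
  let g : Fin c → R := fun i => x (Fin.castLE hc i)
  have hg : ∀ k : Fin c, ∀ a : R, a * g k ∈ Ideal.span (g '' {i | i < k}) → a ∈ Ideal.span (g '' {i | i < k}) := by
    intro k a
    have hset : g '' {i | i < k} = x '' {i | i < Fin.castLE hc k} := by
      ext b
      simp only [Set.mem_image, Set.mem_ofPred_eq]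
      constructor
      · rintro ⟨i, hi, rfl⟩
        exact ⟨Fin.castLE hc i, by simpa using hi, rfl⟩
      · rintro ⟨i, hi, rfl⟩
        have hic : i.val < c := lt_of_lt_of_le (show i.val < k.val from hi) (le_of_lt k.isLt)
        exact ⟨⟨i.val, hic⟩, show (⟨i.val, hic⟩ : Fin c) < k from hi, rfl⟩
    rw [hset]
    exact hreg' (Fin.castLE hc k) a
  exact syz_of_span_eq f g (by rw [hf, hI]) (syz_of_regular g hg)

end LocalC

section LemA

variable {R : Type*} [CommRing R] (I : Ideal R) (𝔫 : Ideal R) [𝔫.IsPrime]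

theorem algebraMapSubmonoid_quot (h : I ≤ 𝔫) :
    haveI : (𝔫.map (Ideal.Quotient.mk I)).IsPrime :=
      Ideal.map_isPrime_of_surjective Ideal.Quotient.mk_surjective (by rwa [Ideal.mk_ker])
    Algebra.algebraMapSubmonoid (R ⧸ I) 𝔫.primeCompl = (𝔫.map (Ideal.Quotient.mk I)).primeCompl := by
  ext x
  obtain ⟨r, rfl⟩ := Ideal.Quotient.mk_surjective x
  simp only [Algebra.algebraMapSubmonoid, Submonoid.mem_map, Ideal.mem_primeCompl_iff]
  rw [Ideal.mem_quotient_iff_mem h]
  constructor
  · rintro ⟨s, hs, hsr⟩ hr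
    rw [Ideal.Quotient.algebraMap_eq] at hsr
    have : s - r ∈ I := Ideal.Quotient.eq.mp hsr
    have h2 : s = (s - r) + r := by ring
    apply hs
    rw [h2]
    exact 𝔫.add_mem (h this) hr
  · intro hr
    exact ⟨r, hr, rfl⟩

theorem regular_quot_loc [IsRegularRing (R ⧸ I)] (h : I ≤ 𝔫) :
    IsRegularLocalRing (Localization.AtPrime 𝔫 ⧸ I.map (algebraMap R (Localization.AtPrime 𝔫))) := by
  haveI hq : (𝔫.map (Ideal.Quotient.mk I)).IsPrime :=
      Ideal.map_isPrime_of_surjective Ideal.Quotient.mk_surjective (by rwa [Ideal.mk_ker])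
  have h1 : IsLocalization (Algebra.algebraMapSubmonoid (R ⧸ I) 𝔫.primeCompl)
      (Localization.AtPrime 𝔫 ⧸ I.map (algebraMap R (Localization.AtPrime 𝔫))) := inferInstance
  rw [algebraMapSubmonoid_quot I 𝔫 h] at h1
  have e := IsLocalization.algEquiv (𝔫.map (Ideal.Quotient.mk I)).primeCompl
    (Localization.AtPrime (𝔫.map (Ideal.Quotient.mk I)))
    (Localization.AtPrime 𝔫 ⧸ I.map (algebraMap R (Localization.AtPrime 𝔫)))
  exact IsRegularLocalRing.of_ringEquiv e.toRingEquiv

end LemA

section Global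

universe u

variable {R : Type u} [CommRing R] [IsRegularRing R] (I : Ideal R) [IsRegularRing (R ⧸ I)]

/-- In a regular ring, any generating family of an ideal with regular quotient ring satisfies `Syz`. -/
theorem syz_of_regularRing {σ : Type*} (f : σ → R) (hf : Ideal.span (Set.range f) = I) : Syz (jf f) := by
  refine syz_of_forall_maximal f ?_
  intro 𝔫 h𝔫 hle
  rw [hf] at hle
  haveI := regular_quot_loc I 𝔫 hle
  refine syz_of_regularLocal (I.map (algebraMap R (Localization.AtPrime 𝔫))) _ ?_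
  rw [← hf, Ideal.map_span]
  congr 1
  ext b
  simp

end Global

end Groth.Agent.H6.CotTSyz
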