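import Mathlib
import Groth.Agent.Lib.Helper6.CotTReg

set_option autoImplicit false

namespace Groth.Agent.H6.CotTSyz

section LemA'

variable {R : Type*} [CommRing R] (I : Ideal R) (𝔫 : Ideal R) [𝔫.IsPrime]

theorem regular_quot_loc' (q : Ideal (R ⧸ I)) [q.IsPrime] (hq : q = 𝔫.map (Ideal.Quotient.mk I))
    [IsRegularLocalRing (Localization.AtPrime q)] (h : I ≤ 𝔫) :
    IsRegularLocalRing (Localization.AtPrime 𝔫 ⧸ I.map (algebraMap R (Localization.AtPrime 𝔫))) := by
  subst hq
  have h1 : IsLocalization (Algebra.algebraMapSubmonoid (R ⧸ I) 𝔫.primeCompl)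
      (Localization.AtPrime 𝔫 ⧸ I.map (algebraMap R (Localization.AtPrime 𝔫))) := inferInstance
  rw [algebraMapSubmonoid_quot I 𝔫 h] at h1
  have e := IsLocalization.algEquiv (𝔫.map (Ideal.Quotient.mk I)).primeCompl
    (Localization.AtPrime (𝔫.map (Ideal.Quotient.mk I)))
    (Localization.AtPrime 𝔫 ⧸ I.map (algebraMap R (Localization.AtPrime 𝔫)))
  exact IsRegularLocalRing.of_ringEquiv e.toRingEquiv

end LemA'

section Red

universe u

variable {R : Type u} [CommRing R] [IsRegularRing R] (I : Ideal R) [IsReduced (R ⧸ I)]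

/-- Generic vanishing: at a minimal prime of a reduced quotient of a regular ring, relations with
coefficients in the ideal are trivial up to a unit of the localization. -/
theorem exists_smul_mem_TT_of_minimal {σ : Type*} (f : σ → R) (hf : Ideal.span (Set.range f) = I)
    (𝔓 : Ideal R) (h𝔓 : 𝔓 ∈ I.minimalPrimes) {q : σ →₀ R}
    (hq : q ∈ LinearMap.ker (jf f) ⊓ II (jf f) • (⊤ : Submodule R (σ →₀ R))) :
    ∃ u : R, u ∉ 𝔓 ∧ u • q ∈ TT (jf f) := by
  haveI : 𝔓.IsPrime := h𝔓.1.1
  have hle : I ≤ 𝔓 := h𝔓.1.2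
  rw [Ideal.minimalPrimes_eq_comap] at h𝔓
  obtain ⟨q', hq', h𝔓eq⟩ := h𝔓
  haveI : q'.IsPrime := hq'.1.1
  have hq'' : q' = 𝔓.map (Ideal.Quotient.mk I) := by
    rw [← h𝔓eq]
    exact (Ideal.map_comap_of_surjective _ Ideal.Quotient.mk_surjective q').symm
  haveI : Ring.KrullDimLE 0 (Localization.AtPrime q') := .of_isLocalization _ hq' _
  letI : Field (Localization.AtPrime q') := Ring.KrullDimLE.isField_of_isReduced.toField
  haveI : IsRegularLocalRing (Localization.AtPrime q') := inferInstance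
  haveI := regular_quot_loc' I 𝔓 q' hq'' hle
  have hsyz : Syz (jf (fun s => algebraMap R (Localization.AtPrime 𝔓) (f s))) := by
    refine syz_of_regularLocal (I.map (algebraMap R (Localization.AtPrime 𝔓))) _ ?_
    rw [← hf, Ideal.map_span]
    congr 1
    ext b
    simp
  obtain ⟨u, hu, hu'⟩ := exists_smul_mem_TT 𝔓.primeCompl
    (Localization.AtPrime 𝔓) f hsyz hq
  exact ⟨u, hu, hu'⟩

end Red

end Groth.Agent.H6.CotTSyz
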