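import Mathlib
import Groth.Prelude.Def_CotT
import Groth.Agent.Lib.Helper6.CotTRed
import Groth.Agent.Lib.Helper6.CotTT2

set_option autoImplicit false

universe u v w t

open TensorProduct CotT

namespace Groth.Agent.H6.CotTT2

section Pres

variable {A : Type u} {B : Type v} {ι : Type w} {σ : Type t}
variable [CommRing A] [CommRing B] [Algebra A B]
variable (P : Algebra.Presentation A B ι σ)

/-- elements of the kernel of `d₂` come from relations with coefficients in the ideal -/
theorem exists_of_d2_eq_zero (n : L2 P) (hn : d2 P n = 0) :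
    ∃ q : relKer P, (q : relMod P) ∈ (P.toExtension.ker • ⊤ : Submodule P.toExtension.Ring (relMod P)) ∧
      n = Submodule.Quotient.mk ((1 : B) ⊗ₜ q) := by
  obtain ⟨w, rfl⟩ := Submodule.Quotient.mk_surjective _ n
  obtain ⟨q, rfl⟩ := exists_one_tmul P.toExtension.algebraMap_surjective w
  rw [d2_mk_tmul] at hn
  exact ⟨q, mem_smul_top_of_one_tmul_eq_zero P.toExtension.algebraMap_surjective (q : relMod P) hn, rfl⟩

theorem smul_mk_eq_zero (q : relKer P) (u : P.toExtension.Ring) (hu : u • (q : relMod P) ∈ trivRel P) :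
    algebraMap P.toExtension.Ring B u •
      (Submodule.Quotient.mk ((1 : B) ⊗ₜ[P.toExtension.Ring] q) : L2 P) = 0 := by
  rw [← Submodule.Quotient.mk_smul, TensorProduct.smul_tmul', smul_eq_mul, mul_one,
    Submodule.Quotient.mk_eq_zero]
  refine ⟨(1 : B) ⊗ₜ ⟨u • q, hu⟩, ?_⟩
  rw [LinearMap.baseChange_tmul]
  have : (trivRelKer P).subtype ⟨u • q, hu⟩ = u • q := rfl
  rw [this, TensorProduct.tmul_smul, TensorProduct.smul_tmul', Algebra.smul_def, mul_one]

end Pres

section Red

variable {k : Type u} [Field k] {B : Type u} [CommRing B] [Algebra k B] {ι : Type w} {σ : Type t} [Finite ι]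
variable (P : Algebra.Presentation k B ι σ) [IsReduced B]

theorem apply_eq_zero_of_d2_eq_zero (ψ : L2 P →ₗ[B] B) (n : L2 P) (hn : d2 P n = 0) : ψ n = 0 := by
  obtain ⟨q, hqI, rfl⟩ := exists_of_d2_eq_zero P n hn
  haveI : IsRegularRing P.toExtension.Ring := inferInstanceAs (IsRegularRing (MvPolynomial ι k))
  let e : (P.toExtension.Ring ⧸ P.toExtension.ker) ≃+* B :=
    RingHom.quotientKerEquivOfSurjective P.toExtension.algebraMap_surjective
  haveI : IsReduced (P.toExtension.Ring ⧸ P.toExtension.ker) :=
    isReduced_of_injective e.toRingHom e.injective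
  have hmem : ψ (Submodule.Quotient.mk ((1 : B) ⊗ₜ q)) ∈ sInf (minimalPrimes B) := by
    rw [Submodule.mem_sInf]
    intro (p : Ideal B) hp
    haveI : p.IsPrime := hp.1.1
    have h1 : p.comap (algebraMap P.toExtension.Ring B) ∈ P.toExtension.ker.minimalPrimes := by
      have := Ideal.minimalPrimes_comap_of_surjective P.toExtension.algebraMap_surjective hp
      rwa [← RingHom.ker_eq_comap_bot] at this
    have hq2 : (q : relMod P) ∈ LinearMap.ker (CotTSyz.jf (rel P)) ⊓
        CotTSyz.II (CotTSyz.jf (rel P)) • (⊤ : Submodule P.toExtension.Ring (relMod P)) := by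
      refine ⟨q.2, ?_⟩
      have : CotTSyz.II (CotTSyz.jf (rel P)) = P.toExtension.ker := by
        rw [CotTSyz.II_jf]
        exact P.span_range_relation_eq_ker
      rw [this]
      exact hqI
    obtain ⟨u, hu, hu'⟩ := CotTSyz.exists_smul_mem_TT_of_minimal P.toExtension.ker (rel P)
      P.span_range_relation_eq_ker _ h1 hq2
    have h2 := smul_mk_eq_zero P q u hu'
    have h3 : algebraMap P.toExtension.Ring B u * ψ (Submodule.Quotient.mk ((1 : B) ⊗ₜ q)) = 0 := by
      rw [← smul_eq_mul, ← map_smul, h2, map_zero]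
    rcases Ideal.IsPrime.mem_or_mem_of_mul_eq_zero ‹p.IsPrime› h3 with h | h
    · exact absurd h hu
    · exact h
  have h0 : sInf (minimalPrimes B) = ⊥ := by
    unfold minimalPrimes
    rw [Ideal.sInf_minimalPrimes]
    exact nilradical_eq_zero B
  rw [h0] at hmem
  exact hmem

end Red

end Groth.Agent.H6.CotTT2
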