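import Mathlib
import Groth.Agent.Lib.Helper6.CotTHom2

/-! `T¹(B/A, -)` vanishes identically iff `B` is formally smooth over `A`. -/

set_option autoImplicit false
universe u

open TensorProduct CotT

namespace Groth.Agent.H6.CotTSmooth

open Groth.Agent.H6.CotTHom

section Ext

variable {A B : Type u} [CommRing A] [CommRing B] [Algebra A B]
variable (E : Algebra.Extension.{u} A B)

theorem t1E_subsingleton_iff (M : Type u) [AddCommGroup M] [Module B M] :
    Subsingleton (T1E E M) ↔
      ∀ φ : E.Cotangent →ₗ[B] M, ∃ ψ : E.CotangentSpace →ₗ[B] M, ψ ∘ₗ E.cotangentComplex = φ := by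
  rw [Submodule.Quotient.subsingleton_iff, eq_top_iff]
  constructor
  · intro h φ
    obtain ⟨ψ, hψ⟩ := h (Submodule.mem_top : φ ∈ ⊤)
    exact ⟨ψ, hψ⟩
  · intro h φ _
    obtain ⟨ψ, hψ⟩ := h φ
    exact ⟨ψ, hψ⟩

theorem forall_t1E_subsingleton_iff [Algebra.FormallySmooth A E.Ring] :
    (∀ (M : Type u) [AddCommGroup M] [Module B M], Subsingleton (T1E E M)) ↔
      Algebra.FormallySmooth A B := by
  rw [E.formallySmooth_iff_split_injection]
  constructor
  · intro h
    obtain ⟨ψ, hψ⟩ := (t1E_subsingleton_iff E E.Cotangent).mp (h E.Cotangent) LinearMap.id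
    exact ⟨ψ, hψ⟩
  · rintro ⟨l, hl⟩ M _ _
    rw [t1E_subsingleton_iff]
    intro φ
    exact ⟨φ ∘ₗ l, by rw [LinearMap.comp_assoc, hl, LinearMap.comp_id]⟩

end Ext

section Pres

variable {A B : Type u} [CommRing A] [CommRing B] [Algebra A B] {ι σ : Type u}
variable (P : Algebra.Presentation A B ι σ)

theorem forall_t1_subsingleton_iff :
    (∀ (M : Type u) [AddCommGroup M] [Module B M], Subsingleton (CotT.T1 P M)) ↔
      Algebra.FormallySmooth A B := by
  haveI : Algebra.FormallySmooth A P.toExtension.Ring :=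
    inferInstanceAs (Algebra.FormallySmooth A (MvPolynomial ι A))
  rw [← forall_t1E_subsingleton_iff P.toExtension]
  constructor
  · intro h M _ _
    exact (T1equivT1E P M).symm.toEquiv.subsingleton
  · intro h M _ _
    exact (T1equivT1E P M).toEquiv.subsingleton

theorem forall_t1_canon_subsingleton_iff (A B : Type u) [CommRing A] [CommRing B] [Algebra A B] :
    (∀ (M : Type u) [AddCommGroup M] [Module B M], Subsingleton (CotT.T1 (CotT.canon A B) M)) ↔
      Algebra.FormallySmooth A B :=
  forall_t1_subsingleton_iff (CotT.canon A B)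

end Pres

end Groth.Agent.H6.CotTSmooth
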