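import Mathlib
import Groth.Agent.S9442
import Groth.Agent.Lib.Helper5.CA.PerfGR
import Groth.Agent.Lib.Helper6.CotTSmooth

/-! Regularity and vanishing of `T¹` for finite type algebras over an algebraically closed field. -/

set_option autoImplicit false
universe u

open TensorProduct CotT

namespace Groth.Agent.H6.CotTSmooth

theorem regular_iff_formallySmooth (k B : Type u) [Field k] [PerfectField k] [CommRing B] [Algebra k B]
    [Algebra.FiniteType k B] :
    (∀ (p : Ideal B) [p.IsPrime], IsRegularLocalRing (Localization.AtPrime p)) ↔
      Algebra.FormallySmooth k B := by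
  haveI : Algebra.FinitePresentation k B := Algebra.FinitePresentation.of_finiteType.mp inferInstance
  rw [← Algebra.smoothLocus_eq_univ_iff, Set.eq_univ_iff_forall]
  constructor
  · intro h p
    haveI : Algebra.IsGeometricallyReduced k p.asIdeal.ResidueField :=
      Groth.Agent.H5.isGeometricallyReduced_of_perfectField k _
    exact (Groth.Agent.S9442.result k B p.asIdeal).mpr (h p.asIdeal)
  · intro h p hp
    haveI : Algebra.IsGeometricallyReduced k p.ResidueField :=
      Groth.Agent.H5.isGeometricallyReduced_of_perfectField k _
    exact (Groth.Agent.S9442.result k B p).mp (h ⟨p, hp⟩)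

theorem regular_iff_t1 (k B : Type u) [Field k] [PerfectField k] [CommRing B] [Algebra k B]
    [Algebra.FiniteType k B] :
    (∀ (p : Ideal B) [p.IsPrime], IsRegularLocalRing (Localization.AtPrime p)) ↔
      ∀ (M : Type u) [AddCommGroup M] [Module B M], Subsingleton (CotT.T1 (CotT.canon k B) M) := by
  rw [regular_iff_formallySmooth k B, forall_t1_canon_subsingleton_iff]

theorem regular_localization_iff_t1 (k B : Type u) [Field k] [PerfectField k] [CommRing B] [Algebra k B]
    [Algebra.FiniteType k B] (m : Ideal B) [m.IsPrime] :
    IsRegularLocalRing (Localization.AtPrime m) ↔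
      ∀ (M : Type u) [AddCommGroup M] [Module (Localization.AtPrime m) M],
        Subsingleton (CotT.T1 (CotT.canon k (Localization.AtPrime m)) M) := by
  haveI : Algebra.IsGeometricallyReduced k m.ResidueField :=
    Groth.Agent.H5.isGeometricallyReduced_of_perfectField k _
  rw [forall_t1_canon_subsingleton_iff, ← Groth.Agent.S9442.result k B m]

end Groth.Agent.H6.CotTSmooth
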