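import Mathlib
import Groth.Prelude.Def_CotT
import Groth.Agent.Lib.Helper6.CotTT2
import Groth.Agent.Lib.Helper6.CotTReg
import Groth.Agent.Lib.Helper6.CotTHom
import Groth.Agent.Lib.Helper6.CotTSmooth2

set_option autoImplicit false

universe u v w t m

open TensorProduct

namespace Groth.Agent.H6.CotTT2

section Pres

variable {A : Type u} {B : Type v} {ι : Type w} {σ : Type t}
variable [CommRing A] [CommRing B] [Algebra A B]
variable (P : Algebra.Presentation A B ι σ)

open CotT

theorem cotangent_projective [Algebra.FormallySmooth A B] :
    Module.Projective B P.toExtension.Cotangent := by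
  haveI : Algebra.FormallySmooth A P.toExtension.Ring :=
    inferInstanceAs (Algebra.FormallySmooth A (MvPolynomial ι A))
  obtain ⟨l, hl⟩ := (Algebra.Extension.formallySmooth_iff_split_injection P.toExtension).mp inferInstance
  haveI : Module.Projective B P.toExtension.CotangentSpace :=
    Module.Projective.of_basis P.cotangentSpaceBasis
  exact Module.Projective.of_split P.toExtension.cotangentComplex l hl

end Pres

section Final

open CotT

theorem T2_canon_subsingleton_of_regular (k B : Type u) [Field k] [PerfectField k] [CommRing B]
    [Algebra k B] [Algebra.FiniteType k B]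
    (h : ∀ (p : Ideal B) [p.IsPrime], IsRegularLocalRing (Localization.AtPrime p))
    (M : Type u) [AddCommGroup M] [Module B M] :
    Subsingleton (T2 (canon k B) M) := by
  haveI hfs : Algebra.FormallySmooth k B := (CotTSmooth.regular_iff_formallySmooth k B).mp h
  haveI : Algebra.FinitePresentation k B := Algebra.FinitePresentation.of_finiteType.mp inferInstance
  haveI : IsNoetherianRing B := Algebra.FiniteType.isNoetherianRing k B
  haveI : IsRegularRing B := ⟨h⟩
  let P := Algebra.Presentation.ofFinitePresentation k B
  haveI : IsRegularRing P.toExtension.Ring :=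
    inferInstanceAs (IsRegularRing (MvPolynomial _ k))
  let e : (P.toExtension.Ring ⧸ P.toExtension.ker) ≃+* B :=
    RingHom.quotientKerEquivOfSurjective P.toExtension.algebraMap_surjective
  haveI : IsRegularRing (P.toExtension.Ring ⧸ P.toExtension.ker) := IsRegularRing.of_ringEquiv e.symm
  have hsyz : CotTSyz.Syz (jmap P) :=
    CotTSyz.syz_of_regularRing P.toExtension.ker (rel P) P.span_range_relation_eq_ker
  have hinj := d2_injective P ((syz_iff P).mp hsyz)
  haveI := cotangent_projective P
  have h2 := T2_subsingleton_of_injective_of_projective P M hinj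
  obtain ⟨E⟩ := CotTHom.nonempty_T2equiv (canon k B) P M
  exact E.toEquiv.subsingleton

end Final

end Groth.Agent.H6.CotTT2
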