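import Groth.Agent.Lib.Lead.Colim.Main
import Mathlib.CategoryTheory.Limits.Constructions.Filtered

/-! # Ext classes into a coproduct are finite sums of classes into the summands -/

universe w v u
open CategoryTheory Limits Abelian Opposite

namespace Groth.Agent.H6.Cpm

section Abstract

variable {A : Type v} [Category.{u} A] [Abelian A] [HasExt.{w} A]

/-- every class in `Ext^p(Z, ∐ G)` is a finite sum of classes coming from the summands. -/
def FinFact (Z : A) (p : ℕ) {I : Type*} (G : I → A) [HasCoproduct G] : Prop :=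
  ∀ y : Ext.{w} Z (∐ G) p, ∃ (s : Finset I) (z : ∀ i, Ext.{w} Z (G i) p),
    y = ∑ i ∈ s, (z i).comp (Ext.mk₀ (Sigma.ι G i)) (add_zero p)

lemma ext_eq_sum_of_fintype (Z : A) (p : ℕ) {ι : Type*} [Fintype ι] (g : ι → A) [HasCoproduct g]
    (y : Ext.{w} Z (∐ g) p) :
    ∃ z : ∀ j, Ext.{w} Z (g j) p,
      y = ∑ j, (z j).comp (Ext.mk₀ (Sigma.ι g j)) (add_zero p) := by
  classical
  haveI : HasFiniteBiproducts A := HasFiniteBiproducts.of_hasFiniteCoproducts
  let e : ∐ g ≅ ⨁ g := (biproduct.isoCoproduct g).symm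
  have hι : ∀ j, biproduct.ι g j ≫ e.inv = Sigma.ι g j := fun j => by
    change biproduct.ι g j ≫ (biproduct.isoCoproduct g).hom = _
    rw [biproduct.isoCoproduct_hom, biproduct.ι_desc]
  have hid : 𝟙 (∐ g) = ∑ j, (e.hom ≫ biproduct.π g j) ≫ Sigma.ι g j := by
    have h1 : 𝟙 (∐ g) = e.hom ≫ 𝟙 (⨁ g) ≫ e.inv := by simp
    have h2 : 𝟙 (⨁ g) = ∑ j, biproduct.π g j ≫ biproduct.ι g j :=
      (Limits.IsBilimit.total (biproduct.isBilimit g)).symm
    rw [h1, h2, Preadditive.sum_comp, Preadditive.comp_sum]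
    refine Finset.sum_congr rfl (fun j _ => ?_)
    rw [Category.assoc, Category.assoc, hι]
  refine ⟨fun j => y.comp (Ext.mk₀ (e.hom ≫ biproduct.π g j)) (add_zero p), ?_⟩
  have hy : y = y.comp (Ext.mk₀ (𝟙 (∐ g))) (add_zero p) := by simp
  conv_lhs => rw [hy, hid, Ext.mk₀_sum, Ext.comp_sum]
  refine Finset.sum_congr rfl (fun j _ => ?_)
  rw [← Ext.mk₀_comp_mk₀, ← Ext.comp_assoc_of_third_deg_zero]

/-- a class coming from a finite sub-coproduct is a finite sum of classes from the summands. -/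
lemma finFact_of_finite_stage (Z : A) (p : ℕ) {I : Type u} (G : I → A) [HasCoproduct G]
    (S : Finset (Discrete I))
    (yS : Ext.{w} Z (∐ fun x : {x // x ∈ S} => G x.1.as) p) :
    ∃ (s : Finset I) (z : ∀ i, Ext.{w} Z (G i) p),
      yS.comp (Ext.mk₀ (Sigma.desc fun x : {x // x ∈ S} => Sigma.ι G x.1.as)) (add_zero p) =
        ∑ i ∈ s, (z i).comp (Ext.mk₀ (Sigma.ι G i)) (add_zero p) := by
  classical
  obtain ⟨z, hz⟩ := ext_eq_sum_of_fintype Z p (fun x : {x // x ∈ S} => G x.1.as) yS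
  refine ⟨S.map ⟨Discrete.as, fun a b h => Discrete.ext h⟩,
    fun i => if h : (⟨i⟩ : Discrete I) ∈ S then z ⟨⟨i⟩, h⟩ else 0, ?_⟩
  rw [hz, Ext.sum_comp, Finset.sum_map, Finset.univ_eq_attach]
  rw [← Finset.sum_attach S]
  refine Finset.sum_congr rfl (fun x _ => ?_)
  have hx : (⟨x.1.as⟩ : Discrete I) ∈ S := x.2
  rw [Ext.comp_assoc_of_third_deg_zero, Ext.mk₀_comp_mk₀, Sigma.ι_desc]
  simp only [Function.Embedding.coeFn_mk]
  rw [dif_pos hx]

end Abstract

section Site

open Groth.Agent.LD.Colim Groth.Agent.LD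
open CoproductsFromFiniteFiltered

variable {C : Type u} [SmallCategory C] [HasPullbacks C] {J : GrothendieckTopology C}
variable {B : Set C} {Cov : ∀ (U : C) (ι : Type u), (ι → Over U) → Prop}

/-- for `U` in a "quasi-compact basis", classes in `H^p(U, ∐ G)` are finite sums. -/
theorem finFact_ZU (hB : Basis J B Cov) {U : C} (hU : U ∈ B) (p : ℕ) {I : Type u}
    (G : I → Sheaf J AddCommGrpCat.{u}) :
    FinFact (SC.ZU J U) p G := by
  classical
  intro y
  let D : Finset (Discrete I) ⥤ Sheaf J AddCommGrpCat.{u} := liftToFinsetObj (Discrete.functor G)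
  have hc : IsColimit (finiteSubcoproductsCocone G) := isColimitFiniteSubproductsCocone G
  haveI := preservesColimit_extFunctorObj hB hU p D
  let Hq : Sheaf J AddCommGrpCat.{u} ⥤ AddCommGrpCat.{u} := extFunctorObj (SC.ZU J U) p
  have hc' : IsColimit (Hq.mapCocone (finiteSubcoproductsCocone G)) := isColimitOfPreserves Hq hc
  obtain ⟨S, yS, hyS⟩ := ab_exists_rep (D ⋙ Hq) hc' y
  obtain ⟨s, z, hz⟩ := finFact_of_finite_stage (SC.ZU J U) p G S yS
  refine ⟨s, z, ?_⟩
  rw [← hz, ← hyS]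
  rfl

end Site

end Groth.Agent.H6.Cpm
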