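import Groth.Agent.Lib.Helper6.Cpt1
import Groth.Agent.Lib.Helper2.DCoprod1

/-! # Splitting off the lowest term of a family of bounded below complexes, compatibly with
coproducts -/

universe w' w v u
open CategoryTheory Limits Pretriangulated DerivedCategory

namespace Groth.Agent.H6.Cpt

variable {A : Type u} [Category.{v} A] [Abelian A]

section ToSingle

variable (a : ℤ) (K : CochainComplex A ℤ) (hK : ∀ m, m < a → IsZero (K.X m))

/-- projection of a complex vanishing below `a` onto its degree `a` term -/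
noncomputable def toSingle :
    K ⟶ (HomologicalComplex.single A (ComplexShape.up ℤ) a).obj (K.X a) :=
  HomologicalComplex.mkHomToSingle (𝟙 _) (fun i hi => (hK i (by
    have : i + 1 = a := hi
    omega)).eq_of_src _ _)

lemma isIso_toSingle_f : IsIso ((toSingle a K hK).f a) := by
  rw [toSingle, HomologicalComplex.mkHomToSingle_f]
  infer_instance

instance epi_toSingle : Epi (toSingle a K hK) := by
  apply HomologicalComplex.epi_of_epi_f
  intro n
  by_cases hn : n = a
  · subst hn
    haveI := isIso_toSingle_f n K hK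
    infer_instance
  · exact epi_of_target_iso_zero _
      (HomologicalComplex.isZero_single_obj_X (ComplexShape.up ℤ) a (K.X a) n hn).isoZero

end ToSingle

/-- the canonical cofan of the values of a functor on a discrete category -/
noncomputable def colimCofan {C : Type*} [Category C] {I : Type*} (F : Discrete I ⥤ C)
    [HasColimit F] : Cofan (fun i => F.obj ⟨i⟩) :=
  Cofan.mk (colimit F) (fun i => colimit.ι F ⟨i⟩)

noncomputable def isColimitColimCofan {C : Type*} [Category C] {I : Type*}
    (F : Discrete I ⥤ C) [HasColimit F] : IsColimit (colimCofan F) :=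
  mkCofanColimit _
    (fun s => colimit.desc F ⟨s.pt, Discrete.natTrans (fun ⟨i⟩ => s.inj i)⟩)
    (fun s i => colimit.ι_desc _ _)
    (fun s m hm => by
      have h : ∀ j : Discrete I, colimit.ι F j ≫ m = colimit.ι F j ≫
          colimit.desc F ⟨s.pt, Discrete.natTrans (fun ⟨i⟩ => s.inj i)⟩ := by
        intro j
        rw [colimit.ι_desc]
        exact hm j.as
      exact colimit.hom_ext h)

section Family

variable {I : Type w} (a : ℤ) (K : I → CochainComplex A ℤ)
  (hK : ∀ i m, m < a → IsZero ((K i).X m))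

/-- the family of lowest terms, as single complexes -/
noncomputable abbrev Tfam (i : I) : CochainComplex A ℤ :=
  (HomologicalComplex.single A (ComplexShape.up ℤ) a).obj ((K i).X a)

noncomputable def pNat : Discrete.functor K ⟶ Discrete.functor (Tfam a K) :=
  Discrete.natTrans (fun ⟨i⟩ => toSingle a (K i) (hK i))

instance epi_pNat : Epi (pNat a K hK) := by
  haveI : ∀ j, Epi ((pNat a K hK).app j) := fun ⟨i⟩ => by
    dsimp [pNat]
    infer_instance
  exact NatTrans.epi_of_epi_app _

noncomputable def ses₀ : ShortComplex (Discrete I ⥤ CochainComplex A ℤ) :=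
  ShortComplex.mk (kernel.ι (pNat a K hK)) (pNat a K hK) (kernel.condition _)

lemma ses₀_shortExact : (ses₀ a K hK).ShortExact :=
  { exact := ShortComplex.exact_kernel _
    mono_f := by dsimp [ses₀]; infer_instance
    epi_g := by dsimp [ses₀]; infer_instance }

noncomputable def sesAt (i : I) : ShortComplex (CochainComplex A ℤ) :=
  (ses₀ a K hK).map ((evaluation (Discrete I) (CochainComplex A ℤ)).obj ⟨i⟩)

lemma sesAt_shortExact (i : I) : (sesAt a K hK i).ShortExact :=
  (ses₀_shortExact a K hK).map_of_exact _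

lemma isZero_sesAt_X₁ (i : I) (m : ℤ) (hm : m < a + 1) : IsZero ((sesAt a K hK i).X₁.X m) := by
  have h := (sesAt_shortExact a K hK i).map_of_exact
    (HomologicalComplex.eval A (ComplexShape.up ℤ) m)
  have hmono : Mono ((sesAt a K hK i).f.f m) := h.mono_f
  by_cases hma : m = a
  · rw [hma]
    rw [hma] at hmono
    apply IsZero.of_mono_eq_zero ((sesAt a K hK i).f.f a)
    have hz : (sesAt a K hK i).f.f a ≫ (sesAt a K hK i).g.f a = 0 := by
      rw [← HomologicalComplex.comp_f, (sesAt a K hK i).zero]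
      rfl
    haveI : IsIso ((sesAt a K hK i).g.f a) := by
      change IsIso ((toSingle a (K i) (hK i)).f a)
      exact isIso_toSingle_f a (K i) (hK i)
    rw [← cancel_mono ((sesAt a K hK i).g.f a), hz, zero_comp]
  · exact IsZero.of_mono ((sesAt a K hK i).f.f m) (hK i m (by omega))

variable [HasColimitsOfShape (Discrete I) A] [HasExactColimitsOfShape (Discrete I) A]

noncomputable def sesColim : ShortComplex (CochainComplex A ℤ) := (ses₀ a K hK).map colim

lemma sesColim_shortExact : (sesColim a K hK).ShortExact :=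
  (ses₀_shortExact a K hK).map_of_exact _

noncomputable def sesι (i : I) : sesAt a K hK i ⟶ sesColim a K hK where
  τ₁ := colimit.ι (ses₀ a K hK).X₁ (Discrete.mk i)
  τ₂ := colimit.ι (ses₀ a K hK).X₂ (Discrete.mk i)
  τ₃ := colimit.ι (ses₀ a K hK).X₃ (Discrete.mk i)
  comm₁₂ := ι_colimMap (ses₀ a K hK).f (Discrete.mk i)
  comm₂₃ := ι_colimMap (ses₀ a K hK).g (Discrete.mk i)

end Family

section Step

variable [HasDerivedCategory.{w'} A] {I : Type w} [HasColimitsOfShape (Discrete I) A]
  [HasExactColimitsOfShape (Discrete I) A]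

/-- the image under `Q` of a cofan of complexes -/
noncomputable abbrev Qc {K : I → CochainComplex A ℤ} (c : Cofan K) :
    Cofan (fun i => Q.obj (K i)) :=
  Cofan.mk (Q.obj c.pt) (fun i => Q.map (c.inj i))

omit [HasColimitsOfShape (Discrete I) A] [HasExactColimitsOfShape (Discrete I) A] in
lemma surjF_Qc_of_isColimit (Z : DerivedCategory A) {K : I → CochainComplex A ℤ}
    {c c' : Cofan K} (hc : IsColimit c) (hc' : IsColimit c') (h : SurjF Z (Qc c)) :
    SurjF Z (Qc c') := by
  let e : c.pt ≅ c'.pt := hc.coconePointUniqueUpToIso hc'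
  refine surjF_of_iso Z (fun i => Iso.refl _) (Q.mapIso e) (fun i => ?_) h
  change Q.map (c.inj i) ≫ Q.map e.hom = 𝟙 _ ≫ Q.map (c'.inj i)
  rw [Category.id_comp, ← Q.map_comp]
  congr 1
  exact IsColimit.comp_coconePointUniqueUpToIso_hom hc hc' ⟨i⟩

theorem surjF_step (Z : DerivedCategory A) (a : ℤ) (K : I → CochainComplex A ℤ)
    (hK : ∀ i m, m < a → IsZero ((K i).X m))
    (hS : ∀ (S : I → CochainComplex A ℤ), (∀ i m, m < a + 1 → IsZero ((S i).X m)) →
      ∀ (c : Cofan S), IsColimit c → SurjF Z (Qc c))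
    (hT : ∀ (F : I → A)
      (c : Cofan (fun i => (HomologicalComplex.single A (ComplexShape.up ℤ) a).obj (F i))),
      IsColimit c → SurjF Z (Qc c))
    (c : Cofan K) (hc : IsColimit c) : SurjF Z (Qc c) := by
  have hc₂ : IsColimit (colimCofan (ses₀ a K hK).X₂) := isColimitColimCofan _
  refine surjF_Qc_of_isColimit Z hc₂ hc ?_
  have h₁ := hS (fun i => (sesAt a K hK i).X₁) (isZero_sesAt_X₁ a K hK)
    (colimCofan (ses₀ a K hK).X₁) (isColimitColimCofan _)
  have h₃ := hT (fun i => (K i).X a) (colimCofan (ses₀ a K hK).X₃) (isColimitColimCofan _)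
  have hD₁ : IsColimit (Qc (colimCofan (ses₀ a K hK).X₁)) :=
    Groth.Agent.H2.DCoprod.isColimitMapCofan (isColimitColimCofan _)
  obtain ⟨r, hr, hr'⟩ := exists_retractions hD₁
  have h₁' : InjF Z (Cofan.mk ((Qc (colimCofan (ses₀ a K hK).X₁)).pt⟦(1 : ℤ)⟧)
      (fun i => ((Qc (colimCofan (ses₀ a K hK).X₁)).inj i)⟦(1 : ℤ)⟧')) := by
    refine injF_of_retractions Z _ (fun j => (r j)⟦(1 : ℤ)⟧') ?_ ?_
    · intro j
      change ((Qc (colimCofan (ses₀ a K hK).X₁)).inj j)⟦(1 : ℤ)⟧' ≫ (r j)⟦(1 : ℤ)⟧' = 𝟙 _
      rw [← Functor.map_comp, hr, CategoryTheory.Functor.map_id]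
    · intro i j hij
      change ((Qc (colimCofan (ses₀ a K hK).X₁)).inj i)⟦(1 : ℤ)⟧' ≫ (r j)⟦(1 : ℤ)⟧' = 0
      rw [← Functor.map_comp, hr' i j hij, Functor.map_zero]
  exact surjF_of_triangles Z (Qc (colimCofan (ses₀ a K hK).X₁))
    (Qc (colimCofan (ses₀ a K hK).X₂)) (Qc (colimCofan (ses₀ a K hK).X₃))
    (fun i => Q.map (sesAt a K hK i).f) (fun i => Q.map (sesAt a K hK i).g)
    (fun i => triangleOfSESδ (sesAt_shortExact a K hK i))
    (fun i => triangleOfSES_distinguished (sesAt_shortExact a K hK i))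
    (Q.map (sesColim a K hK).f) (Q.map (sesColim a K hK).g)
    (triangleOfSESδ (sesColim_shortExact a K hK))
    (triangleOfSES_distinguished (sesColim_shortExact a K hK))
    (fun i => by
      change Q.map (sesι a K hK i).τ₁ ≫ Q.map (sesColim a K hK).f =
        Q.map (sesAt a K hK i).f ≫ Q.map (sesι a K hK i).τ₂
      rw [← Q.map_comp, ← Q.map_comp, (sesι a K hK i).comm₁₂])
    (fun i => by
      change Q.map (sesι a K hK i).τ₂ ≫ Q.map (sesColim a K hK).g =
        Q.map (sesAt a K hK i).g ≫ Q.map (sesι a K hK i).τ₃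
      rw [← Q.map_comp, ← Q.map_comp, (sesι a K hK i).comm₂₃])
    (fun i => (triangleOfSESδ_naturality (sesAt_shortExact a K hK i)
      (sesColim_shortExact a K hK) (sesι a K hK i)).symm)
    h₁ h₃ h₁'

end Step

end Groth.Agent.H6.Cpt
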