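import Groth.Agent.Lib.Helper6.MD0
import Groth.Agent.Lib.Lead.RP.ToAb
import Groth.Agent.Lib.Helper1.SheafOfModulesGrothendieck

/-! # `Ext^k(j_{U!}O_U, F)` vanishes as soon as `H^k(U, F)` (cohomology of the underlying abelian
sheaf) does -/

universe u
open CategoryTheory Limits Opposite Abelian

namespace Groth.Agent.H6.MD

open Groth.Agent.LD.SC

variable {C : Type u} [SmallCategory C] {J : GrothendieckTopology C} {O : Sheaf J CommRingCat.{u}}

section Abstract

variable {A : Type*} [Category A] [Abelian A] [HasExt A]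

lemma ext_eq_zero_of_ses {S : ShortComplex A} (hS : S.ShortExact) (X : A) (k : ℕ)
    (h2 : ∀ x : Ext X S.X₂ (k + 1), x = 0) (h3 : ∀ x : Ext X S.X₃ k, x = 0)
    (x : Ext X S.X₁ (k + 1)) : x = 0 := by
  obtain ⟨x₃, rfl⟩ := Ext.covariant_sequence_exact₁ X hS x (h2 _) rfl
  rw [h3 x₃, Ext.zero_comp]

lemma ext_eq_zero_of_ses' {S : ShortComplex A} (hS : S.ShortExact) (X : A) (k : ℕ)
    (h2 : ∀ x : Ext X S.X₂ k, x = 0) (h1 : ∀ x : Ext X S.X₁ (k + 1), x = 0)
    (x : Ext X S.X₃ k) : x = 0 := by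
  obtain ⟨x₂, rfl⟩ := Ext.covariant_sequence_exact₃ X hS x rfl (h1 _)
  rw [h2 x₂, Ext.zero_comp]

end Abstract

/-- the standard short exact sequence `0 → F → I → Q → 0` with `I` injective -/
noncomputable def injSES [EnoughInjectives (ModSite.Mod O)] (F : ModSite.Mod O) :
    ShortComplex (ModSite.Mod O) :=
  ShortComplex.mk (Injective.ι F) (cokernel.π (Injective.ι F)) (cokernel.condition _)

lemma injSES_shortExact [EnoughInjectives (ModSite.Mod O)] (F : ModSite.Mod O) :
    (injSES F).ShortExact where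
  exact := ShortComplex.exact_of_g_is_cokernel _ (cokernelIsCokernel _)
  mono_f := inferInstanceAs (Mono (Injective.ι F))
  epi_g := inferInstanceAs (Epi (cokernel.π (Injective.ι F)))

instance [EnoughInjectives (ModSite.Mod O)] (F : ModSite.Mod O) : Injective (injSES F).X₂ :=
  inferInstanceAs (Injective (Injective.under F))

lemma isTF_ZU (Y : C) : Groth.Agent.LD.KT.IsTF (ZU J Y) :=
  Groth.Agent.LD.KT.isTF_ZR (yoneda.obj Y)

variable [HasExt.{u} (ModSite.Mod O)] [EnoughInjectives (ModSite.Mod O)]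

theorem ext_FO_eq_zero (Y : C) : ∀ (k : ℕ) (F : ModSite.Mod O),
    (∀ y : Ext.{u} (ZU J Y) ((τ O).obj F) (k + 1), y = 0) →
    ∀ x : Ext.{u} (FO O Y) F (k + 1), x = 0 := by
  intro k
  induction k with
  | zero =>
    intro F hF x
    have hS := injSES_shortExact F
    have hS' : ((injSES F).map (τ O)).ShortExact := hS.map_of_exact (τ O)
    obtain ⟨x₃, rfl⟩ := Ext.covariant_sequence_exact₁ (FO O Y) hS x
      (Ext.eq_zero_of_injective _) rfl
    obtain ⟨φ, rfl⟩ := (Ext.mk₀_bijective _ _).2 x₃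
    -- the corresponding section of `Q` lifts to `I`
    let ψ : ZU J Y ⟶ (τ O).obj (injSES F).X₃ := (homEquiv Y _).symm (hE Y _ φ)
    obtain ⟨y₂, hy₂⟩ := Ext.covariant_sequence_exact₃ (ZU J Y) hS' (Ext.mk₀ ψ) rfl (hF _)
    obtain ⟨χ, hχ0⟩ : ∃ χ : ZU J Y ⟶ (τ O).obj (injSES F).X₂, Ext.mk₀ χ = y₂ :=
      (Ext.mk₀_bijective _ _).2 y₂
    have hχ : χ ≫ (τ O).map (injSES F).g = ψ := by
      apply (Ext.mk₀_bijective _ _).1
      refine Eq.trans ?_ hy₂
      rw [← hχ0]
      exact (Ext.mk₀_comp_mk₀ χ ((τ O).map (injSES F).g)).symm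
    let φ' : FO O Y ⟶ (injSES F).X₂ := (hE Y _).symm (homEquiv Y _ χ)
    have hφ' : φ' ≫ (injSES F).g = φ := by
      apply (hE Y _).injective
      rw [hE_comp, Equiv.apply_symm_apply, ← homEquiv_comp, hχ, Equiv.apply_symm_apply]
    have h1 : (Ext.mk₀ φ).comp hS.extClass (zero_add 1) = 0 := by
      rw [← hφ', ← Ext.mk₀_comp_mk₀, Ext.comp_assoc_of_second_deg_zero, hS.comp_extClass,
        Ext.comp_zero]
    exact h1
  | succ k ih =>
    intro F hF x
    have hS := injSES_shortExact F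
    have hS' : ((injSES F).map (τ O)).ShortExact := hS.map_of_exact (τ O)
    refine ext_eq_zero_of_ses hS (FO O Y) (k + 1) (fun x => Ext.eq_zero_of_injective _) ?_ x
    apply ih
    intro y
    refine ext_eq_zero_of_ses' hS' (ZU J Y) (k + 1) (fun y₂ => ?_) hF y
    haveI := Groth.Agent.LD.RP.subsingleton_ext_toAb_of_injective O (injSES F).X₂ (ZU J Y)
      (isTF_ZU Y) k
    exact Subsingleton.elim (α := Ext.{u} (ZU J Y) (ModSite.toAb (injSES F).X₂) (k + 1)) _ _

end Groth.Agent.H6.MD
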