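import Groth.Agent.Lib.Helper6.Cpm1
import Groth.Agent.Lib.Helper6.MD3
import Groth.Agent.Lib.Helper6.Cpt2
import Groth.Agent.S12450

/-! # Ext classes from `j_{U!}O_U` into a coproduct of modules are finite sums -/

universe w v u
open CategoryTheory Limits Abelian Opposite

namespace Groth.Agent.H6.Cpm

section Abstract

variable {A : Type v} [Category.{u} A] [Abelian A] [HasExt.{w} A]

/-- the cofan version of `FinFact`. -/
def FinFactC (Z : A) (p : ℕ) {I : Type*} {G : I → A} (c : Cofan G) : Prop :=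
  ∀ y : Ext.{w} Z c.pt p, ∃ (s : Finset I) (z : ∀ i, Ext.{w} Z (G i) p),
    y = ∑ i ∈ s, (z i).comp (Ext.mk₀ (c.inj i)) (add_zero p)

lemma ext_sum_comp {X Y Z : A} {p q n : ℕ} {ι : Type*} (s : Finset ι) (a : ι → Ext.{w} X Y p)
    (β : Ext.{w} Y Z q) (h : p + q = n) :
    (∑ i ∈ s, a i).comp β h = ∑ i ∈ s, (a i).comp β h :=
  map_sum (β.postcomp X h) a s

lemma mk₀_finset_sum {X Y : A} {ι : Type*} (s : Finset ι) (f : ι → (X ⟶ Y)) :
    Ext.mk₀.{w} (∑ i ∈ s, f i) = ∑ i ∈ s, Ext.mk₀ (f i) :=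
  map_sum (Ext.addEquiv₀.{w} (X := X) (Y := Y)).symm f s

lemma finFactC_of_isColimit (Z : A) (p : ℕ) {I : Type*} {G : I → A} {c c' : Cofan G}
    (hc : IsColimit c) (hc' : IsColimit c') (h : FinFactC Z p c) : FinFactC Z p c' := by
  intro y'
  let e : c.pt ≅ c'.pt := hc.coconePointUniqueUpToIso hc'
  have he : ∀ i, c.inj i ≫ e.hom = c'.inj i := fun i =>
    IsColimit.comp_coconePointUniqueUpToIso_hom hc hc' ⟨i⟩
  obtain ⟨s, z, hz⟩ := h (y'.comp (Ext.mk₀ e.inv) (add_zero p))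
  refine ⟨s, z, ?_⟩
  have h1 : y' = (y'.comp (Ext.mk₀ e.inv) (add_zero p)).comp (Ext.mk₀ e.hom) (add_zero p) := by
    rw [Ext.comp_assoc_of_third_deg_zero, Ext.mk₀_comp_mk₀, e.inv_hom_id, Ext.comp_mk₀_id]
  rw [h1, hz, ext_sum_comp]
  refine Finset.sum_congr rfl (fun i _ => ?_)
  rw [Ext.comp_assoc_of_third_deg_zero, Ext.mk₀_comp_mk₀, he]

lemma finFactC_of_finFact (Z : A) (p : ℕ) {I : Type*} (G : I → A) [HasCoproduct G]
    (h : FinFact Z p G) : FinFactC Z p (Cofan.mk (∐ G) (Sigma.ι G)) := h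

end Abstract

section ModO

open Groth.Agent.H6.MD Groth.Agent.LD.SC Groth.Agent.LD.Colim Groth.Agent.LD

variable {C : Type u} [SmallCategory C] [HasPullbacks C] {J : GrothendieckTopology C}
  {O : Sheaf J CommRingCat.{u}}
variable {B : Set C} {Cov : ∀ (U : C) (ι : Type u), (ι → Over U) → Prop}

/-- maps from `j_{U!}O_U` into a coproduct of modules are finite sums of maps into the summands. -/
theorem hom_FO_eq_sum (hB : Basis J B Cov) {U : C} (hU : U ∈ B) {I : Type u}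
    (F : I → ModSite.Mod O) (y : FO O U ⟶ ∐ F) :
    ∃ (s : Finset I) (x : ∀ i, FO O U ⟶ F i), y = ∑ i ∈ s, x i ≫ Sigma.ι F i := by
  haveI : PreservesColimitsOfSize.{u, u} (τ O) := Groth.Agent.S12450.result O
  let e : (τ O).obj (∐ F) ≅ ∐ fun i => (τ O).obj (F i) := PreservesCoproduct.iso (τ O) F
  have he : ∀ i, Sigma.ι (fun i => (τ O).obj (F i)) i ≫ e.inv = (τ O).map (Sigma.ι F i) :=
    fun i => by
      rw [PreservesCoproduct.inv_hom]
      exact ι_comp_sigmaComparison (τ O) F i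
  let ψ : ZU J U ⟶ (τ O).obj (∐ F) := (homEquiv U _).symm (hE U _ y)
  obtain ⟨s, z, hz⟩ := finFact_ZU hB hU 0 (fun i => (τ O).obj (F i)) (Ext.mk₀ (ψ ≫ e.hom))
  choose ζ hζ using fun i => (Ext.mk₀_bijective _ _).2 (z i)
  have h1 : ψ ≫ e.hom = ∑ i ∈ s, ζ i ≫ Sigma.ι (fun i => (τ O).obj (F i)) i := by
    apply (Ext.mk₀_bijective _ _).1
    rw [hz, mk₀_finset_sum]
    refine Finset.sum_congr rfl (fun i _ => ?_)
    rw [← hζ i, Ext.mk₀_comp_mk₀]
  have h2 : ψ = ∑ i ∈ s, ζ i ≫ (τ O).map (Sigma.ι F i) := by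
    have : ψ = (ψ ≫ e.hom) ≫ e.inv := by rw [Category.assoc, e.hom_inv_id, Category.comp_id]
    rw [this, h1, Preadditive.sum_comp]
    refine Finset.sum_congr rfl (fun i _ => ?_)
    rw [Category.assoc, he]
  refine ⟨s, fun i => (hE U (F i)).symm (homEquiv U _ (ζ i)), ?_⟩
  apply (hE U _).injective
  have h3 : hE U (∐ F) y = homEquiv U _ ψ := ((homEquiv U _).apply_symm_apply _).symm
  have h4 : homEquiv U _ (∑ i ∈ s, ζ i ≫ (τ O).map (Sigma.ι F i)) =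
      ∑ i ∈ s, homEquiv U _ (ζ i ≫ (τ O).map (Sigma.ι F i)) :=
    map_sum (homAddEquiv U ((τ O).obj (∐ F))) _ s
  have h5 : hE U (∐ F) (∑ i ∈ s, (hE U (F i)).symm (homEquiv U _ (ζ i)) ≫ Sigma.ι F i) =
      ∑ i ∈ s, hE U (∐ F) ((hE U (F i)).symm (homEquiv U _ (ζ i)) ≫ Sigma.ι F i) :=
    map_sum (hAE U (∐ F)) _ s
  rw [h3, h2, h4, h5]
  refine Finset.sum_congr rfl (fun i _ => ?_)
  rw [hE_comp, Equiv.apply_symm_apply, homEquiv_comp]

end ModO

end Groth.Agent.H6.Cpm
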