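import Groth.Agent.Lib.Helper6.Cpm2

/-! # Ext classes from `j_{U!}O_U` into a coproduct of modules are finite sums: induction -/

universe u
open CategoryTheory Limits Abelian Opposite

namespace Groth.Agent.H6.Cpm

open Groth.Agent.H6.MD Groth.Agent.H6.Cpt Groth.Agent.LD.SC Groth.Agent.LD.Colim Groth.Agent.LD

variable {C : Type u} [SmallCategory C] [HasPullbacks C] {J : GrothendieckTopology C}
  {O : Sheaf J CommRingCat.{u}}
variable {B : Set C} {Cov : ∀ (U : C) (ι : Type u), (ι → Over U) → Prop}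

attribute [local instance] Groth.Agent.H1.sheafOfModules_isGrothendieckAbelian

instance ab4_mod : AB4OfSize.{u} (ModSite.Mod O) :=
  haveI := Abelian.hasFiniteBiproducts (C := ModSite.Mod O)
  AB4.of_AB5 _

section Family

variable {I : Type u} (F : I → ModSite.Mod O)

/-- the family of injective hulls. -/
noncomputable abbrev Ifam (i : I) : ModSite.Mod O := Injective.under (F i)

noncomputable def fNat : Discrete.functor F ⟶ Discrete.functor (Ifam F) :=
  Discrete.natTrans (fun ⟨i⟩ => Injective.ι (F i))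

instance mono_fNat : Mono (fNat F) := by
  haveI : ∀ j, Mono ((fNat F).app j) := fun ⟨i⟩ => by
    dsimp [fNat]
    infer_instance
  exact NatTrans.mono_of_mono_app _

noncomputable def ses₀ : ShortComplex (Discrete I ⥤ ModSite.Mod O) :=
  ShortComplex.mk (fNat F) (cokernel.π (fNat F)) (cokernel.condition _)

lemma ses₀_shortExact : (ses₀ F).ShortExact :=
  { exact := ShortComplex.exact_cokernel _
    mono_f := by dsimp [ses₀]; infer_instance
    epi_g := by dsimp [ses₀]; infer_instance }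

noncomputable def sesAt (i : I) : ShortComplex (ModSite.Mod O) :=
  (ses₀ F).map ((evaluation (Discrete I) (ModSite.Mod O)).obj ⟨i⟩)

lemma sesAt_shortExact (i : I) : (sesAt F i).ShortExact :=
  (ses₀_shortExact F).map_of_exact _

instance injective_sesAt_X₂ (i : I) : Injective (sesAt F i).X₂ :=
  inferInstanceAs (Injective (Injective.under (F i)))

noncomputable def sesColim : ShortComplex (ModSite.Mod O) := (ses₀ F).map colim

lemma sesColim_shortExact : (sesColim F).ShortExact :=
  (ses₀_shortExact F).map_of_exact _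

noncomputable def sesι (i : I) : sesAt F i ⟶ sesColim F where
  τ₁ := colimit.ι (ses₀ F).X₁ (Discrete.mk i)
  τ₂ := colimit.ι (ses₀ F).X₂ (Discrete.mk i)
  τ₃ := colimit.ι (ses₀ F).X₃ (Discrete.mk i)
  comm₁₂ := ι_colimMap (ses₀ F).f (Discrete.mk i)
  comm₂₃ := ι_colimMap (ses₀ F).g (Discrete.mk i)

end Family

variable [HasExt.{u} (ModSite.Mod O)]

/-- vanishing of `Ext^{p+1}(j_{U!}O_U, ∐ I_i)` for injective `I_i`. -/
theorem ext_FO_coprod_injective_eq_zero (hB : Basis J B Cov) {U : C} (hU : U ∈ B) (p : ℕ)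
    {I : Type u} (G : I → ModSite.Mod O) [∀ i, Injective (G i)]
    (x : Ext.{u} (FO O U) (∐ G) (p + 1)) : x = 0 := by
  haveI : PreservesColimitsOfSize.{u, u} (τ O) := Groth.Agent.S12450.result O
  let e : (τ O).obj (∐ G) ≅ ∐ fun i => (τ O).obj (G i) := PreservesCoproduct.iso (τ O) G
  refine ext_FO_eq_zero U p (∐ G) (fun y => ?_) x
  have h1 : y = (y.comp (Ext.mk₀ e.hom) (add_zero _)).comp (Ext.mk₀ e.inv) (add_zero _) := by
    rw [Ext.comp_assoc_of_third_deg_zero, Ext.mk₀_comp_mk₀, e.hom_inv_id, Ext.comp_mk₀_id]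
  obtain ⟨s, z, hz⟩ := finFact_ZU hB hU (p + 1) (fun i => (τ O).obj (G i))
    (y.comp (Ext.mk₀ e.hom) (add_zero _))
  have hz0 : ∀ i, z i = 0 := fun i => by
    haveI := Groth.Agent.LD.RP.subsingleton_ext_toAb_of_injective O (G i) (ZU J U) (isTF_ZU U) p
    exact Subsingleton.elim (α := Ext.{u} (ZU J U) (ModSite.toAb (G i)) (p + 1)) _ _
  rw [h1, hz]
  have : ∑ i ∈ s, (z i).comp (Ext.mk₀ (Sigma.ι (fun i => (τ O).obj (G i)) i)) (add_zero (p + 1)) =
      0 := Finset.sum_eq_zero (fun i _ => by rw [hz0 i, Ext.zero_comp])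
  rw [this, Ext.zero_comp]

theorem finFactC_FO (hB : Basis J B Cov) {U : C} (hU : U ∈ B) :
    ∀ (p : ℕ) {I : Type u} (F : I → ModSite.Mod O) (c : Cofan F), IsColimit c →
      FinFactC (FO O U) p c := by
  intro p
  induction p with
  | zero =>
    intro I F c hc
    refine finFactC_of_isColimit (FO O U) 0 (coproductIsCoproduct F) hc ?_
    intro y
    obtain ⟨φ, rfl⟩ := (Ext.mk₀_bijective _ _).2 y
    obtain ⟨s, x, hx⟩ := hom_FO_eq_sum hB hU F φ
    refine ⟨s, fun i => Ext.mk₀ (x i), ?_⟩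
    have hx' : φ = ∑ i ∈ s, x i ≫ Sigma.ι F i := hx
    rw [hx', mk₀_finset_sum]
    refine Finset.sum_congr rfl (fun i _ => ?_)
    rw [Ext.mk₀_comp_mk₀]
    rfl
  | succ p ih =>
    intro I F c hc
    let c₁ : Cofan F := colimCofan (ses₀ F).X₁
    have hc₁ : IsColimit c₁ := isColimitColimCofan (ses₀ F).X₁
    refine finFactC_of_isColimit (FO O U) (p + 1) hc₁ hc ?_
    intro y
    have hS := sesColim_shortExact F
    have hvan : ∀ x : Ext.{u} (FO O U) (sesColim F).X₂ (p + 1), x = 0 := fun x =>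
      ext_FO_coprod_injective_eq_zero hB hU p (Ifam F) x
    obtain ⟨w, hw⟩ := Ext.covariant_sequence_exact₁ (FO O U) hS y (hvan _) rfl
    obtain ⟨s, z, hz⟩ := ih (fun i => (sesAt F i).X₃) (colimCofan (ses₀ F).X₃)
      (isColimitColimCofan _) w
    refine ⟨s, fun i => (z i).comp (sesAt_shortExact F i).extClass rfl, ?_⟩
    have h1 : y = (∑ i ∈ s, (z i).comp (Ext.mk₀ ((colimCofan (ses₀ F).X₃).inj i))
        (add_zero p)).comp hS.extClass rfl :=
      hw.symm.trans (congrArg (fun t => t.comp hS.extClass (rfl : p + 1 = p + 1)) hz)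
    refine h1.trans ((ext_sum_comp s _ hS.extClass rfl).trans ?_)
    refine Finset.sum_congr rfl (fun i _ => ?_)
    exact pc_extClass (sesAt_shortExact F i) hS (sesι F i) (z i)

end Groth.Agent.H6.Cpm
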