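import Groth.Agent.Lib.Helper6.Cpt3
import Groth.Statements.S0936

/-! # `ℤ_U[0]` is compact with respect to uniformly bounded below direct sums -/

universe u
open CategoryTheory Limits DerivedCategory Abelian Opposite

namespace Groth.Agent.H6.Cpt

open Groth.Agent.LD.SC

variable {C : Type u} [SmallCategory C] {J : GrothendieckTopology C}
  [HasDerivedCategory.{u} (Sheaf J AddCommGrpCat.{u})]

lemma isZero_X_of_isColimit {A : Type*} [Category A] [Abelian A] {I : Type*}
    [HasColimitsOfShape (Discrete I) A]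
    {K : I → CochainComplex A ℤ} {c : Cofan K} (hc : IsColimit c) (m : ℤ)
    (h : ∀ i, IsZero ((K i).X m)) : IsZero (c.pt.X m) := by
  rw [IsZero.iff_id_eq_zero]
  exact Groth.Agent.H2.CoprodCx.hom_ext_degree hc (fun j => (h j).eq_of_src _ _)

theorem surjF_of_bound (U : C)
    (h : ∀ (p : ℕ) (I : Type u),
      PreservesColimitsOfShape (Discrete I) (extFunctorObj.{u} (ZU J U) p)) {I : Type u} :
    ∀ (n : ℕ) (K : I → CochainComplex (Sheaf J AddCommGrpCat.{u}) ℤ),
      (∀ i m, m < 1 - (n : ℤ) → IsZero ((K i).X m)) → ∀ (c : Cofan K), IsColimit c →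
        SurjF ((singleFunctor (Sheaf J AddCommGrpCat.{u}) 0).obj (ZU J U)) (Qc c) := by
  intro n
  induction n with
  | zero =>
    intro K hK c hc
    apply surjF_of_subsingleton
    haveI : c.pt.IsStrictlyGE 1 := by
      rw [CochainComplex.isStrictlyGE_iff]
      intro m hm
      exact isZero_X_of_isColimit hc m (fun i => hK i m (by simpa using hm))
    change Subsingleton (Q.obj ((HomologicalComplex.single (Sheaf J AddCommGrpCat.{u})
      (ComplexShape.up ℤ) 0).obj (ZU J U)) ⟶ Q.obj c.pt)
    exact subsingleton_hom_of_isStrictlyLE_of_isStrictlyGE _ _ 0 1 (by omega)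
  | succ n ih =>
    intro K hK c hc
    haveI := h n I
    refine surjF_step _ (-(n : ℤ)) K (fun i m hm => hK i m (by push_cast; omega))
      (fun S hS c' hc' => ih S (fun i m hm => hS i m (by omega)) c' hc')
      (fun F c' hc' => surjF_single U n (-(n : ℤ)) (by omega) F c' hc') c hc

theorem main (U : C)
    (h : ∀ (p : ℕ) (ι : Type u), PreservesColimitsOfShape (Discrete ι)
      ((Sheaf.cohomologyPresheafFunctor J p).flip.obj (op U)))
    {I : Type u} (M : I → DerivedCategory (Sheaf J AddCommGrpCat.{u})) [HasCoproduct M] (a : ℤ)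
    (hM : ∀ i, (M i).IsGE a) :
    Function.Bijective (CohDer.homSumToHomCoprod
      ((DerivedCategory.singleFunctor (Sheaf J AddCommGrpCat.{u}) 0).obj (CohCx.freeSheaf J U))
      M) := by
  apply bijective_homSumToHomCoprod
  have hex : ∀ i, ∃ (K : CochainComplex (Sheaf J AddCommGrpCat.{u}) ℤ) (_ : K.IsStrictlyGE a),
      Nonempty (M i ≅ Q.obj K) := fun i => DerivedCategory.exists_iso_Q_obj_of_isGE (M i) a
  choose K hKs e using hex
  let e' : ∀ i, M i ≅ Q.obj (K i) := fun i => (e i).some
  have h' : ∀ (p : ℕ) (I : Type u),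
      PreservesColimitsOfShape (Discrete I) (extFunctorObj.{u} (ZU J U) p) := fun p I => h p I
  have hc := coproductIsCoproduct K
  have hS := surjF_of_bound U h' (1 - a).toNat K (fun i m hm => by
    haveI := hKs i
    exact (K i).isZero_of_isStrictlyGE a m (by omega)) _ hc
  have hD : IsColimit (Qc (Cofan.mk (∐ K) (Sigma.ι K))) :=
    Groth.Agent.H2.DCoprod.isColimitMapCofan hc
  let w : Discrete.functor (fun i => Q.obj (K i)) ≅ Discrete.functor M :=
    Discrete.natIso (fun i => (e' i.as).symm)
  refine surjF_of_iso _ (fun i => (e' i).symm)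
    (IsColimit.coconePointsIsoOfNatIso hD (coproductIsCoproduct M) w) (fun i => ?_) hS
  exact IsColimit.comp_coconePointsIsoOfNatIso_hom hD (coproductIsCoproduct M) w ⟨i⟩

end Groth.Agent.H6.Cpt
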