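import Groth.Agent.Lib.Helper6.Cpm3
import Groth.Agent.Lib.Helper6.Cpt4

/-! # `j_{U!}O_U[0]` is compact with respect to uniformly bounded below direct sums -/

universe w u
open CategoryTheory Limits DerivedCategory Abelian Opposite

namespace Groth.Agent.H6.Cpm

open Groth.Agent.H6.MD Groth.Agent.H6.Cpt Groth.Agent.LD.SC Groth.Agent.LD.Colim Groth.Agent.LD

section Generic

variable {A : Type*} [Category A] [Abelian A] [HasDerivedCategory.{w} A]

/-- comparison isomorphism `G[0][p] ≅ Q (G placed in degree a)` for `p + a = 0` -/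
noncomputable def phiIso' (p : ℕ) (a : ℤ) (hpa : (p : ℤ) + a = 0) (G : A) :
    ((singleFunctor A 0).obj G)⟦(p : ℤ)⟧ ≅
      Q.obj ((HomologicalComplex.single A (ComplexShape.up ℤ) a).obj G) :=
  ((singleFunctors A).shiftIso (p : ℤ) a 0 hpa).app G ≪≫ (singleFunctorIsoCompQ A a).app G

lemma phiIso'_naturality (p : ℕ) (a : ℤ) (hpa : (p : ℤ) + a = 0) {G G' : A} (g : G ⟶ G') :
    ((singleFunctor A 0).map g)⟦(p : ℤ)⟧' ≫ (phiIso' p a hpa G').hom =
      (phiIso' p a hpa G).hom ≫
        Q.map ((HomologicalComplex.single A (ComplexShape.up ℤ) a).map g) := by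
  have h1 := ((singleFunctors A).shiftIso (p : ℤ) a 0 hpa).hom.naturality g
  have h2 := (singleFunctorIsoCompQ A a).hom.naturality g
  exact (Category.assoc _ _ _).symm.trans
    ((congrArg (fun t => t ≫ (singleFunctorIsoCompQ A a).hom.app G') h1).trans
      ((Category.assoc _ _ _).trans
        ((congrArg (fun t => ((singleFunctors A).shiftIso (p : ℤ) a 0 hpa).hom.app G ≫ t) h2).trans
          (Category.assoc _ _ _).symm)))

end Generic

variable {C : Type u} [SmallCategory C] [HasPullbacks C] {J : GrothendieckTopology C}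
  {O : Sheaf J CommRingCat.{u}}
variable {B : Set C} {Cov : ∀ (U : C) (ι : Type u), (ι → Over U) → Prop}

attribute [local instance] Groth.Agent.H1.sheafOfModules_isGrothendieckAbelian

section W

variable [HasDerivedCategory.{w} (ModSite.Mod O)]

theorem surjF_single_mod (hB : Basis J B Cov) {U : C} (hU : U ∈ B) (p : ℕ) (a : ℤ)
    (hpa : (p : ℤ) + a = 0) {I : Type u} (F : I → ModSite.Mod O)
    (c : Cofan (fun i => (HomologicalComplex.single (ModSite.Mod O)
      (ComplexShape.up ℤ) a).obj (F i)))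
    (hc : IsColimit c) :
    SurjF ((singleFunctor (ModSite.Mod O) 0).obj (FO O U)) (Qc c) := by
  haveI : HasExt.{u} (ModSite.Mod O) := hasExt_of_enoughInjectives _
  have hc₀ : IsColimit (Cofan.mk ((HomologicalComplex.single (ModSite.Mod O)
      (ComplexShape.up ℤ) a).obj (∐ F))
      (fun i => (HomologicalComplex.single (ModSite.Mod O)
        (ComplexShape.up ℤ) a).map (Sigma.ι F i))) :=
    isColimitCofanMkObjOfIsColimit _ _ _ (coproductIsCoproduct F)
  refine surjF_Qc_of_isColimit _ hc₀ hc ?_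
  intro y
  -- transport to Ext
  let x : Ext.{u} (FO O U) (∐ F) p := Ext.homEquiv.symm (y ≫ (phiIso' p a hpa (∐ F)).inv)
  have hx : x.hom ≫ (phiIso' p a hpa (∐ F)).hom = y := by
    change Ext.homEquiv x ≫ _ = y
    rw [Equiv.apply_symm_apply, Category.assoc, Iso.inv_hom_id, Category.comp_id]
  obtain ⟨s, z, hz⟩ := finFactC_FO hB hU p F (Cofan.mk (∐ F) (Sigma.ι F))
    (coproductIsCoproduct F) x
  refine ⟨s, fun i => (z i : Ext.{u} (FO O U) (F i) p).hom ≫ (phiIso' p a hpa (F i)).hom, ?_⟩
  have hz' : x = ∑ i ∈ s, (z i : Ext.{u} (FO O U) (F i) p).comp (Ext.mk₀ (Sigma.ι F i))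
      (add_zero p) := hz
  rw [← hx, hz']
  have hsum : (∑ i ∈ s, (z i : Ext.{u} (FO O U) (F i) p).comp (Ext.mk₀ (Sigma.ι F i))
      (add_zero p)).hom = ∑ i ∈ s, ((z i : Ext.{u} (FO O U) (F i) p).comp
        (Ext.mk₀ (Sigma.ι F i)) (add_zero p)).hom :=
    map_sum (Ext.homAddEquiv (X := FO O U) (Y := ∐ F) (n := p)) _ s
  rw [hsum, Preadditive.sum_comp]
  refine Finset.sum_congr rfl (fun i _ => ?_)
  change _ = ((z i : Ext.{u} (FO O U) (F i) p).hom ≫ (phiIso' p a hpa (F i)).hom) ≫
    Q.map ((HomologicalComplex.single (ModSite.Mod O) (ComplexShape.up ℤ) a).map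
      (Sigma.ι F i))
  rw [Category.assoc, ← phiIso'_naturality, Ext.comp_hom, Ext.mk₀_hom, ShiftedHom.comp_mk₀,
    Category.assoc]

theorem surjF_of_bound_mod (hB : Basis J B Cov) {U : C} (hU : U ∈ B) {I : Type u} :
    ∀ (n : ℕ) (K : I → CochainComplex (ModSite.Mod O) ℤ),
      (∀ i m, m < 1 - (n : ℤ) → IsZero ((K i).X m)) → ∀ (c : Cofan K), IsColimit c →
        SurjF ((singleFunctor (ModSite.Mod O) 0).obj (FO O U)) (Qc c) := by
  intro n
  induction n with
  | zero =>
    intro K hK c hc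
    apply surjF_of_subsingleton
    haveI : c.pt.IsStrictlyGE 1 := by
      rw [CochainComplex.isStrictlyGE_iff]
      intro m hm
      exact isZero_X_of_isColimit hc m (fun i => hK i m (by simpa using hm))
    change Subsingleton (Q.obj ((HomologicalComplex.single (ModSite.Mod O)
      (ComplexShape.up ℤ) 0).obj (FO O U)) ⟶ Q.obj c.pt)
    exact subsingleton_hom_of_isStrictlyLE_of_isStrictlyGE _ _ 0 1 (by omega)
  | succ n ih =>
    intro K hK c hc
    refine surjF_step _ (-(n : ℤ)) K (fun i m hm => hK i m (by push_cast; omega))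
      (fun S hS c' hc' => ih S (fun i m hm => hS i m (by omega)) c' hc')
      (fun F c' hc' => surjF_single_mod hB hU n (-(n : ℤ)) (by omega) F c' hc') c hc

end W

variable [HasDerivedCategory.{u} (ModSite.Mod O)]

theorem main9047 (hB : Basis J B Cov) {U : C} (hU : U ∈ B)
    {I : Type u} (M : I → DerivedCategory (ModSite.Mod O)) [HasCoproduct M] (a : ℤ)
    (hM : ∀ i, (M i).IsGE a) :
    Function.Bijective (CohDer.homSumToHomCoprod
      ((DerivedCategory.singleFunctor (ModSite.Mod O) 0).obj (ModSite.freeOn O U)) M) := by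
  apply bijective_homSumToHomCoprod
  have hex : ∀ i, ∃ (K : CochainComplex (ModSite.Mod O) ℤ) (_ : K.IsStrictlyGE a),
      Nonempty (M i ≅ Q.obj K) := fun i => DerivedCategory.exists_iso_Q_obj_of_isGE (M i) a
  choose K hKs e using hex
  let e' : ∀ i, M i ≅ Q.obj (K i) := fun i => (e i).some
  have hc := coproductIsCoproduct K
  have hS := surjF_of_bound_mod hB hU (1 - a).toNat K (fun i m hm => by
    haveI := hKs i
    exact (K i).isZero_of_isStrictlyGE a m (by omega)) _ hc
  have hD : IsColimit (Qc (Cofan.mk (∐ K) (Sigma.ι K))) :=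
    Groth.Agent.H2.DCoprod.isColimitMapCofan hc
  let w : Discrete.functor (fun i => Q.obj (K i)) ≅ Discrete.functor M :=
    Discrete.natIso (fun i => (e' i.as).symm)
  refine surjF_of_iso _ (fun i => (e' i).symm)
    (IsColimit.coconePointsIsoOfNatIso hD (coproductIsCoproduct M) w) (fun i => ?_) hS
  exact IsColimit.comp_coconePointsIsoOfNatIso_hom hD (coproductIsCoproduct M) w ⟨i⟩

end Groth.Agent.H6.Cpm
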