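import Groth.Agent.Lib.Helper6.Cpt2
import Groth.Agent.Lib.Lead.SC.Basic

/-! # Maps from `ℤ_U[0]` to a coproduct of sheaves placed in a single degree -/

universe u
open CategoryTheory Limits DerivedCategory Abelian

namespace Groth.Agent.H6.Cpt

open Groth.Agent.LD.SC

section AbGroup

open Classical in
lemma exists_finset_sum_of_isColimit {I : Type u} {G : I → AddCommGrpCat.{u}} (c : Cofan G)
    (hc : IsColimit c) (y : c.pt) :
    ∃ (s : Finset I) (x : ∀ i, G i), y = ∑ i ∈ s, (c.inj i).hom (x i) := by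
  let f : ∀ i, G i →+ c.pt := fun i => (c.inj i).hom
  let N : AddSubgroup c.pt := (DirectSum.toAddMonoid f).range
  let q : c.pt ⟶ AddCommGrpCat.of (c.pt ⧸ N) := AddCommGrpCat.ofHom (QuotientAddGroup.mk' N)
  have hq : q = 0 := by
    apply Cofan.IsColimit.hom_ext hc
    intro i
    rw [comp_zero]
    ext z
    change QuotientAddGroup.mk' N (f i z) = 0
    rw [QuotientAddGroup.mk'_apply, QuotientAddGroup.eq_zero_iff]
    exact ⟨DirectSum.of (fun i => G i) i z, DirectSum.toAddMonoid_of _ _ _⟩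
  have hy : y ∈ N := by
    rw [← QuotientAddGroup.eq_zero_iff]
    have := congrArg (fun g => g.hom y) hq
    exact this
  obtain ⟨d, hd⟩ := hy
  refine ⟨DFinsupp.support d, fun i => d i, ?_⟩
  rw [← hd]
  simp only [DirectSum.toAddMonoid, DFinsupp.liftAddHom, AddEquiv.coe_mk]
  exact DFinsupp.sumAddHom_apply _ d

end AbGroup

variable {C : Type u} [SmallCategory C] {J : GrothendieckTopology C}

/-- shortcut instance (the general instance search loops through small models of the site) -/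
instance (priority := 10000) hasColimitsOfShape_discrete_sheaf (I : Type u) :
    HasColimitsOfShape (Discrete I) (Sheaf J AddCommGrpCat.{u}) :=
  Sheaf.instHasColimitsOfShape

variable [HasDerivedCategory.{u} (Sheaf J AddCommGrpCat.{u})]

/-- comparison isomorphism `G[0][p] ≅ Q (G placed in degree a)` for `p + a = 0` -/
noncomputable def phiIso (p : ℕ) (a : ℤ) (hpa : (p : ℤ) + a = 0)
    (G : Sheaf J AddCommGrpCat.{u}) :
    ((singleFunctor (Sheaf J AddCommGrpCat.{u}) 0).obj G)⟦(p : ℤ)⟧ ≅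
      Q.obj ((HomologicalComplex.single (Sheaf J AddCommGrpCat.{u}) (ComplexShape.up ℤ) a).obj G) :=
  ((singleFunctors (Sheaf J AddCommGrpCat.{u})).shiftIso (p : ℤ) a 0 hpa).app G ≪≫
    (singleFunctorIsoCompQ (Sheaf J AddCommGrpCat.{u}) a).app G

lemma phiIso_naturality (p : ℕ) (a : ℤ) (hpa : (p : ℤ) + a = 0)
    {G G' : Sheaf J AddCommGrpCat.{u}} (g : G ⟶ G') :
    ((singleFunctor (Sheaf J AddCommGrpCat.{u}) 0).map g)⟦(p : ℤ)⟧' ≫ (phiIso p a hpa G').hom =
      (phiIso p a hpa G).hom ≫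
        Q.map ((HomologicalComplex.single (Sheaf J AddCommGrpCat.{u}) (ComplexShape.up ℤ) a).map g) := by
  have h1 := ((singleFunctors (Sheaf J AddCommGrpCat.{u})).shiftIso (p : ℤ) a 0 hpa).hom.naturality g
  have h2 := (singleFunctorIsoCompQ (Sheaf J AddCommGrpCat.{u}) a).hom.naturality g
  exact (Category.assoc _ _ _).symm.trans
    ((congrArg (fun t => t ≫ (singleFunctorIsoCompQ (Sheaf J AddCommGrpCat.{u}) a).hom.app G') h1).trans
      ((Category.assoc _ _ _).trans
        ((congrArg (fun t =>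
          ((singleFunctors (Sheaf J AddCommGrpCat.{u})).shiftIso (p : ℤ) a 0 hpa).hom.app G ≫ t) h2).trans
          (Category.assoc _ _ _).symm)))

theorem surjF_single (U : C) (p : ℕ) (a : ℤ) (hpa : (p : ℤ) + a = 0) {I : Type u}
    [PreservesColimitsOfShape (Discrete I) (extFunctorObj.{u} (ZU J U) p)]
    (F : I → Sheaf J AddCommGrpCat.{u})
    (c : Cofan (fun i => (HomologicalComplex.single (Sheaf J AddCommGrpCat.{u})
      (ComplexShape.up ℤ) a).obj (F i)))
    (hc : IsColimit c) :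
    SurjF ((singleFunctor (Sheaf J AddCommGrpCat.{u}) 0).obj (ZU J U)) (Qc c) := by
  have hc₀ : IsColimit (Cofan.mk ((HomologicalComplex.single (Sheaf J AddCommGrpCat.{u})
      (ComplexShape.up ℤ) a).obj (∐ F))
      (fun i => (HomologicalComplex.single (Sheaf J AddCommGrpCat.{u})
        (ComplexShape.up ℤ) a).map (Sigma.ι F i))) :=
    isColimitCofanMkObjOfIsColimit _ _ _ (coproductIsCoproduct F)
  refine surjF_Qc_of_isColimit _ hc₀ hc ?_
  intro y
  -- transport to Ext
  let x : Ext.{u} (ZU J U) (∐ F) p := Ext.homEquiv.symm (y ≫ (phiIso p a hpa (∐ F)).inv)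
  have hx : x.hom ≫ (phiIso p a hpa (∐ F)).hom = y := by
    change Ext.homEquiv x ≫ _ = y
    rw [Equiv.apply_symm_apply, Category.assoc, Iso.inv_hom_id, Category.comp_id]
  have hE : IsColimit ((extFunctorObj.{u} (ZU J U) p).mapCocone (Cofan.mk (∐ F) (Sigma.ι F))) :=
    isColimitOfPreserves _ (coproductIsCoproduct F)
  let cE : Cofan (fun i => (extFunctorObj.{u} (ZU J U) p).obj (F i)) :=
    Cofan.mk ((extFunctorObj.{u} (ZU J U) p).obj (∐ F))
      (fun i => (extFunctorObj.{u} (ZU J U) p).map (Sigma.ι F i))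
  have hcE : IsColimit cE := isColimitCofanMkObjOfIsColimit _ _ _ (coproductIsCoproduct F)
  obtain ⟨s, z, hz⟩ := exists_finset_sum_of_isColimit cE hcE x
  refine ⟨s, fun i => (z i : Ext.{u} (ZU J U) (F i) p).hom ≫ (phiIso p a hpa (F i)).hom, ?_⟩
  have hz' : x = ∑ i ∈ s, (z i : Ext.{u} (ZU J U) (F i) p).comp (Ext.mk₀ (Sigma.ι F i))
      (add_zero p) := hz
  rw [← hx, hz']
  have hsum : (∑ i ∈ s, (z i : Ext.{u} (ZU J U) (F i) p).comp (Ext.mk₀ (Sigma.ι F i))
      (add_zero p)).hom = ∑ i ∈ s, ((z i : Ext.{u} (ZU J U) (F i) p).comp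
        (Ext.mk₀ (Sigma.ι F i)) (add_zero p)).hom :=
    map_sum (Ext.homAddEquiv (X := ZU J U) (Y := ∐ F) (n := p)) _ s
  rw [hsum, Preadditive.sum_comp]
  refine Finset.sum_congr rfl (fun i _ => ?_)
  change _ = ((z i : Ext.{u} (ZU J U) (F i) p).hom ≫ (phiIso p a hpa (F i)).hom) ≫
    Q.map ((HomologicalComplex.single (Sheaf J AddCommGrpCat.{u}) (ComplexShape.up ℤ) a).map
      (Sigma.ι F i))
  rw [Category.assoc, ← phiIso_naturality, Ext.comp_hom, Ext.mk₀_hom, ShiftedHom.comp_mk₀,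
    Category.assoc]

end Groth.Agent.H6.Cpt
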