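import Groth.Agent.Lib.Helper6.Cpt5
import Groth.Agent.Lib.Lead.RSp.SiteCoprodSec
import Groth.Agent.Lib.Helper1.SheafOfModulesGrothendieck
import Groth.Agent.Lib.Helper1.SiteCohomology
import Groth.Agent.Lib.Helper2.ModEpi

/-! # `j_{U!} O_U` is compact in `D(O)` for `U` quasi-compact and weakly contractible -/

universe u
open CategoryTheory Limits DerivedCategory Opposite

namespace Groth.Agent.H6.Cpt

variable {C : Type u} [SmallCategory C] {J : GrothendieckTopology C} (O : Sheaf J CommRingCat.{u})

lemma surjective_app_of_epi_mod {U : C} (hwc : CohSite.IsWeaklyContractible J U)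
    {E X : ModSite.Mod O} (e : E ⟶ X) [Epi e] : Function.Surjective (e.val.app (op U)) := by
  have h1 : Presheaf.IsLocallySurjective J ((PresheafOfModules.toPresheaf _).map e.val) :=
    Groth.Agent.H2.ModEpi.isLocallySurjective_of_epi e
  let φ := (SheafOfModules.toSheaf (ModSite.ringSh O)).map e
  haveI : Sheaf.IsLocallySurjective φ := h1
  haveI : Epi φ := (Sheaf.isLocallySurjective_iff_epi' AddCommGrpCat.{u} φ).1 inferInstance
  exact Groth.Agent.H1.surjective_app_of_epi_of_isWeaklyContractible J hwc φ

lemma projective_freeOn (U : C) (hwc : CohSite.IsWeaklyContractible J U) :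
    Projective (ModSite.freeOn O U) where
  factors {E X} f e _ := by
    obtain ⟨y, hy⟩ := surjective_app_of_epi_mod O hwc e (Groth.Agent.LD.EZ.freeOnEquiv O U X f)
    refine ⟨(Groth.Agent.LD.EZ.freeOnEquiv O U E).symm y, ?_⟩
    apply (Groth.Agent.LD.EZ.freeOnEquiv O U X).injective
    rw [Groth.Agent.LD.EZ.freeOnEquiv_comp, Equiv.apply_symm_apply, hy]

theorem isCompactObject_freeOn
    [HasDerivedCategory.{u} (ModSite.Mod O)] [HasCoproducts.{u} (DerivedCategory (ModSite.Mod O))]
    (U : C) (hqc : CohCx.IsQcObject ((presheafToSheaf J (Type u)).obj (yoneda.obj U)))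
    (hwc : CohSite.IsWeaklyContractible J U) :
    CohDer.IsCompactObject
      ((DerivedCategory.singleFunctor (ModSite.Mod O) 0).obj (ModSite.freeOn O U)) := by
  intro ι X
  haveI := Groth.Agent.H1.sheafOfModules_isGrothendieckAbelian J (ModSite.ringSh O)
  haveI : Projective (ModSite.freeOn O U) := projective_freeOn O U hwc
  apply bijective_homSumToHomCoprod
  have hex : ∀ i, ∃ K : CochainComplex (ModSite.Mod O) ℤ, Nonempty (X i ≅ Q.obj K) :=
    fun i => ⟨Q.objPreimage (X i), ⟨(Q.objObjPreimageIso (X i)).symm⟩⟩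
  choose K e using hex
  let e' : ∀ i, X i ≅ Q.obj (K i) := fun i => (e i).some
  have hc := coproductIsCoproduct K
  haveI : PreservesColimitsOfShape (Discrete ι)
      (preadditiveCoyoneda.obj (op (ModSite.freeOn O U))) :=
    Groth.Agent.LD.RSp.SC.preservesColimitsOfShape_coyoneda_freeOn O U hqc ι
  have hS := surjF_single_projective (ModSite.freeOn O U)
    (fun F c hc => surjF_of_preservesCoyoneda _ c hc) K _ hc
  have hD : IsColimit (Qc (Cofan.mk (∐ K) (Sigma.ι K))) :=
    Groth.Agent.H2.DCoprod.isColimitMapCofan hc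
  let w : Discrete.functor (fun i => Q.obj (K i)) ≅ Discrete.functor X :=
    Discrete.natIso (fun i => (e' i.as).symm)
  refine surjF_of_iso _ (fun i => (e' i).symm)
    (IsColimit.coconePointsIsoOfNatIso hD (coproductIsCoproduct X) w) (fun i => ?_) hS
  exact IsColimit.comp_coconePointsIsoOfNatIso_hom hD (coproductIsCoproduct X) w ⟨i⟩

end Groth.Agent.H6.Cpt
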