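import Mathlib
import Groth.Prelude.Def_CohDer
import Groth.Prelude.Def_DerLim
import Groth.Agent.Lib.Helper6.Cpt1

/-! # Maps from a compact object to a homotopy colimit factor through a stage -/

namespace Groth.Agent.H6.CptRetr

open CategoryTheory Limits Pretriangulated Groth.Agent.H6.Cpt

universe v u

section

variable {D : Type u} [Category.{v} D] [Preadditive D] [HasCoproducts.{v} D]

open Classical in
/-- maps from a compact object to a countable coproduct are finite sums of maps through the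
components. -/
lemma surjF_nat {K : D} (hK : CohDer.IsCompactObject K) {X : ℕ → D} {c : Cofan X}
    (hc : IsColimit c) : SurjF K c := by
  intro y
  let X' : ULift.{v} ℕ → D := X ∘ Equiv.ulift
  haveI : HasCoproduct X := ⟨⟨⟨c, hc⟩⟩⟩
  let r : ∐ X' ≅ ∐ X := Sigma.reindex Equiv.ulift X
  let e : c.pt ≅ ∐ X := hc.coconePointUniqueUpToIso (coproductIsCoproduct X)
  obtain ⟨x, hx⟩ := (hK _ X').2 (y ≫ e.hom ≫ r.inv)
  obtain ⟨S, hS⟩ : ∃ S : Finset (ULift.{v} ℕ),
      CohDer.homSumToHomCoprod K X' x = ∑ k ∈ S, x k ≫ Sigma.ι X' k :=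
    ⟨_, homSumToHomCoprod_eq_sum K X' x⟩
  rw [hS] at hx
  refine ⟨S.image ULift.down, fun n => x ⟨n⟩, ?_⟩
  have h3 : ∀ k : ULift.{v} ℕ, Sigma.ι X' k ≫ r.hom ≫ e.inv = c.inj k.down := by
    intro k
    have h2 : Sigma.ι X' k ≫ r.hom = Sigma.ι X k.down := Sigma.ι_reindex_hom Equiv.ulift X k
    rw [reassoc_of% h2]
    exact IsColimit.comp_coconePointUniqueUpToIso_inv hc (coproductIsCoproduct X) ⟨k.down⟩
  calc y = (y ≫ e.hom ≫ r.inv) ≫ r.hom ≫ e.inv := by simp
    _ = ∑ k ∈ S, x k ≫ c.inj k.down := by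
      rw [← hx, Preadditive.sum_comp]
      exact Finset.sum_congr rfl (fun k _ => by rw [Category.assoc, h3])
    _ = _ := (Finset.sum_image (f := fun n : ℕ => x ⟨n⟩ ≫ c.inj n)
      (fun a _ b _ h => ULift.down_injective h)).symm

end

section

variable {D : Type u} [Category.{v} D] [Preadditive D] [HasZeroObject D] [HasShift D ℤ]
  [∀ n : ℤ, (shiftFunctor D n).Additive] [Pretriangulated D] [HasCoproducts.{v} D]

lemma ι_shiftMap' (X : ℕ → D) (f : ∀ n, X n ⟶ X (n + 1)) [HasCoproduct X] (n : ℕ) :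
    Sigma.ι X n ≫ DerLim.shiftMap X f = f n ≫ Sigma.ι X (n + 1) := by
  unfold DerLim.shiftMap
  rw [Sigma.ι_desc]

/-- a map from a compact object to a homotopy colimit factors through one of the stages. -/
theorem exists_factor_of_isHocolim {K : D} (hK : CohDer.IsCompactObject K)
    (X : ℕ → D) (f : ∀ n, X n ⟶ X (n + 1)) [HasCoproduct X] (L : D) (i : ∀ n, X n ⟶ L)
    (hL : DerLim.IsHocolim X f L i) (g : K ⟶ L) :
    ∃ (n : ℕ) (g' : K ⟶ X n), g = g' ≫ i n := by
  classical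
  obtain ⟨c, hT⟩ := hL
  obtain ⟨ρ, hρ1, hρ2⟩ : ∃ ρ : ∀ j, ∐ X ⟶ X j, (∀ j, Sigma.ι X j ≫ ρ j = 𝟙 _) ∧
      ∀ i j, i ≠ j → Sigma.ι X i ≫ ρ j = 0 := exists_retractions (coproductIsCoproduct X)
  set s := DerLim.shiftMap X f with hs
  have hιs : ∀ n, Sigma.ι X n ≫ s = f n ≫ Sigma.ι X (n + 1) := ι_shiftMap' X f
  have hs0 : s ≫ ρ 0 = 0 := by
    apply Sigma.hom_ext
    intro n
    rw [reassoc_of% (hιs n), hρ2 (n + 1) 0 (by omega), comp_zero, comp_zero]
  have hs1 : ∀ m, s ≫ ρ (m + 1) = ρ m ≫ f m := by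
    intro m
    apply Sigma.hom_ext
    intro n
    rw [reassoc_of% (hιs n)]
    by_cases hn : n = m
    · subst hn
      rw [hρ1, Category.comp_id, reassoc_of% (hρ1 n)]
    · rw [hρ2 (n + 1) (m + 1) (by omega), comp_zero, reassoc_of% (hρ2 n m hn), zero_comp]
  -- the connecting map kills `g`
  obtain ⟨h, hh⟩ : ∃ h : K ⟶ (∐ X)⟦(1 : ℤ)⟧, h = g ≫ c := ⟨_, rfl⟩
  have hz : h ≫ (𝟙 (∐ X) - s)⟦(1 : ℤ)⟧' = 0 := by
    have h31 : c ≫ (𝟙 (∐ X) - s)⟦(1 : ℤ)⟧' = 0 := comp_distTriang_mor_zero₃₁ _ hT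
    rw [hh, Category.assoc, h31, comp_zero]
  have hm : ∀ m, h ≫ (ρ m)⟦(1 : ℤ)⟧' = 0 := by
    intro m
    induction m with
    | zero =>
      have e0 : ρ 0 = (𝟙 (∐ X) - s) ≫ ρ 0 := by
        rw [Preadditive.sub_comp, Category.id_comp, hs0, sub_zero]
      rw [e0, Functor.map_comp, ← Category.assoc, hz, zero_comp]
    | succ m ih =>
      have e1 : ρ (m + 1) = (𝟙 (∐ X) - s) ≫ ρ (m + 1) + ρ m ≫ f m := by
        rw [Preadditive.sub_comp, Category.id_comp, hs1, sub_add_cancel]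
      rw [e1, Functor.map_add, Preadditive.comp_add, Functor.map_comp, ← Category.assoc, hz,
        zero_comp, Functor.map_comp, ← Category.assoc, ih, zero_comp, add_zero]
  have hc' : IsColimit (Cofan.mk ((∐ X)⟦(1 : ℤ)⟧) (fun n => (Sigma.ι X n)⟦(1 : ℤ)⟧')) :=
    isColimitMapCoconeCofanMkEquiv (shiftFunctor D (1 : ℤ)) X (Sigma.ι X)
      (isColimitOfPreserves (shiftFunctor D (1 : ℤ)) (coproductIsCoproduct X))
  have hgc : g ≫ c = 0 := by
    rw [← hh]
    obtain ⟨F, x, hx⟩ := surjF_nat hK hc' h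
    change h = ∑ n ∈ F, x n ≫ (Sigma.ι X n)⟦(1 : ℤ)⟧' at hx
    have hx0 : ∀ m ∈ F, x m = 0 := by
      intro m hmF
      have h := hm m
      rw [hx, Preadditive.sum_comp, Finset.sum_eq_single m] at h
      · rw [Category.assoc, ← Functor.map_comp, hρ1, CategoryTheory.Functor.map_id,
          Category.comp_id] at h
        exact h
      · intro n _ hnm
        rw [Category.assoc, ← Functor.map_comp, hρ2 n m hnm, Functor.map_zero, comp_zero]
      · intro h'
        exact (h' hmF).elim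
    rw [hx]
    exact Finset.sum_eq_zero (fun n hn => by rw [hx0 n hn, zero_comp])
  obtain ⟨y, hy⟩ : ∃ y : K ⟶ ∐ X, g = y ≫ Sigma.desc i :=
    Triangle.coyoneda_exact₃ _ hT g hgc
  obtain ⟨F, x, hx⟩ := surjF_nat hK (coproductIsCoproduct X) y
  change y = ∑ n ∈ F, x n ≫ Sigma.ι X n at hx
  have hi : ∀ n, i n = f n ≫ i (n + 1) := by
    intro n
    have h12 : (𝟙 (∐ X) - s) ≫ Sigma.desc i = 0 := comp_distTriang_mor_zero₁₂ _ hT
    have := congrArg (fun φ => Sigma.ι X n ≫ φ) h12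
    simp only [Preadditive.sub_comp, Preadditive.comp_sub, Category.id_comp, comp_zero,
      Sigma.ι_desc] at this
    rw [reassoc_of% (hιs n), Sigma.ι_desc, sub_eq_zero] at this
    exact this
  have ht : ∀ (n N : ℕ), n ≤ N → ∃ t : X n ⟶ X N, i n = t ≫ i N := by
    intro n N hnN
    induction N, hnN using Nat.le_induction with
    | base => exact ⟨𝟙 _, (Category.id_comp _).symm⟩
    | succ N _ ih =>
      obtain ⟨t, ht⟩ := ih
      exact ⟨t ≫ f N, by rw [Category.assoc, ← hi N, ht]⟩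
  let N := F.sup id
  have hN : ∀ n ∈ F, n ≤ N := fun n hn => Finset.le_sup (f := id) hn
  let t : ∀ n, X n ⟶ X N := fun n => if h : n ≤ N then (ht n N h).choose else 0
  have htn : ∀ n ∈ F, i n = t n ≫ i N := by
    intro n hn
    dsimp only [t]
    rw [dif_pos (hN n hn)]
    exact (ht n N (hN n hn)).choose_spec
  refine ⟨N, ∑ n ∈ F, x n ≫ t n, ?_⟩
  rw [hy, hx, Preadditive.sum_comp, Preadditive.sum_comp]
  refine Finset.sum_congr rfl (fun n hn => ?_)
  rw [Category.assoc, Sigma.ι_desc, Category.assoc, htn n hn]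

end

end Groth.Agent.H6.CptRetr
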