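import Mathlib
import Groth.Agent.Lib.Lead.HomFilt.Abstract

/-!
# Homology commutes with colimits of a shape along which colimits are exact
-/

namespace Groth.Agent.H6.LRes

open CategoryTheory CategoryTheory.Limits HomologicalComplex

universe v u

section Cokernel

variable {B : Type*} [Category B] {A : Type*} [Category A] [HasZeroMorphisms A]
  {Λ : Type*} [Category Λ]
  {H₁ H₂ Cq : B ⥤ A} (η : H₁ ⟶ H₂) (π : H₂ ⟶ Cq) (w : ∀ X, η.app X ≫ π.app X = 0)

/-- a pointwise cokernel of a natural transformation between functors preserving a colimit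
preserves this colimit. -/
theorem preservesColimit_of_cokernel
    (hC : ∀ X, IsColimit (CokernelCofork.ofπ (π.app X) (w X)))
    (D : Λ ⥤ B) [PreservesColimit D H₁] [PreservesColimit D H₂] : PreservesColimit D Cq := by
  refine ⟨fun {c} hc => ?_⟩
  haveI : ∀ X, Epi (π.app X) := fun X => epi_of_isColimit_cofork (hC X)
  have hc₁ : IsColimit (H₁.mapCocone c) := isColimitOfPreserves H₁ hc
  have hc₂ : IsColimit (H₂.mapCocone c) := isColimitOfPreserves H₂ hc
  -- the descent
  let s₂ : ∀ s : Cocone (D ⋙ Cq), Cocone (D ⋙ H₂) := fun s =>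
    { pt := s.pt
      ι :=
        { app := fun j => π.app (D.obj j) ≫ s.ι.app j
          naturality := fun j k f => by
            have h1 := s.w f
            have h2 : H₂.map (D.map f) ≫ π.app (D.obj k) = π.app (D.obj j) ≫ Cq.map (D.map f) :=
              π.naturality (D.map f)
            dsimp at h1 ⊢
            rw [Category.comp_id, reassoc_of% h2, h1] } }
  have hd₂ : ∀ (s : Cocone (D ⋙ Cq)) (j : Λ),
      H₂.map (c.ι.app j) ≫ hc₂.desc (s₂ s) = π.app (D.obj j) ≫ s.ι.app j :=
    fun s j => hc₂.fac (s₂ s) j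
  have hz : ∀ s : Cocone (D ⋙ Cq), η.app c.pt ≫ hc₂.desc (s₂ s) = 0 := by
    intro s
    apply hc₁.hom_ext
    intro j
    have h1 : H₁.map (c.ι.app j) ≫ η.app c.pt = η.app (D.obj j) ≫ H₂.map (c.ι.app j) :=
      η.naturality (c.ι.app j)
    change H₁.map (c.ι.app j) ≫ η.app c.pt ≫ hc₂.desc (s₂ s) = H₁.map (c.ι.app j) ≫ 0
    rw [reassoc_of% h1, hd₂, reassoc_of% (w (D.obj j)), zero_comp, comp_zero]
  have hnat : ∀ j, H₂.map (c.ι.app j) ≫ π.app c.pt = π.app (D.obj j) ≫ Cq.map (c.ι.app j) :=
    fun j => π.naturality (c.ι.app j)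
  exact ⟨
    { desc := fun s => (hC c.pt).desc (CokernelCofork.ofπ (hc₂.desc (s₂ s)) (hz s))
      fac := fun s j => by
        have h1 : π.app c.pt ≫ (hC c.pt).desc (CokernelCofork.ofπ (hc₂.desc (s₂ s)) (hz s)) =
            hc₂.desc (s₂ s) :=
          (hC c.pt).fac (CokernelCofork.ofπ (hc₂.desc (s₂ s)) (hz s)) WalkingParallelPair.one
        change Cq.map (c.ι.app j) ≫ _ = s.ι.app j
        rw [← cancel_epi (π.app (D.obj j)), ← reassoc_of% (hnat j), h1, hd₂]
      uniq := fun s m hm => by
        have h1 : π.app c.pt ≫ (hC c.pt).desc (CokernelCofork.ofπ (hc₂.desc (s₂ s)) (hz s)) =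
            hc₂.desc (s₂ s) :=
          (hC c.pt).fac (CokernelCofork.ofπ (hc₂.desc (s₂ s)) (hz s)) WalkingParallelPair.one
        have hm' : ∀ j, Cq.map (c.ι.app j) ≫ m = s.ι.app j := hm
        rw [← cancel_epi (π.app c.pt), h1]
        apply hc₂.hom_ext
        intro j
        change H₂.map (c.ι.app j) ≫ π.app c.pt ≫ m = H₂.map (c.ι.app j) ≫ hc₂.desc (s₂ s)
        rw [reassoc_of% (hnat j), hm' j, hd₂] }⟩

end Cokernel

section Homology

variable {A : Type u} [Category.{v} A] [Abelian A] {Λ : Type*} [Category Λ]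
  [HasColimitsOfShape Λ A] [HasExactColimitsOfShape Λ A]

/-- the inclusion of cycles as a natural transformation -/
noncomputable def cyclesι (i : ℤ) :
    cyclesFunctor A (ComplexShape.up ℤ) i ⟶ eval A (ComplexShape.up ℤ) i where
  app K := K.iCycles i
  naturality K L φ := cyclesMap_i φ i

/-- the differential as a natural transformation -/
noncomputable def dNat (i j : ℤ) :
    eval A (ComplexShape.up ℤ) i ⟶ eval A (ComplexShape.up ℤ) j where
  app K := K.d i j
  naturality K L φ := φ.comm i j

/-- the map to cycles as a natural transformation -/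
noncomputable def toCyclesNat (i j : ℤ) :
    eval A (ComplexShape.up ℤ) i ⟶ cyclesFunctor A (ComplexShape.up ℤ) j where
  app K := K.toCycles i j
  naturality K L φ := by
    change φ.f i ≫ L.toCycles i j = K.toCycles i j ≫ cyclesMap φ j
    rw [← cancel_mono (L.iCycles j), Category.assoc, Category.assoc, toCycles_i, cyclesMap_i,
      toCycles_i_assoc]
    exact φ.comm i j

instance preservesColimit_cyclesFunctor (D : Λ ⥤ CochainComplex A ℤ) (i : ℤ) :
    PreservesColimit D (cyclesFunctor A (ComplexShape.up ℤ) i) :=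
  LD.HomFilt.preservesColimit_of_kernel (cyclesι i) (dNat i (i + 1))
    (fun K => K.iCycles_d i (i + 1))
    (fun K => K.cyclesIsKernel i (i + 1) (CochainComplex.next ℤ i)) D

instance preservesColimit_homologyFunctor (D : Λ ⥤ CochainComplex A ℤ) (i : ℤ) :
    PreservesColimit D (homologyFunctor A (ComplexShape.up ℤ) i) :=
  preservesColimit_of_cokernel (toCyclesNat (i - 1) i) (natTransHomologyπ A (ComplexShape.up ℤ) i)
    (fun K => K.toCycles_comp_homologyπ (i - 1) i)
    (fun K => K.homologyIsCokernel (i - 1) i (CochainComplex.prev ℤ i)) D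

end Homology

end Groth.Agent.H6.LRes
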