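import Mathlib
import Groth.Agent.Lib.Helper6.LRes5

/-!
# Sequential colimits of complexes and quasi-isomorphisms
-/

namespace Groth.Agent.H6.LRes

open CategoryTheory CategoryTheory.Limits HomologicalComplex

universe v u

variable {A : Type u} [Category.{v} A] [Abelian A] [HasColimitsOfShape ℕ A]
  [HasExactColimitsOfShape ℕ A]

theorem quasiIsoAt_desc (F : ℕ ⥤ CochainComplex A ℤ) (s : Cocone F) (i : ℤ) (N : ℕ)
    (h : ∀ n, N ≤ n → QuasiIsoAt (s.ι.app n) i) : QuasiIsoAt (colimit.desc F s) i := by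
  rw [quasiIsoAt_iff_isIso_homologyMap]
  let H := homologyFunctor A (ComplexShape.up ℤ) i
  have hc : IsColimit (H.mapCocone (colimit.cocone F)) :=
    isColimitOfPreserves H (colimit.isColimit F)
  have hiso : ∀ n, N ≤ n → IsIso (H.map (s.ι.app n)) := fun n hn => by
    have := h n hn
    rw [quasiIsoAt_iff_isIso_homologyMap] at this
    exact this
  change IsIso (H.map (colimit.desc F s))
  haveI := hiso N le_rfl
  refine ⟨⟨inv (H.map (s.ι.app N)) ≫ H.map (colimit.ι F N), ?_, ?_⟩⟩
  · apply hc.hom_ext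
    intro n
    change H.map (colimit.ι F n) ≫ H.map (colimit.desc F s) ≫ _ = H.map (colimit.ι F n) ≫ 𝟙 _
    rw [Category.comp_id, ← H.map_comp_assoc, colimit.ι_desc]
    have hn : n ≤ max n N := le_max_left _ _
    have hN : N ≤ max n N := le_max_right _ _
    haveI := hiso (max n N) hN
    have e1 : H.map (s.ι.app n) = H.map (F.map (homOfLE hn)) ≫ H.map (s.ι.app (max n N)) := by
      rw [← H.map_comp, s.w]
    have e2 : H.map (s.ι.app N) = H.map (F.map (homOfLE hN)) ≫ H.map (s.ι.app (max n N)) := by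
      rw [← H.map_comp, s.w]
    have e3 : H.map (colimit.ι F n) =
        H.map (F.map (homOfLE hn)) ≫ H.map (colimit.ι F (max n N)) := by
      rw [← H.map_comp, colimit.w]
    have e4 : H.map (colimit.ι F N) =
        H.map (F.map (homOfLE hN)) ≫ H.map (colimit.ι F (max n N)) := by
      rw [← H.map_comp, colimit.w]
    have e5 : inv (H.map (s.ι.app N)) ≫ H.map (F.map (homOfLE hN)) =
        inv (H.map (s.ι.app (max n N))) := by
      rw [IsIso.inv_comp_eq, e2, Category.assoc, IsIso.hom_inv_id, Category.comp_id]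
    rw [e4, reassoc_of% e5, e1, Category.assoc, IsIso.hom_inv_id_assoc, ← e3]
  · rw [Category.assoc, ← H.map_comp, colimit.ι_desc, IsIso.inv_hom_id]

theorem quasiIso_desc (F : ℕ ⥤ CochainComplex A ℤ) (s : Cocone F)
    (h : ∀ i : ℤ, ∃ N : ℕ, ∀ n, N ≤ n → QuasiIsoAt (s.ι.app n) i) :
    QuasiIso (colimit.desc F s) := by
  rw [quasiIso_iff]
  intro i
  obtain ⟨N, hN⟩ := h i
  exact quasiIsoAt_desc F s i N hN

end Groth.Agent.H6.LRes
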