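import Groth.Agent.Lib.Helper6.LRes4
import Groth.Agent.Lib.Helper6.LRes6
import Groth.Agent.Lib.Helper6.AcySum5
import Groth.Agent.Lib.Helper6.CptRetr1
import Groth.Agent.Lib.Helper2.Brown8

/-! # A compact object of `D(A)` is a retract of a bounded complex with terms in a generating
class -/

namespace Groth.Agent.H6.CptRetr

open CategoryTheory Limits DerivedCategory
open Groth.Agent.H6.LRes Groth.Agent.H6.AcySum

universe v u

variable {A : Type u} [Category.{v} A] [Abelian A] [IsGrothendieckAbelian.{v} A]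
  [HasDerivedCategory.{v} A] [HasCoproducts.{v} (DerivedCategory A)]

/-- `Q` preserves countable coproducts of complexes. -/
lemma preservesColimit_Q_nat (L : ℕ → CochainComplex A ℤ) :
    PreservesColimit (Discrete.functor L) (Q (C := A)) :=
  preservesColimit_of_preserves_colimit_cocone (coproductIsCoproduct L)
    ((isColimitMapCoconeCofanMkEquiv _ _ _).symm
      (Groth.Agent.H2.DCoprod.isColimitMapCofan (coproductIsCoproduct L)))

/-- the sequence of canonical truncations `τ_{≤ n} K`. -/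
noncomputable def truncSeq (K : CochainComplex A ℤ) : ℕ ⥤ CochainComplex A ℤ :=
  Functor.ofSequence (X := fun n : ℕ => K.truncLE (n : ℤ))
    (fun n => truncLETrans K (n : ℤ) ((n + 1 : ℕ) : ℤ) (by push_cast; omega))

lemma truncSeq_map_succ (K : CochainComplex A ℤ) (n : ℕ) :
    (truncSeq K).map (homOfLE (Nat.le_succ n)) =
      truncLETrans K (n : ℤ) ((n + 1 : ℕ) : ℤ) (by push_cast; omega) :=
  Functor.ofSequence_map_homOfLE_succ _ n

/-- the cocone of the sequence of canonical truncations with point `K`. -/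
noncomputable def truncCocone (K : CochainComplex A ℤ) : Cocone (truncSeq K) where
  pt := K
  ι := NatTrans.ofSequence (F := truncSeq K) (G := (Functor.const ℕ).obj K)
    (fun n => K.ιTruncLE (n : ℤ)) (fun n => by
      change (truncSeq K).map (homOfLE (Nat.le_succ n)) ≫ K.ιTruncLE ((n + 1 : ℕ) : ℤ) =
        K.ιTruncLE (n : ℤ) ≫ 𝟙 _
      rw [Category.comp_id, truncSeq_map_succ]
      exact truncLETrans_ι K _ _ _)

lemma truncCocone_ι_app (K : CochainComplex A ℤ) (n : ℕ) :
    (truncCocone K).ι.app n = K.ιTruncLE (n : ℤ) := rfl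

lemma exists_truncSeq (K₀ : CochainComplex A ℤ) :
    ∃ (F : ℕ ⥤ CochainComplex A ℤ) (d : colimit F ⟶ K₀), QuasiIso d ∧
      ∀ n : ℕ, (F.obj n).IsStrictlyLE (n : ℤ) := by
  haveI : HasExactColimitsOfShape ℕ A := hasExactColimitsOfShape_nat
  refine ⟨truncSeq K₀, colimit.desc _ (truncCocone K₀), ?_,
    fun n => (inferInstance : (K₀.truncLE (n : ℤ)).IsStrictlyLE (n : ℤ))⟩
  apply quasiIso_desc
  intro i
  refine ⟨i.toNat, fun n hn => ?_⟩
  rw [truncCocone_ι_app]
  exact CochainComplex.quasiIsoAt_ιTruncLE K₀ (n : ℤ) i (by omega)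

theorem exists_retract_bounded (P : ObjectProperty A) [P.IsClosedUnderIsomorphisms]
    (hP : ∀ X : A, ∃ (Y : A) (π : Y ⟶ X), P Y ∧ Epi π) (hP0 : ∃ Z : A, IsZero Z ∧ P Z)
    (K : DerivedCategory A) (hK : CohDer.IsCompactObject K) :
    ∃ (L : CochainComplex A ℤ) (a b : ℤ),
      (∀ i : ℤ, i < a ∨ b < i → IsZero (L.X i)) ∧ (∀ i : ℤ, P (L.X i)) ∧
      Nonempty (Retract K (Q.obj L)) := by
  haveI : HasExactColimitsOfShape ℕ A := hasExactColimitsOfShape_nat
  haveI : HasColimitsOfShape (Discrete ℕ) (DerivedCategory A) :=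
    Groth.Agent.H2.Brown.hasColimitsOfShape_nat
  obtain ⟨K₀, ⟨e⟩⟩ : ∃ K₀ : CochainComplex A ℤ, Nonempty (Q.obj K₀ ≅ K) :=
    ⟨Q.objPreimage K, ⟨Q.objObjPreimageIso K⟩⟩
  -- step 1: canonical truncations
  obtain ⟨F, d, hd, hF⟩ := exists_truncSeq K₀
  haveI : PreservesColimit (Discrete.functor F.obj) (Q (C := A)) := preservesColimit_Q_nat _
  have hHo₁ := Groth.Agent.H2.Telescope.isHocolim_of_colimit F
  haveI : IsIso (Q.map d) := by
    rw [DerivedCategory.isIso_Q_map_iff_quasiIso]
    exact hd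
  obtain ⟨n, g', hg'⟩ := exists_factor_of_isHocolim hK _ _ _ _ hHo₁ (e.inv ≫ inv (Q.map d))
  have h1 : g' ≫ Q.map (colimit.ι F n ≫ d) = e.inv := by
    rw [Q.map_comp, ← Category.assoc, ← hg', Category.assoc, IsIso.inv_hom_id, Category.comp_id]
  -- step 2: left resolution
  haveI := hF n
  obtain ⟨R, ρ, hR, hRP, -, hρ⟩ := exists_left_resolution (F.obj n) (n : ℤ) P hP hP0
  haveI : IsIso (Q.map ρ) := by
    rw [DerivedCategory.isIso_Q_map_iff_quasiIso]
    exact hρ
  -- step 3: brutal truncations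
  haveI : PreservesColimit (Discrete.functor (LG R).obj) (Q (C := A)) := preservesColimit_Q_nat _
  have hHo₂ : DerLim.IsHocolim (fun m => Q.obj (G R m)) (fun m => Q.map (tG R m)) (Q.obj R)
      (fun m => Q.map (ιG R m)) := by
    have h := isHocolim_of_isColimit (LG R) (isColimitCoconeG R)
    have hf : (fun m => Q.map ((LG R).map (homOfLE (Nat.le_succ m)))) =
        fun m => Q.map (tG R m) := by
      funext m
      exact congrArg (fun φ => Q.map φ) (LG_map_succ R m)
    rw [hf] at h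
    exact h
  obtain ⟨m, g'', hg''⟩ := exists_factor_of_isHocolim hK _ _ _ _ hHo₂ (g' ≫ inv (Q.map ρ))
  refine ⟨G R m, -(m : ℤ), (n : ℤ), ?_, ?_, ⟨?_⟩⟩
  · intro i hi
    rcases hi with hi | hi
    · exact isZero_G_X R m i hi
    · by_cases him : i < -(m : ℤ)
      · exact isZero_G_X R m i him
      · haveI := isIso_ιG_f R m i (by omega)
        exact IsZero.of_iso (R.isZero_of_isStrictlyLE (n : ℤ) i hi) (asIso ((ιG R m).f i))
  · intro i
    by_cases him : i < -(m : ℤ)
    · obtain ⟨Z, hZ, hPZ⟩ := hP0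
      exact P.prop_of_iso (hZ.iso (isZero_G_X R m i him)) hPZ
    · haveI := isIso_ιG_f R m i (by omega)
      exact P.prop_of_iso (asIso ((ιG R m).f i)).symm (hRP i)
  · exact
      { i := g''
        r := Q.map (ιG R m) ≫ Q.map ρ ≫ Q.map (colimit.ι F n ≫ d) ≫ e.hom
        retract := by
          rw [← Category.assoc, ← hg'', Category.assoc, IsIso.inv_hom_id_assoc,
            ← Category.assoc, h1, Iso.inv_hom_id] }

end Groth.Agent.H6.CptRetr
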