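import Groth.Agent.Lib.Helper6.Cpt5
import Groth.Agent.Lib.Helper6.CptRetr1

/-! # Killing finitely many components of a coproduct -/

namespace Groth.Agent.H6.CptRetr

open CategoryTheory Limits Opposite Groth.Agent.H6.Cpt

universe w v u

section

variable {D : Type u} [Category.{v} D] [Preadditive D] [HasCoproducts.{v} D]

open Classical in
/-- maps from a compact object to a coproduct are finite sums of maps through the components. -/
lemma surjF_of_compact {K : D} (hK : CohDer.IsCompactObject K) {I : Type v} {X : I → D}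
    {c : Cofan X} (hc : IsColimit c) : SurjF K c := by
  intro y
  let e : c.pt ≅ ∐ X := hc.coconePointUniqueUpToIso (coproductIsCoproduct X)
  obtain ⟨x, hx⟩ := (hK _ X).2 (y ≫ e.hom)
  obtain ⟨S, hS⟩ : ∃ S : Finset I,
      CohDer.homSumToHomCoprod K X x = ∑ k ∈ S, x k ≫ Sigma.ι X k :=
    ⟨_, homSumToHomCoprod_eq_sum K X x⟩
  rw [hS] at hx
  refine ⟨S, fun k => x k, ?_⟩
  calc y = (y ≫ e.hom) ≫ e.inv := by simp
    _ = _ := by
      rw [← hx, Preadditive.sum_comp]
      refine Finset.sum_congr rfl (fun k _ => ?_)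
      rw [Category.assoc]
      congr 1
      exact IsColimit.comp_coconePointUniqueUpToIso_inv hc (coproductIsCoproduct X) ⟨k⟩

end

section

variable {A : Type u} [Category.{v} A] [Preadditive A] {Λ : Type w} (E : Λ → A) [HasCoproduct E]

open Classical in
/-- the idempotent endomorphism of `∐ E` killing the components in `F`. -/
noncomputable def qF (F : Finset Λ) : ∐ E ⟶ ∐ E :=
  Sigma.desc (fun l => if l ∈ F then 0 else Sigma.ι E l)

lemma ι_qF_of_mem {F : Finset Λ} {l : Λ} (h : l ∈ F) : Sigma.ι E l ≫ qF E F = 0 := by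
  unfold qF
  rw [Sigma.ι_desc, if_pos h]

lemma ι_qF_of_not_mem {F : Finset Λ} {l : Λ} (h : l ∉ F) :
    Sigma.ι E l ≫ qF E F = Sigma.ι E l := by
  unfold qF
  rw [Sigma.ι_desc, if_neg h]

lemma qF_comp_of_subset {F F' : Finset Λ} (h : F ⊆ F') : qF E F ≫ qF E F' = qF E F' := by
  apply Sigma.hom_ext
  intro l
  by_cases hl : l ∈ F
  · rw [reassoc_of% (ι_qF_of_mem E hl), zero_comp, ι_qF_of_mem E (h hl)]
  · rw [reassoc_of% (ι_qF_of_not_mem E hl)]

lemma qF_idem (F : Finset Λ) : qF E F ≫ qF E F = qF E F := qF_comp_of_subset E (subset_refl F)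

variable [HasFiniteBiproducts A]

lemma exists_tau (F : Finset Λ) : ∃ (n : ℕ) (τ : Fin n → Λ), Function.Injective τ ∧
    ∀ l, l ∈ F ↔ ∃ j, τ j = l := by
  refine ⟨F.card, fun j => (F.equivFin.symm j).1,
    Subtype.val_injective.comp F.equivFin.symm.injective, fun l => ⟨fun hl => ?_, ?_⟩⟩
  · exact ⟨F.equivFin ⟨l, hl⟩, by simp⟩
  · rintro ⟨j, rfl⟩
    exact (F.equivFin.symm j).2

variable {n : ℕ} (τ : Fin n → Λ)

/-- the inclusion of the finite sub-sum. -/
noncomputable def uF : (⨁ fun j : Fin n => E (τ j)) ⟶ ∐ E :=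
  biproduct.desc (fun j : Fin n => Sigma.ι E (τ j))

lemma uF_qF (F : Finset Λ) (hF : ∀ l, l ∈ F ↔ ∃ j, τ j = l) : uF E τ ≫ qF E F = 0 := by
  apply biproduct.hom_ext'
  intro j
  unfold uF
  rw [biproduct.ι_desc_assoc, ι_qF_of_mem E ((hF _).2 ⟨j, rfl⟩), comp_zero]

open Classical in
/-- the inclusion of the finite sub-sum is a kernel of `qF`. -/
noncomputable def isKernelUF (hτ : Function.Injective τ) (F : Finset Λ)
    (hF : ∀ l, l ∈ F ↔ ∃ j, τ j = l) :
    IsLimit (KernelFork.ofι (uF E τ) (uF_qF E τ F hF)) := by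
  let ρ : ∀ j, ∐ E ⟶ E j := (exists_retractions (coproductIsCoproduct E)).choose
  have hρ1 : ∀ j, Sigma.ι E j ≫ ρ j = 𝟙 _ :=
    (exists_retractions (coproductIsCoproduct E)).choose_spec.1
  have hρ2 : ∀ i j, i ≠ j → Sigma.ι E i ≫ ρ j = 0 :=
    (exists_retractions (coproductIsCoproduct E)).choose_spec.2
  have hρ3 : ∀ l l' : Λ, l' = l → Sigma.ι E l ≫ ρ l' ≫ Sigma.ι E l' = Sigma.ι E l := by
    intro l l' h
    subst h
    rw [reassoc_of% (hρ1 l')]
  let r : ∐ E ⟶ ⨁ fun j : Fin n => E (τ j) := biproduct.lift (fun j => ρ (τ j))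
  have hur : uF E τ ≫ r = 𝟙 _ := by
    apply biproduct.hom_ext'
    intro j
    apply biproduct.hom_ext
    intro j'
    unfold uF
    dsimp only [r]
    rw [biproduct.ι_desc_assoc, Category.assoc, biproduct.lift_π, Category.comp_id,
      biproduct.ι_π]
    by_cases hjj : j = j'
    · subst hjj
      rw [dif_pos rfl, hρ1]
      rfl
    · rw [dif_neg hjj, hρ2 (τ j) (τ j') (fun h => hjj (hτ h))]
  have hru : r ≫ uF E τ = 𝟙 _ - qF E F := by
    apply Sigma.hom_ext
    intro l
    rw [Preadditive.comp_sub, Category.comp_id]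
    have h1 : r ≫ uF E τ = ∑ j : Fin n, ρ (τ j) ≫ Sigma.ι E (τ j) := by
      dsimp only [r]
      unfold uF
      rw [biproduct.lift_desc]
    rw [h1, Preadditive.comp_sum]
    by_cases hl : l ∈ F
    · obtain ⟨j₀, hj₀⟩ := (hF l).1 hl
      rw [ι_qF_of_mem E hl, sub_zero, Finset.sum_eq_single j₀]
      · exact hρ3 l (τ j₀) hj₀
      · intro j _ hj
        rw [reassoc_of% (hρ2 l (τ j) (fun h => hj (hτ (h ▸ hj₀).symm))), zero_comp]
      · intro h
        exact (h (Finset.mem_univ _)).elim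
    · rw [ι_qF_of_not_mem E hl, sub_self]
      refine Finset.sum_eq_zero (fun j _ => ?_)
      rw [reassoc_of% (hρ2 l (τ j) (fun h => hl ((hF l).2 ⟨j, h.symm⟩))), zero_comp]
  haveI : Mono (uF E τ) := mono_of_mono_fac hur
  exact KernelFork.IsLimit.ofι _ _ (fun g _ => g ≫ r)
    (fun g hg => by
      rw [Category.assoc, hru, Preadditive.comp_sub, Category.comp_id, hg, sub_zero])
    (fun g hg m hm => by
      rw [← cancel_mono (uF E τ), hm, Category.assoc, hru, Preadditive.comp_sub, Category.comp_id,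
        hg, sub_zero])

end

section

variable {A : Type u} [Category.{v} A] [Abelian A] [HasFiniteBiproducts A]
  {Λ : Type v} (E : Λ → A) [HasCoproduct E]

/-- a map from a finite sum of objects `P` for which `Hom(P, -)` commutes with coproducts into a
coproduct is killed by `qF F` for all large enough finite sets `F`. -/
lemma exists_finset_comp_qF_eq_zero {n : ℕ} (E' : Fin n → A)
    (hE' : ∀ j, PreservesColimitsOfShape (Discrete Λ) (preadditiveCoyoneda.obj (op (E' j))))
    {Y : A} (ε : Y ≅ ⨁ E') (g : Y ⟶ ∐ E) :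
    ∃ F₀ : Finset Λ, ∀ F : Finset Λ, F₀ ⊆ F → g ≫ qF E F = 0 := by
  classical
  have h : ∀ j, ∃ s : Finset Λ, ∀ F : Finset Λ, s ⊆ F →
      (biproduct.ι E' j ≫ ε.inv ≫ g) ≫ qF E F = 0 := by
    intro j
    haveI := hE' j
    obtain ⟨s, x, hx⟩ := surjF_of_preservesCoyoneda (E' j) _ (coproductIsCoproduct E)
      (biproduct.ι E' j ≫ ε.inv ≫ g)
    change _ = ∑ l ∈ s, x l ≫ Sigma.ι E l at hx
    refine ⟨s, fun F hF => ?_⟩
    rw [hx, Preadditive.sum_comp]
    refine Finset.sum_eq_zero (fun l hl => ?_)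
    rw [Category.assoc, ι_qF_of_mem E (hF hl), comp_zero]
  choose s hs using h
  refine ⟨Finset.univ.biUnion s, fun F hF => ?_⟩
  rw [← cancel_epi ε.inv, comp_zero]
  apply biproduct.hom_ext'
  intro j
  rw [comp_zero]
  have := hs j F (fun l hl => hF (Finset.mem_biUnion.2 ⟨j, Finset.mem_univ _, hl⟩))
  simpa only [Category.assoc] using this

end

end Groth.Agent.H6.CptRetr
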