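import Groth.Agent.Lib.Helper6.CptRetr3
import Groth.Agent.Lib.Helper2.DCoprod1

/-! # Shrinking one term of a complex to a finite sub-sum -/

namespace Groth.Agent.H6.CptRetr

open CategoryTheory Limits Opposite DerivedCategory HomologicalComplex Pretriangulated
open Groth.Agent.H6.Cpt

universe v u

variable {A : Type u} [Category.{v} A] [Abelian A] [IsGrothendieckAbelian.{v} A]
  [HasCoproducts.{v} A] [HasFiniteBiproducts A]
  [HasDerivedCategory.{v} A] [HasCoproducts.{v} (DerivedCategory A)]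

lemma epi_of_isZero_tgt {C : Type*} [Category C] [HasZeroMorphisms C] {X Y : C} (f : X ⟶ Y)
    (hY : IsZero Y) : Epi f :=
  ⟨fun _ _ _ => hY.eq_of_src _ _⟩

theorem exists_step {K : DerivedCategory A} (hK : CohDer.IsCompactObject K)
    (L : CochainComplex A ℤ) (φ : K ⟶ Q.obj L) (c : ℤ) {Λ : Type v} (E : Λ → A)
    (e : L.X c ≅ ∐ E)
    (hd : ∃ F₀ : Finset Λ, ∀ F : Finset Λ, F₀ ⊆ F → ∀ i, L.d i c ≫ e.hom ≫ qF E F = 0) :
    ∃ (L' : CochainComplex A ℤ) (j : L' ⟶ L) (φ' : K ⟶ Q.obj L') (n : ℕ) (τ : Fin n → Λ),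
      φ' ≫ Q.map j = φ ∧ (∀ i, i ≠ c → IsIso (j.f i)) ∧
      Nonempty (L'.X c ≅ ⨁ fun k : Fin n => E (τ k)) := by
  classical
  obtain ⟨F₀, hF₀⟩ := hd
  let sg := HomologicalComplex.single A (ComplexShape.up ℤ) c
  let Pm : ∀ F : Finset Λ, F₀ ⊆ F → (L ⟶ sg.obj (∐ E)) := fun F hF =>
    mkHomToSingle (e.hom ≫ qF E F) (fun i _ => hF₀ F hF i)
  have hPm : ∀ (F : Finset Λ) (hF : F₀ ⊆ F),
      Pm F₀ (subset_refl F₀) ≫ sg.map (qF E F) = Pm F hF := by
    intro F hF
    apply to_single_hom_ext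
    dsimp only [Pm, sg]
    rw [HomologicalComplex.comp_f, mkHomToSingle_f, mkHomToSingle_f, single_map_f_self]
    simp only [Category.assoc, Iso.inv_hom_id_assoc]
    rw [reassoc_of% (qF_comp_of_subset E hF)]
  have hcX : IsColimit (Cofan.mk (sg.obj (∐ E)) (fun l => sg.map (Sigma.ι E l))) :=
    isColimitMapCoconeCofanMkEquiv sg E (Sigma.ι E)
      (isColimitOfPreserves sg (coproductIsCoproduct E))
  have hcQ := Groth.Agent.H2.DCoprod.isColimitMapCofan hcX
  obtain ⟨s, x, hx⟩ := surjF_of_compact hK hcQ (φ ≫ Q.map (Pm F₀ (subset_refl F₀)))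
  change φ ≫ Q.map (Pm F₀ (subset_refl F₀)) = ∑ l ∈ s, x l ≫ Q.map (sg.map (Sigma.ι E l)) at hx
  obtain ⟨F, hF, hsF⟩ : ∃ F : Finset Λ, F₀ ⊆ F ∧ s ⊆ F :=
    ⟨F₀ ∪ s, Finset.subset_union_left, Finset.subset_union_right⟩
  have hφPm : φ ≫ Q.map (Pm F hF) = 0 := by
    rw [← hPm F hF, Q.map_comp, ← Category.assoc, hx, Preadditive.sum_comp]
    refine Finset.sum_eq_zero (fun l hl => ?_)
    rw [Category.assoc, ← Q.map_comp, ← sg.map_comp, ι_qF_of_mem E (hsF hl), sg.map_zero,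
      Q.map_zero, comp_zero]
  -- image factorisation of the idempotent
  obtain ⟨X₂, p₂, i₂, hp₂, hi₂, hpi⟩ : ∃ (X₂ : A) (p₂ : ∐ E ⟶ X₂) (i₂ : X₂ ⟶ ∐ E),
      Epi p₂ ∧ Mono i₂ ∧ p₂ ≫ i₂ = qF E F :=
    ⟨Abelian.image (qF E F), Abelian.factorThruImage (qF E F), Abelian.image.ι (qF E F),
      inferInstance, inferInstance, Abelian.image.fac (qF E F)⟩
  have hiq : i₂ ≫ qF E F = i₂ := by
    rw [← cancel_epi p₂, ← Category.assoc, hpi, qF_idem]
  have hip : i₂ ≫ p₂ = 𝟙 _ := by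
    rw [← cancel_mono i₂, Category.assoc, hpi, hiq, Category.id_comp]
  let π : L ⟶ sg.obj X₂ := mkHomToSingle (e.hom ≫ p₂) (fun i _ => by
    rw [← cancel_mono i₂, zero_comp, Category.assoc, Category.assoc, hpi]
    exact hF₀ F hF i)
  have hπPm : π ≫ sg.map i₂ = Pm F hF := by
    apply to_single_hom_ext
    dsimp only [Pm, π, sg]
    rw [HomologicalComplex.comp_f, mkHomToSingle_f, mkHomToSingle_f, single_map_f_self]
    simp only [Category.assoc, Iso.inv_hom_id_assoc]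
    rw [reassoc_of% hpi]
  have hφπ : φ ≫ Q.map π = 0 := by
    have h1 : π = Pm F hF ≫ sg.map p₂ := by
      rw [← hπPm, Category.assoc, ← sg.map_comp, hip, sg.map_id, Category.comp_id]
    rw [h1, Q.map_comp, ← Category.assoc, hφPm, zero_comp]
  have hπc : π.f c = (e.hom ≫ p₂) ≫ (singleObjXSelf (ComplexShape.up ℤ) c X₂).inv :=
    mkHomToSingle_f _ _
  haveI : Epi π := by
    apply HomologicalComplex.epi_of_epi_f
    intro i
    by_cases hi : i = c
    · subst hi
      rw [hπc]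
      infer_instance
    · exact epi_of_isZero_tgt _ (isZero_single_obj_X (ComplexShape.up ℤ) c X₂ i hi)
  let S : ShortComplex (CochainComplex A ℤ) :=
    ShortComplex.mk (kernel.ι π) π (kernel.condition π)
  have hS : S.ShortExact :=
    { exact := ShortComplex.exact_of_f_is_kernel _ (kernelIsKernel π)
      mono_f := (inferInstance : Mono (kernel.ι π))
      epi_g := (inferInstance : Epi π) }
  have hT := triangleOfSES_distinguished hS
  obtain ⟨φ', hφ'⟩ := Triangle.coyoneda_exact₂ _ hT φ hφπ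
  have hSi : ∀ i, (S.map (HomologicalComplex.eval A (ComplexShape.up ℤ) i)).ShortExact :=
    fun i => hS.map_of_exact _
  obtain ⟨n, τ, hτ, hFτ⟩ := exists_tau F
  refine ⟨kernel π, kernel.ι π, φ', n, τ, hφ'.symm, ?_, ⟨?_⟩⟩
  · intro i hi
    exact (hSi i).isIso_f_iff.2 (isZero_single_obj_X (ComplexShape.up ℤ) c X₂ i hi)
  · have hker := isKernelUF E τ hτ F hFτ
    have hkerc : IsLimit (KernelFork.ofι ((kernel.ι π).f c)
        (show (kernel.ι π).f c ≫ π.f c = 0 from (S.map (HomologicalComplex.eval A (ComplexShape.up ℤ) c)).zero)) := (hSi c).fIsKernel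
    have hup : uF E τ ≫ p₂ = 0 := by
      rw [← cancel_mono i₂, Category.assoc, hpi, zero_comp, uF_qF E τ F hFτ]
    have hfc : ((kernel.ι π).f c ≫ e.hom) ≫ qF E F = 0 := by
      have h0 : (kernel.ι π).f c ≫ π.f c = 0 := (S.map (HomologicalComplex.eval A (ComplexShape.up ℤ) c)).zero
      rw [hπc, ← Category.assoc, ← cancel_mono (singleObjXSelf (ComplexShape.up ℤ) c X₂).hom,
        Category.assoc, Iso.inv_hom_id, Category.comp_id, zero_comp] at h0
      rw [← hpi, ← Category.assoc, Category.assoc _ e.hom, h0, zero_comp]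
    have hb0 : (uF E τ ≫ e.inv) ≫ π.f c = 0 := by
      rw [hπc, Category.assoc, Category.assoc, Iso.inv_hom_id_assoc, reassoc_of% hup, zero_comp]
    obtain ⟨a, ha⟩ := KernelFork.IsLimit.lift' hker _ hfc
    obtain ⟨b, hb⟩ := KernelFork.IsLimit.lift' hkerc _ hb0
    change a ≫ uF E τ = (kernel.ι π).f c ≫ e.hom at ha
    change b ≫ (kernel.ι π).f c = uF E τ ≫ e.inv at hb
    haveI : Mono (uF E τ) := mono_of_isLimit_fork hker
    haveI : Mono ((kernel.ι π).f c) := mono_of_isLimit_fork hkerc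
    refine ⟨a, b, ?_, ?_⟩
    · rw [← cancel_mono ((kernel.ι π).f c), Category.assoc, hb, reassoc_of% ha, Iso.hom_inv_id,
        Category.comp_id, Category.id_comp]
    · rw [← cancel_mono (uF E τ), Category.assoc, ha, reassoc_of% hb, Iso.inv_hom_id,
        Category.comp_id, Category.id_comp]

end Groth.Agent.H6.CptRetr
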