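import Groth.Agent.Lib.Helper6.CptRetr2
import Groth.Agent.Lib.Helper6.CptRetr4

/-! # Compact objects of `D(A)` are retracts of bounded complexes of finite sums of generators -/

namespace Groth.Agent.H6.CptRetr

open CategoryTheory Limits Opposite DerivedCategory

universe v u

variable {A : Type u} [Category.{v} A] [Abelian A] [IsGrothendieckAbelian.{v} A]
  [HasCoproducts.{v} A] [HasFiniteBiproducts A]
  [HasDerivedCategory.{v} A] [HasCoproducts.{v} (DerivedCategory A)]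
  (S : Set A)

/-- coproducts of members of `S`. -/
def IsSum : ObjectProperty A := fun X =>
  ∃ (ι : Type v) (E : ι → A), (∀ i, E i ∈ S) ∧ Nonempty (X ≅ ∐ E)

instance : (IsSum S).IsClosedUnderIsomorphisms where
  of_iso e h := by
    obtain ⟨ι, E, hE, ⟨ε⟩⟩ := h
    exact ⟨ι, E, hE, ⟨e.symm ≪≫ ε⟩⟩

/-- finite sums of members of `S`. -/
def IsFin (X : A) : Prop :=
  ∃ (n : ℕ) (E : Fin n → A), (∀ j, E j ∈ S) ∧ Nonempty (X ≅ ⨁ E)

variable {S}

lemma IsFin.of_iso {X Y : A} (e : X ≅ Y) (h : IsFin S X) : IsFin S Y := by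
  obtain ⟨n, E, hE, ⟨ε⟩⟩ := h
  exact ⟨n, E, hE, ⟨e.symm ≪≫ ε⟩⟩

variable (S)

lemma isFin_of_isZero {X : A} (hX : IsZero X) : IsFin S X := by
  refine ⟨0, fun j => j.elim0, fun j => j.elim0, ⟨hX.iso ?_⟩⟩
  rw [IsZero.iff_id_eq_zero, ← biproduct.total]
  simp

lemma isSum_zero : ∃ Z : A, IsZero Z ∧ IsSum S Z := by
  let E : PEmpty.{v + 1} → A := fun j => j.elim
  refine ⟨∐ E, ?_, PEmpty.{v + 1}, E, fun j => j.elim, ⟨Iso.refl _⟩⟩
  rw [IsZero.iff_id_eq_zero]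
  apply Sigma.hom_ext
  intro j
  exact j.elim

theorem main
    (h1 : ∀ X : A, ∃ (ι : Type v) (E : ι → A) (π : ∐ E ⟶ X), (∀ i, E i ∈ S) ∧ Epi π)
    (h2 : ∀ E ∈ S, ∀ ι : Type v,
      PreservesColimitsOfShape (Discrete ι) (preadditiveCoyoneda.obj (op E)))
    (K : DerivedCategory A) (hK : CohDer.IsCompactObject K) :
    ∃ (L : CochainComplex A ℤ) (a b : ℤ),
      (∀ i : ℤ, i < a ∨ b < i → IsZero (L.X i)) ∧
      (∀ i : ℤ, ∃ (n : ℕ) (E : Fin n → A), (∀ j, E j ∈ S) ∧ Nonempty (L.X i ≅ ⨁ E)) ∧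
      Nonempty (Retract K (DerivedCategory.Q.obj L)) := by
  have hP : ∀ X : A, ∃ (Y : A) (π : Y ⟶ X), IsSum S Y ∧ Epi π := by
    intro X
    obtain ⟨ι, E, π, hE, hπ⟩ := h1 X
    exact ⟨∐ E, π, ⟨ι, E, hE, ⟨Iso.refl _⟩⟩, hπ⟩
  obtain ⟨L₀, a, b₀, hz₀, hP₀, ⟨r₀⟩⟩ := exists_retract_bounded (IsSum S) hP (isSum_zero S) K hK
  obtain ⟨b, hb₀, hba⟩ : ∃ b : ℤ, b₀ ≤ b ∧ a ≤ b := ⟨max b₀ a, le_max_left _ _, le_max_right _ _⟩
  have hz : ∀ i : ℤ, i < a ∨ b < i → IsZero (L₀.X i) := fun i hi =>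
    hz₀ i (hi.imp id (fun h => lt_of_le_of_lt hb₀ h))
  have key : ∀ k : ℕ, a + k ≤ b + 1 → ∃ (L : CochainComplex A ℤ) (φ : K ⟶ Q.obj L)
      (ψ : Q.obj L ⟶ K), φ ≫ ψ = 𝟙 K ∧ (∀ i : ℤ, i < a ∨ b < i → IsZero (L.X i)) ∧
      (∀ i : ℤ, a + k ≤ i → IsSum S (L.X i)) ∧ (∀ i : ℤ, i < a + k → IsFin S (L.X i)) := by
    intro k
    induction k with
    | zero =>
      intro _
      exact ⟨L₀, r₀.i, r₀.r, r₀.retract, hz, fun i _ => hP₀ i,
        fun i hi => isFin_of_isZero S (hz i (Or.inl (by simpa using hi)))⟩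
    | succ k ih =>
      intro hk
      obtain ⟨L, φ, ψ, hφψ, hzL, hsum, hfin⟩ := ih (by push_cast at hk; omega)
      obtain ⟨c, hc⟩ : ∃ c : ℤ, c = a + k := ⟨_, rfl⟩
      rw [← hc] at hsum hfin
      have hcb : c ≤ b := by push_cast at hk; omega
      have hca : a ≤ c := by omega
      obtain ⟨Λ, E, hE, ⟨e⟩⟩ := hsum c le_rfl
      obtain ⟨n', E', hE', ⟨ε⟩⟩ := hfin (c - 1) (by omega)
      obtain ⟨F₀, hF₀⟩ := exists_finset_comp_qF_eq_zero E E'
        (fun j => h2 (E' j) (hE' j) Λ) ε (L.d (c - 1) c ≫ e.hom)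
      have hd : ∃ F₀ : Finset Λ, ∀ F : Finset Λ, F₀ ⊆ F →
          ∀ i, L.d i c ≫ e.hom ≫ qF E F = 0 := by
        refine ⟨F₀, fun F hF i => ?_⟩
        by_cases hi : i + 1 = c
        · obtain rfl : i = c - 1 := by omega
          rw [← Category.assoc]
          exact hF₀ F hF
        · rw [L.shape i c hi, zero_comp]
      obtain ⟨L', j, φ', n, τ, hφ', hiso, ⟨ε'⟩⟩ := exists_step hK L φ c E e hd
      have hcc : a + ((k + 1 : ℕ) : ℤ) = c + 1 := by push_cast; omega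
      rw [hcc]
      refine ⟨L', φ', Q.map j ≫ ψ, by rw [← Category.assoc, hφ', hφψ], ?_, ?_, ?_⟩
      · intro i hi
        haveI := hiso i (by omega)
        exact IsZero.of_iso (hzL i hi) (asIso (j.f i))
      · intro i hi
        haveI := hiso i (by omega)
        exact (IsSum S).prop_of_iso (asIso (j.f i)).symm (hsum i (by omega))
      · intro i hi
        by_cases hic : i = c
        · subst hic
          exact ⟨n, fun k => E (τ k), fun k => hE _, ⟨ε'⟩⟩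
        · haveI := hiso i hic
          exact IsFin.of_iso (asIso (j.f i)).symm (hfin i (by omega))
  obtain ⟨L, φ, ψ, hφψ, hzL, -, hfin⟩ := key (b + 1 - a).toNat (by omega)
  refine ⟨L, a, b, hzL, fun i => ?_, ⟨⟨φ, ψ, hφψ⟩⟩⟩
  by_cases hi : i ≤ b
  · exact hfin i (by omega)
  · exact isFin_of_isZero S (hzL i (Or.inr (by omega)))

end Groth.Agent.H6.CptRetr
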