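import Groth.Agent.Lib.Lead.RSp.SiteCoprodSec
import Groth.Agent.Lib.Helper3.ModSiteAux
import Groth.Agent.Lib.Lead.SC.Basic

/-! # Sections of sheaves of modules and maps out of `j_{U!} O_U`: basic API -/

universe u
open CategoryTheory Limits Opposite

namespace Groth.Agent.H6.MD

variable {C : Type u} [SmallCategory C] {J : GrothendieckTopology C} (O : Sheaf J CommRingCat.{u})

/-- the forgetful functor to abelian sheaves -/
noncomputable abbrev τ : ModSite.Mod O ⥤ Sheaf J AddCommGrpCat.{u} :=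
  SheafOfModules.toSheaf (ModSite.ringSh O)

instance : PreservesFiniteColimits (τ O) := by
  haveI := Groth.Agent.H3.ModSiteAux.toSheaf_preservesColimitsOfSize (ModSite.ringSh O)
  exact PreservesColimitsOfSize.preservesFiniteColimits _

/-- `j_{U!} O_U` -/
noncomputable abbrev FO (U : C) : ModSite.Mod O := ModSite.freeOn O U

variable {O}

/-- `Hom(j_{U!} O_U, F) ≃ F(U)`. -/
noncomputable def hE (U : C) (F : ModSite.Mod O) :
    (FO O U ⟶ F) ≃ ((τ O).obj F).obj.obj (op U) :=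
  Groth.Agent.LD.EZ.freeOnEquiv O U F

lemma hE_comp (U : C) {F G : ModSite.Mod O} (φ : FO O U ⟶ F) (ψ : F ⟶ G) :
    hE U G (φ ≫ ψ) = ((τ O).map ψ).hom.app (op U) (hE U F φ) :=
  Groth.Agent.LD.EZ.freeOnEquiv_comp O U φ ψ

/-- the canonical section of `j_{U!} O_U` over `U`. -/
noncomputable def gen (U : C) : ((τ O).obj (FO O U)).obj.obj (op U) := hE U (FO O U) (𝟙 _)

lemma hE_apply (U : C) {F : ModSite.Mod O} (φ : FO O U ⟶ F) :
    hE U F φ = ((τ O).map φ).hom.app (op U) (gen U) := by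
  rw [gen, ← hE_comp, Category.id_comp]

lemma hE_add (U : C) {F : ModSite.Mod O} (φ ψ : FO O U ⟶ F) :
    hE U F (φ + ψ) = hE U F φ + hE U F ψ :=
  (Groth.Agent.LD.RSp.SC.freeOnAddEquiv O U F).map_add φ ψ

/-- `Hom(j_{U!} O_U, F) ≃+ F(U)`. -/
noncomputable def hAE (U : C) (F : ModSite.Mod O) :
    (FO O U ⟶ F) ≃+ ((τ O).obj F).obj.obj (op U) :=
  { hE U F with map_add' := hE_add U }

lemma hAE_apply (U : C) {F : ModSite.Mod O} (φ : FO O U ⟶ F) : hAE U F φ = hE U F φ := rfl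

lemma hE_zero (U : C) (F : ModSite.Mod O) : hE U F 0 = 0 := (hAE U F).map_zero

lemma hE_symm_zero (U : C) (F : ModSite.Mod O) : (hE U F).symm 0 = 0 := (hAE U F).symm.map_zero

lemma sheafHom_nat {F G : Sheaf J AddCommGrpCat.{u}} (θ : F ⟶ G) {V W : C}
    (f : W ⟶ V) (s : F.obj.obj (op V)) :
    θ.hom.app (op W) (F.obj.map f.op s) = G.obj.map f.op (θ.hom.app (op V) s) :=
  congrArg (fun g => g s) (congrArg AddCommGrpCat.Hom.hom (θ.hom.naturality f.op))

/-- functoriality of `j_{U!} O_U` in `U` -/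
noncomputable def FOmap {U V : C} (g : V ⟶ U) : FO O V ⟶ FO O U :=
  (hE V (FO O U)).symm (((τ O).obj (FO O U)).obj.map g.op (gen U))

lemma hE_map {U V : C} (g : V ⟶ U) {F : ModSite.Mod O} (φ : FO O U ⟶ F) :
    hE V F (FOmap g ≫ φ) = ((τ O).obj F).obj.map g.op (hE U F φ) := by
  rw [hE_comp, FOmap, Equiv.apply_symm_apply, sheafHom_nat, ← hE_apply]

lemma FOmap_comp {U V W : C} (f : V ⟶ U) (g : W ⟶ V) :
    FOmap (O := O) (g ≫ f) = FOmap g ≫ FOmap f := by
  apply (hE W (FO O U)).injective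
  rw [hE_map, FOmap, FOmap, Equiv.apply_symm_apply, Equiv.apply_symm_apply, op_comp,
    Functor.map_comp]
  rfl

lemma FOmap_id (U : C) : FOmap (O := O) (𝟙 U) = 𝟙 _ := by
  apply (hE U (FO O U)).injective
  rw [FOmap, Equiv.apply_symm_apply, op_id, CategoryTheory.Functor.map_id]
  rfl

/-- epimorphisms of modules are locally surjective on sections -/
lemma isLocallySurjective_of_epi {A' A : ModSite.Mod O} (p : A' ⟶ A) [Epi p] :
    Sheaf.IsLocallySurjective ((τ O).map p) :=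
  (Sheaf.isLocallySurjective_iff_epi' (φ := (τ O).map p)).mpr inferInstance

end Groth.Agent.H6.MD
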