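import Groth.Agent.Lib.Helper6.CptRetr5
import Groth.Agent.Lib.Helper6.MD0
import Groth.Agent.Lib.Helper1.SheafOfModulesGrothendieck
import Groth.Agent.S9103

/-! # Compact objects of `D(O)` on a ringed site with enough quasi-compact objects -/

namespace Groth.Agent.H6.CptRetr

open CategoryTheory Limits Opposite DerivedCategory Groth.Agent.H6.MD

universe u

variable {C : Type u} [SmallCategory C] {J : GrothendieckTopology C} (O : Sheaf J CommRingCat.{u})

/-- the modules `j_{U!} O_U` with `U` quasi-compact. -/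
def SQ : Set (ModSite.Mod O) :=
  {N | ∃ U : C, CohCx.IsQcObject ((presheafToSheaf J (Type u)).obj (yoneda.obj U)) ∧
    ModSite.freeOn O U = N}

lemma cover_qc
    (hC : ∀ V : C, ∃ R ∈ J V, ∀ ⦃W : C⦄ (g : W ⟶ V), R g →
      ∃ (U : C) (a : W ⟶ U) (b : U ⟶ V),
        CohCx.IsQcObject ((presheafToSheaf J (Type u)).obj (yoneda.obj U)) ∧ a ≫ b = g)
    (M : ModSite.Mod O) :
    ∃ (ι : Type u) (E : ι → ModSite.Mod O) (π : ∐ E ⟶ M), (∀ i, E i ∈ SQ O) ∧ Epi π := by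
  let ι := Σ X : {X : C // CohCx.IsQcObject ((presheafToSheaf J (Type u)).obj (yoneda.obj X))},
    (ModSite.freeOn O X.1 ⟶ M)
  let E : ι → ModSite.Mod O := fun j => ModSite.freeOn O j.1.1
  refine ⟨ι, E, Sigma.desc (fun j => j.2), fun j => ⟨j.1.1, j.1.2, rfl⟩, ?_⟩
  apply Preadditive.epi_of_cancel_zero
  intro M' g hg
  have h1 : ∀ (X : C) (_ : CohCx.IsQcObject ((presheafToSheaf J (Type u)).obj (yoneda.obj X)))
      (ψ : ModSite.freeOn O X ⟶ M), ψ ≫ g = 0 := fun X hX ψ => by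
    have := congrArg (fun t => Sigma.ι E ⟨⟨X, hX⟩, ψ⟩ ≫ t) hg
    simpa using this
  apply (τ O).map_injective
  rw [Functor.map_zero]
  apply Sheaf.hom_ext
  ext V s
  obtain ⟨R, hR, hfac⟩ := hC V.unop
  refine (Sheaf.isSeparated ((τ O).obj M')) V.unop R hR _ _ (fun W f hf => ?_)
  obtain ⟨U, a, b, hU, rfl⟩ := hfac f hf
  have h2 := hE_comp U ((hE U M).symm (((τ O).obj M).obj.map b.op s)) g
  rw [h1 U hU, hE_zero, Equiv.apply_symm_apply] at h2
  have h3 := sheafHom_nat ((τ O).map g) b s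
  rw [← h2] at h3
  change ((τ O).obj M').obj.map (a ≫ b).op (((τ O).map g).hom.app V s) =
    ((τ O).obj M').obj.map (a ≫ b).op 0
  rw [map_zero, op_comp, Functor.map_comp]
  change ((τ O).obj M').obj.map a.op (((τ O).obj M').obj.map b.op (((τ O).map g).hom.app V s)) = 0
  rw [← h3, map_zero]

theorem main9036 [HasFiniteBiproducts (ModSite.Mod O)]
    [HasDerivedCategory.{u} (ModSite.Mod O)] [HasCoproducts.{u} (DerivedCategory (ModSite.Mod O))]
    (hC : ∀ V : C, ∃ R ∈ J V, ∀ ⦃W : C⦄ (g : W ⟶ V), R g →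
      ∃ (U : C) (a : W ⟶ U) (b : U ⟶ V),
        CohCx.IsQcObject ((presheafToSheaf J (Type u)).obj (yoneda.obj U)) ∧ a ≫ b = g)
    (K : DerivedCategory (ModSite.Mod O)) (hK : CohDer.IsCompactObject K) :
    ∃ (L : CochainComplex (ModSite.Mod O) ℤ) (a b : ℤ),
      (∀ i : ℤ, i < a ∨ b < i → IsZero (L.X i)) ∧
      (∀ i : ℤ, ∃ (n : ℕ) (U : Fin n → C),
        (∀ j, CohCx.IsQcObject ((presheafToSheaf J (Type u)).obj (yoneda.obj (U j)))) ∧
        Nonempty (L.X i ≅ ⨁ fun j => ModSite.freeOn O (U j))) ∧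
      Nonempty (Retract K (DerivedCategory.Q.obj L)) := by
  haveI : IsGrothendieckAbelian.{u} (ModSite.Mod O) :=
    Groth.Agent.H1.sheafOfModules_isGrothendieckAbelian _ _
  have h2 : ∀ E ∈ SQ O, ∀ ι : Type u,
      PreservesColimitsOfShape (Discrete ι) (preadditiveCoyoneda.obj (op E)) := by
    rintro _ ⟨U, hU, rfl⟩ ι
    exact Groth.Agent.S9103.result O U hU ι
  obtain ⟨L, a, b, hz, hfin, hr⟩ := main (SQ O) (cover_qc O hC) h2 K hK
  refine ⟨L, a, b, hz, fun i => ?_, hr⟩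
  obtain ⟨n, E, hE, ⟨ε⟩⟩ := hfin i
  choose U hU hUE using hE
  obtain rfl : E = fun j => ModSite.freeOn O (U j) := funext (fun j => (hUE j).symm)
  exact ⟨n, U, hU, ⟨ε⟩⟩

end Groth.Agent.H6.CptRetr
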