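import Mathlib

/-! Helper6: the shift functor `[n] ↦ [n+1]` of the simplex category and the décalage of a
cosimplicial object (S8568, part A). -/

set_option autoImplicit false
open CategoryTheory CategoryTheory.Limits SimplexCategory

universe v u

namespace Groth.Agent.H6.CsLim

/-- the monotone map `0 ↦ 0`, `j + 1 ↦ f j + 1` -/
def shFun {n m : ℕ} (f : Fin (n + 1) →o Fin (m + 1)) : Fin (n + 2) →o Fin (m + 2) where
  toFun := Fin.cases 0 (fun j => (f j).succ)
  monotone' := by
    intro a b hab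
    induction a using Fin.cases with
    | zero => exact Fin.zero_le _
    | succ a =>
      induction b using Fin.cases with
      | zero => exact absurd hab (by simp)
      | succ b =>
        simp only [Fin.cases_succ]
        exact Fin.succ_le_succ_iff.2 (f.monotone (Fin.succ_le_succ_iff.1 hab))

@[simp] lemma shFun_zero {n m : ℕ} (f : Fin (n + 1) →o Fin (m + 1)) : shFun f 0 = 0 := rfl

@[simp] lemma shFun_succ {n m : ℕ} (f : Fin (n + 1) →o Fin (m + 1)) (j : Fin (n + 1)) :
    shFun f j.succ = (f j).succ := rfl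

/-- the shift functor of the simplex category -/
def sh : SimplexCategory ⥤ SimplexCategory where
  obj a := SimplexCategory.mk (a.len + 1)
  map {a b} f := SimplexCategory.mkHom (shFun f.toOrderHom)
  map_id a := by
    ext i : 3
    induction i using Fin.cases with
    | zero => rfl
    | succ j => rfl
  map_comp {a b c} f g := by
    ext i : 3
    induction i using Fin.cases with
    | zero => rfl
    | succ j => rfl

lemma shFun_succAbove {n : ℕ} (i : Fin (n + 2)) (j : Fin (n + 2)) :
    shFun (Fin.succAboveOrderEmb i).toOrderHom j = Fin.succAbove i.succ j := by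
  induction j using Fin.cases with
  | zero => exact (Fin.succ_succAbove_zero i).symm
  | succ k => exact (Fin.succ_succAbove_succ i k).symm

lemma sh_map_δ {n : ℕ} (i : Fin (n + 2)) : sh.map (δ i) = δ i.succ := by
  ext j : 3
  exact shFun_succAbove i j

/-- the natural transformation `δ⁰ : id ⟶ sh` -/
def d0 : 𝟭 SimplexCategory ⟶ sh where
  app a := δ (0 : Fin (a.len + 2))
  naturality {a b} f := by
    ext j : 3
    show Fin.succAbove 0 (f.toOrderHom j) = shFun f.toOrderHom (Fin.succAbove 0 j)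
    rw [Fin.succAbove_zero, Fin.succAbove_zero]
    rfl

section dec

open AlgebraicTopology AlgebraicTopology.AlternatingCofaceMapComplex Simplicial

variable {𝒜 : Type u} [Category.{v} 𝒜] [Preadditive 𝒜] (X : CosimplicialObject 𝒜)

/-- the décalage of a cosimplicial object -/
def dec : CosimplicialObject 𝒜 := sh ⋙ X

/-- the canonical map to the décalage -/
def decι : X ⟶ dec X where
  app a := X.map (d0.app a)
  naturality {a b} f := by
    show X.map f ≫ X.map (d0.app b) = X.map (d0.app a) ≫ X.map (sh.map f)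
    rw [← X.map_comp, ← X.map_comp]
    exact congrArg X.map (d0.naturality f)

lemma dec_δ {n : ℕ} (i : Fin (n + 2)) : (dec X).δ i = X.δ i.succ := by
  exact congrArg X.map (sh_map_δ i)

lemma decι_app_comp_σ (a : SimplexCategory) :
    (decι X).app a ≫ X.map (SimplexCategory.σ (0 : Fin (a.len + 1))) = 𝟙 _ := by
  show X.map (SimplexCategory.δ (0 : Fin (a.len + 2))) ≫ X.map (SimplexCategory.σ 0) = 𝟙 _
  rw [← X.map_comp]
  have h : SimplexCategory.δ (0 : Fin (a.len + 2)) ≫ SimplexCategory.σ (0 : Fin (a.len + 1)) =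
      𝟙 _ := SimplexCategory.δ_comp_σ_self (i := (0 : Fin (a.len + 1)))
  rw [h]
  exact X.map_id _

instance : Mono (decι X) := by
  haveI : ∀ a, Mono ((decι X).app a) := fun a =>
    mono_of_mono_fac (decι_app_comp_σ X a)
  exact NatTrans.mono_of_mono_app _

/-- the extra codegeneracy -/
def hh (n : ℕ) : X.obj ⦋n + 2⦌ ⟶ X.obj ⦋n + 1⦌ := X.map (SimplexCategory.σ (0 : Fin (n + 2)))

/-- the differential of the complex of the décalage -/
def dD (n : ℕ) : X.obj ⦋n + 1⦌ ⟶ X.obj ⦋n + 2⦌ := objD (dec X) n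

lemma dD_eq (n : ℕ) : dD X n = ∑ i : Fin (n + 2), (-1 : ℤ) ^ (i : ℕ) • X.δ i.succ := by
  unfold dD objD
  exact Finset.sum_congr rfl (fun i _ => congrArg (fun t => (-1 : ℤ) ^ (i : ℕ) • t) (dec_δ X i))

lemma key (n : ℕ) :
    dD X (n + 1) ≫ hh X (n + 1) + hh X n ≫ dD X n = 𝟙 (X.obj ⦋n + 2⦌) := by
  have h1 : dD X (n + 1) ≫ hh X (n + 1) =
      𝟙 (X.obj ⦋n + 2⦌) + ∑ k : Fin (n + 2), (-1 : ℤ) ^ ((k : ℕ) + 1) •
        (X.map (SimplexCategory.σ (0 : Fin (n + 2))) ≫ X.map (SimplexCategory.δ k.succ)) := by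
    rw [dD_eq]
    unfold hh
    rw [Preadditive.sum_comp, Fin.sum_univ_succ]
    congr 1
    · rw [Fin.val_zero, pow_zero, one_smul]
      show X.map (SimplexCategory.δ (Fin.succ 0)) ≫ X.map (SimplexCategory.σ 0) = 𝟙 _
      rw [← X.map_comp, SimplexCategory.δ_comp_σ_succ]
      exact X.map_id _
    · refine Finset.sum_congr rfl (fun k _ => ?_)
      rw [Preadditive.zsmul_comp, Fin.val_succ]
      congr 1
      show X.map (SimplexCategory.δ k.succ.succ) ≫ X.map (SimplexCategory.σ 0) = _
      rw [← X.map_comp, ← X.map_comp]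
      have h := SimplexCategory.δ_comp_σ_of_gt (n := n + 1) (i := k.succ) (j := 0)
        (by rw [Fin.castSucc_zero]; exact Fin.succ_pos k)
      rw [Fin.castSucc_zero] at h
      rw [h]
  have h2 : hh X n ≫ dD X n = ∑ k : Fin (n + 2), (-1 : ℤ) ^ (k : ℕ) •
        (X.map (SimplexCategory.σ (0 : Fin (n + 2))) ≫ X.map (SimplexCategory.δ k.succ)) := by
    rw [dD_eq]
    unfold hh
    rw [Preadditive.comp_sum]
    refine Finset.sum_congr rfl (fun k _ => ?_)
    rw [Preadditive.comp_zsmul]
    rfl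
  have h3 : ∀ k : Fin (n + 2), (-1 : ℤ) ^ ((k : ℕ) + 1) •
        (X.map (SimplexCategory.σ (0 : Fin (n + 2))) ≫ X.map (SimplexCategory.δ k.succ)) +
      (-1 : ℤ) ^ (k : ℕ) •
        (X.map (SimplexCategory.σ (0 : Fin (n + 2))) ≫ X.map (SimplexCategory.δ k.succ)) = 0 := by
    intro k
    rw [← add_smul, pow_succ]
    simp
  have h4 : (∑ k : Fin (n + 2), (-1 : ℤ) ^ ((k : ℕ) + 1) •
        (X.map (SimplexCategory.σ (0 : Fin (n + 2))) ≫ X.map (SimplexCategory.δ k.succ))) +
      ∑ k : Fin (n + 2), (-1 : ℤ) ^ (k : ℕ) •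
        (X.map (SimplexCategory.σ (0 : Fin (n + 2))) ≫ X.map (SimplexCategory.δ k.succ)) = 0 := by
    rw [← Finset.sum_add_distrib]
    exact Finset.sum_eq_zero (fun k _ => h3 k)
  rw [h1, h2]
  exact (add_assoc _ _ _).trans (by rw [h4, add_zero])

end dec

end Groth.Agent.H6.CsLim
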