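import Mathlib
import Groth.Agent.Lib.Helper6.CsLimA
import Groth.Agent.Lib.Helper8.LC.RDerIso
import Groth.Agent.Lib.Helper8.LC.CxDelta

/-! Helper6: the cohomology of the alternating coface map complex as an effaceable δ-functor on
cosimplicial objects of an abelian category (S8568, part B). -/

set_option autoImplicit false
open CategoryTheory CategoryTheory.Limits SimplexCategory AlgebraicTopology
  AlgebraicTopology.AlternatingCofaceMapComplex Simplicial

universe v u

namespace Groth.Agent.H6.CsLim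

variable {𝒜 : Type u} [Category.{v} 𝒜] [Abelian 𝒜]

/-- exactness from a contracting homotopy -/
lemma exact_of_contraction {A B C : 𝒜} (f : A ⟶ B) (g : B ⟶ C) (w : f ≫ g = 0) (s : B ⟶ A)
    (t : C ⟶ B) (h : g ≫ t + s ≫ f = 𝟙 B) : (ShortComplex.mk f g w).Exact := by
  rw [ShortComplex.exact_iff_kernel_ι_comp_cokernel_π_zero]
  dsimp
  have h1 : kernel.ι g = (kernel.ι g ≫ s) ≫ f := by
    have h2 := congrArg (fun φ => kernel.ι g ≫ φ) h
    simp only [Preadditive.comp_add, Category.comp_id] at h2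
    rw [← Category.assoc, kernel.condition, zero_comp, zero_add, ← Category.assoc] at h2
    exact h2.symm
  rw [h1, Category.assoc, cokernel.condition, comp_zero]

lemma isZero_homology_dec (X : CosimplicialObject 𝒜) (n : ℕ) :
    IsZero (((alternatingCofaceMapComplex 𝒜).obj (dec X)).homology (n + 1)) := by
  rw [← HomologicalComplex.exactAt_iff_isZero_homology,
    HomologicalComplex.exactAt_iff' _ n (n + 1) (n + 2) (by simp) (by simp)]
  have w : dD X n ≫ dD X (n + 1) = 0 := d_squared (dec X) n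
  let S' : ShortComplex 𝒜 := ShortComplex.mk (dD X n) (dD X (n + 1)) w
  have hS' : S'.Exact :=
    exact_of_contraction (dD X n) (dD X (n + 1)) w (hh X n) (hh X (n + 1)) (key X n)
  let e : HomologicalComplex.sc' ((alternatingCofaceMapComplex 𝒜).obj (dec X)) n (n + 1) (n + 2) ≅
      S' := ShortComplex.isoMk (Iso.refl _) (Iso.refl _) (Iso.refl _)
    ((Category.id_comp (dD X n)).trans
      ((CochainComplex.of_d (fun n => (dec X).obj ⦋n⦌) (objD (dec X)) n).symm.trans
        (Category.comp_id _).symm))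
    ((Category.id_comp (dD X (n + 1))).trans
      ((CochainComplex.of_d (fun n => (dec X).obj ⦋n⦌) (objD (dec X))
        (n + 1)).symm.trans (Category.comp_id _).symm))
  exact (ShortComplex.exact_iff_of_iso e).2 hS'

lemma isZero_homology_of_injective (I : SimplexCategory ⥤ 𝒜) [Injective I] (n : ℕ) :
    IsZero (((alternatingCofaceMapComplex 𝒜).obj I).homology (n + 1)) := by
  let ι : I ⟶ (sh ⋙ I) := decι I
  haveI : Mono ι := (inferInstance : Mono (decι I))
  let r : (sh ⋙ I) ⟶ I := Injective.factorThru (𝟙 I) ι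
  have hr : ι ≫ r = 𝟙 I := Injective.comp_factorThru _ _
  let Fn : (SimplexCategory ⥤ 𝒜) ⥤ 𝒜 :=
    alternatingCofaceMapComplex 𝒜 ⋙ HomologicalComplex.homologyFunctor 𝒜 _ (n + 1)
  have h1 : 𝟙 (Fn.obj I) = Fn.map ι ≫ Fn.map r := by
    rw [← Fn.map_comp, hr, Fn.map_id]
  show IsZero (Fn.obj I)
  rw [IsZero.iff_id_eq_zero, h1]
  have hz : IsZero (Fn.obj (sh ⋙ I)) := isZero_homology_dec I n
  rw [hz.eq_of_tgt (Fn.map ι) 0, zero_comp]

/-- the alternating coface map complex functor on the functor category -/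
abbrev GG : (SimplexCategory ⥤ 𝒜) ⥤ CochainComplex 𝒜 ℕ := alternatingCofaceMapComplex 𝒜

instance : (GG (𝒜 := 𝒜)).PreservesZeroMorphisms where
  map_zero X Y := by
    ext n
    rfl

lemma shortExact_map (S : ShortComplex (SimplexCategory ⥤ 𝒜)) (hS : S.ShortExact) :
    (S.map (GG (𝒜 := 𝒜))).ShortExact := by
  refine Groth.Agent.H8.LC.shortExact_map_of_degreewise (GG (𝒜 := 𝒜))
    (fun S hS i => ?_) S hS
  have h := hS.map_of_exact ((evaluation SimplexCategory 𝒜).obj ⦋i⦌)
  exact h

/-- the cohomology of the alternating coface map complex, as a δ-functor -/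
noncomputable def coT : Groth.Agent.H8.LC.DeltaFunctor (SimplexCategory ⥤ 𝒜) 𝒜 :=
  Groth.Agent.H8.LC.cxDelta (GG (𝒜 := 𝒜)) shortExact_map

lemma coT_effaceable : (coT (𝒜 := 𝒜)).Effaceable := by
  intro I _ n
  exact isZero_homology_of_injective (𝒜 := 𝒜) I n

end Groth.Agent.H6.CsLim
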