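import Mathlib
import Groth.Agent.Lib.Helper6.CsLimB

/-! Helper6: the limit of a cosimplicial object of an abelian category is the degree-zero
cohomology of its alternating coface map complex; the derived functors of the limit
(S8568, part C). -/

set_option autoImplicit false
open CategoryTheory CategoryTheory.Limits SimplexCategory AlgebraicTopology
  AlgebraicTopology.AlternatingCofaceMapComplex Simplicial

universe v u

namespace Groth.Agent.H6.CsLim

variable {𝒜 : Type u} [Category.{v} 𝒜] [Abelian 𝒜] (X : SimplexCategory ⥤ 𝒜)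

/-- the complex of a cosimplicial object -/
abbrev KK : CochainComplex 𝒜 ℕ := (GG (𝒜 := 𝒜)).obj X

/-- the first differential, with explicit source and target -/
def d01 : X.obj ⦋0⦌ ⟶ X.obj ⦋1⦌ := (KK X).d 0 1

lemma d01_eq : d01 X = X.map (SimplexCategory.δ (0 : Fin 2)) -
    X.map (SimplexCategory.δ (1 : Fin 2)) := by
  have h : d01 X = objD X 0 := CochainComplex.of_d (fun n => X.obj ⦋n⦌) (objD X) 0
  rw [h]
  unfold objD
  rw [Fin.sum_univ_two]
  simp only [Fin.val_zero, pow_zero, one_smul, Fin.val_one, pow_one, neg_smul]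
  rw [sub_eq_add_neg]
  rfl

lemma comp_δ_eq {T : 𝒜} (k : T ⟶ X.obj ⦋0⦌) (hk : k ≫ d01 X = 0) :
    k ≫ X.map (SimplexCategory.δ (0 : Fin 2)) = k ≫ X.map (SimplexCategory.δ (1 : Fin 2)) := by
  rw [d01_eq, Preadditive.comp_sub, sub_eq_zero] at hk
  exact hk

lemma const_eq_δ_one_comp {n : ℕ} (i j : Fin (n + 1)) (h : i ≤ j) :
    SimplexCategory.const ⦋0⦌ ⦋n⦌ i = SimplexCategory.δ (1 : Fin 2) ≫ SimplexCategory.mkOfLe i j h := by
  rw [SimplexCategory.eq_const_of_zero (SimplexCategory.δ (1 : Fin 2) ≫ SimplexCategory.mkOfLe i j h)]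
  rfl

lemma const_eq_δ_zero_comp {n : ℕ} (i j : Fin (n + 1)) (h : i ≤ j) :
    SimplexCategory.const ⦋0⦌ ⦋n⦌ j = SimplexCategory.δ (0 : Fin 2) ≫ SimplexCategory.mkOfLe i j h := by
  rw [SimplexCategory.eq_const_of_zero (SimplexCategory.δ (0 : Fin 2) ≫ SimplexCategory.mkOfLe i j h)]
  rfl

lemma comp_const_eq_of_le {T : 𝒜} (k : T ⟶ X.obj ⦋0⦌) (hk : k ≫ d01 X = 0) {n : ℕ}
    (i j : Fin (n + 1)) (h : i ≤ j) :
    k ≫ X.map (SimplexCategory.const ⦋0⦌ ⦋n⦌ i) = k ≫ X.map (SimplexCategory.const ⦋0⦌ ⦋n⦌ j) := by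
  rw [const_eq_δ_one_comp i j h, const_eq_δ_zero_comp i j h, X.map_comp, X.map_comp,
    ← Category.assoc, ← Category.assoc, comp_δ_eq X k hk]

lemma comp_const_eq {T : 𝒜} (k : T ⟶ X.obj ⦋0⦌) (hk : k ≫ d01 X = 0)
    (a : SimplexCategory) (i j : Fin (a.len + 1)) :
    k ≫ X.map (SimplexCategory.const ⦋0⦌ a i) = k ≫ X.map (SimplexCategory.const ⦋0⦌ a j) := by
  rcases le_total i j with h | h
  · exact comp_const_eq_of_le X k hk i j h
  · exact (comp_const_eq_of_le X k hk j i h).symm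

/-- the inclusion of the degree-zero cycles -/
noncomputable def iZ : (KK X).cycles 0 ⟶ X.obj ⦋0⦌ := (KK X).iCycles 0

lemma iZ_d01 : iZ X ≫ d01 X = 0 := (KK X).iCycles_d 0 1

instance : Mono (iZ X) := inferInstanceAs (Mono ((KK X).iCycles 0))

/-- the cone of degree-zero cycles -/
noncomputable def cyCone : Cone X where
  pt := (KK X).cycles 0
  π :=
    { app := fun a => iZ X ≫ X.map (SimplexCategory.const ⦋0⦌ a 0)
      naturality := fun a b f => by
        dsimp
        rw [Category.id_comp, Category.assoc, ← X.map_comp, SimplexCategory.const_comp]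
        exact comp_const_eq X (iZ X) (iZ_d01 X) b _ _ }

lemma cyCone_π_zero : (cyCone X).π.app ⦋0⦌ = iZ X := by
  show iZ X ≫ X.map (SimplexCategory.const ⦋0⦌ ⦋0⦌ 0) = iZ X
  rw [SimplexCategory.const_eq_id, X.map_id, Category.comp_id]

lemma cone_π_zero_d01 (s : Cone X) : s.π.app ⦋0⦌ ≫ d01 X = 0 := by
  rw [d01_eq, Preadditive.comp_sub, sub_eq_zero, s.w, s.w]

/-- the cone of degree-zero cycles is a limit cone -/
noncomputable def cyConeIsLimit : IsLimit (cyCone X) where
  lift s := (KK X).liftCycles (s.π.app ⦋0⦌) 1 (by simp) (cone_π_zero_d01 X s)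
  fac s a := by
    show (KK X).liftCycles (s.π.app ⦋0⦌) 1 _ _ ≫ (KK X).iCycles 0 ≫
      X.map (SimplexCategory.const ⦋0⦌ a 0) = s.π.app a
    rw [← Category.assoc, HomologicalComplex.liftCycles_i]
    exact s.w _
  uniq s m hm := by
    have h := hm ⦋0⦌
    rw [cyCone_π_zero] at h
    have h2 : (KK X).liftCycles (s.π.app ⦋0⦌) 1 (by simp) (cone_π_zero_d01 X s) ≫ iZ X =
        s.π.app ⦋0⦌ := HomologicalComplex.liftCycles_i _ _ _ _ _
    exact (cancel_mono (iZ X)).1 (h.trans h2.symm)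

/-- the limit of a cosimplicial object is the degree-zero cohomology of its complex -/
noncomputable def limIso [HasLimitsOfShape SimplexCategory 𝒜] :
    limit X ≅ (KK X).homology 0 :=
  limit.isoLimitCone ⟨cyCone X, cyConeIsLimit X⟩ ≪≫ (KK X).isoHomologyπ₀

end Groth.Agent.H6.CsLim
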