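import Mathlib
import Groth.Agent.Lib.Helper6.CsLimC

/-! Helper6: the right derived functors of the limit of cosimplicial objects are computed by
the alternating coface map complex (S8568, part D). -/

set_option autoImplicit false
open CategoryTheory CategoryTheory.Limits SimplexCategory AlgebraicTopology
  AlgebraicTopology.AlternatingCofaceMapComplex Simplicial

universe v u

namespace Groth.Agent.H6.CsLim

variable {𝒜 : Type u} [Category.{v} 𝒜] [Abelian 𝒜]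

lemma GG_map_f_zero {X Y : SimplexCategory ⥤ 𝒜} (f : X ⟶ Y) :
    ((GG (𝒜 := 𝒜)).map f).f 0 = f.app ⦋0⦌ := rfl

/-- the limit is the object of degree-zero cycles -/
noncomputable def cyIso [HasLimitsOfShape SimplexCategory 𝒜] (X : SimplexCategory ⥤ 𝒜) :
    limit X ≅ (KK X).cycles 0 :=
  limit.isoLimitCone ⟨cyCone X, cyConeIsLimit X⟩

lemma limIso_hom_eq [HasLimitsOfShape SimplexCategory 𝒜] (X : SimplexCategory ⥤ 𝒜) :
    (limIso X).hom = (cyIso X).hom ≫ (KK X).homologyπ 0 := rfl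

lemma cyIso_hom_iZ [HasLimitsOfShape SimplexCategory 𝒜] (X : SimplexCategory ⥤ 𝒜) :
    (cyIso X).hom ≫ iZ X = limit.π X ⦋0⦌ := by
  have h := limit.isoLimitCone_hom_π ⟨cyCone X, cyConeIsLimit X⟩ ⦋0⦌
  refine Eq.trans ?_ h
  exact congrArg (fun φ => (limit.isoLimitCone ⟨cyCone X, cyConeIsLimit X⟩).hom ≫ φ)
    (cyCone_π_zero X).symm

lemma cyIso_naturality [HasLimitsOfShape SimplexCategory 𝒜] {X Y : SimplexCategory ⥤ 𝒜}
    (f : X ⟶ Y) :
    (lim : (SimplexCategory ⥤ 𝒜) ⥤ 𝒜).map f ≫ (cyIso Y).hom =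
      (cyIso X).hom ≫ HomologicalComplex.cyclesMap ((GG (𝒜 := 𝒜)).map f) 0 := by
  rw [← cancel_mono (iZ Y), Category.assoc, Category.assoc, cyIso_hom_iZ]
  have h1 : HomologicalComplex.cyclesMap ((GG (𝒜 := 𝒜)).map f) 0 ≫ iZ Y =
      iZ X ≫ f.app ⦋0⦌ := HomologicalComplex.cyclesMap_i _ _
  rw [h1, ← Category.assoc, cyIso_hom_iZ]
  exact limMap_π f ⦋0⦌

lemma limIso_naturality [HasLimitsOfShape SimplexCategory 𝒜] {X Y : SimplexCategory ⥤ 𝒜}
    (f : X ⟶ Y) :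
    (lim : (SimplexCategory ⥤ 𝒜) ⥤ 𝒜).map f ≫ (limIso Y).hom =
      (limIso X).hom ≫ HomologicalComplex.homologyMap ((GG (𝒜 := 𝒜)).map f) 0 := by
  rw [limIso_hom_eq, limIso_hom_eq, Category.assoc,
    HomologicalComplex.homologyπ_naturality, ← Category.assoc, ← Category.assoc,
    cyIso_naturality]

/-- the limit functor is the degree-zero part of the δ-functor -/
noncomputable def e0 [HasLimitsOfShape SimplexCategory 𝒜] :
    (lim : (SimplexCategory ⥤ 𝒜) ⥤ 𝒜) ≅ (coT (𝒜 := 𝒜)).F 0 :=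
  NatIso.ofComponents (fun X => limIso X) (fun f => limIso_naturality f)

theorem main [HasLimitsOfShape SimplexCategory 𝒜] [EnoughInjectives (SimplexCategory ⥤ 𝒜)]
    [(lim : (SimplexCategory ⥤ 𝒜) ⥤ 𝒜).Additive] (F : SimplexCategory ⥤ 𝒜) (n : ℕ) :
    Nonempty (((lim : (SimplexCategory ⥤ 𝒜) ⥤ 𝒜).rightDerived n).obj F ≅
      ((alternatingCofaceMapComplex 𝒜).obj F).homology n) := by
  haveI : ((coT (𝒜 := 𝒜)).F 0).Additive := Functor.additive_of_iso (e0 (𝒜 := 𝒜))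
  exact ⟨(Groth.Agent.H8.LC.DeltaFunctor.rightDerivedIso (coT (𝒜 := 𝒜)) coT_effaceable
    (lim : (SimplexCategory ⥤ 𝒜) ⥤ 𝒜) e0 n).app F⟩

end Groth.Agent.H6.CsLim
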