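import Mathlib
import Groth.Agent.Lib.Lead.SC.SitePull

/-! Helper6: left Kan extension along a functor whose comma categories are disjoint unions of
categories with terminal objects preserves monomorphisms of abelian presheaves; restriction of
abelian sheaves along `Over.map f` preserves injectives. -/

set_option autoImplicit false
universe u
open CategoryTheory Limits Opposite

namespace Groth.Agent.H6.ScLan

section general

variable {𝒦 : Type u} [SmallCategory 𝒦] {ι : Type u} (t : ι → 𝒦)

theorem final_discrete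
    (h1 : ∀ k : 𝒦, ∃ i, Nonempty (k ⟶ t i))
    (h2 : ∀ (k : 𝒦) (i i' : ι) (_ : k ⟶ t i) (_ : k ⟶ t i'), i = i')
    (h3 : ∀ (k : 𝒦) (i : ι) (m m' : k ⟶ t i), m = m') :
    (Discrete.functor t).Final := by
  constructor
  intro k
  obtain ⟨i, ⟨m⟩⟩ := h1 k
  haveI : Nonempty (StructuredArrow k (Discrete.functor t)) :=
    ⟨StructuredArrow.mk (Y := ⟨i⟩) (show k ⟶ (Discrete.functor t).obj ⟨i⟩ from m)⟩
  apply zigzag_isConnected
  intro a b
  have e : a.right.as = b.right.as := h2 k _ _ a.hom b.hom
  have e' : a.right = b.right := Discrete.ext e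
  exact Zigzag.of_hom (StructuredArrow.homMk (eqToHom e') (h3 k _ _ _))

theorem mono_colimMap
    (h1 : ∀ k : 𝒦, ∃ i, Nonempty (k ⟶ t i))
    (h2 : ∀ (k : 𝒦) (i i' : ι) (_ : k ⟶ t i) (_ : k ⟶ t i'), i = i')
    (h3 : ∀ (k : 𝒦) (i : ι) (m m' : k ⟶ t i), m = m')
    {G G' : 𝒦 ⥤ AddCommGrpCat.{u}} (φ : G ⟶ G') (hφ : ∀ k, Mono (φ.app k)) :
    Mono (colimMap φ) := by
  haveI := final_discrete t h1 h2 h3
  haveI : HasExactColimitsOfShape 𝒦 AddCommGrpCat.{u} :=
    hasExactColimitsOfShape_of_final AddCommGrpCat.{u} (Discrete.functor t)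
  haveI : Mono φ := NatTrans.mono_of_mono_app φ
  haveI : (colim (J := 𝒦) (C := AddCommGrpCat.{u})).PreservesMonomorphisms :=
    preservesMonomorphisms_of_preservesLimitsOfShape _
  exact inferInstanceAs (Mono ((colim (J := 𝒦) (C := AddCommGrpCat.{u})).map φ))

end general

section lan

variable {C' D' : Type u} [SmallCategory C'] [SmallCategory D'] (L : C' ⥤ D')

theorem lan_map_app_mono {V : D'} {ι : Type u} (t : ι → CostructuredArrow L V)
    (h1 : ∀ k : CostructuredArrow L V, ∃ i, Nonempty (k ⟶ t i))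
    (h2 : ∀ (k : CostructuredArrow L V) (i i' : ι) (_ : k ⟶ t i) (_ : k ⟶ t i'), i = i')
    (h3 : ∀ (k : CostructuredArrow L V) (i : ι) (m m' : k ⟶ t i), m = m')
    {P Q : C' ⥤ AddCommGrpCat.{u}} (φ : P ⟶ Q) (hφ : ∀ W, Mono (φ.app W)) :
    Mono ((L.lan.map φ).app V) := by
  have hP := Functor.isPointwiseLeftKanExtensionLeftKanExtensionUnit L P V
  have hQ := Functor.isPointwiseLeftKanExtensionLeftKanExtensionUnit L Q V
  let cP := (Functor.LeftExtension.mk _ (L.leftKanExtensionUnit P)).coconeAt V
  let cQ := (Functor.LeftExtension.mk _ (L.leftKanExtensionUnit Q)).coconeAt V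
  let ψ : CostructuredArrow.proj L V ⋙ P ⟶ CostructuredArrow.proj L V ⋙ Q :=
    Functor.whiskerLeft (CostructuredArrow.proj L V) φ
  let m : (L.leftKanExtension P).obj V ⟶ (L.leftKanExtension Q).obj V := (L.lan.map φ).app V
  have hnat : ∀ k : CostructuredArrow L V, cP.ι.app k ≫ m = ψ.app k ≫ cQ.ι.app k := by
    intro k
    have h1 : φ.app k.left ≫ (L.leftKanExtensionUnit Q).app k.left =
        (L.leftKanExtensionUnit P).app k.left ≫ (L.lan.map φ).app (L.obj k.left) :=
      congrArg (fun (α : P ⟶ L ⋙ L.leftKanExtension Q) => α.app k.left)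
        (L.lanUnit.naturality φ)
    have h2 : (L.leftKanExtension P).map k.hom ≫ (L.lan.map φ).app V =
        (L.lan.map φ).app (L.obj k.left) ≫ (L.leftKanExtension Q).map k.hom :=
      (L.lan.map φ).naturality k.hom
    change ((L.leftKanExtensionUnit P).app k.left ≫ (L.leftKanExtension P).map k.hom) ≫ m =
      φ.app k.left ≫ ((L.leftKanExtensionUnit Q).app k.left ≫ (L.leftKanExtension Q).map k.hom)
    refine (Category.assoc _ _ _).trans ?_
    refine (congrArg (fun z => (L.leftKanExtensionUnit P).app k.left ≫ z) h2).trans ?_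
    refine (Category.assoc _ _ _).symm.trans ?_
    refine (congrArg (fun z => z ≫ (L.leftKanExtension Q).map k.hom) h1.symm).trans ?_
    exact Category.assoc _ _ _
  let eP := IsColimit.coconePointUniqueUpToIso hP (colimit.isColimit _)
  let eQ := IsColimit.coconePointUniqueUpToIso hQ (colimit.isColimit _)
  have hm : m = eP.hom ≫ colimMap ψ ≫ eQ.inv := by
    apply hP.hom_ext
    intro k
    have e1 : cP.ι.app k ≫ eP.hom = colimit.ι _ k :=
      IsColimit.comp_coconePointUniqueUpToIso_hom hP (colimit.isColimit _) k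
    have e2 : colimit.ι _ k ≫ eQ.inv = cQ.ι.app k :=
      IsColimit.comp_coconePointUniqueUpToIso_inv hQ (colimit.isColimit _) k
    calc cP.ι.app k ≫ m = ψ.app k ≫ cQ.ι.app k := hnat k
      _ = ψ.app k ≫ colimit.ι _ k ≫ eQ.inv := by rw [e2]
      _ = (colimit.ι _ k ≫ colimMap ψ) ≫ eQ.inv := by rw [ι_colimMap, Category.assoc]
      _ = (cP.ι.app k ≫ eP.hom) ≫ colimMap ψ ≫ eQ.inv := by rw [e1, Category.assoc]
      _ = cP.ι.app k ≫ eP.hom ≫ colimMap ψ ≫ eQ.inv := Category.assoc _ _ _
  have hmono : Mono (colimMap ψ) := mono_colimMap t h1 h2 h3 ψ (fun k => hφ k.left)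
  have hmono2 : Mono (colimMap ψ ≫ eQ.inv) := mono_comp _ _
  change Mono m
  rw [hm]
  exact @mono_comp _ _ _ _ _ eP.hom inferInstance (colimMap ψ ≫ eQ.inv) hmono2

end lan

section overMap

variable {C : Type u} [SmallCategory C] {X Y : C} (f : X ⟶ Y)

/-- lifts of the structure map of an object over `Y` through `f` -/
abbrev LiftT (V : Over Y) := {s : V.left ⟶ X // s ≫ f = V.hom}

/-- the terminal object of the component of the comma category attached to a lift -/
def tObj (V : Over Y) (s : LiftT f V) : CostructuredArrow (Over.map f).op (op V) :=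
  CostructuredArrow.mk (Y := op (Over.mk s.1))
    ((Over.homMk (𝟙 V.left) (by simp [s.2]) : V ⟶ (Over.map f).obj (Over.mk s.1))).op

theorem tObj_h1 (V : Over Y) (k : CostructuredArrow (Over.map f).op (op V)) :
    ∃ i, Nonempty (k ⟶ tObj f V i) := by
  let g : V ⟶ (Over.map f).obj k.left.unop := k.hom.unop
  have hg : g.left ≫ (k.left.unop.hom ≫ f) = V.hom := Over.w g
  refine ⟨⟨g.left ≫ k.left.unop.hom, by rw [Category.assoc]; exact hg⟩, ⟨?_⟩⟩
  refine CostructuredArrow.homMk
    (Over.homMk g.left rfl : Over.mk (g.left ≫ k.left.unop.hom) ⟶ k.left.unop).op ?_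
  apply Quiver.Hom.unop_inj
  apply Over.OverMorphism.ext
  change 𝟙 _ ≫ g.left = g.left
  exact Category.id_comp _

theorem tObj_left (V : Over Y) (k : CostructuredArrow (Over.map f).op (op V)) (i : LiftT f V)
    (m : k ⟶ tObj f V i) : m.left.unop.left = k.hom.unop.left := by
  have h : (Over.map f).op.map m.left ≫ (tObj f V i).hom = k.hom := CostructuredArrow.w m
  have h' := congrArg (fun (z : (Over.map f).op.obj k.left ⟶ op V) => z.unop.left) h
  change 𝟙 _ ≫ m.left.unop.left = k.hom.unop.left at h'
  rw [Category.id_comp] at h'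
  exact h'

theorem tObj_h2 (V : Over Y) (k : CostructuredArrow (Over.map f).op (op V)) (i i' : LiftT f V)
    (m : k ⟶ tObj f V i) (m' : k ⟶ tObj f V i') : i = i' := by
  apply Subtype.ext
  have e1 : m.left.unop.left ≫ k.left.unop.hom = i.1 := Over.w m.left.unop
  have e2 : m'.left.unop.left ≫ k.left.unop.hom = i'.1 := Over.w m'.left.unop
  have e1' : k.hom.unop.left ≫ k.left.unop.hom = i.1 := by
    rw [← tObj_left f V k i m]; exact e1
  have e2' : k.hom.unop.left ≫ k.left.unop.hom = i'.1 := by
    rw [← tObj_left f V k i' m']; exact e2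
  exact e1'.symm.trans e2'

theorem tObj_h3 (V : Over Y) (k : CostructuredArrow (Over.map f).op (op V)) (i : LiftT f V)
    (m m' : k ⟶ tObj f V i) : m = m' := by
  apply CostructuredArrow.hom_ext
  apply Quiver.Hom.unop_inj
  apply Over.OverMorphism.ext
  rw [tObj_left f V k i m, tObj_left f V k i m']

theorem lan_overMap_mono {P Q : (Over X)ᵒᵖ ⥤ AddCommGrpCat.{u}} (φ : P ⟶ Q)
    (hφ : ∀ W, Mono (φ.app W)) : Mono ((Over.map f).op.lan.map φ) := by
  haveI : ∀ V, Mono (((Over.map f).op.lan.map φ).app V) := fun V =>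
    lan_map_app_mono (Over.map f).op (tObj f V.unop) (tObj_h1 f V.unop) (tObj_h2 f V.unop)
      (tObj_h3 f V.unop) φ hφ
  exact NatTrans.mono_of_mono_app _

end overMap

section sheaves

variable {C : Type u} [SmallCategory C] (J : GrothendieckTopology C) {X Y : C} (f : X ⟶ Y)

/-- restriction of abelian sheaves along `f : X ⟶ Y` (localisation) -/
noncomputable abbrev fInv :
    Sheaf (J.over Y) AddCommGrpCat.{u} ⥤ Sheaf (J.over X) AddCommGrpCat.{u} :=
  CohSite.push (J.over Y) (J.over X) (Over.map f)

/-- extension by zero along `f` -/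
noncomputable def fShriek :
    Sheaf (J.over X) AddCommGrpCat.{u} ⥤ Sheaf (J.over Y) AddCommGrpCat.{u} :=
  Functor.sheafPullbackConstruction.sheafPullback (Over.map f) AddCommGrpCat.{u}
    (J.over X) (J.over Y)

noncomputable def fShriekAdj : fShriek J f ⊣ fInv J f :=
  Functor.sheafPullbackConstruction.sheafAdjunctionContinuous (Over.map f) AddCommGrpCat.{u}
    (J.over X) (J.over Y)

instance preservesMonomorphisms_fShriek : (fShriek J f).PreservesMonomorphisms where
  preserves {F G} φ hφ := by
    change Mono ((presheafToSheaf (J.over Y) AddCommGrpCat.{u}).map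
      ((Over.map f).op.lan.map ((sheafToPresheaf _ _).map φ)))
    haveI : Mono ((sheafToPresheaf (J.over X) AddCommGrpCat.{u}).map φ) := inferInstance
    haveI : Mono ((Over.map f).op.lan.map
        ((sheafToPresheaf (J.over X) AddCommGrpCat.{u}).map φ)) := by
      apply lan_overMap_mono
      intro W
      infer_instance
    infer_instance

instance preservesInjectiveObjects_fInv : (fInv J f).PreservesInjectiveObjects :=
  Functor.preservesInjectiveObjects_of_adjunction_of_preservesMonomorphisms (fShriekAdj J f)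

instance preservesEpimorphisms_fInv : (fInv J f).PreservesEpimorphisms :=
  preservesEpimorphisms_of_preservesColimitsOfShape _

example : PreservesFiniteLimits (fInv J f) := inferInstance
example : PreservesFiniteColimits (fInv J f) := inferInstance
example : (fInv J f).Additive := inferInstance

end sheaves

end Groth.Agent.H6.ScLan
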