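import Mathlib
import Groth.Prelude.Def_SiteCmp
import Groth.Prelude.Def_WeakSerre
import Groth.Agent.Lib.Helper6.ScLan
import Groth.Agent.Lib.Helper6.ScHA
import Groth.Agent.Lib.Lead.SC.PushNat
import Groth.Agent.Lib.Lead.SC.MapResNat
import Groth.Agent.Lib.Lead.EZ.PostcompNat
import Groth.Agent.Lib.Lead.AbPull.SitePush

/-! Helper6: basic facts on the comparison functor `ε` between two topologies and the
relocalisation pushforward. -/

set_option autoImplicit false
universe u
open CategoryTheory Limits Opposite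

namespace Groth.Agent.H6.ScBase

open Groth.Agent.H6.ScLan Groth.Agent.LD.SC

section eps

variable {C : Type u} [SmallCategory C] {J J' : GrothendieckTopology C} (h : J' ≤ J)

/-- `ε_* : Sh(C, J) ⥤ Sh(C, J')` for abelian sheaves -/
noncomputable abbrev epsA : Sheaf J AddCommGrpCat.{u} ⥤ Sheaf J' AddCommGrpCat.{u} :=
  SiteCmp.epsSh h AddCommGrpCat.{u}

lemma epsA_eq : epsA h = (haveI := SiteCmp.idContinuous h; CohSite.push J J' (𝟭 C)) := rfl

instance : (epsA h).Additive := by
  haveI := SiteCmp.idContinuous h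
  exact inferInstanceAs ((CohSite.push J J' (𝟭 C)).Additive)

instance : (epsA h).IsRightAdjoint := by
  haveI := SiteCmp.idContinuous h
  exact inferInstanceAs ((pushS J J' (𝟭 C)).IsRightAdjoint)

instance : PreservesFiniteLimits (epsA h) := by
  haveI := SiteCmp.idContinuous h
  exact inferInstanceAs (PreservesFiniteLimits (pushS J J' (𝟭 C)))

instance : (epsA h).PreservesInjectiveObjects := by
  haveI := SiteCmp.idContinuous h
  haveI : PreservesFiniteLimits ((𝟭 C).sheafPullback (Type u) J' J) :=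
    ModSite.RMor.exact_of_flat (𝟭 C)
  exact ⟨fun {Q} hQ => Groth.Agent.LD.AbPull.injective_push J J' (𝟭 C) Q hQ⟩

/-- `Rᵖ ε_* F` is the `J'`-sheafification of the `J`-cohomology presheaf of `F` -/
theorem nonempty_rightDerived_epsA_iso (F : Sheaf J AddCommGrpCat.{u}) (p : ℕ) :
    Nonempty (((epsA h).rightDerived p).obj F ≅
      (presheafToSheaf J' AddCommGrpCat.{u}).obj (Sheaf.cohomologyPresheaf.{u} F p)) := by
  haveI := SiteCmp.idContinuous h
  obtain ⟨e⟩ := nonempty_rightDerived_push_iso J J' (𝟭 C) F p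
  exact ⟨e⟩

/-- under `V_n` for `F`, the cohomology presheaves of `F` and `ε_* F` agree up to degree `n` -/
theorem nonempty_cohomologyPresheaf_iso (F : Sheaf J AddCommGrpCat.{u}) (n : ℕ)
    (hV : ∀ q, 1 ≤ q → q ≤ n → IsZero (((epsA h).rightDerived q).obj F)) (i : ℕ) (hi : i ≤ n) :
    Nonempty (Sheaf.cohomologyPresheaf.{u} ((epsA h).obj F) i ≅
      Sheaf.cohomologyPresheaf.{u} F i) := by
  obtain ⟨e⟩ := Groth.Agent.H6.ScHA.nonempty_iso_comp (epsA h)
    (sheafToPresheaf J' AddCommGrpCat.{u}) n F hV i hi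
  let e1 := (rightDerivedForgetIso J' i).app ((epsA h).obj F)
  let e2 : epsA h ⋙ sheafToPresheaf J' AddCommGrpCat.{u} ≅ sheafToPresheaf J AddCommGrpCat.{u} :=
    Iso.refl _
  let e3 := (Groth.Agent.LD.EZ.rightDerivedIsoOfIso e2 i).app F
  let e4 := (rightDerivedForgetIso J i).app F
  exact ⟨e1.symm ≪≫ e ≪≫ e3 ≪≫ e4⟩

/-- a `J`-sheaf regarded as a `J'`-sheaf (no identity functor in the underlying presheaf) -/
def coarsen (Z : Sheaf J AddCommGrpCat.{u}) : Sheaf J' AddCommGrpCat.{u} :=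
  ⟨Z.obj, fun E => Presieve.isSheaf_of_le _ h (Z.2 E)⟩

/-- `ε_* Z` is `Z` regarded as a `J'`-sheaf -/
noncomputable def epsAIsoCoarsen (Z : Sheaf J AddCommGrpCat.{u}) : (epsA h).obj Z ≅ coarsen h Z :=
  (fullyFaithfulSheafToPresheaf J' AddCommGrpCat.{u}).preimageIso (Iso.refl _)

/-- if the `J'`-sheafification of a presheaf is a `J`-sheaf, it is the `J`-sheafification -/
theorem nonempty_eps_sheafify_iso (P : Cᵒᵖ ⥤ AddCommGrpCat.{u})
    (hP : Presheaf.IsSheaf J ((presheafToSheaf J' AddCommGrpCat.{u}).obj P).obj) :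
    Nonempty ((epsA h).obj ((presheafToSheaf J AddCommGrpCat.{u}).obj P) ≅
      (presheafToSheaf J' AddCommGrpCat.{u}).obj P) := by
  let adj := sheafificationAdjunction J AddCommGrpCat.{u}
  let adj' := sheafificationAdjunction J' AddCommGrpCat.{u}
  let M : Sheaf J AddCommGrpCat.{u} := ⟨((presheafToSheaf J' AddCommGrpCat.{u}).obj P).obj, hP⟩
  let Z : Sheaf J AddCommGrpCat.{u} := (presheafToSheaf J AddCommGrpCat.{u}).obj P
  let η : P ⟶ Z.obj := adj.unit.app P
  let η' : P ⟶ M.obj := adj'.unit.app P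
  let β' : (presheafToSheaf J' AddCommGrpCat.{u}).obj P ⟶ coarsen h Z :=
    (adj'.homEquiv P (coarsen h Z)).symm η
  have hβ' : η' ≫ β'.hom = η := by
    have := (adj'.homEquiv P (coarsen h Z)).apply_symm_apply η
    rwa [Adjunction.homEquiv_unit] at this
  let α : Z ⟶ M := (adj.homEquiv P M).symm η'
  have hα : η ≫ α.hom = η' := by
    have := (adj.homEquiv P M).apply_symm_apply η'
    rwa [Adjunction.homEquiv_unit] at this
  let β : M ⟶ Z := ObjectProperty.homMk β'.hom
  have h1 : α ≫ β = 𝟙 Z := by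
    apply (adj.homEquiv P Z).injective
    rw [Adjunction.homEquiv_unit, Adjunction.homEquiv_unit]
    change η ≫ (α.hom ≫ β'.hom) = η ≫ 𝟙 _
    rw [← Category.assoc, hα, hβ', Category.comp_id]
  have h2 : β ≫ α = 𝟙 M := by
    have h3 : (show (presheafToSheaf J' AddCommGrpCat.{u}).obj P ⟶
        (presheafToSheaf J' AddCommGrpCat.{u}).obj P from
          ObjectProperty.homMk (β'.hom ≫ α.hom)) = 𝟙 _ := by
      apply (adj'.homEquiv P _).injective
      rw [Adjunction.homEquiv_unit, Adjunction.homEquiv_unit]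
      change η' ≫ (β'.hom ≫ α.hom) = η' ≫ 𝟙 _
      rw [← Category.assoc, hβ']
      exact hα.trans (Category.comp_id _).symm
    apply Sheaf.hom_ext
    exact congrArg (fun z => z.hom) h3
  let e : Z ≅ M := ⟨α, β, h1, h2⟩
  let e' : (epsA h).obj M ≅ (presheafToSheaf J' AddCommGrpCat.{u}).obj P :=
    (fullyFaithfulSheafToPresheaf J' AddCommGrpCat.{u}).preimageIso (Iso.refl _)
  exact ⟨(epsA h).mapIso e ≪≫ e'⟩

end eps

section push

variable {C : Type u} [SmallCategory C] (J : GrothendieckTopology C) {X Y : C} (f : X ⟶ Y)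

/-- the relocalisation pushforward `f_* : Sh(C/X) ⥤ Sh(C/Y)` -/
noncomputable abbrev fPush :
    Sheaf (J.over X) AddCommGrpCat.{u} ⥤ Sheaf (J.over Y) AddCommGrpCat.{u} :=
  (Over.map f).sheafPushforwardCocontinuous AddCommGrpCat.{u} (J.over X) (J.over Y)

/-- `f⁻¹ ⊣ f_*` -/
noncomputable def fAdj : fInv J f ⊣ fPush J f :=
  (Over.map f).sheafAdjunctionCocontinuous AddCommGrpCat.{u} (J.over X) (J.over Y)

instance additive_fPush : (fPush J f).Additive := (fAdj J f).right_adjoint_additive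

instance : (fPush J f).IsRightAdjoint := (fAdj J f).isRightAdjoint

instance : PreservesFiniteLimits (fPush J f) := by
  haveI : PreservesLimits (fPush J f) := (fAdj J f).rightAdjoint_preservesLimits
  infer_instance

instance : (fPush J f).PreservesInjectiveObjects :=
  Functor.preservesInjectiveObjects_of_adjunction_of_preservesMonomorphisms (fAdj J f)

variable [HasPullbacksAlong f]

instance isContinuous_pullback : (Over.pullback f).IsContinuous (J.over Y) (J.over X) :=
  (Over.mapPullbackAdj f).isContinuous_of_isCocontinuous _ _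

/-- `f_*` is precomposition with the base change functor -/
noncomputable def fPushIso :
    fPush J f ≅ CohSite.push (J.over X) (J.over Y) (Over.pullback f) :=
  (fAdj J f).rightAdjointUniq
    ((Over.mapPullbackAdj f).sheafPushforwardContinuous (J.over X) (J.over Y))

/-- `Rⁱ f_* F` is the sheafification of `V ↦ Hⁱ(V ×_Y X, F)` -/
theorem nonempty_rightDerived_fPush_iso (F : Sheaf (J.over X) AddCommGrpCat.{u}) (i : ℕ) :
    Nonempty (((fPush J f).rightDerived i).obj F ≅
      (presheafToSheaf (J.over Y) AddCommGrpCat.{u}).obj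
        ((Over.pullback f).op ⋙ Sheaf.cohomologyPresheaf.{u} F i)) := by
  obtain ⟨e⟩ := nonempty_rightDerived_push_iso (J.over X) (J.over Y) (Over.pullback f) F i
  exact ⟨(Groth.Agent.LD.EZ.rightDerivedIsoOfIso (fPushIso J f) i).app F ≪≫ e⟩

end push

section compat

variable {C : Type u} [SmallCategory C] {J J' : GrothendieckTopology C} (h : J' ≤ J)

/-- `ε_X : Sh_J(C/X) ⥤ Sh_J'(C/X)` -/
noncomputable abbrev epsO (X : C) :
    Sheaf (J.over X) AddCommGrpCat.{u} ⥤ Sheaf (J'.over X) AddCommGrpCat.{u} :=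
  epsA (SiteCmp.over_le h X)

variable {X Y : C} (f : X ⟶ Y)

/-- `ε` commutes with restriction -/
noncomputable def epsInvIso : fInv J f ⋙ epsO h X ≅ epsO h Y ⋙ fInv J' f := Iso.refl _

variable [HasPullbacksAlong f]

/-- `ε` commutes with the relocalisation pushforward -/
noncomputable def epsPushIso : fPush J f ⋙ epsO h Y ≅ epsO h X ⋙ fPush J' f :=
  Functor.isoWhiskerRight (fPushIso J f) (epsO h Y) ≪≫
    (Iso.refl _ : CohSite.push (J.over X) (J.over Y) (Over.pullback f) ⋙ epsO h Y ≅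
      epsO h X ⋙ CohSite.push (J'.over X) (J'.over Y) (Over.pullback f)) ≪≫
    Functor.isoWhiskerLeft (epsO h X) (fPushIso J' f).symm

/-- **Lemma 6**: under `V_n` for `F`, `Rⁱ f_{τ',*} ε_* F ≅ ε_* Rⁱ f_{τ,*} F` for `i ≤ n`, provided the
left hand side is a `τ`-sheaf -/
theorem nonempty_rightDerived_fPush_eps_iso (n : ℕ) (F : Sheaf (J.over X) AddCommGrpCat.{u})
    (hV : ∀ q, 1 ≤ q → q ≤ n → IsZero (((epsO h X).rightDerived q).obj F))
    (i : ℕ) (hi : i ≤ n)
    (hsh : Presheaf.IsSheaf (J.over Y)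
      (((fPush J' f).rightDerived i).obj ((epsO h X).obj F)).obj) :
    Nonempty (((fPush J' f).rightDerived i).obj ((epsO h X).obj F) ≅
      (epsO h Y).obj (((fPush J f).rightDerived i).obj F)) := by
  obtain ⟨e1⟩ := nonempty_rightDerived_fPush_iso J' f ((epsO h X).obj F) i
  obtain ⟨e2⟩ := nonempty_cohomologyPresheaf_iso (SiteCmp.over_le h X) F n hV i hi
  let PP : (Over Y)ᵒᵖ ⥤ AddCommGrpCat.{u} :=
    (Over.pullback f).op ⋙ Sheaf.cohomologyPresheaf.{u} F i
  let e3 : (presheafToSheaf (J'.over Y) AddCommGrpCat.{u}).obj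
      ((Over.pullback f).op ⋙ Sheaf.cohomologyPresheaf.{u} ((epsO h X).obj F) i) ≅
      (presheafToSheaf (J'.over Y) AddCommGrpCat.{u}).obj PP :=
    (presheafToSheaf (J'.over Y) AddCommGrpCat.{u}).mapIso
      (Functor.isoWhiskerLeft (Over.pullback f).op e2)
  obtain ⟨e4⟩ := nonempty_rightDerived_fPush_iso J f F i
  have hP : Presheaf.IsSheaf (J.over Y)
      ((presheafToSheaf (J'.over Y) AddCommGrpCat.{u}).obj PP).obj :=
    (Presheaf.isSheaf_of_iso_iff
      ((sheafToPresheaf (J'.over Y) AddCommGrpCat.{u}).mapIso (e1 ≪≫ e3))).1 hsh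
  obtain ⟨e5⟩ := nonempty_eps_sheafify_iso (SiteCmp.over_le h Y) PP hP
  exact ⟨e1 ≪≫ e3 ≪≫ e5.symm ≪≫ (epsO h Y).mapIso e4.symm⟩

end compat

end Groth.Agent.H6.ScBase
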