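import Mathlib
import Groth.Prelude.Def_SiteCmp
import Groth.Prelude.Def_WeakSerre
import Groth.Agent.Lib.Helper6.ScBase
import Groth.Agent.Lib.Helper2.RDer7
import Groth.Agent.Lib.Lead.SC.SieveExt

/-! Helper6: `ε_*` is fully faithful; cokernels of maps of `τ`-sheaves computed in `τ'`-sheaves;
restriction along a covering is faithful. -/

set_option autoImplicit false
universe v v' u u'
open CategoryTheory CategoryTheory.Limits Opposite

namespace Groth.Agent.H6.ScFF

open Groth.Agent.H6.ScBase Groth.Agent.H6.ScLan Groth.Agent.LD.SC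

section general

variable {𝒜 : Type u} [Category.{v} 𝒜] [Abelian 𝒜] {ℬ : Type u'} [Category.{v'} ℬ] [Abelian ℬ]
  (G : 𝒜 ⥤ ℬ) [G.Additive] [G.Full] [G.Faithful] {A B : 𝒜} (φ : A ⟶ B)

/-- if the cokernel of `G φ` lies in the essential image of the fully faithful functor `G`,
then `G` preserves the cokernel of `φ` -/
theorem isIso_cokernelComparison_of_iso (K : 𝒜) (e : G.obj K ≅ cokernel (G.map φ)) :
    IsIso (cokernelComparison φ G) := by
  let π : B ⟶ K := G.preimage (cokernel.π (G.map φ) ≫ e.inv)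
  have hπ : G.map π = cokernel.π (G.map φ) ≫ e.inv := G.map_preimage _
  have w : φ ≫ π = 0 := by
    apply G.map_injective
    rw [G.map_comp, hπ, ← Category.assoc, cokernel.condition, zero_comp, G.map_zero]
  let c : cokernel φ ⟶ K := cokernel.desc φ π w
  have hc : cokernel.π φ ≫ c = π := cokernel.π_desc _ _ _
  let c' : K ⟶ cokernel φ := G.preimage (e.hom ≫ cokernelComparison φ G)
  have hc' : G.map c' = e.hom ≫ cokernelComparison φ G := G.map_preimage _
  have h1 : cokernelComparison φ G ≫ (G.map c ≫ e.hom) = 𝟙 _ := by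
    apply coequalizer.hom_ext
    rw [← Category.assoc, π_comp_cokernelComparison, ← Category.assoc, ← G.map_comp, hc, hπ,
      Category.assoc, e.inv_hom_id, Category.comp_id]
  have h2 : c ≫ c' = 𝟙 _ := by
    apply coequalizer.hom_ext
    rw [← Category.assoc, hc, Category.comp_id]
    apply G.map_injective
    rw [G.map_comp, hπ, hc', Category.assoc, ← Category.assoc e.inv, e.inv_hom_id,
      Category.id_comp, π_comp_cokernelComparison]
  have h3 : (G.map c ≫ e.hom) ≫ cokernelComparison φ G = 𝟙 _ := by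
    rw [Category.assoc, ← hc', ← G.map_comp, h2, G.map_id]
  exact ⟨⟨G.map c ≫ e.hom, h1, h3⟩⟩

/-- under the same hypothesis, `G` of an epimorphism is an epimorphism -/
theorem epi_map_of_iso [Epi φ] (K : 𝒜) (e : G.obj K ≅ cokernel (G.map φ)) : Epi (G.map φ) := by
  haveI := isIso_cokernelComparison_of_iso G φ K e
  have hz : IsZero (cokernel φ) := isZero_cokernel_of_epi φ
  have hz' : IsZero (cokernel (G.map φ)) :=
    (G.map_isZero hz).of_iso (asIso (cokernelComparison φ G))
  exact Preadditive.epi_of_isZero_cokernel _ hz'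

/-- under the same hypothesis, `G (cokernel.π φ)` is an epimorphism -/
theorem epi_map_cokernel_π_of_iso (K : 𝒜) (e : G.obj K ≅ cokernel (G.map φ)) :
    Epi (G.map (cokernel.π φ)) := by
  haveI := isIso_cokernelComparison_of_iso G φ K e
  rw [← π_comp_cokernelComparison]
  infer_instance

end general

section eps

variable {C : Type u} [SmallCategory C] {J J' : GrothendieckTopology C} (h : J' ≤ J)

/-- `ε_*` is fully faithful -/
noncomputable def epsFF : (epsA h).FullyFaithful :=
  Functor.FullyFaithful.ofCompFaithful (G := sheafToPresheaf J' AddCommGrpCat.{u})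
    ((fullyFaithfulSheafToPresheaf J AddCommGrpCat.{u}).ofIso
      (Iso.refl _ : sheafToPresheaf J AddCommGrpCat.{u} ≅
        epsA h ⋙ sheafToPresheaf J' AddCommGrpCat.{u}))

instance : (epsA h).Full := (epsFF h).full
instance : (epsA h).Faithful := (epsFF h).faithful

variable {F₁ F₂ : Sheaf J AddCommGrpCat.{u}} (φ : F₁ ⟶ F₂)

/-- a `τ'`-sheaf which is a `τ`-sheaf is in the essential image of `ε_*` -/
noncomputable def epsObjIso (M : Sheaf J' AddCommGrpCat.{u}) (hM : Presheaf.IsSheaf J M.obj) :
    (epsA h).obj ⟨M.obj, hM⟩ ≅ M :=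
  (fullyFaithfulSheafToPresheaf J' AddCommGrpCat.{u}).preimageIso (Iso.refl _)

theorem isIso_cokernelComparison_eps
    (hsh : Presheaf.IsSheaf J (cokernel ((epsA h).map φ)).obj) :
    IsIso (cokernelComparison φ (epsA h)) :=
  isIso_cokernelComparison_of_iso (epsA h) φ _ (epsObjIso h _ hsh)

theorem epi_eps_map [Epi φ] (hsh : Presheaf.IsSheaf J (cokernel ((epsA h).map φ)).obj) :
    Epi ((epsA h).map φ) :=
  epi_map_of_iso (epsA h) φ _ (epsObjIso h _ hsh)

theorem epi_eps_map_cokernel_π (hsh : Presheaf.IsSheaf J (cokernel ((epsA h).map φ)).obj) :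
    Epi ((epsA h).map (cokernel.π φ)) :=
  epi_map_cokernel_π_of_iso (epsA h) φ _ (epsObjIso h _ hsh)

theorem nonempty_eps_cokernel_iso (hsh : Presheaf.IsSheaf J (cokernel ((epsA h).map φ)).obj) :
    Nonempty ((epsA h).obj (cokernel φ) ≅ cokernel ((epsA h).map φ)) := by
  haveI := isIso_cokernelComparison_eps h φ hsh
  exact ⟨(asIso (cokernelComparison φ (epsA h))).symm⟩

end eps


section cover

variable {C : Type u} [SmallCategory C] (J : GrothendieckTopology C) {X Y : C} (f : X ⟶ Y)
  (hcov : Sieve.ofArrows (fun _ : PUnit.{u + 1} => X) (fun _ => f) ∈ J Y)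

include hcov in
/-- restriction along a covering is faithful -/
theorem faithful_fInv : (fInv J f).Faithful := by
  refine ⟨fun {F G} {α β} hab => ?_⟩
  apply Sheaf.hom_ext
  apply NatTrans.ext
  funext U
  apply AddCommGrpCat.hom_ext
  apply AddMonoidHom.ext
  intro s
  let U₀ : Over Y := U.unop
  let S : Sieve U₀ := (Sieve.overEquiv U₀).symm
    (Sieve.pullback U₀.hom (Sieve.ofArrows (fun _ : PUnit.{u + 1} => X) (fun _ => f)))
  have hS : S ∈ (J.over Y) U₀ :=
    GrothendieckTopology.overEquiv_symm_mem_over _ _ _ (J.pullback_stable U₀.hom hcov)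
  apply ext_of_sieve G S hS
  intro V g hg
  have hg' : Sieve.ofArrows (fun _ : PUnit.{u + 1} => X) (fun _ => f) (g.left ≫ U₀.hom) := hg
  obtain ⟨_, a, ha⟩ := (Sieve.mem_ofArrows_iff _ _ _).1 hg'
  have hV : V.hom = a ≫ f := (Over.w g).symm.trans ha
  let ι : (Over.map f).obj (Over.mk a) ≅ V := Over.isoMk (Iso.refl _) (by
    change 𝟙 _ ≫ V.hom = a ≫ f
    rw [Category.id_comp, hV])
  let k : (Over.map f).obj (Over.mk a) ⟶ U₀ := ι.hom ≫ g
  have e1 : α.hom.app (op ((Over.map f).obj (Over.mk a))) =
      β.hom.app (op ((Over.map f).obj (Over.mk a))) :=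
    congrArg (fun z => z.hom.app (op (Over.mk a))) hab
  have hk : G.obj.map k.op (α.hom.app U s) = G.obj.map k.op (β.hom.app U s) := by
    have n1 := NatTrans.naturality_apply α.hom k.op s
    have n2 := NatTrans.naturality_apply β.hom k.op s
    refine n1.symm.trans (Eq.trans ?_ n2)
    rw [e1]
  have hg2 : g = ι.inv ≫ k := by simp [k]
  rw [hg2, op_comp, Functor.map_comp]
  exact congrArg (G.obj.map ι.inv.op) hk

include hcov in
theorem mono_unit (F : Sheaf (J.over Y) AddCommGrpCat.{u}) : Mono ((fAdj J f).unit.app F) := by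
  haveI := faithful_fInv J f hcov
  infer_instance

/-- the short complex `0 → F → f_* f⁻¹ F → Q → 0` -/
noncomputable abbrev unitSC (F : Sheaf (J.over Y) AddCommGrpCat.{u}) :
    ShortComplex (Sheaf (J.over Y) AddCommGrpCat.{u}) :=
  ShortComplex.mk ((fAdj J f).unit.app F) (cokernel.π _) (cokernel.condition _)

include hcov in
theorem unitSC_shortExact (F : Sheaf (J.over Y) AddCommGrpCat.{u}) :
    (unitSC J f F).ShortExact := by
  haveI := mono_unit J f hcov F
  exact ShortComplex.ShortExact.mk' (ShortComplex.exact_cokernel _) inferInstance inferInstance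

end cover

section les

open Groth.Agent.H2.RDer

variable {𝒜 : Type u} [Category.{v} 𝒜] [Abelian 𝒜] [EnoughInjectives 𝒜]
  {ℬ : Type u'} [Category.{v'} ℬ] [Abelian ℬ]
  (F : 𝒜 ⥤ ℬ) [F.Additive]

theorem mono_rightDerived_succ_map_f {S : ShortComplex 𝒜} (hS : S.ShortExact) (n : ℕ)
    (hepi : Epi ((F.rightDerived n).map S.g)) : Mono ((F.rightDerived (n + 1)).map S.f) := by
  have hδ : LES.δ F hS n = 0 := by
    rw [← cancel_epi ((F.rightDerived n).map S.g), LES.map_g_δ, comp_zero]
  exact (LES.exact₁ F hS n).mono_g hδ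

theorem epi_rightDerived_zero_map [PreservesFiniteLimits F] {A B : 𝒜} (g : A ⟶ B)
    (hg : Epi (F.map g)) : Epi ((F.rightDerived 0).map g) := by
  have hn := F.rightDerivedZeroIsoSelf.hom.naturality g
  have : (F.rightDerived 0).map g = F.rightDerivedZeroIsoSelf.hom.app A ≫ F.map g ≫
      F.rightDerivedZeroIsoSelf.inv.app B := by
    rw [← Category.assoc, ← hn, Category.assoc, Iso.hom_inv_id_app, Category.comp_id]
  rw [this]
  infer_instance

end les

end Groth.Agent.H6.ScFF
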