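import Mathlib
import Groth.Agent.Lib.Helper6.ScBase
import Groth.Agent.Lib.Lead.SC.SieveExt

/-! Helper6: cohomology presheaves and localisation; sheafification kills exactly the locally
zero sections. -/

set_option autoImplicit false
universe u
open CategoryTheory Limits Opposite

namespace Groth.Agent.H6.ScLoc

open Groth.Agent.H6.ScBase Groth.Agent.H6.ScLan Groth.Agent.LD.SC

section loc

variable {C : Type u} [SmallCategory C] (J : GrothendieckTopology C) {X Y : C} (f : X ⟶ Y)

/-- restriction of presheaves along `Over.map f` -/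
abbrev resP : ((Over Y)ᵒᵖ ⥤ AddCommGrpCat.{u}) ⥤ ((Over X)ᵒᵖ ⥤ AddCommGrpCat.{u}) :=
  (Functor.whiskeringLeft (Over X)ᵒᵖ (Over Y)ᵒᵖ AddCommGrpCat.{u}).obj (Over.map f).op

instance : (resP f).Additive where

instance : (resP f).PreservesHomology := inferInstance

/-- cohomology commutes with localisation, as presheaves -/
theorem nonempty_cohomologyPresheaf_fInv_iso (F : Sheaf (J.over Y) AddCommGrpCat.{u}) (p : ℕ) :
    Nonempty (Sheaf.cohomologyPresheaf.{u} ((fInv J f).obj F) p ≅
      (Over.map f).op ⋙ Sheaf.cohomologyPresheaf.{u} F p) := by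
  let e1 := (rightDerivedForgetIso (J.over X) p).app ((fInv J f).obj F)
  let e0 : fInv J f ⋙ sheafToPresheaf (J.over X) AddCommGrpCat.{u} ≅
      sheafToPresheaf (J.over Y) AddCommGrpCat.{u} ⋙ resP f := Iso.refl _
  let e2 := (rightDerivedCompNatIso (fInv J f) (sheafToPresheaf (J.over X) AddCommGrpCat.{u})
    (sheafToPresheaf (J.over Y) AddCommGrpCat.{u} ⋙ resP f) e0 p).app F
  let e3 := (Groth.Agent.LD.EZ.rightDerivedPostcompNatIso
    (sheafToPresheaf (J.over Y) AddCommGrpCat.{u}) (resP f) p).app F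
  let e4 := (resP f).mapIso ((rightDerivedForgetIso (J.over Y) p).app F)
  exact ⟨e1.symm ≪≫ e2 ≪≫ e3 ≪≫ e4⟩

end loc

section sheafify

variable {D : Type u} [SmallCategory D] (K : GrothendieckTopology D)
  (Q : Dᵒᵖ ⥤ AddCommGrpCat.{u})

theorem toSheafify_eq_zero_iff {U : D} (x : Q.obj (op U)) :
    (toSheafify K Q).app (op U) x = 0 ↔
      ∃ S : Sieve U, S ∈ K U ∧ ∀ ⦃V : D⦄ (g : V ⟶ U), S g → Q.map g.op x = 0 := by
  constructor
  · intro hx
    have hx' : (toSheafify K Q).app (op U) x = (toSheafify K Q).app (op U) 0 := by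
      rw [map_zero]; exact hx
    refine ⟨Presheaf.equalizerSieve (F := Q) (X := op U) x 0,
      Presheaf.equalizerSieve_mem K (toSheafify K Q) (X := op U) x 0 hx', ?_⟩
    intro V g hg
    have h2 : Q.map g.op x = Q.map g.op 0 := hg
    rw [map_zero] at h2
    exact h2
  · rintro ⟨S, hS, h⟩
    apply ext_of_sieve ((presheafToSheaf K AddCommGrpCat.{u}).obj Q) S hS
    intro V g hg
    have hn := NatTrans.naturality_apply (toSheafify K Q) g.op x
    rw [map_zero]
    refine hn.symm.trans ?_
    rw [h g hg, map_zero]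

end sheafify

end Groth.Agent.H6.ScLoc
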