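import Mathlib
import Groth.Prelude.Def_SiteCmp
import Groth.Prelude.Def_WeakSerre
import Groth.Agent.Lib.Helper6.ScFF
import Groth.Agent.Lib.Helper6.ScLoc

/-! Helper6: auxiliary lemmas for the vanishing `R^i ε_* F = 0` (S9073): split injectivity of the
restriction of `f_* N`, sections of left exact sequences of sheaves, local vanishing of sections
of a sheafification, transfer of `R^p ε_*` along restriction. -/

set_option autoImplicit false
universe u
open CategoryTheory CategoryTheory.Limits Opposite

namespace Groth.Agent.H6.ScVa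

open Groth.Agent.H6.ScBase Groth.Agent.H6.ScLan Groth.Agent.H6.ScLoc Groth.Agent.H6.ScFF
  Groth.Agent.LD.SC

section pre

variable {D : Type u} [SmallCategory D] (Q : Dᵒᵖ ⥤ AddCommGrpCat.{u})

lemma res_comp {U V W : D} (g : V ⟶ U) (g' : W ⟶ V) (x : Q.obj (op U)) :
    Q.map (g' ≫ g).op x = Q.map g'.op (Q.map g.op x) := by
  rw [op_comp, Functor.map_comp]
  rfl

lemma res_id {U : D} (x : Q.obj (op U)) : Q.map (𝟙 U).op x = x := by
  rw [op_id, Q.map_id]
  rfl

lemma injective_res_of_split {U V : D} (r : V ⟶ U) (s : U ⟶ V) (hs : s ≫ r = 𝟙 U) :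
    Function.Injective (Q.map r.op) := by
  intro x y hxy
  have := congrArg (Q.map s.op) hxy
  rw [← res_comp, ← res_comp, hs, res_id, res_id] at this
  exact this

lemma injective_res_of_iso {U V : D} (r : V ≅ U) : Function.Injective (Q.map r.hom.op) :=
  injective_res_of_split Q r.hom r.inv r.inv_hom_id

end pre

section split

variable {C : Type u} [SmallCategory C] (K : GrothendieckTopology C) {X Y : C} (f : X ⟶ Y)
  [HasPullbacksAlong f]

/-- the base change of `X → Y` along `X → Y`, as a morphism to the base change of the identity -/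
noncomputable def rho :
    (Over.pullback f).obj (Over.mk f) ⟶ (Over.pullback f).obj (Over.mk (𝟙 Y)) :=
  (Over.pullback f).map (Over.homMk f : Over.mk f ⟶ Over.mk (𝟙 Y))

/-- the diagonal -/
noncomputable def sigma :
    (Over.pullback f).obj (Over.mk (𝟙 Y)) ⟶ (Over.pullback f).obj (Over.mk f) :=
  Over.homMk (pullback.lift (pullback.snd (𝟙 Y) f) (pullback.snd (𝟙 Y) f) rfl :
    pullback (𝟙 Y) f ⟶ pullback f f) (pullback.lift_snd _ _ _)

lemma sigma_rho : sigma f ≫ rho f = 𝟙 _ := by
  apply Over.OverMorphism.ext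
  apply pullback.hom_ext
  · simp only [sigma, rho, Over.comp_left, Over.homMk_left, Over.pullback_map_left,
      Category.assoc, pullback.lift_fst, Over.id_left, Category.id_comp]
    refine (Category.assoc _ _ _).symm.trans ?_
    refine (congrArg (fun z => z ≫ f) (pullback.lift_fst (f := f) (g := f)
      (pullback.snd (𝟙 Y) f) (pullback.snd (𝟙 Y) f) rfl)).trans ?_
    have := pullback.condition (f := 𝟙 Y) (g := f)
    rw [Category.comp_id] at this
    exact this.symm
  · simp only [sigma, rho, Over.comp_left, Over.homMk_left, Over.pullback_map_left,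
      Category.assoc, pullback.lift_snd, Over.id_left, Category.id_comp]
    exact pullback.lift_snd (f := f) (g := f) (pullback.snd (𝟙 Y) f) (pullback.snd (𝟙 Y) f) rfl

theorem injective_fPush_map (N₀ : Sheaf (K.over X) AddCommGrpCat.{u}) :
    Function.Injective
      (((fPush K f).obj N₀).obj.map (Over.homMk f : Over.mk f ⟶ Over.mk (𝟙 Y)).op) := by
  let φ := (fPushIso K f).app N₀
  let r : Over.mk f ⟶ Over.mk (𝟙 Y) := Over.homMk f
  have hnat := φ.hom.hom.naturality r.op
  have hinj : Function.Injective (N₀.obj.map (rho f).op) :=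
    injective_res_of_split N₀.obj (rho f) (sigma f) (sigma_rho f)
  intro x y hxy
  have h1 : φ.hom.hom.app (op (Over.mk f)) (((fPush K f).obj N₀).obj.map r.op x) =
      φ.hom.hom.app (op (Over.mk f)) (((fPush K f).obj N₀).obj.map r.op y) := by rw [hxy]
  have n1 := NatTrans.naturality_apply φ.hom.hom r.op x
  have n2 := NatTrans.naturality_apply φ.hom.hom r.op y
  have h2 := hinj ((n1.symm.trans h1).trans n2)
  have h3 : Function.Injective (φ.hom.hom.app (op (Over.mk (𝟙 Y)))) := by
    intro a b hab
    have := congrArg (φ.inv.hom.app (op (Over.mk (𝟙 Y)))) hab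
    have e : ∀ z, φ.inv.hom.app (op (Over.mk (𝟙 Y))) (φ.hom.hom.app (op (Over.mk (𝟙 Y))) z) = z := by
      intro z
      have := congrArg (fun t => (t.hom.app (op (Over.mk (𝟙 Y)))) z) φ.hom_inv_id
      exact this
    rwa [e, e] at this
  exact h3 h2

end split


section sections

variable {D : Type u} [SmallCategory D] {K : GrothendieckTopology D}

/-- sections of a left exact sequence of sheaves -/
theorem exists_preimage_of_exact {M R N : Sheaf K AddCommGrpCat.{u}} (a : M ⟶ R) (b : R ⟶ N)
    (w : a ≫ b = 0) (ha : Mono a) (hex : (ShortComplex.mk a b w).Exact) (U : Dᵒᵖ)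
    (x : R.obj.obj U) (hx : b.hom.app U x = 0) : ∃ y : M.obj.obj U, a.hom.app U y = x := by
  let E : Sheaf K AddCommGrpCat.{u} ⥤ AddCommGrpCat.{u} :=
    sheafToPresheaf K AddCommGrpCat.{u} ⋙ (evaluation Dᵒᵖ AddCommGrpCat.{u}).obj U
  haveI : E.Additive := inferInstance
  have h1 := hex.map_of_mono_of_preservesKernel E ha inferInstance
  exact (ShortComplex.ab_exact_iff _).1 h1 x hx

end sections

section loczero

variable {D : Type u} [SmallCategory D] {K K' : GrothendieckTopology D} (hK : K' ≤ K)
  (Q : Dᵒᵖ ⥤ AddCommGrpCat.{u})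

include hK in
/-- if every section of `Q` vanishes `K`-locally, so does every section of the `K'`-sheafification -/
theorem exists_sieve_sheafify_eq_zero
    (hQ : ∀ (U : D) (x : Q.obj (op U)), ∃ S : Sieve U, S ∈ K U ∧
      ∀ ⦃V : D⦄ (g : V ⟶ U), S g → Q.map g.op x = 0)
    {U : D} (s : ((presheafToSheaf K' AddCommGrpCat.{u}).obj Q).obj.obj (op U)) :
    ∃ S : Sieve U, S ∈ K U ∧ ∀ ⦃V : D⦄ (g : V ⟶ U), S g →
      ((presheafToSheaf K' AddCommGrpCat.{u}).obj Q).obj.map g.op s = 0 := by
  let T := (presheafToSheaf K' AddCommGrpCat.{u}).obj Q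
  let S₁ : Sieve U := Presheaf.imageSieve (toSheafify K' Q) s
  have hS₁ : S₁ ∈ K U := hK U (Presheaf.imageSieve_mem K' (toSheafify K' Q) s)
  choose x hx using fun (V : D) (g : V ⟶ U) (hg : S₁ g) => (show ∃ t : Q.obj (op V),
    (toSheafify K' Q).app (op V) t = T.obj.map g.op s from hg)
  choose R hR hR0 using fun (V : D) (g : V ⟶ U) (hg : S₁ g) => hQ V (x V g hg)
  refine ⟨Sieve.bind S₁ (fun V g hg => R V g hg), K.bind_covering hS₁ (fun V g hg => hR V g hg), ?_⟩
  rintro V k ⟨W, k', g, hg, hk', rfl⟩
  change T.obj.map (k' ≫ g).op s = 0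
  rw [res_comp, ← hx W g hg]
  have hn := NatTrans.naturality_apply (toSheafify K' Q) k'.op (x W g hg)
  refine hn.symm.trans ?_
  rw [hR0 W g hg k' hk', map_zero]

end loczero

section transfer

variable {C : Type u} [SmallCategory C] {J J' : GrothendieckTopology C} (h : J' ≤ J)
  {Z X : C} (g : Z ⟶ X)

/-- `R^p ε_*` commutes with restriction -/
theorem nonempty_transfer (F : Sheaf (J.over X) AddCommGrpCat.{u}) (p : ℕ) :
    Nonempty (((epsO h Z).rightDerived p).obj ((fInv J g).obj F) ≅
      (fInv J' g).obj (((epsO h X).rightDerived p).obj F)) := by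
  haveI : (fInv J' g).PreservesHomology :=
    Functor.preservesHomology_of_preservesEpis_and_kernels _
  let e2 := (rightDerivedCompNatIso (fInv J g) (epsO h Z) (epsO h X ⋙ fInv J' g)
    (epsInvIso h g) p).app F
  let e3 := (Groth.Agent.LD.EZ.rightDerivedPostcompNatIso (epsO h X) (fInv J' g) p).app F
  exact ⟨e2 ≪≫ e3⟩

end transfer

end Groth.Agent.H6.ScVa
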