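import Mathlib
import Groth.Prelude.Def_Hyper
import Groth.Agent.Lib.Lead.Cech.H0

/-! Helper6: element-level API for the Cech complex of a simplicial formal coproduct. -/

open CategoryTheory CategoryTheory.Limits Opposite

universe u

namespace Groth.Agent.H6.HyCoch

variable {D : Type u} [SmallCategory D] (Q : Dᵒᵖ ⥤ AddCommGrpCat.{u})

/-- concrete cochains on a formal coproduct -/
abbrev Coch (A : FormalCoproduct.{u} D) : Type u := ∀ i : A.I, Q.obj (op (A.obj i))

/-- pullback of cochains along a morphism of formal coproducts -/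
def pull {A B : FormalCoproduct.{u} D} (f : A ⟶ B) (y : Coch Q B) : Coch Q A :=
  fun i => Q.map (f.φ i).op (y (f.f i))

theorem pull_comp {A B B' : FormalCoproduct.{u} D} (f : A ⟶ B) (g : B ⟶ B') (y : Coch Q B') :
    pull Q (f ≫ g) y = pull Q f (pull Q g y) := by
  funext i
  show Q.map (f.φ i ≫ g.φ (f.f i)).op (y (g.f (f.f i))) = Q.map (f.φ i).op (Q.map (g.φ (f.f i)).op _)
  rw [op_comp, Q.map_comp]
  rfl

/-- the one-point formal coproduct -/
abbrev pobj (W : D) : FormalCoproduct.{u} D := ⟨PUnit.{u + 1}, fun _ => W⟩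

/-- the map of one-point formal coproducts -/
def pmap {W W' : D} (h : W' ⟶ W) : pobj W' ⟶ pobj W := ⟨fun _ => PUnit.unit, fun _ => h⟩

/-- evaluation of cochains at a "point" of a formal coproduct -/
def ev {A : FormalCoproduct.{u} D} {W : D} (μ : pobj W ⟶ A) (y : Coch Q A) :
    Q.obj (op W) := Q.map (μ.φ PUnit.unit).op (y (μ.f PUnit.unit))

theorem ev_comp {A B : FormalCoproduct.{u} D} {W : D} (μ : pobj W ⟶ A)
    (g : A ⟶ B) (y : Coch Q B) : ev Q (μ ≫ g) y = ev Q μ (pull Q g y) :=
  congrFun (pull_comp Q μ g y) PUnit.unit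

theorem ev_map {A : FormalCoproduct.{u} D} {W W' : D} (h : W' ⟶ W)
    (μ : pobj W ⟶ A) (y : Coch Q A) :
    ev Q (pmap h ≫ μ) y = Q.map h.op (ev Q μ y) := by
  show Q.map (h ≫ μ.φ PUnit.unit).op (y (μ.f PUnit.unit)) = _
  rw [op_comp, Q.map_comp]
  rfl

/-- a point of a formal coproduct -/
def pt (A : FormalCoproduct.{u} D) {W : D} (i : A.I) (a : W ⟶ A.obj i) :
    pobj W ⟶ A := ⟨fun _ => i, fun _ => a⟩

theorem ev_pt (A : FormalCoproduct.{u} D) {W : D} (i : A.I) (a : W ⟶ A.obj i) (y : Coch Q A) :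
    ev Q (pt A i a) y = Q.map a.op (y i) := rfl

theorem pt_eta {A : FormalCoproduct.{u} D} {W : D} (μ : pobj W ⟶ A) :
    pt A (μ.f PUnit.unit) (μ.φ PUnit.unit) = μ := rfl

/-- the value of `evalOp Q` on a formal coproduct -/
noncomputable abbrev EV (A : FormalCoproduct.{u} D) : AddCommGrpCat.{u} :=
  ((FormalCoproduct.evalOp.{u} D AddCommGrpCat.{u}).obj Q).obj (op A)

/-- cochains as families of sections. -/
noncomputable def coch (A : FormalCoproduct.{u} D) : EV Q A ≃+ Coch Q A :=
  { Concrete.productEquiv (fun i : A.I => Q.obj (op (A.obj i))) with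
    map_add' := fun x y => by
      funext a
      change Concrete.productEquiv _ (x + y) a = Concrete.productEquiv _ x a +
        Concrete.productEquiv _ y a
      simp only [Concrete.productEquiv_apply_apply]
      exact map_add _ x y }

lemma coch_apply (A : FormalCoproduct.{u} D) (x : EV Q A) (i : A.I) :
    coch Q A x i = Pi.π (fun i : A.I => Q.obj (op (A.obj i))) i x :=
  Concrete.productEquiv_apply_apply _ x i

lemma coch_map {A B : FormalCoproduct.{u} D} (f : A ⟶ B) (x : EV Q B) :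
    coch Q A (((FormalCoproduct.evalOp.{u} D AddCommGrpCat.{u}).obj Q).map f.op x) =
      pull Q f (coch Q B x) := by
  funext i
  rw [coch_apply]
  show _ = Q.map (f.φ i).op (coch Q B x (f.f i))
  rw [coch_apply]
  have h : ((FormalCoproduct.evalOp.{u} D AddCommGrpCat.{u}).obj Q).map f.op ≫
      Pi.π (fun i : A.I => Q.obj (op (A.obj i))) i =
      Pi.π (fun i : B.I => Q.obj (op (B.obj i))) (f.f i) ≫ Q.map (f.φ i).op :=
    Pi.lift_π _ i
  exact ConcreteCategory.congr_hom h x

variable (K : SimplicialObject (FormalCoproduct.{u} D))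

/-- the Cech complex -/
noncomputable abbrev Cx : CochainComplex AddCommGrpCat.{u} ℕ :=
  (FormalCoproduct.cochainComplexFunctor K).obj Q

theorem X_eq (n : ℕ) : (Cx Q K).X n = EV Q (K.obj (op (SimplexCategory.mk n))) := rfl

open AlgebraicTopology in
lemma d_eq (n : ℕ) : (Cx Q K).d n (n+1) = ∑ i : Fin (n+2), (-1 : ℤ)^(i:ℕ) •
    (((FormalCoproduct.evalOp.{u} D AddCommGrpCat.{u}).obj Q).map (K.δ i).op :
      EV Q (K.obj (op (SimplexCategory.mk n))) ⟶ EV Q (K.obj (op (SimplexCategory.mk (n + 1))))) := by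
  let X := (FormalCoproduct.cosimplicialObjectFunctor K).obj Q
  have h1 : (Cx Q K).d n (n+1) = AlternatingCofaceMapComplex.objD X n :=
    CochainComplex.of_d (fun n => X.obj (SimplexCategory.mk n))
      (AlternatingCofaceMapComplex.objD X) n
  rw [h1]
  rfl

/-- the two cofaces in degree 0 -/
noncomputable abbrev cof (e : Fin 2) : EV Q (K.obj (op (SimplexCategory.mk 0))) ⟶
    EV Q (K.obj (op (SimplexCategory.mk 1))) :=
  ((FormalCoproduct.evalOp.{u} D AddCommGrpCat.{u}).obj Q).map (K.δ e).op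

lemma d0_eq : (Cx Q K).d 0 1 = cof Q K 0 - cof Q K 1 := by
  rw [d_eq, Fin.sum_univ_two]
  simp only [Fin.val_zero, Fin.val_one, pow_zero, pow_one, one_smul, neg_smul, sub_eq_add_neg]

/-- the degree-zero differential on concrete cochains -/
lemma coch_d0 (x : EV Q (K.obj (op (SimplexCategory.mk 0)))) :
    coch Q (K.obj (op (SimplexCategory.mk 1))) ((Cx Q K).d 0 1 x) =
      pull Q (K.δ (0 : Fin 2)) (coch Q (K.obj (op (SimplexCategory.mk 0))) x) -
        pull Q (K.δ (1 : Fin 2)) (coch Q (K.obj (op (SimplexCategory.mk 0))) x) := by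
  rw [← coch_map, ← coch_map, ← map_sub]
  congr 1
  exact ConcreteCategory.congr_hom (d0_eq Q K) x

/-- cochains of the Cech complex as families of sections (typed on `(Cx Q K).X n`). -/
noncomputable def cochX (n : ℕ) : (Cx Q K).X n ≃+ Coch Q (K.obj (op (SimplexCategory.mk n))) :=
  coch Q (K.obj (op (SimplexCategory.mk n)))

lemma cochX_d0 (x : (Cx Q K).X 0) :
    cochX Q K 1 ((Cx Q K).d 0 1 x) =
      pull Q (K.δ (0 : Fin 2)) (cochX Q K 0 x) - pull Q (K.δ (1 : Fin 2)) (cochX Q K 0 x) :=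
  coch_d0 Q K x

end Groth.Agent.H6.HyCoch
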