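import Mathlib
import Groth.Prelude.Def_Hyper
import Groth.Agent.Lib.Helper6.HyCoch

/-! Helper6: elements of `FormalCoproduct.yoneda` as points of the formal coproduct. -/

set_option autoImplicit false
open CategoryTheory CategoryTheory.Limits Opposite

universe u

namespace Groth.Agent.H6.HyYo

open Groth.Agent.H6.HyCoch

variable {D : Type u} [SmallCategory D]

/-- the "coproduct of representables" functor -/
noncomputable abbrev Fy : FormalCoproduct.{u} D ⥤ Dᵒᵖ ⥤ Type u := FormalCoproduct.yoneda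

/-- the element attached to a point -/
noncomputable def sg (A : FormalCoproduct.{u} D) {U : D} (μ : pobj U ⟶ A) : (Fy.obj A).obj (op U) :=
  (Sigma.ι (fun i : A.I => yoneda.obj (A.obj i)) (μ.f PUnit.unit)).app (op U) (μ.φ PUnit.unit)

theorem sg_map {A B : FormalCoproduct.{u} D} (f : A ⟶ B) {U : D} (μ : pobj U ⟶ A) :
    (Fy.map f).app (op U) (sg A μ) = sg B (μ ≫ f) := by
  have h : Sigma.ι (fun i : A.I => yoneda.obj (A.obj i)) (μ.f PUnit.unit) ≫ Fy.map f =
      yoneda.map (f.φ (μ.f PUnit.unit)) ≫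
        Sigma.ι (fun i : B.I => yoneda.obj (B.obj i)) (f.f (μ.f PUnit.unit)) :=
    Sigma.ι_desc _ _
  have h2 := types_congr_hom (congrArg (fun t => t.app (op U)) h)
    (μ.φ PUnit.unit : (yoneda.obj (A.obj (μ.f PUnit.unit))).obj (op U))
  exact h2

theorem sg_res {A : FormalCoproduct.{u} D} {U V : D} (h : V ⟶ U) (μ : pobj U ⟶ A) :
    (Fy.obj A).map h.op (sg A μ) = sg A (pmap h ≫ μ) := by
  have h2 := types_congr_hom
    ((Sigma.ι (fun i : A.I => yoneda.obj (A.obj i)) (μ.f PUnit.unit)).naturality h.op)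
    (μ.φ PUnit.unit : (yoneda.obj (A.obj (μ.f PUnit.unit))).obj (op U))
  exact h2.symm

theorem sg_surj (A : FormalCoproduct.{u} D) {U : D} (z : (Fy.obj A).obj (op U)) :
    ∃ μ : pobj U ⟶ A, sg A μ = z := by
  have hc := isColimitOfPreserves ((evaluation Dᵒᵖ (Type u)).obj (op U))
    (colimit.isColimit (Discrete.functor fun i : A.I => yoneda.obj (A.obj i)))
  obtain ⟨⟨i⟩, y, hy⟩ := Types.jointly_surjective_of_isColimit hc z
  exact ⟨pt A i y, hy⟩

theorem pmap_id_comp {A : FormalCoproduct.{u} D} {W : D} (μ : pobj W ⟶ A) : pmap (𝟙 W) ≫ μ = μ := by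
  refine FormalCoproduct.hom_ext ?_ ?_
  · funext _; rfl
  · intro i
    show (𝟙 W ≫ μ.φ _) ≫ eqToHom _ = μ.φ i
    simp

theorem pmap_comp_comp {A : FormalCoproduct.{u} D} {W W' W'' : D} (h : W' ⟶ W) (h' : W'' ⟶ W')
    (μ : pobj W ⟶ A) : pmap (h' ≫ h) ≫ μ = pmap h' ≫ pmap h ≫ μ := by
  refine FormalCoproduct.hom_ext ?_ ?_
  · funext _; rfl
  · intro i
    show ((h' ≫ h) ≫ μ.φ _) ≫ eqToHom _ = h' ≫ h ≫ μ.φ _
    simp

/-- the presheaf of points -/
def PA (A : FormalCoproduct.{u} D) : Dᵒᵖ ⥤ Type u where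
  obj U := pobj U.unop ⟶ A
  map h := ↾(fun μ => pmap h.unop ≫ μ)
  map_id U := by
    refine ConcreteCategory.hom_ext _ _ (fun μ => ?_)
    exact pmap_id_comp μ
  map_comp f g := by
    refine ConcreteCategory.hom_ext _ _ (fun μ => ?_)
    exact pmap_comp_comp f.unop g.unop μ

/-- the comparison map to the presheaf of points -/
noncomputable def rho (A : FormalCoproduct.{u} D) : Fy.obj A ⟶ PA A :=
  Sigma.desc (fun i => { app := fun U => ↾(fun g => pt A i g)
                         naturality := fun U V h => by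
                          refine ConcreteCategory.hom_ext _ _ (fun g => ?_); rfl })

theorem rho_sg (A : FormalCoproduct.{u} D) {U : D} (μ : pobj U ⟶ A) :
    (rho A).app (op U) (sg A μ) = μ := by
  have h : Sigma.ι (fun i : A.I => yoneda.obj (A.obj i)) (μ.f PUnit.unit) ≫ rho A = _ :=
    Sigma.ι_desc _ _
  have h2 := types_congr_hom (congrArg (fun t => t.app (op U)) h)
    (μ.φ PUnit.unit : (yoneda.obj (A.obj (μ.f PUnit.unit))).obj (op U))
  exact h2

theorem sg_inj (A : FormalCoproduct.{u} D) {U : D} (μ μ' : pobj U ⟶ A) (h : sg A μ = sg A μ') :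
    μ = μ' := by
  rw [← rho_sg A μ, ← rho_sg A μ', h]

/-- two points with the same components are equal -/
theorem pt_ext {A : FormalCoproduct.{u} D} {U : D} (μ : pobj U ⟶ A) (j : A.I) (c : U ⟶ A.obj j)
    (hj : j = μ.f PUnit.unit) (hc : c ≫ eqToHom (by rw [hj]) = μ.φ PUnit.unit) : pt A j c = μ := by
  subst hj
  refine FormalCoproduct.hom_ext ?_ ?_
  · funext _; rfl
  · intro _
    exact hc

section prod

variable {P P' : Dᵒᵖ ⥤ Type u}

theorem prod_ext_elt {W : Dᵒᵖ} (z z' : (P ⨯ P').obj W)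
    (h1 : (prod.fst : P ⨯ P' ⟶ P).app W z = (prod.fst : P ⨯ P' ⟶ P).app W z')
    (h2 : (prod.snd : P ⨯ P' ⟶ P').app W z = (prod.snd : P ⨯ P' ⟶ P').app W z') : z = z' := by
  obtain ⟨W⟩ := W
  have e : yonedaEquiv.symm z = yonedaEquiv.symm z' := by
    apply Limits.prod.hom_ext
    · apply yonedaEquiv.injective
      rw [yonedaEquiv_comp, yonedaEquiv_comp, Equiv.apply_symm_apply, Equiv.apply_symm_apply]
      exact h1
    · apply yonedaEquiv.injective
      rw [yonedaEquiv_comp, yonedaEquiv_comp, Equiv.apply_symm_apply, Equiv.apply_symm_apply]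
      exact h2
  exact yonedaEquiv.symm.injective e

theorem exists_pair {W : D} (a : P.obj (op W)) (b : P'.obj (op W)) :
    ∃ z : (P ⨯ P').obj (op W), (prod.fst : P ⨯ P' ⟶ P).app (op W) z = a ∧
      (prod.snd : P ⨯ P' ⟶ P').app (op W) z = b := by
  refine ⟨yonedaEquiv (prod.lift (yonedaEquiv.symm a) (yonedaEquiv.symm b)), ?_, ?_⟩
  · rw [← yonedaEquiv_comp, prod.lift_fst, Equiv.apply_symm_apply]
  · rw [← yonedaEquiv_comp, prod.lift_snd, Equiv.apply_symm_apply]

theorem terminal_elt_eq {W : Dᵒᵖ} (z z' : (⊤_ (Dᵒᵖ ⥤ Type u)).obj W) : z = z' := by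
  obtain ⟨W⟩ := W
  have e : yonedaEquiv.symm z = yonedaEquiv.symm z' := Subsingleton.elim _ _
  exact yonedaEquiv.symm.injective e

end prod

end Groth.Agent.H6.HyYo
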