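import Mathlib
import Groth.Prelude.Def_Hyper
import Groth.Agent.Lib.Helper6.HyYo
import Groth.Agent.Lib.Lead.Cech.H0

/-! Helper6: degree-zero Cech cohomology of a sheaf on a hypercovering of the final object (S6525). -/

set_option autoImplicit false
open CategoryTheory CategoryTheory.Limits Opposite Simplicial

universe u

namespace Groth.Agent.H6.HySiteH0

open Groth.Agent.H6.HyCoch Groth.Agent.H6.HyYo

variable {C : Type u} [SmallCategory C] {J : GrothendieckTopology C}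
  (K : SimplicialObject (FormalCoproduct.{u} C)) (F : Sheaf J AddCommGrpCat.{u})

/-- the sieve of maps whose source has a point of `K_0` -/
def Sa (U : C) : Sieve U where
  arrows V _ := Nonempty (pobj V ⟶ K.obj (op ⦋0⦌))
  downward_closed := by
    rintro V W h ⟨μ⟩ g
    exact ⟨pmap g ≫ μ⟩

theorem Sa_mem
    (h1 : Presheaf.IsLocallySurjective J (terminal.from (Fy.obj (K.obj (op ⦋0⦌))))) (U : C) :
    Sa K U ∈ J U := by
  let s : (⊤_ (Cᵒᵖ ⥤ Type u)).obj (op U) := yonedaEquiv (terminal.from (yoneda.obj U))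
  refine J.superset_covering ?_ (h1.imageSieve_mem s)
  rintro V h ⟨t, _⟩
  obtain ⟨μ, _⟩ := sg_surj _ t
  exact ⟨μ⟩

theorem Sb_mem
    (h2 : Presheaf.IsLocallySurjective J
      (prod.lift (Fy.map (K.δ (1 : Fin 2))) (Fy.map (K.δ (0 : Fin 2)))))
    {U : C} (μ1 μ2 : pobj U ⟶ K.obj (op ⦋0⦌)) :
    ∃ S : Sieve U, S ∈ J U ∧ ∀ ⦃V : C⦄ (h : V ⟶ U), S h →
      ∃ γ : pobj V ⟶ K.obj (op ⦋1⦌), γ ≫ K.δ (1 : Fin 2) = pmap h ≫ μ1 ∧
        γ ≫ K.δ (0 : Fin 2) = pmap h ≫ μ2 := by
  obtain ⟨s, hs1, hs2⟩ := exists_pair (P := Fy.obj (K.obj (op ⦋0⦌))) (P' := Fy.obj (K.obj (op ⦋0⦌)))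
    (sg (K.obj (op ⦋0⦌)) μ1) (sg (K.obj (op ⦋0⦌)) μ2)
  refine ⟨_, h2.imageSieve_mem s, ?_⟩
  rintro V h ⟨t, ht⟩
  obtain ⟨γ, rfl⟩ := sg_surj _ t
  refine ⟨γ, ?_, ?_⟩
  · apply sg_inj
    rw [← sg_map, ← sg_res, ← hs1]
    have n1 := NatTrans.naturality_apply (prod.fst :
      Fy.obj (K.obj (op ⦋0⦌)) ⨯ Fy.obj (K.obj (op ⦋0⦌)) ⟶ _) h.op s
    refine Eq.trans ?_ n1
    rw [← ht]
    exact (types_congr_hom (congrArg (fun t => t.app (op V)) (prod.lift_fst
      (Fy.map (K.δ (1 : Fin 2))) (Fy.map (K.δ (0 : Fin 2))))) _).symm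
  · apply sg_inj
    rw [← sg_map, ← sg_res, ← hs2]
    have n1 := NatTrans.naturality_apply (prod.snd :
      Fy.obj (K.obj (op ⦋0⦌)) ⨯ Fy.obj (K.obj (op ⦋0⦌)) ⟶ _) h.op s
    refine Eq.trans ?_ n1
    rw [← ht]
    exact (types_congr_hom (congrArg (fun t => t.app (op V)) (prod.lift_snd
      (Fy.map (K.δ (1 : Fin 2))) (Fy.map (K.δ (0 : Fin 2))))) _).symm

theorem isSheaf_type : Presieve.IsSheaf J (F.obj ⋙ forget AddCommGrpCat.{u}) :=
  (isSheaf_iff_isSheaf_of_type J _).1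
    ((Presheaf.isSheaf_iff_isSheaf_forget J F.obj (forget _)).1 F.property)

variable {K}

/-- independence of the point -/
theorem indep
    (h2 : Presheaf.IsLocallySurjective J
      (prod.lift (Fy.map (K.δ (1 : Fin 2))) (Fy.map (K.δ (0 : Fin 2)))))
    (x : Coch F.obj (K.obj (op ⦋0⦌)))
    (hx : pull F.obj (K.δ (0 : Fin 2)) x = pull F.obj (K.δ (1 : Fin 2)) x)
    {U : C} (μ1 μ2 : pobj U ⟶ K.obj (op ⦋0⦌)) : ev F.obj μ1 x = ev F.obj μ2 x := by
  obtain ⟨S, hS, hSb⟩ := Sb_mem K h2 μ1 μ2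
  refine ((isSheaf_type F) _ hS).isSeparatedFor.ext ?_
  intro V h hh
  obtain ⟨γ, e1, e2⟩ := hSb h hh
  have a1 := ev_map F.obj h μ1 x
  have a2 := ev_map F.obj h μ2 x
  rw [← e1, ev_comp] at a1
  rw [← e2, ev_comp] at a2
  exact a1.symm.trans ((congrArg (ev F.obj γ) hx.symm).trans a2)

section glob

variable (P : Cᵒᵖ ⥤ AddCommGrpCat.{u})

/-- global sections as an additive subgroup of the product -/
def Gam : AddSubgroup (∀ U : Cᵒᵖ, P.obj U) where
  carrier := {s | ∀ ⦃U V : Cᵒᵖ⦄ (h : U ⟶ V), P.map h (s U) = s V}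
  zero_mem' := by
    intro U V h
    exact map_zero (P.map h).hom
  add_mem' := by
    intro a b ha hb U V h
    show P.map h (a U + b U) = a V + b V
    rw [map_add, ha h, hb h]
  neg_mem' := by
    intro a ha U V h
    show P.map h (-(a U)) = -(a V)
    rw [map_neg, ha h]

/-- the cone of global sections -/
def gamCone : Cone P where
  pt := AddCommGrpCat.of (Gam P)
  π :=
    { app := fun U => AddCommGrpCat.ofHom
        { toFun := fun s => s.1 U
          map_zero' := rfl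
          map_add' := fun _ _ => rfl }
      naturality := fun U V h => by
        ext s
        exact (s.2 h).symm }

/-- the cone of global sections is a limit cone -/
def gamIsLimit : IsLimit (gamCone P) where
  lift t := AddCommGrpCat.ofHom
    { toFun := fun y => ⟨fun U => t.π.app U y, fun U V h => by
        have := ConcreteCategory.congr_hom (t.w h) y
        exact this⟩
      map_zero' := by
        apply Subtype.ext
        funext U
        exact map_zero (t.π.app U).hom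
      map_add' := fun y z => by
        apply Subtype.ext
        funext U
        exact map_add (t.π.app U).hom y z }
  fac t U := by
    ext y
    rfl
  uniq t m hm := by
    ext y
    apply Subtype.ext
    funext U
    exact ConcreteCategory.congr_hom (hm U) y

end glob

section main

variable (h1 : Presheaf.IsLocallySurjective J (terminal.from (Fy.obj (K.obj (op ⦋0⦌)))))
  (h2 : Presheaf.IsLocallySurjective J
      (prod.lift (Fy.map (K.δ (1 : Fin 2))) (Fy.map (K.δ (0 : Fin 2)))))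

/-- the family attached to a global section -/
def famOf (s : Gam F.obj) : Coch F.obj (K.obj (op ⦋0⦌)) := fun i => s.1 (op ((K.obj (op ⦋0⦌)).obj i))

theorem pull_famOf {A B : FormalCoproduct.{u} C} (f : A ⟶ B) (s : Gam F.obj) :
    pull F.obj f (fun i => s.1 (op (B.obj i))) = fun i => s.1 (op (A.obj i)) := by
  funext i
  exact s.2 (f.φ i).op

/-- the map from global sections to degree-zero cochains -/
noncomputable def PhiHom : Gam F.obj →+ (Cx F.obj K).X 0 where
  toFun s := (cochX F.obj K 0).symm (famOf (K := K) F s)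
  map_zero' := by
    rw [AddEquiv.symm_apply_eq, map_zero]
    rfl
  map_add' s t := by
    rw [AddEquiv.symm_apply_eq, map_add, AddEquiv.apply_symm_apply, AddEquiv.apply_symm_apply]
    rfl

lemma coch_PhiHom (s : Gam F.obj) :
    cochX F.obj K 0 (PhiHom (K := K) F s) = famOf (K := K) F s :=
  (cochX F.obj K 0).apply_symm_apply _

lemma d_PhiHom (s : Gam F.obj) : (Cx F.obj K).d 0 1 (PhiHom (K := K) F s) = 0 := by
  apply (cochX F.obj K 1).injective
  rw [cochX_d0, coch_PhiHom]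
  unfold famOf
  rw [pull_famOf, pull_famOf, sub_self, map_zero]

/-- the map from global sections to the kernel of `d⁰` -/
noncomputable def PhiKer : Gam F.obj →+ Groth.Agent.LD.CH.ker0 (Cx F.obj K) :=
  AddMonoidHom.codRestrict (PhiHom (K := K) F) _ (fun s => by
    rw [AddMonoidHom.mem_ker]
    exact d_PhiHom F s)

include h1 in
theorem PhiKer_injective : Function.Injective (PhiKer (K := K) F) := by
  intro s t h
  have h1' : PhiHom (K := K) F s = PhiHom (K := K) F t := congrArg Subtype.val h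
  have h2' : famOf (K := K) F s = famOf (K := K) F t := by
    rw [← coch_PhiHom, ← coch_PhiHom, h1']
  apply Subtype.ext
  funext U
  obtain ⟨U⟩ := U
  refine ((isSheaf_type F) _ (Sa_mem K h1 U)).isSeparatedFor.ext ?_
  rintro V h ⟨μ⟩
  have es : F.obj.map h.op (s.1 (op U)) = s.1 (op V) := s.2 h.op
  have et : F.obj.map h.op (t.1 (op U)) = t.1 (op V) := t.2 h.op
  have es' : F.obj.map (μ.φ PUnit.unit).op (s.1 (op ((K.obj (op ⦋0⦌)).obj (μ.f PUnit.unit)))) =
      s.1 (op V) := s.2 (μ.φ PUnit.unit).op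
  have et' : F.obj.map (μ.φ PUnit.unit).op (t.1 (op ((K.obj (op ⦋0⦌)).obj (μ.f PUnit.unit)))) =
      t.1 (op V) := t.2 (μ.φ PUnit.unit).op
  have e0 : s.1 (op ((K.obj (op ⦋0⦌)).obj (μ.f PUnit.unit))) =
      t.1 (op ((K.obj (op ⦋0⦌)).obj (μ.f PUnit.unit))) := congrFun h2' (μ.f PUnit.unit)
  show F.obj.map h.op (s.1 (op U)) = F.obj.map h.op (t.1 (op U))
  rw [es, et, ← es', ← et', e0]

/-- the family of local sections attached to a cocycle -/
noncomputable def fam (x : Coch F.obj (K.obj (op ⦋0⦌))) (U : C) :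
    Presieve.FamilyOfElements (F.obj ⋙ forget AddCommGrpCat.{u}) (Sa K U).arrows :=
  fun _ _ hh => ev F.obj (Classical.choice hh) x

include h2 in
theorem fam_compatible (x : Coch F.obj (K.obj (op ⦋0⦌)))
    (hx : pull F.obj (K.δ (0 : Fin 2)) x = pull F.obj (K.δ (1 : Fin 2)) x) (U : C) :
    (fam F x U).Compatible := by
  rw [Presieve.compatible_iff_sieveCompatible]
  intro V W h g hh
  show ev F.obj _ x = F.obj.map g.op (ev F.obj _ x)
  rw [← ev_map]
  exact indep F h2 x hx _ _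

/-- the glued section over `U` -/
noncomputable def glue (x : Coch F.obj (K.obj (op ⦋0⦌)))
    (hx : pull F.obj (K.δ (0 : Fin 2)) x = pull F.obj (K.δ (1 : Fin 2)) x) (U : C) :
    F.obj.obj (op U) :=
  ((isSheaf_type F) _ (Sa_mem K h1 U)).amalgamate (fam F x U) (fam_compatible F h2 x hx U)

theorem glue_spec (x : Coch F.obj (K.obj (op ⦋0⦌)))
    (hx : pull F.obj (K.δ (0 : Fin 2)) x = pull F.obj (K.δ (1 : Fin 2)) x) {U V : C} (h : V ⟶ U)
    (μ : pobj V ⟶ K.obj (op ⦋0⦌)) :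
    F.obj.map h.op (glue F h1 h2 x hx U) = ev F.obj μ x := by
  have hh : (Sa K U).arrows h := ⟨μ⟩
  have := ((isSheaf_type F) _ (Sa_mem K h1 U)).valid_glue (fam_compatible F h2 x hx U) h hh
  refine Eq.trans this ?_
  exact indep F h2 x hx _ _

theorem glue_eq (x : Coch F.obj (K.obj (op ⦋0⦌)))
    (hx : pull F.obj (K.δ (0 : Fin 2)) x = pull F.obj (K.δ (1 : Fin 2)) x) {U : C}
    (ν : pobj U ⟶ K.obj (op ⦋0⦌)) : glue F h1 h2 x hx U = ev F.obj ν x := by
  refine ((isSheaf_type F) _ (Sa_mem K h1 U)).isSeparatedFor.ext ?_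
  rintro V h ⟨μ⟩
  show F.obj.map h.op (glue F h1 h2 x hx U) = F.obj.map h.op (ev F.obj ν x)
  rw [glue_spec F h1 h2 x hx h μ, ← ev_map]
  exact indep F h2 x hx _ _

theorem glue_nat (x : Coch F.obj (K.obj (op ⦋0⦌)))
    (hx : pull F.obj (K.δ (0 : Fin 2)) x = pull F.obj (K.δ (1 : Fin 2)) x) {U V : C} (g : V ⟶ U) :
    F.obj.map g.op (glue F h1 h2 x hx U) = glue F h1 h2 x hx V := by
  refine ((isSheaf_type F) _ (Sa_mem K h1 V)).isSeparatedFor.ext ?_
  rintro W h ⟨μ⟩
  show F.obj.map h.op (F.obj.map g.op (glue F h1 h2 x hx U)) = F.obj.map h.op (glue F h1 h2 x hx V)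
  rw [glue_spec F h1 h2 x hx h μ]
  have e : F.obj.map h.op (F.obj.map g.op (glue F h1 h2 x hx U)) =
      F.obj.map (h ≫ g).op (glue F h1 h2 x hx U) := by
    rw [← ConcreteCategory.comp_apply, ← F.obj.map_comp, ← op_comp]
  rw [e]
  exact glue_spec F h1 h2 x hx (h ≫ g) μ

include h1 h2 in
theorem PhiKer_surjective : Function.Surjective (PhiKer (K := K) F) := by
  intro z
  have hx : pull F.obj (K.δ (0 : Fin 2)) (cochX F.obj K 0 z.1) =
      pull F.obj (K.δ (1 : Fin 2)) (cochX F.obj K 0 z.1) := by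
    have h := cochX_d0 F.obj K z.1
    have hz : (Cx F.obj K).d 0 1 z.1 = 0 := z.2
    rw [hz, map_zero] at h
    exact sub_eq_zero.1 h.symm
  let s : Gam F.obj := ⟨fun U => glue F h1 h2 _ hx U.unop, fun U V h => glue_nat F h1 h2 _ hx h.unop⟩
  refine ⟨s, Subtype.ext ?_⟩
  change PhiHom (K := K) F s = z.1
  apply (cochX F.obj K 0).injective
  rw [coch_PhiHom]
  funext i
  show glue F h1 h2 _ hx ((K.obj (op ⦋0⦌)).obj i) = _
  rw [glue_eq F h1 h2 _ hx (pt (K.obj (op ⦋0⦌)) i (𝟙 _)), ev_pt]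
  show F.obj.map (𝟙 _) _ = _
  rw [F.obj.map_id]
  rfl

include h1 h2 in
theorem main : Nonempty ((Cx F.obj K).homology 0 ≅ limit F.obj) := by
  let e : Gam F.obj ≃+ Groth.Agent.LD.CH.ker0 (Cx F.obj K) :=
    AddEquiv.ofBijective (PhiKer (K := K) F) ⟨PhiKer_injective F h1, PhiKer_surjective F h1 h2⟩
  exact ⟨Groth.Agent.LD.CH.h0Iso (Cx F.obj K) ≪≫ (AddEquiv.toAddCommGrpIso e).symm ≪≫
    (limit.isoLimitCone ⟨gamCone F.obj, gamIsLimit F.obj⟩).symm⟩

end main

end Groth.Agent.H6.HySiteH0
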