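import Mathlib
import Groth.Agent.Lib.Lead.Cech.H0
import Groth.Agent.Lib.Lead.SC.Shift

/-! Helper6: `Ext` groups out of `ℤ[0]` in the category of `ℕ`-indexed cochain complexes of abelian
groups compute the cohomology of the complex. -/

set_option autoImplicit false
open CategoryTheory CategoryTheory.Limits Abelian

universe u

namespace Groth.Agent.H6.SsExt

open Groth.Agent.LD.CH

/-- cochain complexes of abelian groups -/
abbrev BB := CochainComplex AddCommGrpCat.{u} ℕ

/-- the group `ℤ` -/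
abbrev Zu : AddCommGrpCat.{u} := AddCommGrpCat.of (ULift.{u} ℤ)

/-- `ℤ` in degree zero -/
noncomputable abbrev PP : BB.{u} := (CochainComplex.single₀ AddCommGrpCat.{u}).obj Zu

/-- evaluation at `1` -/
noncomputable abbrev ulz (M : AddCommGrpCat.{u}) : (Zu ⟶ M) ≃+ M :=
  AddCommGrpCat.uliftZMultiplesAddEquiv M

theorem ulz_apply (M : AddCommGrpCat.{u}) (f : Zu ⟶ M) : ulz M f = f (ULift.up 1) := by
  show (uliftZMultiplesHom M).symm f.hom = f.hom (ULift.up 1)
  simp [uliftZMultiplesHom]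
  rfl

theorem ulz_comp {M N : AddCommGrpCat.{u}} (f : Zu ⟶ M) (g : M ⟶ N) :
    ulz N (f ≫ g) = g (ulz M f) := by
  rw [ulz_apply, ulz_apply]
  rfl

section stepA

/-- maps from `ℤ[0]` are degree-zero cocycles -/
noncomputable def thetaEquiv (A : BB.{u}) : (PP ⟶ A) ≃+ ker0 A :=
  AddEquiv.mk'
    ((CochainComplex.fromSingle₀Equiv A Zu).trans
      ((ulz (A.X 0)).toEquiv.subtypeEquiv (fun f => by
        show f ≫ A.d 0 1 = 0 ↔ ulz (A.X 0) f ∈ (A.d 0 1).hom.ker
        rw [AddMonoidHom.mem_ker]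
        constructor
        · intro h
          have h2 := ulz_comp f (A.d 0 1)
          rw [h, map_zero] at h2
          exact h2.symm
        · intro h
          apply (ulz (A.X 1)).injective
          rw [ulz_comp, map_zero]
          exact h)))
    (fun f g => by
      apply Subtype.ext
      show ulz (A.X 0) ((f + g).f 0) = ulz (A.X 0) (f.f 0) + ulz (A.X 0) (g.f 0)
      rw [HomologicalComplex.add_f_apply]
      exact (ulz (A.X 0)).map_add (f.f 0) (g.f 0))

theorem thetaEquiv_val (A : BB.{u}) (f : PP ⟶ A) :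
    (thetaEquiv A f).1 = ulz (A.X 0) (f.f 0) := rfl

theorem thetaEquiv_comp {A A' : BB.{u}} (x : PP ⟶ A) (g : A ⟶ A') :
    thetaEquiv A' (x ≫ g) = ker0Map g (thetaEquiv A x) := by
  apply Subtype.ext
  show ulz (A'.X 0) ((x ≫ g).f 0) = (g.f 0) (ulz (A.X 0) (x.f 0))
  rw [HomologicalComplex.comp_f]
  exact ulz_comp _ _

/-- maps from `ℤ[0]` are degree-zero cohomology classes -/
noncomputable def tau (A : BB.{u}) : (PP ⟶ A) ≃+ (A.homology 0 : AddCommGrpCat.{u}) :=
  (thetaEquiv A).trans (h0Iso A).symm.addCommGroupIsoToAddEquiv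

theorem tau_comp {A A' : BB.{u}} (x : PP ⟶ A) (g : A ⟶ A') :
    tau A' (x ≫ g) = HomologicalComplex.homologyMap g 0 (tau A x) := by
  show (h0Iso A').inv (thetaEquiv A' (x ≫ g)) =
    HomologicalComplex.homologyMap g 0 ((h0Iso A).inv (thetaEquiv A x))
  rw [thetaEquiv_comp]
  have h := h0Iso_naturality g
  have h2 : (h0Iso A).inv ≫ HomologicalComplex.homologyMap g 0 = ker0Map g ≫ (h0Iso A').inv := by
    rw [Iso.inv_comp_eq, ← Category.assoc, Iso.eq_comp_inv]
    exact h
  exact (ConcreteCategory.congr_hom h2 (thetaEquiv A x)).symm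

end stepA

section stepB

open HomologicalComplex in
theorem exists_primitive_of_injective (I : BB.{u}) [Injective I] (n : ℕ) (z : I.X (n + 1))
    (hz : I.d (n + 1) (n + 2) z = 0) : ∃ a : I.X n, I.d n (n + 1) a = z := by
  have hrel : (ComplexShape.up ℕ).Rel n (n + 1) := rfl
  have hne : n ≠ n + 1 := Nat.ne_of_lt (Nat.lt_succ_self n)
  let zf : Zu ⟶ I.X (n + 1) := (ulz _).symm z
  have hzf : ∀ k, (ComplexShape.up ℕ).Rel (n + 1) k → zf ≫ I.d (n + 1) k = 0 := by
    intro k hk
    obtain rfl : n + 1 + 1 = k := hk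
    apply (ulz _).injective
    rw [ulz_comp, AddEquiv.apply_symm_apply, map_zero]
    exact hz
  let f : (single AddCommGrpCat.{u} (ComplexShape.up ℕ) (n + 1)).obj Zu ⟶ I :=
    mkHomFromSingle zf hzf
  let i : (single AddCommGrpCat.{u} (ComplexShape.up ℕ) (n + 1)).obj Zu ⟶
      double (𝟙 Zu) hrel :=
    mkHomFromSingle (doubleXIso₁ (𝟙 Zu) hrel hne).inv
      (fun k _ => by
        rw [double_d_eq_zero₀ _ _ (n + 1) k hne.symm, comp_zero])
  haveI : Mono i := by
    apply mono_of_mono_f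
    intro k
    by_cases hk : k = n + 1
    · subst hk
      rw [mkHomFromSingle_f]
      infer_instance
    · exact (isZero_single_obj_X _ _ _ _ hk).mono _
  let g : double (𝟙 Zu) hrel ⟶ I := Injective.factorThru f i
  have hg : i ≫ g = f := Injective.comp_factorThru f i
  let af : Zu ⟶ I.X n := (doubleXIso₀ (𝟙 Zu) hrel).inv ≫ g.f n
  have h1 : af ≫ I.d n (n + 1) = (doubleXIso₁ (𝟙 Zu) hrel hne).inv ≫ g.f (n + 1) := by
    show ((doubleXIso₀ (𝟙 Zu) hrel).inv ≫ g.f n) ≫ I.d n (n + 1) = _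
    rw [Category.assoc, g.comm n (n + 1), double_d _ _ hne]
    simp
  have h2 : (doubleXIso₁ (𝟙 Zu) hrel hne).inv ≫ g.f (n + 1) = zf := by
    have h3 := congrArg (fun t => t.f (n + 1)) hg
    simp only [comp_f] at h3
    rw [mkHomFromSingle_f, mkHomFromSingle_f, Category.assoc] at h3
    exact (cancel_epi _).1 h3
  refine ⟨ulz _ af, ?_⟩
  rw [← ulz_comp, h1, h2]
  exact (ulz _).apply_symm_apply z

theorem isZero_homology_injective (I : BB.{u}) [Injective I] (n : ℕ) :
    IsZero (I.homology (n + 1)) := by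
  rw [← HomologicalComplex.exactAt_iff_isZero_homology,
    HomologicalComplex.exactAt_iff' _ n (n + 1) (n + 2) (by simp) (by simp),
    ShortComplex.ab_exact_iff]
  intro x hx
  exact exists_primitive_of_injective I n x hx

end stepB

section stepC

/-- transport of a cokernel along compatible isomorphisms. -/
noncomputable def equivOfExact' {A B C' A' B' : Type u} [AddCommGroup A] [AddCommGroup B]
    [AddCommGroup C'] [AddCommGroup A'] [AddCommGroup B']
    (f : A →+ B) (g : B →+ C') (hg : Function.Surjective g) (hfg : g.ker = f.range)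
    (f' : A' →+ B') (eA : A ≃+ A') (eB : B ≃+ B') (comm : ∀ a, eB (f a) = f' (eA a)) :
    C' ≃+ B' ⧸ f'.range :=
  (QuotientAddGroup.quotientKerEquivOfSurjective g hg).symm.trans
    (QuotientAddGroup.congr g.ker f'.range eB (by
      rw [hfg]
      ext y
      constructor
      · rintro ⟨_, ⟨a, rfl⟩, rfl⟩
        exact ⟨eA a, (comm a).symm⟩
      · rintro ⟨a', rfl⟩
        refine ⟨f (eA.symm a'), ⟨_, rfl⟩, ?_⟩
        change eB (f (eA.symm a')) = f' a'
        rw [comm, AddEquiv.apply_symm_apply]))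

/-- the standard short exact sequence `0 → A → I → Q → 0` with `I` injective. -/
noncomputable abbrev injSeq (A : BB.{u}) : ShortComplex BB.{u} :=
  ShortComplex.mk _ _ (cokernel.condition (Injective.ι A))

lemma injSeq_shortExact (A : BB.{u}) : (injSeq A).ShortExact :=
  { exact := ShortComplex.exact_of_g_is_cokernel _ (cokernelIsCokernel (injSeq A).f) }

instance (A : BB.{u}) : Injective (injSeq A).X₂ := inferInstanceAs (Injective (Injective.under A))

lemma subsingleton_ext_injective (X I : BB.{u}) [Injective I] (n : ℕ) :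
    Subsingleton (Ext.{u} X I (n + 1)) :=
  ⟨fun a b => by rw [Ext.eq_zero_of_injective a, Ext.eq_zero_of_injective b]⟩

/-- post-composition with `S.g` on maps from `ℤ[0]` -/
noncomputable def fE (S : ShortComplex BB.{u}) : (PP ⟶ S.X₂) →+ (PP ⟶ S.X₃) where
  toFun x := x ≫ S.g
  map_zero' := zero_comp
  map_add' x y := Preadditive.add_comp _ _ _ x y S.g

/-- the connecting map `Hom(ℤ[0], X₃) → Ext¹(ℤ[0], X₁)` -/
noncomputable def gE {S : ShortComplex BB.{u}} (hS : S.ShortExact) :
    (PP ⟶ S.X₃) →+ Ext.{u} PP S.X₁ 1 :=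
  (hS.extClass.postcomp PP (rfl : 0 + 1 = 1)).comp Ext.addEquiv₀.symm.toAddMonoidHom

lemma gE_apply {S : ShortComplex BB.{u}} (hS : S.ShortExact) (x : PP ⟶ S.X₃) :
    gE hS x = (Ext.mk₀ x).comp hS.extClass (rfl : 0 + 1 = 1) := rfl

lemma gE_surjective {S : ShortComplex BB.{u}} (hS : S.ShortExact)
    (h1 : Subsingleton (Ext.{u} PP S.X₂ 1)) : Function.Surjective (gE hS) := by
  intro ξ
  obtain ⟨x, hx⟩ := Ext.covariant_sequence_exact₁ PP hS ξ (Subsingleton.elim _ _) rfl
  obtain ⟨y, rfl⟩ := (Ext.mk₀_bijective PP S.X₃).2 x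
  exact ⟨y, hx⟩

lemma gE_ker {S : ShortComplex BB.{u}} (hS : S.ShortExact) : (gE hS).ker = (fE S).range := by
  ext x
  rw [AddMonoidHom.mem_ker, AddMonoidHom.mem_range]
  constructor
  · intro hx
    obtain ⟨y, hy⟩ := Ext.covariant_sequence_exact₃ PP hS (Ext.mk₀ x) rfl hx
    obtain ⟨y', rfl⟩ := (Ext.mk₀_bijective PP S.X₂).2 y
    rw [Ext.mk₀_comp_mk₀] at hy
    exact ⟨y', (Ext.mk₀_bijective PP S.X₃).1 hy⟩
  · rintro ⟨t, rfl⟩
    show (Ext.mk₀ (t ≫ S.g)).comp hS.extClass (rfl : 0 + 1 = 1) = 0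
    rw [← Ext.mk₀_comp_mk₀, Ext.comp_assoc_of_second_deg_zero, hS.comp_extClass, Ext.comp_zero]

theorem ext_one_equiv (A : BB.{u}) :
    Nonempty (Ext.{u} PP A 1 ≃+ (A.homology 1 : AddCommGrpCat.{u})) := by
  have hS := injSeq_shortExact A
  have hI1 : IsZero ((injSeq A).X₂.homology 1) := isZero_homology_injective _ 0
  have e1 := equivOfExact' (fE (injSeq A)) (gE hS)
    (gE_surjective hS (subsingleton_ext_injective _ _ 0)) (gE_ker hS) (fE (injSeq A))
    (AddEquiv.refl _) (AddEquiv.refl _) (fun _ => rfl)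
  haveI := hS.epi_δ 0 1 rfl hI1
  have hδ : Function.Surjective (hS.δ 0 1 rfl) :=
    (AddCommGrpCat.epi_iff_surjective _).1 inferInstance
  have hex := hS.homology_exact₃ 0 1 rfl
  rw [ShortComplex.ab_exact_iff] at hex
  have e2 := equivOfExact'
    (HomologicalComplex.homologyMap (injSeq A).g 0).hom (hS.δ 0 1 rfl).hom hδ (by
      ext z
      rw [AddMonoidHom.mem_ker, AddMonoidHom.mem_range]
      constructor
      · intro hz
        exact hex z hz
      · rintro ⟨w, rfl⟩
        exact ConcreteCategory.congr_hom (hS.comp_δ 0 1 rfl) w)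
    (fE (injSeq A)) (tau (injSeq A).X₂).symm (tau (injSeq A).X₃).symm
    (fun a => by
      rw [AddEquiv.symm_apply_eq]
      show _ = tau _ (((tau (injSeq A).X₂).symm a) ≫ (injSeq A).g)
      rw [tau_comp, AddEquiv.apply_symm_apply])
  exact ⟨e1.trans e2.symm⟩

theorem ext_equiv_homology (p : ℕ) :
    ∀ A : BB.{u}, Nonempty (Ext.{u} PP A p ≃+ (A.homology p : AddCommGrpCat.{u})) := by
  induction p with
  | zero =>
    intro A
    exact ⟨Ext.addEquiv₀.trans (tau A)⟩
  | succ p ih =>
    cases p with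
    | zero => exact ext_one_equiv
    | succ p =>
      intro A
      have hS := injSeq_shortExact A
      have hI : ∀ n, IsZero ((injSeq A).X₂.homology (n + 1)) :=
        fun n => isZero_homology_injective _ n
      obtain ⟨e⟩ := ih (injSeq A).X₃
      have e1 := (hS.δIso (p + 1) (p + 2) rfl (hI p) (hI (p + 1))).addCommGroupIsoToAddEquiv
      have e2 := Groth.Agent.LD.SC.extShiftEquiv hS PP (p + 1)
        (subsingleton_ext_injective _ _ p) (subsingleton_ext_injective _ _ (p + 1))
      exact ⟨e2.symm.trans (e.trans e1)⟩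

end stepC

end Groth.Agent.H6.SsExt
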