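import Mathlib

set_option autoImplicit false
open CategoryTheory CategoryTheory.Limits Opposite Simplicial
universe v u

namespace Groth.Agent.H6.SkOver

section fin
variable (n : ℕ)

instance finite_str (Y : SimplexCategoryᵒᵖ) :
    Finite (StructuredArrow Y (SimplexCategory.Truncated.inclusion n).op) := by
  let g : (Σ i : Fin (n + 1), (SimplexCategory.mk i.1 ⟶ Y.unop)) →
      StructuredArrow Y (SimplexCategory.Truncated.inclusion n).op :=
    fun p => StructuredArrow.mk
      (Y := op (⟨SimplexCategory.mk p.1.1, by
        show p.1.1 ≤ n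
        exact Nat.lt_succ_iff.mp p.1.2⟩ : SimplexCategory.Truncated n)) p.2.op
  apply Finite.of_surjective g
  intro X
  exact ⟨⟨⟨X.right.unop.obj.len, Nat.lt_succ_of_le X.right.unop.property⟩, X.hom.unop⟩, rfl⟩

instance finite_str_hom (Y : SimplexCategoryᵒᵖ)
    (X X' : StructuredArrow Y (SimplexCategory.Truncated.inclusion n).op) :
    Finite (X ⟶ X') := by
  apply Finite.of_injective (fun f : X ⟶ X' => f.right.unop.hom)
  intro f g h
  ext
  apply Quiver.Hom.unop_inj
  apply ObjectProperty.hom_ext
  exact h

noncomputable instance finCat (Y : SimplexCategoryᵒᵖ) :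
    FinCategory (StructuredArrow Y (SimplexCategory.Truncated.inclusion n).op) where
  fintypeObj := Fintype.ofFinite _
  fintypeHom _ _ := Fintype.ofFinite _

variable {A : Type u} [Category.{v} A] [HasFiniteLimits A]

instance hasPointwise (F : (SimplexCategory.Truncated n)ᵒᵖ ⥤ A) :
    (SimplexCategory.Truncated.inclusion n).op.HasPointwiseRightKanExtension F := by
  intro Y
  infer_instance

end fin

section main
variable {C : Type u} [Category.{v} C] [HasFiniteLimits C] (X : C) (k : ℕ)

theorem main (hk : 1 ≤ k) (V : SimplicialObject (Over X)) [V.IsCoskeletal k] :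
    SimplicialObject.IsCoskeletal (V ⋙ Over.forget X) k := by
  haveI : NeZero k := ⟨by omega⟩
  haveI : (SimplexCategory.Truncated.inclusion k).op.Final := inferInstance
  haveI : ∀ Y : SimplexCategoryᵒᵖ,
      IsConnected (StructuredArrow Y (SimplexCategory.Truncated.inclusion k).op) :=
    fun Y => Functor.Final.out Y
  haveI : (Over.forget X).PreservesPointwiseRightKanExtension
      ((SimplexCategory.Truncated.inclusion k).op ⋙ V)
      (SimplexCategory.Truncated.inclusion k).op := by
    intro Y
    infer_instance
  have h := Functor.PreservesRightKanExtension.preserves (G := Over.forget X) V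
    (𝟙 ((SimplexCategory.Truncated.inclusion k).op ⋙ V))
  constructor
  have e : (Functor.associator _ _ _).inv ≫ Functor.whiskerRight
      (𝟙 ((SimplexCategory.Truncated.inclusion k).op ⋙ V)) (Over.forget X) =
      𝟙 ((SimplexCategory.Truncated.inclusion k).op ⋙ V ⋙ Over.forget X) := by
    ext Y
    simp
  rw [← e]
  exact h

end main

end Groth.Agent.H6.SkOver
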