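import Mathlib
import Groth.Agent.Lib.Helper6.SkOver

/-! Helper6: maps into `(cosk_0 sk_0 K)_1` from pairs of maps into `K_0`. -/

set_option autoImplicit false
open CategoryTheory CategoryTheory.Limits Opposite Simplicial SimplexCategory

universe v u

namespace Groth.Agent.H6.HyLift

variable {E : Type u} [Category.{v} E] [HasFiniteLimits E]
  [∀ (n : ℕ) (F : (SimplexCategory.Truncated n)ᵒᵖ ⥤ E),
    (SimplexCategory.Truncated.inclusion n).op.HasRightKanExtension F]
  (K : SimplicialObject E)

/-- `cosk_0 sk_0 K` -/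
noncomputable abbrev TK : SimplicialObject E := (SimplicialObject.cosk 0).obj K

/-- the object `[0]` of the 0-truncated simplex category -/
abbrev z0 : (SimplexCategory.Truncated 0)ᵒᵖ := op ⟨⦋0⦌, le_refl _⟩

/-- the counit at `[0]` -/
noncomputable def eps : (TK K) _⦋0⦌ ⟶ K _⦋0⦌ :=
  ((SimplicialObject.coskAdj 0).counit.app ((SimplicialObject.truncation 0).obj K)).app z0

/-- the two projections `(cosk_0 sk_0 K)_1 ⟶ K_0` -/
noncomputable def proj (e : Fin 2) : (TK K) _⦋1⦌ ⟶ K _⦋0⦌ := (TK K).δ e ≫ eps K

theorem unit_eps : ((SimplicialObject.coskAdj 0).unit.app K).app (op ⦋0⦌) ≫ eps K = 𝟙 _ := by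
  have h := (SimplicialObject.coskAdj (C := E) 0).left_triangle_components K
  exact congrArg (fun t => NatTrans.app t z0) h

theorem unit_proj (e : Fin 2) :
    ((SimplicialObject.coskAdj 0).unit.app K).app (op ⦋1⦌) ≫ proj K e = K.δ e := by
  unfold proj
  have h := ((SimplicialObject.coskAdj 0).unit.app K).naturality (SimplexCategory.δ e).op
  rw [← Category.assoc]
  erw [← h]
  rw [Category.assoc, unit_eps]
  exact Category.comp_id _

section lift

variable {K} {A : E} (α : Fin 2 → (A ⟶ K _⦋0⦌))

/-- the leg of the cone at a structured arrow -/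
noncomputable def leg (g : StructuredArrow (op ⦋1⦌) (SimplexCategory.Truncated.inclusion 0).op) :
    A ⟶ ((SimplicialObject.truncation 0).obj K).obj g.right :=
  α (g.hom.unop.toOrderHom 0) ≫ K.map (SimplexCategory.const g.right.unop.obj ⦋0⦌ 0).op

theorem leg_nat (g g' : StructuredArrow (op ⦋1⦌) (SimplexCategory.Truncated.inclusion 0).op)
    (h : g ⟶ g') :
    leg α g ≫ ((SimplicialObject.truncation 0).obj K).map h.right = leg α g' := by
  have hw : g.hom ≫ (SimplexCategory.Truncated.inclusion 0).op.map h.right = g'.hom :=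
    StructuredArrow.w h
  have hlen : g.right.unop.obj.len = 0 := Nat.le_zero.mp g.right.unop.property
  have hsub : ∀ a b : Fin (g.right.unop.obj.len + 1), a = b := fun a b =>
    Fin.ext (by have := a.2; have := b.2; omega)
  have hv : g'.hom.unop.toOrderHom 0 = g.hom.unop.toOrderHom 0 := by
    rw [← hw]
    show g.hom.unop.toOrderHom (h.right.unop.hom.toOrderHom 0) = _
    congr 1
    exact hsub _ _
  unfold leg
  rw [hv, Category.assoc]
  congr 1
  show K.map _ ≫ K.map _ = K.map _
  rw [← K.map_comp]
  congr 1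

/-- the cone with apex `A` -/
noncomputable def cone : Cone (StructuredArrow.proj (op ⦋1⦌) (SimplexCategory.Truncated.inclusion 0).op ⋙
    (SimplicialObject.truncation 0).obj K) where
  pt := A
  π :=
    { app := fun g => leg α g
      naturality := fun g g' h => (Category.id_comp _).trans (leg_nat α g g' h).symm }

theorem exists_lift : ∃ β : A ⟶ (TK K) _⦋1⦌, ∀ e : Fin 2, β ≫ proj K e = α (SimplexCategory.δ e |>.toOrderHom 0) := by
  have hV := Functor.isPointwiseRightKanExtensionOfIsRightKanExtension (TK K)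
    ((SimplicialObject.coskAdj 0).counit.app ((SimplicialObject.truncation 0).obj K)) (op ⦋1⦌)
  refine ⟨hV.lift (cone α), fun e => ?_⟩
  let g : StructuredArrow (op ⦋1⦌) (SimplexCategory.Truncated.inclusion 0).op :=
    StructuredArrow.mk (Y := z0) (SimplexCategory.δ e).op
  have h := hV.fac (cone α) g
  have h1 : (cone α).π.app g = α ((SimplexCategory.δ e).toOrderHom 0) := by
    show α _ ≫ K.map _ = _
    have : (SimplexCategory.const ⦋0⦌ ⦋0⦌ 0) = 𝟙 _ := SimplexCategory.isTerminalZero.hom_ext _ _
    erw [this, op_id, K.map_id, Category.comp_id]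
    rfl
  rw [← h1, ← h]
  rfl

end lift

end Groth.Agent.H6.HyLift
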