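import Mathlib
import Groth.Prelude.Def_Hyper
import Groth.Agent.Lib.Helper6.HyCoch
import Groth.Agent.Lib.Helper6.HyLift
import Groth.Agent.Lib.Helper9.Misc.SR1

/-! Helper6: degree-zero Cech cohomology of a sheaf on a hypercovering (S906). -/

set_option autoImplicit false
open CategoryTheory CategoryTheory.Limits Opposite Simplicial

universe u

namespace Groth.Agent.H6.HyH0

open Groth.Agent.H6.HyCoch Groth.Agent.H6.HyLift

variable {C : Type u} [SmallCategory C] [HasPullbacks C] {J : GrothendieckTopology C} (X : C)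

instance : HasFiniteLimits (FormalCoproduct.{u} (Over X)) :=
  hasFiniteLimits_of_hasTerminal_and_pullbacks

variable (K : SimplicialObject (FormalCoproduct.{u} (Over X)))
  [∀ (n : ℕ) (F : (SimplexCategory.Truncated n)ᵒᵖ ⥤ Limits.FormalCoproduct.{u} (Over X)),
      (SimplexCategory.Truncated.inclusion n).op.HasRightKanExtension F]
  (F : Sheaf J AddCommGrpCat.{u})

/-- the restriction of `F` to `Over X` -/
abbrev Q : (Over X)ᵒᵖ ⥤ AddCommGrpCat.{u} := (Over.forget X).op ⋙ F.obj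

theorem delta_zero : (SimplexCategory.δ (0 : Fin 2)).toOrderHom (0 : Fin 1) = (1 : Fin 2) := rfl
theorem delta_one : (SimplexCategory.δ (1 : Fin 2)).toOrderHom (0 : Fin 1) = (0 : Fin 2) := rfl

variable {X K}

theorem compat (hK : Hyper.IsHypercovering J X K)
    (x : Coch (Q X F) (K.obj (op ⦋0⦌)))
    (hx : pull (Q X F) (K.δ (0 : Fin 2)) x = pull (Q X F) (K.δ (1 : Fin 2)) x)
    {Z' : Over X} (μ1 μ2 : pobj Z' ⟶ K.obj (op ⦋0⦌)) :
    ev (Q X F) μ1 x = ev (Q X F) μ2 x := by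
  let α : Fin 2 → (pobj Z' ⟶ K _⦋0⦌) := ![μ1, μ2]
  obtain ⟨β, hβ⟩ := exists_lift (K := K) α
  have hβ1 : β ≫ proj K 1 = μ1 := by
    rw [hβ 1, delta_one]; rfl
  have hβ0 : β ≫ proj K 0 = μ2 := by
    rw [hβ 0, delta_zero]; rfl
  let η1 := ((SimplicialObject.coskAdj 0).unit.app K).app (op ⦋1⦌)
  let m := β.f PUnit.unit
  have hS := hK.2 0 m
  have hS' := (J.over X).pullback_stable (β.φ PUnit.unit) hS
  have hS'' := (GrothendieckTopology.mem_over_iff (J := J) _).1 hS'
  have hF : Presieve.IsSheaf J (F.obj ⋙ forget AddCommGrpCat.{u}) :=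
    (isSheaf_iff_isSheaf_of_type J _).1
      ((Presheaf.isSheaf_iff_isSheaf_forget J F.obj (forget _)).1 F.property)
  refine (hF _ hS'').isSeparatedFor.ext ?_
  intro W h hh
  rw [Sieve.overEquiv_iff, Sieve.pullback_apply, Groth.Agent.H9.SR1.mem_ofArrows_iff] at hh
  obtain ⟨⟨j, hj⟩, c, hc⟩ := hh
  let h' : Over.mk (h ≫ Z'.hom) ⟶ Z' := Over.homMk h
  have key : pmap h' ≫ β =
      pt (K.obj (op ⦋1⦌)) j c ≫ η1 := by
    refine FormalCoproduct.hom_ext ?_ ?_
    · funext _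
      exact hj.symm
    · intro i
      have hc' : (pmap h' ≫ β).φ i =
          c ≫ η1.φ j ≫ eqToHom (by rw [hj]; rfl) := hc
      rw [hc']
      simp only [Category.assoc, eqToHom_trans]
      have aux : ∀ (p : (TK K _⦋1⦌).obj (η1.f j) = (TK K _⦋1⦌).obj (η1.f j)),
          c ≫ η1.φ j ≫ eqToHom p = c ≫ η1.φ j := by
        intro p; simp
      exact aux _
  have e1 : ∀ (μ : pobj Z' ⟶ K.obj (op ⦋0⦌)) (e : Fin 2),
      β ≫ proj K e = μ →
      (F.obj ⋙ forget AddCommGrpCat.{u}).map h.op (ev (Q X F) μ x) =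
        ev (Q X F) (pt (K.obj (op ⦋1⦌)) j c) (pull (Q X F) (K.δ e) x) := by
    intro μ e hμ
    have h1 := ev_map (Q X F) h' μ x
    have h2 : pmap h' ≫ μ =
        pt (K.obj (op ⦋1⦌)) j c ≫ K.δ e :=
      calc pmap h' ≫ μ
          = pmap h' ≫ (β ≫ proj K e) := by rw [hμ]
        _ = (pmap h' ≫ β) ≫ proj K e := (Category.assoc _ _ _).symm
        _ = (pt (K.obj (op ⦋1⦌)) j c ≫ η1) ≫ proj K e := by rw [key]
        _ = pt (K.obj (op ⦋1⦌)) j c ≫ (η1 ≫ proj K e) := Category.assoc _ _ _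
        _ = pt (K.obj (op ⦋1⦌)) j c ≫ K.δ e := congrArg _ (unit_proj K e)
    rw [h2, ev_comp] at h1
    exact h1.symm
  rw [e1 μ1 1 hβ1, e1 μ2 0 hβ0, hx]

/-- the constant family attached to a section over `X` -/
def augA (A : FormalCoproduct.{u} (Over X)) (s : F.obj.obj (op X)) : Coch (Q X F) A :=
  fun i => F.obj.map (A.obj i).hom.op s

theorem pull_augA {A B : FormalCoproduct.{u} (Over X)} (f : A ⟶ B) (s : F.obj.obj (op X)) :
    pull (Q X F) f (augA F B s) = augA F A s := by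
  funext i
  show F.obj.map (f.φ i).left.op (F.obj.map (B.obj (f.f i)).hom.op s) = F.obj.map (A.obj i).hom.op s
  have hw : (f.φ i).left ≫ (B.obj (f.f i)).hom = (A.obj i).hom := Over.w _
  have e4 : F.obj.map (f.φ i).left.op (F.obj.map (B.obj (f.f i)).hom.op s) =
      F.obj.map ((f.φ i).left ≫ (B.obj (f.f i)).hom).op s := by
    rw [← ConcreteCategory.comp_apply, ← F.obj.map_comp, ← op_comp]
  exact e4.trans (congrArg (fun g : (A.obj i).left ⟶ X => F.obj.map g.op s) hw)

theorem existsUnique_of_cocycle (hK : Hyper.IsHypercovering J X K)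
    (x : Coch (Q X F) (K.obj (op ⦋0⦌)))
    (hx : pull (Q X F) (K.δ (0 : Fin 2)) x = pull (Q X F) (K.δ (1 : Fin 2)) x) :
    ∃! s : F.obj.obj (op X), x = augA F (K.obj (op ⦋0⦌)) s := by
  have hF : Presieve.IsSheaf J (F.obj ⋙ forget AddCommGrpCat.{u}) :=
    (isSheaf_iff_isSheaf_of_type J _).1
      ((Presheaf.isSheaf_iff_isSheaf_forget J F.obj (forget _)).1 F.property)
  have h1 := hF _ hK.1
  rw [Sieve.ofArrows, ← Presieve.isSheafFor_iff_generate, Presieve.isSheafFor_arrows_iff] at h1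
  have hcomp : Presieve.Arrows.Compatible (F.obj ⋙ forget AddCommGrpCat.{u})
      (fun i => ((K.obj (op ⦋0⦌)).obj i).hom) x := by
    intro i j Z gi gj hcomm
    let Z' : Over X := Over.mk (gi ≫ ((K.obj (op ⦋0⦌)).obj i).hom)
    let gi' : Z' ⟶ (K.obj (op ⦋0⦌)).obj i := Over.homMk gi rfl
    let gj' : Z' ⟶ (K.obj (op ⦋0⦌)).obj j := Over.homMk gj hcomm.symm
    exact compat F hK x hx (pt (K.obj (op ⦋0⦌)) i gi') (pt (K.obj (op ⦋0⦌)) j gj')
  obtain ⟨s, hs, huniq⟩ := h1 x hcomp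
  refine ⟨s, ?_, ?_⟩
  · funext i
    exact (hs i).symm
  · intro t ht
    apply huniq
    intro i
    exact (congrFun ht i).symm

/-- the augmentation `F(X) →+ C⁰` -/
noncomputable def augHom : F.obj.obj (op X) →+ (Cx (Q X F) K).X 0 where
  toFun s := (cochX (Q X F) K 0).symm (augA F (K.obj (op ⦋0⦌)) s)
  map_zero' := by
    rw [AddEquiv.symm_apply_eq, map_zero]
    funext i
    exact map_zero (F.obj.map ((K.obj (op ⦋0⦌)).obj i).hom.op).hom
  map_add' s t := by
    rw [AddEquiv.symm_apply_eq, map_add, AddEquiv.apply_symm_apply, AddEquiv.apply_symm_apply]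
    funext i
    exact map_add (F.obj.map ((K.obj (op ⦋0⦌)).obj i).hom.op).hom s t

lemma coch_augHom (s : F.obj.obj (op X)) :
    cochX (Q X F) K 0 (augHom (K := K) F s) = augA F (K.obj (op ⦋0⦌)) s :=
  (cochX (Q X F) K 0).apply_symm_apply _

lemma d_augHom (s : F.obj.obj (op X)) : (Cx (Q X F) K).d 0 1 (augHom (K := K) F s) = 0 := by
  apply (cochX (Q X F) K 1).injective
  rw [cochX_d0, coch_augHom, pull_augA, pull_augA, sub_self, map_zero]

/-- the augmentation into the kernel of `d⁰`. -/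
noncomputable def augKer : F.obj.obj (op X) →+ Groth.Agent.LD.CH.ker0 (Cx (Q X F) K) :=
  AddMonoidHom.codRestrict (augHom (K := K) F) _ (fun s => by
    rw [AddMonoidHom.mem_ker]
    exact d_augHom F s)

lemma augKer_bijective (hK : Hyper.IsHypercovering J X K) :
    Function.Bijective (augKer (K := K) F) := by
  have hcoc : ∀ z : (Cx (Q X F) K).X 0, (Cx (Q X F) K).d 0 1 z = 0 →
      pull (Q X F) (K.δ (0 : Fin 2)) (cochX (Q X F) K 0 z) =
        pull (Q X F) (K.δ (1 : Fin 2)) (cochX (Q X F) K 0 z) := by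
    intro z hz
    have h := cochX_d0 (Q X F) K z
    rw [hz, map_zero] at h
    exact sub_eq_zero.1 h.symm
  constructor
  · intro s t h
    have h1 : augHom (K := K) F s = augHom (K := K) F t := congrArg Subtype.val h
    have h2 : augA F (K.obj (op ⦋0⦌)) s = augA F (K.obj (op ⦋0⦌)) t := by
      rw [← coch_augHom, ← coch_augHom, h1]
    obtain ⟨r, _, hr⟩ := existsUnique_of_cocycle F hK _
      (hcoc (augHom (K := K) F s) (d_augHom F s))
    rw [hr s (coch_augHom F s), hr t ((coch_augHom F s).trans h2)]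
  · intro z
    obtain ⟨s, hs, _⟩ := existsUnique_of_cocycle F hK _ (hcoc z.1 z.2)
    refine ⟨s, Subtype.ext ?_⟩
    change augHom (K := K) F s = z.1
    apply (cochX (Q X F) K 0).injective
    rw [coch_augHom, hs]

theorem main (hK : Hyper.IsHypercovering J X K) :
    Nonempty (Hyper.cechH X K F.obj 0 ≅ F.obj.obj (op X)) := by
  let e : F.obj.obj (op X) ≃+ Groth.Agent.LD.CH.ker0 (Cx (Q X F) K) :=
    AddEquiv.ofBijective (augKer (K := K) F) (augKer_bijective F hK)
  exact ⟨Groth.Agent.LD.CH.h0Iso (Cx (Q X F) K) ≪≫ (AddEquiv.toAddCommGrpIso e).symm⟩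

end Groth.Agent.H6.HyH0
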