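import Mathlib
import Groth.Prelude.Def_Hyper
import Groth.Agent.Lib.Helper6.HyCoch
import Groth.Agent.Lib.Helper6.HyYo

/-! Helper6: chains on the points of a simplicial formal coproduct and cone systems. -/

set_option autoImplicit false
open CategoryTheory CategoryTheory.Limits Opposite Simplicial SimplexCategory

universe u

namespace Groth.Agent.H6.HyAc

open Groth.Agent.H6.HyCoch Groth.Agent.H6.HyYo

variable {D : Type u} [SmallCategory D] (K : SimplicialObject (FormalCoproduct.{u} D))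

/-- `n`-simplices of `K` over `U` -/
abbrev Pt (U : D) (n : ℕ) : Type u := pobj U ⟶ K _⦋n⦌

/-- chains -/
abbrev Ch (U : D) (n : ℕ) : Type u := FreeAbelianGroup (Pt K U n)

/-- the face maps on chains -/
def face (U : D) (n : ℕ) (i : Fin (n + 2)) : Ch K U (n + 1) →+ Ch K U n :=
  FreeAbelianGroup.map (fun σ => σ ≫ K.δ i)

/-- the differential -/
def dd (U : D) (n : ℕ) : Ch K U (n + 1) →+ Ch K U n :=
  ∑ i : Fin (n + 2), (-1 : ℤ) ^ (i : ℕ) • face K U n i

/-- restriction of chains -/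
def res {U V : D} (h : V ⟶ U) (n : ℕ) : Ch K U n →+ Ch K V n :=
  FreeAbelianGroup.map (fun σ => pmap h ≫ σ)

/-- the augmentation -/
def aug (U : D) : Ch K U 0 →+ ℤ := FreeAbelianGroup.lift (fun _ => (1 : ℤ))

theorem dd_of (U : D) (n : ℕ) (σ : Pt K U (n + 1)) :
    dd K U n (FreeAbelianGroup.of σ) =
      ∑ i : Fin (n + 2), (-1 : ℤ) ^ (i : ℕ) • FreeAbelianGroup.of (σ ≫ K.δ i) := by
  unfold dd
  rw [AddMonoidHom.finset_sum_apply]
  refine Finset.sum_congr rfl (fun i _ => ?_)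
  rw [AddMonoidHom.smul_apply]
  rfl

/-- the lower cone: the cone on the `i`-th face, or the vertex in dimension 0 -/
def lc {U V : D} (v : Pt K V 0) (c : ∀ k, Pt K U k → Pt K V (k + 1)) (k : ℕ) :
    Pt K U k → Fin (k + 1) → Pt K V k := by
  cases k with
  | zero => exact fun _ _ => v
  | succ k => exact fun σ i => c k (σ ≫ K.δ i)

/-- a cone system up to dimension `N` on a family `G` of simplices -/
structure ConeSys {U V : D} (h : V ⟶ U) (N : ℕ) (G : ∀ k, Set (Pt K U k)) where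
  v : Pt K V 0
  c : ∀ k, Pt K U k → Pt K V (k + 1)
  c_zero : ∀ k, k ≤ N → ∀ σ ∈ G k, c k σ ≫ K.δ 0 = pmap h ≫ σ
  c_succ : ∀ k, k ≤ N → ∀ σ ∈ G k, ∀ i : Fin (k + 1), c k σ ≫ K.δ i.succ = lc K v c k σ i

/-- the chain-level cone operator -/
def sOp {U V : D} (c : ∀ k, Pt K U k → Pt K V (k + 1)) (k : ℕ) : Ch K U k →+ Ch K V (k + 1) :=
  FreeAbelianGroup.map (c k)

variable {K}

theorem cone_identity_succ {U V : D} {h : V ⟶ U} {N : ℕ} {G : ∀ k, Set (Pt K U k)}
    (cs : ConeSys K h N G) (k : ℕ) (hk : k + 1 ≤ N) (z : Ch K U (k + 1))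
    (hz : z ∈ AddSubgroup.closure (FreeAbelianGroup.of '' G (k + 1))) :
    dd K V (k + 1) (sOp K cs.c (k + 1) z) = res K h (k + 1) z - sOp K cs.c k (dd K U k z) := by
  induction hz using AddSubgroup.closure_induction with
  | mem x hx =>
    obtain ⟨σ, hσ, rfl⟩ := hx
    have e1 : sOp K cs.c (k + 1) (FreeAbelianGroup.of σ) = FreeAbelianGroup.of (cs.c (k + 1) σ) :=
      FreeAbelianGroup.map_of_apply _
    rw [e1, dd_of, Fin.sum_univ_succ, dd_of, map_sum]
    have e2 : cs.c (k + 1) σ ≫ K.δ 0 = pmap h ≫ σ := cs.c_zero (k + 1) hk σ hσ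
    have e3 : res K h (k + 1) (FreeAbelianGroup.of σ) = FreeAbelianGroup.of (pmap h ≫ σ) :=
      FreeAbelianGroup.map_of_apply _
    rw [e2, e3]
    simp only [Fin.val_zero, pow_zero, one_smul, sub_eq_add_neg]
    congr 1
    rw [← Finset.sum_neg_distrib]
    refine Finset.sum_congr rfl (fun i _ => ?_)
    have e4 : cs.c (k + 1) σ ≫ K.δ i.succ = cs.c k (σ ≫ K.δ i) := cs.c_succ (k + 1) hk σ hσ i
    rw [e4, map_zsmul]
    have e5 : sOp K cs.c k (FreeAbelianGroup.of (σ ≫ K.δ i)) =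
        FreeAbelianGroup.of (cs.c k (σ ≫ K.δ i)) := FreeAbelianGroup.map_of_apply _
    rw [e5, Fin.val_succ, pow_succ]
    simp
  | zero => simp
  | add x y _ _ hx hy =>
    rw [map_add, map_add, hx, hy, map_add, map_add, map_add]
    abel
  | neg x _ hx =>
    rw [map_neg, map_neg, hx, map_neg, map_neg, map_neg]
    abel

theorem cone_identity_zero {U V : D} {h : V ⟶ U} {N : ℕ} {G : ∀ k, Set (Pt K U k)}
    (cs : ConeSys K h N G) (z : Ch K U 0)
    (hz : z ∈ AddSubgroup.closure (FreeAbelianGroup.of '' G 0)) :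
    dd K V 0 (sOp K cs.c 0 z) = res K h 0 z - aug K U z • FreeAbelianGroup.of cs.v := by
  induction hz using AddSubgroup.closure_induction with
  | mem x hx =>
    obtain ⟨σ, hσ, rfl⟩ := hx
    have e1 : sOp K cs.c 0 (FreeAbelianGroup.of σ) = FreeAbelianGroup.of (cs.c 0 σ) :=
      FreeAbelianGroup.map_of_apply _
    rw [e1, dd_of, Fin.sum_univ_two]
    have e2 : cs.c 0 σ ≫ K.δ 0 = pmap h ≫ σ := cs.c_zero 0 (Nat.zero_le _) σ hσ
    have e3 : res K h 0 (FreeAbelianGroup.of σ) = FreeAbelianGroup.of (pmap h ≫ σ) :=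
      FreeAbelianGroup.map_of_apply _
    have e4 : cs.c 0 σ ≫ K.δ 1 = cs.v := cs.c_succ 0 (Nat.zero_le _) σ hσ 0
    have e5 : aug K U (FreeAbelianGroup.of σ) = 1 := FreeAbelianGroup.lift_apply_of _ _
    rw [e2, e3, e4, e5]
    simp [sub_eq_add_neg]
  | zero => simp
  | add x y _ _ hx hy =>
    rw [map_add, map_add, hx, hy, map_add, map_add, add_smul]
    abel
  | neg x _ hx =>
    rw [map_neg, map_neg, hx, map_neg, map_neg, neg_smul]
    abel

/-- every chain is supported on a finite set of simplices -/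
theorem exists_finite_support {X : Type u} (z : FreeAbelianGroup X) :
    ∃ T : Set X, T.Finite ∧ z ∈ AddSubgroup.closure (FreeAbelianGroup.of '' T) := by
  induction z using FreeAbelianGroup.induction_on with
  | zero => exact ⟨∅, Set.finite_empty, AddSubgroup.zero_mem _⟩
  | of x =>
    exact ⟨{x}, Set.finite_singleton x, AddSubgroup.subset_closure ⟨x, rfl, rfl⟩⟩
  | neg x hx =>
    obtain ⟨T, hT, hz⟩ := hx
    exact ⟨T, hT, AddSubgroup.neg_mem _ hz⟩
  | add x y hx hy =>
    obtain ⟨T, hT, hz⟩ := hx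
    obtain ⟨T', hT', hz'⟩ := hy
    refine ⟨T ∪ T', hT.union hT', AddSubgroup.add_mem _ ?_ ?_⟩
    · exact AddSubgroup.closure_mono (Set.image_mono Set.subset_union_left) hz
    · exact AddSubgroup.closure_mono (Set.image_mono Set.subset_union_right) hz'

end Groth.Agent.H6.HyAc
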