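import Mathlib
import Groth.Agent.Lib.Helper6.SkOver

/-! Helper6: finite nonempty limits in formal coproducts, from binary products and pullbacks. -/

set_option autoImplicit false
open CategoryTheory CategoryTheory.Limits Opposite

universe w v u

namespace Groth.Agent.H6.FcLim

section nonemptyFinite

variable {E : Type u} [Category.{v} E] [HasBinaryProducts E]

/-- products indexed by `Fin (n+1)` from binary products -/
theorem hasProduct_fin_succ : ∀ (n : ℕ) (f : Fin (n + 1) → E), HasProduct f
  | 0 => fun f => by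
    haveI : Subsingleton (Fin (0 + 1)) := inferInstanceAs (Subsingleton (Fin 1))
    haveI : Nonempty (Fin (0 + 1)) := ⟨0⟩
    infer_instance
  | n + 1 => fun f => by
    haveI := hasProduct_fin_succ n
    exact HasLimit.mk ⟨_, extendFanIsLimit f (limit.isLimit _) (limit.isLimit _)⟩

theorem hasLimitsOfShape_discrete_fin_succ (n : ℕ) : HasLimitsOfShape (Discrete (Fin (n + 1))) E :=
  ⟨fun K => by
    let this := hasProduct_fin_succ n fun i => K.obj ⟨i⟩
    let that : (Discrete.functor fun i => K.obj ⟨i⟩) ≅ K := Discrete.natIso fun ⟨_⟩ => Iso.refl _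
    exact @hasLimit_of_iso _ _ _ _ _ _ this that⟩

theorem hasLimitsOfShape_discrete_of_nonempty_finite (ι : Type w) [Finite ι] [Nonempty ι] :
    HasLimitsOfShape (Discrete ι) E := by
  obtain ⟨n, ⟨e⟩⟩ := Finite.exists_equiv_fin ι
  have hn : n ≠ 0 := by
    rintro rfl
    exact (e (Classical.arbitrary ι)).elim0
  obtain ⟨m, rfl⟩ := Nat.exists_eq_succ_of_ne_zero hn
  haveI := hasLimitsOfShape_discrete_fin_succ (E := E) m
  exact hasLimitsOfShape_of_equivalence (Discrete.equivalence e.symm)

theorem hasLimitsOfShape_of_nonempty_finCategory [HasEqualizers E] (J : Type w) [SmallCategory J]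
    [FinCategory J] [Nonempty J] : HasLimitsOfShape J E := by
  refine ⟨fun F => ?_⟩
  haveI : HasLimitsOfShape (Discrete J) E := hasLimitsOfShape_discrete_of_nonempty_finite J
  haveI : Nonempty (Σ p : J × J, p.1 ⟶ p.2) :=
    ⟨⟨(Classical.arbitrary J, Classical.arbitrary J), 𝟙 _⟩⟩
  haveI : HasLimitsOfShape (Discrete (Σ p : J × J, p.1 ⟶ p.2)) E :=
    hasLimitsOfShape_discrete_of_nonempty_finite _
  exact hasLimit_of_equalizer_and_product F

end nonemptyFinite

section fc

variable {C : Type u} [Category.{v} C] [HasBinaryProducts C]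

/-- the binary product of two formal coproducts -/
noncomputable def prodObj (A B : FormalCoproduct.{w} C) : FormalCoproduct.{w} C :=
  ⟨A.I × B.I, fun p => A.obj p.1 ⨯ B.obj p.2⟩

noncomputable def prodFst (A B : FormalCoproduct.{w} C) : prodObj A B ⟶ A :=
  ⟨Prod.fst, fun _ => prod.fst⟩

noncomputable def prodSnd (A B : FormalCoproduct.{w} C) : prodObj A B ⟶ B :=
  ⟨Prod.snd, fun _ => prod.snd⟩

noncomputable def prodLift {A B T : FormalCoproduct.{w} C} (a : T ⟶ A) (b : T ⟶ B) : T ⟶ prodObj A B :=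
  ⟨fun i => (a.f i, b.f i), fun i => prod.lift (a.φ i) (b.φ i)⟩

theorem prodLift_fst {A B T : FormalCoproduct.{w} C} (a : T ⟶ A) (b : T ⟶ B) :
    prodLift a b ≫ prodFst A B = a := by
  refine FormalCoproduct.hom_ext rfl ?_
  intro i
  show (prod.lift (a.φ i) (b.φ i) ≫ prod.fst) ≫ 𝟙 _ = a.φ i
  rw [Category.comp_id]
  exact prod.lift_fst _ _

theorem prodLift_snd {A B T : FormalCoproduct.{w} C} (a : T ⟶ A) (b : T ⟶ B) :
    prodLift a b ≫ prodSnd A B = b := by
  refine FormalCoproduct.hom_ext rfl ?_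
  intro i
  show (prod.lift (a.φ i) (b.φ i) ≫ prod.snd) ≫ 𝟙 _ = b.φ i
  rw [Category.comp_id]
  exact prod.lift_snd _ _

theorem prod_uniq {A B T : FormalCoproduct.{w} C} (m : T ⟶ prodObj A B) :
    m = prodLift (m ≫ prodFst A B) (m ≫ prodSnd A B) := by
  refine FormalCoproduct.hom_ext rfl ?_
  intro i
  show m.φ i ≫ 𝟙 _ = prod.lift (m.φ i ≫ prod.fst) (m.φ i ≫ prod.snd)
  rw [Category.comp_id]
  apply Limits.prod.hom_ext
  · exact (prod.lift_fst _ _).symm
  · exact (prod.lift_snd _ _).symm

noncomputable def prodIsLimit (A B : FormalCoproduct.{w} C) :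
    IsLimit (BinaryFan.mk (prodFst A B) (prodSnd A B)) :=
  BinaryFan.isLimitMk (fun s => prodLift s.fst s.snd) (fun s => prodLift_fst _ _)
    (fun s => prodLift_snd _ _) (fun s m h1 h2 => by
      rw [prod_uniq m]
      congr 1)

instance hasBinaryProducts_fc : HasBinaryProducts (FormalCoproduct.{w} C) := by
  haveI : ∀ {A B : FormalCoproduct.{w} C}, HasLimit (pair A B) :=
    fun {A B} => ⟨⟨⟨_, prodIsLimit A B⟩⟩⟩
  exact hasBinaryProducts_of_hasLimit_pair _

theorem hasEqualizers_fc [HasPullbacks C] : HasEqualizers (FormalCoproduct.{w} C) :=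
  hasEqualizers_of_hasPullbacks_and_binary_products

end fc

section kan

open Simplicial

variable {C : Type u} [Category.{v} C] [HasBinaryProducts C] [HasPullbacks C]

instance nonempty_str (n : ℕ) (Y : SimplexCategoryᵒᵖ) :
    Nonempty (StructuredArrow Y (SimplexCategory.Truncated.inclusion n).op) :=
  ⟨StructuredArrow.mk (Y := op (⟨⦋0⦌, Nat.zero_le n⟩ : SimplexCategory.Truncated n))
    (SimplexCategory.const ⦋0⦌ Y.unop 0).op⟩

theorem hasPointwise_fc (n : ℕ) (F : (SimplexCategory.Truncated n)ᵒᵖ ⥤ FormalCoproduct.{w} C) :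
    (SimplexCategory.Truncated.inclusion n).op.HasPointwiseRightKanExtension F := by
  intro Y
  haveI : HasEqualizers (FormalCoproduct.{w} C) := hasEqualizers_fc
  haveI : HasLimitsOfShape (StructuredArrow Y (SimplexCategory.Truncated.inclusion n).op)
      (FormalCoproduct.{w} C) := hasLimitsOfShape_of_nonempty_finCategory _
  show HasLimit _
  infer_instance

end kan

end Groth.Agent.H6.FcLim
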