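import Mathlib
import Groth.Prelude.Def_Hyper
import Groth.Agent.Lib.Helper6.HyCoch

/-! Helper6: the simplicial formal coproduct of `B`-valued diagrams on nonempty subsets of `[n]`
(an explicit hypercovering with all members in a covering class `B`). Part A: the simplicial object. -/

set_option autoImplicit false
open CategoryTheory CategoryTheory.Limits Opposite Simplicial SimplexCategory

universe v u

namespace Groth.Agent.H6.HyBas

section arrows

variable {D : Type u} [Category.{v} D]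

theorem arrow_eq_mk (A : Arrow D) {X Y : D} (hl : A.left = X) (hr : A.right = Y) :
    A = Arrow.mk (eqToHom hl.symm ≫ A.hom ≫ eqToHom hr) := by
  subst hl hr
  simp

theorem arrow_hom_of_eq {A : Arrow D} {X Y : D} (f : X ⟶ Y) (h : A = Arrow.mk f)
    {X' Y' : D} (hl : A.left = X') (hr : A.right = Y') :
    eqToHom hl.symm ≫ A.hom ≫ eqToHom hr =
      eqToHom (hl.symm.trans (congrArg Comma.left h)) ≫ f ≫
        eqToHom ((congrArg Comma.right h).symm.trans hr) := by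
  subst h
  rfl

theorem mk_eqToHom_comp {X X' Y : D} (h : X' = X) (f : X ⟶ Y) :
    Arrow.mk (eqToHom h ≫ f) = Arrow.mk f := by
  subst h
  simp

end arrows

/-- pairs `S ⊆ T` of subsets of the vertices of a simplex, `S` nonempty -/
@[ext]
structure Pr (Δ : SimplexCategory) where
  S : Finset (Fin (Δ.len + 1))
  T : Finset (Fin (Δ.len + 1))
  ne : S.Nonempty
  h : S ⊆ T

namespace Pr

/-- the diagonal pair -/
def diag {Δ : SimplexCategory} (S : Finset (Fin (Δ.len + 1))) (hS : S.Nonempty) : Pr Δ :=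
  ⟨S, S, hS, subset_rfl⟩

/-- the pair `(S, univ)` -/
def toTop {Δ : SimplexCategory} (S : Finset (Fin (Δ.len + 1))) (hS : S.Nonempty) : Pr Δ :=
  ⟨S, Finset.univ, hS, Finset.subset_univ _⟩

/-- pushforward of pairs -/
def push {Δ Δ' : SimplexCategory} (θ : Δ ⟶ Δ') (p : Pr Δ) : Pr Δ' :=
  ⟨p.S.image θ.toOrderHom, p.T.image θ.toOrderHom, p.ne.image _, Finset.image_subset_image p.h⟩

theorem push_id {Δ : SimplexCategory} (p : Pr Δ) : push (𝟙 Δ) p = p := by
  apply Pr.ext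
  · show p.S.image (fun x => x) = p.S
    exact Finset.image_id'
  · show p.T.image (fun x => x) = p.T
    exact Finset.image_id'

theorem push_comp {Δ Δ' Δ'' : SimplexCategory} (θ : Δ ⟶ Δ') (θ' : Δ' ⟶ Δ'') (p : Pr Δ) :
    push (θ ≫ θ') p = push θ' (push θ p) := by
  apply Pr.ext
  · show p.S.image (fun x => θ'.toOrderHom (θ.toOrderHom x)) = (p.S.image θ.toOrderHom).image θ'.toOrderHom
    rw [Finset.image_image]
    rfl
  · show p.T.image (fun x => θ'.toOrderHom (θ.toOrderHom x)) = (p.T.image θ.toOrderHom).image θ'.toOrderHom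
    rw [Finset.image_image]
    rfl

end Pr

section sx

variable {D : Type u} [Category.{v} D] (Bp : Set D)

/-- the conditions for a family of arrows to be a `B`-valued diagram -/
structure IsSx (Δ : SimplexCategory) (w : Pr Δ → Arrow D) : Prop where
  id_ : ∀ (S : Finset (Fin (Δ.len + 1))) (hS : S.Nonempty), ∃ A : D, w (Pr.diag S hS) = Arrow.mk (𝟙 A)
  comp_ : ∀ (S T R : Finset (Fin (Δ.len + 1))) (hS : S.Nonempty) (hST : S ⊆ T) (hTR : T ⊆ R),
    ∃ (A B C : D) (f : A ⟶ B) (g : B ⟶ C), w ⟨T, R, hS.mono hST, hTR⟩ = Arrow.mk f ∧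
      w ⟨S, T, hS, hST⟩ = Arrow.mk g ∧ w ⟨S, R, hS, hST.trans hTR⟩ = Arrow.mk (f ≫ g)
  mem_ : ∀ (S : Finset (Fin (Δ.len + 1))) (hS : S.Nonempty), (w (Pr.diag S hS)).left ∈ Bp

/-- the simplices -/
def Sx (Δ : SimplexCategory) : Type (max u v) := {w : Pr Δ → Arrow D // IsSx Bp Δ w}

variable {Bp}

/-- restriction of simplices -/
def pull {Δ Δ' : SimplexCategory} (θ : Δ ⟶ Δ') (w : Sx Bp Δ') : Sx Bp Δ :=
  ⟨fun p => w.1 (Pr.push θ p),
    { id_ := fun S hS => w.2.id_ _ (hS.image _)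
      comp_ := fun S T R hS hST hTR =>
        w.2.comp_ _ _ _ (hS.image _) (Finset.image_subset_image hST) (Finset.image_subset_image hTR)
      mem_ := fun S hS => w.2.mem_ _ (hS.image _) }⟩

theorem pull_id {Δ : SimplexCategory} (w : Sx Bp Δ) : pull (𝟙 Δ) w = w := by
  apply Subtype.ext
  funext p
  show w.1 (Pr.push (𝟙 Δ) p) = w.1 p
  rw [Pr.push_id]

theorem pull_comp {Δ Δ' Δ'' : SimplexCategory} (θ : Δ ⟶ Δ') (θ' : Δ' ⟶ Δ'') (w : Sx Bp Δ'') :
    pull (θ ≫ θ') w = pull θ (pull θ' w) := by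
  apply Subtype.ext
  funext p
  show w.1 (Pr.push (θ ≫ θ') p) = w.1 (Pr.push θ' (Pr.push θ p))
  rw [Pr.push_comp]

/-- the object at `S` -/
def ob {Δ : SimplexCategory} (w : Sx Bp Δ) (S : Finset (Fin (Δ.len + 1))) (hS : S.Nonempty) : D :=
  (w.1 (Pr.diag S hS)).left

theorem ob_mem {Δ : SimplexCategory} (w : Sx Bp Δ) (S : Finset (Fin (Δ.len + 1))) (hS : S.Nonempty) :
    ob w S hS ∈ Bp := w.2.mem_ S hS

theorem src_eq {Δ : SimplexCategory} (w : Sx Bp Δ) (p : Pr Δ) :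
    (w.1 p).left = ob w p.T (p.ne.mono p.h) := by
  obtain ⟨A, B, C, f, g, h1, h2, h3⟩ := w.2.comp_ p.S p.T p.T p.ne p.h subset_rfl
  have e1 : (w.1 p).left = A := congrArg Comma.left h3
  have e2 : ob w p.T (p.ne.mono p.h) = A := congrArg Comma.left h1
  rw [e1, e2]

theorem tgt_eq {Δ : SimplexCategory} (w : Sx Bp Δ) (p : Pr Δ) :
    (w.1 p).right = ob w p.S p.ne := by
  obtain ⟨A, B, C, f, g, h1, h2, h3⟩ := w.2.comp_ p.S p.S p.T p.ne subset_rfl p.h
  have e1 : (w.1 p).right = B := congrArg Comma.right h1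
  have e2 : ob w p.S p.ne = B := congrArg Comma.left h2
  rw [e1, e2]

/-- the transition maps -/
def mp {Δ : SimplexCategory} (w : Sx Bp Δ) (p : Pr Δ) : ob w p.T (p.ne.mono p.h) ⟶ ob w p.S p.ne :=
  eqToHom (src_eq w p).symm ≫ (w.1 p).hom ≫ eqToHom (tgt_eq w p)

theorem arrow_eq {Δ : SimplexCategory} (w : Sx Bp Δ) (p : Pr Δ) : w.1 p = Arrow.mk (mp w p) :=
  arrow_eq_mk _ (src_eq w p) (tgt_eq w p)

theorem mp_of_eq {Δ : SimplexCategory} (w : Sx Bp Δ) (p : Pr Δ) {X Y : D} (f : X ⟶ Y)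
    (h : w.1 p = Arrow.mk f) :
    mp w p = eqToHom ((src_eq w p).symm.trans (congrArg Comma.left h)) ≫ f ≫
      eqToHom ((congrArg Comma.right h).symm.trans (tgt_eq w p)) :=
  arrow_hom_of_eq f h (src_eq w p) (tgt_eq w p)

theorem mp_id {Δ : SimplexCategory} (w : Sx Bp Δ) (S : Finset (Fin (Δ.len + 1))) (hS : S.Nonempty) :
    mp w (Pr.diag S hS) = 𝟙 _ := by
  obtain ⟨A, hA⟩ := w.2.id_ S hS
  rw [mp_of_eq w _ (𝟙 A) hA]
  simp
  exact eqToHom_refl _ _

theorem mp_comp {Δ : SimplexCategory} (w : Sx Bp Δ) (S T R : Finset (Fin (Δ.len + 1)))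
    (hS : S.Nonempty) (hST : S ⊆ T) (hTR : T ⊆ R) :
    mp w ⟨T, R, hS.mono hST, hTR⟩ ≫ mp w ⟨S, T, hS, hST⟩ = mp w ⟨S, R, hS, hST.trans hTR⟩ := by
  obtain ⟨A, B, C, f, g, h1, h2, h3⟩ := w.2.comp_ S T R hS hST hTR
  rw [mp_of_eq w _ f h1, mp_of_eq w _ g h2, mp_of_eq w _ (f ≫ g) h3]
  simp

end sx

end Groth.Agent.H6.HyBas
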