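import Mathlib
import Groth.Prelude.Def_Hyper
import Groth.Agent.Lib.Helper6.HyCoch
import Groth.Agent.Lib.Helper6.HyBasA

/-! Helper6: explicit hypercovering with members in `B`. Part B: the simplicial formal coproduct. -/

set_option autoImplicit false
open CategoryTheory CategoryTheory.Limits Opposite Simplicial SimplexCategory

universe u

namespace Groth.Agent.H6.HyBas

open Groth.Agent.H6.HyCoch

section simp

variable {D : Type u} [SmallCategory D]

theorem hom_ext_arrow {A B : FormalCoproduct.{u} D} (f g : A ⟶ B) (h1 : f.f = g.f)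
    (h2 : ∀ i, Arrow.mk (f.φ i) = Arrow.mk (g.φ i)) : f = g := by
  obtain ⟨f, φ⟩ := f
  obtain ⟨g, ψ⟩ := g
  dsimp at h1
  subst h1
  congr
  funext i
  exact (Arrow.mk_inj _ _).1 (h2 i)

variable (Bp : Set D)

/-- the top object of a simplex -/
abbrev top {Δ : SimplexCategory} (w : Sx Bp Δ) : D := ob w Finset.univ Finset.univ_nonempty

/-- the family of all simplices of shape `Δ` -/
abbrev Kobj (Δ : SimplexCategory) : FormalCoproduct.{u} D := ⟨Sx Bp Δ, fun w => top Bp w⟩

/-- the image of the top face -/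
abbrev imTop {Δ Δ' : SimplexCategory} (θ : Δ ⟶ Δ') : Pr Δ' :=
  Pr.toTop (Finset.univ.image θ.toOrderHom) (Finset.univ_nonempty.image _)

/-- the structure maps -/
def Kmap {Δ Δ' : SimplexCategory} (θ : Δ ⟶ Δ') : Kobj Bp Δ' ⟶ Kobj Bp Δ :=
  ⟨pull θ, fun w => mp w (imTop θ)⟩

theorem Kmap_id (Δ : SimplexCategory) : Kmap Bp (𝟙 Δ) = 𝟙 (Kobj Bp Δ) := by
  apply hom_ext_arrow
  · funext (w : Sx Bp Δ)
    exact pull_id w
  · intro (w : Sx Bp Δ)
    show Arrow.mk (mp w (imTop (𝟙 Δ))) = Arrow.mk (𝟙 (top Bp w))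
    have e : imTop (𝟙 Δ) = Pr.diag Finset.univ Finset.univ_nonempty := by
      apply Pr.ext
      · show Finset.univ.image (fun x => x) = Finset.univ
        exact Finset.image_id'
      · rfl
    calc Arrow.mk (mp w (imTop (𝟙 Δ))) = w.1 (imTop (𝟙 Δ)) := (arrow_eq w _).symm
      _ = w.1 (Pr.diag Finset.univ Finset.univ_nonempty) := congrArg w.1 e
      _ = Arrow.mk (mp w (Pr.diag Finset.univ Finset.univ_nonempty)) := arrow_eq w _
      _ = Arrow.mk (𝟙 (top Bp w)) := congrArg Arrow.mk (mp_id w Finset.univ Finset.univ_nonempty)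

theorem Kmap_comp {Δ Δ' Δ'' : SimplexCategory} (θ : Δ ⟶ Δ') (θ' : Δ' ⟶ Δ'') :
    Kmap Bp (θ ≫ θ') = Kmap Bp θ' ≫ Kmap Bp θ := by
  apply hom_ext_arrow
  · funext (w : Sx Bp Δ'')
    exact pull_comp θ θ' w
  · intro (w : Sx Bp Δ'')
    show Arrow.mk (mp w (imTop (θ ≫ θ'))) =
      Arrow.mk (mp w (imTop θ') ≫ mp (pull θ' w) (imTop θ))
    have h2 := mp_comp w ((Finset.univ.image θ.toOrderHom).image θ'.toOrderHom)
      (Finset.univ.image θ'.toOrderHom) Finset.univ ((Finset.univ_nonempty.image _).image _)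
      (Finset.image_subset_image (Finset.subset_univ _)) (Finset.subset_univ _)
    have h3 : mp w (imTop θ') ≫ mp (pull θ' w) (imTop θ) =
        mp w ⟨(Finset.univ.image θ.toOrderHom).image θ'.toOrderHom, Finset.univ,
          (Finset.univ_nonempty.image _).image _, Finset.subset_univ _⟩ := h2
    have e : imTop (θ ≫ θ') = ⟨(Finset.univ.image θ.toOrderHom).image θ'.toOrderHom, Finset.univ,
          (Finset.univ_nonempty.image _).image _, Finset.subset_univ _⟩ := by
      apply Pr.ext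
      · exact (Finset.image_image (s := Finset.univ) (f := θ.toOrderHom) (g := θ'.toOrderHom)).symm
      · rfl
    calc Arrow.mk (mp w (imTop (θ ≫ θ'))) = w.1 (imTop (θ ≫ θ')) := (arrow_eq w _).symm
      _ = w.1 _ := congrArg w.1 e
      _ = Arrow.mk (mp w _) := arrow_eq w _
      _ = Arrow.mk (mp w (imTop θ') ≫ mp (pull θ' w) (imTop θ)) := congrArg Arrow.mk h3.symm

/-- the simplicial formal coproduct of `B`-valued diagrams -/
def K : SimplicialObject (FormalCoproduct.{u} D) where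
  obj Δ := Kobj Bp Δ.unop
  map θ := Kmap Bp θ.unop
  map_id Δ := Kmap_id Bp Δ.unop
  map_comp θ θ' := Kmap_comp Bp θ'.unop θ.unop

theorem K_obj_mem (Δ : SimplexCategory) (w : Sx Bp Δ) :
    ((K Bp).obj (op Δ)).obj w ∈ Bp :=
  ob_mem (Bp := Bp) w Finset.univ Finset.univ_nonempty

end simp

end Groth.Agent.H6.HyBas
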