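import Mathlib
import Groth.Agent.Lib.Helper6.SkOver
import Groth.Agent.Lib.Helper6.CoskExt

/-! Helper6: strongly compatible families of faces and maps into `(cosk_m sk_m K)_{m+1}`. -/

set_option autoImplicit false
open CategoryTheory CategoryTheory.Limits Opposite Simplicial SimplexCategory

universe v u

namespace Groth.Agent.H6.HyFaceA

/-- the general swap identity for cofaces -/
theorem δ_swap {n : ℕ} (k : Fin (n + 3)) (l : Fin (n + 2)) :
    SimplexCategory.δ l ≫ SimplexCategory.δ k =
      SimplexCategory.δ (l.predAbove k) ≫ SimplexCategory.δ (k.succAbove l) := by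
  ext x : 3
  exact (Fin.succAbove_succAbove_succAbove_predAbove k l x).symm

theorem δ_apply {n : ℕ} (a : Fin (n + 2)) (x : Fin (n + 1)) :
    (SimplexCategory.δ a).toOrderHom x = a.succAbove x := rfl

variable {E : Type u} [Category.{v} E] (K : SimplicialObject E)

/-- strong compatibility of a family of `m`-simplices indexed by the faces in `S` -/
def SC {A : E} (m : ℕ) (S : Set (Fin (m + 2))) (g : Fin (m + 2) → (A ⟶ K _⦋m⦌)) : Prop :=
  ∀ (a a' : Fin (m + 2)), a ∈ S → a' ∈ S → ∀ (Δ : SimplexCategory) (θ θ' : Δ ⟶ ⦋m⦌),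
    θ ≫ SimplexCategory.δ a = θ' ≫ SimplexCategory.δ a' → g a ≫ K.map θ.op = g a' ≫ K.map θ'.op

variable [HasFiniteLimits E]
  [∀ (n : ℕ) (F : (SimplexCategory.Truncated n)ᵒᵖ ⥤ E),
    (SimplexCategory.Truncated.inclusion n).op.HasRightKanExtension F]

/-- the object `[m]` of the m-truncated simplex category -/
abbrev zm (m : ℕ) : (SimplexCategory.Truncated m)ᵒᵖ := op ⟨⦋m⦌, le_refl _⟩

/-- the counit at `[m]` -/
noncomputable def eps (m : ℕ) : ((SimplicialObject.cosk m).obj K) _⦋m⦌ ⟶ K _⦋m⦌ :=
  ((SimplicialObject.coskAdj m).counit.app ((SimplicialObject.truncation m).obj K)).app (zm m)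

/-- the faces `(cosk_m sk_m K)_{m+1} ⟶ K_m` -/
noncomputable def P (m : ℕ) (a : Fin (m + 2)) : ((SimplicialObject.cosk m).obj K) _⦋m + 1⦌ ⟶ K _⦋m⦌ :=
  ((SimplicialObject.cosk m).obj K).δ a ≫ eps K m

theorem unit_eps (m : ℕ) : ((SimplicialObject.coskAdj m).unit.app K).app (op ⦋m⦌) ≫ eps K m = 𝟙 _ := by
  have h := (SimplicialObject.coskAdj (C := E) m).left_triangle_components K
  exact congrArg (fun t => NatTrans.app t (zm m)) h

theorem unit_P (m : ℕ) (a : Fin (m + 2)) :
    ((SimplicialObject.coskAdj m).unit.app K).app (op ⦋m + 1⦌) ≫ P K m a = K.δ a := by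
  unfold P
  have h := ((SimplicialObject.coskAdj m).unit.app K).naturality (SimplexCategory.δ a).op
  rw [← Category.assoc]
  erw [← h]
  rw [Category.assoc, unit_eps]
  exact Category.comp_id _

section lift

variable {K} {m : ℕ} {A : E} (g : Fin (m + 2) → (A ⟶ K _⦋m⦌)) (hg : SC K m Set.univ g)

theorem ns (s : StructuredArrow (op ⦋m + 1⦌) (SimplexCategory.Truncated.inclusion m).op) :
    ¬ Function.Surjective s.hom.unop.toOrderHom :=
  Groth.Agent.H6.CoskExt.not_surj (Nat.lt_succ_of_le s.right.unop.property) _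

/-- the leg of the cone at a structured arrow -/
noncomputable def leg (s : StructuredArrow (op ⦋m + 1⦌) (SimplexCategory.Truncated.inclusion m).op) :
    A ⟶ ((SimplicialObject.truncation m).obj K).obj s.right :=
  g (eq_comp_δ_of_not_surjective s.hom.unop (ns s)).choose ≫
    K.map (eq_comp_δ_of_not_surjective s.hom.unop (ns s)).choose_spec.choose.op

include hg in
theorem leg_eq (s : StructuredArrow (op ⦋m + 1⦌) (SimplexCategory.Truncated.inclusion m).op)
    (a : Fin (m + 2)) (ψ : s.right.unop.obj ⟶ ⦋m⦌) (h : s.hom.unop = ψ ≫ SimplexCategory.δ a) :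
    leg g s = g a ≫ K.map ψ.op := by
  unfold leg
  refine hg _ _ (Set.mem_univ _) (Set.mem_univ _) _ _ _ ?_
  rw [← (eq_comp_δ_of_not_surjective s.hom.unop (ns s)).choose_spec.choose_spec, h]

include hg in
theorem leg_nat (s s' : StructuredArrow (op ⦋m + 1⦌) (SimplexCategory.Truncated.inclusion m).op)
    (f : s ⟶ s') :
    leg g s ≫ ((SimplicialObject.truncation m).obj K).map f.right = leg g s' := by
  have hw : s.hom ≫ (SimplexCategory.Truncated.inclusion m).op.map f.right = s'.hom :=
    StructuredArrow.w f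
  obtain ⟨a, ψ, h⟩ := eq_comp_δ_of_not_surjective s.hom.unop (ns s)
  have h' : s'.hom.unop = (f.right.unop.hom ≫ ψ) ≫ SimplexCategory.δ a := by
    rw [← hw, Category.assoc, ← h]
    rfl
  rw [leg_eq g hg s a ψ h, leg_eq g hg s' a _ h']
  have e : K.map ψ.op ≫ K.map f.right.unop.hom.op = K.map (f.right.unop.hom ≫ ψ).op := by
    rw [← K.map_comp]; rfl
  exact (Category.assoc _ _ _).trans (congrArg (fun t => g a ≫ t) e)

/-- the cone with apex `A` -/
noncomputable def cone : Cone (StructuredArrow.proj (op ⦋m + 1⦌)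
    (SimplexCategory.Truncated.inclusion m).op ⋙ (SimplicialObject.truncation m).obj K) where
  pt := A
  π :=
    { app := fun s => leg g s
      naturality := fun s s' f => (Category.id_comp _).trans (leg_nat g hg s s' f).symm }

include hg in
theorem exists_lift :
    ∃ β : A ⟶ ((SimplicialObject.cosk m).obj K) _⦋m + 1⦌, ∀ a : Fin (m + 2), β ≫ P K m a = g a := by
  have hV := Functor.isPointwiseRightKanExtensionOfIsRightKanExtension ((SimplicialObject.cosk m).obj K)
    ((SimplicialObject.coskAdj m).counit.app ((SimplicialObject.truncation m).obj K)) (op ⦋m + 1⦌)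
  refine ⟨hV.lift (cone g hg), fun a => ?_⟩
  let s : StructuredArrow (op ⦋m + 1⦌) (SimplexCategory.Truncated.inclusion m).op :=
    StructuredArrow.mk (Y := zm m) (SimplexCategory.δ a).op
  have h := hV.fac (cone g hg) s
  have h1 : (cone g hg).π.app s = g a := by
    show leg g s = g a
    rw [leg_eq g hg s a (𝟙 _) (Category.id_comp _).symm]
    erw [op_id, K.map_id, Category.comp_id]
  rw [← h1, ← h]
  rfl

end lift

end Groth.Agent.H6.HyFaceA
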