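import Mathlib
import Groth.Prelude.Def_Hyper
import Groth.Agent.Lib.Helper6.HyCoch
import Groth.Agent.Lib.Helper6.HyFaceA
import Groth.Agent.Lib.Helper6.HyBasA
import Groth.Agent.Lib.Helper6.HyBasB

/-! Helper6: explicit hypercovering with members in `B`. Part C: gluing a compatible boundary. -/

set_option autoImplicit false
open CategoryTheory CategoryTheory.Limits Opposite Simplicial SimplexCategory

universe u

namespace Groth.Agent.H6.HyBas

open Groth.Agent.H6.HyCoch Groth.Agent.H6.HyFaceA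

section pre

variable (n : ℕ)

/-- preimage of a set of vertices under the coface `δ a` -/
def pre (a : Fin (n + 2)) (S : Finset (Fin (⦋n + 1⦌.len + 1))) : Finset (Fin (⦋n⦌.len + 1)) :=
  Finset.univ.filter (fun j => (SimplexCategory.δ a).toOrderHom j ∈ S)

variable {n}

theorem mem_pre (a : Fin (n + 2)) (S : Finset (Fin (⦋n + 1⦌.len + 1))) (j : Fin (⦋n⦌.len + 1)) :
    j ∈ pre n a S ↔ (SimplexCategory.δ a).toOrderHom j ∈ S := by
  unfold pre
  simp

theorem not_mem_image (a : Fin (n + 2)) (S' : Finset (Fin (⦋n⦌.len + 1))) :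
    a ∉ S'.image (SimplexCategory.δ a).toOrderHom := by
  intro h
  obtain ⟨j, _, hj⟩ := Finset.mem_image.1 h
  exact Fin.succAbove_ne a j hj

theorem image_pre (a : Fin (n + 2)) (S : Finset (Fin (⦋n + 1⦌.len + 1))) (ha : a ∉ S) :
    (pre n a S).image (SimplexCategory.δ a).toOrderHom = S := by
  ext j
  rw [Finset.mem_image]
  constructor
  · rintro ⟨i, hi, rfl⟩
    exact (mem_pre a S i).1 hi
  · intro hj
    have hne : j ≠ a := fun e => ha (e ▸ hj)
    obtain ⟨i, hi⟩ := Fin.exists_succAbove_eq hne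
    refine ⟨i, (mem_pre a S i).2 ?_, hi⟩
    have : (SimplexCategory.δ a).toOrderHom i = j := hi
    rw [this]
    exact hj

theorem pre_image (a : Fin (n + 2)) (S' : Finset (Fin (⦋n⦌.len + 1))) :
    pre n a (S'.image (SimplexCategory.δ a).toOrderHom) = S' := by
  ext i
  rw [mem_pre, Finset.mem_image]
  constructor
  · rintro ⟨i', hi', e⟩
    have : i' = i := Fin.succAbove_right_injective e
    exact this ▸ hi'
  · intro hi
    exact ⟨i, hi, rfl⟩

theorem pre_mono (a : Fin (n + 2)) {S T : Finset (Fin (⦋n + 1⦌.len + 1))} (h : S ⊆ T) :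
    pre n a S ⊆ pre n a T := by
  intro j hj
  rw [mem_pre] at hj ⊢
  exact h hj

theorem pre_nonempty (a : Fin (n + 2)) {S : Finset (Fin (⦋n + 1⦌.len + 1))} (ha : a ∉ S)
    (hS : S.Nonempty) : (pre n a S).Nonempty := by
  have h := image_pre a S ha
  rw [← h] at hS
  exact Finset.image_nonempty.1 hS

theorem pre_univ (a : Fin (n + 2)) :
    pre n a (Finset.univ.image (SimplexCategory.δ a).toOrderHom) = Finset.univ :=
  pre_image a Finset.univ

/-- preimage of pairs -/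
def prePr (a : Fin (n + 2)) (p : Pr ⦋n + 1⦌) (ha : a ∉ p.T) : Pr ⦋n⦌ :=
  ⟨pre n a p.S, pre n a p.T, pre_nonempty a (fun h => ha (p.h h)) p.ne, pre_mono a p.h⟩

theorem prePr_push (a : Fin (n + 2)) (q : Pr ⦋n⦌) (ha : a ∉ (Pr.push (SimplexCategory.δ a) q).T) :
    prePr a (Pr.push (SimplexCategory.δ a) q) ha = q := by
  apply Pr.ext
  · exact pre_image a q.S
  · exact pre_image a q.T

theorem image_eq_pre {Δ : SimplexCategory} (θ : Δ ⟶ ⦋n⦌) (a : Fin (n + 2))
    (Y : Finset (Fin (Δ.len + 1))) :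
    Y.image θ.toOrderHom = pre n a (Y.image (θ ≫ SimplexCategory.δ a).toOrderHom) := by
  have : Y.image (θ ≫ SimplexCategory.δ a).toOrderHom =
      (Y.image θ.toOrderHom).image (SimplexCategory.δ a).toOrderHom :=
    (Finset.image_image (s := Y) (f := θ.toOrderHom) (g := (SimplexCategory.δ a).toOrderHom)).symm
  rw [this, pre_image]

theorem push_eq_prePr {Δ : SimplexCategory} (θ : Δ ⟶ ⦋n⦌) (a : Fin (n + 2)) (θ0 : Δ ⟶ ⦋n + 1⦌)
    (h : θ0 = θ ≫ SimplexCategory.δ a) (q : Pr Δ) (ha : a ∉ (Pr.push θ0 q).T) :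
    Pr.push θ q = prePr a (Pr.push θ0 q) ha := by
  subst h
  apply Pr.ext
  · exact image_eq_pre θ a q.S
  · exact image_eq_pre θ a q.T

/-- every nonempty set of vertices is the image of a simplex -/
theorem exists_simplex {m : ℕ} (T : Finset (Fin (⦋m⦌.len + 1))) (hT : T.Nonempty) :
    ∃ (k : ℕ) (θ0 : ⦋k⦌ ⟶ ⦋m⦌), Finset.univ.image θ0.toOrderHom = T := by
  have hc : T.card = (T.card - 1) + 1 := by
    have := Finset.card_pos.2 hT
    omega
  refine ⟨T.card - 1, SimplexCategory.mkHom (T.orderEmbOfFin hc).toOrderHom, ?_⟩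
  exact Finset.image_orderEmbOfFin_univ T hc

/-- every pair is the image of a pair with full second member -/
theorem exists_push {m : ℕ} (p : Pr ⦋m⦌) :
    ∃ (k : ℕ) (θ0 : ⦋k⦌ ⟶ ⦋m⦌) (q : Pr ⦋k⦌), Pr.push θ0 q = p ∧ q.T = Finset.univ := by
  obtain ⟨k, θ0, h0⟩ := exists_simplex p.T (p.ne.mono p.h)
  have hS : (Finset.univ.filter (fun i => θ0.toOrderHom i ∈ p.S)).image θ0.toOrderHom = p.S := by
    ext j
    rw [Finset.mem_image]
    constructor
    · rintro ⟨i, hi, rfl⟩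
      exact (Finset.mem_filter.1 hi).2
    · intro hj
      have : j ∈ Finset.univ.image θ0.toOrderHom := h0 ▸ p.h hj
      obtain ⟨i, _, hi⟩ := Finset.mem_image.1 this
      exact ⟨i, Finset.mem_filter.2 ⟨Finset.mem_univ _, hi ▸ hj⟩, hi⟩
  have hne : (Finset.univ.filter (fun i => θ0.toOrderHom i ∈ p.S)).Nonempty := by
    have := p.ne
    rw [← hS] at this
    exact Finset.image_nonempty.1 this
  refine ⟨k, θ0, ⟨_, Finset.univ, hne, Finset.subset_univ _⟩, ?_, rfl⟩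
  apply Pr.ext
  · exact hS
  · exact h0

end pre

section glue

variable {D : Type u} [SmallCategory D] (Bp : Set D)

theorem pt_ext_arrow {A : FormalCoproduct.{u} D} {V : D} (μ μ' : pobj V ⟶ A)
    (h1 : μ.f PUnit.unit = μ'.f PUnit.unit)
    (h2 : Arrow.mk (μ.φ PUnit.unit) = Arrow.mk (μ'.φ PUnit.unit)) : μ = μ' := by
  apply hom_ext_arrow
  · funext _
    exact h1
  · intro _
    exact h2

theorem mk_comp_congr {W U Y Y' : D} (b : W ⟶ U) (x : U ⟶ Y) (x' : U ⟶ Y')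
    (h : Arrow.mk x = Arrow.mk x') : Arrow.mk (b ≫ x) = Arrow.mk (b ≫ x') := by
  have e : Y = Y' := congrArg Comma.right h
  subst e
  rw [(Arrow.mk_inj _ _).1 h]

theorem thr_congr {Δ : SimplexCategory} (w : Sx Bp Δ) {U : D} (c : U ⟶ top Bp w)
    (S S' : Finset (Fin (Δ.len + 1))) (hS : S.Nonempty) (hS' : S'.Nonempty) (e : S = S') :
    Arrow.mk (c ≫ mp w (Pr.toTop S hS)) = Arrow.mk (c ≫ mp w (Pr.toTop S' hS')) := by
  subst e
  rfl

variable {Bp} {n : ℕ} {U : D} (g : Fin (n + 2) → (pobj U ⟶ (K Bp) _⦋n⦌))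

/-- the faces of the boundary -/
abbrev sg (a : Fin (n + 2)) : Sx Bp ⦋n⦌ := (g a).f PUnit.unit

/-- the maps to the faces of the boundary -/
abbrev cg (a : Fin (n + 2)) : U ⟶ top Bp (sg g a) := (g a).φ PUnit.unit

variable (hg : SC (K Bp) n Set.univ g)

include hg in
theorem sc_index {Δ : SimplexCategory} (a a' : Fin (n + 2)) (θ θ' : Δ ⟶ ⦋n⦌)
    (e : θ ≫ SimplexCategory.δ a = θ' ≫ SimplexCategory.δ a') :
    pull θ (sg g a) = pull θ' (sg g a') :=
  congrArg (fun μ : pobj U ⟶ (K Bp).obj (op Δ) => μ.f PUnit.unit)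
    (hg a a' (Set.mem_univ _) (Set.mem_univ _) Δ θ θ' e)

include hg in
theorem sc_arrow {Δ : SimplexCategory} (a a' : Fin (n + 2)) (θ θ' : Δ ⟶ ⦋n⦌)
    (e : θ ≫ SimplexCategory.δ a = θ' ≫ SimplexCategory.δ a') :
    Arrow.mk (cg g a ≫ mp (sg g a) (imTop θ)) = Arrow.mk (cg g a' ≫ mp (sg g a') (imTop θ')) :=
  congrArg (fun μ : pobj U ⟶ (K Bp).obj (op Δ) => Arrow.mk (μ.φ PUnit.unit))
    (hg a a' (Set.mem_univ _) (Set.mem_univ _) Δ θ θ' e)

theorem miss_of_not_mem {k : ℕ} (θ0 : ⦋k⦌ ⟶ ⦋n + 1⦌) (a : Fin (n + 2))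
    (ha : a ∉ Finset.univ.image θ0.toOrderHom) : ∀ x, θ0.toOrderHom x ≠ a := by
  intro x hx
  exact ha (Finset.mem_image.2 ⟨x, Finset.mem_univ _, hx⟩)

include hg in
/-- well-definedness on the faces -/
theorem W1 (p : Pr ⦋n + 1⦌) (a a' : Fin (n + 2)) (ha : a ∉ p.T) (ha' : a' ∉ p.T) :
    (sg g a).1 (prePr a p ha) = (sg g a').1 (prePr a' p ha') := by
  obtain ⟨k, θ0, q, rfl, hq⟩ := exists_push p
  have hT : (Pr.push θ0 q).T = Finset.univ.image θ0.toOrderHom := by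
    show q.T.image θ0.toOrderHom = _
    rw [hq]
  obtain ⟨θ, hθ⟩ := eq_comp_δ_of_not_surjective' θ0 a (miss_of_not_mem θ0 a (hT ▸ ha))
  obtain ⟨θ', hθ'⟩ := eq_comp_δ_of_not_surjective' θ0 a' (miss_of_not_mem θ0 a' (hT ▸ ha'))
  have h1 := sc_index g hg a a' θ θ' (hθ.symm.trans hθ')
  have h2 : (pull θ (sg g a)).1 q = (pull θ' (sg g a')).1 q := by rw [h1]
  have h3 : (sg g a).1 (Pr.push θ q) = (sg g a').1 (Pr.push θ' q) := h2
  rw [push_eq_prePr θ a θ0 hθ q ha, push_eq_prePr θ' a' θ0 hθ' q ha'] at h3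
  exact h3

include hg in
/-- well-definedness of the maps from the top -/
theorem W2 (S : Finset (Fin (⦋n + 1⦌.len + 1))) (hS : S.Nonempty) (a a' : Fin (n + 2))
    (ha : a ∉ S) (ha' : a' ∉ S) :
    Arrow.mk (cg g a ≫ mp (sg g a) (Pr.toTop (pre n a S) (pre_nonempty a ha hS))) =
      Arrow.mk (cg g a' ≫ mp (sg g a') (Pr.toTop (pre n a' S) (pre_nonempty a' ha' hS))) := by
  obtain ⟨k, θ0, h0⟩ := exists_simplex S hS
  obtain ⟨θ, hθ⟩ := eq_comp_δ_of_not_surjective' θ0 a (miss_of_not_mem θ0 a (h0 ▸ ha))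
  obtain ⟨θ', hθ'⟩ := eq_comp_δ_of_not_surjective' θ0 a' (miss_of_not_mem θ0 a' (h0 ▸ ha'))
  have h1 := sc_arrow g hg a a' θ θ' (hθ.symm.trans hθ')
  have e1 : Finset.univ.image θ.toOrderHom = pre n a S := by
    rw [image_eq_pre θ a, ← hθ, h0]
  have e2 : Finset.univ.image θ'.toOrderHom = pre n a' S := by
    rw [image_eq_pre θ' a', ← hθ', h0]
  exact ((thr_congr Bp (sg g a) (cg g a) _ _ _ _ e1).symm.trans h1).trans
    (thr_congr Bp (sg g a') (cg g a') _ _ _ _ e2)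

open Classical in
/-- the glued family of arrows -/
noncomputable def wb (p : Pr ⦋n + 1⦌) : Arrow D :=
  if hT : ∃ a : Fin (n + 2), a ∉ p.T then (sg g hT.choose).1 (prePr hT.choose p hT.choose_spec)
  else if hS : ∃ a : Fin (n + 2), a ∉ p.S then
    Arrow.mk (cg g hS.choose ≫ mp (sg g hS.choose)
      (Pr.toTop (pre n hS.choose p.S) (pre_nonempty hS.choose hS.choose_spec p.ne)))
  else Arrow.mk (𝟙 U)

include hg in
theorem wb_A (p : Pr ⦋n + 1⦌) (a : Fin (n + 2)) (ha : a ∉ p.T) :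
    wb g p = (sg g a).1 (prePr a p ha) := by
  have hT : ∃ a : Fin (n + 2), a ∉ p.T := ⟨a, ha⟩
  unfold wb
  rw [dif_pos hT]
  exact W1 g hg p _ _ _ _

include hg in
theorem wb_B (p : Pr ⦋n + 1⦌) (hpT : p.T = Finset.univ) (a : Fin (n + 2)) (ha : a ∉ p.S) :
    wb g p = Arrow.mk (cg g a ≫ mp (sg g a) (Pr.toTop (pre n a p.S) (pre_nonempty a ha p.ne))) := by
  have hT : ¬ ∃ a : Fin (n + 2), a ∉ p.T := by
    rintro ⟨a, ha⟩
    exact ha (hpT ▸ Finset.mem_univ a)
  have hS : ∃ a : Fin (n + 2), a ∉ p.S := ⟨a, ha⟩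
  unfold wb
  rw [dif_neg hT, dif_pos hS]
  exact W2 g hg p.S p.ne hS.choose a hS.choose_spec ha

theorem wb_C (p : Pr ⦋n + 1⦌) (hpS : p.S = Finset.univ) : wb g p = Arrow.mk (𝟙 U) := by
  have hS : ¬ ∃ a : Fin (n + 2), a ∉ p.S := by
    rintro ⟨a, ha⟩
    exact ha (hpS ▸ Finset.mem_univ a)
  have hT : ¬ ∃ a : Fin (n + 2), a ∉ p.T := by
    rintro ⟨a, ha⟩
    exact ha (p.h (hpS ▸ Finset.mem_univ a))
  unfold wb
  rw [dif_neg hT, dif_neg hS]

theorem exists_not_mem (S : Finset (Fin (⦋n + 1⦌.len + 1))) (h : S ≠ Finset.univ) :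
    ∃ a : Fin (n + 2), a ∉ S := by
  by_contra hc
  exact h (Finset.eq_univ_iff_forall.2 (fun a => by_contra (fun ha => hc ⟨a, ha⟩)))

include hg in
theorem wb_isSx (hU : U ∈ Bp) : IsSx Bp ⦋n + 1⦌ (wb g) := by
  refine ⟨?_, ?_, ?_⟩
  · intro S hS
    by_cases h : S = Finset.univ
    · exact ⟨U, wb_C g _ h⟩
    · obtain ⟨a, ha⟩ := exists_not_mem S h
      obtain ⟨A, hA⟩ := (sg g a).2.id_ (pre n a S) (pre_nonempty a ha hS)
      exact ⟨A, (wb_A g hg (Pr.diag S hS) a ha).trans hA⟩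
  · intro S T R hS hST hTR
    by_cases hR : R = Finset.univ
    · by_cases hT : T = Finset.univ
      · -- T = R = univ
        have e1 : wb g ⟨T, R, hS.mono hST, hTR⟩ = Arrow.mk (𝟙 U) := wb_C g _ hT
        by_cases hS' : S = Finset.univ
        · refine ⟨U, U, U, 𝟙 U, 𝟙 U, e1, wb_C g _ hS', ?_⟩
          rw [Category.id_comp]
          exact wb_C g _ hS'
        · obtain ⟨a, ha⟩ := exists_not_mem S hS'
          have e2 := wb_B g hg ⟨S, T, hS, hST⟩ hT a ha
          have e3 := wb_B g hg ⟨S, R, hS, hST.trans hTR⟩ hR a ha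
          refine ⟨U, U, _, 𝟙 U, _, e1, e2, ?_⟩
          rw [Category.id_comp]
          exact e3
      · -- T ≠ univ, R = univ
        obtain ⟨a, ha⟩ := exists_not_mem T hT
        have haS : a ∉ S := fun h => ha (hST h)
        have e1 := wb_B g hg ⟨T, R, hS.mono hST, hTR⟩ hR a ha
        have e2 : wb g ⟨S, T, hS, hST⟩ = _ := (wb_A g hg ⟨S, T, hS, hST⟩ a ha).trans (arrow_eq _ _)
        have e3 := wb_B g hg ⟨S, R, hS, hST.trans hTR⟩ hR a haS
        refine ⟨_, _, _, _, _, e1, e2, ?_⟩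
        rw [e3, Category.assoc]
        congr 2
        exact (mp_comp (sg g a) (pre n a S) (pre n a T) Finset.univ (pre_nonempty a haS hS)
          (pre_mono a hST) (Finset.subset_univ _)).symm
    · -- R ≠ univ
      obtain ⟨a, ha⟩ := exists_not_mem R hR
      have haT : a ∉ T := fun h => ha (hTR h)
      obtain ⟨A, B, C, f, f', h1, h2, h3⟩ := (sg g a).2.comp_ (pre n a S) (pre n a T) (pre n a R)
        (pre_nonempty a (fun h => haT (hST h)) hS) (pre_mono a hST) (pre_mono a hTR)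
      exact ⟨A, B, C, f, f', (wb_A g hg ⟨T, R, hS.mono hST, hTR⟩ a ha).trans h1,
        (wb_A g hg ⟨S, T, hS, hST⟩ a haT).trans h2,
        (wb_A g hg ⟨S, R, hS, hST.trans hTR⟩ a ha).trans h3⟩
  · intro S hS
    by_cases h : S = Finset.univ
    · rw [wb_C g _ h]
      exact hU
    · obtain ⟨a, ha⟩ := exists_not_mem S h
      rw [wb_A g hg (Pr.diag S hS) a ha]
      exact (sg g a).2.mem_ (pre n a S) (pre_nonempty a ha hS)

include hg in
/-- a compatible boundary with apex in `B` can be filled -/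
theorem exists_glue (hU : U ∈ Bp) :
    ∃ ζ : pobj U ⟶ (K Bp) _⦋n + 1⦌, ∀ a : Fin (n + 2), ζ ≫ (K Bp).δ a = g a := by
  let τ : Sx Bp ⦋n + 1⦌ := ⟨wb g, wb_isSx g hg hU⟩
  have etop : top Bp τ = U :=
    congrArg Comma.left (wb_C g (Pr.diag Finset.univ Finset.univ_nonempty) rfl)
  refine ⟨pt ((K Bp) _⦋n + 1⦌) τ (eqToHom etop.symm), fun a => ?_⟩
  apply pt_ext_arrow
  · show pull (SimplexCategory.δ a) τ = sg g a
    apply Subtype.ext
    funext q
    show wb g (Pr.push (SimplexCategory.δ a) q) = (sg g a).1 q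
    have ha : a ∉ (Pr.push (SimplexCategory.δ a) q).T := not_mem_image a q.T
    rw [wb_A g hg _ a ha, prePr_push]
  · show Arrow.mk (eqToHom etop.symm ≫ mp τ (imTop (SimplexCategory.δ a))) = Arrow.mk (cg g a)
    refine (mk_eqToHom_comp _ _).trans ?_
    refine (arrow_eq τ (imTop (SimplexCategory.δ a))).symm.trans ?_
    show wb g (imTop (SimplexCategory.δ a)) = _
    have ha : a ∉ (imTop (SimplexCategory.δ a)).S := not_mem_image a Finset.univ
    refine (wb_B g hg (imTop (SimplexCategory.δ a)) rfl a ha).trans ?_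
    refine (thr_congr Bp (sg g a) (cg g a) _ Finset.univ _ Finset.univ_nonempty (pre_univ a)).trans ?_
    have h1 : mp (sg g a) (Pr.toTop Finset.univ Finset.univ_nonempty) = 𝟙 (top Bp (sg g a)) :=
      mp_id (sg g a) Finset.univ Finset.univ_nonempty
    have h2 : cg g a ≫ mp (sg g a) (Pr.toTop Finset.univ Finset.univ_nonempty) = cg g a :=
      (congrArg (fun t => cg g a ≫ t) h1).trans (Category.comp_id (cg g a))
    exact congrArg Arrow.mk h2

end glue

end Groth.Agent.H6.HyBas
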