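import Mathlib
import Groth.Agent.Lib.Helper6.HyFaceA

/-! Helper6: more on maps into `(cosk_m sk_m K)_{m+1}`: naturality of the faces, strong compatibility, hom_ext. -/

set_option autoImplicit false
open CategoryTheory CategoryTheory.Limits Opposite Simplicial SimplexCategory

universe v u

namespace Groth.Agent.H6.HyCosk

open Groth.Agent.H6.HyFaceA

variable {E : Type u} [Category.{v} E]

/-- strong compatibility tested on small simplices only -/
def SCs (K : SimplicialObject E) {A : E} (m : ℕ) (g : Fin (m + 2) → (A ⟶ K _⦋m⦌)) : Prop :=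
  ∀ (a a' : Fin (m + 2)) (Δ : SimplexCategory), Δ.len ≤ m → ∀ (θ θ' : Δ ⟶ ⦋m⦌),
    θ ≫ SimplexCategory.δ a = θ' ≫ SimplexCategory.δ a' → g a ≫ K.map θ.op = g a' ≫ K.map θ'.op

theorem SC_of_SCs (K : SimplicialObject E) {A : E} (m : ℕ) (g : Fin (m + 2) → (A ⟶ K _⦋m⦌))
    (h : SCs K m g) : SC K m Set.univ g := by
  intro a a' _ _ Δ θ θ' e
  -- factor θ
  let e₁ := factorThruImage θ
  let i₁ := image.ι θ
  have hf : e₁ ≫ i₁ = θ := image.fac θ
  haveI : Epi e₁ := inferInstance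
  haveI : IsSplitEpi e₁ := isSplitEpi_of_epi e₁
  let s := section_ e₁
  have hs : s ≫ e₁ = 𝟙 _ := IsSplitEpi.id e₁
  have hlen : (image θ).len ≤ m := SimplexCategory.len_le_of_mono i₁
  have t1 : (e₁ ≫ i₁) ≫ SimplexCategory.δ a = θ' ≫ SimplexCategory.δ a' :=
    (congrArg (fun t => t ≫ SimplexCategory.δ a) hf).trans e
  have e2 : i₁ ≫ SimplexCategory.δ a = (s ≫ θ') ≫ SimplexCategory.δ a' :=
    calc i₁ ≫ SimplexCategory.δ a = (s ≫ e₁) ≫ (i₁ ≫ SimplexCategory.δ a) := by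
          rw [hs, Category.id_comp]
      _ = s ≫ ((e₁ ≫ i₁) ≫ SimplexCategory.δ a) := by simp only [Category.assoc]
      _ = s ≫ (θ' ≫ SimplexCategory.δ a') := by rw [t1]
      _ = (s ≫ θ') ≫ SimplexCategory.δ a' := (Category.assoc _ _ _).symm
  have h1 := h a a' (image θ) hlen i₁ (s ≫ θ') e2
  have e3 : e₁ ≫ s ≫ θ' = θ' := by
    apply (cancel_mono (SimplexCategory.δ a')).1
    calc (e₁ ≫ s ≫ θ') ≫ SimplexCategory.δ a' = e₁ ≫ ((s ≫ θ') ≫ SimplexCategory.δ a') := by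
          simp only [Category.assoc]
      _ = e₁ ≫ (i₁ ≫ SimplexCategory.δ a) := by rw [e2]
      _ = (e₁ ≫ i₁) ≫ SimplexCategory.δ a := (Category.assoc _ _ _).symm
      _ = θ' ≫ SimplexCategory.δ a' := t1
  calc g a ≫ K.map θ.op = g a ≫ K.map (e₁ ≫ i₁).op := by rw [hf]
    _ = (g a ≫ K.map i₁.op) ≫ K.map e₁.op := by
        rw [op_comp, K.map_comp, Category.assoc]
    _ = (g a' ≫ K.map (s ≫ θ').op) ≫ K.map e₁.op := by rw [h1]
    _ = g a' ≫ K.map (e₁ ≫ s ≫ θ').op := by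
        rw [Category.assoc, ← K.map_comp, ← op_comp]
    _ = g a' ≫ K.map θ'.op := by rw [e3]

variable [HasFiniteLimits E]
  [∀ (n : ℕ) (F : (SimplexCategory.Truncated n)ᵒᵖ ⥤ E),
    (SimplexCategory.Truncated.inclusion n).op.HasRightKanExtension F]

variable (K : SimplicialObject E)

/-- the counit at a small simplex -/
noncomputable def epsAt (m : ℕ) (Δ : SimplexCategory) (hΔ : Δ.len ≤ m) :
    ((SimplicialObject.cosk m).obj K).obj (op Δ) ⟶ K.obj (op Δ) :=
  ((SimplicialObject.coskAdj m).counit.app ((SimplicialObject.truncation m).obj K)).app (op ⟨Δ, hΔ⟩)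

theorem epsAt_nat (m : ℕ) {Δ Δ' : SimplexCategory} (hΔ : Δ.len ≤ m) (hΔ' : Δ'.len ≤ m)
    (θ : Δ ⟶ Δ') :
    ((SimplicialObject.cosk m).obj K).map θ.op ≫ epsAt K m Δ hΔ =
      epsAt K m Δ' hΔ' ≫ K.map θ.op := by
  let θ' : (⟨Δ, hΔ⟩ : SimplexCategory.Truncated m) ⟶ ⟨Δ', hΔ'⟩ := ObjectProperty.homMk θ
  exact ((SimplicialObject.coskAdj m).counit.app ((SimplicialObject.truncation m).obj K)).naturality θ'.op

theorem P_map (m : ℕ) (a : Fin (m + 2)) (Δ : SimplexCategory) (hΔ : Δ.len ≤ m) (θ : Δ ⟶ ⦋m⦌) :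
    P K m a ≫ K.map θ.op =
      ((SimplicialObject.cosk m).obj K).map (θ ≫ SimplexCategory.δ a).op ≫ epsAt K m Δ hΔ := by
  unfold P
  have h := epsAt_nat K m hΔ (le_refl m) θ
  rw [Category.assoc]
  show _ ≫ epsAt K m ⦋m⦌ (le_refl m) ≫ _ = _
  rw [← h, ← Category.assoc]
  congr 1
  rw [op_comp, Functor.map_comp]
  rfl

theorem P_SCs (m : ℕ) {A : E} (β : A ⟶ ((SimplicialObject.cosk m).obj K) _⦋m + 1⦌) :
    SCs K m (fun a => β ≫ P K m a) := by
  intro a a' Δ hΔ θ θ' e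
  show (β ≫ P K m a) ≫ K.map θ.op = (β ≫ P K m a') ≫ K.map θ'.op
  rw [Category.assoc, Category.assoc, P_map K m a Δ hΔ θ, P_map K m a' Δ hΔ θ', e]

theorem P_SC (m : ℕ) {A : E} (β : A ⟶ ((SimplicialObject.cosk m).obj K) _⦋m + 1⦌) :
    SC K m Set.univ (fun a => β ≫ P K m a) :=
  SC_of_SCs K m _ (P_SCs K m β)

theorem cosk_hom_ext (m : ℕ) {A : E} (β β' : A ⟶ ((SimplicialObject.cosk m).obj K) _⦋m + 1⦌)
    (h : ∀ a : Fin (m + 2), β ≫ P K m a = β' ≫ P K m a) : β = β' := by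
  have hV := Functor.isPointwiseRightKanExtensionOfIsRightKanExtension ((SimplicialObject.cosk m).obj K)
    ((SimplicialObject.coskAdj m).counit.app ((SimplicialObject.truncation m).obj K)) (op ⦋m + 1⦌)
  apply hV.hom_ext
  intro s
  obtain ⟨a, ψ, hψ⟩ := eq_comp_δ_of_not_surjective s.hom.unop (ns s)
  have key : ((SimplicialObject.cosk m).obj K).map s.hom ≫
      epsAt K m s.right.unop.obj s.right.unop.property = P K m a ≫ K.map ψ.op := by
    rw [P_map K m a s.right.unop.obj s.right.unop.property ψ, ← hψ]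
    rfl
  change β ≫ (((SimplicialObject.cosk m).obj K).map s.hom ≫
      epsAt K m s.right.unop.obj s.right.unop.property) =
    β' ≫ (((SimplicialObject.cosk m).obj K).map s.hom ≫
      epsAt K m s.right.unop.obj s.right.unop.property)
  rw [key, ← Category.assoc, ← Category.assoc, h a]

section nat

variable {K} {L : SimplicialObject E} (b : K ⟶ L)

theorem epsAt_natTrans (m : ℕ) (Δ : SimplexCategory) (hΔ : Δ.len ≤ m) :
    ((SimplicialObject.cosk m).map b).app (op Δ) ≫ epsAt L m Δ hΔ =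
      epsAt K m Δ hΔ ≫ b.app (op Δ) := by
  have h := (SimplicialObject.coskAdj (C := E) m).counit.naturality
    ((SimplicialObject.truncation m).map b)
  exact congrArg (fun t => NatTrans.app t (op (⟨Δ, hΔ⟩ : SimplexCategory.Truncated m))) h

theorem P_nat (m : ℕ) (a : Fin (m + 2)) :
    ((SimplicialObject.cosk m).map b).app (op ⦋m + 1⦌) ≫ P L m a = P K m a ≫ b.app (op ⦋m⦌) := by
  unfold P
  have h1 := ((SimplicialObject.cosk m).map b).naturality (SimplexCategory.δ a).op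
  have h2 := epsAt_natTrans b m ⦋m⦌ (le_refl m)
  rw [← Category.assoc]
  erw [← h1]
  rw [Category.assoc, Category.assoc]
  congr 1

end nat

end Groth.Agent.H6.HyCosk
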