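import Mathlib
import Groth.Prelude.Def_Hyper
import Groth.Agent.Lib.Helper9.Misc.SR1

/-! Helper6: pullbacks of hypercoverings (S6535) and generalities on SR coverings. -/

open CategoryTheory CategoryTheory.Limits Opposite

universe u

namespace Groth.Agent.H6.HyPb

section general

variable {C : Type u} [SmallCategory C] (J : GrothendieckTopology C)

/-- Base change of an SR covering along an arbitrary pullback square. -/
theorem bc_covering [HasPullbacks C] {K L L' P : FormalCoproduct.{u} C} {fst : P ⟶ L'} {snd : P ⟶ K}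
    {g : L' ⟶ L} {f : K ⟶ L} (h : IsPullback fst snd g f) (hf : Hyper.IsSRCovering J f) :
    Hyper.IsSRCovering J fst := by
  have h1 := ((Groth.Agent.H9.SR1.main J).2 f g hf).2
  have h2 : fst = h.isoPullback.hom ≫ pullback.fst g f := h.isoPullback_hom_fst.symm
  rw [h2]
  exact Groth.Agent.H9.SR1.comp_covering J _ _ (Groth.Agent.H9.SR1.iso_covering J _) h1

/-- Base change of an SR covering along an arbitrary pullback square (other orientation). -/
theorem bc_covering' [HasPullbacks C] {K L L' P : FormalCoproduct.{u} C} {fst : P ⟶ K} {snd : P ⟶ L'}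
    {f : K ⟶ L} {g : L' ⟶ L} (h : IsPullback fst snd f g) (hf : Hyper.IsSRCovering J f) :
    Hyper.IsSRCovering J snd :=
  bc_covering J h.flip hf

end general

section overX

variable {C : Type u} [SmallCategory C] (J : GrothendieckTopology C) (X : C)

/-- If `K` covers `X` and `P ⟶ K` is an SR covering over `X` then `P` covers `X`. -/
theorem covers_of_covering {P K : FormalCoproduct.{u} (Over X)} (f : P ⟶ K)
    (hf : Hyper.IsSRCovering (J.over X) f)
    (hK : Sieve.ofArrows (fun i => (K.obj i).left) (fun i => (K.obj i).hom) ∈ J X) :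
    Sieve.ofArrows (fun i => (P.obj i).left) (fun i => (P.obj i).hom) ∈ J X := by
  refine J.transitive hK _ ?_
  intro Y g hg
  rw [Groth.Agent.H9.SR1.mem_ofArrows_iff] at hg
  obtain ⟨i, g, rfl⟩ := hg
  rw [Sieve.pullback_comp]
  apply J.pullback_stable
  have h1 := (GrothendieckTopology.mem_over_iff (J := J) _).1 (hf i)
  refine J.superset_covering ?_ h1
  intro W h hh
  rw [Sieve.overEquiv_iff, Groth.Agent.H9.SR1.mem_ofArrows_iff] at hh
  obtain ⟨⟨k, hk⟩, a, ha⟩ := hh
  rw [Sieve.pullback_apply, Groth.Agent.H9.SR1.mem_ofArrows_iff]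
  refine ⟨k, a.left, ?_⟩
  have := Over.w a
  simpa using this.symm

end overX

section main

variable {C : Type u} [SmallCategory C] [HasPullbacks C]
    (J : GrothendieckTopology C) (X : C)
    [∀ (n : ℕ) (F : (SimplexCategory.Truncated n)ᵒᵖ ⥤ Limits.FormalCoproduct.{u} (Over X)),
      (SimplexCategory.Truncated.inclusion n).op.HasRightKanExtension F]

noncomputable abbrev T (n : ℕ) : SimplicialObject (FormalCoproduct.{u} (Over X)) ⥤
    SimplicialObject (FormalCoproduct.{u} (Over X)) :=
  SimplicialObject.truncation n ⋙ SimplicialObject.Truncated.cosk n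

instance (n : ℕ) : PreservesLimitsOfShape WalkingCospan
    (SimplicialObject.Truncated.cosk (C := FormalCoproduct.{u} (Over X)) n) :=
  have := (SimplicialObject.coskAdj (C := FormalCoproduct.{u} (Over X)) n).rightAdjoint_preservesLimits
  inferInstance

theorem isPullback_T {K L M P : SimplicialObject (FormalCoproduct.{u} (Over X))} {a : K ⟶ L} {b : M ⟶ L}
    {p1 : P ⟶ K} {p2 : P ⟶ M} (hP : IsPullback p1 p2 a b) (n : ℕ) (Y : SimplexCategoryᵒᵖ) :
    IsPullback (((T X n).map p1).app Y) (((T X n).map p2).app Y)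
      (((T X n).map a).app Y) (((T X n).map b).app Y) := by
  have : PreservesLimitsOfShape WalkingCospan (SimplicialObject.truncation
      (C := FormalCoproduct.{u} (Over X)) n) := by
    unfold SimplicialObject.truncation
    infer_instance
  exact hP.map (T X n ⋙ (evaluation _ _).obj Y)

theorem isPullback_ev {K L M P : SimplicialObject (FormalCoproduct.{u} (Over X))} {a : K ⟶ L} {b : M ⟶ L}
    {p1 : P ⟶ K} {p2 : P ⟶ M} (hP : IsPullback p1 p2 a b) (Y : SimplexCategoryᵒᵖ) :
    IsPullback (p1.app Y) (p2.app Y) (a.app Y) (b.app Y) :=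
  hP.map ((evaluation _ _).obj Y)

theorem main
    {K L M P : SimplicialObject (FormalCoproduct.{u} (Over X))} (a : K ⟶ L) (b : M ⟶ L)
    (p1 : P ⟶ K) (p2 : P ⟶ M) (hP : IsPullback p1 p2 a b)
    (hK : Hyper.IsHypercovering J X K)
    (h0 : Hyper.IsSRCovering (J.over X) (b.app (op (SimplexCategory.mk 0))))
    (hγ : ∀ (n : ℕ) (Q : FormalCoproduct.{u} (Over X))
      (q1 : Q ⟶ L.obj (op (SimplexCategory.mk (n + 1))))
      (q2 : Q ⟶ ((SimplicialObject.truncation n ⋙ SimplicialObject.Truncated.cosk n).obj M).obj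
        (op (SimplexCategory.mk (n + 1))))
      (γ : M.obj (op (SimplexCategory.mk (n + 1))) ⟶ Q),
      IsPullback q1 q2 (((SimplicialObject.coskAdj n).unit.app L).app (op (SimplexCategory.mk (n + 1))))
        (((SimplicialObject.truncation n ⋙ SimplicialObject.Truncated.cosk n).map b).app
          (op (SimplexCategory.mk (n + 1)))) →
      γ ≫ q1 = b.app (op (SimplexCategory.mk (n + 1))) →
      γ ≫ q2 = ((SimplicialObject.coskAdj n).unit.app M).app (op (SimplexCategory.mk (n + 1))) →
      Hyper.IsSRCovering (J.over X) γ) :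
    Hyper.IsHypercovering J X P := by
  refine ⟨?_, ?_⟩
  · have h := isPullback_ev X hP (op (SimplexCategory.mk 0))
    exact covers_of_covering J X _ (bc_covering' (J.over X) h.flip h0) hK.1
  · intro n
    set Y : SimplexCategoryᵒᵖ := op (SimplexCategory.mk (n + 1)) with hY
    have sq1 := isPullback_ev X hP Y
    have sqT := isPullback_T X hP n Y
    let η := (SimplicialObject.coskAdj (C := FormalCoproduct.{u} (Over X)) n).unit
    have natK : a.app Y ≫ (η.app L).app Y = (η.app K).app Y ≫ ((T X n).map a).app Y :=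
      congrArg (fun t => NatTrans.app t Y) (η.naturality a)
    have natM : b.app Y ≫ (η.app L).app Y = (η.app M).app Y ≫ ((T X n).map b).app Y :=
      congrArg (fun t => NatTrans.app t Y) (η.naturality b)
    have natP1 : p1.app Y ≫ (η.app K).app Y = (η.app P).app Y ≫ ((T X n).map p1).app Y :=
      congrArg (fun t => NatTrans.app t Y) (η.naturality p1)
    have natP2 : p2.app Y ≫ (η.app M).app Y = (η.app P).app Y ≫ ((T X n).map p2).app Y :=
      congrArg (fun t => NatTrans.app t Y) (η.naturality p2)
    -- Q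
    let Q := pullback ((η.app L).app Y) (((T X n).map b).app Y)
    let q1 : Q ⟶ L.obj Y := pullback.fst _ _
    let q2 : Q ⟶ ((T X n).obj M).obj Y := pullback.snd _ _
    have sqQ : IsPullback q1 q2 ((η.app L).app Y) (((T X n).map b).app Y) := IsPullback.of_hasPullback _ _
    let γ : M.obj Y ⟶ Q := pullback.lift (b.app Y) ((η.app M).app Y) natM
    have hγ1 : γ ≫ q1 = b.app Y := pullback.lift_fst _ _ _
    have hγ2 : γ ≫ q2 = (η.app M).app Y := pullback.lift_snd _ _ _
    have covγ : Hyper.IsSRCovering (J.over X) γ := hγ n Q q1 q2 γ sqQ hγ1 hγ2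
    -- R
    let R := pullback (a.app Y) q1
    let r1 : R ⟶ K.obj Y := pullback.fst _ _
    let r2 : R ⟶ Q := pullback.snd _ _
    have sqR : IsPullback r1 r2 (a.app Y) q1 := IsPullback.of_hasPullback _ _
    have hφc : p1.app Y ≫ a.app Y = (p2.app Y ≫ γ) ≫ q1 := by
      rw [Category.assoc, hγ1]; exact sq1.w
    let φ : P.obj Y ⟶ R := pullback.lift (p1.app Y) (p2.app Y ≫ γ) hφc
    have hφ1 : φ ≫ r1 = p1.app Y := pullback.lift_fst _ _ _
    have hφ2 : φ ≫ r2 = p2.app Y ≫ γ := pullback.lift_snd _ _ _
    -- Claim A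
    have sqA : IsPullback φ (p2.app Y) r2 γ := by
      refine IsPullback.of_right ?_ hφ2 sqR
      rw [hφ1, hγ1]; exact sq1
    have covφ : Hyper.IsSRCovering (J.over X) φ := bc_covering' (J.over X) sqA.flip covγ
    -- ψ
    have hψc : (r1 ≫ (η.app K).app Y) ≫ ((T X n).map a).app Y = (r2 ≫ q2) ≫ ((T X n).map b).app Y := by
      rw [Category.assoc, ← natK, ← Category.assoc, sqR.w, Category.assoc, Category.assoc, sqQ.w]
    let ψ : R ⟶ ((T X n).obj P).obj Y := sqT.lift (r1 ≫ (η.app K).app Y) (r2 ≫ q2) hψc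
    have hψ1 : ψ ≫ ((T X n).map p1).app Y = r1 ≫ (η.app K).app Y := sqT.lift_fst _ _ _
    have hψ2 : ψ ≫ ((T X n).map p2).app Y = r2 ≫ q2 := sqT.lift_snd _ _ _
    -- Claim B
    have sqB : IsPullback ψ r1 (((T X n).map p1).app Y) ((η.app K).app Y) := by
      refine IsPullback.of_right ?_ hψ1 sqT.flip
      have h := IsPullback.paste_horiz sqR.flip sqQ.flip
      rw [natK] at h
      rw [hψ2]
      exact h
    have covψ : Hyper.IsSRCovering (J.over X) ψ := bc_covering (J.over X) sqB (hK.2 n)
    have key : (η.app P).app Y = φ ≫ ψ := by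
      apply sqT.hom_ext
      · rw [Category.assoc, hψ1, ← Category.assoc, hφ1, natP1]
      · rw [Category.assoc, hψ2, ← Category.assoc, hφ2, Category.assoc, hγ2, natP2]
    show Hyper.IsSRCovering (J.over X) ((η.app P).app Y)
    rw [key]
    exact Groth.Agent.H9.SR1.comp_covering _ _ _ covφ covψ

end main

end Groth.Agent.H6.HyPb
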