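import Mathlib
import Groth.Prelude.Def_Hyper
import Groth.Agent.Lib.Helper6.HyYo
import Groth.Agent.Lib.Helper6.HyLift
import Groth.Agent.Lib.Helper6.HyH0
import Groth.Agent.Lib.Helper9.Misc.SR1

/-! Helper6: a hypercovering of `X` is a hypercovering of the final object of the topos of `C/X` (S6504). -/

set_option autoImplicit false
open CategoryTheory CategoryTheory.Limits Opposite Simplicial

universe u

namespace Groth.Agent.H6.HySite

open Groth.Agent.H6.HyCoch Groth.Agent.H6.HyLift Groth.Agent.H6.HyYo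

section general

variable {D : Type u} [SmallCategory D] (J' : GrothendieckTopology D)

/-- a point factoring through a component -/
theorem pt_comp_eq {A B : FormalCoproduct.{u} D} (f : A ⟶ B) {U V : D} (ν : pobj U ⟶ B) (h : V ⟶ U)
    (j : A.I) (hj : f.f j = ν.f PUnit.unit) (c : V ⟶ A.obj j)
    (hc : h ≫ ν.φ PUnit.unit = c ≫ f.φ j ≫ eqToHom (by rw [hj])) :
    pt A j c ≫ f = pmap h ≫ ν := by
  refine FormalCoproduct.hom_ext ?_ ?_
  · funext _
    exact hj
  · intro i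
    have hc' : (pmap h ≫ ν).φ i = c ≫ f.φ j ≫ eqToHom (by rw [hj]; rfl) := hc
    rw [hc']
    show (c ≫ f.φ j) ≫ eqToHom _ = c ≫ f.φ j ≫ eqToHom _
    rw [Category.assoc]

/-- SR coverings induce locally surjective maps on coproducts of representables -/
theorem locSurj_of_covering {A B : FormalCoproduct.{u} D} (f : A ⟶ B)
    (hf : Hyper.IsSRCovering J' f) : Presheaf.IsLocallySurjective J' (Fy.map f) := by
  constructor
  intro U s
  obtain ⟨ν, rfl⟩ := sg_surj B s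
  refine J'.superset_covering ?_ (J'.pullback_stable (ν.φ PUnit.unit) (hf (ν.f PUnit.unit)))
  intro V h hh
  rw [Sieve.pullback_apply, Groth.Agent.H9.SR1.mem_ofArrows_iff] at hh
  obtain ⟨⟨j, hj⟩, c, hc⟩ := hh
  refine ⟨sg A (pt A j c), ?_⟩
  rw [sg_map]
  refine Eq.trans ?_ (sg_res h ν).symm
  congr 1
  exact pt_comp_eq f ν h j hj c hc

end general

section overX

variable {C : Type u} [SmallCategory C] [HasPullbacks C] {J : GrothendieckTopology C} {X : C}
  {K : SimplicialObject (FormalCoproduct.{u} (Over X))}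
  [∀ (n : ℕ) (F : (SimplexCategory.Truncated n)ᵒᵖ ⥤ Limits.FormalCoproduct.{u} (Over X)),
      (SimplexCategory.Truncated.inclusion n).op.HasRightKanExtension F]

theorem part1 (hK : Hyper.IsHypercovering J X K) :
    Presheaf.IsLocallySurjective (J.over X)
      (terminal.from (FormalCoproduct.yoneda.obj (K.obj (op (SimplexCategory.mk 0))))) := by
  constructor
  intro U s
  rw [GrothendieckTopology.mem_over_iff]
  refine J.superset_covering ?_ (J.pullback_stable U.hom hK.1)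
  intro W h hh
  rw [Sieve.pullback_apply, Groth.Agent.H9.SR1.mem_ofArrows_iff] at hh
  obtain ⟨i, a, ha⟩ := hh
  rw [Sieve.overEquiv_iff]
  let a' : Over.mk (h ≫ U.hom) ⟶ (K.obj (op (SimplexCategory.mk 0))).obj i := Over.homMk a ha.symm
  exact ⟨sg (K.obj (op (SimplexCategory.mk 0))) (pt _ i a'), terminal_elt_eq _ _⟩

theorem part2 (hK : Hyper.IsHypercovering J X K) :
    Presheaf.IsLocallySurjective (J.over X)
      (prod.lift (FormalCoproduct.yoneda.map (K.δ (1 : Fin 2)))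
        (FormalCoproduct.yoneda.map (K.δ (0 : Fin 2)))) := by
  constructor
  intro U s
  obtain ⟨μ1, h1⟩ := sg_surj (K.obj (op ⦋0⦌)) ((prod.fst :
    Fy.obj (K.obj (op ⦋0⦌)) ⨯ Fy.obj (K.obj (op ⦋0⦌)) ⟶ _).app (op U) s)
  obtain ⟨μ2, h2⟩ := sg_surj (K.obj (op ⦋0⦌)) ((prod.snd :
    Fy.obj (K.obj (op ⦋0⦌)) ⨯ Fy.obj (K.obj (op ⦋0⦌)) ⟶ _).app (op U) s)
  let α : Fin 2 → (pobj U ⟶ K _⦋0⦌) := ![μ1, μ2]
  obtain ⟨β, hβ⟩ := exists_lift (K := K) α
  have hβ1 : β ≫ proj K 1 = μ1 := by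
    rw [hβ 1, Groth.Agent.H6.HyH0.delta_one]; rfl
  have hβ0 : β ≫ proj K 0 = μ2 := by
    rw [hβ 0, Groth.Agent.H6.HyH0.delta_zero]; rfl
  let η1 := ((SimplicialObject.coskAdj 0).unit.app K).app (op ⦋1⦌)
  have hS := (J.over X).pullback_stable (β.φ PUnit.unit) (hK.2 0 (β.f PUnit.unit))
  refine (J.over X).superset_covering ?_ hS
  intro V h hh
  rw [Sieve.pullback_apply, Groth.Agent.H9.SR1.mem_ofArrows_iff] at hh
  obtain ⟨⟨j, hj⟩, c, hc⟩ := hh
  have key : pt (K.obj (op ⦋1⦌)) j c ≫ η1 = pmap h ≫ β := pt_comp_eq η1 β h j hj c hc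
  have e1 : ∀ (μ : pobj U ⟶ K.obj (op ⦋0⦌)) (e : Fin 2), β ≫ proj K e = μ →
      pt (K.obj (op ⦋1⦌)) j c ≫ K.δ e = pmap h ≫ μ := by
    intro μ e hμ
    calc pt (K.obj (op ⦋1⦌)) j c ≫ K.δ e
        = pt (K.obj (op ⦋1⦌)) j c ≫ (η1 ≫ proj K e) := congrArg _ (unit_proj K e).symm
      _ = (pt (K.obj (op ⦋1⦌)) j c ≫ η1) ≫ proj K e := (Category.assoc _ _ _).symm
      _ = (pmap h ≫ β) ≫ proj K e := by rw [key]
      _ = pmap h ≫ (β ≫ proj K e) := Category.assoc _ _ _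
      _ = pmap h ≫ μ := by rw [hμ]
  refine ⟨sg (K.obj (op ⦋1⦌)) (pt (K.obj (op ⦋1⦌)) j c), ?_⟩
  apply prod_ext_elt
  · have n1 := NatTrans.naturality_apply (prod.fst :
      Fy.obj (K.obj (op ⦋0⦌)) ⨯ Fy.obj (K.obj (op ⦋0⦌)) ⟶ _) h.op s
    refine Eq.trans ?_ n1.symm
    rw [← h1, sg_res, ← e1 μ1 1 hβ1, ← sg_map]
    exact types_congr_hom (congrArg (fun t => t.app (op V)) (prod.lift_fst
      (FormalCoproduct.yoneda.map (K.δ (1 : Fin 2))) (FormalCoproduct.yoneda.map (K.δ (0 : Fin 2))))) _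
  · have n1 := NatTrans.naturality_apply (prod.snd :
      Fy.obj (K.obj (op ⦋0⦌)) ⨯ Fy.obj (K.obj (op ⦋0⦌)) ⟶ _) h.op s
    refine Eq.trans ?_ n1.symm
    rw [← h2, sg_res, ← e1 μ2 0 hβ0, ← sg_map]
    exact types_congr_hom (congrArg (fun t => t.app (op V)) (prod.lift_snd
      (FormalCoproduct.yoneda.map (K.δ (1 : Fin 2))) (FormalCoproduct.yoneda.map (K.δ (0 : Fin 2))))) _

theorem main (hK : Hyper.IsHypercovering J X K) : Hyper.IsHypercoveringSite (J.over X) K :=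
  ⟨part1 hK, part2 hK, fun n _ => locSurj_of_covering (J.over X) _ (hK.2 n)⟩

end overX

end Groth.Agent.H6.HySite
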