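import Mathlib
import Groth.Prelude.Def_Hyper
import Groth.Agent.Lib.Helper6.HyFaceA
import Groth.Agent.Lib.Helper6.HySite
import Groth.Agent.Lib.Helper6.HySiteH0
import Groth.Agent.Lib.Helper6.HyPb

/-! Helper6: face maps of a hypercovering are coverings (S894). -/

set_option autoImplicit false
open CategoryTheory CategoryTheory.Limits Opposite Simplicial SimplexCategory

universe u

namespace Groth.Agent.H6.HyFaceB

open Groth.Agent.H6.HyCoch Groth.Agent.H6.HyFaceA Groth.Agent.H6.HyYo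

section sieves

variable {D : Type u} [SmallCategory D] (J' : GrothendieckTopology D)

/-- transitivity of "locally" -/
theorem trans_exists {U : D} {Q : ∀ ⦃V : D⦄, (V ⟶ U) → Prop} {S : Sieve U} (hS : S ∈ J' U)
    (H : ∀ ⦃V : D⦄ (h : V ⟶ U), S h → ∃ S' : Sieve V, S' ∈ J' V ∧
      ∀ ⦃W : D⦄ (h' : W ⟶ V), S' h' → Q (h' ≫ h)) :
    ∃ S'' : Sieve U, S'' ∈ J' U ∧ ∀ ⦃V : D⦄ (h : V ⟶ U), S'' h → Q h := by
  refine ⟨Sieve.bind S (fun V h hh => (H h hh).choose), J'.bind_covering hS
    (fun V h hh => (H h hh).choose_spec.1), ?_⟩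
  rintro V h ⟨W, h', h'', hh'', hh', rfl⟩
  exact (H h'' hh'').choose_spec.2 h' hh'

end sieves

section general

variable {D : Type u} [SmallCategory D] (J' : GrothendieckTopology D)
  (K : SimplicialObject (FormalCoproduct.{u} D))

theorem SC_res {U V : D} (h : V ⟶ U) {m : ℕ} {S : Set (Fin (m + 2))}
    {g : Fin (m + 2) → (pobj U ⟶ K _⦋m⦌)} (hg : SC K m S g) :
    SC K m S (fun a => pmap h ≫ g a) := by
  intro a a' ha ha' Δ θ θ' e
  have := hg a a' ha ha' Δ θ θ' e
  exact (Category.assoc _ _ _).trans ((congrArg (fun t => pmap h ≫ t) this).trans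
    (Category.assoc _ _ _).symm)

/-- the local-filling statement at level `m` for the set of faces `S` -/
def Fill (m : ℕ) (S : Set (Fin (m + 2))) : Prop :=
  ∀ ⦃U : D⦄ (g : Fin (m + 2) → (pobj U ⟶ K _⦋m⦌)), SC K m S g →
    ∃ Sv : Sieve U, Sv ∈ J' U ∧ ∀ ⦃V : D⦄ (h : V ⟶ U), Sv h →
      ∃ γ : pobj V ⟶ K _⦋m + 1⦌, ∀ a ∈ S, γ ≫ K.δ a = pmap h ≫ g a

/-- the local-extension statement at level `m` -/
def Ext (m : ℕ) : Prop :=
  ∀ (S : Set (Fin (m + 2))), S.Nonempty → ∀ k : Fin (m + 2), k ∉ S →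
    ∀ ⦃U : D⦄ (g : Fin (m + 2) → (pobj U ⟶ K _⦋m⦌)), SC K m S g →
      ∃ Sv : Sieve U, Sv ∈ J' U ∧ ∀ ⦃V : D⦄ (h : V ⟶ U), Sv h →
        ∃ g' : Fin (m + 2) → (pobj V ⟶ K _⦋m⦌), SC K m (insert k S) g' ∧
          ∀ a ∈ S, g' a = pmap h ≫ g a

/-- a map to a face misses the corresponding vertex -/
theorem miss {m : ℕ} (k a : Fin (m + 2)) (l : Fin (m + 1)) (ha : a = k.succAbove l)
    {Δ : SimplexCategory} (θ θ' : Δ ⟶ ⦋m⦌)
    (h : θ ≫ SimplexCategory.δ k = θ' ≫ SimplexCategory.δ a) (x : Fin (Δ.len + 1)) :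
    θ.toOrderHom x ≠ l := by
  intro hx
  have h1 := congrArg (fun t => (SimplexCategory.Hom.toOrderHom t) x) h
  have h2 : k.succAbove (θ.toOrderHom x) = a.succAbove (θ'.toOrderHom x) := h1
  rw [hx, ← ha] at h2
  exact Fin.succAbove_ne a _ h2.symm

variable (hpt : ∀ U : D, Groth.Agent.H6.HySiteH0.Sa K U ∈ J' U)

include hpt in
theorem ext_zero : Ext J' K 0 := by
  intro S _ k hk U g hg
  refine ⟨_, hpt U, ?_⟩
  rintro V h ⟨gk⟩
  refine ⟨Function.update (fun a => pmap h ≫ g a) k gk, ?_, ?_⟩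
  · intro a a' ha ha' Δ θ θ' e
    by_cases hak : a = k
    · by_cases ha'k : a' = k
      · rw [hak, ha'k] at e
        rw [hak, ha'k]
        have : θ = θ' := (cancel_mono (SimplexCategory.δ k)).1 e
        rw [this]
      · exfalso
        rw [hak] at e
        obtain ⟨l, hl⟩ := Fin.exists_succAbove_eq ha'k
        exact miss k a' l hl.symm θ θ' e 0 (@Subsingleton.elim (Fin 1) _ _ _)
    · by_cases ha'k : a' = k
      · exfalso
        rw [ha'k] at e
        obtain ⟨l, hl⟩ := Fin.exists_succAbove_eq hak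
        exact miss k a l hl.symm θ' θ e.symm 0 (@Subsingleton.elim (Fin 1) _ _ _)
      · rw [Function.update_of_ne hak, Function.update_of_ne ha'k]
        have haS : a ∈ S := by
          rcases ha with h | h
          · exact absurd h hak
          · exact h
        have ha'S : a' ∈ S := by
          rcases ha' with h | h
          · exact absurd h ha'k
          · exact h
        exact SC_res K h hg a a' haS ha'S Δ θ θ' e
  · intro a ha
    have : a ≠ k := fun e => hk (e ▸ ha)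
    rw [Function.update_of_ne this]

theorem comp_map {A : FormalCoproduct.{u} D} {n : ℕ} (x : A ⟶ K _⦋n + 1⦌) (i : Fin (n + 2))
    {Δ : SimplexCategory} (θ : Δ ⟶ ⦋n⦌) :
    (x ≫ K.δ i) ≫ K.map θ.op = x ≫ K.map (θ ≫ SimplexCategory.δ i).op := by
  rw [Category.assoc]
  congr 1
  rw [op_comp, K.map_comp]
  rfl

theorem case_k {m' : ℕ} (k : Fin (m' + 3)) (l : Fin (m' + 2)) {U V : D} (h : V ⟶ U)
    (ga : pobj U ⟶ K _⦋m' + 1⦌) (gk : pobj V ⟶ K _⦋m' + 1⦌)
    (hgk : gk ≫ K.δ l = pmap h ≫ (ga ≫ K.δ (l.predAbove k)))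
    {Δ : SimplexCategory} (θ θ' : Δ ⟶ ⦋m' + 1⦌)
    (e : θ ≫ SimplexCategory.δ k = θ' ≫ SimplexCategory.δ (k.succAbove l)) :
    gk ≫ K.map θ.op = (pmap h ≫ ga) ≫ K.map θ'.op := by
  obtain ⟨θ'', hθ''⟩ := eq_comp_δ_of_not_surjective' θ l (miss k (k.succAbove l) l rfl θ θ' e)
  have e2 : (θ'' ≫ SimplexCategory.δ (l.predAbove k)) ≫ SimplexCategory.δ (k.succAbove l) =
      θ' ≫ SimplexCategory.δ (k.succAbove l) := by
    rw [Category.assoc, ← δ_swap, ← Category.assoc, ← hθ'']
    exact e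
  have e3 : θ' = θ'' ≫ SimplexCategory.δ (l.predAbove k) :=
    ((cancel_mono (SimplexCategory.δ (k.succAbove l))).1 e2).symm
  rw [hθ'', e3, ← comp_map K gk l θ'', hgk]
  have e4 : (pmap h ≫ ga ≫ K.δ (l.predAbove k)) ≫ K.map θ''.op =
      pmap h ≫ ((ga ≫ K.δ (l.predAbove k)) ≫ K.map θ''.op) := Category.assoc _ _ _
  rw [e4, comp_map K ga (l.predAbove k) θ'']
  exact (Category.assoc _ _ _).symm

theorem ext_succ (m' : ℕ) (hF : ∀ S' : Set (Fin (m' + 2)), S'.Nonempty → Fill J' K m' S') :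
    Ext J' K (m' + 1) := by
  intro S hne k hk U g hg
  let y : Fin (m' + 2) → (pobj U ⟶ K _⦋m'⦌) := fun l => g (k.succAbove l) ≫ K.δ (l.predAbove k)
  let S' : Set (Fin (m' + 2)) := {l | k.succAbove l ∈ S}
  have hS'ne : S'.Nonempty := by
    obtain ⟨a, ha⟩ := hne
    have hak : a ≠ k := fun e => hk (e ▸ ha)
    obtain ⟨l, hl⟩ := Fin.exists_succAbove_eq hak
    refine ⟨l, ?_⟩
    show k.succAbove l ∈ S
    rw [hl]
    exact ha
  have hy : SC K m' S' y := by
    intro l l2 hl hl2 Δ θ θ' e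
    have e1 : (θ ≫ SimplexCategory.δ (l.predAbove k)) ≫ SimplexCategory.δ (k.succAbove l) =
        (θ' ≫ SimplexCategory.δ (l2.predAbove k)) ≫ SimplexCategory.δ (k.succAbove l2) := by
      rw [Category.assoc, Category.assoc, ← δ_swap, ← δ_swap, ← Category.assoc, ← Category.assoc, e]
    have h1 := hg _ _ hl hl2 Δ _ _ e1
    show (g (k.succAbove l) ≫ K.δ (l.predAbove k)) ≫ K.map θ.op =
      (g (k.succAbove l2) ≫ K.δ (l2.predAbove k)) ≫ K.map θ'.op
    rw [comp_map, comp_map]
    exact h1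
  obtain ⟨Sv, hSv, hfill⟩ := hF S' hS'ne y hy
  refine ⟨Sv, hSv, ?_⟩
  intro V h hh
  obtain ⟨gk, hgk⟩ := hfill h hh
  refine ⟨Function.update (fun a => pmap h ≫ g a) k gk, ?_, ?_⟩
  · intro a a' ha ha' Δ θ θ' e
    by_cases hak : a = k
    · by_cases ha'k : a' = k
      · rw [hak, ha'k] at e
        rw [hak, ha'k]
        have : θ = θ' := (cancel_mono (SimplexCategory.δ k)).1 e
        rw [this]
      · rw [hak] at e
        rw [hak, Function.update_self, Function.update_of_ne ha'k]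
        obtain ⟨l, hl⟩ := Fin.exists_succAbove_eq ha'k
        have ha'S : a' ∈ S := by
          rcases ha' with h | h
          · exact absurd h ha'k
          · exact h
        subst hl
        exact case_k K k l h (g (k.succAbove l)) gk (hgk l ha'S) θ θ' e
    · by_cases ha'k : a' = k
      · rw [ha'k] at e
        rw [ha'k, Function.update_self, Function.update_of_ne hak]
        obtain ⟨l, hl⟩ := Fin.exists_succAbove_eq hak
        have haS : a ∈ S := by
          rcases ha with h | h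
          · exact absurd h hak
          · exact h
        subst hl
        exact (case_k K k l h (g (k.succAbove l)) gk (hgk l haS) θ' θ e.symm).symm
      · rw [Function.update_of_ne hak, Function.update_of_ne ha'k]
        have haS : a ∈ S := by
          rcases ha with h | h
          · exact absurd h hak
          · exact h
        have ha'S : a' ∈ S := by
          rcases ha' with h | h
          · exact absurd h ha'k
          · exact h
        exact SC_res K h hg a a' haS ha'S Δ θ θ' e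
  · intro a ha
    have : a ≠ k := fun e => hk (e ▸ ha)
    rw [Function.update_of_ne this]

end general

section general1

variable {D : Type u} [SmallCategory D] (J' : GrothendieckTopology D)
  (K : SimplicialObject (FormalCoproduct.{u} D)) [HasFiniteLimits (FormalCoproduct.{u} D)]
  [∀ (n : ℕ) (F : (SimplexCategory.Truncated n)ᵒᵖ ⥤ FormalCoproduct.{u} D),
    (SimplexCategory.Truncated.inclusion n).op.HasRightKanExtension F]

variable (hcov : ∀ m : ℕ, Hyper.IsSRCovering J'
  (((SimplicialObject.coskAdj m).unit.app K).app (op ⦋m + 1⦌)))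

include hcov in
theorem fill_full (m : ℕ) : Fill J' K m Set.univ := by
  intro U g hg
  obtain ⟨β, hβ⟩ := exists_lift g hg
  let η := ((SimplicialObject.coskAdj m).unit.app K).app (op ⦋m + 1⦌)
  refine ⟨_, J'.pullback_stable (β.φ PUnit.unit) (hcov m (β.f PUnit.unit)), ?_⟩
  intro V h hh
  rw [Sieve.pullback_apply, Groth.Agent.H9.SR1.mem_ofArrows_iff] at hh
  obtain ⟨⟨j, hj⟩, c, hc⟩ := hh
  have key : pt (K.obj (op ⦋m + 1⦌)) j c ≫ η = pmap h ≫ β :=
    Groth.Agent.H6.HySite.pt_comp_eq η β h j hj c hc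
  refine ⟨pt (K.obj (op ⦋m + 1⦌)) j c, fun a _ => ?_⟩
  calc pt (K.obj (op ⦋m + 1⦌)) j c ≫ K.δ a
      = pt (K.obj (op ⦋m + 1⦌)) j c ≫ (η ≫ P K m a) := congrArg _ (unit_P K m a).symm
    _ = (pt (K.obj (op ⦋m + 1⦌)) j c ≫ η) ≫ P K m a := (Category.assoc _ _ _).symm
    _ = (pmap h ≫ β) ≫ P K m a := by rw [key]
    _ = pmap h ≫ (β ≫ P K m a) := Category.assoc _ _ _
    _ = pmap h ≫ g a := by rw [hβ a]

include hcov in
theorem fill_of_ext (m : ℕ) (hE : Ext J' K m) :
    ∀ (n : ℕ) (S : Set (Fin (m + 2))), S.Nonempty → (Sᶜ).ncard = n → Fill J' K m S := by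
  intro n
  induction n with
  | zero =>
    intro S _ hS
    have : Sᶜ = ∅ := (Set.ncard_eq_zero (Set.toFinite _)).1 hS
    have hS' : S = Set.univ := Set.compl_empty_iff.mp this
    rw [hS']
    exact fill_full J' K hcov m
  | succ n ih =>
    intro S hne hS U g hg
    have hne' : (Sᶜ).Nonempty := by
      rw [Set.nonempty_iff_ne_empty]
      intro h0
      rw [h0, Set.ncard_empty] at hS
      omega
    obtain ⟨k, hk⟩ := hne'
    obtain ⟨Sv, hSv, hE'⟩ := hE S hne k hk g hg
    have hcard : ((insert k S)ᶜ).ncard = n := by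
      have e : (insert k S)ᶜ = Sᶜ \ {k} := by
        ext x
        simp only [Set.mem_compl_iff, Set.mem_insert_iff, Set.mem_diff, Set.mem_singleton_iff]
        tauto
      rw [e, Set.ncard_diff_singleton_of_mem hk, hS]
      rfl
    refine trans_exists J' hSv ?_
    intro V h hh
    obtain ⟨g', hg', hgg⟩ := hE' h hh
    obtain ⟨Sv', hSv', hF⟩ := ih (insert k S) (Set.insert_nonempty _ _) hcard g' hg'
    refine ⟨Sv', hSv', ?_⟩
    intro W h' hh'
    obtain ⟨γ, hγ⟩ := hF h' hh'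
    refine ⟨γ, fun a ha => ?_⟩
    rw [hγ a (Set.mem_insert_of_mem _ ha), hgg a ha, pmap_comp_comp]

variable (hpt : ∀ U : D, Groth.Agent.H6.HySiteH0.Sa K U ∈ J' U)

include hcov hpt in
theorem fill_all (m : ℕ) : ∀ (S : Set (Fin (m + 2))), S.Nonempty → Fill J' K m S := by
  induction m with
  | zero => exact fun S hne => fill_of_ext J' K hcov 0 (ext_zero J' K hpt) _ S hne rfl
  | succ m ih =>
    exact fun S hne => fill_of_ext J' K hcov (m + 1) (ext_succ J' K m ih) _ S hne rfl

include hcov hpt in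
theorem face_covering (m : ℕ) (i : Fin (m + 2)) : Hyper.IsSRCovering J' (K.δ i) := by
  intro j
  let U : D := (K _⦋m⦌).obj j
  let g : Fin (m + 2) → (pobj U ⟶ K _⦋m⦌) := fun _ => pt (K _⦋m⦌) j (𝟙 U)
  have hg : SC K m {i} g := by
    intro a a' ha ha' Δ θ θ' e
    rw [Set.mem_singleton_iff] at ha ha'
    rw [ha, ha'] at e
    have : θ = θ' := (cancel_mono (SimplexCategory.δ i)).1 e
    rw [this]
  obtain ⟨Sv, hSv, hfill⟩ := fill_all J' K hcov hpt m {i} (Set.singleton_nonempty i) g hg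
  refine J'.superset_covering ?_ hSv
  intro V h hh
  obtain ⟨γ, hγ⟩ := hfill h hh
  have e := hγ i (Set.mem_singleton i)
  rw [FormalCoproduct.hom_ext_iff] at e
  obtain ⟨e1, e2⟩ := e
  have hj : (K.δ i).f (γ.f PUnit.unit) = j := congrFun e1 PUnit.unit
  rw [Groth.Agent.H9.SR1.mem_ofArrows_iff]
  refine ⟨⟨γ.f PUnit.unit, hj⟩, γ.φ PUnit.unit, ?_⟩
  have e3 := e2 PUnit.unit
  have e4 : (pmap h ≫ g i).φ PUnit.unit = h := Category.comp_id h
  rw [e4] at e3
  rw [← e3]
  exact Category.assoc _ _ _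

end general1

section overX

variable {C : Type u} [SmallCategory C] [HasPullbacks C] {J : GrothendieckTopology C} {X : C}
  {K : SimplicialObject (FormalCoproduct.{u} (Over X))}
  [∀ (n : ℕ) (F : (SimplexCategory.Truncated n)ᵒᵖ ⥤ Limits.FormalCoproduct.{u} (Over X)),
      (SimplexCategory.Truncated.inclusion n).op.HasRightKanExtension F]

theorem hpt_of (hK : Hyper.IsHypercovering J X K) (U : Over X) :
    Groth.Agent.H6.HySiteH0.Sa K U ∈ (J.over X) U := by
  rw [GrothendieckTopology.mem_over_iff]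
  refine J.superset_covering ?_ (J.pullback_stable U.hom hK.1)
  intro W h hh
  rw [Sieve.pullback_apply, Groth.Agent.H9.SR1.mem_ofArrows_iff] at hh
  obtain ⟨i, a, ha⟩ := hh
  rw [Sieve.overEquiv_iff]
  let a' : Over.mk (h ≫ U.hom) ⟶ (K.obj (op (SimplexCategory.mk 0))).obj i := Over.homMk a ha.symm
  exact ⟨pt _ i a'⟩

theorem main (hK : Hyper.IsHypercovering J X K) :
    (∀ n : ℕ, Sieve.ofArrows (fun i => ((K.obj (op (SimplexCategory.mk n))).obj i).left)
      (fun i => ((K.obj (op (SimplexCategory.mk n))).obj i).hom) ∈ J X) ∧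
    ∀ (n : ℕ) (i : Fin (n + 2)), Hyper.IsSRCovering (J.over X) (K.δ i) := by
  have h2 : ∀ (n : ℕ) (i : Fin (n + 2)), Hyper.IsSRCovering (J.over X) (K.δ i) :=
    fun n i => face_covering (J.over X) K hK.2 (hpt_of hK) n i
  refine ⟨?_, h2⟩
  intro n
  induction n with
  | zero => exact hK.1
  | succ n ih =>
    exact Groth.Agent.H6.HyPb.covers_of_covering J X (K.δ (0 : Fin (n + 2))) (h2 n 0) ih

end overX

end Groth.Agent.H6.HyFaceB
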