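import Mathlib

/-! Helper6: the simplicial object `U_n(W) = Hom(Δ[n], W)`, right adjoint to evaluation at `[n]`. -/

set_option autoImplicit false
open CategoryTheory CategoryTheory.Limits Opposite Simplicial SimplexCategory

universe v u

namespace Groth.Agent.H6.HyPath

variable {E : Type u} [Category.{v} E] [HasFiniteProducts E] (n : ℕ)

/-- `U_n(W)_Δ = ∏_{α : [n] → Δ} W` -/
noncomputable def UW (W : E) : SimplicialObject E where
  obj Δ := ∏ᶜ (fun _ : (⦋n⦌ ⟶ Δ.unop) => W)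
  map {Δ Δ'} θ := Pi.lift (fun α' : (⦋n⦌ ⟶ Δ'.unop) => Pi.π (fun _ : (⦋n⦌ ⟶ Δ.unop) => W) (α' ≫ θ.unop))
  map_id Δ := by
    apply Pi.hom_ext
    intro α
    simp
  map_comp θ θ' := by
    apply Pi.hom_ext
    intro α
    simp

/-- the projection to the factor `α` -/
noncomputable def pr (W : E) {Δ : SimplexCategory} (α : ⦋n⦌ ⟶ Δ) : (UW n W).obj (op Δ) ⟶ W :=
  Pi.π (fun _ : (⦋n⦌ ⟶ Δ) => W) α

theorem map_pr (W : E) {Δ Δ' : SimplexCategory} (θ : Δ' ⟶ Δ) (α' : ⦋n⦌ ⟶ Δ') :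
    (UW n W).map θ.op ≫ pr n W α' = pr n W (α' ≫ θ) :=
  Pi.lift_π _ _

theorem UW_hom_ext (W : E) {Δ : SimplexCategory} {A : E} (f g : A ⟶ (UW n W).obj (op Δ))
    (h : ∀ α : ⦋n⦌ ⟶ Δ, f ≫ pr n W α = g ≫ pr n W α) : f = g :=
  Pi.hom_ext _ _ h

/-- the lift of a family -/
noncomputable def lift (W : E) {Δ : SimplexCategory} {A : E} (f : (⦋n⦌ ⟶ Δ) → (A ⟶ W)) :
    A ⟶ (UW n W).obj (op Δ) :=
  Pi.lift f

theorem lift_pr (W : E) {Δ : SimplexCategory} {A : E} (f : (⦋n⦌ ⟶ Δ) → (A ⟶ W)) (α : ⦋n⦌ ⟶ Δ) :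
    lift n W f ≫ pr n W α = f α :=
  Pi.lift_π _ _

/-- functoriality in `W`, levelwise -/
noncomputable def UWmapApp {Z W : E} (u : Z ⟶ W) (Δ : SimplexCategory) :
    (UW n Z).obj (op Δ) ⟶ (UW n W).obj (op Δ) :=
  lift n W (fun α => pr n Z α ≫ u)

theorem UWmapApp_pr {Z W : E} (u : Z ⟶ W) {Δ : SimplexCategory} (α : ⦋n⦌ ⟶ Δ) :
    UWmapApp n u Δ ≫ pr n W α = pr n Z α ≫ u :=
  lift_pr n W _ α

/-- functoriality in `W` -/
noncomputable def UWmap {Z W : E} (u : Z ⟶ W) : UW n Z ⟶ UW n W where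
  app Δ := UWmapApp n u Δ.unop
  naturality Δ Δ' θ := by
    apply UW_hom_ext
    intro α
    have h1 : (UW n Z).map θ = (UW n Z).map θ.unop.op := rfl
    have h2 : (UW n W).map θ = (UW n W).map θ.unop.op := rfl
    rw [Category.assoc, Category.assoc, UWmapApp_pr, h2, map_pr, UWmapApp_pr, h1,
      ← Category.assoc, map_pr]

theorem UWmap_pr {Z W : E} (u : Z ⟶ W) {Δ : SimplexCategory} (α : ⦋n⦌ ⟶ Δ) :
    (UWmap n u).app (op Δ) ≫ pr n W α = pr n Z α ≫ u :=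
  UWmapApp_pr n u α

/-- the unit, levelwise -/
noncomputable def toUWApp (K : SimplicialObject E) (Δ : SimplexCategory) :
    K.obj (op Δ) ⟶ (UW n (K _⦋n⦌)).obj (op Δ) :=
  lift n (K _⦋n⦌) (fun α => K.map α.op)

theorem toUWApp_pr (K : SimplicialObject E) {Δ : SimplexCategory} (α : ⦋n⦌ ⟶ Δ) :
    toUWApp n K Δ ≫ pr n (K _⦋n⦌) α = K.map α.op :=
  lift_pr n _ _ α

/-- the unit `K ⟶ U_n(K_n)` -/
noncomputable def toUW (K : SimplicialObject E) : K ⟶ UW n (K _⦋n⦌) where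
  app Δ := toUWApp n K Δ.unop
  naturality Δ Δ' θ := by
    apply UW_hom_ext
    intro α
    have h2 : (UW n (K _⦋n⦌)).map θ = (UW n (K _⦋n⦌)).map θ.unop.op := rfl
    have h1 : K.map θ = K.map θ.unop.op := rfl
    rw [Category.assoc, Category.assoc, toUWApp_pr, h2, map_pr, toUWApp_pr, h1, ← K.map_comp,
      ← op_comp]

theorem toUW_pr (K : SimplicialObject E) {Δ : SimplexCategory} (α : ⦋n⦌ ⟶ Δ) :
    (toUW n K).app (op Δ) ≫ pr n (K _⦋n⦌) α = K.map α.op :=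
  toUWApp_pr n K α

end Groth.Agent.H6.HyPath
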