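import Mathlib
import Groth.Prelude.Def_Hyper
import Groth.Agent.Lib.Helper6.HyCosk
import Groth.Agent.Lib.Helper6.HyPath
import Groth.Agent.Lib.Helper6.HyFaceB
import Groth.Agent.Lib.Helper6.HyH0
import Groth.Agent.Lib.Helper6.HyPb

/-! Helper6: refining a hypercovering along a covering of its `n`-th term (S3881). -/

set_option autoImplicit false
open CategoryTheory CategoryTheory.Limits Opposite Simplicial SimplexCategory

universe v u

namespace Groth.Agent.H6.HyRefine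

open Groth.Agent.H6.HyCoch Groth.Agent.H6.HyFaceA Groth.Agent.H6.HyYo Groth.Agent.H6.HyCosk
  Groth.Agent.H6.HyPath

section site

variable {D : Type u} [SmallCategory D] (J' : GrothendieckTopology D)

/-- finite intersections of covering sieves are covering -/
theorem iInf_mem {ι : Type*} [Finite ι] {U : D} (S : ι → Sieve U) (hS : ∀ i, S i ∈ J' U) :
    (⨅ i, S i) ∈ J' U := by
  revert S
  refine Finite.induction_empty_option (P := fun ι => ∀ S : ι → Sieve U, (∀ i, S i ∈ J' U) →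
    (⨅ i, S i) ∈ J' U) ?_ ?_ ?_ ι
  · intro α β e h S hS
    have := h (fun a => S (e a)) (fun a => hS _)
    rwa [Equiv.iInf_comp (g := S) e] at this
  · intro S _
    rw [iInf_of_empty]
    exact J'.top_mem U
  · intro α _ h S hS
    rw [iInf_option]
    exact J'.intersection_covering (hS none) (h _ (fun a => hS _))

theorem iInf_apply {ι : Type*} {U V : D} (S : ι → Sieve U) (h : V ⟶ U) :
    (⨅ i, S i) h ↔ ∀ i, S i h := by
  show (sInf (Set.range S)) h ↔ _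
  rw [Sieve.sInf_apply]
  constructor
  · intro hh i
    exact hh (S i) ⟨i, rfl⟩
  · rintro hh _ ⟨i, rfl⟩
    exact hh i

/-- the points criterion for SR coverings -/
theorem covering_of_points {A B : FormalCoproduct.{u} D} (f : A ⟶ B)
    (H : ∀ (U : D) (ν : pobj U ⟶ B), ∃ S : Sieve U, S ∈ J' U ∧ ∀ ⦃V : D⦄ (h : V ⟶ U), S h →
      ∃ ζ : pobj V ⟶ A, ζ ≫ f = pmap h ≫ ν) : Hyper.IsSRCovering J' f := by
  intro j
  obtain ⟨S, hS, hfill⟩ := H (B.obj j) (pt B j (𝟙 _))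
  refine J'.superset_covering ?_ hS
  intro V h hh
  obtain ⟨ζ, hζ⟩ := hfill h hh
  rw [FormalCoproduct.hom_ext_iff] at hζ
  obtain ⟨e1, e2⟩ := hζ
  have hj : f.f (ζ.f PUnit.unit) = j := congrFun e1 PUnit.unit
  rw [Groth.Agent.H9.SR1.mem_ofArrows_iff]
  refine ⟨⟨ζ.f PUnit.unit, hj⟩, ζ.φ PUnit.unit, ?_⟩
  have e3 := e2 PUnit.unit
  have e4 : (pmap h ≫ pt B j (𝟙 (B.obj j))).φ PUnit.unit = h := Category.comp_id h
  rw [e4] at e3
  rw [← e3]
  exact Category.assoc _ _ _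

/-- points lift locally along SR coverings -/
theorem points_of_covering {A B : FormalCoproduct.{u} D} (f : A ⟶ B)
    (hf : Hyper.IsSRCovering J' f) {U : D} (ν : pobj U ⟶ B) :
    ∃ S : Sieve U, S ∈ J' U ∧ ∀ ⦃V : D⦄ (h : V ⟶ U), S h →
      ∃ ζ : pobj V ⟶ A, ζ ≫ f = pmap h ≫ ν := by
  refine ⟨_, J'.pullback_stable (ν.φ PUnit.unit) (hf (ν.f PUnit.unit)), ?_⟩
  intro V h hh
  rw [Sieve.pullback_apply, Groth.Agent.H9.SR1.mem_ofArrows_iff] at hh
  obtain ⟨⟨j, hj⟩, c, hc⟩ := hh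
  exact ⟨pt A j c, Groth.Agent.H6.HySite.pt_comp_eq f ν h j hj c hc⟩

/-- finite families of points lift locally along SR coverings -/
theorem finite_points {ι : Type*} [Finite ι] {A B : FormalCoproduct.{u} D} (f : A ⟶ B)
    (hf : Hyper.IsSRCovering J' f) {U : D} (ν : ι → (pobj U ⟶ B)) :
    ∃ S : Sieve U, S ∈ J' U ∧ ∀ ⦃V : D⦄ (h : V ⟶ U), S h →
      ∃ ζ : ι → (pobj V ⟶ A), ∀ i, ζ i ≫ f = pmap h ≫ ν i := by
  choose S hS hfill using fun i => points_of_covering J' f hf (ν i)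
  refine ⟨⨅ i, S i, iInf_mem J' S hS, ?_⟩
  intro V h hh
  rw [iInf_apply] at hh
  choose ζ hζ using fun i => hfill i h (hh i)
  exact ⟨ζ, hζ⟩

end site

section algebra

variable {E : Type u} [Category.{v} E] [HasFiniteLimits E]
  [∀ (n : ℕ) (F : (SimplexCategory.Truncated n)ᵒᵖ ⥤ E),
    (SimplexCategory.Truncated.inclusion n).op.HasRightKanExtension F]

variable (n : ℕ) {Z W : E} (u : Z ⟶ W)

/-- the component at a non-surjective `α` of a point of the coskeleton of `U_n(Z)` -/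
noncomputable def zns (m : ℕ) {A : E} (y : A ⟶ ((SimplicialObject.cosk m).obj (UW n Z)) _⦋m + 1⦌)
    (α : ⦋n⦌ ⟶ ⦋m + 1⦌) (hα : ¬ Function.Surjective α.toOrderHom) : A ⟶ Z :=
  y ≫ P (UW n Z) m (eq_comp_δ_of_not_surjective α hα).choose ≫
    pr n Z (eq_comp_δ_of_not_surjective α hα).choose_spec.choose

theorem zns_eq (m : ℕ) {A : E} (y : A ⟶ ((SimplicialObject.cosk m).obj (UW n Z)) _⦋m + 1⦌)
    (α : ⦋n⦌ ⟶ ⦋m + 1⦌) (hα : ¬ Function.Surjective α.toOrderHom) (a : Fin (m + 2))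
    (β : ⦋n⦌ ⟶ ⦋m⦌) (h : α = β ≫ SimplexCategory.δ a) :
    zns n m y α hα = y ≫ P (UW n Z) m a ≫ pr n Z β := by
  unfold zns
  set a0 := (eq_comp_δ_of_not_surjective α hα).choose
  set β0 := (eq_comp_δ_of_not_surjective α hα).choose_spec.choose
  have h0 : α = β0 ≫ SimplexCategory.δ a0 :=
    (eq_comp_δ_of_not_surjective α hα).choose_spec.choose_spec
  have hsc := P_SC (UW n Z) m y a0 a (Set.mem_univ _) (Set.mem_univ _) ⦋n⦌ β0 β (h0.symm.trans h)
  have e1 : ∀ (β : ⦋n⦌ ⟶ ⦋m⦌), (UW n Z).map β.op ≫ pr n Z (𝟙 ⦋n⦌) = pr n Z β := by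
    intro β
    rw [map_pr, Category.id_comp]
  calc y ≫ P (UW n Z) m a0 ≫ pr n Z β0
      = ((y ≫ P (UW n Z) m a0) ≫ (UW n Z).map β0.op) ≫ pr n Z (𝟙 ⦋n⦌) := by
        rw [Category.assoc, Category.assoc, e1]
    _ = ((y ≫ P (UW n Z) m a) ≫ (UW n Z).map β.op) ≫ pr n Z (𝟙 ⦋n⦌) := by rw [hsc]
    _ = y ≫ P (UW n Z) m a ≫ pr n Z β := by
        rw [Category.assoc, Category.assoc, e1]

/-- the algebraic core: building a point of `U_n(Z)_{m+1}` from a compatible pair and lifts of the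
surjective components -/
theorem gamma_lift (m : ℕ) {A A' : E} (r : A' ⟶ A) (x : A ⟶ (UW n W) _⦋m + 1⦌)
    (y : A ⟶ ((SimplicialObject.cosk m).obj (UW n Z)) _⦋m + 1⦌)
    (hxy : x ≫ ((SimplicialObject.coskAdj m).unit.app (UW n W)).app (op ⦋m + 1⦌) =
      y ≫ ((SimplicialObject.cosk m).map (UWmap n u)).app (op ⦋m + 1⦌))
    (zs : ∀ α : ⦋n⦌ ⟶ ⦋m + 1⦌, Function.Surjective α.toOrderHom → (A' ⟶ Z))
    (hzs : ∀ (α : ⦋n⦌ ⟶ ⦋m + 1⦌) (hα : Function.Surjective α.toOrderHom),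
      zs α hα ≫ u = r ≫ x ≫ pr n W α) :
    ∃ ζ : A' ⟶ (UW n Z) _⦋m + 1⦌, ζ ≫ (UWmap n u).app (op ⦋m + 1⦌) = r ≫ x ∧
      ζ ≫ ((SimplicialObject.coskAdj m).unit.app (UW n Z)).app (op ⦋m + 1⦌) = r ≫ y := by
  classical
  let z : (⦋n⦌ ⟶ ⦋m + 1⦌) → (A' ⟶ Z) := fun α =>
    if hα : Function.Surjective α.toOrderHom then zs α hα else r ≫ zns n m y α hα
  have hz : ∀ (a : Fin (m + 2)) (β : ⦋n⦌ ⟶ ⦋m⦌),
      z (β ≫ SimplexCategory.δ a) = r ≫ y ≫ P (UW n Z) m a ≫ pr n Z β := by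
    intro a β
    have hα : ¬ Function.Surjective (β ≫ SimplexCategory.δ a).toOrderHom := by
      intro hs
      obtain ⟨t, ht⟩ := hs a
      exact Fin.succAbove_ne a _ ht
    show (if hα : Function.Surjective (β ≫ SimplexCategory.δ a).toOrderHom then zs _ hα
      else r ≫ zns n m y _ hα) = _
    rw [dif_neg hα, zns_eq n m y _ hα a β rfl]
  refine ⟨lift n Z z, ?_, ?_⟩
  · apply UW_hom_ext
    intro α
    rw [Category.assoc, UWmap_pr, ← Category.assoc, lift_pr]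
    by_cases hα : Function.Surjective α.toOrderHom
    · show (if hα : Function.Surjective α.toOrderHom then zs α hα else r ≫ zns n m y α hα) ≫ u = _
      rw [dif_pos hα, hzs α hα, Category.assoc]
    · obtain ⟨a, β, rfl⟩ := eq_comp_δ_of_not_surjective α hα
      rw [hz a β]
      have e1 : pr n Z β ≫ u = (UWmap n u).app (op ⦋m⦌) ≫ pr n W β := (UWmap_pr n u β).symm
      have e2 : P (UW n Z) m a ≫ (UWmap n u).app (op ⦋m⦌) =
          ((SimplicialObject.cosk m).map (UWmap n u)).app (op ⦋m + 1⦌) ≫ P (UW n W) m a :=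
        (P_nat (UWmap n u) m a).symm
      calc (r ≫ y ≫ P (UW n Z) m a ≫ pr n Z β) ≫ u
          = r ≫ y ≫ P (UW n Z) m a ≫ (pr n Z β ≫ u) := by simp only [Category.assoc]
        _ = r ≫ y ≫ (P (UW n Z) m a ≫ (UWmap n u).app (op ⦋m⦌)) ≫ pr n W β := by
            rw [e1]; simp only [Category.assoc]
        _ = r ≫ (y ≫ ((SimplicialObject.cosk m).map (UWmap n u)).app (op ⦋m + 1⦌)) ≫
              P (UW n W) m a ≫ pr n W β := by
            rw [e2]; simp only [Category.assoc]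
        _ = r ≫ x ≫ (((SimplicialObject.coskAdj m).unit.app (UW n W)).app (op ⦋m + 1⦌) ≫
              P (UW n W) m a) ≫ pr n W β := by
            rw [← hxy]; simp only [Category.assoc]
        _ = r ≫ x ≫ (UW n W).δ a ≫ pr n W β := by rw [unit_P]
        _ = r ≫ x ≫ pr n W (β ≫ SimplexCategory.δ a) := by
            rw [← map_pr n W (SimplexCategory.δ a) β]; rfl
        _ = (r ≫ x) ≫ pr n W (β ≫ SimplexCategory.δ a) := (Category.assoc _ _ _).symm
  · apply cosk_hom_ext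
    intro a
    rw [Category.assoc, unit_P, Category.assoc]
    apply UW_hom_ext
    intro β
    have e3 : (UW n Z).δ a ≫ pr n Z β = pr n Z (β ≫ SimplexCategory.δ a) :=
      map_pr n Z (SimplexCategory.δ a) β
    rw [Category.assoc, e3, lift_pr, hz a β]
    simp only [Category.assoc]

end algebra

section cover

variable {D : Type u} [SmallCategory D] (J' : GrothendieckTopology D)
  [HasFiniteLimits (FormalCoproduct.{u} D)]
  [∀ (n : ℕ) (F : (SimplexCategory.Truncated n)ᵒᵖ ⥤ FormalCoproduct.{u} D),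
    (SimplexCategory.Truncated.inclusion n).op.HasRightKanExtension F]
  (n : ℕ) {Z W : FormalCoproduct.{u} D} (u : Z ⟶ W) (hu : Hyper.IsSRCovering J' u)

include hu in
theorem UWmap_covering (Δ : SimplexCategory) :
    Hyper.IsSRCovering J' ((UWmap n u).app (op Δ)) := by
  apply covering_of_points
  intro U ν
  obtain ⟨S, hS, hfill⟩ := finite_points J' u hu (fun α : ⦋n⦌ ⟶ Δ => ν ≫ pr n W α)
  refine ⟨S, hS, ?_⟩
  intro V h hh
  obtain ⟨ζ, hζ⟩ := hfill h hh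
  refine ⟨lift n Z ζ, ?_⟩
  apply UW_hom_ext
  intro α
  rw [Category.assoc, UWmap_pr, ← Category.assoc, lift_pr, hζ α, Category.assoc]

include hu in
theorem gamma_covering (m : ℕ) (Q : FormalCoproduct.{u} D) (q1 : Q ⟶ (UW n W) _⦋m + 1⦌)
    (q2 : Q ⟶ ((SimplicialObject.cosk m).obj (UW n Z)) _⦋m + 1⦌) (γ : (UW n Z) _⦋m + 1⦌ ⟶ Q)
    (hpb : IsPullback q1 q2 (((SimplicialObject.coskAdj m).unit.app (UW n W)).app (op ⦋m + 1⦌))
      (((SimplicialObject.cosk m).map (UWmap n u)).app (op ⦋m + 1⦌)))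
    (h1 : γ ≫ q1 = (UWmap n u).app (op ⦋m + 1⦌))
    (h2 : γ ≫ q2 = ((SimplicialObject.coskAdj m).unit.app (UW n Z)).app (op ⦋m + 1⦌)) :
    Hyper.IsSRCovering J' γ := by
  apply covering_of_points
  intro U ν
  obtain ⟨S, hS, hfill⟩ := finite_points J' u hu
    (fun α : {α : ⦋n⦌ ⟶ ⦋m + 1⦌ // Function.Surjective α.toOrderHom} => ν ≫ q1 ≫ pr n W α.1)
  refine ⟨S, hS, ?_⟩
  intro V h hh
  obtain ⟨ζs, hζs⟩ := hfill h hh
  obtain ⟨ζ, hζ1, hζ2⟩ := gamma_lift n u m (pmap h) (ν ≫ q1) (ν ≫ q2)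
    (by rw [Category.assoc, Category.assoc, hpb.w]) (fun α hα => ζs ⟨α, hα⟩)
    (fun α hα => by rw [hζs ⟨α, hα⟩]; simp only [Category.assoc])
  refine ⟨ζ, hpb.hom_ext ?_ ?_⟩
  · rw [Category.assoc, h1, hζ1, Category.assoc]
  · rw [Category.assoc, h2, hζ2, Category.assoc]

end cover

section main

variable {C : Type u} [SmallCategory C] [HasPullbacks C]
    (J : GrothendieckTopology C) (X : C)
    [∀ (n : ℕ) (F : (SimplexCategory.Truncated n)ᵒᵖ ⥤ Limits.FormalCoproduct.{u} (Over X)),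
      (SimplexCategory.Truncated.inclusion n).op.HasRightKanExtension F]

theorem main (K : SimplicialObject (FormalCoproduct.{u} (Over X))) (hK : Hyper.IsHypercovering J X K)
    (n : ℕ) (Z : FormalCoproduct.{u} (Over X)) (u : Z ⟶ K.obj (op (SimplexCategory.mk n)))
    (hu : Hyper.IsSRCovering (J.over X) u) :
    ∃ (L : SimplicialObject (FormalCoproduct.{u} (Over X))) (f : L ⟶ K)
      (g : L.obj (op (SimplexCategory.mk n)) ⟶ Z),
      Hyper.IsHypercovering J X L ∧ g ≫ u = f.app (op (SimplexCategory.mk n)) := by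
  let a : K ⟶ UW n (K _⦋n⦌) := toUW n K
  let b : UW n Z ⟶ UW n (K _⦋n⦌) := UWmap n u
  refine ⟨pullback a b, pullback.fst a b,
    (pullback.snd a b).app (op ⦋n⦌) ≫ pr n Z (𝟙 ⦋n⦌), ?_, ?_⟩
  · exact Groth.Agent.H6.HyPb.main J X a b _ _ (IsPullback.of_hasPullback a b) hK
      (UWmap_covering (J.over X) n u hu ⦋0⦌)
      (fun m Q q1 q2 γ hpb h1 h2 => gamma_covering (J.over X) n u hu m Q q1 q2 γ hpb h1 h2)
  · have hw : (pullback.fst a b).app (op ⦋n⦌) ≫ a.app (op ⦋n⦌) =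
        (pullback.snd a b).app (op ⦋n⦌) ≫ b.app (op ⦋n⦌) :=
      congrArg (fun t => NatTrans.app t (op ⦋n⦌)) (pullback.condition (f := a) (g := b))
    have e1 : a.app (op ⦋n⦌) ≫ pr n (K _⦋n⦌) (𝟙 ⦋n⦌) = 𝟙 _ := by
      rw [toUW_pr]
      erw [op_id, K.map_id]
    calc ((pullback.snd a b).app (op ⦋n⦌) ≫ pr n Z (𝟙 ⦋n⦌)) ≫ u
        = (pullback.snd a b).app (op ⦋n⦌) ≫ (b.app (op ⦋n⦌) ≫ pr n (K _⦋n⦌) (𝟙 ⦋n⦌)) := by
          rw [UWmap_pr, Category.assoc]
      _ = ((pullback.fst a b).app (op ⦋n⦌) ≫ a.app (op ⦋n⦌)) ≫ pr n (K _⦋n⦌) (𝟙 ⦋n⦌) := by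
          rw [hw, Category.assoc]
      _ = (pullback.fst a b).app (op ⦋n⦌) := by
          rw [Category.assoc, e1, Category.comp_id]

end main

end Groth.Agent.H6.HyRefine
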