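import Mathlib
import Groth.Prelude.Def_Hyper
import Groth.Agent.Lib.Helper6.HyBasC
import Groth.Agent.Lib.Helper6.HyRefine

/-! Helper6: explicit hypercovering with members in `B`. Part D: the hypercovering property
(S6506, S907). -/

set_option autoImplicit false
open CategoryTheory CategoryTheory.Limits Opposite Simplicial SimplexCategory

universe u

namespace Groth.Agent.H6.HyBas

open Groth.Agent.H6.HyCoch Groth.Agent.H6.HyFaceA Groth.Agent.H6.HyYo Groth.Agent.H6.HyCosk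
  Groth.Agent.H6.HyRefine

section cover

variable {D : Type u} [SmallCategory D] (J' : GrothendieckTopology D) (Bp : Set D)

/-- the sieve of arrows factoring through a member of `B` -/
def SB (U : D) : Sieve U where
  arrows V h := ∃ (W : D) (_ : W ∈ Bp) (a : V ⟶ W) (b : W ⟶ U), h = a ≫ b
  downward_closed := by
    rintro V V' h ⟨W, hW, a, b, rfl⟩ k
    exact ⟨W, hW, k ≫ a, b, (Category.assoc _ _ _).symm⟩

/-- the constant simplex at a member of `B` -/
def const (W : D) (hW : W ∈ Bp) (Δ : SimplexCategory) : Sx Bp Δ :=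
  ⟨fun _ => Arrow.mk (𝟙 W),
    { id_ := fun _ _ => ⟨W, rfl⟩
      comp_ := fun _ _ _ _ _ _ => ⟨W, W, W, 𝟙 W, 𝟙 W, rfl, rfl, by rw [Category.comp_id]⟩
      mem_ := fun _ _ => hW }⟩

variable [HasFiniteLimits (FormalCoproduct.{u} D)]
  [∀ (n : ℕ) (F : (SimplexCategory.Truncated n)ᵒᵖ ⥤ FormalCoproduct.{u} D),
    (SimplexCategory.Truncated.inclusion n).op.HasRightKanExtension F]

theorem unit_covering (hB : ∀ U : D, SB Bp U ∈ J' U) (n : ℕ) :
    Hyper.IsSRCovering J' (((SimplicialObject.coskAdj n).unit.app (K Bp)).app (op ⦋n + 1⦌)) := by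
  apply covering_of_points
  intro U ν
  refine ⟨SB Bp U, hB U, ?_⟩
  rintro V h ⟨W, hW, a, b, rfl⟩
  obtain ⟨ζ, hζ⟩ := exists_glue (fun a => (pmap b ≫ ν) ≫ P (K Bp) n a)
    (P_SC (K Bp) n (pmap b ≫ ν)) hW
  refine ⟨pmap a ≫ ζ, ?_⟩
  rw [pmap_comp_comp, Category.assoc]
  congr 1
  apply cosk_hom_ext
  intro a
  rw [Category.assoc, unit_P, hζ a]

end cover

section main

variable {C : Type u} [SmallCategory C] [HasPullbacks C]
    (J : GrothendieckTopology C) (B : Set C)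

theorem main
    (h1 : ∀ U : C, ∃ (ι : Type u) (V : ι → C) (f : ∀ i, V i ⟶ U), Sieve.ofArrows V f ∈ J U ∧ ∀ i, V i ∈ B)
    (X : C) [∀ (n : ℕ) (F : (SimplexCategory.Truncated n)ᵒᵖ ⥤ Limits.FormalCoproduct.{u} (Over X)),
      (SimplexCategory.Truncated.inclusion n).op.HasRightKanExtension F] :
    ∃ K : SimplicialObject (FormalCoproduct.{u} (Over X)), Hyper.IsHypercovering J X K ∧
      ∀ (n : ℕ) (i : (K.obj (op (SimplexCategory.mk n))).I),
        ((K.obj (op (SimplexCategory.mk n))).obj i).left ∈ B := by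
  let Bp : Set (Over X) := {U | U.left ∈ B}
  refine ⟨K Bp, ⟨?_, ?_⟩, ?_⟩
  · obtain ⟨ι, V, f, hf, hV⟩ := h1 X
    refine J.superset_covering ?_ hf
    intro Y g hg
    rw [Groth.Agent.H9.SR1.mem_ofArrows_iff] at hg ⊢
    obtain ⟨i, a, rfl⟩ := hg
    exact ⟨const Bp (Over.mk (f i)) (hV i) ⦋0⦌, a, rfl⟩
  · intro n
    apply unit_covering (J.over X) Bp
    intro U
    obtain ⟨ι, V, f, hf, hV⟩ := h1 U.left
    rw [GrothendieckTopology.mem_over_iff]
    refine J.superset_covering ?_ hf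
    intro Y g hg
    rw [Groth.Agent.H9.SR1.mem_ofArrows_iff] at hg
    obtain ⟨i, a, rfl⟩ := hg
    rw [Sieve.overEquiv_iff]
    let W : Over X := Over.mk (f i ≫ U.hom)
    let b : W ⟶ U := Over.homMk (f i) rfl
    let a' : Over.mk ((a ≫ f i) ≫ U.hom) ⟶ W := Over.homMk a (by simp [W])
    refine ⟨W, hV i, a', b, ?_⟩
    apply Over.OverMorphism.ext
    rfl
  · intro n i
    exact K_obj_mem Bp ⦋n⦌ i

end main

section topo

open TopologicalSpace

theorem main_top {X : TopCat.{u}} (B : Set (Opens X)) (hB : Opens.IsBasis B)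
    [∀ (n : ℕ) (F : (SimplexCategory.Truncated n)ᵒᵖ ⥤ Limits.FormalCoproduct.{u} (Over (⊤ : Opens X))),
      (SimplexCategory.Truncated.inclusion n).op.HasRightKanExtension F] :
    ∃ K : SimplicialObject (FormalCoproduct.{u} (Over (⊤ : Opens X))),
      Hyper.IsHypercovering (Opens.grothendieckTopology X) ⊤ K ∧
      ∀ (n : ℕ) (i : (K.obj (op (SimplexCategory.mk n))).I),
        ((K.obj (op (SimplexCategory.mk n))).obj i).left ∈ B := by
  refine main (Opens.grothendieckTopology X) B ?_ ⊤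
  intro U
  refine ⟨{W : Opens X // W ∈ B ∧ W ≤ U}, fun W => W.1, fun W => homOfLE W.2.2, ?_, fun W => W.2.1⟩
  intro x hx
  obtain ⟨U', hU', hxU', hle⟩ := Opens.isBasis_iff_nbhd.1 hB hx
  exact ⟨U', homOfLE hle, Sieve.ofArrows_mk _ _ (⟨U', hU', hle⟩ : {W : Opens X // W ∈ B ∧ W ≤ U}), hxU'⟩

end topo

end Groth.Agent.H6.HyBas
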