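import Mathlib
import Groth.Agent.Lib.Helper6.HyCosk

/-! Helper6: the face calculus of `(cosk_m sk_m K)_{m+1}` without assuming finite limits
(only pointwise Kan extensions). -/

set_option autoImplicit false
open CategoryTheory CategoryTheory.Limits Opposite Simplicial SimplexCategory

universe v u

namespace Groth.Agent.H6.HyCoskP

open Groth.Agent.H6.HyFaceA Groth.Agent.H6.HyCosk

variable {E : Type u} [Category.{v} E]
  [∀ (n : ℕ) (F : (SimplexCategory.Truncated n)ᵒᵖ ⥤ E),
    (SimplexCategory.Truncated.inclusion n).op.HasRightKanExtension F]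

variable (K : SimplicialObject E)

theorem unit_eps (m : ℕ) : ((SimplicialObject.coskAdj m).unit.app K).app (op ⦋m⦌) ≫ eps K m = 𝟙 _ := by
  have h := (SimplicialObject.coskAdj (C := E) m).left_triangle_components K
  exact congrArg (fun t => NatTrans.app t (zm m)) h

theorem unit_P (m : ℕ) (a : Fin (m + 2)) :
    ((SimplicialObject.coskAdj m).unit.app K).app (op ⦋m + 1⦌) ≫ P K m a = K.δ a := by
  unfold P
  have h := ((SimplicialObject.coskAdj m).unit.app K).naturality (SimplexCategory.δ a).op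
  rw [← Category.assoc]
  erw [← h]
  rw [Category.assoc, unit_eps]
  exact Category.comp_id _

theorem epsAt_nat (m : ℕ) {Δ Δ' : SimplexCategory} (hΔ : Δ.len ≤ m) (hΔ' : Δ'.len ≤ m)
    (θ : Δ ⟶ Δ') :
    ((SimplicialObject.cosk m).obj K).map θ.op ≫ epsAt K m Δ hΔ =
      epsAt K m Δ' hΔ' ≫ K.map θ.op := by
  let θ' : (⟨Δ, hΔ⟩ : SimplexCategory.Truncated m) ⟶ ⟨Δ', hΔ'⟩ := ObjectProperty.homMk θ
  exact ((SimplicialObject.coskAdj m).counit.app ((SimplicialObject.truncation m).obj K)).naturality θ'.op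

theorem P_map (m : ℕ) (a : Fin (m + 2)) (Δ : SimplexCategory) (hΔ : Δ.len ≤ m) (θ : Δ ⟶ ⦋m⦌) :
    P K m a ≫ K.map θ.op =
      ((SimplicialObject.cosk m).obj K).map (θ ≫ SimplexCategory.δ a).op ≫ epsAt K m Δ hΔ := by
  unfold P
  have h := epsAt_nat K m hΔ (le_refl m) θ
  rw [Category.assoc]
  show _ ≫ epsAt K m ⦋m⦌ (le_refl m) ≫ _ = _
  rw [← h, ← Category.assoc]
  congr 1
  rw [op_comp, Functor.map_comp]
  rfl

theorem P_SCs (m : ℕ) {A : E} (β : A ⟶ ((SimplicialObject.cosk m).obj K) _⦋m + 1⦌) :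
    SCs K m (fun a => β ≫ P K m a) := by
  intro a a' Δ hΔ θ θ' e
  show (β ≫ P K m a) ≫ K.map θ.op = (β ≫ P K m a') ≫ K.map θ'.op
  rw [Category.assoc, Category.assoc, P_map K m a Δ hΔ θ, P_map K m a' Δ hΔ θ', e]

theorem P_SC (m : ℕ) {A : E} (β : A ⟶ ((SimplicialObject.cosk m).obj K) _⦋m + 1⦌) :
    SC K m Set.univ (fun a => β ≫ P K m a) :=
  SC_of_SCs K m _ (P_SCs K m β)

theorem ns {m : ℕ} (s : StructuredArrow (op ⦋m + 1⦌) (SimplexCategory.Truncated.inclusion m).op) :
    ¬ Function.Surjective s.hom.unop.toOrderHom :=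
  Groth.Agent.H6.CoskExt.not_surj (Nat.lt_succ_of_le s.right.unop.property) _

theorem cosk_hom_ext (m : ℕ)
    [∀ F : (SimplexCategory.Truncated m)ᵒᵖ ⥤ E,
      (SimplexCategory.Truncated.inclusion m).op.HasPointwiseRightKanExtension F]
    {A : E} (β β' : A ⟶ ((SimplicialObject.cosk m).obj K) _⦋m + 1⦌)
    (h : ∀ a : Fin (m + 2), β ≫ P K m a = β' ≫ P K m a) : β = β' := by
  have hV := Functor.isPointwiseRightKanExtensionOfIsRightKanExtension ((SimplicialObject.cosk m).obj K)
    ((SimplicialObject.coskAdj m).counit.app ((SimplicialObject.truncation m).obj K)) (op ⦋m + 1⦌)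
  apply hV.hom_ext
  intro s
  obtain ⟨a, ψ, hψ⟩ := eq_comp_δ_of_not_surjective s.hom.unop (ns s)
  have key : ((SimplicialObject.cosk m).obj K).map s.hom ≫
      epsAt K m s.right.unop.obj s.right.unop.property = P K m a ≫ K.map ψ.op := by
    rw [P_map K m a s.right.unop.obj s.right.unop.property ψ, ← hψ]
    rfl
  change β ≫ (((SimplicialObject.cosk m).obj K).map s.hom ≫
      epsAt K m s.right.unop.obj s.right.unop.property) =
    β' ≫ (((SimplicialObject.cosk m).obj K).map s.hom ≫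
      epsAt K m s.right.unop.obj s.right.unop.property)
  rw [key, ← Category.assoc, ← Category.assoc, h a]

end Groth.Agent.H6.HyCoskP
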