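import Mathlib
import Groth.Prelude.Def_Hyper
import Groth.Agent.Lib.Helper6.HyBasD
import Groth.Agent.Lib.Helper6.HyCoskP
import Groth.Agent.Lib.Helper6.FcLim

/-! Helper6: explicit hypercovering (Verdier's sense) with members in a covering class `B` (S939). -/

set_option autoImplicit false
open CategoryTheory CategoryTheory.Limits Opposite Simplicial SimplexCategory

universe v' u' u

namespace Groth.Agent.H6.HyBasV

open Groth.Agent.H6.HyCoch Groth.Agent.H6.HyFaceA Groth.Agent.H6.HyYo Groth.Agent.H6.HyCosk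
  Groth.Agent.H6.HyRefine Groth.Agent.H6.HyBas

section cover

variable {D : Type u} [SmallCategory D] (J' : GrothendieckTopology D) (Bp : Set D)
  [∀ (n : ℕ) (F : (SimplexCategory.Truncated n)ᵒᵖ ⥤ FormalCoproduct.{u} D),
    (SimplexCategory.Truncated.inclusion n).op.HasRightKanExtension F]
  [∀ (n : ℕ) (F : (SimplexCategory.Truncated n)ᵒᵖ ⥤ FormalCoproduct.{u} D),
    (SimplexCategory.Truncated.inclusion n).op.HasPointwiseRightKanExtension F]

theorem unit_covering' (hB : ∀ U : D, SB Bp U ∈ J' U) (n : ℕ) :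
    Hyper.IsSRCovering J' (((SimplicialObject.coskAdj n).unit.app (K Bp)).app (op ⦋n + 1⦌)) := by
  apply covering_of_points
  intro U ν
  refine ⟨SB Bp U, hB U, ?_⟩
  rintro V h ⟨W, hW, a, b, rfl⟩
  obtain ⟨ζ, hζ⟩ := exists_glue (fun a => (pmap b ≫ ν) ≫ P (K Bp) n a)
    (Groth.Agent.H6.HyCoskP.P_SC (K Bp) n (pmap b ≫ ν)) hW
  refine ⟨pmap a ≫ ζ, ?_⟩
  rw [pmap_comp_comp, Category.assoc]
  congr 1
  apply Groth.Agent.H6.HyCoskP.cosk_hom_ext
  intro a
  rw [Category.assoc, Groth.Agent.H6.HyCoskP.unit_P, hζ a]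

end cover

section zero

variable {E : Type u'} [Category.{v'} E] (K : SimplicialObject E)

/-- any pair of vertices is strongly compatible -/
theorem sc_zero {A : E} (g : Fin 2 → (A ⟶ K _⦋0⦌)) : SC K 0 Set.univ g := by
  intro a a' _ _ Δ θ θ' e
  by_cases haa : a = a'
  · subst haa
    have : θ = θ' := (cancel_mono (SimplexCategory.δ a)).1 e
    rw [this]
  · exfalso
    obtain ⟨l, hl⟩ := Fin.exists_succAbove_eq (Ne.symm haa)
    exact Groth.Agent.H6.HyFaceB.miss a a' l hl.symm θ θ' e 0 (@Subsingleton.elim (Fin 1) _ _ _)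

end zero

section main

variable {C : Type u} [SmallCategory C] [HasPullbacks C] [HasBinaryProducts C]
    (J : GrothendieckTopology C) (B : Set C)

theorem main
    (hB : ∀ U : C, ∃ (ι : Type u) (Y : ι → C) (f : ∀ i, Y i ⟶ U), Sieve.ofArrows Y f ∈ J U ∧ ∀ i, Y i ∈ B)
    [∀ (n : ℕ) (F : (SimplexCategory.Truncated n)ᵒᵖ ⥤ Limits.FormalCoproduct.{u} C),
      (SimplexCategory.Truncated.inclusion n).op.HasRightKanExtension F] :
    ∃ K : SimplicialObject (FormalCoproduct.{u} C), Hyper.IsHypercoveringSite J K ∧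
      ∀ (n : ℕ) (i : (K.obj (op (SimplexCategory.mk n))).I),
        (K.obj (op (SimplexCategory.mk n))).obj i ∈ B := by
  haveI : ∀ (n : ℕ) (F : (SimplexCategory.Truncated n)ᵒᵖ ⥤ FormalCoproduct.{u} C),
      (SimplexCategory.Truncated.inclusion n).op.HasPointwiseRightKanExtension F :=
    fun n F => Groth.Agent.H6.FcLim.hasPointwise_fc n F
  have hSB : ∀ U : C, SB B U ∈ J U := by
    intro U
    obtain ⟨ι, Y, f, hf, hY⟩ := hB U
    refine J.superset_covering ?_ hf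
    intro V g hg
    rw [Groth.Agent.H9.SR1.mem_ofArrows_iff] at hg
    obtain ⟨i, a, rfl⟩ := hg
    exact ⟨Y i, hY i, a, f i, rfl⟩
  refine ⟨K B, ⟨?_, ?_, ?_⟩, fun n i => K_obj_mem B ⦋n⦌ i⟩
  · constructor
    intro U s
    refine J.superset_covering ?_ (hSB U)
    rintro V h ⟨W, hW, a, b, rfl⟩
    exact ⟨sg ((K B).obj (op ⦋0⦌)) (pt ((K B).obj (op ⦋0⦌)) (const B W hW ⦋0⦌) a),
      terminal_elt_eq _ _⟩
  · constructor
    intro U s
    obtain ⟨μ1, h1⟩ := sg_surj ((K B).obj (op ⦋0⦌)) ((prod.fst :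
      Fy.obj ((K B).obj (op ⦋0⦌)) ⨯ Fy.obj ((K B).obj (op ⦋0⦌)) ⟶ _).app (op U) s)
    obtain ⟨μ2, h2⟩ := sg_surj ((K B).obj (op ⦋0⦌)) ((prod.snd :
      Fy.obj ((K B).obj (op ⦋0⦌)) ⨯ Fy.obj ((K B).obj (op ⦋0⦌)) ⟶ _).app (op U) s)
    refine J.superset_covering ?_ (hSB U)
    rintro V h ⟨W, hW, a, b, rfl⟩
    let g : Fin 2 → (pobj W ⟶ (K B) _⦋0⦌) := ![pmap b ≫ μ2, pmap b ≫ μ1]
    obtain ⟨ζ, hζ⟩ := exists_glue g (sc_zero (K B) g) hW
    obtain ⟨ζ', hζ'⟩ : ∃ ζ' : pobj V ⟶ (K B) _⦋1⦌, ζ' = pmap a ≫ ζ := ⟨_, rfl⟩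
    have e1 : ∀ (μ : pobj U ⟶ (K B).obj (op ⦋0⦌)) (e : Fin 2), g e = pmap b ≫ μ →
        ζ' ≫ (K B).δ e = pmap (a ≫ b) ≫ μ := by
      intro μ e hμ
      rw [hζ', Category.assoc, hζ e, hμ, pmap_comp_comp]
    refine ⟨sg ((K B).obj (op ⦋1⦌)) ζ', ?_⟩
    apply prod_ext_elt
    · have n1 := NatTrans.naturality_apply (prod.fst :
        Fy.obj ((K B).obj (op ⦋0⦌)) ⨯ Fy.obj ((K B).obj (op ⦋0⦌)) ⟶ _) (a ≫ b).op s
      refine Eq.trans ?_ n1.symm
      rw [← h1, sg_res, ← e1 μ1 1 rfl, ← sg_map]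
      exact types_congr_hom (congrArg (fun t => t.app (op V)) (prod.lift_fst
        (FormalCoproduct.yoneda.map ((K B).δ (1 : Fin 2)))
        (FormalCoproduct.yoneda.map ((K B).δ (0 : Fin 2))))) _
    · have n1 := NatTrans.naturality_apply (prod.snd :
        Fy.obj ((K B).obj (op ⦋0⦌)) ⨯ Fy.obj ((K B).obj (op ⦋0⦌)) ⟶ _) (a ≫ b).op s
      refine Eq.trans ?_ n1.symm
      rw [← h2, sg_res, ← e1 μ2 0 rfl, ← sg_map]
      exact types_congr_hom (congrArg (fun t => t.app (op V)) (prod.lift_snd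
        (FormalCoproduct.yoneda.map ((K B).δ (1 : Fin 2)))
        (FormalCoproduct.yoneda.map ((K B).δ (0 : Fin 2))))) _
  · intro n _
    exact Groth.Agent.H6.HySite.locSurj_of_covering J _ (unit_covering' J B hSB n)

end main

end Groth.Agent.H6.HyBasV
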