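import Mathlib
import Groth.Prelude.Def_Hyper
import Groth.Agent.Lib.Helper6.HyAcA
import Groth.Agent.Lib.Helper6.HyFaceB
import Groth.Agent.Lib.Helper6.HyRefine
import Groth.Agent.Lib.Helper6.HyBasV

/-! Helper6: local existence of cone systems on finite families of simplices of a hypercovering. -/

set_option autoImplicit false
open CategoryTheory CategoryTheory.Limits Opposite Simplicial SimplexCategory

universe u

namespace Groth.Agent.H6.HyAc

open Groth.Agent.H6.HyCoch Groth.Agent.H6.HyYo Groth.Agent.H6.HyFaceA Groth.Agent.H6.HyFaceB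
  Groth.Agent.H6.HyRefine

variable {D : Type u} [SmallCategory D] (K : SimplicialObject (FormalCoproduct.{u} D))

/-- the simplicial identity for faces of `K` -/
theorem Kδ_swap {n : ℕ} (k : Fin (n + 3)) (l : Fin (n + 2)) :
    K.δ k ≫ K.δ l = K.δ (k.succAbove l) ≫ K.δ (l.predAbove k) := by
  show K.map (SimplexCategory.δ k).op ≫ K.map (SimplexCategory.δ l).op =
    K.map (SimplexCategory.δ (k.succAbove l)).op ≫ K.map (SimplexCategory.δ (l.predAbove k)).op
  rw [← K.map_comp, ← K.map_comp, ← op_comp, ← op_comp, δ_swap]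

/-- pairwise compatible faces are strongly compatible -/
theorem SC_of_pairwise {A : FormalCoproduct.{u} D} {m : ℕ} (g : Fin (m + 3) → (A ⟶ K _⦋m + 1⦌))
    (H : ∀ (k : Fin (m + 3)) (l : Fin (m + 2)),
      g k ≫ K.δ l = g (k.succAbove l) ≫ K.δ (l.predAbove k)) :
    SC K (m + 1) Set.univ g := by
  intro a a' _ _ Δ θ θ' e
  by_cases haa : a = a'
  · subst haa
    have : θ = θ' := (cancel_mono (SimplexCategory.δ a)).1 e
    rw [this]
  · obtain ⟨l, hl⟩ := Fin.exists_succAbove_eq (Ne.symm haa)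
    subst hl
    obtain ⟨θ'', hθ''⟩ := eq_comp_δ_of_not_surjective' θ l (miss a (a.succAbove l) l rfl θ θ' e)
    have e2 : (θ'' ≫ SimplexCategory.δ (l.predAbove a)) ≫ SimplexCategory.δ (a.succAbove l) =
        θ' ≫ SimplexCategory.δ (a.succAbove l) := by
      rw [Category.assoc, ← δ_swap, ← Category.assoc, ← hθ'']
      exact e
    have e3 : θ' = θ'' ≫ SimplexCategory.δ (l.predAbove a) :=
      ((cancel_mono (SimplexCategory.δ (a.succAbove l))).1 e2).symm
    rw [hθ'', e3, ← comp_map K (g a) l θ'', ← comp_map K (g (a.succAbove l)) (l.predAbove a) θ'', H a l]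

variable {K}

theorem lc_res {U V V' : D} (h2 : V' ⟶ V) (v : Pt K V 0) (c : ∀ k, Pt K U k → Pt K V (k + 1))
    (c' : ∀ k, Pt K U k → Pt K V' (k + 1)) (k : ℕ)
    (hc : ∀ j, j < k → ∀ τ, c' j τ = pmap h2 ≫ c j τ) (σ : Pt K U k) (i : Fin (k + 1)) :
    lc K (pmap h2 ≫ v) c' k σ i = pmap h2 ≫ lc K v c k σ i := by
  cases k with
  | zero => rfl
  | succ k => exact hc k (Nat.lt_succ_self k) _

theorem lc_swap {U V : D} (v : Pt K V 0) (c : ∀ k, Pt K U k → Pt K V (k + 1)) (N : ℕ)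
    (σ : Pt K U (N + 1)) (k' : Fin (N + 2)) (l' : Fin (N + 1)) :
    lc K v c N (σ ≫ K.δ k') l' = lc K v c N (σ ≫ K.δ (k'.succAbove l')) (l'.predAbove k') := by
  cases N with
  | zero => rfl
  | succ N =>
    show c N ((σ ≫ K.δ k') ≫ K.δ l') = c N ((σ ≫ K.δ (k'.succAbove l')) ≫ K.δ (l'.predAbove k'))
    rw [Category.assoc, Category.assoc, Kδ_swap]

section exist

variable (J' : GrothendieckTopology D) (K)

/-- local existence of cone systems on finite families of `N`-simplices -/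
def HasCones (N : ℕ) : Prop := ∀ (U : D) (T : Set (Pt K U N)), T.Finite →
  ∃ S : Sieve U, S ∈ J' U ∧ ∀ ⦃V : D⦄ (h : V ⟶ U), S h →
    ∃ (G : ∀ k, Set (Pt K U k)), T ⊆ G N ∧
      (∀ k, k + 1 ≤ N → ∀ σ ∈ G (k + 1), ∀ i : Fin (k + 2), σ ≫ K.δ i ∈ G k) ∧
      Nonempty (ConeSys K h N G)

variable (hF : ∀ m : ℕ, Fill J' K m Set.univ)

include hF in
/-- simultaneous local fillers for a finite family of boundaries -/
theorem finite_fill (m : ℕ) {ι : Type*} [Finite ι] {V1 : D} (g : ι → Fin (m + 2) → Pt K V1 m)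
    (hg : ∀ j, SC K m Set.univ (g j)) :
    ∃ S : Sieve V1, S ∈ J' V1 ∧ ∀ ⦃V2 : D⦄ (h2 : V2 ⟶ V1), S h2 →
      ∃ γ : ι → Pt K V2 (m + 1), ∀ j a, γ j ≫ K.δ a = pmap h2 ≫ g j a := by
  choose S hS hfill using fun j => hF m (g j) (hg j)
  refine ⟨⨅ j, S j, iInf_mem J' S hS, ?_⟩
  intro V2 h2 hh
  rw [Groth.Agent.H6.HyRefine.iInf_apply] at hh
  choose γ hγ using fun j => hfill j h2 (hh j)
  exact ⟨γ, fun j a => hγ j a (Set.mem_univ a)⟩

variable (hP : ∀ U : D, Groth.Agent.H6.HySiteH0.Sa K U ∈ J' U)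

/-- a junk simplex: the degenerate simplex on a vertex -/
def junk {V : D} (v : Pt K V 0) (k : ℕ) : Pt K V k :=
  v ≫ K.map (SimplexCategory.const ⦋k⦌ ⦋0⦌ 0).op

include hF hP in
theorem hasCones_zero : HasCones K J' 0 := by
  classical
  intro U T hT
  refine trans_exists J' (hP U) ?_
  rintro V1 h1 ⟨v⟩
  haveI : Finite T := hT.to_subtype
  obtain ⟨S, hS, hfill⟩ := finite_fill K J' hF 0 (fun σ : T => ![pmap h1 ≫ σ.1, v])
    (fun _ => Groth.Agent.H6.HyBasV.sc_zero K _)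
  refine ⟨S, hS, ?_⟩
  intro V2 h2 hh2
  obtain ⟨γ, hγ⟩ := hfill h2 hh2
  let G : ∀ k, Set (Pt K U k) := Function.update (fun _ => ∅) 0 T
  have hG0 : G 0 = T := Function.update_self _ _ _
  let v' : Pt K V2 0 := pmap h2 ≫ v
  let c : ∀ k, Pt K U k → Pt K V2 (k + 1) := Function.update (fun k _ => junk K v' (k + 1)) 0
    (fun τ => if hτ : τ ∈ T then γ ⟨τ, hτ⟩ else junk K v' 1)
  have hc0 : c 0 = fun τ => if hτ : τ ∈ T then γ ⟨τ, hτ⟩ else junk K v' 1 :=
    Function.update_self _ _ _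
  refine ⟨G, hG0.symm ▸ subset_rfl, fun k hk => absurd hk (Nat.not_succ_le_zero k), ⟨⟨v', c, ?_, ?_⟩⟩⟩
  · intro k hk σ hσ
    obtain rfl : k = 0 := Nat.le_zero.1 hk
    rw [hG0] at hσ
    have e1 : c 0 σ = γ ⟨σ, hσ⟩ := by rw [hc0]; exact dif_pos hσ
    rw [e1, hγ ⟨σ, hσ⟩ 0]
    exact (pmap_comp_comp h1 h2 σ).symm
  · intro k hk σ hσ i
    obtain rfl : k = 0 := Nat.le_zero.1 hk
    rw [hG0] at hσ
    have e1 : c 0 σ = γ ⟨σ, hσ⟩ := by rw [hc0]; exact dif_pos hσ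
    obtain rfl : i = 0 := @Subsingleton.elim (Fin 1) _ _ _
    rw [e1]
    exact hγ ⟨σ, hσ⟩ 1

include hF in
theorem hasCones_succ (N : ℕ) (ih : HasCones K J' N) : HasCones K J' (N + 1) := by
  classical
  intro U T hT
  let T' : Set (Pt K U N) := (fun p : Pt K U (N + 1) × Fin (N + 2) => p.1 ≫ K.δ p.2) '' (T ×ˢ Set.univ)
  have hT' : T'.Finite := (hT.prod Set.finite_univ).image _
  obtain ⟨S1, hS1, H1⟩ := ih U T' hT'
  refine trans_exists J' hS1 ?_
  intro V1 h1 hh1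
  obtain ⟨G', hTG', hcl', ⟨cs'⟩⟩ := H1 h1 hh1
  have hface : ∀ σ ∈ T, ∀ i : Fin (N + 2), σ ≫ K.δ i ∈ G' N := by
    intro σ hσ i
    exact hTG' ⟨(σ, i), ⟨hσ, Set.mem_univ _⟩, rfl⟩
  haveI : Finite T := hT.to_subtype
  let g : T → Fin (N + 3) → Pt K V1 (N + 1) := fun σ =>
    Fin.cons (pmap h1 ≫ σ.1) (fun i => cs'.c N (σ.1 ≫ K.δ i))
  have hg : ∀ σ : T, SC K (N + 1) Set.univ (g σ) := by
    intro σ
    apply SC_of_pairwise
    intro k l
    cases k using Fin.cases with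
    | zero =>
      show (pmap h1 ≫ σ.1) ≫ K.δ l = g σ ((0 : Fin (N + 3)).succAbove l) ≫ K.δ (l.predAbove 0)
      have e1 : (0 : Fin (N + 3)).succAbove l = l.succ := Fin.succAbove_zero_apply l
      have e2 : l.predAbove (0 : Fin (N + 3)) = 0 := Fin.predAbove_right_zero
      rw [e1, e2]
      show _ = cs'.c N (σ.1 ≫ K.δ l) ≫ K.δ 0
      rw [cs'.c_zero N (le_refl N) _ (hface σ.1 σ.2 l), Category.assoc]
    | succ k' =>
      cases l using Fin.cases with
      | zero =>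
        have e1 : (k'.succ).succAbove (0 : Fin (N + 2)) = 0 := Fin.succ_succAbove_zero k'
        have e2 : (0 : Fin (N + 2)).predAbove k'.succ = k' := Fin.predAbove_zero_succ
        rw [e1, e2]
        show cs'.c N (σ.1 ≫ K.δ k') ≫ K.δ 0 = (pmap h1 ≫ σ.1) ≫ K.δ k'
        rw [cs'.c_zero N (le_refl N) _ (hface σ.1 σ.2 k'), Category.assoc]
      | succ l' =>
        have e1 : (k'.succ).succAbove l'.succ = (k'.succAbove l').succ := Fin.succ_succAbove_succ k' l'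
        have e2 : (l'.succ).predAbove k'.succ = (l'.predAbove k').succ := Fin.succ_predAbove_succ l' k'
        rw [e1, e2]
        show cs'.c N (σ.1 ≫ K.δ k') ≫ K.δ l'.succ =
          cs'.c N (σ.1 ≫ K.δ (k'.succAbove l')) ≫ K.δ (l'.predAbove k').succ
        rw [cs'.c_succ N (le_refl N) _ (hface σ.1 σ.2 k') l',
          cs'.c_succ N (le_refl N) _ (hface σ.1 σ.2 (k'.succAbove l')) (l'.predAbove k')]
        exact lc_swap cs'.v cs'.c N σ.1 k' l'
  obtain ⟨S, hS, hfill⟩ := finite_fill K J' hF (N + 1) g hg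
  refine ⟨S, hS, ?_⟩
  intro V2 h2 hh2
  obtain ⟨γ, hγ⟩ := hfill h2 hh2
  let G : ∀ k, Set (Pt K U k) := Function.update G' (N + 1) T
  have hGtop : G (N + 1) = T := Function.update_self _ _ _
  have hGlow : ∀ k, k ≠ N + 1 → G k = G' k := fun k hk => Function.update_of_ne hk _ _
  let v' : Pt K V2 0 := pmap h2 ≫ cs'.v
  let c : ∀ k, Pt K U k → Pt K V2 (k + 1) :=
    Function.update (fun k τ => pmap h2 ≫ cs'.c k τ) (N + 1)
      (fun τ => if hτ : τ ∈ T then γ ⟨τ, hτ⟩ else pmap h2 ≫ cs'.c (N + 1) τ)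
  have hctop : c (N + 1) = fun τ => if hτ : τ ∈ T then γ ⟨τ, hτ⟩ else pmap h2 ≫ cs'.c (N + 1) τ :=
    Function.update_self _ _ _
  have hclow : ∀ k, k ≠ N + 1 → c k = fun τ => pmap h2 ≫ cs'.c k τ :=
    fun k hk => Function.update_of_ne hk _ _
  refine ⟨G, hGtop.symm ▸ subset_rfl, ?_, ⟨⟨v', c, ?_, ?_⟩⟩⟩
  · intro k hk σ hσ i
    rcases Nat.lt_or_eq_of_le hk with hlt | heq
    · have hk1 : k + 1 ≠ N + 1 := Nat.ne_of_lt hlt
      have hk0 : k ≠ N + 1 := by omega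
      rw [hGlow (k + 1) hk1] at hσ
      rw [hGlow k hk0]
      exact hcl' k (by omega) σ hσ i
    · obtain rfl : k = N := by omega
      rw [hGtop] at hσ
      rw [hGlow k (Nat.ne_of_lt (Nat.lt_succ_self k))]
      exact hface σ hσ i
  · intro k hk σ hσ
    rcases Nat.lt_or_eq_of_le hk with hlt | heq
    · have hk0 : k ≠ N + 1 := Nat.ne_of_lt hlt
      rw [hGlow k hk0] at hσ
      rw [hclow k hk0]
      show (pmap h2 ≫ cs'.c k σ) ≫ K.δ 0 = pmap (h2 ≫ h1) ≫ σ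
      rw [Category.assoc, cs'.c_zero k (by omega) σ hσ]
      exact (pmap_comp_comp h1 h2 σ).symm
    · subst heq
      rw [hGtop] at hσ
      have e1 : c (N + 1) σ = γ ⟨σ, hσ⟩ := by rw [hctop]; exact dif_pos hσ
      rw [e1, hγ ⟨σ, hσ⟩ 0]
      exact (pmap_comp_comp h1 h2 σ).symm
  · intro k hk σ hσ i
    rcases Nat.lt_or_eq_of_le hk with hlt | heq
    · have hk0 : k ≠ N + 1 := Nat.ne_of_lt hlt
      rw [hGlow k hk0] at hσ
      rw [lc_res h2 cs'.v cs'.c c k (fun j hj τ => by rw [hclow j (by omega)]) σ i, hclow k hk0]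
      show (pmap h2 ≫ cs'.c k σ) ≫ K.δ i.succ = _
      rw [Category.assoc, cs'.c_succ k (by omega) σ hσ i]
    · subst heq
      rw [hGtop] at hσ
      have e1 : c (N + 1) σ = γ ⟨σ, hσ⟩ := by rw [hctop]; exact dif_pos hσ
      rw [e1, hγ ⟨σ, hσ⟩ i.succ]
      show pmap h2 ≫ cs'.c N (σ ≫ K.δ i) = c N (σ ≫ K.δ i)
      rw [hclow N (Nat.ne_of_lt (Nat.lt_succ_self N))]

include hF hP in
theorem hasCones (N : ℕ) : HasCones K J' N := by
  induction N with
  | zero => exact hasCones_zero K J' hF hP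
  | succ N ih => exact hasCones_succ K J' hF N ih

end exist

end Groth.Agent.H6.HyAc
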