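import Mathlib
import Groth.Prelude.Def_Hyper
import Groth.Agent.Lib.Helper6.HyAcB

/-! Helper6: cycles on a hypercovering are locally boundaries. -/

set_option autoImplicit false
open CategoryTheory CategoryTheory.Limits Opposite Simplicial SimplexCategory

universe u

namespace Groth.Agent.H6.HyAc

open Groth.Agent.H6.HyCoch Groth.Agent.H6.HyYo Groth.Agent.H6.HyFaceA Groth.Agent.H6.HyFaceB
  Groth.Agent.H6.HyRefine

variable {D : Type u} [SmallCategory D] (K : SimplicialObject (FormalCoproduct.{u} D))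
  (J' : GrothendieckTopology D)
  (hF : ∀ m : ℕ, Fill J' K m Set.univ)
  (hP : ∀ U : D, Groth.Agent.H6.HySiteH0.Sa K U ∈ J' U)

include hF hP in
theorem cycle_locally_boundary (n : ℕ) (U : D) (z : Ch K U (n + 1)) (hz : dd K U n z = 0) :
    ∃ S : Sieve U, S ∈ J' U ∧ ∀ ⦃V : D⦄ (h : V ⟶ U), S h →
      ∃ w : Ch K V (n + 2), dd K V (n + 1) w = res K h (n + 1) z := by
  obtain ⟨T, hT, hzT⟩ := exists_finite_support z
  obtain ⟨S, hS, H⟩ := hasCones K J' hF hP (n + 1) U T hT
  refine ⟨S, hS, ?_⟩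
  intro V h hh
  obtain ⟨G, hTG, _, ⟨cs⟩⟩ := H h hh
  refine ⟨sOp K cs.c (n + 1) z, ?_⟩
  have hzG : z ∈ AddSubgroup.closure (FreeAbelianGroup.of '' G (n + 1)) :=
    AddSubgroup.closure_mono (Set.image_mono hTG) hzT
  rw [cone_identity_succ cs n (le_refl _) z hzG, hz, map_zero, sub_zero]

include hF hP in
theorem aug_zero_locally_boundary (U : D) (z : Ch K U 0) (hz : aug K U z = 0) :
    ∃ S : Sieve U, S ∈ J' U ∧ ∀ ⦃V : D⦄ (h : V ⟶ U), S h →
      ∃ w : Ch K V 1, dd K V 0 w = res K h 0 z := by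
  obtain ⟨T, hT, hzT⟩ := exists_finite_support z
  obtain ⟨S, hS, H⟩ := hasCones K J' hF hP 0 U T hT
  refine ⟨S, hS, ?_⟩
  intro V h hh
  obtain ⟨G, hTG, _, ⟨cs⟩⟩ := H h hh
  refine ⟨sOp K cs.c 0 z, ?_⟩
  have hzG : z ∈ AddSubgroup.closure (FreeAbelianGroup.of '' G 0) :=
    AddSubgroup.closure_mono (Set.image_mono hTG) hzT
  rw [cone_identity_zero cs z hzG, hz, zero_smul, sub_zero]

theorem aug_dd (U : D) (z : Ch K U 1) : aug K U (dd K U 0 z) = 0 := by
  induction z using FreeAbelianGroup.induction_on with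
  | zero => simp
  | of σ =>
    rw [dd_of, Fin.sum_univ_two, map_add, map_zsmul, map_zsmul]
    have e : ∀ τ : Pt K U 0, aug K U (FreeAbelianGroup.of τ) = 1 :=
      fun τ => FreeAbelianGroup.lift_apply_of _ _
    rw [e, e]
    simp
  | neg x hx => rw [map_neg, map_neg, hx, neg_zero]
  | add x y hx hy => rw [map_add, map_add, hx, hy, add_zero]

end Groth.Agent.H6.HyAc
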