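import Mathlib
import Groth.Prelude.Def_Hyper
import Groth.Agent.Lib.Helper6.HyAcC
import Groth.Agent.Lib.Helper6.ShLocEx

/-! Helper6: acyclicity of the complex of free abelian sheaves on a hypercovering. -/

set_option autoImplicit false
open CategoryTheory CategoryTheory.Limits Opposite Simplicial SimplexCategory

universe u

namespace Groth.Agent.H6.HyAc

open Groth.Agent.H6.HyCoch Groth.Agent.H6.HyYo Groth.Agent.H6.HyFaceA Groth.Agent.H6.HyFaceB

variable {D : Type u} [SmallCategory D] (K : SimplicialObject (FormalCoproduct.{u} D))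

/-- the simplicial presheaf of abelian groups `ℤ[F(K)]` -/
noncomputable abbrev SP : SimplicialObject (Dᵒᵖ ⥤ AddCommGrpCat.{u}) :=
  (K ⋙ FormalCoproduct.yoneda) ⋙ (Functor.whiskeringRight _ _ _).obj AddCommGrpCat.free.{u}

/-- the chain complex of presheaves `ℤ[F(K)]` -/
noncomputable abbrev PC : ChainComplex (Dᵒᵖ ⥤ AddCommGrpCat.{u}) ℕ :=
  (AlgebraicTopology.alternatingFaceMapComplex _).obj (SP K)

theorem freeChainCx_eq (J' : GrothendieckTopology D) :
    Hyper.freeChainCx J' K =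
      ((presheafToSheaf J' AddCommGrpCat.{u}).mapHomologicalComplex _).obj (PC K) :=
  (Functor.congr_obj (AlgebraicTopology.map_alternatingFaceMapComplex
    (presheafToSheaf J' AddCommGrpCat.{u})) (SP K)).symm

/-- the comparison between chains on points and sections of `ℤ[F(K_n)]` -/
noncomputable def Phi (U : D) (n : ℕ) : Ch K U n →+ ((PC K).X n).obj (op U) :=
  FreeAbelianGroup.map (sg (K _⦋n⦌))

theorem Phi_of (U : D) (n : ℕ) (σ : Pt K U n) :
    Phi K U n (FreeAbelianGroup.of σ) = FreeAbelianGroup.of (sg (K _⦋n⦌) σ) :=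
  FreeAbelianGroup.map_of_apply _

theorem Phi_bijective (U : D) (n : ℕ) : Function.Bijective (Phi K U n) := by
  let e : Pt K U n ≃ (Fy.obj (K _⦋n⦌)).obj (op U) :=
    Equiv.ofBijective (sg (K _⦋n⦌)) ⟨fun a b h => sg_inj _ a b h, fun z => sg_surj _ z⟩
  exact (FreeAbelianGroup.equivOfEquiv e).bijective

theorem Phi_res {U V : D} (h : V ⟶ U) (n : ℕ) (z : Ch K U n) :
    ((PC K).X n).map h.op (Phi K U n z) = Phi K V n (res K h n z) := by
  induction z using FreeAbelianGroup.induction_on with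
  | zero => rw [map_zero, map_zero, map_zero, map_zero]
  | of σ =>
    have e1 : res K h n (FreeAbelianGroup.of σ) = FreeAbelianGroup.of (pmap h ≫ σ) :=
      FreeAbelianGroup.map_of_apply _
    rw [e1, Phi_of, Phi_of, ← sg_res]
    exact FreeAbelianGroup.map_of_apply _
  | neg x hx => rw [map_neg, map_neg, hx, map_neg, map_neg]
  | add x y hx hy => rw [map_add, map_add, hx, hy, map_add, map_add]

theorem Phi_face (U : D) (n : ℕ) (i : Fin (n + 2)) (z : Ch K U (n + 1)) :
    ((SP K).δ i).app (op U) (Phi K U (n + 1) z) = Phi K U n (face K U n i z) := by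
  induction z using FreeAbelianGroup.induction_on with
  | zero => rw [map_zero, map_zero, map_zero, map_zero]
  | of σ =>
    have e1 : face K U n i (FreeAbelianGroup.of σ) = FreeAbelianGroup.of (σ ≫ K.δ i) :=
      FreeAbelianGroup.map_of_apply _
    rw [e1, Phi_of, Phi_of, ← sg_map]
    exact FreeAbelianGroup.map_of_apply _
  | neg x hx => rw [map_neg, map_neg, hx, map_neg, map_neg]
  | add x y hx hy => rw [map_add, map_add, hx, hy, map_add, map_add]

theorem Phi_d (U : D) (n : ℕ) (z : Ch K U (n + 1)) :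
    ((PC K).d (n + 1) n).app (op U) (Phi K U (n + 1) z) = Phi K U n (dd K U n z) := by
  have hd : ((PC K).d (n + 1) n).app (op U) =
      ∑ i : Fin (n + 2), (-1 : ℤ) ^ (i : ℕ) • ((SP K).δ i).app (op U) := by
    have := AlgebraicTopology.AlternatingFaceMapComplex.obj_d_eq (SP K) n
    rw [show (PC K).d (n + 1) n = _ from this, NatTrans.app_sum]
    refine Finset.sum_congr rfl (fun i _ => ?_)
    rw [NatTrans.app_zsmul]
  rw [hd]
  have e2 : ∀ (x : ((PC K).X (n + 1)).obj (op U)),
      (∑ i : Fin (n + 2), (-1 : ℤ) ^ (i : ℕ) • ((SP K).δ i).app (op U) :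
        ((PC K).X (n + 1)).obj (op U) ⟶ ((PC K).X n).obj (op U)) x =
      ∑ i : Fin (n + 2), (-1 : ℤ) ^ (i : ℕ) • (((SP K).δ i).app (op U) x) := by
    intro x
    have h1 := map_sum (AddCommGrpCat.homAddEquiv (M := ((PC K).X (n + 1)).obj (op U))
      (N := ((PC K).X n).obj (op U))) (fun i : Fin (n + 2) => (-1 : ℤ) ^ (i : ℕ) • ((SP K).δ i).app (op U))
      Finset.univ
    have h2 := DFunLike.congr_fun h1 x
    rw [AddMonoidHom.finsetSum_apply] at h2
    exact h2
  rw [e2]
  unfold dd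
  rw [AddMonoidHom.finsetSum_apply, map_sum]
  refine Finset.sum_congr rfl (fun i _ => ?_)
  rw [AddMonoidHom.smul_apply, map_zsmul, Phi_face]

section acyclic

variable (J' : GrothendieckTopology D)
  (hF : ∀ m : ℕ, Fill J' K m Set.univ)
  (hP : ∀ U : D, Groth.Agent.H6.HySiteH0.Sa K U ∈ J' U)

include hF hP in
theorem locally_exact_succ (n : ℕ) (U : D) (z : ((PC K).X (n + 1)).obj (op U))
    (hz : ((PC K).d (n + 1) n).app (op U) z = 0) :
    ∃ S : Sieve U, S ∈ J' U ∧ ∀ ⦃V : D⦄ (f : V ⟶ U), S f →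
      ∃ w : ((PC K).X (n + 2)).obj (op V),
        ((PC K).d (n + 2) (n + 1)).app (op V) w = ((PC K).X (n + 1)).map f.op z := by
  obtain ⟨z', rfl⟩ := (Phi_bijective K U (n + 1)).2 z
  have hz' : dd K U n z' = 0 := by
    apply (Phi_bijective K U n).1
    rw [← Phi_d, hz, map_zero]
  obtain ⟨S, hS, H⟩ := cycle_locally_boundary K J' hF hP n U z' hz'
  refine ⟨S, hS, ?_⟩
  intro V f hf
  obtain ⟨w', hw'⟩ := H f hf
  exact ⟨Phi K V (n + 2) w', by rw [Phi_d, hw', Phi_res]⟩

include hF hP in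
theorem isZero_homology_succ (n : ℕ) : IsZero ((Hyper.freeChainCx J' K).homology (n + 1)) := by
  rw [← HomologicalComplex.exactAt_iff_isZero_homology,
    HomologicalComplex.exactAt_iff' _ (n + 2) (n + 1) n (by simp) (by simp)]
  have e := freeChainCx_eq K J'
  have h1 : ((((presheafToSheaf J' AddCommGrpCat.{u}).mapHomologicalComplex _).obj (PC K)).sc'
      (n + 2) (n + 1) n).Exact :=
    Groth.Agent.H6.ShLocEx.exact_map_sheafify J' ((PC K).sc' (n + 2) (n + 1) n)
      (locally_exact_succ K J' hF hP n)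
  rw [e]
  exact h1

end acyclic

section augment

/-- the constant presheaf `ℤ` (as the free abelian group on a point) -/
noncomputable abbrev Zc : Dᵒᵖ ⥤ AddCommGrpCat.{u} :=
  (Functor.const Dᵒᵖ).obj (AddCommGrpCat.free.{u}.obj PUnit.{u + 1})

/-- the generator of `ℤ` -/
noncomputable abbrev gen : FreeAbelianGroup PUnit.{u + 1} := FreeAbelianGroup.of PUnit.unit

/-- the augmentation on sections -/
noncomputable def epsApp (X : Type u) : FreeAbelianGroup X →+ FreeAbelianGroup PUnit.{u + 1} :=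
  FreeAbelianGroup.map (fun _ => PUnit.unit)

theorem epsApp_map {X Y : Type u} (f : X → Y) (x : FreeAbelianGroup X) :
    epsApp Y (FreeAbelianGroup.map f x) = epsApp X x := by
  induction x using FreeAbelianGroup.induction_on with
  | zero => rw [map_zero, map_zero, map_zero]
  | of σ => rfl
  | neg x hx => rw [map_neg, map_neg, hx, map_neg]
  | add x y hx hy => rw [map_add, map_add, hx, hy, map_add]

/-- the augmentation `ℤ[F(K_0)] ⟶ ℤ` -/
noncomputable def eps : (PC K).X 0 ⟶ Zc (D := D) where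
  app U := AddCommGrpCat.ofHom (epsApp ((Fy.obj (K _⦋0⦌)).obj U))
  naturality U V f := by
    apply AddCommGrpCat.hom_ext
    apply AddMonoidHom.ext
    intro x
    exact epsApp_map _ x

theorem eps_Phi (U : D) (z : Ch K U 0) :
    (eps K).app (op U) (Phi K U 0 z) = aug K U z • (gen : FreeAbelianGroup PUnit.{u + 1}) := by
  induction z using FreeAbelianGroup.induction_on with
  | zero => rw [map_zero, map_zero, map_zero, zero_smul]; rfl
  | of σ =>
    have e : aug K U (FreeAbelianGroup.of σ) = 1 := FreeAbelianGroup.lift_apply_of _ _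
    rw [e, one_smul, Phi_of]
    rfl
  | neg x hx => rw [map_neg, map_neg, hx, map_neg, neg_smul]; rfl
  | add x y hx hy => rw [map_add, map_add, hx, hy, map_add, add_smul]; rfl

theorem smul_gen_inj (n : ℤ) (h : n • (gen : FreeAbelianGroup PUnit.{u + 1}) = 0) : n = 0 := by
  have := congrArg (FreeAbelianGroup.lift (fun _ : PUnit.{u + 1} => (1 : ℤ))) h
  rw [map_zsmul, map_zero] at this
  have e : FreeAbelianGroup.lift (fun _ : PUnit.{u + 1} => (1 : ℤ)) gen = 1 :=
    FreeAbelianGroup.lift_apply_of _ _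
  rw [e] at this
  simpa using this

theorem exists_smul_gen (s : FreeAbelianGroup PUnit.{u + 1}) : ∃ n : ℤ, s = n • gen := by
  induction s using FreeAbelianGroup.induction_on with
  | zero => exact ⟨0, (zero_smul _ _).symm⟩
  | of x => exact ⟨1, (one_smul _ _).symm⟩
  | neg x hx =>
    obtain ⟨n, hn⟩ := hx
    exact ⟨-n, by rw [hn, neg_smul]⟩
  | add x y hx hy =>
    obtain ⟨n, hn⟩ := hx
    obtain ⟨m, hm⟩ := hy
    exact ⟨n + m, by rw [hn, hm, add_smul]⟩

theorem d_eps : (PC K).d 1 0 ≫ eps K = 0 := by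
  ext U : 2
  obtain ⟨U⟩ := U
  apply AddCommGrpCat.hom_ext
  apply AddMonoidHom.ext
  intro x
  obtain ⟨z, rfl⟩ := (Phi_bijective K U 1).2 x
  show (eps K).app (op U) (((PC K).d 1 0).app (op U) (Phi K U 1 z)) = 0
  rw [Phi_d, eps_Phi, aug_dd, zero_smul]
  rfl

/-- the augmented short complex of presheaves -/
noncomputable def augSC : ShortComplex (Dᵒᵖ ⥤ AddCommGrpCat.{u}) :=
  ShortComplex.mk ((PC K).d 1 0) (eps K) (d_eps K)

variable (J' : GrothendieckTopology D)
  (hF : ∀ m : ℕ, Fill J' K m Set.univ)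
  (hP : ∀ U : D, Groth.Agent.H6.HySiteH0.Sa K U ∈ J' U)

include hF hP in
theorem augSC_locally_exact (U : D) (z : ((PC K).X 0).obj (op U))
    (hz : (eps K).app (op U) z = 0) :
    ∃ S : Sieve U, S ∈ J' U ∧ ∀ ⦃V : D⦄ (f : V ⟶ U), S f →
      ∃ w : ((PC K).X 1).obj (op V),
        ((PC K).d 1 0).app (op V) w = ((PC K).X 0).map f.op z := by
  obtain ⟨z', rfl⟩ := (Phi_bijective K U 0).2 z
  have hz' : aug K U z' = 0 := by
    rw [eps_Phi] at hz
    exact smul_gen_inj _ hz
  obtain ⟨S, hS, H⟩ := aug_zero_locally_boundary K J' hF hP U z' hz'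
  refine ⟨S, hS, ?_⟩
  intro V f hf
  obtain ⟨w', hw'⟩ := H f hf
  exact ⟨Phi K V 1 w', by rw [Phi_d, hw', Phi_res]⟩

include hP in
theorem eps_locally_surjective (U : D) (s : (Zc (D := D)).obj (op U)) :
    ∃ S : Sieve U, S ∈ J' U ∧ ∀ ⦃V : D⦄ (g : V ⟶ U), S g →
      ∃ t : ((PC K).X 0).obj (op V), (eps K).app (op V) t = (Zc (D := D)).map g.op s := by
  refine ⟨_, hP U, ?_⟩
  rintro V g ⟨v⟩
  obtain ⟨n, hn⟩ := exists_smul_gen s
  refine ⟨Phi K V 0 (n • FreeAbelianGroup.of v), ?_⟩
  rw [eps_Phi, map_zsmul]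
  have e : aug K V (FreeAbelianGroup.of v) = 1 := FreeAbelianGroup.lift_apply_of _ _
  rw [e]
  show (n • (1 : ℤ)) • gen = s
  rw [hn, smul_eq_mul, mul_one]

include hF hP in
theorem homology_zero_iso :
    Nonempty ((Hyper.freeChainCx J' K).homology 0 ≅
      (presheafToSheaf J' AddCommGrpCat.{u}).obj (Zc (D := D))) := by
  rw [freeChainCx_eq]
  let C := ((presheafToSheaf J' AddCommGrpCat.{u}).mapHomologicalComplex
    (ComplexShape.down ℕ)).obj (PC K)
  let S := (augSC K).map (presheafToSheaf J' AddCommGrpCat.{u})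
  have hS : S.Exact := Groth.Agent.H6.ShLocEx.exact_map_sheafify J' (augSC K)
    (augSC_locally_exact K J' hF hP)
  haveI : Epi S.g := Groth.Agent.H6.ShLocEx.epi_map_sheafify J' (eps K)
    (eps_locally_surjective K J' hP)
  have h1 : IsColimit (CokernelCofork.ofπ S.g S.zero) := hS.gIsCokernel
  have h2 : IsColimit (CokernelCofork.ofπ (C.pOpcycles 0) (C.d_pOpcycles 1 0)) :=
    C.opcyclesIsCokernel 1 0 (by simp)
  exact ⟨ChainComplex.isoHomologyι₀ C ≪≫ IsColimit.coconePointUniqueUpToIso h2 h1⟩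

end augment

end Groth.Agent.H6.HyAc
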