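import Mathlib
import Groth.Prelude.Def_Hyper
import Groth.Agent.Lib.Helper6.HyAcD

/-! Helper6: acyclicity of `ℤ[F(K)]^#` for a hypercovering `K` of `X` (S6505). -/

set_option autoImplicit false
open CategoryTheory CategoryTheory.Limits Opposite Simplicial SimplexCategory

universe u

namespace Groth.Agent.H6.HyAc

section overX

variable {C : Type u} [SmallCategory C] [HasPullbacks C]
    (J : GrothendieckTopology C) (X : C) (K : SimplicialObject (FormalCoproduct.{u} (Over X)))
    [∀ (n : ℕ) (F : (SimplexCategory.Truncated n)ᵒᵖ ⥤ FormalCoproduct.{u} (Over X)),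
      (SimplexCategory.Truncated.inclusion n).op.HasRightKanExtension F]

theorem main_over (hK : Hyper.IsHypercovering J X K) :
    (∀ i : ℕ, IsZero ((Hyper.freeChainCx (J.over X) K).homology (i + 1))) ∧
    Nonempty ((Hyper.freeChainCx (J.over X) K).homology 0 ≅
      (presheafToSheaf (J.over X) AddCommGrpCat.{u}).obj
        ((Functor.const (Over X)ᵒᵖ).obj (AddCommGrpCat.free.{u}.obj PUnit.{u + 1}))) := by
  have hF : ∀ m : ℕ, Groth.Agent.H6.HyFaceB.Fill (J.over X) K m Set.univ :=
    fun m => Groth.Agent.H6.HyFaceB.fill_full (J.over X) K hK.2 m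
  have hP := Groth.Agent.H6.HyFaceB.hpt_of hK
  exact ⟨fun i => isZero_homology_succ K (J.over X) hF hP i,
    homology_zero_iso K (J.over X) hF hP⟩

end overX

end Groth.Agent.H6.HyAc
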