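import Mathlib
import Groth.Prelude.Def_Hyper
import Groth.Agent.Lib.Helper6.HyAcD

/-! Helper6: Cech cohomology of an injective abelian sheaf with respect to a simplicial formal
coproduct whose complex of free abelian sheaves is acyclic in positive degrees. -/

set_option autoImplicit false
open CategoryTheory CategoryTheory.Limits Opposite Simplicial SimplexCategory

universe u

namespace Groth.Agent.H6.HyInj

open Groth.Agent.H6.HyCoch Groth.Agent.H6.HyYo Groth.Agent.H6.HyAc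

variable {C : Type u} [SmallCategory C] (Q : Cᵒᵖ ⥤ AddCommGrpCat.{u})

section single

variable (A : FormalCoproduct.{u} C)

/-- the free abelian presheaf on `F(A)` -/
noncomputable abbrev ZF : Cᵒᵖ ⥤ AddCommGrpCat.{u} := Fy.obj A ⋙ AddCommGrpCat.free.{u}

/-- the value of the map `ℤ[F(A)] ⟶ Q` attached to a cochain -/
noncomputable def toHomApp (y : Coch Q A) (U : Cᵒᵖ) :
    FreeAbelianGroup ((Fy.obj A).obj U) →+ Q.obj U :=
  FreeAbelianGroup.lift (fun s => (ev Q ((rho A).app U s) y : Q.obj (op U.unop)))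

theorem toHomApp_of (y : Coch Q A) (U : Cᵒᵖ) (s : (Fy.obj A).obj U) :
    toHomApp Q A y U (FreeAbelianGroup.of s) = ev Q ((rho A).app U s) y :=
  FreeAbelianGroup.lift_apply_of _ _

theorem rho_nat {U V : Cᵒᵖ} (f : U ⟶ V) (s : (Fy.obj A).obj U) :
    (rho A).app V ((Fy.obj A).map f s) = pmap f.unop ≫ (rho A).app U s :=
  NatTrans.naturality_apply (rho A) f s

/-- the map `ℤ[F(A)] ⟶ Q` attached to a cochain -/
noncomputable def toHom (y : Coch Q A) : ZF A ⟶ Q where
  app U := AddCommGrpCat.ofHom (toHomApp Q A y U)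
  naturality U V f := by
    apply AddCommGrpCat.hom_ext
    apply FreeAbelianGroup.lift_ext
    intro s
    show toHomApp Q A y V (FreeAbelianGroup.map ((Fy.obj A).map f) (FreeAbelianGroup.of s)) =
      Q.map f (toHomApp Q A y U (FreeAbelianGroup.of s))
    rw [FreeAbelianGroup.map_of_apply, toHomApp_of, toHomApp_of, rho_nat]
    exact ev_map Q f.unop _ y

/-- the cochain attached to a map `ℤ[F(A)] ⟶ Q` -/
noncomputable def fromHom (φ : ZF A ⟶ Q) : Coch Q A :=
  fun i => φ.app (op (A.obj i)) (FreeAbelianGroup.of (sg A (pt A i (𝟙 _))))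

theorem toHom_app_of (y : Coch Q A) {U : C} (σ : pobj U ⟶ A) :
    (toHom Q A y).app (op U) (FreeAbelianGroup.of (sg A σ)) = ev Q σ y := by
  show toHomApp Q A y (op U) (FreeAbelianGroup.of (sg A σ)) = _
  rw [toHomApp_of, rho_sg]

theorem fromHom_toHom (y : Coch Q A) : fromHom Q A (toHom Q A y) = y := by
  funext i
  show (toHom Q A y).app (op (A.obj i)) (FreeAbelianGroup.of (sg A (pt A i (𝟙 _)))) = y i
  rw [toHom_app_of, ev_pt]
  show (Q.map (𝟙 (op (A.obj i)))) (y i) = y i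
  rw [Q.map_id]
  rfl

theorem pt_eq_pmap {U : C} (i : A.I) (c : U ⟶ A.obj i) : pt A i c = pmap c ≫ pt A i (𝟙 _) := by
  refine FormalCoproduct.hom_ext ?_ ?_
  · funext _; rfl
  · intro _
    show c ≫ eqToHom _ = c ≫ 𝟙 _
    simp

theorem app_of_sg (φ : ZF A ⟶ Q) {U : C} (σ : pobj U ⟶ A) :
    φ.app (op U) (FreeAbelianGroup.of (sg A σ)) = ev Q σ (fromHom Q A φ) := by
  have e : σ = pmap (σ.φ PUnit.unit) ≫ pt A (σ.f PUnit.unit) (𝟙 _) :=
    pt_eq_pmap A (σ.f PUnit.unit) (σ.φ PUnit.unit)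
  have h1 : sg A σ = (Fy.obj A).map (σ.φ PUnit.unit).op (sg A (pt A (σ.f PUnit.unit) (𝟙 _))) := by
    rw [sg_res, ← e]
  have h2 := NatTrans.naturality_apply φ (σ.φ PUnit.unit).op
    (FreeAbelianGroup.of (sg A (pt A (σ.f PUnit.unit) (𝟙 _))))
  rw [h1]
  refine Eq.trans ?_ h2
  congr 1

theorem toHom_fromHom (φ : ZF A ⟶ Q) : toHom Q A (fromHom Q A φ) = φ := by
  ext U : 2
  obtain ⟨U⟩ := U
  apply AddCommGrpCat.hom_ext
  apply FreeAbelianGroup.lift_ext
  intro s
  obtain ⟨σ, rfl⟩ := sg_surj A s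
  show (toHom Q A (fromHom Q A φ)).app (op U) (FreeAbelianGroup.of (sg A σ)) =
    φ.app (op U) (FreeAbelianGroup.of (sg A σ))
  rw [toHom_app_of, app_of_sg]

theorem fromHom_injective : Function.Injective (fromHom Q A) := by
  intro φ φ' h
  rw [← toHom_fromHom Q A φ, ← toHom_fromHom Q A φ', h]

theorem fromHom_zero : fromHom Q A 0 = 0 := by
  funext i
  rfl

end single

section complex

variable (K : SimplicialObject (FormalCoproduct.{u} C))

theorem fromHom_d (n : ℕ) (φ : (PC K).X n ⟶ Q) :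
    fromHom Q (K _⦋n + 1⦌) ((PC K).d (n + 1) n ≫ φ) =
      ∑ i : Fin (n + 2), (-1 : ℤ) ^ (i : ℕ) • pull Q (K.δ i) (fromHom Q (K _⦋n⦌) φ) := by
  funext j
  rw [Finset.sum_apply]
  let σ : Pt K (K _⦋n + 1⦌ |>.obj j) (n + 1) := pt (K _⦋n + 1⦌) j (𝟙 _)
  show φ.app _ (((PC K).d (n + 1) n).app _ (FreeAbelianGroup.of (sg (K _⦋n + 1⦌) σ))) = _
  rw [← Phi_of, Phi_d]
  unfold dd
  rw [AddMonoidHom.finsetSum_apply, map_sum, map_sum]
  refine Finset.sum_congr rfl (fun i _ => ?_)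
  rw [AddMonoidHom.smul_apply, map_zsmul, map_zsmul, Pi.smul_apply]
  congr 1
  have e1 : face K _ n i (FreeAbelianGroup.of σ) = FreeAbelianGroup.of (σ ≫ K.δ i) :=
    FreeAbelianGroup.map_of_apply _
  rw [e1, Phi_of]
  refine (app_of_sg Q (K _⦋n⦌) φ (σ ≫ K.δ i)).trans ?_
  rw [ev_comp, ev_pt]
  show (Q.map (𝟙 (op _))) _ = _
  rw [Q.map_id]
  rfl

theorem cochX_d (n : ℕ) (x : (Cx Q K).X n) :
    cochX Q K (n + 1) ((Cx Q K).d n (n + 1) x) =
      ∑ i : Fin (n + 2), (-1 : ℤ) ^ (i : ℕ) • pull Q (K.δ i) (cochX Q K n x) := by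
  have e2 : ∀ (x : EV Q (K.obj (op (SimplexCategory.mk n)))),
      (∑ i : Fin (n + 2), (-1 : ℤ) ^ (i : ℕ) •
        (((FormalCoproduct.evalOp.{u} C AddCommGrpCat.{u}).obj Q).map (K.δ i).op :
          EV Q (K.obj (op (SimplexCategory.mk n))) ⟶
            EV Q (K.obj (op (SimplexCategory.mk (n + 1)))))) x =
      ∑ i : Fin (n + 2), (-1 : ℤ) ^ (i : ℕ) •
        ((((FormalCoproduct.evalOp.{u} C AddCommGrpCat.{u}).obj Q).map (K.δ i).op) x) := by
    intro x
    have h1 := map_sum (AddCommGrpCat.homAddEquiv (M := EV Q (K.obj (op (SimplexCategory.mk n))))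
      (N := EV Q (K.obj (op (SimplexCategory.mk (n + 1))))))
      (fun i : Fin (n + 2) => (-1 : ℤ) ^ (i : ℕ) •
        ((FormalCoproduct.evalOp.{u} C AddCommGrpCat.{u}).obj Q).map (K.δ i).op) Finset.univ
    have h2 := DFunLike.congr_fun h1 x
    rw [AddMonoidHom.finsetSum_apply] at h2
    exact h2
  have e3 : (Cx Q K).d n (n + 1) x = _ := (ConcreteCategory.congr_hom (d_eq Q K n) x).trans (e2 x)
  rw [e3]
  show coch Q _ _ = _
  rw [map_sum]
  refine Finset.sum_congr rfl (fun i _ => ?_)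
  rw [map_zsmul, coch_map]
  rfl

end complex

section main

variable (J : GrothendieckTopology C) (K : SimplicialObject (FormalCoproduct.{u} C))
  (I : Sheaf J AddCommGrpCat.{u}) [Injective I]

theorem exists_primitive (p : ℕ)
    (hEx : IsZero ((Hyper.freeChainCx J K).homology (p + 1)))
    (y : Coch I.obj (K _⦋p + 1⦌))
    (hy : ∑ i : Fin (p + 3), (-1 : ℤ) ^ (i : ℕ) • pull I.obj (K.δ i) y = 0) :
    ∃ x : Coch I.obj (K _⦋p⦌),
      ∑ i : Fin (p + 2), (-1 : ℤ) ^ (i : ℕ) • pull I.obj (K.δ i) x = y := by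
  let a := presheafToSheaf J AddCommGrpCat.{u}
  let adj := sheafificationAdjunction J AddCommGrpCat.{u}
  let φ : (PC K).X (p + 1) ⟶ I.obj := toHom I.obj (K _⦋p + 1⦌) y
  have hφ : (PC K).d (p + 2) (p + 1) ≫ φ = 0 := by
    apply fromHom_injective
    rw [fromHom_d, fromHom_zero]
    show ∑ i : Fin (p + 3), (-1 : ℤ) ^ (i : ℕ) • pull I.obj (K.δ i)
      (fromHom I.obj (K _⦋p + 1⦌) (toHom I.obj (K _⦋p + 1⦌) y)) = 0
    rw [fromHom_toHom]
    exact hy
  let G := (a.mapHomologicalComplex (ComplexShape.down ℕ)).obj (PC K)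
  have hG : (G.sc' (p + 2) (p + 1) p).Exact := by
    rw [← HomologicalComplex.exactAt_iff' _ (p + 2) (p + 1) p (by simp) (by simp),
      HomologicalComplex.exactAt_iff_isZero_homology]
    have e := freeChainCx_eq K J
    rw [e] at hEx
    exact hEx
  let φs : a.obj ((PC K).X (p + 1)) ⟶ I := (adj.homEquiv _ I).symm φ
  have hφs : (G.sc' (p + 2) (p + 1) p).f ≫ φs = 0 := by
    apply (adj.homEquiv _ I).injective
    show adj.homEquiv _ I (a.map ((PC K).d (p + 2) (p + 1)) ≫ (adj.homEquiv _ I).symm φ) =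
      adj.homEquiv _ I 0
    rw [Adjunction.homEquiv_naturality_left, Equiv.apply_symm_apply, hφ, Adjunction.homEquiv_unit,
      Functor.map_zero, comp_zero]
  let ψ : a.obj ((PC K).X p) ⟶ I := hG.descToInjective φs hφs
  have hψ : a.map ((PC K).d (p + 1) p) ≫ ψ = φs := hG.comp_descToInjective φs hφs
  let ψf : (PC K).X p ⟶ I.obj := adj.homEquiv _ I ψ
  have hψf : (PC K).d (p + 1) p ≫ ψf = φ := by
    show (PC K).d (p + 1) p ≫ adj.homEquiv _ I ψ = φ
    rw [← Adjunction.homEquiv_naturality_left, hψ]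
    exact (adj.homEquiv _ I).apply_symm_apply φ
  refine ⟨fromHom I.obj (K _⦋p⦌) ψf, ?_⟩
  rw [← fromHom_d, hψf]
  exact fromHom_toHom I.obj _ y

theorem isZero_homology_succ (p : ℕ)
    (hEx : IsZero ((Hyper.freeChainCx J K).homology (p + 1))) :
    IsZero ((Cx I.obj K).homology (p + 1)) := by
  rw [← HomologicalComplex.exactAt_iff_isZero_homology,
    HomologicalComplex.exactAt_iff' _ p (p + 1) (p + 2) (by simp) (by simp),
    ShortComplex.ab_exact_iff]
  intro x₂ hx₂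
  have hx : (Cx I.obj K).d (p + 1) (p + 2) x₂ = 0 := hx₂
  have hy : ∑ i : Fin (p + 3), (-1 : ℤ) ^ (i : ℕ) • pull I.obj (K.δ i) (cochX I.obj K (p + 1) x₂) = 0 := by
    rw [← cochX_d, hx, map_zero]
  obtain ⟨x, hx'⟩ := exists_primitive J K I p hEx _ hy
  refine ⟨(cochX I.obj K p).symm x, ?_⟩
  apply (cochX I.obj K (p + 1)).injective
  show cochX I.obj K (p + 1) ((Cx I.obj K).d p (p + 1) ((cochX I.obj K p).symm x)) = _
  rw [cochX_d, AddEquiv.apply_symm_apply]
  exact hx'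

end main

end Groth.Agent.H6.HyInj
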