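import Mathlib
import Groth.Prelude.Def_Hyper
import Groth.Agent.Lib.Helper6.HyAcD

/-! Helper6: forgetting the base of a simplicial formal coproduct over `X`; cycles are locally
boundaries (decomposition of chains according to the base point). -/

set_option autoImplicit false
open CategoryTheory CategoryTheory.Limits Opposite Simplicial SimplexCategory

universe u

namespace Groth.Agent.H6.HyOv

open Groth.Agent.H6.HyCoch Groth.Agent.H6.HyYo Groth.Agent.H6.HyAc

variable {C : Type u} [SmallCategory C]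

section forget

variable (X : C)

/-- forgetting the structure maps of a formal coproduct of objects over `X` -/
def forgetFC : FormalCoproduct.{u} (Over X) ⥤ FormalCoproduct.{u} C where
  obj A := ⟨A.I, fun i => (A.obj i).left⟩
  map f := ⟨f.f, fun i => (f.φ i).left⟩
  map_id _ := rfl
  map_comp _ _ := rfl

variable (K : SimplicialObject (FormalCoproduct.{u} (Over X)))

/-- the underlying simplicial formal coproduct of `C` -/
abbrev KC : SimplicialObject (FormalCoproduct.{u} C) := K ⋙ forgetFC X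

theorem cx_eq (P : Cᵒᵖ ⥤ AddCommGrpCat.{u}) :
    Cx ((Over.forget X).op ⋙ P) K = Cx P (KC X K) := rfl

end forget

section LB

variable (J : GrothendieckTopology C) (L : SimplicialObject (FormalCoproduct.{u} C))

/-- a chain is locally a boundary -/
def LB (U : C) (n : ℕ) (z : Ch L U (n + 1)) : Prop :=
  ∃ S : Sieve U, S ∈ J U ∧ ∀ ⦃V : C⦄ (h : V ⟶ U), S h →
    ∃ w : Ch L V (n + 2), dd L V (n + 1) w = res L h (n + 1) z

theorem LB_zero (U : C) (n : ℕ) : LB J L U n 0 :=
  ⟨⊤, J.top_mem U, fun _ h _ => ⟨0, by rw [map_zero, map_zero]⟩⟩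

theorem LB_add (U : C) (n : ℕ) (z z' : Ch L U (n + 1)) (hz : LB J L U n z) (hz' : LB J L U n z') :
    LB J L U n (z + z') := by
  obtain ⟨S, hS, H⟩ := hz
  obtain ⟨S', hS', H'⟩ := hz'
  refine ⟨S ⊓ S', J.intersection_covering hS hS', ?_⟩
  rintro V h ⟨h1, h2⟩
  obtain ⟨w, hw⟩ := H h h1
  obtain ⟨w', hw'⟩ := H' h h2
  exact ⟨w + w', by rw [map_add, map_add, hw, hw']⟩

theorem LB_sum (U : C) (n : ℕ) {ι : Type*} (F : Finset ι) (z : ι → Ch L U (n + 1))
    (hz : ∀ x ∈ F, LB J L U n (z x)) : LB J L U n (∑ x ∈ F, z x) := by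
  classical
  induction F using Finset.induction_on with
  | empty => rw [Finset.sum_empty]; exact LB_zero J L U n
  | insert a s ha ih =>
    rw [Finset.sum_insert ha]
    exact LB_add J L U n _ _ (hz a (Finset.mem_insert_self a s))
      (ih (fun x hx => hz x (Finset.mem_insert_of_mem hx)))

end LB

section decomp

variable {X : C} (K : SimplicialObject (FormalCoproduct.{u} (Over X)))

/-- the base point of a simplex of the underlying simplicial formal coproduct -/
abbrev bx {U : C} {n : ℕ} (μ : Pt (KC X K) U n) : U ⟶ X :=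
  μ.φ PUnit.unit ≫ ((K _⦋n⦌).obj (μ.f PUnit.unit)).hom

/-- a simplex over `x` as a simplex of the underlying simplicial formal coproduct -/
def up {U : C} (x : U ⟶ X) {n : ℕ} (σ : Pt K (Over.mk x) n) : Pt (KC X K) U n :=
  pt ((KC X K) _⦋n⦌) (σ.f PUnit.unit) (σ.φ PUnit.unit).left

/-- a simplex with base point `x` as a simplex over `x` -/
def low {U : C} (x : U ⟶ X) {n : ℕ} (μ : Pt (KC X K) U n) (e : bx K μ = x) :
    Pt K (Over.mk x) n :=
  pt (K _⦋n⦌) (μ.f PUnit.unit) (Over.homMk (μ.φ PUnit.unit) e)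

theorem up_low {U : C} (x : U ⟶ X) {n : ℕ} (μ : Pt (KC X K) U n) (e : bx K μ = x) :
    up K x (low K x μ e) = μ := rfl

theorem bx_up {U : C} (x : U ⟶ X) {n : ℕ} (σ : Pt K (Over.mk x) n) : bx K (up K x σ) = x :=
  Over.w (σ.φ PUnit.unit)

theorem up_comp_δ {U : C} (x : U ⟶ X) {n : ℕ} (σ : Pt K (Over.mk x) (n + 1)) (i : Fin (n + 2)) :
    up K x (σ ≫ K.δ i) = up K x σ ≫ (KC X K).δ i := rfl

theorem up_pmap {U V : C} (h : V ⟶ U) (x : U ⟶ X) {n : ℕ} (σ : Pt K (Over.mk x) n) :
    up K (h ≫ x) (pmap (Over.homMk h rfl : Over.mk (h ≫ x) ⟶ Over.mk x) ≫ σ) =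
      pmap h ≫ up K x σ := rfl

theorem bx_comp_δ {U : C} {n : ℕ} (μ : Pt (KC X K) U (n + 1)) (i : Fin (n + 2)) :
    bx K (μ ≫ (KC X K).δ i) = bx K μ := by
  have h := Over.w ((K.δ i).φ (μ.f PUnit.unit))
  exact (Category.assoc (μ.φ PUnit.unit) ((K.δ i).φ (μ.f PUnit.unit)).left _).trans
    (congrArg (fun t => μ.φ PUnit.unit ≫ t) h)

theorem low_comp_δ {U : C} (x : U ⟶ X) {n : ℕ} (μ : Pt (KC X K) U (n + 1)) (i : Fin (n + 2))
    (e : bx K μ = x) (e' : bx K (μ ≫ (KC X K).δ i) = x) :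
    low K x (μ ≫ (KC X K).δ i) e' = low K x μ e ≫ K.δ i := by
  have h : (Over.homMk (μ.φ PUnit.unit ≫ ((K.δ i).φ (μ.f PUnit.unit)).left) e' :
      Over.mk x ⟶ (K _⦋n⦌).obj ((K.δ i).f (μ.f PUnit.unit))) =
      Over.homMk (μ.φ PUnit.unit) e ≫ (K.δ i).φ (μ.f PUnit.unit) := Over.OverMorphism.ext rfl
  exact congrArg (pt (K _⦋n⦌) ((K.δ i).f (μ.f PUnit.unit))) h

/-- inclusion of the chains over `x` -/
def iot {U : C} (x : U ⟶ X) (n : ℕ) : Ch K (Over.mk x) n →+ Ch (KC X K) U n :=
  FreeAbelianGroup.map (up K x)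

open Classical in
/-- the component over `x` of a simplex -/
noncomputable def dwn {U : C} (x : U ⟶ X) (n : ℕ) (μ : Pt (KC X K) U n) : Ch K (Over.mk x) n :=
  if e : bx K μ = x then FreeAbelianGroup.of (low K x μ e) else 0

/-- the component over `x` of a chain -/
noncomputable def rh {U : C} (x : U ⟶ X) (n : ℕ) : Ch (KC X K) U n →+ Ch K (Over.mk x) n :=
  FreeAbelianGroup.lift (dwn K x n)

theorem iot_of {U : C} (x : U ⟶ X) (n : ℕ) (σ : Pt K (Over.mk x) n) :
    iot K x n (FreeAbelianGroup.of σ) = FreeAbelianGroup.of (up K x σ) :=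
  FreeAbelianGroup.map_of_apply _

theorem rh_of {U : C} (x : U ⟶ X) (n : ℕ) (μ : Pt (KC X K) U n) :
    rh K x n (FreeAbelianGroup.of μ) = dwn K x n μ :=
  FreeAbelianGroup.lift_apply_of _ _

theorem iot_dd {U : C} (x : U ⟶ X) (n : ℕ) (z : Ch K (Over.mk x) (n + 1)) :
    dd (KC X K) U n (iot K x (n + 1) z) = iot K x n (dd K (Over.mk x) n z) := by
  induction z using FreeAbelianGroup.induction_on with
  | zero => rw [map_zero, map_zero, map_zero, map_zero]
  | of σ =>
    rw [iot_of, dd_of, dd_of, map_sum]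
    refine Finset.sum_congr rfl (fun i _ => ?_)
    rw [map_zsmul, iot_of, up_comp_δ]
  | neg x hx => rw [map_neg, map_neg, hx, map_neg, map_neg]
  | add x y hx hy => rw [map_add, map_add, hx, hy, map_add, map_add]

theorem rh_dd {U : C} (x : U ⟶ X) (n : ℕ) (z : Ch (KC X K) U (n + 1)) :
    rh K x n (dd (KC X K) U n z) = dd K (Over.mk x) n (rh K x (n + 1) z) := by
  induction z using FreeAbelianGroup.induction_on with
  | zero => rw [map_zero, map_zero, map_zero, map_zero]
  | of μ =>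
    rw [rh_of, dd_of, map_sum]
    by_cases e : bx K μ = x
    · have e1 : dwn K x (n + 1) μ = FreeAbelianGroup.of (low K x μ e) := dif_pos e
      rw [e1, dd_of]
      refine Finset.sum_congr rfl (fun i _ => ?_)
      have e' : bx K (μ ≫ (KC X K).δ i) = x := (bx_comp_δ K μ i).trans e
      have e2 : dwn K x n (μ ≫ (KC X K).δ i) =
          FreeAbelianGroup.of (low K x (μ ≫ (KC X K).δ i) e') := dif_pos e'
      rw [map_zsmul, rh_of, e2, low_comp_δ K x μ i e e']
    · have e1 : dwn K x (n + 1) μ = 0 := dif_neg e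
      rw [e1, map_zero]
      refine Finset.sum_eq_zero (fun i _ => ?_)
      have e' : ¬ bx K (μ ≫ (KC X K).δ i) = x := fun h => e ((bx_comp_δ K μ i).symm.trans h)
      have e2 : dwn K x n (μ ≫ (KC X K).δ i) = 0 := dif_neg e'
      rw [map_zsmul, rh_of, e2, smul_zero]
  | neg x hx => rw [map_neg, map_neg, hx, map_neg, map_neg]
  | add x y hx hy => rw [map_add, map_add, hx, hy, map_add, map_add]

theorem iot_res {U V : C} (h : V ⟶ U) (x : U ⟶ X) (n : ℕ) (z : Ch K (Over.mk x) n) :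
    res (KC X K) h n (iot K x n z) =
      iot K (h ≫ x) n (res K (Over.homMk h rfl : Over.mk (h ≫ x) ⟶ Over.mk x) n z) := by
  induction z using FreeAbelianGroup.induction_on with
  | zero => rw [map_zero, map_zero, map_zero, map_zero]
  | of σ =>
    have e1 : res K (Over.homMk h rfl : Over.mk (h ≫ x) ⟶ Over.mk x) n (FreeAbelianGroup.of σ) =
        FreeAbelianGroup.of (pmap (Over.homMk h rfl : Over.mk (h ≫ x) ⟶ Over.mk x) ≫ σ) :=
      FreeAbelianGroup.map_of_apply _
    have e2 : res (KC X K) h n (FreeAbelianGroup.of (up K x σ)) =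
        FreeAbelianGroup.of (pmap h ≫ up K x σ) := FreeAbelianGroup.map_of_apply _
    rw [iot_of, e1, iot_of, e2, up_pmap]
  | neg x hx => rw [map_neg, map_neg, hx, map_neg, map_neg]
  | add x y hx hy => rw [map_add, map_add, hx, hy, map_add, map_add]

open Classical in
theorem iot_dwn {U : C} (x : U ⟶ X) (n : ℕ) (μ : Pt (KC X K) U n) :
    iot K x n (dwn K x n μ) = if bx K μ = x then FreeAbelianGroup.of μ else 0 := by
  by_cases e : bx K μ = x
  · have e1 : dwn K x n μ = FreeAbelianGroup.of (low K x μ e) := dif_pos e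
    rw [e1, iot_of, up_low, if_pos e]
  · have e1 : dwn K x n μ = 0 := dif_neg e
    rw [e1, map_zero, if_neg e]

theorem exists_decomp {U : C} (n : ℕ) (z : Ch (KC X K) U n) :
    ∃ F : Finset (U ⟶ X), ∀ F' : Finset (U ⟶ X), F ⊆ F' →
      ∑ x ∈ F', iot K x n (rh K x n z) = z := by
  classical
  induction z using FreeAbelianGroup.induction_on with
  | zero =>
    refine ⟨∅, fun F' _ => ?_⟩
    refine Finset.sum_eq_zero (fun x _ => ?_)
    rw [map_zero, map_zero]
  | of μ =>
    refine ⟨{bx K μ}, fun F' hF' => ?_⟩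
    have e : ∀ x ∈ F', iot K x n (rh K x n (FreeAbelianGroup.of μ)) =
        if bx K μ = x then FreeAbelianGroup.of μ else 0 := fun x _ => by
      rw [rh_of, iot_dwn]
    rw [Finset.sum_congr rfl e, Finset.sum_ite_eq, if_pos (hF' (Finset.mem_singleton_self _))]
  | neg x hx =>
    obtain ⟨F, hF⟩ := hx
    refine ⟨F, fun F' hF' => ?_⟩
    have h1 := hF F' hF'
    refine (Finset.sum_congr rfl (fun y _ => ?_)).trans
      ((Finset.sum_neg_distrib _).trans (congrArg Neg.neg h1))
    rw [map_neg, map_neg]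
  | add x y hx hy =>
    obtain ⟨F, hF⟩ := hx
    obtain ⟨G, hG⟩ := hy
    refine ⟨F ∪ G, fun F' hF' => ?_⟩
    have h1 := hF F' (Finset.union_subset_left hF')
    have h2 := hG F' (Finset.union_subset_right hF')
    refine (Finset.sum_congr rfl (fun y _ => ?_)).trans
      (Finset.sum_add_distrib.trans (congrArg₂ (· + ·) h1 h2))
    rw [map_add, map_add]

end decomp

section main

variable (J : GrothendieckTopology C) {X : C} (K : SimplicialObject (FormalCoproduct.{u} (Over X)))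
  (hF : ∀ m : ℕ, Groth.Agent.H6.HyFaceB.Fill (J.over X) K m Set.univ)
  (hP : ∀ U : Over X, Groth.Agent.H6.HySiteH0.Sa K U ∈ J.over X U)

include hF hP in
theorem LB_iot {U : C} (x : U ⟶ X) (n : ℕ) (y : Ch K (Over.mk x) (n + 1))
    (hy : dd K (Over.mk x) n y = 0) : LB J (KC X K) U n (iot K x (n + 1) y) := by
  obtain ⟨S, hS, H⟩ := cycle_locally_boundary K (J.over X) hF hP n (Over.mk x) y hy
  refine ⟨Sieve.overEquiv _ S, (J.mem_over_iff S).1 hS, ?_⟩
  intro V h hh
  have h1 : S (Over.homMk h rfl : Over.mk (h ≫ x) ⟶ Over.mk x) := (Sieve.overEquiv_iff S h).1 hh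
  obtain ⟨w, hw⟩ := H _ h1
  exact ⟨iot K (h ≫ x) (n + 2) w, by rw [iot_dd, hw, iot_res]⟩

include hF hP in
theorem LB_of_cycle (n : ℕ) (U : C) (z : Ch (KC X K) U (n + 1))
    (hz : dd (KC X K) U n z = 0) : LB J (KC X K) U n z := by
  obtain ⟨F, hFz⟩ := exists_decomp K (n + 1) z
  rw [← hFz F (Finset.Subset.refl F)]
  apply LB_sum
  intro x _
  apply LB_iot J K hF hP
  rw [← rh_dd, hz, map_zero]

end main

section sheaf

variable (J : GrothendieckTopology C) (L : SimplicialObject (FormalCoproduct.{u} C))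

theorem locally_exact_succ_of_LB (n : ℕ)
    (hL : ∀ (U : C) (z : Ch L U (n + 1)), dd L U n z = 0 → LB J L U n z)
    (U : C) (z : ((PC L).X (n + 1)).obj (op U))
    (hz : ((PC L).d (n + 1) n).app (op U) z = 0) :
    ∃ S : Sieve U, S ∈ J U ∧ ∀ ⦃V : C⦄ (f : V ⟶ U), S f →
      ∃ w : ((PC L).X (n + 2)).obj (op V),
        ((PC L).d (n + 2) (n + 1)).app (op V) w = ((PC L).X (n + 1)).map f.op z := by
  obtain ⟨z', rfl⟩ := (Phi_bijective L U (n + 1)).2 z
  have hz' : dd L U n z' = 0 := by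
    apply (Phi_bijective L U n).1
    rw [← Phi_d, hz, map_zero]
  obtain ⟨S, hS, H⟩ := hL U z' hz'
  refine ⟨S, hS, ?_⟩
  intro V f hf
  obtain ⟨w', hw'⟩ := H f hf
  exact ⟨Phi L V (n + 2) w', by rw [Phi_d, hw', Phi_res]⟩

theorem isZero_homology_succ_of_LB (n : ℕ)
    (hL : ∀ (U : C) (z : Ch L U (n + 1)), dd L U n z = 0 → LB J L U n z) :
    IsZero ((Hyper.freeChainCx J L).homology (n + 1)) := by
  rw [← HomologicalComplex.exactAt_iff_isZero_homology,
    HomologicalComplex.exactAt_iff' _ (n + 2) (n + 1) n (by simp) (by simp)]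
  have e := freeChainCx_eq L J
  have h1 : ((((presheafToSheaf J AddCommGrpCat.{u}).mapHomologicalComplex _).obj (PC L)).sc'
      (n + 2) (n + 1) n).Exact :=
    Groth.Agent.H6.ShLocEx.exact_map_sheafify J ((PC L).sc' (n + 2) (n + 1) n)
      (locally_exact_succ_of_LB J L n hL)
  rw [e]
  exact h1

end sheaf

end Groth.Agent.H6.HyOv
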