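import Mathlib
import Groth.Prelude.Def_Hyper
import Groth.Agent.Lib.Helper6.HyOvA
import Groth.Agent.Lib.Helper6.HyInj
import Groth.Agent.Lib.Helper6.HyAcE

/-! Helper6: Cech cohomology of an injective abelian sheaf with respect to a hypercovering of an
object `X` vanishes in positive degrees (S895). -/

set_option autoImplicit false
open CategoryTheory CategoryTheory.Limits Opposite Simplicial SimplexCategory

universe u

namespace Groth.Agent.H6.HyOv

variable {C : Type u} [SmallCategory C] [HasPullbacks C]
    (J : GrothendieckTopology C) (X : C) (K : SimplicialObject (FormalCoproduct.{u} (Over X)))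
    [∀ (n : ℕ) (F : (SimplexCategory.Truncated n)ᵒᵖ ⥤ FormalCoproduct.{u} (Over X)),
      (SimplexCategory.Truncated.inclusion n).op.HasRightKanExtension F]

/-- the complex of free abelian sheaves on the underlying simplicial formal coproduct of a
hypercovering of `X` is acyclic in positive degrees -/
theorem isZero_homology_succ_KC (hK : Hyper.IsHypercovering J X K) (n : ℕ) :
    IsZero ((Hyper.freeChainCx J (KC X K)).homology (n + 1)) := by
  have hF : ∀ m : ℕ, Groth.Agent.H6.HyFaceB.Fill (J.over X) K m Set.univ :=
    fun m => Groth.Agent.H6.HyFaceB.fill_full (J.over X) K hK.2 m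
  have hP := Groth.Agent.H6.HyFaceB.hpt_of hK
  exact isZero_homology_succ_of_LB J (KC X K) n (fun U z hz => LB_of_cycle J K hF hP n U z hz)

theorem main_over (hK : Hyper.IsHypercovering J X K) (I : Sheaf J AddCommGrpCat.{u}) [Injective I]
    (p : ℕ) : IsZero (Hyper.cechH X K I.obj (p + 1)) :=
  Groth.Agent.H6.HyInj.isZero_homology_succ J (KC X K) I p (isZero_homology_succ_KC J X K hK p)

end Groth.Agent.H6.HyOv
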