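import Mathlib
import Groth.Prelude.Def_Hyper
import Groth.Prelude.Def_CohSite
import Groth.Agent.Lib.Helper6.HyOvB
import Groth.Agent.Lib.Helper6.HyH0
import Groth.Agent.Lib.Lead.Cech.SiteLeray

/-! Helper6: Cech cohomology with respect to a hypercovering of an abelian sheaf whose higher
cohomology vanishes on all objects (S3893), by dimension shifting. -/

set_option autoImplicit false
open CategoryTheory CategoryTheory.Limits Opposite Simplicial SimplexCategory Abelian

universe u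

namespace Groth.Agent.H6.HyLer

open Groth.Agent.H6.HyCoch Groth.Agent.H6.HyYo Groth.Agent.H6.HyAc

section general

variable {D : Type u} [SmallCategory D] (P : Dᵒᵖ ⥤ AddCommGrpCat.{u})
  (L : SimplicialObject (FormalCoproduct.{u} D))

/-- the Cech differential on concrete cochains -/
noncomputable def dC (n : ℕ) : Coch P (L _⦋n⦌) →+ Coch P (L _⦋n + 1⦌) :=
  ((cochX P L (n + 1)).toAddMonoidHom.comp ((Cx P L).d n (n + 1)).hom).comp
    (cochX P L n).symm.toAddMonoidHom

theorem dC_apply (n : ℕ) (x : Coch P (L _⦋n⦌)) :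
    dC P L n x = ∑ i : Fin (n + 2), (-1 : ℤ) ^ (i : ℕ) • pull P (L.δ i) x := by
  show cochX P L (n + 1) ((Cx P L).d n (n + 1) ((cochX P L n).symm x)) = _
  rw [Groth.Agent.H6.HyInj.cochX_d, AddEquiv.apply_symm_apply]

theorem dC_cochX (n : ℕ) (x : (Cx P L).X n) :
    dC P L n (cochX P L n x) = cochX P L (n + 1) ((Cx P L).d n (n + 1) x) := by
  show cochX P L (n + 1) ((Cx P L).d n (n + 1) ((cochX P L n).symm (cochX P L n x))) = _
  rw [AddEquiv.symm_apply_apply]

theorem dC_dC (n : ℕ) (x : Coch P (L _⦋n⦌)) : dC P L (n + 1) (dC P L n x) = 0 := by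
  show cochX P L (n + 2) ((Cx P L).d (n + 1) (n + 2) ((cochX P L (n + 1)).symm
    (cochX P L (n + 1) ((Cx P L).d n (n + 1) ((cochX P L n).symm x))))) = 0
  rw [AddEquiv.symm_apply_apply]
  have h := ConcreteCategory.congr_hom ((Cx P L).d_comp_d n (n + 1) (n + 2)) ((cochX P L n).symm x)
  rw [ConcreteCategory.comp_apply] at h
  rw [h]
  exact map_zero _

theorem cocycle_zero (x : Coch P (L _⦋0⦌)) (h : dC P L 0 x = 0) :
    pull P (L.δ (0 : Fin 2)) x = pull P (L.δ (1 : Fin 2)) x := by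
  rw [dC_apply, Fin.sum_univ_two] at h
  simp only [Fin.val_zero, Fin.val_one, pow_zero, pow_one, one_smul, neg_smul] at h
  exact add_neg_eq_zero.1 h

theorem isZero_homology_succ_of_primitive (p : ℕ)
    (h : ∀ y : Coch P (L _⦋p + 1⦌), dC P L (p + 1) y = 0 → ∃ x : Coch P (L _⦋p⦌), dC P L p x = y) :
    IsZero ((Cx P L).homology (p + 1)) := by
  rw [← HomologicalComplex.exactAt_iff_isZero_homology,
    HomologicalComplex.exactAt_iff' _ p (p + 1) (p + 2) (by simp) (by simp),
    ShortComplex.ab_exact_iff]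
  intro x₂ hx₂
  have hx : (Cx P L).d (p + 1) (p + 2) x₂ = 0 := hx₂
  obtain ⟨x, hx'⟩ := h (cochX P L (p + 1) x₂) (by rw [dC_cochX, hx, map_zero])
  refine ⟨(cochX P L p).symm x, ?_⟩
  apply (cochX P L (p + 1)).injective
  exact hx'

variable {P} {P' : Dᵒᵖ ⥤ AddCommGrpCat.{u}} (α : P ⟶ P')

/-- the map on cochains induced by a map of presheaves -/
def mapC (A : FormalCoproduct.{u} D) : Coch P A →+ Coch P' A where
  toFun x i := α.app (op (A.obj i)) (x i)
  map_zero' := by
    funext i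
    exact map_zero (α.app (op (A.obj i))).hom
  map_add' x y := by
    funext i
    exact map_add (α.app (op (A.obj i))).hom (x i) (y i)

theorem pull_mapC {A B : FormalCoproduct.{u} D} (f : A ⟶ B) (x : Coch P B) :
    pull P' f (mapC α B x) = mapC α A (pull P f x) := by
  funext i
  exact (NatTrans.naturality_apply α (f.φ i).op (x (f.f i))).symm

theorem mapC_dC (n : ℕ) (x : Coch P (L _⦋n⦌)) :
    mapC α _ (dC P L n x) = dC P' L n (mapC α _ x) := by
  rw [dC_apply, dC_apply, map_sum]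
  refine Finset.sum_congr rfl (fun i _ => ?_)
  rw [map_zsmul, pull_mapC]

end general

section overX

variable {C : Type u} [SmallCategory C] [HasPullbacks C] {J : GrothendieckTopology C} {X : C}

/-- the map of restricted presheaves induced by a map of sheaves -/
abbrev qmap {F G : Sheaf J AddCommGrpCat.{u}} (f : F ⟶ G) :
    Groth.Agent.H6.HyH0.Q X F ⟶ Groth.Agent.H6.HyH0.Q X G :=
  Functor.whiskerLeft (Over.forget X).op f.hom

theorem mapC_zero_comp (S : ShortComplex (Sheaf J AddCommGrpCat.{u}))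
    (A : FormalCoproduct.{u} (Over X)) (c : Coch (Groth.Agent.H6.HyH0.Q X S.X₁) A) :
    mapC (qmap (X := X) S.g) A (mapC (qmap (X := X) S.f) A c) = 0 := by
  funext i
  have h : S.f.hom ≫ S.g.hom = 0 := by
    have := congrArg (fun φ => φ.hom) S.zero
    exact this
  exact ConcreteCategory.congr_hom (congrArg (fun φ => φ.app (op ((A.obj i).left))) h) (c i)

theorem mapC_f_injective {S : ShortComplex (Sheaf J AddCommGrpCat.{u})} (hS : S.ShortExact)
    (A : FormalCoproduct.{u} (Over X)) : Function.Injective (mapC (qmap (X := X) S.f) A) := by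
  haveI := hS.mono_f
  intro x y h
  funext i
  exact Groth.Agent.LD.CH.app_injective_of_mono S.f _ (congrFun h i)

theorem mapC_exact {S : ShortComplex (Sheaf J AddCommGrpCat.{u})} (hS : S.ShortExact)
    (A : FormalCoproduct.{u} (Over X)) (y : Coch (Groth.Agent.H6.HyH0.Q X S.X₂) A)
    (hy : mapC (qmap (X := X) S.g) A y = 0) :
    ∃ x : Coch (Groth.Agent.H6.HyH0.Q X S.X₁) A, mapC (qmap (X := X) S.f) A x = y := by
  have h1 : ∀ i : A.I, ∃ x : S.X₁.obj.obj (op (A.obj i).left),
      S.f.hom.app (op (A.obj i).left) x = y i := fun i =>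
    Groth.Agent.LD.CH.app_exact hS _ (y i) (congrFun hy i)
  choose x hx using h1
  exact ⟨x, funext hx⟩

theorem mapC_g_surjective {S : ShortComplex (Sheaf J AddCommGrpCat.{u})}
    (hsurj : ∀ U : C, Function.Surjective (S.g.hom.app (op U)))
    (A : FormalCoproduct.{u} (Over X)) : Function.Surjective (mapC (qmap (X := X) S.g) A) := by
  intro z
  have h1 : ∀ i : A.I, ∃ y : S.X₂.obj.obj (op (A.obj i).left),
      S.g.hom.app (op (A.obj i).left) y = z i := fun i => hsurj _ (z i)
  choose y hy using h1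
  exact ⟨y, funext hy⟩

open Groth.Agent.H6.HyH0 in
theorem mapC_augA {F G : Sheaf J AddCommGrpCat.{u}} (f : F ⟶ G) (A : FormalCoproduct.{u} (Over X))
    (s : F.obj.obj (op X)) :
    mapC (qmap (X := X) f) A (augA F A s) = augA G A (f.hom.app (op X) s) := by
  funext i
  exact NatTrans.naturality_apply f.hom (A.obj i).hom.op s

variable (K : SimplicialObject (FormalCoproduct.{u} (Over X)))

open Groth.Agent.H6.HyH0 in
theorem dC_augA (F : Sheaf J AddCommGrpCat.{u}) (s : F.obj.obj (op X)) :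
    dC (Q X F) K 0 (augA F (K _⦋0⦌) s) = 0 := by
  rw [dC_apply, Fin.sum_univ_two, pull_augA, pull_augA]
  simp

variable [∀ (n : ℕ) (F : (SimplexCategory.Truncated n)ᵒᵖ ⥤ FormalCoproduct.{u} (Over X)),
      (SimplexCategory.Truncated.inclusion n).op.HasRightKanExtension F]

open Groth.Agent.H6.HyH0 in
theorem exists_primitive_inj (hK : Hyper.IsHypercovering J X K) (I : Sheaf J AddCommGrpCat.{u})
    [Injective I] (p : ℕ) (y : Coch (Q X I) (K _⦋p + 1⦌)) (hy : dC (Q X I) K (p + 1) y = 0) :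
    ∃ x : Coch (Q X I) (K _⦋p⦌), dC (Q X I) K p x = y := by
  rw [dC_apply] at hy
  obtain ⟨x, hx⟩ := Groth.Agent.H6.HyInj.exists_primitive J (Groth.Agent.H6.HyOv.KC X K) I p
    (Groth.Agent.H6.HyOv.isZero_homology_succ_KC J X K hK p) y hy
  exact ⟨x, (dC_apply (Q X I) K p x).trans hx⟩

open Groth.Agent.H6.HyH0 Groth.Agent.LD.CH Groth.Agent.LD in
theorem exists_primitive_of_acyclic (hK : Hyper.IsHypercovering J X K) (p : ℕ) :
    ∀ (F : Sheaf J AddCommGrpCat.{u})
      (_ : ∀ (U : C) (q : ℕ), Subsingleton (Ext (SC.ZU J U) F (q + 1)))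
      (c : Coch (Q X F) (K _⦋p + 1⦌)), dC (Q X F) K (p + 1) c = 0 →
        ∃ a : Coch (Q X F) (K _⦋p⦌), dC (Q X F) K p a = c := by
  induction p with
  | zero =>
    intro F hF c hc
    have hS := injSeqS_shortExact F
    have hsurj : ∀ U : C, Function.Surjective ((injSeqS F).g.hom.app (op U)) :=
      fun U => SC.surjective_app_of_subsingleton_ext1 hS U (hF U 0)
    have h1 : dC (Q X (injSeqS F).X₂) K 1 (mapC (qmap (X := X) (injSeqS F).f) _ c) = 0 := by
      rw [← mapC_dC, hc, map_zero]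
    obtain ⟨b, hb⟩ := exists_primitive_inj K hK (injSeqS F).X₂ 0 _ h1
    have h2 : dC (Q X (injSeqS F).X₃) K 0 (mapC (qmap (X := X) (injSeqS F).g) _ b) = 0 := by
      rw [← mapC_dC, hb, mapC_zero_comp]
    obtain ⟨t, ht, _⟩ := existsUnique_of_cocycle (injSeqS F).X₃ hK _ (cocycle_zero _ K _ h2)
    obtain ⟨s, hs⟩ := hsurj X t
    have h3 : mapC (qmap (X := X) (injSeqS F).g) _ (b - augA (injSeqS F).X₂ (K _⦋0⦌) s) = 0 := by
      rw [map_sub, ht, mapC_augA]
      have hs' : (injSeqS F).g.hom.app (op X) s = t := hs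
      rw [hs', sub_self]
    obtain ⟨a, ha⟩ := mapC_exact hS _ _ h3
    refine ⟨a, ?_⟩
    apply mapC_f_injective hS
    rw [mapC_dC, ha, map_sub, hb, dC_augA, sub_zero]
  | succ p ih =>
    intro F hF c hc
    have hS := injSeqS_shortExact F
    have hsurj : ∀ U : C, Function.Surjective ((injSeqS F).g.hom.app (op U)) :=
      fun U => SC.surjective_app_of_subsingleton_ext1 hS U (hF U 0)
    have hQ : ∀ (U : C) (q : ℕ), Subsingleton (Ext (SC.ZU J U) (injSeqS F).X₃ (q + 1)) :=
      fun U q => SC.subsingleton_ext_of_shortExact₃ hS _ (q + 1)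
        (subsingleton_ext_injectiveS _ _ q) (hF U (q + 1))
    have h1 : dC (Q X (injSeqS F).X₂) K (p + 2) (mapC (qmap (X := X) (injSeqS F).f) _ c) = 0 := by
      rw [← mapC_dC, hc, map_zero]
    obtain ⟨b, hb⟩ := exists_primitive_inj K hK (injSeqS F).X₂ (p + 1) _ h1
    have h2 : dC (Q X (injSeqS F).X₃) K (p + 1) (mapC (qmap (X := X) (injSeqS F).g) _ b) = 0 := by
      rw [← mapC_dC, hb, mapC_zero_comp]
    obtain ⟨e, he⟩ := ih (injSeqS F).X₃ hQ _ h2
    obtain ⟨e', he'⟩ := mapC_g_surjective (X := X) hsurj (K _⦋p⦌) e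
    have h3 : mapC (qmap (X := X) (injSeqS F).g) _ (b - dC (Q X (injSeqS F).X₂) K p e') = 0 := by
      rw [map_sub, mapC_dC, he', he, sub_self]
    obtain ⟨a, ha⟩ := mapC_exact hS _ _ h3
    refine ⟨a, ?_⟩
    apply mapC_f_injective hS
    rw [mapC_dC, ha, map_sub, hb, dC_dC, sub_zero]

open Groth.Agent.H6.HyH0 in
theorem main (F : Sheaf J AddCommGrpCat.{u})
    (hF : ∀ (U : C) (q : ℕ), Subsingleton (CohSite.HU F (q + 1) U))
    (hK : Hyper.IsHypercovering J X K) (p : ℕ) :
    IsZero (Hyper.cechH X K F.obj (p + 1)) :=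
  isZero_homology_succ_of_primitive (Q X F) K p (exists_primitive_of_acyclic K hK p F hF)

end overX

end Groth.Agent.H6.HyLer
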