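import Mathlib
import Groth.Prelude.Def_Hyper
import Groth.Agent.Lib.Helper6.HyLer
import Groth.Agent.Lib.Helper7.CE1

/-! Helper6: the Cech complex functor of a simplicial formal coproduct is additive and exact. -/

set_option autoImplicit false
open CategoryTheory CategoryTheory.Limits Opposite Simplicial SimplexCategory Abelian

universe u

namespace Groth.Agent.H6.SsPsi

open Groth.Agent.H6.HyCoch Groth.Agent.H6.HyLer

variable {D : Type u} [SmallCategory D] (K : SimplicialObject (FormalCoproduct.{u} D))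

/-- the Cech complex functor -/
noncomputable abbrev Psi : (Dᵒᵖ ⥤ AddCommGrpCat.{u}) ⥤ CochainComplex AddCommGrpCat.{u} ℕ :=
  FormalCoproduct.cochainComplexFunctor K

theorem cochX_map {P P' : Dᵒᵖ ⥤ AddCommGrpCat.{u}} (α : P ⟶ P') (n : ℕ) (x : (Cx P K).X n) :
    cochX P' K n (((Psi K).map α).f n x) = mapC α _ (cochX P K n x) := by
  funext i
  show coch P' (K _⦋n⦌) (((Psi K).map α).f n x) i = α.app (op ((K _⦋n⦌).obj i)) (coch P (K _⦋n⦌) x i)
  rw [coch_apply, coch_apply]
  have h : ((Psi K).map α).f n ≫ Pi.π (fun i : (K _⦋n⦌).I => P'.obj (op ((K _⦋n⦌).obj i))) i =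
      Pi.π (fun i : (K _⦋n⦌).I => P.obj (op ((K _⦋n⦌).obj i))) i ≫ α.app (op ((K _⦋n⦌).obj i)) :=
    Pi.map_π (fun i : (K _⦋n⦌).I => α.app (op ((K _⦋n⦌).obj i))) i
  exact ConcreteCategory.congr_hom h x

instance : (Psi K).Additive where
  map_add {P P' α β} := by
    ext n x
    apply (cochX P' K n).injective
    rw [HomologicalComplex.add_f_apply]
    show _ = cochX P' K n (((Psi K).map α).f n x + ((Psi K).map β).f n x)
    rw [map_add, cochX_map, cochX_map, cochX_map]
    funext i
    show (α + β).app _ _ = α.app _ _ + β.app _ _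
    rw [NatTrans.app_add]
    rfl

theorem psi_shortExact {S : ShortComplex (Dᵒᵖ ⥤ AddCommGrpCat.{u})} (hS : S.ShortExact) :
    (S.map (Psi K)).ShortExact := by
  apply HomologicalComplex.shortExact_of_degreewise_shortExact
  intro n
  refine ShortComplex.ShortExact.mk' ?_ ?_ ?_
  · rw [ShortComplex.ab_exact_iff]
    intro y hy
    have hy' : ((Psi K).map S.g).f n y = 0 := hy
    have h1 : ∀ i : (K _⦋n⦌).I, ∃ x : S.X₁.obj (op ((K _⦋n⦌).obj i)),
        S.f.app _ x = cochX S.X₂ K n y i := by
      intro i
      apply Groth.Agent.H7.CE.app_exact hS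
      have := congrFun (cochX_map K S.g n y) i
      rw [hy', map_zero] at this
      exact this.symm
    choose x hx using h1
    refine ⟨(cochX S.X₁ K n).symm x, ?_⟩
    apply (cochX S.X₂ K n).injective
    show cochX S.X₂ K n (((Psi K).map S.f).f n ((cochX S.X₁ K n).symm x)) = _
    rw [cochX_map, AddEquiv.apply_symm_apply]
    funext i
    exact hx i
  · rw [AddCommGrpCat.mono_iff_injective]
    intro x x' h
    have h' : ((Psi K).map S.f).f n x = ((Psi K).map S.f).f n x' := h
    apply (cochX S.X₁ K n).injective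
    funext i
    apply Groth.Agent.H7.CE.app_injective hS
    have h1 := congrFun (cochX_map K S.f n x) i
    have h2 := congrFun (cochX_map K S.f n x') i
    rw [h'] at h1
    exact h1.symm.trans h2
  · rw [AddCommGrpCat.epi_iff_surjective]
    intro z
    have h1 : ∀ i : (K _⦋n⦌).I, ∃ y : S.X₂.obj (op ((K _⦋n⦌).obj i)),
        S.g.app _ y = cochX S.X₃ K n z i :=
      fun i => Groth.Agent.H7.CE.app_surjective hS _ _
    choose y hy using h1
    refine ⟨(cochX S.X₂ K n).symm y, ?_⟩
    apply (cochX S.X₃ K n).injective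
    show cochX S.X₃ K n (((Psi K).map S.g).f n ((cochX S.X₂ K n).symm y)) = _
    rw [cochX_map, AddEquiv.apply_symm_apply]
    funext i
    exact hy i

theorem psi_exact : PreservesFiniteLimits (Psi K) ∧ PreservesFiniteColimits (Psi K) :=
  ((Functor.exact_tfae (Psi K)).out 0 3).1 (fun _ hS => psi_shortExact K hS)

instance : PreservesFiniteLimits (Psi K) := (psi_exact K).1

instance : PreservesFiniteColimits (Psi K) := (psi_exact K).2

end Groth.Agent.H6.SsPsi
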