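import Mathlib
import Groth.Prelude.Def_Hyper
import Groth.Agent.Lib.Helper6.SsExtA
import Groth.Agent.Lib.Helper6.SsPsi
import Groth.Agent.Lib.Helper6.HySiteH0
import Groth.Agent.Lib.Lead.GSS.HomEquivIso

/-! Helper6: for a Verdier hypercovering `K` of the final object, maps from `ℤ[0]` to the Cech
complex of an abelian sheaf `G` are the same as maps from the constant sheaf `ℤ` to `G`. -/

set_option autoImplicit false
open CategoryTheory CategoryTheory.Limits Opposite Simplicial SimplexCategory Abelian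

universe u

namespace Groth.Agent.H6.SsPhi

open Groth.Agent.H6.HyCoch Groth.Agent.H6.HyLer Groth.Agent.H6.SsExt Groth.Agent.H6.SsPsi
  Groth.Agent.H6.HySiteH0 Groth.Agent.H6.HyYo Groth.Agent.LD.CH

variable {C : Type u} [SmallCategory C] (J : GrothendieckTopology C)
  (K : SimplicialObject (FormalCoproduct.{u} C))

/-- the constant presheaf `ℤ` -/
abbrev constZ : Cᵒᵖ ⥤ AddCommGrpCat.{u} := (Functor.const _).obj Zu

/-- the constant sheaf `ℤ` -/
noncomputable abbrev Zs : Sheaf J AddCommGrpCat.{u} :=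
  (presheafToSheaf J AddCommGrpCat.{u}).obj (constZ (C := C))

/-- the Cech complex functor on sheaves -/
noncomputable abbrev TT : Sheaf J AddCommGrpCat.{u} ⥤ BB.{u} :=
  sheafToPresheaf J AddCommGrpCat.{u} ⋙ Psi K

section gam

variable (P : Cᵒᵖ ⥤ AddCommGrpCat.{u})

/-- the global section attached to a map from the constant presheaf `ℤ` -/
def gamOf (α : constZ (C := C) ⟶ P) : Gam P :=
  ⟨fun U => α.app U (ULift.up 1), fun U V h =>
    (NatTrans.naturality_apply α h (ULift.up 1)).symm⟩

/-- maps from the constant presheaf `ℤ` are global sections -/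
noncomputable def gamEquiv : (constZ (C := C) ⟶ P) ≃ Gam P where
  toFun := gamOf P
  invFun s :=
    { app := fun U => (ulz (P.obj U)).symm (s.1 U)
      naturality := fun U V h => by
        have h0 : (constZ (C := C)).map h = 𝟙 _ := rfl
        rw [h0, Category.id_comp]
        apply (ulz (P.obj V)).injective
        rw [ulz_comp, AddEquiv.apply_symm_apply, AddEquiv.apply_symm_apply]
        exact (s.2 h).symm }
  left_inv α := by
    ext U : 2
    show (ulz (P.obj U)).symm (α.app U (ULift.up 1)) = α.app U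
    rw [← ulz_apply]
    exact (ulz (P.obj U)).symm_apply_apply _
  right_inv s := by
    apply Subtype.ext
    funext U
    show ((ulz (P.obj U)).symm (s.1 U)) (ULift.up 1) = s.1 U
    rw [← ulz_apply]
    exact (ulz (P.obj U)).apply_symm_apply _

end gam

section main

variable {J K}
variable (h1 : Presheaf.IsLocallySurjective J (terminal.from (Fy.obj (K.obj (op ⦋0⦌)))))
  (h2 : Presheaf.IsLocallySurjective J
      (prod.lift (Fy.map (K.δ (1 : Fin 2))) (Fy.map (K.δ (0 : Fin 2)))))

/-- global sections of a sheaf are degree-zero Cech cocycles -/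
noncomputable def phiKerEquiv (G : Sheaf J AddCommGrpCat.{u}) :
    Gam G.obj ≃ ker0 (Cx G.obj K) :=
  Equiv.ofBijective (PhiKer (K := K) G) ⟨PhiKer_injective G h1, PhiKer_surjective G h1 h2⟩

/-- maps from the constant sheaf `ℤ` to `G` are maps from `ℤ[0]` to the Cech complex of `G` -/
noncomputable def eG (G : Sheaf J AddCommGrpCat.{u}) : (Zs J ⟶ G) ≃ (PP ⟶ (TT J K).obj G) :=
  ((sheafificationAdjunction J AddCommGrpCat.{u}).homEquiv (constZ (C := C)) G).trans
    ((gamEquiv G.obj).trans ((phiKerEquiv h1 h2 G).trans (thetaEquiv ((TT J K).obj G)).symm.toEquiv))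

theorem thetaEquiv_eG (G : Sheaf J AddCommGrpCat.{u}) (ψ : Zs J ⟶ G) :
    thetaEquiv ((TT J K).obj G) (eG h1 h2 G ψ) =
      PhiKer (K := K) G (gamOf G.obj
        ((sheafificationAdjunction J AddCommGrpCat.{u}).homEquiv (constZ (C := C)) G ψ)) :=
  (thetaEquiv ((TT J K).obj G)).apply_symm_apply _

theorem eG_natural (G G' : Sheaf J AddCommGrpCat.{u}) (ψ : Zs J ⟶ G) (g : G ⟶ G') :
    eG h1 h2 G' (ψ ≫ g) = eG h1 h2 G ψ ≫ (TT J K).map g := by
  apply (thetaEquiv ((TT J K).obj G')).injective
  rw [thetaEquiv_comp, thetaEquiv_eG, thetaEquiv_eG, Adjunction.homEquiv_naturality_right]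
  apply Subtype.ext
  show PhiHom (K := K) G' _ = ((Psi K).map g.hom).f 0 (PhiHom (K := K) G _)
  apply (cochX G'.obj K 0).injective
  rw [coch_PhiHom, cochX_map, coch_PhiHom]
  rfl

/-- `Hom(ℤ[0], Č(K, -)) ≅ Hom(ℤ, -)` on abelian sheaves -/
noncomputable def phiIso :
    TT J K ⋙ Groth.Agent.LD.GSS.homF PP ≅ Groth.Agent.LD.GSS.homF (Zs J) :=
  Groth.Agent.LD.GSS.homFIsoOfEquiv (TT J K) PP (Zs J) (eG h1 h2) (eG_natural h1 h2)

end main

end Groth.Agent.H6.SsPhi
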