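import Mathlib
import Groth.Agent.Lib.Helper6.SsPhi
import Groth.Agent.Lib.Helper6.ScVa
import Groth.Agent.Lib.Helper5.ConstSh.A

/-! Helper6: global sections of abelian sheaves as maps out of the constant sheaf `ℤ`; lifting
global sections along surjections of constant sheaves (S13799, part A). -/

set_option autoImplicit false
open CategoryTheory CategoryTheory.Limits Opposite

universe u

namespace Groth.Agent.H6.CsTor

open Groth.Agent.H6.HySiteH0 Groth.Agent.H6.SsPhi Groth.Agent.H6.SsExt

variable {C : Type u} [SmallCategory C] (J : GrothendieckTopology C)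

/-- the unit section of the constant sheaf `ℤ` -/
noncomputable def one (V : Cᵒᵖ) : (Zs J).obj.obj V :=
  (toSheafify J (constZ (C := C))).app V (ULift.up 1)

/-- maps out of the constant sheaf `ℤ` are global sections -/
noncomputable def secEquiv (G : Sheaf J AddCommGrpCat.{u}) : (Zs J ⟶ G) ≃ Gam G.obj :=
  ((sheafificationAdjunction J AddCommGrpCat.{u}).homEquiv (constZ (C := C)) G).trans
    (gamEquiv G.obj)

theorem secEquiv_apply (G : Sheaf J AddCommGrpCat.{u}) (ψ : Zs J ⟶ G) (V : Cᵒᵖ) :
    (secEquiv J G ψ).1 V = ψ.hom.app V (one J V) := by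
  show ((sheafificationAdjunction J AddCommGrpCat.{u}).homEquiv (constZ (C := C)) G ψ).app V
    (ULift.up 1) = _
  rw [Adjunction.homEquiv_unit]
  rfl

theorem secEquiv_comp {G G' : Sheaf J AddCommGrpCat.{u}} (ψ : Zs J ⟶ G) (g : G ⟶ G')
    (V : Cᵒᵖ) : (secEquiv J G' (ψ ≫ g)).1 V = g.hom.app V ((secEquiv J G ψ).1 V) := by
  rw [secEquiv_apply, secEquiv_apply]
  rfl

theorem secEquiv_precomp (G : Sheaf J AddCommGrpCat.{u}) (φ : Zs J ⟶ Zs J) (ψ : Zs J ⟶ G)
    (V : Cᵒᵖ) (n : ℤ) (h : φ.hom.app V = n • 𝟙 _) :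
    (secEquiv J G (φ ≫ ψ)).1 V = n • (secEquiv J G ψ).1 V := by
  rw [secEquiv_apply, secEquiv_apply]
  show ψ.hom.app V (φ.hom.app V (one J V)) = _
  rw [h]
  show (ψ.hom.app V).hom (n • one J V) = _
  rw [map_zsmul]

section lift

variable {B B'' : AddCommGrpCat.{u}} (g : B ⟶ B'')

/-- global sections lift along a surjection of constant sheaves -/
theorem exists_lift (hg : Function.Surjective g)
    (t : Zs J ⟶ (constantSheaf J AddCommGrpCat.{u}).obj B'') :
    ∃ s : Zs J ⟶ (constantSheaf J AddCommGrpCat.{u}).obj B,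
      s ≫ (constantSheaf J AddCommGrpCat.{u}).map g = t := by
  let V := forget AddCommGrpCat.{u}
  let e := constantCommuteCompose J V
  obtain ⟨σ, hσ⟩ := hg.hasRightInverse
  let σ' : V.obj B'' ⟶ V.obj B := TypeCat.ofHom σ
  have h1 : σ' ≫ V.map g = 𝟙 _ := by
    ext x
    exact hσ x
  let Sg : (sheafCompose J V).obj ((constantSheaf J AddCommGrpCat.{u}).obj B'') ⟶
      (sheafCompose J V).obj ((constantSheaf J AddCommGrpCat.{u}).obj B) :=
    e.hom.app B'' ≫ (constantSheaf J (Type u)).map σ' ≫ e.inv.app B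
  have hSg : Sg ≫ (sheafCompose J V).map ((constantSheaf J AddCommGrpCat.{u}).map g) = 𝟙 _ := by
    have nat := e.inv.naturality g
    dsimp only [Functor.comp_map] at nat
    dsimp only [Sg]
    rw [Category.assoc, Category.assoc, ← nat, ← Category.assoc ((constantSheaf J (Type u)).map σ'),
      ← Functor.map_comp, h1, (constantSheaf J (Type u)).map_id, Category.id_comp]
    exact e.hom_inv_id_app B''
  let tf := secEquiv J _ t
  have hnat : ∀ ⦃U W : Cᵒᵖ⦄ (h : U ⟶ W) (x : ((constantSheaf J AddCommGrpCat.{u}).obj B'').obj.obj U),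
      ((constantSheaf J AddCommGrpCat.{u}).obj B).obj.map h (Sg.hom.app U x) =
        Sg.hom.app W (((constantSheaf J AddCommGrpCat.{u}).obj B'').obj.map h x) := by
    intro U W h x
    exact (ConcreteCategory.congr_hom (Sg.hom.naturality h) x).symm
  let sf : Gam ((constantSheaf J AddCommGrpCat.{u}).obj B).obj :=
    ⟨fun U => Sg.hom.app U (tf.1 U), fun U W h => by
      rw [hnat h, tf.2 h]⟩
  refine ⟨(secEquiv J _).symm sf, ?_⟩
  apply (secEquiv J _).injective
  apply Subtype.ext
  funext U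
  rw [secEquiv_comp, Equiv.apply_symm_apply]
  show ((constantSheaf J AddCommGrpCat.{u}).map g).hom.app U (Sg.hom.app U (tf.1 U)) = tf.1 U
  have h2 := congrArg (fun φ => ((sheafToPresheaf J (Type u)).map φ).app U) hSg
  exact ConcreteCategory.congr_hom h2 (tf.1 U)

end lift

end Groth.Agent.H6.CsTor
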