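import Mathlib
import Groth.Agent.Lib.Helper6.CsTorA

/-! Helper6: lifting locally torsion global sections along an epimorphism of abelian sheaves whose
kernel is uniquely divisible (S13799, part B). -/

set_option autoImplicit false
open CategoryTheory CategoryTheory.Limits Opposite

universe u

namespace Groth.Agent.H6.CsTor

open Groth.Agent.H6.HySiteH0 Groth.Agent.H6.SsPhi Groth.Agent.H6.SsExt Groth.Agent.H6.ScVa

variable {C : Type u} [SmallCategory C] {J : GrothendieckTopology C}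

/-- locally torsion sections -/
def LocTors (G : Sheaf J AddCommGrpCat.{u}) {V : C} (x : G.obj.obj (op V)) : Prop :=
  ∃ R : Sieve V, R ∈ J V ∧ ∀ ⦃W : C⦄ (g : W ⟶ V), R g → ∃ m : ℤ, m ≠ 0 ∧ m • G.obj.map g.op x = 0

section basic

variable (G : Sheaf J AddCommGrpCat.{u})

lemma res_zsmul {V W : C} (g : W ⟶ V) (m : ℤ) (x : G.obj.obj (op V)) :
    G.obj.map g.op (m • x) = m • G.obj.map g.op x :=
  map_zsmul (G.obj.map g.op).hom m x

lemma res_sub {V W : C} (g : W ⟶ V) (x y : G.obj.obj (op V)) :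
    G.obj.map g.op (x - y) = G.obj.map g.op x - G.obj.map g.op y :=
  map_sub (G.obj.map g.op).hom x y

lemma res_zero {V W : C} (g : W ⟶ V) : G.obj.map g.op (0 : G.obj.obj (op V)) = 0 :=
  map_zero (G.obj.map g.op).hom

lemma locTors_of_smul_eq_zero {V : C} (x : G.obj.obj (op V)) (m : ℤ) (hm : m ≠ 0)
    (h : m • x = 0) : LocTors G x := by
  refine ⟨⊤, J.top_mem V, fun W g _ => ⟨m, hm, ?_⟩⟩
  rw [← res_zsmul, h, res_zero]

lemma locTors_res {V V' : C} (h : V' ⟶ V) (x : G.obj.obj (op V)) (hx : LocTors G x) :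
    LocTors G (G.obj.map h.op x) := by
  obtain ⟨R, hR, hx⟩ := hx
  refine ⟨R.pullback h, J.pullback_stable h hR, fun W g hg => ?_⟩
  obtain ⟨m, hm, e⟩ := hx (g ≫ h) hg
  refine ⟨m, hm, ?_⟩
  rw [← res_comp]
  exact e

lemma locTors_sub {V : C} (x y : G.obj.obj (op V)) (hx : LocTors G x) (hy : LocTors G y) :
    LocTors G (x - y) := by
  obtain ⟨R, hR, hx⟩ := hx
  obtain ⟨R', hR', hy⟩ := hy
  refine ⟨R ⊓ R', J.intersection_covering hR hR', fun W g hg => ?_⟩
  obtain ⟨m, hm, e⟩ := hx g hg.1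
  obtain ⟨m', hm', e'⟩ := hy g hg.2
  refine ⟨m * m', mul_ne_zero hm hm', ?_⟩
  rw [res_sub, smul_sub, mul_comm m m', mul_smul, e, smul_zero, mul_comm m' m, mul_smul, e',
    smul_zero, sub_zero]

variable {G}

lemma locTors_of_map_injective {G' : Sheaf J AddCommGrpCat.{u}} (f : G ⟶ G')
    (hf : ∀ W : Cᵒᵖ, Function.Injective (f.hom.app W)) {V : C} (x : G.obj.obj (op V))
    (hx : LocTors G' (f.hom.app (op V) x)) : LocTors G x := by
  obtain ⟨R, hR, hx⟩ := hx
  refine ⟨R, hR, fun W g hg => ?_⟩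
  obtain ⟨m, hm, e⟩ := hx g hg
  refine ⟨m, hm, ?_⟩
  apply hf (op W)
  have hn := NatTrans.naturality_apply f.hom g.op x
  rw [map_zero]
  refine Eq.trans ?_ e
  rw [← hn]
  exact map_zsmul (f.hom.app (op W)).hom m _

end basic

section torsion

variable (S : ShortComplex (Sheaf J AddCommGrpCat.{u})) (hS : S.ShortExact)
  (hdiv : ∀ (m : ℤ), m ≠ 0 → ∀ (W : Cᵒᵖ) (b : S.X₁.obj.obj W), ∃ b' : S.X₁.obj.obj W, m • b' = b)
  (htf : ∀ (m : ℤ), m ≠ 0 → ∀ (W : Cᵒᵖ) (b : S.X₁.obj.obj W), m • b = 0 → b = 0)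

include hS in
lemma f_injective (W : Cᵒᵖ) : Function.Injective (S.f.hom.app W) := by
  haveI := hS.mono_f
  haveI : Mono ((sheafToPresheaf J AddCommGrpCat.{u}).map S.f) := inferInstance
  haveI : Mono (S.f.hom.app W) :=
    (NatTrans.mono_iff_mono_app ((sheafToPresheaf J AddCommGrpCat.{u}).map S.f)).1 inferInstance W
  exact (AddCommGrpCat.mono_iff_injective _).1 inferInstance

include hS in
lemma exists_of_g_eq_zero (W : Cᵒᵖ) (x : S.X₂.obj.obj W) (hx : S.g.hom.app W x = 0) :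
    ∃ b : S.X₁.obj.obj W, S.f.hom.app W b = x :=
  exists_preimage_of_exact S.f S.g S.zero hS.mono_f hS.exact W x hx

include htf in
lemma eq_zero_of_locTors {V : C} (b : S.X₁.obj.obj (op V)) (hb : LocTors S.X₁ b) : b = 0 := by
  obtain ⟨R, hR, hb⟩ := hb
  refine ((isSheaf_type S.X₁) _ hR).isSeparatedFor.ext ?_
  intro W g hg
  obtain ⟨m, hm, e⟩ := hb g hg
  refine (htf m hm (op W) _ e).trans ?_
  exact (res_zero S.X₁ g).symm

include hS htf in
lemma unique_locTors {V : C} (e e' : S.X₂.obj.obj (op V))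
    (h : S.g.hom.app (op V) e = S.g.hom.app (op V) e') (he : LocTors S.X₂ e)
    (he' : LocTors S.X₂ e') : e = e' := by
  have h0 : S.g.hom.app (op V) (e - e') = 0 := by
    rw [map_sub, h, sub_self]
  obtain ⟨b, hb⟩ := exists_of_g_eq_zero S hS (op V) (e - e') h0
  have hb' : LocTors S.X₁ b := by
    apply locTors_of_map_injective S.f (f_injective S hS)
    rw [hb]
    exact locTors_sub S.X₂ e e' he he'
  have hb0 := eq_zero_of_locTors S htf b hb'
  rw [hb0, map_zero] at hb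
  exact (sub_eq_zero.1 hb.symm)

include hS hdiv in
lemma exists_torsion_lift {W : C} (t : S.X₃.obj.obj (op W)) (m : ℤ) (hm : m ≠ 0)
    (ht : m • t = 0) (e' : S.X₂.obj.obj (op W)) (he' : S.g.hom.app (op W) e' = t) :
    ∃ e : S.X₂.obj.obj (op W), S.g.hom.app (op W) e = t ∧ m • e = 0 := by
  have h0 : S.g.hom.app (op W) (m • e') = 0 := by
    rw [map_zsmul, he', ht]
  obtain ⟨b, hb⟩ := exists_of_g_eq_zero S hS (op W) (m • e') h0
  obtain ⟨b', hb'⟩ := hdiv m hm (op W) b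
  have hfg : S.g.hom.app (op W) (S.f.hom.app (op W) b') = 0 := by
    have := congrArg (fun φ => ((sheafToPresheaf J AddCommGrpCat.{u}).map φ).app (op W)) S.zero
    exact ConcreteCategory.congr_hom this b'
  refine ⟨e' - S.f.hom.app (op W) b', ?_, ?_⟩
  · rw [map_sub, hfg, sub_zero, he']
  · rw [smul_sub, ← map_zsmul, hb', hb, sub_self]

include hS hdiv htf in
theorem exists_lift_locTors {V : C} (t : S.X₃.obj.obj (op V)) (ht : LocTors S.X₃ t) :
    ∃ e : S.X₂.obj.obj (op V), S.g.hom.app (op V) e = t ∧ LocTors S.X₂ e := by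
  obtain ⟨R, hR, hRt⟩ := ht
  haveI := hS.epi_g
  haveI : Sheaf.IsLocallySurjective S.g :=
    (Sheaf.isLocallySurjective_iff_epi' (φ := S.g)).2 inferInstance
  haveI : Presheaf.IsLocallySurjective J S.g.hom := ‹Sheaf.IsLocallySurjective S.g›
  let R₂ : Sieve V := Presheaf.imageSieve S.g.hom t
  have hR₂ : R₂ ∈ J V := Presheaf.imageSieve_mem J S.g.hom t
  let R' := R ⊓ R₂
  have hR' : R' ∈ J V := J.intersection_covering hR hR₂
  have key : ∀ ⦃W : C⦄ (g : W ⟶ V), R' g → ∃ e : S.X₂.obj.obj (op W),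
      S.g.hom.app (op W) e = S.X₃.obj.map g.op t ∧ ∃ m : ℤ, m ≠ 0 ∧ m • e = 0 := by
    intro W g hg
    obtain ⟨m, hm, hmt⟩ := hRt g hg.1
    obtain ⟨e', he'⟩ := hg.2
    obtain ⟨e, he, hme⟩ := exists_torsion_lift S hS hdiv _ m hm hmt e' he'
    exact ⟨e, he, m, hm, hme⟩
  choose ef hef hef' using key
  let x : Presieve.FamilyOfElements (S.X₂.obj ⋙ forget AddCommGrpCat.{u}) (R' : Presieve V) :=
    fun W g hg => ef g hg
  have hx : x.Compatible := by
    intro Y₁ Y₂ Z g₁ g₂ f₁ f₂ h₁ h₂ hc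
    show S.X₂.obj.map g₁.op (ef f₁ h₁) = S.X₂.obj.map g₂.op (ef f₂ h₂)
    apply unique_locTors S hS htf
    · have n1 := NatTrans.naturality_apply S.g.hom g₁.op (ef f₁ h₁)
      have n2 := NatTrans.naturality_apply S.g.hom g₂.op (ef f₂ h₂)
      rw [n1, n2, hef, hef, ← res_comp, ← res_comp, hc]
    · obtain ⟨m, hm, e⟩ := hef' f₁ h₁
      exact locTors_res _ g₁ _ (locTors_of_smul_eq_zero _ _ m hm e)
    · obtain ⟨m, hm, e⟩ := hef' f₂ h₂
      exact locTors_res _ g₂ _ (locTors_of_smul_eq_zero _ _ m hm e)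
  let e := ((isSheaf_type S.X₂) _ hR').amalgamate x hx
  have he : ∀ ⦃W : C⦄ (g : W ⟶ V) (hg : R' g), S.X₂.obj.map g.op e = ef g hg :=
    fun W g hg => ((isSheaf_type S.X₂) _ hR').valid_glue hx g hg
  refine ⟨e, ?_, ?_⟩
  · refine ((isSheaf_type S.X₃) _ hR').isSeparatedFor.ext ?_
    intro W g hg
    show S.X₃.obj.map g.op (S.g.hom.app (op V) e) = S.X₃.obj.map g.op t
    have n1 := NatTrans.naturality_apply S.g.hom g.op e
    rw [← n1, he g hg, hef]
  · refine ⟨R', hR', fun W g hg => ?_⟩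
    obtain ⟨m, hm, e0⟩ := hef' g hg
    exact ⟨m, hm, by rw [he g hg]; exact e0⟩

include hS hdiv htf in
theorem exists_gam_lift (q : Gam S.X₃.obj) (hq : ∀ V : C, LocTors S.X₃ (q.1 (op V))) :
    ∃ e : Gam S.X₂.obj, ∀ V : Cᵒᵖ, S.g.hom.app V (e.1 V) = q.1 V := by
  choose ef hef hef' using fun V : C => exists_lift_locTors S hS hdiv htf (q.1 (op V)) (hq V)
  refine ⟨⟨fun V => ef V.unop, ?_⟩, fun V => hef V.unop⟩
  intro U V h
  show S.X₂.obj.map h (ef U.unop) = ef V.unop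
  apply unique_locTors S hS htf
  · have n1 := NatTrans.naturality_apply S.g.hom h (ef U.unop)
    rw [n1, hef, hef]
    exact q.2 h
  · exact locTors_res _ h.unop _ (hef' U.unop)
  · exact hef' V.unop

end torsion

end Groth.Agent.H6.CsTor
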