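import Mathlib
import Groth.Agent.Lib.Helper6.CsTorB

/-! Helper6: the first cohomology of a constant sheaf with torsion-free values has no torsion with
respect to a locally nonzero section of the constant sheaf `ℤ` (S13799, part C). -/

set_option autoImplicit false
open CategoryTheory CategoryTheory.Limits Opposite Abelian

universe w u

namespace Groth.Agent.H6.CsTor

open Groth.Agent.H6.HySiteH0 Groth.Agent.H6.SsPhi Groth.Agent.H6.SsExt Groth.Agent.H6.ScVa
  Groth.Agent.H5.ConstSh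

variable {C : Type u} [SmallCategory C] (J : GrothendieckTopology C)

section sections

variable (B : AddCommGrpCat.{u}) (m : ℤ)

lemma cs_map_zsmul :
    (constantSheaf J AddCommGrpCat.{u}).map (m • 𝟙 B) = m • 𝟙 _ := by
  rw [Functor.map_zsmul, (constantSheaf J AddCommGrpCat.{u}).map_id]

lemma zsmul_hom_app_apply (G : Sheaf J AddCommGrpCat.{u}) (W : Cᵒᵖ) (x : G.obj.obj W) :
    (m • 𝟙 G : G ⟶ G).hom.app W x = m • x := by
  rfl

lemma cs_injective (hB : Function.Injective (fun b : B => m • b)) (W : Cᵒᵖ) :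
    Function.Injective (fun x : ((constantSheaf J AddCommGrpCat.{u}).obj B).obj.obj W => m • x) := by
  haveI : Mono (m • 𝟙 B : B ⟶ B) := (AddCommGrpCat.mono_iff_injective _).2 hB
  haveI : Mono ((constantSheaf J AddCommGrpCat.{u}).map (m • 𝟙 B)) := inferInstance
  haveI : Mono ((sheafToPresheaf J AddCommGrpCat.{u}).map
      ((constantSheaf J AddCommGrpCat.{u}).map (m • 𝟙 B))) := inferInstance
  haveI : Mono (((constantSheaf J AddCommGrpCat.{u}).map (m • 𝟙 B)).hom.app W) :=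
    (NatTrans.mono_iff_mono_app ((sheafToPresheaf J AddCommGrpCat.{u}).map
      ((constantSheaf J AddCommGrpCat.{u}).map (m • 𝟙 B)))).1 inferInstance W
  have h := (AddCommGrpCat.mono_iff_injective _).1
    (inferInstance : Mono (((constantSheaf J AddCommGrpCat.{u}).map (m • 𝟙 B)).hom.app W))
  intro x y hxy
  apply h
  rw [cs_map_zsmul]
  exact hxy

lemma cs_surjective (hB : Function.Bijective (fun b : B => m • b)) (W : Cᵒᵖ) :
    Function.Surjective (fun x : ((constantSheaf J AddCommGrpCat.{u}).obj B).obj.obj W => m • x) := by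
  haveI : IsIso (m • 𝟙 B : B ⟶ B) := by
    rw [ConcreteCategory.isIso_iff_bijective]
    exact hB
  haveI : IsIso ((constantSheaf J AddCommGrpCat.{u}).map (m • 𝟙 B)) := inferInstance
  haveI : IsIso ((sheafToPresheaf J AddCommGrpCat.{u}).map
      ((constantSheaf J AddCommGrpCat.{u}).map (m • 𝟙 B))) := inferInstance
  haveI : IsIso (((constantSheaf J AddCommGrpCat.{u}).map (m • 𝟙 B)).hom.app W) :=
    NatIso.isIso_app_of_isIso ((sheafToPresheaf J AddCommGrpCat.{u}).map
      ((constantSheaf J AddCommGrpCat.{u}).map (m • 𝟙 B))) W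
  have h := ((ConcreteCategory.isIso_iff_bijective _).1
    (inferInstance : IsIso (((constantSheaf J AddCommGrpCat.{u}).map (m • 𝟙 B)).hom.app W))).2
  intro y
  obtain ⟨x, hx⟩ := h y
  refine ⟨x, ?_⟩
  rw [cs_map_zsmul] at hx
  exact hx

end sections

section phi

variable (φ : Zs J ⟶ Zs J) {ι : Type u} (U : ι → C) (n : ι → ℤ) (hn : ∀ i, n i ≠ 0)
    (hφ : ∀ (i : ι) (V : C) (_ : V ⟶ U i), φ.hom.app (op V) = n i • 𝟙 _)
    (hcov : ∀ V : C, ∃ R ∈ J V, ∀ ⦃W : C⦄ (g : W ⟶ V), R g → ∃ i, Nonempty (W ⟶ U i))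

lemma zu_injective (m : ℤ) (hm : m ≠ 0) : Function.Injective (fun b : Zu.{u} => m • b) := by
  intro a b h
  apply ULift.down_injective
  have h' := congrArg ULift.down h
  simp only [ULift.smul_down, smul_eq_mul] at h'
  exact mul_left_cancel₀ hm h'

include hn hφ hcov in
theorem mono_phi : Mono φ := by
  have hinj : ∀ W : Cᵒᵖ, Function.Injective (φ.hom.app W) := by
    intro W
    rw [injective_iff_map_eq_zero]
    intro z hz
    obtain ⟨R, hR, hRi⟩ := hcov W.unop
    refine ((isSheaf_type (Zs J)) _ hR).isSeparatedFor.ext ?_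
    intro W' g hg
    obtain ⟨i, ⟨k⟩⟩ := hRi g hg
    have n1 := NatTrans.naturality_apply φ.hom g.op z
    rw [hz, hφ i W' k] at n1
    have n2 : n i • (Zs J).obj.map g.op z = n i • (0 : (Zs J).obj.obj (op W')) := by
      rw [smul_zero]
      refine Eq.trans ?_ (n1.trans (map_zero ((Zs J).obj.map g.op).hom))
      rfl
    have n3 := cs_injective J Zu (n i) (zu_injective (n i) (hn i)) (op W') n2
    exact n3.trans (map_zero ((Zs J).obj.map g.op).hom).symm
  haveI : ∀ W, Mono (((sheafToPresheaf J AddCommGrpCat.{u}).map φ).app W) :=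
    fun W => (AddCommGrpCat.mono_iff_injective _).2 (hinj W)
  haveI : Mono ((sheafToPresheaf J AddCommGrpCat.{u}).map φ) := NatTrans.mono_of_mono_app _
  exact (sheafToPresheaf J AddCommGrpCat.{u}).mono_of_mono_map inferInstance

end phi

section divisible

variable [HasExt.{w} (Sheaf J AddCommGrpCat.{u})]
variable (φ : Zs J ⟶ Zs J) {ι : Type u} (U : ι → C) (n : ι → ℤ) (hn : ∀ i, n i ≠ 0)
    (hφ : ∀ (i : ι) (V : C) (_ : V ⟶ U i), φ.hom.app (op V) = n i • 𝟙 _)
    (hcov : ∀ V : C, ∃ R ∈ J V, ∀ ⦃W : C⦄ (g : W ⟶ V), R g → ∃ i, Nonempty (W ⟶ U i))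

include hn hφ hcov in
/-- a global section killed by `φ` is locally torsion -/
theorem locTors_of_comp_eq_zero (G : Sheaf J AddCommGrpCat.{u}) (q : Zs J ⟶ G)
    (hq : φ ≫ q = 0) (V : C) : LocTors G ((secEquiv J G q).1 (op V)) := by
  obtain ⟨R, hR, hRi⟩ := hcov V
  refine ⟨R, hR, fun W g hg => ?_⟩
  obtain ⟨i, ⟨k⟩⟩ := hRi g hg
  refine ⟨n i, hn i, ?_⟩
  have h1 := secEquiv_precomp J G φ q (op W) (n i) (hφ i W k)
  rw [hq] at h1
  have h2 : (secEquiv J G 0).1 (op W) = 0 := by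
    rw [secEquiv_apply]
    rfl
  rw [h2] at h1
  rw [(secEquiv J G q).2 g.op]
  exact h1.symm

include hn hφ hcov in
theorem divisible_case (B : AddCommGrpCat.{u})
    (hB : ∀ m : ℤ, m ≠ 0 → Function.Bijective (fun b : B => m • b))
    (y : Ext.{w} (Zs J) ((constantSheaf J AddCommGrpCat.{u}).obj B) 1)
    (hy : (Ext.mk₀ φ).comp y (zero_add 1) = 0) : y = 0 := by
  let M := (constantSheaf J AddCommGrpCat.{u}).obj B
  let i : M ⟶ Injective.under M := Injective.ι M
  let S : ShortComplex (Sheaf J AddCommGrpCat.{u}) :=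
    ShortComplex.mk i (cokernel.π i) (cokernel.condition i)
  have hS : S.ShortExact :=
    { exact := ShortComplex.exact_cokernel i
      mono_f := (inferInstance : Mono i)
      epi_g := (inferInstance : Epi (cokernel.π i)) }
  have hdiv : ∀ (m : ℤ), m ≠ 0 → ∀ (W : Cᵒᵖ) (b : S.X₁.obj.obj W),
      ∃ b' : S.X₁.obj.obj W, m • b' = b := fun m hm W b => cs_surjective J B m (hB m hm) W b
  have htf : ∀ (m : ℤ), m ≠ 0 → ∀ (W : Cᵒᵖ) (b : S.X₁.obj.obj W), m • b = 0 → b = 0 := by
    intro m hm W b hb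
    apply cs_injective J B m (hB m hm).1 W
    show m • b = m • 0
    rw [hb, smul_zero]
  obtain ⟨x₃, hx₃⟩ := Ext.covariant_sequence_exact₁ (Zs J) hS y
    (Ext.eq_zero_of_injective _) (zero_add 1)
  obtain ⟨q, rfl⟩ := (Ext.mk₀_bijective _ _).2 x₃
  have h1 : (Ext.mk₀ (φ ≫ q)).comp hS.extClass (zero_add 1) = 0 := by
    rw [← hx₃] at hy
    rw [← Ext.mk₀_comp_mk₀_assoc]
    exact hy
  obtain ⟨x₂, hx₂⟩ := Ext.covariant_sequence_exact₃ (Zs J) hS (Ext.mk₀ (φ ≫ q)) (zero_add 1) h1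
  obtain ⟨j, rfl⟩ := (Ext.mk₀_bijective _ _).2 x₂
  have hj : j ≫ S.g = φ ≫ q := by
    apply (Ext.mk₀_bijective _ _).1
    rw [← Ext.mk₀_comp_mk₀]
    exact hx₂
  haveI := mono_phi J φ U n hn hφ hcov
  let j' : Zs J ⟶ S.X₂ := Injective.factorThru j φ
  have hj' : φ ≫ j' = j := Injective.comp_factorThru j φ
  let q' := q - j' ≫ S.g
  have hq' : φ ≫ q' = 0 := by
    show φ ≫ (q - j' ≫ S.g) = 0
    rw [Preadditive.comp_sub, ← Category.assoc, hj', hj, sub_self]
  have hqq : q = q' + j' ≫ S.g := by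
    show q = q - j' ≫ S.g + j' ≫ S.g
    rw [sub_add_cancel]
  have hyq' : (Ext.mk₀ q').comp hS.extClass (zero_add 1) = y := by
    rw [← hx₃, hqq, Ext.mk₀_add, Ext.add_comp, ← Ext.mk₀_comp_mk₀_assoc, hS.comp_extClass,
      Ext.comp_zero, add_zero]
  obtain ⟨e, he⟩ := exists_gam_lift S hS hdiv htf (secEquiv J S.X₃ q')
    (locTors_of_comp_eq_zero J φ U n hn hφ hcov S.X₃ q' hq')
  have hlift : (secEquiv J S.X₂).symm e ≫ S.g = q' := by
    apply (secEquiv J S.X₃).injective
    apply Subtype.ext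
    funext W
    rw [secEquiv_comp, Equiv.apply_symm_apply]
    exact he W
  rw [← hyq', ← hlift, ← Ext.mk₀_comp_mk₀_assoc, hS.comp_extClass, Ext.comp_zero]

end divisible

end Groth.Agent.H6.CsTor
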