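import Mathlib
import Groth.Agent.Lib.Helper6.CsTorC

/-! Helper6: the first cohomology of a constant sheaf with torsion-free values has no torsion with
respect to a locally nonzero section of the constant sheaf `ℤ` (S13799, part D: reduction to the
uniquely divisible case). -/

set_option autoImplicit false
open CategoryTheory CategoryTheory.Limits Opposite Abelian

universe w u

namespace Groth.Agent.H6.CsTor

open Groth.Agent.H6.HySiteH0 Groth.Agent.H6.SsPhi Groth.Agent.H6.SsExt Groth.Agent.H6.ScVa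
  Groth.Agent.H5.ConstSh

variable {C : Type u} [SmallCategory C] (J : GrothendieckTopology C)

section hull

variable (A : Type u) [AddCommGroup A]

/-- the rational hull of an abelian group -/
abbrev Hull : Type u := LocalizedModule (nonZeroDivisors ℤ) A

/-- the map to the rational hull -/
noncomputable def hullMap : AddCommGrpCat.of A ⟶ AddCommGrpCat.of (Hull A) :=
  AddCommGrpCat.ofHom (LocalizedModule.mkLinearMap (nonZeroDivisors ℤ) A).toAddMonoidHom

lemma hullMap_injective (hA : ∀ (m : ℤ) (a : A), m ≠ 0 → m • a = 0 → a = 0) :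
    Function.Injective (hullMap A) := by
  rw [injective_iff_map_eq_zero]
  intro a ha
  have h1 : LocalizedModule.mk a (1 : nonZeroDivisors ℤ) = 0 := ha
  rw [← LocalizedModule.zero_mk (1 : nonZeroDivisors ℤ), LocalizedModule.mk_eq] at h1
  obtain ⟨s, hs⟩ := h1
  simp only [one_smul, smul_zero] at hs
  exact hA s.1 a (nonZeroDivisors.ne_zero s.2) hs

lemma hull_bijective (m : ℤ) (hm : m ≠ 0) :
    Function.Bijective (fun b : AddCommGrpCat.of (Hull A) => m • b) := by
  have hm' : m ∈ nonZeroDivisors ℤ := mem_nonZeroDivisors_of_ne_zero hm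
  have key : ∀ x y : Hull A, m • x = y ↔ x = Localization.mk 1 ⟨m, hm'⟩ • y := by
    intro x y
    have h := LocalizedModule.smul_eq_iff_of_mem (S := nonZeroDivisors ℤ) m hm' x y
    have h' := (int_smul_eq_zsmul
      (OreLocalization.instModuleOfIsScalarTower : Module ℤ (Hull A)) m x).symm
    exact Iff.trans (Eq.congr_left h') h
  rw [Function.bijective_iff_existsUnique]
  intro y
  refine ⟨Localization.mk 1 ⟨m, hm'⟩ • (y : Hull A), (key _ _).2 rfl, ?_⟩
  intro x hx
  exact (key _ _).1 hx

end hull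

section main

variable [HasExt.{w} (Sheaf J AddCommGrpCat.{u})]

/-- the constant sheaf functor sends a short exact sequence to a short exact sequence -/
theorem cs_shortExact (T : ShortComplex AddCommGrpCat.{u}) (hT : T.ShortExact) :
    (T.map (constantSheaf J AddCommGrpCat.{u})).ShortExact := by
  have hmono := hT.mono_f
  have hepi := hT.epi_g
  have hex : (T.map (constantSheaf J AddCommGrpCat.{u})).Exact :=
    hT.exact.map_of_mono_of_preservesKernel _ hmono inferInstance
  refine ShortComplex.ShortExact.mk' hex ?_ ?_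
  · show Mono ((constantSheaf J AddCommGrpCat.{u}).map T.f)
    infer_instance
  · show Epi ((constantSheaf J AddCommGrpCat.{u}).map T.g)
    haveI : ∀ W, Epi (((sheafToPresheaf J AddCommGrpCat.{u}).map
        ((constantSheaf J AddCommGrpCat.{u}).map T.g)).app W) := fun W => by
      rw [AddCommGrpCat.epi_iff_surjective]
      exact surjective_sections J _ _ T.g ((AddCommGrpCat.epi_iff_surjective _).mp hepi) W.unop
    haveI : Epi ((sheafToPresheaf J AddCommGrpCat.{u}).map
        ((constantSheaf J AddCommGrpCat.{u}).map T.g)) := NatTrans.epi_of_epi_app _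
    exact (sheafToPresheaf J AddCommGrpCat.{u}).epi_of_epi_map inferInstance

theorem main {A : Type u} [AddCommGroup A] (hA : ∀ (m : ℤ) (a : A), m ≠ 0 → m • a = 0 → a = 0)
    (φ : (constantSheaf J AddCommGrpCat.{u}).obj (AddCommGrpCat.of (ULift.{u} ℤ)) ⟶
      (constantSheaf J AddCommGrpCat.{u}).obj (AddCommGrpCat.of (ULift.{u} ℤ)))
    {ι : Type u} (U : ι → C) (n : ι → ℤ) (hn : ∀ i, n i ≠ 0)
    (hφ : ∀ (i : ι) (V : C) (_ : V ⟶ U i), φ.hom.app (op V) = n i • 𝟙 _)
    (hcov : ∀ V : C, ∃ R ∈ J V, ∀ ⦃W : C⦄ (g : W ⟶ V), R g → ∃ i, Nonempty (W ⟶ U i))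
    (x : Ext.{w} ((constantSheaf J AddCommGrpCat.{u}).obj (AddCommGrpCat.of (ULift.{u} ℤ)))
      ((constantSheaf J AddCommGrpCat.{u}).obj (AddCommGrpCat.of A)) 1)
    (hx : (Ext.mk₀ φ).comp x (zero_add 1) = 0) : x = 0 := by
  let ι' := hullMap A
  let T : ShortComplex AddCommGrpCat.{u} :=
    ShortComplex.mk ι' (cokernel.π ι') (cokernel.condition ι')
  have hT : T.ShortExact :=
    { exact := ShortComplex.exact_cokernel ι'
      mono_f := (AddCommGrpCat.mono_iff_injective _).2 (hullMap_injective A hA)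
      epi_g := (inferInstance : Epi (cokernel.π ι')) }
  have hTC := cs_shortExact J T hT
  let y := x.comp (Ext.mk₀ ((constantSheaf J AddCommGrpCat.{u}).map ι')) (add_zero 1)
  have hy : (Ext.mk₀ φ).comp y (zero_add 1) = 0 := by
    show (Ext.mk₀ φ).comp (x.comp _ _) _ = 0
    rw [← Ext.comp_assoc_of_third_deg_zero, hx, Ext.zero_comp]
  have hy0 : y = 0 := divisible_case J φ U n hn hφ hcov (AddCommGrpCat.of (Hull A))
    (hull_bijective A) y hy
  obtain ⟨x₃, hx₃⟩ := Ext.covariant_sequence_exact₁ _ hTC x hy0 (zero_add 1)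
  obtain ⟨t, rfl⟩ := (Ext.mk₀_bijective _ _).2 x₃
  have hsurj : Function.Surjective T.g := (AddCommGrpCat.epi_iff_surjective _).1 hT.epi_g
  obtain ⟨s, hs⟩ : ∃ s : (constantSheaf J AddCommGrpCat.{u}).obj (AddCommGrpCat.of (ULift.{u} ℤ)) ⟶
      (T.map (constantSheaf J AddCommGrpCat.{u})).X₂,
      s ≫ (T.map (constantSheaf J AddCommGrpCat.{u})).g = t := exists_lift J T.g hsurj t
  rw [← hx₃, ← hs, ← Ext.mk₀_comp_mk₀_assoc]
  have h0 := hTC.comp_extClass
  exact (congrArg (fun z => (Ext.mk₀ s).comp z (zero_add 1)) h0).trans (Ext.comp_zero _ _ _ _ _)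

end main

end Groth.Agent.H6.CsTor
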