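import Groth.Statements.S2346
import Groth.Agent.Lib.Helper9.Misc.FinClos
import Groth.Agent.Lib.Helper6.GenFin

set_option autoImplicit false
universe u

namespace Groth.Agent.H6.CurveDom

open AlgebraicGeometry CategoryTheory Limits TopologicalSpace

variable {X : Scheme.{u}}

lemma coheight_genericPoint [IrreducibleSpace X] : Order.coheight (genericPoint X) = 0 :=
  Order.coheight_eq_zero.mpr (fun b _ => genericPoint_specializes b)

lemma not_isClosed_genericPoint [IrreducibleSpace X]
    (hX : ∀ x : X, IsClosed ({x} : Set X) → ringKrullDim (X.presheaf.stalk x) = 1) :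
    ¬ IsClosed ({genericPoint X} : Set X) := by
  intro hcl
  have h1 := hX _ hcl
  rw [ringKrullDim_stalk_eq_coheight, coheight_genericPoint] at h1
  simp at h1

/-- In a one-dimensional irreducible quasi-compact scheme every point is closed or generic. -/
lemma isClosed_or_eq_genericPoint [CompactSpace X] [IrreducibleSpace X]
    (hX : ∀ x : X, IsClosed ({x} : Set X) → ringKrullDim (X.presheaf.stalk x) = 1) (x : X) :
    IsClosed ({x} : Set X) ∨ x = genericPoint X := by
  by_cases hx : IsClosed ({x} : Set X)
  · exact Or.inl hx
  right
  obtain ⟨z, hz, hzc⟩ := (isClosed_closure (s := ({x} : Set X))).exists_closed_singleton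
    ⟨x, subset_closure rfl⟩
  have hxz : x ⤳ z := specializes_iff_mem_closure.mpr hz
  have hne : z ≠ x := by rintro rfl; exact hx hzc
  have hco : Order.coheight z = 1 := by
    have := hX z hzc
    rw [ringKrullDim_stalk_eq_coheight] at this
    exact_mod_cast this
  have hlt : z < x := lt_of_le_not_ge (a := z) (b := x) hxz (fun h => hne (Specializes.antisymm (show z ⤳ x from h) hxz).eq)
  have h1 : Order.coheight x + 1 ≤ Order.coheight z := Order.coheight_add_one_le hlt
  have h0 : Order.coheight x = 0 := by
    rw [hco] at h1
    generalize Order.coheight x = c at h1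
    induction c using ENat.recTopCoe with
    | top => simp at h1
    | coe n =>
      have h2 : n + 1 ≤ 1 := by exact_mod_cast h1
      have h3 : n = 0 := by omega
      simp [h3]
  have hmax : IsMax x := Order.coheight_eq_zero.mp h0
  have hη : x ≤ genericPoint X := genericPoint_specializes x
  have hη' : genericPoint X ≤ x := hmax hη
  exact ((genericPoint_specializes x).antisymm hη').eq.symm

/-- Closed subsets missing the generic point are finite. -/
lemma finite_of_isClosed [IsNoetherian X] [IrreducibleSpace X]
    (hX : ∀ x : X, IsClosed ({x} : Set X) → ringKrullDim (X.presheaf.stalk x) = 1)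
    (Z : Set X) (hZ : IsClosed Z) (hη : genericPoint X ∉ Z) : Z.Finite := by
  haveI : QuasiSober ↥Z := hZ.isClosedEmbedding_subtypeVal.quasiSober
  have hfin : Finite ↥Z := by
    apply Groth.Agent.H9.FinClos.finite_of_noetherian_of_closedPoints
    intro t
    have hcl : IsClosed ({(t : X)} : Set X) := by
      rcases isClosed_or_eq_genericPoint hX (t : X) with h | h
      · exact h
      · exact absurd (h ▸ t.2) hη
    have := hcl.preimage continuous_subtype_val (X := ↥Z)
    rwa [← Set.image_singleton, Subtype.val_injective.preimage_image] at this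
  exact Set.finite_coe_iff.mp hfin

/-- A one-dimensional irreducible Jacobson scheme is infinite. -/
lemma not_finite [IrreducibleSpace X] [JacobsonSpace X]
    (hX : ∀ x : X, IsClosed ({x} : Set X) → ringKrullDim (X.presheaf.stalk x) = 1) :
    ¬ Finite X := by
  intro hfin
  have hopen : IsOpen ({genericPoint X} : Set X) := by
    have hc : ({genericPoint X} : Set X)ᶜ =
        ⋃ x ∈ {x : X | x ≠ genericPoint X}, closure ({x} : Set X) := by
      ext y
      simp only [Set.mem_compl_iff, Set.mem_singleton_iff, Set.mem_iUnion, Set.mem_ofPred_eq,
        exists_prop]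
      constructor
      · intro hy; exact ⟨y, hy, subset_closure rfl⟩
      · rintro ⟨x, hx, hy⟩ rfl
        exact hx ((specializes_iff_mem_closure.mpr hy).antisymm (genericPoint_specializes x)).eq
    rw [← isClosed_compl_iff, hc]
    exact (Set.toFinite _).isClosed_biUnion (fun _ _ => isClosed_closure)
  exact not_isClosed_genericPoint hX
    (isClosed_singleton_of_isLocallyClosed_singleton hopen.isLocallyClosed)

theorem s2346 (k : Type u) [Field k] (X Y : Scheme.{u}) [X.Over (Spec (CommRingCat.of k))]
    [Y.Over (Spec (CommRingCat.of k))]
    [LocallyOfFiniteType (X ↘ (Spec (CommRingCat.of k)))]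
    [QuasiCompact (X ↘ (Spec (CommRingCat.of k)))]
    [LocallyOfFiniteType (Y ↘ (Spec (CommRingCat.of k)))]
    [QuasiCompact (Y ↘ (Spec (CommRingCat.of k)))]
    [IrreducibleSpace X] [IrreducibleSpace Y]
    (hX : (∀ x : X, IsClosed ({x} : Set X) → ringKrullDim (X.presheaf.stalk x) = 1))
    (hY : (∀ x : Y, IsClosed ({x} : Set Y) → ringKrullDim (Y.presheaf.stalk x) = 1))
    (f : X ⟶ Y) (hf : f ≫ (Y ↘ (Spec (CommRingCat.of k))) = X ↘ (Spec (CommRingCat.of k))) :
    IsDominant f ↔ ∀ y : Y, (f.base ⁻¹' {y}).Finite := by
  haveI : LocallyOfFiniteType (f ≫ (Y ↘ (Spec (CommRingCat.of k)))) := by rw [hf]; infer_instance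
  haveI hlft : LocallyOfFiniteType f := locallyOfFiniteType_of_comp f (Y ↘ (Spec (CommRingCat.of k)))
  haveI : IsLocallyNoetherian X :=
    LocallyOfFiniteType.isLocallyNoetherian (X ↘ (Spec (CommRingCat.of k)))
  haveI : CompactSpace X := QuasiCompact.compactSpace_of_compactSpace (X ↘ (Spec (CommRingCat.of k)))
  haveI : IsNoetherian X := {}
  haveI : CompactSpace Y := QuasiCompact.compactSpace_of_compactSpace (Y ↘ (Spec (CommRingCat.of k)))
  haveI : JacobsonSpace X := LocallyOfFiniteType.jacobsonSpace (X ↘ Spec (CommRingCat.of k))
  haveI : JacobsonSpace Y := LocallyOfFiniteType.jacobsonSpace (Y ↘ Spec (CommRingCat.of k))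
  constructor
  · intro hdom y
    have hgen : f (genericPoint X) = genericPoint Y :=
      Groth.Agent.H6.GenFin.map_genericPoint_of_isDominant f
    by_cases hy : y = genericPoint Y
    · subst hy
      refine (Set.finite_singleton (genericPoint X)).subset ?_
      intro x hx
      have hx' : f x = genericPoint Y := hx
      rcases isClosed_or_eq_genericPoint hX x with h | h
      · exfalso
        have h2 : f x ∈ closedPoints Y := f.closePoints_subset_preimage_closedPoints h
        rw [hx'] at h2
        exact not_isClosed_genericPoint hY h2
      · exact h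
    · have hycl : IsClosed ({y} : Set Y) := by
        rcases isClosed_or_eq_genericPoint hY y with h | h
        · exact h
        · exact absurd h hy
      refine finite_of_isClosed hX _ (hycl.preimage f.continuous) ?_
      intro h
      have h' : f (genericPoint X) = y := h
      exact hy (h'.symm.trans hgen)
  · intro hfin
    have hgen : f (genericPoint X) = genericPoint Y := by
      by_contra hne
      have hycl : IsClosed ({f (genericPoint X)} : Set Y) := by
        rcases isClosed_or_eq_genericPoint hY (f (genericPoint X)) with h | h
        · exact h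
        · exact absurd h hne
      have hall : f.base ⁻¹' {f (genericPoint X)} = Set.univ := by
        have hcl : IsClosed (f.base ⁻¹' {f (genericPoint X)}) := hycl.preimage f.continuous
        have hmem : genericPoint X ∈ f.base ⁻¹' {f (genericPoint X)} := rfl
        have := hcl.closure_subset_iff.mpr (Set.singleton_subset_iff.mpr hmem)
        rw [(genericPoint_spec X).def] at this
        exact Set.eq_univ_of_univ_subset this
      have h1 := hfin (f (genericPoint X))
      rw [hall] at h1
      exact not_finite hX (Set.finite_univ_iff.mp h1)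
    refine ⟨?_⟩
    intro y
    have h1 : closure ({f (genericPoint X)} : Set Y) ⊆ closure (Set.range f) :=
      closure_mono (Set.singleton_subset_iff.mpr ⟨_, rfl⟩)
    apply h1
    rw [hgen, (genericPoint_spec Y).def]
    trivial

end Groth.Agent.H6.CurveDom
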