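import Mathlib
import Groth.Prelude.Def_CurvBase
import Groth.Agent.Lib.Helper6.VC1

/-!
# Curves: local rings of a normal complete curve are the valuation rings of its function field
(helper6)
-/

universe u
open IsLocalRing AlgebraicGeometry CategoryTheory

namespace Groth.Agent.H6.Cv

/-- a Noetherian integrally closed local domain of Krull dimension one is a valuation ring,
and not a field. -/
lemma valuationRing_of_dim_one (O : Type u) [CommRing O] [IsDomain O] [IsLocalRing O]
    [IsNoetherianRing O] [IsIntegrallyClosed O] (h : ringKrullDim O = 1) :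
    ValuationRing O ∧ ¬ IsField O := by
  have hnf : ¬ IsField O := by
    intro hf
    have := ringKrullDim_eq_zero_of_isField hf
    rw [h] at this
    exact one_ne_zero this
  refine ⟨?_, hnf⟩
  have hdim : Ring.KrullDimLE 1 O := Ring.krullDimLE_iff.mpr (le_of_eq h)
  have hmax : maximalIdeal O ≠ ⊥ := isField_iff_maximalIdeal_eq.not.mp hnf
  apply ((IsDiscreteValuationRing.TFAE O hnf).out 3 1).1
  refine ⟨inferInstance, maximalIdeal O, ⟨hmax, inferInstance⟩, ?_⟩
  rintro P ⟨hP0, hP⟩
  have := hP.isMaximal_of_ne_bot hP0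
  exact IsLocalRing.eq_maximalIdeal this

/-- primes of a one-dimensional local domain -/
lemma prime_eq_bot_or_maximal (O : Type u) [CommRing O] [IsDomain O] [IsLocalRing O]
    (h : ringKrullDim O = 1) (P : Ideal O) [hP : P.IsPrime] : P = ⊥ ∨ P = maximalIdeal O := by
  have hdim : Ring.KrullDimLE 1 O := Ring.krullDimLE_iff.mpr (le_of_eq h)
  by_cases hP0 : P = ⊥
  · exact Or.inl hP0
  · exact Or.inr (IsLocalRing.eq_maximalIdeal (hP.isMaximal_of_ne_bot hP0))

/-- on an integral quasi-compact scheme all of whose closed points have one-dimensional local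
rings, every point other than the generic point is closed. -/
lemma isClosed_of_ne_genericPoint (X : Scheme.{u}) [IsIntegral X] [CompactSpace X]
    (hX : ∀ x : X, IsClosed ({x} : Set X) → ringKrullDim (X.presheaf.stalk x) = 1) (x : X)
    (hx : x ≠ genericPoint X) : IsClosed ({x} : Set X) := by
  obtain ⟨c, hc, hcc⟩ := IsClosed.exists_closed_singleton (isClosed_closure (s := {x}))
    ⟨x, subset_closure rfl⟩
  have hxc : x ⤳ c := specializes_iff_mem_closure.2 hc
  suffices x = c by rw [this]; exact hcc
  have hdim := hX c hcc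
  have hxr : x ∈ Set.range (X.fromSpecStalk c) := by
    rw [Scheme.range_fromSpecStalk]; exact hxc
  obtain ⟨p, hp⟩ := hxr
  have hξc : genericPoint X ⤳ c := (genericPoint_spec X).specializes trivial
  have hξr : genericPoint X ∈ Set.range (X.fromSpecStalk c) := by
    rw [Scheme.range_fromSpecStalk]; exact hξc
  obtain ⟨q, hq⟩ := hξr
  have : p.asIdeal.IsPrime := p.2
  rcases prime_eq_bot_or_maximal (X.presheaf.stalk c) hdim p.asIdeal with h0 | hm
  · exfalso
    apply hx
    have hpq : p ⤳ q := by
      apply (PrimeSpectrum.le_iff_specializes (R := X.presheaf.stalk c) p q).1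
      change p.asIdeal ≤ q.asIdeal
      rw [h0]
      exact bot_le
    have h1 : x ⤳ genericPoint X := by
      rw [← hp, ← hq]
      exact hpq.map (X.fromSpecStalk c).continuous
    have h2 : genericPoint X ⤳ x := (genericPoint_spec X).specializes trivial
    exact (h1.antisymm h2).eq
  · have : p = closedPoint (X.presheaf.stalk c) := PrimeSpectrum.ext hm
    rw [← hp, this]
    exact Scheme.fromSpecStalk_closedPoint

lemma exists_valuationSubring (X : Scheme.{u}) [IsIntegral X] [IsLocallyNoetherian X] (x : X)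
    (hic : IsIntegrallyClosed (X.presheaf.stalk x))
    (hdim : ringKrullDim (X.presheaf.stalk x) = 1) :
    ∃ R : ValuationSubring X.functionField, R ≠ ⊤ ∧
      (R : Set X.functionField) = Set.range (algebraMap (X.presheaf.stalk x) X.functionField) := by
  obtain ⟨hV, hnf⟩ := valuationRing_of_dim_one (X.presheaf.stalk x) hdim
  let R : ValuationSubring X.functionField :=
    ⟨(algebraMap (X.presheaf.stalk x) X.functionField).range,
      ValuationRing.isInteger_or_isInteger (X.presheaf.stalk x)⟩
  refine ⟨R, ?_, rfl⟩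
  intro hR
  have hmax : maximalIdeal (X.presheaf.stalk x) ≠ ⊥ := isField_iff_maximalIdeal_eq.not.mp hnf
  obtain ⟨a, ha, ha0⟩ := Submodule.exists_mem_ne_zero_of_ne_bot hmax
  have hinj : Function.Injective (algebraMap (X.presheaf.stalk x) X.functionField) :=
    IsFractionRing.injective _ _
  have hmem : (algebraMap (X.presheaf.stalk x) X.functionField a)⁻¹ ∈ R := by rw [hR]; trivial
  obtain ⟨b, hb⟩ := hmem
  have hab : a * b = 1 := by
    apply hinj
    rw [map_mul, hb, map_one]
    apply mul_inv_cancel₀
    intro h0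
    apply ha0
    apply hinj
    rw [h0, map_zero]
  exact (mem_maximalIdeal _).1 ha (IsUnit.of_mul_eq_one b hab)

lemma fromSpecStalk_comp_over (k : Type u) [Field k] (X : Scheme.{u})
    [X.Over (Spec (CommRingCat.of k))] (x : X) :
    X.fromSpecStalk x ≫ (X ↘ Spec (CommRingCat.of k)) =
      Spec.map (CommRingCat.ofHom (Curv2.stalkMap k X x)) := by
  apply AlgebraicGeometry.ext_to_Spec
  have h1 : (Scheme.ΓSpecIso (CommRingCat.of k)).inv ≫
      Scheme.Γ.map (Spec.map (CommRingCat.ofHom (Curv2.stalkMap k X x))).op =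
      CommRingCat.ofHom (Curv2.stalkMap k X x) ≫ (Scheme.ΓSpecIso (X.presheaf.stalk x)).inv :=
    (Scheme.ΓSpecIso_inv_naturality (CommRingCat.ofHom (Curv2.stalkMap k X x))).symm
  rw [h1]
  change (Scheme.ΓSpecIso (CommRingCat.of k)).inv ≫
    (X.fromSpecStalk x ≫ (X ↘ Spec (CommRingCat.of k))).appTop = _
  rw [Scheme.Hom.comp_appTop, Scheme.fromSpecStalk_appTop]
  rfl

/-- on a universally closed integral `k`-scheme, every valuation ring of the function field
containing `k` dominates a local ring. -/
lemma exists_dominated_point (k : Type u) [Field k] (X : Scheme.{u})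
    [X.Over (Spec (CommRingCat.of k))] [UniversallyClosed (X ↘ Spec (CommRingCat.of k))]
    [IsIntegral X] (R : ValuationSubring X.functionField)
    (hk : ∀ c : k, Curv2.stalkMap k X (genericPoint X) c ∈ R) :
    ∃ (x : X) (φ : X.presheaf.stalk x ⟶ CommRingCat.of R), IsLocalHom φ.hom ∧
      (∀ a, ((φ.hom a : R) : X.functionField) =
        algebraMap (X.presheaf.stalk x) X.functionField a) ∧
      Spec.map (CommRingCat.ofHom R.subtype) ≫ (Spec.map φ ≫ X.fromSpecStalk x) =
        X.fromSpecStalk (genericPoint X) := by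
  classical
  let ξ : X := genericPoint X
  let f := X ↘ Spec (CommRingCat.of k)
  let θ : k →+* R := (Curv2.stalkMap k X ξ).codRestrict R.toSubring hk
  let i₂ : Spec (CommRingCat.of R) ⟶ Spec (CommRingCat.of k) := Spec.map (CommRingCat.ofHom θ)
  let i₁ : Spec (CommRingCat.of X.functionField) ⟶ X := X.fromSpecStalk ξ
  have w : i₁ ≫ f = Spec.map (CommRingCat.ofHom (algebraMap R X.functionField)) ≫ i₂ := by
    change X.fromSpecStalk ξ ≫ f = Spec.map (CommRingCat.ofHom R.subtype) ≫
      Spec.map (CommRingCat.ofHom θ)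
    rw [← Spec.map_comp, fromSpecStalk_comp_over]
    rfl
  let Sq : ValuativeCommSq f :=
    { R := ↥R, K := ↑X.functionField, i₁ := i₁, i₂ := i₂, commSq := ⟨w⟩ }
  have hex : ValuativeCriterion.Existence f := by
    have := (UniversallyClosed.eq_valuativeCriterion ▸ (inferInstance : UniversallyClosed f) :
      (ValuativeCriterion.Existence ⊓ @QuasiCompact) f)
    exact this.1
  obtain ⟨⟨l, hl₁, hl₂⟩⟩ := hex Sq
  let x : X := l.base (IsLocalRing.closedPoint R)
  let φ : X.presheaf.stalk x ⟶ CommRingCat.of R := Scheme.stalkClosedPointTo l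
  have hφl : Spec.map φ ≫ X.fromSpecStalk x = l := Scheme.Spec_stalkClosedPointTo_fromSpecStalk l
  have hφloc : IsLocalHom φ.hom := Scheme.isLocalHom_stalkClosedPointTo l
  have hid : IsLocalHom (CommRingCat.Hom.hom (𝟙 (X.presheaf.stalk ξ))) := by
    change IsLocalHom (RingHom.id _)
    infer_instance
  have h0 : Spec.map (φ ≫ CommRingCat.ofHom R.subtype) ≫ X.fromSpecStalk x =
      Spec.map (𝟙 (X.presheaf.stalk ξ)) ≫ X.fromSpecStalk ξ := by
    rw [Spec.map_comp, Category.assoc, hφl, Spec.map_id, Category.id_comp]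
    exact hl₁
  obtain ⟨hs, hφ⟩ := Groth.Agent.H6.VC.specializes_and_eq _ _ h0
  rw [Category.comp_id] at hφ
  refine ⟨x, φ, hφloc, ?_, ?_⟩
  · intro a
    exact congrArg (fun q => q.hom a) hφ
  · rw [hφl]; exact hl₁

end Groth.Agent.H6.Cv
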