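import Mathlib

universe u
open IsLocalRing AlgebraicGeometry CategoryTheory TopologicalSpace

namespace Groth.Agent.H6.Cv

/-- on an irreducible quasi-compact scheme all of whose closed points have one-dimensional local
rings, every non-closed point is the generic point. -/
lemma eq_genericPoint_of_not_isClosed (X : Scheme.{u}) [IrreducibleSpace X] [CompactSpace X]
    (hX : ∀ x : X, IsClosed ({x} : Set X) → ringKrullDim (X.presheaf.stalk x) = 1) (x : X)
    (hx : ¬ IsClosed ({x} : Set X)) : x = genericPoint X := by
  obtain ⟨c, hc, hcc⟩ := IsClosed.exists_closed_singleton (isClosed_closure (s := {x}))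
    ⟨x, subset_closure rfl⟩
  have hxc : x ⤳ c := specializes_iff_mem_closure.2 hc
  have hdim := hX c hcc
  have hxr : x ∈ Set.range (X.fromSpecStalk c) := by
    rw [Scheme.range_fromSpecStalk]; exact hxc
  obtain ⟨p, hp⟩ := hxr
  have hξx : genericPoint X ⤳ x := (genericPoint_spec X).specializes trivial
  have hξc : genericPoint X ⤳ c := hξx.trans hxc
  have hξr : genericPoint X ∈ Set.range (X.fromSpecStalk c) := by
    rw [Scheme.range_fromSpecStalk]; exact hξc
  obtain ⟨q, hq⟩ := hξr
  have hemb : Topology.IsEmbedding (X.fromSpecStalk c).base :=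
    (X.fromSpecStalk c).isEmbedding
  have hqp : q ⤳ p := by
    rw [← hemb.isInducing.specializes_iff, hp, hq]
    exact hξx
  have hqp' : q.asIdeal ≤ p.asIdeal :=
    (PrimeSpectrum.le_iff_specializes (R := X.presheaf.stalk c) q p).2 hqp
  have hdim1 : Ring.KrullDimLE 1 (X.presheaf.stalk c) := Ring.krullDimLE_iff.mpr (le_of_eq hdim)
  have hpprime : p.asIdeal.IsPrime := p.2
  rcases Ring.krullDimLE_one_iff.1 hdim1 p.asIdeal hpprime with hmin | hmax
  · have hqe : q.asIdeal = p.asIdeal := by
      apply le_antisymm hqp'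
      exact hmin.2 ⟨q.2, bot_le⟩ hqp'
    have : q = p := PrimeSpectrum.ext hqe
    rw [← hp, ← hq, this]
  · exfalso
    apply hx
    have hpm : p.asIdeal = maximalIdeal (X.presheaf.stalk c) := IsLocalRing.eq_maximalIdeal hmax
    have : p = closedPoint (X.presheaf.stalk c) := PrimeSpectrum.ext hpm
    have hxc' : x = c := by
      rw [← hp, this]
      exact Scheme.fromSpecStalk_closedPoint
    rw [hxc']; exact hcc

end Groth.Agent.H6.Cv
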