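import Mathlib

universe u
open IsLocalRing AlgebraicGeometry CategoryTheory TopologicalSpace

namespace Groth.Agent.H6.Cv

/-- in a quasi-sober T0 space, the closure of a point is an irreducible component iff the point
has no proper generization. -/
lemma closure_mem_irreducibleComponents_iff {α : Type*} [TopologicalSpace α] [QuasiSober α]
    [T0Space α] (x : α) :
    closure ({x} : Set α) ∈ irreducibleComponents α ↔ ∀ y : α, y ⤳ x → y = x := by
  constructor
  · intro h y hy
    have h1 : closure ({x} : Set α) ⊆ closure ({y} : Set α) :=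
      (isClosed_closure.closure_subset_iff).2
        (Set.singleton_subset_iff.2 (specializes_iff_mem_closure.1 hy))
    have h2 : closure ({y} : Set α) ⊆ closure ({x} : Set α) :=
      h.2 isIrreducible_singleton.closure h1
    have h3 : closure ({y} : Set α) = closure ({x} : Set α) := le_antisymm h2 h1
    exact (isGenericPoint_def.2 h3).eq (isGenericPoint_closure)
  · intro h
    obtain ⟨u, hu, hxu⟩ := exists_mem_irreducibleComponents_subset_of_isIrreducible
      (closure ({x} : Set α)) isIrreducible_singleton.closure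
    obtain ⟨ζ, hζ⟩ := QuasiSober.sober hu.1 (isClosed_of_mem_irreducibleComponents u hu)
    have hxu' : x ∈ u := hxu (subset_closure rfl)
    have hζx : ζ ⤳ x := hζ.specializes hxu'
    have : ζ = x := h ζ hζx
    rw [← this, hζ.def]
    exact hu

section Stalk

variable {X : Scheme.{u}} (c : X)

lemma fromSpecStalk_specializes_iff (P Q : ↥(Spec (X.presheaf.stalk c))) :
    (X.fromSpecStalk c).base P ⤳ (X.fromSpecStalk c).base Q ↔ P.asIdeal ≤ Q.asIdeal := by
  have hemb : Topology.IsEmbedding (X.fromSpecStalk c).base := (X.fromSpecStalk c).isEmbedding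
  rw [hemb.isInducing.specializes_iff]
  exact (PrimeSpectrum.le_iff_specializes (R := X.presheaf.stalk c) P Q).symm

lemma exists_prime_of_specializes {y : X} (hy : y ⤳ c) :
    ∃ P : ↥(Spec (X.presheaf.stalk c)), (X.fromSpecStalk c).base P = y := by
  have : y ∈ Set.range (X.fromSpecStalk c) := by
    rw [Scheme.range_fromSpecStalk]; exact hy
  exact this

lemma fromSpecStalk_specializes_base (P : ↥(Spec (X.presheaf.stalk c))) :
    (X.fromSpecStalk c).base P ⤳ c := by
  have : (X.fromSpecStalk c).base P ∈ Set.range (X.fromSpecStalk c) := ⟨P, rfl⟩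
  rw [Scheme.range_fromSpecStalk] at this
  exact this

lemma fromSpecStalk_eq_iff_maximal (P : ↥(Spec (X.presheaf.stalk c))) :
    (X.fromSpecStalk c).base P = c ↔ P.asIdeal = maximalIdeal (X.presheaf.stalk c) := by
  have hemb : Topology.IsEmbedding (X.fromSpecStalk c).base := (X.fromSpecStalk c).isEmbedding
  constructor
  · intro h
    have : P = closedPoint (X.presheaf.stalk c) := by
      apply hemb.injective
      rw [h]
      exact (Scheme.fromSpecStalk_closedPoint).symm
    rw [this]; rfl
  · intro h
    have : P = closedPoint (X.presheaf.stalk c) := PrimeSpectrum.ext h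
    rw [this]
    exact Scheme.fromSpecStalk_closedPoint

lemma mem_minimalPrimes_iff_forall_specializes (P : ↥(Spec (X.presheaf.stalk c))) :
    P.asIdeal ∈ minimalPrimes (X.presheaf.stalk c) ↔
      ∀ y : X, y ⤳ (X.fromSpecStalk c).base P → y = (X.fromSpecStalk c).base P := by
  have hemb : Topology.IsEmbedding (X.fromSpecStalk c).base := (X.fromSpecStalk c).isEmbedding
  constructor
  · intro hmin y hy
    obtain ⟨Q, rfl⟩ := exists_prime_of_specializes c (hy.trans (fromSpecStalk_specializes_base c P))
    have hQP : Q.asIdeal ≤ P.asIdeal := (fromSpecStalk_specializes_iff c Q P).1 hy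
    have hPQ : P.asIdeal ≤ Q.asIdeal := hmin.2 ⟨Q.2, bot_le⟩ hQP
    have : Q = P := PrimeSpectrum.ext (le_antisymm hQP hPQ)
    rw [this]
  · intro h
    refine ⟨⟨P.2, bot_le⟩, ?_⟩
    rintro Q ⟨hQ, -⟩ hQP
    have hy : (X.fromSpecStalk c).base ⟨Q, hQ⟩ ⤳ (X.fromSpecStalk c).base P :=
      (fromSpecStalk_specializes_iff c ⟨Q, hQ⟩ P).2 hQP
    have := hemb.injective (h _ hy)
    rw [← this]

end Stalk

end Groth.Agent.H6.Cv
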