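import Mathlib
import Groth.Agent.Lib.Helper1.DimFormula3
import Groth.Agent.Lib.Helper6.Cv3

universe u
open IsLocalRing AlgebraicGeometry CategoryTheory TopologicalSpace

namespace Groth.Agent.H6.Cv

open Groth.Agent.H1.DimFormula

variable {k : Type u} [Field k] {Z : Scheme.{u}} (gk : Z ⟶ Spec (CommRingCat.of k))

/-- stalks at points without proper generizations are zero-dimensional -/
lemma ringKrullDim_stalk_eq_zero' {T : Scheme.{u}} (t : T) (h : ∀ z : T, z ⤳ t → z = t) :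
    ringKrullDim (T.presheaf.stalk t) = 0 := by
  haveI : Subsingleton (PrimeSpectrum (T.presheaf.stalk t)) := by
    constructor
    intro p q
    have hp : (T.fromSpecStalk t).base p ∈ Set.range (T.fromSpecStalk t) := ⟨p, rfl⟩
    have hq : (T.fromSpecStalk t).base q ∈ Set.range (T.fromSpecStalk t) := ⟨q, rfl⟩
    rw [Scheme.range_fromSpecStalk] at hp hq
    have := (h _ hp).trans (h _ hq).symm
    exact (T.fromSpecStalk t).isEmbedding.injective this
  exact Order.krullDim_eq_zero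

/-- specialization inside an affine open in terms of primes -/
lemma primeIdealOf_le_iff {U : Z.Opens} (hU : IsAffineOpen U) (y y' : Z) (hy : y ∈ U)
    (hy' : y' ∈ U) :
    hU.primeIdealOf ⟨y, hy⟩ ≤ hU.primeIdealOf ⟨y', hy'⟩ ↔ y ⤳ y' := by
  constructor
  · intro h
    have h1 : hU.primeIdealOf ⟨y, hy⟩ ⤳ hU.primeIdealOf ⟨y', hy'⟩ :=
      (PrimeSpectrum.le_iff_specializes _ _).1 h
    have h2 : hU.fromSpec.base (hU.primeIdealOf ⟨y, hy⟩) ⤳
        hU.fromSpec.base (hU.primeIdealOf ⟨y', hy'⟩) := h1.map hU.fromSpec.continuous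
    rw [hU.fromSpec_primeIdealOf ⟨y, hy⟩, hU.fromSpec_primeIdealOf ⟨y', hy'⟩] at h2
    exact h2
  · intro h
    apply (PrimeSpectrum.le_iff_specializes _ _).2
    have h2 : hU.fromSpec.base (hU.primeIdealOf ⟨y, hy⟩) ⤳
        hU.fromSpec.base (hU.primeIdealOf ⟨y', hy'⟩) := by
      rw [hU.fromSpec_primeIdealOf ⟨y, hy⟩, hU.fromSpec_primeIdealOf ⟨y', hy'⟩]
      exact h
    exact hU.fromSpec.isOpenEmbedding.isInducing.specializes_iff.1 h2

lemma primeIdealOf_fromSpec {U : Z.Opens} (hU : IsAffineOpen U) (p : Spec Γ(Z, U))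
    (hp : hU.fromSpec.base p ∈ U) : hU.primeIdealOf ⟨hU.fromSpec.base p, hp⟩ = p := by
  apply hU.fromSpec.isOpenEmbedding.injective
  exact hU.fromSpec_primeIdealOf ⟨hU.fromSpec.base p, hp⟩

/-- for a closed point `x` there is a generic point of an irreducible component generizing `x`
with the same local dimension. -/
lemma exists_generic_localDim_eq [LocallyOfFiniteType gk] (x : Z) :
    ∃ η : Z, η ⤳ x ∧ closure ({η} : Set Z) ∈ irreducibleComponents Z ∧
      FlatMor.localDim Z η = FlatMor.localDim Z x := by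
  obtain ⟨U, hU, hxU⟩ : ∃ U : Z.Opens, IsAffineOpen U ∧ x ∈ U := by
    obtain ⟨_, ⟨U, hU, rfl⟩, hz, -⟩ :=
      Z.isBasis_affineOpens.exists_subset_of_mem_open (Set.mem_univ x) isOpen_univ
    exact ⟨U, hU, hz⟩
  set ψ : CommRingCat.of k ⟶ Γ(Z, U) := Spec.preimage (hU.fromSpec ≫ gk) with hψ
  have hψ' : Spec.map ψ = hU.fromSpec ≫ gk := Spec.map_preimage _
  letI algB : Algebra k Γ(Z, U) := ψ.hom.toAlgebra
  have hft : Algebra.FiniteType k Γ(Z, U) := by
    have h1 : LocallyOfFiniteType (Spec.map ψ) := by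
      rw [hψ']; infer_instance
    exact (HasRingHomProperty.Spec_iff (P := @LocallyOfFiniteType)).mp h1
  set m := hU.primeIdealOf ⟨x, hxU⟩ with hm
  obtain ⟨p, hpm, hpmin, hpdim⟩ := exists_minimal_ringKrullDim_quotient_eq k Γ(Z, U) m
  have hηU : hU.fromSpec.base p ∈ U := by
    have : hU.fromSpec.base p ∈ Set.range hU.fromSpec.base := ⟨p, rfl⟩
    rw [hU.range_fromSpec] at this
    exact this
  set η : Z := hU.fromSpec.base p with hη
  have hpη : hU.primeIdealOf ⟨η, hηU⟩ = p := primeIdealOf_fromSpec hU p hηU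
  have hηx : η ⤳ x := by
    rw [← primeIdealOf_le_iff hU η x hηU hxU, hpη]
    exact hpm
  have hgen : ∀ y : Z, y ⤳ η → y = η := by
    intro y hy
    have hyU : y ∈ U := hy.mem_open U.2 hηU
    have h1 : hU.primeIdealOf ⟨y, hyU⟩ ≤ p := by
      rw [← hpη, primeIdealOf_le_iff hU y η hyU hηU]; exact hy
    have h2 : p.asIdeal ≤ (hU.primeIdealOf ⟨y, hyU⟩).asIdeal :=
      hpmin.2 ⟨(hU.primeIdealOf ⟨y, hyU⟩).2, bot_le⟩ h1
    have h3 : hU.primeIdealOf ⟨y, hyU⟩ = p := PrimeSpectrum.ext (le_antisymm h1 h2)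
    have h4 := hU.fromSpec_primeIdealOf ⟨y, hyU⟩
    rw [h3] at h4
    exact h4.symm
  refine ⟨η, hηx, (closure_mem_irreducibleComponents_iff η).2 hgen, ?_⟩
  rw [localDim_eq_stalk_add_quotient gk hU η hηU, localDim_eq_stalk_add_quotient gk hU x hxU,
    ringKrullDim_stalk_eq_zero' η hgen, zero_add, hpη]
  letI := Z.presheaf.algebra_section_stalk ⟨x, hxU⟩
  haveI := hU.isLocalization_stalk ⟨x, hxU⟩
  have h3 : ringKrullDim (Z.presheaf.stalk x) = m.asIdeal.height :=
    IsLocalization.AtPrime.ringKrullDim_eq_height m.asIdeal (Z.presheaf.stalk x)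
  rw [h3]
  exact hpdim

end Groth.Agent.H6.Cv
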