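import Mathlib
import Groth.Prelude.Def_Curv2
import Groth.Agent.Lib.Helper6.Ext1
import Groth.Agent.Lib.Helper6.Cv1

universe u
open CategoryTheory CategoryTheory.Limits AlgebraicGeometry TopologicalSpace Opposite IsLocalRing

namespace Groth.Agent.H6.Cv

/-- a Noetherian normal local domain of dimension at most one is regular. -/
theorem regular_of_normal_dim_le_one (O : Type u) [CommRing O] [IsDomain O] [IsLocalRing O]
    [IsNoetherianRing O] [IsIntegrallyClosed O] (h : ringKrullDim O ≤ 1) :
    IsRegularLocalRing O := by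
  have : Ring.KrullDimLE 1 O := Ring.krullDimLE_iff.mpr h
  have h3 : IsIntegrallyClosed O ∧ ∀ P : Ideal O, P ≠ ⊥ → P.IsPrime → P = maximalIdeal O :=
    ⟨inferInstance, fun P hP0 hP => eq_maximalIdeal (hP.isMaximal_of_ne_bot hP0)⟩
  have : IsPrincipalIdealRing O :=
    ((tfae_of_isNoetherianRing_of_isLocalRing_of_isDomain O).out 3 0).mp h3
  infer_instance

attribute [local instance] Curv2.stalkAlgebra

/-- morphisms from a normal curve to a complete curve induced by an embedding of function fields. -/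
theorem exists_morphism_of_algHom (k : Type u) [Field k] (X Y : Scheme.{u})
    [X.Over (Spec (CommRingCat.of k))] [LocallyOfFiniteType (X ↘ (Spec (CommRingCat.of k)))]
    [QuasiCompact (X ↘ (Spec (CommRingCat.of k)))] [IsIntegral X]
    (hX : ∀ x : X, IsClosed ({x} : Set X) → ringKrullDim (X.presheaf.stalk x) = 1)
    (hnorm : Pi1.IsNormalScheme X)
    [Y.Over (Spec (CommRingCat.of k))] [IsProper (Y ↘ (Spec (CommRingCat.of k)))] [IsIntegral Y]
    (ψ : Y.presheaf.stalk (genericPoint Y) ⟶ X.presheaf.stalk (genericPoint X))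
    (hψ : ∀ c : k, ψ.hom (Curv2.stalkMap k Y (genericPoint Y) c) =
      Curv2.stalkMap k X (genericPoint X) c) :
    ∃ u : X ⟶ Y, u ≫ (Y ↘ (Spec (CommRingCat.of k))) = X ↘ (Spec (CommRingCat.of k)) ∧
      X.fromSpecStalk (genericPoint X) ≫ u = Spec.map ψ ≫ Y.fromSpecStalk (genericPoint Y) := by
  have : CompactSpace X := QuasiCompact.compactSpace_of_compactSpace (X ↘ (Spec (CommRingCat.of k)))
  have : IsLocallyNoetherian X :=
    LocallyOfFiniteType.isLocallyNoetherian (X ↘ (Spec (CommRingCat.of k)))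
  let r : Spec (X.presheaf.stalk (genericPoint X)) ⟶ Y :=
    Spec.map ψ ≫ Y.fromSpecStalk (genericPoint Y)
  have hr : r ≫ (Y ↘ (Spec (CommRingCat.of k))) =
      X.fromSpecStalk (genericPoint X) ≫ (X ↘ (Spec (CommRingCat.of k))) := by
    rw [Category.assoc, fromSpecStalk_comp_over, fromSpecStalk_comp_over, ← Spec.map_comp]
    congr 1
    ext c
    exact hψ c
  obtain ⟨V, hξV, g, hg1, hg2⟩ := spread_out_of_isGermInjective'
    (X ↘ (Spec (CommRingCat.of k))) (Y ↘ (Spec (CommRingCat.of k))) r hr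
  have hV : Dense (V : Set X) := V.isOpen.dense ⟨_, hξV⟩
  have hreg : ∀ x : X, ringKrullDim (X.presheaf.stalk x) ≤ 1 →
      IsRegularLocalRing (X.presheaf.stalk x) := by
    intro x hx
    have := (hnorm x).2
    exact regular_of_normal_dim_le_one _ hx
  obtain ⟨U, hVU, g', hg'1, hg'2, hU⟩ := Groth.Agent.H6.Ext.extend_codim_one
    (Y ↘ (Spec (CommRingCat.of k))) (X ↘ (Spec (CommRingCat.of k))) hreg V hV g hg2
  have hUtop : ∀ x : X, x ∈ U := by
    intro x
    apply hU
    by_cases hx : x = genericPoint X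
    · subst hx
      have : ringKrullDim (X.presheaf.stalk (genericPoint X)) = 0 :=
        ringKrullDim_eq_zero_of_isField (Field.toIsField X.functionField)
      rw [this]
      exact zero_le_one
    · exact le_of_eq (hX x (isClosed_of_ne_genericPoint X hX x hx))
  let j : X ⟶ U := IsOpenImmersion.lift U.ι (𝟙 X) (by
    rintro x -
    rw [Scheme.Opens.range_ι]
    exact hUtop _)
  have hj : j ≫ U.ι = 𝟙 X := IsOpenImmersion.lift_fac _ _ _
  have hj' : U.ι ≫ j = 𝟙 _ := by
    rw [← cancel_mono U.ι, Category.assoc, hj, Category.comp_id, Category.id_comp]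
  refine ⟨j ≫ g', ?_, ?_⟩
  · rw [Category.assoc, hg'1, reassoc_of% hj]
  · rw [← Scheme.Opens.fromSpecStalkOfMem_ι V (genericPoint X) hξV, ← Scheme.homOfLE_ι X hVU]
    simp only [Category.assoc]
    rw [reassoc_of% hj', hg'2, ← hg1]

end Groth.Agent.H6.Cv
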