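import Mathlib
import Groth.Prelude.Def_Curv2
import Groth.Agent.Lib.Helper6.Cv5

universe u
open CategoryTheory CategoryTheory.Limits AlgebraicGeometry TopologicalSpace Opposite IsLocalRing

namespace Groth.Agent.H6.Cv

/-- characterisation of the generic stalk map in terms of `fromSpecStalk`. -/
theorem generic_stalk_iff {X Y : Scheme.{u}} [IsIntegral X] [IsIntegral Y] (u : X ⟶ Y)
    (ψ : Y.presheaf.stalk (genericPoint Y) ⟶ X.presheaf.stalk (genericPoint X)) :
    (∃ hu : u.base (genericPoint X) = genericPoint Y,
      Y.presheaf.stalkSpecializes (specializes_of_eq hu) ≫ u.stalkMap (genericPoint X) = ψ) ↔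
    X.fromSpecStalk (genericPoint X) ≫ u = Spec.map ψ ≫ Y.fromSpecStalk (genericPoint Y) := by
  constructor
  · rintro ⟨hu, h⟩
    rw [← h, Spec.map_comp, Category.assoc, Scheme.SpecMap_stalkSpecializes_fromSpecStalk,
      Scheme.SpecMap_stalkMap_fromSpecStalk]
  · intro h
    have hu : u.base (genericPoint X) = genericPoint Y := by
      let c : ↥(Spec (X.presheaf.stalk (genericPoint X))) :=
        closedPoint (X.presheaf.stalk (genericPoint X))
      have h1 : u.base ((X.fromSpecStalk (genericPoint X)).base c) =
          (Y.fromSpecStalk (genericPoint Y)).base ((Spec.map ψ).base c) :=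
        congrArg (fun f => f.base c) h
      rw [Scheme.fromSpecStalk_closedPoint] at h1
      rw [h1]
      have h2 : (Spec.map ψ).base c =
          (closedPoint (Y.presheaf.stalk (genericPoint Y)) :
            ↥(Spec (Y.presheaf.stalk (genericPoint Y)))) := by
        have : Subsingleton (Spec (Y.presheaf.stalk (genericPoint Y))) := by
          change Subsingleton (PrimeSpectrum Y.functionField)
          infer_instance
        exact Subsingleton.elim _ _
      rw [h2, Scheme.fromSpecStalk_closedPoint]
    refine ⟨hu, ?_⟩
    apply Spec.map_injective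
    rw [← cancel_mono (Y.fromSpecStalk (genericPoint Y)), ← h, Spec.map_comp, Category.assoc,
      Scheme.SpecMap_stalkSpecializes_fromSpecStalk, Scheme.SpecMap_stalkMap_fromSpecStalk]

end Groth.Agent.H6.Cv
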