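import Mathlib
import Groth.Prelude.Def_CohCx

/-! # Elementwise description of cycles, boundaries and homology of complexes of abelian groups;
tower utilities -/

universe u
open CategoryTheory Limits

namespace Groth.Agent.H6.CxLim

/-- `R¹lim = 0` passes to the shifted tower. -/
theorem limOneIsZero_shift (A : ℕ → Type u) [∀ n, AddCommGroup (A n)]
    (t : ∀ n, A (n + 1) →+ A n) (h : CohCx.LimOneIsZero A t) :
    CohCx.LimOneIsZero (fun n => A (n + 1)) (fun n => t (n + 1)) := by
  intro b
  obtain ⟨a, ha⟩ := h (fun n => match n with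
    | 0 => 0
    | k + 1 => b k)
  exact ⟨fun n => a (n + 1), funext fun n => congrFun ha (n + 1)⟩

/-- extension of a family compatible from `N` on to a family compatible everywhere. -/
theorem exists_compatible_extension (N : ℕ) : ∀ (S : ℕ → Type u) (τ : ∀ n, S (n + 1) → S n)
    (x : ∀ n, S n) (_ : ∀ n, N ≤ n → τ n (x (n + 1)) = x n),
    ∃ x' : ∀ n, S n, (∀ n, τ n (x' (n + 1)) = x' n) ∧ ∀ n, N ≤ n → x' n = x n := by
  induction N with
  | zero =>
    intro S τ x hx
    exact ⟨x, fun n => hx n (Nat.zero_le n), fun n _ => rfl⟩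
  | succ N ih =>
    intro S τ x hx
    obtain ⟨x'', h1, h2⟩ := ih (fun n => S (n + 1)) (fun n => τ (n + 1)) (fun n => x (n + 1))
      (fun n hn => hx (n + 1) (by omega))
    refine ⟨fun n => match n with
      | 0 => τ 0 (x'' 0)
      | k + 1 => x'' k, ?_, ?_⟩
    · intro n
      cases n with
      | zero => rfl
      | succ k => exact h1 k
    · intro n hn
      cases n with
      | zero => omega
      | succ k => exact h2 k (by omega)

section Elementwise

variable (K : CochainComplex AddCommGrpCat.{u} ℤ) (i j k : ℤ)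

lemma iCycles_injective : Function.Injective (K.iCycles j) :=
  (AddCommGrpCat.mono_iff_injective _).1 inferInstance

lemma homologyπ_surjective : Function.Surjective (K.homologyπ j) :=
  (AddCommGrpCat.epi_iff_surjective _).1 inferInstance

lemma d_iCycles (z : K.cycles j) : K.d j k (K.iCycles j z) = 0 := by
  rw [← ConcreteCategory.comp_apply, K.iCycles_d]
  rfl

lemma iCycles_toCycles (y : K.X i) : K.iCycles j (K.toCycles i j y) = K.d i j y := by
  rw [← ConcreteCategory.comp_apply, K.toCycles_i]

lemma exists_cycle (hjk : j + 1 = k) (x : K.X j) (hx : K.d j k x = 0) :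
    ∃ z : K.cycles j, K.iCycles j z = x := by
  have hk : (ComplexShape.up ℤ).next j = k := by simp [← hjk]
  let T : ShortComplex AddCommGrpCat.{u} :=
    ShortComplex.mk (K.iCycles j) (K.d j k) (K.iCycles_d j k)
  have hT : T.Exact := ShortComplex.exact_of_f_is_kernel _ (K.cyclesIsKernel j k hk)
  exact (ShortComplex.ab_exact_iff T).1 hT x hx

lemma exists_of_homologyπ_eq_zero (hij : i + 1 = j) (z : K.cycles j)
    (hz : K.homologyπ j z = 0) : ∃ y : K.X i, K.toCycles i j y = z := by
  have hi : (ComplexShape.up ℤ).prev j = i := by simp [← hij]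
  let T : ShortComplex AddCommGrpCat.{u} :=
    ShortComplex.mk (K.toCycles i j) (K.homologyπ j) (K.toCycles_comp_homologyπ i j)
  have hT : T.Exact := ShortComplex.exact_of_g_is_cokernel _ (K.homologyIsCokernel i j hi)
  exact (ShortComplex.ab_exact_iff T).1 hT z hz

lemma homologyπ_toCycles (y : K.X i) : K.homologyπ j (K.toCycles i j y) = 0 := by
  rw [← ConcreteCategory.comp_apply, K.toCycles_comp_homologyπ]
  rfl

variable {K} {K' : CochainComplex AddCommGrpCat.{u} ℤ} (φ : K ⟶ K')

lemma iCycles_cyclesMap (z : K.cycles j) :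
    K'.iCycles j (HomologicalComplex.cyclesMap φ j z) = φ.f j (K.iCycles j z) := by
  rw [← ConcreteCategory.comp_apply, ← ConcreteCategory.comp_apply,
    HomologicalComplex.cyclesMap_i]

lemma homologyMap_homologyπ (z : K.cycles j) :
    HomologicalComplex.homologyMap φ j (K.homologyπ j z) =
      K'.homologyπ j (HomologicalComplex.cyclesMap φ j z) := by
  rw [← ConcreteCategory.comp_apply, ← ConcreteCategory.comp_apply,
    HomologicalComplex.homologyπ_naturality]

lemma d_map (x : K.X j) : K'.d j k (φ.f j x) = φ.f k (K.d j k x) := by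
  rw [← ConcreteCategory.comp_apply, ← ConcreteCategory.comp_apply, φ.comm]

/-- injectivity of `H^j(φ)` in elementwise form. -/
theorem bdry_of_injective (hij : i + 1 = j) (hjk : j + 1 = k)
    (h : Function.Injective (HomologicalComplex.homologyMap φ j)) (x : K.X j)
    (hx : K.d j k x = 0) (y' : K'.X i) (hy' : K'.d i j y' = φ.f j x) :
    ∃ y : K.X i, K.d i j y = x := by
  obtain ⟨z, rfl⟩ := exists_cycle K j k hjk x hx
  have h1 : HomologicalComplex.cyclesMap φ j z = K'.toCycles i j y' := by
    apply iCycles_injective K' j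
    rw [iCycles_cyclesMap, iCycles_toCycles, hy']
  have h2 : HomologicalComplex.homologyMap φ j (K.homologyπ j z) = 0 := by
    rw [homologyMap_homologyπ, h1, homologyπ_toCycles]
  have h3 : K.homologyπ j z = 0 := h (by rw [h2, map_zero])
  obtain ⟨y, hy⟩ := exists_of_homologyπ_eq_zero K i j hij z h3
  exact ⟨y, by rw [← hy, iCycles_toCycles]⟩

/-- surjectivity of `H^j(φ)` in elementwise form. -/
theorem exists_cycle_of_surjective (hij : i + 1 = j) (hjk : j + 1 = k)
    (h : Function.Surjective (HomologicalComplex.homologyMap φ j)) (x' : K'.X j)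
    (hx' : K'.d j k x' = 0) :
    ∃ (x : K.X j) (y' : K'.X i), K.d j k x = 0 ∧ K'.d i j y' = φ.f j x - x' := by
  obtain ⟨z', rfl⟩ := exists_cycle K' j k hjk x' hx'
  obtain ⟨c, hc⟩ := h (K'.homologyπ j z')
  obtain ⟨z, rfl⟩ := homologyπ_surjective K j c
  have h1 : K'.homologyπ j (HomologicalComplex.cyclesMap φ j z - z') = 0 := by
    rw [map_sub, ← homologyMap_homologyπ, hc, sub_self]
  obtain ⟨y', hy'⟩ := exists_of_homologyπ_eq_zero K' i j hij _ h1
  refine ⟨K.iCycles j z, y', d_iCycles K j k z, ?_⟩
  rw [← iCycles_toCycles, hy', map_sub, iCycles_cyclesMap]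

end Elementwise

end Groth.Agent.H6.CxLim
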