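import Groth.Agent.Lib.Helper6.CxLim1

/-! # Towers of complexes of abelian groups: `H^k(lim A_n) → H^k(A_{n₀})` elementwise -/

universe u
open CategoryTheory Limits

namespace Groth.Agent.H6.CxLim

theorem aux_add {G : Type*} [AddCommGroup G] (a b c d : G) (h : a - b = c - d) :
    c + b = d + a := by
  have := sub_eq_sub_iff_add_eq_add.mp h
  rw [add_comm d a]
  exact this.symm

theorem aux_sub {G : Type*} [AddCommGroup G] (a b p q w : G) (h : a - b = p - q - w) :
    p - a - (q - b) = w := by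
  have : w = p - q - (a - b) := by rw [h]; abel
  rw [this]; abel

section Tower

variable (A : ℕ → CochainComplex AddCommGrpCat.{u} ℤ) (τ : ∀ n, A (n + 1) ⟶ A n) (i j k l : ℤ)

theorem exists_cycles_of_limOne_homology (hij : i + 1 = j) (hjk : j + 1 = k)
    (hb : CohCx.LimOneIsZero (fun n => (A n).homology j)
      (fun n => (HomologicalComplex.homologyMap (τ n) j).hom))
    (w : ∀ n, (A n).X j) (hw : ∀ n, (A n).d j k (w n) = 0) :
    ∃ (h : ∀ n, (A n).X j) (e : ∀ n, (A n).X i), (∀ n, (A n).d j k (h n) = 0) ∧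
      ∀ n, (A n).d i j (e n) = h n - (τ n).f j (h (n + 1)) - w n := by
  choose z hz using fun n => exists_cycle (A n) j k hjk (w n) (hw n)
  obtain ⟨g, hg⟩ := hb (fun n => (A n).homologyπ j (z n))
  choose ζ hζ using fun n => homologyπ_surjective (A n) j (g n)
  have h0 : ∀ n, (A n).homologyπ j
      (ζ n - HomologicalComplex.cyclesMap (τ n) j (ζ (n + 1)) - z n) = 0 := by
    intro n
    rw [map_sub, map_sub, ← homologyMap_homologyπ, hζ, hζ]
    have := congrFun hg n
    exact sub_eq_zero.mpr this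
  choose e he using fun n => exists_of_homologyπ_eq_zero (A n) i j hij _ (h0 n)
  refine ⟨fun n => (A n).iCycles j (ζ n), e, fun n => d_iCycles (A n) j k (ζ n), fun n => ?_⟩
  rw [← iCycles_toCycles, he, map_sub, map_sub, iCycles_cyclesMap, hz]

theorem exists_cycles_sub (hij : i + 1 = j) (hjk : j + 1 = k)
    (hai : CohCx.LimOneIsZero (fun n => (A n).X i) (fun n => ((τ n).f i).hom))
    (hb : CohCx.LimOneIsZero (fun n => (A n).homology j)
      (fun n => (HomologicalComplex.homologyMap (τ n) j).hom))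
    (w : ∀ n, (A n).X j) (hw : ∀ n, (A n).d j k (w n) = 0) :
    ∃ u : ∀ n, (A n).X j, (∀ n, (A n).d j k (u n) = 0) ∧
      ∀ n, u n - (τ n).f j (u (n + 1)) = w n := by
  obtain ⟨h, e, hh, he⟩ := exists_cycles_of_limOne_homology A τ i j k hij hjk hb w hw
  obtain ⟨g, hg⟩ := hai e
  have hg' : ∀ n, g n - (τ n).f i (g (n + 1)) = e n := fun n => congrFun hg n
  refine ⟨fun n => h n - (A n).d i j (g n), fun n => ?_, fun n => ?_⟩
  · rw [map_sub, hh]
    have : (A n).d j k ((A n).d i j (g n)) = 0 := by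
      rw [← ConcreteCategory.comp_apply, (A n).d_comp_d]
      rfl
    rw [this, sub_zero]
  · have h1 : (τ n).f j ((A (n + 1)).d i j (g (n + 1))) = (A n).d i j ((τ n).f i (g (n + 1))) :=
      (d_map i j (τ n) (g (n + 1))).symm
    have h2 : (A n).d i j (e n) = (A n).d i j (g n) - (A n).d i j ((τ n).f i (g (n + 1))) := by
      rw [← hg', map_sub]
    have h3 := he n
    rw [map_sub, h1]
    rw [h2] at h3
    exact aux_sub _ _ _ _ _ h3

theorem tower_inj (hij : i + 1 = j) (hjk : j + 1 = k) (hkl : k + 1 = l) (n₀ : ℕ)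
    (hai : CohCx.LimOneIsZero (fun n => (A n).X i) (fun n => ((τ n).f i).hom))
    (hb : CohCx.LimOneIsZero (fun n => (A n).homology j)
      (fun n => (HomologicalComplex.homologyMap (τ n) j).hom))
    (hc : ∀ n, n₀ ≤ n → Function.Injective (HomologicalComplex.homologyMap (τ n) k))
    (x : ∀ n, (A n).X k) (hx : ∀ n, (A n).d k l (x n) = 0)
    (hcompat : ∀ n, (τ n).f k (x (n + 1)) = x n)
    (y₀ : (A n₀).X j) (hy₀ : (A n₀).d j k y₀ = x n₀) :
    ∃ y : ∀ n, (A n).X j, (∀ n, (τ n).f j (y (n + 1)) = y n) ∧ ∀ n, (A n).d j k (y n) = x n := by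
  have hdown : ∀ n, (∃ y : (A (n + 1)).X j, (A (n + 1)).d j k y = x (n + 1)) →
      ∃ y : (A n).X j, (A n).d j k y = x n := by
    rintro n ⟨y, hy⟩
    exact ⟨(τ n).f j y, by rw [d_map, hy, hcompat]⟩
  have hup : ∀ n, n₀ ≤ n → (∃ y : (A n).X j, (A n).d j k y = x n) →
      ∃ y : (A (n + 1)).X j, (A (n + 1)).d j k y = x (n + 1) := by
    rintro n hn ⟨y, hy⟩
    exact bdry_of_injective j k l (τ n) hjk hkl (hc n hn) (x (n + 1)) (hx (n + 1)) y
      (by rw [hy, hcompat])
  have hdown' : ∀ d n, (∃ y : (A (n + d)).X j, (A (n + d)).d j k y = x (n + d)) →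
      ∃ y : (A n).X j, (A n).d j k y = x n := by
    intro d
    induction d with
    | zero => intro n h; exact h
    | succ d ih => intro n h; exact ih n (hdown (n + d) h)
  have hup' : ∀ d, ∃ y : (A (n₀ + d)).X j, (A (n₀ + d)).d j k y = x (n₀ + d) := by
    intro d
    induction d with
    | zero => exact ⟨y₀, hy₀⟩
    | succ d ih => exact hup (n₀ + d) (Nat.le_add_right _ _) ih
  have hall : ∀ n, ∃ y : (A n).X j, (A n).d j k y = x n := by
    intro n
    rcases le_total n n₀ with hn | hn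
    · obtain ⟨d, rfl⟩ := Nat.exists_eq_add_of_le hn
      exact hdown' d n ⟨y₀, hy₀⟩
    · obtain ⟨d, rfl⟩ := Nat.exists_eq_add_of_le hn
      exact hup' d
  choose y hy using hall
  have hw : ∀ n, (A n).d j k ((τ n).f j (y (n + 1)) - y n) = 0 := by
    intro n
    rw [map_sub, d_map, hy, hy, hcompat, sub_self]
  obtain ⟨u, hu, hu'⟩ := exists_cycles_sub A τ i j k hij hjk hai hb _ hw
  refine ⟨fun n => y n + u n, fun n => ?_, fun n => ?_⟩
  · have h1 := hu' n
    rw [map_add]
    exact aux_add _ _ _ _ h1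
  · rw [map_add, hy, hu, add_zero]

end Tower

theorem tower_surj (j k l : ℤ) (hjk : j + 1 = k) (hkl : k + 1 = l) (n₀ : ℕ) :
    ∀ (A : ℕ → CochainComplex AddCommGrpCat.{u} ℤ) (τ : ∀ n, A (n + 1) ⟶ A n)
      (_ : CohCx.LimOneIsZero (fun n => (A n).X j) (fun n => ((τ n).f j).hom))
      (_ : ∀ n, n₀ ≤ n → Function.Surjective (HomologicalComplex.homologyMap (τ n) k))
      (x₀ : (A n₀).X k) (_ : (A n₀).d k l x₀ = 0),
      ∃ x : ∀ n, (A n).X k, (∀ n, (A n).d k l (x n) = 0) ∧
        (∀ n, (τ n).f k (x (n + 1)) = x n) ∧ ∃ y₀ : (A n₀).X j, (A n₀).d j k y₀ = x n₀ - x₀ := by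
  induction n₀ with
  | zero =>
    intro A τ haj hc x₀ hx₀
    have step : ∀ n (x' : (A n).X k), (A n).d k l x' = 0 →
        ∃ (x : (A (n + 1)).X k) (y' : (A n).X j), (A (n + 1)).d k l x = 0 ∧
          (A n).d j k y' = (τ n).f k x - x' := fun n x' hx' =>
      exists_cycle_of_surjective j k l (τ n) hjk hkl (hc n (Nat.zero_le n)) x' hx'
    choose f g hf hg using step
    let x' : ∀ n, {x : (A n).X k // (A n).d k l x = 0} := fun n =>
      Nat.rec (motive := fun n => {x : (A n).X k // (A n).d k l x = 0}) ⟨x₀, hx₀⟩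
        (fun n p => ⟨f n p.1 p.2, hf n p.1 p.2⟩) n
    have hb : ∀ n, (A n).d j k (g n (x' n).1 (x' n).2) =
        (τ n).f k (x' (n + 1)).1 - (x' n).1 := fun n => hg n (x' n).1 (x' n).2
    obtain ⟨c, hc'⟩ := haj (fun n => g n (x' n).1 (x' n).2)
    have hc'' : ∀ n, c n - (τ n).f j (c (n + 1)) = g n (x' n).1 (x' n).2 :=
      fun n => congrFun hc' n
    refine ⟨fun n => (x' n).1 + (A n).d j k (c n), fun n => ?_, fun n => ?_, c 0, ?_⟩
    · rw [map_add, (x' n).2]
      have : (A n).d k l ((A n).d j k (c n)) = 0 := by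
        rw [← ConcreteCategory.comp_apply, (A n).d_comp_d]
        rfl
      rw [this, add_zero]
    · have h1 := hb n
      rw [← hc'' n, map_sub] at h1
      have h2 : (τ n).f k ((A (n + 1)).d j k (c (n + 1))) = (A n).d j k ((τ n).f j (c (n + 1))) :=
        (d_map j k (τ n) (c (n + 1))).symm
      rw [map_add, h2]
      exact aux_add _ _ _ _ h1
    · change (A 0).d j k (c 0) = x₀ + (A 0).d j k (c 0) - x₀
      abel
  | succ n₀ ih =>
    intro A τ haj hc x₀ hx₀
    obtain ⟨x'', h1, h2, y₀, hy₀⟩ := ih (fun n => A (n + 1)) (fun n => τ (n + 1))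
      (limOneIsZero_shift _ _ haj) (fun n hn => hc (n + 1) (by omega)) x₀ hx₀
    refine ⟨fun n => match n with
      | 0 => (τ 0).f k (x'' 0)
      | m + 1 => x'' m, ?_, ?_, y₀, hy₀⟩
    · intro n
      cases n with
      | zero =>
        change (A 0).d k l ((τ 0).f k (x'' 0)) = 0
        rw [d_map, h1 0, map_zero]
      | succ m => exact h1 m
    · intro n
      cases n with
      | zero => rfl
      | succ m => exact h2 m

end Groth.Agent.H6.CxLim
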