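import Groth.Agent.Lib.Helper6.DLim4

/-! # Injectivity of `H^m(L)_x → H^m(K_n)_x` for a derived limit on a topological space -/

universe u
open CategoryTheory Limits Opposite Pretriangulated TopologicalSpace

namespace Groth.Agent.H6.DLim

open Groth.Agent.LD.SC Groth.Agent.LD.HDSh DerivedCategory

variable {X : TopCat.{u}} [HasDerivedCategory.{u} (CohTop.Ab X)]

/-- local injectivity at a point of a morphism of abelian sheaves on a space. -/
def LocInjAt {F G : CohTop.Ab X} (θ : F ⟶ G) (x : X) : Prop :=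
  ∀ (V : Opens X) (_ : x ∈ V) (s : F.obj.obj (op V)), θ.hom.app (op V) s = 0 →
    ∃ (U : Opens X) (_ : x ∈ U) (i : U ⟶ V), F.obj.map i.op s = 0

theorem stalk_injective_of_locInjAt {F G : CohTop.Ab X} (θ : F ⟶ G) (x : X)
    (h : LocInjAt θ x) :
    Function.Injective ((TopCat.Presheaf.stalkFunctor AddCommGrpCat.{u} x).map θ.hom) := by
  refine (injective_iff_map_eq_zero
    ((TopCat.Presheaf.stalkFunctor AddCommGrpCat.{u} x).map θ.hom).hom).mpr ?_
  intro σ hσ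
  obtain ⟨V, hxV, s, rfl⟩ := TopCat.Presheaf.exists_germ_eq F.obj σ
  have h1 : TopCat.Presheaf.germ G.obj V x hxV (θ.hom.app (op V) s) = 0 := by
    rw [← TopCat.Presheaf.stalkFunctor_map_germ_apply]
    exact hσ
  have h2 : TopCat.Presheaf.germ G.obj V x hxV (θ.hom.app (op V) s) =
      TopCat.Presheaf.germ G.obj V x hxV 0 := by
    rw [h1, map_zero]
  obtain ⟨W, hxW, iU, iV, hW⟩ := TopCat.Presheaf.germ_eq G.obj x hxV hxV _ _ h2
  have h3 : θ.hom.app (op W) (F.obj.map iU.op s) = 0 := by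
    rw [sheafHom_naturality_apply, hW, map_zero]
  obtain ⟨U, hxU, i, hU⟩ := h W hxW _ h3
  rw [← TopCat.Presheaf.germ_res_apply F.obj iU x hxW s,
    ← TopCat.Presheaf.germ_res_apply F.obj i x hxU, hU, map_zero]
  rfl

theorem locInjAt_H0 {K : ℕ → DerivedCategory (CohTop.Ab X)}
    {t : ∀ n, K (n + 1) ⟶ K n} [HasProduct K]
    {L : DerivedCategory (CohTop.Ab X)} {a : ∀ n, L ⟶ K n}
    (hL : CohCx.IsRlimVia K t L a) (x : X) (m : ℤ) (nx : ℕ)
    (h : ∀ V : Opens X, x ∈ V → ∃ U : Opens X, x ∈ U ∧ U ≤ V ∧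
      Function.Surjective (fun (w : ∀ n, DZ (Opens.grothendieckTopology X) U ⟶ (K n)⟦m - 1⟧)
        (n : ℕ) => w n - w (n + 1) ≫ (t n)⟦m - 1⟧') ∧
      ∀ k : ℕ, Function.Injective
        (fun w : DZ (Opens.grothendieckTopology X) U ⟶ (K (nx + k))⟦m⟧ =>
          w ≫ (CohCx.transition K t nx k)⟦m⟧')) :
    LocInjAt (H0.map ((a nx)⟦m⟧')) x := by
  intro V hxV s hs
  obtain ⟨W, f, ⟨y, hy1, hy2⟩, hxW⟩ := liftSieve_mem ((a nx)⟦m⟧') V s hs x hxV
  obtain ⟨U, hxU, hUW, h1, h2⟩ := h W hxW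
  refine ⟨U, hxU, homOfLE hUW ≫ f, ?_⟩
  have hy0 : DZmap (homOfLE hUW) ≫ y = 0 :=
    eq_zero_of_comp_eq_zero hL m nx h1 h2 _ (by rw [Category.assoc, hy2, comp_zero])
  have h3 := beta_map (L⟦m⟧) (homOfLE hUW) y
  rw [hy0, beta_zero, hy1] at h3
  rw [op_comp, Functor.map_comp]
  exact h3.symm

theorem locInjAt_Hm {L K : DerivedCategory (CohTop.Ab X)} (ψ : L ⟶ K) (x : X) (m : ℤ)
    (h : LocInjAt (H0.map (ψ⟦m⟧')) x) :
    LocInjAt ((DerivedCategory.homologyFunctor _ m).map ψ) x := by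
  let iso := (DerivedCategory.homologyFunctor (CohTop.Ab X) 0).shiftIso m 0 m (add_zero m)
  let ιL : H0.obj (L⟦m⟧) ⟶ (DerivedCategory.homologyFunctor _ m).obj L := iso.hom.app L
  let ιK : H0.obj (K⟦m⟧) ⟶ (DerivedCategory.homologyFunctor _ m).obj K := iso.hom.app K
  let ιL' : (DerivedCategory.homologyFunctor _ m).obj L ⟶ H0.obj (L⟦m⟧) := iso.inv.app L
  have nat : H0.map (ψ⟦m⟧') ≫ ιK = ιL ≫ (DerivedCategory.homologyFunctor _ m).map ψ :=
    iso.hom.naturality ψ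
  have hinv : ιL' ≫ ιL = 𝟙 _ := iso.inv_hom_id_app L
  haveI : IsIso ιK := inferInstanceAs (IsIso (iso.hom.app K))
  haveI : IsIso ιL' := inferInstanceAs (IsIso (iso.inv.app L))
  have natV : ∀ (V : Opens X) z, ιK.hom.app (op V) ((H0.map (ψ⟦m⟧')).hom.app (op V) z) =
      ((DerivedCategory.homologyFunctor _ m).map ψ).hom.app (op V) (ιL.hom.app (op V) z) :=
    fun V z => congrArg (fun g => g.hom.app (op V) z) nat
  have hinvV : ∀ (V : Opens X) z, ιL.hom.app (op V) (ιL'.hom.app (op V) z) = z :=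
    fun V z => congrArg (fun g => g.hom.app (op V) z) hinv
  intro V hxV s hs
  have h1 : (H0.map (ψ⟦m⟧')).hom.app (op V) (ιL'.hom.app (op V) s) = 0 := by
    apply sheafHom_injective_of_isIso ιK V
    rw [natV, hinvV, hs, map_zero]
  obtain ⟨U, hxU, i, hU⟩ := h V hxV _ h1
  refine ⟨U, hxU, i, ?_⟩
  apply sheafHom_injective_of_isIso ιL' U
  rw [sheafHom_naturality_apply, hU, map_zero]

theorem s874 {K : ℕ → DerivedCategory (CohTop.Ab X)} {t : ∀ n, K (n + 1) ⟶ K n} [HasProduct K]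
    {L : DerivedCategory (CohTop.Ab X)} {a : ∀ n, L ⟶ K n} (hL : CohCx.IsRlimVia K t L a)
    (x : X) (m : ℤ) (nx : ℕ)
    (h : ∀ V : Opens X, x ∈ V → ∃ U : Opens X, x ∈ U ∧ U ≤ V ∧
      CohCx.LimOneIsZero (fun n => CohCx.HDU (K n) (m - 1) U)
        (fun n => Preadditive.rightComp _ ((shiftFunctor _ (m - 1)).map (t n))) ∧
      ∀ k : ℕ, Function.Injective
        (Preadditive.rightComp _ ((shiftFunctor _ m).map (CohCx.transition K t nx k)) :
          CohCx.HDU (K (nx + k)) m U → CohCx.HDU (K nx) m U)) :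
    Function.Injective ((TopCat.Presheaf.stalkFunctor AddCommGrpCat.{u} x).map
      ((DerivedCategory.homologyFunctor (CohTop.Ab X) m).map (a nx)).hom) := by
  apply stalk_injective_of_locInjAt
  apply locInjAt_Hm (a nx) x m
  apply locInjAt_H0 hL x m nx
  intro V hV
  obtain ⟨U, h1, h2, h3, h4⟩ := h V hV
  exact ⟨U, h1, h2, h3, h4⟩

end Groth.Agent.H6.DLim
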