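import Groth.Agent.Lib.Helper6.DLim11
import Groth.Agent.Lib.Helper6.DLim5

/-! # `E ≅ R lim τ_{≥ -n} E` on a topological space -/

universe u
open CategoryTheory Limits Opposite Pretriangulated TopologicalSpace

namespace Groth.Agent.H6.DLim

open Groth.Agent.LD.SC Groth.Agent.LD.HDSh DerivedCategory Groth.Agent.H2.DTrunc

theorem isIso_of_injective_of_locSurj {C : Type u} [SmallCategory C] {J : GrothendieckTopology C}
    {F G : Sheaf J AddCommGrpCat.{u}} (θ : F ⟶ G)
    (hinj : ∀ V : C, Function.Injective (θ.hom.app (op V)))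
    (hsurj : ∀ (U : C) (s : G.obj.obj (op U)), Presheaf.imageSieve θ.hom s ∈ J U) : IsIso θ := by
  refine (Sheaf.isLocallyBijective_iff_isIso θ).1 ⟨?_, ?_⟩
  · exact (Sheaf.isLocallyInjective_iff_injective θ).2 (fun X => hinj X.unop)
  · exact ⟨fun {U} s => hsurj U s⟩

variable {X : TopCat.{u}} [HasDerivedCategory.{u} (CohTop.Ab X)]

theorem locInjAt_of_bound (E : DerivedCategory (CohTop.Ab X))
    [HasProduct (CohCx.truncTower E)]
    {L : DerivedCategory (CohTop.Ab X)} {a : ∀ n, L ⟶ CohCx.truncTower E n}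
    (hL : CohCx.IsRlimVia (CohCx.truncTower E) (CohCx.truncTowerMap E) L a)
    (x : X) (p : ℤ → ℤ) (m : ℤ) (nx : ℕ)
    (hn1 : p (m - 1) - (m - 1) ≤ nx) (hn2 : p m - m ≤ nx) (hn3 : p (m + 1) - (m + 1) ≤ nx)
    (hp : ∀ V : Opens X, x ∈ V → ∃ U : Opens X, x ∈ U ∧ U ≤ V ∧
      ∀ (m : ℤ) (k : ℕ), p m < k → Subsingleton (CohTop.HU (CohCx.HD E (m - k)) k U)) :
    LocInjAt ((DerivedCategory.homologyFunctor _ m).map (a nx)) x := by
  apply locInjAt_Hm (a nx) x m
  apply locInjAt_H0 hL x m nx
  intro V hV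
  obtain ⟨U, hxU, hUV, h3⟩ := hp V hV
  refine ⟨U, hxU, hUV, ?_, ?_⟩
  · exact limOneIsZero_of_eventually_surjective nx
      (fun n => DZ (Opens.grothendieckTopology X) U ⟶ (CohCx.truncTower E n)⟦m - 1⟧)
      (fun n => Preadditive.rightComp _ ((CohCx.truncTowerMap E n)⟦m - 1⟧'))
      (fun n hn => (bijective_truncTower_step E U p h3 (m - 1) n
        (by have : (nx : ℤ) ≤ n := by exact_mod_cast hn
            omega)
        (by have : (nx : ℤ) ≤ n := by exact_mod_cast hn
            rw [sub_add_cancel]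
            omega)).2)
  · exact injective_transition (DZ (Opens.grothendieckTopology X) U) m nx
      (fun n hn => (bijective_truncTower_step E U p h3 m n
        (by have : (nx : ℤ) ≤ n := by exact_mod_cast hn
            omega)
        (by have : (nx : ℤ) ≤ n := by exact_mod_cast hn
            omega)).1)

theorem s875 (E : DerivedCategory (CohTop.Ab X)) [HasProduct (CohCx.truncTower E)]
    (h : ∀ x : X, ∃ p : ℤ → ℤ, ∀ V : Opens X, x ∈ V → ∃ U : Opens X, x ∈ U ∧ U ≤ V ∧
      ∀ (m : ℤ) (k : ℕ), p m < k → Subsingleton (CohTop.HU (CohCx.HD E (m - k)) k U)) :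
    CohCx.IsRlimVia (CohCx.truncTower E) (CohCx.truncTowerMap E) E (CohCx.toTruncTower E) := by
  obtain ⟨L, a, hL⟩ := exists_isRlimVia (CohCx.truncTower E) (CohCx.truncTowerMap E)
  obtain ⟨e, he⟩ := exists_lift hL (CohCx.toTruncTower E) (toTruncTower_comp_map E)
  have hcomp : ∀ (m : ℤ) (n : ℕ), (homologyFunctor _ m).map e ≫ (homologyFunctor _ m).map (a n) =
      (homologyFunctor _ m).map (CohCx.toTruncTower E n) := by
    intro m n
    rw [← Functor.map_comp, he]
  have hcompV : ∀ (m : ℤ) (n : ℕ) (V : Opens X)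
      (s : ((homologyFunctor _ m).obj E).obj.obj (op V)),
      ((homologyFunctor _ m).map (a n)).hom.app (op V)
        (((homologyFunctor _ m).map e).hom.app (op V) s) =
      ((homologyFunctor _ m).map (CohCx.toTruncTower E n)).hom.app (op V) s :=
    fun m n V s => congrArg (fun g => g.hom.app (op V) s) (hcomp m n)
  have hiso : IsIso e := by
    rw [DerivedCategory.isIso_iff]
    intro m
    apply isIso_of_injective_of_locSurj
    · intro V
      obtain ⟨n, hn⟩ : ∃ n : ℕ, -(n : ℤ) ≤ m := ⟨(-m).toNat, by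
        have := Int.self_le_toNat (-m)
        omega⟩
      haveI : IsIso ((homologyFunctor _ m).map (CohCx.toTruncTower E n)) :=
        isIso_homology_truncGEπ E (-(n : ℤ)) m hn
      intro s s' hss
      apply sheafHom_injective_of_isIso ((homologyFunctor _ m).map (CohCx.toTruncTower E n)) V
      rw [← hcompV, ← hcompV, hss]
    · intro V s'
      intro x hxV
      obtain ⟨p, hp⟩ := h x
      obtain ⟨nx, hn1, hn2, hn3, hn4⟩ := exists_bound p m
      have key := locInjAt_of_bound E hL x p m nx hn1 hn2 hn3 hp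
      haveI : IsIso ((homologyFunctor _ m).map (CohCx.toTruncTower E nx)) :=
        isIso_homology_truncGEπ E (-(nx : ℤ)) m (by omega)
      have hinvV : ∀ z, ((homologyFunctor _ m).map (CohCx.toTruncTower E nx)).hom.app (op V)
          ((inv ((homologyFunctor _ m).map (CohCx.toTruncTower E nx))).hom.app (op V) z) = z :=
        fun z => congrArg (fun g => g.hom.app (op V) z)
          (IsIso.inv_hom_id ((homologyFunctor _ m).map (CohCx.toTruncTower E nx)))
      let s := (inv ((homologyFunctor _ m).map (CohCx.toTruncTower E nx))).hom.app (op V)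
        (((homologyFunctor _ m).map (a nx)).hom.app (op V) s')
      have h0 : ((homologyFunctor _ m).map (a nx)).hom.app (op V)
          (((homologyFunctor _ m).map e).hom.app (op V) s - s') = 0 := by
        rw [map_sub, hcompV, hinvV, sub_self]
      obtain ⟨U, hxU, i, hU⟩ := key V hxV _ h0
      refine ⟨U, i, ⟨((homologyFunctor _ m).obj E).obj.map i.op s, ?_⟩, hxU⟩
      rw [map_sub, sub_eq_zero] at hU
      rw [← hU]
      exact sheafHom_naturality_apply _ i s
  haveI := hiso
  have h1 := isRlimVia_of_iso hL (asIso e)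
  have hfun : (fun n => (asIso e).hom ≫ a n) = CohCx.toTruncTower E := funext he
  rw [hfun] at h1
  exact h1

end Groth.Agent.H6.DLim
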