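import Groth.Agent.Lib.Helper6.DLim14
import Groth.Agent.Lib.Helper6.DLim12
import Groth.Agent.Lib.Lead.SC.Basic

/-! # A map of complexes of abelian sheaves which is an isomorphism on `H^q` of sections over a
covering-generating class induces an isomorphism of cohomology sheaves (elementwise criterion) -/

universe u
open CategoryTheory Limits Opposite

namespace Groth.Agent.H6.CxLim

open Groth.Agent.LD.SC Groth.Agent.H6.DLim

variable {C : Type u} [SmallCategory C] {J : GrothendieckTopology C}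

lemma homEquiv_zero (U : C) (F : Sheaf J AddCommGrpCat.{u}) :
    homEquiv U F (0 : ZU J U ⟶ F) = 0 :=
  (homAddEquiv U F).map_zero

lemma homEquiv_sub (U : C) (F : Sheaf J AddCommGrpCat.{u}) (a b : ZU J U ⟶ F) :
    homEquiv U F (a - b) = homEquiv U F a - homEquiv U F b :=
  (homAddEquiv U F).map_sub a b

lemma homEquiv_symm_zero (U : C) (F : Sheaf J AddCommGrpCat.{u}) :
    (homEquiv U F).symm 0 = (0 : ZU J U ⟶ F) :=
  (homAddEquiv U F).symm.map_zero

lemma sheafHom_nat_apply {F G : Sheaf J AddCommGrpCat.{u}} (θ : F ⟶ G) {V W : C}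
    (f : W ⟶ V) (s : F.obj.obj (op V)) :
    θ.hom.app (op W) (F.obj.map f.op s) = G.obj.map f.op (θ.hom.app (op V) s) :=
  congrArg (fun g => g s) (congrArg AddCommGrpCat.Hom.hom (θ.hom.naturality f.op))

/-- a cycle whose class vanishes in the cohomology sheaf is locally a boundary. -/
lemma exists_sieve_of_comp_homologyπ_eq_zero (K : CochainComplex (Sheaf J AddCommGrpCat.{u}) ℤ)
    (p q : ℤ) (hpq : p + 1 = q) {W : C} (ζ : ZU J W ⟶ K.cycles q)
    (hζ : ζ ≫ K.homologyπ q = 0) :
    ∃ R ∈ J W, ∀ {W' : C} (h : W' ⟶ W), R h →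
      ∃ η : ZU J W' ⟶ K.X p, η ≫ K.toCycles p q = ZUmap J h ≫ ζ := by
  let S := ShortComplex.mk (K.toCycles p q) (K.homologyπ q) (K.toCycles_comp_homologyπ p q)
  have hS : S.Exact :=
    ShortComplex.exact_of_g_is_cokernel _ (K.homologyIsCokernel p q (by simp [← hpq]))
  obtain ⟨A', π, hπ, x₁, fac⟩ := hS.exact_up_to_refinements ζ hζ
  haveI : Sheaf.IsLocallySurjective π := (Sheaf.isLocallySurjective_iff_epi' (φ := π)).mpr hπ
  refine ⟨Presheaf.imageSieve π.hom (gen W), Presheaf.imageSieve_mem J π.hom _, ?_⟩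
  rintro W' h ⟨a, ha⟩
  have h1 : (homEquiv W' A').symm a ≫ π = ZUmap J h := by
    apply (homEquiv W' (ZU J W)).injective
    rw [homEquiv_comp, Equiv.apply_symm_apply, ha]
    have := homEquiv_map h (𝟙 (ZU J W))
    rw [Category.comp_id] at this
    rw [this]
    rfl
  refine ⟨(homEquiv W' A').symm a ≫ x₁, ?_⟩
  rw [Category.assoc, ← h1, Category.assoc]
  exact congrArg (fun z => (homEquiv W' A').symm a ≫ z) fac.symm

section Main

variable {K K' : CochainComplex (Sheaf J AddCommGrpCat.{u}) ℤ} (φ : K ⟶ K') (p q r : ℤ)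

theorem isIso_homologyMap_of_sections (hpq : p + 1 = q) (hqr : q + 1 = r) (B : Set C)
    (hB : ∀ U : C, ∃ (ι : Type u) (Y : ι → C) (f : ∀ i, Y i ⟶ U),
      Sieve.ofArrows Y f ∈ J U ∧ ∀ i, Y i ∈ B)
    (hI : ∀ U ∈ B, ∀ (ξ : ZU J U ⟶ K.X q), ξ ≫ K.d q r = 0 → ∀ (η' : ZU J U ⟶ K'.X p),
      η' ≫ K'.d p q = ξ ≫ φ.f q → ∃ η : ZU J U ⟶ K.X p, η ≫ K.d p q = ξ)
    (hS : ∀ U ∈ B, ∀ (ξ' : ZU J U ⟶ K'.X q), ξ' ≫ K'.d q r = 0 →
      ∃ ξ : ZU J U ⟶ K.X q, ξ ≫ K.d q r = 0 ∧
        ∃ η' : ZU J U ⟶ K'.X p, η' ≫ K'.d p q = ξ ≫ φ.f q - ξ') :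
    IsIso (HomologicalComplex.homologyMap φ q) := by
  have hr : (ComplexShape.up ℤ).next q = r := by simp [← hqr]
  apply isIso_of_injective_of_locSurj
  · intro V
    refine (injective_iff_map_eq_zero
      ((HomologicalComplex.homologyMap φ q).hom.app (op V)).hom).mpr ?_
    intro s hs
    have hs' : (HomologicalComplex.homologyMap φ q).hom.app (op V) s = 0 := hs
    haveI : Sheaf.IsLocallySurjective (K.homologyπ q) :=
      (Sheaf.isLocallySurjective_iff_epi' (φ := K.homologyπ q)).mpr inferInstance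
    have hT := Presheaf.imageSieve_mem J (K.homologyπ q).hom s
    let Z : Sieve V :=
      { arrows := fun W f => (K.homology q).obj.map f.op s = 0
        downward_closed := by
          intro W W' f hf g
          rw [op_comp, Functor.map_comp]
          change (K.homology q).obj.map g.op ((K.homology q).obj.map f.op s) = 0
          rw [hf, map_zero] }
    have hZ : Z ∈ J V := by
      refine J.transitive hT Z ?_
      rintro W f ⟨z, hz⟩
      let ζ : ZU J W ⟶ K.cycles q := (homEquiv W _).symm z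
      have c1 : homEquiv W _ (ζ ≫ K.homologyπ q) = (K.homology q).obj.map f.op s := by
        rw [homEquiv_comp, Equiv.apply_symm_apply]
        exact hz
      have c2 : (ζ ≫ HomologicalComplex.cyclesMap φ q) ≫ K'.homologyπ q = 0 := by
        rw [Category.assoc, ← HomologicalComplex.homologyπ_naturality, ← Category.assoc]
        apply (homEquiv W _).injective
        rw [homEquiv_comp, c1, homEquiv_zero, sheafHom_nat_apply, hs', map_zero]
      obtain ⟨R, hR, hR'⟩ := exists_sieve_of_comp_homologyπ_eq_zero K' p q hpq _ c2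
      obtain ⟨ι, Y, g, hg, hcov, hYB⟩ := exists_refinement B hB R hR
      refine J.superset_covering ?_ hcov
      intro W' h hh
      obtain ⟨i, h', rfl⟩ := (Sieve.mem_ofArrows_iff Y g h).mp hh
      obtain ⟨η', hη'⟩ := hR' (g i) (hg i)
      obtain ⟨η, hη⟩ := hI (Y i) (hYB i) (ZUmap J (g i) ≫ ζ ≫ K.iCycles q) (by simp) η' (by
        rw [← K'.toCycles_i p q, ← Category.assoc, hη']
        simp)
      have c3 : ZUmap J (g i) ≫ ζ = η ≫ K.toCycles p q := by
        rw [← cancel_mono (K.iCycles q)]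
        simp [hη]
      have c4 : (K.homology q).obj.map (g i ≫ f).op s = 0 := by
        rw [op_comp, Functor.map_comp]
        change (K.homology q).obj.map (g i).op ((K.homology q).obj.map f.op s) = 0
        rw [← c1, ← homEquiv_map, ← Category.assoc, c3, Category.assoc,
          K.toCycles_comp_homologyπ, comp_zero, homEquiv_zero]
      change (K.homology q).obj.map ((h' ≫ g i) ≫ f).op s = 0
      rw [Category.assoc, op_comp, Functor.map_comp]
      change (K.homology q).obj.map h'.op ((K.homology q).obj.map (g i ≫ f).op s) = 0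
      rw [c4, map_zero]
    refine (Sheaf.isSeparated (K.homology q)) V Z hZ s 0 (fun W g hg => ?_)
    rw [map_zero]
    exact hg
  · intro U s
    haveI : Sheaf.IsLocallySurjective (K'.homologyπ q) :=
      (Sheaf.isLocallySurjective_iff_epi' (φ := K'.homologyπ q)).mpr inferInstance
    have hT := Presheaf.imageSieve_mem J (K'.homologyπ q).hom s
    obtain ⟨ι, Y, f, hf, hcov, hYB⟩ := exists_refinement B hB _ hT
    refine J.superset_covering ?_ hcov
    intro W g hg
    obtain ⟨i, g', rfl⟩ := (Sieve.mem_ofArrows_iff Y f g).mp hg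
    obtain ⟨z', hz'⟩ := hf i
    let ζ' : ZU J (Y i) ⟶ K'.cycles q := (homEquiv (Y i) _).symm z'
    obtain ⟨ξ, hξ, η', hη'⟩ := hS (Y i) (hYB i) (ζ' ≫ K'.iCycles q) (by simp)
    let ζ : ZU J (Y i) ⟶ K.cycles q := K.liftCycles ξ r hr hξ
    have c1 : ζ ≫ HomologicalComplex.cyclesMap φ q = ζ' + η' ≫ K'.toCycles p q := by
      rw [← cancel_mono (K'.iCycles q)]
      simp [ζ, hη']
    have c2 : (HomologicalComplex.homologyMap φ q).hom.app (op (Y i))
        (homEquiv (Y i) _ (ζ ≫ K.homologyπ q)) = (K'.homology q).obj.map (f i).op s := by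
      rw [← homEquiv_comp, Category.assoc, HomologicalComplex.homologyπ_naturality,
        ← Category.assoc, c1, Preadditive.add_comp, Category.assoc,
        K'.toCycles_comp_homologyπ, comp_zero, add_zero, homEquiv_comp, Equiv.apply_symm_apply]
      exact hz'
    refine ⟨(K.homology q).obj.map g'.op (homEquiv (Y i) _ (ζ ≫ K.homologyπ q)), ?_⟩
    rw [sheafHom_nat_apply, c2, op_comp, Functor.map_comp]
    rfl

end Main

end Groth.Agent.H6.CxLim
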