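import Groth.Agent.Lib.Helper6.Ml3
import Mathlib.CategoryTheory.Functor.OfSequence

/-! # Exactness of complexes of abelian sheaves tested on a basis; maps into limits of towers -/

set_option autoImplicit false

open CategoryTheory CategoryTheory.Limits Abelian TopologicalSpace Opposite

namespace Groth.Agent.H6.Rl

open Groth.Agent.LD.SC Groth.Agent.H6.Ml

universe u

section Basis

variable {X : TopCat.{u}} (B : Set (Opens X)) (hB : Opens.IsBasis B)

include hB in
/-- a complex of abelian sheaves is exact if it is exact on sections over a basis -/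
theorem exact_of_basis (S : ShortComplex (AbX X))
    (h : ∀ V ∈ B, ∀ b : ZU (Opens.grothendieckTopology X) V ⟶ S.X₂, b ≫ S.g = 0 →
      ∃ a : ZU (Opens.grothendieckTopology X) V ⟶ S.X₁, a ≫ S.f = b) : S.Exact := by
  rw [S.exact_iff_epi_kernel_lift]
  apply epi_of_lift_on_basis _ B hB
  intro V hV s
  obtain ⟨a, ha⟩ := h V hV (s ≫ kernel.ι S.g) (by rw [Category.assoc, kernel.condition, comp_zero])
  refine ⟨a, ?_⟩
  rw [← cancel_mono (kernel.ι S.g), Category.assoc, kernel.lift_ι]
  exact ha

end Basis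

section Tower

variable {𝒟 : Type*} [Category 𝒟] (F : ℕᵒᵖ ⥤ 𝒟) (c : Cone F) (hc : IsLimit c)

/-- the cone attached to a compatible family of morphisms -/
def coneOfCompatible {A : 𝒟} (α : ∀ n, A ⟶ F.obj (op n))
    (hα : ∀ n, α (n + 1) ≫ F.map (homOfLE (Nat.le_succ n)).op = α n) : Cone F where
  pt := A
  π := NatTrans.ofOpSequence (F := (Functor.const ℕᵒᵖ).obj A) (G := F) α (by
    intro n
    rw [Functor.const_obj_map]
    exact (Category.id_comp _).trans (hα n).symm)

include hc in
theorem exists_lift_of_compatible {A : 𝒟} (α : ∀ n, A ⟶ F.obj (op n))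
    (hα : ∀ n, α (n + 1) ≫ F.map (homOfLE (Nat.le_succ n)).op = α n) :
    ∃ a : A ⟶ c.pt, ∀ n, a ≫ c.π.app (op n) = α n :=
  ⟨hc.lift (coneOfCompatible F α hα), fun n => hc.fac (coneOfCompatible F α hα) (op n)⟩

include hc in
theorem hom_ext_of_tower {A : 𝒟} (a a' : A ⟶ c.pt)
    (h : ∀ n, a ≫ c.π.app (op n) = a' ≫ c.π.app (op n)) : a = a' :=
  hc.hom_ext (fun j => h j.unop)

end Tower

end Groth.Agent.H6.Rl
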