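import Groth.Agent.Lib.Helper6.CxLim2
import Groth.Agent.Lib.Helper6.CxLim3
import Groth.Agent.Lib.Helper6.Rl4

/-! # Cohomology sheaves of a termwise limit of a tower of complexes of abelian sheaves -/

universe u
open CategoryTheory Limits Opposite

namespace Groth.Agent.H6.CxLim

open Groth.Agent.LD.SC Groth.Agent.H6.DLim

variable {C : Type u} [SmallCategory C] {J : GrothendieckTopology C}

lemma sect_d (K : CochainComplex (Sheaf J AddCommGrpCat.{u}) ℤ) (U : C) (i j : ℤ)
    (ξ : ZU J U ⟶ K.X i) :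
    ((CohCx.sectCx J U).obj K).d i j (homEquiv U (K.X i) ξ) = homEquiv U (K.X j) (ξ ≫ K.d i j) :=
  (homEquiv_comp U ξ (K.d i j)).symm

lemma sect_f {K K' : CochainComplex (Sheaf J AddCommGrpCat.{u}) ℤ} (φ : K ⟶ K') (U : C) (j : ℤ)
    (ξ : ZU J U ⟶ K.X j) :
    ((CohCx.sectCx J U).map φ).f j (homEquiv U (K.X j) ξ) = homEquiv U (K'.X j) (ξ ≫ φ.f j) :=
  (homEquiv_comp U ξ (φ.f j)).symm

section Tower

variable (F : ℕ → CochainComplex (Sheaf J AddCommGrpCat.{u}) ℤ) (t : ∀ n, F (n + 1) ⟶ F n)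

/-- the termwise limit -/
noncomputable abbrev P : CochainComplex (Sheaf J AddCommGrpCat.{u}) ℤ :=
  limit (CohCx.opSequence F t)

/-- the projections -/
noncomputable abbrev pr (n : ℕ) : P F t ⟶ F n := limit.π (CohCx.opSequence F t) (op n)

lemma pr_succ (n : ℕ) : pr F t (n + 1) ≫ t n = pr F t n := by
  have := limit.w (CohCx.opSequence F t) (homOfLE (Nat.le_succ n)).op
  rwa [Functor.ofOpSequence_map_homOfLE_succ] at this

/-- the degreewise limit cone -/
noncomputable def evalCone (j : ℤ) :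
    Cone (CohCx.opSequence F t ⋙ HomologicalComplex.eval _ (ComplexShape.up ℤ) j) :=
  (HomologicalComplex.eval _ (ComplexShape.up ℤ) j).mapCone (limit.cone (CohCx.opSequence F t))

noncomputable def evalConeIsLimit (j : ℤ) : IsLimit (evalCone F t j) :=
  isLimitOfPreserves _ (limit.isLimit _)

lemma exists_lift_deg (j : ℤ) {A : Sheaf J AddCommGrpCat.{u}} (α : ∀ n, A ⟶ (F n).X j)
    (hα : ∀ n, α (n + 1) ≫ (t n).f j = α n) :
    ∃ a : A ⟶ (P F t).X j, ∀ n, a ≫ (pr F t n).f j = α n := by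
  obtain ⟨a, ha⟩ := Groth.Agent.H6.Rl.exists_lift_of_compatible _ _ (evalConeIsLimit F t j) α (by
    intro n
    rw [Functor.comp_map, Functor.ofOpSequence_map_homOfLE_succ]
    exact hα n)
  exact ⟨a, ha⟩

lemma hom_ext_deg (j : ℤ) {A : Sheaf J AddCommGrpCat.{u}} (a a' : A ⟶ (P F t).X j)
    (h : ∀ n, a ≫ (pr F t n).f j = a' ≫ (pr F t n).f j) : a = a' :=
  Groth.Agent.H6.Rl.hom_ext_of_tower _ _ (evalConeIsLimit F t j) a a' h

lemma isIso_step (U : C) (m : ℤ) (n₀ : ℕ)
    (hc : ∀ k : ℕ, IsIso (HomologicalComplex.homologyMap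
      ((CohCx.sectCx J U).map (CohCx.transition F t n₀ k)) m)) :
    ∀ n, n₀ ≤ n → IsIso (HomologicalComplex.homologyMap ((CohCx.sectCx J U).map (t n)) m) := by
  intro n hn
  obtain ⟨k, rfl⟩ := Nat.exists_eq_add_of_le hn
  have h1 := hc (k + 1)
  have h2 := hc k
  have e : CohCx.transition F t n₀ (k + 1) = t (n₀ + k) ≫ CohCx.transition F t n₀ k := rfl
  rw [e, Functor.map_comp, HomologicalComplex.homologyMap_comp] at h1
  exact IsIso.of_isIso_comp_right _ (HomologicalComplex.homologyMap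
    ((CohCx.sectCx J U).map (CohCx.transition F t n₀ k)) m)

theorem isIso_homologyMap_pr (m : ℤ) (B : Set C)
    (hB : ∀ U : C, ∃ (ι : Type u) (Y : ι → C) (f : ∀ i, Y i ⟶ U),
      Sieve.ofArrows Y f ∈ J U ∧ ∀ i, Y i ∈ B)
    (n₀ : ℕ)
    (ha : ∀ U ∈ B, ∀ j : ℤ, (j = m - 2 ∨ j = m - 1) →
      CohCx.LimOneIsZero (fun n => ((F n).X j).obj.obj (op U))
        (fun n => (((t n).f j).hom.app (op U)).hom))
    (hb : ∀ U ∈ B, CohCx.LimOneIsZero
      (fun n => ((CohCx.sectCx J U).obj (F n)).homology (m - 1))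
      (fun n => (HomologicalComplex.homologyMap ((CohCx.sectCx J U).map (t n)) (m - 1)).hom))
    (hc : ∀ U ∈ B, ∀ k : ℕ, IsIso (HomologicalComplex.homologyMap
      ((CohCx.sectCx J U).map (CohCx.transition F t n₀ k)) m)) :
    IsIso (HomologicalComplex.homologyMap (limit.π (CohCx.opSequence F t) (op n₀)) m) := by
  apply isIso_homologyMap_of_sections (pr F t n₀) (m - 1) m (m + 1) (by omega) rfl B hB
  · intro U hU ξ hξ η' hη'
    have hc' := isIso_step F t U m n₀ (hc U hU)
    obtain ⟨y, hy1, hy2⟩ := tower_inj (fun n => (CohCx.sectCx J U).obj (F n))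
      (fun n => (CohCx.sectCx J U).map (t n)) (m - 2) (m - 1) m (m + 1) (by omega) (by omega) rfl n₀
      (ha U hU (m - 2) (Or.inl rfl)) (hb U hU)
      (fun n hn => by
        haveI := hc' n hn
        exact (ConcreteCategory.bijective_of_isIso _).1)
      (fun n => homEquiv U ((F n).X m) (ξ ≫ (pr F t n).f m))
      (fun n => by
        rw [sect_d, Category.assoc, (pr F t n).comm, ← Category.assoc, hξ, zero_comp,
          homEquiv_zero]
        rfl)
      (fun n => by
        rw [sect_f, Category.assoc, ← HomologicalComplex.comp_f, pr_succ])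
      (homEquiv U ((F n₀).X (m - 1)) η')
      (by rw [sect_d, hη'])
    obtain ⟨η, hη⟩ := exists_lift_deg F t (m - 1)
      (fun n => (homEquiv U ((F n).X (m - 1))).symm (y n)) (fun n => by
        apply (homEquiv U ((F n).X (m - 1))).injective
        rw [← sect_f, Equiv.apply_symm_apply, Equiv.apply_symm_apply]
        exact hy1 n)
    refine ⟨η, ?_⟩
    apply hom_ext_deg F t m
    intro n
    rw [Category.assoc, ← (pr F t n).comm, ← Category.assoc, hη n]
    apply (homEquiv U ((F n).X m)).injective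
    rw [← sect_d, Equiv.apply_symm_apply]
    exact hy2 n
  · intro U hU ξ' hξ'
    have hc' := isIso_step F t U m n₀ (hc U hU)
    obtain ⟨x, hx1, hx2, y₀, hy₀⟩ := tower_surj (m - 1) m (m + 1) (by omega) rfl n₀
      (fun n => (CohCx.sectCx J U).obj (F n))
      (fun n => (CohCx.sectCx J U).map (t n))
      (ha U hU (m - 1) (Or.inr rfl))
      (fun n hn => by
        haveI := hc' n hn
        exact (ConcreteCategory.bijective_of_isIso _).2)
      (homEquiv U ((F n₀).X m) ξ')
      (by rw [sect_d, hξ', homEquiv_zero]; rfl)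
    obtain ⟨ξ, hξ⟩ := exists_lift_deg F t m
      (fun n => (homEquiv U ((F n).X m)).symm (x n)) (fun n => by
        apply (homEquiv U ((F n).X m)).injective
        rw [← sect_f, Equiv.apply_symm_apply, Equiv.apply_symm_apply]
        exact hx2 n)
    refine ⟨ξ, ?_, (homEquiv U ((F n₀).X (m - 1))).symm y₀, ?_⟩
    · apply hom_ext_deg F t (m + 1)
      intro n
      rw [Category.assoc, ← (pr F t n).comm, ← Category.assoc, hξ n, zero_comp]
      apply (homEquiv U ((F n).X (m + 1))).injective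
      rw [← sect_d, Equiv.apply_symm_apply, homEquiv_zero]
      exact hx1 n
    · apply (homEquiv U ((F n₀).X m)).injective
      rw [← sect_d, Equiv.apply_symm_apply, homEquiv_sub, hξ n₀, Equiv.apply_symm_apply]
      exact hy₀

end Tower

end Groth.Agent.H6.CxLim
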