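import Groth.Agent.Lib.Lead.HDSh.Main

/-! # The natural comparison `Hom(ℤ_U[0], L) → H⁰(L)(U)` on a site, for arbitrary derived objects -/

universe u
open CategoryTheory Limits Opposite

namespace Groth.Agent.H6.DLim

open Groth.Agent.LD.SC Groth.Agent.LD.HDSh DerivedCategory

variable {C : Type u} [SmallCategory C] {J : GrothendieckTopology C}
  [HasDerivedCategory.{u} (Sheaf J AddCommGrpCat.{u})]

variable (J) in
/-- the derived-category object `ℤ_U[0]`. -/
noncomputable abbrev DZ (U : C) : DerivedCategory (Sheaf J AddCommGrpCat.{u}) :=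
  Q.obj (S₀ (ZU J U))

/-- functoriality of `ℤ_U[0]`. -/
noncomputable abbrev DZmap {U V : C} (f : V ⟶ U) : DZ J V ⟶ DZ J U :=
  Q.map ((HomologicalComplex.single _ (ComplexShape.up ℤ) 0).map (ZUmap J f))

lemma DZmap_comp {U V W : C} (f : V ⟶ U) (g : W ⟶ V) :
    DZmap (J := J) (g ≫ f) = DZmap g ≫ DZmap f := by
  simp only [DZmap, ZUmap_comp, Functor.map_comp]

/-- the abbreviation `H⁰` for the degree zero cohomology sheaf functor. -/
noncomputable abbrev H0 : DerivedCategory (Sheaf J AddCommGrpCat.{u}) ⥤ Sheaf J AddCommGrpCat.{u} :=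
  homologyFunctor (Sheaf J AddCommGrpCat.{u}) 0

lemma ffInv_naturality {X Y : CochainComplex (Sheaf J AddCommGrpCat.{u}) ℤ} (f : X ⟶ Y) :
    ffInv X ≫ H0.map (Q.map f) = HomologicalComplex.homologyMap f 0 ≫ ffInv Y := by
  have h := ffHom_naturality f
  have h2 : ffInv X ≫ (H0.map (Q.map f) ≫ ffHom Y) ≫ ffInv Y =
      ffInv X ≫ (ffHom X ≫ HomologicalComplex.homologyMap f 0) ≫ ffInv Y := by
    rw [h]
  simpa only [Category.assoc, ffHom_ffInv, ffInv_ffHom_assoc, Category.comp_id] using h2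

/-- canonical map `ℤ_U ⟶ H⁰(ℤ_U[0])`. -/
noncomputable def i0 (U : C) : ZU J U ⟶ H0.obj (DZ J U) :=
  (HomologicalComplex.singleObjHomologySelfIso (ComplexShape.up ℤ) 0 (ZU J U)).inv ≫ ffInv _

lemma i0_naturality {U V : C} (f : V ⟶ U) :
    ZUmap J f ≫ i0 U = i0 V ≫ H0.map (DZmap f) := by
  rw [i0, i0, Category.assoc, ffInv_naturality,
    ← HomologicalComplex.singleObjHomologySelfIso_inv_naturality_assoc]

/-- the comparison map `Hom(ℤ_U[0], L) → H⁰(L)(U)`. -/
noncomputable def beta (L : DerivedCategory (Sheaf J AddCommGrpCat.{u})) (U : C)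
    (φ : DZ J U ⟶ L) : (H0.obj L).obj.obj (op U) :=
  homEquiv U (H0.obj L) (i0 U ≫ H0.map φ)

lemma beta_comp {L K : DerivedCategory (Sheaf J AddCommGrpCat.{u})} (U : C)
    (φ : DZ J U ⟶ L) (ψ : L ⟶ K) :
    beta K U (φ ≫ ψ) = (H0.map ψ).hom.app (op U) (beta L U φ) := by
  rw [beta, beta, Functor.map_comp, ← Category.assoc, homEquiv_comp]

lemma beta_map (L : DerivedCategory (Sheaf J AddCommGrpCat.{u})) {U V : C} (f : V ⟶ U)
    (φ : DZ J U ⟶ L) :
    beta L V (DZmap f ≫ φ) = (H0.obj L).obj.map f.op (beta L U φ) := by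
  rw [beta, beta, Functor.map_comp, ← Category.assoc, ← i0_naturality, Category.assoc,
    homEquiv_map]

lemma beta_zero (L : DerivedCategory (Sheaf J AddCommGrpCat.{u})) (U : C) :
    beta L U 0 = 0 := by
  rw [beta, Functor.map_zero, comp_zero]
  exact (homAddEquiv U (H0.obj L)).map_zero

lemma alpha_eq_beta (M : CochainComplex (Sheaf J AddCommGrpCat.{u}) ℤ) (U : C)
    (φ : DZ J U ⟶ Q.obj M) :
    aU M U φ = (ffHom M).hom.app (op U) (beta (Q.obj M) U φ) := by
  rw [aU_apply, beta, ← homEquiv_comp, i0, H0m]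
  simp only [Category.assoc]

end Groth.Agent.H6.DLim
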