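import Groth.Agent.Lib.Helper6.DLim3

/-! # Injectivity of `H^m(L)(V) → H^m(K_n)(V)` for a derived limit on a site -/

universe u
open CategoryTheory Limits Opposite Pretriangulated

namespace Groth.Agent.H6.DLim

open Groth.Agent.LD.SC Groth.Agent.LD.HDSh DerivedCategory

variable {C : Type u} [SmallCategory C] {J : GrothendieckTopology C}
  [HasDerivedCategory.{u} (Sheaf J AddCommGrpCat.{u})]

theorem injective_H0 {K : ℕ → DerivedCategory (Sheaf J AddCommGrpCat.{u})}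
    {t : ∀ n, K (n + 1) ⟶ K n} [HasProduct K]
    {L : DerivedCategory (Sheaf J AddCommGrpCat.{u})} {a : ∀ n, L ⟶ K n}
    (hL : CohCx.IsRlimVia K t L a) (V : C) (m : ℤ) (nV : ℕ)
    (h : ∀ T ∈ J V, ∃ (ι : Type u) (Y : ι → C) (f : ∀ i, Y i ⟶ V), (∀ i, T.arrows (f i)) ∧
      Sieve.ofArrows Y f ∈ J V ∧ ∀ i,
        Function.Surjective (fun (w : ∀ n, DZ J (Y i) ⟶ (K n)⟦m - 1⟧) (n : ℕ) =>
          w n - w (n + 1) ≫ (t n)⟦m - 1⟧') ∧
        ∀ k : ℕ, Function.Injective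
          (fun w : DZ J (Y i) ⟶ (K (nV + k))⟦m⟧ => w ≫ (CohCx.transition K t nV k)⟦m⟧')) :
    Function.Injective ((H0.map ((a nV)⟦m⟧')).hom.app (op V)) := by
  refine (injective_iff_map_eq_zero ((H0.map ((a nV)⟦m⟧')).hom.app (op V)).hom).mpr ?_
  intro s hs
  obtain ⟨ι, Y, f, hTf, hcov, hi⟩ := h _ (liftSieve_mem ((a nV)⟦m⟧') V s hs)
  refine (Sheaf.isSeparated (H0.obj (L⟦m⟧))) V _ hcov s 0 ?_
  intro W g hg
  obtain ⟨i, g', rfl⟩ := (Sieve.mem_ofArrows_iff Y f g).mp hg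
  obtain ⟨y, hy1, hy2⟩ := hTf i
  have hy0 : y = 0 := eq_zero_of_comp_eq_zero hL m nV (hi i).1 (hi i).2 y hy2
  rw [hy0, beta_zero] at hy1
  rw [map_zero, op_comp, Functor.map_comp]
  change (H0.obj (L⟦m⟧)).obj.map g'.op ((H0.obj (L⟦m⟧)).obj.map (f i).op s) = 0
  rw [← hy1, map_zero]

theorem injective_Hm {L K : DerivedCategory (Sheaf J AddCommGrpCat.{u})} (ψ : L ⟶ K)
    (V : C) (m : ℤ)
    (h : Function.Injective ((H0.map (ψ⟦m⟧')).hom.app (op V))) :
    Function.Injective (((DerivedCategory.homologyFunctor _ m).map ψ).hom.app (op V)) := by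
  let iso := (DerivedCategory.homologyFunctor (Sheaf J AddCommGrpCat.{u}) 0).shiftIso m 0 m
    (add_zero m)
  let ιL : H0.obj (L⟦m⟧) ⟶ (DerivedCategory.homologyFunctor _ m).obj L := iso.hom.app L
  let ιK : H0.obj (K⟦m⟧) ⟶ (DerivedCategory.homologyFunctor _ m).obj K := iso.hom.app K
  let ιL' : (DerivedCategory.homologyFunctor _ m).obj L ⟶ H0.obj (L⟦m⟧) := iso.inv.app L
  have nat : H0.map (ψ⟦m⟧') ≫ ιK = ιL ≫ (DerivedCategory.homologyFunctor _ m).map ψ :=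
    iso.hom.naturality ψ
  have hinv : ιL' ≫ ιL = 𝟙 _ := iso.inv_hom_id_app L
  haveI : IsIso ιK := inferInstanceAs (IsIso (iso.hom.app K))
  haveI : IsIso ιL' := inferInstanceAs (IsIso (iso.inv.app L))
  have natV : ∀ z, ιK.hom.app (op V) ((H0.map (ψ⟦m⟧')).hom.app (op V) z) =
      ((DerivedCategory.homologyFunctor _ m).map ψ).hom.app (op V) (ιL.hom.app (op V) z) :=
    fun z => congrArg (fun g => g.hom.app (op V) z) nat
  have hinvV : ∀ z, ιL.hom.app (op V) (ιL'.hom.app (op V) z) = z :=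
    fun z => congrArg (fun g => g.hom.app (op V) z) hinv
  intro x y hxy
  apply sheafHom_injective_of_isIso ιL' V
  apply h
  apply sheafHom_injective_of_isIso ιK V
  rw [natV, natV, hinvV, hinvV]
  exact hxy

theorem s880 {K : ℕ → DerivedCategory (Sheaf J AddCommGrpCat.{u})}
    {t : ∀ n, K (n + 1) ⟶ K n} [HasProduct K]
    {L : DerivedCategory (Sheaf J AddCommGrpCat.{u})} {a : ∀ n, L ⟶ K n}
    (hL : CohCx.IsRlimVia K t L a)
    (V : C) (m : ℤ) (nV : ℕ)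
    (h : ∀ T ∈ J V, ∃ (ι : Type u) (Y : ι → C) (f : ∀ i, Y i ⟶ V), (∀ i, T.arrows (f i)) ∧
      Sieve.ofArrows Y f ∈ J V ∧ ∀ i,
        CohCx.LimOneIsZero (fun n => CohCx.HDU (K n) (m - 1) (Y i))
          (fun n => Preadditive.rightComp _ ((shiftFunctor _ (m - 1)).map (t n))) ∧
        ∀ k : ℕ, Function.Injective
          (Preadditive.rightComp _ ((shiftFunctor _ m).map (CohCx.transition K t nV k)) :
            CohCx.HDU (K (nV + k)) m (Y i) → CohCx.HDU (K nV) m (Y i))) :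
    Function.Injective (((DerivedCategory.homologyFunctor _ m).map (a nV)).hom.app (op V)) := by
  apply injective_Hm (a nV) V m
  apply injective_H0 hL V m nV
  intro T hT
  obtain ⟨ι, Y, f, h1, h2, h3⟩ := h T hT
  exact ⟨ι, Y, f, h1, h2, fun i => ⟨(h3 i).1, (h3 i).2⟩⟩

end Groth.Agent.H6.DLim
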