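import Groth.Agent.Lib.Helper6.DLim9
import Groth.Agent.Lib.Helper6.DLim4

/-! # `E ≅ R lim τ_{≥ -n} E` on a site under local cohomological-dimension bounds -/

universe u' v' u
open CategoryTheory Limits Opposite Pretriangulated

namespace Groth.Agent.H6.DLim

section Abstract

variable {T : Type u'} [Category.{v'} T] [Preadditive T] [HasZeroObject T] [HasShift T ℤ]
  [∀ n : ℤ, (shiftFunctor T n).Additive] [Pretriangulated T]

theorem injective_transition {K : ℕ → T} {t : ∀ n, K (n + 1) ⟶ K n} (W : T) (m : ℤ) (nV : ℕ)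
    (h : ∀ n, nV ≤ n → Function.Injective (fun w : W ⟶ (K (n + 1))⟦m⟧ => w ≫ (t n)⟦m⟧')) :
    ∀ k, Function.Injective
      (fun w : W ⟶ (K (nV + k))⟦m⟧ => w ≫ (CohCx.transition K t nV k)⟦m⟧') := by
  intro k
  induction k with
  | zero =>
    intro w w' hww
    have e : (shiftFunctor T m).map (CohCx.transition K t nV 0) = 𝟙 _ :=
      (shiftFunctor T m).map_id _
    have h1 : w ≫ (shiftFunctor T m).map (CohCx.transition K t nV 0) =
        w' ≫ (shiftFunctor T m).map (CohCx.transition K t nV 0) := hww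
    rw [e] at h1
    simpa using h1
  | succ k ih =>
    intro w w' hww
    have h1 : w ≫ (t (nV + k) ≫ CohCx.transition K t nV k)⟦m⟧' =
        w' ≫ (t (nV + k) ≫ CohCx.transition K t nV k)⟦m⟧' := hww
    rw [Functor.map_comp, ← Category.assoc, ← Category.assoc] at h1
    exact h (nV + k) (Nat.le_add_right nV k) (ih h1)

end Abstract

section Site

open Groth.Agent.LD.SC Groth.Agent.LD.HDSh DerivedCategory Groth.Agent.H2.DTrunc

variable {C : Type u} [SmallCategory C] {J : GrothendieckTopology C}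

theorem isIso_of_injective_of_surjective_on {F G : Sheaf J AddCommGrpCat.{u}} (θ : F ⟶ G)
    (B : Set C)
    (hB : ∀ U : C, ∃ (ι : Type u) (Y : ι → C) (f : ∀ i, Y i ⟶ U),
      Sieve.ofArrows Y f ∈ J U ∧ ∀ i, Y i ∈ B)
    (hinj : ∀ V : C, Function.Injective (θ.hom.app (op V)))
    (hsurj : ∀ V ∈ B, Function.Surjective (θ.hom.app (op V))) : IsIso θ := by
  refine (Sheaf.isLocallyBijective_iff_isIso θ).1 ⟨?_, ?_⟩
  · exact (Sheaf.isLocallyInjective_iff_injective θ).2 (fun X => hinj X.unop)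
  · constructor
    intro U s
    obtain ⟨ι, Y, f, hcov, hYB⟩ := hB U
    refine J.superset_covering ?_ hcov
    intro W g hg
    obtain ⟨i, g', rfl⟩ := (Sieve.mem_ofArrows_iff Y f g).mp hg
    obtain ⟨x, hx⟩ := hsurj (Y i) (hYB i) (G.obj.map (f i).op s)
    refine ⟨F.obj.map g'.op x, ?_⟩
    have h1 : θ.hom.app (op W) (F.obj.map g'.op x) = G.obj.map g'.op (θ.hom.app (op (Y i)) x) :=
      congrArg (fun g => g x) (congrArg AddCommGrpCat.Hom.hom (θ.hom.naturality g'.op))
    rw [h1, hx, op_comp, Functor.map_comp]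
    rfl

variable [HasDerivedCategory.{u} (Sheaf J AddCommGrpCat.{u})]

lemma toTruncTower_comp_map (E : DerivedCategory (Sheaf J AddCommGrpCat.{u})) (n : ℕ) :
    CohCx.toTruncTower E (n + 1) ≫ CohCx.truncTowerMap E n = CohCx.toTruncTower E n :=
  tt.π_natTransTruncGEOfLE_app _ _ _ E

/-- the key step: the transition maps of the truncation tower are bijective on
`H^j(Y, -)` for large indices. -/
theorem bijective_truncTower_step (E : DerivedCategory (Sheaf J AddCommGrpCat.{u})) (Y : C)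
    (p : ℤ → ℤ)
    (hvan : ∀ (m : ℤ) (k : ℕ), p m < k → Subsingleton (CohSite.HU (CohCx.HD E (m - k)) k Y))
    (j : ℤ) (n : ℕ) (hn1 : p j - j ≤ n) (hn2 : p (j + 1) - (j + 1) ≤ n) :
    Function.Bijective (fun w : DZ J Y ⟶ (CohCx.truncTower E (n + 1))⟦j⟧ =>
      w ≫ (CohCx.truncTowerMap E n)⟦j⟧') := by
  apply bijective_truncGE_step E (-((n + 1 : ℕ) : ℤ)) (-(n : ℤ)) (by push_cast; omega) _ Y j
  · intro k hk
    have h1 := hvan j k (by push_cast at hk; omega)
    have h2 : j - (k : ℤ) = -((n + 1 : ℕ) : ℤ) := by push_cast at hk ⊢; omega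
    rwa [h2] at h1
  · intro k hk
    have h1 := hvan (j + 1) k (by push_cast at hk; omega)
    have h2 : j + 1 - (k : ℤ) = -((n + 1 : ℕ) : ℤ) := by push_cast at hk ⊢; omega
    rwa [h2] at h1

end Site

end Groth.Agent.H6.DLim
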