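import Groth.Agent.Lib.Helper6.DLim10

/-! # Two-sided Milnor: `Hom(W, L[q]) ≅ Hom(W, K_n[q])` for an eventually constant tower -/

universe u' v' u
open CategoryTheory Limits Opposite Pretriangulated

namespace Groth.Agent.H6.DLim

theorem exists_compatible_family (n₀ : ℕ) : ∀ (A : ℕ → Type u) (t : ∀ n, A (n + 1) → A n)
    (_ : ∀ n, n₀ ≤ n → Function.Surjective (t n)) (x₀ : A n₀),
    ∃ x : ∀ n, A n, (∀ n, t n (x (n + 1)) = x n) ∧ x n₀ = x₀ := by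
  induction n₀ with
  | zero =>
    intro A t h x₀
    choose s hs using (fun n => h n (Nat.zero_le n))
    let x : ∀ n, A n := fun n => Nat.rec (motive := A) x₀ (fun k xk => s k xk) n
    exact ⟨x, fun n => hs n (x n), rfl⟩
  | succ n₀ ih =>
    intro A t h x₀
    obtain ⟨x', hx', hx0⟩ := ih (fun n => A (n + 1)) (fun n => t (n + 1))
      (fun n hn => h (n + 1) (by omega)) x₀
    refine ⟨fun n => match n with
      | 0 => t 0 (x' 0)
      | k + 1 => x' k, ?_, hx0⟩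
    intro n
    cases n with
    | zero => rfl
    | succ k => exact hx' k

section Abstract

variable {T : Type u'} [Category.{v'} T] [Preadditive T] [HasZeroObject T] [HasShift T ℤ]
  [∀ n : ℤ, (shiftFunctor T n).Additive] [Pretriangulated T]
  {K : ℕ → T} {t : ∀ n, K (n + 1) ⟶ K n} [HasProduct K] {L : T} {a : ∀ n, L ⟶ K n}

theorem bijective_comp_a (hL : CohCx.IsRlimVia K t L a) (W : T) (q : ℤ) (n₀ : ℕ)
    (hs : ∀ n, n₀ ≤ n →
      Function.Surjective (fun w : W ⟶ (K (n + 1))⟦q - 1⟧ => w ≫ (t n)⟦q - 1⟧'))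
    (hb : ∀ n, n₀ ≤ n → Function.Bijective (fun w : W ⟶ (K (n + 1))⟦q⟧ => w ≫ (t n)⟦q⟧')) :
    Function.Bijective (fun y : W ⟶ L⟦q⟧ => y ≫ (a n₀)⟦q⟧') := by
  constructor
  · intro y y' h
    have h1 : (y - y') ≫ (a n₀)⟦q⟧' = 0 := by
      rw [Preadditive.sub_comp]
      exact sub_eq_zero.mpr h
    have hlim : Function.Surjective (fun (w : ∀ n, W ⟶ (K n)⟦q - 1⟧) (n : ℕ) =>
        w n - w (n + 1) ≫ (t n)⟦q - 1⟧') :=
      limOneIsZero_of_eventually_surjective n₀ (fun n => W ⟶ (K n)⟦q - 1⟧)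
        (fun n => Preadditive.rightComp _ ((t n)⟦q - 1⟧')) hs
    have h2 := eq_zero_of_comp_eq_zero hL q n₀ hlim
      (injective_transition W q n₀ (fun n hn => (hb n hn).1)) (y - y') h1
    exact sub_eq_zero.mp h2
  · intro x₀
    obtain ⟨x, hx, hx0⟩ := exists_compatible_family n₀ (fun n => W ⟶ (K n)⟦q⟧)
      (fun n w => w ≫ (t n)⟦q⟧') (fun n hn => (hb n hn).2) x₀
    obtain ⟨y, hy⟩ := Groth.Agent.H7.Milnor.part1 hL q x hx
    exact ⟨y, (hy n₀).trans hx0⟩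

theorem injective_comp_shift_mor₁ (Tr : Triangle T) (hT : Tr ∈ distTriang T) (W : T) (j : ℤ)
    (h0 : ∀ φ : W ⟶ (Tr.obj₃⟦(-1 : ℤ)⟧)⟦j⟧, φ = 0) :
    Function.Injective (fun w : W ⟶ Tr.obj₁⟦j⟧ => w ≫ Tr.mor₁⟦j⟧') :=
  injective_comp_shift_mor₂ Tr.invRotate (inv_rot_of_distTriang _ hT) W j h0

theorem surjective_comp_shift_mor₁ (Tr : Triangle T) (hT : Tr ∈ distTriang T) (W : T)
    (j j1 : ℤ) (hj : j + 1 = j1) (h0 : ∀ φ : W ⟶ (Tr.obj₃⟦(-1 : ℤ)⟧)⟦j1⟧, φ = 0) :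
    Function.Surjective (fun w : W ⟶ Tr.obj₁⟦j⟧ => w ≫ Tr.mor₁⟦j⟧') :=
  surjective_comp_shift_mor₂ Tr.invRotate (inv_rot_of_distTriang _ hT) W j j1 hj h0

end Abstract

end Groth.Agent.H6.DLim
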