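import Groth.Agent.Lib.Helper6.DLim13
import Groth.Agent.Lib.Helper6.DLim11
import Groth.Agent.Lib.Helper2.DProd1

/-! # `H^q(U, K) ≅ H^q(K)(U)` on objects with vanishing higher cohomology of the cohomology sheaves -/

universe u
open CategoryTheory Limits Opposite Pretriangulated

namespace Groth.Agent.H6.DLim

open Groth.Agent.LD.SC Groth.Agent.LD.HDSh DerivedCategory Groth.Agent.H2.DTrunc

variable {C : Type u} [SmallCategory C] {J : GrothendieckTopology C}

theorem exists_refinement (B : Set C)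
    (hB : ∀ U : C, ∃ (ι : Type u) (Y : ι → C) (f : ∀ i, Y i ⟶ U),
      Sieve.ofArrows Y f ∈ J U ∧ ∀ i, Y i ∈ B)
    {V : C} (T : Sieve V) (hT : T ∈ J V) :
    ∃ (ι : Type u) (Y : ι → C) (f : ∀ i, Y i ⟶ V), (∀ i, T.arrows (f i)) ∧
      Sieve.ofArrows Y f ∈ J V ∧ ∀ i, Y i ∈ B := by
  choose ιU YU fU hcov hYB using hB
  refine ⟨Σ (W : C) (_ : {g : W ⟶ V // T g}), ιU W, fun i => YU i.1 i.2.2,
    fun i => fU i.1 i.2.2 ≫ i.2.1.1, fun i => T.downward_closed i.2.1.2 _, ?_,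
    fun i => hYB i.1 i.2.2⟩
  refine J.transitive hT _ (fun W g hg => ?_)
  refine J.superset_covering ?_ (hcov W)
  intro W' k hk
  obtain ⟨i, a, rfl⟩ := (Sieve.mem_ofArrows_iff _ _ k).mp hk
  change Sieve.ofArrows _ _ ((a ≫ fU W i) ≫ g)
  rw [Category.assoc]
  exact (Sieve.mem_ofArrows_iff _ _ _).mpr ⟨⟨W, ⟨g, hg⟩, i⟩, a, rfl⟩

theorem nonempty_addEquiv_of_bijective {A B : Type*} [AddCommGroup A] [AddCommGroup B]
    (f : A →+ B) (h : Function.Bijective f) : Nonempty (A ≃+ B) :=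
  ⟨AddEquiv.ofBijective f h⟩

variable [HasDerivedCategory.{u} (Sheaf J AddCommGrpCat.{u})]

/-- finite chain of truncation steps. -/
theorem nonempty_addEquiv_truncGE (E : DerivedCategory (Sheaf J AddCommGrpCat.{u})) (Y : C)
    (q : ℤ)
    (hv : ∀ (i : ℤ) (k : ℕ), 0 < k → Subsingleton (CohSite.HU (CohCx.HD E i) k Y)) :
    ∀ (d : ℕ) (a : ℤ), a + d = q →
      Nonempty ((DZ J Y ⟶ ((tt.truncGE a).obj E)⟦q⟧) ≃+ (DZ J Y ⟶ ((tt.truncGE q).obj E)⟦q⟧)) := by
  intro d
  induction d with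
  | zero =>
    intro a ha
    have : a = q := by simpa using ha
    subst this
    exact ⟨AddEquiv.refl _⟩
  | succ d ih =>
    intro a ha
    obtain ⟨e2⟩ := ih (a + 1) (by push_cast at ha; omega)
    have hb := bijective_truncGE_step E a (a + 1) rfl (by omega) Y q
      (fun k hk => hv a k (by push_cast at ha; omega))
      (fun k hk => hv a k (by push_cast at ha; omega))
    obtain ⟨e1⟩ := nonempty_addEquiv_of_bijective
      (Preadditive.rightComp (DZ J Y) (((tt.natTransTruncGEOfLE a (a + 1) (by omega)).app E)⟦q⟧'))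
      hb
    exact ⟨e1.trans e2⟩

end Groth.Agent.H6.DLim
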