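import Groth.Agent.Lib.Helper6.DLim14

/-! # `H^q(U, K) ≅ H^q(K)(U)`: last step and assembly -/

universe u
open CategoryTheory Limits Opposite Pretriangulated

namespace Groth.Agent.H6.DLim

open Groth.Agent.LD.SC Groth.Agent.LD.HDSh DerivedCategory Groth.Agent.H2.DTrunc

variable {C : Type u} [SmallCategory C] {J : GrothendieckTopology C}
  [HasDerivedCategory.{u} (Sheaf J AddCommGrpCat.{u})]

theorem nonempty_addEquiv_truncGE_self (E : DerivedCategory (Sheaf J AddCommGrpCat.{u})) (Y : C)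
    (q : ℤ) :
    Nonempty ((DZ J Y ⟶ ((tt.truncGE q).obj E)⟦q⟧) ≃+ (CohCx.HD E q).obj.obj (op Y)) := by
  obtain ⟨F, f, δ, hT, ⟨e⟩⟩ := exists_fiber_iso_single E q (q + 1) rfl
  haveI hLE : tt.IsLE (DZ J Y) 0 :=
    inferInstanceAs (((singleFunctor (Sheaf J AddCommGrpCat.{u}) 0).obj (ZU J Y)).IsLE 0)
  haveI h1 : tt.IsGE (((tt.truncGE (q + 1)).obj E)⟦(-1 : ℤ)⟧) (q + 2) :=
    tt.isGE_shift _ (q + 1) (-1) (q + 2) (by omega)
  haveI h2 : tt.IsGE ((((tt.truncGE (q + 1)).obj E)⟦(-1 : ℤ)⟧)⟦q⟧) 2 :=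
    tt.isGE_shift _ (q + 2) q 2 (by omega)
  haveI h3 : tt.IsGE ((((tt.truncGE (q + 1)).obj E)⟦(-1 : ℤ)⟧)⟦q + 1⟧) 1 :=
    tt.isGE_shift _ (q + 2) (q + 1) 1 (by omega)
  have hb : Function.Bijective (fun w : DZ J Y ⟶ F⟦q⟧ => w ≫ f⟦q⟧') := by
    constructor
    · exact injective_comp_shift_mor₁ _ hT (DZ J Y) q (fun φ => tt.zero_of_isLE_of_isGE φ 0 2 (by omega) hLE h2)
    · exact surjective_comp_shift_mor₁ _ hT (DZ J Y) q (q + 1) rfl
        (fun φ => tt.zero_of_isLE_of_isGE φ 0 1 (by omega) hLE h3)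
  obtain ⟨e1⟩ := nonempty_addEquiv_of_bijective (Preadditive.rightComp (DZ J Y) (f⟦q⟧')) hb
  let SF := DerivedCategory.singleFunctors (Sheaf J AddCommGrpCat.{u})
  let iso : F⟦q⟧ ≅ (singleFunctor (Sheaf J AddCommGrpCat.{u}) 0).obj (CohCx.HD E q) :=
    (shiftFunctor _ q).mapIso e ≪≫ (SF.shiftIso q 0 q (add_zero q)).app (CohCx.HD E q)
  let e2 : (DZ J Y ⟶ F⟦q⟧) ≃+
      (DZ J Y ⟶ (singleFunctor (Sheaf J AddCommGrpCat.{u}) 0).obj (CohCx.HD E q)) :=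
    { toFun := fun w => w ≫ iso.hom
      invFun := fun w => w ≫ iso.inv
      left_inv := fun w => by simp
      right_inv := fun w => by simp
      map_add' := fun w w' => Preadditive.add_comp _ _ _ _ _ _ }
  let e3 : (ZU J Y ⟶ CohCx.HD E q) ≃+
      ((singleFunctor (Sheaf J AddCommGrpCat.{u}) 0).obj (ZU J Y) ⟶
        (singleFunctor (Sheaf J AddCommGrpCat.{u}) 0).obj (CohCx.HD E q)) :=
    AddEquiv.ofBijective (singleFunctor (Sheaf J AddCommGrpCat.{u}) 0).mapAddHom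
      ⟨(singleFunctor (Sheaf J AddCommGrpCat.{u}) 0).map_injective,
        (singleFunctor (Sheaf J AddCommGrpCat.{u}) 0).map_surjective⟩
  exact ⟨e1.symm.trans (e2.trans (e3.symm.trans (homAddEquiv Y (CohCx.HD E q))))⟩

theorem s877 (K : DerivedCategory (Sheaf J AddCommGrpCat.{u})) (B : Set C)
    (hB : ∀ U : C, ∃ (ι : Type u) (Y : ι → C) (f : ∀ i, Y i ⟶ U),
      Sieve.ofArrows Y f ∈ J U ∧ ∀ i, Y i ∈ B)
    (h : ∀ U ∈ B, ∀ (p : ℕ) (q : ℤ), Subsingleton (CohSite.HU (CohCx.HD K q) (p + 1) U))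
    (U : C) (hU : U ∈ B) (q : ℤ) :
    Nonempty (CohCx.HDU K q U ≃+ (CohCx.HD K q).obj.obj (op U)) := by
  have hv : ∀ V ∈ B, ∀ (i : ℤ) (k : ℕ), 0 < k → Subsingleton (CohSite.HU (CohCx.HD K i) k V) := by
    intro V hV i k hk
    obtain ⟨p, rfl⟩ := Nat.exists_eq_succ_of_ne_zero (Nat.pos_iff_ne_zero.mp hk)
    exact h V hV p i
  haveI : HasProduct (CohCx.truncTower K) :=
    Groth.Agent.H2.DProd.hasProduct_of_isGE _ (fun n => ⟨-(n : ℤ), inferInstance⟩)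
  have hR : CohCx.IsRlimVia (CohCx.truncTower K) (CohCx.truncTowerMap K) K
      (CohCx.toTruncTower K) := by
    apply s881 K B hB
    intro V hV
    refine ⟨fun _ => 0, fun T hT => ?_⟩
    obtain ⟨ι, Y, f, h1, h2, h3⟩ := exists_refinement B hB T hT
    exact ⟨ι, Y, f, h1, h2, fun i m k hk => hv (Y i) (h3 i) _ k (by
      have hk' : (0 : ℤ) < k := hk
      exact_mod_cast hk')⟩
  have hvU : ∀ (m : ℤ) (k : ℕ), (fun _ : ℤ => (0 : ℤ)) m < k →
      Subsingleton (CohSite.HU (CohCx.HD K (m - k)) k U) :=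
    fun m k hk => hv U hU _ k (by
      have hk' : (0 : ℤ) < k := hk
      exact_mod_cast hk')
  obtain ⟨n₀, hn₀⟩ : ∃ n₀ : ℕ, 1 - q ≤ n₀ := ⟨(1 - q).toNat, Int.self_le_toNat _⟩
  have hb1 := bijective_comp_a hR (DZ J U) q n₀
    (fun n hn => (bijective_truncTower_step K U (fun _ => 0) hvU (q - 1) n
      (by have : (n₀ : ℤ) ≤ n := by exact_mod_cast hn
          omega)
      (by have : (n₀ : ℤ) ≤ n := by exact_mod_cast hn
          omega)).2)
    (fun n hn => bijective_truncTower_step K U (fun _ => 0) hvU q n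
      (by have : (n₀ : ℤ) ≤ n := by exact_mod_cast hn
          omega)
      (by have : (n₀ : ℤ) ≤ n := by exact_mod_cast hn
          omega))
  obtain ⟨e1⟩ := nonempty_addEquiv_of_bijective
    (Preadditive.rightComp (DZ J U) ((CohCx.toTruncTower K n₀)⟦q⟧')) hb1
  obtain ⟨d, hd⟩ : ∃ d : ℕ, -(n₀ : ℤ) + d = q := ⟨(q + n₀).toNat, by
    have := Int.toNat_of_nonneg (show 0 ≤ q + n₀ by omega)
    omega⟩
  obtain ⟨e2⟩ := nonempty_addEquiv_truncGE K U q (hv U hU) d (-(n₀ : ℤ)) hd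
  obtain ⟨e3⟩ := nonempty_addEquiv_truncGE_self K U q
  exact ⟨e1.trans (e2.trans e3)⟩

end Groth.Agent.H6.DLim
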