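import Groth.Agent.Lib.Helper6.DLim15

/-! # `H^q(U, K) ≅ H^q(K)(U)` on a basis of a topological space -/

universe u
open CategoryTheory Limits Opposite Pretriangulated TopologicalSpace

namespace Groth.Agent.H6.DLim

theorem exists_cover_of_isBasis {X : TopCat.{u}} (B : Set (Opens X)) (hB : Opens.IsBasis B)
    (U : Opens X) :
    ∃ (ι : Type u) (Y : ι → Opens X) (f : ∀ i, Y i ⟶ U),
      Sieve.ofArrows Y f ∈ Opens.grothendieckTopology X U ∧ ∀ i, Y i ∈ B := by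
  refine ⟨{W : Opens X // W ∈ B ∧ W ≤ U}, fun i => i.1, fun i => homOfLE i.2.2, ?_,
    fun i => i.2.1⟩
  intro x hx
  obtain ⟨U', hU'B, hxU', hU'U⟩ := Opens.isBasis_iff_nbhd.mp hB hx
  exact ⟨U', homOfLE hU'U, Sieve.ofArrows_mk _ _ (⟨U', hU'B, hU'U⟩ : {W : Opens X // W ∈ B ∧ W ≤ U}),
    hxU'⟩

theorem s868 {X : TopCat.{u}} [HasDerivedCategory.{u} (CohTop.Ab X)]
    (K : DerivedCategory (CohTop.Ab X)) (B : Set (Opens X)) (hB : Opens.IsBasis B)
    (h : ∀ U ∈ B, ∀ (p : ℕ) (q : ℤ), Subsingleton (CohTop.HU (CohCx.HD K q) (p + 1) U))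
    (U : Opens X) (hU : U ∈ B) (q : ℤ) :
    Nonempty (CohCx.HDU K q U ≃+ (CohCx.HD K q).obj.obj (op U)) :=
  s877 K B (exists_cover_of_isBasis B hB) h U hU q

end Groth.Agent.H6.DLim
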