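import Groth.Agent.Lib.Helper6.DLim15

/-! # The degree `q` comparison `γ : Hom(ℤ_U[0], K[q]) → H^q(K)(U)` -/

universe u
open CategoryTheory Limits Opposite Pretriangulated

namespace Groth.Agent.H6.DLim

open Groth.Agent.LD.SC Groth.Agent.LD.HDSh DerivedCategory Groth.Agent.H2.DTrunc

variable {C : Type u} [SmallCategory C] {J : GrothendieckTopology C}
  [HasDerivedCategory.{u} (Sheaf J AddCommGrpCat.{u})]

lemma beta_add (L : DerivedCategory (Sheaf J AddCommGrpCat.{u})) (U : C) (φ ψ : DZ J U ⟶ L) :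
    beta L U (φ + ψ) = beta L U φ + beta L U ψ := by
  rw [beta, beta, beta, Functor.map_add, Preadditive.comp_add]
  exact homEquiv_add U _ _

/-- the isomorphism `H⁰(K[q]) ≅ H^q(K)` of sheaves. -/
noncomputable def shIso (K : DerivedCategory (Sheaf J AddCommGrpCat.{u})) (q : ℤ) :
    H0.obj (K⟦q⟧) ≅ CohCx.HD K q :=
  ((DerivedCategory.homologyFunctor (Sheaf J AddCommGrpCat.{u}) 0).shiftIso q 0 q
    (add_zero q)).app K

lemma shIso_naturality {K K' : DerivedCategory (Sheaf J AddCommGrpCat.{u})} (ψ : K ⟶ K')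
    (q : ℤ) :
    H0.map (ψ⟦q⟧') ≫ (shIso K' q).hom =
      (shIso K q).hom ≫ (DerivedCategory.homologyFunctor _ q).map ψ :=
  ((DerivedCategory.homologyFunctor (Sheaf J AddCommGrpCat.{u}) 0).shiftIso q 0 q
    (add_zero q)).hom.naturality ψ

lemma shIso_naturality_apply {K K' : DerivedCategory (Sheaf J AddCommGrpCat.{u})} (ψ : K ⟶ K')
    (q : ℤ) (U : C) (z : (H0.obj (K⟦q⟧)).obj.obj (op U)) :
    (shIso K' q).hom.hom.app (op U) ((H0.map (ψ⟦q⟧')).hom.app (op U) z) =
      ((DerivedCategory.homologyFunctor _ q).map ψ).hom.app (op U)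
        ((shIso K q).hom.hom.app (op U) z) :=
  congrArg (fun g => g.hom.app (op U) z) (shIso_naturality ψ q)

/-- the degree `q` comparison map. -/
noncomputable def gamma (K : DerivedCategory (Sheaf J AddCommGrpCat.{u})) (q : ℤ) (U : C)
    (y : DZ J U ⟶ K⟦q⟧) : (CohCx.HD K q).obj.obj (op U) :=
  (shIso K q).hom.hom.app (op U) (beta (K⟦q⟧) U y)

lemma gamma_comp {K K' : DerivedCategory (Sheaf J AddCommGrpCat.{u})} (q : ℤ) (U : C)
    (y : DZ J U ⟶ K⟦q⟧) (ψ : K ⟶ K') :
    gamma K' q U (y ≫ ψ⟦q⟧') =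
      ((DerivedCategory.homologyFunctor _ q).map ψ).hom.app (op U) (gamma K q U y) := by
  rw [gamma, gamma, beta_comp, shIso_naturality_apply]

lemma gamma_map (K : DerivedCategory (Sheaf J AddCommGrpCat.{u})) (q : ℤ) {U V : C} (f : V ⟶ U)
    (y : DZ J U ⟶ K⟦q⟧) :
    gamma K q V (DZmap f ≫ y) = (CohCx.HD K q).obj.map f.op (gamma K q U y) := by
  rw [gamma, gamma, beta_map, sheafHom_naturality_apply]

lemma gamma_zero (K : DerivedCategory (Sheaf J AddCommGrpCat.{u})) (q : ℤ) (U : C) :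
    gamma K q U 0 = 0 := by
  rw [gamma, beta_zero, map_zero]

lemma gamma_add (K : DerivedCategory (Sheaf J AddCommGrpCat.{u})) (q : ℤ) (U : C)
    (y y' : DZ J U ⟶ K⟦q⟧) : gamma K q U (y + y') = gamma K q U y + gamma K q U y' := by
  rw [gamma, gamma, gamma, beta_add, map_add]

lemma gamma_sub (K : DerivedCategory (Sheaf J AddCommGrpCat.{u})) (q : ℤ) (U : C)
    (y y' : DZ J U ⟶ K⟦q⟧) : gamma K q U (y - y') = gamma K q U y - gamma K q U y' := by
  have h := gamma_add K q U (y - y') y'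
  rw [sub_add_cancel] at h
  rw [h, add_sub_cancel_right]

theorem gamma_locSurj (K : DerivedCategory (Sheaf J AddCommGrpCat.{u})) (q : ℤ) (V : C)
    (s : (CohCx.HD K q).obj.obj (op V)) :
    ∃ T ∈ J V, ∀ {W : C} (f : W ⟶ V), T f →
      ∃ y : DZ J W ⟶ K⟦q⟧, gamma K q W y = (CohCx.HD K q).obj.map f.op s := by
  have hinv : ∀ (W : C) z, (shIso K q).hom.hom.app (op W) ((shIso K q).inv.hom.app (op W) z) = z :=
    fun W z => congrArg (fun g => g.hom.app (op W) z) (shIso K q).inv_hom_id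
  obtain ⟨T, hT, hT'⟩ := beta_locSurj (K⟦q⟧) V ((shIso K q).inv.hom.app (op V) s)
  refine ⟨T, hT, fun {W} f hf => ?_⟩
  obtain ⟨y, hy⟩ := hT' f hf
  refine ⟨y, ?_⟩
  rw [gamma, hy, sheafHom_naturality_apply, hinv]

theorem gamma_bijective_iff (K : DerivedCategory (Sheaf J AddCommGrpCat.{u})) (q : ℤ) (U : C) :
    Function.Bijective (gamma K q U) ↔ Function.Bijective (beta (K⟦q⟧) U) := by
  have hb : Function.Bijective ((shIso K q).hom.hom.app (op U)) := by
    have hinv : ∀ z, (shIso K q).hom.hom.app (op U) ((shIso K q).inv.hom.app (op U) z) = z :=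
      fun z => congrArg (fun g => g.hom.app (op U) z) (shIso K q).inv_hom_id
    exact ⟨sheafHom_injective_of_isIso (shIso K q).hom U, fun z => ⟨_, hinv z⟩⟩
  exact Function.Bijective.of_comp_iff' hb _

end Groth.Agent.H6.DLim
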