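import Groth.Agent.Lib.Helper6.DLim17

/-! # Bijectivity of `γ : Hom(ℤ_U[0], K[q]) → H^q(K)(U)` on acyclic objects -/

universe u
open CategoryTheory Limits Opposite Pretriangulated

namespace Groth.Agent.H6.DLim

open Groth.Agent.LD.SC Groth.Agent.LD.HDSh DerivedCategory Groth.Agent.H2.DTrunc

variable {C : Type u} [SmallCategory C] {J : GrothendieckTopology C}
  [HasDerivedCategory.{u} (Sheaf J AddCommGrpCat.{u})]

lemma sheafHom_bijective_of_isIso {F G : Sheaf J AddCommGrpCat.{u}} (θ : F ⟶ G) [IsIso θ]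
    (W : C) : Function.Bijective (θ.hom.app (op W)) := by
  refine ⟨sheafHom_injective_of_isIso θ W, fun z => ⟨(inv θ).hom.app (op W) z, ?_⟩⟩
  exact congrArg (fun g : G ⟶ G => g.hom.app (op W) z) (IsIso.inv_hom_id θ)

lemma bijective_of_square {A A' B B' : Type*} (f : A → A') (g : B → B') (γ : A → B)
    (γ' : A' → B') (hf : Function.Bijective f) (hg : Function.Bijective g)
    (comm : ∀ x, g (γ x) = γ' (f x)) : Function.Bijective γ ↔ Function.Bijective γ' := by
  have h1 : g ∘ γ = γ' ∘ f := funext comm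
  rw [← Function.Bijective.of_comp_iff' hg γ, h1, Function.Bijective.of_comp_iff γ' hf]

/-- `γ` is bijective for `X` iff it is for `X'`, when `ψ : X ⟶ X'` induces a bijection on `Hom(ℤ_U[0], -[q])`
and an isomorphism on `H^q`. -/
theorem gamma_bijective_iff_of_map {X X' : DerivedCategory (Sheaf J AddCommGrpCat.{u})}
    (ψ : X ⟶ X') (q : ℤ) (U : C)
    (h1 : Function.Bijective (fun y : DZ J U ⟶ X⟦q⟧ => y ≫ ψ⟦q⟧'))
    (h2 : IsIso ((DerivedCategory.homologyFunctor _ q).map ψ)) :
    Function.Bijective (gamma X q U) ↔ Function.Bijective (gamma X' q U) :=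
  bijective_of_square _ _ _ _ h1 (sheafHom_bijective_of_isIso _ U)
    (fun y => (gamma_comp q U y ψ).symm)

theorem gamma_bijective_iff_of_iso {X X' : DerivedCategory (Sheaf J AddCommGrpCat.{u})}
    (e : X ≅ X') (q : ℤ) (U : C) :
    Function.Bijective (gamma X q U) ↔ Function.Bijective (gamma X' q U) := by
  apply gamma_bijective_iff_of_map e.hom q U
  · refine ⟨fun y y' h => ?_, fun z => ⟨z ≫ e.inv⟦q⟧', ?_⟩⟩
    · have h' : y ≫ e.hom⟦q⟧' = y' ≫ e.hom⟦q⟧' := h
      have h3 := congrArg (fun w => w ≫ e.inv⟦q⟧') h'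
      simpa only [Category.assoc, ← Functor.map_comp, e.hom_inv_id, CategoryTheory.Functor.map_id,
        Category.comp_id] using h3
    · change (z ≫ e.inv⟦q⟧') ≫ e.hom⟦q⟧' = z
      rw [Category.assoc, ← Functor.map_comp, e.inv_hom_id, CategoryTheory.Functor.map_id,
        Category.comp_id]
  · infer_instance

theorem beta_bijective_iff_of_iso {X X' : DerivedCategory (Sheaf J AddCommGrpCat.{u})}
    (e : X ≅ X') (U : C) :
    Function.Bijective (beta X U) ↔ Function.Bijective (beta X' U) := by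
  refine bijective_of_square (fun y : DZ J U ⟶ X => y ≫ e.hom) ((H0.map e.hom).hom.app (op U)) _ _
    ?_ (sheafHom_bijective_of_isIso _ U) (fun y => (beta_comp U y e.hom).symm)
  refine ⟨fun y y' h => ?_, fun z => ⟨z ≫ e.inv, ?_⟩⟩
  · have h' : y ≫ e.hom = y' ≫ e.hom := h
    exact (cancel_mono e.hom).mp h'
  · change (z ≫ e.inv) ≫ e.hom = z
    rw [Category.assoc, e.inv_hom_id, Category.comp_id]

instance isIso_i0 (U : C) : IsIso (i0 (J := J) U) := by
  haveI : IsIso (ffInv (S₀ (ZU J U))) :=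
    inferInstanceAs (IsIso ((homologyFunctorFactors (Sheaf J AddCommGrpCat.{u}) 0).inv.app _))
  unfold i0
  infer_instance

theorem beta_single_bijective (A : Sheaf J AddCommGrpCat.{u}) (U : C) :
    Function.Bijective (beta ((singleFunctor (Sheaf J AddCommGrpCat.{u}) 0).obj A) U) := by
  let S := singleFunctor (Sheaf J AddCommGrpCat.{u}) 0
  let η : S ⋙ H0 ≅ 𝟭 _ := singleFunctorCompHomologyFunctorIso (Sheaf J AddCommGrpCat.{u}) 0
  haveI : (S ⋙ H0).Full := Functor.Full.of_iso η.symm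
  haveI : (S ⋙ H0).Faithful := Functor.Faithful.of_iso η.symm
  have hH : Function.Bijective (fun φ : DZ J U ⟶ S.obj A => H0.map φ) := by
    constructor
    · intro φ φ' h
      obtain ⟨g, rfl⟩ := S.map_surjective (φ : S.obj (ZU J U) ⟶ S.obj A)
      obtain ⟨g', rfl⟩ := S.map_surjective (φ' : S.obj (ZU J U) ⟶ S.obj A)
      have h' : (S ⋙ H0).map g = (S ⋙ H0).map g' := h
      rw [(S ⋙ H0).map_injective h']
    · intro ψ
      obtain ⟨g, hg⟩ := (S ⋙ H0).map_surjective ψ
      exact ⟨S.map g, hg⟩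
  have h2 : Function.Bijective
      (fun ψ : H0.obj (DZ J U) ⟶ H0.obj (S.obj A) => i0 U ≫ ψ) := by
    haveI hi : IsIso (i0 (J := J) U) := isIso_i0 U
    refine ⟨fun ψ ψ' h => ?_, fun z => ⟨inv (i0 (J := J) U) ≫ z, ?_⟩⟩
    · exact (cancel_epi (i0 (J := J) U)).mp h
    · change i0 (J := J) U ≫ inv (i0 (J := J) U) ≫ z = z
      rw [IsIso.hom_inv_id_assoc]
  exact (homEquiv U _).bijective.comp (h2.comp hH)

end Groth.Agent.H6.DLim
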