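import Groth.Agent.Lib.Helper6.DLim18

/-! # `γ : Hom(ℤ_U[0], K[q]) → H^q(K)(U)` is bijective on a class of acyclic objects -/

universe u
open CategoryTheory Limits Opposite Pretriangulated

namespace Groth.Agent.H6.DLim

open Groth.Agent.LD.SC Groth.Agent.LD.HDSh DerivedCategory Groth.Agent.H2.DTrunc

variable {C : Type u} [SmallCategory C] {J : GrothendieckTopology C}
  [HasDerivedCategory.{u} (Sheaf J AddCommGrpCat.{u})]

/-- the bottom piece `H^q(E)[-q] → τ_{≥q}E`, with its properties. -/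
theorem exists_bottom (E : DerivedCategory (Sheaf J AddCommGrpCat.{u})) (Y : C) (q : ℤ) :
    ∃ (F : DerivedCategory (Sheaf J AddCommGrpCat.{u})) (f : F ⟶ (tt.truncGE q).obj E),
      Nonempty (F ≅ (singleFunctor (Sheaf J AddCommGrpCat.{u}) q).obj (CohCx.HD E q)) ∧
      Function.Bijective (fun w : DZ J Y ⟶ F⟦q⟧ => w ≫ f⟦q⟧') ∧
      IsIso ((DerivedCategory.homologyFunctor _ q).map f) := by
  obtain ⟨F, f, δ, hT, ⟨e⟩⟩ := exists_fiber_iso_single E q (q + 1) rfl
  refine ⟨F, f, ⟨e⟩, ?_, ?_⟩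
  · haveI hLE : tt.IsLE (DZ J Y) 0 :=
      inferInstanceAs (((singleFunctor (Sheaf J AddCommGrpCat.{u}) 0).obj (ZU J Y)).IsLE 0)
    haveI h1 : tt.IsGE (((tt.truncGE (q + 1)).obj E)⟦(-1 : ℤ)⟧) (q + 2) :=
      tt.isGE_shift _ (q + 1) (-1) (q + 2) (by omega)
    haveI h2 : tt.IsGE ((((tt.truncGE (q + 1)).obj E)⟦(-1 : ℤ)⟧)⟦q⟧) 2 :=
      tt.isGE_shift _ (q + 2) q 2 (by omega)
    haveI h3 : tt.IsGE ((((tt.truncGE (q + 1)).obj E)⟦(-1 : ℤ)⟧)⟦q + 1⟧) 1 :=
      tt.isGE_shift _ (q + 2) (q + 1) 1 (by omega)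
    constructor
    · exact injective_comp_shift_mor₁ _ hT (DZ J Y) q
        (fun φ => tt.zero_of_isLE_of_isGE φ 0 2 (by omega) hLE h2)
    · exact surjective_comp_shift_mor₁ _ hT (DZ J Y) q (q + 1) rfl
        (fun φ => tt.zero_of_isLE_of_isGE φ 0 1 (by omega) hLE h3)
  · set T := Triangle.mk f ((tt.natTransTruncGEOfLE q (q + 1) (by omega)).app E) δ with hTdef
    have hδ : HomologySequence.δ T (q - 1) q (by omega) = 0 :=
      (HomologySequence.epi_homologyMap_mor₂_iff T hT (q - 1) q (by omega)).1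
        (epi_homology_natTransTruncGEOfLE E q (q + 1) (by omega) (q - 1))
    haveI hm1 : Mono ((homologyFunctor _ q).map T.mor₁) :=
      (HomologySequence.mono_homologyMap_mor₁_iff T hT (q - 1) q (by omega)).2 hδ
    haveI he1 : Epi ((homologyFunctor _ q).map T.mor₁) :=
      (HomologySequence.epi_homologyMap_mor₁_iff T hT q).2
        ((isZero_of_isGE ((tt.truncGE (q + 1)).obj E) (q + 1) q (by omega)).eq_of_tgt _ _)
    exact isIso_of_mono_of_epi ((homologyFunctor _ q).map T.mor₁)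

theorem gamma_bijective_truncGE_self (E : DerivedCategory (Sheaf J AddCommGrpCat.{u})) (Y : C)
    (q : ℤ) : Function.Bijective (gamma ((tt.truncGE q).obj E) q Y) := by
  obtain ⟨F, f, ⟨e⟩, hb, hIso⟩ := exists_bottom E Y q
  refine (gamma_bijective_iff_of_map f q Y hb hIso).1 ?_
  refine (gamma_bijective_iff_of_iso e q Y).2 ?_
  refine (gamma_bijective_iff _ q Y).2 ?_
  let SF := DerivedCategory.singleFunctors (Sheaf J AddCommGrpCat.{u})
  exact (beta_bijective_iff_of_iso ((SF.shiftIso q 0 q (add_zero q)).app (CohCx.HD E q)) Y).2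
    (beta_single_bijective _ Y)

theorem gamma_bijective_truncGE (E : DerivedCategory (Sheaf J AddCommGrpCat.{u})) (Y : C) (q : ℤ)
    (hv : ∀ (i : ℤ) (k : ℕ), 0 < k → Subsingleton (CohSite.HU (CohCx.HD E i) k Y)) :
    ∀ (d : ℕ) (a : ℤ), a + d = q → Function.Bijective (gamma ((tt.truncGE a).obj E) q Y) := by
  intro d
  induction d with
  | zero =>
    intro a ha
    have : a = q := by simpa using ha
    subst this
    exact gamma_bijective_truncGE_self E Y a
  | succ d ih =>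
    intro a ha
    have h2 := ih (a + 1) (by push_cast at ha; omega)
    have hb := bijective_truncGE_step E a (a + 1) rfl (by omega) Y q
      (fun k hk => hv a k (by push_cast at ha; omega))
      (fun k hk => hv a k (by push_cast at ha; omega))
    exact (gamma_bijective_iff_of_map ((tt.natTransTruncGEOfLE a (a + 1) (by omega)).app E) q Y hb
      (isIso_homology_natTransTruncGEOfLE a (a + 1) (by omega) E q
        (by push_cast at ha; omega))).2 h2

theorem gamma_bijective (K : DerivedCategory (Sheaf J AddCommGrpCat.{u})) (B : Set C)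
    (hB : ∀ U : C, ∃ (ι : Type u) (Y : ι → C) (f : ∀ i, Y i ⟶ U),
      Sieve.ofArrows Y f ∈ J U ∧ ∀ i, Y i ∈ B)
    (h : ∀ U ∈ B, ∀ (p : ℕ) (q : ℤ), Subsingleton (CohSite.HU (CohCx.HD K q) (p + 1) U))
    (U : C) (hU : U ∈ B) (q : ℤ) : Function.Bijective (gamma K q U) := by
  have hv : ∀ V ∈ B, ∀ (i : ℤ) (k : ℕ), 0 < k → Subsingleton (CohSite.HU (CohCx.HD K i) k V) := by
    intro V hV i k hk
    obtain ⟨p, rfl⟩ := Nat.exists_eq_succ_of_ne_zero (Nat.pos_iff_ne_zero.mp hk)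
    exact h V hV p i
  haveI : HasProduct (CohCx.truncTower K) :=
    Groth.Agent.H2.DProd.hasProduct_of_isGE _ (fun n => ⟨-(n : ℤ), inferInstance⟩)
  have hR : CohCx.IsRlimVia (CohCx.truncTower K) (CohCx.truncTowerMap K) K
      (CohCx.toTruncTower K) := by
    apply s881 K B hB
    intro V hV
    refine ⟨fun _ => 0, fun T hT => ?_⟩
    obtain ⟨ι, Y, f, h1, h2, h3⟩ := exists_refinement B hB T hT
    exact ⟨ι, Y, f, h1, h2, fun i m k hk => hv (Y i) (h3 i) _ k (by
      have hk' : (0 : ℤ) < k := hk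
      exact_mod_cast hk')⟩
  have hvU : ∀ (m : ℤ) (k : ℕ), (fun _ : ℤ => (0 : ℤ)) m < k →
      Subsingleton (CohSite.HU (CohCx.HD K (m - k)) k U) :=
    fun m k hk => hv U hU _ k (by
      have hk' : (0 : ℤ) < k := hk
      exact_mod_cast hk')
  obtain ⟨n₀, hn₀⟩ : ∃ n₀ : ℕ, 1 - q ≤ n₀ := ⟨(1 - q).toNat, Int.self_le_toNat _⟩
  have hb1 := bijective_comp_a hR (DZ J U) q n₀
    (fun n hn => (bijective_truncTower_step K U (fun _ => 0) hvU (q - 1) n
      (by have : (n₀ : ℤ) ≤ n := by exact_mod_cast hn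
          omega)
      (by have : (n₀ : ℤ) ≤ n := by exact_mod_cast hn
          omega)).2)
    (fun n hn => bijective_truncTower_step K U (fun _ => 0) hvU q n
      (by have : (n₀ : ℤ) ≤ n := by exact_mod_cast hn
          omega)
      (by have : (n₀ : ℤ) ≤ n := by exact_mod_cast hn
          omega))
  obtain ⟨d, hd⟩ : ∃ d : ℕ, -(n₀ : ℤ) + d = q := ⟨(q + n₀).toNat, by
    have := Int.toNat_of_nonneg (show 0 ≤ q + n₀ by omega)
    omega⟩
  refine (gamma_bijective_iff_of_map (CohCx.toTruncTower K n₀) q U hb1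
    (isIso_homology_truncGEπ K (-(n₀ : ℤ)) q (by omega))).2 ?_
  exact gamma_bijective_truncGE K U q (hv U hU) d (-(n₀ : ℤ)) hd

end Groth.Agent.H6.DLim
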