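import Groth.Agent.Lib.Helper6.DLim1

/-! # Local surjectivity and injectivity of the comparison `Hom(ℤ_U[0], L) → H⁰(L)(U)` -/

universe u
open CategoryTheory Limits Opposite

namespace Groth.Agent.H6.DLim

open Groth.Agent.LD.SC Groth.Agent.LD.HDSh DerivedCategory

variable {C : Type u} [SmallCategory C] {J : GrothendieckTopology C}
  [HasDerivedCategory.{u} (Sheaf J AddCommGrpCat.{u})]

lemma sheafHom_injective_of_isIso {F G : Sheaf J AddCommGrpCat.{u}} (θ : F ⟶ G) [IsIso θ]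
    (W : C) : Function.Injective (θ.hom.app (op W)) := by
  intro x y h
  have h1 : ∀ z, (inv θ).hom.app (op W) (θ.hom.app (op W) z) = z := fun z => by
    have := IsIso.hom_inv_id θ
    exact congrArg (fun g : F ⟶ F => g.hom.app (op W) z) this
  rw [← h1 x, ← h1 y, h]

instance (M : CochainComplex (Sheaf J AddCommGrpCat.{u}) ℤ) : IsIso (ffHom M) :=
  ⟨ffInv M, ffHom_ffInv M, ffInv_ffHom M⟩

/-- transport of `beta` along an isomorphism `Q.obj M ≅ L`. -/
lemma aU_comp_inv {M : CochainComplex (Sheaf J AddCommGrpCat.{u}) ℤ}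
    {L : DerivedCategory (Sheaf J AddCommGrpCat.{u})} (e : Q.obj M ≅ L) (W : C)
    (φ : DZ J W ⟶ L) :
    aU M W (φ ≫ e.inv) = (H0.map e.inv ≫ ffHom M).hom.app (op W) (beta L W φ) := by
  rw [alpha_eq_beta, beta_comp]
  rfl

theorem beta_locSurj (L : DerivedCategory (Sheaf J AddCommGrpCat.{u})) (V : C)
    (s : (H0.obj L).obj.obj (op V)) :
    ∃ T ∈ J V, ∀ {W : C} (f : W ⟶ V), T f →
      ∃ y : DZ J W ⟶ L, beta L W y = (H0.obj L).obj.map f.op s := by
  let M := (Q (C := Sheaf J AddCommGrpCat.{u})).objPreimage L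
  let e : Q.obj M ≅ L := (Q (C := Sheaf J AddCommGrpCat.{u})).objObjPreimageIso L
  let θ : H0.obj L ⟶ M.homology 0 := H0.map e.inv ≫ ffHom M
  refine ⟨Presheaf.imageSieve (alpha M) (θ.hom.app (op V) s),
    Presheaf.imageSieve_mem J (alpha M) _, ?_⟩
  rintro W f ⟨y', hy'⟩
  let y'' : DZ J W ⟶ Q.obj M := y'
  refine ⟨y'' ≫ e.hom, ?_⟩
  apply sheafHom_injective_of_isIso θ W
  have h1 := aU_comp_inv e W (y'' ≫ e.hom)
  rw [Category.assoc, e.hom_inv_id, Category.comp_id] at h1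
  rw [← h1]
  have h2 : aU M W y'' = (M.homology 0).obj.map f.op (θ.hom.app (op V) s) := hy'
  rw [h2]
  exact (congrArg (fun g => g s) (congrArg AddCommGrpCat.Hom.hom (θ.hom.naturality f.op))).symm

theorem beta_locInj (L : DerivedCategory (Sheaf J AddCommGrpCat.{u})) (U : C)
    (y : DZ J U ⟶ L) (h : beta L U y = 0) :
    ∃ T ∈ J U, ∀ {W : C} (f : W ⟶ U), T f → DZmap f ≫ y = 0 := by
  let M := (Q (C := Sheaf J AddCommGrpCat.{u})).objPreimage L
  let e : Q.obj M ≅ L := (Q (C := Sheaf J AddCommGrpCat.{u})).objObjPreimageIso L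
  have h0 : aU M U (y ≫ e.inv) = 0 := by
    rw [aU_comp_inv, h, map_zero]
  refine ⟨zeroSieve M U (y ≫ e.inv), zeroSieve_mem M U _ h0, ?_⟩
  intro W f hf
  have hf' : DZmap f ≫ y ≫ e.inv = 0 := hf
  rw [← cancel_mono e.inv, Category.assoc, hf', zero_comp]

end Groth.Agent.H6.DLim
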