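import Groth.Agent.Lib.Helper6.DLim19
import Groth.Agent.Lib.Helper6.Rl4
import Groth.Prelude.Def_DCoh2

/-! # `H^q(R lim K_n) ≅ lim H^q(K_n)` on a site -/

universe u
open CategoryTheory Limits Opposite Pretriangulated

namespace Groth.Agent.H6.DLim

open Groth.Agent.LD.SC Groth.Agent.LD.HDSh DerivedCategory Groth.Agent.H2.DTrunc

theorem limOne_transport {A B : ℕ → Type u} [∀ n, AddCommGroup (A n)] [∀ n, AddCommGroup (B n)]
    (tA : ∀ n, A (n + 1) →+ A n) (tB : ∀ n, B (n + 1) →+ B n) (g : ∀ n, A n → B n)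
    (hg : ∀ n, Function.Bijective (g n)) (hsub : ∀ n x y, g n (x - y) = g n x - g n y)
    (hcomm : ∀ n x, g n (tA n x) = tB n (g (n + 1) x)) (h : CohCx.LimOneIsZero B tB) :
    CohCx.LimOneIsZero A tA := by
  intro b
  obtain ⟨c, hc⟩ := h (fun n => g n (b n))
  choose a ha using fun n => (hg n).2 (c n)
  refine ⟨a, funext fun n => (hg n).1 ?_⟩
  change g n (a n - tA n (a (n + 1))) = g n (b n)
  rw [hsub, hcomm, ha, ha]
  exact congrFun hc n

variable {C : Type u} [SmallCategory C] {J : GrothendieckTopology C}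

section Tower

variable (F : ℕ → Sheaf J AddCommGrpCat.{u}) (τ : ∀ n, F (n + 1) ⟶ F n)

/-- the projections of the limit of a tower of sheaves. -/
noncomputable abbrev towerπ (n : ℕ) : limit (CohCx.opSequence F τ) ⟶ F n :=
  limit.π (CohCx.opSequence F τ) (op n)

lemma towerπ_comp (n : ℕ) : towerπ F τ (n + 1) ≫ τ n = towerπ F τ n := by
  have h := limit.w (CohCx.opSequence F τ) (homOfLE (Nat.le_add_right n 1)).op
  rw [Functor.ofOpSequence_map_homOfLE_succ] at h
  exact h

lemma towerπ_comp_apply (n : ℕ) (V : C) (s : (limit (CohCx.opSequence F τ)).obj.obj (op V)) :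
    (τ n).hom.app (op V) ((towerπ F τ (n + 1)).hom.app (op V) s) =
      (towerπ F τ n).hom.app (op V) s :=
  congrArg (fun g => g.hom.app (op V) s) (towerπ_comp F τ n)

theorem tower_section_ext (V : C) (s s' : (limit (CohCx.opSequence F τ)).obj.obj (op V))
    (h : ∀ n, (towerπ F τ n).hom.app (op V) s = (towerπ F τ n).hom.app (op V) s') : s = s' := by
  obtain ⟨σ, rfl⟩ := (homEquiv V (limit (CohCx.opSequence F τ))).surjective s
  obtain ⟨σ', rfl⟩ := (homEquiv V (limit (CohCx.opSequence F τ))).surjective s'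
  congr 1
  apply Groth.Agent.H6.Rl.hom_ext_of_tower (CohCx.opSequence F τ) _ (limit.isLimit _)
  intro n
  apply (homEquiv V (F n)).injective
  exact (homEquiv_comp V σ (towerπ F τ n)).trans
    ((h n).trans (homEquiv_comp V σ' (towerπ F τ n)).symm)

theorem exists_tower_lift {A : Sheaf J AddCommGrpCat.{u}} (α : ∀ n, A ⟶ F n)
    (hα : ∀ n, α (n + 1) ≫ τ n = α n) :
    ∃ θ : A ⟶ limit (CohCx.opSequence F τ), ∀ n, θ ≫ towerπ F τ n = α n := by
  apply Groth.Agent.H6.Rl.exists_lift_of_compatible (CohCx.opSequence F τ) _ (limit.isLimit _) α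
  intro n
  have h : (CohCx.opSequence F τ).map (homOfLE (Nat.le_succ n)).op = τ n :=
    Functor.ofOpSequence_map_homOfLE_succ τ n
  rw [h]
  exact hα n

end Tower

end Groth.Agent.H6.DLim
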