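import Groth.Agent.Lib.Helper6.DLim20

/-! # `H^q(R lim K_n) ≅ lim H^q(K_n)` on a site: main theorem -/

universe u
open CategoryTheory Limits Opposite Pretriangulated

namespace Groth.Agent.H6.DLim

open Groth.Agent.LD.SC Groth.Agent.LD.HDSh DerivedCategory Groth.Agent.H2.DTrunc

variable {C : Type u} [SmallCategory C] {J : GrothendieckTopology C}
  [HasDerivedCategory.{u} (Sheaf J AddCommGrpCat.{u})]

theorem isRlimVia_of_isRlim {K : ℕ → DerivedCategory (Sheaf J AddCommGrpCat.{u})}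
    {t : ∀ n, K (n + 1) ⟶ K n} [HasProduct K] {L : DerivedCategory (Sheaf J AddCommGrpCat.{u})}
    (hL : DCoh.IsRlim K t L) : ∃ a : ∀ n, L ⟶ K n, CohCx.IsRlimVia K t L a := by
  obtain ⟨a₀, c, hc⟩ := hL
  refine ⟨fun n => a₀ ≫ Pi.π K n, c, ?_⟩
  have h : Pi.lift (fun n => a₀ ≫ Pi.π K n) = a₀ := by
    apply Pi.hom_ext
    intro n
    rw [Pi.lift_π]
  rw [h]
  exact hc

section Main

variable {K : ℕ → DerivedCategory (Sheaf J AddCommGrpCat.{u})} {t : ∀ n, K (n + 1) ⟶ K n}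
  [HasProduct K] {L : DerivedCategory (Sheaf J AddCommGrpCat.{u})} {a : ∀ n, L ⟶ K n}
  (hL : CohCx.IsRlimVia K t L a) (B : Set C)
  (hB : ∀ U : C, ∃ (ι : Type u) (Y : ι → C) (f : ∀ i, Y i ⟶ U),
    Sieve.ofArrows Y f ∈ J U ∧ ∀ i, Y i ∈ B)
  (h1 : ∀ U ∈ B, ∀ (p : ℕ) (q : ℤ) (n : ℕ),
    Subsingleton (CohSite.HU (CohCx.HD (K n) q) (p + 1) U))
  (h2 : ∀ U ∈ B, ∀ (q : ℤ), CohCx.LimOneIsZero (fun n => (CohCx.HD (K n) q).obj.obj (op U))
    (fun n => (((DerivedCategory.homologyFunctor _ q).map (t n)).hom.app (op U)).hom))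

include hB h1 in
lemma gamma_K_bijective (n : ℕ) (U : C) (hU : U ∈ B) (q : ℤ) :
    Function.Bijective (gamma (K n) q U) :=
  gamma_bijective (K n) B hB (fun U hU p q => h1 U hU p q n) U hU q

include hB h1 h2 in
lemma hlim_of_h2 (U : C) (hU : U ∈ B) (q : ℤ) :
    Function.Surjective (fun (w : ∀ n, DZ J U ⟶ (K n)⟦q⟧) (n : ℕ) =>
      w n - w (n + 1) ≫ (t n)⟦q⟧') :=
  limOne_transport (A := fun n => DZ J U ⟶ (K n)⟦q⟧)
    (fun n => Preadditive.rightComp _ ((t n)⟦q⟧')) _ (fun n => gamma (K n) q U)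
    (fun n => gamma_K_bijective B hB h1 n U hU q) (fun n x y => gamma_sub _ q U x y)
    (fun n x => gamma_comp q U x (t n)) (h2 U hU q)

variable (q : ℤ) (θ : CohCx.HD L q ⟶ limit (CohCx.opSequence (fun n => CohCx.HD (K n) q)
    (fun n => (DerivedCategory.homologyFunctor _ q).map (t n))))
  (hθ : ∀ n, θ ≫ towerπ _ _ n = (DerivedCategory.homologyFunctor _ q).map (a n))

include hθ in
lemma towerπ_theta_gamma (n : ℕ) (U : C) (y : DZ J U ⟶ L⟦q⟧) :
    (towerπ (fun n => CohCx.HD (K n) q)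
        (fun n => (DerivedCategory.homologyFunctor _ q).map (t n)) n).hom.app (op U)
      (θ.hom.app (op U) (gamma L q U y)) = gamma (K n) q U (y ≫ (a n)⟦q⟧') := by
  rw [gamma_comp]
  exact congrArg (fun g => g.hom.app (op U) (gamma L q U y)) (hθ n)

include hL hB h1 h2 hθ in
lemma phi_injective (U : C) (hU : U ∈ B) (y : DZ J U ⟶ L⟦q⟧)
    (hy : θ.hom.app (op U) (gamma L q U y) = 0) : y = 0 := by
  apply Groth.Agent.H7.Milnor.part2 hL q (hlim_of_h2 B hB h1 h2 U hU (q - 1)) y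
  intro n
  apply (gamma_K_bijective B hB h1 n U hU q).1
  rw [← towerπ_theta_gamma q θ hθ n U y, hy, map_zero, gamma_zero]

include hL hB h1 hθ in
lemma phi_surjective (U : C) (hU : U ∈ B)
    (s : (limit (CohCx.opSequence (fun n => CohCx.HD (K n) q)
      (fun n => (DerivedCategory.homologyFunctor _ q).map (t n)))).obj.obj (op U)) :
    ∃ y : DZ J U ⟶ L⟦q⟧, θ.hom.app (op U) (gamma L q U y) = s := by
  choose x hx using fun n => (gamma_K_bijective B hB h1 n U hU q).2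
    ((towerπ (fun n => CohCx.HD (K n) q)
      (fun n => (DerivedCategory.homologyFunctor _ q).map (t n)) n).hom.app (op U) s)
  have hcompat : ∀ n, x (n + 1) ≫ (t n)⟦q⟧' = x n := by
    intro n
    apply (gamma_K_bijective B hB h1 n U hU q).1
    rw [gamma_comp, hx, hx]
    exact towerπ_comp_apply _ _ n U s
  obtain ⟨y, hy⟩ := Groth.Agent.H7.Milnor.part1 hL q x hcompat
  refine ⟨y, ?_⟩
  apply tower_section_ext
  intro n
  rw [towerπ_theta_gamma q θ hθ n U y, hy, hx]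

include hL hB h1 h2 hθ in
theorem theta_isIso : IsIso θ := by
  apply isIso_of_injective_of_surjective_on θ B hB
  · intro V
    refine (injective_iff_map_eq_zero (θ.hom.app (op V)).hom).mpr ?_
    intro s hs
    obtain ⟨T, hT, hT'⟩ := gamma_locSurj L q V s
    obtain ⟨ι, Y, f, hf, hcov, hYB⟩ := exists_refinement B hB T hT
    refine (Sheaf.isSeparated (CohCx.HD L q)) V _ hcov s 0 ?_
    intro W g hg
    obtain ⟨i, g', rfl⟩ := (Sieve.mem_ofArrows_iff Y f g).mp hg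
    obtain ⟨y, hy⟩ := hT' (f i) (hf i)
    have h0 : θ.hom.app (op (Y i)) (gamma L q (Y i) y) = 0 := by
      rw [hy, sheafHom_naturality_apply]
      have hs' : θ.hom.app (op V) s = 0 := hs
      rw [hs', map_zero]
    have hy0 := phi_injective hL B hB h1 h2 q θ hθ (Y i) (hYB i) y h0
    rw [hy0, gamma_zero] at hy
    rw [map_zero, op_comp, Functor.map_comp]
    change (CohCx.HD L q).obj.map g'.op ((CohCx.HD L q).obj.map (f i).op s) = 0
    rw [← hy, map_zero]
  · intro U hU s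
    obtain ⟨y, hy⟩ := phi_surjective hL B hB h1 q θ hθ U hU s
    exact ⟨_, hy⟩

end Main

theorem s878 (K : ℕ → DerivedCategory (Sheaf J AddCommGrpCat.{u})) (t : ∀ n, K (n + 1) ⟶ K n)
    [HasProduct K] (L : DerivedCategory (Sheaf J AddCommGrpCat.{u})) (hL : DCoh.IsRlim K t L)
    (B : Set C)
    (hB : ∀ U : C, ∃ (ι : Type u) (Y : ι → C) (f : ∀ i, Y i ⟶ U),
      Sieve.ofArrows Y f ∈ J U ∧ ∀ i, Y i ∈ B)
    (h1 : ∀ U ∈ B, ∀ (p : ℕ) (q : ℤ) (n : ℕ),
      Subsingleton (CohSite.HU (CohCx.HD (K n) q) (p + 1) U))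
    (h2 : ∀ U ∈ B, ∀ (q : ℤ), CohCx.LimOneIsZero (fun n => (CohCx.HD (K n) q).obj.obj (op U))
      (fun n => (((DerivedCategory.homologyFunctor _ q).map (t n)).hom.app (op U)).hom))
    (q : ℤ) :
    Nonempty (CohCx.HD L q ≅ limit (CohCx.opSequence (fun n => CohCx.HD (K n) q)
      (fun n => (DerivedCategory.homologyFunctor _ q).map (t n)))) := by
  obtain ⟨a, hLa⟩ := isRlimVia_of_isRlim hL
  obtain ⟨θ, hθ⟩ := exists_tower_lift (fun n => CohCx.HD (K n) q)
    (fun n => (DerivedCategory.homologyFunctor _ q).map (t n))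
    (fun n => (DerivedCategory.homologyFunctor _ q).map (a n))
    (fun n => by rw [← Functor.map_comp, a_comp_t hLa])
  haveI := theta_isIso hLa B hB h1 h2 q θ hθ
  exact ⟨asIso θ⟩

end Groth.Agent.H6.DLim
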