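import Groth.Agent.Lib.Helper6.DLim21

/-! # The tower of sheaves placed in degree zero: hypotheses of the `R lim` theorem -/

universe u
open CategoryTheory Limits Opposite Pretriangulated

namespace Groth.Agent.H6.DLim

open Groth.Agent.LD.SC Groth.Agent.LD.HDSh DerivedCategory Groth.Agent.H2.DTrunc Abelian

lemma subsingleton_ext_of_iso {A : Type*} [Category A] [Abelian A] [HasExt.{u} A] {X Y Y' : A}
    (e : Y ≅ Y') (k : ℕ) (h : Subsingleton (Ext.{u} X Y k)) : Subsingleton (Ext.{u} X Y' k) := by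
  let i := (Abelian.extFunctorObj.{u} X k).mapIso e
  exact @Equiv.subsingleton _ _ (i.symm.addCommGroupIsoToAddEquiv.toEquiv) h

lemma subsingleton_ext_of_isZero {A : Type*} [Category A] [Abelian A] [HasExt.{u} A] {X Y : A}
    (hY : IsZero Y) (k : ℕ) : Subsingleton (Ext.{u} X Y k) := by
  have h0 : ∀ z : Ext.{u} X Y k, z = 0 := fun z => by
    rw [← Ext.comp_mk₀_id z, hY.eq_of_src (𝟙 Y) 0, Ext.mk₀_zero, Ext.comp_zero]
  exact ⟨fun x y => by rw [h0 x, h0 y]⟩

theorem limOneIsZero_of_subsingleton (A : ℕ → Type u) [∀ n, AddCommGroup (A n)]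
    (t : ∀ n, A (n + 1) →+ A n) [∀ n, Subsingleton (A n)] : CohCx.LimOneIsZero A t :=
  fun _ => ⟨0, funext fun _ => Subsingleton.elim _ _⟩

variable {C : Type u} [SmallCategory C] {J : GrothendieckTopology C}

lemma subsingleton_sections_of_isZero {Z : Sheaf J AddCommGrpCat.{u}} (hZ : IsZero Z) (U : C) :
    Subsingleton (Z.obj.obj (op U)) :=
  ⟨fun x y => by
    obtain ⟨σ, rfl⟩ := (homEquiv U Z).surjective x
    obtain ⟨σ', rfl⟩ := (homEquiv U Z).surjective y
    rw [hZ.eq_of_tgt σ σ']⟩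

variable [HasDerivedCategory.{u} (Sheaf J AddCommGrpCat.{u})]

lemma isZero_HD_single (G : Sheaf J AddCommGrpCat.{u}) (q : ℤ) (hq : q ≠ 0) :
    IsZero (CohCx.HD ((singleFunctor (Sheaf J AddCommGrpCat.{u}) 0).obj G) q) := by
  rcases lt_or_gt_of_ne hq with h | h
  · exact isZero_of_isGE ((singleFunctor (Sheaf J AddCommGrpCat.{u}) 0).obj G) 0 q h
  · exact isZero_of_isLE ((singleFunctor (Sheaf J AddCommGrpCat.{u}) 0).obj G) 0 q h

/-- `H⁰(G[0]) ≅ G`. -/
noncomputable def hd0Iso (G : Sheaf J AddCommGrpCat.{u}) :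
    CohCx.HD ((singleFunctor (Sheaf J AddCommGrpCat.{u}) 0).obj G) 0 ≅ G :=
  (singleFunctorCompHomologyFunctorIso (Sheaf J AddCommGrpCat.{u}) 0).app G

lemma hd0Iso_naturality {G G' : Sheaf J AddCommGrpCat.{u}} (f : G ⟶ G') :
    (DerivedCategory.homologyFunctor _ 0).map
        ((singleFunctor (Sheaf J AddCommGrpCat.{u}) 0).map f) ≫ (hd0Iso G').hom =
      (hd0Iso G).hom ≫ f :=
  (singleFunctorCompHomologyFunctorIso (Sheaf J AddCommGrpCat.{u}) 0).hom.naturality f

section Tower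

variable (F : ℕ → Sheaf J AddCommGrpCat.{u}) (t : ∀ n, F (n + 1) ⟶ F n) (B : Set C)
  (h1 : ∀ U ∈ B, ∀ (p n : ℕ), Subsingleton (CohSite.HU (F n) (p + 1) U))
  (h2 : ∀ U ∈ B, CohCx.LimOneIsZero (fun n => (F n).obj.obj (op U))
    (fun n => ((t n).hom.app (op U)).hom))

include h1 in
theorem h1_single : ∀ U ∈ B, ∀ (p : ℕ) (q : ℤ) (n : ℕ),
    Subsingleton (CohSite.HU
      (CohCx.HD ((singleFunctor (Sheaf J AddCommGrpCat.{u}) 0).obj (F n)) q) (p + 1) U) := by
  intro U hU p q n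
  by_cases hq : q = 0
  · subst hq
    exact subsingleton_ext_of_iso (X := ZU J U) (hd0Iso (F n)).symm (p + 1) (h1 U hU p n)
  · exact subsingleton_ext_of_isZero (isZero_HD_single (F n) q hq) (p + 1)

include h2 in
theorem h2_single : ∀ U ∈ B, ∀ (q : ℤ), CohCx.LimOneIsZero
    (fun n => (CohCx.HD ((singleFunctor (Sheaf J AddCommGrpCat.{u}) 0).obj (F n)) q).obj.obj (op U))
    (fun n => (((DerivedCategory.homologyFunctor _ q).map
      ((singleFunctor (Sheaf J AddCommGrpCat.{u}) 0).map (t n))).hom.app (op U)).hom) := by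
  intro U hU q
  by_cases hq : q = 0
  · subst hq
    refine limOne_transport _ _ (fun n => (hd0Iso (F n)).hom.hom.app (op U))
      (fun n => ?_) (fun n x y => map_sub _ x y) (fun n x => ?_) (h2 U hU)
    · have hinv : ∀ z, (hd0Iso (F n)).hom.hom.app (op U) ((hd0Iso (F n)).inv.hom.app (op U) z) = z :=
        fun z => congrArg (fun g => g.hom.app (op U) z) (hd0Iso (F n)).inv_hom_id
      have hinv' : ∀ z, (hd0Iso (F n)).inv.hom.app (op U) ((hd0Iso (F n)).hom.hom.app (op U) z) = z :=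
        fun z => congrArg (fun g => g.hom.app (op U) z) (hd0Iso (F n)).hom_inv_id
      exact ⟨fun x y h => by rw [← hinv' x, ← hinv' y, h], fun z => ⟨_, hinv z⟩⟩
    · exact congrArg (fun g => g.hom.app (op U) x) (hd0Iso_naturality (t n))
  · haveI : ∀ n, Subsingleton
        ((CohCx.HD ((singleFunctor (Sheaf J AddCommGrpCat.{u}) 0).obj (F n)) q).obj.obj (op U)) :=
      fun n => subsingleton_sections_of_isZero (isZero_HD_single (F n) q hq) U
    exact limOneIsZero_of_subsingleton _ _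

end Tower

end Groth.Agent.H6.DLim
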