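import Groth.Agent.Lib.Helper6.DLim23

/-! # `lim F_n` in degree zero is the derived limit of an acyclic Mittag-Leffler-type tower of sheaves -/

universe u
open CategoryTheory Limits Opposite Pretriangulated

namespace Groth.Agent.H6.DLim

open Groth.Agent.LD.SC Groth.Agent.LD.HDSh DerivedCategory Groth.Agent.H2.DTrunc Abelian

variable {C : Type u} [SmallCategory C] {J : GrothendieckTopology C}

section Towers

variable (F F' : ℕ → Sheaf J AddCommGrpCat.{u}) (τ : ∀ n, F (n + 1) ⟶ F n)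
  (τ' : ∀ n, F' (n + 1) ⟶ F' n)

theorem tower_hom_ext {A : Sheaf J AddCommGrpCat.{u}}
    (f g : A ⟶ limit (CohCx.opSequence F τ))
    (h : ∀ n, f ≫ towerπ F τ n = g ≫ towerπ F τ n) : f = g :=
  Groth.Agent.H6.Rl.hom_ext_of_tower (CohCx.opSequence F τ) _ (limit.isLimit _) f g h

theorem nonempty_limit_iso (η : ∀ n, F n ≅ F' n)
    (hη : ∀ n, τ n ≫ (η n).hom = (η (n + 1)).hom ≫ τ' n) :
    Nonempty (limit (CohCx.opSequence F τ) ≅ limit (CohCx.opSequence F' τ')) := by
  have hη' : ∀ n, τ' n ≫ (η n).inv = (η (n + 1)).inv ≫ τ n := by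
    intro n
    rw [← cancel_mono (η n).hom, Category.assoc, Category.assoc, (η n).inv_hom_id, Category.comp_id,
      hη, Iso.inv_hom_id_assoc]
  obtain ⟨u, hu⟩ := exists_tower_lift F' τ' (fun n => towerπ F τ n ≫ (η n).hom) (fun n => by
    rw [Category.assoc, ← hη, ← Category.assoc, towerπ_comp])
  obtain ⟨v, hv⟩ := exists_tower_lift F τ (fun n => towerπ F' τ' n ≫ (η n).inv) (fun n => by
    rw [Category.assoc, ← hη', ← Category.assoc, towerπ_comp])
  refine ⟨⟨u, v, ?_, ?_⟩⟩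
  · apply tower_hom_ext
    intro n
    rw [Category.assoc, hv, ← Category.assoc, hu, Category.assoc, Iso.hom_inv_id, Category.comp_id,
      Category.id_comp]
  · apply tower_hom_ext
    intro n
    rw [Category.assoc, hu, ← Category.assoc, hv, Category.assoc, Iso.inv_hom_id, Category.comp_id,
      Category.id_comp]

theorem isZero_limit_of_isZero (h : ∀ n, IsZero (F n)) :
    IsZero (limit (CohCx.opSequence F τ)) := by
  rw [IsZero.iff_id_eq_zero]
  apply tower_hom_ext
  intro n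
  exact (h n).eq_of_tgt _ _

end Towers

variable [HasDerivedCategory.{u} (Sheaf J AddCommGrpCat.{u})]

theorem isRlim_of_isRlimVia {K : ℕ → DerivedCategory (Sheaf J AddCommGrpCat.{u})}
    {t : ∀ n, K (n + 1) ⟶ K n} [HasProduct K] {L : DerivedCategory (Sheaf J AddCommGrpCat.{u})}
    {a : ∀ n, L ⟶ K n} (hL : CohCx.IsRlimVia K t L a) : DCoh.IsRlim K t L := by
  obtain ⟨c, hc⟩ := hL
  exact ⟨Pi.lift a, c, hc⟩

theorem s879 (F : ℕ → Sheaf J AddCommGrpCat.{u}) (t : ∀ n, F (n + 1) ⟶ F n)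
    [HasProduct fun n => (DerivedCategory.singleFunctor (Sheaf J AddCommGrpCat.{u}) 0).obj (F n)]
    (B : Set C)
    (hB : ∀ U : C, ∃ (ι : Type u) (Y : ι → C) (f : ∀ i, Y i ⟶ U),
      Sieve.ofArrows Y f ∈ J U ∧ ∀ i, Y i ∈ B)
    (h1 : ∀ U ∈ B, ∀ (p n : ℕ), Subsingleton (CohSite.HU (F n) (p + 1) U))
    (h2 : ∀ U ∈ B, CohCx.LimOneIsZero (fun n => (F n).obj.obj (op U))
      (fun n => ((t n).hom.app (op U)).hom)) :
    DCoh.IsRlim (fun n => (DerivedCategory.singleFunctor _ 0).obj (F n))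
      (fun n => (DerivedCategory.singleFunctor _ 0).map (t n))
      ((DerivedCategory.singleFunctor _ 0).obj (limit (CohCx.opSequence F t))) ∧
    ∀ U ∈ B, ∀ p : ℕ, Subsingleton (CohSite.HU (limit (CohCx.opSequence F t)) (p + 1) U) := by
  let S := DerivedCategory.singleFunctor (Sheaf J AddCommGrpCat.{u}) 0
  obtain ⟨L, a, hL⟩ := exists_isRlimVia (fun n => S.obj (F n)) (fun n => S.map (t n))
  have h1K := h1_single F B h1
  have h2K := h2_single F t B h2
  have hLiso := fun q => s878 (fun n => S.obj (F n)) (fun n => S.map (t n)) L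
    (isRlim_of_isRlimVia hL) B hB h1K h2K q
  have hz : ∀ q : ℤ, q ≠ 0 → IsZero ((DerivedCategory.homologyFunctor _ q).obj L) := by
    intro q hq
    obtain ⟨i⟩ := hLiso q
    exact (isZero_limit_of_isZero _ _ (fun n => isZero_HD_single (F n) q hq)).of_iso i
  haveI : L.IsGE 0 := (isGE_iff L 0).2 (fun i hi => hz i (by omega))
  haveI : L.IsLE 0 := (isLE_iff L 0).2 (fun i hi => hz i (by omega))
  obtain ⟨A, ⟨e⟩⟩ := exists_iso_singleFunctor_obj_of_isGE_of_isLE L 0
  obtain ⟨i3⟩ := hLiso 0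
  obtain ⟨i4⟩ := nonempty_limit_iso (fun n => CohCx.HD (S.obj (F n)) 0) F
    (fun n => (DerivedCategory.homologyFunctor _ 0).map (S.map (t n))) t
    (fun n => hd0Iso (F n)) (fun n => hd0Iso_naturality (t n))
  let iA : A ≅ limit (CohCx.opSequence F t) :=
    (hd0Iso A).symm ≪≫ (DerivedCategory.homologyFunctor _ 0).mapIso e.symm ≪≫ i3 ≪≫ i4
  let eL : S.obj (limit (CohCx.opSequence F t)) ≅ L := (S.mapIso iA).symm ≪≫ e.symm
  constructor
  · exact isRlim_of_isRlimVia (isRlimVia_of_iso hL eL)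
  · intro U hU p
    have hall : ∀ w : DZ J U ⟶ (S.obj (limit (CohCx.opSequence F t)))⟦((p + 1 : ℕ) : ℤ)⟧, w = 0 := by
      intro w
      have h0 : w ≫ eL.hom⟦((p + 1 : ℕ) : ℤ)⟧' = 0 := by
        apply Groth.Agent.H7.Milnor.part2 hL ((p + 1 : ℕ) : ℤ)
          (hlim_of_h2 B hB h1K h2K U hU (((p + 1 : ℕ) : ℤ) - 1))
        intro n
        apply hom_single_shift_eq_zero U (F n) 0 ((p + 1 : ℕ) : ℤ)
        intro k hk
        have hk' : k = p + 1 := by
          have : (k : ℤ) = ((p + 1 : ℕ) : ℤ) := by rw [hk, sub_zero]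
          exact_mod_cast this
        subst hk'
        exact h1 U hU p n
      have h3 := congrArg (fun x => x ≫ eL.inv⟦((p + 1 : ℕ) : ℤ)⟧') h0
      simpa only [Category.assoc, ← Functor.map_comp, eL.hom_inv_id, CategoryTheory.Functor.map_id,
        Category.comp_id, zero_comp] using h3
    refine ⟨fun x y => ?_⟩
    apply (Abelian.Ext.homEquiv (X := ZU J U) (Y := limit (CohCx.opSequence F t))
      (n := p + 1)).injective
    exact (hall _).trans (hall _).symm

end Groth.Agent.H6.DLim
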