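import Groth.Agent.Lib.Helper6.DLim12

/-! # Variants of `E ≅ R lim τ_{≥ -n} E` on a topological space -/

universe u
open CategoryTheory Limits Opposite Pretriangulated TopologicalSpace

namespace Groth.Agent.H6.DLim

variable {X : TopCat.{u}} [HasDerivedCategory.{u} (CohTop.Ab X)]

theorem s6520 (E : DerivedCategory (CohTop.Ab X)) [HasProduct (CohCx.truncTower E)]
    (h : ∀ x : X, ∃ d : ℕ, ∀ V : Opens X, x ∈ V → ∃ U : Opens X, x ∈ U ∧ U ≤ V ∧
      ∀ (p : ℕ) (q : ℤ), d < p → q < 0 → Subsingleton (CohTop.HU (CohCx.HD E q) p U)) :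
    CohCx.IsRlimVia (CohCx.truncTower E) (CohCx.truncTowerMap E) E (CohCx.toTruncTower E) := by
  apply s875 E
  intro x
  obtain ⟨d, hd⟩ := h x
  refine ⟨fun m => max (d : ℤ) m, fun V hV => ?_⟩
  obtain ⟨U, hxU, hUV, hU⟩ := hd V hV
  refine ⟨U, hxU, hUV, fun m k hk => ?_⟩
  have hk' : max (d : ℤ) m < k := hk
  exact hU k (m - k) (by have := le_max_left (d : ℤ) m; omega)
    (by have := le_max_right (d : ℤ) m; omega)

theorem s6521 (E : DerivedCategory (CohTop.Ab X)) [HasProduct (CohCx.truncTower E)]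
    (B : Set (Opens X)) (hB : Opens.IsBasis B) (p : ℤ → ℤ)
    (h : ∀ U ∈ B, ∀ (m : ℤ) (k : ℕ), p m < k → Subsingleton (CohTop.HU (CohCx.HD E (m - k)) k U)) :
    CohCx.IsRlimVia (CohCx.truncTower E) (CohCx.truncTowerMap E) E (CohCx.toTruncTower E) := by
  apply s875 E
  intro x
  refine ⟨p, fun V hV => ?_⟩
  obtain ⟨U, hUB, hxU, hUV⟩ := Opens.isBasis_iff_nbhd.mp hB hV
  exact ⟨U, hxU, hUV, h U hUB⟩

theorem s6522 (E : DerivedCategory (CohTop.Ab X)) [HasProduct (CohCx.truncTower E)]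
    (B : Set (Opens X)) (hB : Opens.IsBasis B) (d : ℕ)
    (h : ∀ U ∈ B, ∀ (p : ℕ) (q : ℤ), d < p → q < 0 → Subsingleton (CohTop.HU (CohCx.HD E q) p U)) :
    CohCx.IsRlimVia (CohCx.truncTower E) (CohCx.truncTowerMap E) E (CohCx.toTruncTower E) := by
  apply s6520 E
  intro x
  refine ⟨d, fun V hV => ?_⟩
  obtain ⟨U, hUB, hxU, hUV⟩ := Opens.isBasis_iff_nbhd.mp hB hV
  exact ⟨U, hxU, hUV, h U hUB⟩

end Groth.Agent.H6.DLim
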