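import Groth.Agent.Lib.Helper6.DLim2
import Groth.Agent.Lib.Helper7.Milnor

/-! # Vanishing of a class mapping to zero in a derived limit, and injectivity on `H⁰` sheaves -/

universe u' v' u
open CategoryTheory Limits Opposite Pretriangulated

namespace Groth.Agent.H6.DLim

section Abstract

variable {T : Type u'} [Category.{v'} T] [Preadditive T] [HasZeroObject T] [HasShift T ℤ]
  [∀ n : ℤ, (shiftFunctor T n).Additive] [Pretriangulated T]
  {K : ℕ → T} {t : ∀ n, K (n + 1) ⟶ K n} [HasProduct K] {L : T} {a : ∀ n, L ⟶ K n}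

theorem a_comp_t (hL : CohCx.IsRlimVia K t L a) (n : ℕ) : a (n + 1) ≫ t n = a n := by
  obtain ⟨c, hc⟩ := hL
  have h : Pi.lift a ≫ Pi.lift (fun n => Pi.π K n - Pi.π K (n + 1) ≫ t n) = 0 :=
    comp_distTriang_mor_zero₁₂ _ hc
  have h2 := h =≫ Pi.π K n
  rw [Category.assoc, Pi.lift_π, Preadditive.comp_sub, Pi.lift_π, Pi.lift_π_assoc, zero_comp] at h2
  exact (sub_eq_zero.mp h2).symm

theorem a_comp_transition (hL : CohCx.IsRlimVia K t L a) (n k : ℕ) :
    a (n + k) ≫ CohCx.transition K t n k = a n := by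
  induction k with
  | zero => exact Category.comp_id _
  | succ k ih =>
    change a (n + k + 1) ≫ t (n + k) ≫ CohCx.transition K t n k = a n
    rw [← Category.assoc, a_comp_t hL, ih]

theorem eq_zero_of_comp_eq_zero (hL : CohCx.IsRlimVia K t L a) {X : T} (m : ℤ) (nV : ℕ)
    (hlim : Function.Surjective (fun (w : ∀ n, X ⟶ (K n)⟦m - 1⟧) (n : ℕ) =>
      w n - w (n + 1) ≫ (t n)⟦m - 1⟧'))
    (hinj : ∀ k : ℕ, Function.Injective
      (fun w : X ⟶ (K (nV + k))⟦m⟧ => w ≫ (CohCx.transition K t nV k)⟦m⟧'))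
    (y : X ⟶ L⟦m⟧) (hy : y ≫ (a nV)⟦m⟧' = 0) : y = 0 := by
  have hdown : ∀ k n, y ≫ (a (n + k))⟦m⟧' = 0 → y ≫ (a n)⟦m⟧' = 0 := by
    intro k
    induction k with
    | zero => intro n h; exact h
    | succ k ih =>
      intro n h
      apply ih
      have h1 : (a (n + k))⟦m⟧' = (a (n + k + 1))⟦m⟧' ≫ (t (n + k))⟦m⟧' := by
        rw [← Functor.map_comp, a_comp_t hL]
      rw [h1, ← Category.assoc]
      have h' : y ≫ (a (n + k + 1))⟦m⟧' = 0 := h
      rw [h', zero_comp]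
  have hup : ∀ k, y ≫ (a (nV + k))⟦m⟧' = 0 := by
    intro k
    apply hinj k
    change (y ≫ (a (nV + k))⟦m⟧') ≫ (CohCx.transition K t nV k)⟦m⟧' =
      0 ≫ (CohCx.transition K t nV k)⟦m⟧'
    rw [Category.assoc, ← Functor.map_comp, a_comp_transition hL, hy, zero_comp]
  apply Groth.Agent.H7.Milnor.part2 hL m hlim y
  intro n
  rcases le_total n nV with hn | hn
  · obtain ⟨d, rfl⟩ := Nat.exists_eq_add_of_le hn
    exact hdown d n hy
  · obtain ⟨d, rfl⟩ := Nat.exists_eq_add_of_le hn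
    exact hup d

end Abstract

section Site

open Groth.Agent.LD.SC Groth.Agent.LD.HDSh DerivedCategory

variable {C : Type u} [SmallCategory C] {J : GrothendieckTopology C}
  [HasDerivedCategory.{u} (Sheaf J AddCommGrpCat.{u})]

lemma sheafHom_naturality_apply {F G : Sheaf J AddCommGrpCat.{u}} (θ : F ⟶ G) {V W : C}
    (f : W ⟶ V) (s : F.obj.obj (op V)) :
    θ.hom.app (op W) (F.obj.map f.op s) = G.obj.map f.op (θ.hom.app (op V) s) :=
  congrArg (fun g => g s) (congrArg AddCommGrpCat.Hom.hom (θ.hom.naturality f.op))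

/-- the sieve of arrows over which `s` lifts to a class killed by `ψ`. -/
def liftSieve {L K : DerivedCategory (Sheaf J AddCommGrpCat.{u})} (ψ : L ⟶ K) (V : C)
    (s : (H0.obj L).obj.obj (op V)) : Sieve V where
  arrows W f := ∃ y : DZ J W ⟶ L, beta L W y = (H0.obj L).obj.map f.op s ∧ y ≫ ψ = 0
  downward_closed := by
    rintro W W' f ⟨y, hy1, hy2⟩ g
    refine ⟨DZmap g ≫ y, ?_, ?_⟩
    · rw [beta_map, hy1, op_comp, Functor.map_comp]
      rfl
    · rw [Category.assoc, hy2, comp_zero]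

theorem liftSieve_mem {L K : DerivedCategory (Sheaf J AddCommGrpCat.{u})} (ψ : L ⟶ K) (V : C)
    (s : (H0.obj L).obj.obj (op V)) (hs : (H0.map ψ).hom.app (op V) s = 0) :
    liftSieve ψ V s ∈ J V := by
  obtain ⟨T₁, hT₁, hT₁'⟩ := beta_locSurj L V s
  refine J.transitive hT₁ _ (fun W f hf => ?_)
  obtain ⟨y, hy⟩ := hT₁' f hf
  have h0 : beta K W (y ≫ ψ) = 0 := by
    rw [beta_comp, hy, sheafHom_naturality_apply, hs, map_zero]
  obtain ⟨R, hR, hR'⟩ := beta_locInj K W (y ≫ ψ) h0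
  refine J.superset_covering ?_ hR
  intro W' g hg
  refine ⟨DZmap g ≫ y, ?_, ?_⟩
  · rw [beta_map, hy, op_comp, Functor.map_comp]
    rfl
  · rw [Category.assoc]
    exact hR' g hg

end Site

end Groth.Agent.H6.DLim
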