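import Groth.Agent.Lib.Helper6.DLim3

/-! # Existence of derived limits, maps into them, transport along isomorphisms;
`R¹lim` of eventually surjective systems -/

universe u' v' u
open CategoryTheory Limits Opposite Pretriangulated

namespace Groth.Agent.H6.DLim

section Abstract

variable {T : Type u'} [Category.{v'} T] [Preadditive T] [HasZeroObject T] [HasShift T ℤ]
  [∀ n : ℤ, (shiftFunctor T n).Additive] [Pretriangulated T]

theorem exists_isRlimVia (K : ℕ → T) (t : ∀ n, K (n + 1) ⟶ K n) [HasProduct K] :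
    ∃ (L : T) (a : ∀ n, L ⟶ K n), CohCx.IsRlimVia K t L a := by
  obtain ⟨L, f, c, hT⟩ := distinguished_cocone_triangle₁
    (Pi.lift fun n => Pi.π K n - Pi.π K (n + 1) ≫ t n)
  refine ⟨L, fun n => f ≫ Pi.π K n, c, ?_⟩
  have h : Pi.lift (fun n => f ≫ Pi.π K n) = f := by
    apply Pi.hom_ext
    intro n
    rw [Pi.lift_π]
  rw [h]
  exact hT

variable {K : ℕ → T} {t : ∀ n, K (n + 1) ⟶ K n} [HasProduct K] {L : T} {a : ∀ n, L ⟶ K n}

theorem exists_lift (hL : CohCx.IsRlimVia K t L a) {E : T} (b : ∀ n, E ⟶ K n)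
    (hb : ∀ n, b (n + 1) ≫ t n = b n) : ∃ e : E ⟶ L, ∀ n, e ≫ a n = b n := by
  obtain ⟨c, hc⟩ := hL
  have h0 : Pi.lift b ≫ Pi.lift (fun n => Pi.π K n - Pi.π K (n + 1) ≫ t n) = 0 := by
    apply Pi.hom_ext
    intro n
    rw [Category.assoc, Pi.lift_π, Preadditive.comp_sub, Pi.lift_π, Pi.lift_π_assoc, hb, sub_self,
      zero_comp]
  obtain ⟨e, he⟩ : ∃ e : E ⟶ L, Pi.lift b = e ≫ Pi.lift a :=
    Triangle.coyoneda_exact₂ _ hc (Pi.lift b) h0
  refine ⟨e, fun n => ?_⟩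
  have h1 := he =≫ Pi.π K n
  rw [Pi.lift_π, Category.assoc, Pi.lift_π] at h1
  exact h1.symm

theorem isRlimVia_of_iso (hL : CohCx.IsRlimVia K t L a) {E : T} (e : E ≅ L) :
    CohCx.IsRlimVia K t E (fun n => e.hom ≫ a n) := by
  obtain ⟨c, hc⟩ := hL
  refine ⟨c ≫ e.inv⟦(1 : ℤ)⟧', isomorphic_distinguished _ hc _
    (Triangle.isoMk _ _ e (Iso.refl _) (Iso.refl _) ?_ ?_ ?_)⟩
  · change (Pi.lift fun n => e.hom ≫ a n) ≫ 𝟙 (∏ᶜ K) = e.hom ≫ Pi.lift a
    rw [Category.comp_id]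
    apply Pi.hom_ext
    intro n
    rw [Pi.lift_π, Category.assoc, Pi.lift_π]
  · change (Pi.lift fun n => Pi.π K n - Pi.π K (n + 1) ≫ t n) ≫ 𝟙 (∏ᶜ K) =
      𝟙 (∏ᶜ K) ≫ (Pi.lift fun n => Pi.π K n - Pi.π K (n + 1) ≫ t n)
    rw [Category.comp_id, Category.id_comp]
  · change (c ≫ e.inv⟦(1 : ℤ)⟧') ≫ e.hom⟦(1 : ℤ)⟧' = 𝟙 (∏ᶜ K) ≫ c
    rw [Category.assoc, ← Functor.map_comp, e.inv_hom_id, CategoryTheory.Functor.map_id, Category.comp_id,
      Category.id_comp]

end Abstract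

section LimOne

theorem limOneIsZero_of_shift (A : ℕ → Type u) [∀ n, AddCommGroup (A n)]
    (t : ∀ n, A (n + 1) →+ A n)
    (h : CohCx.LimOneIsZero (fun n => A (n + 1)) (fun n => t (n + 1))) :
    CohCx.LimOneIsZero A t := by
  intro b
  obtain ⟨a', ha'⟩ := h (fun n => b (n + 1))
  refine ⟨fun n => match n with
    | 0 => b 0 + t 0 (a' 0)
    | k + 1 => a' k, ?_⟩
  funext n
  cases n with
  | zero => simp
  | succ k => exact congrFun ha' k

theorem limOneIsZero_of_surjective (A : ℕ → Type u) [∀ n, AddCommGroup (A n)]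
    (t : ∀ n, A (n + 1) →+ A n) (h : ∀ n, Function.Surjective (t n)) :
    CohCx.LimOneIsZero A t := by
  intro b
  choose s hs using h
  let a : ∀ n, A n := fun n => Nat.rec (motive := A) 0 (fun k ak => s k (ak - b k)) n
  refine ⟨a, ?_⟩
  funext n
  change a n - t n (s n (a n - b n)) = b n
  rw [hs]
  abel

theorem limOneIsZero_of_eventually_surjective (N : ℕ) : ∀ (A : ℕ → Type u)
    [∀ n, AddCommGroup (A n)] (t : ∀ n, A (n + 1) →+ A n)
    (_ : ∀ n, N ≤ n → Function.Surjective (t n)), CohCx.LimOneIsZero A t := by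
  induction N with
  | zero =>
    intro A _ t h
    exact limOneIsZero_of_surjective A t (fun n => h n (Nat.zero_le n))
  | succ N ih =>
    intro A _ t h
    apply limOneIsZero_of_shift
    exact ih (fun n => A (n + 1)) (fun n => t (n + 1)) (fun n hn => h (n + 1) (by omega))

end LimOne

end Groth.Agent.H6.DLim
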