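import Groth.Agent.Lib.Helper2.DTrunc6

/-! # The fibre of `τ_{≥a} E ⟶ τ_{≥a+1} E` is `H^a(E)` placed in degree `a` -/

universe w v u
open CategoryTheory Limits Opposite Pretriangulated

namespace Groth.Agent.H6.DLim

open DerivedCategory Groth.Agent.H2.DTrunc

variable {A : Type u} [Category.{v} A] [Abelian A] [HasDerivedCategory.{w} A]

lemma epi_homology_natTransTruncGEOfLE (E : DerivedCategory A) (a b : ℤ) (h : a ≤ b) (j : ℤ) :
    Epi ((homologyFunctor A j).map ((tt.natTransTruncGEOfLE a b h).app E)) := by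
  by_cases hj : b ≤ j
  · haveI := isIso_homology_natTransTruncGEOfLE a b h E j hj
    infer_instance
  · exact (isZero_of_isGE ((tt.truncGE b).obj E) b j (by omega)).epi _

lemma mono_homology_natTransTruncGEOfLE (E : DerivedCategory A) (a b : ℤ) (h : a + 1 = b) (j : ℤ)
    (hj : j ≠ a) :
    Mono ((homologyFunctor A j).map ((tt.natTransTruncGEOfLE a b (by omega)).app E)) := by
  by_cases hj' : b ≤ j
  · haveI := isIso_homology_natTransTruncGEOfLE a b (by omega) E j hj'
    infer_instance
  · exact (isZero_of_isGE ((tt.truncGE a).obj E) a j (by omega)).mono _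

theorem exists_fiber_iso_single (E : DerivedCategory A) (a b : ℤ) (h : a + 1 = b) :
    ∃ (F : DerivedCategory A) (f : F ⟶ (tt.truncGE a).obj E)
      (δ : (tt.truncGE b).obj E ⟶ F⟦(1 : ℤ)⟧),
      Triangle.mk f ((tt.natTransTruncGEOfLE a b (by omega)).app E) δ ∈ distTriang _ ∧
      Nonempty (F ≅ (singleFunctor A a).obj ((homologyFunctor A a).obj E)) := by
  obtain ⟨F, f, δ, hT⟩ := distinguished_cocone_triangle₁
    ((tt.natTransTruncGEOfLE a b (by omega)).app E)
  refine ⟨F, f, δ, hT, ?_⟩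
  set T := Triangle.mk f ((tt.natTransTruncGEOfLE a b (by omega)).app E) δ with hTdef
  have hepi : ∀ j, Epi ((homologyFunctor A j).map T.mor₂) :=
    fun j => epi_homology_natTransTruncGEOfLE E a b (by omega) j
  have hmono : ∀ j, j ≠ a → Mono ((homologyFunctor A j).map T.mor₂) :=
    fun j hj => mono_homology_natTransTruncGEOfLE E a b h j hj
  have hδ : ∀ j₀ j₁ (hj : j₀ + 1 = j₁), HomologySequence.δ T j₀ j₁ hj = 0 := fun j₀ j₁ hj =>
    (HomologySequence.epi_homologyMap_mor₂_iff T hT j₀ j₁ hj).1 (hepi j₀)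
  have hzero : ∀ j, j ≠ a → IsZero ((homologyFunctor A j).obj F) := by
    intro j hj
    have hm : (homologyFunctor A j).map T.mor₁ = 0 :=
      (HomologySequence.mono_homologyMap_mor₂_iff T hT j).1 (hmono j hj)
    exact (HomologySequence.exact₁ T hT (j - 1) j (by omega)).isZero_of_both_zeros
      (hδ (j - 1) j (by omega)) hm
  haveI : F.IsGE a := (isGE_iff F a).2 (fun i hi => hzero i (by omega))
  haveI : F.IsLE a := (isLE_iff F a).2 (fun i hi => hzero i (by omega))
  obtain ⟨Y, ⟨e⟩⟩ := exists_iso_singleFunctor_obj_of_isGE_of_isLE F a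
  haveI hm1 : Mono ((homologyFunctor A a).map T.mor₁) :=
    (HomologySequence.mono_homologyMap_mor₁_iff T hT (a - 1) a (by omega)).2
      (hδ (a - 1) a (by omega))
  haveI he1 : Epi ((homologyFunctor A a).map T.mor₁) :=
    (HomologySequence.epi_homologyMap_mor₁_iff T hT a).2
      ((isZero_of_isGE ((tt.truncGE b).obj E) b a (by omega)).eq_of_tgt _ _)
  have hiso1 : IsIso ((homologyFunctor A a).map T.mor₁) := isIso_of_mono_of_epi _
  have hiso2 := isIso_homology_truncGEπ E a a le_rfl
  let i1 : Y ≅ (homologyFunctor A a).obj ((singleFunctor A a).obj Y) :=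
    ((singleFunctorCompHomologyFunctorIso A a).app Y).symm
  let i2 : (homologyFunctor A a).obj ((singleFunctor A a).obj Y) ≅ (homologyFunctor A a).obj F :=
    (homologyFunctor A a).mapIso e.symm
  let i3 : (homologyFunctor A a).obj F ≅ (homologyFunctor A a).obj ((tt.truncGE a).obj E) :=
    @asIso _ _ _ _ ((homologyFunctor A a).map T.mor₁) hiso1
  let i4 : (homologyFunctor A a).obj E ≅ (homologyFunctor A a).obj ((tt.truncGE a).obj E) :=
    @asIso _ _ _ _ ((homologyFunctor A a).map ((tt.truncGEπ a).app E)) hiso2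
  exact ⟨e ≪≫ (singleFunctor A a).mapIso (i1 ≪≫ i2 ≪≫ i3 ≪≫ i4.symm)⟩

end Groth.Agent.H6.DLim
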