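import Groth.Agent.Lib.Helper6.DLim7
import Groth.Agent.Lib.Helper6.DLim6

/-! # Vanishing of `Hom(ℤ_Y[0], A[-q][j])` from vanishing of `Ext`, and bijectivity of
`H^j(Y, τ_{≥a}E) → H^j(Y, τ_{≥a+1}E)` -/

universe u
open CategoryTheory Limits Opposite Pretriangulated

namespace Groth.Agent.H6.DLim

open Groth.Agent.LD.SC Groth.Agent.LD.HDSh DerivedCategory Groth.Agent.H2.DTrunc

variable {C : Type u} [SmallCategory C] {J : GrothendieckTopology C}
  [HasDerivedCategory.{u} (Sheaf J AddCommGrpCat.{u})]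

theorem hom_single_shift_eq_zero (Y : C) (A' : Sheaf J AddCommGrpCat.{u}) (q j' : ℤ)
    (hvan : ∀ k : ℕ, (k : ℤ) = j' - q → Subsingleton (CohSite.HU A' k Y))
    (φ : DZ J Y ⟶ ((singleFunctor (Sheaf J AddCommGrpCat.{u}) q).obj A')⟦j'⟧) : φ = 0 := by
  let SF := DerivedCategory.singleFunctors (Sheaf J AddCommGrpCat.{u})
  let iso1 : ((singleFunctor (Sheaf J AddCommGrpCat.{u}) q).obj A')⟦j'⟧ ≅
      (singleFunctor (Sheaf J AddCommGrpCat.{u}) (q - j')).obj A' :=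
    (SF.shiftIso j' (q - j') q (by omega)).app A'
  by_cases hq : 0 < q - j'
  · have h0 : φ ≫ iso1.hom = 0 :=
      TStructure.t.zero_of_isLE_of_isGE (φ ≫ iso1.hom) 0 (q - j') hq
        (inferInstanceAs (((singleFunctor (Sheaf J AddCommGrpCat.{u}) 0).obj (ZU J Y)).IsLE 0))
        (inferInstanceAs (((singleFunctor (Sheaf J AddCommGrpCat.{u}) (q - j')).obj A').IsGE
          (q - j')))
    rw [← cancel_mono iso1.hom, h0, zero_comp]
  · obtain ⟨k, hk⟩ : ∃ k : ℕ, (k : ℤ) = j' - q := ⟨(j' - q).toNat, Int.toNat_of_nonneg (by omega)⟩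
    haveI := hvan k hk
    let iso2 : ((singleFunctor (Sheaf J AddCommGrpCat.{u}) 0).obj A')⟦(k : ℤ)⟧ ≅
        (singleFunctor (Sheaf J AddCommGrpCat.{u}) (q - j')).obj A' :=
      (SF.shiftIso (k : ℤ) (q - j') 0 (by omega)).app A'
    let ψ : ShiftedHom ((singleFunctor (Sheaf J AddCommGrpCat.{u}) 0).obj (ZU J Y))
        ((singleFunctor (Sheaf J AddCommGrpCat.{u}) 0).obj A') (k : ℤ) :=
      φ ≫ iso1.hom ≫ iso2.inv
    have h1 : (Abelian.Ext.homEquiv (X := ZU J Y) (Y := A') (n := k)).symm ψ =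
        (Abelian.Ext.homEquiv (X := ZU J Y) (Y := A') (n := k)).symm 0 :=
      Subsingleton.elim (α := CohSite.HU A' k Y) _ _
    have h2 : ψ = 0 := (Abelian.Ext.homEquiv (X := ZU J Y) (Y := A') (n := k)).symm.injective h1
    have h3 : φ ≫ iso1.hom ≫ iso2.inv = 0 := h2
    rw [← cancel_mono (iso1.hom ≫ iso2.inv), h3, zero_comp]

end Groth.Agent.H6.DLim
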