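import Groth.Agent.Lib.Helper6.DLim8

/-! # Bijectivity of `H^j(Y, τ_{≥a}E) → H^j(Y, τ_{≥a+1}E)` under `Ext`-vanishing -/

universe u' v' u
open CategoryTheory Limits Opposite Pretriangulated

namespace Groth.Agent.H6.DLim

section Abstract

variable {T : Type u'} [Category.{v'} T] [Preadditive T] [HasZeroObject T] [HasShift T ℤ]
  [∀ n : ℤ, (shiftFunctor T n).Additive] [Pretriangulated T]

theorem injective_comp_shift_mor₂ (Tr : Triangle T) (hT : Tr ∈ distTriang T) (W : T) (j : ℤ)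
    (h0 : ∀ φ : W ⟶ Tr.obj₁⟦j⟧, φ = 0) :
    Function.Injective (fun w : W ⟶ Tr.obj₂⟦j⟧ => w ≫ Tr.mor₂⟦j⟧') := by
  have hs := Triangle.shift_distinguished _ hT j
  change (Triangle.shiftFunctor T j).obj _ ∈ _ at hs
  intro w w' hww
  have h1 : (w - w') ≫ (j.negOnePow • Tr.mor₂⟦j⟧') = 0 := by
    rw [Linear.comp_units_smul, Preadditive.sub_comp]
    have : w ≫ Tr.mor₂⟦j⟧' = w' ≫ Tr.mor₂⟦j⟧' := hww
    rw [this, sub_self, smul_zero]
  obtain ⟨ψ, hψ⟩ : ∃ ψ : W ⟶ Tr.obj₁⟦j⟧, w - w' = ψ ≫ (j.negOnePow • Tr.mor₁⟦j⟧') :=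
    Triangle.coyoneda_exact₂ _ hs (w - w') h1
  rw [h0 ψ, zero_comp] at hψ
  exact sub_eq_zero.mp hψ

theorem surjective_comp_shift_mor₂ (Tr : Triangle T) (hT : Tr ∈ distTriang T) (W : T) (j j1 : ℤ)
    (hj : j + 1 = j1) (h0 : ∀ φ : W ⟶ Tr.obj₁⟦j1⟧, φ = 0) :
    Function.Surjective (fun w : W ⟶ Tr.obj₂⟦j⟧ => w ≫ Tr.mor₂⟦j⟧') := by
  have hs := Triangle.shift_distinguished _ hT j
  change (Triangle.shiftFunctor T j).obj _ ∈ _ at hs
  intro z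
  have h1 : z ≫ (j.negOnePow • Tr.mor₃⟦j⟧' ≫ (shiftFunctorComm T 1 j).hom.app Tr.obj₁) = 0 := by
    have h2 := h0 ((z ≫ (j.negOnePow • Tr.mor₃⟦j⟧' ≫ (shiftFunctorComm T 1 j).hom.app Tr.obj₁)) ≫
      (shiftFunctorAdd' T j 1 j1 hj).inv.app Tr.obj₁)
    have h3 := congrArg (fun x => x ≫ (shiftFunctorAdd' T j 1 j1 hj).hom.app Tr.obj₁) h2
    simpa only [Category.assoc, Iso.inv_hom_id_app, Category.comp_id, zero_comp] using h3
  obtain ⟨y, hy⟩ : ∃ y : W ⟶ Tr.obj₂⟦j⟧, z = y ≫ (j.negOnePow • Tr.mor₂⟦j⟧') :=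
    Triangle.coyoneda_exact₃ _ hs z h1
  refine ⟨j.negOnePow • y, ?_⟩
  change (j.negOnePow • y) ≫ Tr.mor₂⟦j⟧' = z
  rw [hy, Linear.units_smul_comp, Linear.comp_units_smul]

end Abstract

section Site

open Groth.Agent.LD.SC Groth.Agent.LD.HDSh DerivedCategory Groth.Agent.H2.DTrunc

variable {C : Type u} [SmallCategory C] {J : GrothendieckTopology C}
  [HasDerivedCategory.{u} (Sheaf J AddCommGrpCat.{u})]

theorem hom_shift_eq_zero_of_iso_single (Y : C) (A' : Sheaf J AddCommGrpCat.{u}) (q j' : ℤ)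
    {F : DerivedCategory (Sheaf J AddCommGrpCat.{u})}
    (e : F ≅ (singleFunctor (Sheaf J AddCommGrpCat.{u}) q).obj A')
    (hvan : ∀ k : ℕ, (k : ℤ) = j' - q → Subsingleton (CohSite.HU A' k Y))
    (φ : DZ J Y ⟶ F⟦j'⟧) : φ = 0 := by
  have h := hom_single_shift_eq_zero Y A' q j' hvan (φ ≫ e.hom⟦j'⟧')
  have h2 : (φ ≫ e.hom⟦j'⟧') ≫ e.inv⟦j'⟧' = 0 := by rw [h, zero_comp]
  rw [Category.assoc, ← Functor.map_comp, e.hom_inv_id, CategoryTheory.Functor.map_id,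
    Category.comp_id] at h2
  exact h2

theorem bijective_truncGE_step (E : DerivedCategory (Sheaf J AddCommGrpCat.{u})) (a b : ℤ)
    (h : a + 1 = b) (hab : a ≤ b) (Y : C) (j : ℤ)
    (hv1 : ∀ k : ℕ, (k : ℤ) = j - a → Subsingleton (CohSite.HU (CohCx.HD E a) k Y))
    (hv2 : ∀ k : ℕ, (k : ℤ) = j + 1 - a → Subsingleton (CohSite.HU (CohCx.HD E a) k Y)) :
    Function.Bijective (fun w : DZ J Y ⟶ ((tt.truncGE a).obj E)⟦j⟧ =>
      w ≫ ((tt.natTransTruncGEOfLE a b hab).app E)⟦j⟧') := by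
  obtain ⟨F, f, δ, hT, ⟨e⟩⟩ := exists_fiber_iso_single E a b h
  constructor
  · exact injective_comp_shift_mor₂ _ hT (DZ J Y) j
      (fun φ => hom_shift_eq_zero_of_iso_single Y _ a j e hv1 φ)
  · exact surjective_comp_shift_mor₂ _ hT (DZ J Y) j (j + 1) rfl
      (fun φ => hom_shift_eq_zero_of_iso_single Y _ a (j + 1) e hv2 φ)

end Site

end Groth.Agent.H6.DLim
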