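import Mathlib
import Groth.Prelude.Def_ArtFun

/-!
# helper6: endomorphisms of deformations of a module with only scalar endomorphisms
-/

set_option autoImplicit false
set_option linter.style.haveILetI false
set_option linter.unusedTactic false
set_option linter.unusedVariables false
set_option linter.unusedSectionVars false

universe u v w w'

namespace Groth.Agent.H6

open IsLocalRing

section FlatColon

variable {R : Type*} [CommRing R] {M : Type*} [AddCommGroup M] [Module R M]

/-- For a flat module `M`, if `t • x ∈ I M` then `x ∈ J M` for every ideal `J ⊇ (I : t)`. -/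
theorem flat_colon [Module.Flat R M] (I J : Ideal R) (t : R) (hJ : ∀ a : R, a * t ∈ I → a ∈ J)
    (x : M) (h : t • x ∈ I • (⊤ : Submodule R M)) : x ∈ J • (⊤ : Submodule R M) := by
  classical
  have h' : t • x ∈ I • Submodule.span R (Set.range (id : M → M)) := by
    rw [Set.range_id, Submodule.span_univ]; exact h
  rw [Submodule.mem_ideal_smul_span_iff_exists_sum] at h'
  obtain ⟨a, ha, hsum⟩ := h'
  let f : Option a.support → R := fun o => Option.elim o t (fun i => - a i.1)
  let z : Option a.support → M := fun o => Option.elim o x (fun i => i.1)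
  have hrel : ∑ o, f o • z o = 0 := by
    rw [Fintype.sum_option]
    change t • x + ∑ i : a.support, (- a i.1) • (i.1 : M) = 0
    rw [← hsum, Finsupp.sum, ← Finset.sum_coe_sort a.support]
    simp
  obtain ⟨k, A, y, hz, hA⟩ := Module.Flat.isTrivialRelation_of_sum_smul_eq_zero hrel
  have hx : x = ∑ j, A none j • y j := hz none
  rw [hx]
  apply Submodule.sum_mem
  intro j _
  apply Submodule.smul_mem_smul _ Submodule.mem_top
  apply hJ
  have := hA j
  rw [Fintype.sum_option] at this
  change t * A none j + ∑ i : a.support, (- a i.1) * A (some i) j = 0 at this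
  have h2 : A none j * t = ∑ i : a.support, a i.1 * A (some i) j := by
    rw [mul_comm]
    have h3 : ∑ i : a.support, (- a i.1) * A (some i) j = - ∑ i : a.support, a i.1 * A (some i) j := by
      rw [← Finset.sum_neg_distrib]
      apply Finset.sum_congr rfl
      intro i _
      ring
    rw [h3] at this
    linear_combination this
  rw [h2]
  apply Ideal.sum_mem
  intro i _
  exact I.mul_mem_right _ (ha i.1)

end FlatColon

section MaxBelow

variable {R : Type*} [CommRing R] [IsLocalRing R] [IsNoetherianRing R]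

/-- Below a nonzero ideal of a Noetherian local ring there is an ideal with simple quotient. -/
theorem exists_simple_below (I : Ideal R) (hI : I ≠ ⊥) :
    ∃ (I' : Ideal R) (t : R), I' < I ∧ t ∈ I ∧ t ∉ I' ∧ I' ⊔ Ideal.span {t} = I ∧
      (∀ a ∈ maximalIdeal R, a * t ∈ I') ∧ (∀ a : R, a * t ∈ I' → a ∈ maximalIdeal R) := by
  let T : Set (Ideal R) := {J | J < I}
  have hT : T.Nonempty := ⟨⊥, bot_lt_iff_ne_bot.mpr hI⟩
  obtain ⟨J', hJ'T, hJ'max⟩ := wellFounded_gt.has_min T hT
  have hJ'J : J' < I := hJ'T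
  obtain ⟨t, htJ, htJ'⟩ := SetLike.exists_of_lt hJ'J
  have hmax : ∀ x ∈ I, x ∉ J' → J' ⊔ Ideal.span {x} = I := by
    intro x hxJ hxJ'
    have hle : J' ⊔ Ideal.span {x} ≤ I :=
      sup_le hJ'J.le ((Ideal.span_singleton_le_iff_mem I).mpr hxJ)
    by_contra hne'
    have hlt : J' ⊔ Ideal.span {x} < I := lt_of_le_of_ne hle hne'
    have hgt : J' < J' ⊔ Ideal.span {x} := by
      refine lt_of_le_of_ne le_sup_left ?_
      intro heq
      apply hxJ'
      rw [heq]
      exact Submodule.mem_sup_right (Ideal.mem_span_singleton_self x)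
    exact hJ'max _ hlt hgt
  refine ⟨J', t, hJ'J, htJ, htJ', hmax t htJ htJ', ?_, ?_⟩
  · intro a ha
    by_contra hat
    have h1 := hmax (a * t) (I.mul_mem_left a htJ) hat
    have ht : t ∈ J' ⊔ Ideal.span {a * t} := by rw [h1]; exact htJ
    rw [Submodule.mem_sup] at ht
    obtain ⟨j', hj', y, hy, hsum⟩ := ht
    rw [Ideal.mem_span_singleton'] at hy
    obtain ⟨b, rfl⟩ := hy
    have hu : IsUnit (1 - b * a) := by
      have hba : b * a ∈ maximalIdeal R := Ideal.mul_mem_left _ b ha
      exact IsLocalRing.isUnit_one_sub_self_of_mem_nonunits (b * a) hba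
    have h3 : (1 - b * a) * t = j' := by
      linear_combination (-1 : R) * hsum
    apply htJ'
    rw [← Ideal.unit_mul_mem_iff_mem J' hu, h3]
    exact hj'
  · intro a hat
    by_contra ha
    have hu : IsUnit a := by
      by_contra hnu
      exact ha ((IsLocalRing.mem_maximalIdeal a).mpr hnu)
    exact htJ' ((Ideal.unit_mul_mem_iff_mem J' hu).1 hat)

end MaxBelow

section DMod

open ArtFun

variable {K : Type u} [Field K]
  {D : Type v} [Ring D] [Algebra K D]
  {E : Type w} [AddCommGroup E] [Module K E] [Module D E] [IsScalarTower K D E]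
  (R : ArtFun.Art K K)
  {F : Type w'} [AddCommGroup F] [Module K F] [Module R F] [Module D F]
  [IsScalarTower K R F] [IsScalarTower K D F] [SMulCommClass R D F]

omit [IsScalarTower K R F] [Module K F] [IsScalarTower K D F] in
/-- `I F` is stable under `D`. -/
lemma dmod_smul_mem (I : Ideal R) (d : D) {x : F} (hx : x ∈ I • (⊤ : Submodule R F)) :
    d • x ∈ I • (⊤ : Submodule R F) := by
  refine Submodule.smul_induction_on hx ?_ ?_
  · intro r hr n _
    rw [← smul_comm r d n]
    exact Submodule.smul_mem_smul hr Submodule.mem_top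
  · intro a b ha hb
    rw [smul_add]
    exact Submodule.add_mem _ ha hb

omit [IsScalarTower K R F] in
lemma dmod_theta_smul (θ : F →ₗ[D] E) (c : K) (x : F) : θ (c • x) = c • θ x := by
  rw [← algebraMap_smul D c x, θ.map_smul, algebraMap_smul]

variable [Module.Flat R F]

/-- The main induction: an `R`- and `D`-linear endomorphism with image in `I F` is multiplication
by an element of `I`. -/
theorem dmod_end_scalar_aux [Nontrivial E]
    (hE : ∀ ψ : E →ₗ[D] E, ∃ c : K, ∀ y : E, ψ y = c • y)
    (θ : F →ₗ[D] E) (hθ : ∀ (r : R) (x : F), θ (r • x) = R.res r • θ x)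
    (hsurj : Function.Surjective θ)
    (hker : ∀ x : F, θ x = 0 ↔ x ∈ maximalIdeal R • (⊤ : Submodule R F))
    (I : Ideal R) :
    ∀ ψ : F →ₗ[R] F, (∀ (d : D) (x : F), ψ (d • x) = d • ψ x) →
      (∀ x, ψ x ∈ I • (⊤ : Submodule R F)) → ∃ r ∈ I, ∀ x : F, ψ x = r • x := by
  induction I using WellFoundedLT.induction with
  | _ I ih =>
  intro ψ hψD hψI
  by_cases hI : I = ⊥
  · refine ⟨0, I.zero_mem, fun x => ?_⟩
    have := hψI x
    rw [hI, Submodule.bot_smul, Submodule.mem_bot] at this
    rw [this, zero_smul]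
  obtain ⟨I', t, hlt, htI, htI', hsup, hmt, hcol⟩ := exists_simple_below I hI
  -- (i) elements of `I F` are `t`-multiples modulo `I' F`
  have hdecomp : ∀ z ∈ I • (⊤ : Submodule R F), ∃ y : F, z - t • y ∈ I' • (⊤ : Submodule R F) := by
    intro z hz
    refine Submodule.smul_induction_on hz ?_ ?_
    · intro r hr n _
      rw [← hsup, Submodule.mem_sup] at hr
      obtain ⟨i', hi', s, hs, rfl⟩ := hr
      rw [Ideal.mem_span_singleton'] at hs
      obtain ⟨a, rfl⟩ := hs
      refine ⟨a • n, ?_⟩
      have : (i' + a * t) • n - t • a • n = i' • n := by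
        rw [add_smul, mul_comm, mul_smul]; abel
      rw [this]
      exact Submodule.smul_mem_smul hi' Submodule.mem_top
    · rintro a b ⟨ya, hya⟩ ⟨yb, hyb⟩
      refine ⟨ya + yb, ?_⟩
      have : a + b - t • (ya + yb) = (a - t • ya) + (b - t • yb) := by
        rw [smul_add]; abel
      rw [this]
      exact Submodule.add_mem _ hya hyb
  have hex : ∀ x : F, ∃ y : F, ψ x - t • y ∈ I' • (⊤ : Submodule R F) := fun x =>
    hdecomp _ (hψI x)
  -- (ii) `t • x ∈ I' F ↔ x ∈ m F`
  have hii : ∀ x : F, t • x ∈ I' • (⊤ : Submodule R F) → θ x = 0 := fun x hx =>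
    (hker x).2 (flat_colon I' _ t hcol x hx)
  have hii' : ∀ x : F, θ x = 0 → t • x ∈ I' • (⊤ : Submodule R F) := by
    intro x hx
    rw [hker] at hx
    refine Submodule.smul_induction_on hx ?_ ?_
    · intro a ha n _
      rw [← mul_smul, mul_comm]
      exact Submodule.smul_mem_smul (hmt a ha) Submodule.mem_top
    · intro a b ha hb
      rw [smul_add]
      exact Submodule.add_mem _ ha hb
  -- (iii) `ψ (m F) ⊆ I' F`
  have hmI : maximalIdeal R * I ≤ I' := by
    rw [← hsup, Ideal.mul_sup]
    refine sup_le (Ideal.mul_le_right) ?_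
    rw [Ideal.mul_le]
    intro a ha s hs
    rw [Ideal.mem_span_singleton'] at hs
    obtain ⟨b, rfl⟩ := hs
    have : a * (b * t) = b * (a * t) := by ring
    rw [this]
    exact I'.mul_mem_left b (hmt a ha)
  have hiii : ∀ x : F, θ x = 0 → ψ x ∈ I' • (⊤ : Submodule R F) := by
    intro x hx
    rw [hker] at hx
    refine Submodule.smul_induction_on hx ?_ ?_
    · intro a ha n _
      rw [ψ.map_smul]
      have h1 : a • ψ n ∈ maximalIdeal R • (I • (⊤ : Submodule R F)) :=
        Submodule.smul_mem_smul ha (hψI n)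
      rw [← Submodule.mul_smul] at h1
      exact Submodule.smul_mono_left hmI h1
    · intro a b ha hb
      rw [ψ.map_add]
      exact Submodule.add_mem _ ha hb
  have huniq : ∀ x x' y y' : F, θ x = θ x' → ψ x - t • y ∈ I' • (⊤ : Submodule R F) →
      ψ x' - t • y' ∈ I' • (⊤ : Submodule R F) → θ y = θ y' := by
    intro x x' y y' hxx' hy hy'
    have h1 : ψ (x - x') ∈ I' • (⊤ : Submodule R F) := hiii _ (by rw [map_sub, hxx', sub_self])
    have h2 : t • (y - y') ∈ I' • (⊤ : Submodule R F) := by
      have : t • (y - y') = (ψ x' - t • y') - (ψ x - t • y) + ψ (x - x') := by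
        rw [smul_sub, map_sub]; abel
      rw [this]
      exact Submodule.add_mem _ (Submodule.sub_mem _ hy' hy) h1
    have := hii _ h2
    rwa [map_sub, sub_eq_zero] at this
  -- the induced endomorphism of `E`
  let ψt : E → E := fun e => θ (Classical.choose (hex (Classical.choose (hsurj e))))
  have hspec : ∀ x y : F, ψ x - t • y ∈ I' • (⊤ : Submodule R F) → ψt (θ x) = θ y := by
    intro x y hy
    exact huniq _ x _ y (Classical.choose_spec (hsurj (θ x)))
      (Classical.choose_spec (hex (Classical.choose (hsurj (θ x))))) hy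
  let Ψ : E →ₗ[D] E :=
    { toFun := ψt
      map_add' := by
        intro e₁ e₂
        obtain ⟨x₁, rfl⟩ := hsurj e₁
        obtain ⟨x₂, rfl⟩ := hsurj e₂
        obtain ⟨y₁, hy₁⟩ := hex x₁
        obtain ⟨y₂, hy₂⟩ := hex x₂
        rw [hspec x₁ y₁ hy₁, hspec x₂ y₂ hy₂, ← map_add, ← map_add]
        apply hspec
        have : ψ (x₁ + x₂) - t • (y₁ + y₂) = (ψ x₁ - t • y₁) + (ψ x₂ - t • y₂) := by
          rw [map_add, smul_add]; abel
        rw [this]
        exact Submodule.add_mem _ hy₁ hy₂
      map_smul' := by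
        intro d e
        obtain ⟨x, rfl⟩ := hsurj e
        obtain ⟨y, hy⟩ := hex x
        rw [hspec x y hy, RingHom.id_apply, ← θ.map_smul, ← θ.map_smul]
        apply hspec
        have : ψ (d • x) - t • d • y = d • (ψ x - t • y) := by
          rw [hψD, smul_sub, smul_comm t d y]
        rw [this]
        exact dmod_smul_mem R I' d hy }
  obtain ⟨c, hc⟩ := hE Ψ
  -- subtract `c t`
  let ψ' : F →ₗ[R] F := ψ - (c • t) • LinearMap.id
  have hψ'app : ∀ x, ψ' x = ψ x - t • c • x := by
    intro x
    change ψ x - (c • t) • x = _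
    rw [smul_assoc, smul_comm]
  have hψ'D : ∀ (d : D) (x : F), ψ' (d • x) = d • ψ' x := by
    intro d x
    rw [hψ'app, hψ'app, hψD, smul_sub, smul_comm c d x, smul_comm t d (c • x)]
  have hψ'I : ∀ x, ψ' x ∈ I' • (⊤ : Submodule R F) := by
    intro x
    obtain ⟨y, hy⟩ := hex x
    have h1 : θ (y - c • x) = 0 := by
      rw [map_sub, dmod_theta_smul, ← hspec x y hy]
      change Ψ (θ x) - c • θ x = 0
      rw [hc, sub_self]
    have h2 := hii' _ h1
    rw [hψ'app]
    have : ψ x - t • c • x = (ψ x - t • y) + t • (y - c • x) := by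
      rw [smul_sub]; abel
    rw [this]
    exact Submodule.add_mem _ hy h2
  obtain ⟨r', hr', hr'x⟩ := ih I' hlt ψ' hψ'D hψ'I
  refine ⟨r' + c • t, I.add_mem (hlt.le hr') ?_, ?_⟩
  · rw [Algebra.smul_def]
    exact I.mul_mem_left _ htI
  · intro x
    have := hr'x x
    rw [hψ'app] at this
    rw [add_smul, ← this, smul_assoc, smul_comm c t x]
    abel

/-- `F` is a faithful `R`-module. -/
theorem dmod_faithful [Nontrivial E]
    (θ : F →ₗ[D] E)
    (hsurj : Function.Surjective θ)
    (hker : ∀ x : F, θ x = 0 ↔ x ∈ maximalIdeal R • (⊤ : Submodule R F))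
    (r : R) (hr : ∀ x : F, r • x = 0) : r = 0 := by
  by_contra hne
  obtain ⟨e, he⟩ := exists_ne (0 : E)
  obtain ⟨x, rfl⟩ := hsurj e
  apply he
  rw [hker]
  apply flat_colon ⊥ _ r _ x
  · rw [hr x]; exact Submodule.zero_mem _
  · intro a ha
    rw [Ideal.mem_bot] at ha
    by_contra hnm
    have hu : IsUnit a := by
      by_contra hnu
      exact hnm ((IsLocalRing.mem_maximalIdeal a).mpr hnu)
    exact hne ((hu.mul_right_eq_zero).1 ha)

/-- Every `R`- and `D`-linear endomorphism of a deformation of `E` is multiplication by a unique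
element of `R`. -/
theorem dmod_end_scalar [Nontrivial E]
    (hE : ∀ ψ : E →ₗ[D] E, ∃ c : K, ∀ y : E, ψ y = c • y)
    (θ : F →ₗ[D] E) (hθ : ∀ (r : R) (x : F), θ (r • x) = R.res r • θ x)
    (hsurj : Function.Surjective θ)
    (hker : ∀ x : F, θ x = 0 ↔ x ∈ maximalIdeal R • (⊤ : Submodule R F))
    (φ : F →ₗ[R] F) (hφ : ∀ (d : D) (x : F), φ (d • x) = d • φ x) :
    ∃! r : R, ∀ x : F, φ x = r • x := by
  obtain ⟨r, -, hr⟩ := dmod_end_scalar_aux R hE θ hθ hsurj hker ⊤ φ hφ (fun x => by
    rw [Submodule.top_smul]; exact Submodule.mem_top)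
  refine ⟨r, hr, fun r' hr' => ?_⟩
  have : r' - r = 0 := by
    apply dmod_faithful R θ hsurj hker
    intro x
    rw [sub_smul, ← hr, ← hr', sub_self]
  exact sub_eq_zero.1 this

end DMod

end Groth.Agent.H6
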