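import Mathlib
import Groth.Prelude.Def_DCoh2
import Groth.Prelude.Def_DCoh3
import Groth.Agent.Lib.Helper6.QcVan6

/-! # Sharp amplitude of `Rf_*` on `D_QCoh` for affine morphisms -/

universe u
open CategoryTheory Limits Opposite Pretriangulated AlgebraicGeometry TopologicalSpace

namespace Groth.Agent.H6.QcVan

open DerivedCategory Groth.Agent.H6.KI Groth.Agent.H6.MD Groth.Agent.H6.MDw Groth.Agent.H6.MVTri
open Groth.Agent.LD.SC Groth.Agent.H6.RFTri

attribute [local instance] HasDerivedCategory.standard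

/-- `Rf_*` does not raise the amplitude of objects of `D_QCoh` when `f` is affine. -/
theorem vanishing_of_isAffineHom' {X S : Scheme.{u}} (f : X ⟶ S) [IsAffineHom f]
    [DCoh.HasRpush f] (E : DCoh.D X) (hE : DCoh.IsQCohD E) (b : ℤ)
    (hb : ∀ q : ℤ, b < q → IsZero (DCoh.HD E q)) (m : ℤ) (hm : b < m) :
    IsZero (DCoh.HD ((DCoh.Rpush f).obj E) m) := by
  let E' : DerivedCategory (ModSite.Mod (J := Opens.grothendieckTopology X) X.sheaf) := E
  haveI : IsGrothendieckAbelian.{u} (ModSite.Mod (J := Opens.grothendieckTopology X) X.sheaf) :=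
    Groth.Agent.H1.sheafOfModules_isGrothendieckAbelian _ _
  haveI : HasProduct (CohCx.truncTower E') :=
    Groth.Agent.H2.DProd.hasProduct_of_isGE _ (fun n => ⟨-(n : ℤ), inferInstance⟩)
  have hL := main1007 X E' hE
  let A : ObjectProperty (ModSite.Mod (J := Opens.grothendieckTopology X) X.sheaf) :=
    fun F => Coh.IsQCoh (X := X) F
  haveI : A.IsClosedUnderIsomorphisms :=
    ⟨fun e h => Groth.Agent.LD.QC.qc_of_iso (X := X) e h⟩
  apply isZero_HD_Rpush_of_basis f E m S.affineOpens S.isBasis_affineOpens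
  intro V hV φ
  refine hom_eq_zero_of_isRlimVia (O := X.sheaf) E' hL A hE (f ⁻¹ᵁ V) 0 ?_ b hb m
    (by simpa using hm) φ
  intro F hF k hk
  obtain ⟨p, rfl⟩ : ∃ p, k = p + 1 := ⟨k - 1, by omega⟩
  haveI : SheafOfModules.IsQuasicoherent (R := X.ringCatSheaf) F := hF
  exact subsingleton_ext_of_isAffineOpen (X := X) F p (f ⁻¹ᵁ V) (IsAffineOpen.preimage hV f)

end Groth.Agent.H6.QcVan
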