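import Groth.Agent.Lib.Helper6.MDw4
import Groth.Agent.Lib.Helper6.DLim13
import Groth.Agent.Lib.Helper7.WayOut3

/-! # Eventually constant towers in `D^+_A(O)`: vanishing and bijectivity of `Hom(j_{Y!}O_Y, -)` -/

universe w u
open CategoryTheory Limits Opposite Pretriangulated

namespace Groth.Agent.H6.MDw

open Groth.Agent.H6.MD
open Groth.Agent.LD.SC Groth.Agent.LD.HDSh DerivedCategory Groth.Agent.H2.DTrunc

section Fiber

variable {A : Type*} [Category A] [Abelian A] [HasDerivedCategory.{w} A]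

lemma isZero_homology_obj₁ (T : Triangle (DerivedCategory A)) (hT : T ∈ distTriang _)
    (a₀ a₁ : ℤ) (h : a₀ + 1 = a₁)
    (h1 : Epi ((homologyFunctor A a₀).map T.mor₂)) (h2 : Mono ((homologyFunctor A a₁).map T.mor₂)) :
    IsZero ((homologyFunctor A a₁).obj T.obj₁) :=
  (HomologySequence.exact₁ T hT a₀ a₁ h).isZero_X₂
    ((HomologySequence.epi_homologyMap_mor₂_iff T hT a₀ a₁ h).1 h1)
    ((HomologySequence.mono_homologyMap_mor₂_iff T hT a₁).1 h2)

lemma cohIn_obj₁ (P : ObjectProperty A) [WSerre.IsWeakSerre P] (T : Triangle (DerivedCategory A))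
    (hT : T ∈ distTriang _) (h₂ : WSerre.cohIn P T.obj₂) (h₃ : WSerre.cohIn P T.obj₃) :
    WSerre.cohIn P T.obj₁ := by
  intro i
  exact Groth.Agent.H7.WayOut.prop_of_five P ((homologyFunctor A (i - 1)).map T.mor₂)
    (HomologySequence.δ T (i - 1) i (by omega))
    ((homologyFunctor A i).map T.mor₁) ((homologyFunctor A i).map T.mor₂) _ _ _
    (HomologySequence.exact₃ T hT (i - 1) i (by omega))
    (HomologySequence.exact₁ T hT (i - 1) i (by omega)) (HomologySequence.exact₂ T hT i)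
    (h₂ (i - 1)) (h₃ (i - 1)) (h₂ i) (h₃ i)

lemma isGE_obj₁ (T : Triangle (DerivedCategory A)) (hT : T ∈ distTriang _) (b : ℤ)
    (h₂ : tt.IsGE T.obj₂ b) (h₃ : tt.IsGE T.obj₃ b) : tt.IsGE T.obj₁ b := by
  refine (DerivedCategory.isGE_iff T.obj₁ b).2 ?_
  intro i hi
  haveI : T.obj₂.IsGE b := h₂
  haveI : T.obj₃.IsGE b := h₃
  have z2 : IsZero ((homologyFunctor A i).obj T.obj₂) := isZero_of_isGE T.obj₂ b i hi
  have z3 : IsZero ((homologyFunctor A (i - 1)).obj T.obj₃) :=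
    isZero_of_isGE T.obj₃ b (i - 1) (by omega)
  exact (HomologySequence.exact₁ T hT (i - 1) i (by omega)).isZero_of_both_isZero z3 z2

end Fiber

variable {C : Type u} [SmallCategory C] {J : GrothendieckTopology C} {O : Sheaf J CommRingCat.{u}}

/-- cohomology of a zero module vanishes. -/
lemma subsingleton_HU_of_isZero (F : ModSite.Mod O) (hF : IsZero F) (k : ℕ) (Y : C) :
    Subsingleton (ModSite.HU O F k Y) := by
  have hz : IsZero ((τ O).obj F) := (τ O).map_isZero hF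
  have h : ∀ z : Abelian.Ext.{u} (ZU J Y) ((τ O).obj F) k, z = 0 := fun z => by
    have := Abelian.Ext.comp_mk₀_id z
    rw [← this, hz.eq_of_src (𝟙 _) 0, Abelian.Ext.mk₀_zero, Abelian.Ext.comp_zero]
  exact ⟨fun x y => (h x).trans (h y).symm⟩

variable [HasDerivedCategory.{w} (ModSite.Mod O)]

/-- `Hom(j_{Y!}O_Y, E[j]) = 0` for a bounded below `E` whose cohomology sheaves have vanishing
cohomology over `Y` in the relevant degrees. -/
theorem hom_shift_eq_zero_of_vanishing (E : DerivedCategory (ModSite.Mod O)) (a₀ : ℤ)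
    (hE : tt.IsGE E a₀) (Y : C) (j : ℤ)
    (hv : ∀ a : ℤ, a ≤ j → ∀ k : ℕ, ((k : ℤ) = j - a ∨ (k : ℤ) = j + 1 - a) →
      Subsingleton (ModSite.HU O ((homologyFunctor (ModSite.Mod O) a).obj E) k Y))
    (φ : DZ O Y ⟶ E⟦j⟧) : φ = 0 := by
  have key : ∀ (d : ℕ) (a : ℤ), a + d = j + 1 →
      ∀ ψ : DZ O Y ⟶ ((tt.truncGE a).obj E)⟦j⟧, ψ = 0 := by
    intro d
    induction d with
    | zero =>
      intro a ha ψ
      have : a = j + 1 := by simpa using ha
      subst this
      haveI hLE : tt.IsLE (DZ O Y) 0 :=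
        inferInstanceAs (((singleFunctor (ModSite.Mod O) 0).obj (FO O Y)).IsLE 0)
      haveI h1 : tt.IsGE (((tt.truncGE (j + 1)).obj E)⟦j⟧) 1 :=
        tt.isGE_shift _ (j + 1) j 1 (by omega)
      exact tt.zero_of_isLE_of_isGE ψ 0 1 (by omega) inferInstance inferInstance
    | succ d ih =>
      intro a ha ψ
      have hb := bijective_truncGE_step E a (a + 1) rfl (by omega) Y j
        (fun k hk => hv a (by push_cast at ha; omega) k (Or.inl hk))
        (fun k hk => hv a (by push_cast at ha; omega) k (Or.inr hk))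
      apply hb.1
      change ψ ≫ _ = 0 ≫ _
      rw [zero_comp]
      exact ih (a + 1) (by push_cast at ha; omega) _
  haveI := hE
  haveI h1 : tt.IsGE E (min a₀ (j + 1)) := tt.isGE_of_ge E (min a₀ (j + 1)) a₀ (min_le_left _ _)
  haveI : IsIso ((tt.truncGEπ (min a₀ (j + 1))).app E) :=
    (tt.isGE_iff_isIso_truncGEπ_app _ E).1 h1
  have h2 := key (j + 1 - min a₀ (j + 1)).toNat (min a₀ (j + 1))
    (by have := min_le_right a₀ (j + 1)
        have := Int.toNat_of_nonneg (show 0 ≤ j + 1 - min a₀ (j + 1) by omega)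
        omega)
    (φ ≫ ((tt.truncGEπ (min a₀ (j + 1))).app E)⟦j⟧')
  rw [← cancel_mono (((tt.truncGEπ (min a₀ (j + 1))).app E)⟦j⟧'), h2, zero_comp]

/-- bijectivity of `Hom(j_{Y!}O_Y, K'[m]) → Hom(j_{Y!}O_Y, K[m])` for a map `K' ⟶ K` in
`D^+_A(O)` inducing isomorphisms on cohomology sheaves in the range `[m - d - 1, m + 1]`. -/
theorem bijective_step (A : ObjectProperty (ModSite.Mod O)) [WSerre.IsWeakSerre A]
    {K' K : DerivedCategory (ModSite.Mod O)} (t : K' ⟶ K)
    (hK' : WSerre.cohInPlus A K') (hK : WSerre.cohInPlus A K) (Y : C) (d : ℕ)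
    (hY : ∀ F : ModSite.Mod O, A F → ∀ k : ℕ, d < k → Subsingleton (ModSite.HU O F k Y)) (m : ℤ)
    (hiso : ∀ b : ℤ, m - d - 1 ≤ b → b ≤ m + 1 →
      IsIso ((homologyFunctor (ModSite.Mod O) b).map t)) :
    Function.Bijective (fun w : DZ O Y ⟶ K'⟦m⟧ => w ≫ t⟦m⟧') := by
  obtain ⟨F, f, δ, hT⟩ := distinguished_cocone_triangle₁ t
  have hcoh : WSerre.cohIn A F := cohIn_obj₁ A _ hT hK'.1 hK.1
  obtain ⟨b₁, hb₁⟩ := hK'.2
  obtain ⟨b₂, hb₂⟩ := hK.2
  haveI := hb₁
  haveI := hb₂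
  have hGE : tt.IsGE F (min b₁ b₂) := isGE_obj₁ _ hT (min b₁ b₂)
    (tt.isGE_of_ge K' (min b₁ b₂) b₁ (min_le_left _ _))
    (tt.isGE_of_ge K (min b₁ b₂) b₂ (min_le_right _ _))
  have hzero : ∀ a : ℤ, m - d ≤ a → a ≤ m + 1 →
      IsZero ((homologyFunctor (ModSite.Mod O) a).obj F) := by
    intro a h1 h2
    haveI i1 : IsIso ((homologyFunctor (ModSite.Mod O) (a - 1)).map t) :=
      hiso (a - 1) (by omega) (by omega)
    haveI i2 : IsIso ((homologyFunctor (ModSite.Mod O) a).map t) := hiso a (by omega) h2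
    exact isZero_homology_obj₁ _ hT (a - 1) a (by omega)
      (inferInstanceAs (Epi ((homologyFunctor (ModSite.Mod O) (a - 1)).map t)))
      (inferInstanceAs (Mono ((homologyFunctor (ModSite.Mod O) a).map t)))
  have hvan : ∀ j : ℤ, (j = m ∨ j = m + 1) → ∀ φ : DZ O Y ⟶ F⟦j⟧, φ = 0 := by
    intro j hj φ
    apply hom_shift_eq_zero_of_vanishing F (min b₁ b₂) hGE Y j _ φ
    intro a ha k hk
    by_cases hlt : a < m - d
    · exact hY _ (hcoh a) k (by omega)
    · exact subsingleton_HU_of_isZero _ (hzero a (by omega) (by omega)) k Y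
  constructor
  · exact Groth.Agent.H6.DLim.injective_comp_shift_mor₂ _ hT (DZ O Y) m (hvan m (Or.inl rfl))
  · exact Groth.Agent.H6.DLim.surjective_comp_shift_mor₂ _ hT (DZ O Y) m (m + 1) rfl
      (hvan (m + 1) (Or.inr rfl))

end Groth.Agent.H6.MDw
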