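import Mathlib
import Groth.Agent.Lib.Helper6.DerAdj1

/-!
# Compatibility of right derived functors with exact inclusions of abelian subcategories

Abstract form of: for `f : X ⟶ Y` a morphism of Noetherian schemes, the right derived functor
of `f_* : QCoh(X) ⥤ QCoh(Y)` is compatible with `Rf_* : D(O_X) ⥤ D(O_Y)`.
-/

set_option autoImplicit false

namespace Groth.Agent.H6.QcDPush

open CategoryTheory Limits DerivedCategory Groth.Agent.H6.DerAdj Groth.Agent.H6

universe v u v₂ u₂ v₃ u₃ v₄ u₄

attribute [local instance] HasDerivedCategory.standard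

section KInj

variable {A : Type u} [Category.{v} A] [Abelian A] [KInjDS.HasKInjRes A]

/-- a quasi-isomorphism between K-injective complexes is an isomorphism in the homotopy
category -/
lemma isIso_quo_map {I I' : CochainComplex A ℤ} (hI : I.IsKInjective) (hI' : I'.IsKInjective)
    (f : I ⟶ I') (hf : QuasiIso f) : IsIso ((quo A).map f) := by
  let X : KInjDS.KInj A := ⟨(quo A).obj I, hI⟩
  let Y : KInjDS.KInj A := ⟨(quo A).obj I', hI'⟩
  let g : X ⟶ Y := ObjectProperty.homMk ((quo A).map f)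
  haveI : IsIso (((KInjDS.Φ A).functor ⋙ Qh).map g) := by
    change IsIso (Qh.map ((quo A).map f))
    exact Localization.inverts Qh (HomotopyCategory.quasiIso A _) _
      ((HomotopyCategory.quotient_map_mem_quasiIso_iff f).2 hf)
  haveI : IsIso g := isIso_of_reflects_iso g ((KInjDS.Φ A).functor ⋙ Qh)
  exact (inferInstance : IsIso ((KInjDS.kInj A).ι.map g))

end KInj

section Main

variable {A : Type u} [Category.{v} A] [Abelian A] [KInjDS.HasKInjRes A]
  {A' : Type u₂} [Category.{v₂} A'] [Abelian A']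
  {B : Type u₃} [Category.{v₃} B] [Abelian B]
  {B' : Type u₄} [Category.{v₄} B'] [Abelian B']
  (i : A ⥤ B) [i.Additive] [PreservesFiniteLimits i] [PreservesFiniteColimits i]
  (i' : A' ⥤ B') [i'.Additive] [PreservesFiniteLimits i'] [PreservesFiniteColimits i']
  (G : B ⥤ B') [G.Additive] (G' : A ⥤ A') [G'.Additive]
  [(Gh G).HasRightDerivedFunctor (HomotopyCategory.quasiIso B (ComplexShape.up ℤ))]
  [(Gh G').HasRightDerivedFunctor (HomotopyCategory.quasiIso A (ComplexShape.up ℤ))]

/-- the total right derived functor of `G` -/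
noncomputable abbrev RGf : DerivedCategory B ⥤ DerivedCategory B' :=
  (Gh G).totalRightDerived Qh (HomotopyCategory.quasiIso B (ComplexShape.up ℤ))

/-- the complex-level unit of the total right derived functor of `G` -/
noncomputable def unitC : G.mapHomologicalComplex (ComplexShape.up ℤ) ⋙ Q ⟶ Q ⋙ RGf G :=
  (eG G).hom ≫ unitCx (Gh G) (RGf G)
    ((Gh G).totalRightDerivedUnit Qh (HomotopyCategory.quasiIso B (ComplexShape.up ℤ)))

instance : (RGf G).IsRightDerivedFunctor (unitC G)
    (HomologicalComplex.quasiIso B (ComplexShape.up ℤ)) :=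
  isRightDerivedFunctor_cx_of_h (Gh G) (RGf G) _ (eG G)
    ((Gh G).totalRightDerivedUnit Qh (HomotopyCategory.quasiIso B (ComplexShape.up ℤ)))

lemma isIso_unitC_app (K : CochainComplex B ℤ)
    (h : IsIso (((Gh G).totalRightDerivedUnit Qh
      (HomotopyCategory.quasiIso B (ComplexShape.up ℤ))).app ((quo B).obj K))) :
    IsIso ((unitC G).app K) := by
  haveI := h
  rw [unitC, NatTrans.comp_app, unitCx_app]
  infer_instance

/-- the complex-level functor `K ↦ G(i K)` -/
noncomputable abbrev Fc₂ : CochainComplex A ℤ ⥤ DerivedCategory B' :=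
  i.mapHomologicalComplex (ComplexShape.up ℤ) ⋙ G.mapHomologicalComplex (ComplexShape.up ℤ) ⋙ Q

/-- its homotopy-level version -/
noncomputable abbrev Fh₂ : HomotopyCategory A (ComplexShape.up ℤ) ⥤ DerivedCategory B' :=
  i.mapHomotopyCategory (ComplexShape.up ℤ) ⋙ Gh G

/-- factorization through the homotopy category -/
noncomputable def e₂ : Fc₂ i G ≅ quo A ⋙ Fh₂ i G :=
  Functor.isoWhiskerLeft _ (eG G) ≪≫ (Functor.associator _ _ _).symm ≪≫
    Functor.isoWhiskerRight (i.mapHomotopyCategoryFactors (ComplexShape.up ℤ)).symm (Gh G) ≪≫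
    Functor.associator _ _ _

/-- the candidate unit for `D(i) ⋙ RG` -/
noncomputable def α₂ : Fc₂ i G ⟶ Q ⋙ (i.mapDerivedCategory ⋙ RGf G) :=
  Functor.whiskerLeft (i.mapHomologicalComplex (ComplexShape.up ℤ)) (unitC G) ≫
    (Functor.associator _ _ _).inv ≫
    Functor.whiskerRight i.mapDerivedCategoryFactors.inv (RGf G) ≫
    (Functor.associator _ _ _).hom

lemma α₂_app (K : CochainComplex A ℤ) :
    (α₂ i G).app K = (unitC G).app ((i.mapHomologicalComplex (ComplexShape.up ℤ)).obj K) ≫
      (RGf G).map (i.mapDerivedCategoryFactors.inv.app K) := by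
  simp [α₂]

variable (hres : ∀ K : CochainComplex A ℤ, ∃ (I : CochainComplex A ℤ) (f : K ⟶ I),
    I.IsKInjective ∧ QuasiIso f ∧
    IsIso (((Gh G).totalRightDerivedUnit Qh
      (HomotopyCategory.quasiIso B (ComplexShape.up ℤ))).app
        ((quo B).obj ((i.mapHomologicalComplex (ComplexShape.up ℤ)).obj I))))

include hres in
lemma isIso_α₂_app (I : CochainComplex A ℤ) (hI : I.IsKInjective) : IsIso ((α₂ i G).app I) := by
  obtain ⟨I', f, hI', hf, hiso⟩ := hres I
  haveI : IsIso ((α₂ i G).app I') := by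
    haveI := isIso_unitC_app G _ hiso
    rw [α₂_app]
    infer_instance
  haveI : IsIso ((quo A).map f) := isIso_quo_map hI hI' f hf
  haveI : IsIso ((Fc₂ i G).map f) := by
    have h := (e₂ i G).hom.naturality f
    have h2 : (Fc₂ i G).map f =
        ((e₂ i G).hom.app I ≫ (quo A ⋙ Fh₂ i G).map f) ≫ (e₂ i G).inv.app I' :=
      (Iso.eq_comp_inv ((e₂ i G).app I')).2 h
    rw [h2]
    haveI : IsIso ((quo A ⋙ Fh₂ i G).map f) := by
      change IsIso ((Fh₂ i G).map ((quo A).map f))
      infer_instance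
    infer_instance
  haveI : IsIso (Q.map f) := (isIso_Q_map_iff_quasiIso _ f).2 hf
  haveI : IsIso ((Q ⋙ (i.mapDerivedCategory ⋙ RGf G)).map f) := by
    change IsIso ((i.mapDerivedCategory ⋙ RGf G).map (Q.map f))
    infer_instance
  have hn := (α₂ i G).naturality f
  have : (α₂ i G).app I = ((Fc₂ i G).map f ≫ (α₂ i G).app I') ≫
      inv ((Q ⋙ (i.mapDerivedCategory ⋙ RGf G)).map f) :=
    (IsIso.eq_comp_inv _).2 hn.symm
  rw [this]
  infer_instance

include hres in
lemma isRightDerivedFunctor_α₂ :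
    (i.mapDerivedCategory ⋙ RGf G).IsRightDerivedFunctor (α₂ i G)
      (HomologicalComplex.quasiIso A (ComplexShape.up ℤ)) :=
  isRightDerivedFunctor_cx_of_isIso (Fh₂ i G) _ (Fc₂ i G) (e₂ i G) (α₂ i G)
    (fun I hI => isIso_α₂_app i G hres I hI)

/-- comparison of the two complex-level functors -/
noncomputable def τ (e : G' ⋙ i' ≅ i ⋙ G) :
    (G'.mapHomologicalComplex (ComplexShape.up ℤ) ⋙ Q) ⋙ i'.mapDerivedCategory ≅ Fc₂ i G :=
  Functor.associator _ _ _ ≪≫
    Functor.isoWhiskerLeft _ i'.mapDerivedCategoryFactors ≪≫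
    (Functor.associator _ _ _).symm ≪≫
    Functor.isoWhiskerRight
      (Functor.mapHomologicalComplexCompIso (Iso.refl (G' ⋙ i')) (ComplexShape.up ℤ) ≪≫
        NatIso.mapHomologicalComplex e (ComplexShape.up ℤ) ≪≫
        (Functor.mapHomologicalComplexCompIso (Iso.refl (i ⋙ G)) (ComplexShape.up ℤ)).symm) Q ≪≫
    Functor.associator _ _ _

include hres in
theorem main (e : G' ⋙ i' ≅ i ⋙ G) :
    Nonempty (RGf G' ⋙ i'.mapDerivedCategory ≅ i.mapDerivedCategory ⋙ RGf G) := by
  haveI := isRightDerivedFunctor_comp (RGf G') (unitC G') i'.mapDerivedCategory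
  haveI := isRightDerivedFunctor_α₂ i G hres
  exact ⟨Functor.rightDerivedNatIso (RGf G' ⋙ i'.mapDerivedCategory)
    (i.mapDerivedCategory ⋙ RGf G)
    (Functor.whiskerRight (unitC G') i'.mapDerivedCategory ≫ (Functor.associator _ _ _).hom)
    (α₂ i G) (HomologicalComplex.quasiIso A (ComplexShape.up ℤ)) (τ i i' G G' e)⟩

end Main

end Groth.Agent.H6.QcDPush
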