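import Groth.Agent.Lib.Helper6.RFTri4

/-! # The natural comparison `Q(F I) ⟶ RF(Q I)` and triangles with tracked morphisms -/

open CategoryTheory Limits DerivedCategory Pretriangulated ZeroObject

namespace Groth.Agent.H6.RFTri

open Groth.Agent.H6.MVTri Groth.Agent.H6.KI Groth.Agent.H2.RDer

variable {B : Type*} [Category B] [Abelian B] [HasDerivedCategory B]
  {𝒞 : Type*} [Category 𝒞] [Abelian 𝒞] [HasDerivedCategory 𝒞]
  (F : B ⥤ 𝒞) [F.Additive]
  [(F.mapHomotopyCategory (ComplexShape.up ℤ) ⋙ Qh).HasRightDerivedFunctor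
    (HomotopyCategory.quasiIso B (ComplexShape.up ℤ))]

/-- the canonical map `Q(F I) ⟶ RF(Q I)`. -/
noncomputable def theta (I : CochainComplex B ℤ) :
    Q.obj ((F.mapHomologicalComplex (ComplexShape.up ℤ)).obj I) ⟶ (RF F).obj (Q.obj I) :=
  (quotientCompQhIso 𝒞).inv.app _ ≫
    Qh.map ((F.mapHomotopyCategoryFactors (ComplexShape.up ℤ)).inv.app I) ≫
    ((F.mapHomotopyCategory (ComplexShape.up ℤ) ⋙ Qh).totalRightDerivedUnit Qh
      (HomotopyCategory.quasiIso B (ComplexShape.up ℤ))).app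
        ((HomotopyCategory.quotient B (ComplexShape.up ℤ)).obj I) ≫
    (RF F).map ((quotientCompQhIso B).hom.app I)

lemma theta_naturality {I J : CochainComplex B ℤ} (g : I ⟶ J) :
    Q.map ((F.mapHomologicalComplex (ComplexShape.up ℤ)).map g) ≫ theta F J =
      theta F I ≫ (RF F).map (Q.map g) := by
  have h1 := (quotientCompQhIso 𝒞).inv.naturality
    ((F.mapHomologicalComplex (ComplexShape.up ℤ)).map g)
  have h2 := (F.mapHomotopyCategoryFactors (ComplexShape.up ℤ)).inv.naturality g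
  have h3 := ((F.mapHomotopyCategory (ComplexShape.up ℤ) ⋙ Qh).totalRightDerivedUnit Qh
      (HomotopyCategory.quasiIso B (ComplexShape.up ℤ))).naturality
        ((HomotopyCategory.quotient B (ComplexShape.up ℤ)).map g)
  have h4 := (quotientCompQhIso B).hom.naturality g
  dsimp at h1 h2 h3 h4
  unfold theta
  rw [reassoc_of% h1, ← Functor.map_comp_assoc, h2, Functor.map_comp_assoc, reassoc_of% h3]
  simp only [Category.assoc]
  rw [← Functor.map_comp, ← Functor.map_comp, h4]

instance isIso_theta [KInjDS.HasKInjRes B] (I : CochainComplex B ℤ) [I.IsKInjective] :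
    IsIso (theta F I) := by
  haveI := KInjDS.isIso_app_of_isKInjective
    (F.mapHomotopyCategory (ComplexShape.up ℤ) ⋙ Qh) Qh
    ((F.mapHomotopyCategory (ComplexShape.up ℤ) ⋙ Qh).totalRightDerivedUnit Qh
      (HomotopyCategory.quasiIso B (ComplexShape.up ℤ))) I
  unfold theta
  infer_instance

end Groth.Agent.H6.RFTri

namespace Groth.Agent.H6.RFTri

open Groth.Agent.H6.MVTri Groth.Agent.H6.KI Groth.Agent.H2.RDer

variable {B : Type*} [Category B] [Abelian B] [HasDerivedCategory B] [KInjDS.HasKInjRes B]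
  {𝒞 : Type*} [Category 𝒞] [Abelian 𝒞] [HasDerivedCategory 𝒞]
  (F : B ⥤ 𝒞) [F.Additive]
  [(F.mapHomotopyCategory (ComplexShape.up ℤ) ⋙ Qh).HasRightDerivedFunctor
    (HomotopyCategory.quasiIso B (ComplexShape.up ℤ))]

/-- the image under `RF` of a distinguished triangle is, up to isomorphisms of the vertices
compatible with the first two maps, a distinguished triangle. -/
theorem exists_distTriang_RF' (T : Triangle (DerivedCategory B)) (hT : T ∈ distTriang _) :
    ∃ (T' : Triangle (DerivedCategory 𝒞)) (_ : T' ∈ distTriang _)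
      (u₁ : T'.obj₁ ≅ (RF F).obj T.obj₁) (u₂ : T'.obj₂ ≅ (RF F).obj T.obj₂)
      (u₃ : T'.obj₃ ≅ (RF F).obj T.obj₃),
      T'.mor₁ ≫ u₂.hom = u₁.hom ≫ (RF F).map T.mor₁ ∧
      T'.mor₂ ≫ u₃.hom = u₂.hom ≫ (RF F).map T.mor₂ := by
  obtain ⟨I, hI, ⟨e₁⟩⟩ := exists_kinj T.obj₁
  obtain ⟨J, hJ, ⟨e₂⟩⟩ := exists_kinj T.obj₂
  haveI := hI
  haveI := hJ
  obtain ⟨g, hg⟩ := exists_Q_map_eq_of_isKInjective I J (e₁.inv ≫ T.mor₁ ≫ e₂.hom)
  let T₀ := Q.mapTriangle.obj (CochainComplex.mappingCone.triangle g)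
  have hT₀ : T₀ ∈ distTriang _ := by
    rw [mem_distTriang_iff]
    exact ⟨_, _, g, ⟨Iso.refl _⟩⟩
  let e := isoTriangleOfIso₁₂ T T₀ hT hT₀ e₁ e₂ (by
    change T.mor₁ ≫ e₂.hom = e₁.hom ≫ Q.map g
    rw [hg, Iso.hom_inv_id_assoc])
  let e₃ : T.obj₃ ≅ Q.obj (CochainComplex.mappingCone g) := Triangle.π₃.mapIso e
  have hc₂ : T.mor₂ ≫ e₃.hom = e₂.hom ≫ Q.map (CochainComplex.mappingCone.inr g) :=
    e.hom.comm₂
  haveI : (CochainComplex.mappingCone g).IsKInjective := RlimDer.isKInjective_mappingCone g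
  let Fg := (F.mapHomologicalComplex (ComplexShape.up ℤ)).map g
  let T' := Q.mapTriangle.obj (CochainComplex.mappingCone.triangle Fg)
  have hT' : T' ∈ distTriang _ := by
    rw [mem_distTriang_iff]
    exact ⟨_, _, Fg, ⟨Iso.refl _⟩⟩
  haveI i1 : IsIso (theta F I) := isIso_theta F I
  haveI i2 : IsIso (theta F J) := isIso_theta F J
  haveI i3 : IsIso (theta F (CochainComplex.mappingCone g)) := isIso_theta F _
  let u₁ : T'.obj₁ ≅ (RF F).obj T.obj₁ := (@asIso _ _ _ _ (theta F I) i1) ≪≫ (RF F).mapIso e₁.symm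
  let u₂ : T'.obj₂ ≅ (RF F).obj T.obj₂ := (@asIso _ _ _ _ (theta F J) i2) ≪≫ (RF F).mapIso e₂.symm
  let u₃ : T'.obj₃ ≅ (RF F).obj T.obj₃ :=
    Q.mapIso (CochainComplex.mappingCone.mapHomologicalComplexIso g F).symm ≪≫
      (@asIso _ _ _ _ (theta F (CochainComplex.mappingCone g)) i3) ≪≫ (RF F).mapIso e₃.symm
  refine ⟨T', hT', u₁, u₂, u₃, ?_, ?_⟩
  · change Q.map Fg ≫ theta F J ≫ (RF F).map e₂.inv =
      (theta F I ≫ (RF F).map e₁.inv) ≫ (RF F).map T.mor₁
    rw [← Category.assoc, theta_naturality, Category.assoc, Category.assoc, ← Functor.map_comp,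
      ← Functor.map_comp, hg]
    simp only [Category.assoc, Iso.hom_inv_id, Category.comp_id]
  · change Q.map (CochainComplex.mappingCone.inr Fg) ≫
      Q.map (CochainComplex.mappingCone.mapHomologicalComplexIso g F).inv ≫
        theta F (CochainComplex.mappingCone g) ≫ (RF F).map e₃.inv =
      (theta F J ≫ (RF F).map e₂.inv) ≫ (RF F).map T.mor₂
    have h1 : CochainComplex.mappingCone.inr Fg ≫
        (CochainComplex.mappingCone.mapHomologicalComplexIso g F).inv =
        (F.mapHomologicalComplex (ComplexShape.up ℤ)).map (CochainComplex.mappingCone.inr g) := by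
      rw [← CochainComplex.mappingCone.map_inr g F, Category.assoc, Iso.hom_inv_id,
        Category.comp_id]
    have h2 : Q.map (CochainComplex.mappingCone.inr g) ≫ e₃.inv = e₂.inv ≫ T.mor₂ := by
      rw [← cancel_mono e₃.hom, Category.assoc, Iso.inv_hom_id, Category.comp_id, Category.assoc,
        hc₂, Iso.inv_hom_id_assoc]
    rw [← Category.assoc, ← Functor.map_comp, h1, ← Category.assoc, theta_naturality,
      Category.assoc, Category.assoc, ← Functor.map_comp, ← Functor.map_comp, h2]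

end Groth.Agent.H6.RFTri
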