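import Mathlib
import Groth.Prelude.Def_WeakSerre
import Groth.Agent.Lib.Helper6.QcDPush1
import Groth.Agent.Lib.Helper6.DCohEq8
import Groth.Agent.Lib.Helper6.RFTri9
import Groth.Agent.Lib.Helper6.MDw6
import Groth.Agent.Lib.Helper6.LerayBB3
import Groth.Agent.Lib.Helper2.DPlusFF2

/-!
# `D(𝒜) ≃ D_𝒜(ℬ)` from an amplitude bound for the derived right adjoint (abstract part)
-/

set_option autoImplicit false

namespace Groth.Agent.H6.DQEq

open CategoryTheory Limits DerivedCategory Pretriangulated Groth.Agent.H6.DerAdj Groth.Agent.H6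
  Groth.Agent.H6.QcDPush Groth.Agent.H6.DCohEq Groth.Agent.H6.RFTri Groth.Agent.H6.MVTri
  Groth.Agent.H6.LerayBB

universe v₁ u₁ v₂ u₂

attribute [local instance] HasDerivedCategory.standard

variable {𝒜 : Type u₁} [Category.{v₁} 𝒜] [Abelian 𝒜] {ℬ : Type u₂} [Category.{v₂} ℬ] [Abelian ℬ]
  [KInjDS.HasKInjRes ℬ]
  (i : 𝒜 ⥤ ℬ) [i.Additive] [PreservesFiniteLimits i] [PreservesFiniteColimits i]
  {Qf : ℬ ⥤ 𝒜} (adj : i ⊣ Qf) [Qf.Additive]
  [(Gh Qf).HasRightDerivedFunctor (HomotopyCategory.quasiIso ℬ (ComplexShape.up ℤ))]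

/-- the derived adjunction `D(i) ⊣ RQ`. -/
noncomputable abbrev dadj : i.mapDerivedCategory ⊣ RGf Qf :=
  derivedAdj adj (RGf Qf) (unitC Qf)

omit [PreservesFiniteLimits i] [PreservesFiniteColimits i] in
lemma isIso_counit_Q [PreservesFiniteLimits i] [PreservesFiniteColimits i]
    (K : CochainComplex ℬ ℤ) (hK : K.IsKInjective)
    (h : ∀ n, IsIso (adj.counit.app (K.X n))) :
    IsIso ((dadj i adj).counit.app (Q.obj K)) := by
  haveI := hK
  haveI := isIso_unit_app (RGf Qf) (unitC Qf) K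
  haveI : IsIso ((Groth.Agent.LD.DAdj.mapHCAdj adj (ComplexShape.up ℤ)).counit.app K) := by
    haveI : ∀ n, IsIso (((Groth.Agent.LD.DAdj.mapHCAdj adj
        (ComplexShape.up ℤ)).counit.app K).f n) := fun n => h n
    exact HomologicalComplex.Hom.isIso_of_components _
  exact IsIso.of_isIso_fac_left (derivedAdj_counit_fac adj (RGf Qf) (unitC Qf) K)

lemma isIso_of_isIso_map [i.Full] [i.Faithful] {M N : DerivedCategory 𝒜} (f : M ⟶ N)
    (h : IsIso (i.mapDerivedCategory.map f)) : IsIso f := by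
  rw [DerivedCategory.isIso_iff]
  intro n
  haveI := h
  have h1 : IsIso ((i.mapDerivedCategory ⋙ homologyFunctor ℬ n).map f) := by
    change IsIso ((homologyFunctor ℬ n).map (i.mapDerivedCategory.map f))
    infer_instance
  have h2 : IsIso ((homologyFunctor 𝒜 n ⋙ i).map f) :=
    (NatIso.isIso_map_iff (homologyMapDerivedNatIso i n) f).1 h1
  haveI : IsIso (i.map ((homologyFunctor 𝒜 n).map f)) := h2
  exact isIso_of_reflects_iso ((homologyFunctor 𝒜 n).map f) i

section Trunc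

variable (P : ObjectProperty ℬ) [WSerre.IsWeakSerre P]

omit [KInjDS.HasKInjRes ℬ] in
/-- the truncation `τ_{≥ a}` of an object with homology in `P` has homology in `P`. -/
lemma cohIn_truncGE (K₀ : CochainComplex ℬ ℤ) (hK : WSerre.cohIn P (Q.obj K₀)) (a : ℤ) :
    WSerre.cohIn P (Q.obj (K₀.truncGE a)) := by
  intro q
  by_cases h : a ≤ q
  · haveI := isIso_homologyMap_πTruncGE K₀ a q h
    exact P.prop_of_iso (asIso ((homologyFunctor ℬ q).map (Q.map (K₀.πTruncGE a)))) (hK q)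
  · refine P.prop_of_isZero ?_
    refine IsZero.of_iso ?_ ((homologyFunctorFactors ℬ q).app (K₀.truncGE a))
    exact (K₀.truncGE a).isZero_of_isGE a q (by omega)

theorem isIso_counit_of_bounds [i.Full] [i.Faithful] (N : ℕ)
    (hAB : ∀ K : DerivedCategory ℬ, WSerre.cohIn P K → ∀ b : ℤ,
      (∀ q : ℤ, b < q → IsZero ((homologyFunctor ℬ q).obj K)) → ∀ m : ℤ, b + N < m →
        IsZero ((homologyFunctor 𝒜 m).obj ((RGf Qf).obj K)))
    (hBB : ∀ K : DerivedCategory ℬ, WSerre.cohIn P K → (∃ a : ℤ, K.IsGE a) →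
      IsIso ((dadj i adj).counit.app K))
    (K : DerivedCategory ℬ) (hK : WSerre.cohIn P K) : IsIso ((dadj i adj).counit.app K) := by
  let K₀ := Q.objPreimage K
  let e : Q.obj K₀ ≅ K := Q.objObjPreimageIso K
  rw [← NatTrans.isIso_app_iff_of_iso (dadj i adj).counit e]
  have hK₀ : WSerre.cohIn P (Q.obj K₀) :=
    fun q => P.prop_of_iso ((homologyFunctor ℬ q).mapIso e.symm) (hK q)
  rw [DerivedCategory.isIso_iff]
  intro m
  obtain ⟨Z, g, δ, hT⟩ := distinguished_cocone_triangle₁ (Q.map (K₀.πTruncGE (m - N - 1)))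
  have hK' : WSerre.cohIn P (Q.obj (K₀.truncGE (m - N - 1))) :=
    cohIn_truncGE P K₀ hK₀ (m - N - 1)
  have hZ : WSerre.cohIn P Z := MDw.cohIn_obj₁ P _ hT hK₀ hK'
  have hZv : ∀ q : ℤ, m - N - 1 - 1 < q → IsZero ((homologyFunctor ℬ q).obj Z) := by
    intro q hq
    refine MDw.isZero_homology_obj₁ _ hT (q - 1) q (by omega) ?_ ?_
    · exact epi_homologyMap_πTruncGE K₀ (m - N - 1) (q - 1)
    · haveI := isIso_homologyMap_πTruncGE K₀ (m - N - 1) q (by omega)
      change Mono ((homologyFunctor ℬ q).map (Q.map (K₀.πTruncGE (m - N - 1))))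
      infer_instance
  have hz1 := hAB Z hZ (m - N - 1 - 1) hZv m (by omega)
  have hz2 := hAB Z hZ (m - N - 1 - 1) hZv (m + 1) (by omega)
  obtain ⟨T', hT', u₁, u₂, u₃, c₁, c₂⟩ := exists_distTriang_RF' Qf
    (Triangle.mk g (Q.map (K₀.πTruncGE (m - N - 1))) δ) hT
  have hz1' : IsZero ((homologyFunctor 𝒜 m).obj T'.obj₁) :=
    hz1.of_iso ((homologyFunctor 𝒜 m).mapIso u₁)
  have hz2' : IsZero ((homologyFunctor 𝒜 (m + 1)).obj T'.obj₁) :=
    hz2.of_iso ((homologyFunctor 𝒜 (m + 1)).mapIso u₁)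
  haveI : Mono ((homologyFunctor 𝒜 m).map T'.mor₂) :=
    (HomologySequence.mono_homologyMap_mor₂_iff T' hT' m).2 (hz1'.eq_of_src _ _)
  haveI : Epi ((homologyFunctor 𝒜 m).map T'.mor₂) :=
    (HomologySequence.epi_homologyMap_mor₂_iff T' hT' m (m + 1) rfl).2 (hz2'.eq_of_tgt _ _)
  haveI i0 : IsIso ((homologyFunctor 𝒜 m).map T'.mor₂) := isIso_of_mono_of_epi _
  have i1 : IsIso ((homologyFunctor 𝒜 m).map
      ((RGf Qf).map (Q.map (K₀.πTruncGE (m - N - 1))))) := by
    let u₂' : T'.obj₂ ≅ (RGf Qf).obj (Q.obj K₀) := u₂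
    let u₃' : T'.obj₃ ≅ (RGf Qf).obj (Q.obj (K₀.truncGE (m - N - 1))) := u₃
    have c₂' : T'.mor₂ ≫ u₃'.hom = u₂'.hom ≫ (RGf Qf).map (Q.map (K₀.πTruncGE (m - N - 1))) := c₂
    have e' : (RGf Qf).map (Q.map (K₀.πTruncGE (m - N - 1))) =
        u₂'.inv ≫ T'.mor₂ ≫ u₃'.hom := by
      rw [c₂', Iso.inv_hom_id_assoc]
    rw [e', Functor.map_comp, Functor.map_comp]
    infer_instance
  haveI i2 : IsIso ((homologyFunctor ℬ m).map (i.mapDerivedCategory.map
      ((RGf Qf).map (Q.map (K₀.πTruncGE (m - N - 1)))))) := by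
    have h1 : IsIso ((homologyFunctor 𝒜 m ⋙ i).map
        ((RGf Qf).map (Q.map (K₀.πTruncGE (m - N - 1))))) := by
      change IsIso (i.map ((homologyFunctor 𝒜 m).map
        ((RGf Qf).map (Q.map (K₀.πTruncGE (m - N - 1))))))
      haveI := i1
      infer_instance
    exact (NatIso.isIso_map_iff (homologyMapDerivedNatIso i m) _).2 h1
  haveI i3 : IsIso ((homologyFunctor ℬ m).map (Q.map (K₀.πTruncGE (m - N - 1)))) :=
    isIso_homologyMap_πTruncGE K₀ (m - N - 1) m (by omega)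
  haveI i4 : IsIso ((dadj i adj).counit.app (Q.obj (K₀.truncGE (m - N - 1)))) :=
    hBB _ hK' ⟨m - N - 1, inferInstance⟩
  have hnat := (dadj i adj).counit.naturality (Q.map (K₀.πTruncGE (m - N - 1)))
  have hh : (homologyFunctor ℬ m).map ((dadj i adj).counit.app (Q.obj K₀)) ≫
      (homologyFunctor ℬ m).map (Q.map (K₀.πTruncGE (m - N - 1))) =
      (homologyFunctor ℬ m).map (i.mapDerivedCategory.map
        ((RGf Qf).map (Q.map (K₀.πTruncGE (m - N - 1))))) ≫
      (homologyFunctor ℬ m).map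
        ((dadj i adj).counit.app (Q.obj (K₀.truncGE (m - N - 1)))) := by
    rw [← Functor.map_comp, ← Functor.map_comp]
    exact congrArg _ hnat.symm
  exact IsIso.of_isIso_fac_right hh

end Trunc

section Main

variable (P : ObjectProperty ℬ) [WSerre.IsWeakSerre P]

theorem isIso_counit_of_isGE [i.Full] [i.Faithful] (hP : ∀ M, P M → i.essImage M)
    (hinj : ∀ X' : 𝒜, ∃ (Y' : 𝒜) (u : X' ⟶ Y'), Mono u ∧ Injective (i.obj Y'))
    (K : DerivedCategory ℬ) (hK : WSerre.cohIn P K) (a : ℤ) [K.IsGE a] :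
    IsIso ((dadj i adj).counit.app K) := by
  obtain ⟨I, hI, hIinj, ⟨e⟩⟩ :=
    Groth.Agent.H2.DPlusFF.essSurj i hinj K a (fun q => hP _ (hK q))
  let e' : Q.obj ((i.mapHomologicalComplex (ComplexShape.up ℤ)).obj I) ≅ K :=
    (i.mapDerivedCategoryFactors.app I).symm ≪≫ e
  rw [← NatTrans.isIso_app_iff_of_iso (dadj i adj).counit e']
  apply isIso_counit_Q
  · haveI := hI
    haveI : CochainComplex.IsStrictlyGE ((i.mapHomologicalComplex (ComplexShape.up ℤ)).obj I) a :=
      inferInstance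
    haveI : ∀ n, Injective (((i.mapHomologicalComplex (ComplexShape.up ℤ)).obj I).X n) := hIinj
    exact CochainComplex.isKInjective_of_injective _ a
  · intro n
    change IsIso (adj.counit.app (i.obj (I.X n)))
    haveI : IsIso adj.unit := adj.unit_isIso_of_L_fully_faithful
    have h := adj.left_triangle_components (I.X n)
    exact IsIso.of_isIso_fac_left h

include adj in
theorem main_abstract [i.Full] [i.Faithful] (hP : ∀ M, P M ↔ i.essImage M)
    (hinj : ∀ X' : 𝒜, ∃ (Y' : 𝒜) (u : X' ⟶ Y'), Mono u ∧ Injective (i.obj Y'))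
    (N : ℕ)
    (hAB : ∀ K : DerivedCategory ℬ, WSerre.cohIn P K → ∀ b : ℤ,
      (∀ q : ℤ, b < q → IsZero ((homologyFunctor ℬ q).obj K)) → ∀ m : ℤ, b + N < m →
        IsZero ((homologyFunctor 𝒜 m).obj ((RGf Qf).obj K))) :
    i.mapDerivedCategory.Full ∧ i.mapDerivedCategory.Faithful ∧
    ∀ K : DerivedCategory ℬ, WSerre.cohIn P K ↔
      ∃ M, Nonempty (i.mapDerivedCategory.obj M ≅ K) := by
  have hc : ∀ K, WSerre.cohIn P K → IsIso ((dadj i adj).counit.app K) :=
    isIso_counit_of_bounds i adj P N hAB (fun K hK ha => by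
      obtain ⟨a, ha⟩ := ha
      haveI := ha
      exact isIso_counit_of_isGE i adj P (fun M h => (hP M).1 h) hinj K hK a)
  have himg : ∀ M : DerivedCategory 𝒜, WSerre.cohIn P (i.mapDerivedCategory.obj M) :=
    fun M q => (hP _).2
      ⟨(homologyFunctor 𝒜 q).obj M, ⟨((homologyMapDerivedNatIso i q).app M).symm⟩⟩
  haveI : IsIso (dadj i adj).unit := by
    haveI : ∀ M, IsIso ((dadj i adj).unit.app M) := fun M => by
      apply isIso_of_isIso_map i
      haveI := hc _ (himg M)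
      have h := (dadj i adj).left_triangle_components M
      haveI : IsIso (i.mapDerivedCategory.map ((dadj i adj).unit.app M) ≫
          (dadj i adj).counit.app (i.mapDerivedCategory.obj M)) := by
        rw [h]
        exact IsIso.id _
      exact IsIso.of_isIso_comp_right _
        ((dadj i adj).counit.app (i.mapDerivedCategory.obj M))
    exact NatIso.isIso_of_isIso_app _
  refine ⟨(dadj i adj).fullyFaithfulLOfIsIsoUnit.full,
    (dadj i adj).fullyFaithfulLOfIsIsoUnit.faithful, fun K => ⟨fun hK => ?_, ?_⟩⟩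
  · haveI := hc K hK
    exact ⟨(RGf Qf).obj K, ⟨asIso ((dadj i adj).counit.app K)⟩⟩
  · rintro ⟨M, ⟨e⟩⟩
    exact fun q => P.prop_of_iso ((homologyFunctor ℬ q).mapIso e) (himg M q)

end Main

end Groth.Agent.H6.DQEq
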