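import Groth.Agent.Lib.Helper6.LerayBB5
import Groth.Agent.Lib.Lead.QC.ProjFormulaCoh
import Groth.Agent.Lib.Lead.QCQS.Main
import Groth.Agent.Lib.Helper7.LR4

/-! # `f_* F ⟶ Rf_* F` is an isomorphism for a complex of quasi-coherent `f_*`-acyclic modules,
`f` quasi-compact quasi-separated: localization on the base -/

universe u
open CategoryTheory Limits Opposite Pretriangulated AlgebraicGeometry TopologicalSpace

namespace Groth.Agent.H6.LerayBB

open DerivedCategory Groth.Agent.H6.KI Groth.Agent.H6.MD Groth.Agent.H6.MVTri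
open Groth.Agent.LD.SC Groth.Agent.H6.RFTri Groth.Agent.H6.QcVan Groth.Agent.H6.DerSt

/-- acyclicity of a complex of modules is local. -/
lemma acyclic_of_locally {S : Scheme.{u}} (C : CochainComplex S.Modules ℤ)
    (h : ∀ V : S.affineOpens, (((Scheme.Modules.restrictFunctor V.1.ι).mapHomologicalComplex
      (ComplexShape.up ℤ)).obj C).Acyclic) : C.Acyclic := by
  intro m
  rw [HomologicalComplex.exactAt_iff_isZero_homology]
  apply Groth.Agent.LD.QC.isZero_of_locally_isZero_restrict
  intro y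
  obtain ⟨V, hV, hyV, -⟩ := (Opens.isBasis_iff_nbhd.mp (Scheme.isBasis_affineOpens S))
    (show y ∈ (⊤ : S.Opens) from trivial)
  refine ⟨V, hyV, ?_⟩
  have h1 := h ⟨V, hV⟩ m
  rw [HomologicalComplex.exactAt_iff_isZero_homology] at h1
  haveI : (Scheme.Modules.restrictFunctor (Scheme.Opens.ι V)).PreservesHomology :=
    Functor.preservesHomology_of_preservesEpis_and_kernels _
  exact IsZero.of_iso h1
    ((C.sc m).mapHomologyIso (Scheme.Modules.restrictFunctor (Scheme.Opens.ι V))).symm

/-- being a quasi-isomorphism of complexes of modules is local. -/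
lemma quasiIso_of_locally {S : Scheme.{u}} {M N : CochainComplex S.Modules ℤ} (φ : M ⟶ N)
    (h : ∀ V : S.affineOpens, QuasiIso (((Scheme.Modules.restrictFunctor V.1.ι).mapHomologicalComplex
      (ComplexShape.up ℤ)).map φ)) : QuasiIso φ := by
  apply Groth.Agent.H6.KRes.quasiIso_of_acyclic_mappingCone
  apply acyclic_of_locally
  intro V m
  haveI := h V
  have h1 : (CochainComplex.mappingCone (((Scheme.Modules.restrictFunctor
      V.1.ι).mapHomologicalComplex (ComplexShape.up ℤ)).map φ)).ExactAt m :=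
    Groth.Agent.H6.KRes.exactAt_mappingCone _ m inferInstance inferInstance
  exact h1.of_iso (CochainComplex.mappingCone.mapHomologicalComplexIso φ
    (Scheme.Modules.restrictFunctor V.1.ι)).symm

end Groth.Agent.H6.LerayBB

namespace Groth.Agent.H6.LerayBB

open DerivedCategory Groth.Agent.H6.KI Groth.Agent.H6.MD Groth.Agent.H6.MVTri
open Groth.Agent.LD.SC Groth.Agent.H6.RFTri Groth.Agent.H6.QcVan Groth.Agent.H6.DerSt

attribute [local instance] HasDerivedCategory.standard

/-- the arrows `F(j)` and `G(j)` are isomorphic for naturally isomorphic additive functors. -/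
noncomputable def arrowIsoOfNatIso {A B : Type*} [Category A] [Preadditive A] [Category B]
    [Preadditive B] {F G : A ⥤ B} [F.Additive] [G.Additive] (α : F ≅ G)
    {K L : CochainComplex A ℤ} (j : K ⟶ L) :
    Arrow.mk ((F.mapHomologicalComplex (ComplexShape.up ℤ)).map j) ≅
      Arrow.mk ((G.mapHomologicalComplex (ComplexShape.up ℤ)).map j) :=
  Arrow.isoMk ((NatIso.mapHomologicalComplex α (ComplexShape.up ℤ)).app K)
    ((NatIso.mapHomologicalComplex α (ComplexShape.up ℤ)).app L)
    ((NatIso.mapHomologicalComplex α (ComplexShape.up ℤ)).hom.naturality j).symm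

theorem isIso_theta_of_qcqs {X S : Scheme.{u}} (f : X ⟶ S) [QuasiCompact f] [QuasiSeparated f]
    [HasInjectiveResolutions X.Modules] [DCoh.HasRpush f]
    (K : CochainComplex X.Modules ℤ) (hq : ∀ n : ℤ, Coh.IsQCoh (K.X n))
    (hac : ∀ (n : ℤ) (i : ℕ), 0 < i → IsZero ((Coh.Rpush f i).obj (K.X n))) :
    IsIso (theta (Scheme.Modules.pushforward f) K) := by
  haveI := Groth.Agent.H6.RpRes.hasKInjRes_modules X
  obtain ⟨I, j, hI, hj⟩ := KInjDS.HasKInjRes.exists_res K
  haveI := hI
  haveI := hj
  rw [isIso_theta_iff_quasiIso (Scheme.Modules.pushforward f) j]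
  apply quasiIso_of_locally
  intro V
  haveI : DCoh.HasRpush (f ∣_ V.1) := Groth.Agent.Helper7.LR4.hasRpush _
  haveI : IsAffine V.1.toScheme := V.2
  haveI := Groth.Agent.H6.RpRes.hasKInjRes_modules (f ⁻¹ᵁ V.1).toScheme
  have e := arrowIsoOfNatIso (Groth.Agent.LD.QCQS.baseChangeIso f V.1) j
  refine (quasiIso_iff_of_arrow_mk_iso _ _ e).2 ?_
  haveI : (Scheme.Modules.restrictFunctor (f ⁻¹ᵁ V.1).ι).PreservesHomology :=
    Functor.preservesHomology_of_preservesEpis_and_kernels _
  haveI : CochainComplex.IsKInjective (((Scheme.Modules.restrictFunctor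
      (f ⁻¹ᵁ V.1).ι).mapHomologicalComplex (ComplexShape.up ℤ)).obj I) :=
    Groth.Agent.H6.RpRes.isKInjective_restrict _ I
  haveI : QuasiIso (((Scheme.Modules.restrictFunctor
      (f ⁻¹ᵁ V.1).ι).mapHomologicalComplex (ComplexShape.up ℤ)).map j) := inferInstance
  change QuasiIso (((Scheme.Modules.pushforward (f ∣_ V.1)).mapHomologicalComplex
    (ComplexShape.up ℤ)).map (((Scheme.Modules.restrictFunctor
      (f ⁻¹ᵁ V.1).ι).mapHomologicalComplex (ComplexShape.up ℤ)).map j))
  rw [← isIso_theta_iff_quasiIso (Scheme.Modules.pushforward (f ∣_ V.1))]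
  haveI := Groth.Agent.LD.QCQS.hasInjRes (f ⁻¹ᵁ V.1).toScheme
  apply isIso_theta_of_compact (f ∣_ V.1)
  · intro n
    haveI : (K.X n).IsQuasicoherent := hq n
    exact inferInstanceAs ((K.X n).restrict (f ⁻¹ᵁ V.1).ι).IsQuasicoherent
  · intro n i hi
    obtain ⟨e'⟩ := Groth.Agent.LD.QCQS.nonempty_restrict_Rpush_iso f V.1 (K.X n) i
    refine IsZero.of_iso ?_ e'.symm
    exact Functor.map_isZero (Scheme.Modules.restrictFunctor V.1.ι) (hac n i hi)

end Groth.Agent.H6.LerayBB

namespace Groth.Agent.H6.LerayBB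

open DerivedCategory Groth.Agent.H6.RFTri

attribute [local instance] HasDerivedCategory.standard

theorem s1035 {X S : Scheme.{u}} (f : X ⟶ S) [QuasiCompact f] [QuasiSeparated f]
    [HasInjectiveResolutions X.Modules] [DCoh.HasRpush f]
    (F : CochainComplex X.Modules ℤ) (hq : ∀ n : ℤ, Coh.IsQCoh (F.X n))
    (hac : ∀ (n : ℤ) (i : ℕ), 0 < i → IsZero ((Coh.Rpush f i).obj (F.X n))) :
    IsIso (((DCoh.pushKh f).totalRightDerivedUnit DerivedCategory.Qh
      (HomotopyCategory.quasiIso X.Modules (ComplexShape.up ℤ))).app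
      ((HomotopyCategory.quotient X.Modules (ComplexShape.up ℤ)).obj F)) :=
  isIso_unit_app_of_isIso_theta (Scheme.Modules.pushforward f) F
    (isIso_theta_of_qcqs f F hq hac)

end Groth.Agent.H6.LerayBB
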