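import Mathlib
import Groth.Prelude.Def_DCoh2
import Groth.Agent.Lib.Helper6.QcDPush1
import Groth.Agent.Lib.Helper6.DCohEq9
import Groth.Agent.Lib.Helper6.LerayBB6
import Groth.Agent.Lib.Lead.QCGroth
import Groth.Agent.Lib.Lead.Inj.HullB

/-! # `QCoh(X)` is Grothendieck abelian for qcqs `X`; compatibility of `R(f_*|QCoh)` with `Rf_*`
for Noetherian schemes -/

universe u
open CategoryTheory Limits AlgebraicGeometry

attribute [local instance] HasDerivedCategory.standard

namespace Groth.Agent.H6.QcDPush

open Groth.Agent.LD Groth.Agent.H6.DCohEq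

variable (X : Scheme.{u})

lemma qcoh_hasSeparator [CompactSpace X] [QuasiSeparatedSpace X] :
    HasSeparator (QCohCat.QCoh X) := by
  obtain ⟨𝒢, h𝒢s, h𝒢⟩ := QCGroth.exists_small_separating X
  haveI : Small.{u} (Subtype 𝒢) := h𝒢s
  let f : Shrink.{u} (Subtype 𝒢) → QCohCat.QCoh X := fun b => ((equivShrink _).symm b).1
  have hf : ObjectProperty.IsSeparating (.ofObj f) := h𝒢.of_le (by
    intro M hM
    have : f (equivShrink _ ⟨M, hM⟩) = M := by simp [f]
    rw [← this]
    exact ObjectProperty.ofObj_apply f _)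
  exact ⟨∐ f, hf.isSeparator_coproduct⟩

lemma qcoh_ab5 : AB5OfSize.{u, u} (QCohCat.QCoh X) := ⟨fun J _ _ => by
  haveI := QCGroth.isClosedUnderColimitsOfShape X J
  haveI := QCGroth.isGrothendieckAbelian_modules X
  exact HasExactColimitsOfShape.domain_of_functor J (QCohCat.isQCoh X).ι⟩

lemma qcoh_isGrothendieckAbelian [CompactSpace X] [QuasiSeparatedSpace X] :
    IsGrothendieckAbelian.{u} (QCohCat.QCoh X) where
  hasFilteredColimitsOfSize := inferInstance
  ab5OfSize := qcoh_ab5 X
  hasSeparator := qcoh_hasSeparator X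

/-- on a locally Noetherian scheme, injective objects of `QCoh(X)` are injective
`O_X`-modules. -/
lemma injective_obj_of_injective [IsLocallyNoetherian X] (M : QCohCat.QCoh X) [Injective M] :
    Injective M.obj := by
  obtain ⟨E, i, hi, hE, hEq⟩ := HullB.exists_qcoh_injective M.obj M.property
  let i' : M ⟶ (⟨E, hEq⟩ : QCohCat.QCoh X) := ObjectProperty.homMk i
  haveI : Mono ((QCohCat.isQCoh X).ι.map i') := hi
  haveI : Mono i' := (QCohCat.isQCoh X).ι.mono_of_mono_map inferInstance
  have hr : i' ≫ Injective.factorThru (𝟙 M) i' = 𝟙 M := Injective.comp_factorThru _ _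
  haveI := hE
  exact Retract.injective (Y := E)
    { i := i
      r := (Injective.factorThru (𝟙 M) i').hom
      retract := congrArg (fun φ => φ.hom) hr }

end Groth.Agent.H6.QcDPush
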