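import Mathlib
import Groth.Prelude.Def_DCoh2
import Groth.Prelude.Def_DCoh3
import Groth.Prelude.Def_CxOX
import Groth.Agent.Lib.Helper6.DQEq1
import Groth.Agent.Lib.Helper6.QcDPush3
import Groth.Agent.Lib.Helper6.QcVan6

/-! # The derived coherator and its compatibility with open immersions -/

universe u
open CategoryTheory Limits AlgebraicGeometry

attribute [local instance] HasDerivedCategory.standard

namespace Groth.Agent.H6.DQEq

open Groth.Agent.LD Groth.Agent.H6.DCohEq DerivedCategory Groth.Agent.H6.QcDPush
  Groth.Agent.H6.DerAdj Groth.Agent.H6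

section Setup

variable (Z : Scheme.{u})

/-- the category of quasi-coherent modules -/
abbrev QC : Type (u + 1) := (PQ Z).FullSubcategory

/-- the inclusion -/
abbrev ιq : QC Z ⥤ Z.Modules := (PQ Z).ι

instance : KInjDS.HasKInjRes Z.Modules := Groth.Agent.H6.RpRes.hasKInjRes_modules Z

variable [CompactSpace Z] [QuasiSeparatedSpace Z]

instance : IsGrothendieckAbelian.{u} (QC Z) := qcoh_isGrothendieckAbelian Z

lemma ιq_isLeftAdjoint : (ιq Z).IsLeftAdjoint := by
  haveI : PreservesColimitsOfSize.{u, u} (QCohCat.isQCoh Z).ι := ⟨fun {J} _ => by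
    haveI := QCGroth.isClosedUnderColimitsOfShape Z J
    exact (inferInstance : PreservesColimitsOfShape J (QCohCat.isQCoh Z).ι)⟩
  exact QCGroth.isLeftAdjoint_of_preservesColimits (X := Z) (QCohCat.isQCoh Z).ι

/-- the coherator -/
noncomputable def Qz : Z.Modules ⥤ QC Z :=
  haveI := ιq_isLeftAdjoint Z
  (ιq Z).rightAdjoint

/-- the adjunction between the inclusion and the coherator -/
noncomputable def adjz : ιq Z ⊣ Qz Z :=
  haveI := ιq_isLeftAdjoint Z
  Adjunction.ofIsLeftAdjoint (ιq Z)

instance : (Qz Z).Additive := (adjz Z).right_adjoint_additive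

instance : (Gh (Qz Z)).HasRightDerivedFunctor
    (HomotopyCategory.quasiIso Z.Modules (ComplexShape.up ℤ)) := by
  haveI := KInjDS.hasPointwiseRightDerivedFunctor (Gh (Qz Z))
  infer_instance

/-- the derived coherator -/
noncomputable abbrev RQz : DerivedCategory Z.Modules ⥤ DerivedCategory (QC Z) := RGf (Qz Z)

/-- the derived adjunction -/
noncomputable abbrev dz : (ιq Z).mapDerivedCategory ⊣ RQz Z := dadj (ιq Z) (adjz Z)

/-- the amplitude bound for the derived coherator on `D_QCoh` -/
def HasAB : Prop :=
  ∃ N : ℕ, ∀ K : DCoh.D Z, DCoh.IsQCohD K → ∀ b : ℤ,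
    (∀ q : ℤ, b < q → IsZero (DCoh.HD K q)) → ∀ m : ℤ, b + N < m →
      IsZero ((homologyFunctor (QC Z) m).obj ((RQz Z).obj K))

end Setup

section OpenImm

variable {U Z : Scheme.{u}} (j : U ⟶ Z) [IsOpenImmersion j]

/-- restriction on quasi-coherent modules -/
noncomputable abbrev resq : QC Z ⥤ QC U :=
  ObjectProperty.lift (PQ U) (ιq Z ⋙ Scheme.Modules.restrictFunctor j)
    (fun M => by
      haveI : M.obj.IsQuasicoherent := M.property
      exact QC.qc_restrict j M.obj)

variable [QuasiCompact j] [QuasiSeparated j]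

lemma hpush (M : U.Modules) (hM : Coh.IsQCoh M) :
    Coh.IsQCoh ((Scheme.Modules.pushforward j).obj M) := by
  haveI := hM
  exact QC.qc_pushforward j M

/-- direct image on quasi-coherent modules -/
noncomputable abbrev pushq : QC U ⥤ QC Z :=
  ObjectProperty.lift (fun M : Z.Modules => Coh.IsQCoh M)
    (ObjectProperty.ι (fun M : U.Modules => Coh.IsQCoh M) ⋙ Scheme.Modules.pushforward j)
    (fun M => hpush j M.obj M.property)

/-- the adjunction on quasi-coherent modules -/
noncomputable def adjq : resq j ⊣ pushq j :=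
  (Scheme.Modules.restrictAdjunction j).restrictFullyFaithful (PQ Z).fullyFaithfulι
    (PQ U).fullyFaithfulι (Iso.refl _) (Iso.refl _)

instance : (resq j).Additive := (adjq j).left_adjoint_additive

instance : (pushq j).Additive := (adjq j).right_adjoint_additive

instance : (Scheme.Modules.restrictFunctor j).Additive :=
  (Scheme.Modules.restrictAdjunction j).left_adjoint_additive

instance : PreservesFiniteLimits (resq j) where
  preservesFiniteLimits J _ _ := by
    haveI : PreservesLimitsOfShape J (resq j ⋙ (PQ U).ι) :=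
      (inferInstance : PreservesLimitsOfShape J (ιq Z ⋙ Scheme.Modules.restrictFunctor j))
    exact preservesLimitsOfShape_of_reflects_of_preserves (resq j) (PQ U).ι

instance : PreservesFiniteColimits (resq j) where
  preservesFiniteColimits J _ _ := by
    haveI : PreservesColimitsOfShape J (resq j ⋙ (PQ U).ι) :=
      (inferInstance : PreservesColimitsOfShape J (ιq Z ⋙ Scheme.Modules.restrictFunctor j))
    exact preservesColimitsOfShape_of_reflects_of_preserves (resq j) (PQ U).ι

lemma isIso_adjq_counit (X : QC U) : IsIso ((adjq j).counit.app X) := by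
  haveI : IsIso ((PQ U).ι.map ((adjq j).counit.app X)) := by
    rw [adjq, Adjunction.map_restrictFullyFaithful_counit_app]
    infer_instance
  exact isIso_of_reflects_iso ((adjq j).counit.app X) (PQ U).ι

variable [CompactSpace U] [QuasiSeparatedSpace U] [CompactSpace Z] [QuasiSeparatedSpace Z]

instance : (Gh (pushq j)).HasRightDerivedFunctor
    (HomotopyCategory.quasiIso (QC U) (ComplexShape.up ℤ)) := by
  haveI := KInjDS.hasPointwiseRightDerivedFunctor (Gh (pushq j))
  infer_instance

/-- the derived direct image on quasi-coherent modules -/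
noncomputable abbrev Φq : DerivedCategory (QC U) ⥤ DerivedCategory (QC Z) := RGf (pushq j)

/-- the derived adjunction `D(j^*) ⊣ Φ` on quasi-coherent modules -/
noncomputable abbrev dq : (resq j).mapDerivedCategory ⊣ Φq j :=
  derivedAdj (adjq j) (RGf (pushq j)) (unitC (pushq j))

lemma isIso_dq_counit : IsIso (dq j).counit :=
  isIso_counit (adjq j) (RGf (pushq j)) (unitC (pushq j)) (isIso_adjq_counit j)

variable [DCoh.HasRpush j]

/-- the derived adjunction `j^* ⊣ Rj_*` -/
noncomputable abbrev dr : DCoh.restrictD j ⊣ DCoh.Rpush j :=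
  derivedAdj (Scheme.Modules.restrictAdjunction j) (RGf (Scheme.Modules.pushforward j))
    (unitC (Scheme.Modules.pushforward j))

/-- the two composites of left adjoints agree -/
noncomputable def eL : (ιq Z).mapDerivedCategory ⋙ DCoh.restrictD j ≅
    (resq j).mapDerivedCategory ⋙ (ιq U).mapDerivedCategory :=
  mapDCComp (F := ιq Z) (G := Scheme.Modules.restrictFunctor j)
    (H := ιq Z ⋙ Scheme.Modules.restrictFunctor j) (Iso.refl _) ≪≫
  (mapDCComp (F := resq j) (G := ιq U)
    (H := ιq Z ⋙ Scheme.Modules.restrictFunctor j) (Iso.refl _)).symm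

/-- the two composites of right adjoints agree -/
noncomputable def rightIso : DCoh.Rpush j ⋙ RQz Z ≅ RQz U ⋙ Φq j :=
  (((dz Z).comp (dr j)).ofNatIsoLeft (eL j)).rightAdjointUniq ((dq j).comp (dz U))

end OpenImm

end Groth.Agent.H6.DQEq
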