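import Groth.Agent.Lib.Helper6.RFTri6
import Groth.Agent.Lib.Lead.EO.CohRange
import Groth.Agent.Lib.Lead.QC.SuppSES
import Groth.Agent.Lib.Helper7.LR5
import Groth.Agent.S0795

/-! # `Rf_*` of bounded below complexes with coherent cohomology of proper support -/

universe u
open CategoryTheory Limits DerivedCategory Pretriangulated ZeroObject AlgebraicGeometry

namespace Groth.Agent.H6.RFTri

open Groth.Agent.H6.MVTri Groth.Agent.H6.KI Groth.Agent.H2.RDer

section Abstract

variable {C : Type*} [Category C] [Abelian C]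

/-- bridge from the structure-style weak Serre classes to the prelude class. -/
lemma wserre_of_EO (P : ObjectProperty C) (h : Groth.Agent.LD.EO.IsWeakSerre P) :
    WSerre.IsWeakSerre P where
  exists_zero := ⟨0, isZero_zero _, h.zero _ (isZero_zero _)⟩
  kernels_le := by
    rintro _ ⟨f, k, hk, hf⟩
    exact h.of_iso (IsLimit.conePointUniqueUpToIso (kernelIsKernel f) hk) (h.kerP f hf.1 hf.2)
  cokernels_le := by
    rintro _ ⟨f, k, hk, hf⟩
    exact h.of_iso (IsColimit.coconePointUniqueUpToIso (cokernelIsCokernel f) hk)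
      (h.cokerP f hf.1 hf.2)
  prop_X₂_of_shortExact hS h₁ h₃ := h.ext _ hS h₁ h₃

end Abstract

variable {B : Type*} [Category B] [Abelian B] [HasDerivedCategory B] [KInjDS.HasKInjRes B]
  {𝒞 : Type*} [Category 𝒞] [Abelian 𝒞] [HasDerivedCategory 𝒞]
  (F : B ⥤ 𝒞) [F.Additive] [HasInjectiveResolutions B]
  [(F.mapHomotopyCategory (ComplexShape.up ℤ) ⋙ Qh).HasRightDerivedFunctor
    (HomotopyCategory.quasiIso B (ComplexShape.up ℤ))]

theorem prop_homology_RF_of_isGE (P : ObjectProperty B) [P.IsClosedUnderIsomorphisms]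
    (A' : ObjectProperty 𝒞) [WSerre.IsWeakSerre A']
    (hF : ∀ G : B, P G → ∀ p : ℕ, A' ((F.rightDerived p).obj G))
    (hGE : ∀ (L : DerivedCategory B) (m : ℤ), L.IsGE m → ((RF F).obj L).IsGE m)
    (E : DerivedCategory B) (a : ℤ) [hEa : E.IsGE a]
    (hP : ∀ j, P ((homologyFunctor B j).obj E)) (i : ℤ) :
    A' ((homologyFunctor 𝒞 i).obj ((RF F).obj E)) := by
  obtain ⟨m, hm1, hm2⟩ : ∃ m : ℤ, i + 2 ≤ m ∧ a ≤ m := ⟨max (i + 2) a, le_max_left _ _, le_max_right _ _⟩
  have hza : ∀ j, j < a → IsZero ((homologyFunctor B j).obj E) :=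
    fun j hj => isZero_of_isGE E a j hj
  obtain ⟨T, hT, rfl, z1, z3, h1iso, h3iso⟩ := exists_trunc_triangle E m
  have hA₁ : ∀ k, A' ((homologyFunctor 𝒞 k).obj ((RF F).obj T.obj₁)) := by
    refine prop_homology_RF_of_bounded F P A' hF (m - a + 1).toNat T.obj₁ a (m - 1) (by omega) ?_ ?_
    · intro j hj1 hj2
      obtain ⟨e⟩ := h1iso j (by omega)
      exact P.prop_of_iso e.symm (hP j)
    · intro j hj
      by_cases hjm : j < m
      · obtain ⟨e⟩ := h1iso j hjm
        have hja : j < a := by omega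
        exact (hza j hja).of_iso e
      · exact z1 j (by omega)
  haveI : T.obj₃.IsGE m := (isGE_iff T.obj₃ m).2 (fun j hj => z3 j hj)
  haveI := hGE T.obj₃ m inferInstance
  have hA₃ : ∀ k, k < m → A' ((homologyFunctor 𝒞 k).obj ((RF F).obj T.obj₃)) :=
    fun k hk => A'.prop_of_isZero (isZero_of_isGE _ m k hk)
  exact prop_homology_RF_obj₂ F A' T hT i (hA₁ i) (hA₁ (i + 1)) (hA₃ (i - 1) (by omega))
    (hA₃ i (by omega))

attribute [local instance] HasDerivedCategory.standard in
theorem s1107 {X S : Scheme.{u}} [IsNoetherian S] (f : X ⟶ S) [LocallyOfFiniteType f]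
    [DCoh.HasRpush f] (E : DCoh.D X) (a : ℤ) [E.IsGE a] (hE : DCoh.IsCohD E)
    (hsupp : ∀ i : ℤ, ClSub.IsProperOver f (CohB1.support (DCoh.HD E i))) :
    DCoh.IsCohD ((DCoh.Rpush f).obj E) ∧ ((DCoh.Rpush f).obj E).IsGE a := by
  haveI := Groth.Agent.H6.RpRes.hasKInjRes_modules X
  haveI : IsGrothendieckAbelian.{u} X.Modules :=
    Groth.Agent.LD.QCGroth.isGrothendieckAbelian_modules X
  haveI : HasInjectiveResolutions X.Modules := inferInstance
  refine ⟨fun i => ?_, Groth.Agent.Helper7.LR5.rpush_isGE f E a⟩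
  let P : ObjectProperty X.Modules :=
    fun G => Coh.IsCoh G ∧ ClSub.IsProperOver f (CohB1.support G)
  haveI : P.IsClosedUnderIsomorphisms :=
    ⟨fun e h => ⟨Groth.Agent.LD.QC.isCoh_of_iso e h.1, by
      rw [← Groth.Agent.LD.QC.support_eq_of_iso e]
      exact h.2⟩⟩
  let A' : ObjectProperty S.Modules := fun G => Coh.IsCoh G
  haveI : WSerre.IsWeakSerre A' := wserre_of_EO A' (Groth.Agent.LD.EO.isWeakSerre_isCoh S)
  exact prop_homology_RF_of_isGE (Scheme.Modules.pushforward f) P A'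
    (fun G hG p => Groth.Agent.S0795.result f G hG.1 hG.2 p)
    (fun L m hL => by
      haveI := hL
      exact Groth.Agent.Helper7.LR5.rpush_isGE f L m) E a (fun j => ⟨hE j, hsupp j⟩) i

end Groth.Agent.H6.RFTri
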