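import Groth.Agent.Lib.Helper6.QcVan4
import Groth.Agent.Lib.Helper6.RFTri7
import Groth.Agent.Lib.Lead.QC.Ext
import Groth.Agent.Lib.Lead.SC.SerreCrit
import Groth.Agent.Lib.Lead.QCQS.Main

/-! # `Rf_*` preserves `D_QCoh` for `f` qcqs over a quasi-compact base -/

universe u
open CategoryTheory Limits Opposite Pretriangulated AlgebraicGeometry TopologicalSpace

namespace Groth.Agent.H6.QcVan

open DerivedCategory Groth.Agent.H6.KI Groth.Agent.H6.MD Groth.Agent.H6.MDw Groth.Agent.H6.MVTri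
open Groth.Agent.LD.SC

attribute [local instance] HasDerivedCategory.standard

/-- quasi-coherent modules form a weak Serre subcategory. -/
theorem wserre_isQCoh (X : Scheme.{u}) :
    WSerre.IsWeakSerre (fun M : X.Modules => M.IsQuasicoherent) :=
  Groth.Agent.H6.RFTri.wserre_of_EO _
    { of_iso := fun e h => Groth.Agent.LD.QC.qc_of_iso e h
      zero := fun Z hZ => Groth.Agent.LD.QC.qc_of_iso ((isZero_zero _).iso hZ)
        (Groth.Agent.LD.SC.qc_zero _)
      kerP := fun f hX hY => Groth.Agent.LD.QC.qc_kernel f hX hY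
      cokerP := fun f hX hY => Groth.Agent.LD.QC.qc_cokernel f hX hY
      ext := fun T hT h1 h3 => Groth.Agent.LD.QC.qc_of_shortExact T hT h1 h3 }

/-- the general form of the uniform vanishing bound. -/
theorem exists_vanishing_bound {X S : Scheme.{u}} (f : X ⟶ S) [QuasiCompact f] [QuasiSeparated f]
    [CompactSpace ↥S] [DCoh.HasRpush f] :
    ∃ D : ℕ, ∀ (E : DCoh.D X), DCoh.IsQCohD E → ∀ b : ℤ,
      (∀ q : ℤ, b < q → IsZero (DCoh.HD E q)) → ∀ m : ℤ, b + D < m →
      IsZero (DCoh.HD ((DCoh.Rpush f).obj E) m) := by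
  obtain ⟨𝔅, D, h𝔅, hD⟩ := exists_basis_cohDim f
  refine ⟨D, fun E hE b hb m hm => ?_⟩
  let E' : DerivedCategory (ModSite.Mod (J := Opens.grothendieckTopology X) X.sheaf) := E
  haveI : IsGrothendieckAbelian.{u} (ModSite.Mod (J := Opens.grothendieckTopology X) X.sheaf) :=
    Groth.Agent.H1.sheafOfModules_isGrothendieckAbelian _ _
  haveI : HasProduct (CohCx.truncTower E') :=
    Groth.Agent.H2.DProd.hasProduct_of_isGE _ (fun n => ⟨-(n : ℤ), inferInstance⟩)
  have hL := main1007 X E' hE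
  let A : ObjectProperty (ModSite.Mod (J := Opens.grothendieckTopology X) X.sheaf) :=
    fun F => Coh.IsQCoh (X := X) F
  haveI : A.IsClosedUnderIsomorphisms :=
    ⟨fun e h => Groth.Agent.LD.QC.qc_of_iso (X := X) e h⟩
  apply isZero_HD_Rpush_of_basis f E m 𝔅 h𝔅
  intro V hV φ
  refine hom_eq_zero_of_isRlimVia (O := X.sheaf) E' hL A hE (f ⁻¹ᵁ V) D ?_ b hb m hm φ
  intro F hF k hk
  obtain ⟨p, rfl⟩ : ∃ p, k = p + 1 := ⟨k - 1, by omega⟩
  exact hD V hV F hF p (by omega)

end Groth.Agent.H6.QcVan
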