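import Mathlib
import Groth.Prelude.Def_DCoh2
import Groth.Prelude.Def_DCoh3
import Groth.Prelude.Def_CxOX
import Groth.Agent.Lib.Helper6.DQEq2
import Groth.Agent.Lib.Helper6.QcVan5

/-! # Amplitude bound for the derived direct image on quasi-coherent modules -/

universe u
open CategoryTheory Limits AlgebraicGeometry

attribute [local instance] HasDerivedCategory.standard

namespace Groth.Agent.H6.DQEq

open Groth.Agent.LD Groth.Agent.H6.DCohEq DerivedCategory Groth.Agent.H6.QcDPush
  Groth.Agent.H6.DerAdj Groth.Agent.H6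

/-- objects in the image of `D(QCoh)` have quasi-coherent cohomology -/
lemma isQCohD_map (Z : Scheme.{u}) (M : DerivedCategory (QC Z)) :
    DCoh.IsQCohD ((ιq Z).mapDerivedCategory.obj M) := fun q =>
  Groth.Agent.LD.QC.qc_of_iso ((homologyMapDerivedNatIso (ιq Z) q).app M).symm
    ((homologyFunctor (QC Z) q).obj M).property

theorem Φq_bound {U Z : Scheme.{u}} (j : U ⟶ Z) [IsOpenImmersion j] [IsNoetherian U]
    [IsNoetherian Z] [DCoh.HasRpush j] :
    haveI : QuasiSeparated j := (quasiSeparated_iff_quasiSeparatedSpace j).2 inferInstance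
    ∃ N' : ℕ, ∀ M : DerivedCategory (QC U), ∀ c : ℤ,
      (∀ q : ℤ, c < q → IsZero ((homologyFunctor (QC U) q).obj M)) → ∀ m : ℤ, c + N' < m →
        IsZero ((homologyFunctor (QC Z) m).obj ((Φq j).obj M)) := by
  haveI : QuasiSeparated j := (quasiSeparated_iff_quasiSeparatedSpace j).2 inferInstance
  obtain ⟨D, hD⟩ := QcVan.exists_vanishing_bound j
  obtain ⟨e⟩ := main7269 j (hpush j)
  refine ⟨D, fun M c hc m hm => ?_⟩
  have h1 := hD ((ιq U).mapDerivedCategory.obj M) (isQCohD_map U M) c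
    (fun q hq => (isZero_homology_map_iff (ιq U) M q).2 (hc q hq)) m hm
  rw [← isZero_homology_map_iff (ιq Z)]
  exact h1.of_iso ((homologyFunctor Z.Modules m).mapIso (e.app M))

/-- the amplitude bound passes to quasi-compact opens -/
theorem hasAB_of_openImmersion {U Z : Scheme.{u}} (j : U ⟶ Z) [IsOpenImmersion j]
    [QuasiCompact j] [QuasiSeparated j] [CompactSpace U] [QuasiSeparatedSpace U]
    [CompactSpace Z] [QuasiSeparatedSpace Z] [DCoh.HasRpush j] (hZ : HasAB Z) : HasAB U := by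
  obtain ⟨N, hN⟩ := hZ
  obtain ⟨D, hD⟩ := QcVan.exists_vanishing_bound j
  refine ⟨D + N, fun K hK b hb m hm => ?_⟩
  have h1 : DCoh.IsQCohD ((DCoh.Rpush j).obj K) := QcVan.isQCohD_Rpush_of_compact j K hK
  have h2 := hN ((DCoh.Rpush j).obj K) h1 (b + D) (fun q hq => hD K hK b hb q hq) m
    (by push_cast at hm; omega)
  haveI := isIso_dq_counit j
  -- `RQz U K ≅ D(resq) (Φq (RQz U K)) ≅ D(resq) (RQz Z (Rpush K))`
  let e1 : (resq j).mapDerivedCategory.obj ((Φq j).obj ((RQz U).obj K)) ≅ (RQz U).obj K :=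
    asIso ((dq j).counit.app ((RQz U).obj K))
  let e2 : (RQz Z).obj ((DCoh.Rpush j).obj K) ≅ (Φq j).obj ((RQz U).obj K) :=
    (rightIso j).app K
  have h3 : IsZero ((homologyFunctor (QC U) m).obj
      ((resq j).mapDerivedCategory.obj ((RQz Z).obj ((DCoh.Rpush j).obj K)))) := by
    refine IsZero.of_iso ?_ ((homologyMapDerivedNatIso (resq j) m).app _)
    exact (resq j).map_isZero h2
  exact h3.of_iso ((homologyFunctor (QC U) m).mapIso
    (e1.symm ≪≫ (resq j).mapDerivedCategory.mapIso e2.symm))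

end Groth.Agent.H6.DQEq
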