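import Mathlib
import Groth.Prelude.Def_DCoh2
import Groth.Prelude.Def_DCoh3
import Groth.Prelude.Def_CxOX
import Groth.Agent.Lib.Helper6.DQEq3
import Groth.Agent.Lib.Helper7.QB2
import Groth.Agent.Lib.Helper5.AG.TildeExact

/-! # The amplitude bound for the derived coherator: the affine case -/

universe u
open CategoryTheory Limits AlgebraicGeometry

attribute [local instance] HasDerivedCategory.standard

namespace Groth.Agent.H6.DQEq

open Groth.Agent.LD Groth.Agent.H6.DCohEq DerivedCategory Groth.Agent.H6.QcDPush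
  Groth.Agent.H6.DerAdj Groth.Agent.H6 Groth.Agent.Helper7.QB1 Groth.Agent.Helper7.QB2

section Affine

variable (R : CommRingCat.{u})

/-- the equivalence `Mod R ≌ QCoh(Spec R)` -/
noncomputable def tq : ModuleCat.{u} R ≌ QC (X₀ R) := tildeEquiv (R := R)

instance : (tq R).functor.Additive :=
  ⟨fun {M N f g} => (ιq (X₀ R)).map_injective ((tilde.functor R).map_add (f := f) (g := g))⟩

instance : (tq R).inverse.Additive := (tq R).toAdjunction.right_adjoint_additive

instance : PreservesFiniteLimits (tilde.functor R) :=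
  Groth.Agent.H5.AG.tilde_preservesFiniteLimits R

/-- the derived adjunction between `D(tilde)` and `D(Γ)` on quasi-coherent modules -/
noncomputable def dt : (tq R).functor.mapDerivedCategory ⊣ (tq R).inverse.mapDerivedCategory :=
  haveI : ((tq R).inverse.mapDerivedCategory).IsRightDerivedFunctor
      (tq R).inverse.mapDerivedCategoryFactors.inv
      (HomologicalComplex.quasiIso (QC (X₀ R)) (ComplexShape.up ℤ)) :=
    Functor.isRightDerivedFunctor_of_inverts
      (HomologicalComplex.quasiIso (QC (X₀ R)) (ComplexShape.up ℤ)) _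
      (tq R).inverse.mapDerivedCategoryFactors
  derivedAdj (tq R).toAdjunction (tq R).inverse.mapDerivedCategory
    (tq R).inverse.mapDerivedCategoryFactors.inv

/-- `tildeD` factors through `D(QCoh)` -/
noncomputable def eT : (tq R).functor.mapDerivedCategory ⋙ (ιq (X₀ R)).mapDerivedCategory ≅
    DCoh.tildeD R :=
  mapDCComp (F := (tq R).functor) (G := ιq (X₀ R)) (H := tilde.functor R) (Iso.refl _)

/-- `RΓ` factors through the derived coherator -/
noncomputable def rgIso : RG R ≅ RQz (X₀ R) ⋙ (tq R).inverse.mapDerivedCategory :=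
  (adjD R).rightAdjointUniq ((((dt R).comp (dz (X₀ R))).ofNatIsoLeft (eT R)))

theorem hasAB_affine : HasAB (X₀ R) := by
  refine ⟨0, fun K hK b hb m hm => ?_⟩
  have h1 := vanishing_Gam R K hK b hb m (by simpa using hm)
  have h2 : IsZero ((homologyFunctor (ModuleCat.{u} R) m).obj
      ((tq R).inverse.mapDerivedCategory.obj ((RQz (X₀ R)).obj K))) :=
    h1.of_iso ((homologyFunctor (ModuleCat.{u} R) m).mapIso ((rgIso R).app K).symm)
  exact (isZero_homology_map_iff (tq R).inverse _ m).1 h2

end Affine

/-- `Rf_*` always exists -/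
lemma hasRpush' {X Y : Scheme.{u}} (f : X ⟶ Y) : DCoh.HasRpush f := by
  haveI := KInjDS.hasPointwiseRightDerivedFunctor (DCoh.pushKh f)
  infer_instance

theorem hasAB_of_isAffine (Z : Scheme.{u}) [IsAffine Z] : HasAB Z := by
  haveI := hasRpush' Z.isoSpec.hom
  exact hasAB_of_openImmersion Z.isoSpec.hom (hasAB_affine Γ(Z, ⊤))

end Groth.Agent.H6.DQEq
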