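import Groth.Agent.Lib.Helper6.MVTri1

/-! # Mayer–Vietoris triangles: absolute version and global sections -/

universe u
open CategoryTheory Limits DerivedCategory Pretriangulated

namespace Groth.Agent.H6.MVTri

section Transport

variable {A : Type*} [Category A] [Abelian A]
  {𝒞 : Type*} [Category 𝒞] [Abelian 𝒞]
  {P₀ P₁ P₂ P₃ : A ⥤ 𝒞} [P₀.Additive] [P₁.Additive] [P₂.Additive] [P₃.Additive]
  (α₁ : P₀ ⟶ P₁) (α₂ : P₀ ⟶ P₂) (β₁ : P₁ ⟶ P₃) (β₂ : P₂ ⟶ P₃)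
  (w : α₁ ≫ β₁ = α₂ ≫ β₂)
  {P₀' P₁' P₂' P₃' : A ⥤ 𝒞} [P₀'.Additive] [P₁'.Additive] [P₂'.Additive] [P₃'.Additive]
  (θ₀ : P₀ ≅ P₀') (θ₁ : P₁ ≅ P₁') (θ₂ : P₂ ≅ P₂') (θ₃ : P₃ ≅ P₃')

include w in
lemma w_tr : (θ₀.inv ≫ α₁ ≫ θ₁.hom) ≫ (θ₁.inv ≫ β₁ ≫ θ₃.hom) =
    (θ₀.inv ≫ α₂ ≫ θ₂.hom) ≫ (θ₂.inv ≫ β₂ ≫ θ₃.hom) := by
  simp only [Category.assoc, Iso.hom_inv_id_assoc]
  rw [reassoc_of% w]

lemma shortExact_sc_tr (J : A) (h : (sc α₁ α₂ β₁ β₂ w J).ShortExact) :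
    (sc (θ₀.inv ≫ α₁ ≫ θ₁.hom) (θ₀.inv ≫ α₂ ≫ θ₂.hom) (θ₁.inv ≫ β₁ ≫ θ₃.hom)
      (θ₂.inv ≫ β₂ ≫ θ₃.hom) (w_tr α₁ α₂ β₁ β₂ w θ₀ θ₁ θ₂ θ₃) J).ShortExact := by
  refine ShortComplex.shortExact_of_iso
    (ShortComplex.isoMk (S₁ := sc α₁ α₂ β₁ β₂ w J)
      (S₂ := sc (θ₀.inv ≫ α₁ ≫ θ₁.hom) (θ₀.inv ≫ α₂ ≫ θ₂.hom) (θ₁.inv ≫ β₁ ≫ θ₃.hom)
        (θ₂.inv ≫ β₂ ≫ θ₃.hom) (w_tr α₁ α₂ β₁ β₂ w θ₀ θ₁ θ₂ θ₃) J)
      (θ₀.app J) (biprod.mapIso (θ₁.app J) (θ₂.app J)) (θ₃.app J) ?_ ?_) h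
  · change θ₀.hom.app J ≫ biprod.lift ((θ₀.inv ≫ α₁ ≫ θ₁.hom).app J)
        ((θ₀.inv ≫ α₂ ≫ θ₂.hom).app J) =
      biprod.lift (α₁.app J) (α₂.app J) ≫ biprod.map (θ₁.hom.app J) (θ₂.hom.app J)
    apply biprod.hom_ext <;> simp
  · change biprod.map (θ₁.hom.app J) (θ₂.hom.app J) ≫
        biprod.desc ((θ₁.inv ≫ β₁ ≫ θ₃.hom).app J) (-(θ₂.inv ≫ β₂ ≫ θ₃.hom).app J) =
      biprod.desc (β₁.app J) (-β₂.app J) ≫ θ₃.hom.app J
    apply biprod.hom_ext' <;> simp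

variable {𝒟 : Type*} [Category 𝒟] [Abelian 𝒟] (F : 𝒞 ⥤ 𝒟) [F.Additive]

include w in
lemma w_map : Functor.whiskerRight α₁ F ≫ Functor.whiskerRight β₁ F =
    Functor.whiskerRight α₂ F ≫ Functor.whiskerRight β₂ F := by
  rw [← Functor.whiskerRight_comp, ← Functor.whiskerRight_comp, w]

lemma shortExact_sc_map (J : A) (h : (sc α₁ α₂ β₁ β₂ w J).ShortExact)
    (hJ : Injective (P₀.obj J)) :
    (sc (Functor.whiskerRight α₁ F) (Functor.whiskerRight α₂ F) (Functor.whiskerRight β₁ F)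
      (Functor.whiskerRight β₂ F) (w_map α₁ α₂ β₁ β₂ w F) J).ShortExact := by
  haveI : Injective (sc α₁ α₂ β₁ β₂ w J).X₁ := hJ
  haveI : PreservesBinaryBiproducts F := preservesBinaryBiproducts_of_preservesBiproducts _
  have h' : ((sc α₁ α₂ β₁ β₂ w J).map F).ShortExact := (h.splittingOfInjective.map F).shortExact
  refine ShortComplex.shortExact_of_iso
    (ShortComplex.isoMk (S₁ := (sc α₁ α₂ β₁ β₂ w J).map F)
      (S₂ := sc (Functor.whiskerRight α₁ F) (Functor.whiskerRight α₂ F)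
        (Functor.whiskerRight β₁ F) (Functor.whiskerRight β₂ F) (w_map α₁ α₂ β₁ β₂ w F) J)
      (Iso.refl _) (F.mapBiprod _ _) (Iso.refl _) ?_ ?_) h'
  · change 𝟙 _ ≫ biprod.lift (F.map (α₁.app J)) (F.map (α₂.app J)) =
      F.map (biprod.lift (α₁.app J) (α₂.app J)) ≫ (F.mapBiprod _ _).hom
    rw [Category.id_comp]
    apply biprod.hom_ext
    · rw [Category.assoc, biprod.lift_fst, Functor.mapBiprod_hom, biprod.lift_fst,
        ← F.map_comp, biprod.lift_fst]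
    · rw [Category.assoc, biprod.lift_snd, Functor.mapBiprod_hom, biprod.lift_snd,
        ← F.map_comp, biprod.lift_snd]
  · change (F.mapBiprod _ _).hom ≫ biprod.desc (F.map (β₁.app J)) (-F.map (β₂.app J)) =
      F.map (biprod.desc (β₁.app J) (-β₂.app J)) ≫ 𝟙 _
    rw [Category.comp_id, ← Iso.eq_inv_comp]
    apply biprod.hom_ext'
    · rw [biprod.inl_desc, Functor.mapBiprod_inv, biprod.inl_desc_assoc, ← F.map_comp,
        biprod.inl_desc]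
    · rw [biprod.inr_desc, Functor.mapBiprod_inv, biprod.inr_desc_assoc, ← F.map_comp,
        biprod.inr_desc, F.map_neg]

end Transport

section Abs

open AlgebraicGeometry Groth.Agent.LD.QCQS

attribute [local instance] HasDerivedCategory.standard

variable {X : Scheme.{u}} (U V : X.Opens)

/-- `G_O` for the identity is `j_* j^*` -/
noncomputable def θ (O : X.Opens) : G (𝟙 X) O ≅
    Scheme.Modules.restrictFunctor O.ι ⋙ Scheme.Modules.pushforward O.ι :=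
  Functor.isoWhiskerLeft _ (Scheme.Modules.pushforwardCongr (Category.comp_id O.ι))

variable [DCoh.HasRpush U.ι] [DCoh.HasRpush V.ι] [DCoh.HasRpush (U ⊓ V).ι]
  [PreservesFiniteLimits (Scheme.Modules.restrictFunctor U.ι)]
  [PreservesFiniteLimits (Scheme.Modules.restrictFunctor V.ι)]
  [PreservesFiniteLimits (Scheme.Modules.restrictFunctor (U ⊓ V).ι)]

theorem s6510 (hUV : U ⊔ V = ⊤) (E : DCoh.D X) :
    ∃ (a : E ⟶ ((DCoh.Rpush U.ι).obj ((DCoh.restrictD U.ι).obj E) ⊞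
        (DCoh.Rpush V.ι).obj ((DCoh.restrictD V.ι).obj E)))
      (b : ((DCoh.Rpush U.ι).obj ((DCoh.restrictD U.ι).obj E) ⊞
        (DCoh.Rpush V.ι).obj ((DCoh.restrictD V.ι).obj E)) ⟶
        (DCoh.Rpush (U ⊓ V).ι).obj ((DCoh.restrictD (U ⊓ V).ι).obj E))
      (c : (DCoh.Rpush (U ⊓ V).ι).obj ((DCoh.restrictD (U ⊓ V).ι).obj E) ⟶ (E)⟦(1 : ℤ)⟧),
      Pretriangulated.Triangle.mk a b c ∈ Pretriangulated.distinguishedTriangles :=
  exists_triangle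
    ((Scheme.Modules.pushforwardId X).inv ≫ a₁ (𝟙 X) U ≫ (θ U).hom)
    ((Scheme.Modules.pushforwardId X).inv ≫ a₁ (𝟙 X) V ≫ (θ V).hom)
    ((θ U).inv ≫ resG (𝟙 X) inf_le_left ≫ (θ (U ⊓ V)).hom)
    ((θ V).inv ≫ resG (𝟙 X) inf_le_right ≫ (θ (U ⊓ V)).hom)
    (w_tr _ _ _ _ (w (𝟙 X) U V) (Scheme.Modules.pushforwardId X) (θ U) (θ V) (θ (U ⊓ V)))
    (𝟭 (DCoh.D X)) (DCoh.restrictD U.ι ⋙ DCoh.Rpush U.ι)
    (DCoh.restrictD V.ι ⋙ DCoh.Rpush V.ι)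
    (DCoh.restrictD (U ⊓ V).ι ⋙ DCoh.Rpush (U ⊓ V).ι)
    (hres X)
    (fun J hJ => shortExact_sc_tr _ _ _ _ _ _ _ _ _ J (shortExact_sc (𝟙 X) U V hUV J hJ))
    (fun I _ => ⟨Q.mapIso ((Functor.mapHomologicalComplexIdIso _ _).app I)⟩)
    (fun I hI => by
      haveI := hI
      exact nonempty_iso_RF_comp (Scheme.Modules.pushforward U.ι)
        (Scheme.Modules.restrictFunctor U.ι) I (RpRes.isKInjective_restrict U.ι I))
    (fun I hI => by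
      haveI := hI
      exact nonempty_iso_RF_comp (Scheme.Modules.pushforward V.ι)
        (Scheme.Modules.restrictFunctor V.ι) I (RpRes.isKInjective_restrict V.ι I))
    (fun I hI => by
      haveI := hI
      exact nonempty_iso_RF_comp (Scheme.Modules.pushforward (U ⊓ V).ι)
        (Scheme.Modules.restrictFunctor (U ⊓ V).ι) I (RpRes.isKInjective_restrict (U ⊓ V).ι I))
    E

end Abs

section Gam

open AlgebraicGeometry Groth.Agent.LD.QCQS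

attribute [local instance] HasDerivedCategory.standard

/-- `Γ(X, g_* M) = Γ(Z, M)` -/
noncomputable def γ {X Z : Scheme.{u}} (g : Z ⟶ X) :
    Scheme.Modules.pushforward g ⋙ DCoh.gammaAb X ≅ DCoh.gammaAb Z :=
  NatIso.ofComponents (fun M => Iso.refl _) (fun {M N} φ => by
    simp only [Iso.refl_hom, Category.comp_id, Category.id_comp]
    rfl)

variable {X : Scheme.{u}} (U V : X.Opens)

/-- `Γ(X, G_O M) = Γ(O, M|_O)` -/
noncomputable def θΓ (O : X.Opens) : G (𝟙 X) O ⋙ DCoh.gammaAb X ≅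
    Scheme.Modules.restrictFunctor O.ι ⋙ DCoh.gammaAb O.toScheme :=
  Functor.associator _ _ _ ≪≫ Functor.isoWhiskerLeft _ (γ (O.ι ≫ 𝟙 X))

variable [DCoh.HasRΓ X] [DCoh.HasRΓ (U : Scheme.{u})] [DCoh.HasRΓ (V : Scheme.{u})]
  [DCoh.HasRΓ (U ⊓ V : X.Opens)]
  [PreservesFiniteLimits (Scheme.Modules.restrictFunctor U.ι)]
  [PreservesFiniteLimits (Scheme.Modules.restrictFunctor V.ι)]
  [PreservesFiniteLimits (Scheme.Modules.restrictFunctor (U ⊓ V).ι)]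

theorem s6512 (hUV : U ⊔ V = ⊤) (E : DCoh.D X) :
    ∃ (a : (DCoh.RΓ X).obj E ⟶ ((DCoh.RΓ (U : Scheme.{u})).obj ((DCoh.restrictD U.ι).obj E) ⊞
        (DCoh.RΓ (V : Scheme.{u})).obj ((DCoh.restrictD V.ι).obj E)))
      (b : ((DCoh.RΓ (U : Scheme.{u})).obj ((DCoh.restrictD U.ι).obj E) ⊞
        (DCoh.RΓ (V : Scheme.{u})).obj ((DCoh.restrictD V.ι).obj E)) ⟶
        (DCoh.RΓ (U ⊓ V : X.Opens)).obj ((DCoh.restrictD (U ⊓ V).ι).obj E))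
      (c : (DCoh.RΓ (U ⊓ V : X.Opens)).obj ((DCoh.restrictD (U ⊓ V).ι).obj E) ⟶
        ((DCoh.RΓ X).obj E)⟦(1 : ℤ)⟧),
      Pretriangulated.Triangle.mk a b c ∈ Pretriangulated.distinguishedTriangles :=
  exists_triangle
    ((γ (𝟙 X)).inv ≫ Functor.whiskerRight (a₁ (𝟙 X) U) (DCoh.gammaAb X) ≫ (θΓ U).hom)
    ((γ (𝟙 X)).inv ≫ Functor.whiskerRight (a₁ (𝟙 X) V) (DCoh.gammaAb X) ≫ (θΓ V).hom)
    ((θΓ U).inv ≫ Functor.whiskerRight (resG (𝟙 X) inf_le_left) (DCoh.gammaAb X) ≫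
      (θΓ (U ⊓ V)).hom)
    ((θΓ V).inv ≫ Functor.whiskerRight (resG (𝟙 X) inf_le_right) (DCoh.gammaAb X) ≫
      (θΓ (U ⊓ V)).hom)
    (w_tr _ _ _ _ (w_map _ _ _ _ (w (𝟙 X) U V) (DCoh.gammaAb X)) (γ (𝟙 X)) (θΓ U) (θΓ V)
      (θΓ (U ⊓ V)))
    (DCoh.RΓ X) (DCoh.restrictD U.ι ⋙ DCoh.RΓ (U : Scheme.{u}))
    (DCoh.restrictD V.ι ⋙ DCoh.RΓ (V : Scheme.{u}))
    (DCoh.restrictD (U ⊓ V).ι ⋙ DCoh.RΓ (U ⊓ V : X.Opens))
    (hres X)
    (fun J hJ => shortExact_sc_tr _ _ _ _ _ _ _ _ _ J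
      (shortExact_sc_map _ _ _ _ _ (DCoh.gammaAb X) J (shortExact_sc (𝟙 X) U V hUV J hJ)
        (Injective.of_iso ((Scheme.Modules.pushforwardId X).app J).symm hJ)))
    (fun I hI => by
      haveI := hI
      exact nonempty_iso_RF (DCoh.gammaAb X) I)
    (fun I hI => by
      haveI := hI
      exact nonempty_iso_RF_comp (DCoh.gammaAb (U : Scheme.{u}))
        (Scheme.Modules.restrictFunctor U.ι) I (RpRes.isKInjective_restrict U.ι I))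
    (fun I hI => by
      haveI := hI
      exact nonempty_iso_RF_comp (DCoh.gammaAb (V : Scheme.{u}))
        (Scheme.Modules.restrictFunctor V.ι) I (RpRes.isKInjective_restrict V.ι I))
    (fun I hI => by
      haveI := hI
      exact nonempty_iso_RF_comp (DCoh.gammaAb ((U ⊓ V : X.Opens) : Scheme.{u}))
        (Scheme.Modules.restrictFunctor (U ⊓ V).ι) I
        (RpRes.isKInjective_restrict (U ⊓ V).ι I))
    E

end Gam

end Groth.Agent.H6.MVTri
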