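import Mathlib
import Groth.Prelude.Def_DCoh2
import Groth.Prelude.Def_DCoh3
import Groth.Prelude.Def_CxOX
import Groth.Agent.Lib.Helper6.DQEq4
import Groth.Agent.Lib.Helper6.MVTri2

/-! # The amplitude bound for the derived coherator: the Mayer–Vietoris step -/

universe u
open CategoryTheory Limits AlgebraicGeometry

attribute [local instance] HasDerivedCategory.standard

namespace Groth.Agent.H6.DQEq

open Groth.Agent.LD Groth.Agent.H6.DCohEq DerivedCategory Groth.Agent.H6.QcDPush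
  Groth.Agent.H6.DerAdj Groth.Agent.H6 Groth.Agent.H6.RFTri Groth.Agent.H6.MVTri Pretriangulated

section Tri

variable {B : Type*} [Category B] [Abelian B] [HasDerivedCategory B] [KInjDS.HasKInjRes B]
  {𝒞 : Type*} [Category 𝒞] [Abelian 𝒞] [HasDerivedCategory 𝒞]
  (F : B ⥤ 𝒞) [F.Additive]
  [(F.mapHomotopyCategory (ComplexShape.up ℤ) ⋙ Qh).HasRightDerivedFunctor
    (HomotopyCategory.quasiIso B (ComplexShape.up ℤ))]

lemma isZero_homology_RF_obj₂ (T : Triangle (DerivedCategory B)) (hT : T ∈ distTriang _) (m : ℤ)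
    (h₁ : IsZero ((homologyFunctor 𝒞 m).obj ((RF F).obj T.obj₁)))
    (h₃ : IsZero ((homologyFunctor 𝒞 m).obj ((RF F).obj T.obj₃))) :
    IsZero ((homologyFunctor 𝒞 m).obj ((RF F).obj T.obj₂)) := by
  obtain ⟨T', hT', u₁, u₂, u₃, -, -⟩ := exists_distTriang_RF' F T hT
  have h₁' : IsZero ((homologyFunctor 𝒞 m).obj T'.obj₁) :=
    h₁.of_iso ((homologyFunctor 𝒞 m).mapIso u₁)
  have h₃' : IsZero ((homologyFunctor 𝒞 m).obj T'.obj₃) :=
    h₃.of_iso ((homologyFunctor 𝒞 m).mapIso u₃)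
  have h₂' : IsZero ((homologyFunctor 𝒞 m).obj T'.obj₂) :=
    (HomologySequence.exact₂ T' hT' m).isZero_X₂ (h₁'.eq_of_src _ _) (h₃'.eq_of_tgt _ _)
  exact h₂'.of_iso ((homologyFunctor 𝒞 m).mapIso u₂.symm)

lemma isZero_homology_RF_obj₁ (T : Triangle (DerivedCategory B)) (hT : T ∈ distTriang _)
    (m₀ m : ℤ) (hm : m₀ + 1 = m)
    (h₃ : IsZero ((homologyFunctor 𝒞 m₀).obj ((RF F).obj T.obj₃)))
    (h₂ : IsZero ((homologyFunctor 𝒞 m).obj ((RF F).obj T.obj₂))) :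
    IsZero ((homologyFunctor 𝒞 m).obj ((RF F).obj T.obj₁)) := by
  obtain ⟨T', hT', u₁, u₂, u₃, -, -⟩ := exists_distTriang_RF' F T hT
  have h₂' : IsZero ((homologyFunctor 𝒞 m).obj T'.obj₂) :=
    h₂.of_iso ((homologyFunctor 𝒞 m).mapIso u₂)
  have h₃' : IsZero ((homologyFunctor 𝒞 m₀).obj T'.obj₃) :=
    h₃.of_iso ((homologyFunctor 𝒞 m₀).mapIso u₃)
  have h₁' : IsZero ((homologyFunctor 𝒞 m).obj T'.obj₁) :=
    (HomologySequence.exact₁ T' hT' m₀ m hm).isZero_X₂ (h₃'.eq_of_src _ _) (h₂'.eq_of_tgt _ _)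
  exact h₁'.of_iso ((homologyFunctor 𝒞 m).mapIso u₁.symm)

lemma isZero_homology_RF_biprod (A₁ A₂ : DerivedCategory B) (m : ℤ)
    (h₁ : IsZero ((homologyFunctor 𝒞 m).obj ((RF F).obj A₁)))
    (h₂ : IsZero ((homologyFunctor 𝒞 m).obj ((RF F).obj A₂))) :
    IsZero ((homologyFunctor 𝒞 m).obj ((RF F).obj (A₁ ⊞ A₂))) :=
  isZero_homology_RF_obj₂ F _ (binaryBiproductTriangle_distinguished A₁ A₂) m h₁ h₂

end Tri

section MV

lemma isNoetherian_of_isOpenImmersion {U Z : Scheme.{u}} (j : U ⟶ Z) [IsOpenImmersion j]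
    [IsNoetherian Z] : IsNoetherian U := by
  haveI : IsLocallyNoetherian U := isLocallyNoetherian_of_isOpenImmersion j
  haveI : CompactSpace U := by
    have h : IsCompact (Set.range j.base) := TopologicalSpace.NoetherianSpace.isCompact _
    have h2 : IsCompact (j.base ⁻¹' (Set.range j.base)) :=
      j.isOpenEmbedding.isInducing.isCompact_preimage' h (le_refl _)
    rw [Set.preimage_range] at h2
    exact isCompact_univ_iff.1 h2
  exact {}

/-- restriction to an open preserves `D_QCoh` -/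
lemma isQCohD_restrictD {U Z : Scheme.{u}} (j : U ⟶ Z) [IsOpenImmersion j] (K : DCoh.D Z)
    (hK : DCoh.IsQCohD K) : DCoh.IsQCohD ((DCoh.restrictD j).obj K) := fun q => by
  haveI : (DCoh.HD K q).IsQuasicoherent := hK q
  exact Groth.Agent.LD.QC.qc_of_iso
    ((homologyMapDerivedNatIso (Scheme.Modules.restrictFunctor j) q).app K).symm
    (QC.qc_restrict j (DCoh.HD K q))

lemma isZero_HD_restrictD {U Z : Scheme.{u}} (j : U ⟶ Z) [IsOpenImmersion j] (K : DCoh.D Z)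
    (q : ℤ) (h : IsZero (DCoh.HD K q)) : IsZero (DCoh.HD ((DCoh.restrictD j).obj K) q) :=
  IsZero.of_iso ((Scheme.Modules.restrictFunctor j).map_isZero h)
    ((homologyMapDerivedNatIso (Scheme.Modules.restrictFunctor j) q).app K)

/-- the contribution of an open subscheme -/
lemma contrib {U Z : Scheme.{u}} (j : U ⟶ Z) [IsOpenImmersion j] [IsNoetherian U] [IsNoetherian Z]
    [DCoh.HasRpush j] (hU : HasAB U) :
    ∃ N : ℕ, ∀ K : DCoh.D Z, DCoh.IsQCohD K → ∀ b : ℤ,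
      (∀ q : ℤ, b < q → IsZero (DCoh.HD K q)) → ∀ m : ℤ, b + N < m →
        IsZero ((homologyFunctor (QC Z) m).obj
          ((RQz Z).obj ((DCoh.Rpush j).obj ((DCoh.restrictD j).obj K)))) := by
  haveI : QuasiSeparated j := (quasiSeparated_iff_quasiSeparatedSpace j).2 inferInstance
  obtain ⟨N₁, h₁⟩ := hU
  obtain ⟨N₂, h₂⟩ := Φq_bound j
  refine ⟨N₁ + N₂, fun K hK b hb m hm => ?_⟩
  have h3 := h₁ ((DCoh.restrictD j).obj K) (isQCohD_restrictD j K hK) b
    (fun q hq => isZero_HD_restrictD j K q (hb q hq))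
  have h4 := h₂ ((RQz U).obj ((DCoh.restrictD j).obj K)) (b + N₁) h3 m
    (by push_cast at hm; omega)
  exact h4.of_iso ((homologyFunctor (QC Z) m).mapIso
    ((rightIso j).app ((DCoh.restrictD j).obj K)))

theorem hasAB_mv (Z : Scheme.{u}) [IsNoetherian Z] (U V : Z.Opens) [IsNoetherian ↑U]
    [IsNoetherian ↑V] [IsNoetherian ↑(U ⊓ V)] (hUV : U ⊔ V = ⊤)
    (hU : HasAB ↑U) (hV : HasAB ↑V) (hW : HasAB ↑(U ⊓ V)) : HasAB Z := by
  haveI := hasRpush' U.ι
  haveI := hasRpush' V.ι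
  haveI := hasRpush' (U ⊓ V).ι
  obtain ⟨N₁, h₁⟩ := contrib U.ι hU
  obtain ⟨N₂, h₂⟩ := contrib V.ι hV
  obtain ⟨N₃, h₃⟩ := contrib (U ⊓ V).ι hW
  refine ⟨N₁ + N₂ + N₃ + 1, fun K hK b hb m hm => ?_⟩
  obtain ⟨a, b', c, hT⟩ := s6510 U V hUV K
  push_cast at hm
  refine isZero_homology_RF_obj₁ (Qz Z) _ hT (m - 1) m (by omega) ?_ ?_
  · exact h₃ K hK b hb (m - 1) (by omega)
  · exact isZero_homology_RF_biprod (Qz Z) _ _ m (h₁ K hK b hb m (by omega))
      (h₂ K hK b hb m (by omega))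

end MV

end Groth.Agent.H6.DQEq
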