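import Mathlib
import Groth.Prelude.Def_DCoh2
import Groth.Prelude.Def_DCoh3
import Groth.Prelude.Def_CxOX
import Groth.Agent.Lib.Helper6.DQEq5
import Groth.Agent.Lib.Lead.QCQS.Induction

/-! # The amplitude bound for the derived coherator on a Noetherian scheme -/

universe u
open CategoryTheory Limits AlgebraicGeometry

attribute [local instance] HasDerivedCategory.standard

namespace Groth.Agent.H6.DQEq

open Groth.Agent.LD Groth.Agent.H6.DCohEq DerivedCategory Groth.Agent.H6.QcDPush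
  Groth.Agent.H6.DerAdj Groth.Agent.H6

section Ind

variable (X : Scheme.{u}) [IsNoetherian X]

/-- the inductive property of opens -/
def PAB (O : X.Opens) : Prop :=
  ∀ (Y : Scheme.{u}) (j : Y ⟶ X) [IsOpenImmersion j] [IsNoetherian Y],
    j.opensRange = O → HasAB Y

lemma pab_affine (O : X.Opens) (hO : IsAffineOpen O) : PAB X O := by
  intro Y j _ _ hj
  haveI : IsAffine ↑(j.opensRange) := by rw [hj]; exact hO
  haveI : IsAffine Y := IsAffine.of_isIso j.isoOpensRange.hom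
  exact hasAB_of_isAffine Y

lemma pab_mv (O W : X.Opens) (hO : PAB X O) (hW : PAB X W) (hOW : PAB X (O ⊓ W)) :
    PAB X (O ⊔ W) := by
  intro Y j _ _ hj
  haveI := isNoetherian_of_isOpenImmersion (j ⁻¹ᵁ O).ι
  haveI := isNoetherian_of_isOpenImmersion (j ⁻¹ᵁ W).ι
  haveI := isNoetherian_of_isOpenImmersion ((j ⁻¹ᵁ O) ⊓ (j ⁻¹ᵁ W)).ι
  have hr : ∀ (T' : Y.Opens) (T : X.Opens), T ≤ O ⊔ W → T' = j ⁻¹ᵁ T →
      (T'.ι ≫ j).opensRange = T := by
    intro T' T hT hT'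
    subst hT'
    rw [Scheme.Hom.opensRange_comp, Scheme.Opens.opensRange_ι,
      Scheme.Hom.image_preimage_eq_opensRange_inf, hj]
    exact inf_eq_right.2 hT
  refine hasAB_mv Y (j ⁻¹ᵁ O) (j ⁻¹ᵁ W) ?_ ?_ ?_ ?_
  · rw [← Scheme.Hom.preimage_sup, ← hj]
    exact Scheme.Hom.preimage_opensRange j
  · exact hO _ ((j ⁻¹ᵁ O).ι ≫ j) (hr _ O le_sup_left rfl)
  · exact hW _ ((j ⁻¹ᵁ W).ι ≫ j) (hr _ W le_sup_right rfl)
  · exact hOW _ ((j ⁻¹ᵁ O ⊓ j ⁻¹ᵁ W).ι ≫ j)
      (hr _ (O ⊓ W) (inf_le_left.trans le_sup_left) rfl)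

theorem hasAB_of_isNoetherian : HasAB X := by
  have h := QCQS.mv_induction (PAB X) (pab_mv X) (pab_affine X) ⊤
    (by simpa using isCompact_univ) (by simpa using (isQuasiSeparated_univ (α := X)))
  exact h X (𝟙 X) (Scheme.Hom.opensRange_of_isIso _)

end Ind

end Groth.Agent.H6.DQEq
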