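import Groth.Agent.Lib.Helper6.RFTri4

/-! # `Hⁱ(RF(X[-q])) ≅ R^{i-q}F(X)` -/

open CategoryTheory Limits DerivedCategory Pretriangulated ZeroObject

namespace Groth.Agent.H6.RFTri

open Groth.Agent.H6.MVTri Groth.Agent.H6.KI Groth.Agent.H2.RDer

variable {B : Type*} [Category B] [Abelian B] [HasDerivedCategory B] [KInjDS.HasKInjRes B]
  {𝒞 : Type*} [Category 𝒞] [Abelian 𝒞] [HasDerivedCategory 𝒞]
  (F : B ⥤ 𝒞) [F.Additive] [HasInjectiveResolutions B]

omit [HasDerivedCategory B] [KInjDS.HasKInjRes B] [HasDerivedCategory 𝒞]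
  [HasInjectiveResolutions B] in
/-- the homology of `F` applied to the `ℤ`-indexed and `ℕ`-indexed versions of an injective
resolution agree. -/
lemma nonempty_homology_cochainComplex_iso {X : B} (R : InjectiveResolution X) (p : ℕ) :
    Nonempty (((F.mapHomologicalComplex (ComplexShape.up ℤ)).obj R.cochainComplex).homology (p : ℤ) ≅
      ((F.mapHomologicalComplex (ComplexShape.up ℕ)).obj R.cocomplex).homology p) := by
  let K' := (F.mapHomologicalComplex (ComplexShape.up ℤ)).obj R.cochainComplex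
  let L' := (F.mapHomologicalComplex (ComplexShape.up ℕ)).obj R.cocomplex
  cases p with
  | zero =>
    let eZ : K'.sc ((0 : ℕ) : ℤ) ≅ K'.sc' (-1) ((0 : ℕ) : ℤ) 1 :=
      K'.isoSc' _ _ _ (by simp) (by simp)
    let eN : L'.sc 0 ≅ L'.sc' 0 0 1 := L'.isoSc' _ _ _ (by simp) (by simp)
    have hz : IsZero (K'.X (-1)) := isZero_map_cochainComplex_X F R (-1) (by omega)
    let ψ : L'.sc' 0 0 1 ⟶ K'.sc' (-1) ((0 : ℕ) : ℤ) 1 :=
      { τ₁ := 0
        τ₂ := (eIso F R ((0 : ℕ) : ℤ) 0 rfl).inv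
        τ₃ := (eIso F R 1 1 rfl).inv
        comm₁₂ := by
          rw [zero_comp]
          symm
          change F.map (R.cocomplex.d 0 0) ≫ _ = 0
          rw [R.cocomplex.shape 0 0 (by simp), F.map_zero, zero_comp]
        comm₂₃ := by
          have e := map_d_eIso F R ((0 : ℕ) : ℤ) 1 0 1 rfl rfl
          change (eIso F R ((0 : ℕ) : ℤ) 0 rfl).inv ≫ F.map (R.cochainComplex.d ((0 : ℕ) : ℤ) 1) =
            F.map (R.cocomplex.d 0 1) ≫ (eIso F R 1 1 rfl).inv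
          rw [Iso.inv_comp_eq, ← Category.assoc, ← e, Category.assoc, Iso.hom_inv_id,
            Category.comp_id] }
    haveI : Epi ψ.τ₁ := ⟨fun a b _ => hz.eq_of_src a b⟩
    haveI : IsIso ψ.τ₂ := inferInstanceAs (IsIso (eIso F R ((0 : ℕ) : ℤ) 0 rfl).inv)
    haveI : Mono ψ.τ₃ := inferInstanceAs (Mono (eIso F R 1 1 rfl).inv)
    haveI : ShortComplex.QuasiIso ψ := ShortComplex.quasiIso_of_epi_of_isIso_of_mono ψ
    exact ⟨ShortComplex.homologyMapIso eZ ≪≫ (asIso (ShortComplex.homologyMap ψ)).symm ≪≫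
      ShortComplex.homologyMapIso eN.symm⟩
  | succ k =>
    let eZ : K'.sc ((k + 1 : ℕ) : ℤ) ≅ K'.sc' (k : ℤ) ((k + 1 : ℕ) : ℤ) ((k + 2 : ℕ) : ℤ) :=
      K'.isoSc' _ _ _ (by simp) (by simp; omega)
    let eN : L'.sc (k + 1) ≅ L'.sc' k (k + 1) (k + 2) := L'.isoSc' _ _ _ (by simp) (by simp)
    let eM : K'.sc' (k : ℤ) ((k + 1 : ℕ) : ℤ) ((k + 2 : ℕ) : ℤ) ≅ L'.sc' k (k + 1) (k + 2) :=
      ShortComplex.isoMk (eIso F R _ k rfl) (eIso F R _ (k + 1) rfl) (eIso F R _ (k + 2) rfl)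
        (map_d_eIso F R _ _ k (k + 1) rfl rfl).symm (map_d_eIso F R _ _ (k + 1) (k + 2) rfl rfl).symm
    exact ⟨ShortComplex.homologyMapIso (eZ ≪≫ eM ≪≫ eN.symm)⟩

variable [(F.mapHomotopyCategory (ComplexShape.up ℤ) ⋙ Qh).HasRightDerivedFunctor
    (HomotopyCategory.quasiIso B (ComplexShape.up ℤ))]

/-- `H^{q+p}(RF(X[-q])) ≅ R^pF(X)`. -/
theorem nonempty_homology_RF_single_iso (X : B) (q : ℤ) (p : ℕ) (i : ℤ) (hi : q + p = i) :
    Nonempty ((homologyFunctor 𝒞 i).obj ((RF F).obj ((singleFunctor B q).obj X)) ≅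
      (F.rightDerived p).obj X) := by
  let R := injectiveResolution X
  let J : CochainComplex B ℤ := R.cochainComplex⟦-q⟧
  haveI : J.IsKInjective := inferInstanceAs ((R.cochainComplex⟦-q⟧).IsKInjective)
  have e : (singleFunctor B q).obj X ≅ Q.obj J := by
    let e1 : (CochainComplex.singleFunctor B q).obj X ≅
        ((CochainComplex.singleFunctor B 0).obj X)⟦-q⟧ :=
      (((CochainComplex.singleFunctors B).shiftIso (-q) q 0 (by omega)).app X).symm
    haveI : QuasiIso (R.ι'⟦-q⟧') := inferInstance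
    haveI : IsIso (Q.map (R.ι'⟦-q⟧')) :=
      (isIso_Q_map_iff_quasiIso (C := B) (R.ι'⟦-q⟧')).2 inferInstance
    exact (singleFunctorIsoCompQ B q).app X ≪≫ Q.mapIso e1 ≪≫ asIso (Q.map (R.ι'⟦-q⟧'))
  obtain ⟨u⟩ := nonempty_iso_RF F J
  have e2 : (F.mapHomologicalComplex (ComplexShape.up ℤ)).obj J ≅
      ((F.mapHomologicalComplex (ComplexShape.up ℤ)).obj R.cochainComplex)⟦-q⟧ :=
    ((F.mapHomologicalComplex (ComplexShape.up ℤ)).commShiftIso (-q)).app R.cochainComplex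
  obtain ⟨e5⟩ := nonempty_homology_cochainComplex_iso F R p
  have e3 : (homologyFunctor 𝒞 i).obj ((RF F).obj ((singleFunctor B q).obj X)) ≅
      ((F.mapHomologicalComplex (ComplexShape.up ℤ)).obj J).homology i :=
    (homologyFunctor 𝒞 i).mapIso ((RF F).mapIso e ≪≫ u.symm) ≪≫
      (homologyFunctorFactors 𝒞 i).app _
  have e4 : ((F.mapHomologicalComplex (ComplexShape.up ℤ)).obj J).homology i ≅
      ((F.mapHomologicalComplex (ComplexShape.up ℤ)).obj R.cochainComplex).homology (p : ℤ) :=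
    (HomologicalComplex.homologyFunctor 𝒞 _ i).mapIso e2 ≪≫
      (CochainComplex.ShiftSequence.shiftIso 𝒞 (-q) i (p : ℤ) (by omega)).app _
  exact ⟨e3 ≪≫ e4 ≪≫ e5 ≪≫ (R.isoRightDerivedObj F p).symm⟩

end Groth.Agent.H6.RFTri
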