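import Groth.Agent.Lib.Helper6.KInjDS
import Groth.Agent.Lib.Helper7.KInj
import Groth.Agent.Lib.Lead.QCGroth
import Groth.Agent.Lib.Lead.QCQS.BaseChange
import Groth.Agent.Lib.Lead.Inj.ExtZeroGen
import Groth.Prelude.Def_DCoh3

universe u
open CategoryTheory Limits DerivedCategory

namespace Groth.Agent.H6.RpRes

section General

variable {A : Type*} [Category A] [Abelian A] [HasDerivedCategory A] [KInjDS.HasKInjRes A]
  {H H' : Type*} [Category H] [Category H']
  (F' : HomotopyCategory A (ComplexShape.up ℤ) ⥤ H) (RF : DerivedCategory A ⥤ H)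
  (α : F' ⟶ Qh ⋙ RF)
  [RF.IsRightDerivedFunctor α (HomotopyCategory.quasiIso A (ComplexShape.up ℤ))]

lemma isRightDerivedFunctor_postcomp (T : H ⥤ H') :
    (RF ⋙ T).IsRightDerivedFunctor
      (Functor.whiskerRight α T ≫ (Functor.associator _ _ _).hom)
      (HomotopyCategory.quasiIso A (ComplexShape.up ℤ)) := by
  refine KInjDS.isRightDerivedFunctor_of_isIso (F' ⋙ T) Qh _ (fun I hI => ?_)
  haveI := hI
  haveI := KInjDS.isIso_app_of_isKInjective F' Qh α I
  simp only [NatTrans.comp_app, Functor.whiskerRight_app, Functor.associator_hom_app,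
    Category.comp_id]
  infer_instance

variable {B : Type*} [Category B] [Abelian B] [HasDerivedCategory B] [KInjDS.HasKInjRes B]
  (R : B ⥤ A) [R.Additive] [PreservesFiniteLimits R] [PreservesFiniteColimits R]

/-- the unit for precomposition with an exact functor -/
noncomputable def preUnit :
    R.mapHomotopyCategory (ComplexShape.up ℤ) ⋙ F' ⟶ Qh ⋙ R.mapDerivedCategory ⋙ RF :=
  Functor.whiskerLeft (R.mapHomotopyCategory (ComplexShape.up ℤ)) α ≫
    (Functor.associator _ _ _).inv ≫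
    Functor.whiskerRight R.mapDerivedCategoryFactorsh.inv RF ≫ (Functor.associator _ _ _).hom

lemma isRightDerivedFunctor_precomp
    (hR : ∀ I : CochainComplex B ℤ, I.IsKInjective →
      CochainComplex.IsKInjective ((R.mapHomologicalComplex (ComplexShape.up ℤ)).obj I)) :
    (R.mapDerivedCategory ⋙ RF).IsRightDerivedFunctor (preUnit F' RF α R)
      (HomotopyCategory.quasiIso B (ComplexShape.up ℤ)) := by
  refine KInjDS.isRightDerivedFunctor_of_isIso _ Qh _ (fun I hI => ?_)
  haveI := hR I hI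
  haveI := KInjDS.isIso_app_of_isKInjective F' Qh α
    ((R.mapHomologicalComplex (ComplexShape.up ℤ)).obj I)
  have : IsIso (α.app ((R.mapHomotopyCategory (ComplexShape.up ℤ)).obj
      ((HomotopyCategory.quotient B (ComplexShape.up ℤ)).obj I))) := this
  simp only [preUnit, NatTrans.comp_app, Functor.whiskerLeft_app, Functor.associator_inv_app,
    Functor.whiskerRight_app, Functor.associator_hom_app, Category.comp_id, Category.id_comp]
  infer_instance

end General

end Groth.Agent.H6.RpRes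

namespace Groth.Agent.H6.RpRes

section Sch

open AlgebraicGeometry

attribute [local instance] HasDerivedCategory.standard

instance hasKInjRes_modules (X : Scheme.{u}) : KInjDS.HasKInjRes X.Modules :=
  haveI := Groth.Agent.LD.QCGroth.isGrothendieckAbelian_modules X
  inferInstance

lemma isKInjective_restrict {U X : Scheme.{u}} (j : U ⟶ X) [IsOpenImmersion j]
    (I : CochainComplex X.Modules ℤ) [I.IsKInjective] :
    CochainComplex.IsKInjective
      (((Scheme.Modules.restrictFunctor j).mapHomologicalComplex (ComplexShape.up ℤ)).obj I) := by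
  haveI : PreservesFiniteLimits (CxOX.extZero j) :=
    Groth.Agent.LD.ExtZeroGen.preservesFiniteLimits_extZero j
  exact Groth.Agent.H7.KInj.isKInjective_map (CxOX.extZeroAdj j) I

variable {X Y : Scheme.{u}} (f : X ⟶ Y) (V : Y.Opens)
  [DCoh.HasRpush f] [DCoh.HasRpush (f ∣_ V)]
  [PreservesFiniteLimits (Scheme.Modules.restrictFunctor V.ι)]
  [PreservesFiniteLimits (Scheme.Modules.restrictFunctor (f ⁻¹ᵁ V).ι)]

theorem main : Nonempty (DCoh.Rpush f ⋙ DCoh.restrictD V.ι ≅
    DCoh.restrictD (f ⁻¹ᵁ V).ι ⋙ DCoh.Rpush (f ∣_ V)) := by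
  haveI h1 := isRightDerivedFunctor_postcomp (DCoh.pushKh f) (DCoh.Rpush f)
    ((DCoh.pushKh f).totalRightDerivedUnit Qh
      (HomotopyCategory.quasiIso X.Modules (ComplexShape.up ℤ))) (DCoh.restrictD V.ι)
  haveI h2 := isRightDerivedFunctor_precomp (DCoh.pushKh (f ∣_ V)) (DCoh.Rpush (f ∣_ V))
    ((DCoh.pushKh (f ∣_ V)).totalRightDerivedUnit Qh
      (HomotopyCategory.quasiIso (f ⁻¹ᵁ V).toScheme.Modules (ComplexShape.up ℤ)))
    (Scheme.Modules.restrictFunctor (f ⁻¹ᵁ V).ι)
    (fun I hI => by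
      haveI := hI
      exact isKInjective_restrict _ I)
  let e1 : (Scheme.Modules.pushforward f).mapHomotopyCategory (ComplexShape.up ℤ) ⋙
      (Scheme.Modules.restrictFunctor V.ι).mapHomotopyCategory (ComplexShape.up ℤ) ≅
      (Scheme.Modules.restrictFunctor (f ⁻¹ᵁ V).ι ⋙
        Scheme.Modules.pushforward (f ∣_ V)).mapHomotopyCategory (ComplexShape.up ℤ) :=
    Functor.mapHomotopyCategoryCompIso (Groth.Agent.LD.QCQS.baseChangeIso f V) _
  let e2 : (Scheme.Modules.restrictFunctor (f ⁻¹ᵁ V).ι).mapHomotopyCategory (ComplexShape.up ℤ) ⋙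
      (Scheme.Modules.pushforward (f ∣_ V)).mapHomotopyCategory (ComplexShape.up ℤ) ≅
      (Scheme.Modules.restrictFunctor (f ⁻¹ᵁ V).ι ⋙
        Scheme.Modules.pushforward (f ∣_ V)).mapHomotopyCategory (ComplexShape.up ℤ) :=
    Functor.mapHomotopyCategoryCompIso (Iso.refl _) _
  let e : DCoh.pushKh f ⋙ DCoh.restrictD V.ι ≅
      (Scheme.Modules.restrictFunctor (f ⁻¹ᵁ V).ι).mapHomotopyCategory (ComplexShape.up ℤ) ⋙
        DCoh.pushKh (f ∣_ V) :=
    Functor.associator _ _ _ ≪≫
      Functor.isoWhiskerLeft _ (Scheme.Modules.restrictFunctor V.ι).mapDerivedCategoryFactorsh ≪≫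
      (Functor.associator _ _ _).symm ≪≫
      Functor.isoWhiskerRight (e1 ≪≫ e2.symm) Qh ≪≫ Functor.associator _ _ _
  exact ⟨Functor.rightDerivedNatIso (DCoh.Rpush f ⋙ DCoh.restrictD V.ι)
    (DCoh.restrictD (f ⁻¹ᵁ V).ι ⋙ DCoh.Rpush (f ∣_ V))
    (Functor.whiskerRight ((DCoh.pushKh f).totalRightDerivedUnit Qh
      (HomotopyCategory.quasiIso X.Modules (ComplexShape.up ℤ))) (DCoh.restrictD V.ι) ≫
        (Functor.associator _ _ _).hom)
    (preUnit (DCoh.pushKh (f ∣_ V)) (DCoh.Rpush (f ∣_ V))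
      ((DCoh.pushKh (f ∣_ V)).totalRightDerivedUnit Qh
        (HomotopyCategory.quasiIso (f ⁻¹ᵁ V).toScheme.Modules (ComplexShape.up ℤ)))
      (Scheme.Modules.restrictFunctor (f ⁻¹ᵁ V).ι))
    (HomotopyCategory.quasiIso X.Modules (ComplexShape.up ℤ)) e⟩

end Sch

end Groth.Agent.H6.RpRes
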