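import Mathlib
import Groth.Prelude.Def_DCoh2
import Groth.Agent.Lib.Helper6.QcDPush3
import Groth.Agent.Lib.Helper6.RFTri5
import Groth.Agent.Lib.Helper7.LR2
import Groth.Agent.Lib.Lead.QC.FlatCover

/-! # Direct images along affine morphisms are acyclic for `f_*` when the composite is affine -/

universe u
open CategoryTheory Limits AlgebraicGeometry

attribute [local instance] HasDerivedCategory.standard

namespace Groth.Agent.H6.QcDPush

open Groth.Agent.LD Groth.Agent.H6.DCohEq DerivedCategory Groth.Agent.H6.MVTri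
  Groth.Agent.H6.RFTri Groth.Agent.H6.LerayBB

lemma isQCoh_single_X {U : Scheme.{u}} (G : U.Modules) (hG : Coh.IsQCoh G) (n : ℤ) :
    Coh.IsQCoh (((CochainComplex.singleFunctor U.Modules 0).obj G).X n) := by
  by_cases h : n = 0
  · subst h
    exact QC.qc_of_iso (HomologicalComplex.singleObjXSelf (ComplexShape.up ℤ) 0 G).symm hG
  · exact QC.qc_of_iso ((isZero_zero _).iso
      (HomologicalComplex.isZero_single_obj_X (ComplexShape.up ℤ) 0 G n h))
      (SC.qc_zero U)

theorem isZero_Rpush_push {U X Y : Scheme.{u}} (j : U ⟶ X) (f : X ⟶ Y) [IsAffineHom j]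
    [IsAffineHom (j ≫ f)] [HasInjectiveResolutions X.Modules]
    (G : U.Modules) (hG : Coh.IsQCoh G) (p : ℕ) (hp : 0 < p) :
    IsZero ((Coh.Rpush f p).obj ((Scheme.Modules.pushforward j).obj G)) := by
  haveI := Groth.Agent.Helper7.LR4.hasRpush j
  haveI := Groth.Agent.Helper7.LR4.hasRpush f
  haveI := Groth.Agent.Helper7.LR4.hasRpush (j ≫ f)
  haveI := Groth.Agent.H6.RpRes.hasKInjRes_modules X
  let S := (CochainComplex.singleFunctor U.Modules 0).obj G
  have hS : ∀ n, Coh.IsQCoh (S.X n) := isQCoh_single_X G hG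
  haveI h1 : IsIso (theta (Scheme.Modules.pushforward j) S) := isIso_theta_of_isAffineHom j S hS
  haveI h2 : IsIso (theta (Scheme.Modules.pushforward (j ≫ f)) S) :=
    isIso_theta_of_isAffineHom (j ≫ f) S hS
  obtain ⟨c⟩ := Groth.Agent.Helper7.LR2.rpush_comp j f
  let e : (RF (Scheme.Modules.pushforward f)).obj
      (Q.obj (((Scheme.Modules.pushforward j).mapHomologicalComplex (ComplexShape.up ℤ)).obj S)) ≅
      Q.obj (((Scheme.Modules.pushforward (j ≫ f)).mapHomologicalComplex (ComplexShape.up ℤ)).obj S) :=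
    (RF (Scheme.Modules.pushforward f)).mapIso (asIso (theta (Scheme.Modules.pushforward j) S)) ≪≫
      c.app (Q.obj S) ≪≫ (asIso (theta (Scheme.Modules.pushforward (j ≫ f)) S)).symm
  let e0 : (DerivedCategory.singleFunctor X.Modules 0).obj ((Scheme.Modules.pushforward j).obj G) ≅
      Q.obj (((Scheme.Modules.pushforward j).mapHomologicalComplex (ComplexShape.up ℤ)).obj S) :=
    (singleFunctorIsoCompQ X.Modules 0).app _ ≪≫
      Q.mapIso ((HomologicalComplex.singleMapHomologicalComplex
        (Scheme.Modules.pushforward j) (ComplexShape.up ℤ) 0).app G).symm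
  obtain ⟨e1⟩ := nonempty_homology_RF_single_iso (Scheme.Modules.pushforward f)
    ((Scheme.Modules.pushforward j).obj G) 0 p (p : ℤ) (by simp)
  refine IsZero.of_iso ?_ (e1.symm ≪≫ (homologyFunctor _ (p : ℤ)).mapIso
    ((RF (Scheme.Modules.pushforward f)).mapIso e0 ≪≫ e) ≪≫
    (homologyFunctorFactors _ (p : ℤ)).app _)
  apply ShortComplex.isZero_homology_of_isZero_X₂
  exact Functor.map_isZero (Scheme.Modules.pushforward (j ≫ f))
    (HomologicalComplex.isZero_single_obj_X (ComplexShape.up ℤ) 0 G p (by omega))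

end Groth.Agent.H6.QcDPush
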