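import Mathlib
import Groth.Prelude.Def_DCoh2
import Groth.Agent.Lib.Helper6.QcDPush4
import Groth.Agent.Lib.Helper3.ZClosLib

/-! # Injective objects of `QCoh(X)` are `f_*`-acyclic (affine diagonals) -/

universe u
open CategoryTheory Limits AlgebraicGeometry ZeroObject

attribute [local instance] HasDerivedCategory.standard

namespace Groth.Agent.H6.QcDPush

open Groth.Agent.LD Groth.Agent.H6.DCohEq Groth.Agent.H3

lemma isAffineHom_of_isAffine_source {Z Y : Scheme.{u}}
    (hdY : ∀ U V : Y.Opens, IsAffineOpen U → IsAffineOpen V → IsAffineOpen (U ⊓ V))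
    (g : Z ⟶ Y) [IsAffine Z] : IsAffineHom g := by
  haveI : IsAffineHom (pullback.diagonal (terminal.from Y)) :=
    isAffineHom_diagonal_iff.mpr (fun U _ V₁ _ V₂ _ h₁ h₂ => hdY V₁ V₂ h₁ h₂)
  haveI : MorphismProperty.HasOfPostcompProperty @IsAffineHom
      (MorphismProperty.diagonal @IsAffineHom) :=
    MorphismProperty.hasOfPostcompProperty_iff_le_diagonal.mpr le_rfl
  have h1 : IsAffineHom (g ≫ terminal.from Y) := by
    rw [terminal.comp_from]
    infer_instance
  exact MorphismProperty.of_postcomp (W := @IsAffineHom)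
    (W' := MorphismProperty.diagonal @IsAffineHom) g (terminal.from Y)
    (inferInstanceAs (IsAffineHom (pullback.diagonal (terminal.from Y)))) h1

lemma isAffineHom_opens_ι {X : Scheme.{u}}
    (hd : ∀ V W : X.Opens, IsAffineOpen V → IsAffineOpen W → IsAffineOpen (V ⊓ W))
    {U : X.Opens} (hU : IsAffineOpen U) : IsAffineHom U.ι := by
  refine ⟨fun V hV => ?_⟩
  rw [← Scheme.Hom.isAffineOpen_iff_of_isOpenImmersion U.ι,
    Scheme.Hom.image_preimage_eq_opensRange_inf, Scheme.Opens.opensRange_ι]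
  exact hd U V hU hV

lemma mono_of_cover {X : Scheme.{u}} {M T : X.Modules} (φ : M ⟶ T) (s : Finset X.Opens)
    (hs : ∀ x : X, ∃ U ∈ s, x ∈ U)
    (h : ∀ U ∈ s, Mono ((Scheme.Modules.restrictFunctor U.ι).map φ)) : Mono φ := by
  apply ZClosLib.mono_of_app_injective
  intro W
  rw [injective_iff_map_eq_zero]
  intro t ht
  apply QC.section_eq_zero_of_germ
  intro x hx
  obtain ⟨U, hU, hxU⟩ := hs x
  haveI := h U hU
  have hle : U.ι ''ᵁ (U.ι ⁻¹ᵁ W) ≤ W := by
    rw [Scheme.Hom.image_preimage_eq_opensRange_inf]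
    exact inf_le_right
  have hxV : x ∈ U.ι ''ᵁ (U.ι ⁻¹ᵁ W) := by
    rw [Scheme.Hom.image_preimage_eq_opensRange_inf, Scheme.Opens.opensRange_ι]
    exact ⟨hxU, hx⟩
  have hinj := ZClosLib.app_injective_of_mono ((Scheme.Modules.restrictFunctor U.ι).map φ)
    (U.ι ⁻¹ᵁ W)
  have key : φ.app (U.ι ''ᵁ (U.ι ⁻¹ᵁ W)) (M.presheaf.map (homOfLE hle).op t) = 0 := by
    have hn := congrArg (fun ψ => ψ t) (φ.mapPresheaf.naturality (homOfLE hle).op)
    simp only [Scheme.Modules.mapPresheaf_app] at hn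
    change φ.app _ (M.presheaf.map (homOfLE hle).op t) =
      T.presheaf.map (homOfLE hle).op (φ.app W t) at hn
    rw [hn, ht, map_zero]
  have h0 : M.presheaf.map (homOfLE hle).op t = 0 :=
    hinj (a₁ := M.presheaf.map (homOfLE hle).op t) (a₂ := 0)
      (key.trans (map_zero (φ.app (U.ι ''ᵁ (U.ι ⁻¹ᵁ W))).hom).symm)
  rw [← TopCat.Presheaf.germ_res_apply M.presheaf (homOfLE hle) x hxV t, h0, map_zero]

lemma exists_finset_affine_cover (X : Scheme.{u}) [CompactSpace X] :
    ∃ s : Finset X.Opens, (∀ U ∈ s, IsAffineOpen U) ∧ ∀ x : X, ∃ U ∈ s, x ∈ U := by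
  classical
  have hcov : (Set.univ : Set X) ⊆ ⋃ U : X.affineOpens, (U.1 : Set X) := by
    intro x _
    obtain ⟨W, hW, hxW, -⟩ := exists_isAffineOpen_mem_and_subset (x := x) (U := ⊤) trivial
    exact Set.mem_iUnion.mpr ⟨⟨W, hW⟩, hxW⟩
  obtain ⟨t, ht⟩ := isCompact_univ.elim_finite_subcover (fun U : X.affineOpens => (U.1 : Set X))
    (fun U => U.1.2) hcov
  refine ⟨t.image (fun U => U.1), ?_, ?_⟩
  · intro U hU
    obtain ⟨V, _, rfl⟩ := Finset.mem_image.1 hU
    exact V.2
  · intro x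
    obtain ⟨U, hU⟩ := Set.mem_iUnion.mp (ht (Set.mem_univ x))
    obtain ⟨hUt, hxU⟩ := Set.mem_iUnion.mp hU
    exact ⟨U.1, Finset.mem_image_of_mem _ hUt, hxU⟩

theorem exists_mono_acyclic {X Y : Scheme.{u}}
    (hdX : ∀ U V : X.Opens, IsAffineOpen U → IsAffineOpen V → IsAffineOpen (U ⊓ V))
    (hdY : ∀ U V : Y.Opens, IsAffineOpen U → IsAffineOpen V → IsAffineOpen (U ⊓ V))
    (f : X ⟶ Y) [HasInjectiveResolutions X.Modules]
    (M : X.Modules) (hM : M.IsQuasicoherent) (s : Finset X.Opens)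
    (hs : ∀ U ∈ s, IsAffineOpen U) :
    ∃ (T : X.Modules) (φ : M ⟶ T), T.IsQuasicoherent ∧
      (∀ p : ℕ, 0 < p → IsZero ((Coh.Rpush f p).obj T)) ∧
      ∀ U ∈ s, Mono ((Scheme.Modules.restrictFunctor U.ι).map φ) := by
  classical
  induction s using Finset.induction_on with
  | empty =>
    refine ⟨0, 0, SC.qc_zero X, fun p _ => ?_, by simp⟩
    exact Functor.map_isZero (Coh.Rpush f p) (isZero_zero _)
  | insert a s ha ih =>
    obtain ⟨T, φ, hTq, hTa, hTm⟩ := ih (fun U hU => hs U (Finset.mem_insert_of_mem hU))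
    have haff : IsAffineOpen a := hs a (Finset.mem_insert_self a s)
    haveI : IsAffineHom a.ι := isAffineHom_opens_ι hdX haff
    haveI : IsAffine ↑a := haff
    haveI : IsAffineHom (a.ι ≫ f) := isAffineHom_of_isAffine_source hdY _
    haveI := hM
    haveI hRq : (M.restrict a.ι).IsQuasicoherent := QC.qc_restrict a.ι M
    let G := (Scheme.Modules.pushforward a.ι).obj (M.restrict a.ι)
    let η : M ⟶ G := (Scheme.Modules.restrictAdjunction a.ι).unit.app M
    have hGq : G.IsQuasicoherent := QC.qc_pushforward a.ι _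
    have hGa : ∀ p : ℕ, 0 < p → IsZero ((Coh.Rpush f p).obj G) :=
      fun p hp => isZero_Rpush_push a.ι f _ hRq p hp
    refine ⟨T ⊞ G, biprod.lift φ η, ?_, ?_, ?_⟩
    · have h1 : (limit (pair T G)).IsQuasicoherent :=
        QC.qc_limit (pair T G) (by rintro ⟨_ | _⟩ <;> assumption)
      exact QC.qc_of_iso (biprod.isoProd T G).symm h1
    · exact Groth.Agent.H6.DerSt.acycP_biprod (Scheme.Modules.pushforward f) T G hTa hGa
    · intro U hU
      rcases Finset.mem_insert.1 hU with rfl | hU'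
      · haveI : IsIso ((Scheme.Modules.restrictFunctor U.ι).map η) :=
          Groth.Agent.LD.FlatCover.isIso_restrict_unit' U.ι M
        exact mono_of_mono_fac (show (Scheme.Modules.restrictFunctor U.ι).map (biprod.lift φ η) ≫
          (Scheme.Modules.restrictFunctor U.ι).map biprod.snd =
            (Scheme.Modules.restrictFunctor U.ι).map η by
          rw [← Functor.map_comp, biprod.lift_snd])
      · haveI := hTm U hU'
        exact mono_of_mono_fac (show (Scheme.Modules.restrictFunctor U.ι).map (biprod.lift φ η) ≫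
          (Scheme.Modules.restrictFunctor U.ι).map biprod.fst =
            (Scheme.Modules.restrictFunctor U.ι).map φ by
          rw [← Functor.map_comp, biprod.lift_fst])

theorem acyclic_of_injective {X Y : Scheme.{u}} [CompactSpace X]
    (hdX : ∀ U V : X.Opens, IsAffineOpen U → IsAffineOpen V → IsAffineOpen (U ⊓ V))
    (hdY : ∀ U V : Y.Opens, IsAffineOpen U → IsAffineOpen V → IsAffineOpen (U ⊓ V))
    (f : X ⟶ Y) [HasInjectiveResolutions X.Modules]
    (J : QCohCat.QCoh X) [Injective J] (p : ℕ) (hp : 0 < p) :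
    IsZero ((Coh.Rpush f p).obj J.obj) := by
  obtain ⟨s, hs1, hs2⟩ := exists_finset_affine_cover X
  obtain ⟨T, φ, hTq, hTa, hTm⟩ := exists_mono_acyclic hdX hdY f J.obj J.property s hs1
  haveI : Mono φ := mono_of_cover φ s hs2 hTm
  let φ' : J ⟶ (⟨T, hTq⟩ : QCohCat.QCoh X) := ObjectProperty.homMk φ
  haveI : Mono ((QCohCat.isQCoh X).ι.map φ') := (inferInstance : Mono φ)
  haveI : Mono φ' := (QCohCat.isQCoh X).ι.mono_of_mono_map inferInstance
  have hr : φ' ≫ Injective.factorThru (𝟙 J) φ' = 𝟙 J := Injective.comp_factorThru _ _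
  have hr' : φ ≫ (Injective.factorThru (𝟙 J) φ').hom = 𝟙 J.obj :=
    congrArg (fun ψ => ψ.hom) hr
  rw [IsZero.iff_id_eq_zero, ← CategoryTheory.Functor.map_id, ← hr', Functor.map_comp,
    (hTa p hp).eq_of_tgt ((Coh.Rpush f p).map φ) 0, zero_comp]

end Groth.Agent.H6.QcDPush
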