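import Mathlib
import Groth.Prelude.Def_DCoh2
import Groth.Prelude.Def_DCoh3
import Groth.Prelude.Def_CxOX
import Groth.Agent.Lib.Helper6.DQEq6
import Groth.Agent.Lib.Helper6.DQA1
import Groth.Agent.Lib.Helper6.QcDPush6

/-! # Amplitude bounds with explicit constants; schemes with affine diagonal -/

universe u
open CategoryTheory Limits AlgebraicGeometry

attribute [local instance] HasDerivedCategory.standard

namespace Groth.Agent.H6.DQEq

open Groth.Agent.LD Groth.Agent.H6.DCohEq DerivedCategory Groth.Agent.H6.QcDPush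
  Groth.Agent.H6.DerAdj Groth.Agent.H6 Groth.Agent.Helper7.QB1 Groth.Agent.Helper7.QB2

/-- affine diagonal, in the form of the statements -/
abbrev AD (Y : Scheme.{u}) : Prop :=
  ∀ U V : Y.Opens, IsAffineOpen U → IsAffineOpen V → IsAffineOpen (U ⊓ V)

lemma ad_of_isOpenImmersion {U Z : Scheme.{u}} (j : U ⟶ Z) [IsOpenImmersion j] (hZ : AD Z) :
    AD U := by
  intro V W hV hW
  rw [← Scheme.Hom.isAffineOpen_iff_of_isOpenImmersion j]
  have e : j ''ᵁ (V ⊓ W) = j ''ᵁ V ⊓ j ''ᵁ W := by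
    apply TopologicalSpace.Opens.ext
    exact Set.image_inter j.isOpenEmbedding.injective
  rw [e]
  exact hZ _ _ (hV.image_of_isOpenImmersion j) (hW.image_of_isOpenImmersion j)

section ABn

variable (Z : Scheme.{u}) [CompactSpace Z] [QuasiSeparatedSpace Z]

/-- the amplitude bound with an explicit constant -/
def ABn (N : ℕ) : Prop :=
  ∀ K : DCoh.D Z, DCoh.IsQCohD K → ∀ b : ℤ,
    (∀ q : ℤ, b < q → IsZero (DCoh.HD K q)) → ∀ m : ℤ, b + N < m →
      IsZero ((homologyFunctor (QC Z) m).obj ((RQz Z).obj K))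

lemma hasAB_of_abn {N : ℕ} (h : ABn Z N) : HasAB Z := ⟨N, h⟩

end ABn

lemma abn_affine (R : CommRingCat.{u}) : ABn (X₀ R) 0 := by
  intro K hK b hb m hm
  have h1 := vanishing_Gam R K hK b hb m (by simpa using hm)
  have h2 : IsZero ((homologyFunctor (ModuleCat.{u} R) m).obj
      ((tq R).inverse.mapDerivedCategory.obj ((RQz (X₀ R)).obj K))) :=
    h1.of_iso ((homologyFunctor (ModuleCat.{u} R) m).mapIso ((rgIso R).app K).symm)
  exact (isZero_homology_map_iff (tq R).inverse _ m).1 h2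

/-- the amplitude bound passes to quasi-compact opens, with explicit constants -/
theorem abn_of_openImmersion {U Z : Scheme.{u}} (j : U ⟶ Z) [IsOpenImmersion j]
    [QuasiCompact j] [QuasiSeparated j] [CompactSpace U] [QuasiSeparatedSpace U]
    [CompactSpace Z] [QuasiSeparatedSpace Z] [DCoh.HasRpush j] (D N : ℕ)
    (hD : ∀ (E : DCoh.D U), DCoh.IsQCohD E → ∀ b : ℤ,
      (∀ q : ℤ, b < q → IsZero (DCoh.HD E q)) → ∀ m : ℤ, b + D < m →
      IsZero (DCoh.HD ((DCoh.Rpush j).obj E) m))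
    (hN : ABn Z N) : ABn U (D + N) := by
  intro K hK b hb m hm
  have h1 : DCoh.IsQCohD ((DCoh.Rpush j).obj K) := QcVan.isQCohD_Rpush_of_compact j K hK
  have h2 := hN ((DCoh.Rpush j).obj K) h1 (b + D) (fun q hq => hD K hK b hb q hq) m
    (by push_cast at hm; omega)
  haveI := isIso_dq_counit j
  let e1 : (resq j).mapDerivedCategory.obj ((Φq j).obj ((RQz U).obj K)) ≅ (RQz U).obj K :=
    asIso ((dq j).counit.app ((RQz U).obj K))
  let e2 : (RQz Z).obj ((DCoh.Rpush j).obj K) ≅ (Φq j).obj ((RQz U).obj K) :=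
    (rightIso j).app K
  have h3 : IsZero ((homologyFunctor (QC U) m).obj
      ((resq j).mapDerivedCategory.obj ((RQz Z).obj ((DCoh.Rpush j).obj K)))) := by
    refine IsZero.of_iso ?_ ((homologyMapDerivedNatIso (resq j) m).app _)
    exact (resq j).map_isZero h2
  exact h3.of_iso ((homologyFunctor (QC U) m).mapIso
    (e1.symm ≪≫ (resq j).mapDerivedCategory.mapIso e2.symm))

theorem abn_of_isAffine (Z : Scheme.{u}) [IsAffine Z] : ABn Z 0 := by
  haveI := hasRpush' Z.isoSpec.hom
  have h := abn_of_openImmersion Z.isoSpec.hom 0 0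
    (fun E hE b hb m hm => QcVan.vanishing_of_isAffineHom' Z.isoSpec.hom E hE b hb m
      (by simpa using hm)) (abn_affine Γ(Z, ⊤))
  simpa using h

section Phi

variable {U Z : Scheme.{u}} (j : U ⟶ Z) [IsOpenImmersion j] [CompactSpace U] [CompactSpace Z]
  (hU : AD U) (hZ : AD Z) [DCoh.HasRpush j]

include hU hZ in
/-- amplitude of `R(j_*|QCoh)` from the amplitude of `Rj_*` -/
theorem Φq_bound_of {D : ℕ} :
    haveI : QuasiSeparatedSpace U := quasiSeparatedSpace_of_affine_inter hU
    haveI : QuasiSeparatedSpace Z := quasiSeparatedSpace_of_affine_inter hZ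
    haveI : QuasiSeparated j := (quasiSeparated_iff_quasiSeparatedSpace j).2 inferInstance
    (∀ (E : DCoh.D U), DCoh.IsQCohD E → ∀ b : ℤ,
      (∀ q : ℤ, b < q → IsZero (DCoh.HD E q)) → ∀ m : ℤ, b + D < m →
      IsZero (DCoh.HD ((DCoh.Rpush j).obj E) m)) →
    ∀ M : DerivedCategory (QC U), ∀ c : ℤ,
      (∀ q : ℤ, c < q → IsZero ((homologyFunctor (QC U) q).obj M)) → ∀ m : ℤ, c + D < m →
        IsZero ((homologyFunctor (QC Z) m).obj ((Φq j).obj M)) := by
  haveI : QuasiSeparatedSpace U := quasiSeparatedSpace_of_affine_inter hU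
  haveI : QuasiSeparatedSpace Z := quasiSeparatedSpace_of_affine_inter hZ
  haveI : QuasiSeparated j := (quasiSeparated_iff_quasiSeparatedSpace j).2 inferInstance
  intro hD M c hc m hm
  obtain ⟨e⟩ := main7270 hU hZ j (hpush j)
  have h1 := hD ((ιq U).mapDerivedCategory.obj M) (isQCohD_map U M) c
    (fun q hq => (isZero_homology_map_iff (ιq U) M q).2 (hc q hq)) m hm
  rw [← isZero_homology_map_iff (ιq Z)]
  exact h1.of_iso ((homologyFunctor Z.Modules m).mapIso (e.app M))

end Phi

end Groth.Agent.H6.DQEq
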