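import Mathlib
import Groth.Prelude.Def_DCoh2
import Groth.Prelude.Def_DCoh3
import Groth.Prelude.Def_CxOX
import Groth.Agent.Lib.Helper6.DQA2

/-! # The amplitude bound for the derived coherator: quasi-compact schemes with affine diagonal -/

universe u
open CategoryTheory Limits AlgebraicGeometry

attribute [local instance] HasDerivedCategory.standard

namespace Groth.Agent.H6.DQEq

open Groth.Agent.LD Groth.Agent.H6.DCohEq DerivedCategory Groth.Agent.H6.QcDPush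
  Groth.Agent.H6.DerAdj Groth.Agent.H6 Groth.Agent.H6.RFTri Groth.Agent.H6.MVTri Pretriangulated

section MV

/-- the contribution of an open subscheme -/
lemma contribAD {U Z : Scheme.{u}} (j : U ⟶ Z) [IsOpenImmersion j] [CompactSpace U]
    [CompactSpace Z] [QuasiSeparatedSpace U] [QuasiSeparatedSpace Z] (hU : AD U) (hZ : AD Z)
    [DCoh.HasRpush j] (hab : HasAB U) :
    ∃ N : ℕ, ∀ K : DCoh.D Z, DCoh.IsQCohD K → ∀ b : ℤ,
      (∀ q : ℤ, b < q → IsZero (DCoh.HD K q)) → ∀ m : ℤ, b + N < m →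
        IsZero ((homologyFunctor (QC Z) m).obj
          ((RQz Z).obj ((DCoh.Rpush j).obj ((DCoh.restrictD j).obj K)))) := by
  haveI : QuasiSeparated j := (quasiSeparated_iff_quasiSeparatedSpace j).2 inferInstance
  obtain ⟨N₁, h₁⟩ := hab
  obtain ⟨N₂, hD⟩ := QcVan.exists_vanishing_bound j
  have h₂ := Φq_bound_of j hU hZ hD
  refine ⟨N₁ + N₂, fun K hK b hb m hm => ?_⟩
  have h3 := h₁ ((DCoh.restrictD j).obj K) (isQCohD_restrictD j K hK) b
    (fun q hq => isZero_HD_restrictD j K q (hb q hq))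
  have h4 := h₂ ((RQz U).obj ((DCoh.restrictD j).obj K)) (b + N₁) h3 m
    (by push_cast at hm; omega)
  exact h4.of_iso ((homologyFunctor (QC Z) m).mapIso
    ((rightIso j).app ((DCoh.restrictD j).obj K)))

theorem hasAB_mvAD (Z : Scheme.{u}) [CompactSpace Z] [QuasiSeparatedSpace Z] (hZ : AD Z)
    (U V : Z.Opens) [CompactSpace ↑U] [CompactSpace ↑V] [CompactSpace ↑(U ⊓ V)]
    [QuasiSeparatedSpace ↑U] [QuasiSeparatedSpace ↑V] [QuasiSeparatedSpace ↑(U ⊓ V)]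
    (hUV : U ⊔ V = ⊤)
    (hU : HasAB ↑U) (hV : HasAB ↑V) (hW : HasAB ↑(U ⊓ V)) : HasAB Z := by
  haveI := hasRpush' U.ι
  haveI := hasRpush' V.ι
  haveI := hasRpush' (U ⊓ V).ι
  obtain ⟨N₁, h₁⟩ := contribAD U.ι (ad_of_isOpenImmersion U.ι hZ) hZ hU
  obtain ⟨N₂, h₂⟩ := contribAD V.ι (ad_of_isOpenImmersion V.ι hZ) hZ hV
  obtain ⟨N₃, h₃⟩ := contribAD (U ⊓ V).ι (ad_of_isOpenImmersion (U ⊓ V).ι hZ) hZ hW
  refine ⟨N₁ + N₂ + N₃ + 1, fun K hK b hb m hm => ?_⟩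
  obtain ⟨a, b', c, hT⟩ := s6510 U V hUV K
  push_cast at hm
  refine isZero_homology_RF_obj₁ (Qz Z) _ hT (m - 1) m (by omega) ?_ ?_
  · exact h₃ K hK b hb (m - 1) (by omega)
  · exact isZero_homology_RF_biprod (Qz Z) _ _ m (h₁ K hK b hb m (by omega))
      (h₂ K hK b hb m (by omega))

end MV

section Ind

variable (X : Scheme.{u}) (hX : AD X)

/-- the inductive property of opens -/
def PABAD (O : X.Opens) : Prop :=
  IsCompact (O : Set X) ∧
  ∀ (Y : Scheme.{u}) (j : Y ⟶ X) [IsOpenImmersion j] [CompactSpace Y] [QuasiSeparatedSpace Y],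
    j.opensRange = O → HasAB Y

lemma pabAD_affine (O : X.Opens) (hO : IsAffineOpen O) : PABAD X O := by
  refine ⟨hO.isCompact, ?_⟩
  intro Y j _ _ _ hj
  haveI : IsAffine ↑(j.opensRange) := by rw [hj]; exact hO
  haveI : IsAffine Y := IsAffine.of_isIso j.isoOpensRange.hom
  exact hasAB_of_isAffine Y

lemma compactSpace_of_opensRange {Y : Scheme.{u}} (j : Y ⟶ X) [IsOpenImmersion j]
    (T' : Y.Opens) (T : X.Opens) (hT : IsCompact (T : Set X)) (h : (T'.ι ≫ j).opensRange = T) :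
    CompactSpace ↑T' := by
  have h1 : IsCompact (Set.range (T'.ι ≫ j).base) := by
    have := congrArg (fun O : X.Opens => (O : Set X)) h
    simp only [Scheme.Hom.coe_opensRange] at this
    rw [this]
    exact hT
  have h2 : IsCompact ((T'.ι ≫ j).base ⁻¹' (Set.range (T'.ι ≫ j).base)) :=
    (T'.ι ≫ j).isOpenEmbedding.isInducing.isCompact_preimage' h1 (le_refl _)
  rw [Set.preimage_range] at h2
  exact isCompact_univ_iff.1 h2

include hX in
lemma pabAD_mv (O W : X.Opens) (hO : PABAD X O) (hW : PABAD X W) (hOW : PABAD X (O ⊓ W)) :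
    PABAD X (O ⊔ W) := by
  refine ⟨hO.1.union hW.1, ?_⟩
  intro Y j _ _ _ hj
  have hY : AD Y := ad_of_isOpenImmersion j hX
  have hr : ∀ (T' : Y.Opens) (T : X.Opens), T ≤ O ⊔ W → T' = j ⁻¹ᵁ T →
      (T'.ι ≫ j).opensRange = T := by
    intro T' T hT hT'
    subst hT'
    rw [Scheme.Hom.opensRange_comp, Scheme.Opens.opensRange_ι,
      Scheme.Hom.image_preimage_eq_opensRange_inf, hj]
    exact inf_eq_right.2 hT
  have r1 := hr _ O le_sup_left rfl
  have r2 := hr _ W le_sup_right rfl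
  have r3 := hr (j ⁻¹ᵁ O ⊓ j ⁻¹ᵁ W) (O ⊓ W) (inf_le_left.trans le_sup_left) rfl
  haveI := compactSpace_of_opensRange X j _ O hO.1 r1
  haveI := compactSpace_of_opensRange X j _ W hW.1 r2
  haveI := compactSpace_of_opensRange X j _ (O ⊓ W) hOW.1 r3
  haveI : QuasiSeparatedSpace ↑(j ⁻¹ᵁ O) :=
    quasiSeparatedSpace_of_affine_inter (ad_of_isOpenImmersion (j ⁻¹ᵁ O).ι hY)
  haveI : QuasiSeparatedSpace ↑(j ⁻¹ᵁ W) :=
    quasiSeparatedSpace_of_affine_inter (ad_of_isOpenImmersion (j ⁻¹ᵁ W).ι hY)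
  haveI : QuasiSeparatedSpace ↑(j ⁻¹ᵁ O ⊓ j ⁻¹ᵁ W) :=
    quasiSeparatedSpace_of_affine_inter (ad_of_isOpenImmersion (j ⁻¹ᵁ O ⊓ j ⁻¹ᵁ W).ι hY)
  refine hasAB_mvAD Y hY (j ⁻¹ᵁ O) (j ⁻¹ᵁ W) ?_ ?_ ?_ ?_
  · rw [← Scheme.Hom.preimage_sup, ← hj]
    exact Scheme.Hom.preimage_opensRange j
  · exact hO.2 _ ((j ⁻¹ᵁ O).ι ≫ j) r1
  · exact hW.2 _ ((j ⁻¹ᵁ W).ι ≫ j) r2
  · exact hOW.2 _ ((j ⁻¹ᵁ O ⊓ j ⁻¹ᵁ W).ι ≫ j) r3

include hX in
theorem hasAB_of_AD [CompactSpace X] [QuasiSeparatedSpace X] : HasAB X := by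
  have h := QCQS.mv_induction (PABAD X) (pabAD_mv X hX) (pabAD_affine X) ⊤
    (by simpa using isCompact_univ) (by simpa using (isQuasiSeparated_univ (α := X)))
  exact h.2 X (𝟙 X) (Scheme.Hom.opensRange_of_isIso _)

end Ind

end Groth.Agent.H6.DQEq
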