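import Mathlib
import Groth.Prelude.Def_DCoh2
import Groth.Prelude.Def_DCoh3
import Groth.Prelude.Def_CxOX
import Groth.Agent.Lib.Helper6.DQA3
import Groth.Agent.Lib.Helper6.QcDPush5
import Groth.Agent.Lib.Helper2.RDer8

/-! # Quasi-coherent modules are acyclic for the coherator (affine diagonal) -/

universe u
open CategoryTheory Limits AlgebraicGeometry

attribute [local instance] HasDerivedCategory.standard

namespace Groth.Agent.H6.DQEq

open Groth.Agent.LD Groth.Agent.H6.DCohEq DerivedCategory Groth.Agent.H6.QcDPush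
  Groth.Agent.H6.DerAdj Groth.Agent.H6 Groth.Agent.H6.RFTri Groth.Agent.H6.MVTri
  Groth.Agent.H6.LerayBB Groth.Agent.H6.DerSt

open ZeroObject

section Push

variable {Y : Scheme.{u}} [CompactSpace Y] (hY : AD Y)

instance [QuasiSeparatedSpace Y] : PreservesFiniteLimits (Qz Y) := by
  haveI := (adjz Y).rightAdjoint_preservesLimits
  infer_instance

include hY in
/-- `j_* N` is acyclic for the coherator when `j` is the inclusion of an affine open. -/
theorem acycP_Qz_push [QuasiSeparatedSpace Y] [HasInjectiveResolutions Y.Modules]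
    (a : Y.Opens) (ha : IsAffineOpen a)
    (N : (↑a : Scheme.{u}).Modules) (hN : Coh.IsQCoh N) :
    acycP (Qz Y) ((Scheme.Modules.pushforward a.ι).obj N) := by
  intro p hp
  haveI : IsAffine (↑a : Scheme.{u}) := ha
  haveI : IsAffineHom a.ι := isAffineHom_opens_ι hY ha
  haveI := hasRpush' a.ι
  have hU : AD (↑a : Scheme.{u}) := ad_of_isOpenImmersion a.ι hY
  let S := (CochainComplex.singleFunctor (↑a : Scheme.{u}).Modules 0).obj N
  have hS : ∀ n, Coh.IsQCoh (S.X n) := isQCoh_single_X N hN
  haveI h1 : IsIso (theta (Scheme.Modules.pushforward a.ι) S) :=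
    isIso_theta_of_isAffineHom a.ι S hS
  let e0 : (DerivedCategory.singleFunctor Y.Modules 0).obj
      ((Scheme.Modules.pushforward a.ι).obj N) ≅
      Q.obj (((Scheme.Modules.pushforward a.ι).mapHomologicalComplex (ComplexShape.up ℤ)).obj S) :=
    (singleFunctorIsoCompQ Y.Modules 0).app _ ≪≫
      Q.mapIso ((HomologicalComplex.singleMapHomologicalComplex
        (Scheme.Modules.pushforward a.ι) (ComplexShape.up ℤ) 0).app N).symm
  -- `(j_* N)[0] ≅ Rj_* (N[0])`
  let e1 : (DerivedCategory.singleFunctor Y.Modules 0).obj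
      ((Scheme.Modules.pushforward a.ι).obj N) ≅ (DCoh.Rpush a.ι).obj (Q.obj S) :=
    e0 ≪≫ asIso (theta (Scheme.Modules.pushforward a.ι) S)
  obtain ⟨e2⟩ := nonempty_homology_RF_single_iso (Qz Y)
    ((Scheme.Modules.pushforward a.ι).obj N) 0 p (p : ℤ) (by simp)
  refine IsZero.of_iso ?_ (e2.symm ≪≫ (homologyFunctor _ (p : ℤ)).mapIso
    ((RQz Y).mapIso e1 ≪≫ (rightIso a.ι).app (Q.obj S)))
  -- amplitude of `RQ_U (N[0])`
  have hQS : DCoh.IsQCohD (Q.obj S) := isQCohD_Q_obj S hS
  have h3 : ∀ q : ℤ, 0 < q → IsZero ((homologyFunctor (QC (↑a : Scheme.{u})) q).obj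
      ((RQz (↑a : Scheme.{u})).obj (Q.obj S))) := by
    intro q hq
    refine abn_of_isAffine (↑a : Scheme.{u}) (Q.obj S) hQS 0 ?_ q (by simpa using hq)
    intro q' hq'
    refine IsZero.of_iso ?_ ((homologyFunctorFactors _ q').app S)
    apply ShortComplex.isZero_homology_of_isZero_X₂
    exact HomologicalComplex.isZero_single_obj_X (ComplexShape.up ℤ) 0 N q' (by omega)
  exact Φq_bound_of a.ι hU hY (D := 0)
    (fun E hE b hb m hm => QcVan.vanishing_of_isAffineHom' a.ι E hE b hb m (by simpa using hm))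
    _ 0 h3 (p : ℤ) (by simpa using hp)

include hY in
theorem exists_mono_acycQ [QuasiSeparatedSpace Y] [HasInjectiveResolutions Y.Modules]
    (M : Y.Modules) (hM : M.IsQuasicoherent) (s : Finset Y.Opens)
    (hs : ∀ U ∈ s, IsAffineOpen U) :
    ∃ (T : Y.Modules) (φ : M ⟶ T), T.IsQuasicoherent ∧ acycP (Qz Y) T ∧
      ∀ U ∈ s, Mono ((Scheme.Modules.restrictFunctor U.ι).map φ) := by
  classical
  induction s using Finset.induction_on with
  | empty =>
    refine ⟨0, 0, SC.qc_zero Y, fun p _ => ?_, by simp⟩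
    exact Functor.map_isZero _ (isZero_zero _)
  | insert a s ha ih =>
    obtain ⟨T, φ, hTq, hTa, hTm⟩ := ih (fun U hU => hs U (Finset.mem_insert_of_mem hU))
    have haff : IsAffineOpen a := hs a (Finset.mem_insert_self a s)
    haveI := hM
    haveI hRq : (M.restrict a.ι).IsQuasicoherent := QC.qc_restrict a.ι M
    let G := (Scheme.Modules.pushforward a.ι).obj (M.restrict a.ι)
    let η : M ⟶ G := (Scheme.Modules.restrictAdjunction a.ι).unit.app M
    haveI : IsAffineHom a.ι := isAffineHom_opens_ι hY haff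
    have hGq : G.IsQuasicoherent := QC.qc_pushforward a.ι _
    have hGa : acycP (Qz Y) G := acycP_Qz_push hY a haff _ hRq
    refine ⟨T ⊞ G, biprod.lift φ η, ?_, ?_, ?_⟩
    · have h1 : (limit (pair T G)).IsQuasicoherent :=
        QC.qc_limit (pair T G) (by rintro ⟨_ | _⟩ <;> assumption)
      exact QC.qc_of_iso (biprod.isoProd T G).symm h1
    · exact acycP_biprod (Qz Y) T G hTa hGa
    · intro U hU
      rcases Finset.mem_insert.1 hU with rfl | hU'
      · haveI : IsIso ((Scheme.Modules.restrictFunctor U.ι).map η) :=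
          Groth.Agent.LD.FlatCover.isIso_restrict_unit' U.ι M
        exact mono_of_mono_fac (show (Scheme.Modules.restrictFunctor U.ι).map (biprod.lift φ η) ≫
          (Scheme.Modules.restrictFunctor U.ι).map biprod.snd =
            (Scheme.Modules.restrictFunctor U.ι).map η by
          rw [← Functor.map_comp, biprod.lift_snd])
      · haveI := hTm U hU'
        exact mono_of_mono_fac (show (Scheme.Modules.restrictFunctor U.ι).map (biprod.lift φ η) ≫
          (Scheme.Modules.restrictFunctor U.ι).map biprod.fst =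
            (Scheme.Modules.restrictFunctor U.ι).map φ by
          rw [← Functor.map_comp, biprod.lift_fst])

omit [CompactSpace Y] in
/-- the coherator is the identity on quasi-coherent modules, in particular it preserves
epimorphisms between them -/
lemma epi_Qz_map [CompactSpace Y] [QuasiSeparatedSpace Y] {T C : Y.Modules} (g : T ⟶ C) [Epi g]
    (hT : T.IsQuasicoherent) (hC : C.IsQuasicoherent) : Epi ((Qz Y).map g) := by
  let T' : QC Y := ⟨T, hT⟩
  let C' : QC Y := ⟨C, hC⟩
  let g' : T' ⟶ C' := ObjectProperty.homMk g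
  haveI : Epi ((ιq Y).map g') := (inferInstance : Epi g)
  haveI : Epi g' := (ιq Y).epi_of_epi_map inferInstance
  haveI : IsIso (adjz Y).unit := (adjz Y).unit_isIso_of_L_fully_faithful
  have hn := (adjz Y).unit.naturality g'
  have h2 : (Qz Y).map g = inv ((adjz Y).unit.app T') ≫ g' ≫ (adjz Y).unit.app C' := by
    rw [IsIso.eq_inv_comp]
    exact hn.symm
  rw [h2]
  infer_instance

include hY in
theorem isZero_rightDerived_Qz [QuasiSeparatedSpace Y] [HasInjectiveResolutions Y.Modules] :
    ∀ (k : ℕ) (M : Y.Modules), M.IsQuasicoherent →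
      IsZero (((Qz Y).rightDerived (k + 1)).obj M) := by
  intro k
  induction k with
  | zero =>
    intro M hM
    obtain ⟨s, hs1, hs2⟩ := exists_finset_affine_cover Y
    obtain ⟨T, φ, hTq, hTa, hTm⟩ := exists_mono_acycQ hY M hM s hs1
    haveI : Mono φ := mono_of_cover φ s hs2 hTm
    have hC : (cokernel φ).IsQuasicoherent := QC.qc_cokernel φ hM hTq
    let S : ShortComplex Y.Modules := ShortComplex.mk φ (cokernel.π φ) (cokernel.condition φ)
    have hS : S.ShortExact :=
      { exact := ShortComplex.exact_cokernel φ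
        mono_f := inferInstanceAs (Mono φ)
        epi_g := inferInstanceAs (Epi (cokernel.π φ)) }
    exact Groth.Agent.H2.RDer.isZero_X₁_one (Qz Y) hS (epi_Qz_map (cokernel.π φ) hTq hC)
      (hTa 1 (by omega))
  | succ k ih =>
    intro M hM
    obtain ⟨s, hs1, hs2⟩ := exists_finset_affine_cover Y
    obtain ⟨T, φ, hTq, hTa, hTm⟩ := exists_mono_acycQ hY M hM s hs1
    haveI : Mono φ := mono_of_cover φ s hs2 hTm
    have hC : (cokernel φ).IsQuasicoherent := QC.qc_cokernel φ hM hTq
    let S : ShortComplex Y.Modules := ShortComplex.mk φ (cokernel.π φ) (cokernel.condition φ)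
    have hS : S.ShortExact :=
      { exact := ShortComplex.exact_cokernel φ
        mono_f := inferInstanceAs (Mono φ)
        epi_g := inferInstanceAs (Epi (cokernel.π φ)) }
    exact Groth.Agent.H2.RDer.isZero_X₁ (Qz Y) hS (k + 1) (ih (cokernel φ) hC)
      (hTa (k + 1 + 1) (by omega))

include hY in
theorem acycP_Qz_of_qcoh [QuasiSeparatedSpace Y] [HasInjectiveResolutions Y.Modules]
    (M : Y.Modules) (hM : M.IsQuasicoherent) : acycP (Qz Y) M := by
  intro p hp
  obtain ⟨k, rfl⟩ : ∃ k, p = k + 1 := ⟨p - 1, by omega⟩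
  exact isZero_rightDerived_Qz hY k M hM

end Push

end Groth.Agent.H6.DQEq
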