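import Mathlib
import Groth.Prelude.Def_DCoh2
import Groth.Prelude.Def_DCoh3
import Groth.Prelude.Def_CxOX
import Groth.Agent.Lib.Helper6.DQA4
import Groth.Agent.Lib.Helper7.WayOut2

/-! # `D(QCoh(X)) ≃ D_QCoh(O_X)` for quasi-compact `X` with affine diagonal -/

universe u
open CategoryTheory Limits AlgebraicGeometry

attribute [local instance] HasDerivedCategory.standard

namespace Groth.Agent.H6.DQEq

open Groth.Agent.LD Groth.Agent.H6.DCohEq DerivedCategory Groth.Agent.H6.QcDPush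
  Groth.Agent.H6.DerAdj Groth.Agent.H6 Groth.Agent.H6.RFTri Groth.Agent.H6.MVTri
  Groth.Agent.H6.LerayBB Groth.Agent.H6.DerSt

section Abstract

universe v₁ u₁ v₂ u₂

variable {𝒜 : Type u₁} [Category.{v₁} 𝒜] [Abelian 𝒜] {ℬ : Type u₂} [Category.{v₂} ℬ] [Abelian ℬ]
  [KInjDS.HasKInjRes ℬ]
  (i : 𝒜 ⥤ ℬ) [i.Additive] [PreservesFiniteLimits i] [PreservesFiniteColimits i]
  {Qf : ℬ ⥤ 𝒜} (adj : i ⊣ Qf) [Qf.Additive]
  [(Gh Qf).HasRightDerivedFunctor (HomotopyCategory.quasiIso ℬ (ComplexShape.up ℤ))]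
  (P : ObjectProperty ℬ) [WSerre.IsWeakSerre P]

include adj in
theorem main_abstract' [i.Full] [i.Faithful] (hP : ∀ M, P M ↔ i.essImage M) (N : ℕ)
    (hAB : ∀ K : DerivedCategory ℬ, WSerre.cohIn P K → ∀ b : ℤ,
      (∀ q : ℤ, b < q → IsZero ((homologyFunctor ℬ q).obj K)) → ∀ m : ℤ, b + N < m →
        IsZero ((homologyFunctor 𝒜 m).obj ((RGf Qf).obj K)))
    (hBB : ∀ K : DerivedCategory ℬ, WSerre.cohIn P K → (∃ a : ℤ, K.IsGE a) →
      IsIso ((dadj i adj).counit.app K)) :
    i.mapDerivedCategory.Full ∧ i.mapDerivedCategory.Faithful ∧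
    ∀ K : DerivedCategory ℬ, WSerre.cohIn P K ↔
      ∃ M, Nonempty (i.mapDerivedCategory.obj M ≅ K) := by
  have hc : ∀ K, WSerre.cohIn P K → IsIso ((dadj i adj).counit.app K) :=
    isIso_counit_of_bounds i adj P N hAB hBB
  have himg : ∀ M : DerivedCategory 𝒜, WSerre.cohIn P (i.mapDerivedCategory.obj M) :=
    fun M q => (hP _).2
      ⟨(homologyFunctor 𝒜 q).obj M, ⟨((homologyMapDerivedNatIso i q).app M).symm⟩⟩
  haveI : IsIso (dadj i adj).unit := by
    haveI : ∀ M, IsIso ((dadj i adj).unit.app M) := fun M => by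
      apply isIso_of_isIso_map i
      haveI := hc _ (himg M)
      have h := (dadj i adj).left_triangle_components M
      haveI : IsIso (i.mapDerivedCategory.map ((dadj i adj).unit.app M) ≫
          (dadj i adj).counit.app (i.mapDerivedCategory.obj M)) := by
        rw [h]
        exact IsIso.id _
      exact IsIso.of_isIso_comp_right _
        ((dadj i adj).counit.app (i.mapDerivedCategory.obj M))
    exact NatIso.isIso_of_isIso_app _
  refine ⟨(dadj i adj).fullyFaithfulLOfIsIsoUnit.full,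
    (dadj i adj).fullyFaithfulLOfIsIsoUnit.faithful, fun K => ⟨fun hK => ?_, ?_⟩⟩
  · haveI := hc K hK
    exact ⟨(RGf Qf).obj K, ⟨asIso ((dadj i adj).counit.app K)⟩⟩
  · rintro ⟨M, ⟨e⟩⟩
    exact fun q => P.prop_of_iso ((homologyFunctor ℬ q).mapIso e) (himg M q)

end Abstract

section Single

variable {Y : Scheme.{u}} [CompactSpace Y] [QuasiSeparatedSpace Y]

omit [CompactSpace Y] [QuasiSeparatedSpace Y] in
lemma isIso_adjz_counit [CompactSpace Y] [QuasiSeparatedSpace Y] (M : Y.Modules)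
    (hM : M.IsQuasicoherent) : IsIso ((adjz Y).counit.app M) := by
  let M' : QC Y := ⟨M, hM⟩
  change IsIso ((adjz Y).counit.app ((ιq Y).obj M'))
  haveI : IsIso (adjz Y).unit := (adjz Y).unit_isIso_of_L_fully_faithful
  have h := (adjz Y).left_triangle_components M'
  exact IsIso.of_isIso_fac_left h

/-- the counit of the derived adjunction at a quasi-coherent module, given acyclicity -/
theorem isIso_counit_single [HasInjectiveResolutions Y.Modules] (M : Y.Modules)
    (hM : M.IsQuasicoherent)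
    (hacyc : ∀ T : Y.Modules, T.IsQuasicoherent → acycP (Qz Y) T) :
    IsIso ((dz Y).counit.app ((DerivedCategory.singleFunctor Y.Modules 0).obj M)) := by
  let K := (CochainComplex.singleFunctor Y.Modules 0).obj M
  have hK : ∀ n, Coh.IsQCoh (K.X n) := isQCoh_single_X M hM
  rw [NatTrans.isIso_app_iff_of_iso (dz Y).counit ((singleFunctorIsoCompQ Y.Modules 0).app M)]
  change IsIso ((dz Y).counit.app (Q.obj K))
  haveI : K.IsStrictlyGE 0 := inferInstanceAs
    (((CochainComplex.singleFunctor Y.Modules 0).obj M).IsStrictlyGE 0)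
  haveI : IsGrothendieckAbelian.{u} Y.Modules :=
    Groth.Agent.LD.QCGroth.isGrothendieckAbelian_modules Y
  haveI : EnoughInjectives Y.Modules := inferInstance
  haveI h1 : IsIso (theta (Qz Y) K) :=
    isIso_theta_of_isStrictlyGE (Qz Y) K 0 (fun n => hacyc _ (hK n))
  haveI h2 : IsIso ((unitC (Qz Y)).app K) :=
    isIso_unitC_app (Qz Y) K (isIso_unit_app_of_isIso_theta (Qz Y) K h1)
  haveI h3 : IsIso ((Groth.Agent.LD.DAdj.mapHCAdj (adjz Y) (ComplexShape.up ℤ)).counit.app K) := by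
    haveI : ∀ n, IsIso (((Groth.Agent.LD.DAdj.mapHCAdj (adjz Y)
        (ComplexShape.up ℤ)).counit.app K).f n) := fun n => isIso_adjz_counit _ (hK n)
    exact HomologicalComplex.Hom.isIso_of_components _
  have hfac := derivedAdj_counit_fac (adjz Y) (RGf (Qz Y)) (unitC (Qz Y)) K
  haveI : IsIso ((ιq Y).mapDerivedCategory.map ((unitC (Qz Y)).app K) ≫
      (dz Y).counit.app (Q.obj K)) := by
    rw [hfac]
    infer_instance
  exact IsIso.of_isIso_comp_left ((ιq Y).mapDerivedCategory.map ((unitC (Qz Y)).app K)) _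

end Single

theorem main1048 (X : Scheme.{u}) [CompactSpace X] (hX : AD X) :
    (ιq X).mapDerivedCategory.Full ∧ (ιq X).mapDerivedCategory.Faithful ∧
    ∀ K : DCoh.D X, DCoh.IsQCohD K ↔
      ∃ M, Nonempty ((ιq X).mapDerivedCategory.obj M ≅ K) := by
  haveI : QuasiSeparatedSpace X := quasiSeparatedSpace_of_affine_inter hX
  haveI : IsGrothendieckAbelian.{u} X.Modules :=
    Groth.Agent.LD.QCGroth.isGrothendieckAbelian_modules X
  haveI : HasInjectiveResolutions X.Modules := inferInstance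
  obtain ⟨N, hN⟩ := hasAB_of_AD X hX
  haveI : WSerre.IsWeakSerre (PQ X) := QcVan.wserre_isQCoh X
  have hP : ∀ M : X.Modules, PQ X M ↔ (ιq X).essImage M := fun M =>
    ⟨fun h => ⟨⟨M, h⟩, ⟨Iso.refl _⟩⟩, fun ⟨M', ⟨e⟩⟩ => QC.qc_of_iso e M'.property⟩
  refine main_abstract' (ιq X) (adjz X) (PQ X) hP N
    (fun K hK b hb m hm => hN K hK b hb m hm) ?_
  rintro K hK ⟨a, ha⟩
  exact Groth.Agent.H7.WayOut.isIso_counit_app (dz X)
    (Groth.Agent.H7.WayOut.isLE_mapDerivedCategory (ιq X))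
    (Groth.Agent.H7.WayOut.isGE_mapDerivedCategory (ιq X)) K a ha
    (fun q => isIso_counit_single _ (hK q) (acycP_Qz_of_qcoh hX))

end Groth.Agent.H6.DQEq
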