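import Mathlib

/-! # Coreflections onto a triangulated subcategory (abstract part) -/

open CategoryTheory Limits Pretriangulated

namespace Groth.Agent.H6.DQR

variable {C : Type*} [Category C] [Preadditive C] [HasZeroObject C] [HasShift C ℤ]
  [∀ n : ℤ, (shiftFunctor C n).Additive] [Pretriangulated C] (S : ObjectProperty C)

/-- `ε : c ⟶ k` is an `S`-coreflection of `k` -/
structure IsCorefl {c k : C} (ε : c ⟶ k) : Prop where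
  mem : S c
  bij : ∀ E, S E → Function.Bijective (fun φ : E ⟶ c => φ ≫ ε)

/-- `k` has an `S`-coreflection -/
def HasCorefl (k : C) : Prop := ∃ (c : C) (ε : c ⟶ k), IsCorefl S ε

variable {S}

lemma HasCorefl.of_iso {k k' : C} (e : k ≅ k') (h : HasCorefl S k) : HasCorefl S k' := by
  obtain ⟨c, ε, hm, hb⟩ := h
  refine ⟨c, ε ≫ e.hom, hm, fun E hE => ?_⟩
  have h1 := hb E hE
  constructor
  · intro φ φ' hφ
    apply h1.1
    simp only [← Category.assoc] at hφ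
    exact (cancel_mono e.hom).1 hφ
  · intro ψ
    obtain ⟨φ, hφ⟩ := h1.2 (ψ ≫ e.inv)
    refine ⟨φ, ?_⟩
    simp only at hφ ⊢
    rw [← Category.assoc, hφ, Category.assoc, e.inv_hom_id, Category.comp_id]

/-- the class of objects with a coreflection is closed under fibres of morphisms -/
theorem hasCorefl_obj₁
    (hS₁ : ∀ T : Triangle C, T ∈ distTriang C → S T.obj₂ → S T.obj₃ → S T.obj₁)
    (hshift : ∀ E, S E → S (E⟦(1 : ℤ)⟧))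
    (T : Triangle C) (hT : T ∈ distTriang C) (h₂ : HasCorefl S T.obj₂)
    (h₃ : HasCorefl S T.obj₃) : HasCorefl S T.obj₁ := by
  obtain ⟨C₂, ε₂, m₂, b₂⟩ := h₂
  obtain ⟨C₃, ε₃, m₃, b₃⟩ := h₃
  obtain ⟨γ, hγ⟩ := (b₃ C₂ m₂).2 (ε₂ ≫ T.mor₂)
  simp only at hγ
  obtain ⟨C₁, a, c, hT'⟩ := distinguished_cocone_triangle₁ γ
  have m₁ : S C₁ := hS₁ _ hT' m₂ m₃
  obtain ⟨ε₁' , h1', h3'⟩ := complete_distinguished_triangle_morphism₁ (Triangle.mk a γ c) T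
    hT' hT ε₂ ε₃ hγ
  obtain ⟨ε₁, h1, h3⟩ : ∃ ε₁ : C₁ ⟶ T.obj₁, a ≫ ε₂ = ε₁ ≫ T.mor₁ ∧
      c ≫ ε₁⟦(1 : ℤ)⟧' = ε₃ ≫ T.mor₃ := ⟨ε₁', h1', h3'⟩
  refine ⟨C₁, ε₁, m₁, fun E hE => ⟨?_, ?_⟩⟩
  · -- injectivity
    intro φ φ' hφ
    simp only at hφ
    rw [← sub_eq_zero]
    have hφ0 : (φ - φ') ≫ ε₁ = 0 := by rw [Preadditive.sub_comp, hφ, sub_self]
    generalize φ - φ' = χ at hφ0
    have e1 : (χ ≫ a) ≫ ε₂ = 0 := by
      rw [Category.assoc, h1, ← Category.assoc, hφ0, zero_comp]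
    have e2 : χ ≫ a = 0 := by
      apply (b₂ E hE).1
      simp only
      rw [e1, zero_comp]
    have e3 : χ⟦(1 : ℤ)⟧' ≫ a⟦(1 : ℤ)⟧' = 0 := by
      rw [← Functor.map_comp, e2, Functor.map_zero]
    obtain ⟨ρ, hρ⟩ : ∃ ρ : E⟦(1 : ℤ)⟧ ⟶ C₃, χ⟦(1 : ℤ)⟧' = ρ ≫ c :=
      Triangle.coyoneda_exact₁ (Triangle.mk a γ c) hT' (χ⟦(1 : ℤ)⟧') e3
    have e4 : (ρ ≫ ε₃) ≫ T.mor₃ = 0 := by
      rw [Category.assoc, ← h3, ← Category.assoc, ← hρ, ← Functor.map_comp, hφ0,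
        Functor.map_zero]
    obtain ⟨σ, hσ⟩ := Triangle.coyoneda_exact₃ T hT (ρ ≫ ε₃) e4
    obtain ⟨σ', hσ'⟩ := (b₂ _ (hshift E hE)).2 σ
    simp only at hσ'
    have e5 : ρ = σ' ≫ γ := by
      apply (b₃ _ (hshift E hE)).1
      simp only
      rw [hσ, Category.assoc, hγ, ← Category.assoc, hσ']
    have e6 : χ⟦(1 : ℤ)⟧' = 0 := by
      rw [hρ, e5, Category.assoc]
      have h0 : γ ≫ c = 0 := comp_distTriang_mor_zero₂₃ _ hT'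
      rw [h0, comp_zero]
    exact (shiftFunctor C (1 : ℤ)).map_injective (by rw [e6, Functor.map_zero])
  · -- surjectivity
    intro ψ
    obtain ⟨φ₂, hφ₂⟩ := (b₂ E hE).2 (ψ ≫ T.mor₁)
    simp only at hφ₂
    have e1 : φ₂ ≫ γ = 0 := by
      apply (b₃ E hE).1
      simp only
      rw [Category.assoc, hγ, ← Category.assoc, hφ₂, Category.assoc,
        comp_distTriang_mor_zero₁₂ _ hT, comp_zero, zero_comp]
    obtain ⟨φ₁, hφ₁⟩ : ∃ φ₁ : E ⟶ C₁, φ₂ = φ₁ ≫ a :=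
      Triangle.coyoneda_exact₂ (Triangle.mk a γ c) hT' φ₂ e1
    have e2 : (φ₁ ≫ ε₁ - ψ) ≫ T.mor₁ = 0 := by
      rw [Preadditive.sub_comp, Category.assoc, ← h1, ← Category.assoc, ← hφ₁, hφ₂, sub_self]
    have e3 : (φ₁ ≫ ε₁ - ψ)⟦(1 : ℤ)⟧' ≫ T.mor₁⟦(1 : ℤ)⟧' = 0 := by
      rw [← Functor.map_comp, e2, Functor.map_zero]
    obtain ⟨θ, hθ⟩ := Triangle.coyoneda_exact₁ T hT ((φ₁ ≫ ε₁ - ψ)⟦(1 : ℤ)⟧') e3
    obtain ⟨θ', hθ'⟩ := (b₃ _ (hshift E hE)).2 θ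
    simp only at hθ'
    obtain ⟨χ, hχ⟩ := (shiftFunctor C (1 : ℤ)).map_surjective (θ' ≫ c)
    have e4 : χ ≫ ε₁ = φ₁ ≫ ε₁ - ψ := by
      apply (shiftFunctor C (1 : ℤ)).map_injective
      rw [Functor.map_comp, hχ, Category.assoc, h3, ← Category.assoc, hθ', ← hθ]
    refine ⟨φ₁ - χ, ?_⟩
    simp only
    rw [Preadditive.sub_comp, e4]
    abel

end Groth.Agent.H6.DQR
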