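import Mathlib
import Groth.Agent.Lib.Helper6.DQR1

/-! # Coreflections: adjunctions and biproducts -/

open CategoryTheory Limits Pretriangulated

namespace Groth.Agent.H6.DQR

section Adj

variable {C : Type*} [Category C] [Preadditive C] [HasZeroObject C] [HasShift C ℤ]
  [∀ n : ℤ, (shiftFunctor C n).Additive] [Pretriangulated C] {S : ObjectProperty C}
  {D : Type*} [Category D]

/-- for a fully faithful left adjoint whose image lies in `S` and whose counit is invertible on
`S`, the counit is an `S`-coreflection -/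
theorem isCorefl_counit {L : D ⥤ C} {R : C ⥤ D} (adj : L ⊣ R) [L.Full] [L.Faithful]
    (hL : ∀ M, S (L.obj M)) (hS : ∀ E, S E → IsIso (adj.counit.app E)) (K : C) :
    IsCorefl S (adj.counit.app K) := by
  refine ⟨hL _, fun E hE => ?_⟩
  haveI := hS E hE
  constructor
  · intro φ φ' h
    simp only at h
    rw [← cancel_epi (adj.counit.app E)]
    obtain ⟨α, hα⟩ := L.map_surjective (adj.counit.app E ≫ φ)
    obtain ⟨α', hα'⟩ := L.map_surjective (adj.counit.app E ≫ φ')
    have h1 : (adj.homEquiv _ _).symm α = (adj.homEquiv _ _).symm α' := by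
      rw [Adjunction.homEquiv_counit, Adjunction.homEquiv_counit, hα, hα', Category.assoc,
        Category.assoc, h]
    rw [← hα, ← hα', (adj.homEquiv _ _).symm.injective h1]
  · intro ψ
    refine ⟨inv (adj.counit.app E) ≫ L.map (R.map ψ), ?_⟩
    simp only
    rw [Category.assoc]
    have h1 : L.map (R.map ψ) ≫ adj.counit.app K = adj.counit.app E ≫ ψ :=
      adj.counit.naturality ψ
    rw [h1, IsIso.inv_hom_id_assoc]

variable {C' : Type*} [Category C'] [Preadditive C'] [HasZeroObject C'] [HasShift C' ℤ]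
  [∀ n : ℤ, (shiftFunctor C' n).Additive] [Pretriangulated C'] {S' : ObjectProperty C'}

/-- a right adjoint transports coreflections -/
theorem isCorefl_map {F : C ⥤ C'} {G : C' ⥤ C} (adj : F ⊣ G) (hF : ∀ E, S E → S' (F.obj E))
    (hG : ∀ E, S' E → S (G.obj E)) {c k : C'} (ε : c ⟶ k) (h : IsCorefl S' ε) :
    IsCorefl S (G.map ε) := by
  refine ⟨hG _ h.mem, fun E hE => ?_⟩
  have hb := h.bij (F.obj E) (hF E hE)
  have key : (fun φ : E ⟶ G.obj c => φ ≫ G.map ε) =
      (adj.homEquiv E k) ∘ (fun φ : F.obj E ⟶ c => φ ≫ ε) ∘ (adj.homEquiv E c).symm := by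
    funext φ
    simp only [Function.comp_apply]
    rw [Adjunction.homEquiv_naturality_right, Equiv.apply_symm_apply]
  rw [key]
  exact (adj.homEquiv E k).bijective.comp (hb.comp (adj.homEquiv E c).symm.bijective)

theorem HasCorefl.map {F : C ⥤ C'} {G : C' ⥤ C} (adj : F ⊣ G) (hF : ∀ E, S E → S' (F.obj E))
    (hG : ∀ E, S' E → S (G.obj E)) {k : C'} (h : HasCorefl S' k) : HasCorefl S (G.obj k) := by
  obtain ⟨c, ε, hε⟩ := h
  exact ⟨G.obj c, G.map ε, isCorefl_map adj hF hG ε hε⟩

/-- binary biproducts -/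
theorem HasCorefl.biprod (hS : ∀ A B, S A → S B → S (A ⊞ B)) {A B : C} (hA : HasCorefl S A)
    (hB : HasCorefl S B) : HasCorefl S (A ⊞ B) := by
  obtain ⟨cA, εA, mA, bA⟩ := hA
  obtain ⟨cB, εB, mB, bB⟩ := hB
  refine ⟨cA ⊞ cB, biprod.map εA εB, hS _ _ mA mB, fun E hE => ⟨?_, ?_⟩⟩
  · intro φ φ' h
    simp only at h
    apply biprod.hom_ext
    · apply (bA E hE).1
      simp only
      have := congrArg (fun t => t ≫ biprod.fst) h
      simpa using this
    · apply (bB E hE).1
      simp only
      have := congrArg (fun t => t ≫ biprod.snd) h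
      simpa using this
  · intro ψ
    obtain ⟨φA, hφA⟩ := (bA E hE).2 (ψ ≫ biprod.fst)
    obtain ⟨φB, hφB⟩ := (bB E hE).2 (ψ ≫ biprod.snd)
    simp only at hφA hφB
    refine ⟨biprod.lift φA φB, ?_⟩
    simp only
    apply biprod.hom_ext
    · simp [hφA]
    · simp [hφB]

end Adj

end Groth.Agent.H6.DQR
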