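import Mathlib
import Groth.Prelude.Def_DCoh2
import Groth.Prelude.Def_DCoh3
import Groth.Prelude.Def_CxOX
import Groth.Agent.Lib.Helper6.DQA5
import Groth.Agent.Lib.Helper6.DQR2
import Groth.Agent.Lib.Helper7.WayOut3

/-! # The inclusion `D_QCoh(O_X) ⊂ D(O_X)` has a right adjoint (`X` qcqs) -/

universe u
open CategoryTheory Limits AlgebraicGeometry

attribute [local instance] HasDerivedCategory.standard

namespace Groth.Agent.H6.DQR

open Groth.Agent.LD Groth.Agent.H6.DCohEq DerivedCategory Groth.Agent.H6.QcDPush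
  Groth.Agent.H6.DerAdj Groth.Agent.H6 Groth.Agent.H6.RFTri Groth.Agent.H6.MVTri
  Groth.Agent.H6.DQEq Pretriangulated

section Closure

variable (Y : Scheme.{u})

/-- `D_QCoh` as an object property -/
abbrev SQ : ObjectProperty (DCoh.D Y) := DCoh.IsQCohD (X := Y)

lemma sq_obj₁ (T : Triangle (DCoh.D Y)) (hT : T ∈ distTriang _) (h₂ : SQ Y T.obj₂)
    (h₃ : SQ Y T.obj₃) : SQ Y T.obj₁ := by
  haveI : WSerre.IsWeakSerre (PQ Y) := QcVan.wserre_isQCoh Y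
  exact MDw.cohIn_obj₁ (PQ Y) T hT h₂ h₃

lemma sq_shift (E : DCoh.D Y) (hE : SQ Y E) : SQ Y (E⟦(1 : ℤ)⟧) := fun i =>
  QC.qc_of_iso (((homologyFunctor Y.Modules 0).shiftIso 1 i (i + 1) (by omega)).app E).symm
    (hE (i + 1))

lemma sq_biprod (A B : DCoh.D Y) (hA : SQ Y A) (hB : SQ Y B) : SQ Y (A ⊞ B) := by
  haveI : WSerre.IsWeakSerre (PQ Y) := QcVan.wserre_isQCoh Y
  exact Groth.Agent.H7.WayOut.cohIn_obj₂ (PQ Y) _ (binaryBiproductTriangle_distinguished A B)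
    hA hB

end Closure

section AD

variable (Y : Scheme.{u}) [CompactSpace Y]

theorem hasCorefl_of_AD (hY : AD Y) (K : DCoh.D Y) : HasCorefl (SQ Y) K := by
  haveI : QuasiSeparatedSpace Y := quasiSeparatedSpace_of_affine_inter hY
  obtain ⟨hfull, hfaith, hess⟩ := main1048 Y hY
  haveI := hfull
  haveI := hfaith
  refine ⟨_, _, isCorefl_counit (dz Y) (fun M => isQCohD_map Y M) (fun E hE => ?_) K⟩
  obtain ⟨M, ⟨e⟩⟩ := (hess E).1 hE
  rw [← NatTrans.isIso_app_iff_of_iso (dz Y).counit e]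
  haveI : IsIso (dz Y).unit := (dz Y).unit_isIso_of_L_fully_faithful
  exact IsIso.of_isIso_fac_left ((dz Y).left_triangle_components M)

end AD

section Push

theorem hasCorefl_Rpush {U Z : Scheme.{u}} (j : U ⟶ Z) [IsOpenImmersion j] [QuasiCompact j]
    [QuasiSeparated j] [CompactSpace Z] [DCoh.HasRpush j] (K' : DCoh.D U)
    (h : HasCorefl (SQ U) K') : HasCorefl (SQ Z) ((DCoh.Rpush j).obj K') :=
  HasCorefl.map (dr j) (fun E hE => isQCohD_restrictD j E hE)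
    (fun E hE => QcVan.isQCohD_Rpush_of_compact j E hE) h

end Push

section Ind

variable (X : Scheme.{u})

/-- the inductive property of opens -/
def PCR (O : X.Opens) : Prop :=
  IsCompact (O : Set X) ∧
  ∀ (Y : Scheme.{u}) (j : Y ⟶ X) [IsOpenImmersion j] [CompactSpace Y] [QuasiSeparatedSpace Y],
    j.opensRange = O → ∀ K : DCoh.D Y, HasCorefl (SQ Y) K

lemma pcr_affine (O : X.Opens) (hO : IsAffineOpen O) : PCR X O := by
  refine ⟨hO.isCompact, ?_⟩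
  intro Y j _ _ _ hj K
  haveI : IsAffine ↑(j.opensRange) := by rw [hj]; exact hO
  haveI : IsAffine Y := IsAffine.of_isIso j.isoOpensRange.hom
  exact hasCorefl_of_AD Y (fun U V hU hV => hU.inf hV) K

lemma pcr_mv (O W : X.Opens) (hO : PCR X O) (hW : PCR X W) (hOW : PCR X (O ⊓ W)) :
    PCR X (O ⊔ W) := by
  refine ⟨hO.1.union hW.1, ?_⟩
  intro Y j _ _ _ hj K
  have hr : ∀ (T' : Y.Opens) (T : X.Opens), T ≤ O ⊔ W → T' = j ⁻¹ᵁ T →
      (T'.ι ≫ j).opensRange = T := by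
    intro T' T hT hT'
    subst hT'
    rw [Scheme.Hom.opensRange_comp, Scheme.Opens.opensRange_ι,
      Scheme.Hom.image_preimage_eq_opensRange_inf, hj]
    exact inf_eq_right.2 hT
  have r1 := hr _ O le_sup_left rfl
  have r2 := hr _ W le_sup_right rfl
  have r3 := hr (j ⁻¹ᵁ O ⊓ j ⁻¹ᵁ W) (O ⊓ W) (inf_le_left.trans le_sup_left) rfl
  haveI := compactSpace_of_opensRange X j _ O hO.1 r1
  haveI := compactSpace_of_opensRange X j _ W hW.1 r2
  haveI := compactSpace_of_opensRange X j _ (O ⊓ W) hOW.1 r3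
  haveI : QuasiSeparatedSpace ↑(j ⁻¹ᵁ O) := (j ⁻¹ᵁ O).ι.isOpenEmbedding.quasiSeparatedSpace
  haveI : QuasiSeparatedSpace ↑(j ⁻¹ᵁ W) := (j ⁻¹ᵁ W).ι.isOpenEmbedding.quasiSeparatedSpace
  haveI : QuasiSeparatedSpace ↑(j ⁻¹ᵁ O ⊓ j ⁻¹ᵁ W) :=
    (j ⁻¹ᵁ O ⊓ j ⁻¹ᵁ W).ι.isOpenEmbedding.quasiSeparatedSpace
  haveI := hasRpush' (j ⁻¹ᵁ O).ι
  haveI := hasRpush' (j ⁻¹ᵁ W).ι
  haveI := hasRpush' (j ⁻¹ᵁ O ⊓ j ⁻¹ᵁ W).ι
  have hUV : j ⁻¹ᵁ O ⊔ j ⁻¹ᵁ W = ⊤ := by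
    rw [← Scheme.Hom.preimage_sup, ← hj]
    exact Scheme.Hom.preimage_opensRange j
  obtain ⟨a, b, c, hT⟩ := s6510 (j ⁻¹ᵁ O) (j ⁻¹ᵁ W) hUV K
  have h1 := hasCorefl_Rpush (j ⁻¹ᵁ O).ι _ (hO.2 _ ((j ⁻¹ᵁ O).ι ≫ j) r1
    ((DCoh.restrictD (j ⁻¹ᵁ O).ι).obj K))
  have h2 := hasCorefl_Rpush (j ⁻¹ᵁ W).ι _ (hW.2 _ ((j ⁻¹ᵁ W).ι ≫ j) r2
    ((DCoh.restrictD (j ⁻¹ᵁ W).ι).obj K))
  have h3 := hasCorefl_Rpush (j ⁻¹ᵁ O ⊓ j ⁻¹ᵁ W).ι _
    (hOW.2 _ ((j ⁻¹ᵁ O ⊓ j ⁻¹ᵁ W).ι ≫ j) r3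
      ((DCoh.restrictD (j ⁻¹ᵁ O ⊓ j ⁻¹ᵁ W).ι).obj K))
  exact hasCorefl_obj₁ (sq_obj₁ Y) (sq_shift Y) _ hT
    (HasCorefl.biprod (sq_biprod Y) h1 h2) h3

theorem hasCorefl_of_qcqs [CompactSpace X] [QuasiSeparatedSpace X] (K : DCoh.D X) :
    HasCorefl (SQ X) K := by
  have h := QCQS.mv_induction (PCR X) (pcr_mv X) (pcr_affine X) ⊤
    (by simpa using isCompact_univ) (by simpa using (isQuasiSeparated_univ (α := X)))
  exact h.2 X (𝟙 X) (Scheme.Hom.opensRange_of_isIso _) K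

theorem main7239 [CompactSpace X] [QuasiSeparatedSpace X] :
    (ObjectProperty.ι (DCoh.IsQCohD (X := X))).IsLeftAdjoint := by
  suffices h : ∀ K : DCoh.D X,
      HasTerminal (CostructuredArrow (ObjectProperty.ι (DCoh.IsQCohD (X := X))) K) by
    haveI := h
    exact isLeftAdjoint_of_costructuredArrowTerminals _
  intro K
  obtain ⟨c, ε, hm, hb⟩ := hasCorefl_of_qcqs X K
  let c' : (DCoh.IsQCohD (X := X)).FullSubcategory := ⟨c, hm⟩
  let T : CostructuredArrow (ObjectProperty.ι (DCoh.IsQCohD (X := X))) K :=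
    CostructuredArrow.mk (Y := c') ε
  have hT : ∀ A : CostructuredArrow (ObjectProperty.ι (DCoh.IsQCohD (X := X))) K,
      Nonempty (Unique (A ⟶ T)) := by
    intro A
    obtain ⟨φ, hφ⟩ := (hb A.left.obj A.left.property).2 A.hom
    simp only at hφ
    let m : A ⟶ T := CostructuredArrow.homMk (ObjectProperty.homMk φ) hφ
    refine ⟨⟨⟨m⟩, fun m' => ?_⟩⟩
    apply CostructuredArrow.hom_ext
    apply ObjectProperty.hom_ext
    apply (hb A.left.obj A.left.property).1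
    simp only
    have h1 := CostructuredArrow.w m'
    have h2 := CostructuredArrow.w m
    exact h1.trans h2.symm
  haveI : ∀ A, Unique (A ⟶ T) := fun A => (hT A).some
  exact (IsTerminal.ofUnique T).hasTerminal

end Ind

end Groth.Agent.H6.DQR
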