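import Mathlib
import Groth.Prelude.Def_DCoh2
import Groth.Prelude.Def_DCoh3
import Groth.Prelude.Def_CxOX
import Groth.Agent.Lib.Helper6.DQR3
import Groth.Agent.Lib.Helper7.LR2

/-! # Transport of `Rj_* j^*` along isomorphisms of open subschemes -/

universe u
open CategoryTheory Limits AlgebraicGeometry

attribute [local instance] HasDerivedCategory.standard

namespace Groth.Agent.H6.DQB

open Groth.Agent.LD Groth.Agent.H6.DCohEq DerivedCategory Groth.Agent.H6.QcDPush
  Groth.Agent.H6.DerAdj Groth.Agent.H6 Groth.Agent.H6.DQEq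

section Abstract

universe w v₁ u₁

variable {A : Type u₁} [Category.{v₁} A] [Abelian A] [HasDerivedCategory.{w} A]

/-- the derived functor of a functor isomorphic to the identity -/
noncomputable def mapDCIdIso (F : A ⥤ A) [F.Additive] [PreservesFiniteLimits F]
    [PreservesFiniteColimits F] (e : F ≅ 𝟭 A) : F.mapDerivedCategory ≅ 𝟭 (DerivedCategory A) :=
  letI : Localization.Lifting Q (HomologicalComplex.quasiIso A (ComplexShape.up ℤ))
      (F.mapHomologicalComplex (ComplexShape.up ℤ) ⋙ Q) F.mapDerivedCategory :=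
    ⟨F.mapDerivedCategoryFactors⟩
  Localization.liftNatIso Q (HomologicalComplex.quasiIso A (ComplexShape.up ℤ))
    (F.mapHomologicalComplex (ComplexShape.up ℤ) ⋙ Q) Q _ _
    (Functor.isoWhiskerRight (NatIso.mapHomologicalComplex e (ComplexShape.up ℤ) ≪≫
      Functor.mapHomologicalComplexIdIso A (ComplexShape.up ℤ)) Q ≪≫ Functor.leftUnitor Q)

end Abstract

section Restrict

variable {Y₁ Y₂ X : Scheme.{u}}

/-- restriction to opens is compatible with composition -/
noncomputable def restrictDComp (g : Y₁ ⟶ Y₂) (j : Y₂ ⟶ X) [IsOpenImmersion g]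
    [IsOpenImmersion j] : DCoh.restrictD j ⋙ DCoh.restrictD g ≅ DCoh.restrictD (g ≫ j) :=
  mapDCComp (F := Scheme.Modules.restrictFunctor j) (G := Scheme.Modules.restrictFunctor g)
    (H := Scheme.Modules.restrictFunctor (g ≫ j)) (Scheme.Modules.restrictFunctorComp g j).symm

noncomputable def restrictDCongr {j j' : Y₁ ⟶ X} (h : j = j') [IsOpenImmersion j]
    [IsOpenImmersion j'] : DCoh.restrictD j ≅ DCoh.restrictD j' := by
  subst h
  exact Iso.refl _

noncomputable def restrictDId : DCoh.restrictD (𝟙 X) ≅ 𝟭 (DCoh.D X) :=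
  mapDCIdIso (Scheme.Modules.restrictFunctor (𝟙 X)) Scheme.Modules.restrictFunctorId

/-- restriction along an isomorphism is an equivalence -/
noncomputable def restrictDEquiv (e : Y₁ ≅ Y₂) : DCoh.D Y₂ ≌ DCoh.D Y₁ :=
  CategoryTheory.Equivalence.mk (DCoh.restrictD e.hom) (DCoh.restrictD e.inv)
    ((restrictDId (X := Y₂)).symm ≪≫ (restrictDCongr e.inv_hom_id).symm ≪≫
      (restrictDComp e.inv e.hom).symm)
    (restrictDComp e.hom e.inv ≪≫ restrictDCongr e.hom_inv_id ≪≫ restrictDId (X := Y₁))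

lemma isIso_dr_unit (e : Y₁ ≅ Y₂) [DCoh.HasRpush e.hom] : IsIso (dr e.hom).unit := by
  haveI : (DCoh.restrictD e.hom).IsEquivalence := by
    have h := (restrictDEquiv e).isEquivalence_functor
    exact h
  exact (dr e.hom).unit_isIso_of_L_fully_faithful

/-- `Rj_* j^* K` only depends on the range of the open immersion `j` -/
theorem nonempty_iso_Rpush_restrict {j₁ : Y₁ ⟶ X} {j₂ : Y₂ ⟶ X} [IsOpenImmersion j₁]
    [IsOpenImmersion j₂] (e : Y₁ ≅ Y₂) (he : e.hom ≫ j₂ = j₁) [DCoh.HasRpush j₁]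
    [DCoh.HasRpush j₂] (K : DCoh.D X) :
    Nonempty ((DCoh.Rpush j₁).obj ((DCoh.restrictD j₁).obj K) ≅
      (DCoh.Rpush j₂).obj ((DCoh.restrictD j₂).obj K)) := by
  subst he
  haveI := hasRpush' e.hom
  obtain ⟨c⟩ := Groth.Agent.Helper7.LR2.rpush_comp e.hom j₂
  haveI := isIso_dr_unit e
  let M := (DCoh.restrictD j₂).obj K
  let i1 : (DCoh.restrictD (e.hom ≫ j₂)).obj K ≅ (DCoh.restrictD e.hom).obj M :=
    ((restrictDComp e.hom j₂).app K).symm
  let i2 : M ≅ (DCoh.Rpush e.hom).obj ((DCoh.restrictD e.hom).obj M) :=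
    asIso ((dr e.hom).unit.app M)
  exact ⟨(DCoh.Rpush (e.hom ≫ j₂)).mapIso i1 ≪≫
    (c.app ((DCoh.restrictD e.hom).obj M)).symm ≪≫ (DCoh.Rpush j₂).mapIso i2.symm⟩

end Restrict

end Groth.Agent.H6.DQB
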