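import Mathlib
import Groth.Agent.Lib.Helper6.DQR2

/-! # Coreflections: tracking the triangle of the fibre -/

open CategoryTheory Limits Pretriangulated

namespace Groth.Agent.H6.DQR

variable {C : Type*} [Category C] [Preadditive C] [HasZeroObject C] [HasShift C ℤ]
  [∀ n : ℤ, (shiftFunctor C n).Additive] [Pretriangulated C] {S : ObjectProperty C}

/-- refined version of `hasCorefl_obj₁`: the coreflection of the fibre sits in a distinguished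
triangle with the given coreflections -/
theorem exists_corefl_fibre
    (hS₁ : ∀ T : Triangle C, T ∈ distTriang C → S T.obj₂ → S T.obj₃ → S T.obj₁)
    (hshift : ∀ E, S E → S (E⟦(1 : ℤ)⟧))
    (T : Triangle C) (hT : T ∈ distTriang C) {C₂ C₃ : C} (ε₂ : C₂ ⟶ T.obj₂) (ε₃ : C₃ ⟶ T.obj₃)
    (h₂ : IsCorefl S ε₂) (h₃ : IsCorefl S ε₃) :
    ∃ (C₁ : C) (a : C₁ ⟶ C₂) (γ : C₂ ⟶ C₃) (c : C₃ ⟶ C₁⟦(1 : ℤ)⟧) (ε₁ : C₁ ⟶ T.obj₁),
      Triangle.mk a γ c ∈ distTriang C ∧ IsCorefl S ε₁ := by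
  obtain ⟨m₂, b₂⟩ := h₂
  obtain ⟨m₃, b₃⟩ := h₃
  obtain ⟨γ, hγ⟩ := (b₃ C₂ m₂).2 (ε₂ ≫ T.mor₂)
  simp only at hγ
  obtain ⟨C₁, a, c, hT'⟩ := distinguished_cocone_triangle₁ γ
  have m₁ : S C₁ := hS₁ _ hT' m₂ m₃
  obtain ⟨ε₁' , h1', h3'⟩ := complete_distinguished_triangle_morphism₁ (Triangle.mk a γ c) T
    hT' hT ε₂ ε₃ hγ
  obtain ⟨ε₁, h1, h3⟩ : ∃ ε₁ : C₁ ⟶ T.obj₁, a ≫ ε₂ = ε₁ ≫ T.mor₁ ∧
      c ≫ ε₁⟦(1 : ℤ)⟧' = ε₃ ≫ T.mor₃ := ⟨ε₁', h1', h3'⟩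
  refine ⟨C₁, a, γ, c, ε₁, hT', m₁, fun E hE => ⟨?_, ?_⟩⟩
  · -- injectivity
    intro φ φ' hφ
    simp only at hφ
    rw [← sub_eq_zero]
    have hφ0 : (φ - φ') ≫ ε₁ = 0 := by rw [Preadditive.sub_comp, hφ, sub_self]
    generalize φ - φ' = χ at hφ0
    have e1 : (χ ≫ a) ≫ ε₂ = 0 := by
      rw [Category.assoc, h1, ← Category.assoc, hφ0, zero_comp]
    have e2 : χ ≫ a = 0 := by
      apply (b₂ E hE).1
      simp only
      rw [e1, zero_comp]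
    have e3 : χ⟦(1 : ℤ)⟧' ≫ a⟦(1 : ℤ)⟧' = 0 := by
      rw [← Functor.map_comp, e2, Functor.map_zero]
    obtain ⟨ρ, hρ⟩ : ∃ ρ : E⟦(1 : ℤ)⟧ ⟶ C₃, χ⟦(1 : ℤ)⟧' = ρ ≫ c :=
      Triangle.coyoneda_exact₁ (Triangle.mk a γ c) hT' (χ⟦(1 : ℤ)⟧') e3
    have e4 : (ρ ≫ ε₃) ≫ T.mor₃ = 0 := by
      rw [Category.assoc, ← h3, ← Category.assoc, ← hρ, ← Functor.map_comp, hφ0,
        Functor.map_zero]
    obtain ⟨σ, hσ⟩ := Triangle.coyoneda_exact₃ T hT (ρ ≫ ε₃) e4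
    obtain ⟨σ', hσ'⟩ := (b₂ _ (hshift E hE)).2 σ
    simp only at hσ'
    have e5 : ρ = σ' ≫ γ := by
      apply (b₃ _ (hshift E hE)).1
      simp only
      rw [hσ, Category.assoc, hγ, ← Category.assoc, hσ']
    have e6 : χ⟦(1 : ℤ)⟧' = 0 := by
      rw [hρ, e5, Category.assoc]
      have h0 : γ ≫ c = 0 := comp_distTriang_mor_zero₂₃ _ hT'
      rw [h0, comp_zero]
    exact (shiftFunctor C (1 : ℤ)).map_injective (by rw [e6, Functor.map_zero])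
  · -- surjectivity
    intro ψ
    obtain ⟨φ₂, hφ₂⟩ := (b₂ E hE).2 (ψ ≫ T.mor₁)
    simp only at hφ₂
    have e1 : φ₂ ≫ γ = 0 := by
      apply (b₃ E hE).1
      simp only
      rw [Category.assoc, hγ, ← Category.assoc, hφ₂, Category.assoc,
        comp_distTriang_mor_zero₁₂ _ hT, comp_zero, zero_comp]
    obtain ⟨φ₁, hφ₁⟩ : ∃ φ₁ : E ⟶ C₁, φ₂ = φ₁ ≫ a :=
      Triangle.coyoneda_exact₂ (Triangle.mk a γ c) hT' φ₂ e1
    have e2 : (φ₁ ≫ ε₁ - ψ) ≫ T.mor₁ = 0 := by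
      rw [Preadditive.sub_comp, Category.assoc, ← h1, ← Category.assoc, ← hφ₁, hφ₂, sub_self]
    have e3 : (φ₁ ≫ ε₁ - ψ)⟦(1 : ℤ)⟧' ≫ T.mor₁⟦(1 : ℤ)⟧' = 0 := by
      rw [← Functor.map_comp, e2, Functor.map_zero]
    obtain ⟨θ, hθ⟩ := Triangle.coyoneda_exact₁ T hT ((φ₁ ≫ ε₁ - ψ)⟦(1 : ℤ)⟧') e3
    obtain ⟨θ', hθ'⟩ := (b₃ _ (hshift E hE)).2 θ
    simp only at hθ'
    obtain ⟨χ, hχ⟩ := (shiftFunctor C (1 : ℤ)).map_surjective (θ' ≫ c)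
    have e4 : χ ≫ ε₁ = φ₁ ≫ ε₁ - ψ := by
      apply (shiftFunctor C (1 : ℤ)).map_injective
      rw [Functor.map_comp, hχ, Category.assoc, h3, ← Category.assoc, hθ', ← hθ]
    refine ⟨φ₁ - χ, ?_⟩
    simp only
    rw [Preadditive.sub_comp, e4]
    abel


/-- coreflections of the same object are isomorphic -/
theorem IsCorefl.nonempty_iso {k c c' : C} {ε : c ⟶ k} {ε' : c' ⟶ k} (h : IsCorefl S ε)
    (h' : IsCorefl S ε') : Nonempty (c ≅ c') := by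
  obtain ⟨φ, hφ⟩ := (h'.bij c h.mem).2 ε
  obtain ⟨ψ, hψ⟩ := (h.bij c' h'.mem).2 ε'
  simp only at hφ hψ
  refine ⟨⟨φ, ψ, ?_, ?_⟩⟩
  · apply (h.bij c h.mem).1
    simp only
    rw [Category.assoc, hψ, hφ, Category.id_comp]
  · apply (h'.bij c' h'.mem).1
    simp only
    rw [Category.assoc, hφ, hψ, Category.id_comp]

/-- explicit form of the coreflection of a biproduct -/
theorem isCorefl_biprod (hS : ∀ A B, S A → S B → S (A ⊞ B)) {A B cA cB : C} {εA : cA ⟶ A}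
    {εB : cB ⟶ B} (hA : IsCorefl S εA) (hB : IsCorefl S εB) :
    IsCorefl S (biprod.map εA εB) := by
  obtain ⟨mA, bA⟩ := hA
  obtain ⟨mB, bB⟩ := hB
  refine ⟨hS _ _ mA mB, fun E hE => ⟨?_, ?_⟩⟩
  · intro φ φ' h
    simp only at h
    apply biprod.hom_ext
    · apply (bA E hE).1
      simp only
      have := congrArg (fun t => t ≫ biprod.fst) h
      simpa using this
    · apply (bB E hE).1
      simp only
      have := congrArg (fun t => t ≫ biprod.snd) h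
      simpa using this
  · intro ψ
    obtain ⟨φA, hφA⟩ := (bA E hE).2 (ψ ≫ biprod.fst)
    obtain ⟨φB, hφB⟩ := (bB E hE).2 (ψ ≫ biprod.snd)
    simp only at hφA hφB
    refine ⟨biprod.lift φA φB, ?_⟩
    simp only
    apply biprod.hom_ext
    · simp [hφA]
    · simp [hφB]

end Groth.Agent.H6.DQR
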