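import Mathlib
import Groth.Prelude.Def_DCoh2
import Groth.Prelude.Def_DCoh3
import Groth.Prelude.Def_CxOX
import Groth.Agent.Lib.Helper6.DQB1
import Groth.Agent.Lib.Helper6.DQB2
import Groth.Agent.Lib.Helper7.WayOut2

/-! # Coreflections onto `D_QCoh` with control of the amplitude -/

universe u
open CategoryTheory Limits AlgebraicGeometry

attribute [local instance] HasDerivedCategory.standard

namespace Groth.Agent.H6.DQB

open Groth.Agent.LD Groth.Agent.H6.DCohEq DerivedCategory Groth.Agent.H6.QcDPush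
  Groth.Agent.H6.DerAdj Groth.Agent.H6 Groth.Agent.H6.DQEq Groth.Agent.H6.DQR Pretriangulated

/-- `k` has a `D_QCoh`-coreflection with cohomology vanishing outside `[a, b]` -/
def HasCoreflIn (Y : Scheme.{u}) (k : DCoh.D Y) (a b : ℤ) : Prop :=
  ∃ (c : DCoh.D Y) (ε : c ⟶ k), IsCorefl (SQ Y) ε ∧
    ∀ i : ℤ, (i < a ∨ b < i) → IsZero (DCoh.HD c i)

variable {Y : Scheme.{u}}

lemma HasCoreflIn.of_iso {k k' : DCoh.D Y} (e : k ≅ k') {a b : ℤ} (h : HasCoreflIn Y k a b) :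
    HasCoreflIn Y k' a b := by
  obtain ⟨c, ε, hε, hv⟩ := h
  obtain ⟨c', ε', hε'⟩ : ∃ (c' : DCoh.D Y) (ε' : c' ⟶ k'), IsCorefl (SQ Y) ε' ∧ c' = c := by
    refine ⟨c, ε ≫ e.hom, ⟨hε.mem, fun E hE => ?_⟩, rfl⟩
    have h1 := hε.bij E hE
    constructor
    · intro φ φ' hφ
      apply h1.1
      simp only [← Category.assoc] at hφ
      exact (cancel_mono e.hom).1 hφ
    · intro ψ
      obtain ⟨φ, hφ⟩ := h1.2 (ψ ≫ e.inv)
      refine ⟨φ, ?_⟩
      simp only at hφ ⊢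
      rw [← Category.assoc, hφ, Category.assoc, e.inv_hom_id, Category.comp_id]
  obtain ⟨h1, rfl⟩ := hε'
  exact ⟨c', ε', h1, hv⟩

lemma HasCoreflIn.mono {k : DCoh.D Y} {a b a' b' : ℤ} (h : HasCoreflIn Y k a b) (ha : a' ≤ a)
    (hb : b ≤ b') : HasCoreflIn Y k a' b' := by
  obtain ⟨c, ε, hε, hv⟩ := h
  exact ⟨c, ε, hε, fun i hi => hv i (by omega)⟩

theorem hasCoreflIn_obj₁ (T : Triangle (DCoh.D Y)) (hT : T ∈ distTriang _) {a b₂ b₃ : ℤ}
    (h₂ : HasCoreflIn Y T.obj₂ a b₂) (h₃ : HasCoreflIn Y T.obj₃ a b₃) :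
    HasCoreflIn Y T.obj₁ a (max b₂ (b₃ + 1)) := by
  obtain ⟨c₂, ε₂, hε₂, hv₂⟩ := h₂
  obtain ⟨c₃, ε₃, hε₃, hv₃⟩ := h₃
  obtain ⟨c₁, α, γ, δ, ε₁, hT', hε₁⟩ := exists_corefl_fibre (sq_obj₁ Y) (sq_shift Y) T hT ε₂ ε₃
    hε₂ hε₃
  refine ⟨c₁, ε₁, hε₁, fun i hi => ?_⟩
  have z₃ : IsZero ((homologyFunctor Y.Modules (i - 1)).obj c₃) :=
    hv₃ (i - 1) (by rcases hi with h | h; · left; omega
                    · right; have := le_max_right b₂ (b₃ + 1); omega)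
  have z₂ : IsZero ((homologyFunctor Y.Modules i).obj c₂) :=
    hv₂ i (by rcases hi with h | h; · left; omega
              · right; have := le_max_left b₂ (b₃ + 1); omega)
  exact (HomologySequence.exact₁ _ hT' (i - 1) i (by omega)).isZero_X₂ (z₃.eq_of_src _ _)
    (z₂.eq_of_tgt _ _)

theorem HasCoreflIn.biprod {A B : DCoh.D Y} {a b : ℤ} (hA : HasCoreflIn Y A a b)
    (hB : HasCoreflIn Y B a b) : HasCoreflIn Y (A ⊞ B) a b := by
  obtain ⟨cA, εA, hεA, hvA⟩ := hA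
  obtain ⟨cB, εB, hεB, hvB⟩ := hB
  refine ⟨cA ⊞ cB, biprod.map εA εB, isCorefl_biprod (sq_biprod Y) hεA hεB, fun i hi => ?_⟩
  have zA := hvA i hi
  have zB := hvB i hi
  exact (HomologySequence.exact₂ _ (binaryBiproductTriangle_distinguished cA cB) i).isZero_X₂
    (zA.eq_of_src _ _) (zB.eq_of_tgt _ _)

/-- direct images along quasi-compact open immersions -/
theorem HasCoreflIn.Rpush {U Z : Scheme.{u}} (j : U ⟶ Z) [IsOpenImmersion j] [QuasiCompact j]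
    [QuasiSeparated j] [CompactSpace Z] [DCoh.HasRpush j] (D : ℕ)
    (hD : ∀ (E : DCoh.D U), DCoh.IsQCohD E → ∀ b : ℤ,
      (∀ q : ℤ, b < q → IsZero (DCoh.HD E q)) → ∀ m : ℤ, b + D < m →
      IsZero (DCoh.HD ((DCoh.Rpush j).obj E) m))
    {k' : DCoh.D U} {a b : ℤ} (h : HasCoreflIn U k' a b) :
    HasCoreflIn Z ((DCoh.Rpush j).obj k') a (b + D) := by
  obtain ⟨c', ε', hε', hv⟩ := h
  refine ⟨(DCoh.Rpush j).obj c', (DCoh.Rpush j).map ε',
    isCorefl_map (dr j) (fun E hE => isQCohD_restrictD j E hE)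
      (fun E hE => QcVan.isQCohD_Rpush_of_compact j E hE) ε' hε', fun i hi => ?_⟩
  rcases hi with hi | hi
  · have hge : c'.IsGE a := by
      rw [DerivedCategory.isGE_iff]
      intro q hq
      exact hv q (Or.inl hq)
    have hge' : ((DCoh.Rpush j).obj c').IsGE a :=
      Groth.Agent.H7.WayOut.isGE_rightAdjoint (dr j)
        (Groth.Agent.H7.WayOut.isLE_mapDerivedCategory (Scheme.Modules.restrictFunctor j)) c' a hge
    exact ((DCoh.Rpush j).obj c').isZero_of_isGE a i hi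
  · exact hD c' hε'.mem b (fun q hq => hv q (Or.inr hq)) i hi

end Groth.Agent.H6.DQB
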