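import Mathlib
import Groth.Prelude.Def_DCoh2
import Groth.Prelude.Def_DCoh3
import Groth.Prelude.Def_CxOX
import Groth.Agent.Lib.Helper6.DQB3
import Groth.Agent.Lib.Helper7.LR11

/-! # Coreflections onto `D_QCoh` on affine schemes: control of the amplitude by `RΓ` -/

universe u
open CategoryTheory Limits AlgebraicGeometry

attribute [local instance] HasDerivedCategory.standard

namespace Groth.Agent.H6.DQB

open Groth.Agent.LD Groth.Agent.H6.DCohEq DerivedCategory Groth.Agent.H6.QcDPush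
  Groth.Agent.H6.DerAdj Groth.Agent.H6 Groth.Agent.H6.DQEq Groth.Agent.H6.DQR Pretriangulated
  Groth.Agent.Helper7.QB1 Groth.Agent.Helper7.QB2 Groth.Agent.H6.RFTri Groth.Agent.H6.MVTri

section Abstract

variable {C : Type*} [Category C] [Preadditive C] [HasZeroObject C] [HasShift C ℤ]
  [∀ n : ℤ, (shiftFunctor C n).Additive] [Pretriangulated C] {S : ObjectProperty C}
  {D : Type*} [Category D]

/-- a right adjoint whose left adjoint lands in `S` inverts `S`-coreflections -/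
theorem isIso_map_of_isCorefl {L : D ⥤ C} {G : C ⥤ D} (adj : L ⊣ G) (hL : ∀ M, S (L.obj M))
    {c k : C} (ε : c ⟶ k) (h : IsCorefl S ε) : IsIso (G.map ε) := by
  have hb : ∀ M : D, Function.Bijective (fun φ : M ⟶ G.obj c => φ ≫ G.map ε) := by
    intro M
    have hb := h.bij (L.obj M) (hL M)
    have key : (fun φ : M ⟶ G.obj c => φ ≫ G.map ε) =
        (adj.homEquiv M k) ∘ (fun φ : L.obj M ⟶ c => φ ≫ ε) ∘ (adj.homEquiv M c).symm := by
      funext φ
      simp only [Function.comp_apply]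
      rw [Adjunction.homEquiv_naturality_right, Equiv.apply_symm_apply]
    rw [key]
    exact (adj.homEquiv M k).bijective.comp (hb.comp (adj.homEquiv M c).symm.bijective)
  obtain ⟨g, hg⟩ := (hb (G.obj k)).2 (𝟙 _)
  simp only at hg
  refine ⟨g, ?_, hg⟩
  apply (hb (G.obj c)).1
  simp only
  rw [Category.assoc, hg, Category.comp_id, Category.id_comp]

end Abstract

/-- `RΓ` always exists -/
lemma hasRΓ' (Y : Scheme.{u}) : DCoh.HasRΓ Y := by
  haveI := KInjDS.hasPointwiseRightDerivedFunctor (DCoh.gammaKh Y)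
  infer_instance

section Base

variable (R : CommRingCat.{u})

/-- exactness of global sections: abelian groups versus modules -/
lemma exactAt_Gam_of_exactAt_gammaAb (I : CochainComplex (X₀ R).Modules ℤ) (m : ℤ)
    (h : (((DCoh.gammaAb (X₀ R)).mapHomologicalComplex (ComplexShape.up ℤ)).obj I).ExactAt m) :
    (((Gam R).mapHomologicalComplex (ComplexShape.up ℤ)).obj I).ExactAt m := by
  have h1 := (HomologicalComplex.exactAt_iff' _ (m - 1) m (m + 1) (by simp) (by simp)).1 h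
  rw [ShortComplex.ab_exact_iff] at h1
  rw [HomologicalComplex.exactAt_iff' _ (m - 1) m (m + 1) (by simp) (by simp),
    ShortComplex.moduleCat_exact_iff]
  intro t ht
  obtain ⟨s, hs⟩ := h1 t ht
  exact ⟨s, hs⟩

theorem hasCoreflIn_affine (K' : DCoh.D (X₀ R)) (a b : ℤ)
    (h : ∀ i : ℤ, (i < a ∨ b < i) →
      haveI := hasRΓ' (X₀ R)
      IsZero ((homologyFunctor AddCommGrpCat.{u} i).obj ((DCoh.RΓ (X₀ R)).obj K'))) :
    HasCoreflIn (X₀ R) K' a b := by
  haveI := hasRΓ' (X₀ R)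
  obtain ⟨c', ε', hε'⟩ := hasCorefl_of_AD (X₀ R) (fun U V hU hV => hU.inf hV) K'
  refine ⟨c', ε', hε', fun i hi => ?_⟩
  haveI : IsIso ((RG R).map ε') :=
    isIso_map_of_isCorefl (adjD R) (isQCohD_tildeD R) ε' hε'
  obtain ⟨I, hI, ⟨eI⟩⟩ := exists_kinj K'
  haveI := hI
  have z1 : IsZero ((homologyFunctor AddCommGrpCat.{u} i).obj
      ((DCoh.RΓ (X₀ R)).obj (Q.obj I))) :=
    (h i hi).of_iso ((homologyFunctor AddCommGrpCat.{u} i).mapIso
      ((DCoh.RΓ (X₀ R)).mapIso eI.symm))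
  have ex1 := (isZero_homology_RF_iff (DCoh.gammaAb (X₀ R)) I i).1 z1
  have ex2 := exactAt_Gam_of_exactAt_gammaAb R I i ex1
  have z2 := (isZero_homology_RF_iff (Gam R) I i).2 ex2
  have z3 : IsZero ((homologyFunctor (ModuleCat.{u} R) i).obj ((RG R).obj K')) :=
    z2.of_iso ((homologyFunctor (ModuleCat.{u} R) i).mapIso ((RG R).mapIso eI))
  have z4 : IsZero ((homologyFunctor (ModuleCat.{u} R) i).obj ((RG R).obj c')) :=
    z3.of_iso ((homologyFunctor (ModuleCat.{u} R) i).mapIso (asIso ((RG R).map ε')))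
  obtain ⟨J, hJ, ⟨eJ⟩⟩ := exists_kinj c'
  haveI := hJ
  have ex3 := (isZero_homology_RF_iff (Gam R) J i).1
    (z4.of_iso ((homologyFunctor (ModuleCat.{u} R) i).mapIso ((RG R).mapIso eJ.symm)))
  have hq : ∀ j : ℤ, Coh.IsQCoh ((homologyFunctor (X₀ R).Modules j).obj (Q.obj J)) := fun j =>
    QC.qc_of_iso ((homologyFunctor (X₀ R).Modules j).mapIso eJ) (hε'.mem j)
  have z5 := isZero_homology_of_exactAt_Gam R J hq i ex3
  exact z5.of_iso ((homologyFunctor (X₀ R).Modules i).mapIso eJ)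

end Base

section Transport

variable {X : Scheme.{u}}

/-- `RΓ(Y', j^* K)` only depends on the range of the open immersion `j` -/
theorem nonempty_iso_RΓ_restrict {Y' : Scheme.{u}} (j : Y' ⟶ X) [IsOpenImmersion j]
    (O : X.Opens) (hO : j.opensRange = O) (K : DCoh.D X) :
    haveI := hasRΓ' Y'
    haveI := hasRΓ' (↑O : Scheme.{u})
    Nonempty ((DCoh.RΓ Y').obj ((DCoh.restrictD j).obj K) ≅
      (DCoh.RΓ (↑O : Scheme.{u})).obj ((DCoh.restrictD O.ι).obj K)) := by
  haveI := hasRΓ' Y'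
  haveI := hasRΓ' (↑O : Scheme.{u})
  haveI := hasRΓ' X
  haveI := hasRpush' j
  haveI := hasRpush' O.ι
  obtain ⟨e1⟩ := Groth.Agent.Helper7.LR11.rpush_rgamma j
  obtain ⟨e2⟩ := Groth.Agent.Helper7.LR11.rpush_rgamma O.ι
  have hr : Set.range j = Set.range O.ι := by
    have := congrArg (fun T : X.Opens => (T : Set X)) hO
    simpa using this
  obtain ⟨t⟩ := nonempty_iso_Rpush_restrict (IsOpenImmersion.isoOfRangeEq j O.ι hr)
    (IsOpenImmersion.isoOfRangeEq_hom_fac j O.ι hr) K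
  exact ⟨(e1.app _).symm ≪≫ (DCoh.RΓ X).mapIso t ≪≫ e2.app _⟩

end Transport

end Groth.Agent.H6.DQB
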