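import Mathlib
import Groth.Prelude.Def_DCoh2
import Groth.Prelude.Def_DCoh3
import Groth.Prelude.Def_CxOX
import Groth.Agent.Lib.Helper6.DQB4

/-! # The amplitude of `DQ_X(K)` from the vanishing of cohomology over affine opens -/

universe u
open CategoryTheory Limits AlgebraicGeometry

attribute [local instance] HasDerivedCategory.standard

namespace Groth.Agent.H6.DQB

open Groth.Agent.LD Groth.Agent.H6.DCohEq DerivedCategory Groth.Agent.H6.QcDPush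
  Groth.Agent.H6.DerAdj Groth.Agent.H6 Groth.Agent.H6.DQEq Groth.Agent.H6.DQR Pretriangulated
  Groth.Agent.H6.MVTri Groth.Agent.Helper7.QB1

variable (X : Scheme.{u})

/-- the hypothesis: `Hⁱ(U, K|_U) = 0` for `U` affine open and `i ∉ [a, b]` -/
def AffVan (K : DCoh.D X) (a b : ℤ) : Prop :=
  ∀ U : X.Opens, IsAffineOpen U → ∀ i : ℤ, (i < a ∨ b < i) →
    haveI := hasRΓ' (↑U : Scheme.{u})
    IsZero ((homologyFunctor AddCommGrpCat.{u} i).obj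
      ((DCoh.RΓ (↑U : Scheme.{u})).obj ((DCoh.restrictD U.ι).obj K)))

variable [CompactSpace X] [QuasiSeparatedSpace X]

/-- the inductive property of opens -/
def PDB (O : X.Opens) : Prop :=
  IsCompact (O : Set X) ∧
  ∀ (Y : Scheme.{u}) (j : Y ⟶ X) [IsOpenImmersion j] [CompactSpace Y] [QuasiSeparatedSpace Y],
    j.opensRange = O → ∃ N : ℕ, ∀ (K : DCoh.D X) (a b : ℤ), AffVan X K a b →
      haveI := hasRpush' j
      HasCoreflIn X ((DCoh.Rpush j).obj ((DCoh.restrictD j).obj K)) a (b + N)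

lemma pdb_affine (O : X.Opens) (hO : IsAffineOpen O) : PDB X O := by
  refine ⟨hO.isCompact, ?_⟩
  intro Y j _ _ _ hj
  haveI := hasRpush' j
  haveI : IsAffine ↑(j.opensRange) := by rw [hj]; exact hO
  haveI : IsAffine Y := IsAffine.of_isIso j.isoOpensRange.hom
  let j' : X₀ Γ(Y, ⊤) ⟶ X := Y.isoSpec.inv ≫ j
  haveI : IsOpenImmersion j' := inferInstanceAs (IsOpenImmersion (Y.isoSpec.inv ≫ j))
  haveI := hasRpush' j'
  have hj' : j'.opensRange = O := by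
    rw [← hj]
    exact Scheme.Hom.opensRange_comp_of_isIso Y.isoSpec.inv j
  obtain ⟨D, hD⟩ := QcVan.exists_vanishing_bound j'
  refine ⟨D, fun K a b hK => ?_⟩
  obtain ⟨t⟩ := nonempty_iso_RΓ_restrict j' O hj' K
  have h1 : HasCoreflIn (X₀ Γ(Y, ⊤)) ((DCoh.restrictD j').obj K) a b := by
    apply hasCoreflIn_affine
    intro i hi
    exact (hK O hO i hi).of_iso ((homologyFunctor AddCommGrpCat.{u} i).mapIso t)
  have h2 := HasCoreflIn.Rpush j' D hD h1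
  obtain ⟨s⟩ := nonempty_iso_Rpush_restrict (j₁ := j') (j₂ := j) Y.isoSpec.symm rfl K
  exact h2.of_iso s

lemma pdb_mv (O W : X.Opens) (hO : PDB X O) (hW : PDB X W) (hOW : PDB X (O ⊓ W)) :
    PDB X (O ⊔ W) := by
  refine ⟨hO.1.union hW.1, ?_⟩
  intro Y j _ _ _ hj
  have hr : ∀ (T' : Y.Opens) (T : X.Opens), T ≤ O ⊔ W → T' = j ⁻¹ᵁ T →
      (T'.ι ≫ j).opensRange = T := by
    intro T' T hT hT'
    subst hT'
    rw [Scheme.Hom.opensRange_comp, Scheme.Opens.opensRange_ι,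
      Scheme.Hom.image_preimage_eq_opensRange_inf, hj]
    exact inf_eq_right.2 hT
  have r1 := hr _ O le_sup_left rfl
  have r2 := hr _ W le_sup_right rfl
  have r3 := hr (j ⁻¹ᵁ O ⊓ j ⁻¹ᵁ W) (O ⊓ W) (inf_le_left.trans le_sup_left) rfl
  haveI := compactSpace_of_opensRange X j _ O hO.1 r1
  haveI := compactSpace_of_opensRange X j _ W hW.1 r2
  haveI := compactSpace_of_opensRange X j _ (O ⊓ W) hOW.1 r3
  haveI : QuasiSeparatedSpace ↑(j ⁻¹ᵁ O) := (j ⁻¹ᵁ O).ι.isOpenEmbedding.quasiSeparatedSpace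
  haveI : QuasiSeparatedSpace ↑(j ⁻¹ᵁ W) := (j ⁻¹ᵁ W).ι.isOpenEmbedding.quasiSeparatedSpace
  haveI : QuasiSeparatedSpace ↑(j ⁻¹ᵁ O ⊓ j ⁻¹ᵁ W) :=
    (j ⁻¹ᵁ O ⊓ j ⁻¹ᵁ W).ι.isOpenEmbedding.quasiSeparatedSpace
  haveI := hasRpush' j
  haveI := hasRpush' ((j ⁻¹ᵁ O).ι ≫ j)
  haveI := hasRpush' ((j ⁻¹ᵁ W).ι ≫ j)
  haveI := hasRpush' ((j ⁻¹ᵁ O ⊓ j ⁻¹ᵁ W).ι ≫ j)
  have hUV : j ⁻¹ᵁ O ⊔ j ⁻¹ᵁ W = ⊤ := by
    rw [← Scheme.Hom.preimage_sup, ← hj]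
    exact Scheme.Hom.preimage_opensRange j
  obtain ⟨N₁, h₁⟩ := hO.2 _ ((j ⁻¹ᵁ O).ι ≫ j) r1
  obtain ⟨N₂, h₂⟩ := hW.2 _ ((j ⁻¹ᵁ W).ι ≫ j) r2
  obtain ⟨N₃, h₃⟩ := hOW.2 _ ((j ⁻¹ᵁ O ⊓ j ⁻¹ᵁ W).ι ≫ j) r3
  refine ⟨max (max N₁ N₂) (N₃ + 1), fun K a b hK => ?_⟩
  obtain ⟨α, β, γ, hT⟩ := s6511 j (j ⁻¹ᵁ O) (j ⁻¹ᵁ W) hUV ((DCoh.restrictD j).obj K)
  have k₁ : HasCoreflIn X ((DCoh.Rpush ((j ⁻¹ᵁ O).ι ≫ j)).obj
      ((DCoh.restrictD (j ⁻¹ᵁ O).ι).obj ((DCoh.restrictD j).obj K))) a (b + max N₁ N₂) :=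
    ((h₁ K a b hK).of_iso ((DCoh.Rpush ((j ⁻¹ᵁ O).ι ≫ j)).mapIso
      ((restrictDComp (j ⁻¹ᵁ O).ι j).app K).symm)).mono le_rfl
      (by have := le_max_left N₁ N₂; omega)
  have k₂ : HasCoreflIn X ((DCoh.Rpush ((j ⁻¹ᵁ W).ι ≫ j)).obj
      ((DCoh.restrictD (j ⁻¹ᵁ W).ι).obj ((DCoh.restrictD j).obj K))) a (b + max N₁ N₂) :=
    ((h₂ K a b hK).of_iso ((DCoh.Rpush ((j ⁻¹ᵁ W).ι ≫ j)).mapIso
      ((restrictDComp (j ⁻¹ᵁ W).ι j).app K).symm)).mono le_rfl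
      (by have := le_max_right N₁ N₂; omega)
  have k₃ : HasCoreflIn X ((DCoh.Rpush ((j ⁻¹ᵁ O ⊓ j ⁻¹ᵁ W).ι ≫ j)).obj
      ((DCoh.restrictD (j ⁻¹ᵁ O ⊓ j ⁻¹ᵁ W).ι).obj ((DCoh.restrictD j).obj K))) a (b + N₃) :=
    (h₃ K a b hK).of_iso ((DCoh.Rpush ((j ⁻¹ᵁ O ⊓ j ⁻¹ᵁ W).ι ≫ j)).mapIso
      ((restrictDComp (j ⁻¹ᵁ O ⊓ j ⁻¹ᵁ W).ι j).app K).symm)
  have k := hasCoreflIn_obj₁ _ hT (k₁.biprod k₂) k₃
  refine k.mono le_rfl ?_
  push_cast
  have e1 := le_max_left (max (N₁ : ℤ) N₂) ((N₃ : ℤ) + 1)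
  have e2 := le_max_right (max (N₁ : ℤ) N₂) ((N₃ : ℤ) + 1)
  apply max_le <;> omega

theorem exists_bound : ∃ N : ℕ, ∀ (K : DCoh.D X) (a b : ℤ), AffVan X K a b →
    HasCoreflIn X K a (b + N) := by
  have h := QCQS.mv_induction (PDB X) (pdb_mv X) (pdb_affine X) ⊤
    (by simpa using isCompact_univ) (by simpa using (isQuasiSeparated_univ (α := X)))
  obtain ⟨N, hN⟩ := h.2 X (𝟙 X) (Scheme.Hom.opensRange_of_isIso _)
  refine ⟨N, fun K a b hK => ?_⟩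
  haveI := hasRpush' (𝟙 X)
  haveI : DCoh.HasRpush (Iso.refl X).hom := hasRpush' _
  haveI : IsIso (dr (𝟙 X)).unit := isIso_dr_unit (Iso.refl X)
  exact (hN K a b hK).of_iso (asIso ((dr (𝟙 X)).unit.app K)).symm

/-- the chosen right adjoint of the inclusion gives a coreflection -/
lemma isCorefl_counit_rightAdjoint
    [(ObjectProperty.ι (DCoh.IsQCohD (X := X))).IsLeftAdjoint] (K : DCoh.D X) :
    IsCorefl (SQ X)
      ((Adjunction.ofIsLeftAdjoint (ObjectProperty.ι (DCoh.IsQCohD (X := X)))).counit.app K) := by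
  refine ⟨((ObjectProperty.ι (DCoh.IsQCohD (X := X))).rightAdjoint.obj K).property,
    fun E hE => ?_⟩
  let adj := Adjunction.ofIsLeftAdjoint (ObjectProperty.ι (DCoh.IsQCohD (X := X)))
  let E' : (DCoh.IsQCohD (X := X)).FullSubcategory := ⟨E, hE⟩
  constructor
  · intro φ φ' h
    have h1 : (adj.homEquiv E' K).symm (ObjectProperty.homMk φ) =
        (adj.homEquiv E' K).symm (ObjectProperty.homMk φ') := by
      rw [Adjunction.homEquiv_counit, Adjunction.homEquiv_counit]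
      exact h
    have h2 := (adj.homEquiv E' K).symm.injective h1
    exact congrArg (fun t => t.hom) h2
  · intro ψ
    refine ⟨((adj.homEquiv E' K) ψ).hom, ?_⟩
    have h1 := (adj.homEquiv E' K).symm_apply_apply ψ
    rw [Adjunction.homEquiv_counit] at h1
    exact h1

theorem main7255 [(ObjectProperty.ι (DCoh.IsQCohD (X := X))).IsLeftAdjoint]
    [∀ U : X.Opens, DCoh.HasRΓ (U : Scheme.{u})] :
    ∃ N : ℕ, ∀ (K : DCoh.D X) (a b : ℤ),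
      (∀ U : X.Opens, IsAffineOpen U → ∀ i : ℤ, (i < a ∨ b < i) →
        IsZero ((DerivedCategory.homologyFunctor AddCommGrpCat.{u} i).obj
          ((DCoh.RΓ (U : Scheme.{u})).obj ((DCoh.restrictD U.ι).obj K)))) →
      ∀ i : ℤ, (i < a ∨ b + (N : ℤ) < i) →
        IsZero (DCoh.HD (((ObjectProperty.ι (DCoh.IsQCohD (X := X))).rightAdjoint.obj K).obj)
          i) := by
  obtain ⟨N, hN⟩ := exists_bound X
  refine ⟨N, fun K a b hK i hi => ?_⟩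
  obtain ⟨c, ε, hε, hv⟩ := hN K a b (fun U hU i hi => hK U hU i hi)
  obtain ⟨e⟩ := (isCorefl_counit_rightAdjoint X K).nonempty_iso hε
  exact (hv i hi).of_iso ((homologyFunctor X.Modules i).mapIso e)

end Groth.Agent.H6.DQB
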