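import Mathlib.CategoryTheory.Adjunction.FullyFaithful
import Mathlib.CategoryTheory.ObjectProperty.FullSubcategory
import Mathlib.CategoryTheory.Yoneda

/-! # A right adjoint commutes with coreflections onto subcategories preserved by the adjunction -/

open CategoryTheory

namespace Groth.Agent.H6.DQComm

variable {𝒳 𝒴 : Type*} [Category 𝒳] [Category 𝒴] (PX : ObjectProperty 𝒳) (PY : ObjectProperty 𝒴)
  {L : 𝒴 ⥤ 𝒳} {R : 𝒳 ⥤ 𝒴} (adj : L ⊣ R)
  (hL : ∀ M, PY M → PX (L.obj M)) (hR : ∀ K, PX K → PY (R.obj K))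
  {QX : 𝒳 ⥤ PX.FullSubcategory} (aX : PX.ι ⊣ QX)
  {QY : 𝒴 ⥤ PY.FullSubcategory} (aY : PY.ι ⊣ QY)

include hL adj in
theorem isIso_comparison (K : 𝒳) :
    IsIso (aY.homEquiv (⟨R.obj ((QX.obj K).obj), hR _ (QX.obj K).property⟩ : PY.FullSubcategory)
      (R.obj K) (R.map (aX.counit.app K))) := by
  apply isIso_of_yoneda_map_bijective
  intro M
  set A : PY.FullSubcategory := ⟨R.obj ((QX.obj K).obj), hR _ (QX.obj K).property⟩ with hA
  set c := aY.homEquiv A (R.obj K) (R.map (aX.counit.app K)) with hc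
  -- step 1: transport through `aY.homEquiv`
  have h1 : ∀ g : M ⟶ A, (aY.homEquiv M (R.obj K)).symm (g ≫ c) =
      PY.ι.map g ≫ R.map (aX.counit.app K) := by
    intro g
    rw [Adjunction.homEquiv_naturality_left_symm, hc, Equiv.symm_apply_apply]
  -- step 2: `u ↦ u ≫ R.map ε` is bijective on `Hom(ι M, R(ι Q_X K))`
  let N : PX.FullSubcategory := ⟨L.obj M.obj, hL _ M.property⟩
  have h2 : Function.Bijective (fun v : L.obj M.obj ⟶ (QX.obj K).obj => v ≫ aX.counit.app K) := by
    have hb : Function.Bijective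
        ((fun v : L.obj M.obj ⟶ (QX.obj K).obj => v ≫ aX.counit.app K) ∘
          (fun w : N ⟶ QX.obj K => PX.ι.map w)) := by
      have : ((fun v : L.obj M.obj ⟶ (QX.obj K).obj => v ≫ aX.counit.app K) ∘
          (fun w : N ⟶ QX.obj K => PX.ι.map w)) = (aX.homEquiv N K).symm := by
        funext w
        exact (aX.homEquiv_counit N K w).symm
      rw [this]
      exact (aX.homEquiv N K).symm.bijective
    have hι : Function.Bijective (fun w : N ⟶ QX.obj K => PX.ι.map w) :=
      PX.fullyFaithfulι.map_bijective _ _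
    exact (Function.Bijective.of_comp_iff _ hι).1 hb
  have h3 : Function.Bijective
      (fun u : M.obj ⟶ R.obj ((QX.obj K).obj) => u ≫ R.map (aX.counit.app K)) := by
    have : (fun u : M.obj ⟶ R.obj ((QX.obj K).obj) => u ≫ R.map (aX.counit.app K)) =
        (adj.homEquiv M.obj K) ∘ (fun v : L.obj M.obj ⟶ (QX.obj K).obj => v ≫ aX.counit.app K) ∘
          (adj.homEquiv M.obj (QX.obj K).obj).symm := by
      funext u
      simp only [Function.comp_apply]
      rw [Adjunction.homEquiv_naturality_right, Equiv.apply_symm_apply]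
    rw [this]
    exact (adj.homEquiv M.obj K).bijective.comp
      (h2.comp (adj.homEquiv M.obj (QX.obj K).obj).symm.bijective)
  have h4 : Function.Bijective (fun g : M ⟶ A => PY.ι.map g ≫ R.map (aX.counit.app K)) :=
    h3.comp (PY.fullyFaithfulι.map_bijective M A)
  have h5 : Function.Bijective (fun g : M ⟶ A => (aY.homEquiv M (R.obj K)).symm (g ≫ c)) := by
    have : (fun g : M ⟶ A => (aY.homEquiv M (R.obj K)).symm (g ≫ c)) =
        (fun g : M ⟶ A => PY.ι.map g ≫ R.map (aX.counit.app K)) := funext h1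
    rw [this]
    exact h4
  exact (Function.Bijective.of_comp_iff' (aY.homEquiv M (R.obj K)).symm.bijective
    (fun g : M ⟶ A => g ≫ c)).1 h5

end Groth.Agent.H6.DQComm
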