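import Groth.Agent.Lib.Helper6.DQComm1
import Groth.Agent.Lib.Helper7.QB3
import Groth.Prelude.Def_DDual2

/-! # `Rf_*` commutes with the coreflections `DQ` onto `D_QCoh` -/

universe u
open CategoryTheory Limits AlgebraicGeometry

namespace Groth.Agent.H6.DQComm

attribute [local instance] HasDerivedCategory.standard

theorem s7251 {X Y : Scheme.{u}} (f : X ⟶ Y) [QuasiCompact f] [QuasiSeparated f]
    [DCoh.HasRpush f] (h : DCoh.RpushPreservesQCoh f) [DCoh.HasLpull f]
    (adj : DCoh.Lpull f ⊣ DCoh.Rpush f)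
    [(ObjectProperty.ι (DCoh.IsQCohD (X := X))).IsLeftAdjoint]
    [(ObjectProperty.ι (DCoh.IsQCohD (X := Y))).IsLeftAdjoint]
    (K : DCoh.D X) :
    IsIso ((Adjunction.ofIsLeftAdjoint (ObjectProperty.ι (DCoh.IsQCohD (X := Y)))).homEquiv
      (⟨(DCoh.Rpush f).obj (((ObjectProperty.ι (DCoh.IsQCohD (X := X))).rightAdjoint.obj K).obj),
        h _ (((ObjectProperty.ι (DCoh.IsQCohD (X := X))).rightAdjoint.obj K).property)⟩ :
          DCoh.DQCoh Y)
      ((DCoh.Rpush f).obj K)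
      ((DCoh.Rpush f).map ((Adjunction.ofIsLeftAdjoint
        (ObjectProperty.ι (DCoh.IsQCohD (X := X)))).counit.app K))) :=
  isIso_comparison (DCoh.IsQCohD (X := X)) (DCoh.IsQCohD (X := Y)) adj
    (fun M hM => Groth.Agent.Helper7.QB3.s1054 f M hM) h
    (Adjunction.ofIsLeftAdjoint (ObjectProperty.ι (DCoh.IsQCohD (X := X))))
    (Adjunction.ofIsLeftAdjoint (ObjectProperty.ι (DCoh.IsQCohD (X := Y)))) K

end Groth.Agent.H6.DQComm
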