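import Mathlib
import Groth.Prelude.Def_DCoh2
import Groth.Prelude.Def_DCoh3
import Groth.Prelude.Def_CxOX
import Groth.Agent.Lib.Helper6.DQEq6
import Groth.Agent.Lib.Helper6.DCohEq9

/-! # `D(QCoh(X)) ≃ D_QCoh(O_X)` for Noetherian `X` -/

universe u
open CategoryTheory Limits AlgebraicGeometry

attribute [local instance] HasDerivedCategory.standard

namespace Groth.Agent.H6.DQEq

open Groth.Agent.LD Groth.Agent.H6.DCohEq DerivedCategory Groth.Agent.H6.QcDPush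
  Groth.Agent.H6.DerAdj Groth.Agent.H6

theorem main1104 (X : Scheme.{u}) [IsNoetherian X] :
    (ιq X).mapDerivedCategory.Full ∧ (ιq X).mapDerivedCategory.Faithful ∧
    ∀ K : DCoh.D X, DCoh.IsQCohD K ↔
      ∃ M, Nonempty ((ιq X).mapDerivedCategory.obj M ≅ K) := by
  obtain ⟨N, hN⟩ := hasAB_of_isNoetherian X
  haveI : WSerre.IsWeakSerre (PQ X) := QcVan.wserre_isQCoh X
  have hP : ∀ M : X.Modules, PQ X M ↔ (ιq X).essImage M := fun M =>
    ⟨fun h => ⟨⟨M, h⟩, ⟨Iso.refl _⟩⟩, fun ⟨M', ⟨e⟩⟩ => QC.qc_of_iso e M'.property⟩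
  exact main_abstract (ιq X) (adjz X) (PQ X) hP (hinj_c X) N
    (fun K hK b hb m hm => hN K hK b hb m hm)

end Groth.Agent.H6.DQEq
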