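import Mathlib
import Groth.Agent.Lib.Helper2.DimFG
set_option autoImplicit false
set_option linter.style.haveILetI false
universe u

namespace Groth.Agent.H6.DVRNoether

variable (A : Type u) [CommRing A] [IsDomain A] [IsDiscreteValuationRing A]
  (B : Type u) [CommRing B] [Algebra A B] [Module.Flat A B]

theorem main (d : ℕ) [Algebra.FiniteType A (B ⧸ Ideal.map (algebraMap A B) (IsLocalRing.maximalIdeal A))]
    (hd : ringKrullDim (B ⧸ Ideal.map (algebraMap A B) (IsLocalRing.maximalIdeal A)) = d) :
    ∃ φ : MvPolynomial (Fin d) A →ₐ[A] B, Function.Injective φ ∧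
      (Function.Injective (MvPolynomial.eval₂Hom
          (Ideal.quotientMap (Ideal.map (algebraMap A B) (IsLocalRing.maximalIdeal A)) (algebraMap A B)
            Ideal.le_comap_map)
          (fun i => Ideal.Quotient.mk (Ideal.map (algebraMap A B) (IsLocalRing.maximalIdeal A))
            (φ (MvPolynomial.X i)))) ∧
        (MvPolynomial.eval₂Hom
          (Ideal.quotientMap (Ideal.map (algebraMap A B) (IsLocalRing.maximalIdeal A)) (algebraMap A B)
            Ideal.le_comap_map)
          (fun i => Ideal.Quotient.mk (Ideal.map (algebraMap A B) (IsLocalRing.maximalIdeal A))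
            (φ (MvPolynomial.X i)))).Finite) := by
  classical
  set m := IsLocalRing.maximalIdeal A with hm
  set J := Ideal.map (algebraMap A B) m with hJ
  set ψ : A ⧸ m →+* B ⧸ J := Ideal.quotientMap J (algebraMap A B) Ideal.le_comap_map with hψ
  letI : Field (A ⧸ m) := Ideal.Quotient.field m
  letI algC : Algebra (A ⧸ m) (B ⧸ J) := ψ.toAlgebra
  haveI : IsScalarTower A (A ⧸ m) (B ⧸ J) := IsScalarTower.of_algebraMap_eq (fun a => by
    show algebraMap A (B ⧸ J) a = ψ (Ideal.Quotient.mk m a)
    rw [hψ, Ideal.quotientMap_mk]; rfl)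
  haveI : Algebra.FiniteType (A ⧸ m) (B ⧸ J) := Algebra.FiniteType.of_restrictScalars_finiteType A _ _
  haveI : Nontrivial (B ⧸ J) := by
    by_contra hcon
    rw [not_nontrivial_iff_subsingleton] at hcon
    rw [ringKrullDim_eq_bot_of_subsingleton] at hd
    exact WithBot.bot_ne_coe hd
  obtain ⟨s, g, hginj, hgfin⟩ := exists_finite_inj_algHom_of_fg (A ⧸ m) (B ⧸ J)
  have hs : s = d := by
    letI := g.toRingHom.toAlgebra
    haveI : Algebra.IsIntegral (MvPolynomial (Fin s) (A ⧸ m)) (B ⧸ J) := ⟨hgfin.to_isIntegral⟩
    have h1 := Groth.Agent.H2.DimFG.ringKrullDim_eq_of_integral_injective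
      (MvPolynomial (Fin s) (A ⧸ m)) (B ⧸ J) hginj
    rw [Groth.Agent.H2.DimFG.ringKrullDim_mvPolynomial_fin, hd] at h1
    exact_mod_cast h1.symm
  subst hs
  -- lift the images of the variables
  have hlift : ∀ i, ∃ b : B, Ideal.Quotient.mk J b = g (MvPolynomial.X i) :=
    fun i => Ideal.Quotient.mk_surjective _
  choose b hb using hlift
  set φ : MvPolynomial (Fin s) A →ₐ[A] B := MvPolynomial.aeval b with hφ
  have hgeq : (MvPolynomial.eval₂Hom ψ (fun i => Ideal.Quotient.mk J (φ (MvPolynomial.X i)))) =
      g.toRingHom := by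
    apply MvPolynomial.ringHom_ext
    · intro c
      simp only [MvPolynomial.coe_eval₂Hom, MvPolynomial.eval₂_C, AlgHom.toRingHom_eq_coe,
        RingHom.coe_coe]
      rw [← MvPolynomial.algebraMap_eq, AlgHom.commutes]
      rfl
    · intro i
      simp only [MvPolynomial.coe_eval₂Hom, MvPolynomial.eval₂_X, AlgHom.toRingHom_eq_coe,
        RingHom.coe_coe, hφ, MvPolynomial.aeval_X, hb]
  refine ⟨φ, ?_, ?_, ?_⟩
  · -- injectivity
    obtain ⟨t, ht⟩ := IsDiscreteValuationRing.exists_irreducible A
    have hmt : m = Ideal.span {t} := (IsDiscreteValuationRing.irreducible_iff_uniformizer t).mp ht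
    have ht0 : t ≠ 0 := ht.ne_zero
    -- the reduction square
    have hsq : ∀ p : MvPolynomial (Fin s) A,
        g (MvPolynomial.map (Ideal.Quotient.mk m) p) = Ideal.Quotient.mk J (φ p) := by
      intro p
      have : (g.toRingHom.comp (MvPolynomial.map (Ideal.Quotient.mk m))) =
          (Ideal.Quotient.mk J).comp φ.toRingHom := by
        apply MvPolynomial.ringHom_ext
        · intro c
          simp only [RingHom.coe_comp, Function.comp_apply, MvPolynomial.map_C,
            AlgHom.toRingHom_eq_coe, RingHom.coe_coe]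
          rw [← MvPolynomial.algebraMap_eq, AlgHom.commutes, ← MvPolynomial.algebraMap_eq,
            AlgHom.commutes]
          show ψ (Ideal.Quotient.mk m c) = _
          rw [hψ, Ideal.quotientMap_mk]
        · intro i
          simp only [RingHom.coe_comp, Function.comp_apply, MvPolynomial.map_X,
            AlgHom.toRingHom_eq_coe, RingHom.coe_coe, hφ, MvPolynomial.aeval_X, hb]
      exact congrFun (congrArg DFunLike.coe this) p
    have htors : ∀ x : B, t • x = 0 → x = 0 := by
      intro x hx
      haveI : Module.IsTorsionFree A B := inferInstance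
      exact (smul_eq_zero.mp hx).resolve_left ht0
    have key : ∀ n : ℕ, ∀ p : MvPolynomial (Fin s) A, φ p = 0 →
        ∃ q, p = MvPolynomial.C (t ^ n) * q := by
      intro n
      induction n with
      | zero => intro p _; exact ⟨p, by simp⟩
      | succ n ih =>
        intro p hp
        obtain ⟨q, rfl⟩ := ih p hp
        have hq : φ q = 0 := by
          rw [map_mul, ← MvPolynomial.algebraMap_eq, AlgHom.commutes, ← Algebra.smul_def] at hp
          haveI : Module.IsTorsionFree A B := inferInstance
          exact (smul_eq_zero.mp hp).resolve_left (pow_ne_zero n ht0)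
        have h0 : MvPolynomial.map (Ideal.Quotient.mk m) q = 0 := by
          apply hginj
          rw [hsq, hq, map_zero, map_zero]
        have hmem : q ∈ RingHom.ker (MvPolynomial.map (σ := Fin s) (Ideal.Quotient.mk m)) := h0
        rw [MvPolynomial.ker_map, Ideal.mk_ker, hmt, Ideal.map_span, Set.image_singleton,
          Ideal.mem_span_singleton] at hmem
        obtain ⟨q₁, rfl⟩ := hmem
        exact ⟨q₁, by rw [pow_succ, map_mul]; ring⟩
    rw [injective_iff_map_eq_zero]
    intro p hp
    ext m₀
    rw [MvPolynomial.coeff_zero]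
    have hmem : MvPolynomial.coeff m₀ p ∈ ⨅ n : ℕ, m ^ n := by
      rw [Ideal.mem_iInf]
      intro n
      obtain ⟨q, rfl⟩ := key n p hp
      rw [MvPolynomial.coeff_C_mul, hmt, Ideal.span_singleton_pow]
      exact Ideal.mul_mem_right _ _ (Ideal.mem_span_singleton_self _)
    rw [Ideal.iInf_pow_eq_bot_of_isLocalRing m (IsLocalRing.maximalIdeal.isMaximal A).ne_top] at hmem
    exact hmem
  · rw [hgeq]; exact hginj
  · rw [hgeq]; exact hgfin

end Groth.Agent.H6.DVRNoether
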