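import Mathlib
import Groth.Agent.Lib.Helper6.Tr8

set_option autoImplicit false
set_option linter.style.haveILetI false
open CategoryTheory AlgebraicGeometry CategoryTheory.Limits TopologicalSpace Opposite
open TensorProduct LinearMap Module

noncomputable section

namespace Groth.Agent.H6.Dbl

universe u
open Groth.Agent.LD.QC Groth.Agent.H6.QA Groth.Agent.H6.Tr

section alg
variable {R N : Type*} [CommRing R] [AddCommGroup N] [Module R N]

/-- the identities satisfied by a bilinear form on a free module of rank one. -/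
lemma rank_one_bilin (ℓ : N ≃ₗ[R] (Fin 1 → R)) (β : N →ₗ[R] N →ₗ[R] R) (l l' l'' : N) :
    β l l' = β l' l ∧ β l l' • l'' = β l' l'' • l := by
  set e : N := ℓ.symm (fun _ => 1) with he
  have hgen : ∀ n : N, n = (ℓ n 0) • e := fun n => by
    apply ℓ.injective
    rw [map_smul, he, LinearEquiv.apply_symm_apply]
    funext i
    rw [Subsingleton.elim i 0]
    simp
  rw [hgen l, hgen l', hgen l'']
  simp only [map_smul, LinearMap.smul_apply, smul_eq_mul, smul_smul]
  constructor
  · ring
  · congr 1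
    ring

end alg

variable {X : Scheme.{u}} (L : X.Modules) (m : CohB1.tensorMod L L ⟶ Coh.structureModule X)

/-- sections of the unit module are functions. -/
def unitLin (U : X.Opens) : Γ(unitMod X, U) →ₗ[Γ(X, U)] Γ(X, U) where
  toFun s := s
  map_add' _ _ := rfl
  map_smul' _ _ := rfl

/-- the pairing on sections. -/
def β (U : X.Opens) : Γ(L, U) →ₗ[Γ(X, U)] Γ(L, U) →ₗ[Γ(X, U)] Γ(X, U) :=
  TensorProduct.curry (unitLin U ∘ₗ appLinear m U ∘ₗ tensorSec L L U)

lemma β_apply (U : X.Opens) (l l' : Γ(L, U)) :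
    β L m U l l' = unitLin U (m.app U (SecTwist.tmul L L U l l')) := rfl

lemma β_res {U V : X.Opens} (h : V ≤ U) (l l' : Γ(L, U)) :
    (X.presheaf.map (homOfLE h).op).hom (β L m U l l') =
      β L m V (L.presheaf.map (homOfLE h).op l) (L.presheaf.map (homOfLE h).op l') := by
  rw [β_apply, β_apply, ← tmul_res, app_res]
  rfl

variable {L} in
lemma β_identities (hL : PicF.IsInvertible L) (U : X.Opens) (l l' l'' : Γ(L, U)) :
    β L m U l l' = β L m U l' l ∧ β L m U l l' • l'' = β L m U l' l'' • l := by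
  have hL1 := (isInvertible_iff L).mp hL
  haveI := qc_of_isFinLocFree L (isFinLocFree_of_rank 1 L hL1)
  have key : ∀ x : U, ∃ W : X.Opens, IsAffineOpen W ∧ x.1 ∈ W ∧ W ≤ U ∧
      Nonempty (Γ(L, W) ≃ₗ[Γ(X, W)] (Fin 1 → Γ(X, W))) := fun x =>
    exists_affine_equiv_of_rank 1 L hL1 U x.1 x.2
  choose W hW hxW hWU e using key
  have hcov : U ≤ ⨆ x, W x := fun x hx => Opens.mem_iSup.mpr ⟨⟨x, hx⟩, hxW ⟨x, hx⟩⟩
  constructor
  · apply section_ext_of_cover (unitMod X) W hWU hcov
    intro x
    refine (β_res L m (hWU x) l l').trans (Eq.trans ?_ (β_res L m (hWU x) l' l).symm)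
    exact (rank_one_bilin (e x).some (β L m (W x)) _ _ (L.presheaf.map (homOfLE (hWU x)).op l)).1
  · apply section_ext_of_cover L W hWU hcov
    intro x
    rw [Scheme.Modules.map_smul, Scheme.Modules.map_smul]
    have h1 := β_res L m (hWU x) l l'
    have h2 := β_res L m (hWU x) l' l''
    erw [h1, h2]
    exact (rank_one_bilin (e x).some (β L m (W x)) _ _ _).2

end Groth.Agent.H6.Dbl
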