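import Mathlib
import Groth.Agent.Lib.Helper6.Dbl1

set_option autoImplicit false
set_option linter.style.haveILetI false
open CategoryTheory AlgebraicGeometry CategoryTheory.Limits TopologicalSpace Opposite
open TensorProduct LinearMap Module

noncomputable section

namespace Groth.Agent.H6.Dbl

universe u
open Groth.Agent.LD.QC Groth.Agent.H6.QA Groth.Agent.H6.Tr

variable {X : Scheme.{u}} (L : X.Modules) (m : CohB1.tensorMod L L ⟶ Coh.structureModule X)
  (hL : PicF.IsInvertible L)

/-- sections of the double algebra `O ⊕ L`. -/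
def D (L : X.Modules) (_m : CohB1.tensorMod L L ⟶ Coh.structureModule X)
    (_hL : PicF.IsInvertible L) (U : X.Opens) : Type u := Γ(X, U) × Γ(L, U)

instance (U : X.Opens) : AddCommGroup (D L m hL U) :=
  inferInstanceAs (AddCommGroup (Γ(X, U) × Γ(L, U)))

instance (U : X.Opens) : Mul (D L m hL U) :=
  ⟨fun a b => (a.1 * b.1 + β L m U a.2 b.2, a.1 • b.2 + b.1 • a.2)⟩

instance (U : X.Opens) : One (D L m hL U) := ⟨((1 : Γ(X, U)), (0 : Γ(L, U)))⟩

variable {L m hL}

@[ext] lemma D.ext {U : X.Opens} {a b : D L m hL U} (h1 : a.1 = b.1) (h2 : a.2 = b.2) : a = b :=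
  Prod.ext h1 h2

@[simp] lemma mul_fst {U : X.Opens} (a b : D L m hL U) :
    (a * b).1 = a.1 * b.1 + β L m U a.2 b.2 := rfl
@[simp] lemma mul_snd {U : X.Opens} (a b : D L m hL U) :
    (a * b).2 = a.1 • b.2 + b.1 • a.2 := rfl
@[simp] lemma one_fst {U : X.Opens} : (1 : D L m hL U).1 = 1 := rfl
@[simp] lemma one_snd {U : X.Opens} : (1 : D L m hL U).2 = 0 := rfl
@[simp] lemma add_fst {U : X.Opens} (a b : D L m hL U) : (a + b).1 = a.1 + b.1 := rfl
@[simp] lemma add_snd {U : X.Opens} (a b : D L m hL U) : (a + b).2 = a.2 + b.2 := rfl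
@[simp] lemma zero_fst {U : X.Opens} : (0 : D L m hL U).1 = 0 := rfl
@[simp] lemma zero_snd {U : X.Opens} : (0 : D L m hL U).2 = 0 := rfl

variable (L m hL)

instance instCommRing (U : X.Opens) : CommRing (D L m hL U) :=
  { (inferInstance : AddCommGroup (D L m hL U)), (inferInstance : Mul (D L m hL U)),
    (inferInstance : One (D L m hL U)) with
    mul_assoc := fun a b c => by
      ext
      · simp only [mul_fst, mul_snd, map_add, map_smul, LinearMap.add_apply, LinearMap.smul_apply,
          smul_eq_mul]
        ring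
      · simp only [mul_fst, mul_snd, smul_add, add_smul, smul_smul]
        rw [(β_identities m hL U a.2 b.2 c.2).2]
        module
    one_mul := fun a => by
      ext
      · simp
      · simp
    mul_one := fun a => by
      ext
      · simp
      · simp
    left_distrib := fun a b c => by
      ext
      · simp only [mul_fst, add_fst, add_snd, map_add]
        ring
      · simp only [mul_snd, add_fst, add_snd, smul_add, add_smul]
        abel
    right_distrib := fun a b c => by
      ext
      · simp only [mul_fst, add_fst, add_snd, map_add, LinearMap.add_apply]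
        ring
      · simp only [mul_snd, add_fst, add_snd, smul_add, add_smul]
        abel
    zero_mul := fun a => by
      ext
      · simp
      · simp
    mul_zero := fun a => by
      ext
      · simp
      · simp
    mul_comm := fun a b => by
      ext
      · simp only [mul_fst]
        rw [(β_identities m hL U a.2 b.2 a.2).1, mul_comm]
      · simp only [mul_snd]
        abel }


/-- restriction of sections of the double algebra. -/
def resD {U V : X.Opens} (h : V ≤ U) : D L m hL U →+* D L m hL V where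
  toFun a := ((X.presheaf.map (homOfLE h).op).hom a.1, L.presheaf.map (homOfLE h).op a.2)
  map_one' := by
    ext
    · exact map_one (X.presheaf.map (homOfLE h).op).hom
    · exact map_zero (L.presheaf.map (homOfLE h).op).hom
  map_mul' a b := by
    ext
    · change (X.presheaf.map (homOfLE h).op).hom (a.1 * b.1 + β L m U a.2 b.2) = _
      rw [map_add, map_mul, β_res]
      rfl
    · change L.presheaf.map (homOfLE h).op (a.1 • b.2 + b.1 • a.2) = _
      rw [map_add, Scheme.Modules.map_smul, Scheme.Modules.map_smul]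
      rfl
  map_zero' := by
    ext
    · exact map_zero (X.presheaf.map (homOfLE h).op).hom
    · exact map_zero (L.presheaf.map (homOfLE h).op).hom
  map_add' a b := by
    ext
    · exact map_add (X.presheaf.map (homOfLE h).op).hom a.1 b.1
    · exact map_add (L.presheaf.map (homOfLE h).op).hom a.2 b.2

@[simp] lemma resD_fst {U V : X.Opens} (h : V ≤ U) (a : D L m hL U) :
    (resD L m hL h a).1 = (X.presheaf.map (homOfLE h).op).hom a.1 := rfl
@[simp] lemma resD_snd {U V : X.Opens} (h : V ≤ U) (a : D L m hL U) :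
    (resD L m hL h a).2 = L.presheaf.map (homOfLE h).op a.2 := rfl

/-- the presheaf of rings `O ⊕ L`. -/
def dblPresheaf : TopCat.Presheaf CommRingCat.{u} X.carrier where
  obj U := CommRingCat.of (D L m hL U.unop)
  map i := CommRingCat.ofHom (resD L m hL (leOfHom i.unop))
  map_id U := by
    apply CommRingCat.hom_ext
    apply RingHom.ext
    intro a
    refine D.ext (L := L) (m := m) (hL := hL) ?_ ?_
    · exact res_self (unitMod X) _ _
    · exact res_self L _ _
  map_comp i k := by
    apply CommRingCat.hom_ext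
    apply RingHom.ext
    intro a
    refine D.ext (L := L) (m := m) (hL := hL) ?_ ?_
    · exact (res_res (unitMod X) _ _ _).symm
    · exact (res_res L _ _ _).symm

/-- the structure map `s ↦ (s, 0)`. -/
def strD (U : X.Opens) : Γ(X, U) →+* D L m hL U where
  toFun s := (s, 0)
  map_one' := rfl
  map_mul' s t := by
    ext
    · simp
    · simp
  map_zero' := rfl
  map_add' s t := by
    ext
    · rfl
    · simp

/-- the structure map of the presheaf `O ⊕ L`. -/
def dblStr : X.presheaf ⟶ dblPresheaf L m hL where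
  app U := CommRingCat.ofHom (strD L m hL U.unop)
  naturality U V i := by
    apply CommRingCat.hom_ext
    apply RingHom.ext
    intro s
    refine D.ext (L := L) (m := m) (hL := hL) ?_ ?_
    · rfl
    · exact (map_zero (L.presheaf.map (homOfLE (leOfHom i.unop)).op).hom).symm


open TopCat.Presheaf in
theorem dbl_isSheaf : TopCat.Presheaf.IsSheaf (dblPresheaf L m hL) := by
  rw [TopCat.Presheaf.isSheaf_iff_isSheaf_comp (forget CommRingCat)]
  apply TopCat.Presheaf.isSheaf_of_isSheafUniqueGluing_types
  intro ι U sf hsf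
  have h1 : IsCompatible X.presheaf U (fun i => (show D L m hL (U i) from sf i).1) :=
    fun i j => congrArg Prod.fst (hsf i j)
  have h2 : IsCompatible L.presheaf U (fun i => (show D L m hL (U i) from sf i).2) :=
    fun i j => congrArg Prod.snd (hsf i j)
  obtain ⟨s, hs, hs'⟩ := X.sheaf.existsUnique_gluing U _ h1
  obtain ⟨l, hl, hl'⟩ := TopCat.Sheaf.existsUnique_gluing ⟨L.presheaf, L.isSheaf⟩ U _ h2
  refine ⟨(show D L m hL (iSup U) from (s, l)), fun i => Prod.ext (hs i) (hl i), ?_⟩
  intro t ht
  exact Prod.ext (hs' _ fun i => congrArg Prod.fst (ht i)) (hl' _ fun i => congrArg Prod.snd (ht i))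


lemma strD_pow (U : X.Opens) (r : Γ(X, U)) (n : ℕ) :
    (strD L m hL U r) ^ n = strD L m hL U (r ^ n) := (map_pow (strD L m hL U) r n).symm

lemma strD_mul (U : X.Opens) (r : Γ(X, U)) (a : D L m hL U) :
    strD L m hL U r * a = (show D L m hL U from (r * a.1, r • a.2)) := by
  ext
  · change r * a.1 + β L m U 0 a.2 = r * a.1
    rw [map_zero, LinearMap.zero_apply, add_zero]
  · change r • a.2 + a.1 • (0 : Γ(L, U)) = r • a.2
    rw [smul_zero, add_zero]

theorem dbl_isQC : RelSpec.IsQC (dblPresheaf L m hL) (dblStr L m hL) := by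
  have hL1 := (isInvertible_iff L).mp hL
  haveI := qc_of_isFinLocFree L (isFinLocFree_of_rank 1 L hL1)
  intro U hU r
  letI := ((dblPresheaf L m hL).map (homOfLE (X.basicOpen_le r)).op).hom.toAlgebra
  set ρ : Γ(X, X.basicOpen r) := (X.presheaf.map (homOfLE (X.basicOpen_le r)).op).hom r with hρ
  have hnat : ∀ s : Γ(X, U), resD L m hL (X.basicOpen_le r) (strD L m hL U s) =
      strD L m hL (X.basicOpen r) ((X.presheaf.map (homOfLE (X.basicOpen_le r)).op).hom s) := by
    intro s
    refine D.ext rfl ?_
    exact map_zero (L.presheaf.map (homOfLE (X.basicOpen_le r)).op).hom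
  refine IsLocalization.Away.mk _ ?_ ?_ ?_
  · change IsUnit (resD L m hL (X.basicOpen_le r) (strD L m hL U r))
    rw [hnat]
    exact (RingedSpace.isUnit_res_basicOpen _ r).map _
  · intro t
    let t' : D L m hL (X.basicOpen r) := t
    obtain ⟨n₁, s₁, h₁⟩ := affine_surj (unitMod X) hU r (show Γ(unitMod X, X.basicOpen r) from t'.1)
    obtain ⟨n₂, l₂, h₂⟩ := affine_surj L hU r t'.2
    refine ⟨n₁ + n₂, (show D L m hL U from
      (r ^ n₂ * (show Γ(X, U) from s₁), r ^ n₁ • l₂)), ?_⟩
    change t' * (resD L m hL (X.basicOpen_le r) (strD L m hL U r)) ^ (n₁ + n₂) =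
      resD L m hL (X.basicOpen_le r) _
    rw [hnat, strD_pow, mul_comm, strD_mul]
    refine D.ext ?_ ?_
    · change ρ ^ (n₁ + n₂) * t'.1 = (X.presheaf.map (homOfLE (X.basicOpen_le r)).op).hom
        (r ^ n₂ * (show Γ(X, U) from s₁))
      rw [map_mul, map_pow]
      have h₁' : (X.presheaf.map (homOfLE (X.basicOpen_le r)).op).hom (show Γ(X, U) from s₁) =
          ρ ^ n₁ * t'.1 := h₁
      rw [h₁', ← hρ, pow_add]
      ring
    · change ρ ^ (n₁ + n₂) • t'.2 = L.presheaf.map (homOfLE (X.basicOpen_le r)).op (r ^ n₁ • l₂)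
      rw [Scheme.Modules.map_smul, h₂, smul_smul]
      congr 1
      change _ = (X.presheaf.map (homOfLE (X.basicOpen_le r)).op).hom (r ^ n₁) * ρ ^ n₂
      rw [map_pow, ← hρ, pow_add]
  · intro a b hab
    let a' : D L m hL U := a
    let b' : D L m hL U := b
    have hab' : resD L m hL (X.basicOpen_le r) a' = resD L m hL (X.basicOpen_le r) b' := hab
    obtain ⟨n₁, h₁⟩ := affine_inj (unitMod X) hU r (show Γ(unitMod X, U) from a'.1 - b'.1) (by
      have := congrArg Prod.fst hab'
      change (X.presheaf.map (homOfLE (X.basicOpen_le r)).op).hom (a'.1 - b'.1) = 0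
      rw [map_sub, sub_eq_zero]
      exact this)
    obtain ⟨n₂, h₂⟩ := affine_inj L hU r (a'.2 - b'.2) (by
      have := congrArg Prod.snd hab'
      rw [map_sub, sub_eq_zero]
      exact this)
    refine ⟨n₁ + n₂, ?_⟩
    change (strD L m hL U r) ^ (n₁ + n₂) * a' = (strD L m hL U r) ^ (n₁ + n₂) * b'
    rw [strD_pow, strD_mul, strD_mul]
    refine D.ext ?_ ?_
    · change r ^ (n₁ + n₂) * a'.1 = r ^ (n₁ + n₂) * b'.1
      have h₁' : r ^ n₁ * (a'.1 - b'.1) = 0 := h₁
      rw [← sub_eq_zero, ← mul_sub, pow_add, mul_comm (r ^ n₁), mul_assoc, h₁', mul_zero]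
    · change r ^ (n₁ + n₂) • a'.2 = r ^ (n₁ + n₂) • b'.2
      rw [← sub_eq_zero, ← smul_sub, pow_add, mul_smul, h₂, smul_zero]

end Groth.Agent.H6.Dbl
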