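import Mathlib
import Groth.Agent.Lib.Helper6.Dbl2

set_option autoImplicit false
set_option linter.style.haveILetI false
open CategoryTheory AlgebraicGeometry CategoryTheory.Limits TopologicalSpace Opposite
open TensorProduct LinearMap Module

noncomputable section

namespace Groth.Agent.H6.Dbl

universe u
open Groth.Agent.LD.QC Groth.Agent.H6.QA Groth.Agent.H6.Tr

variable {X : Scheme.{u}} (L : X.Modules) (m : CohB1.tensorMod L L ⟶ Coh.structureModule X)
  (hL : PicF.IsInvertible L)

/-- the double algebra `O ⊕ L`. -/
def dblAlg : RelSpec.QCAlg X where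
  presheaf := dblPresheaf L m hL
  isSheaf := dbl_isSheaf L m hL
  str := dblStr L m hL
  isQC := dbl_isQC L m hL

/-- the inclusion `L ⟶ O ⊕ L`. -/
def dblJ : L ⟶ (dblAlg L m hL).toModule :=
  ⟨letI := (dblAlg L m hL).moduleSect
   PresheafOfModules.homMk
    { app := fun U => AddCommGrpCat.ofHom
        { toFun := fun l => (show D L m hL U.unop from (0, l))
          map_zero' := rfl
          map_add' := fun l l' => by
            refine D.ext (L := L) (m := m) (hL := hL) ?_ ?_
            · exact (add_zero (0 : Γ(X, U.unop))).symm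
            · rfl }
      naturality := fun U V i => by
        ext l
        refine D.ext (L := L) (m := m) (hL := hL) ?_ ?_
        · exact (map_zero (X.presheaf.map (homOfLE (leOfHom i.unop)).op).hom).symm
        · rfl }
    (fun U r l => by
      refine D.ext (L := L) (m := m) (hL := hL) ?_ ?_
      · change (0 : Γ(X, U.unop)) = (show Γ(X, U.unop) from r) * 0 + β L m U.unop 0 l
        rw [mul_zero, map_zero, LinearMap.zero_apply, add_zero]
      · change (show Γ(X, U.unop) from r) • (show Γ(L, U.unop) from l) =
          (show Γ(X, U.unop) from r) • (show Γ(L, U.unop) from l) +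
            (0 : Γ(X, U.unop)) • (0 : Γ(L, U.unop))
        rw [smul_zero, add_zero])⟩

theorem isDblAlg : FinCov.IsDblAlg L m (dblAlg L m hL) (dblJ L m hL) := by
  refine ⟨fun U => ?_, fun U l l' => ?_⟩
  · have : (fun p : Γ(X, U) × L.val.obj (op U) =>
        ((dblAlg L m hL).str.app (op U)).hom p.1 +
          FinCov.toSec (dblAlg L m hL) (((dblJ L m hL).val.app (op U)).hom p.2)) = id := by
      funext p
      refine D.ext (L := L) (m := m) (hL := hL) ?_ ?_
      · exact add_zero p.1
      · exact zero_add p.2
    rw [this]
    exact Function.bijective_id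
  · refine D.ext (L := L) (m := m) (hL := hL) ?_ ?_
    · change (0 : Γ(X, U)) * 0 + β L m U l l' = _
      rw [mul_zero, zero_add]
      rfl
    · change (0 : Γ(X, U)) • l' + (0 : Γ(X, U)) • l = 0
      rw [zero_smul, zero_smul, add_zero]

theorem s19697 (L : X.Modules) (hL : PicF.IsInvertible L)
    (m : CohB1.tensorMod L L ⟶ Coh.structureModule X) :
    ∃ (A : RelSpec.QCAlg X) (j : L ⟶ A.toModule), FinCov.IsDblAlg L m A j :=
  ⟨dblAlg L m hL, dblJ L m hL, isDblAlg L m hL⟩

end Groth.Agent.H6.Dbl
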