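import Groth.Agent.Lib.Helper6.DeRhamGen
import Mathlib.Algebra.Polynomial.Laurent
import Mathlib.Algebra.CharZero.Defs

/-!
# de Rham cohomology of `k[T, T⁻¹]` (helper6)
-/

universe u

open exteriorPower LaurentPolynomial AddMonoidAlgebra

namespace Groth.Agent.H6.DR

section Laurent

variable (k : Type u) [Field k]

/-- The derivative `d/dT` on Laurent polynomials as a `k`-linear map. -/
noncomputable def derivL : LaurentPolynomial k →ₗ[k] LaurentPolynomial k :=
  (coeffLinearEquiv k).symm.toLinearMap ∘ₗ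
    (Finsupp.lsum k fun n : ℤ => (n : k) • (Finsupp.lsingle (n - 1) : k →ₗ[k] ℤ →₀ k)) ∘ₗ
    (coeffLinearEquiv k).toLinearMap

theorem derivL_single (n : ℤ) (r : k) :
    derivL k (single n r) = single (n - 1) ((n : k) * r) := by
  apply AddMonoidAlgebra.coeff_injective
  simp only [derivL, LinearMap.comp_apply, LinearEquiv.coe_coe,
    AddMonoidAlgebra.coeffLinearEquiv_apply, AddMonoidAlgebra.coeffLinearEquiv_symm_apply,
    AddMonoidAlgebra.coeff_single, Finsupp.lsum_single, LinearMap.smul_apply,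
    Finsupp.lsingle_apply, Finsupp.smul_single, smul_eq_mul, AddMonoidAlgebra.coeff_ofCoeff]

theorem derivL_leibniz (a b : LaurentPolynomial k) :
    derivL k (a * b) = a • derivL k b + b • derivL k a := by
  induction a using AddMonoidAlgebra.induction_linear with
  | zero => simp
  | add x y hx hy => rw [add_mul, map_add, hx, hy, map_add, add_smul, smul_add]; abel
  | single m r =>
    induction b using AddMonoidAlgebra.induction_linear with
    | zero => simp
    | add x y hx hy => rw [mul_add, map_add, hx, hy, map_add, add_smul, smul_add]; abel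
    | single n s =>
      rw [AddMonoidAlgebra.single_mul_single, derivL_single, derivL_single, derivL_single,
        smul_eq_mul, smul_eq_mul, AddMonoidAlgebra.single_mul_single,
        AddMonoidAlgebra.single_mul_single,
        show m + (n - 1) = m + n - 1 by ring, show n + (m - 1) = m + n - 1 by ring,
        ← AddMonoidAlgebra.single_add]
      congr 1
      push_cast
      ring

/-- `d/dT` as a derivation. -/
noncomputable def derivD : Derivation k (LaurentPolynomial k) (LaurentPolynomial k) :=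
  Derivation.mk' (derivL k) (derivL_leibniz k)

theorem derivD_apply (f : LaurentPolynomial k) : derivD k f = derivL k f := rfl

theorem derivL_coeff_neg_one (f : LaurentPolynomial k) : (derivL k f).coeff (-1) = 0 := by
  induction f using AddMonoidAlgebra.induction_linear with
  | zero => simp
  | add x y hx hy => rw [map_add, AddMonoidAlgebra.coeff_add, Finsupp.add_apply, hx, hy, add_zero]
  | single n r =>
    rw [derivL_single, AddMonoidAlgebra.coeff_single, Finsupp.single_apply]
    split_ifs with h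
    · have : n = 0 := by omega
      simp [this]
    · rfl

end Laurent

section Kaehler

variable (k : Type u) [Field k]

local notation "L" => LaurentPolynomial k

/-- The `L`-linear form `c : Ω → L` with `c (D f) = f'`. -/
noncomputable def coordL : Ω[L⁄k] →ₗ[L] L := (derivD k).liftKaehlerDifferential

theorem coordL_D (f : L) : coordL k (KaehlerDifferential.D k L f) = derivL k f :=
  Derivation.liftKaehlerDifferential_comp_D _ _

/-- The form `dT`. -/
noncomputable def dT : Ω[L⁄k] := KaehlerDifferential.D k L (T 1)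

theorem D_T_nat_mem (n : ℕ) : KaehlerDifferential.D k L (T (n : ℤ)) ∈ Submodule.span L {dT k} := by
  induction n with
  | zero =>
    have : (T ((0 : ℕ) : ℤ) : L) = 1 := by simp
    rw [this, Derivation.map_one_eq_zero]
    exact Submodule.zero_mem _
  | succ n ih =>
    have : (T ((n + 1 : ℕ) : ℤ) : L) = T (n : ℤ) * T 1 := by
      rw [← T_add]; congr 1
    rw [this, Derivation.leibniz]
    exact Submodule.add_mem _ (Submodule.smul_mem _ _ (Submodule.mem_span_singleton_self _))
      (Submodule.smul_mem _ _ ih)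

theorem D_T_mem (n : ℤ) : KaehlerDifferential.D k L (T n) ∈ Submodule.span L {dT k} := by
  obtain ⟨m, rfl | rfl⟩ := n.eq_nat_or_neg
  · exact D_T_nat_mem k m
  · have h1 : (T (-(m : ℤ)) : L) * T (m : ℤ) = 1 := by rw [← T_add]; simp
    have h2 := congrArg (KaehlerDifferential.D k L) h1
    rw [Derivation.leibniz, Derivation.map_one_eq_zero] at h2
    have h3 : (T (m : ℤ) : L) • KaehlerDifferential.D k L (T (-(m : ℤ))) =
        -((T (-(m : ℤ)) : L) • KaehlerDifferential.D k L (T (m : ℤ))) := by
      rw [eq_neg_iff_add_eq_zero, add_comm]; exact h2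
    have h4 : KaehlerDifferential.D k L (T (-(m : ℤ))) =
        (T (-(m : ℤ)) : L) • ((T (m : ℤ) : L) • KaehlerDifferential.D k L (T (-(m : ℤ)))) := by
      rw [smul_smul, h1, one_smul]
    rw [h4, h3]
    exact Submodule.smul_mem _ _ (Submodule.neg_mem _ (Submodule.smul_mem _ _ (D_T_nat_mem k m)))

theorem D_mem (f : L) : KaehlerDifferential.D k L f ∈ Submodule.span L {dT k} := by
  induction f using AddMonoidAlgebra.induction_linear with
  | zero => rw [map_zero]; exact Submodule.zero_mem _
  | add x y hx hy => rw [map_add]; exact Submodule.add_mem _ hx hy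
  | single n r =>
    have : (AddMonoidAlgebra.single n r : L) = r • T n := by
      rw [T.eq_1 (R := k) n, AddMonoidAlgebra.smul_single, smul_eq_mul, mul_one]
    rw [this, Derivation.map_smul]
    have h := D_T_mem k n
    rw [Submodule.mem_span_singleton] at h ⊢
    obtain ⟨a, ha⟩ := h
    exact ⟨r • a, by rw [smul_assoc, ha]⟩

theorem span_dT : Submodule.span L {dT k} = ⊤ := by
  rw [eq_top_iff, ← KaehlerDifferential.span_range_derivation k L, Submodule.span_le]
  rintro _ ⟨f, rfl⟩
  exact D_mem k f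

theorem coordL_dT : coordL k (dT k) = 1 := by
  rw [dT, coordL_D, T.eq_1 (R := k) 1, derivL_single]
  simp

theorem eq_coordL_smul (ω : Ω[L⁄k]) : ω = coordL k ω • dT k := by
  have h : ω ∈ Submodule.span L {dT k} := by rw [span_dT]; trivial
  obtain ⟨a, rfl⟩ := Submodule.mem_span_singleton.mp h
  rw [map_smul, coordL_dT, smul_eq_mul, mul_one]

theorem D_eq (f : L) : KaehlerDifferential.D k L f = derivL k f • dT k := by
  rw [eq_coordL_smul k (KaehlerDifferential.D k L f), coordL_D]

theorem subsingleton_extPow (i : ℕ) : Subsingleton ↥(⋀[L]^(i + 2) (Ω[L⁄k])) := by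
  have h := ιMulti_span_of_span L (i + 2) (Ω[L⁄k]) (span_dT k)
  have h0 : ∀ x ∈ ιMulti L (i + 2) '' {a : Fin (i + 2) → Ω[L⁄k] | Set.range a ⊆ {dT k}},
      x = 0 := by
    rintro _ ⟨a, ha, rfl⟩
    have e : a 0 = a 1 := by
      rw [Set.mem_singleton_iff.mp (ha ⟨0, rfl⟩), Set.mem_singleton_iff.mp (ha ⟨1, rfl⟩)]
    exact (ιMulti L (i + 2)).map_eq_zero_of_eq a e (by simp)
  have h1 : (⊤ : Submodule L ↥(⋀[L]^(i + 2) (Ω[L⁄k]))) = ⊥ := by
    rw [← h, Submodule.span_eq_bot]; exact h0
  exact (Submodule.subsingleton_iff L).mp (subsingleton_of_bot_eq_top h1.symm)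

variable {k}

theorem oneEquiv_d0
    (d : ∀ p : ℕ, ↥(⋀[L]^p (Ω[L⁄k])) →ₗ[k] ↥(⋀[L]^(p + 1) (Ω[L⁄k])))
    (hd : DeRham.IsRule (KaehlerDifferential.D k L) d) (x : ↥(⋀[L]^0 (Ω[L⁄k]))) :
    oneEquiv L (Ω[L⁄k]) (d 0 x) = KaehlerDifferential.D k L (zeroEquiv L (Ω[L⁄k]) x) := by
  have hx : x = DeRham.gen (KaehlerDifferential.D k L) 0 (zeroEquiv L (Ω[L⁄k]) x) Fin.elim0 := by
    apply (zeroEquiv L (Ω[L⁄k])).injective
    unfold DeRham.gen
    rw [map_smul, zeroEquiv_ιMulti, smul_eq_mul, mul_one]
  conv_lhs => rw [hx]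
  rw [hd 0, oneEquiv_ιMulti]
  rfl

theorem oneEquiv_eta :
    oneEquiv L (Ω[L⁄k]) (DeRham.gen (KaehlerDifferential.D k L) 1 (T (-1)) (fun _ => T 1)) =
      (T (-1) : L) • dT k := by
  unfold DeRham.gen
  rw [map_smul, oneEquiv_ιMulti]
  rfl

/-- the residue-type functional: coefficient of `T⁻¹` of the coordinate of a 1-form. -/
theorem coeff_coordL_d0
    (d : ∀ p : ℕ, ↥(⋀[L]^p (Ω[L⁄k])) →ₗ[k] ↥(⋀[L]^(p + 1) (Ω[L⁄k])))
    (hd : DeRham.IsRule (KaehlerDifferential.D k L) d) (x : ↥(⋀[L]^0 (Ω[L⁄k]))) :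
    (coordL k (oneEquiv L (Ω[L⁄k]) (d 0 x))).coeff (-1) = 0 := by
  rw [oneEquiv_d0 d hd, coordL_D, derivL_coeff_neg_one]

theorem coordL_smul_eta (c : k) :
    coordL k (oneEquiv L (Ω[L⁄k])
      (c • DeRham.gen (KaehlerDifferential.D k L) 1 (T (-1)) (fun _ => T 1))) =
      AddMonoidAlgebra.single (-1 : ℤ) c := by
  rw [← algebraMap_smul L c, map_smul, oneEquiv_eta, map_smul, map_smul, coordL_dT, smul_eq_mul,
    smul_eq_mul, mul_one, T.eq_1 (R := k) (-1), ← Algebra.smul_def, AddMonoidAlgebra.smul_single,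
    smul_eq_mul, mul_one]

theorem laurent_main [CharZero k]
    (d : ∀ p : ℕ, ↥(⋀[L]^p (Ω[L⁄k])) →ₗ[k] ↥(⋀[L]^(p + 1) (Ω[L⁄k])))
    (hd : DeRham.IsDiff (KaehlerDifferential.D k L) d) :
    DeRham.cocycles d 1 = ⊤ ∧
    IsCompl (DeRham.coboundaries d 1)
      (Submodule.span k {DeRham.gen (KaehlerDifferential.D k L) 1
        (T (-1)) (fun _ => T 1)}) ∧
    DeRham.gen (KaehlerDifferential.D k L) 1
        (T (-1)) (fun _ => T 1) ∉ DeRham.coboundaries d 1 ∧
    ∀ i : ℕ, DeRham.cocycles d (i + 2) ≤ DeRham.coboundaries d (i + 2) := by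
  have hne : ∀ x : ↥(⋀[L]^0 (Ω[L⁄k])), ∀ c : k,
      d 0 x = c • DeRham.gen (KaehlerDifferential.D k L) 1 (T (-1)) (fun _ => T 1) → c = 0 := by
    intro x c hx
    have h1 := coeff_coordL_d0 d hd.1 x
    rw [hx, coordL_smul_eta, AddMonoidAlgebra.coeff_single, Finsupp.single_eq_same] at h1
    exact h1
  refine ⟨?_, ⟨?_, ?_⟩, ?_, ?_⟩
  · rw [eq_top_iff]
    intro x _
    haveI := subsingleton_extPow k 0
    exact Subsingleton.elim _ _
  · rw [Submodule.disjoint_def]
    intro y hy1 hy2
    obtain ⟨x, rfl⟩ := hy1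
    obtain ⟨c, hc⟩ := Submodule.mem_span_singleton.mp hy2
    have := hne x c hc.symm
    rw [← hc, this, zero_smul]
  · rw [codisjoint_iff, eq_top_iff]
    intro y _
    obtain ⟨ω, rfl⟩ := (oneEquiv L (Ω[L⁄k])).symm.surjective y
    rw [eq_coordL_smul k ω]
    generalize coordL k ω = g
    induction g using AddMonoidAlgebra.induction_linear with
    | zero => rw [zero_smul, map_zero]; exact Submodule.zero_mem _
    | add x y hx hy => rw [add_smul, map_add]; exact Submodule.add_mem _ hx hy
    | single n r =>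
      by_cases hn : n = -1
      · subst hn
        apply Submodule.mem_sup_right
        rw [Submodule.mem_span_singleton]
        refine ⟨r, ?_⟩
        apply (oneEquiv L (Ω[L⁄k])).injective
        rw [LinearEquiv.apply_symm_apply, eq_coordL_smul k (oneEquiv L (Ω[L⁄k]) _), coordL_smul_eta]
      · apply Submodule.mem_sup_left
        have hn' : ((n + 1 : ℤ) : k) ≠ 0 := by
          rw [Int.cast_ne_zero]; omega
        refine ⟨DeRham.gen (KaehlerDifferential.D k L) 0
          (AddMonoidAlgebra.single (n + 1) (r / ((n + 1 : ℤ) : k))) Fin.elim0, ?_⟩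
        apply (oneEquiv L (Ω[L⁄k])).injective
        rw [LinearEquiv.apply_symm_apply, oneEquiv_d0 d hd.1]
        have : zeroEquiv L (Ω[L⁄k]) (DeRham.gen (KaehlerDifferential.D k L) 0
          (AddMonoidAlgebra.single (n + 1) (r / ((n + 1 : ℤ) : k))) Fin.elim0) =
            AddMonoidAlgebra.single (n + 1) (r / ((n + 1 : ℤ) : k)) := by
          unfold DeRham.gen
          rw [map_smul, zeroEquiv_ιMulti, smul_eq_mul, mul_one]
        rw [this, D_eq, derivL_single, add_sub_cancel_right, mul_div_cancel₀ _ hn']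
  · intro ⟨x, hx⟩
    exact one_ne_zero (hne x 1 (by rw [hx, one_smul]))
  · intro i x _
    haveI := subsingleton_extPow k i
    rw [Subsingleton.elim x 0]
    exact Submodule.zero_mem _

end Kaehler

end Groth.Agent.H6.DR
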