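import Mathlib

/-!
# helper6: decomposition and inertia groups of `P ∩ B^Ω` (Bourbaki AC V §2)
-/

set_option linter.style.haveILetI false

universe u v

namespace Groth.Agent.H6

open Pointwise in
theorem decomp_inertia_quot
    (B : Type u) [CommRing B] (Γ : Type v) [Group Γ] [Finite Γ] [MulSemiringAction Γ B]
    (Ω : Subgroup Γ) [Ω.Normal] (P : Ideal B) [P.IsPrime] (γ : Γ) :
    ((∀ x : B, (∀ ω ∈ Ω, ω • x = x) → (x ∈ P ↔ γ • x ∈ P)) ↔
        ∃ ω ∈ Ω, ∀ x : B, x ∈ P ↔ (γ * ω) • x ∈ P) ∧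
      ((∀ x : B, (∀ ω ∈ Ω, ω • x = x) → γ • x - x ∈ P) ↔
        ∃ ω ∈ Ω, ∀ x : B, (γ * ω) • x - x ∈ P) := by
  classical
  let A := FixedPoints.subring B Ω
  haveI : Algebra.IsInvariant A B Ω := ⟨fun b hb => ⟨⟨b, hb⟩, rfl⟩⟩
  have hAfix : ∀ (a : A) (ω : Γ), ω ∈ Ω → ω • (a : B) = a := fun a ω hω => a.2 ⟨ω, hω⟩
  have part1 : ∀ γ : Γ, (∀ x : B, (∀ ω ∈ Ω, ω • x = x) → (x ∈ P ↔ γ • x ∈ P)) →
      ∃ ω ∈ Ω, ∀ x : B, x ∈ P ↔ (γ * ω) • x ∈ P := by
    intro γ h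
    let Q : Ideal B := P.comap (MulSemiringAction.toRingEquiv Γ B γ)
    haveI : Q.IsPrime := Ideal.comap_isPrime _ _
    have hQ : ∀ y, y ∈ Q ↔ γ • y ∈ P := fun y => Iff.rfl
    have hPQ : P.under A = Q.under A := by
      ext a
      rw [Ideal.under_def, Ideal.mem_comap, Ideal.mem_comap, hQ]
      exact h a (fun ω hω => hAfix a ω hω)
    obtain ⟨g, hg⟩ := Algebra.IsInvariant.exists_smul_of_under_eq A B Ω P Q hPQ
    refine ⟨g, g.2, fun x => ?_⟩
    rw [mul_smul, ← hQ, hg, Ideal.mem_pointwise_smul_iff_inv_smul_mem]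
    rw [show ((g : Γ) • x) = g • x from rfl, inv_smul_smul]
  refine ⟨⟨part1 γ, ?_⟩, ⟨?_, ?_⟩⟩
  · rintro ⟨ω, hω, h⟩ x hx
    rw [h x, mul_smul, hx ω hω]
  · intro h
    have h1 : ∀ x : B, (∀ ω ∈ Ω, ω • x = x) → (x ∈ P ↔ γ • x ∈ P) := by
      intro x hx
      have := h x hx
      constructor
      · intro hxP; have := P.add_mem this hxP; simpa using this
      · intro hγ; have := P.sub_mem hγ this; simpa using this
    obtain ⟨ω₁, hω₁, hσ⟩ := part1 γ h1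
    set σ := γ * ω₁ with hσdef
    let p := P.under A
    have hmap : P = P.map (MulSemiringAction.toRingEquiv Γ B σ : B →+* B) := by
      rw [Ideal.map_comap_of_equiv]
      ext x
      rw [Ideal.mem_comap]
      have := hσ (σ⁻¹ • x)
      rw [smul_inv_smul] at this
      exact this.symm
    let e : (B ⧸ P) ≃+* (B ⧸ P) :=
      Ideal.quotientEquiv P P (MulSemiringAction.toRingEquiv Γ B σ) hmap
    have he : ∀ x, e (Ideal.Quotient.mk P x) = Ideal.Quotient.mk P (σ • x) := fun x => rfl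
    let e' : (B ⧸ P) ≃ₐ[A ⧸ p] (B ⧸ P) := AlgEquiv.ofRingEquiv (f := e) (by
      intro a
      obtain ⟨a, rfl⟩ := Ideal.Quotient.mk_surjective a
      show e (Ideal.Quotient.mk P (a : B)) = Ideal.Quotient.mk P (a : B)
      rw [he, Ideal.Quotient.eq]
      have : σ • (a : B) = γ • (a : B) := by rw [hσdef, mul_smul, hAfix a ω₁ hω₁]
      rw [this]
      exact h a (fun ω hω => hAfix a ω hω))
    obtain ⟨g, hg⟩ := Ideal.Quotient.stabilizerHom_surjective Ω p P e'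
    refine ⟨ω₁ * ((g⁻¹ : MulAction.stabilizer Ω P) : Ω), Ω.mul_mem hω₁ (g⁻¹).1.2, fun x => ?_⟩
    have h2 := congrArg (fun f => f (Ideal.Quotient.mk P (g⁻¹ • x))) hg
    simp only [Ideal.Quotient.stabilizerHom_apply] at h2
    rw [smul_inv_smul] at h2
    have h3 : e' (Ideal.Quotient.mk P (g⁻¹ • x)) = Ideal.Quotient.mk P (σ • (g⁻¹ • x)) := rfl
    rw [h3, eq_comm, Ideal.Quotient.eq] at h2
    rw [← mul_assoc, mul_smul]
    exact h2
  · rintro ⟨ω, hω, h⟩ x hx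
    have := h x
    rwa [mul_smul, hx ω hω] at this

end Groth.Agent.H6
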