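import Mathlib
import Groth.Prelude.Def_Exal

/-!
# Deformations of an affine scheme over Artin rings: ring-level lemmas (helper6)
-/

set_option autoImplicit false
universe u
open Exal

namespace Groth.Agent.H6.DefAff

attribute [local instance] Exal.opModule Exal.isCentralScalar_opModule

section Lift

variable {k B₀ : Type u} [CommRing k] [CommRing B₀] [Algebra k B₀]

/-- lifting along a square-zero thickening whose kernel is `L`, when every extension of `B₀` by
`L` is trivial -/
theorem exists_lift_of_trivial {L : Type u} [AddCommGroup L] [Module B₀ L]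
    (h : ∀ X : Ext k B₀ L, X.IsTrivial)
    {C D : Type u} [CommRing C] [Algebra k C] [CommRing D] [Algebra k D]
    (π : C →ₐ[k] D) (hπ : Function.Surjective π) (g : B₀ →ₐ[k] D)
    (w : L →+ C) (hwJ : ∀ l, π (w l) = 0) (hw_inj : Function.Injective w)
    (hw_surj : ∀ x, π x = 0 → ∃ l, w l = x)
    (hw : ∀ (c : C) (b : B₀) (l : L), π c = g b → w (b • l) = c * w l) :
    ∃ g' : B₀ →ₐ[k] C, ∀ b, π (g' b) = g b := by
  let φ₁ : (C × B₀) →ₐ[k] D := π.comp (AlgHom.fst k C B₀)
  let φ₂ : (C × B₀) →ₐ[k] D := g.comp (AlgHom.snd k C B₀)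
  let E : Subalgebra k (C × B₀) := AlgHom.equalizer φ₁ φ₂
  have hE : ∀ x : C × B₀, x ∈ E ↔ π x.1 = g x.2 := fun x => Iff.rfl
  let proj : E →ₐ[k] B₀ := (AlgHom.snd k C B₀).comp E.val
  let incl : L →+ E :=
    { toFun := fun l => ⟨(w l, 0), by
        rw [hE]
        show π (w l) = g 0
        rw [map_zero]
        exact hwJ l⟩
      map_zero' := by
        apply Subtype.ext
        show (w 0, (0 : B₀)) = 0
        rw [map_zero]
        rfl
      map_add' := fun l l' => by
        apply Subtype.ext
        show (w (l + l'), (0 : B₀)) = (w l, 0) + (w l', 0)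
        rw [map_add, Prod.mk_add_mk, add_zero] }
  have hext : IsExtension proj incl := by
    refine ⟨?_, ?_, ?_, ?_⟩
    · intro b
      obtain ⟨c, hc⟩ := hπ (g b)
      exact ⟨⟨(c, b), (hE _).mpr hc⟩, rfl⟩
    · intro l l' hll
      have h1 := congrArg (fun x : E => (x : C × B₀).1) hll
      exact hw_inj h1
    · intro x
      constructor
      · intro hx
        have hx2 : (x : C × B₀).2 = 0 := hx
        have h1 := (hE _).mp x.2
        rw [hx2, map_zero] at h1
        obtain ⟨l, hl⟩ := hw_surj _ h1
        refine ⟨l, Subtype.ext ?_⟩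
        show (w l, (0 : B₀)) = (x : C × B₀)
        rw [hl, ← hx2]
      · rintro ⟨l, rfl⟩
        rfl
    · intro x l
      apply Subtype.ext
      show (x : C × B₀) * (w l, (0 : B₀)) = (w ((x : C × B₀).2 • l), (0 : B₀))
      rw [hw (x : C × B₀).1 (x : C × B₀).2 l ((hE _).mp x.2)]
      ext
      · rfl
      · show (x : C × B₀).2 * 0 = 0
        rw [mul_zero]
  let X : Ext k B₀ L := { E := E, proj := proj, incl := incl, isExtension := hext }
  obtain ⟨s, hs⟩ := h X
  refine ⟨(AlgHom.fst k C B₀).comp (E.val.comp s), fun b => ?_⟩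
  have h1 := (hE _).mp (s b).2
  have h2 : ((s b : E) : C × B₀).2 = b := hs b
  rw [h2] at h1
  exact h1

end Lift

section Flat

variable {A B : Type u} [CommRing A] [CommRing B] [Algebra A B] [Module.Flat A B]

/-- flatness and colon ideals -/
theorem mem_map_of_mul_mem {n : ℕ} (c : Fin n → A) (x : A) (J : Ideal A)
    (hJ : ∀ a : A, a * x ∈ Ideal.span (Set.range c) → a ∈ J) (b : B)
    (h : algebraMap A B x * b ∈ (Ideal.span (Set.range c)).map (algebraMap A B)) :
    b ∈ J.map (algebraMap A B) := by
  rw [Ideal.map_span, ← Set.range_comp] at h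
  obtain ⟨d, hd⟩ := (Ideal.mem_span_range_iff_exists_fun).mp h
  -- the relation `x • b - ∑ c l • d l = 0`
  let f : Option (Fin n) → A := fun o => o.elim x (fun l => - c l)
  let y : Option (Fin n) → B := fun o => o.elim b d
  have hrel : ∑ o, f o • y o = 0 := by
    rw [Fintype.sum_option]
    show x • b + ∑ l, (- c l) • d l = 0
    have h1 : ∑ l, (- c l) • d l = - (algebraMap A B x * b) := by
      rw [← hd, ← Finset.sum_neg_distrib]
      refine Finset.sum_congr rfl fun l _ => ?_
      rw [Algebra.smul_def, map_neg, neg_mul, Function.comp_apply, mul_comm]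
    rw [h1, Algebra.smul_def, add_neg_cancel]
  obtain ⟨K, a, z, hz, ha⟩ :=
    Module.Flat.isTrivialRelation_of_sum_smul_eq_zero (R := A) (M := B) (f := f) (x := y) hrel
  have hb : b = ∑ j, a none j • z j := hz none
  rw [hb]
  refine Ideal.sum_mem _ fun j _ => ?_
  rw [Algebra.smul_def]
  refine Ideal.mul_mem_right _ _ (Ideal.mem_map_of_mem _ (hJ _ ?_))
  have h1 := ha j
  rw [Fintype.sum_option] at h1
  have h2 : x * a none j = ∑ l, c l * a (some l) j := by
    have : x * a none j + ∑ l, (- c l) * a (some l) j = 0 := h1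
    simp only [neg_mul, Finset.sum_neg_distrib] at this
    exact add_neg_eq_zero.mp this
  rw [mul_comm, h2]
  exact Ideal.sum_mem _ fun l _ => Ideal.mul_mem_right _ _ (Ideal.subset_span ⟨l, rfl⟩)

end Flat

end Groth.Agent.H6.DefAff
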