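import Mathlib
import Groth.Prelude.Def_Exal
import Groth.Agent.Lib.Helper6.DefAff1

/-!
# Deformations of an affine scheme over Artin rings: sections for rigid algebras (helper6)
-/

set_option autoImplicit false
universe u
open Exal IsLocalRing

namespace Groth.Agent.H6.DefAff

attribute [local instance] Exal.opModule Exal.isCentralScalar_opModule

section Section

variable {k : Type u} [Field k] {B₀ : Type u} [CommRing B₀] [Algebra k B₀]
variable {A : Type u} [CommRing A] [IsLocalRing A] [IsNoetherianRing A] [Algebra k A]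
variable {B : Type u} [CommRing B] [Algebra A B] [Algebra k B] [IsScalarTower k A B]
  [Module.Flat A B]
variable (π : B →ₐ[k] B₀)

/-- the section property for a map into a quotient of `B` -/
def IsSec (I : Ideal A) (σ : B₀ →ₐ[k] B ⧸ I.map (algebraMap A B)) : Prop :=
  ∀ (b₀ : B₀) (b : B), σ b₀ = Ideal.Quotient.mk _ b → π b = b₀

variable {π}

theorem step (hπ : Function.Surjective π)
    (hker : RingHom.ker (π : B →+* B₀) = (maximalIdeal A).map (algebraMap A B))
    (hT : ∀ X : Ext k B₀ B₀, X.IsTrivial) (I' I : Ideal A) (x : A)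
    (hI : I = I' ⊔ Ideal.span {x}) (hx : x ∉ I')
    (hmx : ∀ a ∈ maximalIdeal A, a * x ∈ I')
    (σ : B₀ →ₐ[k] B ⧸ I.map (algebraMap A B)) (hσ : IsSec π I σ) :
    ∃ σ' : B₀ →ₐ[k] B ⧸ I'.map (algebraMap A B), IsSec π I' σ' := by
  have hle : I'.map (algebraMap A B) ≤ I.map (algebraMap A B) :=
    Ideal.map_mono (hI ▸ le_sup_left)
  let p : (B ⧸ I'.map (algebraMap A B)) →ₐ[k] (B ⧸ I.map (algebraMap A B)) :=
    Ideal.Quotient.factorₐ k hle
  have hp : Function.Surjective p := Ideal.Quotient.factor_surjective hle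
  have hp_mk : ∀ b : B, p (Ideal.Quotient.mk _ b) = Ideal.Quotient.mk _ b := fun b => rfl
  -- `x * ker π ⊆ I' B`
  have hxm : ∀ b : B, π b = 0 → algebraMap A B x * b ∈ I'.map (algebraMap A B) := by
    intro b hb
    have hb' : b ∈ (maximalIdeal A).map (algebraMap A B) := by
      rw [← hker]
      exact hb
    have h1 : algebraMap A B x * b ∈ (Ideal.span {x} * maximalIdeal A).map (algebraMap A B) := by
      rw [Ideal.map_mul]
      exact Ideal.mul_mem_mul (Ideal.mem_map_of_mem _ (Ideal.mem_span_singleton_self x)) hb'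
    refine Ideal.map_mono ?_ h1
    rw [Ideal.mul_le]
    intro r hr s hs
    obtain ⟨t, rfl⟩ := Ideal.mem_span_singleton'.mp hr
    have := I'.mul_mem_left t (hmx s hs)
    have e : t * x * s = t * (s * x) := by ring
    rw [e]
    exact this
  have hW : ∀ b b' : B, π b = π b' →
      Ideal.Quotient.mk (I'.map (algebraMap A B)) (algebraMap A B x * b) =
        Ideal.Quotient.mk _ (algebraMap A B x * b') := by
    intro b b' hbb
    rw [Ideal.Quotient.eq, ← mul_sub]
    exact hxm _ (by rw [map_sub, hbb, sub_self])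
  let s : B₀ → B := Function.surjInv hπ
  have hs : ∀ b₀, π (s b₀) = b₀ := Function.surjInv_eq hπ
  let w : B₀ →+ (B ⧸ I'.map (algebraMap A B)) :=
    { toFun := fun b₀ => Ideal.Quotient.mk _ (algebraMap A B x * s b₀)
      map_zero' := by
        show Ideal.Quotient.mk _ (algebraMap A B x * s 0) = 0
        rw [hW (s 0) 0 (by rw [hs, map_zero]), mul_zero, map_zero]
      map_add' := fun l l' => by
        show Ideal.Quotient.mk _ (algebraMap A B x * s (l + l')) =
          Ideal.Quotient.mk _ (algebraMap A B x * s l) + Ideal.Quotient.mk _ (algebraMap A B x * s l')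
        rw [hW (s (l + l')) (s l + s l') (by rw [hs, map_add, hs, hs]), mul_add, map_add] }
  have hw_def : ∀ (b₀ : B₀) (b : B), π b = b₀ → w b₀ = Ideal.Quotient.mk _ (algebraMap A B x * b) :=
    fun b₀ b hb => hW _ _ (by rw [hs, hb])
  have hxI : x ∈ I := hI ▸ Ideal.mem_sup_right (Ideal.mem_span_singleton_self x)
  have hwJ : ∀ l, p (w l) = 0 := by
    intro l
    show p (Ideal.Quotient.mk _ (algebraMap A B x * s l)) = 0
    rw [hp_mk, Ideal.Quotient.eq_zero_iff_mem]
    exact Ideal.mul_mem_right _ _ (Ideal.mem_map_of_mem _ hxI)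
  -- injectivity uses flatness
  obtain ⟨n, c, hc⟩ := (Submodule.fg_iff_exists_fin_generating_family).mp
    (IsNoetherian.noetherian I')
  have hJ : ∀ a : A, a * x ∈ Ideal.span (Set.range c) → a ∈ maximalIdeal A := by
    intro a ha
    by_contra hna
    have hu : IsUnit a := by
      by_contra h
      exact hna ((mem_maximalIdeal a).mpr h)
    apply hx
    have h1 : a * x ∈ I' := by
      rw [← hc]
      exact ha
    obtain ⟨u, rfl⟩ := hu
    have := I'.mul_mem_left (↑u⁻¹ : A) h1
    rwa [← mul_assoc, Units.inv_mul, one_mul] at this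
  have hw_inj : Function.Injective w := by
    rw [injective_iff_map_eq_zero]
    intro l hl
    have h1 : algebraMap A B x * s l ∈ I'.map (algebraMap A B) :=
      Ideal.Quotient.eq_zero_iff_mem.mp hl
    have h2 : s l ∈ (maximalIdeal A).map (algebraMap A B) := by
      refine mem_map_of_mul_mem c x (maximalIdeal A) hJ (s l) ?_
      have : Ideal.span (Set.range c) = I' := hc
      rw [this]
      exact h1
    rw [← hker] at h2
    have h3 : π (s l) = 0 := h2
    rw [hs] at h3
    exact h3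
  have hw_surj : ∀ y, p y = 0 → ∃ l, w l = y := by
    intro y hy
    obtain ⟨b, rfl⟩ := Ideal.Quotient.mk_surjective y
    rw [hp_mk, Ideal.Quotient.eq_zero_iff_mem, hI, Ideal.map_sup, Ideal.map_span,
      Set.image_singleton] at hy
    obtain ⟨b', hb', z, hz, rfl⟩ := Submodule.mem_sup.mp hy
    obtain ⟨β, rfl⟩ := Ideal.mem_span_singleton'.mp hz
    refine ⟨π β, ?_⟩
    rw [hw_def (π β) β rfl, Ideal.Quotient.eq, mul_comm β]
    have : algebraMap A B x * β - (b' + algebraMap A B x * β) = - b' := by ring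
    rw [this]
    exact (Ideal.neg_mem_iff _).mpr hb'
  have hw : ∀ (y : B ⧸ I'.map (algebraMap A B)) (b₀ l : B₀), p y = σ b₀ →
      w (b₀ • l) = y * w l := by
    intro y b₀ l hy
    obtain ⟨b, rfl⟩ := Ideal.Quotient.mk_surjective y
    have hb : π b = b₀ := hσ b₀ b (by rw [← hy, hp_mk])
    have h1 : π (b * s l) = b₀ • l := by rw [map_mul, hb, hs, smul_eq_mul]
    rw [hw_def _ _ h1]
    show _ = Ideal.Quotient.mk _ b * Ideal.Quotient.mk _ (algebraMap A B x * s l)
    rw [← map_mul]
    congr 1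
    ring
  obtain ⟨g', hg'⟩ := exists_lift_of_trivial hT p hp σ w hwJ hw_inj hw_surj hw
  refine ⟨g', fun b₀ b hb => hσ b₀ b ?_⟩
  rw [← hg', hb, hp_mk]

/-- from a nonzero ideal `I ≤ m` one can step down -/
theorem exists_smaller (I : Ideal A) (hI0 : I ≠ ⊥) (hIm : I ≤ maximalIdeal A) :
    ∃ (I' : Ideal A) (x : A), I' < I ∧ I = I' ⊔ Ideal.span {x} ∧ x ∉ I' ∧
      ∀ a ∈ maximalIdeal A, a * x ∈ I' := by
  -- Nakayama
  have hne : ¬ I ≤ maximalIdeal A * I := by
    intro hle
    apply hI0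
    exact Submodule.eq_bot_of_le_smul_of_le_jacobson_bot (maximalIdeal A) I
      (IsNoetherian.noetherian I) hle (IsLocalRing.maximalIdeal_le_jacobson _)
  obtain ⟨x, hxI, hxm⟩ := Set.not_subset.mp hne
  let S : Set (Ideal A) := {I'' | maximalIdeal A * I ≤ I'' ∧ I'' ≤ I ∧ x ∉ I''}
  have hS : S.Nonempty := ⟨maximalIdeal A * I, le_refl _, Ideal.mul_le_right, hxm⟩
  obtain ⟨I', ⟨h1, h2, h3⟩, hmax⟩ := set_has_maximal_iff_noetherian.mpr
    (inferInstance : IsNoetherian A A) S hS
  refine ⟨I', x, lt_of_le_of_ne h2 (fun h => h3 (h ▸ hxI)), ?_, h3, ?_⟩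
  · apply le_antisymm
    · intro y hy
      by_contra hyn
      have hyI' : y ∉ I' := fun h => hyn (Ideal.mem_sup_left h)
      have hlt : I' < I' ⊔ Ideal.span {y} := by
        refine lt_of_le_of_ne le_sup_left (fun h => hyI' ?_)
        rw [h]
        exact Ideal.mem_sup_right (Ideal.mem_span_singleton_self y)
      have hxin : x ∈ I' ⊔ Ideal.span {y} := by
        by_contra hxn
        exact hmax (I' ⊔ Ideal.span {y}) ⟨le_trans h1 le_sup_left,
          sup_le h2 ((Ideal.span_singleton_le_iff_mem _).mpr hy), hxn⟩ hlt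
      obtain ⟨i', hi', z, hz, hxz⟩ := Submodule.mem_sup.mp hxin
      obtain ⟨a, rfl⟩ := Ideal.mem_span_singleton'.mp hz
      by_cases ha : a ∈ maximalIdeal A
      · apply h3
        rw [← hxz]
        exact I'.add_mem hi' (h1 (Ideal.mul_mem_mul ha hy))
      · have hu : IsUnit a := by
          by_contra h
          exact ha ((mem_maximalIdeal a).mpr h)
        obtain ⟨u, rfl⟩ := hu
        apply hyn
        have hy' : y = (↑u⁻¹ : A) * x - (↑u⁻¹ : A) * i' := by
          rw [← hxz, mul_add, ← mul_assoc, Units.inv_mul, one_mul]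
          ring
        rw [hy']
        exact Ideal.sub_mem _
          (Ideal.mem_sup_right (Ideal.mul_mem_left _ _ (Ideal.mem_span_singleton_self x)))
          (Ideal.mem_sup_left (Ideal.mul_mem_left I' _ hi'))
    · exact sup_le h2 ((Ideal.span_singleton_le_iff_mem _).mpr hxI)
  · intro a ha
    exact h1 (Ideal.mul_mem_mul ha hxI)

theorem exists_section [IsArtinianRing A] (hπ : Function.Surjective π)
    (hker : RingHom.ker (π : B →+* B₀) = (maximalIdeal A).map (algebraMap A B))
    (hT : ∀ X : Ext k B₀ B₀, X.IsTrivial) :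
    ∃ σ : B₀ →ₐ[k] B, ∀ b₀, π (σ b₀) = b₀ := by
  -- descend from `m` to `⊥`
  have key : ∀ I : Ideal A, I ≤ maximalIdeal A →
      (∃ σ : B₀ →ₐ[k] B ⧸ I.map (algebraMap A B), IsSec π I σ) →
      ∃ σ : B₀ →ₐ[k] B ⧸ (⊥ : Ideal A).map (algebraMap A B), IsSec π ⊥ σ := by
    intro I
    induction I using IsArtinian.induction with
    | _ I ih =>
      intro hIm hI
      by_cases hI0 : I = ⊥
      · subst hI0
        exact hI
      · obtain ⟨I', x, hlt, hsup, hx, hmx⟩ := exists_smaller I hI0 hIm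
        obtain ⟨σ, hσ⟩ := hI
        exact ih I' hlt (le_trans hlt.le hIm) (step hπ hker hT I' I x hsup hx hmx σ hσ)
  -- the start
  have hstart : ∃ σ : B₀ →ₐ[k] B ⧸ (maximalIdeal A).map (algebraMap A B),
      IsSec π (maximalIdeal A) σ := by
    let e1 : (B ⧸ RingHom.ker (π : B →+* B₀)) ≃ₐ[k] B₀ :=
      Ideal.quotientKerAlgEquivOfSurjective hπ
    let e2 : (B ⧸ RingHom.ker (π : B →+* B₀)) ≃ₐ[k] B ⧸ (maximalIdeal A).map (algebraMap A B) :=
      Ideal.quotientEquivAlgOfEq k hker
    refine ⟨e2.toAlgHom.comp e1.symm.toAlgHom, fun b₀ b hb => ?_⟩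
    have h1 : e2 (e1.symm b₀) = Ideal.Quotient.mk _ b := hb
    have h2 : e2 (Ideal.Quotient.mk _ b) = Ideal.Quotient.mk _ b := rfl
    rw [← h2] at h1
    have h3 := e2.injective h1
    have h4 : e1 (Ideal.Quotient.mk _ b) = π b := rfl
    rw [← h4, ← h3, AlgEquiv.apply_symm_apply]
  obtain ⟨σ, hσ⟩ := key _ le_rfl hstart
  have hbot : (⊥ : Ideal A).map (algebraMap A B) = ⊥ := Ideal.map_bot
  let e3 : (B ⧸ (⊥ : Ideal A).map (algebraMap A B)) ≃ₐ[k] B ⧸ (⊥ : Ideal B) :=
    Ideal.quotientEquivAlgOfEq k hbot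
  let e4 : (B ⧸ (⊥ : Ideal B)) ≃ₐ[k] B := AlgEquiv.quotientBot k B
  refine ⟨(e4.toAlgHom.comp e3.toAlgHom).comp σ, fun b₀ => ?_⟩
  apply hσ b₀
  obtain ⟨b, hb⟩ := Ideal.Quotient.mk_surjective (σ b₀)
  show σ b₀ = Ideal.Quotient.mk _ (e4 (e3 (σ b₀)))
  rw [← hb]
  rfl

end Section

end Groth.Agent.H6.DefAff
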