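import Mathlib

/-!
# A morphism of flat deformations over an Artin ring which is an isomorphism on the closed fibre
is an isomorphism (helper6)
-/

set_option autoImplicit false
universe u

namespace Groth.Agent.H6.DefAff

section Bij

variable {A B B' B₀ : Type u} [CommRing A] [IsNoetherianRing A] [CommRing B] [CommRing B']
  [CommRing B₀] [Algebra A B] [Algebra A B']
  (I : Ideal A) (ψ : B' →ₐ[A] B) (π : B →+* B₀) (π' : B' →+* B₀)

include π π' in
theorem surjective_of_nilpotent (hI : IsNilpotent I)
    (hπψ : ∀ y, π (ψ y) = π' y) (hπ' : Function.Surjective π')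
    (hker : ∀ b, π b = 0 → b ∈ (I • ⊤ : Submodule A B)) : Function.Surjective ψ := by
  have key : ∀ n : ℕ, ∀ b : B, ∃ y : B', b - ψ y ∈ (I ^ n • ⊤ : Submodule A B) := by
    intro n
    induction n with
    | zero =>
      intro b
      refine ⟨0, ?_⟩
      rw [pow_zero, Ideal.one_eq_top, Submodule.top_smul]
      exact Submodule.mem_top
    | succ n ih =>
      have sub : ∀ r ∈ (I ^ n • ⊤ : Submodule A B),
          ∃ y : B', r - ψ y ∈ (I ^ (n + 1) • ⊤ : Submodule A B) := by
        intro r hr
        refine Submodule.smul_induction_on hr ?_ ?_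
        · intro a ha β _
          obtain ⟨γ, hγ⟩ := hπ' (π β)
          have h1 : β - ψ γ ∈ (I • ⊤ : Submodule A B) := by
            apply hker
            rw [map_sub, hπψ, hγ, sub_self]
          refine ⟨a • γ, ?_⟩
          rw [map_smul, ← smul_sub, pow_succ, mul_smul]
          exact Submodule.smul_mem_smul ha h1
        · rintro r₁ r₂ ⟨y₁, hy₁⟩ ⟨y₂, hy₂⟩
          refine ⟨y₁ + y₂, ?_⟩
          have : r₁ + r₂ - ψ (y₁ + y₂) = (r₁ - ψ y₁) + (r₂ - ψ y₂) := by
            rw [map_add]; ring
          rw [this]
          exact Submodule.add_mem _ hy₁ hy₂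
      intro b
      obtain ⟨y, hy⟩ := ih b
      obtain ⟨y', hy'⟩ := sub _ hy
      refine ⟨y + y', ?_⟩
      have : b - ψ (y + y') = b - ψ y - ψ y' := by rw [map_add]; ring
      rw [this]
      exact hy'
  obtain ⟨N, hN⟩ := hI
  intro b
  obtain ⟨y, hy⟩ := key N b
  rw [hN, Submodule.zero_eq_bot, Submodule.bot_smul, Submodule.mem_bot, sub_eq_zero] at hy
  exact ⟨y, hy.symm⟩

include π π' in
theorem injective_of_nilpotent [Module.Flat A B] (hI : IsNilpotent I)
    (hπψ : ∀ y, π (ψ y) = π' y) (hψ : Function.Surjective ψ)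
    (hker' : ∀ y, π' y = 0 → y ∈ I.map (algebraMap A B')) : Function.Injective ψ := by
  have base : ∀ y : B', ψ y = 0 → y ∈ I.map (algebraMap A B') := by
    intro y hy
    apply hker'
    rw [← hπψ, hy, map_zero]
  have key : ∀ n : ℕ, ∀ y : B', ψ y = 0 → y ∈ (I ^ (n + 1)).map (algebraMap A B') := by
    intro n
    induction n with
    | zero =>
      intro y hy
      rw [zero_add, pow_one]
      exact base y hy
    | succ n ih =>
      intro y hy
      have hy1 := ih y hy
      obtain ⟨r, c, hc⟩ := (Submodule.fg_iff_exists_fin_generating_family).mp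
        (IsNoetherian.noetherian (I ^ (n + 1)))
      have hc' : Ideal.span (Set.range c) = I ^ (n + 1) := hc
      rw [← hc', Ideal.map_span, ← Set.range_comp] at hy1
      obtain ⟨γ, hγ⟩ := (Ideal.mem_span_range_iff_exists_fun).mp hy1
      have hγ' : y = ∑ l, c l • γ l := by
        rw [← hγ]
        refine Finset.sum_congr rfl fun l _ => ?_
        rw [Algebra.smul_def, Function.comp_apply, mul_comm]
      have hrel : ∑ l, c l • ψ (γ l) = 0 := by
        rw [← hy, hγ', map_sum]
        exact Finset.sum_congr rfl fun l _ => (map_smul ψ _ _).symm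
      obtain ⟨K, a, z, hz, ha⟩ :=
        Module.Flat.isTrivialRelation_of_sum_smul_eq_zero (R := A) (M := B)
          (f := c) (x := fun l => ψ (γ l)) hrel
      choose ζ hζ using fun j => hψ (z j)
      have hκ : ∀ l, γ l - ∑ j, a l j • ζ j ∈ I.map (algebraMap A B') := by
        intro l
        apply base
        have hzl : ψ (γ l) = ∑ j, a l j • z j := hz l
        rw [map_sub, map_sum, hzl, sub_eq_zero]
        refine Finset.sum_congr rfl fun j _ => ?_
        rw [map_smul, hζ]
      have hsum : y = ∑ l, c l • (γ l - ∑ j, a l j • ζ j) := by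
        have h1 : ∑ l, c l • ∑ j, a l j • ζ j = 0 := by
          simp_rw [Finset.smul_sum, smul_smul]
          rw [Finset.sum_comm]
          refine Finset.sum_eq_zero fun j _ => ?_
          rw [← Finset.sum_smul, ha j, zero_smul]
        simp_rw [smul_sub]
        rw [Finset.sum_sub_distrib, h1, sub_zero]
        exact hγ'
      rw [hsum, pow_succ, Ideal.map_mul]
      refine Ideal.sum_mem _ fun l _ => ?_
      rw [Algebra.smul_def]
      refine Ideal.mul_mem_mul (Ideal.mem_map_of_mem _ ?_) (hκ l)
      rw [← hc']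
      exact Ideal.subset_span ⟨l, rfl⟩
  obtain ⟨N, hN⟩ := hI
  rw [injective_iff_map_eq_zero]
  intro y hy
  have h1 := key N y hy
  rw [pow_succ, hN, zero_mul, Submodule.zero_eq_bot, Ideal.map_bot] at h1
  exact h1

include π π' in
theorem bijective_of_nilpotent [Module.Flat A B] (hI : IsNilpotent I)
    (hπψ : ∀ y, π (ψ y) = π' y) (hπ' : Function.Surjective π')
    (hker : RingHom.ker π = I.map (algebraMap A B))
    (hker' : RingHom.ker π' = I.map (algebraMap A B')) : Function.Bijective ψ := by
  have hsurj : Function.Surjective ψ := by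
    refine surjective_of_nilpotent I ψ π π' hI hπψ hπ' fun b hb => ?_
    rw [Ideal.smul_top_eq_map, Submodule.restrictScalars_mem, ← hker]
    exact hb
  refine ⟨injective_of_nilpotent I ψ π π' hI hπψ hsurj fun y hy => ?_, hsurj⟩
  rw [← hker']
  exact hy

end Bij

end Groth.Agent.H6.DefAff
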