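import Mathlib
import Groth.Prelude.Def_ArtFun4
import Groth.Agent.Lib.Helper1.ThickAff5

/-!
# Deformations of an affine scheme over Artin rings: from schemes to rings (helper6)
-/

set_option autoImplicit false
universe u
open CategoryTheory CategoryTheory.Limits AlgebraicGeometry

namespace Groth.Agent.H6.DefAff

/-- a pullback square of affine schemes comes from a pushout square of rings -/
theorem isPushout_of_isPullback_Spec {R S T P : CommRingCat.{u}} (f : R ⟶ S) (g : R ⟶ T)
    (p : S ⟶ P) (q : T ⟶ P)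
    (h : IsPullback (Spec.map p) (Spec.map q) (Spec.map f) (Spec.map g)) :
    IsPushout f g p q := by
  have hw : f ≫ p = g ≫ q := by
    apply Spec.map_injective
    rw [Spec.map_comp, Spec.map_comp]
    exact h.w
  have h1 : IsPullback p.op q.op f.op g.op := by
    refine IsPullback.of_map Scheme.Spec ?_ h
    rw [← op_comp, ← op_comp, hw]
  exact h1.unop.flip


/-- In a pushout square of commutative rings along a surjection, the opposite map is surjective
and its kernel is the extension of the kernel. -/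
theorem surjective_and_ker_of_isPushout {A₀ B K₀ R₀ : CommRingCat.{u}} (φ : A₀ ⟶ B) (ρ : A₀ ⟶ K₀)
    (π : B ⟶ R₀) (χ : K₀ ⟶ R₀) (h : IsPushout φ ρ π χ) (hρ : Function.Surjective ρ.hom) :
    Function.Surjective π.hom ∧ RingHom.ker π.hom = (RingHom.ker ρ.hom).map φ.hom := by
  set I : Ideal B := (RingHom.ker ρ.hom).map φ.hom with hI
  let Q : CommRingCat.{u} := CommRingCat.of (B ⧸ I)
  let q : B ⟶ Q := CommRingCat.ofHom (Ideal.Quotient.mk I)
  have hle : RingHom.ker ρ.hom ≤ RingHom.ker ((Ideal.Quotient.mk I).comp φ.hom) := by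
    intro a ha
    rw [RingHom.mem_ker, RingHom.comp_apply, Ideal.Quotient.eq_zero_iff_mem]
    exact Ideal.mem_map_of_mem _ ha
  let κ : K₀ ⟶ Q := CommRingCat.ofHom (RingHom.liftOfSurjective ρ.hom hρ ⟨_, hle⟩)
  have hκ : ρ ≫ κ = φ ≫ q := by
    ext a
    exact RingHom.liftOfSurjective_comp_apply ρ.hom hρ ⟨_, hle⟩ a
  let u : R₀ ⟶ Q := h.desc q κ hκ.symm
  have hu1 : π ≫ u = q := h.inl_desc _ _ _
  have hu2 : χ ≫ u = κ := h.inr_desc _ _ _
  have hI_le : I ≤ RingHom.ker π.hom := by
    rw [hI, Ideal.map_le_iff_le_comap]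
    intro a ha
    rw [Ideal.mem_comap, RingHom.mem_ker]
    have h1 : π.hom (φ.hom a) = χ.hom (ρ.hom a) := congrArg (fun f => f.hom a) h.w
    rw [h1, (RingHom.mem_ker).mp ha, map_zero]
  have hker : RingHom.ker π.hom = I := by
    apply le_antisymm _ hI_le
    intro b hb
    have h1 : q.hom b = u.hom (π.hom b) := (congrArg (fun f => f.hom b) hu1).symm
    rw [(RingHom.mem_ker).mp hb, map_zero] at h1
    exact Ideal.Quotient.eq_zero_iff_mem.mp h1
  refine ⟨?_, hker⟩
  let v : Q ⟶ R₀ := CommRingCat.ofHom (Ideal.Quotient.lift I π.hom (fun b hb => hI_le hb))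
  have hqv : q ≫ v = π := by
    ext b
    rfl
  have hκv : κ ≫ v = χ := by
    ext c
    obtain ⟨a, rfl⟩ := hρ c
    have h1 : (κ ≫ v).hom (ρ.hom a) = (ρ ≫ κ ≫ v).hom a := rfl
    rw [h1, ← Category.assoc, hκ, Category.assoc, hqv]
    exact congrArg (fun f => f.hom a) h.w
  have huv : u ≫ v = 𝟙 R₀ := by
    apply h.hom_ext
    · rw [← Category.assoc, hu1, hqv, Category.comp_id]
    · rw [← Category.assoc, hu2, hκv, Category.comp_id]
  intro r
  obtain ⟨b, hb⟩ := Ideal.Quotient.mk_surjective (u.hom r)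
  refine ⟨b, ?_⟩
  have h1 : π.hom b = v.hom (q.hom b) := (congrArg (fun f => f.hom b) hqv).symm
  rw [h1]
  show v.hom (Ideal.Quotient.mk I b) = r
  rw [hb]
  exact congrArg (fun f => f.hom r) huv


section General

variable {T : Scheme.{u}} [IsAffine T] {R₀ K₀ A₀ : CommRingCat.{u}}

/-- the ring map `A₀ → Γ(T)` of a morphism `T ⟶ Spec A₀` -/
noncomputable def ringOfHom (f : T ⟶ Spec A₀) : A₀ ⟶ Γ(T, ⊤) :=
  (Scheme.ΓSpecIso A₀).inv ≫ f.appTop

/-- the ring map `Γ(T) → R₀` of a morphism `Spec R₀ ⟶ T` -/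
noncomputable def ringOfHom' (i : Spec R₀ ⟶ T) : Γ(T, ⊤) ⟶ R₀ :=
  i.appTop ≫ (Scheme.ΓSpecIso R₀).hom

theorem isoSpec_hom_SpecMap_ringOfHom (f : T ⟶ Spec A₀) :
    T.isoSpec.hom ≫ Spec.map (ringOfHom f) = f := by
  have h1 := Scheme.isoSpec_hom_naturality f
  rw [Scheme.isoSpec_Spec_hom] at h1
  rw [ringOfHom, Spec.map_comp, ← Category.assoc, h1, Category.assoc, ← Spec.map_comp,
    Iso.inv_hom_id, Spec.map_id, Category.comp_id]

theorem SpecMap_ringOfHom' (i : Spec R₀ ⟶ T) :
    Spec.map (ringOfHom' i) = i ≫ T.isoSpec.hom := by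
  have h1 := Scheme.isoSpec_hom_naturality i
  rw [Scheme.isoSpec_Spec_hom] at h1
  rw [ringOfHom', Spec.map_comp, h1]

theorem isPushout_of_isPullback (i : Spec R₀ ⟶ T) (χ : K₀ ⟶ R₀) (f : T ⟶ Spec A₀) (ρ : A₀ ⟶ K₀)
    (h : IsPullback i (Spec.map χ) f (Spec.map ρ)) :
    IsPushout (ringOfHom f) ρ (ringOfHom' i) χ := by
  apply isPushout_of_isPullback_Spec
  refine IsPullback.of_iso h (Iso.refl _) T.isoSpec (Iso.refl _) (Iso.refl _) ?_ ?_ ?_ ?_
  · rw [Iso.refl_hom, Category.id_comp, SpecMap_ringOfHom']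
  · rw [Iso.refl_hom, Iso.refl_hom, Category.id_comp, Category.comp_id]
  · rw [Iso.refl_hom, Category.comp_id, isoSpec_hom_SpecMap_ringOfHom]
  · rw [Iso.refl_hom, Iso.refl_hom, Category.id_comp, Category.comp_id]

end General

section Def

open ArtFun ArtFun.Art

variable {Λ k : Type u} [CommRing Λ] [Field k] [Algebra Λ k]

instance surjective_specRes (A : Art Λ k) : Surjective (specRes A) := by
  haveI : Subsingleton (PrimeSpectrum A) := inferInstance
  haveI : Subsingleton ↥(spec A) := ‹Subsingleton (PrimeSpectrum A)›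
  haveI : Nonempty ↥(specPt k) := ⟨(default : PrimeSpectrum k)⟩
  infer_instance

instance isClosedImmersion_specRes (A : Art Λ k) : IsClosedImmersion (specRes A) :=
  IsClosedImmersion.spec_of_surjective _ A.res_surjective

variable {X : Scheme.{u}} {x : X ⟶ specPt k} {A : Art Λ k} (ξ : DefSch X x A)

instance isClosedImmersion_i : IsClosedImmersion ξ.i :=
  MorphismProperty.of_isPullback ξ.isPullback.flip (isClosedImmersion_specRes A)

instance surjective_i : Surjective ξ.i :=
  MorphismProperty.of_isPullback (P := @Surjective) ξ.isPullback.flip (surjective_specRes A)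

theorem isAffine_total [IsAffine X] : IsAffine ξ.total :=
  H1.ThickAff.isAffine_of_thickening ξ.i (surjective_i ξ).surj

section Affine

variable {B₀ : Type u} [CommRing B₀] [Algebra k B₀]
  (η : DefSch (Spec (CommRingCat.of B₀)) (Spec.map (CommRingCat.ofHom (algebraMap k B₀))) A)

/-- the structure map `A → Γ(total)` -/
noncomputable def toB : A →+* Γ(η.total, ⊤) := (ringOfHom η.f).hom

/-- the map `Γ(total) → B₀` of the closed fibre -/
noncomputable def toB₀ : Γ(η.total, ⊤) →+* B₀ := (ringOfHom' η.i).hom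

theorem isPushout_ring :
    IsPushout (ringOfHom η.f) (CommRingCat.ofHom A.res.toRingHom) (ringOfHom' η.i)
      (CommRingCat.ofHom (algebraMap k B₀)) := by
  haveI := isAffine_total η
  exact isPushout_of_isPullback η.i _ η.f _ η.isPullback

theorem toB₀_toB (a : A) : toB₀ η (toB η a) = algebraMap k B₀ (A.res a) :=
  congrArg (fun f => f.hom a) (isPushout_ring η).w

theorem toB₀_surjective : Function.Surjective (toB₀ η) :=
  (surjective_and_ker_of_isPushout _ _ _ _ (isPushout_ring η) A.res_surjective).1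

theorem ker_toB₀ : RingHom.ker (toB₀ η) = (IsLocalRing.maximalIdeal A).map (toB η) := by
  have h := (surjective_and_ker_of_isPushout _ _ _ _ (isPushout_ring η) A.res_surjective).2
  have h2 : RingHom.ker A.res.toRingHom = IsLocalRing.maximalIdeal A := by
    ext a
    rw [RingHom.mem_ker]
    exact (Art.mem_maximalIdeal_iff A a).symm
  rw [← h2]
  exact h

theorem flat_toB : (toB η).Flat := by
  haveI := isAffine_total η
  have h1 : (η.f.appTop).hom.Flat :=
    (HasRingHomProperty.iff_of_isAffine (P := @Flat) (f := η.f)).mp η.flat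
  have h2 : ((Scheme.ΓSpecIso (CommRingCat.of A)).inv).hom.Flat :=
    RingHom.Flat.of_bijective (ConcreteCategory.bijective_of_isIso _)
  exact RingHom.Flat.comp h2 h1

end Affine

end Def

end Groth.Agent.H6.DefAff
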