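import Mathlib
import Groth.Prelude.Def_ArtFun4
import Groth.Agent.Lib.Helper6.DefAff1c
import Groth.Agent.Lib.Helper6.DefAff2

/-!
# Deformations of an affine scheme over Artin rings: morphisms of deformations (helper6)
-/

set_option autoImplicit false
universe u
open CategoryTheory CategoryTheory.Limits AlgebraicGeometry ArtFun ArtFun.Art

namespace Groth.Agent.H6.DefAff

variable {Λ k : Type u} [CommRing Λ] [Field k] [Algebra Λ k]
variable {B₀ : Type u} [CommRing B₀] [Algebra k B₀] {A : Art Λ k}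
  (η η' : DefSch (Spec (CommRingCat.of B₀)) (Spec.map (CommRingCat.ofHom (algebraMap k B₀))) A)

theorem isNilpotent_maximalIdeal (A : Art Λ k) : IsNilpotent (IsLocalRing.maximalIdeal A) := by
  rw [← IsLocalRing.jacobson_eq_maximalIdeal ⊥ bot_ne_top]
  exact IsArtinianRing.isNilpotent_jacobson_bot

variable {η η'}

theorem appTop_toB (φ : η.total ⟶ η'.total) (hf : φ ≫ η'.f = η.f) (a : A) :
    φ.appTop.hom (toB η' a) = toB η a := by
  have h1 : ringOfHom η'.f ≫ φ.appTop = ringOfHom η.f := by
    rw [ringOfHom, ringOfHom, Category.assoc, ← Scheme.Hom.comp_appTop, hf]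
  exact congrArg (fun f => f.hom a) h1

theorem toB₀_appTop (φ : η.total ⟶ η'.total) (hi : η.i ≫ φ = η'.i) (y : Γ(η'.total, ⊤)) :
    toB₀ η (φ.appTop.hom y) = toB₀ η' y := by
  have h1 : φ.appTop ≫ ringOfHom' η.i = ringOfHom' η'.i := by
    rw [ringOfHom', ringOfHom', ← Category.assoc, ← Scheme.Hom.comp_appTop, hi]
  exact congrArg (fun f => f.hom y) h1

/-- a morphism of deformations of an affine scheme is an isomorphism -/
theorem isIso_of_hom (φ : η.total ⟶ η'.total) (hf : φ ≫ η'.f = η.f) (hi : η.i ≫ φ = η'.i) :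
    IsIso φ := by
  haveI := isAffine_total η
  haveI := isAffine_total η'
  letI : Algebra A Γ(η.total, ⊤) := (toB η).toAlgebra
  letI : Algebra A Γ(η'.total, ⊤) := (toB η').toAlgebra
  haveI : Module.Flat A Γ(η.total, ⊤) := flat_toB η
  let ψ : Γ(η'.total, ⊤) →ₐ[A] Γ(η.total, ⊤) :=
    { φ.appTop.hom with commutes' := fun a => appTop_toB φ hf a }
  have hbij : Function.Bijective ψ :=
    bijective_of_nilpotent (IsLocalRing.maximalIdeal A) ψ (toB₀ η) (toB₀ η')
      (isNilpotent_maximalIdeal A) (fun y => toB₀_appTop φ hi y) (toB₀_surjective η')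
      (ker_toB₀ η) (ker_toB₀ η')
  haveI : IsIso φ.appTop := by
    rw [ConcreteCategory.isIso_iff_bijective]
    exact hbij
  have h1 := Scheme.isoSpec_hom_naturality φ
  have h2 : φ = η.total.isoSpec.hom ≫ Spec.map φ.appTop ≫ η'.total.isoSpec.inv := by
    rw [← Category.assoc, h1, Category.assoc, Iso.hom_inv_id, Category.comp_id]
  rw [h2]
  infer_instance

end Groth.Agent.H6.DefAff
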