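import Mathlib
import Groth.Prelude.Def_ArtFun4
import Groth.Prelude.Def_Exal
import Groth.Agent.Lib.Helper6.DefAff1b
import Groth.Agent.Lib.Helper6.DefAff3

/-!
# Rigid affine schemes have only trivial deformations over Artin rings (helper6)
-/

set_option autoImplicit false
universe u
open CategoryTheory CategoryTheory.Limits AlgebraicGeometry ArtFun ArtFun.Art

namespace Groth.Agent.H6.DefAff

variable {k : Type u} [Field k]
variable {B₀ : Type u} [CommRing B₀] [Algebra k B₀] {A : Art k k}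
  (η : DefSch (Spec (CommRingCat.of B₀)) (Spec.map (CommRingCat.ofHom (algebraMap k B₀))) A)

/-- the retraction `total ⟶ X` attached to a section of `Γ(total) → B₀` -/
noncomputable def retr (σ : B₀ →+* Γ(η.total, ⊤)) : η.total ⟶ Spec (CommRingCat.of B₀) :=
  η.total.toSpecΓ ≫ Spec.map (CommRingCat.ofHom σ)

theorem i_retr (σ : B₀ →+* Γ(η.total, ⊤)) (hσ : ∀ b, toB₀ η (σ b) = b) :
    η.i ≫ retr η σ = 𝟙 _ := by
  rw [retr, ← Category.assoc, Scheme.toSpecΓ_naturality, Category.assoc, ← Spec.map_comp,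
    ← SpecMap_ΓSpecIso_hom, ← Spec.map_comp]
  have h1 : (CommRingCat.ofHom σ ≫ η.i.appTop) ≫ (Scheme.ΓSpecIso (CommRingCat.of B₀)).hom =
      𝟙 (CommRingCat.of B₀) := by
    ext b
    exact hσ b
  rw [h1, Spec.map_id]

theorem retr_x (σ : B₀ →+* Γ(η.total, ⊤))
    (hσ : ∀ c : k, σ (algebraMap k B₀ c) = toB η (algebraMap k A c)) :
    retr η σ ≫ Spec.map (CommRingCat.ofHom (algebraMap k B₀)) = η.f ≫ specMap (ofBase A) := by
  haveI := isAffine_total η
  have h1 : η.f = η.total.toSpecΓ ≫ Spec.map (ringOfHom η.f) :=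
    (isoSpec_hom_SpecMap_ringOfHom η.f).symm
  rw [retr, Category.assoc, ← Spec.map_comp]
  conv_rhs => rw [h1, Category.assoc]
  show _ = η.total.toSpecΓ ≫ Spec.map (ringOfHom η.f) ≫
    Spec.map (CommRingCat.ofHom (ofBase A).toAlgHom.toRingHom)
  rw [← Spec.map_comp]
  congr 2
  ext c
  exact hσ c

theorem nonempty_iso_trivial (hT : ∀ E : Exal.Ext k B₀ B₀, E.IsTrivial) :
    Nonempty (η.Iso (DefSch.trivial (Spec (CommRingCat.of B₀))
      (Spec.map (CommRingCat.ofHom (algebraMap k B₀))) inferInstance A)) := by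
  letI : Algebra A Γ(η.total, ⊤) := (toB η).toAlgebra
  letI : Algebra k Γ(η.total, ⊤) := ((toB η).comp (algebraMap k A)).toAlgebra
  haveI : IsScalarTower k A Γ(η.total, ⊤) := IsScalarTower.of_algebraMap_eq fun _ => rfl
  haveI : Module.Flat A Γ(η.total, ⊤) := flat_toB η
  let π : Γ(η.total, ⊤) →ₐ[k] B₀ :=
    { toB₀ η with
      commutes' := fun c => by
        show toB₀ η (toB η (algebraMap k A c)) = algebraMap k B₀ c
        rw [toB₀_toB, AlgHom.commutes]
        rfl }
  have hπ : Function.Surjective π := toB₀_surjective η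
  have hker : RingHom.ker (π : Γ(η.total, ⊤) →+* B₀) =
      (IsLocalRing.maximalIdeal A).map (algebraMap A Γ(η.total, ⊤)) := ker_toB₀ η
  obtain ⟨σ, hσ⟩ := exists_section (π := π) hπ hker hT
  let r := retr η σ.toRingHom
  have hr1 : η.i ≫ r = 𝟙 _ := i_retr η _ hσ
  have hr2 : r ≫ Spec.map (CommRingCat.ofHom (algebraMap k B₀)) = η.f ≫ specMap (ofBase A) :=
    retr_x η _ (fun c => σ.commutes c)
  let S : DefSch (Spec (CommRingCat.of B₀)) (Spec.map (CommRingCat.ofHom (algebraMap k B₀)))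
      (base k k) :=
    DefSch.self (Spec (CommRingCat.of B₀)) (Spec.map (CommRingCat.ofHom (algebraMap k B₀)))
      inferInstance
  have hr2' : r ≫ S.f = η.f ≫ specMap (ofBase A) := hr2
  let φ : η.total ⟶ pullback S.f (specMap (ofBase A)) := pullback.lift r η.f hr2'
  have hf : φ ≫ pullback.snd S.f (specMap (ofBase A)) = η.f := pullback.lift_snd _ _ _
  have hi : η.i ≫ φ = (S.baseChange (ofBase A)).i := by
    apply pullback.hom_ext
    · rw [Category.assoc, pullback.lift_fst]
      exact hr1.trans (DefSch.baseChange_i_fst S (ofBase A)).symm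
    · rw [Category.assoc, pullback.lift_snd, DefSch.i_f]
      exact (pullback.lift_snd _ _ _).symm
  haveI : IsIso φ := isIso_of_hom (η' := S.baseChange (ofBase A)) φ hf hi
  let e : η.Iso (S.baseChange (ofBase A)) := ⟨asIso φ, hf, hi⟩
  exact ⟨e⟩

end Groth.Agent.H6.DefAff
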