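import Mathlib
import Groth.Prelude.Def_ArtFun4
import Groth.Agent.Lib.Helper6.DefAff3

/-!
# Deformations of an affine scheme over Artin rings: ring-level deformations (helper6)
-/

set_option autoImplicit false
universe u
open CategoryTheory CategoryTheory.Limits AlgebraicGeometry ArtFun ArtFun.Art

namespace Groth.Agent.H6.DefAff

/-- converse of `surjective_and_ker_of_isPushout` -/
theorem isPushout_of_surjective {A₀ B K₀ R₀ : CommRingCat.{u}} (φ : A₀ ⟶ B) (ρ : A₀ ⟶ K₀)
    (π : B ⟶ R₀) (χ : K₀ ⟶ R₀) (hw : φ ≫ π = ρ ≫ χ) (hρ : Function.Surjective ρ.hom)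
    (hπ : Function.Surjective π.hom)
    (hker : RingHom.ker π.hom = (RingHom.ker ρ.hom).map φ.hom) :
    IsPushout φ ρ π χ := by
  have hle : ∀ s : PushoutCocone φ ρ, RingHom.ker π.hom ≤ RingHom.ker s.inl.hom := by
    intro s
    rw [hker, Ideal.map_le_iff_le_comap]
    intro a ha
    rw [Ideal.mem_comap, RingHom.mem_ker]
    have h1 : s.inl.hom (φ.hom a) = s.inr.hom (ρ.hom a) :=
      congrArg (fun f => f.hom a) s.condition
    rw [h1, (RingHom.mem_ker).mp ha, map_zero]
  have hfac : ∀ s : PushoutCocone φ ρ,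
      π ≫ CommRingCat.ofHom (RingHom.liftOfSurjective π.hom hπ ⟨s.inl.hom, hle s⟩) = s.inl := by
    intro s
    ext b
    exact RingHom.liftOfSurjective_comp_apply π.hom hπ ⟨_, hle s⟩ b
  refine ⟨⟨hw⟩, ⟨PushoutCocone.IsColimit.mk _
    (fun s => CommRingCat.ofHom (RingHom.liftOfSurjective π.hom hπ ⟨s.inl.hom, hle s⟩))
    hfac ?_ ?_⟩⟩
  · intro s
    ext c
    obtain ⟨a, rfl⟩ := hρ c
    have h1 : (χ ≫ CommRingCat.ofHom (RingHom.liftOfSurjective π.hom hπ ⟨s.inl.hom, hle s⟩)).hom
        (ρ.hom a) = ((ρ ≫ χ) ≫ CommRingCat.ofHom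
          (RingHom.liftOfSurjective π.hom hπ ⟨s.inl.hom, hle s⟩)).hom a := rfl
    rw [h1, ← hw, Category.assoc, hfac s]
    exact congrArg (fun f => f.hom a) s.condition
  · intro s m hm _
    ext r
    obtain ⟨b, rfl⟩ := hπ r
    have h1 : m.hom (π.hom b) = (π ≫ m).hom b := rfl
    have h2 : (CommRingCat.ofHom (RingHom.liftOfSurjective π.hom hπ ⟨s.inl.hom, hle s⟩)).hom
        (π.hom b) = (π ≫ CommRingCat.ofHom
          (RingHom.liftOfSurjective π.hom hπ ⟨s.inl.hom, hle s⟩)).hom b := rfl
    rw [h1, h2, hm, hfac s]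

variable {Λ k : Type u} [CommRing Λ] [Field k] [Algebra Λ k]

/-- a ring-level deformation of the `k`-algebra `B₀` over `A` -/
structure RDef (B₀ : Type u) [CommRing B₀] [Algebra k B₀] (A : Art Λ k) : Type (u + 1) where
  /-- the ring -/
  E : Type u
  [commRing : CommRing E]
  /-- the structure map -/
  toE : A →+* E
  flat : toE.Flat
  /-- the map to the closed fibre -/
  pr : E →+* B₀
  pr_toE : ∀ a, pr (toE a) = algebraMap k B₀ (A.res a)
  pr_surjective : Function.Surjective pr
  ker_pr : RingHom.ker pr = (IsLocalRing.maximalIdeal A).map toE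

namespace RDef

variable {B₀ : Type u} [CommRing B₀] [Algebra k B₀] {A : Art Λ k}

instance (R : RDef B₀ A) : CommRing R.E := R.commRing

theorem ker_res (A : Art Λ k) : RingHom.ker A.res.toRingHom = IsLocalRing.maximalIdeal A := by
  ext a
  rw [RingHom.mem_ker]
  exact (Art.mem_maximalIdeal_iff A a).symm

/-- the deformation of `Spec B₀` attached to a ring-level deformation -/
noncomputable def toDefSch (R : RDef B₀ A) :
    DefSch (Spec (CommRingCat.of B₀)) (Spec.map (CommRingCat.ofHom (algebraMap k B₀))) A where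
  total := Spec (CommRingCat.of R.E)
  f := Spec.map (CommRingCat.ofHom R.toE)
  flat := (HasRingHomProperty.Spec_iff (P := @Flat)).mpr R.flat
  i := Spec.map (CommRingCat.ofHom R.pr)
  isPullback := by
    refine isPullback_SpecMap_of_isPushout _ _ _ _
      (isPushout_of_surjective (CommRingCat.ofHom R.toE) (CommRingCat.ofHom A.res.toRingHom)
        (CommRingCat.ofHom R.pr) (CommRingCat.ofHom (algebraMap k B₀)) ?_ A.res_surjective
        R.pr_surjective ?_)
    · ext a
      exact R.pr_toE a
    · show RingHom.ker R.pr = (RingHom.ker A.res.toRingHom).map R.toE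
      rw [ker_res, R.ker_pr]

/-- the ring-level deformation attached to a deformation of `Spec B₀` -/
noncomputable def ofDefSch
    (η : DefSch (Spec (CommRingCat.of B₀)) (Spec.map (CommRingCat.ofHom (algebraMap k B₀))) A) :
    RDef B₀ A where
  E := Γ(η.total, ⊤)
  toE := toB η
  flat := flat_toB η
  pr := toB₀ η
  pr_toE := toB₀_toB η
  pr_surjective := toB₀_surjective η
  ker_pr := ker_toB₀ η

/-- a morphism of ring-level deformations -/
structure Hom (R R' : RDef B₀ A) where
  /-- the ring map -/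
  hom : R.E →+* R'.E
  hom_toE : ∀ a, hom (R.toE a) = R'.toE a
  pr_hom : ∀ e, R'.pr (hom e) = R.pr e

theorem Hom.bijective {R R' : RDef B₀ A} (h : Hom R R') : Function.Bijective h.hom := by
  letI : Algebra A R.E := R.toE.toAlgebra
  letI : Algebra A R'.E := R'.toE.toAlgebra
  haveI : Module.Flat A R'.E := R'.flat
  let ψ : R.E →ₐ[A] R'.E := { h.hom with commutes' := fun a => h.hom_toE a }
  exact bijective_of_nilpotent (IsLocalRing.maximalIdeal A) ψ R'.pr R.pr
    (isNilpotent_maximalIdeal A) (fun y => h.pr_hom y) R.pr_surjective R'.ker_pr R.ker_pr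

/-- a morphism of ring-level deformations gives an isomorphism of deformations -/
theorem Hom.nonempty_iso {R R' : RDef B₀ A} (h : Hom R R') :
    Nonempty (R'.toDefSch.Iso R.toDefSch) := by
  let φ : R'.toDefSch.total ⟶ R.toDefSch.total := Spec.map (CommRingCat.ofHom h.hom)
  have hf : φ ≫ R.toDefSch.f = R'.toDefSch.f := by
    show Spec.map _ ≫ Spec.map _ = Spec.map _
    rw [← Spec.map_comp]
    congr 1
    ext a
    exact h.hom_toE a
  have hi : R'.toDefSch.i ≫ φ = R.toDefSch.i := by
    show Spec.map _ ≫ Spec.map _ = Spec.map _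
    rw [← Spec.map_comp]
    congr 1
    ext e
    exact h.pr_hom e
  haveI : IsIso φ := isIso_of_hom φ hf hi
  exact ⟨⟨asIso φ, hf, hi⟩⟩

/-- an isomorphism of the attached deformations gives a morphism of ring-level deformations -/
theorem nonempty_hom_of_iso {R R' : RDef B₀ A} (e : R'.toDefSch.Iso R.toDefSch) :
    Nonempty (Hom R R') := by
  let φ : Spec (CommRingCat.of R'.E) ⟶ Spec (CommRingCat.of R.E) := e.iso.hom
  have hf : φ ≫ Spec.map (CommRingCat.ofHom R.toE) = Spec.map (CommRingCat.ofHom R'.toE) :=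
    e.hom_f
  have hi : Spec.map (CommRingCat.ofHom R'.pr) ≫ φ = Spec.map (CommRingCat.ofHom R.pr) :=
    e.i_hom
  refine ⟨⟨(Spec.preimage φ).hom, fun a => ?_, fun x => ?_⟩⟩
  · have h1 : CommRingCat.ofHom R.toE ≫ Spec.preimage φ = CommRingCat.ofHom R'.toE := by
      apply Spec.map_injective
      rw [Spec.map_comp, Spec.map_preimage]
      exact hf
    exact congrArg (fun f => f.hom a) h1
  · have h1 : Spec.preimage φ ≫ CommRingCat.ofHom R'.pr = CommRingCat.ofHom R.pr := by
      apply Spec.map_injective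
      rw [Spec.map_comp, Spec.map_preimage]
      exact hi
    exact congrArg (fun f => f.hom x) h1

/-- every deformation of `Spec B₀` comes from a ring-level deformation -/
theorem nonempty_iso_toDefSch_ofDefSch
    (η : DefSch (Spec (CommRingCat.of B₀)) (Spec.map (CommRingCat.ofHom (algebraMap k B₀))) A) :
    Nonempty (η.Iso (ofDefSch η).toDefSch) := by
  haveI := isAffine_total η
  let φ : η.total ⟶ (ofDefSch η).toDefSch.total := η.total.toSpecΓ
  have hf : φ ≫ (ofDefSch η).toDefSch.f = η.f := isoSpec_hom_SpecMap_ringOfHom η.f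
  have hi : η.i ≫ φ = (ofDefSch η).toDefSch.i := (SpecMap_ringOfHom' η.i).symm
  haveI : IsIso φ := isIso_of_hom φ hf hi
  exact ⟨⟨asIso φ, hf, hi⟩⟩

end RDef

end Groth.Agent.H6.DefAff
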