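import Mathlib
import Groth.Prelude.Def_ArtFun4
import Groth.Prelude.Def_Exal
import Groth.Agent.Lib.Helper1.FlatNilpotent
import Groth.Agent.Lib.Helper6.DefAff1
import Groth.Agent.Lib.Helper6.DefAff5

/-!
# Deformations over the dual numbers and extensions (helper6)
-/

set_option autoImplicit false
universe u
open CategoryTheory CategoryTheory.Limits AlgebraicGeometry ArtFun ArtFun.Art TensorProduct

namespace Groth.Agent.H6.DefAff

section Dual

variable (k : Type u) [Field k]

/-- `ε` as an element of the object `dual k k` -/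
def epsD : (Art.dual k k : Art k k) := (DualNumber.eps : DualNumber k)

theorem epsD_mul_epsD : epsD k * epsD k = 0 := DualNumber.eps_mul_eps

theorem res_epsD : (Art.dual k k).res (epsD k) = 0 := rfl

theorem dual_eq (x : (Art.dual k k : Art k k)) :
    x = algebraMap k (Art.dual k k) ((Art.dual k k).res x) +
      algebraMap k (Art.dual k k) (TrivSqZeroExt.snd (R := k) (M := k) x) * epsD k := by
  have h1 : x = (TrivSqZeroExt.inl (TrivSqZeroExt.fst (R := k) (M := k) x) +
      TrivSqZeroExt.inl (TrivSqZeroExt.snd (R := k) (M := k) x) * TrivSqZeroExt.inr 1 :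
        TrivSqZeroExt k k) := by
    apply TrivSqZeroExt.ext
    · simp
    · simp
  exact h1

theorem mem_maximalIdeal_dual_iff (x : (Art.dual k k : Art k k)) :
    x ∈ IsLocalRing.maximalIdeal (Art.dual k k) ↔
      ∃ c : k, x = algebraMap k (Art.dual k k) c * epsD k := by
  rw [Art.mem_maximalIdeal_iff]
  constructor
  · intro h
    refine ⟨TrivSqZeroExt.snd (R := k) (M := k) x, ?_⟩
    conv_lhs => rw [dual_eq k x, h, map_zero, zero_add]
  · rintro ⟨c, rfl⟩
    rw [map_mul, res_epsD, mul_zero]

theorem epsD_mem : epsD k ∈ IsLocalRing.maximalIdeal (Art.dual k k) :=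
  (Art.mem_maximalIdeal_iff _ _).mpr (res_epsD k)

theorem maximalIdeal_dual :
    IsLocalRing.maximalIdeal (Art.dual k k) = Ideal.span {epsD k} := by
  apply le_antisymm
  · intro x hx
    obtain ⟨c, rfl⟩ := (mem_maximalIdeal_dual_iff k x).mp hx
    exact Ideal.mul_mem_left _ _ (Ideal.subset_span rfl)
  · rw [Ideal.span_le, Set.singleton_subset_iff]
    exact epsD_mem k

theorem epsD_ne_zero : epsD k ≠ 0 := by
  intro h
  have h1 := congrArg (TrivSqZeroExt.snd (R := k) (M := k)) h
  exact one_ne_zero h1

/-- flatness over the dual numbers -/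
theorem flat_dual {E : Type u} [CommRing E] (toE : (Art.dual k k : Art k k) →+* E)
    (h : ∀ e : E, toE (epsD k) * e = 0 → ∃ e', e = toE (epsD k) * e') : toE.Flat := by
  letI : Algebra (Art.dual k k) E := toE.toAlgebra
  show Module.Flat (Art.dual k k) E
  letI : Field ((dual k k).carrier ⧸ IsLocalRing.maximalIdeal (dual k k).carrier) :=
    Ideal.Quotient.field _
  refine H1.flat_of_isNilpotent_of_flat_quotient (IsLocalRing.maximalIdeal (Art.dual k k))
    (isNilpotent_maximalIdeal _) ?_
  rw [injective_iff_map_eq_zero]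
  intro t ht
  have key : ∀ t : (IsLocalRing.maximalIdeal (Art.dual k k)) ⊗[Art.dual k k] E,
      ∃ e : E, t = (⟨epsD k, epsD_mem k⟩ : IsLocalRing.maximalIdeal (Art.dual k k)) ⊗ₜ e := by
    intro t
    induction t using TensorProduct.induction_on with
    | zero => exact ⟨0, (tmul_zero _ _).symm⟩
    | tmul x e =>
      obtain ⟨c, hc⟩ := (mem_maximalIdeal_dual_iff k x.1).mp x.2
      refine ⟨algebraMap k (Art.dual k k) c • e, ?_⟩
      have h1 : x = (algebraMap k (Art.dual k k) c) •
          (⟨epsD k, epsD_mem k⟩ : IsLocalRing.maximalIdeal (Art.dual k k)) :=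
        Subtype.ext hc
      rw [h1, TensorProduct.smul_tmul]
    | add t t' h h' =>
      obtain ⟨e, rfl⟩ := h
      obtain ⟨e', rfl⟩ := h'
      exact ⟨e + e', (tmul_add _ _ _).symm⟩
  obtain ⟨e, rfl⟩ := key t
  have h1 : epsD k • e = 0 := by
    have h2 := congrArg (TensorProduct.lid (Art.dual k k) E) ht
    rwa [LinearMap.rTensor_tmul, Submodule.subtype_apply, TensorProduct.lid_tmul, map_zero] at h2
  obtain ⟨e', rfl⟩ := h e (by rwa [Algebra.smul_def] at h1)
  have h3 : toE (epsD k) * e' = epsD k • e' := (Algebra.smul_def _ _).symm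
  rw [h3, ← TensorProduct.smul_tmul]
  have h4 : (epsD k) • (⟨epsD k, epsD_mem k⟩ : IsLocalRing.maximalIdeal (Art.dual k k)) = 0 :=
    Subtype.ext (epsD_mul_epsD k)
  rw [h4, zero_tmul]

end Dual

variable {k : Type u} [Field k] {B : Type u} [CommRing B] [Algebra k B]

namespace ExtDual

section FromExt

variable (X : Exal.Ext k B B)

theorem proj_incl (z : B) : X.proj (X.incl z) = 0 := (X.isExtension.exact _).mpr ⟨z, rfl⟩

theorem mul_incl_one (e : X.E) : e * X.incl 1 = X.incl (X.proj e) := by
  rw [X.isExtension.mul_incl, smul_eq_mul, mul_one]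

theorem incl_one_sq : X.incl 1 * X.incl 1 = 0 := by
  rw [mul_incl_one, proj_incl, map_zero]

/-- the structure map `k[ε] → E` -/
noncomputable def toE : (Art.dual k k : Art k k) →+* X.E :=
  ((DualNumber.lift ⟨(Algebra.ofId k X.E, X.incl 1), incl_one_sq X, fun _ => Commute.all _ _⟩ :
    DualNumber k →ₐ[k] X.E) : DualNumber k →+* X.E)

theorem toE_eps : toE X (epsD k) = X.incl 1 := DualNumber.lift_apply_eps _

theorem toE_algebraMap (c : k) : toE X (algebraMap k (Art.dual k k) c) = algebraMap k X.E c :=
  AlgHom.commutes (DualNumber.lift ⟨(Algebra.ofId k X.E, X.incl 1), incl_one_sq X,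
    fun _ => Commute.all _ _⟩ : DualNumber k →ₐ[k] X.E) c

theorem incl_one_mul_eq_zero_iff (e : X.E) : X.incl 1 * e = 0 ↔ X.proj e = 0 := by
  rw [mul_comm, mul_incl_one]
  constructor
  · intro h
    exact X.isExtension.incl_injective (h.trans (map_zero _).symm)
  · intro h
    rw [h, map_zero]

theorem proj_eq_zero_iff (e : X.E) : X.proj e = 0 ↔ ∃ e', e = X.incl 1 * e' := by
  constructor
  · intro h
    obtain ⟨z, rfl⟩ := (X.isExtension.exact e).mp h
    obtain ⟨e', rfl⟩ := X.isExtension.proj_surjective z
    exact ⟨e', by rw [mul_comm, mul_incl_one]⟩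
  · rintro ⟨e', rfl⟩
    rw [mul_comm, mul_incl_one, proj_incl]

/-- the ring-level deformation over the dual numbers attached to an extension of `B` by `B` -/
noncomputable def rdef : RDef B (Art.dual k k : Art k k) where
  E := X.E
  toE := toE X
  flat := by
    refine flat_dual k (toE X) fun e he => ?_
    rw [toE_eps] at he ⊢
    exact (proj_eq_zero_iff X e).mp ((incl_one_mul_eq_zero_iff X e).mp he)
  pr := (X.proj : X.E →+* B)
  pr_toE := fun a => by
    conv_lhs => rw [dual_eq k a]
    rw [map_add, map_mul, toE_eps, toE_algebraMap, toE_algebraMap, map_add, map_mul]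
    show X.proj _ + X.proj _ * X.proj (X.incl 1) = _
    rw [proj_incl, mul_zero, add_zero, AlgHom.commutes]
  pr_surjective := X.isExtension.proj_surjective
  ker_pr := by
    rw [maximalIdeal_dual, Ideal.map_span, Set.image_singleton, toE_eps]
    ext e
    rw [RingHom.mem_ker, Ideal.mem_span_singleton']
    show X.proj e = 0 ↔ _
    rw [proj_eq_zero_iff]
    constructor
    · rintro ⟨e', rfl⟩
      exact ⟨e', mul_comm _ _⟩
    · rintro ⟨e', rfl⟩
      exact ⟨e', mul_comm _ _⟩

end FromExt

section ToExt

variable (R : RDef B (Art.dual k k : Art k k))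

/-- `ε` in `E` -/
def epsR : R.E := R.toE (epsD k)

theorem epsR_mul_epsR : epsR R * epsR R = 0 := by
  rw [epsR, ← map_mul, epsD_mul_epsD, map_zero]

theorem pr_epsR : R.pr (epsR R) = 0 := by
  rw [epsR, R.pr_toE, res_epsD, map_zero]

theorem pr_eq_zero_iff (e : R.E) : R.pr e = 0 ↔ ∃ e', e = epsR R * e' := by
  rw [← RingHom.mem_ker, R.ker_pr, maximalIdeal_dual, Ideal.map_span, Set.image_singleton,
    Ideal.mem_span_singleton']
  constructor
  · rintro ⟨e', rfl⟩
    exact ⟨e', mul_comm _ _⟩
  · rintro ⟨e', rfl⟩
    exact ⟨e', mul_comm _ _⟩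

theorem epsR_mul_eq_zero_iff (e : R.E) : epsR R * e = 0 ↔ R.pr e = 0 := by
  constructor
  · intro h
    letI : Algebra (Art.dual k k) R.E := R.toE.toAlgebra
    haveI : Module.Flat (Art.dual k k) R.E := R.flat
    have h1 : e ∈ (IsLocalRing.maximalIdeal (Art.dual k k)).map
        (algebraMap (Art.dual k k) R.E) := by
      refine mem_map_of_mul_mem (n := 0) (fun i => Fin.elim0 i) (epsD k)
        (IsLocalRing.maximalIdeal (Art.dual k k)) (fun a ha => ?_) e ?_
      · have h2 : Set.range (fun i : Fin 0 => (Fin.elim0 i : (Art.dual k k : Art k k))) = ∅ :=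
          Set.range_eq_empty _
        rw [h2, Ideal.span_empty, Ideal.mem_bot] at ha
        by_contra hn
        have hu : IsUnit a := by
          by_contra hu
          exact hn ((IsLocalRing.mem_maximalIdeal a).mpr hu)
        exact epsD_ne_zero k (hu.mul_right_eq_zero.mp ha)
      · have h2 : algebraMap (Art.dual k k) R.E (epsD k) * e = 0 := h
        rw [h2]
        exact Ideal.zero_mem _
    rw [← RingHom.mem_ker, R.ker_pr]
    exact h1
  · intro h
    obtain ⟨e', rfl⟩ := (pr_eq_zero_iff R e).mp h
    rw [← mul_assoc, epsR_mul_epsR, zero_mul]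

theorem epsR_mul_eq {e e' : R.E} (h : R.pr e = R.pr e') : epsR R * e = epsR R * e' := by
  rw [← sub_eq_zero, ← mul_sub, epsR_mul_eq_zero_iff, map_sub, h, sub_self]

/-- the inclusion `z ↦ ε * s(z)` -/
noncomputable def inclR : B →+ R.E where
  toFun z := epsR R * Function.surjInv R.pr_surjective z
  map_zero' := by
    rw [epsR_mul_eq_zero_iff, Function.surjInv_eq R.pr_surjective]
  map_add' z z' := by
    rw [← mul_add]
    apply epsR_mul_eq
    rw [map_add, Function.surjInv_eq R.pr_surjective, Function.surjInv_eq R.pr_surjective,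
      Function.surjInv_eq R.pr_surjective]

theorem inclR_pr (e : R.E) : inclR R (R.pr e) = epsR R * e :=
  epsR_mul_eq R (Function.surjInv_eq _ _)

/-- the extension of `B` by `B` attached to a ring-level deformation over the dual numbers -/
noncomputable def ext : Exal.Ext k B B :=
  letI : Algebra k R.E := (R.toE.comp (algebraMap k (Art.dual k k))).toAlgebra
  { E := R.E
    proj :=
      { R.pr with
        commutes' := fun c => by
          show R.pr (R.toE (algebraMap k (Art.dual k k) c)) = algebraMap k B c
          rw [R.pr_toE, AlgHom.commutes]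
          rfl }
    incl := inclR R
    isExtension :=
      { proj_surjective := R.pr_surjective
        incl_injective := by
          rw [injective_iff_map_eq_zero]
          intro z hz
          obtain ⟨e, rfl⟩ := R.pr_surjective z
          rw [inclR_pr, epsR_mul_eq_zero_iff] at hz
          exact hz
        exact := fun x => by
          show R.pr x = 0 ↔ _
          rw [pr_eq_zero_iff]
          constructor
          · rintro ⟨e', rfl⟩
            exact ⟨R.pr e', inclR_pr R e'⟩
          · rintro ⟨z, rfl⟩
            obtain ⟨e, rfl⟩ := R.pr_surjective z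
            exact ⟨e, inclR_pr R e⟩
        mul_incl := fun x z => by
          obtain ⟨e, rfl⟩ := R.pr_surjective z
          show x * inclR R (R.pr e) = inclR R (R.pr x • R.pr e)
          rw [smul_eq_mul, ← map_mul, inclR_pr, inclR_pr]
          ring } }

theorem ext_incl_one : (ext R).incl 1 = epsR R := by
  show inclR R 1 = _
  rw [← map_one R.pr, inclR_pr, mul_one]

/-- `R` is isomorphic to the ring-level deformation of its extension -/
noncomputable def homExt : RDef.Hom R (rdef (ext R)) where
  hom := RingHom.id R.E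
  hom_toE := fun a => by
    show R.toE a = toE (ext R) a
    conv_lhs => rw [dual_eq k a]
    conv_rhs => rw [dual_eq k a]
    rw [map_add, map_mul, map_add, map_mul, toE_eps, toE_algebraMap, toE_algebraMap,
      ext_incl_one]
    rfl
  pr_hom := fun e => rfl

end ToExt

section Equiv

variable {X Y : Exal.Ext k B B}

/-- an equivalence of extensions gives a morphism of ring-level deformations -/
noncomputable def homOfEquiv (e : Exal.Ext.Equiv X Y) : RDef.Hom (rdef X) (rdef Y) where
  hom := (e.toAlgEquiv : X.E →+* Y.E)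
  hom_toE := fun a => by
    show e.toAlgEquiv (toE X a) = toE Y a
    conv_lhs => rw [dual_eq k a]
    conv_rhs => rw [dual_eq k a]
    rw [map_add, map_mul, map_add, map_mul, toE_eps, toE_algebraMap, toE_algebraMap,
      map_add, map_mul, e.apply_incl, AlgEquiv.commutes, AlgEquiv.commutes, toE_eps,
      toE_algebraMap, toE_algebraMap]
  pr_hom := fun x => e.proj_apply x

/-- a morphism of ring-level deformations gives an equivalence of extensions -/
noncomputable def equivOfHom (h : RDef.Hom (rdef X) (rdef Y)) : Exal.Ext.Equiv X Y where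
  toAlgEquiv := AlgEquiv.ofBijective
    ({ h.hom with
      commutes' := fun c => by
        show h.hom (algebraMap k X.E c) = algebraMap k Y.E c
        rw [← toE_algebraMap X, ← toE_algebraMap Y]
        exact h.hom_toE _ } : X.E →ₐ[k] Y.E) h.bijective
  proj_apply := fun x => h.pr_hom x
  apply_incl := fun z => by
    obtain ⟨x, rfl⟩ := X.isExtension.proj_surjective z
    show h.hom (X.incl (X.proj x)) = Y.incl (X.proj x)
    have h1 : h.hom (toE X (epsD k)) = toE Y (epsD k) := h.hom_toE _
    have h2 : Y.proj (h.hom x) = X.proj x := h.pr_hom x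
    have h3 : h.hom (x * X.incl 1) = h.hom x * h.hom (X.incl 1) := map_mul h.hom x (X.incl 1)
    rw [toE_eps, toE_eps] at h1
    rw [← mul_incl_one, h3, h1]
    exact (mul_incl_one Y _).trans (congrArg Y.incl h2)

end Equiv

end ExtDual

end Groth.Agent.H6.DefAff
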