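import Mathlib
import Groth.Prelude.Def_Exal
import Groth.Agent.Lib.Helper3.ExalAux

/-! Extensions of `B` by `M` versus maps out of the conormal module: lifts. -/

universe u
set_option linter.unusedSectionVars false

open TensorProduct Exal

namespace Groth.Agent.H6.ExalT1

open Groth.Agent.H3.ExalAux

variable {A B : Type u} [CommRing A] [CommRing B] [Algebra A B] {ι : Type u}
  (P : Algebra.Generators A B ι) {M : Type u} [AddCommGroup M] [Module B M]

/-- the structure map `A[X] → B` -/
noncomputable abbrev rho : MvPolynomial ι A →ₐ[A] B := MvPolynomial.aeval P.val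

theorem algebraMap_eq_rho (r : P.toExtension.Ring) : algebraMap P.toExtension.Ring B r = rho P r :=
  Algebra.Generators.algebraMap_apply P r

/-- `r ↦ 1 ⊗ dr` -/
noncomputable def dd (r : MvPolynomial ι A) : P.toExtension.CotangentSpace :=
  (1 : B) ⊗ₜ[P.toExtension.Ring] KaehlerDifferential.D A P.toExtension.Ring r

theorem dd_C (a : A) : dd P (MvPolynomial.C a) = 0 := by
  have h1 : KaehlerDifferential.D A P.toExtension.Ring (MvPolynomial.C a : MvPolynomial ι A) = 0 :=
    (KaehlerDifferential.D A P.toExtension.Ring).map_algebraMap a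
  unfold dd
  rw [h1, TensorProduct.tmul_zero]

theorem dd_add (p q : MvPolynomial ι A) : dd P (p + q) = dd P p + dd P q := by
  have h1 : KaehlerDifferential.D A P.toExtension.Ring (p + q : MvPolynomial ι A) =
      KaehlerDifferential.D A P.toExtension.Ring p + KaehlerDifferential.D A P.toExtension.Ring q :=
    map_add (KaehlerDifferential.D A P.toExtension.Ring) _ _
  unfold dd
  rw [h1, TensorProduct.tmul_add]

theorem one_tmul_smul (p : P.toExtension.Ring) (y : Ω[P.toExtension.Ring⁄A]) :
    (1 : B) ⊗ₜ[P.toExtension.Ring] (p • y) = rho P p • ((1 : B) ⊗ₜ[P.toExtension.Ring] y) := by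
  rw [TensorProduct.tmul_smul, TensorProduct.smul_tmul', TensorProduct.smul_tmul', Algebra.smul_def,
    mul_one, smul_eq_mul, mul_one, algebraMap_eq_rho]

theorem dd_mul (p q : MvPolynomial ι A) :
    dd P (p * q) = rho P p • dd P q + rho P q • dd P p := by
  have h1 := (KaehlerDifferential.D A P.toExtension.Ring).leibniz
    (show P.toExtension.Ring from p) (show P.toExtension.Ring from q)
  have h2 : dd P (p * q) = (1 : B) ⊗ₜ[P.toExtension.Ring]
      ((show P.toExtension.Ring from p) • KaehlerDifferential.D A P.toExtension.Ring q +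
        (show P.toExtension.Ring from q) • KaehlerDifferential.D A P.toExtension.Ring p) :=
    congrArg (fun y => (1 : B) ⊗ₜ[P.toExtension.Ring] y) h1
  rw [h2, TensorProduct.tmul_add, one_tmul_smul, one_tmul_smul]
  rfl

theorem dd_X (i : ι) : dd P (MvPolynomial.X i) = P.cotangentSpaceBasis i :=
  (Algebra.Generators.cotangentSpaceBasis_apply P i).symm

theorem cotangentComplex_mk' (x : P.toExtension.ker) :
    P.toExtension.cotangentComplex (Algebra.Extension.Cotangent.mk x) = dd P x.1 :=
  Algebra.Extension.cotangentComplex_mk _ x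

/-- a lift of the generators to an extension -/
structure Lift (X : Ext A B M) where
  g : MvPolynomial ι A →ₐ[A] X.E
  hg : ∀ r, X.proj (g r) = rho P r

variable {P}

theorem lift_of_vals (X : Ext A B M) (v : ι → X.E) (hv : ∀ i, X.proj (v i) = P.val i)
    (r : MvPolynomial ι A) : X.proj (MvPolynomial.aeval v r) = rho P r := by
  have : X.proj.comp (MvPolynomial.aeval v) = rho P := by
    apply MvPolynomial.algHom_ext
    intro i
    rw [AlgHom.comp_apply, MvPolynomial.aeval_X, hv, MvPolynomial.aeval_X]
  exact DFunLike.congr_fun this r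

theorem exists_lift (X : Ext A B M) : Nonempty (Lift P X) := by
  choose v hv using fun i => X.isExtension.proj_surjective (P.val i)
  exact ⟨⟨MvPolynomial.aeval v, lift_of_vals X v hv⟩⟩

variable {X : Ext A B M} (l : Lift P X)

theorem Lift.proj_eq_zero (x : P.toExtension.ker) : X.proj (l.g x.1) = 0 :=
  (l.hg x.1).trans ((algebraMap_eq_rho P x.1).symm.trans (RingHom.mem_ker.mp x.2))

theorem Lift.g_mul_incl (r : MvPolynomial ι A) (m : M) : l.g r * X.incl m = X.incl (rho P r • m) := by
  rw [X.isExtension.mul_incl, l.hg]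

theorem Lift.incl_mul_g (r : MvPolynomial ι A) (m : M) : X.incl m * l.g r = X.incl (rho P r • m) := by
  rw [incl_mul, l.hg]

/-- the map `I → M` induced by a lift -/
noncomputable def Lift.phi0 (x : P.toExtension.ker) : M := X.kerLift (l.g x.1) (l.proj_eq_zero x)

theorem Lift.incl_phi0 (x : P.toExtension.ker) : X.incl (l.phi0 x) = l.g x.1 :=
  X.incl_kerLift _ _

/-- the `B`-linear map `I/I² → M` induced by a lift -/
noncomputable def Lift.phi : P.toExtension.Cotangent →ₗ[B] M :=
  letI : Module P.toExtension.Ring M := Module.compHom M (algebraMap P.toExtension.Ring B)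
  haveI : IsScalarTower P.toExtension.Ring B M := IsScalarTower.of_compHom P.toExtension.Ring B M
  (LinearMap.liftBaseChange B
    ({ toFun := l.phi0
       map_add' := fun x y => by
        apply X.isExtension.incl_injective
        rw [map_add, l.incl_phi0, l.incl_phi0, l.incl_phi0]
        exact map_add l.g x.1 y.1
       map_smul' := fun r x => by
        apply X.isExtension.incl_injective
        have h1 : l.g ((r • x : P.toExtension.ker) : P.toExtension.Ring) = l.g r * l.g x.1 :=
          map_mul l.g _ _
        have h2 : l.g r * l.g x.1 = X.incl (rho P r • l.phi0 x) := by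
          rw [← l.incl_phi0 x]
          exact l.g_mul_incl r _
        have h3 : algebraMap P.toExtension.Ring B r • l.phi0 x = rho P r • l.phi0 x := by
          rw [algebraMap_eq_rho]
        exact (l.incl_phi0 _).trans (h1.trans (h2.trans (congrArg X.incl h3.symm))) } :
      P.toExtension.ker →ₗ[P.toExtension.Ring] M)) ∘ₗ P.toExtension.cotangentEquiv.symm.toLinearMap

theorem Lift.phi_mk (x : P.toExtension.ker) :
    l.phi (Algebra.Extension.Cotangent.mk x) = l.phi0 x := by
  have h : P.toExtension.cotangentEquiv.symm (Algebra.Extension.Cotangent.mk x) = (1 : B) ⊗ₜ x := by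
    rw [LinearEquiv.symm_apply_eq, Algebra.Extension.contangentEquiv_tmul, one_smul]
  unfold Lift.phi
  rw [LinearMap.comp_apply, LinearEquiv.coe_coe, h]
  exact one_smul B (l.phi0 x)

theorem Lift.incl_phi_mk (x : P.toExtension.ker) :
    X.incl (l.phi (Algebra.Extension.Cotangent.mk x)) = l.g x.1 := by
  rw [l.phi_mk, l.incl_phi0]

/-- characterization of `phi` -/
theorem Lift.phi_eq_iff (φ : P.toExtension.Cotangent →ₗ[B] M) :
    l.phi = φ ↔ ∀ x : P.toExtension.ker, X.incl (φ (Algebra.Extension.Cotangent.mk x)) = l.g x.1 := by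
  constructor
  · rintro rfl x
    exact l.incl_phi_mk x
  · intro h
    ext y
    obtain ⟨x, rfl⟩ := Algebra.Extension.Cotangent.mk_surjective y
    apply X.isExtension.incl_injective
    rw [l.incl_phi_mk, h]

section Compare

variable (l' : Lift P X)

theorem Lift.sub_eq (ψ : P.toExtension.CotangentSpace →ₗ[B] M)
    (hψ : ∀ i, X.incl (ψ (P.cotangentSpaceBasis i)) = l.g (MvPolynomial.X i) - l'.g (MvPolynomial.X i))
    (r : MvPolynomial ι A) :
    l.g r - l'.g r = X.incl (ψ (dd P r)) := by
  induction r using MvPolynomial.induction_on with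
  | C a =>
    rw [dd_C, map_zero, map_zero, ← MvPolynomial.algebraMap_eq, l.g.commutes, l'.g.commutes, sub_self]
  | add p q hp hq =>
    rw [map_add, map_add, dd_add, map_add, map_add, ← hp, ← hq]
    ring
  | mul_X p i hp =>
    have h1 : l.g (p * MvPolynomial.X i) - l'.g (p * MvPolynomial.X i) =
        l.g p * (l.g (MvPolynomial.X i) - l'.g (MvPolynomial.X i)) +
          (l.g p - l'.g p) * l'.g (MvPolynomial.X i) := by
      rw [map_mul, map_mul]; ring
    rw [h1, hp, ← hψ, l.g_mul_incl, l'.incl_mul_g, dd_mul, dd_X, map_add ψ, map_smul ψ, map_smul ψ,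
      map_add X.incl]

theorem Lift.phi_sub_eq (ψ : P.toExtension.CotangentSpace →ₗ[B] M)
    (hψ : ∀ i, X.incl (ψ (P.cotangentSpaceBasis i)) = l.g (MvPolynomial.X i) - l'.g (MvPolynomial.X i)) :
    l.phi - l'.phi = ψ ∘ₗ P.toExtension.cotangentComplex := by
  ext y
  obtain ⟨x, rfl⟩ := Algebra.Extension.Cotangent.mk_surjective y
  apply X.isExtension.incl_injective
  rw [LinearMap.sub_apply, map_sub, l.incl_phi_mk, l'.incl_phi_mk, LinearMap.comp_apply,
    cotangentComplex_mk']
  exact l.sub_eq l' ψ hψ x.1

theorem Lift.phi_sub_mem :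
    l.phi - l'.phi ∈ LinearMap.range (LinearMap.lcomp B M P.toExtension.cotangentComplex) := by
  have hm : ∀ i, X.proj (l.g (MvPolynomial.X i) - l'.g (MvPolynomial.X i)) = 0 := by
    intro i
    rw [map_sub, l.hg, l'.hg, sub_self]
  refine ⟨P.cotangentSpaceBasis.constr ℤ fun i => X.kerLift _ (hm i), ?_⟩
  rw [LinearMap.lcomp_apply']
  refine (l.phi_sub_eq l' _ fun i => ?_).symm
  rw [Module.Basis.constr_basis, X.incl_kerLift]

/-- modify a lift by a map out of the cotangent space -/
theorem Lift.exists_add (ψ : P.toExtension.CotangentSpace →ₗ[B] M) :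
    ∃ l' : Lift P X, l'.phi = l.phi + ψ ∘ₗ P.toExtension.cotangentComplex := by
  let v : ι → X.E := fun i => l.g (MvPolynomial.X i) + X.incl (ψ (P.cotangentSpaceBasis i))
  have hv : ∀ i, X.proj (v i) = P.val i := by
    intro i
    show X.proj (l.g (MvPolynomial.X i) + X.incl _) = _
    rw [map_add, proj_incl, add_zero, l.hg, MvPolynomial.aeval_X]
  let l' : Lift P X := ⟨MvPolynomial.aeval v, lift_of_vals X v hv⟩
  refine ⟨l', ?_⟩
  rw [← sub_eq_iff_eq_add']
  refine l'.phi_sub_eq l ψ fun i => ?_
  show _ = MvPolynomial.aeval v (MvPolynomial.X i) - _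
  rw [MvPolynomial.aeval_X]
  show _ = l.g (MvPolynomial.X i) + X.incl _ - _
  rw [add_sub_cancel_left]

end Compare

section Transport

variable {Y : Ext A B M}

/-- transport a lift along an equivalence of extensions -/
noncomputable def Lift.map (e : Ext.Equiv X Y) : Lift P Y :=
  ⟨e.toAlgEquiv.toAlgHom.comp l.g, fun r => by
    show Y.proj (e.toAlgEquiv (l.g r)) = _
    rw [e.proj_apply, l.hg]⟩

theorem Lift.map_phi (e : Ext.Equiv X Y) : (l.map e).phi = l.phi := by
  rw [Lift.phi_eq_iff]
  intro x
  show _ = e.toAlgEquiv (l.g x.1)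
  rw [← l.incl_phi_mk, e.apply_incl]

end Transport

end Groth.Agent.H6.ExalT1
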