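import Mathlib
import Groth.Agent.Lib.Helper6.ExalT1a

/-! Extensions of `B` by `M` versus maps out of the conormal module: the extension of a map. -/

universe u
set_option linter.unusedSectionVars false

open TensorProduct Exal

namespace Groth.Agent.H6.ExalT1

open Groth.Agent.H3.ExalAux

attribute [local instance] Exal.opModule Exal.isCentralScalar_opModule

variable {A B : Type u} [CommRing A] [CommRing B] [Algebra A B] {ι : Type u}
  (P : Algebra.Generators A B ι) (M : Type u) [AddCommGroup M] [Module B M]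

/-- the fibre product `A[X] ×_B (B ⊕ M)` -/
noncomputable def TT : Subalgebra A (MvPolynomial ι A × Ext.TrivCarrier A B M) :=
  AlgHom.equalizer ((rho P).comp (AlgHom.fst A (MvPolynomial ι A) (Ext.TrivCarrier A B M)))
    ((Ext.trivial A B M).proj.comp (AlgHom.snd A (MvPolynomial ι A) (Ext.TrivCarrier A B M)))

variable {P M}

theorem mem_TT_iff (t : MvPolynomial ι A × Ext.TrivCarrier A B M) :
    t ∈ TT P M ↔ rho P t.1 = TrivSqZeroExt.fst (t.2 : TrivSqZeroExt B M) := by
  rw [TT, AlgHom.mem_equalizer]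
  rfl

/-- the polynomial component -/
def tr (t : TT P M) : MvPolynomial ι A := t.1.1

/-- the module component -/
def tm (t : TT P M) : M := TrivSqZeroExt.snd (t.1.2 : TrivSqZeroExt B M)

theorem fst_eq (t : TT P M) : TrivSqZeroExt.fst (t.1.2 : TrivSqZeroExt B M) = rho P (tr t) :=
  ((mem_TT_iff t.1).mp t.2).symm

theorem tt_ext {t t' : TT P M} (hr : tr t = tr t') (hm : tm t = tm t') : t = t' := by
  apply Subtype.ext
  apply Prod.ext hr
  refine TrivSqZeroExt.ext ?_ hm
  rw [fst_eq, fst_eq]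
  exact congrArg (rho P) hr

/-- constructor -/
noncomputable def tmk (r : MvPolynomial ι A) (m : M) : TT P M :=
  ⟨(r, (TrivSqZeroExt.inl (rho P r) + TrivSqZeroExt.inr m : TrivSqZeroExt B M)), by
    rw [mem_TT_iff]
    simp⟩

@[simp] theorem tr_tmk (r : MvPolynomial ι A) (m : M) : tr (tmk (P := P) r m) = r := rfl
@[simp] theorem tm_tmk (r : MvPolynomial ι A) (m : M) : tm (tmk (P := P) r m) = m := by
  show TrivSqZeroExt.snd (TrivSqZeroExt.inl (rho P r) + TrivSqZeroExt.inr m : TrivSqZeroExt B M) = m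
  simp

theorem tmk_eta (t : TT P M) : tmk (tr t) (tm t) = t := tt_ext rfl (tm_tmk _ _)

@[simp] theorem tr_add (t t' : TT P M) : tr (t + t') = tr t + tr t' := rfl
@[simp] theorem tm_add (t t' : TT P M) : tm (t + t') = tm t + tm t' := rfl
@[simp] theorem tr_zero : tr (0 : TT P M) = 0 := rfl
@[simp] theorem tm_zero : tm (0 : TT P M) = 0 := rfl
@[simp] theorem tr_one : tr (1 : TT P M) = 1 := rfl
@[simp] theorem tm_one : tm (1 : TT P M) = 0 := rfl
@[simp] theorem tr_mul (t t' : TT P M) : tr (t * t') = tr t * tr t' := rfl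
theorem tm_mul (t t' : TT P M) : tm (t * t') = rho P (tr t) • tm t' + rho P (tr t') • tm t := by
  have h := TrivSqZeroExt.snd_mul (t.1.2 : TrivSqZeroExt B M) (t'.1.2 : TrivSqZeroExt B M)
  refine h.trans ?_
  rw [fst_eq, fst_eq, op_smul_eq_smul]
  rfl
@[simp] theorem tr_neg (t : TT P M) : tr (-t) = -tr t := rfl
@[simp] theorem tm_neg (t : TT P M) : tm (-t) = -tm t := rfl
@[simp] theorem tr_sub (t t' : TT P M) : tr (t - t') = tr t - tr t' := rfl
@[simp] theorem tm_sub (t t' : TT P M) : tm (t - t') = tm t - tm t' := rfl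
theorem tr_algebraMap (a : A) : tr (algebraMap A (TT P M) a) = MvPolynomial.C a := rfl
theorem tm_algebraMap (a : A) : tm (algebraMap A (TT P M) a) = 0 := rfl

section Ideal

variable (φ : P.toExtension.Cotangent →ₗ[B] M)

/-- cast -/
def toR (r : MvPolynomial ι A) : P.toExtension.Ring := r

/-- cast -/
def ofR (r : P.toExtension.Ring) : MvPolynomial ι A := r

theorem rho_ofR_ker (x : P.toExtension.ker) : rho P (ofR x.1) = 0 :=
  (algebraMap_eq_rho P x.1).symm.trans (RingHom.mem_ker.mp x.2)

theorem phi_smul (r : MvPolynomial ι A) (x : P.toExtension.ker) (y : P.toExtension.ker)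
    (hy : ofR y.1 = r * ofR x.1) :
    φ (Algebra.Extension.Cotangent.mk y) = rho P r • φ (Algebra.Extension.Cotangent.mk x) := by
  have h1 : y = toR r • x := Subtype.ext (by rw [Submodule.coe_smul, smul_eq_mul]; exact hy)
  have h2 : toR r • Algebra.Extension.Cotangent.mk x =
      algebraMap P.toExtension.Ring B (toR r) • Algebra.Extension.Cotangent.mk x :=
    (IsScalarTower.algebraMap_smul B (toR r) (Algebra.Extension.Cotangent.mk x)).symm
  rw [h1, map_smul, h2, map_smul φ, algebraMap_eq_rho]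
  rfl

/-- the ideal `{(x, -φ(x)) : x ∈ I}` -/
noncomputable def JJ : Ideal (TT P M) where
  carrier := {t | ∃ x : P.toExtension.ker, tr t = ofR x.1 ∧
    tm t = -φ (Algebra.Extension.Cotangent.mk x)}
  add_mem' := by
    rintro t t' ⟨x, hx1, hx2⟩ ⟨x', hx1', hx2'⟩
    refine ⟨x + x', ?_, ?_⟩
    · rw [tr_add, hx1, hx1']; rfl
    · rw [tm_add, hx2, hx2', map_add, map_add, neg_add]
  zero_mem' := ⟨0, rfl, by rw [tm_zero, map_zero, map_zero, neg_zero]⟩
  smul_mem' := by
    rintro c t ⟨x, hx1, hx2⟩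
    refine ⟨toR (P := P) (tr c) • x, ?_, ?_⟩
    · have h3 : tr (c • t) = tr c * tr t := rfl
      rw [h3, hx1, Submodule.coe_smul, smul_eq_mul]
      rfl
    · have h3 : tm (c • t) = tm (c * t) := rfl
      have h4 : ofR ((toR (P := P) (tr c) • x : P.toExtension.ker) : P.toExtension.Ring) =
          tr c * ofR x.1 := by
        rw [Submodule.coe_smul, smul_eq_mul]
        rfl
      rw [h3, tm_mul, hx2, hx1, phi_smul φ (tr c) x (toR (P := P) (tr c) • x) h4, smul_neg,
        rho_ofR_ker, zero_smul, add_zero]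

theorem mem_JJ_iff (t : TT P M) : t ∈ JJ φ ↔
    ∃ x : P.toExtension.ker, tr t = ofR x.1 ∧ tm t = -φ (Algebra.Extension.Cotangent.mk x) := Iff.rfl

end Ideal

section Pi

variable {X : Ext A B M} (l : Lift P X)

/-- the comparison map `A[X] ×_B (B ⊕ M) → E` of a lift -/
noncomputable def Lift.Pi : TT P M →ₐ[A] X.E where
  toFun t := l.g (tr t) + X.incl (tm t)
  map_one' := by rw [tr_one, tm_one, map_one, map_zero, add_zero]
  map_mul' t t' := by
    rw [tr_mul, tm_mul, map_mul, map_add]
    have h1 : (l.g (tr t) + X.incl (tm t)) * (l.g (tr t') + X.incl (tm t')) =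
        l.g (tr t) * l.g (tr t') + (l.g (tr t) * X.incl (tm t') + X.incl (tm t) * l.g (tr t')) +
          X.incl (tm t) * X.incl (tm t') := by ring
    rw [h1, l.g_mul_incl, l.incl_mul_g, incl_mul_incl, add_zero]
  map_zero' := by rw [tr_zero, tm_zero, map_zero, map_zero, add_zero]
  map_add' t t' := by
    rw [tr_add, tm_add, map_add, map_add]
    abel
  commutes' a := by
    rw [tr_algebraMap, tm_algebraMap, map_zero, add_zero, ← MvPolynomial.algebraMap_eq, l.g.commutes]

theorem Lift.Pi_apply (t : TT P M) : l.Pi t = l.g (tr t) + X.incl (tm t) := rfl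

theorem Lift.Pi_surjective : Function.Surjective l.Pi := by
  intro x
  obtain ⟨r, hr0⟩ := P.algebraMap_surjective (X.proj x)
  have hr : rho P r = X.proj x := (Algebra.Generators.algebraMap_apply P r).symm.trans hr0
  have h1 : X.proj (x - l.g r) = 0 := by rw [map_sub, l.hg, hr, sub_self]
  refine ⟨tmk r (X.kerLift _ h1), ?_⟩
  rw [l.Pi_apply, tr_tmk, tm_tmk, X.incl_kerLift]
  abel

theorem Lift.ker_Pi : RingHom.ker l.Pi = JJ l.phi := by
  ext t
  rw [RingHom.mem_ker, mem_JJ_iff]
  show l.Pi t = 0 ↔ _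
  rw [l.Pi_apply]
  constructor
  · intro h
    have h1 : rho P (tr t) = 0 := by
      have := congrArg X.proj h
      rwa [map_add, proj_incl, add_zero, l.hg, map_zero] at this
    have hmem : toR (tr t) ∈ P.toExtension.ker := by
      rw [RingHom.mem_ker, algebraMap_eq_rho]
      exact h1
    refine ⟨⟨toR (tr t), hmem⟩, rfl, ?_⟩
    apply X.isExtension.incl_injective
    rw [map_neg, l.incl_phi_mk]
    exact eq_neg_of_add_eq_zero_right h
  · rintro ⟨x, hx1, hx2⟩
    rw [hx1, hx2, map_neg, l.incl_phi_mk]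
    exact add_neg_cancel _

end Pi

end Groth.Agent.H6.ExalT1
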