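import Mathlib
import Groth.Agent.Lib.Helper6.ExalT1b
import Groth.Agent.Lib.Helper6.CotTHom2

/-! Extensions of `B` by `M` versus maps out of the conormal module: the classification. -/

universe u
set_option linter.unusedSectionVars false

open TensorProduct Exal

namespace Groth.Agent.H6.ExalT1

open Groth.Agent.H3.ExalAux

attribute [local instance] Exal.opModule Exal.isCentralScalar_opModule

variable {A B : Type u} [CommRing A] [CommRing B] [Algebra A B] {ι : Type u}
  {P : Algebra.Generators A B ι} {M : Type u} [AddCommGroup M] [Module B M]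

variable (P M) in
/-- the projection `A[X] ×_B (B ⊕ M) → B` -/
noncomputable def projTT : TT P M →ₐ[A] B :=
  (rho P).comp ((AlgHom.fst A (MvPolynomial ι A) (Ext.TrivCarrier A B M)).comp (TT P M).val)

theorem projTT_apply (t : TT P M) : projTT P M t = rho P (tr t) := rfl

variable (P M) in
/-- the section `A[X] → A[X] ×_B (B ⊕ M)` -/
noncomputable def sectTT : MvPolynomial ι A →ₐ[A] TT P M where
  toFun r := tmk r 0
  map_one' := tt_ext rfl (tm_tmk _ _)
  map_mul' r r' := tt_ext rfl (by rw [tm_tmk, tm_mul, tm_tmk, tm_tmk, smul_zero, smul_zero, add_zero])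
  map_zero' := tt_ext rfl (tm_tmk _ _)
  map_add' r r' := tt_ext rfl (by rw [tm_tmk, tm_add, tm_tmk, tm_tmk, add_zero])
  commutes' a := tt_ext rfl (by rw [tm_tmk, tm_algebraMap])

theorem sectTT_apply (r : MvPolynomial ι A) : sectTT P M r = tmk r 0 := rfl

section Xof

variable (φ : P.toExtension.Cotangent →ₗ[B] M)

theorem projTT_eq_zero_of_mem {t : TT P M} (ht : t ∈ JJ φ) : projTT P M t = 0 := by
  obtain ⟨x, hx1, -⟩ := ht
  rw [projTT_apply, hx1, rho_ofR_ker]

/-- the inclusion of `M` -/
noncomputable def inclTT : M →+ TT P M ⧸ JJ φ where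
  toFun m := Ideal.Quotient.mk _ (tmk 0 m)
  map_zero' := by
    have : tmk (P := P) 0 (0 : M) = 0 := tt_ext rfl (tm_tmk _ _)
    rw [this, map_zero]
  map_add' m m' := by
    have : tmk (P := P) 0 (m + m') = tmk 0 m + tmk 0 m' :=
      tt_ext (by rw [tr_add, tr_tmk, tr_tmk, tr_tmk, add_zero])
        (by rw [tm_add, tm_tmk, tm_tmk, tm_tmk])
    rw [this, map_add]

theorem mk_eq_mk_iff (t t' : TT P M) :
    (Ideal.Quotient.mk (JJ φ) t = Ideal.Quotient.mk (JJ φ) t') ↔
      ∃ x : P.toExtension.ker, tr t - tr t' = ofR x.1 ∧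
        tm t - tm t' = -φ (Algebra.Extension.Cotangent.mk x) := by
  rw [Ideal.Quotient.eq, mem_JJ_iff, tr_sub, tm_sub]

/-- the extension attached to a map `I/I² → M` -/
noncomputable def Xof : Ext A B M where
  E := TT P M ⧸ JJ φ
  proj := Ideal.Quotient.liftₐ (JJ φ) (projTT P M) fun _ h => projTT_eq_zero_of_mem φ h
  incl := inclTT φ
  isExtension :=
    { proj_surjective := fun b => by
        obtain ⟨r, hr0⟩ := P.algebraMap_surjective b
        have hr : rho P r = b := (Algebra.Generators.algebraMap_apply P r).symm.trans hr0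
        exact ⟨Ideal.Quotient.mk _ (tmk r 0), hr⟩
      incl_injective := fun m m' h => by
        obtain ⟨x, hx1, hx2⟩ := (mk_eq_mk_iff φ _ _).mp h
        rw [tr_tmk, tr_tmk, sub_self] at hx1
        have hx0 : x = 0 := Subtype.ext hx1.symm
        rw [tm_tmk, tm_tmk, hx0, map_zero, map_zero, neg_zero] at hx2
        exact sub_eq_zero.mp hx2
      exact := fun q => by
        obtain ⟨t, rfl⟩ := Ideal.Quotient.mk_surjective q
        constructor
        · intro h
          have h1 : rho P (tr t) = 0 := h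
          have hmem : toR (P := P) (tr t) ∈ P.toExtension.ker := by
            rw [RingHom.mem_ker, algebraMap_eq_rho]
            exact h1
          refine ⟨tm t + φ (Algebra.Extension.Cotangent.mk ⟨toR (tr t), hmem⟩), ?_⟩
          refine ((mk_eq_mk_iff φ t (tmk 0 _)).mpr ⟨⟨toR (tr t), hmem⟩, ?_, ?_⟩).symm
          · rw [tr_tmk, sub_zero]; rfl
          · rw [tm_tmk]; abel
        · rintro ⟨m, hm⟩
          rw [← hm]
          show rho P (tr (tmk (P := P) 0 m)) = 0
          rw [tr_tmk, map_zero]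
      mul_incl := fun q m => by
        obtain ⟨t, rfl⟩ := Ideal.Quotient.mk_surjective q
        show Ideal.Quotient.mk _ t * Ideal.Quotient.mk _ (tmk 0 m) =
          Ideal.Quotient.mk _ (tmk 0 (rho P (tr t) • m))
        rw [← map_mul]
        congr 1
        refine tt_ext ?_ ?_
        · rw [tr_mul, tr_tmk, tr_tmk, mul_zero]
        · rw [tm_mul, tm_tmk, tr_tmk, tm_tmk, map_zero, zero_smul, add_zero] }

theorem Xof_proj_mk (t : TT P M) : (Xof φ).proj (Ideal.Quotient.mk _ t) = rho P (tr t) := rfl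

theorem Xof_incl (m : M) : (Xof φ).incl m = Ideal.Quotient.mk _ (tmk 0 m) := rfl

/-- the canonical lift -/
noncomputable def liftXof : Lift P (Xof φ) :=
  ⟨(Ideal.Quotient.mkₐ A (JJ φ)).comp (sectTT P M), fun _ => rfl⟩

theorem liftXof_g (r : MvPolynomial ι A) : (liftXof φ).g r = Ideal.Quotient.mk _ (tmk r 0) := rfl

theorem liftXof_phi : (liftXof φ).phi = φ := by
  rw [Lift.phi_eq_iff]
  intro x
  show Ideal.Quotient.mk (JJ φ) (tmk 0 (φ (Algebra.Extension.Cotangent.mk x))) =
    Ideal.Quotient.mk (JJ φ) (tmk (ofR x.1) 0)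
  refine ((mk_eq_mk_iff φ _ _).mpr ⟨x, ?_, ?_⟩).symm
  · rw [tr_tmk, tr_tmk, sub_zero]
  · rw [tm_tmk, tm_tmk, zero_sub]

end Xof

section Iso

variable {X : Ext A B M} (l : Lift P X)

/-- every extension is the extension attached to the map of a lift -/
noncomputable def Lift.equivXof : Ext.Equiv (Xof l.phi) X where
  toAlgEquiv := (Ideal.quotientEquivAlgOfEq A l.ker_Pi.symm).trans
    (Ideal.quotientKerAlgEquivOfSurjective l.Pi_surjective)
  proj_apply q := by
    obtain ⟨t, rfl⟩ := Ideal.Quotient.mk_surjective q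
    show X.proj (l.Pi t) = rho P (tr t)
    rw [l.Pi_apply, map_add, proj_incl, add_zero, l.hg]
  apply_incl m := by
    show l.Pi (tmk 0 m) = X.incl m
    rw [l.Pi_apply, tr_tmk, tm_tmk, map_zero, zero_add]

end Iso

section Main

variable (P M)

theorem cl_Xof_eq_of_sub_mem {φ φ' : P.toExtension.Cotangent →ₗ[B] M}
    (h : φ - φ' ∈ LinearMap.range (LinearMap.lcomp B M P.toExtension.cotangentComplex)) :
    (Xof φ).cl = (Xof φ').cl := by
  obtain ⟨ψ, hψ⟩ := h
  rw [LinearMap.lcomp_apply'] at hψ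
  obtain ⟨l'', hl''⟩ := (liftXof φ').exists_add ψ
  rw [liftXof_phi, hψ, add_sub_cancel] at hl''
  have e := l''.equivXof
  rw [hl''] at e
  exact Quotient.sound ⟨e⟩

/-- the class map -/
noncomputable def clsMap : CotTHom.T1E P.toExtension M → Exalcom A B M :=
  Quotient.lift (s := Submodule.quotientRel _) (fun φ => (Xof φ).cl) (by
    intro φ φ' h
    exact cl_Xof_eq_of_sub_mem P M ((Submodule.quotientRel_def _).mp h))

theorem clsMap_mk (φ : P.toExtension.Cotangent →ₗ[B] M) :
    clsMap P M (Submodule.Quotient.mk φ) = (Xof φ).cl := rfl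

theorem clsMap_surjective : Function.Surjective (clsMap P M) := by
  intro c
  obtain ⟨X, rfl⟩ := Quotient.exists_rep c
  obtain ⟨l⟩ := exists_lift (P := P) X
  exact ⟨Submodule.Quotient.mk l.phi, Quotient.sound ⟨l.equivXof⟩⟩

theorem clsMap_injective : Function.Injective (clsMap P M) := by
  intro c c' h
  obtain ⟨φ, rfl⟩ := Submodule.Quotient.mk_surjective _ c
  obtain ⟨φ', rfl⟩ := Submodule.Quotient.mk_surjective _ c'
  rw [clsMap_mk, clsMap_mk] at h
  obtain ⟨e⟩ := Quotient.exact h
  rw [Submodule.Quotient.eq]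
  have := ((liftXof φ).map e).phi_sub_mem (liftXof φ')
  rwa [Lift.map_phi, liftXof_phi, liftXof_phi] at this

/-- the trivial lift -/
noncomputable def trivLift : Lift P (Ext.trivial A B M) :=
  ⟨({ (TrivSqZeroExt.inlHom B M : B →+* TrivSqZeroExt B M) with
      commutes' := fun _ => rfl } : B →ₐ[A] Ext.TrivCarrier A B M).comp (rho P), fun _ => rfl⟩

theorem trivLift_phi : (trivLift P M).phi = 0 := by
  rw [Lift.phi_eq_iff]
  intro x
  rw [LinearMap.zero_apply, map_zero]
  show (0 : TrivSqZeroExt B M) = TrivSqZeroExt.inl (rho P (ofR x.1))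
  rw [rho_ofR_ker, TrivSqZeroExt.inl_zero]

theorem clsMap_zero : clsMap P M 0 = 0 := by
  have h := (trivLift P M).equivXof
  rw [trivLift_phi] at h
  exact Quotient.sound ⟨h⟩

end Main

end Groth.Agent.H6.ExalT1
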