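import Mathlib
import Groth.Prelude.Def_ArtFun4
import Groth.Prelude.Def_Exal
import Groth.Prelude.Def_CotT
import Groth.Agent.Lib.Helper6.DefAff6
import Groth.Agent.Lib.Helper6.ExalT1c

/-!
# First-order deformations of an affine scheme are classified by `T¹` (helper6)
-/

set_option autoImplicit false
universe u
open CategoryTheory CategoryTheory.Limits AlgebraicGeometry ArtFun ArtFun.Art

namespace Groth.Agent.H6.DefAff

variable (k B : Type u) [Field k] [CommRing B] [Algebra k B]

/-- the map from classes of extensions of `B` by `B` to first-order deformations of `Spec B` -/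
noncomputable def exalToDef : Exal.Exalcom k B B →
    (ArtFun.defFunctor (Λ := k) (Spec (CommRingCat.of B))
      (Spec.map (CommRingCat.ofHom (algebraMap k B)))).obj (Art.dual k k) :=
  Quotient.map' (fun X => (ExtDual.rdef X).toDefSch)
    (fun _ _ ⟨e⟩ => (ExtDual.homOfEquiv e.symm).nonempty_iso)

theorem exalToDef_injective : Function.Injective (exalToDef k B) := by
  intro q q'
  induction q using Quotient.inductionOn with
  | h X =>
    induction q' using Quotient.inductionOn with
    | h Y =>
      intro h
      obtain ⟨e⟩ : Nonempty ((ExtDual.rdef X).toDefSch.Iso (ExtDual.rdef Y).toDefSch) :=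
        Quotient.exact h
      obtain ⟨hm⟩ := RDef.nonempty_hom_of_iso e
      exact Quotient.sound ⟨(ExtDual.equivOfHom hm).symm⟩

theorem exalToDef_surjective : Function.Surjective (exalToDef k B) := by
  intro q
  induction q using Quotient.inductionOn with
  | h η =>
    obtain ⟨e1⟩ := RDef.nonempty_iso_toDefSch_ofDefSch η
    obtain ⟨e2⟩ := (ExtDual.homExt (RDef.ofDefSch η)).nonempty_iso
    exact ⟨(ExtDual.ext (RDef.ofDefSch η)).cl, Quotient.sound ⟨e2.trans e1.symm⟩⟩

attribute [local instance] Exal.opModule Exal.isCentralScalar_opModule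

theorem nonempty_equiv_T1 :
    Nonempty ((ArtFun.defFunctor (Λ := k) (Spec (CommRingCat.of B))
      (Spec.map (CommRingCat.ofHom (algebraMap k B)))).obj (Art.dual k k) ≃
        CotT.T1 (CotT.canon k B) B) := by
  let e1 : CotT.T1 (CotT.canon k B) B ≃ CotTHom.T1E (CotT.canon k B).toExtension B :=
    (CotTHom.T1equivT1E (CotT.canon k B) B).toEquiv
  let e2 : CotTHom.T1E (CotT.canon k B).toExtension B ≃ Exal.Exalcom k B B :=
    Equiv.ofBijective (ExalT1.clsMap (CotT.canon k B).toGenerators B)
      ⟨ExalT1.clsMap_injective _ _, ExalT1.clsMap_surjective _ _⟩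
  let e3 := Equiv.ofBijective (exalToDef k B) ⟨exalToDef_injective k B, exalToDef_surjective k B⟩
  exact ⟨(e1.trans (e2.trans e3)).symm⟩

end Groth.Agent.H6.DefAff
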