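import Mathlib
import Groth.Prelude.Def_ArtFun4
import Groth.Agent.Lib.Helper6.DefAff5

/-!
# Base change of ring-level deformations (helper6)
-/

set_option autoImplicit false
universe u
open CategoryTheory CategoryTheory.Limits AlgebraicGeometry ArtFun ArtFun.Art

namespace Groth.Agent.H6.DefAff

variable {Λ k : Type u} [CommRing Λ] [Field k] [Algebra Λ k]
variable {B₀ : Type u} [CommRing B₀] [Algebra k B₀] {A A' : Art Λ k}

namespace RDef

/-- a morphism of ring-level deformations over a morphism `g : A ⟶ A'` of the base -/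
structure HomOver (g : A ⟶ A') (R : RDef B₀ A) (R' : RDef B₀ A') where
  /-- the ring map -/
  hom : R.E →+* R'.E
  hom_toE : ∀ a, hom (R.toE a) = R'.toE (g a)
  pr_hom : ∀ e, R'.pr (hom e) = R.pr e

/-- a morphism over `g` identifies the target with the base change of the source -/
theorem HomOver.nonempty_iso {g : A ⟶ A'} {R : RDef B₀ A} {R' : RDef B₀ A'}
    (h : HomOver g R R') : Nonempty ((R.toDefSch.baseChange g).Iso R'.toDefSch) := by
  have hw : Spec.map (CommRingCat.ofHom h.hom) ≫ R.toDefSch.f = R'.toDefSch.f ≫ specMap g := by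
    show Spec.map _ ≫ Spec.map _ = Spec.map _ ≫ Spec.map _
    rw [← Spec.map_comp, ← Spec.map_comp]
    congr 1
    ext a
    exact h.hom_toE a
  let φ : R'.toDefSch.total ⟶ pullback R.toDefSch.f (specMap g) :=
    pullback.lift (Spec.map (CommRingCat.ofHom h.hom)) R'.toDefSch.f hw
  have hf : φ ≫ (R.toDefSch.baseChange g).f = R'.toDefSch.f := pullback.lift_snd _ _ _
  have hi : R'.toDefSch.i ≫ φ = (R.toDefSch.baseChange g).i := by
    apply pullback.hom_ext
    · rw [Category.assoc, pullback.lift_fst, DefSch.baseChange_i_fst]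
      show Spec.map _ ≫ Spec.map _ = Spec.map _
      rw [← Spec.map_comp]
      congr 1
      ext e
      exact h.pr_hom e
    · rw [Category.assoc, pullback.lift_snd, DefSch.i_f]
      exact (pullback.lift_snd _ _ _).symm
  haveI : IsIso φ := isIso_of_hom (η := R'.toDefSch) (η' := R.toDefSch.baseChange g) φ hf hi
  let e : R'.toDefSch.Iso (R.toDefSch.baseChange g) := ⟨asIso φ, hf, hi⟩
  exact ⟨e.symm⟩

theorem HomOver.map_cl {g : A ⟶ A'} {R : RDef B₀ A} {R' : RDef B₀ A'}
    (h : HomOver g R R') :
    (ArtFun.defFunctor (Λ := Λ) (Spec (CommRingCat.of B₀))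
      (Spec.map (CommRingCat.ofHom (algebraMap k B₀)))).map g R.toDefSch.cl = R'.toDefSch.cl := by
  obtain ⟨e⟩ := h.nonempty_iso
  exact Quotient.sound ⟨e⟩

/-- equality of classes gives a morphism -/
theorem nonempty_hom_of_cl_eq {R R' : RDef B₀ A} (h : R'.toDefSch.cl = R.toDefSch.cl) :
    Nonempty (Hom R R') := by
  obtain ⟨e⟩ : Nonempty (R'.toDefSch.Iso R.toDefSch) := Quotient.exact h
  exact nonempty_hom_of_iso e

/-- every class is the class of a ring-level deformation -/
theorem exists_cl_eq (q : (ArtFun.defFunctor (Λ := Λ) (Spec (CommRingCat.of B₀))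
      (Spec.map (CommRingCat.ofHom (algebraMap k B₀)))).obj A) :
    ∃ R : RDef B₀ A, R.toDefSch.cl = q := by
  induction q using Quotient.inductionOn with
  | h η =>
    obtain ⟨e⟩ := nonempty_iso_toDefSch_ofDefSch η
    exact ⟨ofDefSch η, Quotient.sound ⟨e.symm⟩⟩

end RDef

end Groth.Agent.H6.DefAff
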