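import Mathlib
import Groth.Prelude.Def_ArtFun4
import Groth.Agent.Lib.Helper6.ArtFun
import Groth.Agent.Lib.Helper6.DefAff8
import Groth.Agent.Lib.Helper6.DefAff1c

/-!
# Ring-level deformations: morphisms over a map of the base (helper6)
-/

set_option autoImplicit false
universe u
open CategoryTheory CategoryTheory.Limits AlgebraicGeometry ArtFun ArtFun.Art

namespace Groth.Agent.H6.DefAff

variable {Λ k : Type u} [CommRing Λ] [Field k] [Algebra Λ k]
variable {B₀ : Type u} [CommRing B₀] [Algebra k B₀] {A A' : Art Λ k}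

/-- the image of the maximal ideal under a surjection -/
theorem map_maximalIdeal_of_surjective (g : A ⟶ A') (hg : Function.Surjective g) :
    (IsLocalRing.maximalIdeal A).map (g.toAlgHom : A →+* A') = IsLocalRing.maximalIdeal A' := by
  rw [← art_ker_res A', ← art_ker_res A]
  have h1 : RingHom.ker (A.res : A →+* k) =
      (RingHom.ker (A'.res : A' →+* k)).comap (g.toAlgHom : A →+* A') := by
    ext b
    rw [Ideal.mem_comap, RingHom.mem_ker, RingHom.mem_ker]
    have := Art.res_app g b
    constructor
    · intro h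
      exact this.trans h
    · intro h
      exact this.symm.trans h
  rw [h1]
  exact Ideal.map_comap_of_surjective _ hg _

namespace RDef

/-- equality of classes after base change gives a morphism over the base map -/
theorem nonempty_homOver_of_map_cl {g : A ⟶ A'} {R : RDef B₀ A} {R' : RDef B₀ A'}
    (h : (ArtFun.defFunctor (Λ := Λ) (Spec (CommRingCat.of B₀))
      (Spec.map (CommRingCat.ofHom (algebraMap k B₀)))).map g R.toDefSch.cl = R'.toDefSch.cl) :
    Nonempty (HomOver g R R') := by
  obtain ⟨e⟩ : Nonempty ((R.toDefSch.baseChange g).Iso R'.toDefSch) := Quotient.exact h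
  let φ : Spec (CommRingCat.of R'.E) ⟶ Spec (CommRingCat.of R.E) :=
    e.iso.inv ≫ pullback.fst R.toDefSch.f (specMap g)
  have hf : φ ≫ Spec.map (CommRingCat.ofHom R.toE) =
      Spec.map (CommRingCat.ofHom R'.toE) ≫ specMap g := by
    show (e.iso.inv ≫ pullback.fst R.toDefSch.f (specMap g)) ≫ R.toDefSch.f = R'.toDefSch.f ≫ _
    rw [Category.assoc, pullback.condition, ← Category.assoc]
    congr 1
    exact e.symm.hom_f
  have hi : Spec.map (CommRingCat.ofHom R'.pr) ≫ φ = Spec.map (CommRingCat.ofHom R.pr) := by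
    show R'.toDefSch.i ≫ e.iso.inv ≫ pullback.fst R.toDefSch.f (specMap g) = R.toDefSch.i
    rw [← Category.assoc]
    have h1 : R'.toDefSch.i ≫ e.iso.inv = (R.toDefSch.baseChange g).i := e.symm.i_hom
    rw [h1]
    exact DefSch.baseChange_i_fst _ g
  refine ⟨⟨(Spec.preimage φ).hom, fun a => ?_, fun x => ?_⟩⟩
  · have h1 : CommRingCat.ofHom R.toE ≫ Spec.preimage φ =
        CommRingCat.ofHom (g.toAlgHom : A →+* A') ≫ CommRingCat.ofHom R'.toE := by
      apply Spec.map_injective
      rw [Spec.map_comp, Spec.map_preimage, Spec.map_comp]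
      exact hf
    exact congrArg (fun f => f.hom a) h1
  · have h1 : Spec.preimage φ ≫ CommRingCat.ofHom R'.pr = CommRingCat.ofHom R.pr := by
      apply Spec.map_injective
      rw [Spec.map_comp, Spec.map_preimage]
      exact hi
    exact congrArg (fun f => f.hom x) h1

section Surj

variable {g : A ⟶ A'} {R : RDef B₀ A} {R' : RDef B₀ A'} (h : HomOver g R R')

include h in
theorem HomOver.surjective (hg : Function.Surjective g) : Function.Surjective h.hom := by
  letI : Algebra A R.E := R.toE.toAlgebra
  letI : Algebra A R'.E := (R'.toE.comp (g.toAlgHom : A →+* A')).toAlgebra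
  let ψ : R.E →ₐ[A] R'.E := { h.hom with commutes' := fun a => h.hom_toE a }
  have hψ : Function.Surjective ψ := by
    refine surjective_of_nilpotent (IsLocalRing.maximalIdeal A) ψ R'.pr R.pr
      (isNilpotent_maximalIdeal A) (fun y => h.pr_hom y) R.pr_surjective fun b hb => ?_
    rw [Ideal.smul_top_eq_map, Submodule.restrictScalars_mem]
    have h1 : algebraMap A R'.E = R'.toE.comp (g.toAlgHom : A →+* A') := rfl
    rw [h1, ← Ideal.map_map, map_maximalIdeal_of_surjective g hg, ← R'.ker_pr]
    exact hb
  exact hψ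

include h in
theorem HomOver.ker_hom (hg : Function.Surjective g) :
    RingHom.ker h.hom = (RingHom.ker (g.toAlgHom : A →+* A')).map R.toE := by
  set J : Ideal R.E := (RingHom.ker (g.toAlgHom : A →+* A')).map R.toE with hJ
  have hJle : J ≤ RingHom.ker h.hom := by
    rw [hJ, Ideal.map_le_iff_le_comap]
    intro a ha
    rw [Ideal.mem_comap, RingHom.mem_ker, h.hom_toE]
    have h0 : g a = 0 := ha
    rw [h0, map_zero]
  refine le_antisymm ?_ hJle
  -- the quotient `E ⧸ J` as an `A'`-algebra
  have hle1 : RingHom.ker (g.toAlgHom : A →+* A') ≤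
      RingHom.ker ((Ideal.Quotient.mk J).comp R.toE) := by
    intro a ha
    rw [RingHom.mem_ker, RingHom.comp_apply, Ideal.Quotient.eq_zero_iff_mem]
    exact Ideal.mem_map_of_mem _ ha
  let toQ : A' →+* R.E ⧸ J :=
    RingHom.liftOfSurjective (g.toAlgHom : A →+* A') hg ⟨(Ideal.Quotient.mk J).comp R.toE, hle1⟩
  have htoQ : ∀ a, toQ (g a) = Ideal.Quotient.mk J (R.toE a) := fun a =>
    RingHom.liftOfSurjective_comp_apply (g.toAlgHom : A →+* A') hg ⟨_, hle1⟩ a
  letI : Algebra A' (R.E ⧸ J) := toQ.toAlgebra
  letI : Algebra A' R'.E := R'.toE.toAlgebra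
  haveI : Module.Flat A' R'.E := R'.flat
  let ψr : (R.E ⧸ J) →+* R'.E := Ideal.Quotient.lift J h.hom (fun x hx => hJle hx)
  let ψ : (R.E ⧸ J) →ₐ[A'] R'.E :=
    { ψr with
      commutes' := fun a' => by
        obtain ⟨a, rfl⟩ := hg a'
        show ψr (toQ (g a)) = R'.toE (g a)
        rw [htoQ]
        exact h.hom_toE a }
  have hkerg : RingHom.ker (g.toAlgHom : A →+* A') ≤ IsLocalRing.maximalIdeal A :=
    art_ker_le_maximalIdeal g
  have hJpr : J ≤ RingHom.ker R.pr := by
    rw [R.ker_pr, hJ]
    exact Ideal.map_mono hkerg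
  let π' : (R.E ⧸ J) →+* B₀ := Ideal.Quotient.lift J R.pr (fun x hx => hJpr hx)
  have hinj : Function.Injective ψ := by
    refine injective_of_nilpotent (IsLocalRing.maximalIdeal A') ψ R'.pr π'
      (isNilpotent_maximalIdeal A') ?_ ?_ ?_
    · intro y
      obtain ⟨x, rfl⟩ := Ideal.Quotient.mk_surjective y
      exact h.pr_hom x
    · intro y
      obtain ⟨x, hx⟩ := h.surjective hg y
      exact ⟨Ideal.Quotient.mk J x, hx⟩
    · intro y hy
      obtain ⟨x, rfl⟩ := Ideal.Quotient.mk_surjective y
      have h1 : x ∈ RingHom.ker R.pr := hy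
      rw [R.ker_pr] at h1
      have h2 : algebraMap A' (R.E ⧸ J) = toQ := rfl
      rw [h2, ← map_maximalIdeal_of_surjective g hg, Ideal.map_map]
      have h3 : toQ.comp (g.toAlgHom : A →+* A') = (Ideal.Quotient.mk J).comp R.toE := by
        ext a
        exact htoQ a
      rw [h3, ← Ideal.map_map]
      exact Ideal.mem_map_of_mem _ h1
  intro x hx
  have h1 : ψ (Ideal.Quotient.mk J x) = 0 := hx
  have h2 : Ideal.Quotient.mk J x = 0 := hinj (by rw [h1, map_zero])
  exact Ideal.Quotient.eq_zero_iff_mem.mp h2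

end Surj

/-- a flat lift of a ring-level deformation along a surjection of the base -/
noncomputable def ofLift (g : A' ⟶ A) (R : RDef B₀ A) {E' : Type u}
    [CommRing E'] (toE' : A' →+* E') (hflat : toE'.Flat) (q : E' →+* R.E)
    (hq : Function.Surjective q) (hqt : ∀ a, q (toE' a) = R.toE (g a))
    (hker : RingHom.ker q = (RingHom.ker (g.toAlgHom : A' →+* A)).map toE')
    (hg : Function.Surjective g) : RDef B₀ A' where
  E := E'
  toE := toE'
  flat := hflat
  pr := R.pr.comp q
  pr_toE := fun b => by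
    show R.pr (q (toE' b)) = _
    rw [hqt b, R.pr_toE]
    exact congrArg _ (Art.res_app g b)
  pr_surjective := R.pr_surjective.comp hq
  ker_pr := by
    rw [← RingHom.comap_ker, R.ker_pr, ← map_maximalIdeal_of_surjective g hg, Ideal.map_map]
    have h1 : R.toE.comp (g.toAlgHom : A' →+* A) = q.comp toE' := by
      ext b
      exact (hqt b).symm
    rw [h1, ← Ideal.map_map, Ideal.comap_map_of_surjective q hq, ← RingHom.ker_eq_comap_bot,
      hker, ← Ideal.map_sup]
    congr 1
    exact sup_eq_left.mpr (art_ker_le_maximalIdeal g)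

/-- the canonical morphism from a flat lift -/
noncomputable def ofLiftHom (g : A' ⟶ A) (R : RDef B₀ A) {E' : Type u}
    [CommRing E'] (toE' : A' →+* E') (hflat : toE'.Flat) (q : E' →+* R.E)
    (hq : Function.Surjective q) (hqt : ∀ a, q (toE' a) = R.toE (g a))
    (hker : RingHom.ker q = (RingHom.ker (g.toAlgHom : A' →+* A)).map toE')
    (hg : Function.Surjective g) : HomOver g (ofLift g R toE' hflat q hq hqt hker hg) R where
  hom := q
  hom_toE := hqt
  pr_hom := fun _ => rfl

end RDef

end Groth.Agent.H6.DefAff
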