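import Mathlib
import Groth.Agent.Lib.Helper1.FlatNilpotent

/-!
# Flatness over a small extension (helper6)
-/

set_option autoImplicit false
universe u
open TensorProduct

namespace Groth.Agent.H6.LciDef

/-- flatness criterion along a surjection `p : A' → A` with principal square-zero kernel `(t)`
killed by `𝔪` -/
theorem flat_of_smallExt {A' A E' E : Type u} [CommRing A'] [CommRing A] [CommRing E']
    [CommRing E] (p : A' →+* A) (hp : Function.Surjective p) (t : A')
    (ht : RingHom.ker p = Ideal.span {t}) (𝔪 : Ideal A') (h𝔪 : ∀ a ∈ 𝔪, a * t = 0)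
    (htt : t * t = 0)
    (toE' : A' →+* E') (toE : A →+* E) (hflat : toE.Flat)
    (q : E' →+* E) (hq : Function.Surjective q) (hqt : ∀ a, q (toE' a) = toE (p a))
    (hker : RingHom.ker q = Ideal.span {toE' t})
    (hann : ∀ e : E', toE' t * e = 0 → e ∈ 𝔪.map toE') : toE'.Flat := by
  letI : Algebra A' E' := toE'.toAlgebra
  show Module.Flat A' E'
  set J : Ideal A' := RingHom.ker p with hJ
  have hJnil : IsNilpotent J := by
    refine ⟨2, ?_⟩
    rw [ht, Ideal.span_singleton_pow, pow_two, htt, Ideal.zero_eq_bot]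
    exact Ideal.span_singleton_eq_bot.mpr rfl
  -- flatness modulo `J`
  have hJmap : J.map (algebraMap A' E') = RingHom.ker q := by
    rw [hker, ht, Ideal.map_span, Set.image_singleton]
    rfl
  let pbar : A' ⧸ J ≃+* A := RingHom.quotientKerEquivOfSurjective hp
  let ε : E' ⧸ J.map (algebraMap A' E') ≃+* E :=
    (Ideal.quotEquivOfEq hJmap).trans (RingHom.quotientKerEquivOfSurjective hq)
  have hfac : algebraMap (A' ⧸ J) (E' ⧸ J.map (algebraMap A' E')) =
      (ε.symm.toRingHom.comp toE).comp pbar.toRingHom := by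
    apply Ideal.Quotient.ringHom_ext
    ext a
    show Ideal.Quotient.mk _ (toE' a) = ε.symm (toE (pbar (Ideal.Quotient.mk J a)))
    rw [RingEquiv.eq_symm_apply]
    show q (toE' a) = toE (p a)
    exact hqt a
  have hquot : Module.Flat (A' ⧸ J) (E' ⧸ J.map (algebraMap A' E')) := by
    rw [← RingHom.flat_algebraMap_iff, hfac]
    exact RingHom.Flat.comp (RingHom.Flat.of_bijective pbar.bijective)
      (RingHom.Flat.comp hflat (RingHom.Flat.of_bijective ε.symm.bijective))
  haveI : Module.Flat (A' ⧸ J) ((A' ⧸ J) ⊗[A'] E') :=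
    Module.Flat.of_linearEquiv
      (Algebra.TensorProduct.quotIdealMapEquivQuotTensor E' J).symm.toLinearEquiv
  refine H1.flat_of_isNilpotent_of_flat_quotient J hJnil ?_
  rw [injective_iff_map_eq_zero]
  intro x hx
  have htJ : t ∈ J := by rw [ht]; exact Ideal.subset_span rfl
  have key : ∀ x : J ⊗[A'] E', ∃ e : E', x = (⟨t, htJ⟩ : J) ⊗ₜ e := by
    intro x
    induction x using TensorProduct.induction_on with
    | zero => exact ⟨0, (tmul_zero _ _).symm⟩
    | tmul j e =>
      have hj : (j : A') ∈ Ideal.span {t} := ht ▸ j.2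
      obtain ⟨c, hc⟩ := Ideal.mem_span_singleton'.mp hj
      refine ⟨c • e, ?_⟩
      have h1 : j = c • (⟨t, htJ⟩ : J) := Subtype.ext hc.symm
      rw [h1, TensorProduct.smul_tmul]
    | add x y hx hy =>
      obtain ⟨e, rfl⟩ := hx
      obtain ⟨e', rfl⟩ := hy
      exact ⟨e + e', (tmul_add _ _ _).symm⟩
  obtain ⟨e, rfl⟩ := key x
  have h1 : t • e = 0 := by
    have h2 := congrArg (TensorProduct.lid A' E') hx
    rwa [LinearMap.rTensor_tmul, Submodule.subtype_apply, TensorProduct.lid_tmul, map_zero] at h2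
  have h3 : e ∈ 𝔪.map toE' := hann e (by rwa [Algebra.smul_def] at h1)
  have h3' : e ∈ (𝔪 • ⊤ : Submodule A' E') := by
    have h5 := Ideal.smul_top_eq_map (R := A') (S := E') 𝔪
    have h6 : e ∈ (𝔪.map (algebraMap A' E')).restrictScalars A' := h3
    rw [← h5] at h6
    exact h6
  refine Submodule.smul_induction_on h3' ?_ ?_
  · intro a ha x _
    rw [← TensorProduct.smul_tmul]
    have h6 : a • (⟨t, htJ⟩ : J) = 0 := Subtype.ext (h𝔪 a ha)
    rw [h6, zero_tmul]
  · intro x y hx hy
    rw [tmul_add, hx, hy, add_zero]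

end Groth.Agent.H6.LciDef
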