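import Mathlib
import Groth.Prelude.Def_ArtFun4
import Groth.Agent.Lib.Helper6.DefGlue1
import Groth.Agent.Lib.Helper6.DefAff1
import Groth.Agent.Lib.Helper6.LciDef1

/-!
# Gluing ring-level deformations along a fibre product of Artin rings (helper6)
-/

set_option autoImplicit false
universe u
open CategoryTheory CategoryTheory.Limits AlgebraicGeometry ArtFun ArtFun.Art

namespace Groth.Agent.H6.DefAff

variable {Λ k : Type u} [CommRing Λ] [Field k] [Algebra Λ k]
variable {B₀ : Type u} [CommRing B₀] [Algebra k B₀]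

namespace RDef

section Glue

variable {B A A' A'' : Art Λ k} {p' : B ⟶ A'} {p'' : B ⟶ A''} {f' : A' ⟶ A} {f'' : A'' ⟶ A}
  {R' : RDef B₀ A'} {R'' : RDef B₀ A''} {R : RDef B₀ A}

/-- the glued ring `E' ×_E E''` -/
def glueRing (h' : HomOver f' R' R) (h'' : HomOver f'' R'' R) : Subring (R'.E × R''.E) :=
  RingHom.eqLocus (h'.hom.comp (RingHom.fst R'.E R''.E)) (h''.hom.comp (RingHom.snd R'.E R''.E))

theorem mem_glueRing (h' : HomOver f' R' R) (h'' : HomOver f'' R'' R) (z : R'.E × R''.E) :
    z ∈ glueRing h' h'' ↔ h'.hom z.1 = h''.hom z.2 := Iff.rfl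

/-- gluing deformations over `A'` and `A''` which agree over `A`, when `A'' → A` is a small
extension -/
theorem exists_glue (hfp : IsFibreProd p' p'' f' f'') (hsm : IsSmallExt f'')
    (h' : HomOver f' R' R) (h'' : HomOver f'' R'' R) :
    ∃ (Rt : RDef B₀ B) (g' : HomOver p' Rt R') (g'' : HomOver p'' Rt R''),
      (∀ z, h'.hom (g'.hom z) = h''.hom (g''.hom z)) ∧
      (∀ x' x'', h'.hom x' = h''.hom x'' → ∃ z, g'.hom z = x' ∧ g''.hom z = x'') ∧
      (∀ z z', g'.hom z = g'.hom z' → g''.hom z = g''.hom z' → z = z') ∧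
      (∀ (R₁ : RDef B₀ B) (k' : HomOver p' R₁ R') (k'' : HomOver p'' R₁ R''),
        (∀ z, h'.hom (k'.hom z) = h''.hom (k''.hom z)) → Nonempty (Hom R₁ Rt)) := by
  classical
  obtain ⟨hsurj, hne, ⟨t'', ht''⟩, hkill⟩ := hsm
  have ht''ker : t'' ∈ RingHom.ker f''.toAlgHom := by
    rw [ht'']; exact Submodule.mem_span_singleton_self t''
  have ht''0 : f'' t'' = 0 := ht''ker
  have ht''ne : t'' ≠ 0 := by
    intro h0
    apply hne
    rw [ht'', h0]
    exact Ideal.span_singleton_eq_bot.mpr rfl
  have hkill' : ∀ a ∈ IsLocalRing.maximalIdeal A'', a * t'' = 0 := by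
    intro a ha
    have : a * t'' ∈ IsLocalRing.maximalIdeal A'' * RingHom.ker f''.toAlgHom :=
      Ideal.mul_mem_mul ha ht''ker
    rwa [hkill] at this
  obtain ⟨τ, hτ1, hτ2⟩ := hfp.surj 0 t'' (by
    change f'.toAlgHom 0 = f'' t''
    rw [map_zero, ht''0])
  have hp'surj : Function.Surjective p' := by
    intro a'
    obtain ⟨a'', ha''⟩ := hsurj (f' a')
    obtain ⟨b, hb, -⟩ := hfp.surj a' a'' ha''.symm
    exact ⟨b, hb⟩
  have hτm : τ ∈ IsLocalRing.maximalIdeal B := by
    rw [Art.mem_maximalIdeal_iff, ← Art.res_app p', hτ1]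
    exact map_zero _
  have hmτ : ∀ b ∈ IsLocalRing.maximalIdeal B, b * τ = 0 := by
    intro b hb
    apply hfp.inj
    · show p'.toAlgHom (b * τ) = p'.toAlgHom 0
      rw [map_mul, map_zero]
      have : p'.toAlgHom τ = 0 := hτ1
      rw [this, mul_zero]
    · show p''.toAlgHom (b * τ) = p''.toAlgHom 0
      rw [map_mul, map_zero]
      have h1 : p''.toAlgHom τ = t'' := hτ2
      rw [h1]
      exact hkill' _ (art_hom_mem_maximalIdeal p'' hb)
  have hkerp' : RingHom.ker (p'.toAlgHom : B →+* A') = Ideal.span {τ} := by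
    apply le_antisymm
    · intro b hb
      have hb0 : p' b = 0 := hb
      have h1 : p'' b ∈ RingHom.ker f''.toAlgHom := by
        rw [RingHom.mem_ker]
        change f'' (p'' b) = 0
        rw [← hfp.w_apply, hb0]
        exact map_zero f'.toAlgHom
      rw [ht''] at h1
      obtain ⟨c, hc⟩ := Ideal.mem_span_singleton'.mp h1
      obtain ⟨b₁, hb₁⟩ := B.res_surjective (A''.res c)
      have h2 : c - p'' b₁ ∈ IsLocalRing.maximalIdeal A'' := by
        rw [Art.mem_maximalIdeal_iff, map_sub, Art.res_app, hb₁, sub_self]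
      have h3 : (c - p'' b₁) * t'' = 0 := hkill' _ h2
      have h4 : c * t'' = p'' b₁ * t'' := by
        rw [sub_mul, sub_eq_zero] at h3
        exact h3
      have h5 : b = b₁ * τ := by
        apply hfp.inj
        · show p' b = p'.toAlgHom (b₁ * τ)
          rw [map_mul]
          have : p'.toAlgHom τ = 0 := hτ1
          rw [this, mul_zero, hb0]
        · show p'' b = p''.toAlgHom (b₁ * τ)
          rw [map_mul]
          have h6 : p''.toAlgHom τ = t'' := hτ2
          rw [h6, ← hc, h4]
      rw [h5]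
      exact Ideal.mul_mem_left _ _ (Ideal.subset_span rfl)
    · rw [Ideal.span_le, Set.singleton_subset_iff]
      exact hτ1
  -- the glued ring
  let G : Subring (R'.E × R''.E) := glueRing h' h''
  have hGmem : ∀ z : R'.E × R''.E, z ∈ G ↔ h'.hom z.1 = h''.hom z.2 := fun z => Iff.rfl
  let toG : B →+* G := RingHom.codRestrict
    ((R'.toE.comp (p'.toAlgHom : B →+* A')).prod (R''.toE.comp (p''.toAlgHom : B →+* A''))) G
    (fun b => by
      rw [hGmem]
      show h'.hom (R'.toE (p' b)) = h''.hom (R''.toE (p'' b))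
      rw [h'.hom_toE, h''.hom_toE, hfp.w_apply])
  let q' : G →+* R'.E := (RingHom.fst R'.E R''.E).comp G.subtype
  let q'' : G →+* R''.E := (RingHom.snd R'.E R''.E).comp G.subtype
  have hq'toG : ∀ b, q' (toG b) = R'.toE (p' b) := fun b => rfl
  have hq''toG : ∀ b, q'' (toG b) = R''.toE (p'' b) := fun b => rfl
  have hcompat : ∀ z : G, h'.hom (q' z) = h''.hom (q'' z) := fun z => z.2
  have hGext : ∀ z z' : G, q' z = q' z' → q'' z = q'' z' → z = z' := by
    intro z z' h1 h2
    exact Subtype.ext (Prod.ext h1 h2)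
  have hmkG : ∀ x' x'', h'.hom x' = h''.hom x'' → ∃ z : G, q' z = x' ∧ q'' z = x'' :=
    fun x' x'' hx => ⟨⟨(x', x''), hx⟩, rfl, rfl⟩
  have hh''surj : Function.Surjective h''.hom := h''.surjective hsurj
  have hq'surj : Function.Surjective q' := by
    intro x'
    obtain ⟨x'', hx''⟩ := hh''surj (h'.hom x')
    obtain ⟨z, hz, -⟩ := hmkG x' x'' hx''.symm
    exact ⟨z, hz⟩
  have hprcompat : ∀ z : G, R'.pr (q' z) = R''.pr (q'' z) := by
    intro z
    rw [← h'.pr_hom, ← h''.pr_hom, hcompat z]
  -- multiplication by `t''` kills `m'' E''`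
  have htm'' : ∀ e ∈ (IsLocalRing.maximalIdeal A'').map R''.toE, R''.toE t'' * e = 0 := by
    intro e he
    refine Submodule.span_induction (p := fun e _ => R''.toE t'' * e = 0) ?_ ?_ ?_ ?_ he
    · rintro _ ⟨a, ha, rfl⟩
      rw [← map_mul, mul_comm, hkill' a ha, map_zero]
    · exact mul_zero _
    · intro x y _ _ hx hy
      rw [mul_add, hx, hy, add_zero]
    · intro c x _ hx
      rw [smul_eq_mul, mul_left_comm, hx, mul_zero]
  have hkerh'' : RingHom.ker h''.hom = Ideal.span {R''.toE t''} := by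
    rw [h''.ker_hom hsurj]
    have : RingHom.ker (f''.toAlgHom : A'' →+* A) = Ideal.span {t''} := ht''
    rw [this, Ideal.map_span, Set.image_singleton]
  have hτG : ∀ z : G, q' (toG τ * z) = 0 ∧ q'' (toG τ * z) = R''.toE t'' * q'' z := by
    intro z
    constructor
    · rw [map_mul, hq'toG, hτ1, map_zero, zero_mul]
    · rw [map_mul, hq''toG, hτ2]
  have hkerq' : RingHom.ker q' = Ideal.span {toG τ} := by
    apply le_antisymm
    · intro z hz
      have hz0 : q' z = 0 := hz
      have h1 : q'' z ∈ RingHom.ker h''.hom := by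
        rw [RingHom.mem_ker, ← hcompat z, hz0, map_zero]
      rw [hkerh''] at h1
      obtain ⟨y'', hy''⟩ := Ideal.mem_span_singleton'.mp h1
      obtain ⟨x', hx'⟩ := R'.pr_surjective (R''.pr y'')
      obtain ⟨w'', hw''⟩ := hh''surj (h'.hom x')
      obtain ⟨w, hw1, hw2⟩ := hmkG x' w'' hw''.symm
      have h2 : R''.pr w'' = R''.pr y'' := by
        rw [← h''.pr_hom, hw'', h'.pr_hom, hx']
      have h3 : w'' - y'' ∈ (IsLocalRing.maximalIdeal A'').map R''.toE := by
        rw [← R''.ker_pr, RingHom.mem_ker, map_sub, h2, sub_self]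
      have h4 : R''.toE t'' * w'' = R''.toE t'' * y'' := by
        have := htm'' _ h3
        rw [mul_sub, sub_eq_zero] at this
        exact this
      have h5 : z = toG τ * w := by
        apply hGext
        · rw [(hτG w).1, hz0]
        · rw [(hτG w).2, hw2, h4, mul_comm, hy'']
      rw [h5]
      exact Ideal.mul_mem_right _ _ (Ideal.subset_span rfl)
    · rw [Ideal.span_le, Set.singleton_subset_iff, SetLike.mem_coe, RingHom.mem_ker, hq'toG, hτ1,
        map_zero]
  have hmB : (IsLocalRing.maximalIdeal B).map (p'.toAlgHom : B →+* A') =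
      IsLocalRing.maximalIdeal A' := map_maximalIdeal_of_surjective p' hp'surj
  have hann : ∀ z : G, toG τ * z = 0 → z ∈ (IsLocalRing.maximalIdeal B).map toG := by
    intro z hz
    have h1 : R''.toE t'' * q'' z = 0 := by
      rw [← (hτG z).2, hz, map_zero]
    -- flatness of `E''`
    letI : Algebra A'' R''.E := R''.toE.toAlgebra
    haveI : Module.Flat A'' R''.E := R''.flat
    have h2 : q'' z ∈ (IsLocalRing.maximalIdeal A'').map (algebraMap A'' R''.E) := by
      refine mem_map_of_mul_mem (n := 0) (fun i => i.elim0) t'' (IsLocalRing.maximalIdeal A'')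
        ?_ (q'' z) ?_
      · intro a ha
        have h3 : Ideal.span (Set.range (fun i : Fin 0 => (i.elim0 : A''))) = ⊥ := by
          rw [Ideal.span_eq_bot]
          rintro _ ⟨i, -⟩
          exact i.elim0
        rw [h3, Ideal.mem_bot] at ha
        by_contra hna
        have hu : IsUnit a := by
          by_contra hnu
          exact hna ((IsLocalRing.mem_maximalIdeal a).mpr hnu)
        exact ht''ne ((hu.mul_right_eq_zero).mp ha)
      · have h4 : algebraMap A'' R''.E t'' * q'' z = 0 := h1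
        rw [h4]
        exact Ideal.zero_mem _
    have h3 : R''.pr (q'' z) = 0 := by
      have : q'' z ∈ RingHom.ker R''.pr := by rw [R''.ker_pr]; exact h2
      exact this
    have h4 : q' z ∈ (IsLocalRing.maximalIdeal A').map R'.toE := by
      rw [← R'.ker_pr, RingHom.mem_ker, hprcompat z, h3]
    have h5 : (IsLocalRing.maximalIdeal A').map R'.toE =
        ((IsLocalRing.maximalIdeal B).map toG).map q' := by
      rw [← hmB, Ideal.map_map, Ideal.map_map]
      rfl
    rw [h5] at h4
    obtain ⟨w, hw, hwz⟩ := (Ideal.mem_map_iff_of_surjective q' hq'surj).mp h4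
    have h6 : z - w ∈ RingHom.ker q' := by
      rw [RingHom.mem_ker, map_sub, hwz, sub_self]
    rw [hkerq'] at h6
    have h7 : Ideal.span {toG τ} ≤ (IsLocalRing.maximalIdeal B).map toG := by
      rw [Ideal.span_le, Set.singleton_subset_iff]
      exact Ideal.mem_map_of_mem _ hτm
    have h8 : z = (z - w) + w := by ring
    rw [h8]
    exact Ideal.add_mem _ (h7 h6) hw
  have hflat : toG.Flat :=
    LciDef.flat_of_smallExt (p'.toAlgHom : B →+* A') hp'surj τ hkerp'
      (IsLocalRing.maximalIdeal B) hmτ (hmτ τ hτm) toG R'.toE R'.flat q' hq'surj hq'toG hkerq' hann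
  have hkerq'2 : RingHom.ker q' = (RingHom.ker (p'.toAlgHom : B →+* A')).map toG := by
    rw [hkerq', hkerp', Ideal.map_span, Set.image_singleton]
  let Rt : RDef B₀ B := ofLift p' R' toG hflat q' hq'surj hq'toG hkerq'2 hp'surj
  let g' : HomOver p' Rt R' := ofLiftHom p' R' toG hflat q' hq'surj hq'toG hkerq'2 hp'surj
  let g'' : HomOver p'' Rt R'' :=
    { hom := q''
      hom_toE := hq''toG
      pr_hom := fun z => (hprcompat z).symm }
  refine ⟨Rt, g', g'', hcompat, hmkG, hGext, ?_⟩
  intro R₁ k' k'' hk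
  let θ : R₁.E →+* G := RingHom.codRestrict (k'.hom.prod k''.hom) G (fun z => hk z)
  refine ⟨⟨θ, fun b => ?_, fun z => ?_⟩⟩
  · apply hGext
    · show k'.hom (R₁.toE b) = R'.toE (p' b)
      exact k'.hom_toE b
    · show k''.hom (R₁.toE b) = R''.toE (p'' b)
      exact k''.hom_toE b
  · show R'.pr (k'.hom z) = R₁.pr z
    exact k'.pr_hom z

end Glue

end RDef

end Groth.Agent.H6.DefAff
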