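import Mathlib
import Groth.Prelude.Def_ArtFun4
import Groth.Agent.Lib.Helper6.DefGlue2
import Groth.Agent.Lib.Helper6.ArtFunDelta

/-!
# Schlessinger's conditions `H0`, `H̄`, `H_ε` for the deformation functor of an affine scheme
(helper6)
-/

set_option autoImplicit false
universe u
open CategoryTheory CategoryTheory.Limits AlgebraicGeometry ArtFun ArtFun.Art

namespace Groth.Agent.H6.DefAff

variable (Λ k : Type u) [CommRing Λ] [Field k] [Algebra Λ k]
variable (B₀ : Type u) [CommRing B₀] [Algebra k B₀]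

/-- the deformation functor of `Spec B₀` -/
noncomputable abbrev DefF : Art Λ k ⥤ Type (u + 1) :=
  ArtFun.defFunctor (Λ := Λ) (Spec (CommRingCat.of B₀))
    (Spec.map (CommRingCat.ofHom (algebraMap k B₀)))

namespace RDef

/-- `B₀` itself as a deformation over the base -/
noncomputable def self : RDef B₀ (Art.base Λ k) where
  E := B₀
  toE := algebraMap k B₀
  flat := (RingHom.flat_algebraMap_iff (R := k) (S := B₀)).mpr inferInstance
  pr := RingHom.id B₀
  pr_toE := fun _ => rfl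
  pr_surjective := Function.surjective_id
  ker_pr := by
    have h1 : IsLocalRing.maximalIdeal (Art.base Λ k) = ⊥ :=
      (IsLocalRing.maximalIdeal_eq_bot : IsLocalRing.maximalIdeal k = ⊥)
    rw [h1, Ideal.map_bot]
    exact (RingHom.injective_iff_ker_eq_bot _).mp Function.injective_id

variable {Λ k B₀}

/-- every deformation maps to the closed fibre -/
noncomputable def toSelf {A : Art Λ k} (R : RDef B₀ A) : HomOver (Art.toBase A) R (self Λ k B₀) where
  hom := R.pr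
  hom_toE := fun a => R.pr_toE a
  pr_hom := fun _ => rfl

theorem cl_eq_of_hom {A : Art Λ k} {R R' : RDef B₀ A} (h : RDef.Hom R R') :
    R'.toDefSch.cl = R.toDefSch.cl := by
  obtain ⟨e⟩ := h.nonempty_iso
  exact Quotient.sound ⟨e⟩

end RDef

open RDef

theorem defF_h0 : H0 (DefF Λ k B₀) := by
  refine ⟨⟨(RDef.self Λ k B₀).toDefSch.cl⟩, ⟨fun q q' => ?_⟩⟩
  have key : ∀ q : (DefF Λ k B₀).obj (Art.base Λ k), q = (RDef.self Λ k B₀).toDefSch.cl := by
    intro q
    obtain ⟨R, rfl⟩ := RDef.exists_cl_eq q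
    have h : RDef.Hom R (RDef.self Λ k B₀) :=
      { hom := R.pr
        hom_toE := fun a => R.pr_toE a
        pr_hom := fun _ => rfl }
    exact (cl_eq_of_hom h).symm
  rw [key q, key q']

theorem defF_hbar : Hbar (DefF Λ k B₀) := by
  intro B A A' A'' p' p'' f' f'' hfp hsm
  rintro ⟨⟨x', x''⟩, hx⟩
  obtain ⟨R', rfl⟩ := RDef.exists_cl_eq x'
  obtain ⟨R'', rfl⟩ := RDef.exists_cl_eq x''
  obtain ⟨R, hR⟩ := RDef.exists_cl_eq ((DefF Λ k B₀).map f' R'.toDefSch.cl)
  obtain ⟨h'⟩ := RDef.nonempty_homOver_of_map_cl (g := f') (R := R') (R' := R) hR.symm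
  have hx' : (DefF Λ k B₀).map f'' R''.toDefSch.cl = R.toDefSch.cl := by
    rw [hR]
    exact hx.symm
  obtain ⟨h''⟩ := RDef.nonempty_homOver_of_map_cl (g := f'') (R := R'') (R' := R) hx'
  obtain ⟨Rt, g', g'', -, -, -, -⟩ := RDef.exists_glue hfp hsm h' h''
  refine ⟨Rt.toDefSch.cl, ?_⟩
  apply FibProd.ext
  · exact g'.map_cl
  · exact g''.map_cl

theorem defF_heps : Heps (DefF Λ k B₀) := by
  intro B A' p' p'' hfp
  constructor
  · intro z₁ z₂ hz
    obtain ⟨R₁, rfl⟩ := RDef.exists_cl_eq z₁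
    obtain ⟨R₂, rfl⟩ := RDef.exists_cl_eq z₂
    obtain ⟨R', hR'⟩ := RDef.exists_cl_eq ((DefF Λ k B₀).map p' R₁.toDefSch.cl)
    obtain ⟨R'', hR''⟩ := RDef.exists_cl_eq ((DefF Λ k B₀).map p'' R₁.toDefSch.cl)
    have hz1 : (DefF Λ k B₀).map p' R₁.toDefSch.cl = (DefF Λ k B₀).map p' R₂.toDefSch.cl :=
      congrArg (fun w => w.1.1) hz
    have hz2 : (DefF Λ k B₀).map p'' R₁.toDefSch.cl = (DefF Λ k B₀).map p'' R₂.toDefSch.cl :=
      congrArg (fun w => w.1.2) hz
    obtain ⟨k'₁⟩ := RDef.nonempty_homOver_of_map_cl (g := p') (R := R₁) (R' := R') hR'.symm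
    obtain ⟨k''₁⟩ := RDef.nonempty_homOver_of_map_cl (g := p'') (R := R₁) (R' := R'') hR''.symm
    obtain ⟨k'₂⟩ := RDef.nonempty_homOver_of_map_cl (g := p') (R := R₂) (R' := R')
      (hz1.symm.trans hR'.symm)
    obtain ⟨k''₂⟩ := RDef.nonempty_homOver_of_map_cl (g := p'') (R := R₂) (R' := R'')
      (hz2.symm.trans hR''.symm)
    obtain ⟨Rt, g', g'', -, -, -, huniv⟩ :=
      RDef.exists_glue hfp isSmallExt_toBase_dual (RDef.toSelf R') (RDef.toSelf R'')
    obtain ⟨m₁⟩ := huniv R₁ k'₁ k''₁ (fun z => by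
      show R'.pr (k'₁.hom z) = R''.pr (k''₁.hom z)
      rw [k'₁.pr_hom, k''₁.pr_hom])
    obtain ⟨m₂⟩ := huniv R₂ k'₂ k''₂ (fun z => by
      show R'.pr (k'₂.hom z) = R''.pr (k''₂.hom z)
      rw [k'₂.pr_hom, k''₂.pr_hom])
    exact (cl_eq_of_hom m₁).symm.trans (cl_eq_of_hom m₂)
  · exact defF_hbar Λ k B₀ p' p'' _ _ hfp isSmallExt_toBase_dual

end Groth.Agent.H6.DefAff
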