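import Mathlib
import Groth.Prelude.Def_ArtFun4
import Groth.Agent.Lib.Helper6.DefGlue3
import Groth.Agent.Lib.Helper6.DefAff7

/-!
# First-order deformations of an affine scheme over a general base `Λ`: comparison with extensions
(helper6)
-/

set_option autoImplicit false
universe u
open CategoryTheory CategoryTheory.Limits AlgebraicGeometry ArtFun ArtFun.Art

namespace Groth.Agent.H6.DefAff

variable {Λ k : Type u} [CommRing Λ] [Field k] [Algebra Λ k]
variable {B₀ : Type u} [CommRing B₀] [Algebra k B₀]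

namespace RDef

/-- forget the `Λ`-structure of the dual numbers -/
def toK (R : RDef B₀ (Art.dual Λ k)) : RDef B₀ (Art.dual k k : Art k k) where
  E := R.E
  toE := R.toE
  flat := R.flat
  pr := R.pr
  pr_toE := R.pr_toE
  pr_surjective := R.pr_surjective
  ker_pr := R.ker_pr

variable (Λ) in
/-- remember the `Λ`-structure of the dual numbers -/
def ofK (R : RDef B₀ (Art.dual k k : Art k k)) : RDef B₀ (Art.dual Λ k) where
  E := R.E
  toE := R.toE
  flat := R.flat
  pr := R.pr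
  pr_toE := R.pr_toE
  pr_surjective := R.pr_surjective
  ker_pr := R.ker_pr

variable (Λ) in
/-- transport of morphisms -/
def Hom.ofK {R R' : RDef B₀ (Art.dual k k : Art k k)} (h : RDef.Hom R R') :
    RDef.Hom (RDef.ofK Λ R) (RDef.ofK Λ R') where
  hom := h.hom
  hom_toE := h.hom_toE
  pr_hom := h.pr_hom

/-- `ofK (toK R)` is `R` -/
def homOfKToK (R : RDef B₀ (Art.dual Λ k)) : RDef.Hom R (RDef.ofK Λ (toK R)) where
  hom := RingHom.id R.E
  hom_toE := fun _ => rfl
  pr_hom := fun _ => rfl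

end RDef

open ExalT1

variable {ι : Type u} (P : Algebra.Generators k B₀ ι)

variable (Λ) in
/-- the first-order deformation attached to a map out of the conormal module -/
noncomputable def betaPre (φ : P.toExtension.Cotangent →ₗ[B₀] B₀) :
    TangentSpace (DefF Λ k B₀) :=
  (RDef.ofK Λ (ExtDual.rdef (Xof φ))).toDefSch.cl

variable {P}

theorem betaPre_eq_of_lift (R : RDef B₀ (Art.dual Λ k)) (l : Lift P (ExtDual.ext (RDef.toK R))) :
    betaPre Λ P l.phi = R.toDefSch.cl := by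
  have h1 : RDef.Hom (RDef.ofK Λ (ExtDual.rdef (Xof l.phi)))
      (RDef.ofK Λ (ExtDual.rdef (ExtDual.ext (RDef.toK R)))) :=
    RDef.Hom.ofK Λ (ExtDual.homOfEquiv l.equivXof)
  have h2 : RDef.Hom (RDef.ofK Λ (RDef.toK R))
      (RDef.ofK Λ (ExtDual.rdef (ExtDual.ext (RDef.toK R)))) :=
    RDef.Hom.ofK Λ (ExtDual.homExt (RDef.toK R))
  have h3 := RDef.homOfKToK R
  show (RDef.ofK Λ (ExtDual.rdef (Xof l.phi))).toDefSch.cl = _
  rw [← RDef.cl_eq_of_hom h1, RDef.cl_eq_of_hom h2, RDef.cl_eq_of_hom h3]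

theorem betaPre_surjective (q : TangentSpace (DefF Λ k B₀)) :
    ∃ φ : P.toExtension.Cotangent →ₗ[B₀] B₀, betaPre Λ P φ = q := by
  obtain ⟨R, rfl⟩ := RDef.exists_cl_eq (Λ := Λ) (B₀ := B₀) (A := Art.dual Λ k) q
  obtain ⟨l⟩ := exists_lift (P := P) (ExtDual.ext (RDef.toK R))
  exact ⟨l.phi, betaPre_eq_of_lift R l⟩

theorem betaPre_eq_of_sub_mem {φ φ' : P.toExtension.Cotangent →ₗ[B₀] B₀}
    (h : φ - φ' ∈ LinearMap.range (LinearMap.lcomp B₀ B₀ P.toExtension.cotangentComplex)) :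
    betaPre Λ P φ = betaPre Λ P φ' := by
  have h1 := cl_Xof_eq_of_sub_mem P B₀ h
  obtain ⟨e⟩ : Nonempty (Exal.Ext.Equiv (Xof φ) (Xof φ')) := Quotient.exact h1
  exact (RDef.cl_eq_of_hom (RDef.Hom.ofK Λ (ExtDual.homOfEquiv e))).symm

/-- the transfer principle: computing the class of a first-order deformation obtained by base
change -/
theorem betaPre_eq_of_transfer {A : Art Λ k} (Rt : RDef B₀ A)
    (g : A ⟶ Art.dual Λ k) (Rp : RDef B₀ (Art.dual Λ k)) (h : RDef.HomOver g Rt Rp)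
    (σ : k →+* A) (hσ : ∀ c, g (σ c) = algebraMap k (Art.dual k k : Art k k) c)
    (G : MvPolynomial ι k →+* Rt.E) (hGC : ∀ c, G (MvPolynomial.C c) = Rt.toE (σ c))
    (hGX : ∀ i, Rt.pr (G (MvPolynomial.X i)) = P.val i)
    (ψ : P.toExtension.Cotangent →ₗ[B₀] B₀)
    (hψ : ∀ x : P.toExtension.ker, ∃ y : Rp.E,
      h.hom (G x.1) = Rp.toE (epsD k) * y ∧ Rp.pr y = ψ (Algebra.Extension.Cotangent.mk x)) :
    betaPre Λ P ψ = Rp.toDefSch.cl := by
  classical
  let v : ι → (ExtDual.ext (RDef.toK Rp)).E := fun i => h.hom (G (MvPolynomial.X i))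
  have hv : ∀ i, (ExtDual.ext (RDef.toK Rp)).proj (v i) = P.val i := fun i => by
    show Rp.pr (h.hom (G (MvPolynomial.X i))) = _
    rw [h.pr_hom, hGX]
  let l : Lift P (ExtDual.ext (RDef.toK Rp)) :=
    ⟨MvPolynomial.aeval v, lift_of_vals (ExtDual.ext (RDef.toK Rp)) v hv⟩
  have hl : ∀ r : MvPolynomial ι k, l.g r = h.hom (G r) := by
    have : (l.g : MvPolynomial ι k →+* (ExtDual.ext (RDef.toK Rp)).E) = h.hom.comp G := by
      apply MvPolynomial.ringHom_ext
      · intro c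
        show MvPolynomial.aeval v (MvPolynomial.C c) = h.hom (G (MvPolynomial.C c))
        rw [MvPolynomial.aeval_C, hGC, h.hom_toE, hσ]
        rfl
      · intro i
        show MvPolynomial.aeval v (MvPolynomial.X i) = _
        rw [MvPolynomial.aeval_X]
        rfl
    intro r
    exact DFunLike.congr_fun this r
  have hphi : l.phi = ψ := by
    rw [Lift.phi_eq_iff]
    intro x
    obtain ⟨y, hy1, hy2⟩ := hψ x
    rw [hl, hy1, ← hy2]
    exact ExtDual.inclR_pr (RDef.toK Rp) y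
  rw [← hphi]
  exact betaPre_eq_of_lift Rp l

end Groth.Agent.H6.DefAff
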