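import Mathlib
import Groth.Prelude.Def_ArtFun4
import Groth.Agent.Lib.Helper6.DefTan1

/-!
# First-order deformations of an affine scheme: linearity of the comparison with `T¹` (helper6)
-/

set_option autoImplicit false
universe u
open CategoryTheory CategoryTheory.Limits AlgebraicGeometry ArtFun ArtFun.Art

namespace Groth.Agent.H6.DefAff

variable {Λ k : Type u} [CommRing Λ] [Field k] [Algebra Λ k]
variable {B₀ : Type u} [CommRing B₀] [Algebra k B₀]

open ExalT1

variable {ι : Type u} {P : Algebra.Generators k B₀ ι}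

section Eps

variable (Λ k)

/-- `ε₁` -/
def eps1 : (Art.dual2 Λ k : Art Λ k) := (TrivSqZeroExt.inr ((1 : k), (0 : k)) : TrivSqZeroExt k (k × k))

/-- `ε₂` -/
def eps2 : (Art.dual2 Λ k : Art Λ k) := (TrivSqZeroExt.inr ((0 : k), (1 : k)) : TrivSqZeroExt k (k × k))

/-- the constants of `k[ε₁, ε₂]` -/
def sig2 : k →+* (Art.dual2 Λ k : Art Λ k) := algebraMap k (TrivSqZeroExt k (k × k))

/-- the constants of `k[ε]` -/
def sig1 : k →+* (Art.dual Λ k : Art Λ k) := algebraMap k (DualNumber k)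

theorem pr₁_eps1 : (pr₁ : Art.dual2 Λ k ⟶ Art.dual Λ k) (eps1 Λ k) = epsD k :=
  TrivSqZeroExt.ext rfl rfl

theorem pr₁_eps2 : (pr₁ : Art.dual2 Λ k ⟶ Art.dual Λ k) (eps2 Λ k) = 0 :=
  TrivSqZeroExt.ext rfl rfl

theorem pr₂_eps1 : (pr₂ : Art.dual2 Λ k ⟶ Art.dual Λ k) (eps1 Λ k) = 0 :=
  TrivSqZeroExt.ext rfl rfl

theorem pr₂_eps2 : (pr₂ : Art.dual2 Λ k ⟶ Art.dual Λ k) (eps2 Λ k) = epsD k :=
  TrivSqZeroExt.ext rfl rfl

theorem plus_eps1 : (plus : Art.dual2 Λ k ⟶ Art.dual Λ k) (eps1 Λ k) = epsD k :=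
  TrivSqZeroExt.ext rfl (by show (1 : k) + 0 = 1; rw [add_zero])

theorem plus_eps2 : (plus : Art.dual2 Λ k ⟶ Art.dual Λ k) (eps2 Λ k) = epsD k :=
  TrivSqZeroExt.ext rfl (by show (0 : k) + 1 = 1; rw [zero_add])

theorem pr₁_sig2 (c : k) : (pr₁ : Art.dual2 Λ k ⟶ Art.dual Λ k) (sig2 Λ k c) =
    algebraMap k (Art.dual k k : Art k k) c :=
  TrivSqZeroExt.ext rfl rfl

theorem pr₂_sig2 (c : k) : (pr₂ : Art.dual2 Λ k ⟶ Art.dual Λ k) (sig2 Λ k c) =
    algebraMap k (Art.dual k k : Art k k) c :=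
  TrivSqZeroExt.ext rfl rfl

theorem plus_sig2 (c : k) : (plus : Art.dual2 Λ k ⟶ Art.dual Λ k) (sig2 Λ k c) =
    algebraMap k (Art.dual k k : Art k k) c :=
  TrivSqZeroExt.ext rfl (by show (0 : k) + 0 = 0; rw [add_zero])

theorem scale_sig1 (a c : k) : (scale a : Art.dual Λ k ⟶ Art.dual Λ k) (sig1 Λ k c) =
    algebraMap k (Art.dual k k : Art k k) c :=
  TrivSqZeroExt.ext rfl (by show a • (0 : k) = 0; rw [smul_zero])

theorem scale_eps (a : k) : (scale a : Art.dual Λ k ⟶ Art.dual Λ k) (epsD k) =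
    algebraMap k (Art.dual k k : Art k k) a * epsD k :=
  by
  have h : (algebraMap k (Art.dual k k : Art k k) a * epsD k : DualNumber k) =
      (TrivSqZeroExt.inl a * TrivSqZeroExt.inr 1 : DualNumber k) := rfl
  rw [h, TrivSqZeroExt.inl_mul_inr]
  exact TrivSqZeroExt.ext rfl rfl

end Eps

theorem liftXof_pr_X (φ : P.toExtension.Cotangent →ₗ[B₀] B₀) (i : ι) :
    (Xof φ).proj ((liftXof φ).g (MvPolynomial.X i)) = P.val i := by
  rw [(liftXof φ).hg]
  exact MvPolynomial.aeval_X _ _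

theorem liftXof_g_ker (φ : P.toExtension.Cotangent →ₗ[B₀] B₀) (x : P.toExtension.ker) :
    (liftXof φ).g x.1 = (Xof φ).incl (φ (Algebra.Extension.Cotangent.mk x)) := by
  have h := (liftXof φ).incl_phi_mk x
  rw [liftXof_phi] at h
  exact h.symm

theorem betaPre_add [T : TangentStr (DefF Λ k B₀)] (φ₁ φ₂ : P.toExtension.Cotangent →ₗ[B₀] B₀) :
    betaPre Λ P (φ₁ + φ₂) = betaPre Λ P φ₁ + betaPre Λ P φ₂ := by
  classical
  obtain ⟨Rt, g', g'', hcomp, hsurj, hinj, -⟩ :=
    RDef.exists_glue (isFibreProd_dual2 (Λ := Λ) (k := k)) isSmallExt_toBase_dual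
      (RDef.toSelf (RDef.ofK Λ (ExtDual.rdef (Xof φ₁))))
      (RDef.toSelf (RDef.ofK Λ (ExtDual.rdef (Xof φ₂))))
  obtain ⟨Rp, hRp⟩ := RDef.exists_cl_eq ((DefF Λ k B₀).map plus Rt.toDefSch.cl)
  obtain ⟨hp⟩ := RDef.nonempty_homOver_of_map_cl (g := plus) (R := Rt) (R' := Rp) hRp.symm
  have hz : ∀ i, ∃ z : Rt.E, g'.hom z = (liftXof φ₁).g (MvPolynomial.X i) ∧
      g''.hom z = (liftXof φ₂).g (MvPolynomial.X i) := fun i => hsurj _ _ (by
    show (Xof φ₁).proj _ = (Xof φ₂).proj _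
    rw [liftXof_pr_X, liftXof_pr_X])
  choose z hz1 hz2 using hz
  letI : Algebra k Rt.E := (Rt.toE.comp (sig2 Λ k)).toAlgebra
  have hG1 : ∀ r : MvPolynomial ι k, g'.hom (MvPolynomial.aeval z r) = (liftXof φ₁).g r := by
    have : g'.hom.comp (MvPolynomial.aeval z : MvPolynomial ι k →ₐ[k] Rt.E).toRingHom =
        ((liftXof φ₁).g : MvPolynomial ι k →+* (Xof φ₁).E) := by
      apply MvPolynomial.ringHom_ext
      · intro c
        show g'.hom (MvPolynomial.aeval z (MvPolynomial.C c)) = (liftXof φ₁).g (MvPolynomial.C c)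
        rw [MvPolynomial.aeval_C]
        show g'.hom (Rt.toE (sig2 Λ k c)) = _
        rw [g'.hom_toE, pr₁_sig2]
        show ExtDual.toE (Xof φ₁) _ = _
        rw [ExtDual.toE_algebraMap]
        exact ((liftXof φ₁).g.commutes c).symm
      · intro i
        show g'.hom (MvPolynomial.aeval z (MvPolynomial.X i)) = _
        rw [MvPolynomial.aeval_X, hz1]
        rfl
    intro r
    exact DFunLike.congr_fun this r
  have hG2 : ∀ r : MvPolynomial ι k, g''.hom (MvPolynomial.aeval z r) = (liftXof φ₂).g r := by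
    have : g''.hom.comp (MvPolynomial.aeval z : MvPolynomial ι k →ₐ[k] Rt.E).toRingHom =
        ((liftXof φ₂).g : MvPolynomial ι k →+* (Xof φ₂).E) := by
      apply MvPolynomial.ringHom_ext
      · intro c
        show g''.hom (MvPolynomial.aeval z (MvPolynomial.C c)) = (liftXof φ₂).g (MvPolynomial.C c)
        rw [MvPolynomial.aeval_C]
        show g''.hom (Rt.toE (sig2 Λ k c)) = _
        rw [g''.hom_toE, pr₂_sig2]
        show ExtDual.toE (Xof φ₂) _ = _
        rw [ExtDual.toE_algebraMap]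
        exact ((liftXof φ₂).g.commutes c).symm
      · intro i
        show g''.hom (MvPolynomial.aeval z (MvPolynomial.X i)) = _
        rw [MvPolynomial.aeval_X, hz2]
        rfl
    intro r
    exact DFunLike.congr_fun this r
  have hmain : betaPre Λ P (φ₁ + φ₂) = Rp.toDefSch.cl := by
    refine betaPre_eq_of_transfer Rt plus Rp hp (sig2 Λ k) (plus_sig2 Λ k)
      (MvPolynomial.aeval z : MvPolynomial ι k →ₐ[k] Rt.E).toRingHom ?_ ?_ (φ₁ + φ₂) ?_
    · intro c
      show MvPolynomial.aeval z (MvPolynomial.C c) = _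
      rw [MvPolynomial.aeval_C]
      rfl
    · intro i
      show Rt.pr (MvPolynomial.aeval z (MvPolynomial.X i)) = _
      rw [MvPolynomial.aeval_X, ← g'.pr_hom, hz1]
      exact liftXof_pr_X φ₁ i
    · intro x
      obtain ⟨y₁, hy₁⟩ := Rt.pr_surjective (φ₁ (Algebra.Extension.Cotangent.mk x))
      obtain ⟨y₂, hy₂⟩ := Rt.pr_surjective (φ₂ (Algebra.Extension.Cotangent.mk x))
      have key : MvPolynomial.aeval z x.1 = y₁ * Rt.toE (eps1 Λ k) + y₂ * Rt.toE (eps2 Λ k) := by
        apply hinj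
        · rw [hG1, liftXof_g_ker, map_add, map_mul, map_mul, g'.hom_toE, g'.hom_toE, pr₁_eps1,
            pr₁_eps2, map_zero, mul_zero, add_zero]
          have e1 := ExtDual.mul_incl_one (Xof φ₁) (g'.hom y₁)
          rw [← ExtDual.toE_eps] at e1
          refine Eq.trans ?_ e1.symm
          congr 1
          exact ((g'.pr_hom y₁).trans hy₁).symm
        · rw [hG2, liftXof_g_ker, map_add, map_mul, map_mul, g''.hom_toE, g''.hom_toE, pr₂_eps1,
            pr₂_eps2, map_zero, mul_zero, zero_add]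
          have e1 := ExtDual.mul_incl_one (Xof φ₂) (g''.hom y₂)
          rw [← ExtDual.toE_eps] at e1
          refine Eq.trans ?_ e1.symm
          congr 1
          exact ((g''.pr_hom y₂).trans hy₂).symm
      refine ⟨hp.hom y₁ + hp.hom y₂, ?_, ?_⟩
      · show hp.hom (MvPolynomial.aeval z x.1) = _
        rw [key, map_add, map_mul, map_mul, hp.hom_toE, hp.hom_toE, plus_eps1, plus_eps2]
        ring
      · rw [map_add, hp.pr_hom, hp.pr_hom, hy₁, hy₂]
        rfl
  rw [hmain, hRp]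
  have h1 : betaPre Λ P φ₁ = (DefF Λ k B₀).map pr₁ Rt.toDefSch.cl := g'.map_cl.symm
  have h2 : betaPre Λ P φ₂ = (DefF Λ k B₀).map pr₂ Rt.toDefSch.cl := g''.map_cl.symm
  rw [h1, h2]
  exact (T.add_eq Rt.toDefSch.cl).symm

theorem betaPre_smul [T : TangentStr (DefF Λ k B₀)] (c : k)
    (φ : P.toExtension.Cotangent →ₗ[B₀] B₀) :
    betaPre Λ P (c • φ) = c • betaPre Λ P φ := by
  classical
  obtain ⟨Rc, hRc⟩ := RDef.exists_cl_eq
    ((DefF Λ k B₀).map (scale c) (RDef.ofK Λ (ExtDual.rdef (Xof φ))).toDefSch.cl)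
  obtain ⟨hc⟩ := RDef.nonempty_homOver_of_map_cl (g := scale c)
    (R := RDef.ofK Λ (ExtDual.rdef (Xof φ))) (R' := Rc) hRc.symm
  have hmain : betaPre Λ P (c • φ) = Rc.toDefSch.cl := by
    refine betaPre_eq_of_transfer (RDef.ofK Λ (ExtDual.rdef (Xof φ))) (scale c) Rc hc
      (sig1 Λ k) (scale_sig1 Λ k c)
      ((liftXof φ).g : MvPolynomial ι k →+* (Xof φ).E) ?_ ?_ (c • φ) ?_
    · intro a
      show (liftXof φ).g (MvPolynomial.C a) = ExtDual.toE (Xof φ) (algebraMap k _ a)
      rw [ExtDual.toE_algebraMap]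
      exact (liftXof φ).g.commutes a
    · intro i
      exact liftXof_pr_X φ i
    · intro x
      obtain ⟨y₀, hy₀⟩ := (Xof φ).isExtension.proj_surjective
        (φ (Algebra.Extension.Cotangent.mk x))
      refine ⟨hc.hom y₀ * Rc.toE (algebraMap k (Art.dual k k : Art k k) c), ?_, ?_⟩
      · show hc.hom ((liftXof φ).g x.1) = _
        have e1 := ExtDual.mul_incl_one (Xof φ) y₀
        rw [← ExtDual.toE_eps, hy₀] at e1
        rw [liftXof_g_ker, ← e1]
        have e2 : hc.hom (y₀ * ExtDual.toE (Xof φ) (epsD k)) =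
            hc.hom y₀ * Rc.toE ((scale c : Art.dual Λ k ⟶ Art.dual Λ k) (epsD k)) := by
          rw [← hc.hom_toE]
          exact map_mul hc.hom _ _
        rw [e2, scale_eps]
        have e3 : Rc.toE (algebraMap k (Art.dual k k : Art k k) c * epsD k) =
            Rc.toE (algebraMap k (Art.dual k k : Art k k) c) * Rc.toE (epsD k) :=
          map_mul Rc.toE _ _
        refine (congrArg (fun t => hc.hom y₀ * t) e3).trans ?_
        ring
      · rw [map_mul, hc.pr_hom, Rc.pr_toE]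
        show (Xof φ).proj y₀ * algebraMap k B₀ c = c • φ (Algebra.Extension.Cotangent.mk x)
        rw [hy₀, Algebra.smul_def, mul_comm]
  rw [hmain, hRc]
  exact (T.smul_eq c _).symm

variable (Λ P) in
/-- the comparison map `T¹ → t_F` -/
noncomputable def betaFun : CotTHom.T1E P.toExtension B₀ → TangentSpace (DefF Λ k B₀) :=
  Quotient.lift (s := Submodule.quotientRel _) (fun φ => betaPre Λ P φ) (by
    intro φ φ' h
    exact betaPre_eq_of_sub_mem ((Submodule.quotientRel_def _).mp h))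

theorem betaFun_mk (φ : P.toExtension.Cotangent →ₗ[B₀] B₀) :
    betaFun Λ P (Submodule.Quotient.mk φ) = betaPre Λ P φ := rfl

variable (Λ P) in
/-- the `k`-linear comparison map `T¹ → t_F` -/
noncomputable def betaBar [T : TangentStr (DefF Λ k B₀)] :
    CotTHom.T1E P.toExtension B₀ →ₗ[k] TangentSpace (DefF Λ k B₀) where
  toFun := betaFun Λ P
  map_add' := by
    intro t t'
    obtain ⟨φ, rfl⟩ := Submodule.Quotient.mk_surjective _ t
    obtain ⟨φ', rfl⟩ := Submodule.Quotient.mk_surjective _ t'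
    rw [← Submodule.Quotient.mk_add, betaFun_mk, betaFun_mk, betaFun_mk]
    exact betaPre_add φ φ'
  map_smul' := by
    intro c t
    obtain ⟨φ, rfl⟩ := Submodule.Quotient.mk_surjective _ t
    rw [← Submodule.Quotient.mk_smul, betaFun_mk, betaFun_mk]
    exact betaPre_smul c φ

theorem betaBar_surjective [T : TangentStr (DefF Λ k B₀)] :
    Function.Surjective (betaBar Λ P) := by
  intro q
  obtain ⟨φ, rfl⟩ := betaPre_surjective (P := P) q
  exact ⟨Submodule.Quotient.mk φ, rfl⟩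

/-- the tangent space of the deformation functor of `Spec B₀` is finite-dimensional as soon as
`T¹(B₀/k, B₀)` is -/
theorem hfin_of_finite [T : TangentStr (DefF Λ k B₀)]
    (hT : Module.Finite k (CotTHom.T1E P.toExtension B₀)) : Hfin (DefF Λ k B₀) :=
  Module.Finite.of_surjective (betaBar Λ P) betaBar_surjective

end Groth.Agent.H6.DefAff
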