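import Mathlib
import Groth.Agent.Lib.Helper6.CotTFam3
import Groth.Agent.Lib.Helper6.CotTHom2

/-!
# Finiteness of `T¹` for algebras with finitely many non-smooth points (helper6)
-/

set_option autoImplicit false
universe u
open CategoryTheory

namespace Groth.Agent.H6.DefAff

/-- in a Jacobson space, a point with finite closure is closed -/
theorem isClosed_singleton_of_finite_closure {X : Type*} [TopologicalSpace X] [JacobsonSpace X]
    (x : X) (h : (closure {x}).Finite) : IsClosed ({x} : Set X) := by
  have h1 := JacobsonSpace.closure_inter_closedPoints (X := X) (Z := closure {x}) isClosed_closure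
  have h2 : IsClosed (closure {x} ∩ closedPoints X) := by
    have hfin : (closure {x} ∩ closedPoints X).Finite := h.subset Set.inter_subset_left
    have := hfin.isClosed_biUnion (f := fun y => ({y} : Set X)) (fun y hy => hy.2)
    rwa [Set.biUnion_of_singleton] at this
  rw [h2.closure_eq] at h1
  have h3 : x ∈ closure {x} ∩ closedPoints X := by
    rw [h1]
    exact subset_closure rfl
  exact h3.2

/-- a module over a finitely generated algebra over a field whose annihilator is contained in
only finitely many primes is finite-dimensional -/
theorem finite_of_finite_zeroLocus_annihilator (k B : Type u) [Field k] [CommRing B] [Algebra k B]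
    [Algebra.FiniteType k B] (T : Type*) [AddCommGroup T] [Module B T] [Module k T]
    [IsScalarTower k B T] [Module.Finite B T]
    (hfin : (PrimeSpectrum.zeroLocus (Module.annihilator B T : Set B)).Finite) :
    Module.Finite k T := by
  haveI : IsJacobsonRing B := isJacobsonRing_of_finiteType (A := k)
  letI : Module (B ⧸ Module.annihilator B T) T := Module.quotientAnnihilator
  haveI : IsScalarTower B (B ⧸ Module.annihilator B T) T :=
    (Module.isTorsionBySet_annihilator B T).isScalarTower
  haveI : Module.Finite (B ⧸ Module.annihilator B T) T :=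
    Module.Finite.of_restrictScalars_finite B (B ⧸ Module.annihilator B T) T
  haveI : Ring.KrullDimLE 0 (B ⧸ Module.annihilator B T) := by
    rw [Ring.krullDimLE_zero_iff]
    intro I hI
    have hq : (I.comap (Ideal.Quotient.mk (Module.annihilator B T))).IsPrime := Ideal.comap_isPrime _ _
    have hmem : (⟨_, hq⟩ : PrimeSpectrum B) ∈
        PrimeSpectrum.zeroLocus (Module.annihilator B T : Set B) := by
      rw [PrimeSpectrum.mem_zeroLocus]
      intro a ha
      show Ideal.Quotient.mk _ a ∈ I
      rw [Ideal.Quotient.eq_zero_iff_mem.mpr ha]
      exact I.zero_mem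
    have hcl : (closure {(⟨_, hq⟩ : PrimeSpectrum B)}).Finite :=
      hfin.subset (closure_minimal (Set.singleton_subset_iff.mpr hmem)
        (PrimeSpectrum.isClosed_zeroLocus _))
    have hmax : (I.comap (Ideal.Quotient.mk (Module.annihilator B T))).IsMaximal :=
      (PrimeSpectrum.isClosed_singleton_iff_isMaximal ⟨_, hq⟩).mp
        (isClosed_singleton_of_finite_closure _ hcl)
    have hmap : (I.comap (Ideal.Quotient.mk (Module.annihilator B T))).map
        (Ideal.Quotient.mk (Module.annihilator B T)) = I :=
      Ideal.map_comap_of_surjective _ Ideal.Quotient.mk_surjective I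
    rcases Ideal.map_eq_top_or_isMaximal_of_surjective
      (Ideal.Quotient.mk (Module.annihilator B T)) Ideal.Quotient.mk_surjective hmax with h | h
    · rw [hmap] at h
      exact absurd h hI.ne_top
    · rwa [hmap] at h
  haveI : Module.Finite k (B ⧸ Module.annihilator B T) := (Module.finite_iff_krullDimLE_zero k (B ⧸ Module.annihilator B T)).mpr ‹_›
  haveI : IsScalarTower k (B ⧸ Module.annihilator B T) T := by
    refine IsScalarTower.of_algebraMap_smul fun c t => ?_
    have h1 : algebraMap k (B ⧸ Module.annihilator B T) c =
        Ideal.Quotient.mk _ (algebraMap k B c) := rfl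
    rw [h1]
    show algebraMap k B c • t = c • t
    exact algebraMap_smul B c t
  exact Module.Finite.trans (B ⧸ Module.annihilator B T) T

/-- `T¹(B/k, B)` is finite-dimensional when `B` has only finitely many non-smooth points -/
theorem finite_T1E {k B : Type u} [Field k] [CommRing B] [Algebra k B] {ι : Type u} [Finite ι]
    (P : Algebra.Generators k B ι)
    (hfin : ((Algebra.smoothLocus k B)ᶜ : Set (PrimeSpectrum B)).Finite) :
    Module.Finite k (CotTHom.T1E P.toExtension B) := by
  haveI : Algebra.FiniteType k B := P.finiteType
  haveI : Algebra.FinitePresentation k B := Algebra.FinitePresentation.of_finiteType.mp ‹_›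
  haveI : IsNoetherianRing B := Algebra.FiniteType.isNoetherianRing k B
  haveI : IsNoetherianRing P.toExtension.Ring :=
    (inferInstance : IsNoetherianRing (MvPolynomial ι k))
  haveI : Module.Finite B P.toExtension.Cotangent :=
    Algebra.Extension.Cotangent.finite (IsNoetherian.noetherian _)
  haveI : Module.Finite B (CotTHom.T1E P.toExtension B) := inferInstance
  refine finite_of_finite_zeroLocus_annihilator k B _ (hfin.subset ?_)
  intro q hq hsm
  obtain ⟨U, ⟨f, rfl⟩, hqU, hU⟩ :=
    PrimeSpectrum.isTopologicalBasis_basic_opens.exists_subset_of_mem_open hsm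
      Algebra.isOpen_smoothLocus
  obtain ⟨n, hn⟩ := CotTFam.smul_eq_zero_of_cond (CotTFam.cond_of_subset_smoothLocus P f hU)
  have hmem : f ^ n ∈ Module.annihilator B (CotTHom.T1E P.toExtension B) :=
    Module.mem_annihilator.mpr fun x => hn B x
  have h1 : f ^ n ∈ q.asIdeal := (PrimeSpectrum.mem_zeroLocus _ _).mp hq hmem
  exact hqU (q.2.mem_of_pow_mem n h1)

end Groth.Agent.H6.DefAff
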