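import Mathlib
import Groth.Prelude.Def_ArtFun4
import Groth.Agent.Lib.Helper6.DefTan2
import Groth.Agent.Lib.Helper6.DefTan3
import Groth.Agent.Lib.Helper6.ArtFunSepHull
import Groth.Agent.Lib.Helper6.ArtFunTangent
import Groth.Agent.Lib.Helper6.ArtFun

/-!
# The deformation functor of an affine scheme with finitely many non-smooth points has a hull
(ring-level version; helper6)
-/

set_option autoImplicit false
universe u
open CategoryTheory CategoryTheory.Limits AlgebraicGeometry ArtFun ArtFun.Art

namespace Groth.Agent.H6.DefAff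

theorem subsingleton_derivation_of_surjective (Λ k : Type u) [CommRing Λ] [Field k] [Algebra Λ k]
    (hk : Function.Surjective (algebraMap Λ k)) : Subsingleton (Derivation Λ k k) := by
  refine ⟨fun D D' => ?_⟩
  ext x
  obtain ⟨a, rfl⟩ := hk x
  rw [Derivation.map_algebraMap, Derivation.map_algebraMap]

theorem hasHull_defF (Λ k : Type u) [CommRing Λ] [IsNoetherianRing Λ] [Field k] [Algebra Λ k]
    (hk : Function.Surjective (algebraMap Λ k)) (B₀ : Type u) [CommRing B₀] [Algebra k B₀]
    {ι : Type u} [Finite ι] (P : Algebra.Generators k B₀ ι)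
    (hfin : ((Algebra.smoothLocus k B₀)ᶜ : Set (PrimeSpectrum B₀)).Finite) :
    HasHull (DefF Λ k B₀) := by
  haveI : Module.Finite Λ k := Module.Finite.of_surjective (Algebra.linearMap Λ k) hk
  have h0 := defF_h0 Λ k B₀
  have h2 := defF_heps Λ k B₀
  letI := tangentStr h0 h2
  exact hasHull_of_no_derivations (subsingleton_derivation_of_surjective Λ k hk) h0
    ((s1_iff_hbar _).mpr (defF_hbar Λ k B₀)) h2 (hfin_of_finite (P := P) (finite_T1E P hfin))

end Groth.Agent.H6.DefAff
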