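import Mathlib
import Groth.Prelude.Def_ArtFun4

/-!
# Transport of the deformation functor along an isomorphism of schemes; transfer of hulls (helper6)
-/

set_option autoImplicit false
universe u v
open CategoryTheory CategoryTheory.Limits AlgebraicGeometry ArtFun ArtFun.Art

namespace Groth.Agent.H6.DefTrans

variable {Λ k : Type u} [CommRing Λ] [Field k] [Algebra Λ k]

/-- hulls transfer along a morphism of functors which is bijective on every object -/
theorem hasHull_of_bijective {F G : Art Λ k ⥤ Type v} (η : F ⟶ G)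
    (hη : ∀ A, Function.Bijective (η.app A)) (h : HasHull F) : HasHull G := by
  obtain ⟨⟨R, ξ, hv, hb⟩⟩ := h
  refine ⟨⟨R, ξ.push η, ?_, ?_⟩⟩
  · intro B A μ hμ φ y hy
    obtain ⟨y', rfl⟩ := (hη B).2 y
    have h1 : F.map μ y' = ξ.app A φ := by
      apply (hη A).1
      rw [NatTrans.naturality_apply]
      exact hy
    obtain ⟨ψ, h2, h3⟩ := hv μ hμ φ y' h1
    refine ⟨ψ, h2, ?_⟩
    show η.app B (ξ.app B ψ) = _
    rw [h3]
  · exact (hη _).comp hb

variable {X X' : Scheme.{u}} {x : X ⟶ specPt k} {x' : X' ⟶ specPt k}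

/-- transport of a deformation along an isomorphism of the closed fibre -/
noncomputable def transport (φ : X' ≅ X) (hφ : φ.hom ≫ x = x') {A : Art Λ k} (ξ : DefSch X x A) :
    DefSch X' x' A where
  total := ξ.total
  f := ξ.f
  flat := ξ.flat
  i := φ.hom ≫ ξ.i
  isPullback := by
    refine IsPullback.of_iso ξ.isPullback φ.symm (Iso.refl _) (Iso.refl _) (Iso.refl _) ?_ ?_ ?_ ?_
    · simp
    · simp [← hφ]
    · simp
    · simp

/-- transport of isomorphisms -/
def transportIso (φ : X' ≅ X) (hφ : φ.hom ≫ x = x') {A : Art Λ k} {ξ ξ' : DefSch X x A}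
    (e : DefSch.Iso ξ ξ') : DefSch.Iso (transport φ hφ ξ) (transport φ hφ ξ') where
  iso := e.iso
  hom_f := e.hom_f
  i_hom := by
    show (φ.hom ≫ ξ.i) ≫ e.iso.hom = φ.hom ≫ ξ'.i
    rw [Category.assoc, e.i_hom]

/-- transport commutes with base change -/
noncomputable def transportBaseChange (φ : X' ≅ X) (hφ : φ.hom ≫ x = x') {A B : Art Λ k}
    (ξ : DefSch X x A) (g : A ⟶ B) :
    DefSch.Iso (transport φ hφ (ξ.baseChange g)) ((transport φ hφ ξ).baseChange g) where
  iso := Iso.refl _
  hom_f := Category.id_comp _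
  i_hom := by
    refine (Category.comp_id _).trans ?_
    apply pullback.hom_ext
    · show (φ.hom ≫ (ξ.baseChange g).i) ≫ pullback.fst ξ.f (specMap g) =
        ((transport φ hφ ξ).baseChange g).i ≫ pullback.fst (transport φ hφ ξ).f (specMap g)
      rw [Category.assoc, DefSch.baseChange_i_fst, DefSch.baseChange_i_fst]
      rfl
    · show (φ.hom ≫ (ξ.baseChange g).i) ≫ (ξ.baseChange g).f =
        ((transport φ hφ ξ).baseChange g).i ≫ ((transport φ hφ ξ).baseChange g).f
      rw [Category.assoc, DefSch.baseChange_i_f, DefSch.baseChange_i_f, ← Category.assoc, hφ]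

/-- the morphism of deformation functors induced by an isomorphism of the closed fibre -/
noncomputable def transportNat (φ : X' ≅ X) (hφ : φ.hom ≫ x = x') :
    defFunctor (Λ := Λ) X x ⟶ defFunctor (Λ := Λ) X' x' where
  app A := ↾Quotient.map' (fun ξ => transport φ hφ ξ) (fun _ _ ⟨e⟩ => ⟨transportIso φ hφ e⟩)
  naturality A B g := ConcreteCategory.hom_ext _ _ fun q => by
    induction q using Quotient.inductionOn with
    | h ξ => exact Quotient.sound ⟨transportBaseChange φ hφ ξ g⟩

theorem transportNat_cl (φ : X' ≅ X) (hφ : φ.hom ≫ x = x') {A : Art Λ k} (ξ : DefSch X x A) :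
    (transportNat (Λ := Λ) φ hφ).app A ξ.cl = (transport φ hφ ξ).cl := rfl

theorem transportNat_comp {Y Y' : Scheme.{u}} {y : Y ⟶ specPt k} {y' : Y' ⟶ specPt k}
    (ψ : Y' ≅ Y) (hψ : ψ.hom ≫ y = y') (χ : Y ≅ Y') (hχ : χ.hom ≫ y' = y)
    (hc : χ.hom ≫ ψ.hom = 𝟙 Y) (A : Art Λ k) (q : (defFunctor (Λ := Λ) Y y).obj A) :
    (transportNat (Λ := Λ) χ hχ).app A ((transportNat (Λ := Λ) ψ hψ).app A q) = q := by
  induction q using Quotient.inductionOn with
  | h ξ =>
    refine Quotient.sound ⟨⟨Iso.refl _, Category.id_comp _, ?_⟩⟩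
    show (χ.hom ≫ ψ.hom ≫ ξ.i) ≫ 𝟙 _ = ξ.i
    rw [Category.comp_id, ← Category.assoc, hc, Category.id_comp]

theorem transportNat_bijective (φ : X' ≅ X) (hφ : φ.hom ≫ x = x') (A : Art Λ k) :
    Function.Bijective ((transportNat (Λ := Λ) φ hφ).app A) := by
  have hφ' : φ.symm.hom ≫ x' = x := by
    rw [Iso.symm_hom, ← hφ, Iso.inv_hom_id_assoc]
  constructor
  · intro q q' h
    rw [← transportNat_comp φ hφ φ.symm hφ' (by simp) A q,
      ← transportNat_comp φ hφ φ.symm hφ' (by simp) A q', h]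
  · intro q
    exact ⟨(transportNat (Λ := Λ) φ.symm hφ').app A q,
      transportNat_comp φ.symm hφ' φ hφ (by simp) A q⟩

/-- hulls transfer along an isomorphism of the closed fibre -/
theorem hasHull_of_iso (φ : X' ≅ X) (hφ : φ.hom ≫ x = x')
    (h : HasHull (defFunctor (Λ := Λ) X x)) : HasHull (defFunctor (Λ := Λ) X' x') :=
  hasHull_of_bijective (transportNat φ hφ) (transportNat_bijective φ hφ) h

end Groth.Agent.H6.DefTrans
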