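import Mathlib
import Groth.Prelude.Def_ArtFun4
import Groth.Agent.Lib.Helper6.DefTan4
import Groth.Agent.Lib.Helper6.DefTrans1

/-!
# The deformation functor of an affine scheme of finite type with finitely many non-smooth points
has a hull (helper6)
-/

set_option autoImplicit false
universe u
open CategoryTheory CategoryTheory.Limits AlgebraicGeometry ArtFun ArtFun.Art

namespace Groth.Agent.H6.DefTrans

/-- a point of `Spec S` at which `Spec S → Spec R` is formally smooth on stalks lies in the smooth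
locus -/
theorem mem_smoothLocus_of_stalkMap {R S : Type u} [CommRing R] [CommRing S] [Algebra R S]
    (p : PrimeSpectrum S)
    (h : ((Spec.map (CommRingCat.ofHom (algebraMap R S))).stalkMap p).hom.FormallySmooth) :
    p ∈ Algebra.smoothLocus R S := by
  rw [RingHom.FormallySmooth.respectsIso.arrow_mk_iso_iff
    (Scheme.arrowStalkMapSpecIso (CommRingCat.ofHom (algebraMap R S)) p)] at h
  let q : Ideal R := (p.comap (algebraMap R S)).asIdeal
  haveI : p.asIdeal.LiesOver q := ⟨rfl⟩
  letI := Localization.AtPrime.algebraOfLiesOver q p.asIdeal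
  have h2 : Algebra.FormallySmooth (Localization.AtPrime q) (Localization.AtPrime p.asIdeal) := by
    rw [← RingHom.formallySmooth_algebraMap]
    exact h
  show Algebra.FormallySmooth R (Localization.AtPrime p.asIdeal)
  exact Algebra.FormallySmooth.iff_restrictScalars.mpr h2

open Groth.Agent.H6.DefAff in
theorem hasHull_defFunctor_affine (Λ k : Type u) [CommRing Λ] [IsNoetherianRing Λ] [Field k]
    [Algebra Λ k] (hk : Function.Surjective (algebraMap Λ k))
    (X : Scheme.{u}) [IsAffine X] (x : X ⟶ Spec (CommRingCat.of k)) [LocallyOfFiniteType x]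
    (U : X.Opens) (hU : Smooth (U.ι ≫ x)) (hfin : ((U : Set X)ᶜ).Finite) :
    HasHull (defFunctor (Λ := Λ) X x) := by
  classical
  let f₀ : CommRingCat.of k ⟶ Γ(X, ⊤) := Spec.preimage (X.isoSpec.inv ≫ x)
  letI : Algebra k Γ(X, ⊤) := f₀.hom.toAlgebra
  have hf₀ : CommRingCat.ofHom (algebraMap k Γ(X, ⊤)) = f₀ := rfl
  let ψ : X ≅ Spec (CommRingCat.of Γ(X, ⊤)) := X.isoSpec
  have hψ : ψ.hom ≫ Spec.map (CommRingCat.ofHom (algebraMap k Γ(X, ⊤))) = x := by
    rw [hf₀]
    show X.isoSpec.hom ≫ Spec.map (Spec.preimage (X.isoSpec.inv ≫ x)) = x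
    rw [Spec.map_preimage, Iso.hom_inv_id_assoc]
  have hψ' : ψ.inv ≫ x = Spec.map (CommRingCat.ofHom (algebraMap k Γ(X, ⊤))) := by
    rw [← hψ, Iso.inv_hom_id_assoc]
  haveI : LocallyOfFiniteType (Spec.map (CommRingCat.ofHom (algebraMap k Γ(X, ⊤)))) := by
    rw [← hψ']
    infer_instance
  haveI : Algebra.FiniteType k Γ(X, ⊤) := by
    have h1 : (algebraMap k Γ(X, ⊤)).FiniteType :=
      (HasRingHomProperty.Spec_iff (P := @LocallyOfFiniteType)
        (φ := CommRingCat.ofHom (algebraMap k Γ(X, ⊤)))).mp ‹_›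
    exact RingHom.finiteType_algebraMap.mp h1
  obtain ⟨n, ⟨P₀⟩⟩ := Algebra.FiniteType.iff_exists_generators.mp
    (inferInstance : Algebra.FiniteType k Γ(X, ⊤))
  let P : Algebra.Generators k Γ(X, ⊤) (ULift.{u} (Fin n)) := P₀.reindex Equiv.ulift
  have hfin' : ((Algebra.smoothLocus k Γ(X, ⊤))ᶜ : Set (PrimeSpectrum Γ(X, ⊤))).Finite := by
    refine (hfin.image ψ.hom).subset ?_
    intro p hp
    by_contra hcon
    apply hp
    have hy : ψ.inv p ∈ U := by
      by_contra hy
      apply hcon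
      refine ⟨ψ.inv p, hy, ?_⟩
      rw [← Scheme.Hom.comp_apply, Iso.inv_hom_id]
      rfl
    haveI : Smooth (U.ι ≫ x) := hU
    have e1 := Scheme.Hom.preimage_smoothLocus_eq U.ι x
    rw [Scheme.Hom.smoothLocus_eq_top (U.ι ≫ x)] at e1
    have h1 : U.ι ⟨ψ.inv p, hy⟩ ∈ x.smoothLocus := by
      have : (⟨ψ.inv p, hy⟩ : U) ∈ U.ι ⁻¹ᵁ x.smoothLocus := by
        rw [e1]
        trivial
      exact this
    have h2 : ψ.inv p ∈ x.smoothLocus := h1
    have e2 := Scheme.Hom.preimage_smoothLocus_eq ψ.inv x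
    have h3 : p ∈ (ψ.inv ≫ x).smoothLocus := by
      rw [← e2]
      exact h2
    have key : ∀ (g : Spec (CommRingCat.of Γ(X, ⊤)) ⟶ Spec (CommRingCat.of k))
        [LocallyOfFinitePresentation g],
        g = Spec.map (CommRingCat.ofHom (algebraMap k Γ(X, ⊤))) → p ∈ g.smoothLocus →
        ((Spec.map (CommRingCat.ofHom (algebraMap k Γ(X, ⊤)))).stalkMap p).hom.FormallySmooth := by
      rintro g _ rfl h
      exact h
    exact mem_smoothLocus_of_stalkMap p (key _ hψ' h3)
  have hull := hasHull_defF Λ k hk Γ(X, ⊤) P hfin'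
  exact hasHull_of_iso ψ hψ hull

end Groth.Agent.H6.DefTrans
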