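import Mathlib

/-!
# Points of the target of a dominant quasi-compact morphism are specializations of image points
(helper6)
-/

universe u

open CategoryTheory CategoryTheory.Limits AlgebraicGeometry

namespace Groth.Agent.H6.DenseSpec

lemma exists_specializes_of_denseRange {Z Y : Scheme.{u}} (h : Z ⟶ Y) [QuasiCompact h]
    (hd : DenseRange h.base) (y : Y) : ∃ z : Z, h.base z ⤳ y := by
  classical
  obtain ⟨U, hU, hyU, -⟩ := Y.isBasis_affineOpens.exists_subset_of_mem_open
    (Set.mem_univ y) isOpen_univ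
  have hUa : IsAffineOpen (⟨U, (Y.isBasis_affineOpens.isOpen hU)⟩ : Y.Opens) := by
    obtain ⟨V, hV, rfl⟩ := hU
    exact hV
  set U' : Y.Opens := ⟨U, (Y.isBasis_affineOpens.isOpen hU)⟩ with hU'
  let j := hUa.fromSpec
  let p := pullback.snd h j
  haveI : CompactSpace ↥(pullback h j) := inferInstance
  obtain ⟨R', g, hg⟩ := compactSpace_iff_exists.mp ‹CompactSpace ↥(pullback h j)›
  let φ := Spec.preimage (g ≫ p)
  have hφ : Spec.map φ = g ≫ p := Spec.map_preimage _
  have hdense : DenseRange (g ≫ p).base := by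
    have h1 : Set.range (g ≫ p).base = j.base ⁻¹' Set.range h.base := by
      rw [Scheme.Hom.comp_base, TopCat.coe_comp, Set.range_comp, hg.range_eq, Set.image_univ]
      exact Scheme.Pullback.range_snd h j
    rw [DenseRange, h1]
    exact hd.preimage j.isOpenEmbedding.isOpenMap
  rw [← hφ] at hdense
  have hmin := (PrimeSpectrum.denseRange_comap_iff_minimalPrimes (f := φ.hom)).1 hdense
  obtain ⟨y', hy'⟩ : ∃ y' : ↥(Spec Γ(Y, U')), j.base y' = y := by
    have : y ∈ Set.range j.base := by rw [hUa.range_fromSpec]; exact hyU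
    exact this
  obtain ⟨q, hq, hqle⟩ := Ideal.exists_minimalPrimes_le (I := ⊥) (J := y'.asIdeal) bot_le
  obtain ⟨p', hp'⟩ := hmin q hq
  refine ⟨(g ≫ pullback.fst h j).base p', ?_⟩
  have e1 : h.base ((g ≫ pullback.fst h j).base p') = j.base ((g ≫ p).base p') := by
    rw [← Scheme.Hom.comp_apply, ← Scheme.Hom.comp_apply, Category.assoc, Category.assoc,
      pullback.condition]
  rw [e1, ← hy', ← hφ]
  apply Specializes.map _ j.continuous
  have e2 : (Spec.map φ).base p' = (⟨q, hq.1.1⟩ : PrimeSpectrum _) := hp'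
  rw [e2]
  exact (PrimeSpectrum.le_iff_specializes _ _).1 hqle

end Groth.Agent.H6.DenseSpec
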