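import Mathlib

/-! # Right derivability structures from triangulated subcategories with right resolutions -/

namespace Groth.Agent.H6.DerSt

open CategoryTheory Category Limits Pretriangulated

variable {C : Type*} [Category C] [HasZeroObject C] [HasShift C ℤ] [Preadditive C]
  [∀ n : ℤ, (shiftFunctor C n).Additive] [Pretriangulated C] [IsTriangulated C]
  (A B : ObjectProperty C) [A.IsTriangulated] [B.IsTriangulated] [B.IsClosedUnderIsomorphisms]

/-- every object has a right resolution by an object of `A`, relatively to `B.trW` -/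
def HasRes : Prop := ∀ Y : C, ∃ (Z : C) (b : Y ⟶ Z), A Z ∧ B.trW b

variable {A B}

lemma isVerdierRightLocalizing (h : HasRes A B) : A.IsVerdierRightLocalizing B := by
  rw [ObjectProperty.isVerdierRightLocalizing_iff]
  intro X Y s hX hs
  obtain ⟨Z, b, hZ, hb⟩ := h Y
  refine ⟨Z, s ≫ b, b, hZ, ?_, rfl⟩
  have hsb : B.trW (s ≫ b) := MorphismProperty.comp_mem _ _ _ hs hb
  obtain ⟨W, hW, c, d, hT⟩ := A.distinguished_cocone_triangle (s ≫ b) hX hZ
  exact ⟨_, _, _, hT, ⟨hW, (B.trW_iff_of_distinguished _ hT).1 hsb⟩⟩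

lemma hasRightResolutions (h : HasRes A B) :
    (A.triangulatedLocalizerMorphism B).HasRightResolutions := by
  intro Y
  obtain ⟨Z, b, hZ, hb⟩ := h Y
  exact ⟨{ X₁ := ⟨Z, hZ⟩, w := b, hw := hb }⟩

lemma isLocalizedEquivalence (h : HasRes A B) :
    (A.triangulatedLocalizerMorphism B).IsLocalizedEquivalence := by
  haveI := isVerdierRightLocalizing h
  haveI : (A.triangulatedLocalizerMorphism B).HasRightResolutions := hasRightResolutions h
  let L₁ := (B.inverseImage A.ι).trW.Q
  let L₂ := B.trW.Q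
  let G := (A.triangulatedLocalizerMorphism B).localizedFunctor L₁ L₂
  haveI : ((A.triangulatedLocalizerMorphism B).functor ⋙ L₂).EssSurj :=
    (A.triangulatedLocalizerMorphism B).essSurj_of_hasRightResolutions L₂
  have e : (A.triangulatedLocalizerMorphism B).functor ⋙ L₂ ≅ L₁ ⋙ G :=
    CatCommSq.iso _ _ _ _
  haveI : (L₁ ⋙ G).EssSurj := Functor.essSurj_of_iso e
  haveI : G.EssSurj :=
    ⟨fun Y => ⟨L₁.obj ((L₁ ⋙ G).objPreimage Y), ⟨(L₁ ⋙ G).objObjPreimageIso Y⟩⟩⟩
  haveI : G.IsEquivalence := { }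
  exact LocalizerMorphism.IsLocalizedEquivalence.mk' (A.triangulatedLocalizerMorphism B) L₁ L₂ G

lemma exists_common (h : HasRes A B) {X J J' : C} (w : X ⟶ J) (hw : B.trW w) (w' : X ⟶ J') :
    ∃ (Z : C) (g : J ⟶ Z) (g' : J' ⟶ Z), A Z ∧ B.trW g' ∧ w ≫ g = w' ≫ g' := by
  let φ : B.trW.RightFraction J J' := { X' := X, s := w, hs := hw, f := w' }
  obtain ⟨ψ, hψ⟩ := φ.exists_leftFraction
  obtain ⟨Z, b, hZ, hb⟩ := h ψ.Y'
  refine ⟨Z, ψ.f ≫ b, ψ.s ≫ b, hZ, MorphismProperty.comp_mem _ _ _ ψ.hs hb, ?_⟩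
  have : w' ≫ ψ.s = w ≫ ψ.f := hψ
  rw [← assoc, ← assoc, this]

lemma isConnected_rightResolution (h : HasRes A B) (X : C) :
    IsConnected ((A.triangulatedLocalizerMorphism B).RightResolution X) := by
  haveI : Nonempty ((A.triangulatedLocalizerMorphism B).RightResolution X) :=
    hasRightResolutions h X
  apply zigzag_isConnected
  intro R R'
  obtain ⟨Z, g, g', hZ, hg', hc⟩ := exists_common h R.w R.hw R'.w
  let R'' : (A.triangulatedLocalizerMorphism B).RightResolution X :=
    { X₁ := ⟨Z, hZ⟩, w := R'.w ≫ g', hw := MorphismProperty.comp_mem _ _ _ R'.hw hg' }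
  let f : R ⟶ R'' := { f := ObjectProperty.homMk g, comm := hc }
  let f' : R' ⟶ R'' := { f := ObjectProperty.homMk g', comm := rfl }
  exact (Zigzag.of_hom f).trans (Zigzag.of_inv f')

lemma hasRightResolutions_arrow (h : HasRes A B) :
    (A.triangulatedLocalizerMorphism B).arrow.HasRightResolutions := by
  intro f
  obtain ⟨J, ρ, hJ, hρ⟩ := h f.left
  obtain ⟨Z, g, g', hZ, hg', hc⟩ := exists_common h ρ hρ f.hom
  exact ⟨{ X₁ := Arrow.mk (ObjectProperty.homMk g : (⟨J, hJ⟩ : A.FullSubcategory) ⟶ ⟨Z, hZ⟩)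
           w := Arrow.homMk ρ g' hc
           hw := ⟨hρ, hg'⟩ }⟩

theorem isRightDerivabilityStructure (h : HasRes A B) :
    (A.triangulatedLocalizerMorphism B).IsRightDerivabilityStructure := by
  haveI := isLocalizedEquivalence h
  haveI := fun X => isConnected_rightResolution h X
  haveI := hasRightResolutions_arrow h
  exact LocalizerMorphism.IsRightDerivabilityStructure.mk' _

end Groth.Agent.H6.DerSt
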