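import Groth.Agent.Lib.Helper6.DerSt1

/-! # The triangulated subcategory of the homotopy category of complexes with terms in a class -/

namespace Groth.Agent.H6.DerSt

open CategoryTheory Category Limits Pretriangulated HomologicalComplex ZeroObject

universe v u

variable {A : Type u} [Category.{v} A] [Abelian A] (I : ObjectProperty A)

/-- complexes with terms in `I` -/
def termwise : ObjectProperty (CochainComplex A ℤ) := fun K => ∀ i, I (K.X i)

/-- objects of the homotopy category whose underlying complex has terms in `I` -/
def hTermwise : ObjectProperty (HomotopyCategory A (ComplexShape.up ℤ)) :=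
  (termwise I).strictMap (HomotopyCategory.quotient _ _)

variable {I}

@[simp]
lemma hTermwise_quotient_obj_iff (K : CochainComplex A ℤ) :
    hTermwise I ((HomotopyCategory.quotient _ _).obj K) ↔ termwise I K := by
  refine ⟨?_, fun h ↦ ⟨_, h⟩⟩
  simp only [hTermwise, ObjectProperty.strictMap_iff]
  rintro ⟨L, h, hL⟩
  obtain rfl : L = K := congr_arg Quotient.as hL
  exact h

variable (I) [I.IsClosedUnderIsomorphisms] [I.ContainsZero]

instance : (hTermwise I).ContainsZero where
  exists_zero :=
    ⟨(HomotopyCategory.quotient _ _).obj 0, Functor.map_isZero _ (isZero_zero _), by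
      simp only [hTermwise_quotient_obj_iff]
      intro i
      exact I.prop_of_isZero (Functor.map_isZero (eval A _ i) (isZero_zero _))⟩

instance : (hTermwise I).IsStableUnderShift ℤ where
  isStableUnderShiftBy n :=
    { le_shift K hK := by
        obtain ⟨K : CochainComplex _ _, rfl⟩ := K.quotient_obj_surjective
        simp only [hTermwise_quotient_obj_iff] at hK
        rw [ObjectProperty.prop_shift_iff, HomotopyCategory.shift_quotient_obj,
          hTermwise_quotient_obj_iff]
        intro i
        exact hK _ }

variable (hI : ∀ X Y : A, I X → I Y → I (X ⊞ Y))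

include hI in
lemma termwise_mappingCone {K L : CochainComplex A ℤ} (f : K ⟶ L) (hK : termwise I K)
    (hL : termwise I L) : termwise I (CochainComplex.mappingCone f) := by
  intro i
  exact I.prop_of_iso (homotopyCofiber.XIsoBiprod f i (i + 1) rfl).symm (hI _ _ (hK _) (hL _))

set_option backward.defeqAttrib.useBackward true in
set_option backward.isDefEq.respectTransparency false in
include hI in
lemma isTriangulatedClosed₃ : (hTermwise I).IsTriangulatedClosed₃ where
  ext₃' T hT h₁ h₂ := by
    have h₁' : termwise I T.obj₁.as := by rwa [← hTermwise_quotient_obj_iff]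
    have h₂' : termwise I T.obj₂.as := by rwa [← hTermwise_quotient_obj_iff]
    obtain ⟨f : T.obj₁.as ⟶ T.obj₂.as, hf⟩ := (HomotopyCategory.quotient _ _).map_surjective T.mor₁
    refine ⟨_, ?_,
      ⟨Triangle.π₃.mapIso (isoTriangleOfIso₁₂ T _ hT
        (HomotopyCategory.mappingCone_triangleh_distinguished f)
        (Iso.refl _) (Iso.refl _) ?_)⟩⟩
    · dsimp
      simp only [hTermwise_quotient_obj_iff]
      exact termwise_mappingCone I hI f h₁' h₂'
    · simp [hf]

include hI in
lemma isTriangulated : (hTermwise I).IsTriangulated :=
  haveI := isTriangulatedClosed₃ I hI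
  { toIsTriangulatedClosed₂ := .of_isTriangulatedClosed₃ }

include hI in
lemma hasRes (hres : ∀ K : CochainComplex A ℤ, ∃ (L : CochainComplex A ℤ) (f : K ⟶ L),
      QuasiIso f ∧ termwise I L) :
    haveI := isTriangulated I hI
    HasRes (hTermwise I) (HomotopyCategory.subcategoryAcyclic A) := by
  intro Y
  obtain ⟨K : CochainComplex _ _, rfl⟩ := Y.quotient_obj_surjective
  obtain ⟨L, f, hf, hL⟩ := hres K
  refine ⟨(HomotopyCategory.quotient _ _).obj L, (HomotopyCategory.quotient _ _).map f, ?_, ?_⟩
  · rw [hTermwise_quotient_obj_iff]
    exact hL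
  · rw [← HomotopyCategory.quasiIso_eq_trW_subcategoryAcyclic,
      HomotopyCategory.quotient_map_mem_quasiIso_iff]
    exact hf

end Groth.Agent.H6.DerSt
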