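import Groth.Agent.Lib.Helper6.DerSt2

/-! # Unbounded right derived functors from a class of adapted objects -/

namespace Groth.Agent.H6.DerSt

open CategoryTheory Category Limits Pretriangulated HomologicalComplex ZeroObject

universe w w' v v' u u'

variable {A : Type u} [Category.{v} A] [Abelian A]
  {B : Type u'} [Category.{v'} B] [Abelian B] [HasDerivedCategory.{w'} B]
  (F : A ⥤ B) [F.Additive]
  (I : ObjectProperty A) [I.IsClosedUnderIsomorphisms] [I.ContainsZero]
  (hI : ∀ X Y : A, I X → I Y → I (X ⊞ Y))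
  (hres : ∀ K : CochainComplex A ℤ, ∃ (L : CochainComplex A ℤ) (f : K ⟶ L),
      QuasiIso f ∧ termwise I L)
  (hacyc : ∀ K : CochainComplex A ℤ, termwise I K → K.Acyclic →
      ((F.mapHomologicalComplex (ComplexShape.up ℤ)).obj K).Acyclic)

/-- the functor to be derived -/
noncomputable abbrev G : HomotopyCategory A (ComplexShape.up ℤ) ⥤ DerivedCategory B :=
  F.mapHomotopyCategory (ComplexShape.up ℤ) ⋙ DerivedCategory.Qh

include hI hacyc in
lemma derives :
    haveI := isTriangulated I hI
    ((hTermwise I).triangulatedLocalizerMorphism (HomotopyCategory.subcategoryAcyclic A)).Derives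
      (G F) := by
  haveI := isTriangulated I hI
  intro X Y f hf
  rw [ObjectProperty.trW_inverseImage_ι_iff] at hf
  obtain ⟨Z, g, h, hT, hZ₁, hZ₂⟩ := hf
  obtain ⟨Z₀ : CochainComplex _ _, rfl⟩ := Z.quotient_obj_surjective
  rw [hTermwise_quotient_obj_iff] at hZ₁
  rw [HomotopyCategory.quotient_obj_mem_subcategoryAcyclic_iff_acyclic] at hZ₂
  have hT' := (F.mapHomotopyCategory (ComplexShape.up ℤ)).map_distinguished _ hT
  change IsIso (DerivedCategory.Qh.map ((F.mapHomotopyCategory (ComplexShape.up ℤ)).map f.hom))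
  refine Localization.inverts DerivedCategory.Qh (HomotopyCategory.subcategoryAcyclic B).trW _ ?_
  refine ⟨_, _, _, hT', ?_⟩
  have e : (F.mapHomotopyCategory (ComplexShape.up ℤ)).obj
      ((HomotopyCategory.quotient _ _).obj Z₀) ≅
      (HomotopyCategory.quotient _ _).obj ((F.mapHomologicalComplex _).obj Z₀) :=
    (F.mapHomotopyCategoryFactors (ComplexShape.up ℤ)).app Z₀
  have h0 := hacyc Z₀ hZ₁ hZ₂
  rw [← HomotopyCategory.quotient_obj_mem_subcategoryAcyclic_iff_acyclic] at h0
  exact (HomotopyCategory.subcategoryAcyclic B).prop_of_iso e.symm h0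

include hI hres hacyc in
theorem hasRightDerivedFunctor :
    (G F).HasRightDerivedFunctor (HomotopyCategory.quasiIso A (ComplexShape.up ℤ)) := by
  haveI := isTriangulated I hI
  rw [HomotopyCategory.quasiIso_eq_trW_subcategoryAcyclic]
  haveI := isRightDerivabilityStructure (hasRes I hI hres)
  haveI := (derives F I hI hacyc).hasPointwiseRightDerivedFunctor
  infer_instance

include hI hres hacyc in
theorem isIso_unit {W : MorphismProperty (HomotopyCategory A (ComplexShape.up ℤ))}
    (hW : W = HomotopyCategory.quasiIso A (ComplexShape.up ℤ))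
    {D : Type*} [Category D] (L : HomotopyCategory A (ComplexShape.up ℤ) ⥤ D) [L.IsLocalization W]
    (RF : D ⥤ DerivedCategory B) (α : G F ⟶ L ⋙ RF) [RF.IsRightDerivedFunctor α W]
    (K : CochainComplex A ℤ) (hK : termwise I K) :
    IsIso (α.app ((HomotopyCategory.quotient _ _).obj K)) := by
  haveI := isTriangulated I hI
  rw [HomotopyCategory.quasiIso_eq_trW_subcategoryAcyclic] at hW
  subst hW
  haveI := isRightDerivabilityStructure (hasRes I hI hres)
  exact (derives F I hI hacyc).isIso_of_isRightDerivedFunctor α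
    ⟨(HomotopyCategory.quotient _ _).obj K, (hTermwise_quotient_obj_iff K).2 hK⟩

end Groth.Agent.H6.DerSt
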