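import Groth.Agent.Lib.Helper6.DimZ3

/-! # Resolutions by objects of dimension zero: the two sweeps -/

namespace Groth.Agent.H6.DimZ

open CategoryTheory CategoryTheory.Limits HomologicalComplex

universe v u

variable {A : Type u} [Category.{v} A] [Abelian A]

/-- the hypotheses on a dimension function -/
structure Hyp (d : A → ℕ∞) : Prop where
  hiso : ∀ ⦃X Y : A⦄, Nonempty (X ≅ Y) → d X = d Y
  h1 : ∀ X : A, ∃ (Y : A) (ι : X ⟶ Y), Mono ι ∧ d Y = 0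
  h2 : ∀ X Y : A, d (X ⊞ Y) ≤ max (d X) (d Y)
  h3 : ∀ S : ShortComplex A, S.ShortExact → d S.X₃ ≤ max (d S.X₁ - 1) (d S.X₂)

variable {d : A → ℕ∞} (H : Hyp d)

section Phase1

variable (K : CochainComplex A ℤ)

/-- the complexes of the first sweep -/
noncomputable def p1M : ℕ → CochainComplex A ℤ := fun j =>
  Nat.rec K (fun j Mj => (exists_step d H.hiso H.h1 H.h2 H.h3 Mj (j : ℤ)).choose) j

/-- the maps of the first sweep -/
noncomputable def p1φ (j : ℕ) : p1M H K j ⟶ p1M H K (j + 1) :=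
  (exists_step d H.hiso H.h1 H.h2 H.h3 (p1M H K j) (j : ℤ)).choose_spec.choose

lemma p1_spec (j : ℕ) : QuasiIso (p1φ H K j) ∧
    (∀ k : ℤ, k ≠ j → k ≠ j + 1 → IsIso ((p1φ H K j).f k)) ∧ d ((p1M H K (j + 1)).X j) = 0 :=
  ⟨(exists_step d H.hiso H.h1 H.h2 H.h3 (p1M H K j) (j : ℤ)).choose_spec.choose_spec.1,
   (exists_step d H.hiso H.h1 H.h2 H.h3 (p1M H K j) (j : ℤ)).choose_spec.choose_spec.2.1,
   (exists_step d H.hiso H.h1 H.h2 H.h3 (p1M H K j) (j : ℤ)).choose_spec.choose_spec.2.2.1⟩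

lemma p1_inv (j : ℕ) : ∀ k : ℤ, 0 ≤ k → k < j → d ((p1M H K j).X k) = 0 := by
  induction j with
  | zero => intro k h0 hk; exfalso; simp at hk; omega
  | succ j ih =>
    intro k h0 hk
    obtain ⟨_, h2, h3⟩ := p1_spec H K j
    by_cases hkj : k = j
    · subst hkj
      exact h3
    · haveI : IsIso ((p1φ H K j).f k) := h2 k hkj (by push_cast at hk; omega)
      rw [← H.hiso ⟨asIso ((p1φ H K j).f k)⟩]
      exact ih k h0 (by push_cast at hk; omega)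

include H in
theorem exists_phase1 : ∃ (M : CochainComplex A ℤ) (φ : K ⟶ M), QuasiIso φ ∧
    (∀ k : ℤ, k < 0 → IsIso (φ.f k)) ∧ ∀ k : ℤ, 0 ≤ k → d (M.X k) = 0 := by
  have hiso : ∀ (i : ℤ) (J : ℕ), i < J → ∀ j, J ≤ j → IsIso ((p1φ H K j).f i) := by
    intro i J hi j hj
    have : (J : ℤ) ≤ j := by exact_mod_cast hj
    exact (p1_spec H K j).2.1 i (by omega) (by omega)
  obtain ⟨L, ψ, hψ₁, hψ₂, hψ₃⟩ := exists_colimit (p1M H K) (p1φ H K)
    (fun j => (p1_spec H K j).1) (fun i => ⟨(i + 1).toNat, hiso i _ (by omega)⟩)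
  refine ⟨L, ψ 0, hψ₂ 0, fun k hk => hψ₃ k 0 (hiso k 0 (by simpa using hk)), fun k hk => ?_⟩
  have hJ : k < ((k + 1).toNat : ℤ) := by omega
  haveI := hψ₃ k (k + 1).toNat (hiso k _ hJ)
  rw [← H.hiso ⟨asIso ((ψ (k + 1).toNat).f k)⟩]
  exact p1_inv H K _ k hk hJ

end Phase1

section Phase2

variable (M : CochainComplex A ℤ)

/-- the lengths of the sweeps -/
noncomputable def p2n (j : ℕ) : ℕ := (d (M.X (-1 - (j : ℤ)))).toNat

/-- the complexes of the second sweep -/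
noncomputable def p2M : ℕ → CochainComplex A ℤ := fun j =>
  Nat.rec M (fun j Mj =>
    (exists_sweep d H.hiso H.h1 H.h2 H.h3 (p2n (d := d) M j) Mj (-1 - (j : ℤ))).choose) j

/-- the maps of the second sweep -/
noncomputable def p2φ (j : ℕ) : p2M H M j ⟶ p2M H M (j + 1) :=
  (exists_sweep d H.hiso H.h1 H.h2 H.h3 (p2n (d := d) M j) (p2M H M j)
    (-1 - (j : ℤ))).choose_spec.choose

lemma p2_spec (j : ℕ) : QuasiIso (p2φ H M j) ∧
    (∀ k : ℤ, (k < -1 - (j : ℤ) ∨ -1 - (j : ℤ) + (p2n (d := d) M j : ℕ) < k) →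
      IsIso ((p2φ H M j).f k)) ∧
    ((∀ k, -1 - (j : ℤ) < k → d ((p2M H M j).X k) = 0) →
      d ((p2M H M j).X (-1 - (j : ℤ))) ≤ (p2n (d := d) M j : ℕ) →
      ∀ k, -1 - (j : ℤ) ≤ k → d ((p2M H M (j + 1)).X k) = 0) :=
  (exists_sweep d H.hiso H.h1 H.h2 H.h3 (p2n (d := d) M j) (p2M H M j)
    (-1 - (j : ℤ))).choose_spec.choose_spec

variable (hM0 : ∀ k : ℤ, 0 ≤ k → d (M.X k) = 0) (hfin : ∀ n : ℤ, d (M.X n) ≠ ⊤)

include hM0 hfin in
lemma p2_inv (j : ℕ) : (∀ k : ℤ, -(j : ℤ) ≤ k → d ((p2M H M j).X k) = 0) ∧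
    (∀ k : ℤ, k < -(j : ℤ) → d ((p2M H M j).X k) = d (M.X k)) := by
  induction j with
  | zero =>
    refine ⟨fun k hk => hM0 k (by simpa using hk), fun k _ => rfl⟩
  | succ j ih =>
    obtain ⟨_, hk₂, hd⟩ := p2_spec H M j
    refine ⟨fun k hk => ?_, fun k hk => ?_⟩
    · refine hd (fun k' hk' => ih.1 k' (by omega)) ?_ k (by push_cast at hk; omega)
      rw [ih.2 _ (by omega), p2n, ENat.natCast_toNat (hfin _)]
    · haveI : IsIso ((p2φ H M j).f k) := hk₂ k (Or.inl (by push_cast at hk; omega))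
      rw [← H.hiso ⟨asIso ((p2φ H M j).f k)⟩]
      exact ih.2 k (by push_cast at hk; omega)

include H hM0 hfin in
theorem exists_phase2
    (hr : ∀ i : ℤ, ∃ N : ℤ, ∀ n : ℤ, n ≤ N → n + ((d (M.X n)).toNat : ℤ) < i) :
    ∃ (L : CochainComplex A ℤ) (ψ : M ⟶ L), QuasiIso ψ ∧ ∀ n : ℤ, d (L.X n) = 0 := by
  have hiso : ∀ (i : ℤ), ∃ J : ℕ, ∀ j, J ≤ j → IsIso ((p2φ H M j).f i) := by
    intro i
    obtain ⟨N, hN⟩ := hr i
    refine ⟨(-1 - N).toNat, fun j hj => (p2_spec H M j).2.1 i (Or.inr ?_)⟩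
    have h1 : -1 - (j : ℤ) ≤ N := by omega
    have := hN _ h1
    rw [p2n]
    exact this
  obtain ⟨L, ψ, hψ₁, hψ₂, hψ₃⟩ := exists_colimit (p2M H M) (p2φ H M)
    (fun j => (p2_spec H M j).1) hiso
  refine ⟨L, ψ 0, hψ₂ 0, fun n => ?_⟩
  obtain ⟨J, hJ⟩ := hiso n
  let J' := max J (-n).toNat
  haveI := hψ₃ n J' (fun j hj => hJ j ((le_max_left _ _).trans hj))
  rw [← H.hiso ⟨asIso ((ψ J').f n)⟩]
  refine (p2_inv H M hM0 hfin J').1 n ?_
  have : (-n).toNat ≤ J' := le_max_right _ _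
  omega

end Phase2

include H in
theorem main (K : CochainComplex A ℤ) (hfin : ∀ n : ℤ, d (K.X n) ≠ ⊤)
    (hK : ∀ m : ℤ, ∃ N : ℤ, ∀ n : ℤ, n ≤ N → ∃ k : ℕ, d (K.X n) = k ∧ n + k ≤ m) :
    ∃ (L : CochainComplex A ℤ) (f : K ⟶ L), QuasiIso f ∧ ∀ n, d (L.X n) = 0 := by
  obtain ⟨M, φ, hφ, hφiso, hM0⟩ := exists_phase1 H K
  have hneg : ∀ n : ℤ, n < 0 → d (M.X n) = d (K.X n) := by
    intro n hn
    haveI := hφiso n hn
    exact (H.hiso ⟨asIso (φ.f n)⟩).symm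
  have hfinM : ∀ n : ℤ, d (M.X n) ≠ ⊤ := by
    intro n
    by_cases hn : n < 0
    · rw [hneg n hn]; exact hfin n
    · rw [hM0 n (by omega)]; simp
  have hr : ∀ i : ℤ, ∃ N : ℤ, ∀ n : ℤ, n ≤ N → n + ((d (M.X n)).toNat : ℤ) < i := by
    intro i
    obtain ⟨N, hN⟩ := hK (i - 1)
    refine ⟨min N (-1), fun n hn => ?_⟩
    obtain ⟨k, hk, hle⟩ := hN n (hn.trans (min_le_left _ _))
    have hn0 : n < 0 := by have := hn.trans (min_le_right _ _); omega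
    rw [hneg n hn0, hk]
    simp only [ENat.toNat_coe]
    omega
  obtain ⟨L, ψ, hψ, hL⟩ := exists_phase2 H M hM0 hfinM hr
  exact ⟨L, φ ≫ ψ, inferInstance, hL⟩

end Groth.Agent.H6.DimZ
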