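import Groth.Agent.Lib.Helper6.DerSt3
import Groth.Agent.Lib.Helper6.DimZ4
import Groth.Agent.Lib.Helper2.RDer9

/-! # Functors of finite cohomological dimension: dimension function and acyclic complexes -/

namespace Groth.Agent.H6.DerSt

open CategoryTheory Category Limits HomologicalComplex ZeroObject Groth.Agent.H2.RDer

universe v v' u u'

variable {A : Type u} [Category.{v} A] [Abelian A] [HasInjectiveResolutions A]
  {B : Type u'} [Category.{v'} B] [Abelian B]

omit [HasInjectiveResolutions A] in
lemma enoughInjectives_of_hasInjectiveResolutions [HasInjectiveResolutions A] :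
    EnoughInjectives A where
  presentation X :=
    ⟨{ J := (injectiveResolution X).cocomplex.X 0
       injective := inferInstance
       f := ι0 (injectiveResolution X)
       mono := inferInstance }⟩

variable (F : A ⥤ B) [F.Additive] [PreservesFiniteLimits F]

/-- the short exact sequence `X → J → J/X` with `J` injective -/
noncomputable def embSC (X : A) : ShortComplex A :=
  ShortComplex.mk (ι0 (injectiveResolution X)) (cokernel.π _) (cokernel.condition _)

lemma embSC_shortExact (X : A) : (embSC X).ShortExact where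
  exact := ShortComplex.exact_cokernel _
  mono_f := inferInstanceAs (Mono (ι0 (injectiveResolution X)))
  epi_g := inferInstanceAs (Epi (cokernel.π _))

section

variable (n : ℕ) (hn : ∀ X : A, IsZero ((F.rightDerived n).obj X))

include hn in
lemma isZero_rightDerived_of_le (i : ℕ) (hi : n ≤ i) (X : A) :
    IsZero ((F.rightDerived i).obj X) := by
  induction i, hi using Nat.le_induction generalizing X with
  | base => exact hn X
  | succ i _ ih =>
    refine isZero_X₁ F (embSC_shortExact X) i (ih _) ?_
    exact F.isZero_rightDerived_obj_injective_succ i ((injectiveResolution X).cocomplex.X 0)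

end

/-- `R^iF X = 0` for `i > k` -/
def Pk (k : ℕ) (X : A) : Prop := ∀ i : ℕ, k < i → IsZero ((F.rightDerived i).obj X)

lemma Pk_mono {k k' : ℕ} (h : k ≤ k') {X : A} (hX : Pk F k X) : Pk F k' X :=
  fun i hi => hX i (by omega)

lemma Pk_of_iso {k : ℕ} {X Y : A} (e : X ≅ Y) (hX : Pk F k X) : Pk F k Y :=
  fun i hi => IsZero.of_iso (hX i hi) ((F.rightDerived i).mapIso e.symm)

section

variable (n : ℕ) (hn : ∀ X : A, IsZero ((F.rightDerived n).obj X))

include hn in
lemma exists_Pk (X : A) : ∃ k, Pk F k X :=
  ⟨n, fun i hi => isZero_rightDerived_of_le F n hn i (by omega) X⟩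

open Classical in
/-- the cohomological dimension of an object, as a natural number -/
noncomputable def dn (X : A) : ℕ := Nat.find (exists_Pk F n hn X)

lemma Pk_dn (X : A) : Pk F (dn F n hn X) X := by
  classical
  exact Nat.find_spec (exists_Pk F n hn X)

lemma dn_le {X : A} {k : ℕ} (h : Pk F k X) : dn F n hn X ≤ k := by
  classical
  exact Nat.find_min' (exists_Pk F n hn X) h

lemma dn_le_n (X : A) : dn F n hn X ≤ n :=
  dn_le F n hn (fun i hi => isZero_rightDerived_of_le F n hn i (by omega) X)

/-- the dimension function -/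
noncomputable def dF (X : A) : ℕ∞ := (dn F n hn X : ℕ∞)

lemma hyp : DimZ.Hyp (dF F n hn) where
  hiso := by
    rintro X Y ⟨e⟩
    simp only [dF]
    congr 1
    exact le_antisymm (dn_le F n hn (Pk_of_iso F e.symm (Pk_dn F n hn Y)))
      (dn_le F n hn (Pk_of_iso F e (Pk_dn F n hn X)))
  h1 := by
    intro X
    refine ⟨(injectiveResolution X).cocomplex.X 0, ι0 (injectiveResolution X), inferInstance, ?_⟩
    simp only [dF]
    have : dn F n hn ((injectiveResolution X).cocomplex.X 0) ≤ 0 :=
      dn_le F n hn (fun i hi => by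
        obtain ⟨k, rfl⟩ : ∃ k, i = k + 1 := ⟨i - 1, by omega⟩
        exact F.isZero_rightDerived_obj_injective_succ k _)
    have h0 : dn F n hn ((injectiveResolution X).cocomplex.X 0) = 0 := by omega
    rw [h0]
    rfl
  h2 := by
    intro X Y
    simp only [dF]
    suffices h : dn F n hn (X ⊞ Y) ≤ max (dn F n hn X) (dn F n hn Y) by
      rcases le_max_iff.1 h with h | h
      · exact le_max_of_le_left (Nat.cast_le.2 h)
      · exact le_max_of_le_right (Nat.cast_le.2 h)
    refine dn_le F n hn ?_
    have hX := Pk_mono F (le_max_left (dn F n hn X) (dn F n hn Y)) (Pk_dn F n hn X)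
    have hY := Pk_mono F (le_max_right (dn F n hn X) (dn F n hn Y)) (Pk_dn F n hn Y)
    intro i hi
    have hS : (ShortComplex.mk (biprod.inl : X ⟶ X ⊞ Y) biprod.snd biprod.inl_snd).ShortExact :=
      (ShortComplex.Splitting.mk biprod.fst biprod.inr biprod.inl_fst biprod.inr_snd
        biprod.total).shortExact
    exact isZero_X₂ F hS i (hX i hi) (hY i hi)
  h3 := by
    intro S hS
    simp only [dF]
    have h : dn F n hn S.X₃ ≤ max (dn F n hn S.X₁ - 1) (dn F n hn S.X₂) := by
      refine dn_le F n hn (fun i hi => ?_)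
      have h1 : dn F n hn S.X₁ - 1 < i := lt_of_le_of_lt (le_max_left _ _) hi
      have h2 : dn F n hn S.X₂ < i := lt_of_le_of_lt (le_max_right _ _) hi
      exact isZero_X₃ F hS i (Pk_dn F n hn S.X₂ i h2) (Pk_dn F n hn S.X₁ (i + 1) (by omega))
    rcases le_max_iff.1 h with h | h
    · refine le_max_of_le_left ?_
      have := Nat.cast_le (α := ℕ∞).2 h
      rwa [ENat.natCast_sub, Nat.cast_one] at this
    · exact le_max_of_le_right (Nat.cast_le.2 h)

include hn in
theorem exists_resolution (K : CochainComplex A ℤ) :
    ∃ (L : CochainComplex A ℤ) (f : K ⟶ L), QuasiIso f ∧ ∀ i, Pk F 0 (L.X i) := by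
  obtain ⟨L, f, hf, hL⟩ := DimZ.main (hyp F n hn) K (fun i => by simp [dF])
    (fun m => ⟨m - n, fun i hi => ⟨dn F n hn (K.X i), rfl, by
      have := dn_le_n F n hn (K.X i)
      omega⟩⟩)
  refine ⟨L, f, hf, fun i => ?_⟩
  have h0 : dn F n hn (L.X i) = 0 := by
    have := hL i
    simp only [dF] at this
    exact_mod_cast this
  have := Pk_dn F n hn (L.X i)
  rwa [h0] at this

end

end Groth.Agent.H6.DerSt
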