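import Groth.Agent.Lib.Helper6.DerSt4

/-! # Functors of finite cohomological dimension preserve acyclic complexes of acyclic objects;
the unbounded right derived functor -/

namespace Groth.Agent.H6.DerSt

open CategoryTheory Category Limits HomologicalComplex ZeroObject Groth.Agent.H2.RDer

universe w w' v v' u u'

variable {A : Type u} [Category.{v} A] [Abelian A] [HasInjectiveResolutions A]
  {B : Type u'} [Category.{v'} B] [Abelian B]
  (F : A ⥤ B) [F.Additive] [PreservesFiniteLimits F]
  (n : ℕ) (hn : ∀ X : A, IsZero ((F.rightDerived n).obj X))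

include hn in
lemma isZero_rightDerived_cycles (C : CochainComplex A ℤ) (hC : C.Acyclic)
    (hI : ∀ i, Pk F 0 (C.X i)) (j : ℕ) (hj : 0 < j) (i : ℤ) :
    IsZero ((F.rightDerived j).obj (kernel (C.d i (i + 1)))) := by
  have key : ∀ (k j : ℕ), 0 < j → n ≤ j + k → ∀ i : ℤ,
      IsZero ((F.rightDerived j).obj (kernel (C.d i (i + 1)))) := by
    intro k
    induction k with
    | zero =>
      intro j _ hjn i
      exact isZero_rightDerived_of_le F n hn j (by omega) _
    | succ k ih =>
      intro j hj hjn i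
      have h1 := ih (j + 1) (by omega) (by omega)
      obtain ⟨i', rfl⟩ : ∃ i', i = i' + 1 := ⟨i - 1, by omega⟩
      exact isZero_X₃ F (cycSC_shortExact C i' (hC (i' + 1))) j (hI i' j hj) (h1 i')
  exact key n j hj (by omega) i

include hn in
theorem acyclic_map (C : CochainComplex A ℤ) (hC : C.Acyclic) (hI : ∀ i, Pk F 0 (C.X i)) :
    ((F.mapHomologicalComplex (ComplexShape.up ℤ)).obj C).Acyclic := by
  intro m
  have hF : ∀ i, ((cycSC C i).map F).ShortExact := fun i =>
    shortExact_map_of_epi F (cycSC_shortExact C i (hC (i + 1)))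
      (epi_map_g_of_isZero F (cycSC_shortExact C i (hC (i + 1)))
        (isZero_rightDerived_cycles F n hn C hC hI 1 (by omega) i))
  obtain ⟨k, rfl⟩ : ∃ k, m = k + 1 := ⟨m - 1, by omega⟩
  have hmono : ∀ n, Mono (F.map (cycι C n)) := fun n => (hF n).mono_f
  have hepi : ∀ n, Epi (F.map (cycLift C n)) := fun n => (hF n).epi_g
  have hex : ∀ (n : ℤ) {T : B} (y : T ⟶ F.obj (C.X n)), y ≫ F.map (cycLift C n) = 0 →
      ∃ (T' : B) (π : T' ⟶ T) (_ : Epi π) (z : T' ⟶ F.obj (kernel (C.d n (n + 1)))),
        π ≫ y = z ≫ F.map (cycι C n) :=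
    fun n T y hy => (hF n).exact.exact_up_to_refinements y hy
  rw [HomologicalComplex.exactAt_iff' _ k (k + 1) (k + 1 + 1) (by simp) (by simp),
    ShortComplex.exact_iff_exact_up_to_refinements]
  intro T y hy
  let y' : T ⟶ F.obj (C.X (k + 1)) := y
  have hy' : y' ≫ F.map (C.d (k + 1) (k + 1 + 1)) = 0 := hy
  haveI := hmono (k + 1 + 1)
  haveI := hepi k
  have h1 : y' ≫ F.map (cycLift C (k + 1)) = 0 := by
    rw [← cancel_mono (F.map (cycι C (k + 1 + 1))), Category.assoc, ← F.map_comp, cycLift_ι,
      hy', zero_comp]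
  obtain ⟨T1, π1, hπ1, z, hz⟩ := hex (k + 1) y' h1
  obtain ⟨T2, π2, hπ2, w, hw⟩ := surjective_up_to_refinements_of_epi (F.map (cycLift C k)) z
  refine ⟨T2, π2 ≫ π1, inferInstance, w, ?_⟩
  have : (π2 ≫ π1) ≫ y' = w ≫ F.map (C.d k (k + 1)) := by
    rw [Category.assoc, hz, reassoc_of% hw, ← cycLift_ι C k, F.map_comp]
  exact this

section

variable [HasDerivedCategory.{w'} B]

/-- the class of right `F`-acyclic objects as an object property -/
def acycP : ObjectProperty A := Pk F 0

instance : (acycP F).IsClosedUnderIsomorphisms where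
  of_iso e h := Pk_of_iso F e h

instance : (acycP F).ContainsZero where
  exists_zero := ⟨0, isZero_zero A, fun i hi => by
    obtain ⟨k, rfl⟩ : ∃ k, i = k + 1 := ⟨i - 1, by omega⟩
    exact F.isZero_rightDerived_obj_injective_succ k _⟩

lemma acycP_biprod (X Y : A) (hX : acycP F X) (hY : acycP F Y) : acycP F (X ⊞ Y) := by
  intro i hi
  have hS : (ShortComplex.mk (biprod.inl : X ⟶ X ⊞ Y) biprod.snd biprod.inl_snd).ShortExact :=
    (ShortComplex.Splitting.mk biprod.fst biprod.inr biprod.inl_fst biprod.inr_snd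
      biprod.total).shortExact
  exact isZero_X₂ F hS i (hX i hi) (hY i hi)

include hn in
theorem main_hasRightDerivedFunctor :
    (F.mapHomotopyCategory (ComplexShape.up ℤ) ⋙ DerivedCategory.Qh).HasRightDerivedFunctor
      (HomotopyCategory.quasiIso A (ComplexShape.up ℤ)) :=
  hasRightDerivedFunctor F (acycP F) (acycP_biprod F)
    (fun K => exists_resolution F n hn K)
    (fun K hK hK' => acyclic_map F n hn K hK' hK)

include hn in
theorem main_isIso_unit
    [(F.mapHomotopyCategory (ComplexShape.up ℤ) ⋙ DerivedCategory.Qh).HasRightDerivedFunctor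
      (HomotopyCategory.quasiIso A (ComplexShape.up ℤ))] [HasDerivedCategory.{w} A]
    (K : CochainComplex A ℤ)
    (hK : ∀ (m : ℤ) (i : ℕ), 0 < i → IsZero ((F.rightDerived i).obj (K.X m))) :
    IsIso (((F.mapHomotopyCategory (ComplexShape.up ℤ) ⋙ DerivedCategory.Qh).totalRightDerivedUnit
      DerivedCategory.Qh (HomotopyCategory.quasiIso A (ComplexShape.up ℤ))).app
        ((HomotopyCategory.quotient A (ComplexShape.up ℤ)).obj K)) :=
  isIso_unit F (acycP F) (acycP_biprod F) (fun K => exists_resolution F n hn K)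
    (fun K hK hK' => acyclic_map F n hn K hK' hK) rfl DerivedCategory.Qh _ _ K
    (fun m i hi => hK m i hi)

end

end Groth.Agent.H6.DerSt
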