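import Mathlib
import Groth.Agent.Lib.Helper6.Cech4
import Groth.Agent.Lib.Helper6.HomologyElts

/-! Derivations act on local cohomology (via the extended Čech complex). -/

set_option autoImplicit false
set_option linter.unusedSectionVars false

open CategoryTheory Limits Category

universe u

namespace Groth.Agent.H6.DerivLC

variable {A : Type u} [CommRing A] (θ : Derivation ℤ A A)

/-- A `θ`-connection on a module. -/
structure Conn (M : Type u) [AddCommGroup M] [Module A M] where
  D : M →+ M
  leib : ∀ (a : A) (x : M), D (a • x) = θ a • x + a • D x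

/-- The twisted square `M ⊕ M` with `a • (x, y) = (a x, θ(a) x + a y)`. -/
def Tw (_θ : Derivation ℤ A A) (M : Type u) : Type u := M × M

section Tw

variable (M : Type u) [AddCommGroup M] [Module A M]

instance : AddCommGroup (Tw θ M) := inferInstanceAs (AddCommGroup (M × M))

instance : SMul A (Tw θ M) := ⟨fun a p => ((a • p.1, θ a • p.1 + a • p.2) : M × M)⟩

variable {M}

@[ext] lemma Tw.ext {p q : Tw θ M} (h1 : p.1 = q.1) (h2 : p.2 = q.2) : p = q := Prod.ext h1 h2

@[simp] lemma Tw.smul_fst (a : A) (p : Tw θ M) : (a • p).1 = a • p.1 := rfl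
@[simp] lemma Tw.smul_snd (a : A) (p : Tw θ M) : (a • p).2 = θ a • p.1 + a • p.2 := rfl
@[simp] lemma Tw.add_fst (p q : Tw θ M) : (p + q).1 = p.1 + q.1 := rfl
@[simp] lemma Tw.add_snd (p q : Tw θ M) : (p + q).2 = p.2 + q.2 := rfl
@[simp] lemma Tw.zero_fst : (0 : Tw θ M).1 = 0 := rfl
@[simp] lemma Tw.zero_snd : (0 : Tw θ M).2 = 0 := rfl

variable (M) in
instance : Module A (Tw θ M) where
  one_smul p := by
    ext <;> simp
  mul_smul a b p := by
    ext
    · simp [mul_smul]
    · simp only [Tw.smul_snd, Tw.smul_fst, Derivation.leibniz, smul_eq_mul, smul_add, add_smul,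
        mul_smul]
      rw [smul_comm b (θ a) p.1]
      abel
  smul_zero a := by ext <;> simp
  smul_add a p q := by
    ext
    · simp
    · simp only [Tw.smul_snd, Tw.add_fst, Tw.add_snd, smul_add]; abel
  add_smul a b p := by
    ext
    · simp [add_smul]
    · simp only [Tw.smul_snd, Tw.add_snd, map_add, add_smul]; abel
  zero_smul p := by ext <;> simp

variable (M) in
/-- first projection (linear) -/
def Tw.fstL : Tw θ M →ₗ[A] M where
  toFun p := p.1
  map_add' _ _ := rfl
  map_smul' _ _ := rfl

/-- functoriality -/
def Tw.map {N : Type u} [AddCommGroup N] [Module A N] (f : M →ₗ[A] N) : Tw θ M →ₗ[A] Tw θ N where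
  toFun p := ((f p.1, f p.2) : N × N)
  map_add' p q := by ext <;> simp [map_add] <;> rfl
  map_smul' a p := by
    ext
    · change f (a • p.1) = a • f p.1
      rw [map_smul]
    · change f (θ a • p.1 + a • p.2) = θ a • f p.1 + a • f p.2
      rw [map_add, map_smul, map_smul]

end Tw

section Loc

variable {θ} {M : Type u} [AddCommGroup M] [Module A M] (c : Conn θ M) (S : Submonoid A)

/-- the section `x ↦ (x/1, D(x)/1)` -/
noncomputable def Conn.sec : M →ₗ[A] Tw θ (LocalizedModule S M) where
  toFun x := ((LocalizedModule.mk x 1, LocalizedModule.mk (c.D x) 1) :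
    LocalizedModule S M × LocalizedModule S M)
  map_add' x y := by
    ext
    · change LocalizedModule.mkLinearMap S M (x + y) = LocalizedModule.mkLinearMap S M x +
        LocalizedModule.mkLinearMap S M y
      rw [map_add]
    · change LocalizedModule.mkLinearMap S M (c.D (x + y)) = LocalizedModule.mkLinearMap S M (c.D x) +
        LocalizedModule.mkLinearMap S M (c.D y)
      rw [map_add, map_add]
  map_smul' a x := by
    ext
    · change LocalizedModule.mkLinearMap S M (a • x) = a • LocalizedModule.mkLinearMap S M x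
      rw [map_smul]
    · change LocalizedModule.mkLinearMap S M (c.D (a • x)) = θ a • LocalizedModule.mkLinearMap S M x +
        a • LocalizedModule.mkLinearMap S M (c.D x)
      rw [c.leib, map_add, map_smul, map_smul]

lemma isUnit_tw (N : Type u) [AddCommGroup N] [Module A N]
    (hN : ∀ t : S, Function.Bijective (fun x : N => (t : A) • x)) (t : S) :
    IsUnit (algebraMap A (Module.End A (Tw θ N)) t) := by
  rw [Module.End.isUnit_iff]
  constructor
  · rw [injective_iff_map_eq_zero]
    intro p hp
    have h1 : (t : A) • p.1 = 0 := congrArg Prod.fst hp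
    have h2 : θ (t : A) • p.1 + (t : A) • p.2 = 0 := congrArg Prod.snd hp
    have h3 : p.1 = 0 := (hN t).1 (by simp only [h1, smul_zero])
    rw [h3, smul_zero, zero_add] at h2
    have h4 : p.2 = 0 := (hN t).1 (by simp only [h2, smul_zero])
    exact Tw.ext θ h3 h4
  · intro q
    obtain ⟨x, hx⟩ := (hN t).2 q.1
    obtain ⟨y, hy⟩ := (hN t).2 (q.2 - θ (t : A) • x)
    refine ⟨((x, y) : N × N), ?_⟩
    apply Tw.ext θ
    · exact hx
    · change θ (t : A) • x + (t : A) • y = q.2
      have : (t : A) • y = q.2 - θ (t : A) • x := hy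
      rw [this]; abel

lemma smul_bijective_loc (t : S) :
    Function.Bijective (fun x : LocalizedModule S M => (t : A) • x) := by
  have h := IsLocalizedModule.map_units (LocalizedModule.mkLinearMap S M) t
  rw [Module.End.isUnit_iff] at h
  exact h

/-- the extension of the section to the localisation -/
noncomputable def Conn.secLoc : LocalizedModule S M →ₗ[A] Tw θ (LocalizedModule S M) :=
  LocalizedModule.lift S (c.sec S) (isUnit_tw S _ (smul_bijective_loc S))

lemma Conn.secLoc_mk_one (x : M) :
    c.secLoc S (LocalizedModule.mk x 1) = c.sec S x :=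
  LocalizedModule.lift_mk_one _ _ _ x

lemma Conn.fst_secLoc (z : LocalizedModule S M) : (c.secLoc S z).1 = z := by
  have h : (Tw.fstL θ (LocalizedModule S M)) ∘ₗ c.secLoc S = LinearMap.id := by
    apply IsLocalizedModule.ext S (LocalizedModule.mkLinearMap S M)
      (IsLocalizedModule.map_units (LocalizedModule.mkLinearMap S M))
    ext x
    change (c.secLoc S (LocalizedModule.mk x 1)).1 = LocalizedModule.mk x 1
    rw [c.secLoc_mk_one]
    rfl
  exact congrArg (fun φ => φ z) h

/-- the localised connection -/
noncomputable def Conn.loc : Conn θ (LocalizedModule S M) where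
  D := { toFun := fun z => (c.secLoc S z).2
         map_zero' := by rw [map_zero]; rfl
         map_add' := fun x y => by rw [map_add]; rfl }
  leib a z := by
    change (c.secLoc S (a • z)).2 = θ a • z + a • (c.secLoc S z).2
    rw [map_smul]
    change θ a • (c.secLoc S z).1 + a • (c.secLoc S z).2 = _
    rw [c.fst_secLoc]

lemma Conn.loc_mk_one (x : M) :
    (c.loc S).D (LocalizedModule.mk x 1) = LocalizedModule.mk (c.D x) 1 := by
  change (c.secLoc S (LocalizedModule.mk x 1)).2 = _
  rw [c.secLoc_mk_one]
  rfl

/-- compatibility of the localised connections with localised maps -/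
lemma Conn.loc_map {N : Type u} [AddCommGroup N] [Module A N] (c' : Conn θ N) (f : M →ₗ[A] N)
    (hf : ∀ x, f (c.D x) = c'.D (f x)) (z : LocalizedModule S M) :
    (IsLocalizedModule.map S (LocalizedModule.mkLinearMap S M) (LocalizedModule.mkLinearMap S N) f)
      ((c.loc S).D z) = (c'.loc S).D
        ((IsLocalizedModule.map S (LocalizedModule.mkLinearMap S M)
          (LocalizedModule.mkLinearMap S N) f) z) := by
  set fS := IsLocalizedModule.map S (LocalizedModule.mkLinearMap S M)
    (LocalizedModule.mkLinearMap S N) f with hfS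
  have h : (Tw.map θ fS) ∘ₗ c.secLoc S = c'.secLoc S ∘ₗ fS := by
    apply IsLocalizedModule.ext S (LocalizedModule.mkLinearMap S M)
      (fun t => isUnit_tw S _ (smul_bijective_loc S) t)
    ext x
    · change fS ((c.secLoc S (LocalizedModule.mk x 1)).1) =
        (c'.secLoc S (fS (LocalizedModule.mkLinearMap S M x))).1
      rw [c.fst_secLoc, c'.fst_secLoc]
      rfl
    · change fS ((c.secLoc S (LocalizedModule.mk x 1)).2) =
        (c'.secLoc S (fS (LocalizedModule.mkLinearMap S M x))).2
      rw [hfS, IsLocalizedModule.map_apply, c.secLoc_mk_one]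
      change (IsLocalizedModule.map S (LocalizedModule.mkLinearMap S M)
        (LocalizedModule.mkLinearMap S N) f) (LocalizedModule.mkLinearMap S M (c.D x)) =
          (c'.secLoc S (LocalizedModule.mk (f x) 1)).2
      rw [IsLocalizedModule.map_apply, c'.secLoc_mk_one, hf]
      rfl
  exact congrArg (fun φ => (φ z).2) h

end Loc

open DerCA CochainComplex HomComplex Cech

/-- A `θ`-connection on a complex of modules. -/
structure DOp (K : DRing.Cx A) where
  D : ∀ n : ℤ, K.X n →+ K.X n
  leib : ∀ (n : ℤ) (a : A) (x : K.X n), D n (a • x) = θ a • x + a • D n x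
  comm : ∀ (n m : ℤ) (x : K.X n), D m ((K.d n m).hom x) = (K.d n m).hom (D n x)

variable {θ}

/-- the connection on the term of a complex -/
def DOp.conn {K : DRing.Cx A} (c : DOp θ K) (n : ℤ) : Conn θ (K.X n) := ⟨c.D n, c.leib n⟩

/-- `θ` itself, on `A[0]`. -/
noncomputable def DOp.single :
    DOp θ ((HomologicalComplex.single (ModuleCat.{u} A) (ComplexShape.up ℤ) 0).obj (ModuleCat.of A A)) where
  D n := if h : n = 0 then
      (h ▸ ((HomologicalComplex.singleObjXSelf (ComplexShape.up ℤ) 0 (ModuleCat.of A A)).inv.hom.toAddMonoidHom.comp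
        ((θ : A →+ A).comp
          (HomologicalComplex.singleObjXSelf (ComplexShape.up ℤ) 0 (ModuleCat.of A A)).hom.hom.toAddMonoidHom)))
    else 0
  leib n a x := by
    by_cases h : n = 0
    · subst h
      simp only [dite_true]
      set e := HomologicalComplex.singleObjXSelf (ComplexShape.up ℤ) 0 (ModuleCat.of A A) with he
      change e.inv.hom (θ (e.hom.hom (a • x))) = θ a • x + a • e.inv.hom (θ (e.hom.hom x))
      have h1 : e.inv.hom (e.hom.hom x) = x := by
        have := congrArg (fun ψ => ψ.hom x) e.hom_inv_id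
        exact this
      have h2 : θ (e.hom.hom (a • x)) = a • θ (e.hom.hom x) + θ a • e.hom.hom x := by
        rw [map_smul, smul_eq_mul, Derivation.leibniz, smul_eq_mul, smul_eq_mul, smul_eq_mul, mul_comm (θ a)]
      rw [h2, map_add, map_smul, map_smul, h1, add_comm]
    · have := ModuleCat.subsingleton_of_isZero
        (HomologicalComplex.isZero_single_obj_X (ComplexShape.up ℤ) 0 (ModuleCat.of A A) n h)
      exact Subsingleton.elim _ _
  comm n m x := by
    by_cases h : m = 0
    · subst h
      by_cases h' : n = 0
      · subst h'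
        have : ((HomologicalComplex.single (ModuleCat.{u} A) (ComplexShape.up ℤ) 0).obj
            (ModuleCat.of A A)).d 0 0 = 0 := HomologicalComplex.shape _ _ _ (by simp)
        rw [this]
        simp
      · have := ModuleCat.subsingleton_of_isZero
          (HomologicalComplex.isZero_single_obj_X (ComplexShape.up ℤ) 0 (ModuleCat.of A A) n h')
        rw [Subsingleton.elim x 0]
        simp
    · have := ModuleCat.subsingleton_of_isZero
        (HomologicalComplex.isZero_single_obj_X (ComplexShape.up ℤ) 0 (ModuleCat.of A A) m h)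
      exact Subsingleton.elim _ _

/-- the localised connection on the termwise localisation of a complex -/
noncomputable def DOp.loc {K : DRing.Cx A} (c : DOp θ K) (S : Submonoid A) :
    DOp θ ((locCx S).obj K) where
  D n := ((c.conn n).loc S).D
  leib n := ((c.conn n).loc S).leib
  comm n m z := by
    exact (Conn.loc_map (c.conn n) S (c.conn m) (K.d n m).hom (fun x => (c.comm n m x).symm) z).symm

lemma DOp.loc_unit {K : DRing.Cx A} (c : DOp θ K) (S : Submonoid A) (n : ℤ) (x : K.X n) :
    ((locCxUnit S K).f n).hom (c.D n x) = (c.loc S).D n (((locCxUnit S K).f n).hom x) :=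
  ((c.conn n).loc_mk_one S x).symm

section Cocone

variable {K L : DRing.Cx A} (φ : K ⟶ L) (cK : DOp θ K) (cL : DOp θ L)

/-- the raw operator on a mapping cocone -/
noncomputable def coconeD (n : ℤ) : (mappingCocone φ).X n →+ (mappingCocone φ).X n :=
  (((mappingCocone.inl φ).v n n (add_zero n)).hom.toAddMonoidHom.comp
    ((cK.D n).comp ((mappingCocone.fst φ).f n).hom.toAddMonoidHom)) +
  (((mappingCocone.inr φ).1.v (n - 1) n (by lia)).hom.toAddMonoidHom.comp
    ((cL.D (n - 1)).comp ((mappingCocone.snd φ).v n (n - 1) (by lia)).hom.toAddMonoidHom))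

lemma coconeD_apply (n q : ℤ) (hq : n + -1 = q) (y : (mappingCocone φ).X n) :
    coconeD φ cK cL n y =
      ((mappingCocone.inl φ).v n n (add_zero n)).hom (cK.D n (((mappingCocone.fst φ).f n).hom y)) +
      ((mappingCocone.inr φ).1.v q n (by lia)).hom
        (cL.D q (((mappingCocone.snd φ).v n q hq).hom y)) := by
  obtain rfl : q = n - 1 := by lia
  rfl

lemma fst_coconeD (n : ℤ) (y : (mappingCocone φ).X n) :
    ((mappingCocone.fst φ).f n).hom (coconeD φ cK cL n y) =
      cK.D n (((mappingCocone.fst φ).f n).hom y) := by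
  rw [coconeD_apply φ cK cL n (n - 1) (by lia), map_add, e_fst_inl, e_fst_inr, add_zero]

lemma snd_coconeD (n q : ℤ) (hq : n + -1 = q) (y : (mappingCocone φ).X n) :
    ((mappingCocone.snd φ).v n q hq).hom (coconeD φ cK cL n y) =
      cL.D q (((mappingCocone.snd φ).v n q hq).hom y) := by
  rw [coconeD_apply φ cK cL n q hq, map_add, e_snd_inl, e_snd_inr, zero_add]

/-- the connection on a mapping cocone -/
noncomputable def DOp.cocone
    (hφ : ∀ n (x : K.X n), (φ.f n).hom (cK.D n x) = cL.D n ((φ.f n).hom x)) :
    DOp θ (mappingCocone φ) where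
  D := coconeD φ cK cL
  leib n a x := by
    rw [coconeD_apply φ cK cL n (n - 1) (by lia), coconeD_apply φ cK cL n (n - 1) (by lia)]
    have h1 : ((mappingCocone.fst φ).f n).hom (a • x) = a • ((mappingCocone.fst φ).f n).hom x :=
      map_smul _ _ _
    have h2 : ((mappingCocone.snd φ).v n (n - 1) (by lia)).hom (a • x) =
        a • ((mappingCocone.snd φ).v n (n - 1) (by lia)).hom x := map_smul _ _ _
    rw [h1, h2, cK.leib, cL.leib]
    have h := e_id φ n (n - 1) (by lia) x
    generalize ((mappingCocone.fst φ).f n).hom x = f at h ⊢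
    generalize ((mappingCocone.snd φ).v n (n - 1) (by lia)).hom x = g at h ⊢
    rw [← h]
    simp only [map_add, map_smul, smul_add]
    abel
  comm n m x := by
    by_cases hnm : n + 1 = m
    · subst hnm
      apply e_ext φ (n + 1) n (by lia)
      · rw [fst_coconeD, e_fst_d, e_fst_d, fst_coconeD, cK.comm]
      · rw [snd_coconeD, e_snd_d φ n (n + 1) (n - 1) rfl (by lia),
          e_snd_d φ n (n + 1) (n - 1) rfl (by lia), fst_coconeD, snd_coconeD, map_sub, map_neg,
          cL.comm, hφ]
    · have : (mappingCocone φ).d n m = 0 := HomologicalComplex.shape _ _ _ hnm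
      rw [this]
      simp

end Cocone

section Homology

variable {K : DRing.Cx A} (c : DOp θ K) (n : ℤ)

lemma next_eq : (ComplexShape.up ℤ).next n = n + 1 := by simp
lemma prev_eq : (ComplexShape.up ℤ).prev n = n - 1 := by simp

lemma classOf_eq_iff (z z' : K.X n) (hz : K.d n (n + 1) z = 0) (hz' : K.d n (n + 1) z' = 0) :
    HE.classOf K n (n + 1) (next_eq n) z hz = HE.classOf K n (n + 1) (next_eq n) z' hz' ↔
      ∃ b : K.X (n - 1), K.d (n - 1) n b = z - z' := by
  have hneg : K.d n (n + 1) ((-1 : A) • z') = 0 := by rw [map_smul, hz', smul_zero]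
  have hsum : K.d n (n + 1) (z + (-1 : A) • z') = 0 := by rw [map_add, hz, hneg, add_zero]
  have h1 : HE.classOf K n (n + 1) (next_eq n) (z + (-1 : A) • z') hsum =
      HE.classOf K n (n + 1) (next_eq n) z hz - HE.classOf K n (n + 1) (next_eq n) z' hz' := by
    rw [HE.classOf_add K n (n + 1) (next_eq n) z ((-1 : A) • z') hz hneg,
      HE.classOf_smul K n (n + 1) (next_eq n) (-1 : A) z' hz', neg_one_smul, sub_eq_add_neg]
  have h2 := HE.classOf_eq_zero_iff K (n - 1) n (n + 1) (prev_eq n) (next_eq n) (z + (-1 : A) • z') hsum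
  rw [h1, sub_eq_zero] at h2
  rw [h2]
  simp only [neg_one_smul, sub_eq_add_neg]

lemma d_D_eq_zero (z : K.X n) (hz : K.d n (n + 1) z = 0) : K.d n (n + 1) (c.D n z) = 0 := by
  have h := c.comm n (n + 1) z
  have hz' : (K.d n (n + 1)).hom z = 0 := hz
  rw [hz', map_zero] at h
  exact h.symm

/-- the induced operator on cohomology (as a function) -/
noncomputable def homDfun (h : K.homology n) : K.homology n :=
  HE.classOf K n (n + 1) (next_eq n)
    (c.D n (HE.classOf_surjective K n (n + 1) (next_eq n) h).choose)
    (d_D_eq_zero c n _ (HE.classOf_surjective K n (n + 1) (next_eq n) h).choose_spec.choose)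

lemma homDfun_classOf (z : K.X n) (hz : K.d n (n + 1) z = 0) :
    homDfun c n (HE.classOf K n (n + 1) (next_eq n) z hz) =
      HE.classOf K n (n + 1) (next_eq n) (c.D n z) (d_D_eq_zero c n z hz) := by
  unfold homDfun
  set h := HE.classOf K n (n + 1) (next_eq n) z hz with hh
  have hspec := (HE.classOf_surjective K n (n + 1) (next_eq n) h).choose_spec.choose_spec
  set z' := (HE.classOf_surjective K n (n + 1) (next_eq n) h).choose with hz'def
  have hz' := (HE.classOf_surjective K n (n + 1) (next_eq n) h).choose_spec.choose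
  rw [hh] at hspec
  obtain ⟨b, hb⟩ := (classOf_eq_iff n z' z hz' hz).1 hspec
  rw [classOf_eq_iff]
  refine ⟨c.D (n - 1) b, ?_⟩
  have h3 := c.comm (n - 1) n b
  have hb' : (K.d (n - 1) n).hom b = z' - z := hb
  rw [hb', map_sub] at h3
  exact h3.symm

/-- the induced connection on cohomology -/
noncomputable def DOp.homology : Conn θ (K.homology n) where
  D := { toFun := homDfun c n
         map_zero' := by
           have h0 : K.d n (n + 1) (0 : K.X n) = 0 := map_zero _
           have h1 : HE.classOf K n (n + 1) (next_eq n) (0 : K.X n) h0 = 0 := by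
             rw [HE.classOf_eq_zero_iff K (n - 1) n (n + 1) (prev_eq n) (next_eq n)]
             exact ⟨0, map_zero _⟩
           rw [← h1, homDfun_classOf]
           congr 1
           exact map_zero _
         map_add' := by
           intro h h'
           obtain ⟨z, hz, rfl⟩ := HE.classOf_surjective K n (n + 1) (next_eq n) h
           obtain ⟨z', hz', rfl⟩ := HE.classOf_surjective K n (n + 1) (next_eq n) h'
           rw [← HE.classOf_add, homDfun_classOf, homDfun_classOf, homDfun_classOf, ← HE.classOf_add]
           congr 1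
           exact map_add _ _ _ }
  leib a h := by
    obtain ⟨z, hz, rfl⟩ := HE.classOf_surjective K n (n + 1) (next_eq n) h
    change homDfun c n (a • _) = θ a • _ + a • homDfun c n _
    rw [← HE.classOf_smul, homDfun_classOf, homDfun_classOf, ← HE.classOf_smul, ← HE.classOf_smul,
      ← HE.classOf_add]
    congr 1
    exact c.leib n a z

end Homology

variable (θ) in
/-- the connection on the extended Čech complex of `A` -/
noncomputable def cechDOp : ∀ fs : List A, DOp θ (extCech (ModuleCat.of A A) fs)
  | [] => DOp.single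
  | f :: fs => DOp.cocone (locCxUnit (Submonoid.powers f) (extCech (ModuleCat.of A A) fs)) (cechDOp fs)
      ((cechDOp fs).loc (Submonoid.powers f)) (fun n x => (cechDOp fs).loc_unit _ n x)

/-- transport of a connection along a linear equivalence -/
def Conn.transport {M N : Type u} [AddCommGroup M] [Module A M] [AddCommGroup N] [Module A N]
    (c : Conn θ M) (e : M ≃ₗ[A] N) : Conn θ N where
  D := e.toLinearMap.toAddMonoidHom.comp (c.D.comp e.symm.toLinearMap.toAddMonoidHom)
  leib a x := by
    change e (c.D (e.symm (a • x))) = θ a • x + a • e (c.D (e.symm x))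
    rw [map_smul, c.leib, map_add, map_smul, map_smul, LinearEquiv.apply_symm_apply]

variable (θ) in
theorem exists_conn_lc [IsNoetherianRing A] (I : Ideal A) (i : ℕ) :
    ∃ D : LocCoh.H I i A →+ LocCoh.H I i A,
      ∀ (a : A) (ξ : LocCoh.H I i A), D (a • ξ) = θ a • ξ + a • D ξ := by
  obtain ⟨s, hs⟩ := (isNoetherianRing_iff_ideal_fg A).1 inferInstance I
  have h1 : Ideal.span {a : A | a ∈ s.toList} = I := by
    rw [← hs]; congr 1; ext a; simp
  subst h1
  let e := ((cechIsoLC s.toList i).app (ModuleCat.of A A)).toLinearEquiv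
  let cH := ((cechDOp θ s.toList).homology (i : ℤ)).transport e
  exact ⟨cH.D, cH.leib⟩

end Groth.Agent.H6.DerivLC
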