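import Mathlib

set_option autoImplicit false
universe u
open Polynomial Matrix

namespace Groth.Agent.H6

theorem mat_dual {K : Type u} [Field K] {n : Type*} [Fintype n] [DecidableEq n]
    (F G : Matrix n n K) (c : K) (hc : c ≠ 0) (h : Fᵀ * G = c • (1 : Matrix n n K)) :
    F.det • G.charpoly.reverse = ((-1) ^ Fintype.card n * c ^ Fintype.card n) • (c⁻¹ • F).charpoly := by
  rw [Matrix.reverse_charpoly, Matrix.charpolyRev, Matrix.charpoly]
  have hL : F.det • det (1 - (X : K[X]) • G.map C) = det (Fᵀ.map C - (C c * X) • (1 : Matrix n n K[X])) := by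
    rw [smul_eq_C_mul, ← Matrix.det_transpose F, RingHom.map_det, ← Matrix.det_mul]
    congr 1
    rw [Matrix.mul_sub, Matrix.mul_one, Matrix.mul_smul]
    have : (C : K →+* K[X]).mapMatrix Fᵀ * G.map C = (C : K →+* K[X]).mapMatrix (Fᵀ * G) := by
      rw [map_mul]; rfl
    rw [this, h]
    refine Matrix.ext fun i j => ?_
    simp only [Matrix.sub_apply, Matrix.smul_apply, Matrix.one_apply, RingHom.mapMatrix_apply, Matrix.map_apply, smul_eq_mul]
    split_ifs with hij
    · simp only [Matrix.transpose_apply, mul_one, smul_eq_mul]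
      ring
    · simp only [Matrix.transpose_apply, mul_zero, map_zero]
  have hR : ((-1) ^ Fintype.card n * c ^ Fintype.card n) • det (charmatrix (c⁻¹ • F))
      = det (F.map C - (C c * X) • (1 : Matrix n n K[X])) := by
    rw [← mul_pow, smul_eq_C_mul, map_pow, ← Matrix.det_smul]
    congr 1
    refine Matrix.ext fun i j => ?_
    simp only [Matrix.smul_apply, charmatrix_apply, Matrix.sub_apply, Matrix.map_apply, Matrix.one_apply,
      Matrix.diagonal_apply, smul_eq_mul, map_mul, map_neg, map_one]
    have hcc : C c * C c⁻¹ = (1 : K[X]) := by rw [← map_mul, mul_inv_cancel₀ hc, map_one]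
    split_ifs with hij
    · linear_combination (C (F i j)) * hcc
    · linear_combination (C (F i j)) * hcc
  rw [hL, hR, ← Matrix.det_transpose]
  congr 1
  refine Matrix.ext fun i j => ?_
  simp [Matrix.one_apply, eq_comm]

end Groth.Agent.H6
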