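import Mathlib

set_option autoImplicit false
set_option linter.dupNamespace false

namespace Groth.Agent.H6.Dev

open CategoryTheory

universe u

variable {B : Type u} [CommRing B]
variable (F : ModuleCat.{u} B ⥤ ModuleCat.{u} B) [F.Additive] [F.Linear B]

theorem isZero_of_equiv {N₁ N₂ : Type u} [AddCommGroup N₁] [Module B N₁] [AddCommGroup N₂]
    [Module B N₂] (e : N₁ ≃ₗ[B] N₂) (h : Limits.IsZero (F.obj (ModuleCat.of B N₁))) :
    Limits.IsZero (F.obj (ModuleCat.of B N₂)) :=
  h.of_iso (F.mapIso e.toModuleIso).symm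

theorem ext_step
    (hex : ∀ S : ShortComplex (ModuleCat.{u} B), S.ShortExact → Module.Finite B S.X₂ →
      (S.map F).Exact)
    {N₁ N₂ N₃ : Type u} [AddCommGroup N₁] [Module B N₁] [AddCommGroup N₂]
    [Module B N₂] [AddCommGroup N₃] [Module B N₃] [Module.Finite B N₂]
    (f : N₁ →ₗ[B] N₂) (g : N₂ →ₗ[B] N₃) (hf : Function.Injective f) (hg : Function.Surjective g)
    (hfg : Function.Exact f g) :
    (ShortComplex.mk (F.map (ModuleCat.ofHom f)) (F.map (ModuleCat.ofHom g)) (by
      rw [← F.map_comp, ← ModuleCat.ofHom_comp, hfg.linearMap_comp_eq_zero]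
      exact F.map_zero _ _)).Exact := by
  have hS : (ModuleCat.shortComplexOfCompEqZero f g hfg.linearMap_comp_eq_zero).ShortExact :=
    ModuleCat.shortComplex_shortExact _ hfg hf hg
  exact hex _ hS (inferInstanceAs (Module.Finite B N₂))

theorem key [IsNoetherianRing B]
    (hex : ∀ S : ShortComplex (ModuleCat.{u} B), S.ShortExact → Module.Finite B S.X₂ →
      (S.map F).Exact)
    (N : Type u) [AddCommGroup N] [Module B N] (hN : Module.Finite B N) :
    (∀ q : PrimeSpectrum B, q ∈ Module.support B N →
      Limits.IsZero (F.obj (ModuleCat.of B (B ⧸ q.asIdeal)))) →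
    Limits.IsZero (F.obj (ModuleCat.of B N)) := by
  induction hN using IsNoetherianRing.induction_on_isQuotientEquivQuotientPrime B with
  | subsingleton N =>
    intro _
    exact F.map_isZero (ModuleCat.isZero_of_subsingleton _)
  | quotient N p e =>
    intro h
    apply isZero_of_equiv F e.symm
    apply h p
    rw [e.support_eq, Module.mem_support_iff_of_finite, Ideal.annihilator_quotient]
  | exact N₁ N₂ N₃ f g hf hg hfg h1 h3 =>
    intro h
    have hsupp := Module.support_of_exact hfg hf hg
    have z1 := h1 (fun q hq => h q (by rw [hsupp]; exact Or.inl hq))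
    have z3 := h3 (fun q hq => h q (by rw [hsupp]; exact Or.inr hq))
    exact (ext_step F hex f g hf hg hfg).isZero_of_both_isZero z1 z3

theorem prime_step [IsNoetherianRing B]
    (hfg : ∀ M : ModuleCat.{u} B, Module.Finite B M → Module.Finite B (F.obj M))
    (hex : ∀ S : ShortComplex (ModuleCat.{u} B), S.ShortExact → Module.Finite B S.X₂ →
      (S.map F).Exact)
    (p : Ideal B) [hp : p.IsPrime] (hnm : ¬ p.IsMaximal)
    (IH : ∀ q : PrimeSpectrum B, p < q.asIdeal →
      Limits.IsZero (F.obj (ModuleCat.of B (B ⧸ q.asIdeal)))) :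
    Limits.IsZero (F.obj (ModuleCat.of B (B ⧸ p))) := by
  set N₁ := F.obj (ModuleCat.of B (B ⧸ p)) with hN₁
  have hfin : Module.Finite B N₁ := hfg _ (inferInstanceAs (Module.Finite B (B ⧸ p)))
  -- p kills N₁
  have hkill : ∀ a ∈ p, ∀ y : N₁, a • y = 0 := by
    intro a ha y
    have h0 : (a • 𝟙 (ModuleCat.of B (B ⧸ p))) = 0 := by
      refine ModuleCat.hom_ext (LinearMap.ext fun x => ?_)
      obtain ⟨b, rfl⟩ := Ideal.Quotient.mk_surjective x
      show a • (Ideal.Quotient.mk p b) = 0
      rw [Algebra.smul_def, Ideal.Quotient.algebraMap_eq, ← map_mul, Ideal.Quotient.eq_zero_iff_mem]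
      exact p.mul_mem_right _ ha
    have h1 : a • 𝟙 N₁ = 0 := by
      rw [hN₁, ← F.map_id, ← F.map_smul, h0, F.map_zero]
    have := congrArg (fun φ : N₁ ⟶ N₁ => φ.hom y) h1
    exact this
  -- multiplication by f ∉ p is surjective on N₁
  have hsurj : ∀ f : B, f ∉ p → Function.Surjective (fun y : N₁ => f • y) := by
    intro f hf
    let μ : (B ⧸ p) →ₗ[B] (B ⧸ p) := f • LinearMap.id
    have hμinj : Function.Injective μ := by
      rw [← LinearMap.ker_eq_bot, LinearMap.ker_eq_bot']
      intro x hx
      obtain ⟨b, rfl⟩ := Ideal.Quotient.mk_surjective x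
      have hx' : f • (Ideal.Quotient.mk p b) = 0 := hx
      rw [Algebra.smul_def, Ideal.Quotient.algebraMap_eq, ← map_mul,
        Ideal.Quotient.eq_zero_iff_mem] at hx'
      rw [Ideal.Quotient.eq_zero_iff_mem]
      exact (hp.mem_or_mem hx').resolve_left hf
    let g := (LinearMap.range μ).mkQ
    have hexact : Function.Exact μ g := LinearMap.exact_map_mkQ_range μ
    have hg : Function.Surjective g := Submodule.mkQ_surjective _
    have hfinQ : Module.Finite B ((B ⧸ p) ⧸ LinearMap.range μ) := inferInstance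
    have hz3 : Limits.IsZero (F.obj (ModuleCat.of B ((B ⧸ p) ⧸ LinearMap.range μ))) := by
      apply key F hex _ hfinQ
      intro q hq
      rw [Module.mem_support_iff_of_finite] at hq
      apply IH q
      have hpq : p ≤ q.asIdeal := by
        refine le_trans ?_ hq
        intro a ha
        rw [Module.mem_annihilator]
        intro z
        obtain ⟨x, rfl⟩ := Submodule.mkQ_surjective _ z
        obtain ⟨b, rfl⟩ := Ideal.Quotient.mk_surjective x
        rw [← map_smul]
        have : a • (Ideal.Quotient.mk p b) = 0 := by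
          rw [Algebra.smul_def, Ideal.Quotient.algebraMap_eq, ← map_mul,
            Ideal.Quotient.eq_zero_iff_mem]
          exact p.mul_mem_right _ ha
        rw [this, map_zero]
      have hfq : f ∈ q.asIdeal := by
        apply hq
        rw [Module.mem_annihilator]
        intro z
        obtain ⟨x, rfl⟩ := Submodule.mkQ_surjective _ z
        rw [← map_smul]
        exact (Submodule.Quotient.mk_eq_zero _).mpr ⟨x, rfl⟩
      exact lt_of_le_of_ne hpq (fun h => hf (h ▸ hfq))
    have hE := ext_step F hex μ g hμinj hg hexact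
    have hepi : Epi (F.map (ModuleCat.ofHom μ)) := hE.epi_f (hz3.eq_of_tgt _ _)
    rw [ModuleCat.epi_iff_surjective] at hepi
    have hμ : ModuleCat.ofHom μ = f • 𝟙 (ModuleCat.of B (B ⧸ p)) := rfl
    rw [hμ, F.map_smul, F.map_id] at hepi
    intro y
    obtain ⟨z, hz⟩ := hepi y
    exact ⟨z, hz⟩
  -- conclude
  rw [ModuleCat.isZero_iff_subsingleton]
  by_contra hns
  rw [not_subsingleton_iff_nontrivial] at hns
  have hann : Module.annihilator B N₁ ≠ ⊤ := by
    intro htop
    have h1 : (1 : B) ∈ Module.annihilator B N₁ := htop ▸ Submodule.mem_top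
    rw [Module.mem_annihilator] at h1
    obtain ⟨y, hy⟩ := exists_ne (0 : N₁)
    exact hy (by simpa using h1 y)
  obtain ⟨m, hm, hle⟩ := Ideal.exists_le_maximal _ hann
  have hpm : p ≤ m := by
    refine le_trans ?_ hle
    intro a ha
    rw [Module.mem_annihilator]
    exact hkill a ha
  have hne : p ≠ m := fun h => hnm (h ▸ hm)
  obtain ⟨f, hfm, hfp⟩ := SetLike.exists_of_lt (lt_of_le_of_ne hpm hne)
  have hNak := Submodule.exists_sub_one_mem_and_smul_eq_zero_of_fg_of_le_smul
    (Ideal.span {f}) (⊤ : Submodule B N₁) hfin.1 (by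
      intro y _
      obtain ⟨z, hz⟩ := hsurj f hfp y
      rw [← hz]
      exact Submodule.smul_mem_smul (Ideal.subset_span rfl) Submodule.mem_top)
  obtain ⟨r, hr1, hr2⟩ := hNak
  have hrm : r ∈ m := hle (by
    rw [Module.mem_annihilator]
    exact fun y => hr2 y Submodule.mem_top)
  have h1m : r - 1 ∈ m := (Ideal.span_singleton_le_iff_mem m |>.mpr hfm) hr1
  have : (1 : B) ∈ m := by
    have := m.sub_mem hrm h1m
    simpa using this
  exact hm.ne_top (m.eq_top_iff_one.mpr this)

theorem main [IsNoetherianRing B]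
    (hfg : ∀ M : ModuleCat.{u} B, Module.Finite B M → Module.Finite B (F.obj M))
    (hex : ∀ S : ShortComplex (ModuleCat.{u} B), S.ShortExact → Module.Finite B S.X₂ →
      (S.map F).Exact)
    (h0 : ∀ m : Ideal B, m.IsMaximal → Limits.IsZero (F.obj (ModuleCat.of B (B ⧸ m))))
    (M : ModuleCat.{u} B) (hM : Module.Finite B M) : Limits.IsZero (F.obj M) := by
  have hprime : ∀ p : Ideal B, p.IsPrime → Limits.IsZero (F.obj (ModuleCat.of B (B ⧸ p))) := by
    intro p
    induction p using IsNoetherian.induction with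
    | _ p IH =>
      intro hp
      have hp' : Ideal.IsPrime p := hp
      by_cases hmax : Ideal.IsMaximal p
      · exact h0 p hmax
      · exact prime_step F hfg hex p hmax (fun q hq => IH q.asIdeal hq q.isPrime)
  exact key F hex M hM (fun q _ => hprime q.asIdeal q.isPrime)

end Groth.Agent.H6.Dev
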