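import Mathlib

set_option autoImplicit false
set_option linter.unusedSectionVars false
universe u

open scoped TensorProduct
open KaehlerDifferential

namespace Groth.Agent.H6.DiffAlg

theorem mapBaseChange_injective_of_formallySmooth (R S T : Type*) [CommRing R] [CommRing S]
    [CommRing T] [Algebra R S] [Algebra R T] [Algebra S T] [IsScalarTower R S T]
    [Algebra.FormallySmooth S T] :
    Function.Injective (KaehlerDifferential.mapBaseChange R S T) := by
  rw [injective_iff_map_eq_zero]
  intro x hx
  obtain ⟨x, rfl⟩ := (Algebra.H1Cotangent.exact_δ_mapBaseChange R S T x).mp hx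
  have := Algebra.FormallySmooth.subsingleton_h1Cotangent (R := S) (A := T)
  rw [Subsingleton.elim x 0, map_zero]

/-- transport a derivation along an algebra equivalence -/
def transportDer {K P A₀ : Type*} [CommRing K] [CommRing P] [CommRing A₀] [Algebra K P]
    [Algebra K A₀] (e : P ≃ₐ[K] A₀) (d : Derivation K P P) : Derivation K A₀ A₀ where
  toLinearMap := e.toLinearMap ∘ₗ d.toLinearMap ∘ₗ e.symm.toLinearMap
  map_one_eq_zero' := by simp
  leibniz' a b := by
    simp only [LinearMap.comp_apply, AlgEquiv.toLinearMap_apply, map_mul, Derivation.coeFn_coe,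
      Derivation.leibniz, smul_eq_mul, map_add, AlgEquiv.apply_symm_apply]

theorem transportDer_apply {K P A₀ : Type*} [CommRing K] [CommRing P] [CommRing A₀] [Algebra K P]
    [Algebra K A₀] (e : P ≃ₐ[K] A₀) (d : Derivation K P P) (a : A₀) :
    transportDer e d a = e (d (e.symm a)) := rfl

open scoped IntermediateField.algebraAdjoinAdjoin in
theorem formallySmooth_adjoin (K L : Type u) [Field K] [Field L] [Algebra K L] [CharZero K]
    {ι : Type*} (v : ι → L) :
    Algebra.FormallySmooth (Algebra.adjoin K (Set.range v)) L := by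
  let F := IntermediateField.adjoin K (Set.range v)
  have hcharF : CharZero F := charZero_of_injective_algebraMap (algebraMap K F).injective
  obtain ⟨κ, x, hx⟩ := exists_isTranscendenceBasis' (R := F) (A := L)
  have halg : Algebra.IsAlgebraic (Algebra.adjoin F (Set.range x)) L := hx.isAlgebraic
  have halg' : Algebra.IsAlgebraic (IntermediateField.adjoin F (Set.range x)) L :=
    Algebra.IsAlgebraic.extendScalars (R := Algebra.adjoin F (Set.range x))
      (FaithfulSMul.algebraMap_injective _ _)
  have hcharF' : CharZero (IntermediateField.adjoin F (Set.range x)) :=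
    charZero_of_injective_algebraMap (algebraMap F (IntermediateField.adjoin F (Set.range x))).injective
  have hsep : Algebra.IsSeparable (IntermediateField.adjoin F (Set.range x)) L :=
    Algebra.IsAlgebraic.isSeparable_of_perfectField
  have h1 : Algebra.FormallySmooth F L :=
    Algebra.FormallySmooth.of_algebraicIndependent_of_isSeparable hx.1
  have h2 : Algebra.FormallySmooth (Algebra.adjoin K (Set.range v)) F :=
    .of_isLocalization (nonZeroDivisors _)
  exact .comp _ F _

theorem D_ne_zero_of_transcendental (K L : Type u) [Field K] [Field L] [Algebra K L] [CharZero K]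
    (g : L) (hg : Transcendental K g) : D K L g ≠ 0 := by
  let v : Unit → L := fun _ => g
  have hb : AlgebraicIndependent K v := algebraicIndependent_unique_type_iff.2 hg
  have hsm := formallySmooth_adjoin K L v
  set A₀ := Algebra.adjoin K (Set.range v) with hA₀
  let e : MvPolynomial Unit K ≃ₐ[K] A₀ := hb.aevalEquiv
  let g₀ : A₀ := ⟨g, Algebra.subset_adjoin ⟨(), rfl⟩⟩
  have heg : e (MvPolynomial.X ()) = g₀ := by
    apply Subtype.ext
    have h := hb.algebraMap_aevalEquiv (MvPolynomial.X ())
    rw [MvPolynomial.aeval_X] at h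
    exact h
  let δ₀ : Derivation K A₀ A₀ := transportDer e (MvPolynomial.pderiv ())
  have hδ : δ₀ g₀ = 1 := by
    rw [transportDer_apply, ← heg, AlgEquiv.symm_apply_apply, MvPolynomial.pderiv_X_self, map_one]
  let ℓ₀ : Ω[A₀⁄K] →ₗ[A₀] A₀ := δ₀.liftKaehlerDifferential
  have hℓ : ℓ₀ (D K A₀ g₀) = 1 := by
    rw [Derivation.liftKaehlerDifferential_comp_D, hδ]
  intro h0
  have h1 : mapBaseChange K A₀ L ((1 : L) ⊗ₜ[A₀] D K A₀ g₀) = 0 := by
    rw [mapBaseChange_tmul, one_smul, map_D]
    exact h0
  have h2 : (1 : L) ⊗ₜ[A₀] D K A₀ g₀ = 0 :=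
    mapBaseChange_injective_of_formallySmooth K A₀ L (by rw [h1, map_zero])
  have h3 := congrArg (ℓ₀.baseChange L) h2
  rw [LinearMap.baseChange_tmul, hℓ, map_zero] at h3
  have h4 := congrArg (TensorProduct.rid A₀ L) h3
  rw [TensorProduct.rid_tmul, one_smul, map_zero] at h4
  exact one_ne_zero h4


section DVR

variable (R : Type u) [CommRing R] [IsDomain R]
    [IsDiscreteValuationRing R] (A : Type u) [CommRing A] [IsDomain A] [Algebra R A]
    [Module.FaithfullyFlat R A]

theorem descend_aux (ϖ : R) (hϖ : Irreducible ϖ) (f : A) :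
    ∀ (n : ℕ) (r : R), f * algebraMap R A (ϖ ^ n) = algebraMap R A r → f ∈ (algebraMap R A).range := by
  have hinj : Function.Injective (algebraMap R A) := FaithfulSMul.algebraMap_injective R A
  intro n
  induction n with
  | zero =>
    intro r hr
    exact ⟨r, by rw [← hr]; simp⟩
  | succ n ih =>
    intro r hr
    have hmem : algebraMap R A r ∈ Ideal.map (algebraMap R A) (Ideal.span {ϖ}) := by
      rw [← hr, pow_succ, map_mul, ← mul_assoc]
      exact Ideal.mul_mem_left _ _ (Ideal.mem_map_of_mem _ (Ideal.mem_span_singleton_self ϖ))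
    have hr' : r ∈ Ideal.span {ϖ} := by
      rw [← Ideal.comap_map_eq_self_of_faithfullyFlat (B := A) (Ideal.span {ϖ})]
      exact hmem
    obtain ⟨r', rfl⟩ := Ideal.mem_span_singleton'.1 hr'
    apply ih r'
    have hϖ0 : algebraMap R A ϖ ≠ 0 := by
      rw [Ne, map_eq_zero_iff _ hinj]; exact hϖ.ne_zero
    apply mul_right_cancel₀ hϖ0
    rw [mul_assoc, ← map_mul, ← pow_succ, hr, map_mul]

end DVR

theorem main (R : Type u) [CommRing R] [IsDomain R]
    [IsDiscreteValuationRing R] [CharZero R] (K : Type u) [Field K] [Algebra R K] [IsFractionRing R K]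
    (A : Type u) [CommRing A] [IsDomain A] [Algebra R A] [Module.FaithfullyFlat R A]
    (L : Type u) [Field L] [Algebra A L] [IsFractionRing A L] [Algebra R L] [Algebra K L]
    [IsScalarTower R A L] [IsScalarTower R K L]
    (hac : ∀ x : L, IsAlgebraic K x → x ∈ (algebraMap K L).range)
    (f : A) (hf : KaehlerDifferential.D R A f = 0) : f ∈ (algebraMap R A).range := by
  have hcharK : CharZero K := charZero_of_injective_algebraMap (IsFractionRing.injective R K)
  have h1 : D K L (algebraMap A L f) = 0 := by
    have := congrArg (KaehlerDifferential.map R K A L) hf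
    rwa [map_D, map_zero] at this
  have halg : IsAlgebraic K (algebraMap A L f) := by
    by_contra hna
    exact D_ne_zero_of_transcendental K L _ hna h1
  obtain ⟨κ, hκ⟩ := hac _ halg
  obtain ⟨ϖ, hϖ⟩ := IsDiscreteValuationRing.exists_irreducible R
  obtain ⟨r, s, rfl⟩ := IsLocalization.exists_mk'_eq (nonZeroDivisors R) κ
  obtain ⟨n, u, hu⟩ := IsDiscreteValuationRing.eq_unit_mul_pow_irreducible
    (nonZeroDivisors.ne_zero s.2) hϖ
  have hinjL : Function.Injective (algebraMap A L) := IsFractionRing.injective A L
  have h2 : f * algebraMap R A (s : R) = algebraMap R A r := by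
    apply hinjL
    rw [map_mul, ← hκ, ← IsScalarTower.algebraMap_apply R A L, ← IsScalarTower.algebraMap_apply R A L,
      IsScalarTower.algebraMap_apply R K L, IsScalarTower.algebraMap_apply R K L r, ← map_mul,
      IsLocalization.mk'_spec]
  apply descend_aux R A ϖ hϖ f n (((u⁻¹ : Rˣ) : R) * r)
  rw [map_mul, ← h2, hu, map_mul]
  have : algebraMap R A ((u⁻¹ : Rˣ) : R) * algebraMap R A (u : R) = 1 := by
    rw [← map_mul, Units.inv_mul, map_one]
  calc f * algebraMap R A (ϖ ^ n) = f * algebraMap R A (ϖ ^ n) * 1 := (mul_one _).symm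
    _ = _ := by rw [← this]; ring

end Groth.Agent.H6.DiffAlg
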