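import Mathlib

/-! # Colimits of degreewise eventually constant sequences of cochain complexes -/

namespace Groth.Agent.H6.DimZ

open CategoryTheory CategoryTheory.Limits HomologicalComplex

universe v u

variable {A : Type u} [Category.{v} A] [Abelian A]

section Colim

variable (M : ℕ → CochainComplex A ℤ) (φ : ∀ j, M j ⟶ M (j + 1))

lemma isIso_map_f (i : ℤ) (J : ℕ) (h : ∀ j, J ≤ j → IsIso ((φ j).f i)) (j : ℕ) (hj : J ≤ j) :
    IsIso (((Functor.ofSequence φ).map (homOfLE hj)).f i) := by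
  induction j, hj using Nat.le_induction with
  | base =>
    have : homOfLE (le_refl J) = 𝟙 J := Subsingleton.elim _ _
    rw [this, CategoryTheory.Functor.map_id]
    exact inferInstanceAs (IsIso (𝟙 _))
  | succ j hj ih =>
    have e : homOfLE (hj.trans (Nat.le_succ j)) = homOfLE hj ≫ homOfLE (Nat.le_add_right j 1) :=
      Subsingleton.elim _ _
    rw [e, Functor.map_comp, HomologicalComplex.comp_f]
    haveI := ih
    haveI : IsIso (((Functor.ofSequence φ).map (homOfLE (Nat.le_add_right j 1))).f i) := by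
      rw [Functor.ofSequence_map_homOfLE_succ]
      exact h j hj
    infer_instance

lemma quasiIso_map (hφ : ∀ j, QuasiIso (φ j)) (a b : ℕ) (hab : a ≤ b) :
    QuasiIso ((Functor.ofSequence φ).map (homOfLE hab)) := by
  induction b, hab using Nat.le_induction with
  | base =>
    have : homOfLE (le_refl a) = 𝟙 a := Subsingleton.elim _ _
    rw [this, CategoryTheory.Functor.map_id]
    infer_instance
  | succ j hj ih =>
    have e : homOfLE (hj.trans (Nat.le_succ j)) = homOfLE hj ≫ homOfLE (Nat.le_add_right j 1) :=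
      Subsingleton.elim _ _
    rw [e, Functor.map_comp]
    haveI := ih
    haveI : QuasiIso ((Functor.ofSequence φ).map (homOfLE (Nat.le_add_right j 1))) := by
      rw [Functor.ofSequence_map_homOfLE_succ]
      exact hφ j
    infer_instance

lemma isEventuallyConstantFrom (i : ℤ) (J : ℕ) (h : ∀ j, J ≤ j → IsIso ((φ j).f i)) :
    (Functor.ofSequence φ ⋙ eval A (ComplexShape.up ℤ) i).IsEventuallyConstantFrom J := by
  intro j f
  have : f = homOfLE (leOfHom f) := Subsingleton.elim _ _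
  rw [this]
  exact isIso_map_f M φ i J h j (leOfHom f)

theorem exists_colimit (hφ : ∀ j, QuasiIso (φ j))
    (hc : ∀ i : ℤ, ∃ J : ℕ, ∀ j, J ≤ j → IsIso ((φ j).f i)) :
    ∃ (L : CochainComplex A ℤ) (ψ : ∀ j, M j ⟶ L),
      (∀ j, φ j ≫ ψ (j + 1) = ψ j) ∧ (∀ j, QuasiIso (ψ j)) ∧
      ∀ (i : ℤ) (J : ℕ), (∀ j, J ≤ j → IsIso ((φ j).f i)) → IsIso ((ψ J).f i) := by
  let F := Functor.ofSequence φ
  haveI : ∀ i : ℤ, HasColimit (F ⋙ eval A (ComplexShape.up ℤ) i) := fun i =>
    (isEventuallyConstantFrom M φ i _ (hc i).choose_spec).hasColimit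
  have hiso : ∀ (i : ℤ) (J : ℕ), (∀ j, J ≤ j → IsIso ((φ j).f i)) →
      IsIso ((colimit.ι F J).f i) := by
    intro i J h
    exact (isEventuallyConstantFrom M φ i J h).isIso_ι_of_isColimit
      (isColimitOfPreserves (eval A (ComplexShape.up ℤ) i) (colimit.isColimit F))
  have hw : ∀ (a b : ℕ) (hab : a ≤ b), F.map (homOfLE hab) ≫ colimit.ι F b = colimit.ι F a :=
    fun a b hab => colimit.w F (homOfLE hab)
  refine ⟨colimit F, fun j => colimit.ι F j, ?_, ?_, hiso⟩
  · intro j
    have := hw j (j + 1) (Nat.le_add_right j 1)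
    rwa [Functor.ofSequence_map_homOfLE_succ] at this
  · intro j
    rw [quasiIso_iff]
    intro q
    obtain ⟨J₀, h₀⟩ := hc (q - 1)
    obtain ⟨J₁, h₁⟩ := hc q
    obtain ⟨J₂, h₂⟩ := hc (q + 1)
    let J := max j (max J₀ (max J₁ J₂))
    have hjJ : j ≤ J := le_max_left _ _
    have hJ₀ : J₀ ≤ J := (le_max_left _ _).trans (le_max_right _ _)
    have hJ₁ : J₁ ≤ J := ((le_max_left _ _).trans (le_max_right _ _)).trans (le_max_right _ _)
    have hJ₂ : J₂ ≤ J := ((le_max_right _ _).trans (le_max_right _ _)).trans (le_max_right _ _)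
    have i₀ := hiso (q - 1) J (fun j' hj' => h₀ j' (hJ₀.trans hj'))
    have i₁ := hiso q J (fun j' hj' => h₁ j' (hJ₁.trans hj'))
    have i₂ := hiso (q + 1) J (fun j' hj' => h₂ j' (hJ₂.trans hj'))
    haveI : QuasiIsoAt (colimit.ι F J) q := by
      rw [quasiIsoAt_iff' _ (q - 1) q (q + 1) (by simp) (by simp)]
      let θ := (shortComplexFunctor' A (ComplexShape.up ℤ) (q - 1) q (q + 1)).map (colimit.ι F J)
      haveI : IsIso θ.τ₁ := i₀
      haveI : IsIso θ.τ₂ := i₁
      haveI : IsIso θ.τ₃ := i₂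
      exact ShortComplex.quasiIso_of_epi_of_isIso_of_mono θ
    haveI : QuasiIso (F.map (homOfLE hjJ)) := quasiIso_map M φ hφ j J hjJ
    change QuasiIsoAt (colimit.ι F j) q
    rw [← hw j J hjJ]
    infer_instance

end Colim

end Groth.Agent.H6.DimZ
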