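import Mathlib
import Groth.Agent.Lib.Helper2.Tower2

/-! # Elementary modification of a cochain complex: pushout along a map of disks -/

namespace Groth.Agent.H6.DimZ

open CategoryTheory CategoryTheory.Limits HomologicalComplex

universe v u

variable {A : Type u} [Category.{v} A] [Abelian A]

section Disk

lemma rel (m : ℤ) : (ComplexShape.up ℤ).Rel m (m + 1) := rfl

lemma ne_succ (m : ℤ) : m ≠ m + 1 := by omega

/-- the disk complex: `Z` in degrees `m`, `m+1` with identity differential -/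
noncomputable def disk (m : ℤ) (Z : A) : CochainComplex A ℤ := double (𝟙 Z) (rel m)

/-- the isomorphism in degree `m` -/
noncomputable def diskIso₀ (m : ℤ) (Z : A) : (disk m Z).X m ≅ Z := doubleXIso₀ (𝟙 Z) (rel m)

/-- the isomorphism in degree `m+1` -/
noncomputable def diskIso₁ (m : ℤ) (Z : A) : (disk m Z).X (m + 1) ≅ Z :=
  doubleXIso₁ (𝟙 Z) (rel m) (ne_succ m)

lemma disk_d (m : ℤ) (Z : A) :
    (disk m Z).d m (m + 1) = (diskIso₀ m Z).hom ≫ (diskIso₁ m Z).inv := by
  have := double_d (𝟙 Z) (rel m) (ne_succ m)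
  rw [Category.id_comp] at this
  exact this

lemma isZero_disk_X (m : ℤ) (Z : A) (k : ℤ) (h₀ : k ≠ m) (h₁ : k ≠ m + 1) :
    IsZero ((disk m Z).X k) := isZero_double_X _ _ k h₀ h₁

instance isIso_disk_d (m : ℤ) (Z : A) : IsIso ((disk m Z).d m (m + 1)) := by
  rw [disk_d]
  infer_instance

lemma disk_acyclic (m : ℤ) (Z : A) : (disk m Z).Acyclic := by
  intro k
  by_cases h₀ : k = m
  · subst h₀
    rw [exactAt_iff' _ (k - 1) k (k + 1) (by simp) (by simp)]
    rw [ShortComplex.exact_iff_mono _ ((isZero_disk_X k Z (k - 1) (by omega) (by omega)).eq_of_src _ _)]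
    exact inferInstanceAs (Mono ((disk k Z).d k (k + 1)))
  · by_cases h₁ : k = m + 1
    · subst h₁
      rw [exactAt_iff' _ m (m + 1) (m + 1 + 1) (by simp) (by simp)]
      rw [ShortComplex.exact_iff_epi _
        ((isZero_disk_X m Z (m + 1 + 1) (by omega) (by omega)).eq_of_tgt _ _)]
      exact inferInstanceAs (Epi ((disk m Z).d m (m + 1)))
    · exact ExactAt.of_isZero (isZero_disk_X m Z k h₀ h₁)

/-- the morphism from a disk classified by a morphism in degree `m` -/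
noncomputable def fromDisk (m : ℤ) {Z : A} {K : CochainComplex A ℤ} (a : Z ⟶ K.X m) :
    disk m Z ⟶ K :=
  mkHomFromDouble (rel m) (ne_succ m) a (a ≫ K.d m (m + 1)) (by simp)
    (fun k _ => by simp)

lemma fromDisk_f₀ (m : ℤ) {Z : A} {K : CochainComplex A ℤ} (a : Z ⟶ K.X m) :
    (fromDisk m a).f m = (diskIso₀ m Z).hom ≫ a :=
  mkHomFromDouble_f₀ _ _ _ _ _ _

lemma fromDisk_f₁ (m : ℤ) {Z : A} {K : CochainComplex A ℤ} (a : Z ⟶ K.X m) :
    (fromDisk m a).f (m + 1) = (diskIso₁ m Z).hom ≫ a ≫ K.d m (m + 1) :=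
  mkHomFromDouble_f₁ _ _ _ _ _ _

/-- the map of disks induced by a morphism -/
noncomputable def diskMap (m : ℤ) {Z Z' : A} (g : Z ⟶ Z') : disk m Z ⟶ disk m Z' :=
  fromDisk m (g ≫ (diskIso₀ m Z').inv)

lemma diskMap_f₀ (m : ℤ) {Z Z' : A} (g : Z ⟶ Z') :
    (diskMap m g).f m = (diskIso₀ m Z).hom ≫ g ≫ (diskIso₀ m Z').inv :=
  fromDisk_f₀ m _

lemma diskMap_f₁ (m : ℤ) {Z Z' : A} (g : Z ⟶ Z') :
    (diskMap m g).f (m + 1) = (diskIso₁ m Z).hom ≫ g ≫ (diskIso₁ m Z').inv := by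
  rw [diskMap, fromDisk_f₁, disk_d]
  simp

lemma mono_diskMap_f (m : ℤ) {Z Z' : A} (g : Z ⟶ Z') [Mono g] (k : ℤ) :
    Mono ((diskMap m g).f k) := by
  by_cases h₀ : k = m
  · subst h₀
    rw [diskMap_f₀]
    infer_instance
  · by_cases h₁ : k = m + 1
    · subst h₁
      rw [diskMap_f₁]
      infer_instance
    · exact ⟨fun _ _ _ => (isZero_disk_X m Z k h₀ h₁).eq_of_tgt _ _⟩

instance mono_diskMap (m : ℤ) {Z Z' : A} (g : Z ⟶ Z') [Mono g] : Mono (diskMap m g) :=
  HomologicalComplex.mono_of_mono_f _ (mono_diskMap_f m g)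

instance quasiIso_diskMap (m : ℤ) {Z Z' : A} (g : Z ⟶ Z') : QuasiIso (diskMap m g) := by
  rw [quasiIso_iff]
  intro k
  rw [quasiIsoAt_iff_exactAt _ _ (disk_acyclic m Z k)]
  exact disk_acyclic m Z' k

end Disk

section Elem

variable (M : CochainComplex A ℤ) (m : ℤ) {Y : A} (ι : M.X m ⟶ Y)

/-- the modified complex: pushout of `M` along the map of disks induced by `ι` -/
noncomputable def elem : CochainComplex A ℤ :=
  pushout (diskMap m ι) (fromDisk m (𝟙 (M.X m)))

/-- the canonical map to the modified complex -/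
noncomputable def elemMap : M ⟶ elem M m ι := pushout.inr _ _

/-- the other map to the modified complex -/
noncomputable def elemInl : disk m Y ⟶ elem M m ι := pushout.inl _ _

lemma isPushout_elem : IsPushout (diskMap m ι) (fromDisk m (𝟙 (M.X m)))
    (elemInl M m ι) (elemMap M m ι) := IsPushout.of_hasPushout _ _

lemma isPushout_elem_f (k : ℤ) : IsPushout ((diskMap m ι).f k) ((fromDisk m (𝟙 (M.X m))).f k)
    ((elemInl M m ι).f k) ((elemMap M m ι).f k) :=
  (isPushout_elem M m ι).map (eval A (ComplexShape.up ℤ) k)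

instance quasiIso_elemMap [Mono ι] : QuasiIso (elemMap M m ι) := by
  let S : ShortComplex (CochainComplex A ℤ) :=
    ShortComplex.mk (diskMap m ι) (cokernel.π (diskMap m ι)) (by simp)
  have hS : S.ShortExact :=
    { exact := ShortComplex.exact_cokernel (diskMap m ι)
      mono_f := inferInstanceAs (Mono (diskMap m ι))
      epi_g := inferInstanceAs (Epi (cokernel.π (diskMap m ι))) }
  have hP : IsPushout S.f (fromDisk m (𝟙 (M.X m))) (elemInl M m ι) (elemMap M m ι) :=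
    isPushout_elem M m ι
  let π : elem M m ι ⟶ cokernel (diskMap m ι) :=
    pushout.desc (cokernel.π (diskMap m ι)) 0 (by simp)
  have hπ₁ : elemInl M m ι ≫ π = S.g := pushout.inl_desc _ _ _
  have hπ₂ : elemMap M m ι ≫ π = 0 := pushout.inr_desc _ _ _
  have hS' := H2.SESRes.pushout_shortExact hS hP π hπ₁ hπ₂
  have hac : S.X₃.Acyclic := hS.acyclic_X₃ (inferInstanceAs (QuasiIso (diskMap m ι)))
  exact H2.Tower.quasiIso_f_of_acyclic hS' hac

lemma isIso_elemMap_f (k : ℤ) (h₀ : k ≠ m) (h₁ : k ≠ m + 1) : IsIso ((elemMap M m ι).f k) := by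
  haveI : IsIso ((diskMap m ι).f k) :=
    ⟨⟨0, (isZero_disk_X m _ k h₀ h₁).eq_of_src _ _, (isZero_disk_X m _ k h₀ h₁).eq_of_src _ _⟩⟩
  exact (isPushout_elem_f M m ι k).isIso_inr_of_isIso

/-- the modified complex in degree `m` -/
noncomputable def elemIso₀ : (elem M m ι).X m ≅ Y := by
  haveI : IsIso ((fromDisk m (𝟙 (M.X m))).f m) := by
    rw [fromDisk_f₀]
    infer_instance
  haveI : IsIso ((elemInl M m ι).f m) := (isPushout_elem_f M m ι m).isIso_inl_of_isIso
  exact (asIso ((elemInl M m ι).f m)).symm ≪≫ diskIso₀ m Y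

theorem exists_elem [Mono ι] :
    ∃ (M' : CochainComplex A ℤ) (φ : M ⟶ M'), QuasiIso φ ∧
      (∀ k, k ≠ m → k ≠ m + 1 → IsIso (φ.f k)) ∧ Nonempty (M'.X m ≅ Y) ∧
      ∃ S : ShortComplex A, S.ShortExact ∧ Nonempty (S.X₁ ≅ M.X m) ∧
        Nonempty (S.X₂ ≅ Y ⊞ M.X (m + 1)) ∧ Nonempty (S.X₃ ≅ M'.X (m + 1)) := by
  refine ⟨elem M m ι, elemMap M m ι, inferInstance, isIso_elemMap_f M m ι, ⟨elemIso₀ M m ι⟩, ?_⟩
  have hP := isPushout_elem_f M m ι (m + 1)
  have hm : Mono ((diskMap m ι).f (m + 1)) := mono_diskMap_f m ι (m + 1)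
  refine ⟨hP.shortComplex, ?_, ⟨diskIso₁ m (M.X m)⟩,
    ⟨biprod.mapIso (diskIso₁ m Y) (Iso.refl _)⟩, ⟨Iso.refl _⟩⟩
  exact
    { exact := hP.exact_shortComplex
      mono_f := by
        have : hP.shortComplex.f ≫ biprod.fst = (diskMap m ι).f (m + 1) := by
          simp [CommSq.shortComplex]
        exact @mono_of_mono_fac _ _ _ _ _ _ _ _ hm this
      epi_g := hP.epi_shortComplex_g }

end Elem

end Groth.Agent.H6.DimZ
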