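import Groth.Agent.Lib.Helper6.DimZ1
import Groth.Agent.Lib.Helper6.DimZ2

/-! # Resolutions by objects of dimension zero -/

namespace Groth.Agent.H6.DimZ

open CategoryTheory CategoryTheory.Limits HomologicalComplex

universe v u

variable {A : Type u} [Category.{v} A] [Abelian A]

section

variable (d : A → ℕ∞) (hiso : ∀ ⦃X Y : A⦄, Nonempty (X ≅ Y) → d X = d Y)
    (h1 : ∀ X : A, ∃ (Y : A) (ι : X ⟶ Y), Mono ι ∧ d Y = 0)
    (h2 : ∀ X Y : A, d (X ⊞ Y) ≤ max (d X) (d Y))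
    (h3 : ∀ S : ShortComplex A, S.ShortExact → d S.X₃ ≤ max (d S.X₁ - 1) (d S.X₂))

include hiso h1 h2 h3

theorem exists_step (M : CochainComplex A ℤ) (m : ℤ) :
    ∃ (M' : CochainComplex A ℤ) (φ : M ⟶ M'), QuasiIso φ ∧
      (∀ k, k ≠ m → k ≠ m + 1 → IsIso (φ.f k)) ∧ d (M'.X m) = 0 ∧
      d (M'.X (m + 1)) ≤ max (d (M.X m) - 1) (d (M.X (m + 1))) := by
  obtain ⟨Y, ι, hι, hY⟩ := h1 (M.X m)
  obtain ⟨M', φ, hφ, hk, ⟨e₀⟩, S, hS, ⟨e₁⟩, ⟨e₂⟩, ⟨e₃⟩⟩ := exists_elem M m ι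
  refine ⟨M', φ, hφ, hk, ?_, ?_⟩
  · rw [hiso ⟨e₀⟩, hY]
  · rw [← hiso ⟨e₃⟩]
    refine (h3 S hS).trans ?_
    rw [hiso ⟨e₁⟩, hiso ⟨e₂⟩]
    refine max_le_max le_rfl ((h2 _ _).trans ?_)
    rw [hY]
    simp

theorem exists_sweep (N : ℕ) : ∀ (M : CochainComplex A ℤ) (m : ℤ),
    ∃ (M' : CochainComplex A ℤ) (φ : M ⟶ M'), QuasiIso φ ∧
      (∀ k, (k < m ∨ m + N < k) → IsIso (φ.f k)) ∧
      ((∀ k, m < k → d (M.X k) = 0) → d (M.X m) ≤ N → ∀ k, m ≤ k → d (M'.X k) = 0) := by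
  induction N with
  | zero =>
    intro M m
    refine ⟨M, 𝟙 M, inferInstance, fun k _ => ?_, fun hM hN k hk => ?_⟩
    · rw [HomologicalComplex.id_f]; infer_instance
    · rcases hk.eq_or_lt with rfl | hk
      · simpa using hN
      · exact hM k hk
  | succ N ih =>
    intro M m
    obtain ⟨M₁, φ₁, hφ₁, hk₁, hd₀, hd₁⟩ := exists_step d hiso h1 h2 h3 M m
    obtain ⟨M', φ₂, hφ₂, hk₂, hd₂⟩ := ih M₁ (m + 1)
    refine ⟨M', φ₁ ≫ φ₂, inferInstance, fun k hk => ?_, fun hM hN k hk => ?_⟩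
    · rw [HomologicalComplex.comp_f]
      haveI : IsIso (φ₁.f k) := hk₁ k (by push_cast at hk; omega) (by push_cast at hk; omega)
      haveI : IsIso (φ₂.f k) := hk₂ k (by push_cast at hk; omega)
      infer_instance
    · have hM₁ : ∀ k, m + 1 < k → d (M₁.X k) = 0 := by
        intro k hk
        haveI : IsIso (φ₁.f k) := hk₁ k (by omega) (by omega)
        rw [← hiso ⟨asIso (φ₁.f k)⟩]
        exact hM k (by omega)
      have hN₁ : d (M₁.X (m + 1)) ≤ N := by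
        refine hd₁.trans (max_le ?_ ?_)
        · rw [tsub_le_iff_right]
          exact_mod_cast hN
        · rw [hM (m + 1) (by omega)]
          exact bot_le
      rcases hk.eq_or_lt with rfl | hk
      · haveI : IsIso (φ₂.f m) := hk₂ m (Or.inl (by omega))
        rw [← hiso ⟨asIso (φ₂.f m)⟩]
        exact hd₀
      · exact hd₂ hM₁ hN₁ k (by omega)

end

end Groth.Agent.H6.DimZ
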