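import Mathlib
import Groth.Agent.Lib.Helper6.DirCont

/-! Additive functors commuting with directed colimits preserve coproducts. -/

set_option autoImplicit false
set_option linter.unusedSectionVars false

universe u
open CategoryTheory CategoryTheory.Limits DirectSum

namespace Groth.Agent.H6

namespace DirCont

section Pure

variable {R : Type u} [CommRing R] {J : Type u} [DecidableEq J] (Z : J → Type u)
  [∀ j, AddCommGroup (Z j)] [∀ j, Module R (Z j)]

lemma sum_lof_eq (s : Finset J) (x : ⨁ j, Z j) (hx : ∀ j, j ∉ s → x j = 0) :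
    ∑ j ∈ s, DirectSum.lof R J Z j (x j) = x := by
  apply DirectSum.ext_component R
  intro k
  rw [map_sum]
  by_cases hk : k ∈ s
  · rw [Finset.sum_eq_single k]
    · rw [DirectSum.component.lof_self]; rfl
    · intro j _ hjk
      rw [← DirectSum.apply_eq_component, DirectSum.lof_eq_of, DirectSum.of_eq_of_ne _ _ _ hjk.symm]
    · intro h; exact absurd hk h
  · rw [← DirectSum.apply_eq_component R x, hx k hk]
    apply Finset.sum_eq_zero
    intro j hj
    have hjk : j ≠ k := fun h => hk (h ▸ hj)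
    rw [← DirectSum.apply_eq_component, DirectSum.lof_eq_of, DirectSum.of_eq_of_ne _ _ _ hjk.symm]

end Pure

variable {R : Type u} [CommRing R] {J : Type u} [DecidableEq J] (Z : J → ModuleCat.{u} R)

/-- elements of the direct sum supported in `s` -/
def supp (s : Finset J) : Submodule R (⨁ j, Z j) where
  carrier := {x | ∀ j, j ∉ s → x j = 0}
  zero_mem' := fun j _ => rfl
  add_mem' := by
    intro x y hx hy j hj
    rw [DirectSum.add_apply, hx j hj, hy j hj, add_zero]
  smul_mem' := by
    intro r x hx j hj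
    rw [DirectSum.smul_apply, hx j hj, smul_zero]

lemma supp_mono {s s' : Finset J} (h : s ≤ s') : supp Z s ≤ supp Z s' :=
  fun x hx j hj => hx j (fun hjs => hj (h hjs))

/-- the directed system of finite sub-sums -/
def finSys : Finset J ⥤ ModuleCat.{u} R where
  obj s := ModuleCat.of R (supp Z s)
  map {s s'} f := ModuleCat.ofHom (Submodule.inclusion (supp_mono Z (leOfHom f)))
  map_id s := by ext x; rfl
  map_comp f g := by ext x; rfl

def finCocone : Cocone (finSys Z) where
  pt := ModuleCat.of R (⨁ j, Z j)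
  ι := { app := fun s => ModuleCat.ofHom (supp Z s).subtype
         naturality := by intro s s' f; ext x; rfl }

lemma isDirColim_finCocone : IsDirColim (finSys Z) (finCocone Z) := by
  classical
  constructor
  · intro (x : ⨁ j, Z j)
    refine ⟨DFinsupp.support x, ⟨x, fun j hj => DFinsupp.notMem_support_iff.1 hj⟩, rfl⟩
  · intro s (y : supp Z s) hy
    refine ⟨s, le_refl s, ?_⟩
    have h1 : ((y : supp Z s) : ⨁ j, Z j) = 0 := hy
    have h2 : y = 0 := Subtype.ext h1
    rw [h2]
    exact map_zero ((finSys Z).map (homOfLE (le_refl s))).hom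

/-- inclusion of a summand with index in `s` -/
def lofS (s : Finset J) (j : J) (hj : j ∈ s) : Z j ⟶ (finSys Z).obj s :=
  ModuleCat.ofHom (LinearMap.codRestrict (supp Z s) (DirectSum.lof R J (fun j => Z j) j) (by
    intro x k hk
    have : k ≠ j := fun h => hk (h ▸ hj)
    exact DirectSum.of_eq_of_ne _ _ _ this))

/-- projection to a summand -/
def compS (s : Finset J) (j : J) : (finSys Z).obj s ⟶ Z j :=
  ModuleCat.ofHom ((DirectSum.component R J (fun j => Z j) j) ∘ₗ (supp Z s).subtype)

lemma id_eq_sum (s : Finset J) :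
    𝟙 ((finSys Z).obj s) = ∑ j ∈ s.attach, compS Z s j.1 ≫ lofS Z s j.1 j.2 := by
  ext (x : supp Z s)
  have h1 := sum_lof_eq (R := R) (fun j => (Z j : Type u)) s x.1 x.2
  rw [← Finset.sum_attach] at h1
  let g : s → (supp Z s →ₗ[R] supp Z s) := fun i => (compS Z s i.1 ≫ lofS Z s i.1 i.2).hom
  have key : x = ∑ i ∈ s.attach, g i x := by
    apply Subtype.ext
    rw [Submodule.coe_sum]
    exact h1.symm
  rw [ModuleCat.hom_sum]
  have h2 : (∑ i ∈ s.attach, g i) x = ∑ i ∈ s.attach, g i x := LinearMap.sum_apply _ _ _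
  exact key.trans h2.symm

lemma lofS_comp (s : Finset J) (j : J) (hj : j ∈ s) :
    lofS Z s j hj ≫ (finCocone Z).ι.app s = ModuleCat.ofHom (DirectSum.lof R J (fun j => Z j) j) := by
  ext x; rfl

variable {F : ModuleCat.{u} R ⥤ ModuleCat.{u} R} [F.Additive]

/-- Every element of `F(⨁ Z_j)` is a finite sum of elements coming from the `F(Z_j)`. -/
lemma exists_sum_of_dc (hF : DC F) (x : F.obj (ModuleCat.of R (⨁ j, Z j))) :
    ∃ (s : Finset J) (y : ∀ j : J, F.obj (Z j)),
      x = ∑ j ∈ s, (F.map (ModuleCat.ofHom (DirectSum.lof R J (fun j => Z j) j))).hom (y j) := by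
  obtain ⟨s, y, hy⟩ := (hF (Finset J) (finSys Z) (finCocone Z) (isDirColim_finCocone Z)).surj x
  have hy' : (F.map ((finCocone Z).ι.app s)).hom y = x := hy
  refine ⟨s, fun j => (F.map (compS Z s j)).hom y, ?_⟩
  rw [← hy']
  have h1 : y = (F.map (𝟙 ((finSys Z).obj s))).hom y := by
    rw [CategoryTheory.Functor.map_id]; rfl
  conv_lhs => rw [h1, id_eq_sum, Functor.map_sum, ModuleCat.hom_sum, LinearMap.sum_apply, map_sum]
  rw [← Finset.sum_attach s]
  apply Finset.sum_congr rfl
  intro j _
  have h3 : F.map (ModuleCat.ofHom (DirectSum.lof R J (fun j => Z j) j.1)) =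
      F.map (lofS Z s j.1 j.2) ≫ F.map ((finCocone Z).ι.app s) :=
    (congrArg F.map (lofS_comp Z s j.1 j.2).symm).trans (F.map_comp _ _)
  have h4 : F.map (compS Z s j.1 ≫ lofS Z s j.1 j.2) =
      F.map (compS Z s j.1) ≫ F.map (lofS Z s j.1 j.2) := F.map_comp _ _
  rw [h3, h4]
  rfl

variable (F) in
/-- the comparison map `⨁ F(Z_j) ⟶ F(⨁ Z_j)` -/
noncomputable def sigmaMap : (⨁ j, F.obj (Z j)) →ₗ[R] F.obj (ModuleCat.of R (⨁ j, Z j)) :=
  DirectSum.toModule R J _
    (fun j => (F.map (ModuleCat.ofHom (DirectSum.lof R J (fun j => Z j) j))).hom)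

lemma sigmaMap_lof (j : J) (y : F.obj (Z j)) :
    sigmaMap Z F (DirectSum.lof R J (fun j => F.obj (Z j)) j y) =
      (F.map (ModuleCat.ofHom (DirectSum.lof R J (fun j => Z j) j))).hom y :=
  DirectSum.toModule_lof _ _ _

lemma sigmaMap_surjective (hF : DC F) : Function.Surjective (sigmaMap Z F) := by
  intro x
  obtain ⟨s, y, hy⟩ := exists_sum_of_dc Z hF x
  refine ⟨∑ j ∈ s, DirectSum.lof R J (fun j => F.obj (Z j)) j (y j), ?_⟩
  rw [map_sum, hy]
  apply Finset.sum_congr rfl
  intro j _
  exact sigmaMap_lof Z j (y j)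

lemma comp_sigmaMap (j : J) :
    (F.map (ModuleCat.ofHom (DirectSum.component R J (fun j => Z j) j))).hom ∘ₗ sigmaMap Z F =
      DirectSum.component R J (fun j => F.obj (Z j)) j := by
  apply DirectSum.linearMap_ext
  intro k
  ext y
  rw [LinearMap.comp_apply, LinearMap.comp_apply, sigmaMap_lof]
  have h1 : (F.map (ModuleCat.ofHom (DirectSum.component R J (fun j => Z j) j))).hom
      ((F.map (ModuleCat.ofHom (DirectSum.lof R J (fun j => Z j) k))).hom y) =
      (F.map (ModuleCat.ofHom (DirectSum.lof R J (fun j => Z j) k) ≫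
        ModuleCat.ofHom (DirectSum.component R J (fun j => Z j) j))).hom y := by
    rw [F.map_comp]; rfl
  rw [h1]
  by_cases hkj : k = j
  · subst hkj
    have h2 : ModuleCat.ofHom (DirectSum.lof R J (fun j => Z j) k) ≫
        ModuleCat.ofHom (DirectSum.component R J (fun j => Z j) k) = 𝟙 (Z k) := by
      ext z
      exact DirectSum.component.lof_self R (M := fun j => (Z j : Type u)) k z
    rw [h2, CategoryTheory.Functor.map_id]
    exact (DirectSum.component.lof_self R (M := fun j => (F.obj (Z j) : Type u)) k y).symm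
  · have h2 : ModuleCat.ofHom (DirectSum.lof R J (fun j => Z j) k) ≫
        ModuleCat.ofHom (DirectSum.component R J (fun j => Z j) j) = 0 := by
      ext z
      exact DirectSum.of_eq_of_ne _ _ _ (Ne.symm hkj)
    rw [h2, Functor.map_zero]
    have h3 : DirectSum.component R J (fun j => F.obj (Z j)) j
        (DirectSum.lof R J (fun j => F.obj (Z j)) k y) = 0 :=
      DirectSum.of_eq_of_ne _ _ _ (Ne.symm hkj)
    exact h3.symm

lemma sigmaMap_injective : Function.Injective (sigmaMap Z F) := by
  rw [injective_iff_map_eq_zero]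
  intro x hx
  apply DirectSum.ext_component R
  intro j
  have h := congrArg (fun φ => φ x) (comp_sigmaMap (F := F) Z j)
  simp only [LinearMap.comp_apply] at h
  rw [← h, hx, map_zero, map_zero]

/-- the comparison isomorphism -/
noncomputable def sigmaIso (hF : DC F) :
    ModuleCat.of R (⨁ j, F.obj (Z j)) ≅ F.obj (ModuleCat.of R (⨁ j, Z j)) :=
  (LinearEquiv.ofBijective (sigmaMap Z F)
    ⟨sigmaMap_injective Z, sigmaMap_surjective Z hF⟩).toModuleIso

lemma lof_sigmaIso_hom (hF : DC F) (j : J) :
    ModuleCat.ofHom (DirectSum.lof R J (fun j => F.obj (Z j)) j) ≫ (sigmaIso Z hF).hom =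
      F.map (ModuleCat.ofHom (DirectSum.lof R J (fun j => Z j) j)) := by
  ext y
  exact sigmaMap_lof Z j y

lemma toModule_lof' (N : ModuleCat.{u} R) (φ : ∀ j, F.obj (Z j) ⟶ N) (j : J) (y : F.obj (Z j)) :
    (DirectSum.toModule R J N (fun j => (φ j).hom))
      (DirectSum.lof R J (fun j => F.obj (Z j)) j y) = (φ j).hom y :=
  DirectSum.toModule_lof _ _ _

lemma sigmaIso_hom_comp (hF : DC F) (N : ModuleCat.{u} R) (φ : ∀ j, F.obj (Z j) ⟶ N)
    (m : F.obj (ModuleCat.of R (⨁ j, Z j)) ⟶ N)
    (hm : ∀ j, F.map (ModuleCat.ofHom (DirectSum.lof R J (fun j => Z j) j)) ≫ m = φ j) :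
    (sigmaIso Z hF).hom ≫ m = ModuleCat.ofHom (DirectSum.toModule R J N (fun j => (φ j).hom)) := by
  apply ModuleCat.hom_ext
  apply DirectSum.linearMap_ext
  intro j
  ext y
  have h1 := congrArg (fun ψ => ψ.hom y) (hm j)
  have h3 : (sigmaIso Z hF).hom.hom (DirectSum.lof R J (fun j => F.obj (Z j)) j y) =
      (F.map (ModuleCat.ofHom (DirectSum.lof R J (fun j => Z j) j))).hom y := sigmaMap_lof Z j y
  change m.hom ((sigmaIso Z hF).hom.hom (DirectSum.lof R J (fun j => F.obj (Z j)) j y)) =
    (DirectSum.toModule R J N (fun j => (φ j).hom)) (DirectSum.lof R J (fun j => F.obj (Z j)) j y)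
  rw [h3, toModule_lof']
  exact h1

/-- `F` maps the concrete coproduct cocone to a colimit cocone. -/
noncomputable def isColimitMapCocone (hF : DC F) :
    IsColimit (F.mapCocone (ModuleCat.coproductCocone Z)) where
  desc s := (sigmaIso Z hF).inv ≫
    ModuleCat.ofHom (DirectSum.toModule R J s.pt (fun j => (s.ι.app ⟨j⟩).hom))
  fac := by
    rintro s ⟨j⟩
    change F.map (ModuleCat.ofHom (DirectSum.lof R J (fun j => Z j) j)) ≫ _ ≫ _ = _
    rw [← lof_sigmaIso_hom Z hF j, Category.assoc, Iso.hom_inv_id_assoc]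
    ext y
    exact toModule_lof' Z s.pt (fun j => s.ι.app ⟨j⟩) j y
  uniq := by
    intro s (m : F.obj (ModuleCat.of R (⨁ j, Z j)) ⟶ s.pt) hm
    refine (Iso.eq_inv_comp (sigmaIso Z hF)).2 ?_
    exact sigmaIso_hom_comp Z hF s.pt (fun j => s.ι.app ⟨j⟩) m (fun j => hm ⟨j⟩)

/-- An additive functor commuting with directed colimits preserves coproducts. -/
lemma preservesCoproducts_of_dc (hF : DC F) (J : Type u) :
    PreservesColimitsOfShape (Discrete J) F where
  preservesColimit {K} := by
    classical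
    have h1 : PreservesColimit (Discrete.functor (K.obj ∘ Discrete.mk)) F :=
      preservesColimit_of_preserves_colimit_cocone
        (ModuleCat.coproductCoconeIsColimit (K.obj ∘ Discrete.mk))
        (isColimitMapCocone (K.obj ∘ Discrete.mk) hF)
    exact preservesColimit_of_iso_diagram F (Discrete.natIsoFunctor (F := K)).symm

end DirCont

end Groth.Agent.H6
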