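import Mathlib

set_option autoImplicit false
set_option linter.unusedSectionVars false
universe u
open scoped TensorProduct

namespace Groth.Agent.H6.DvrDescent

section Mod

variable (R : Type u) [CommRing R] [IsDomain R] [IsDiscreteValuationRing R]
  (K : Type u) [Field K] [Algebra R K] [IsFractionRing R K]
  (A : Type u) [CommRing A] [Algebra R A] [Module.FaithfullyFlat R A]
  (N : Type u) [AddCommGroup N] [Module R N] [Module.Flat R N]

/-- `K ⊗ N → (K ⊗ A) ⊗ N` -/
noncomputable abbrev jK : K ⊗[R] N →ₗ[R] (K ⊗[R] A) ⊗[R] N :=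
  LinearMap.rTensor N (Algebra.TensorProduct.includeLeft : K →ₐ[R] K ⊗[R] A).toLinearMap

/-- `A ⊗ N → (K ⊗ A) ⊗ N` -/
noncomputable abbrev jA : A ⊗[R] N →ₗ[R] (K ⊗[R] A) ⊗[R] N :=
  LinearMap.rTensor N (Algebra.TensorProduct.includeRight : A →ₐ[R] K ⊗[R] A).toLinearMap

theorem jA_injective : Function.Injective (jA R K A N) := by
  apply Module.Flat.rTensor_preserves_injective_linearMap
  exact Algebra.TensorProduct.includeRight_injective (IsFractionRing.injective R K)

omit [IsDomain R] [IsDiscreteValuationRing R] in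
theorem iK_injective : Function.Injective (TensorProduct.mk R K N 1) := by
  have : FaithfulSMul R K := (faithfulSMul_iff_algebraMap_injective R K).2 (IsFractionRing.injective R K)
  exact Module.Flat.tensorProduct_mk_injective R N K

theorem exists_pow_smul (ϖ : R) (hϖ : Irreducible ϖ) (x : K ⊗[R] N) :
    ∃ (n : ℕ) (m : N), ϖ ^ n • x = (1 : K) ⊗ₜ[R] m := by
  obtain ⟨⟨m, s⟩, h⟩ := IsLocalizedModule.surj (nonZeroDivisors R) (TensorProduct.mk R K N 1) x
  obtain ⟨n, u, hu⟩ := IsDiscreteValuationRing.eq_unit_mul_pow_irreducible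
    (nonZeroDivisors.ne_zero s.2) hϖ
  refine ⟨n, ((u⁻¹ : Rˣ) : R) • m, ?_⟩
  have h' : (s : R) • x = (1 : K) ⊗ₜ[R] m := h
  rw [TensorProduct.tmul_smul, ← h', hu, smul_smul, ← mul_assoc, Units.inv_mul, one_mul]

theorem smul_injective_tensor (ϖ : R) (hϖ : ϖ ≠ 0) (x y : K ⊗[R] N) (h : ϖ • x = ϖ • y) : x = y := by
  have h1 : (algebraMap R K ϖ) • x = (algebraMap R K ϖ) • y := by
    rw [algebraMap_smul, algebraMap_smul]; exact h
  have h2 : algebraMap R K ϖ ≠ 0 := by
    rw [Ne, map_eq_zero_iff _ (IsFractionRing.injective R K)]; exact hϖ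
  exact smul_right_injective _ h2 h1

theorem key (ϖ : R) (x : K ⊗[R] N) (y : A ⊗[R] N) (h : jK R K A N x = jA R K A N y)
    (n : ℕ) (m : N) (hx : ϖ ^ (n + 1) • x = (1 : K) ⊗ₜ[R] m) : ∃ m' : N, ϖ • m' = m := by
  have h1 : (1 : A) ⊗ₜ[R] m = ϖ ^ (n + 1) • y := by
    apply jA_injective R K A N
    rw [map_smul, ← h, ← map_smul, hx]
    simp [jA, jK]
  let P : Submodule R N := LinearMap.range (LinearMap.lsmul R N ϖ)
  have hP : ∀ z : A ⊗[R] (N ⧸ P), ϖ • z = 0 := by
    intro z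
    induction z using TensorProduct.induction_on with
    | zero => simp
    | tmul a q =>
      obtain ⟨q, rfl⟩ := Submodule.Quotient.mk_surjective _ q
      rw [TensorProduct.smul_tmul', TensorProduct.smul_tmul, ← Submodule.Quotient.mk_smul]
      have : ϖ • q ∈ P := ⟨q, rfl⟩
      rw [(Submodule.Quotient.mk_eq_zero P).2 this, TensorProduct.tmul_zero]
    | add a b ha hb => rw [smul_add, ha, hb, add_zero]
  have h2 : (TensorProduct.mk R A (N ⧸ P) 1) (P.mkQ m) = 0 := by
    have : (TensorProduct.mk R A (N ⧸ P) 1) (P.mkQ m) = LinearMap.lTensor A P.mkQ ((1 : A) ⊗ₜ[R] m) := by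
      simp
    rw [this, h1, map_smul, pow_succ', mul_smul, hP]
  have h3 : P.mkQ m = 0 := by
    apply Module.FaithfullyFlat.tensorProduct_mk_injective (A := R) (B := A) (N ⧸ P)
    rw [h2, map_zero]
  have h4 : m ∈ P := by
    rwa [Submodule.mkQ_apply, Submodule.Quotient.mk_eq_zero] at h3
  obtain ⟨m', hm'⟩ := h4
  exact ⟨m', hm'⟩

theorem descend (x : K ⊗[R] N) (y : A ⊗[R] N) (h : jK R K A N x = jA R K A N y) :
    ∃ m : N, x = (1 : K) ⊗ₜ[R] m ∧ y = (1 : A) ⊗ₜ[R] m := by
  obtain ⟨ϖ, hϖ⟩ := IsDiscreteValuationRing.exists_irreducible R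
  have hind : ∀ (n : ℕ) (m : N), ϖ ^ n • x = (1 : K) ⊗ₜ[R] m → ∃ m' : N, x = (1 : K) ⊗ₜ[R] m' := by
    intro n
    induction n with
    | zero =>
      intro m hm
      exact ⟨m, by simpa using hm⟩
    | succ n ih =>
      intro m hm
      obtain ⟨m', rfl⟩ := key R K A N ϖ x y h n m hm
      apply ih m'
      apply smul_injective_tensor R K N ϖ hϖ.ne_zero
      rw [smul_smul, ← pow_succ', hm, TensorProduct.tmul_smul]
  obtain ⟨n, m, hm⟩ := exists_pow_smul R K N ϖ hϖ x
  obtain ⟨m', rfl⟩ := hind n m hm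
  refine ⟨m', rfl, ?_⟩
  apply jA_injective R K A N
  rw [← h]
  simp [jA, jK]

end Mod

section Alg

variable (R : Type u) [CommRing R] [IsDomain R]
    [IsDiscreteValuationRing R] (K : Type u) [Field K] [Algebra R K] [IsFractionRing R K]
    (A : Type u) [CommRing A] [Algebra R A] [Module.FaithfullyFlat R A]
    (B₁ B₂ : Type u) [CommRing B₁] [CommRing B₂] [Algebra R B₁] [Algebra R B₂]
    [Module.Flat R B₁] [Module.Flat R B₂]

theorem main
    (φK : K ⊗[R] B₂ →ₐ[K] K ⊗[R] B₁) (φA : A ⊗[R] B₂ →ₐ[A] A ⊗[R] B₁)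
    (hcomp : ∀ b : B₂,
      Algebra.TensorProduct.map (Algebra.TensorProduct.includeLeft : K →ₐ[R] K ⊗[R] A) (AlgHom.id R B₁)
          (φK (1 ⊗ₜ b)) =
        Algebra.TensorProduct.map (Algebra.TensorProduct.includeRight : A →ₐ[R] K ⊗[R] A) (AlgHom.id R B₁)
          (φA (1 ⊗ₜ b))) :
    ∃! φ : B₂ →ₐ[R] B₁, (∀ b : B₂, φK (1 ⊗ₜ b) = 1 ⊗ₜ φ b) ∧ (∀ b : B₂, φA (1 ⊗ₜ b) = 1 ⊗ₜ φ b) := by
  have hinj : Function.Injective (TensorProduct.mk R K B₁ 1) := iK_injective R K B₁
  have hex : ∀ b : B₂, ∃ m : B₁, φK (1 ⊗ₜ b) = (1 : K) ⊗ₜ[R] m ∧ φA (1 ⊗ₜ b) = (1 : A) ⊗ₜ[R] m :=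
    fun b => descend R K A B₁ _ _ (hcomp b)
  choose f hfK hfA using hex
  have hinj' : ∀ a b : B₁, (1 : K) ⊗ₜ[R] a = (1 : K) ⊗ₜ[R] b → a = b := fun a b hab => hinj hab
  let φ : B₂ →ₐ[R] B₁ :=
    { toFun := f
      map_one' := by
        apply hinj'
        rw [← hfK, ← Algebra.TensorProduct.one_def, map_one, Algebra.TensorProduct.one_def]
      map_mul' := by
        intro a b
        apply hinj'
        rw [← hfK, ← mul_one (1 : K), ← Algebra.TensorProduct.tmul_mul_tmul, map_mul, hfK, hfK,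
          Algebra.TensorProduct.tmul_mul_tmul]
      map_zero' := by
        apply hinj'
        rw [← hfK, TensorProduct.tmul_zero, map_zero, TensorProduct.tmul_zero]
      map_add' := by
        intro a b
        apply hinj'
        rw [← hfK, TensorProduct.tmul_add, map_add, hfK, hfK, TensorProduct.tmul_add]
      commutes' := by
        intro r
        apply hinj'
        rw [← hfK]
        have h1 : (1 : K) ⊗ₜ[R] (algebraMap R B₂ r) = algebraMap K (K ⊗[R] B₂) (algebraMap R K r) := by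
          rw [Algebra.TensorProduct.algebraMap_apply, Algebra.algebraMap_eq_smul_one,
            Algebra.algebraMap_eq_smul_one (A := K), TensorProduct.tmul_smul, TensorProduct.smul_tmul']
          simp [Algebra.smul_def]
        have h2 : (1 : K) ⊗ₜ[R] (algebraMap R B₁ r) = algebraMap K (K ⊗[R] B₁) (algebraMap R K r) := by
          rw [Algebra.TensorProduct.algebraMap_apply, Algebra.algebraMap_eq_smul_one,
            Algebra.algebraMap_eq_smul_one (A := K), TensorProduct.tmul_smul, TensorProduct.smul_tmul']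
          simp [Algebra.smul_def]
        rw [h1, h2, AlgHom.commutes] }
  refine ⟨φ, ⟨hfK, hfA⟩, ?_⟩
  rintro ψ ⟨hψK, -⟩
  ext b
  apply hinj'
  rw [← hψK]
  exact hfK b

end Alg

end Groth.Agent.H6.DvrDescent
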