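import Mathlib
import Groth.Agent.S0271

set_option autoImplicit false
universe u

namespace Groth.Agent.H6.DvrInertia

open IsLocalRing

/-- In a one-dimensional domain with finitely many maximal ideals, the localization at a maximal
ideal is a principal localization. -/
theorem exists_away_atPrime {R : Type*} [CommRing R] [IsDomain R] [Ring.DimensionLEOne R]
    (hfin : {P : Ideal R | P.IsMaximal}.Finite) (p : Ideal R) [hp : p.IsMaximal] (x : R)
    (hx : x ∉ p) :
    ∃ s : R, s ∉ p ∧ IsLocalization.Away (x * s) (Localization.AtPrime p) := by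
  classical
  have hchoose : ∀ n ∈ hfin.toFinset.erase p, ∃ t : R, t ∈ n ∧ t ∉ p := by
    intro n hn
    rw [Finset.mem_erase, Set.Finite.mem_toFinset] at hn
    by_contra hcon
    push Not at hcon
    exact hn.1 (hn.2.eq_of_le hp.ne_top hcon)
  choose! t ht1 ht2 using hchoose
  let s : R := ∏ n ∈ hfin.toFinset.erase p, t n
  have hs : s ∉ p := by
    intro hs
    obtain ⟨n, hn, hn'⟩ := (hp.isPrime.prod_mem_iff).mp hs
    exact ht2 n hn hn'
  have hs' : ∀ n ∈ hfin.toFinset.erase p, s ∈ n := fun n hn =>
    Ideal.prod_mem n hn (ht1 n hn)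
  refine ⟨s, hs, ?_⟩
  set y : R := x * s with hy
  have hyp : y ∉ p := fun h => (hp.isPrime.mem_or_mem h).elim hx hs
  have key : ∀ r ∈ p.primeCompl, IsUnit (algebraMap R (Localization.Away y) r) := by
    intro r hr
    by_contra hcon
    obtain ⟨N, hN, hrN⟩ := exists_max_ideal_of_mem_nonunits (show algebraMap R (Localization.Away y) r ∈
      nonunits _ from hcon)
    let P : Ideal R := N.comap (algebraMap R (Localization.Away y))
    have hP : P.IsPrime := Ideal.comap_isPrime _ _
    have hrP : r ∈ P := hrN
    have hyP : y ∉ P := by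
      intro hyP
      have : IsUnit (algebraMap R (Localization.Away y) y) :=
        IsLocalization.Away.algebraMap_isUnit y
      exact hN.ne_top (Ideal.eq_top_of_isUnit_mem _ (show algebraMap R _ y ∈ N from hyP) this)
    have hr0 : r ≠ 0 := by
      intro h0
      rw [h0] at hr
      exact hr p.zero_mem
    have hPbot : P ≠ ⊥ := by
      intro h
      rw [h] at hrP
      exact hr0 hrP
    have hPmax : P.IsMaximal := Ring.DimensionLEOne.maximalOfPrime hPbot hP
    have hPp : P ≠ p := by
      intro hPp
      rw [hPp] at hrP
      exact hr hrP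
    have : P ∈ hfin.toFinset.erase p := by
      rw [Finset.mem_erase, Set.Finite.mem_toFinset]
      exact ⟨hPp, hPmax⟩
    exact hyP (P.mul_mem_left x (hs' P this))
  have hle : Submonoid.powers y ≤ p.primeCompl := by
    rw [Submonoid.powers_le]
    exact hyp
  haveI : IsLocalization p.primeCompl (Localization.Away y) :=
    IsLocalization.of_le (Submonoid.powers y) p.primeCompl hle key
  exact IsLocalization.isLocalization_of_algEquiv (Submonoid.powers y)
    (IsLocalization.algEquiv p.primeCompl (Localization.Away y) (Localization.AtPrime p))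

/-- Transport of étaleness of a principal localization along ring isomorphisms of base and
top. -/
theorem etale_away_transport {A B' R₀ R₁ : Type u} [CommRing A] [CommRing B'] [CommRing R₀]
    [CommRing R₁] [Algebra A B'] [Algebra R₀ R₁] (eA : A ≃+* R₀) (eB : B' ≃+* R₁)
    (hcomm : ∀ a, eB (algebraMap A B' a) = algebraMap R₀ R₁ (eA a)) (g : R₁)
    (h : Algebra.Etale R₀ (Localization.Away g)) :
    Algebra.Etale A (Localization.Away (eB.symm g)) := by
  have hmap : (Submonoid.powers g).map eB.symm.toMonoidHom = Submonoid.powers (eB.symm g) := by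
    rw [Submonoid.map_powers]
    rfl
  let ε : Localization.Away g ≃+* Localization.Away (eB.symm g) :=
    IsLocalization.ringEquivOfRingEquiv (Localization.Away g) (Localization.Away (eB.symm g))
      eB.symm hmap
  have h1 : (algebraMap R₀ (Localization.Away g)).Etale := RingHom.etale_algebraMap.mpr h
  have h2 : ((ε.toRingHom.comp (algebraMap R₀ (Localization.Away g))).comp eA.toRingHom).Etale :=
    RingHom.Etale.respectsIso.2 _ _ (RingHom.Etale.respectsIso.1 _ _ h1)
  have h3 : (ε.toRingHom.comp (algebraMap R₀ (Localization.Away g))).comp eA.toRingHom =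
      algebraMap A (Localization.Away (eB.symm g)) := by
    ext a
    simp only [RingEquiv.toRingHom_eq_coe, RingHom.coe_comp, RingHom.coe_coe, Function.comp_apply]
    rw [IsScalarTower.algebraMap_apply R₀ R₁ (Localization.Away g), ← hcomm]
    rw [IsLocalization.ringEquivOfRingEquiv_eq]
    rw [RingEquiv.symm_apply_apply, ← IsScalarTower.algebraMap_apply]
  rw [h3] at h2
  exact RingHom.etale_algebraMap.mp h2

section Main

variable (A K L B : Type u) [CommRing A] [IsDomain A]
    [IsDiscreteValuationRing A] [Field K] [Field L] [Algebra A K] [IsFractionRing A K] [Algebra K L]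
    [Algebra A L] [IsScalarTower A K L] [FiniteDimensional K L] [IsGalois K L]
    [CommRing B] [Algebra A B] [Algebra B L] [IsScalarTower A B L] [IsIntegralClosure B A L]
    [MulSemiringAction (L ≃ₐ[K] L) B]

omit [IsDiscreteValuationRing A] [IsDomain A] [IsFractionRing A K] [FiniteDimensional K L]
  [IsGalois K L] in
theorem isScalarTower_mid (F : IntermediateField K L) : IsScalarTower A F L :=
  IsScalarTower.of_algebraMap_eq (fun _ => rfl)

include K in
omit [IsDiscreteValuationRing A] [IsDomain A] [IsFractionRing A K] [FiniteDimensional K L]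
  [IsGalois K L] in
theorem mem_range_iff
    (hact : ∀ (σ : L ≃ₐ[K] L) (b : B), algebraMap B L (σ • b) = σ (algebraMap B L b))
    (H : Subgroup (L ≃ₐ[K] L))
    (B' : Type u) [CommRing B'] [Algebra A B'] [Algebra B' B] [IsScalarTower A B' B] [Algebra B' L]
    [IsScalarTower B' B L]
    [Algebra B' (IntermediateField.fixedField H)]
    [IsScalarTower B' (IntermediateField.fixedField H) L]
    [IsIntegralClosure B' A (IntermediateField.fixedField H)] (b : B) :
    (∀ σ ∈ H, σ • b = b) ↔ b ∈ Set.range (algebraMap B' B) := by
  have hinj : Function.Injective (algebraMap B L) := IsIntegralClosure.algebraMap_injective B A L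
  haveI := isScalarTower_mid A K L (IntermediateField.fixedField H)
  constructor
  · intro hb
    have hx : algebraMap B L b ∈ IntermediateField.fixedField H := by
      rw [IntermediateField.mem_fixedField_iff]
      intro σ hσ
      rw [← hact, hb σ hσ]
    have hint : IsIntegral A (algebraMap B L b) :=
      (IsIntegralClosure.isIntegral A L b).map (IsScalarTower.toAlgHom A B L)
    have hint' : IsIntegral A (⟨algebraMap B L b, hx⟩ : IntermediateField.fixedField H) := by
      rw [← isIntegral_algebraMap_iff (B := L)
        (FaithfulSMul.algebraMap_injective (IntermediateField.fixedField H) L)]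
      exact hint
    obtain ⟨b', hb'⟩ := (IsIntegralClosure.isIntegral_iff (A := B')).mp hint'
    refine ⟨b', hinj ?_⟩
    rw [← IsScalarTower.algebraMap_apply B' B L,
      IsScalarTower.algebraMap_apply B' (IntermediateField.fixedField H) L, hb']
    rfl
  · rintro ⟨b', rfl⟩ σ hσ
    apply hinj
    rw [hact, ← IsScalarTower.algebraMap_apply B' B L,
      IsScalarTower.algebraMap_apply B' (IntermediateField.fixedField H) L]
    exact (IntermediateField.mem_fixedField_iff _ _).mp
      (algebraMap B' (IntermediateField.fixedField H) b').2 σ hσ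

include K in
omit [IsDiscreteValuationRing A] in
theorem mem_range_algebraMap_of_fixed [IsIntegrallyClosed A]
    (hact : ∀ (σ : L ≃ₐ[K] L) (b : B), algebraMap B L (σ • b) = σ (algebraMap B L b))
    (b : B) (hb : ∀ σ : L ≃ₐ[K] L, σ • b = b) : b ∈ Set.range (algebraMap A B) := by
  have hinj : Function.Injective (algebraMap B L) := IsIntegralClosure.algebraMap_injective B A L
  have hx : algebraMap B L b ∈ (⊥ : IntermediateField K L) := by
    rw [← IsGalois.fixedField_top, IntermediateField.mem_fixedField_iff]
    intro σ _
    rw [← hact, hb σ]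
  obtain ⟨k, hk⟩ := IntermediateField.mem_bot.mp hx
  have hint : IsIntegral A (algebraMap B L b) :=
    (IsIntegralClosure.isIntegral A L b).map (IsScalarTower.toAlgHom A B L)
  rw [← hk] at hint
  have hint' : IsIntegral A k :=
    (isIntegral_algebraMap_iff (FaithfulSMul.algebraMap_injective K L)).mp hint
  obtain ⟨a, ha⟩ := (IsIntegrallyClosed.isIntegral_iff (R := A) (K := K)).mp hint'
  refine ⟨a, hinj ?_⟩
  rw [← IsScalarTower.algebraMap_apply A B L, IsScalarTower.algebraMap_apply A K L, ha, hk]

theorem main
    (hact : ∀ (σ : L ≃ₐ[K] L) (b : B), algebraMap B L (σ • b) = σ (algebraMap B L b))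
    (m : Ideal B) [m.IsMaximal]
    (B' : Type u) [CommRing B'] [Algebra A B'] [Algebra B' B] [IsScalarTower A B' B] [Algebra B' L]
    [IsScalarTower B' B L]
    [Algebra B' (IntermediateField.fixedField (m.inertia (L ≃ₐ[K] L)))]
    [IsScalarTower B' (IntermediateField.fixedField (m.inertia (L ≃ₐ[K] L))) L]
    [IsIntegralClosure B' A (IntermediateField.fixedField (m.inertia (L ≃ₐ[K] L)))] :
    Algebra.Etale A (Localization.AtPrime (m.comap (algebraMap B' B))) := by
  haveI hAF := isScalarTower_mid A K L (IntermediateField.fixedField (m.inertia (L ≃ₐ[K] L)))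
  have hinjBL : Function.Injective (algebraMap B L) := IsIntegralClosure.algebraMap_injective B A L
  have hinjB'F : Function.Injective
      (algebraMap B' (IntermediateField.fixedField (m.inertia (L ≃ₐ[K] L)))) :=
    IsIntegralClosure.algebraMap_injective B' A _
  have hinjB'L : Function.Injective (algebraMap B' L) := by
    rw [IsScalarTower.algebraMap_eq B' (IntermediateField.fixedField (m.inertia (L ≃ₐ[K] L))) L]
    exact (FaithfulSMul.algebraMap_injective _ L).comp hinjB'F
  have hinjB'B : Function.Injective (algebraMap B' B) := by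
    have : Function.Injective ((algebraMap B L).comp (algebraMap B' B)) := by
      rw [← IsScalarTower.algebraMap_eq B' B L]
      exact hinjB'L
    exact Function.Injective.of_comp this
  haveI hAB'F : IsScalarTower A B' (IntermediateField.fixedField (m.inertia (L ≃ₐ[K] L))) := by
    refine IsScalarTower.of_algebraMap_eq (fun a => ?_)
    apply FaithfulSMul.algebraMap_injective (IntermediateField.fixedField (m.inertia (L ≃ₐ[K] L))) L
    rw [← IsScalarTower.algebraMap_apply A _ L, ← IsScalarTower.algebraMap_apply B' _ L,
      IsScalarTower.algebraMap_apply B' B L, ← IsScalarTower.algebraMap_apply A B' B,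
      ← IsScalarTower.algebraMap_apply A B L]
  haveI : IsDomain B' := hinjB'F.isDomain _
  haveI : Module.Finite A B' :=
    IsIntegralClosure.finite A K (IntermediateField.fixedField (m.inertia (L ≃ₐ[K] L))) B'
  haveI : Algebra.IsIntegral A B' := Algebra.IsIntegral.of_finite A B'
  haveI : Ring.DimensionLEOne B' := Ring.DimensionLEOne.of_isIntegral A B'
  haveI : Algebra.IsIntegral A B := IsIntegralClosure.isIntegral_algebra A L
  haveI : Algebra.IsIntegral B' B := Algebra.IsIntegral.tower_top (R := A)
  haveI hm' : (m.comap (algebraMap B' B)).IsMaximal :=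
    Ideal.isMaximal_comap_of_isIntegral_of_isMaximal m
  -- finitely many maximal ideals
  have hfin : {P : Ideal B' | P.IsMaximal}.Finite := by
    refine (Algebra.QuasiFinite.finite_primesOver (S := B') (maximalIdeal A)).subset ?_
    intro P hP
    haveI : P.IsMaximal := hP
    refine ⟨hP.isPrime, ⟨?_⟩⟩
    have : (P.comap (algebraMap A B')).IsMaximal :=
      Ideal.isMaximal_comap_of_isIntegral_of_isMaximal P
    exact (IsLocalRing.eq_maximalIdeal this).symm
  -- the two ring isomorphisms
  let eA : A ≃+* FixedPoints.subring B (L ≃ₐ[K] L) :=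
    RingEquiv.ofBijective
      ((algebraMap A B).codRestrict (FixedPoints.subring B (L ≃ₐ[K] L)) (fun a σ => by
        apply hinjBL
        rw [hact, ← IsScalarTower.algebraMap_apply A B L, IsScalarTower.algebraMap_apply A K L,
          AlgEquiv.commutes]))
      ⟨fun a a' h => by
        have h1 : algebraMap A B a = algebraMap A B a' := congrArg Subtype.val h
        have h2 := congrArg (algebraMap B L) h1
        rw [← IsScalarTower.algebraMap_apply A B L, ← IsScalarTower.algebraMap_apply A B L,
          IsScalarTower.algebraMap_apply A K L, IsScalarTower.algebraMap_apply A K L] at h2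
        exact IsFractionRing.injective A K ((algebraMap K L).injective h2),
      fun b => by
        obtain ⟨a, ha⟩ := mem_range_algebraMap_of_fixed A K L B hact b.1 (fun σ => b.2 σ)
        exact ⟨a, Subtype.ext ha⟩⟩
  let eB : B' ≃+* FixedPoints.subring B (m.inertia (L ≃ₐ[K] L)) :=
    RingEquiv.ofBijective
      ((algebraMap B' B).codRestrict (FixedPoints.subring B (m.inertia (L ≃ₐ[K] L))) (fun b' σ =>
        (mem_range_iff A K L B hact (m.inertia (L ≃ₐ[K] L)) B' _).mpr ⟨b', rfl⟩ σ.1 σ.2))
      ⟨fun b b' h => hinjB'B (congrArg Subtype.val h),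
      fun b => by
        obtain ⟨b', hb'⟩ := (mem_range_iff A K L B hact (m.inertia (L ≃ₐ[K] L)) B' b.1).mp
          (fun σ hσ => b.2 ⟨σ, hσ⟩)
        exact ⟨b', Subtype.ext hb'⟩⟩
  have hcomm : ∀ a, eB (algebraMap A B' a) = algebraMap (FixedPoints.subring B (L ≃ₐ[K] L))
      (FixedPoints.subring B (m.inertia (L ≃ₐ[K] L))) (eA a) := by
    intro a
    apply Subtype.ext
    exact (IsScalarTower.algebraMap_apply A B' B a).symm
  obtain ⟨g, hg, hget⟩ := Groth.Agent.S0271.result (L ≃ₐ[K] L) B m
  have hg' : eB.symm g ∉ m.comap (algebraMap B' B) := by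
    intro h
    apply hg
    have : algebraMap B' B (eB.symm g) = (g : B) := congrArg Subtype.val (eB.apply_symm_apply g)
    rw [Ideal.mem_comap] at h ⊢
    rw [this] at h
    exact h
  haveI het : Algebra.Etale A (Localization.Away (eB.symm g)) :=
    etale_away_transport eA eB hcomm g hget
  obtain ⟨s, hs, hloc⟩ := exists_away_atPrime hfin (m.comap (algebraMap B' B)) (eB.symm g) hg'
  let S₂ := Localization.Away (algebraMap B' (Localization.Away (eB.symm g)) s)
  haveI : Algebra.Etale A S₂ := inferInstance
  let e : S₂ ≃ₐ[B'] Localization.AtPrime (m.comap (algebraMap B' B)) :=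
    IsLocalization.algEquiv (Submonoid.powers (eB.symm g * s)) S₂ _
  exact Algebra.Etale.of_equiv (e.restrictScalars A)

end Main

end Groth.Agent.H6.DvrInertia
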