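import Mathlib

/-!
# Field lemma for the Epp tower: `k = ⋂ κ^{p^n}` persists under finite extensions `κ'/κ`
-/

set_option autoImplicit false

namespace Groth.Agent.H6.EppTower

open Polynomial IntermediateField

section FieldLemma

variable (p : ℕ) [hp : Fact p.Prime] {k κ κ' : Type*} [Field k] [Field κ] [Field κ']
  [Algebra k κ] [Algebra κ κ'] [Algebra k κ'] [IsScalarTower k κ κ'] [CharP κ p]
  [IsAlgClosed k] [FiniteDimensional κ κ']

theorem pow_p_pow_injective {F : Type*} [Field F] [CharP F p] (n : ℕ) {a b : F}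
    (h : a ^ (p ^ n) = b ^ (p ^ n)) : a = b := by
  have := iterateFrobenius_def (R := F) p n
  have hinj : Function.Injective (iterateFrobenius F p n) := (iterateFrobenius F p n).injective
  apply hinj
  rw [iterateFrobenius_def, iterateFrobenius_def, h]

include hp in
theorem hk_of_finite
    (hk : ∀ x : κ, (∀ n : ℕ, ∃ y : κ, y ^ (p ^ n) = x) → x ∈ Set.range (algebraMap k κ))
    (x : κ') (hx : ∀ n : ℕ, ∃ y : κ', y ^ (p ^ n) = x) :
    x ∈ Set.range (algebraMap k κ') := by
  classical
  haveI : CharP κ' p := charP_of_injective_algebraMap (algebraMap κ κ').injective p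
  choose y hy using hx
  have hstep : ∀ n, y n = y (n + 1) ^ p := by
    intro n
    apply pow_p_pow_injective p n
    rw [hy n, ← pow_mul, ← pow_succ', hy (n + 1)]
  let E : ℕ → IntermediateField κ κ' := fun n => κ⟮y n⟯
  have hmono : ∀ n, E n ≤ E (n + 1) := by
    intro n
    rw [adjoin_simple_le_iff, hstep n]
    exact pow_mem (mem_adjoin_simple_self κ (y (n + 1))) p
  have hmono' : ∀ n m, n ≤ m → E n ≤ E m := by
    intro n m hnm
    induction m, hnm using Nat.le_induction with
    | base => exact le_rfl
    | succ m _ ih => exact ih.trans (hmono m)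
  -- stabilisation
  let S : Set ℕ := Set.range fun n => Module.finrank κ (E n)
  have hSne : S.Nonempty := ⟨_, ⟨0, rfl⟩⟩
  have hSb : BddAbove S := by
    refine ⟨Module.finrank κ κ', ?_⟩
    rintro _ ⟨n, rfl⟩
    exact (E n).toSubmodule.finrank_le
  obtain ⟨N, hN⟩ := Nat.sSup_mem hSne hSb
  have hmax : ∀ m, Module.finrank κ (E m) ≤ Module.finrank κ (E N) := by
    intro m
    have : Module.finrank κ (E m) ≤ sSup S := le_csSup hSb ⟨m, rfl⟩
    exact this.trans (le_of_eq hN.symm)
  have hstab : ∀ m, E (N + m) = E N := by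
    intro m
    exact (eq_of_le_of_finrank_le (hmono' N (N + m) (Nat.le_add_right N m)) (hmax _)).symm
  -- the stable generator
  have hyint : ∀ n, IsIntegral κ (y n) := fun n => Algebra.IsIntegral.isIntegral _
  set f := minpoly κ (y N) with hf
  have hfmon : f.Monic := minpoly.monic (hyint N)
  have hzpow : ∀ m, y (N + m) ^ (p ^ m) = y N := by
    intro m
    apply pow_p_pow_injective p N
    rw [← pow_mul, ← pow_add, Nat.add_comm m N, hy, hy]
  have hdeg : ∀ m, (minpoly κ (y (N + m))).natDegree = f.natDegree := by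
    intro m
    rw [← adjoin.finrank (hyint _), ← adjoin.finrank (hyint N)]
    show Module.finrank κ (E (N + m)) = Module.finrank κ (E N)
    rw [hstab m]
  have hcoeff : ∀ m i, f.coeff i = ((minpoly κ (y (N + m))).coeff i) ^ (p ^ m) := by
    intro m i
    set g := minpoly κ (y (N + m)) with hg
    have hgmon : g.Monic := minpoly.monic (hyint _)
    set g' := g.map (iterateFrobenius κ p m) with hg'
    have hg'mon : g'.Monic := hgmon.map _
    have hg'deg : g'.natDegree = f.natDegree := by
      rw [hg', hgmon.natDegree_map, hdeg m]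
    have hroot : aeval (y N) g' = 0 := by
      have h1 : aeval (y N) g' = (aeval (y (N + m)) g) ^ (p ^ m) := by
        rw [hg', aeval_def, eval₂_map, ← hzpow m, aeval_def]
        have h2 : (algebraMap κ κ').comp (iterateFrobenius κ p m) =
            (iterateFrobenius κ' p m).comp (algebraMap κ κ') := by
          ext a
          simp [iterateFrobenius_def]
        rw [h2, ← iterateFrobenius_def (R := κ') p m (y (N + m)),
          ← iterateFrobenius_def (R := κ') p m, ← Polynomial.hom_eval₂]
      rw [h1, hg, minpoly.aeval, zero_pow (pow_ne_zero _ hp.out.ne_zero)]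
    have hdvd : f ∣ g' := minpoly.dvd κ (y N) hroot
    have heq : g' = f :=
      Polynomial.eq_of_monic_of_dvd_of_natDegree_le hfmon hg'mon hdvd (le_of_eq hg'deg)
    rw [← heq, hg', coeff_map, iterateFrobenius_def]
  have hlift : f ∈ Polynomial.lifts (algebraMap k κ) := by
    rw [Polynomial.lifts_iff_coeff_lifts]
    intro i
    apply hk
    intro m
    exact ⟨_, (hcoeff m i).symm⟩
  obtain ⟨f₀, hf₀, hf₀deg, hf₀mon⟩ := Polynomial.lifts_and_natDegree_eq_and_monic hlift hfmon
  have hroot₀ : aeval (y N) f₀ = 0 := by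
    have : aeval (y N) f₀ = aeval (y N) f := by
      rw [← hf₀, aeval_map_algebraMap]
    rw [this, hf, minpoly.aeval]
  have hsplit : f₀.Splits := IsAlgClosed.splits f₀
  have hne : f₀ ≠ 0 := hf₀mon.ne_zero
  have hmem : y N ∈ (f₀.map (algebraMap k κ')).roots := by
    rw [mem_roots (Polynomial.map_ne_zero hne), IsRoot.def, eval_map, ← aeval_def]
    exact hroot₀
  rw [hsplit.roots_map (algebraMap k κ'), Multiset.mem_map] at hmem
  obtain ⟨a, -, ha⟩ := hmem
  refine ⟨a ^ (p ^ N), ?_⟩
  rw [map_pow, ha, hy]

end FieldLemma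

end Groth.Agent.H6.EppTower
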