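import Mathlib

/-!
# Galois-theoretic step of the Epp tower: first step of a normal finite extension
-/

set_option autoImplicit false

namespace Groth.Agent.H6.EppTower

open Polynomial IntermediateField

section Galois

variable (p : ℕ) [hp : Fact p.Prime] (L S : Type*) [Field L] [Field S] [Algebra L S]
  [FiniteDimensional L S] [IsGalois L S]

theorem finrank_fixedField_mul (H : Subgroup Gal(S/L)) :
    Module.finrank L (fixedField H) * Nat.card H = Module.finrank L S := by
  rw [← finrank_fixedField_eq_card H, Module.finrank_mul_finrank]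

theorem finrank_fixedField_eq_index (H : Subgroup Gal(S/L)) :
    Module.finrank L (fixedField H) = H.index := by
  have h1 := finrank_fixedField_mul L S H
  have h2 : H.index * Nat.card H = Nat.card Gal(S/L) := H.index_mul_card
  rw [IsGalois.card_aut_eq_finrank L S] at h2
  have hpos : 0 < Nat.card H := Nat.card_pos
  exact Nat.eq_of_mul_eq_mul_right hpos (h1.trans h2.symm)

include hp in
/-- A nontrivial finite Galois extension has a nontrivial subextension which is either Galois of
degree `p` or of degree prime to `p`. -/
theorem exists_step_galois (hne : Module.finrank L S ≠ 1) :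
    ∃ E : IntermediateField L S, 1 < Module.finrank L E ∧
      ((IsGalois L E ∧ Module.finrank L E = p) ∨ ¬ p ∣ Module.finrank L E) := by
  classical
  haveI : Finite Gal(S/L) := inferInstance
  let P : Sylow p Gal(S/L) := default
  by_cases hP : (P : Subgroup Gal(S/L)) = ⊤
  · -- `G` is a `p`-group
    have hcard : Nat.card Gal(S/L) = Module.finrank L S := IsGalois.card_aut_eq_finrank L S
    have hpG : IsPGroup p Gal(S/L) := by
      have h := P.isPGroup'
      rw [hP] at h
      exact h.of_equiv Subgroup.topEquiv
    obtain ⟨n, hn⟩ := IsPGroup.iff_card.mp hpG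
    have hn0 : n ≠ 0 := by
      rintro rfl
      rw [pow_zero] at hn
      exact hne (hcard ▸ hn)
    obtain ⟨m, rfl⟩ := Nat.exists_eq_succ_of_ne_zero hn0
    obtain ⟨H, hH⟩ := Sylow.exists_subgroup_card_pow_prime (G := Gal(S/L)) p (n := m)
      (by rw [hn]; exact pow_dvd_pow p (Nat.le_succ m))
    have hidx : H.index = p := by
      have h2 : H.index * Nat.card H = Nat.card Gal(S/L) := H.index_mul_card
      rw [hH, hn, pow_succ, mul_comm] at h2
      exact Nat.eq_of_mul_eq_mul_left (pow_pos hp.out.pos m) h2
    haveI : H.Normal := by
      apply Subgroup.normal_of_index_eq_minFac_card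
      rw [hidx, hn, Nat.Prime.pow_minFac hp.out (Nat.succ_ne_zero m)]
    refine ⟨fixedField H, ?_, Or.inl ⟨IsGalois.of_fixedField_normal_subgroup H, ?_⟩⟩
    · rw [finrank_fixedField_eq_index, hidx]
      exact hp.out.one_lt
    · rw [finrank_fixedField_eq_index, hidx]
  · refine ⟨fixedField (P : Subgroup Gal(S/L)), ?_, Or.inr ?_⟩
    · rw [finrank_fixedField_eq_index]
      have h1 : (P : Subgroup Gal(S/L)).index ≠ 1 := fun h => hP (Subgroup.index_eq_one.mp h)
      have h0 : (P : Subgroup Gal(S/L)).index ≠ 0 := Subgroup.index_ne_zero_of_finite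
      omega
    · rw [finrank_fixedField_eq_index]
      exact P.not_dvd_index

end Galois

section Insep

variable (p : ℕ) [hp : Fact p.Prime] (L M : Type*) [Field L] [Field M] [Algebra L M]
  [FiniteDimensional L M]

include hp in
/-- A nontrivial finite purely inseparable extension has a subextension of degree `p`. -/
theorem exists_step_insep [CharP L p] [IsPurelyInseparable L M] (hne : Module.finrank L M ≠ 1) :
    ∃ E : IntermediateField L M, IsPurelyInseparable L E ∧ Module.finrank L E = p := by
  classical
  haveI : ExpChar L p := ExpChar.prime hp.out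
  obtain ⟨a, ha⟩ : ∃ a : M, a ∉ (algebraMap L M).range := by
    by_contra hcon
    push Not at hcon
    apply hne
    rw [← IntermediateField.bot_eq_top_iff_finrank_eq_one]
    ext x
    simp only [IntermediateField.mem_top, iff_true]
    obtain ⟨y, rfl⟩ := hcon x
    exact (⊥ : IntermediateField L M).algebraMap_mem y
  have hex := IsPurelyInseparable.pow_mem L p a
  set n := Nat.find hex with hn
  have hnspec : a ^ p ^ n ∈ (algebraMap L M).range := Nat.find_spec hex
  have hn0 : n ≠ 0 := by
    intro h0
    rw [h0, pow_zero, pow_one] at hnspec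
    exact ha hnspec
  obtain ⟨m, hm⟩ := Nat.exists_eq_succ_of_ne_zero hn0
  set b := a ^ p ^ m with hb
  have hbnot : b ∉ (algebraMap L M).range := by
    intro h
    have := Nat.find_min hex (m := m) (by rw [← hn, hm]; exact Nat.lt_succ_self m)
    exact this h
  have hbp : b ^ p ∈ (algebraMap L M).range := by
    rw [hb, ← pow_mul, ← pow_succ]
    rw [hm] at hnspec
    exact hnspec
  obtain ⟨c, hc⟩ := hbp
  refine ⟨L⟮b⟯, IsPurelyInseparable.tower_bot L L⟮b⟯ M, ?_⟩
  have hbint : IsIntegral L b := Algebra.IsIntegral.isIntegral b
  rw [IntermediateField.adjoin.finrank hbint]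
  have hdvd : minpoly L b ∣ X ^ p - C c := by
    apply minpoly.dvd
    rw [map_sub, map_pow, aeval_X, aeval_C, hc, sub_self]
  have hle : (minpoly L b).natDegree ≤ p := by
    have h1 := Polynomial.natDegree_le_of_dvd hdvd (X_pow_sub_C_ne_zero hp.out.pos c)
    rwa [natDegree_X_pow_sub_C] at h1
  have hne1 : (minpoly L b).natDegree ≠ 1 := fun h => hbnot (minpoly.natDegree_eq_one_iff.mp h)
  have hpow := IsPurelyInseparable.minpoly_natDegree_eq' L p b
  rw [hpow] at hle hne1 ⊢
  set e := IsPurelyInseparable.elemExponent L b
  have he0 : e ≠ 0 := by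
    rintro h
    rw [h, pow_zero] at hne1
    exact hne1 rfl
  have he1 : e ≤ 1 := by
    by_contra h
    push Not at h
    have : p ^ 2 ≤ p ^ e := Nat.pow_le_pow_right hp.out.pos h
    have h2 : p * p ≤ p := by rw [← sq]; exact this.trans hle
    have := hp.out.two_le
    nlinarith
  have : e = 1 := by omega
  rw [this, pow_one]

end Insep

section Combined

variable (p : ℕ) [hp : Fact p.Prime] (L M : Type*) [Field L] [Field M] [Algebra L M]
  [FiniteDimensional L M] [Normal L M]

include hp in
/-- First step of a nontrivial finite normal extension: a subextension which is purely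
inseparable of degree `p`, or Galois of degree `p`, or nontrivial of degree prime to `p`. -/
theorem exists_step (hchar : CharZero L ∨ CharP L p) (hne : Module.finrank L M ≠ 1) :
    ∃ E : IntermediateField L M, 1 < Module.finrank L E ∧
      ((CharP L p ∧ IsPurelyInseparable L E ∧ Module.finrank L E = p) ∨
       (IsGalois L E ∧ Module.finrank L E = p) ∨ ¬ p ∣ Module.finrank L E) := by
  classical
  set S := separableClosure L M with hS
  haveI : IsGalois L S := separableClosure.isGalois L M
  haveI : IsPurelyInseparable S M := separableClosure.isPurelyInseparable L M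
  by_cases hS1 : Module.finrank L S = 1
  · -- `M / L` purely inseparable
    have hbot : S = ⊥ := IntermediateField.finrank_eq_one_iff.mp hS1
    haveI : IsPurelyInseparable L M := by
      rw [← separableClosure.eq_bot_iff]
      exact hbot
    rcases hchar with h0 | hpc
    · exfalso
      haveI := h0
      apply hne
      have hbij := IsPurelyInseparable.bijective_algebraMap_of_isSeparable L M
      rw [← IntermediateField.bot_eq_top_iff_finrank_eq_one]
      ext x
      simp only [IntermediateField.mem_top, iff_true]
      obtain ⟨y, rfl⟩ := hbij.2 x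
      exact (⊥ : IntermediateField L M).algebraMap_mem y
    · haveI := hpc
      obtain ⟨E, hE1, hE2⟩ := exists_step_insep p L M hne
      exact ⟨E, by rw [hE2]; exact hp.out.one_lt, Or.inl ⟨hpc, hE1, hE2⟩⟩
  · obtain ⟨E, hE1, hE2⟩ := exists_step_galois p L S hS1
    refine ⟨IntermediateField.lift E, ?_, Or.inr ?_⟩
    · rw [← (IntermediateField.liftAlgEquiv E).toLinearEquiv.finrank_eq]
      exact hE1
    · rcases hE2 with ⟨hg, hd⟩ | hnd
      · left
        refine ⟨IsGalois.of_algEquiv (IntermediateField.liftAlgEquiv E), ?_⟩
        rw [← (IntermediateField.liftAlgEquiv E).toLinearEquiv.finrank_eq]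
        exact hd
      · right
        rw [← (IntermediateField.liftAlgEquiv E).toLinearEquiv.finrank_eq]
        exact hnd

end Combined

end Groth.Agent.H6.EppTower
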