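import Mathlib
import Groth.Prelude.Def_EtRam
import Groth.Agent.Lib.Helper8.ASK.GalClosure
import Groth.Agent.Lib.Helper8.ASK.TotRamSol
import Groth.Agent.Lib.Helper9.CompleteDVRExt
import Groth.Agent.Lib.Helper8.Japanese.CompleteNagata
import Groth.Agent.Lib.Helper8.Japanese.NormFin3
import Groth.Agent.Lib.Helper8.Hens.IntegralHens
import Groth.Agent.Lib.Helper8.EssEt.CoefRing

/-!
# Finite extensions of the fraction field of a complete DVR: the valuation ring package
-/

set_option autoImplicit false
universe u

namespace Groth.Agent.H6.EppTower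

open IsLocalRing Groth.Agent.H8

section IC

variable (A K K' : Type u) [CommRing A] [IsDomain A] [IsDiscreteValuationRing A]
  [IsAdicComplete (maximalIdeal A) A]
  [Field K] [Algebra A K] [IsFractionRing A K] [Field K'] [Algebra K K'] [Algebra A K']
  [IsScalarTower A K K'] [FiniteDimensional K K']

include K in
theorem finite_ic : Module.Finite A (integralClosure A K') := by
  have hNag : CAlg.IsNagata A := Jap.isNagata_of_complete_local A
  refine Jap.NormFin.finite_integralClosure_field A hNag K K' ?_
  intro z
  obtain ⟨a, s, hs, rfl⟩ := IsFractionRing.div_surjective (A := A) z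
  have hs0 : algebraMap A K s ≠ 0 :=
    IsFractionRing.to_map_ne_zero_of_mem_nonZeroDivisors hs
  exact ⟨a, s, hs0, div_mul_cancel₀ _ hs0⟩

omit [IsFractionRing A K] [FiniteDimensional K K'] in
include K in
theorem isLocalRing_ic : IsLocalRing (integralClosure A K') := by
  haveI : HenselianLocalRing A := EssEt.henselianLocalRing_of_isAdicComplete A
  exact Hens.isLocalRing_of_isDomain_of_isIntegral A (integralClosure A K')

include K in
theorem isDedekindDomain_ic : IsDedekindDomain (integralClosure A K') := by
  haveI := finite_ic A K K'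
  haveI : IsNoetherianRing (integralClosure A K') :=
    Algebra.FiniteType.isNoetherianRing A (integralClosure A K')
  haveI : Ring.DimensionLEOne (integralClosure A K') := Ring.DimensionLEOne.integralClosure A K'
  haveI : IsIntegrallyClosed (integralClosure A K') :=
    integralClosure.isIntegrallyClosedOfFiniteExtension K
  exact { }

include K in
theorem not_isField_ic : ¬ IsField (integralClosure A K') := by
  intro h
  have hinj : Function.Injective (algebraMap A (integralClosure A K')) := by
    intro x y hxy
    have h1 : algebraMap A K' x = algebraMap A K' y := congrArg Subtype.val hxy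
    exact ASK.algebraMap_inj A K K' h1
  exact IsDiscreteValuationRing.not_isField A (isField_of_isIntegral_of_isField hinj h)

include K in
theorem valuationRing_ic : ValuationRing (integralClosure A K') := by
  haveI := isLocalRing_ic A K K'
  haveI := isDedekindDomain_ic A K K'
  have h := ((IsDiscreteValuationRing.TFAE (integralClosure A K') (not_isField_ic A K K')).out 1 2)
  exact h.mpr inferInstance

end IC

section Pkg

variable {A K K' : Type u} [CommRing A] [IsDomain A] [IsDiscreteValuationRing A]
  [IsAdicComplete (maximalIdeal A) A]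
  [Field K] [Algebra A K] [IsFractionRing A K] [Field K'] [Algebra K K'] [Algebra A K']
  [IsScalarTower A K K'] [FiniteDimensional K K']

omit [IsAdicComplete (maximalIdeal A) A] in
theorem mem_of_isIntegral {W : ValuationSubring K'}
    (hW : EtRam.Dominates A (algebraMap A K') W) {x : K'} (hx : IsIntegral A x) : x ∈ W := by
  obtain ⟨P, hP, hev⟩ := hx
  by_contra hxW
  have h1 : 1 < W.valuation x := by
    rw [← not_le, W.valuation_le_one_iff]; exact hxW
  have h2 := ASK.val_eval_of_one_lt hW hP rfl x h1
  rw [hev, map_zero] at h2
  have h3 : W.valuation x ≠ 0 := (zero_lt_one.trans h1).ne'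
  exact pow_ne_zero _ h3 h2.symm

include K in
/-- The maximal ideal of the integral closure lies in the maximal ideal of any dominating
valuation ring. -/
theorem val_lt_one_of_mem_maximalIdeal_ic {W : ValuationSubring K'}
    (hW : EtRam.Dominates A (algebraMap A K') W)
    (hloc : IsLocalRing (integralClosure A K')) (y : integralClosure A K')
    (hy : y ∈ maximalIdeal (integralClosure A K')) : W.valuation (y : K') < 1 := by
  classical
  haveI := isDedekindDomain_ic A K K'
  let ι : integralClosure A K' →+* W :=
    { toFun := fun b => ⟨(b : K'), mem_of_isIntegral hW b.2⟩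
      map_one' := rfl
      map_mul' := fun _ _ => rfl
      map_zero' := rfl
      map_add' := fun _ _ => rfl }
  let P : Ideal (integralClosure A K') := (maximalIdeal W).comap ι
  haveI hPprime : P.IsPrime := Ideal.comap_isPrime ι _
  obtain ⟨π, hπirr⟩ := IsDiscreteValuationRing.exists_irreducible A
  have hπ : maximalIdeal A = Ideal.span {π} := hπirr.maximalIdeal_eq
  have hπP : algebraMap A (integralClosure A K') π ∈ P := by
    show ι (algebraMap A (integralClosure A K') π) ∈ maximalIdeal W
    rw [ValuationSubring.valuation_lt_one_iff]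
    exact hW.2 π (ASK.pi_mem hπ)
  have hπ0 : algebraMap A (integralClosure A K') π ≠ 0 := by
    intro h0
    have h1 : algebraMap A K' π = 0 := congrArg Subtype.val h0
    have h2 := ASK.algebraMap_inj A K K' (h1.trans (map_zero _).symm)
    exact hπirr.ne_zero h2
  have hPbot : P ≠ ⊥ := fun h => hπ0 (by rw [h] at hπP; exact hπP)
  have hPmax : P.IsMaximal := Ring.DimensionLEOne.maximalOfPrime hPbot hPprime
  have hPeq : P = maximalIdeal (integralClosure A K') := IsLocalRing.eq_maximalIdeal hPmax
  rw [← hPeq] at hy
  have h3 : ι y ∈ maximalIdeal W := hy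
  exact (W.valuation_lt_one_iff _).mp h3

include K in
/-- A valuation ring of `K'` dominating the complete DVR `A` is the integral closure of `A`. -/
theorem mem_iff_isIntegral {W : ValuationSubring K'}
    (hW : EtRam.Dominates A (algebraMap A K') W) (x : K') : x ∈ W ↔ IsIntegral A x := by
  refine ⟨fun hx => ?_, fun hx => mem_of_isIntegral hW hx⟩
  by_contra hni
  haveI hloc := isLocalRing_ic A K K'
  haveI := valuationRing_ic A K K'
  haveI : IsFractionRing (integralClosure A K') K' :=
    integralClosure.isFractionRing_of_finite_extension K K'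
  have hx0 : x ≠ 0 := by
    rintro rfl
    exact hni isIntegral_zero
  rcases ValuationRing.isInteger_or_isInteger (integralClosure A K') x with ⟨b, hb⟩ | ⟨b, hb⟩
  · exact hni (hb ▸ b.2)
  · -- `x⁻¹ = b` lies in the integral closure and is not a unit there
    have hbnu : b ∈ maximalIdeal (integralClosure A K') := by
      rw [mem_maximalIdeal, mem_nonunits_iff]
      intro hu
      obtain ⟨c, hc⟩ := isUnit_iff_exists_inv.mp hu
      have h1 : (b : K') * (c : K') = 1 := congrArg Subtype.val hc
      have hb' : (b : K') = x⁻¹ := hb
      rw [hb'] at h1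
      have h2 : (c : K') = x := by
        calc (c : K') = x * (x⁻¹ * (c : K')) := by rw [← mul_assoc, mul_inv_cancel₀ hx0, one_mul]
          _ = x := by rw [h1, mul_one]
      exact hni (h2 ▸ c.2)
    have h3 := val_lt_one_of_mem_maximalIdeal_ic (K := K) hW hloc b hbnu
    have hb' : (b : K') = x⁻¹ := hb
    rw [hb', map_inv₀] at h3
    have h4 : W.valuation x ≤ 1 := (W.valuation_le_one_iff x).mpr hx
    have hne : W.valuation x ≠ 0 := (Valuation.ne_zero_iff _).mpr hx0
    have h5 : 1 ≤ (W.valuation x)⁻¹ := (one_le_inv₀ (zero_lt_iff.mpr hne)).mpr h4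
    exact absurd h3 (not_lt.mpr h5)

include K in
theorem dominating_unique {W W' : ValuationSubring K'}
    (hW : EtRam.Dominates A (algebraMap A K') W) (hW' : EtRam.Dominates A (algebraMap A K') W') :
    W' = W := by
  ext x
  rw [mem_iff_isIntegral (K := K) hW, mem_iff_isIntegral (K := K) hW']

end Pkg

section Pkg2

variable {A K K' : Type u} [CommRing A] [IsDomain A] [IsDiscreteValuationRing A]
  [IsAdicComplete (maximalIdeal A) A]
  [Field K] [Algebra A K] [IsFractionRing A K] [Field K'] [Algebra K K'] [Algebra A K']
  [IsScalarTower A K K'] [FiniteDimensional K K']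
  {W : ValuationSubring K'} [Algebra A W] [IsScalarTower A W K']

omit [IsDomain A] [IsDiscreteValuationRing A] [IsAdicComplete (maximalIdeal A) A] in
theorem coe_algebraMap_W (a : A) : ((algebraMap A W a : W) : K') = algebraMap A K' a :=
  (IsScalarTower.algebraMap_apply A W K' a).symm

include K in
omit [IsAdicComplete (maximalIdeal A) A] [FiniteDimensional K K'] in
theorem injective_algebraMap_W : Function.Injective (algebraMap A W) := by
  intro x y hxy
  apply ASK.algebraMap_inj A K K'
  rw [← coe_algebraMap_W (W := W), ← coe_algebraMap_W (W := W), hxy]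

include K in
theorem isDVR_of_dominates (hW : EtRam.Dominates A (algebraMap A K') W) :
    IsDiscreteValuationRing W := by
  obtain ⟨π, hπirr⟩ := IsDiscreteValuationRing.exists_irreducible A
  exact BC.isDVR_of_dominates (L := K) hπirr.maximalIdeal_eq hW

include K in
theorem finite_of_dominates (hW : EtRam.Dominates A (algebraMap A K') W) :
    Module.Finite A W := by
  haveI := finite_ic A K K'
  let e : integralClosure A K' ≃ₗ[A] W :=
    { toFun := fun b => ⟨(b : K'), mem_of_isIntegral hW b.2⟩
      invFun := fun w => ⟨(w : K'), (mem_iff_isIntegral (K := K) hW w).mp w.2⟩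
      map_add' := fun _ _ => rfl
      map_smul' := fun a b => by
        apply Subtype.ext
        show ((a • b : integralClosure A K') : K') = ((a • (⟨(b : K'), _⟩ : W) : W) : K')
        rw [Algebra.smul_def, Algebra.smul_def]
        show algebraMap A K' a * (b : K') = ((algebraMap A W a : W) : K') * (b : K')
        rw [coe_algebraMap_W]
      left_inv := fun _ => rfl
      right_inv := fun _ => rfl }
  exact Module.Finite.equiv e

include K in
theorem isTorsionFree_of_dominates : Module.IsTorsionFree A W := by
  haveI : FaithfulSMul A W :=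
    (faithfulSMul_iff_algebraMap_injective A W).mpr (injective_algebraMap_W (K := K))
  infer_instance

include K in
theorem isAdicComplete_of_dominates (hW : EtRam.Dominates A (algebraMap A K') W) :
    IsAdicComplete (maximalIdeal W) W := by
  haveI := isDVR_of_dominates (K := K) hW
  haveI := finite_of_dominates (K := K) hW
  haveI := isTorsionFree_of_dominates (A := A) (K := K) (W := W)
  exact H9.CDVR.isAdicComplete_isMaximal A (maximalIdeal W)

include K in
/-- `e · f = n`, and `f = 1` when residues lift. -/
theorem exists_e_f (hW : EtRam.Dominates A (algebraMap A K') W) :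
    ∃ e f : ℕ, e * f = Module.finrank K K' ∧ e ≠ 0 ∧
      (maximalIdeal A).map (algebraMap A W) = maximalIdeal W ^ e ∧
      ((∀ w : W, ∃ a : A, w - algebraMap A W a ∈ maximalIdeal W) → f = 1) := by
  haveI := isDVR_of_dominates (K := K) hW
  haveI := finite_of_dominates (K := K) hW
  haveI := isTorsionFree_of_dominates (A := A) (K := K) (W := W)
  haveI : FaithfulSMul A W :=
    (faithfulSMul_iff_algebraMap_injective A W).mpr (injective_algebraMap_W (K := K))
  haveI : Algebra.IsAlgebraic A W := Algebra.IsIntegral.isAlgebraic
  have hrank : Module.finrank K K' = Module.finrank A W := IsFractionRing.finrank_eq A K W K'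
  refine ⟨(maximalIdeal W).ramificationIdx A, (maximalIdeal W).inertiaDeg A, ?_, ?_, ?_, ?_⟩
  · rw [hrank]
    exact H9.CDVR.ramificationIdx_mul_inertiaDeg A (maximalIdeal W)
  · exact H9.CDVR.ramificationIdx_ne_zero A (maximalIdeal W)
  · exact H9.CDVR.map_maximalIdeal_eq_pow A (maximalIdeal W)
  · intro hsurj
    haveI := H9.CDVR.liesOver A (maximalIdeal W)
    rw [Ideal.inertiaDeg_eq_of_isMaximal (maximalIdeal A) (maximalIdeal W)]
    letI : Field (A ⧸ maximalIdeal A) := Ideal.Quotient.field _
    letI : Field (W ⧸ maximalIdeal W) := Ideal.Quotient.field _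
    have hs : Function.Surjective (algebraMap (A ⧸ maximalIdeal A) (W ⧸ maximalIdeal W)) := by
      intro y
      obtain ⟨w, rfl⟩ := Ideal.Quotient.mk_surjective y
      obtain ⟨a, ha⟩ := hsurj w
      refine ⟨Ideal.Quotient.mk _ a, ?_⟩
      rw [Ideal.Quotient.algebraMap_mk_of_liesOver]
      exact (Ideal.Quotient.mk_eq_mk_iff_sub_mem _ _).mpr ha |>.symm
    have hi : Function.Injective (algebraMap (A ⧸ maximalIdeal A) (W ⧸ maximalIdeal W)) :=
      (algebraMap (A ⧸ maximalIdeal A) (W ⧸ maximalIdeal W)).injective
    let e := LinearEquiv.ofBijective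
      (Algebra.linearMap (A ⧸ maximalIdeal A) (W ⧸ maximalIdeal W)) ⟨hi, hs⟩
    rw [← e.finrank_eq, Module.finrank_self]

end Pkg2

end Groth.Agent.H6.EppTower
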