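import Mathlib
import Groth.Prelude.Def_EtRam
import Groth.Agent.Lib.Helper8.ASK.EppE
import Groth.Agent.Lib.Helper6.ET1

/-!
# Epp tower: subfields of a fixed valued field `(Ω, V)`; the instance web
-/

set_option autoImplicit false
universe u

namespace Groth.Agent.H6.EppTower

open IsLocalRing Groth.Agent.H8

variable {Ω : Type u} [Field Ω]

/-- The valuation ring of a subfield `F` of the valued field `(Ω, V)`. -/
abbrev O (V : ValuationSubring Ω) (F : Subfield Ω) : ValuationSubring F := V.comap F.subtype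

scoped instance algSub (E F : Subfield Ω) [h : Fact (E ≤ F)] : Algebra E F :=
  (Subfield.inclusion h.out).toAlgebra

scoped instance towerSub (E F G : Subfield Ω) [Fact (E ≤ F)] [Fact (F ≤ G)] [Fact (E ≤ G)] :
    IsScalarTower E F G := IsScalarTower.of_algebraMap_eq (fun _ => rfl)

scoped instance towerΩ (E F : Subfield Ω) [Fact (E ≤ F)] : IsScalarTower E F Ω :=
  IsScalarTower.of_algebraMap_eq (fun _ => rfl)

section Web

variable (V : ValuationSubring Ω)

theorem coe_algebraMap_sub (E F : Subfield Ω) [Fact (E ≤ F)] (x : E) :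
    ((algebraMap E F x : F) : Ω) = (x : Ω) := rfl

/-- The inclusion of valuation rings. -/
def inclO (E F : Subfield Ω) [h : Fact (E ≤ F)] : O V E →+* O V F where
  toFun x := ⟨⟨((x : E) : Ω), h.out (x : E).2⟩, x.2⟩
  map_one' := rfl
  map_mul' _ _ := rfl
  map_zero' := rfl
  map_add' _ _ := rfl

scoped instance algO (E F : Subfield Ω) [Fact (E ≤ F)] : Algebra (O V E) (O V F) :=
  (inclO V E F).toAlgebra

theorem coe_algebraMap_O (E F : Subfield Ω) [Fact (E ≤ F)] (x : O V E) :
    (((algebraMap (O V E) (O V F) x : O V F) : F) : Ω) = ((x : E) : Ω) := rfl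

scoped instance towerO (E F G : Subfield Ω) [Fact (E ≤ F)] [Fact (F ≤ G)] [Fact (E ≤ G)] :
    IsScalarTower (O V E) (O V F) (O V G) := IsScalarTower.of_algebraMap_eq (fun _ => rfl)

scoped instance towerOF (E F : Subfield Ω) [Fact (E ≤ F)] :
    IsScalarTower (O V E) (O V F) F := IsScalarTower.of_algebraMap_eq (fun _ => rfl)

theorem val_O_le_one (E : Subfield Ω) (x : O V E) : V.valuation ((x : E) : Ω) ≤ 1 :=
  (V.valuation_le_one_iff _).mpr x.2

theorem mem_maximalIdeal_O (E : Subfield Ω) (x : O V E) :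
    x ∈ maximalIdeal (O V E) ↔ V.valuation ((x : E) : Ω) < 1 := by
  rw [ValuationSubring.valuation_lt_one_iff]
  exact (RI.isEquiv_comap V E.subtype).lt_one_iff_lt_one

theorem isUnit_O_iff (E : Subfield Ω) (x : O V E) :
    IsUnit x ↔ V.valuation ((x : E) : Ω) = 1 := by
  have h1 := mem_maximalIdeal_O V E x
  rw [mem_maximalIdeal, mem_nonunits_iff] at h1
  have h2 := val_O_le_one V E x
  constructor
  · intro hu
    by_contra hne
    exact (h1.mpr (lt_of_le_of_ne h2 hne)) hu
  · intro h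
    by_contra hu
    exact (ne_of_lt (h1.mp hu)) h

scoped instance isLocalHom_O (E F : Subfield Ω) [Fact (E ≤ F)] :
    IsLocalHom (algebraMap (O V E) (O V F)) := by
  constructor
  intro x hx
  rw [isUnit_O_iff] at hx ⊢
  exact hx

theorem injective_algebraMap_O (E F : Subfield Ω) [Fact (E ≤ F)] :
    Function.Injective (algebraMap (O V E) (O V F)) := by
  intro x y hxy
  apply Subtype.ext
  apply Subtype.ext
  exact congrArg (fun z : O V F => ((z : F) : Ω)) hxy

theorem dominates_O (E F : Subfield Ω) [Fact (E ≤ F)] :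
    EtRam.Dominates (O V E) (algebraMap (O V E) F) (O V F) := by
  refine ⟨fun a => a.2, fun a ha => ?_⟩
  rw [mem_maximalIdeal_O] at ha
  exact (RI.isEquiv_comap V F.subtype).lt_one_iff_lt_one.mpr ha

end Web



section Unif

variable (V : ValuationSubring Ω)

/-- `π` is a uniformizer of the valuation ring of the subfield `E`. -/
def IsU (E : Subfield Ω) (π : Ω) : Prop :=
  π ∈ E ∧ V.valuation π < 1 ∧ ∀ a ∈ E, V.valuation a < 1 → V.valuation a ≤ V.valuation π

/-- Elementwise weak unramifiedness of `O E → O F`. -/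
def WU (E F : Subfield Ω) : Prop :=
  ∀ y ∈ F, V.valuation y < 1 → ∃ a ∈ E, V.valuation a < 1 ∧ V.valuation y ≤ V.valuation a

/-- Residues of `O F` lift to `O E`. -/
def Res1 (E F : Subfield Ω) : Prop :=
  ∀ x ∈ F, V.valuation x ≤ 1 → ∃ a ∈ E, V.valuation a ≤ 1 ∧ V.valuation (x - a) < 1

variable {V}

theorem val_O_iff (E : Subfield Ω) (x y : E) :
    (O V E).valuation x ≤ (O V E).valuation y ↔ V.valuation (x : Ω) ≤ V.valuation (y : Ω) :=
  (RI.isEquiv_comap V E.subtype) x y

theorem val_O_lt_one_iff (E : Subfield Ω) (x : E) :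
    (O V E).valuation x < 1 ↔ V.valuation (x : Ω) < 1 :=
  (RI.isEquiv_comap V E.subtype).lt_one_iff_lt_one

theorem isU_iff_isUnif (E : Subfield Ω) (π : E) :
    IsU V E (π : Ω) ↔ RI.IsUnif (O V E).valuation π := by
  constructor
  · rintro ⟨-, h1, h2⟩
    refine ⟨(val_O_lt_one_iff E π).mpr h1, fun y hy => ?_⟩
    rw [val_O_iff]
    exact h2 _ y.2 ((val_O_lt_one_iff E y).mp hy)
  · rintro ⟨h1, h2⟩
    refine ⟨π.2, (val_O_lt_one_iff E π).mp h1, fun a ha hlt => ?_⟩
    have := h2 ⟨a, ha⟩ ((val_O_lt_one_iff E ⟨a, ha⟩).mpr hlt)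
    exact (val_O_iff E ⟨a, ha⟩ π).mp this

theorem IsU.mem_O {E : Subfield Ω} {π : Ω} (h : IsU V E π) : (⟨π, h.1⟩ : E) ∈ O V E :=
  (V.valuation_le_one_iff _).mp h.2.1.le

/-- A uniformizer, as an element of the valuation ring. -/
def IsU.elt {E : Subfield Ω} {π : Ω} (h : IsU V E π) : O V E := ⟨⟨π, h.1⟩, h.mem_O⟩

theorem IsU.span_eq {E : Subfield Ω} {π : Ω} (h : IsU V E π) (h0 : π ≠ 0) :
    maximalIdeal (O V E) = Ideal.span {h.elt} := by
  have hne : ((h.elt : O V E) : E) ≠ 0 := fun h1 => h0 (congrArg Subtype.val h1)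
  rw [RI.maximalIdeal_eq_span_iff (O V E) h.elt hne]
  exact (isU_iff_isUnif E ⟨π, h.1⟩).mp h

theorem isU_of_span_eq {E : Subfield Ω} (x : O V E) (hx0 : x ≠ 0)
    (hx : maximalIdeal (O V E) = Ideal.span {x}) : IsU V E ((x : E) : Ω) := by
  have hne : ((x : O V E) : E) ≠ 0 := fun h1 => hx0 (Subtype.ext h1)
  rw [RI.maximalIdeal_eq_span_iff (O V E) x hne] at hx
  exact (isU_iff_isUnif E (x : E)).mpr hx

theorem exists_isU (E : Subfield Ω) [IsDiscreteValuationRing (O V E)] :
    ∃ π : Ω, π ≠ 0 ∧ IsU V E π := by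
  obtain ⟨ϖ, hϖ⟩ := IsDiscreteValuationRing.exists_irreducible (O V E)
  refine ⟨((ϖ : E) : Ω), ?_, isU_of_span_eq ϖ hϖ.ne_zero hϖ.maximalIdeal_eq⟩
  intro h0
  apply hϖ.ne_zero
  apply Subtype.ext
  apply Subtype.ext
  exact h0

theorem IsU.val_eq {E : Subfield Ω} {π π' : Ω} (h : IsU V E π) (h' : IsU V E π') :
    V.valuation π = V.valuation π' :=
  le_antisymm (h'.2.2 π h.1 h.2.1) (h.2.2 π' h'.1 h'.2.1)

theorem wu_iff_isU {E F : Subfield Ω} (hEF : E ≤ F) {π : Ω} (h : IsU V E π) :
    WU V E F ↔ IsU V F π := by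
  constructor
  · intro hwu
    refine ⟨hEF h.1, h.2.1, fun y hy hlt => ?_⟩
    obtain ⟨a, ha, ha1, hya⟩ := hwu y hy hlt
    exact hya.trans (h.2.2 a ha ha1)
  · intro hF y hy hlt
    exact ⟨π, h.1, h.2.1, hF.2.2 y hy hlt⟩

theorem wu_iff_weaklyUnramified (E F : Subfield Ω) [Fact (E ≤ F)]
    [IsDiscreteValuationRing (O V E)] :
    WU V E F ↔ EtRam.IsWeaklyUnramified (O V E) (O V F) := by
  obtain ⟨π, hπ0, hπ⟩ := exists_isU (V := V) E
  have hEF : E ≤ F := Fact.out
  rw [wu_iff_isU hEF hπ]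
  have hne : (((algebraMap (O V E) (O V F) hπ.elt : O V F) : F)) ≠ 0 := by
    intro h1
    exact hπ0 (congrArg Subtype.val h1)
  rw [RI.isWeaklyUnramified_iff (O V F) hπ.elt (hπ.span_eq hπ0) hne]
  exact isU_iff_isUnif F ⟨π, hEF hπ.1⟩

end Unif

section PkgO

variable (V : ValuationSubring Ω) (E F : Subfield Ω) [Fact (E ≤ F)]
  [IsDiscreteValuationRing (O V E)] [FiniteDimensional E F]

include E in
theorem isDVR_O_of_finite : IsDiscreteValuationRing (O V F) := by
  obtain ⟨π, hπirr⟩ := IsDiscreteValuationRing.exists_irreducible (O V E)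
  exact BC.isDVR_of_dominates (L := E) hπirr.maximalIdeal_eq (dominates_O V E F)

variable [IsAdicComplete (maximalIdeal (O V E)) (O V E)]

include E in
theorem isAdicComplete_O_of_finite : IsAdicComplete (maximalIdeal (O V F)) (O V F) :=
  isAdicComplete_of_dominates (K := E) (dominates_O V E F)

theorem finite_O_of_finite : Module.Finite (O V E) (O V F) :=
  finite_of_dominates (K := E) (dominates_O V E F)

variable {V E F}

omit [FiniteDimensional E F] [IsAdicComplete (maximalIdeal (O V E)) (O V E)] in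
theorem res1_iff_lift :
    Res1 V E F ↔ ∀ w : O V F, ∃ a : O V E, w - algebraMap (O V E) (O V F) a ∈ maximalIdeal (O V F) := by
  have hEF : E ≤ F := Fact.out
  constructor
  · intro h w
    obtain ⟨a, haE, ha1, hlt⟩ := h ((w : F) : Ω) (w : F).2 (val_O_le_one V F w)
    refine ⟨⟨⟨a, haE⟩, (V.valuation_le_one_iff _).mp ha1⟩, ?_⟩
    rw [mem_maximalIdeal_O]
    exact hlt
  · intro h x hx hx1
    obtain ⟨a, ha⟩ := h ⟨⟨x, hx⟩, (V.valuation_le_one_iff _).mp hx1⟩
    rw [mem_maximalIdeal_O] at ha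
    exact ⟨((a : E) : Ω), (a : E).2, val_O_le_one V E a, ha⟩

variable (V E F)

/-- `e · f = n` for a finite extension of a complete discretely valued subfield. -/
theorem exists_e_f_O :
    ∃ e f : ℕ, e * f = Module.finrank E F ∧ e ≠ 0 ∧
      (∀ πE πF : Ω, πE ≠ 0 → IsU V E πE → IsU V F πF →
        V.valuation πE = V.valuation πF ^ e) ∧
      (Res1 V E F → f = 1) := by
  have hEF : E ≤ F := Fact.out
  obtain ⟨e, f, hef, he0, hmap, hf1⟩ := exists_e_f (K := E) (dominates_O V E F)
  refine ⟨e, f, hef, he0, ?_, fun h => hf1 (res1_iff_lift.mp h)⟩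
  intro πE πF hπE0 hπE hπF
  have hπF0 : πF ≠ 0 := by
    rintro rfl
    have h1 := hπF.2.2 πE (hEF hπE.1) hπE.2.1
    rw [map_zero] at h1
    exact hπE0 ((Valuation.zero_iff _).mp (le_antisymm h1 zero_le'))
  rw [hπE.span_eq hπE0, hπF.span_eq hπF0, Ideal.map_span, Set.image_singleton,
    Ideal.span_singleton_pow, Ideal.span_singleton_eq_span_singleton] at hmap
  obtain ⟨u, hu⟩ := hmap
  have h1 : πE * (((u : (O V F)ˣ) : O V F) : F) = πF ^ e := by
    have := congrArg (fun z : O V F => ((z : F) : Ω)) hu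
    simp only [MulMemClass.coe_mul, SubmonoidClass.coe_pow] at this
    exact this
  have hu1 : V.valuation ((((u : (O V F)ˣ) : O V F) : F) : Ω) = 1 :=
    (isUnit_O_iff V F _).mp u.isUnit
  have := congrArg V.valuation h1
  rw [map_mul, hu1, mul_one, map_pow] at this
  exact this

end PkgO

section ResO

variable (V : ValuationSubring Ω) (E F : Subfield Ω) [Fact (E ≤ F)]
  [IsDiscreteValuationRing (O V E)] [FiniteDimensional E F]
  [IsAlgClosed (ResidueField (O V E))]

theorem surjective_residue_of_algClosed :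
    Function.Surjective (algebraMap (ResidueField (O V E)) (ResidueField (O V F))) := by
  obtain ⟨π, hπirr⟩ := IsDiscreteValuationRing.exists_irreducible (O V E)
  haveI : Algebra.IsAlgebraic (ResidueField (O V E)) (ResidueField (O V F)) :=
    BC.isAlgebraic_residue (K := E) hπirr.maximalIdeal_eq (O V F) (dominates_O V E F)
  haveI : Algebra.IsIntegral (ResidueField (O V E)) (ResidueField (O V F)) :=
    Algebra.IsAlgebraic.isIntegral
  exact IsAlgClosed.algebraMap_bijective_of_isIntegral.2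

theorem bijective_residue_of_algClosed :
    Function.Bijective (algebraMap (ResidueField (O V E)) (ResidueField (O V F))) :=
  ⟨(algebraMap (ResidueField (O V E)) (ResidueField (O V F))).injective,
    surjective_residue_of_algClosed V E F⟩

theorem res1_of_algClosed : Res1 V E F := by
  rw [res1_iff_lift]
  intro w
  obtain ⟨r, hr⟩ := surjective_residue_of_algClosed V E F (residue _ w)
  obtain ⟨a, rfl⟩ := residue_surjective r
  refine ⟨a, ?_⟩
  rw [← residue_eq_zero_iff, map_sub, ← hr, sub_eq_zero]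
  rfl

include E in
theorem isAlgClosed_residue_of_finite : IsAlgClosed (ResidueField (O V F)) :=
  IsAlgClosed.of_ringEquiv _ _
    (RingEquiv.ofBijective _ (bijective_residue_of_algClosed V E F))

end ResO

end Groth.Agent.H6.EppTower
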