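import Mathlib
import Groth.Agent.Lib.Helper6.ET3
import Groth.Agent.Lib.Helper6.ET4

/-!
# Epp tower: field-theoretic glue for subfields of `Ω`
-/

set_option autoImplicit false
universe u

namespace Groth.Agent.H6.EppTower

open IntermediateField

variable {Ω : Type u} [Field Ω]

section Glue

/-- A subfield `E' ≥ E` identified with an intermediate field of `Ω / E` with the same carrier. -/
noncomputable def equivOfEq (E E' : Subfield Ω) [Fact (E ≤ E')] (X : IntermediateField E Ω)
    (hX : X.toSubfield = E') : E' ≃ₐ[E] X where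
  toFun x := ⟨(x : Ω), by rw [← IntermediateField.mem_toSubfield, hX]; exact x.2⟩
  invFun x := ⟨(x : Ω), by rw [← hX, IntermediateField.mem_toSubfield]; exact x.2⟩
  left_inv _ := rfl
  right_inv _ := rfl
  map_mul' _ _ := rfl
  map_add' _ _ := rfl
  commutes' _ := rfl

/-- The intermediate field of `Ω / E` attached to a subfield `E' ≥ E`. -/
abbrev ext (E E' : Subfield Ω) [h : Fact (E ≤ E')] : IntermediateField E Ω :=
  Subfield.extendScalars h.out

noncomputable def equivExt (E E' : Subfield Ω) [h : Fact (E ≤ E')] : E' ≃ₐ[E] ext E E' :=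
  equivOfEq E E' (ext E E') (Subfield.extendScalars_toSubfield h.out)

scoped instance factSupLeft (L F : Subfield Ω) : Fact (L ≤ L ⊔ F) := ⟨le_sup_left⟩

scoped instance factSupRight (L F : Subfield Ω) : Fact (F ≤ L ⊔ F) := ⟨le_sup_right⟩

theorem adjoin_ext_toSubfield (K F L : Subfield Ω) [Fact (K ≤ F)] [Fact (K ≤ L)] :
    (IntermediateField.adjoin L ((ext K F : IntermediateField K Ω) : Set Ω)).toSubfield =
      L ⊔ F := by
  rw [IntermediateField.adjoin_toSubfield, Subfield.closure_union]
  have h1 : Set.range (algebraMap L Ω) = (L : Set Ω) := by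
    ext x
    constructor
    · rintro ⟨y, rfl⟩
      exact y.2
    · intro hx
      exact ⟨⟨x, hx⟩, rfl⟩
  have h2 : ((ext K F : IntermediateField K Ω) : Set Ω) = (F : Set Ω) := rfl
  rw [h1, h2, Subfield.closure_eq, Subfield.closure_eq]

/-- `[L F : L] ≤ [F : K]`. -/
theorem finite_sup (K F L : Subfield Ω) [Fact (K ≤ F)] [Fact (K ≤ L)]
    [FiniteDimensional K F] :
    FiniteDimensional L (L ⊔ F : Subfield Ω) ∧
      Module.finrank L (L ⊔ F : Subfield Ω) ≤ Module.finrank K F := by
  let eF : F ≃ₐ[K] ext K F := equivExt K F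
  haveI : FiniteDimensional K (ext K F) := eF.toLinearEquiv.finiteDimensional
  haveI : Algebra.IsAlgebraic K (ext K F) := Algebra.IsAlgebraic.of_finite K _
  let X : IntermediateField L Ω := IntermediateField.adjoin L ((ext K F : IntermediateField K Ω) : Set Ω)
  have hrank : Module.rank L X ≤ Module.rank K (ext K F) :=
    IntermediateField.adjoin_rank_le_of_isAlgebraic_right L (ext K F)
  have hlt : Module.rank K (ext K F) < Cardinal.aleph0 := Module.rank_lt_aleph0 K _
  let eX : (L ⊔ F : Subfield Ω) ≃ₐ[L] X := equivOfEq L (L ⊔ F) X (adjoin_ext_toSubfield K F L)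
  haveI hfin : FiniteDimensional L X := by
    rw [FiniteDimensional, ← Module.rank_lt_aleph0_iff]
    exact hrank.trans_lt hlt
  refine ⟨eX.symm.toLinearEquiv.finiteDimensional, ?_⟩
  rw [eX.toLinearEquiv.finrank_eq, eF.toLinearEquiv.finrank_eq]
  exact Cardinal.toNat_le_toNat hrank hlt

theorem finite_trans (E E' E'' : Subfield Ω) [Fact (E ≤ E')] [Fact (E' ≤ E'')] [Fact (E ≤ E'')]
    [FiniteDimensional E E'] [FiniteDimensional E' E''] : FiniteDimensional E E'' :=
  Module.Finite.trans E' E''

end Glue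

section NormalSup

open Polynomial

theorem range_algebraMap_sub (L : Subfield Ω) : Set.range (algebraMap L Ω) = (L : Set Ω) := by
  ext x
  constructor
  · rintro ⟨y, rfl⟩
    exact y.2
  · intro hx
    exact ⟨⟨x, hx⟩, rfl⟩

/-- Base change of a finite normal extension is normal. -/
theorem normal_sup (L₁ M L' : Subfield Ω) [Fact (L₁ ≤ M)] [hL : Fact (L₁ ≤ L')]
    [FiniteDimensional L₁ M] [Normal L₁ M] : Normal L' (L' ⊔ M : Subfield Ω) := by
  classical
  let eM : M ≃ₐ[L₁] ext L₁ M := equivExt L₁ M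
  haveI : Normal L₁ (ext L₁ M) := Normal.of_algEquiv eM
  haveI : FiniteDimensional L₁ (ext L₁ M) := eM.toLinearEquiv.finiteDimensional
  obtain ⟨f, hf⟩ := Normal.exists_isSplittingField L₁ (ext L₁ M)
  obtain ⟨hsplit, hadj⟩ := IntermediateField.isSplittingField_iff.mp hf
  have hsplitΩ : (f.map (algebraMap L₁ Ω)).Splits := by
    have := hsplit.map (algebraMap (ext L₁ M) Ω)
    rwa [Polynomial.map_map, ← IsScalarTower.algebraMap_eq] at this
  set g := f.map (algebraMap L₁ L') with hg
  have hgs : (g.map (algebraMap L' Ω)).Splits := by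
    rw [hg, Polynomial.map_map, ← IsScalarTower.algebraMap_eq]
    exact hsplitΩ
  haveI hgsf : g.IsSplittingField L' (adjoin L' (g.rootSet Ω)) :=
    IntermediateField.adjoin_rootSet_isSplittingField hgs
  haveI : Normal L' (adjoin L' (g.rootSet Ω)) := Normal.of_isSplittingField g
  have hroot : g.rootSet Ω = f.rootSet Ω := by
    rw [hg, rootSet_def, rootSet_def, aroots_map]
  have hrootM : f.rootSet Ω ⊆ (M : Set Ω) := by
    intro x hx
    have : x ∈ ext L₁ M := by
      rw [hadj]
      exact subset_adjoin _ _ hx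
    exact this
  have hMle : M ≤ L₁ ⊔ Subfield.closure (f.rootSet Ω) := by
    intro x hx
    have h1 : x ∈ ext L₁ M := hx
    rw [hadj, ← IntermediateField.mem_toSubfield, IntermediateField.adjoin_toSubfield,
      Subfield.closure_union, range_algebraMap_sub, Subfield.closure_eq] at h1
    exact h1
  have hX : (adjoin L' (g.rootSet Ω)).toSubfield = L' ⊔ M := by
    rw [IntermediateField.adjoin_toSubfield, Subfield.closure_union, range_algebraMap_sub,
      Subfield.closure_eq, hroot]
    apply le_antisymm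
    · exact sup_le le_sup_left ((Subfield.closure_le.mpr hrootM).trans le_sup_right)
    · exact sup_le le_sup_left (hMle.trans (sup_le (hL.out.trans le_sup_left) le_sup_right))
  exact Normal.of_algEquiv (equivOfEq L' (L' ⊔ M) _ hX).symm

end NormalSup

section StepSub

variable (p : ℕ)

/-- The property of the first step `L ⊆ L₁` of the tower. -/
def StepProp (L L₁ : Subfield Ω) [Fact (L ≤ L₁)] : Prop :=
  1 < Module.finrank L L₁ ∧
    ((CharP L p ∧ IsPurelyInseparable L L₁ ∧ Module.finrank L L₁ = p) ∨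
     (IsGalois L L₁ ∧ Module.finrank L L₁ = p) ∨ ¬ p ∣ Module.finrank L L₁)

theorem exists_step_sub [hp : Fact p.Prime] (L M : Subfield Ω) [Fact (L ≤ M)]
    [FiniteDimensional L M] [Normal L M] (hchar : CharZero Ω ∨ CharP Ω p)
    (hne : Module.finrank L M ≠ 1) :
    ∃ (L₁ : Subfield Ω) (h1 : L ≤ L₁) (_ : L₁ ≤ M), (haveI := Fact.mk h1; StepProp p L L₁) := by
  have hchar' : CharZero L ∨ CharP L p := by
    rcases hchar with h | h
    · left
      haveI := h
      exact RingHom.charZero (algebraMap L Ω)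
    · right
      haveI := h
      exact RingHom.charP (algebraMap L Ω) (algebraMap L Ω).injective p
  obtain ⟨E, hE1, hE2⟩ := exists_step p L M hchar' hne
  let L₁ : Subfield Ω := E.toSubfield.map M.subtype
  have h1 : L ≤ L₁ := by
    intro x hx
    have hLM : L ≤ M := Fact.out
    exact ⟨⟨x, hLM hx⟩, E.algebraMap_mem ⟨x, hx⟩, rfl⟩
  have h2 : L₁ ≤ M := by
    rintro _ ⟨y, -, rfl⟩
    exact y.2
  haveI := Fact.mk h1
  let φ : E →ₐ[L] L₁ :=
    { toFun := fun x => ⟨((x : M) : Ω), ⟨(x : M), x.2, rfl⟩⟩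
      map_one' := rfl
      map_mul' := fun _ _ => rfl
      map_zero' := rfl
      map_add' := fun _ _ => rfl
      commutes' := fun _ => rfl }
  have hφ : Function.Bijective φ := by
    constructor
    · intro x y hxy
      apply Subtype.ext
      apply Subtype.ext
      exact congrArg (fun z : L₁ => (z : Ω)) hxy
    · rintro ⟨_, ⟨y, hy, rfl⟩⟩
      exact ⟨⟨y, hy⟩, rfl⟩
  let e : E ≃ₐ[L] L₁ := AlgEquiv.ofBijective φ hφ
  have hfr : Module.finrank L L₁ = Module.finrank L E := e.toLinearEquiv.finrank_eq.symm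
  refine ⟨L₁, h1, h2, ?_⟩
  refine ⟨hfr ▸ hE1, ?_⟩
  rcases hE2 with ⟨hc, hpi, hd⟩ | ⟨hg, hd⟩ | hnd
  · left
    refine ⟨hc, ?_, hfr ▸ hd⟩
    haveI := hpi
    exact e.isPurelyInseparable
  · right; left
    haveI := hg
    exact ⟨IsGalois.of_algEquiv e, hfr ▸ hd⟩
  · right; right
    rw [hfr]
    exact hnd

end StepSub

end Groth.Agent.H6.EppTower
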