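import Mathlib
import Groth.Agent.Lib.Helper6.ET2
import Groth.Agent.Lib.Helper6.ET5

/-!
# Epp tower: stability of weak unramifiedness and of the hypotheses under finite base change
-/

set_option autoImplicit false
universe u

namespace Groth.Agent.H6.EppTower

open IsLocalRing

variable {Ω : Type u} [Field Ω] (V : ValuationSubring Ω)

section Stab

theorem pow_le_of_le_one {Γ : Type*} [LinearOrderedCommGroupWithZero Γ] {q : Γ} (hq : q ≤ 1)
    {a b : ℕ} (hab : a ≤ b) : q ^ b ≤ q ^ a :=
  pow_le_pow_of_le_one zero_le' hq hab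

/-- Stability of weak unramifiedness under a finite extension of the base, in the complete
situation with algebraically closed residue field. -/
theorem wu_stable (E E' N : Subfield Ω) [Fact (E ≤ E')] [Fact (E ≤ N)]
    [IsDiscreteValuationRing (O V E)] [IsAdicComplete (maximalIdeal (O V E)) (O V E)]
    [IsAlgClosed (ResidueField (O V E))] [FiniteDimensional E E']
    [IsDiscreteValuationRing (O V N)] [IsAdicComplete (maximalIdeal (O V N)) (O V N)]
    (hwu : WU V E N) : WU V E' (N ⊔ E') := by
  have hEE' : E ≤ E' := Fact.out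
  have hEN : E ≤ N := Fact.out
  haveI := isDVR_O_of_finite V E E'
  obtain ⟨hfin, hdeg⟩ := finite_sup E E' N
  haveI := hfin
  haveI := isDVR_O_of_finite V N (N ⊔ E')
  obtain ⟨π, hπ0, hπ⟩ := exists_isU (V := V) E
  obtain ⟨π', hπ'0, hπ'⟩ := exists_isU (V := V) E'
  obtain ⟨t, ht0, ht⟩ := exists_isU (V := V) (N ⊔ E')
  have hπN : IsU V N π := (wu_iff_isU hEN hπ).mp hwu
  obtain ⟨e, f, hef, he0, hval, hf1⟩ := exists_e_f_O V E E'
  have hf : f = 1 := hf1 (res1_of_algClosed V E E')
  rw [hf, mul_one] at hef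
  have h1 : V.valuation π = V.valuation π' ^ e := hval π π' hπ0 hπ hπ'
  obtain ⟨e₂, f₂, hef₂, he₂0, hval₂, -⟩ := exists_e_f_O V N (N ⊔ E')
  have h2 : V.valuation π = V.valuation t ^ e₂ := hval₂ π t hπ0 hπN ht
  have he₂ : e₂ ≤ e := by
    have : e₂ ≤ e₂ * f₂ := Nat.le_mul_of_pos_right _ (Nat.pos_of_ne_zero (by
      rintro rfl
      rw [mul_zero] at hef₂
      have := Module.finrank_pos (R := N) (M := (N ⊔ E' : Subfield Ω))
      omega))
    rw [hef₂] at this
    exact this.trans (hdeg.trans (le_of_eq hef.symm))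
  have hπ't : V.valuation π' ≤ V.valuation t :=
    ht.2.2 π' ((le_sup_right : E' ≤ N ⊔ E') hπ'.1) hπ'.2.1
  have h3 : V.valuation π' ^ e = V.valuation t ^ e := by
    apply le_antisymm (pow_le_pow_left₀ zero_le' hπ't e)
    rw [← h1, h2]
    exact pow_le_of_le_one ht.2.1.le he₂
  have h4 : V.valuation π' = V.valuation t :=
    (pow_left_inj₀ zero_le' zero_le' he0).mp h3
  rw [wu_iff_isU (le_sup_right : E' ≤ N ⊔ E') hπ']
  exact ⟨(le_sup_right : E' ≤ N ⊔ E') hπ'.1, hπ'.2.1, fun y hy hlt => h4 ▸ ht.2.2 y hy hlt⟩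

end Stab

section BaseDef

/-- The hypotheses of the tower lemma on the pair `K ≤ L`. -/
structure Base (p : ℕ) (K L : Subfield Ω) [Fact (K ≤ L)] : Prop where
  dvrK : IsDiscreteValuationRing (O V K)
  dvrL : IsDiscreteValuationRing (O V L)
  complK : IsAdicComplete (maximalIdeal (O V K)) (O V K)
  complL : IsAdicComplete (maximalIdeal (O V L)) (O V L)
  algClosed : IsAlgClosed (ResidueField (O V K))
  charRes : CharP (ResidueField (O V K)) p
  wu : WU V K L
  hk : ∀ x : ResidueField (O V L), (∀ n : ℕ, ∃ y : ResidueField (O V L), y ^ (p ^ n) = x) →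
      x ∈ Set.range (algebraMap (ResidueField (O V K)) (ResidueField (O V L)))

variable {V}

theorem Base.baseChange {p : ℕ} [hp : Fact p.Prime] {K L : Subfield Ω} [Fact (K ≤ L)]
    (hB : Base V p K L) (F L' : Subfield Ω) [Fact (K ≤ F)] [Fact (L ≤ L')] [Fact (F ≤ L')]
    [Fact (K ≤ L')] [FiniteDimensional K F] [FiniteDimensional L L'] (hwu : WU V F L') :
    Base V p F L' := by
  haveI := hB.dvrK
  haveI := hB.dvrL
  haveI := hB.complK
  haveI := hB.complL
  haveI := hB.algClosed
  haveI := hB.charRes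
  haveI : CharP (ResidueField (O V L)) p :=
    charP_of_injective_algebraMap
      (algebraMap (ResidueField (O V K)) (ResidueField (O V L))).injective p
  haveI := finite_O_of_finite V L L'
  refine ⟨isDVR_O_of_finite V K F, isDVR_O_of_finite V L L', isAdicComplete_O_of_finite V K F,
    isAdicComplete_O_of_finite V L L', isAlgClosed_residue_of_finite V K F,
    charP_of_injective_algebraMap
      (algebraMap (ResidueField (O V K)) (ResidueField (O V F))).injective p, hwu, ?_⟩
  intro x hx
  obtain ⟨a, ha⟩ := hk_of_finite p (k := ResidueField (O V K)) (κ := ResidueField (O V L))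
    (κ' := ResidueField (O V L')) hB.hk x hx
  refine ⟨algebraMap (ResidueField (O V K)) (ResidueField (O V F)) a, ?_⟩
  rw [← ha, ← IsScalarTower.algebraMap_apply]

end BaseDef

end Groth.Agent.H6.EppTower
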