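import Mathlib
import Groth.Agent.Lib.Helper6.ET6
import Groth.Agent.Lib.Helper8.ASK.SolTower

/-!
# Epp tower: from official (weak) solutions to the internal form
-/

set_option autoImplicit false
universe u

namespace Groth.Agent.H6.EppTower

open IsLocalRing Groth.Agent.H8

variable {Ω : Type u} [Field Ω] (V : ValuationSubring Ω)

section Apply

variable (K L₁ : Subfield Ω) [hKL : Fact (K ≤ L₁)] (K₁ : Type u) [Field K₁] [Algebra K K₁]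
  (σ : K₁ →ₐ[K] Ω)

/-- The image of `K₁` in `Ω`. -/
def rangeσ : Subfield Ω := (σ : K₁ →+* Ω).fieldRange

theorem le_rangeσ : K ≤ rangeσ K K₁ σ := by
  intro x hx
  exact ⟨algebraMap K K₁ ⟨x, hx⟩, σ.commutes ⟨x, hx⟩⟩

/-- `K₁ → L₁ · σ(K₁)`. -/
def σN : K₁ →+* (L₁ ⊔ rangeσ K K₁ σ : Subfield Ω) where
  toFun x := ⟨σ x, (le_sup_right : rangeσ K K₁ σ ≤ L₁ ⊔ rangeσ K K₁ σ) ⟨x, rfl⟩⟩
  map_one' := Subtype.ext (map_one σ)
  map_mul' x y := Subtype.ext (map_mul σ x y)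
  map_zero' := Subtype.ext (map_zero σ)
  map_add' x y := Subtype.ext (map_add σ x y)

/-- `K₁ ≃ σ(K₁)` over `K`. -/
noncomputable def equivRangeσ :
    haveI : Fact (K ≤ rangeσ K K₁ σ) := ⟨le_rangeσ K K₁ σ⟩
    K₁ ≃ₐ[K] rangeσ K K₁ σ :=
  haveI : Fact (K ≤ rangeσ K K₁ σ) := ⟨le_rangeσ K K₁ σ⟩
  AlgEquiv.ofBijective
    { toFun := fun x => ⟨σ x, ⟨x, rfl⟩⟩
      map_one' := Subtype.ext (map_one σ)
      map_mul' := fun x y => Subtype.ext (map_mul σ x y)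
      map_zero' := Subtype.ext (map_zero σ)
      map_add' := fun x y => Subtype.ext (map_add σ x y)
      commutes' := fun k => Subtype.ext (σ.commutes k) }
    ⟨fun x y hxy => σ.toRingHom.injective (congrArg Subtype.val hxy),
      by rintro ⟨_, ⟨x, rfl⟩⟩; exact ⟨x, rfl⟩⟩

theorem adjoin_range_σN_eq_top [FiniteDimensional K K₁] :
    haveI : Fact (K ≤ rangeσ K K₁ σ) := ⟨le_rangeσ K K₁ σ⟩
    Algebra.adjoin L₁ (Set.range (σN K L₁ K₁ σ)) = ⊤ := by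
  haveI : Fact (K ≤ rangeσ K K₁ σ) := ⟨le_rangeσ K K₁ σ⟩
  haveI : FiniteDimensional K (rangeσ K K₁ σ) :=
    (equivRangeσ K K₁ σ).toLinearEquiv.finiteDimensional
  haveI := (finite_sup K (rangeσ K K₁ σ) L₁).1
  haveI : Algebra.IsAlgebraic L₁ (L₁ ⊔ rangeσ K K₁ σ : Subfield Ω) :=
    Algebra.IsAlgebraic.of_finite _ _
  set S := Algebra.adjoin L₁ (Set.range (σN K L₁ K₁ σ)) with hS
  let T : Subfield Ω :=
    { carrier := {y | ∃ h : y ∈ (L₁ ⊔ rangeσ K K₁ σ : Subfield Ω), (⟨y, h⟩ : (L₁ ⊔ rangeσ K K₁ σ : Subfield Ω)) ∈ S}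
      mul_mem' := by
        rintro a b ⟨ha, ha'⟩ ⟨hb, hb'⟩
        exact ⟨mul_mem ha hb, S.mul_mem ha' hb'⟩
      one_mem' := ⟨one_mem _, S.one_mem⟩
      add_mem' := by
        rintro a b ⟨ha, ha'⟩ ⟨hb, hb'⟩
        exact ⟨add_mem ha hb, S.add_mem ha' hb'⟩
      zero_mem' := ⟨zero_mem _, S.zero_mem⟩
      neg_mem' := by
        rintro a ⟨ha, ha'⟩
        exact ⟨neg_mem ha, S.neg_mem ha'⟩
      inv_mem' := by
        rintro a ⟨ha, ha'⟩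
        refine ⟨inv_mem ha, ?_⟩
        have := S.inv_mem_of_algebraic (x := ⟨⟨a, ha⟩, ha'⟩)
          (Algebra.IsAlgebraic.isAlgebraic _)
        exact this }
  have hL : L₁ ≤ T := by
    intro x hx
    exact ⟨(le_sup_left : L₁ ≤ L₁ ⊔ rangeσ K K₁ σ) hx, S.algebraMap_mem ⟨x, hx⟩⟩
  have hF : rangeσ K K₁ σ ≤ T := by
    rintro _ ⟨x, rfl⟩
    exact ⟨(le_sup_right : rangeσ K K₁ σ ≤ L₁ ⊔ rangeσ K K₁ σ) ⟨x, rfl⟩,
      Algebra.subset_adjoin ⟨x, rfl⟩⟩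
  rw [eq_top_iff]
  rintro ⟨y, hy⟩ -
  obtain ⟨_, h⟩ := (sup_le hL hF) hy
  exact h

variable [FiniteDimensional K K₁]

/-- Apply a `ForallLocalExt` statement at the compositum `L₁ · σ(K₁)` inside `Ω`. -/
theorem apply_forallLocalExt
    (P : ∀ (M : Type u) [Field M], ValuationSubring M → (K₁ →+* M) → Prop)
    (h : EtRam.ForallLocalExt (O V L₁) K L₁ K₁ P) :
    P (L₁ ⊔ rangeσ K K₁ σ : Subfield Ω) (O V (L₁ ⊔ rangeσ K K₁ σ)) (σN K L₁ K₁ σ) := by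
  haveI : Fact (K ≤ rangeσ K K₁ σ) := ⟨le_rangeσ K K₁ σ⟩
  haveI : Fact (K ≤ L₁ ⊔ rangeσ K K₁ σ) := ⟨hKL.out.trans le_sup_left⟩
  letI : Algebra K₁ (L₁ ⊔ rangeσ K K₁ σ : Subfield Ω) := (σN K L₁ K₁ σ).toAlgebra
  haveI : IsScalarTower K K₁ (L₁ ⊔ rangeσ K K₁ σ : Subfield Ω) :=
    IsScalarTower.of_algebraMap_eq (fun k => Subtype.ext (σ.commutes k).symm)
  have hadj := adjoin_range_σN_eq_top K L₁ K₁ σ
  have hdom : EtRam.Dominates (O V L₁)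
      ((algebraMap L₁ (L₁ ⊔ rangeσ K K₁ σ : Subfield Ω)).comp (algebraMap (O V L₁) L₁))
      (O V (L₁ ⊔ rangeσ K K₁ σ)) := dominates_O V L₁ (L₁ ⊔ rangeσ K K₁ σ)
  exact h (L₁ ⊔ rangeσ K K₁ σ : Subfield Ω) hadj (O V (L₁ ⊔ rangeσ K K₁ σ)) hdom

theorem wu_of_comap_wu
    (h1 :
      letI : Algebra ((O V (L₁ ⊔ rangeσ K K₁ σ)).comap (σN K L₁ K₁ σ)) (O V (L₁ ⊔ rangeσ K K₁ σ)) :=
        (EtRam.inclOfComap (O V (L₁ ⊔ rangeσ K K₁ σ)) (σN K L₁ K₁ σ)).toAlgebra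
      EtRam.IsWeaklyUnramified ((O V (L₁ ⊔ rangeσ K K₁ σ)).comap (σN K L₁ K₁ σ))
        (O V (L₁ ⊔ rangeσ K K₁ σ))) :
    WU V (rangeσ K K₁ σ) (L₁ ⊔ rangeσ K K₁ σ) := by
  rw [RI.isWeaklyUnramified_comap_iff] at h1
  intro y hy hlt
  obtain ⟨a, ha1, ha2⟩ := h1 ⟨y, hy⟩ ((val_O_lt_one_iff _ _).mpr hlt)
  refine ⟨σ a, ⟨a, rfl⟩, (val_O_lt_one_iff _ (σN K L₁ K₁ σ a)).mp ha1, ?_⟩
  exact (val_O_iff _ ⟨y, hy⟩ (σN K L₁ K₁ σ a)).mp ha2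

theorem wu_of_weakSolution (h : EtRam.IsWeakSolution (O V L₁) K L₁ K₁) :
    WU V (rangeσ K K₁ σ) (L₁ ⊔ rangeσ K K₁ σ) :=
  wu_of_comap_wu V K L₁ K₁ σ (apply_forallLocalExt V K L₁ K₁ σ _ h)

end Apply

section Exists

variable [IsAlgClosed Ω]

/-- An official weak solution yields an internal one. -/
theorem exists_internal_of_weakSolution (K L₁ : Subfield Ω) [Fact (K ≤ L₁)] (K₁ : Type u)
    [Field K₁] [Algebra K K₁] [FiniteDimensional K K₁]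
    (h : EtRam.IsWeakSolution (O V L₁) K L₁ K₁) :
    ∃ (F₁ : Subfield Ω) (hKF : K ≤ F₁), (haveI := Fact.mk hKF; FiniteDimensional K F₁) ∧
      WU V F₁ (L₁ ⊔ F₁) := by
  let σ : K₁ →ₐ[K] Ω := IsAlgClosed.lift
  refine ⟨rangeσ K K₁ σ, le_rangeσ K K₁ σ, ?_, wu_of_weakSolution V K L₁ K₁ σ h⟩
  haveI : Fact (K ≤ rangeσ K K₁ σ) := ⟨le_rangeσ K K₁ σ⟩
  exact (equivRangeσ K K₁ σ).toLinearEquiv.finiteDimensional

end Exists

end Groth.Agent.H6.EppTower
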