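import Mathlib
import Groth.Agent.Lib.Helper6.ET7
import Groth.Agent.Lib.Helper8.ASK.MixG
import Groth.Agent.Lib.Helper8.ASK.PIe
import Groth.Agent.Lib.Helper8.ASK.Sol1982

/-!
# Epp tower: the one-step lemmas in internal form
-/

set_option autoImplicit false
universe u

namespace Groth.Agent.H6.EppTower

open IsLocalRing Groth.Agent.H8

section TotRam

variable (A K K₁ : Type u) [CommRing A] [IsDomain A] [IsDiscreteValuationRing A]
  [IsAdicComplete (maximalIdeal A) A] [IsAlgClosed (ResidueField A)]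
  [Field K] [Algebra A K] [IsFractionRing A K] [Field K₁] [Algebra K K₁] [FiniteDimensional K K₁]

/-- Over a complete DVR with algebraically closed residue field every finite extension of the
fraction field is totally ramified. -/
theorem isTotallyRamified_of_complete :
    EtRam.IsTotallyRamified A ((algebraMap K K₁).comp (algebraMap A K)) := by
  letI : Algebra A K₁ := ((algebraMap K K₁).comp (algebraMap A K)).toAlgebra
  haveI : IsScalarTower A K K₁ := IsScalarTower.of_algebraMap_eq (fun _ => rfl)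
  have hg : (algebraMap K K₁).comp (algebraMap A K) = algebraMap A K₁ := rfl
  rw [hg]
  refine ⟨RI.exists_dominates_of_local _, fun W W' hW hW' => (dominating_unique (K := K) hW' hW),
    fun W hW => ?_⟩
  letI : Algebra A W := (RingHom.codRestrict (algebraMap A K₁) W hW.1).toAlgebra
  haveI : IsScalarTower A W K₁ := IsScalarTower.of_algebraMap_eq (fun _ => rfl)
  haveI : IsLocalHom (algebraMap A W) := RI.isLocalHom_of_dominates hW
  obtain ⟨π, hπirr⟩ := IsDiscreteValuationRing.exists_irreducible A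
  haveI : Algebra.IsAlgebraic (ResidueField A) (ResidueField W) :=
    BC.isAlgebraic_residue (K := K) hπirr.maximalIdeal_eq W hW
  haveI : Algebra.IsIntegral (ResidueField A) (ResidueField W) := Algebra.IsAlgebraic.isIntegral
  intro r
  obtain ⟨s, hs⟩ := (IsAlgClosed.algebraMap_bijective_of_isIntegral
    (k := ResidueField A) (K := ResidueField W)).2 r
  obtain ⟨a, rfl⟩ := residue_surjective s
  exact ⟨a, hs⟩

end TotRam

variable {Ω : Type u} [Field Ω] (V : ValuationSubring Ω)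

section Goal

/-- The outcome of one step: a finite extension `F₁` of `K` with `O F₁ → O (L₁ F₁)` weakly
unramified. -/
def StepGoal (K L₁ : Subfield Ω) : Prop :=
  ∃ (F₁ : Subfield Ω) (hKF : K ≤ F₁), (haveI := Fact.mk hKF; FiniteDimensional K F₁) ∧
    WU V F₁ (L₁ ⊔ F₁)

variable {V}

theorem finiteDimensional_self (K : Subfield Ω) :
    haveI : Fact (K ≤ K) := ⟨le_rfl⟩
    FiniteDimensional K K := by
  haveI : Fact (K ≤ K) := ⟨le_rfl⟩
  exact Module.Finite.of_surjective (Algebra.linearMap K K) (fun x => ⟨x, rfl⟩)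

theorem stepGoal_of_wu {K L₁ : Subfield Ω} (hKL : K ≤ L₁) (h : WU V K L₁) : StepGoal V K L₁ := by
  refine ⟨K, le_rfl, finiteDimensional_self K, ?_⟩
  rw [sup_eq_left.mpr hKL]
  exact h

variable {p : ℕ} [hp : Fact p.Prime] {K L : Subfield Ω} [Fact (K ≤ L)]

theorem Base.hk_iff (hB : Base V p K L) (x : ResidueField (O V L)) :
    (∀ n : ℕ, ∃ y : ResidueField (O V L), y ^ (p ^ n) = x) ↔
      x ∈ Set.range (algebraMap (ResidueField (O V K)) (ResidueField (O V L))) := by
  refine ⟨hB.hk x, ?_⟩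
  rintro ⟨a, rfl⟩ n
  haveI := hB.algClosed
  obtain ⟨b, hb⟩ := IsAlgClosed.exists_pow_nat_eq a (pow_pos hp.out.pos n)
  exact ⟨algebraMap _ _ b, by rw [← map_pow, hb]⟩

theorem Base.weaklyUnramified (hB : Base V p K L) : EtRam.IsWeaklyUnramified (O V K) (O V L) := by
  haveI := hB.dvrK
  exact (wu_iff_weaklyUnramified K L).mp hB.wu

end Goal

section Galois

variable [IsAlgClosed Ω] {V} {p : ℕ} [hp : Fact p.Prime] {K L : Subfield Ω} [Fact (K ≤ L)]
  (L₁ : Subfield Ω) [Fact (L ≤ L₁)] [Fact (K ≤ L₁)] [FiniteDimensional L L₁]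

theorem step_galois_charP [CharP Ω p] (hB : Base V p K L) [IsGalois L L₁]
    (hdeg : Module.finrank L L₁ = p) : StepGoal V K L₁ := by
  haveI := hB.dvrK
  haveI := hB.dvrL
  haveI := isDVR_O_of_finite V L L₁
  haveI : CharP K p := RingHom.charP (algebraMap K Ω) (algebraMap K Ω).injective p
  obtain ⟨K₁, _, _, hfin, -, -, hsol⟩ := Epp.main p hp.out (O V K) (O V L) (O V L₁) K L L₁
    (injective_algebraMap_O V K L) (injective_algebraMap_O V L L₁) hB.weaklyUnramified hdeg
    hB.hk_iff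
  exact exists_internal_of_weakSolution V K L₁ K₁ hsol

end Galois

section Mixed

variable [IsAlgClosed Ω] {V} {p : ℕ} [hp : Fact p.Prime] {K L : Subfield Ω} [Fact (K ≤ L)]
  (L₁ : Subfield Ω) [Fact (L ≤ L₁)] [Fact (K ≤ L₁)] [FiniteDimensional L L₁]

theorem val_natCast_le_one (n : ℕ) : V.valuation (n : Ω) ≤ 1 :=
  (V.valuation_le_one_iff _).mpr (natCast_mem V n)

include hp in
theorem val_le_one_of_pow_eq {ϖ : Ω} (hϖ : ϖ ^ (p - 1) = -(p : Ω)) : V.valuation ϖ ≤ 1 := by
  have h1 : V.valuation ϖ ^ (p - 1) ≤ 1 := by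
    rw [← map_pow, hϖ, Valuation.map_neg]
    exact val_natCast_le_one p
  have hp1 : p - 1 ≠ 0 := by
    have := hp.out.two_le
    omega
  exact (pow_le_one_iff_of_nonneg zero_le' hp1).mp h1

theorem val_eq_one_of_isPrimitiveRoot {ζ : Ω} {n : ℕ} (hn : n ≠ 0) (hζ : IsPrimitiveRoot ζ n) :
    V.valuation ζ = 1 := by
  have h1 : V.valuation ζ ^ n = 1 := by rw [← map_pow, hζ.pow_eq_one, map_one]
  exact (pow_eq_one_iff_of_nonneg zero_le' hn).mp h1

theorem step_galois_mixed [CharZero Ω] (hB : Base V p K L) [IsGalois L L₁]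
    (hdeg : Module.finrank L L₁ = p) (ζ ϖ : Ω) (hζK : ζ ∈ K) (hϖK : ϖ ∈ K)
    (hζ : IsPrimitiveRoot ζ p) (hϖ : ϖ ^ (p - 1) = -(p : Ω)) : StepGoal V K L₁ := by
  haveI := hB.dvrK
  haveI := hB.dvrL
  haveI := hB.complK
  haveI := hB.algClosed
  haveI := hB.charRes
  haveI := isDVR_O_of_finite V L L₁
  haveI : CharZero K := RingHom.charZero (algebraMap K Ω)
  let ζA : O V K := ⟨⟨ζ, hζK⟩,
    (V.valuation_le_one_iff _).mp (val_eq_one_of_isPrimitiveRoot hp.out.ne_zero hζ).le⟩
  let ϖA : O V K := ⟨⟨ϖ, hϖK⟩, (V.valuation_le_one_iff _).mp (val_le_one_of_pow_eq hϖ)⟩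
  let ι : O V K →+* Ω := (algebraMap K Ω).comp (algebraMap (O V K) K)
  have hι : Function.Injective ι :=
    (algebraMap K Ω).injective.comp (IsFractionRing.injective (O V K) K)
  have hζA : IsPrimitiveRoot ζA p := IsPrimitiveRoot.of_map_of_injective (f := ι) hζ hι
  have hϖA : ϖA ^ (p - 1) = -(p : O V K) := by
    apply hι
    rw [map_pow, map_neg, map_natCast]
    exact hϖ
  obtain ⟨K₁, _, _, hfin, hsol⟩ := Mix.main p hp.out (O V K) (O V L) (O V L₁) K L L₁
    (injective_algebraMap_O V K L) (injective_algebraMap_O V L L₁) hB.weaklyUnramified hdeg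
    hB.hk_iff ζA hζA ϖA hϖA
    (fun K₁ _ _ _ => isTotallyRamified_of_complete (O V K) K K₁)
  exact exists_internal_of_weakSolution V K L₁ K₁ hsol

end Mixed

section Insep

variable [IsAlgClosed Ω] {V} {p : ℕ} [hp : Fact p.Prime] {K L : Subfield Ω} [Fact (K ≤ L)]
  (L₁ : Subfield Ω) [Fact (L ≤ L₁)] [Fact (K ≤ L₁)] [FiniteDimensional L L₁]

open Polynomial in
/-- Adjoining to `K` an element `c` of `L₁` with `c ^ n ∈ K` which is a uniformizer of `L₁`. -/
theorem stepGoal_of_root {K L₁ : Subfield Ω} (hKL₁ : K ≤ L₁) {c a : Ω} {n : ℕ} (hn : n ≠ 0)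
    (hcL : c ∈ L₁) (haK : a ∈ K) (hca : c ^ n = a) (hcU : IsU V L₁ c) : StepGoal V K L₁ := by
  let Y : IntermediateField K Ω := IntermediateField.adjoin K {c}
  have hKF : K ≤ Y.toSubfield := fun x hx => Y.algebraMap_mem ⟨x, hx⟩
  haveI : Fact (K ≤ Y.toSubfield) := ⟨hKF⟩
  have hint : IsIntegral K c := by
    refine ⟨X ^ n - C (⟨a, haK⟩ : K), monic_X_pow_sub_C _ hn, ?_⟩
    rw [eval₂_sub, eval₂_X_pow, eval₂_C, hca]
    exact sub_self a
  haveI : FiniteDimensional K Y := IntermediateField.adjoin.finiteDimensional hint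
  have hFL : Y.toSubfield ≤ L₁ := by
    rw [IntermediateField.adjoin_toSubfield, Subfield.closure_le]
    apply Set.union_subset
    · rintro _ ⟨x, rfl⟩
      exact hKL₁ x.2
    · rintro _ rfl
      exact hcL
  refine ⟨Y.toSubfield, hKF, (equivOfEq K Y.toSubfield Y rfl).symm.toLinearEquiv.finiteDimensional,
    ?_⟩
  rw [sup_eq_left.mpr hFL]
  intro y hy hlt
  exact ⟨c, IntermediateField.subset_adjoin K {c} rfl, hcU.2.1, hcU.2.2 y hy hlt⟩

theorem step_insep (hB : Base V p K L) [IsPurelyInseparable L L₁]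
    (hdeg : Module.finrank L L₁ = p) : StepGoal V K L₁ := by
  haveI := hB.dvrK
  haveI := hB.dvrL
  haveI := hB.complL
  haveI := isDVR_O_of_finite V L L₁
  have hKL : K ≤ L := Fact.out
  have hKL₁ : K ≤ L₁ := Fact.out
  obtain ⟨π₀, hπ₀0, hπ₀⟩ := exists_isU (V := V) K
  have hNag : CAlg.IsNagata (O V L) := Jap.isNagata_of_complete_local (O V L)
  rcases PI.main p hp.out (O V K) (O V L) (O V L₁) K L L₁ (injective_algebraMap_O V K L)
    (injective_algebraMap_O V L L₁) hπ₀.elt (hπ₀.span_eq hπ₀0) hNag hB.weaklyUnramified hdeg with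
    h1 | ⟨c, hc, -⟩ | ⟨K₁, _, _, hfr, -, -, -, -, -, hsol⟩
  · exact stepGoal_of_wu hKL₁ ((wu_iff_weaklyUnramified K L₁).mpr h1)
  · -- `c ^ p = π`
    set c₀ : Ω := ((c : L₁) : Ω) with hc₀def
    have hc₀ : c₀ ^ p = π₀ := congrArg (fun z : O V L₁ => ((z : L₁) : Ω)) hc
    have hπL : IsU V L π₀ := (wu_iff_isU hKL hπ₀).mp hB.wu
    obtain ⟨t, ht0, ht⟩ := exists_isU (V := V) L₁
    obtain ⟨e, f, hef, he0, hval, -⟩ := exists_e_f_O V L L₁
    have h1 : V.valuation π₀ = V.valuation t ^ e := hval π₀ t hπ₀0 hπL ht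
    have he : e ≤ p := by
      have hf0 : f ≠ 0 := by
        rintro rfl
        rw [mul_zero, hdeg] at hef
        exact hp.out.ne_zero hef.symm
      calc e ≤ e * f := Nat.le_mul_of_pos_right _ (Nat.pos_of_ne_zero hf0)
        _ = p := by rw [hef, hdeg]
    have hcv : V.valuation c₀ ^ p = V.valuation π₀ := by rw [← map_pow, hc₀]
    have hc1 : V.valuation c₀ < 1 := by
      rw [← pow_lt_one_iff_of_nonneg zero_le' hp.out.ne_zero, hcv]
      exact hπ₀.2.1
    have hct : V.valuation c₀ ≤ V.valuation t := ht.2.2 c₀ (c : L₁).2 hc1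
    have h3 : V.valuation c₀ ^ p = V.valuation t ^ p := by
      apply le_antisymm (pow_le_pow_left₀ zero_le' hct p)
      rw [hcv, h1]
      exact pow_le_of_le_one ht.2.1.le he
    have h4 : V.valuation c₀ = V.valuation t :=
      (pow_left_inj₀ zero_le' zero_le' hp.out.ne_zero).mp h3
    have hcU : IsU V L₁ c₀ :=
      ⟨(c : L₁).2, hc1, fun y hy hlt => h4 ▸ ht.2.2 y hy hlt⟩
    exact stepGoal_of_root hKL₁ hp.out.ne_zero (c : L₁).2 hπ₀.1 hc₀ hcU
  · haveI : FiniteDimensional K K₁ :=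
      Module.finite_of_finrank_pos (by rw [hfr]; exact hp.out.pos)
    exact exists_internal_of_weakSolution V K L₁ K₁ hsol

end Insep

end Groth.Agent.H6.EppTower
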