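import Mathlib
import Groth.Agent.Lib.Helper6.ET8

/-!
# Epp tower: the tame step
-/

set_option autoImplicit false
universe u

namespace Groth.Agent.H6.EppTower

open IsLocalRing Groth.Agent.H8

variable {Ω : Type u} [Field Ω] {V : ValuationSubring Ω}

section Aux

theorem val_O_eq_iff (E : Subfield Ω) (x y : E) :
    (O V E).valuation x = (O V E).valuation y ↔ V.valuation (x : Ω) = V.valuation (y : Ω) := by
  rw [le_antisymm_iff, le_antisymm_iff, val_O_iff, val_O_iff]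

theorem ramIdx'_eq {R : Type*} [CommRing R] [IsLocalRing R] {F : Type*} [Field F]
    (W : ValuationSubring F) [Algebra R W] (x : R) (hx : maximalIdeal R = Ideal.span {x})
    (y₀ : F) (e : ℕ) (he : e ≠ 0) (hx0 : ((algebraMap R W x : W) : F) ≠ 0)
    (hu : RI.IsUnif W.valuation y₀)
    (h : W.valuation ((algebraMap R W x : W) : F) = W.valuation y₀ ^ e) :
    Ideal.ramificationIdx' (maximalIdeal R) (maximalIdeal W) = e := by
  rw [RI.ramificationIdx'_eq_sSup W x hx]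
  exact RI.HasOrdAt.sSup_eq ⟨he, hx0, hu, h⟩

/-- In a discretely valued subfield every nonzero integral element has value a power of the
value of a uniformizer. -/
theorem exists_pow_eq_of_isU (E : Subfield Ω) [IsDiscreteValuationRing (O V E)] {s : Ω}
    (hs : IsU V E s) (hs0 : s ≠ 0) {x : Ω} (hxE : x ∈ E) (hx0 : x ≠ 0) (hx1 : V.valuation x ≤ 1) :
    ∃ m : ℕ, V.valuation x = V.valuation s ^ m := by
  let x' : O V E := ⟨⟨x, hxE⟩, (V.valuation_le_one_iff _).mp hx1⟩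
  have hx'0 : x' ≠ 0 := fun h => hx0 (congrArg (fun z : O V E => ((z : E) : Ω)) h)
  have hirr : Irreducible hs.elt :=
    (IsDiscreteValuationRing.irreducible_iff_uniformizer _).mpr (hs.span_eq hs0)
  obtain ⟨n, u, hu⟩ := IsDiscreteValuationRing.eq_unit_mul_pow_irreducible hx'0 hirr
  refine ⟨n, ?_⟩
  have h1 : x = (((u : (O V E)ˣ) : O V E) : E) * s ^ n :=
    congrArg (fun z : O V E => ((z : E) : Ω)) hu
  have hu1 : V.valuation ((((u : (O V E)ˣ) : O V E) : E) : Ω) = 1 :=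
    (isUnit_O_iff V E _).mp u.isUnit
  rw [h1, map_mul, hu1, one_mul, map_pow]

theorem ramIdx'_O_eq (E F : Subfield Ω) [Fact (E ≤ F)] {π t : Ω} {e : ℕ} (hπ : IsU V E π)
    (hπ0 : π ≠ 0) (ht : IsU V F t) (he : e ≠ 0) (h : V.valuation π = V.valuation t ^ e) :
    Ideal.ramificationIdx' (maximalIdeal (O V E)) (maximalIdeal (O V F)) = e := by
  have hEF : E ≤ F := Fact.out
  refine ramIdx'_eq (O V F) hπ.elt (hπ.span_eq hπ0) (⟨t, ht.1⟩ : F) e he ?_ ?_ ?_
  · intro h0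
    exact hπ0 (congrArg Subtype.val h0)
  · exact (isU_iff_isUnif F ⟨t, ht.1⟩).mp ht
  · rw [← map_pow, val_O_eq_iff]
    show V.valuation π = V.valuation (t ^ e)
    rw [h, map_pow]

/-- Ramification index of `O E → W'` where `W' = O F` is presented differently. -/
theorem ramIdx'_of_eq (E F : Subfield Ω) [Fact (E ≤ F)] (W' : ValuationSubring F)
    (hW' : W' = O V F)
    (hA : ∀ a : O V E, (algebraMap E F).comp (algebraMap (O V E) E) a ∈ W') {π s : Ω} {e₁ : ℕ}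
    (hπ : IsU V E π) (hπ0 : π ≠ 0) (hs : IsU V F s) (he₁ : e₁ ≠ 0)
    (h : V.valuation π = V.valuation s ^ e₁) :
    letI : Algebra (O V E) W' :=
      (RingHom.codRestrict ((algebraMap E F).comp (algebraMap (O V E) E)) W' hA).toAlgebra
    Ideal.ramificationIdx' (maximalIdeal (O V E)) (maximalIdeal W') = e₁ := by
  subst hW'
  letI : Algebra (O V E) (O V F) :=
    (RingHom.codRestrict ((algebraMap E F).comp (algebraMap (O V E) E)) (O V F) hA).toAlgebra
  refine ramIdx'_eq (O V F) hπ.elt (hπ.span_eq hπ0) (⟨s, hs.1⟩ : F) e₁ he₁ ?_ ?_ ?_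
  · intro h0
    exact hπ0 (congrArg Subtype.val h0)
  · exact (isU_iff_isUnif F ⟨s, hs.1⟩).mp hs
  · rw [← map_pow, val_O_eq_iff]
    show V.valuation π = V.valuation (s ^ e₁)
    rw [h, map_pow]

end Aux

section Tame

variable [IsAlgClosed Ω] {p : ℕ} [hp : Fact p.Prime] {K L : Subfield Ω} [Fact (K ≤ L)]
  (L₁ : Subfield Ω) [Fact (L ≤ L₁)] [Fact (K ≤ L₁)] [FiniteDimensional L L₁]

theorem step_tame (hB : Base V p K L) (hnd : ¬ p ∣ Module.finrank L L₁) : StepGoal V K L₁ := by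
  haveI := hB.dvrK
  haveI := hB.dvrL
  haveI := hB.complK
  haveI := hB.complL
  haveI := hB.algClosed
  haveI := hB.charRes
  haveI := isDVR_O_of_finite V L L₁
  have hKL : K ≤ L := Fact.out
  have hKL₁ : K ≤ L₁ := Fact.out
  obtain ⟨π₀, hπ₀0, hπ₀⟩ := exists_isU (V := V) K
  have hπL : IsU V L π₀ := (wu_iff_isU hKL hπ₀).mp hB.wu
  obtain ⟨t, ht0, ht⟩ := exists_isU (V := V) L₁
  obtain ⟨e, f, hef, he0, hval, -⟩ := exists_e_f_O V L L₁
  have h1 : V.valuation π₀ = V.valuation t ^ e := hval π₀ t hπ₀0 hπL ht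
  have hpe : ¬ p ∣ e := fun h => hnd (hef ▸ Dvd.dvd.mul_right h f)
  obtain ⟨ϖ₁, hϖ₁⟩ := IsAlgClosed.exists_pow_nat_eq π₀ (Nat.pos_of_ne_zero he0)
  let Y : IntermediateField K Ω := IntermediateField.adjoin K {ϖ₁}
  have hKF : K ≤ Y.toSubfield := fun x hx => Y.algebraMap_mem ⟨x, hx⟩
  haveI : Fact (K ≤ Y.toSubfield) := ⟨hKF⟩
  have hint : IsIntegral K ϖ₁ := by
    refine ⟨Polynomial.X ^ e - Polynomial.C (⟨π₀, hπ₀.1⟩ : K),
      Polynomial.monic_X_pow_sub_C _ he0, ?_⟩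
    rw [Polynomial.eval₂_sub, Polynomial.eval₂_X_pow, Polynomial.eval₂_C, hϖ₁]
    exact sub_self π₀
  haveI : FiniteDimensional K Y := IntermediateField.adjoin.finiteDimensional hint
  haveI : FiniteDimensional K Y.toSubfield :=
    (equivOfEq K Y.toSubfield Y rfl).symm.toLinearEquiv.finiteDimensional
  let σ : Y.toSubfield →ₐ[K] Ω := { Y.toSubfield.subtype with commutes' := fun _ => rfl }
  have heB : Ideal.ramificationIdx' (maximalIdeal (O V K)) (maximalIdeal (O V L₁)) = e :=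
    ramIdx'_O_eq K L₁ hπ₀ hπ₀0 ht he0 h1
  have htame : CharZero (ResidueField (O V K)) ∨ ∃ p : ℕ, p.Prime ∧
      CharP (ResidueField (O V K)) p ∧
      ¬ p ∣ Ideal.ramificationIdx' (maximalIdeal (O V K)) (maximalIdeal (O V L₁)) ∧
      Algebra.IsGeometricallyReduced (ResidueField (O V K)) (ResidueField (O V L₁)) :=
    Or.inr ⟨p, hp.out, hB.charRes, by rw [heB]; exact hpe,
      BC.isGeometricallyReduced_of_perfectField _ _⟩
  have hsol := BC.sol1982 (O V K) (O V L₁) K L₁ htame Y.toSubfield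
  have happ := apply_forallLocalExt V K L₁ Y.toSubfield σ _ hsol
  -- uniformizer of `K(ϖ₁)`
  haveI := isDVR_O_of_finite V K Y.toSubfield
  obtain ⟨s, hs0, hs⟩ := exists_isU (V := V) Y.toSubfield
  obtain ⟨e₁, f₁, -, he₁0, hval₁, -⟩ := exists_e_f_O V K Y.toSubfield
  have h2 : V.valuation π₀ = V.valuation s ^ e₁ := hval₁ π₀ s hπ₀0 hπ₀ hs
  have hϖF : ϖ₁ ∈ Y.toSubfield := IntermediateField.subset_adjoin K {ϖ₁} rfl
  have hϖ0 : ϖ₁ ≠ 0 := by
    rintro rfl
    rw [zero_pow he0] at hϖ₁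
    exact hπ₀0 hϖ₁.symm
  have hϖ1 : V.valuation ϖ₁ ≤ 1 := by
    apply (pow_le_one_iff_of_nonneg zero_le' he0).mp
    rw [← map_pow, hϖ₁]
    exact hπ₀.2.1.le
  obtain ⟨m, hm⟩ := exists_pow_eq_of_isU Y.toSubfield hs hs0 hϖF hϖ0 hϖ1
  have hdiv : e ∣ e₁ := by
    have h3 : V.valuation s ^ (m * e) = V.valuation s ^ e₁ := by
      rw [pow_mul, ← hm, ← map_pow, hϖ₁, h2]
    have hs_pos : 0 < V.valuation s := zero_lt_iff.mpr ((Valuation.ne_zero_iff _).mpr hs0)
    have : m * e = e₁ := by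
      apply le_antisymm
      · exact (pow_le_pow_iff_right_of_lt_one₀ hs_pos hs.2.1).mp (le_of_eq h3.symm)
      · exact (pow_le_pow_iff_right_of_lt_one₀ hs_pos hs.2.1).mp (le_of_eq h3)
    exact ⟨m, by rw [← this, mul_comm]⟩
  have hWeq : (O V (L₁ ⊔ rangeσ K Y.toSubfield σ)).comap (σN K L₁ Y.toSubfield σ) =
      O V Y.toSubfield := rfl
  have hA : ∀ a : O V K, (algebraMap K Y.toSubfield).comp (algebraMap (O V K) K) a ∈
      (O V (L₁ ⊔ rangeσ K Y.toSubfield σ)).comap (σN K L₁ Y.toSubfield σ) := fun a => a.2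
  have hram := ramIdx'_of_eq K Y.toSubfield _ hWeq hA hπ₀ hπ₀0 hs he₁0 h2
  obtain ⟨hwu, -⟩ := happ hA (by rw [heB, hram]; exact hdiv)
  have hfinal := wu_of_comap_wu V K L₁ Y.toSubfield σ hwu
  refine ⟨rangeσ K Y.toSubfield σ, le_rangeσ K Y.toSubfield σ, ?_, hfinal⟩
  haveI : Fact (K ≤ rangeσ K Y.toSubfield σ) := ⟨le_rangeσ K Y.toSubfield σ⟩
  exact (equivRangeσ K Y.toSubfield σ).toLinearEquiv.finiteDimensional

end Tame

end Groth.Agent.H6.EppTower
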