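import Mathlib
import Groth.Agent.Lib.Helper6.ET9

/-!
# Epp tower: the induction
-/

set_option autoImplicit false
universe u

namespace Groth.Agent.H6.EppTower

open IsLocalRing Groth.Agent.H8

variable {Ω : Type u} [Field Ω] {V : ValuationSubring Ω}

section Induction

/-- Characteristic data: equal characteristic `p`, or mixed characteristic with `ζ_p` and
`(-p)^{1/(p-1)}` in `K`. -/
def CharData (p : ℕ) (K : Subfield Ω) : Prop :=
  CharP Ω p ∨ (CharZero Ω ∧ ∃ ζ ∈ K, ∃ ϖ ∈ K, IsPrimitiveRoot ζ p ∧ ϖ ^ (p - 1) = -(p : Ω))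

theorem CharData.mono {p : ℕ} {K F : Subfield Ω} (h : CharData p K) (hKF : K ≤ F) :
    CharData p F := by
  rcases h with h | ⟨h0, ζ, hζ, ϖ, hϖ, h1, h2⟩
  · exact Or.inl h
  · exact Or.inr ⟨h0, ζ, hKF hζ, ϖ, hKF hϖ, h1, h2⟩

theorem CharData.char {p : ℕ} {K : Subfield Ω} (h : CharData p K) : CharZero Ω ∨ CharP Ω p := by
  rcases h with h | ⟨h0, -⟩
  · exact Or.inr h
  · exact Or.inl h0

variable [IsAlgClosed Ω] {p : ℕ} [hp : Fact p.Prime]

theorem one_step {K L : Subfield Ω} [Fact (K ≤ L)] (hB : Base V p K L) (hc : CharData p K)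
    (L₁ : Subfield Ω) [Fact (L ≤ L₁)] [Fact (K ≤ L₁)] [FiniteDimensional L L₁]
    (hstep : StepProp p L L₁) : StepGoal V K L₁ := by
  rcases hstep.2 with ⟨-, hpi, hdeg⟩ | ⟨hgal, hdeg⟩ | hnd
  · haveI := hpi
    exact step_insep L₁ hB hdeg
  · haveI := hgal
    rcases hc with hcp | ⟨hc0, ζ, hζK, ϖ, hϖK, hζ, hϖ⟩
    · haveI := hcp
      exact step_galois_charP L₁ hB hdeg
    · haveI := hc0
      exact step_galois_mixed L₁ hB hdeg ζ ϖ hζK hϖK hζ hϖ
  · exact step_tame L₁ hB hnd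

theorem le_of_finrank_eq_one (L M : Subfield Ω) [Fact (L ≤ M)] (h : Module.finrank L M = 1) :
    M ≤ L := by
  intro x hx
  have h1 : (⊥ : IntermediateField L M) = ⊤ :=
    IntermediateField.bot_eq_top_iff_finrank_eq_one.mpr h
  have h2 : (⟨x, hx⟩ : M) ∈ (⊥ : IntermediateField L M) := by rw [h1]; trivial
  obtain ⟨y, hy⟩ := IntermediateField.mem_bot.mp h2
  have : (y : Ω) = x := congrArg Subtype.val hy
  exact this ▸ y.2

/-- The tower lemma in internal form. -/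
theorem tower_ind : ∀ n : ℕ, ∀ (K L M : Subfield Ω) [Fact (K ≤ L)] [Fact (L ≤ M)]
    [FiniteDimensional L M] [Normal L M], Base V p K L → CharData p K →
    Module.finrank L M ≤ n →
    ∃ (F : Subfield Ω) (hKF : K ≤ F), (haveI := Fact.mk hKF; FiniteDimensional K F) ∧
      WU V F (M ⊔ F) := by
  intro n
  induction n with
  | zero =>
    intro K L M _ _ _ _ _ _ h
    have := Module.finrank_pos (R := L) (M := M)
    omega
  | succ n ih =>
    intro K L M _ _ _ _ hB hc hn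
    have hKL : K ≤ L := Fact.out
    have hLM : L ≤ M := Fact.out
    by_cases h1 : Module.finrank L M = 1
    · have hML : M ≤ L := le_of_finrank_eq_one L M h1
      refine ⟨K, le_rfl, finiteDimensional_self K, ?_⟩
      have : M ⊔ K = L := le_antisymm (sup_le hML hKL) (hLM.trans le_sup_left)
      rw [this]
      exact hB.wu
    · obtain ⟨L₁, hLL₁, hL₁M, hstep⟩ := exists_step_sub p L M hc.char h1
      haveI : Fact (L ≤ L₁) := ⟨hLL₁⟩
      haveI : Fact (L₁ ≤ M) := ⟨hL₁M⟩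
      haveI : Fact (K ≤ L₁) := ⟨hKL.trans hLL₁⟩
      haveI : FiniteDimensional L L₁ := FiniteDimensional.left L L₁ M
      haveI : FiniteDimensional L₁ M := FiniteDimensional.right L L₁ M
      haveI : Normal L₁ M := Normal.tower_top_of_normal L L₁ M
      obtain ⟨F₁, hKF₁, hfin₁, hwu₁⟩ := one_step hB hc L₁ hstep
      haveI : Fact (K ≤ F₁) := ⟨hKF₁⟩
      haveI := hfin₁
      haveI : Fact (L ≤ L₁ ⊔ F₁) := ⟨hLL₁.trans le_sup_left⟩
      haveI : Fact (K ≤ L₁ ⊔ F₁) := ⟨hKF₁.trans le_sup_right⟩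
      haveI : FiniteDimensional L₁ (L₁ ⊔ F₁ : Subfield Ω) := (finite_sup K F₁ L₁).1
      haveI : FiniteDimensional L (L₁ ⊔ F₁ : Subfield Ω) := finite_trans L L₁ (L₁ ⊔ F₁)
      have hB' : Base V p F₁ (L₁ ⊔ F₁) := hB.baseChange F₁ (L₁ ⊔ F₁) hwu₁
      haveI : Normal (L₁ ⊔ F₁ : Subfield Ω) ((L₁ ⊔ F₁) ⊔ M : Subfield Ω) :=
        normal_sup L₁ M (L₁ ⊔ F₁)
      obtain ⟨hfinM', hdegM'⟩ := finite_sup L₁ M (L₁ ⊔ F₁)
      haveI := hfinM'
      have hmul : Module.finrank L L₁ * Module.finrank L₁ M = Module.finrank L M :=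
        Module.finrank_mul_finrank L L₁ M
      have hpos : 0 < Module.finrank L₁ M := Module.finrank_pos
      have hlt : Module.finrank L₁ M < Module.finrank L M := by
        have := hstep.1
        nlinarith
      have hdeg' : Module.finrank (L₁ ⊔ F₁ : Subfield Ω) ((L₁ ⊔ F₁) ⊔ M : Subfield Ω) ≤ n := by
        omega
      obtain ⟨F₂, hF₁F₂, hfin₂, hwu₂⟩ :=
        ih F₁ (L₁ ⊔ F₁) ((L₁ ⊔ F₁) ⊔ M) hB' (hc.mono hKF₁) hdeg'
      haveI : Fact (F₁ ≤ F₂) := ⟨hF₁F₂⟩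
      haveI := hfin₂
      haveI : Fact (K ≤ F₂) := ⟨hKF₁.trans hF₁F₂⟩
      refine ⟨F₂, hKF₁.trans hF₁F₂, finite_trans K F₁ F₂, ?_⟩
      have heq : ((L₁ ⊔ F₁) ⊔ M) ⊔ F₂ = M ⊔ F₂ :=
        le_antisymm
          (sup_le (sup_le (sup_le (hL₁M.trans le_sup_left) (hF₁F₂.trans le_sup_right))
            le_sup_left) le_sup_right)
          (sup_le (le_sup_right.trans le_sup_left) le_sup_right)
      rw [← heq]
      exact hwu₂

end Induction

end Groth.Agent.H6.EppTower
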