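import Mathlib
import Groth.Agent.Lib.Helper6.ET10

/-!
# Epp tower: internal form of the tower lemma in both characteristic cases; normal enlargement
-/

set_option autoImplicit false
universe u

namespace Groth.Agent.H6.EppTower

open IsLocalRing Groth.Agent.H8

variable {Ω : Type u} [Field Ω] {V : ValuationSubring Ω}

section Internal

theorem WU.mono {F N N' : Subfield Ω} (h : WU V F N) (hN : N' ≤ N) : WU V F N' :=
  fun y hy hlt => h y (hN hy) hlt

/-- The subfield generated over `K` by finitely many integral elements. -/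
theorem exists_finite_extension (K : Subfield Ω) (S : Set Ω) [Finite S]
    (hS : ∀ x ∈ S, IsIntegral K x) :
    ∃ (K' : Subfield Ω) (h : K ≤ K'), S ⊆ K' ∧ (haveI := Fact.mk h; FiniteDimensional K K') := by
  let Y : IntermediateField K Ω := IntermediateField.adjoin K S
  have hKY : K ≤ Y.toSubfield := fun x hx => Y.algebraMap_mem ⟨x, hx⟩
  haveI : Fact (K ≤ Y.toSubfield) := ⟨hKY⟩
  haveI : FiniteDimensional K Y := IntermediateField.finiteDimensional_adjoin hS
  exact ⟨Y.toSubfield, hKY, IntermediateField.subset_adjoin K S,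
    (equivOfEq K Y.toSubfield Y rfl).symm.toLinearEquiv.finiteDimensional⟩

variable [IsAlgClosed Ω] {p : ℕ} [hp : Fact p.Prime]

/-- The tower lemma, internal form. -/
theorem tower_internal (K L M : Subfield Ω) [Fact (K ≤ L)] [Fact (L ≤ M)]
    [FiniteDimensional L M] [Normal L M] (hB : Base V p K L) (hchar : CharZero Ω ∨ CharP Ω p) :
    ∃ (F : Subfield Ω) (hKF : K ≤ F), (haveI := Fact.mk hKF; FiniteDimensional K F) ∧
      WU V F (M ⊔ F) := by
  rcases hchar with h0 | hpc
  · haveI := h0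
    haveI := hB.dvrK
    haveI := hB.dvrL
    haveI := hB.complK
    haveI := hB.complL
    haveI := hB.algClosed
    haveI : NeZero ((p : ℕ) : Ω) := ⟨Nat.cast_ne_zero.mpr hp.out.ne_zero⟩
    obtain ⟨ζ, hζ⟩ := HasEnoughRootsOfUnity.exists_primitiveRoot Ω p
    have hp1 : 0 < p - 1 := by
      have := hp.out.two_le
      omega
    obtain ⟨ϖ, hϖ⟩ := IsAlgClosed.exists_pow_nat_eq (-(p : Ω)) hp1
    have hζint : IsIntegral K ζ := by
      apply IsIntegral.of_pow hp.out.pos
      rw [hζ.pow_eq_one]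
      exact isIntegral_one
    have hϖint : IsIntegral K ϖ := by
      apply IsIntegral.of_pow hp1
      rw [hϖ]
      have : -(p : Ω) = algebraMap K Ω (-(p : K)) := by
        rw [map_neg, map_natCast]
      rw [this]
      exact isIntegral_algebraMap
    obtain ⟨K', hKK', hS, hfin⟩ := exists_finite_extension K {ζ, ϖ} (by
      intro x hx
      rcases hx with rfl | rfl
      · exact hζint
      · exact hϖint)
    haveI : Fact (K ≤ K') := ⟨hKK'⟩
    haveI := hfin
    have hKL : K ≤ L := Fact.out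
    haveI : Fact (K ≤ L ⊔ K') := ⟨hKL.trans le_sup_left⟩
    haveI : FiniteDimensional L (L ⊔ K' : Subfield Ω) := (finite_sup K K' L).1
    have hwu' : WU V K' (L ⊔ K') := wu_stable V K K' L hB.wu
    have hB' : Base V p K' (L ⊔ K') := hB.baseChange K' (L ⊔ K') hwu'
    haveI : Normal (L ⊔ K' : Subfield Ω) ((L ⊔ K') ⊔ M : Subfield Ω) := normal_sup L M (L ⊔ K')
    haveI : FiniteDimensional (L ⊔ K' : Subfield Ω) ((L ⊔ K') ⊔ M : Subfield Ω) :=
      (finite_sup L M (L ⊔ K')).1
    have hc' : CharData p K' :=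
      Or.inr ⟨h0, ζ, hS (Set.mem_insert ζ {ϖ}), ϖ, hS (Set.mem_insert_of_mem ζ rfl), hζ, hϖ⟩
    obtain ⟨F, hK'F, hfinF, hwu⟩ :=
      tower_ind _ K' (L ⊔ K') ((L ⊔ K') ⊔ M) hB' hc' le_rfl
    haveI : Fact (K' ≤ F) := ⟨hK'F⟩
    haveI := hfinF
    haveI : Fact (K ≤ F) := ⟨hKK'.trans hK'F⟩
    refine ⟨F, hKK'.trans hK'F, finite_trans K K' F, ?_⟩
    exact hwu.mono (sup_le (le_sup_right.trans le_sup_left) le_sup_right)
  · exact tower_ind _ K L M hB (Or.inl hpc) le_rfl

/-- Enlarging an internal weak solution to a normal extension of `K`. -/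
theorem exists_normal_enlargement (K L M : Subfield Ω) [Fact (K ≤ L)] [Fact (L ≤ M)]
    [FiniteDimensional L M] (hB : Base V p K L) (F : Subfield Ω) [Fact (K ≤ F)]
    [FiniteDimensional K F] (hwu : WU V F (M ⊔ F)) :
    ∃ (F' : Subfield Ω) (hKF' : K ≤ F'),
      (haveI := Fact.mk hKF'; FiniteDimensional K F' ∧ Normal K F') ∧ WU V F' (M ⊔ F') := by
  haveI := hB.dvrK
  haveI := hB.dvrL
  haveI := hB.complK
  haveI := hB.complL
  haveI := hB.algClosed
  have hKL : K ≤ L := Fact.out
  have hLM : L ≤ M := Fact.out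
  have hKF : K ≤ F := Fact.out
  haveI : FiniteDimensional K (ext K F) := (equivExt K F).toLinearEquiv.finiteDimensional
  haveI : Algebra.IsAlgebraic K (ext K F) := Algebra.IsAlgebraic.of_finite _ _
  let Y : IntermediateField K Ω := IntermediateField.normalClosure K (ext K F) Ω
  haveI : IsNormalClosure K (ext K F) Y :=
    Algebra.IsAlgebraic.isNormalClosure_normalClosure (fun x => IsAlgClosed.splits _)
  haveI : Normal K Y := IsNormalClosure.normal (K := ext K F)
  haveI : FiniteDimensional K Y := normalClosure.is_finiteDimensional K _ Ω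
  have hKY : K ≤ Y.toSubfield := fun x hx => Y.algebraMap_mem ⟨x, hx⟩
  have hFY : F ≤ Y.toSubfield := fun x hx =>
    (IntermediateField.le_normalClosure (ext K F)) (show x ∈ ext K F from hx)
  haveI : Fact (K ≤ Y.toSubfield) := ⟨hKY⟩
  haveI : Fact (F ≤ Y.toSubfield) := ⟨hFY⟩
  let eY := equivOfEq K Y.toSubfield Y rfl
  haveI : FiniteDimensional K Y.toSubfield := eY.symm.toLinearEquiv.finiteDimensional
  haveI : Normal K Y.toSubfield := Normal.of_algEquiv eY.symm
  haveI : FiniteDimensional F Y.toSubfield := FiniteDimensional.right K F Y.toSubfield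
  -- the valuation rings
  haveI := isDVR_O_of_finite V K F
  haveI := isAdicComplete_O_of_finite V K F
  haveI := isAlgClosed_residue_of_finite V K F
  haveI : Fact (K ≤ M) := ⟨hKL.trans hLM⟩
  haveI : Fact (L ≤ M ⊔ F) := ⟨hLM.trans le_sup_left⟩
  haveI : FiniteDimensional M (M ⊔ F : Subfield Ω) := (finite_sup K F M).1
  haveI : FiniteDimensional L (M ⊔ F : Subfield Ω) := finite_trans L M (M ⊔ F)
  haveI := isDVR_O_of_finite V L (M ⊔ F)
  haveI := isAdicComplete_O_of_finite V L (M ⊔ F)
  have h1 : WU V Y.toSubfield ((M ⊔ F) ⊔ Y.toSubfield) := wu_stable V F Y.toSubfield (M ⊔ F) hwu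
  refine ⟨Y.toSubfield, hKY, ⟨inferInstance, inferInstance⟩, ?_⟩
  exact h1.mono (sup_le (le_sup_left.trans le_sup_left) le_sup_right)

end Internal

end Groth.Agent.H6.EppTower
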