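import Mathlib
import Groth.Agent.Lib.Helper6.ET11

/-!
# Epp tower: from an internal weak solution (normal over `K`) to an official weak solution
-/

set_option autoImplicit false
universe u

namespace Groth.Agent.H6.EppTower

open IsLocalRing Groth.Agent.H8 TensorProduct

variable {Ω : Type u} [Field Ω] [IsAlgClosed Ω] (V : ValuationSubring Ω)

section Official

variable (C K M : Type u) [CommRing C] [IsLocalRing C] [Field K] [Field M]
  [Algebra C M] [Algebra K M] [Algebra M Ω] [Algebra K Ω] [IsScalarTower K M Ω]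

omit [IsAlgClosed Ω] in
/-- A compositum of `M` and a finite extension `F` of `K` is finite over `M`. -/
theorem finite_of_adjoin_eq_top (F M' : Type u) [Field F] [Field M'] [Algebra K F]
    [FiniteDimensional K F] [Algebra K M'] [Algebra M M'] [Algebra F M'] [IsScalarTower K M M']
    [IsScalarTower K F M']
    (hadj : Algebra.adjoin M (Set.range (algebraMap F M')) = ⊤) : FiniteDimensional M M' := by
  let g : M ⊗[K] F →ₐ[M] M' :=
    Algebra.TensorProduct.productLeftAlgHom (Algebra.ofId M M') (IsScalarTower.toAlgHom K F M')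
  have hsurj : Function.Surjective g := by
    rw [← AlgHom.range_eq_top, eq_top_iff, ← hadj]
    apply Algebra.adjoin_le
    rintro _ ⟨x, rfl⟩
    exact ⟨1 ⊗ₜ x, by simp [g]⟩
  exact Module.Finite.of_surjective g.toLinearMap hsurj

theorem weakSolution_of_internal
    (hdom : EtRam.Dominates C ((algebraMap M Ω).comp (algebraMap C M)) V)
    (huniq : ∀ (M' : Type u) [Field M'] [Algebra M M'] [FiniteDimensional M M']
      (W₁ W₂ : ValuationSubring M'),
      EtRam.Dominates C ((algebraMap M M').comp (algebraMap C M)) W₁ →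
      EtRam.Dominates C ((algebraMap M M').comp (algebraMap C M)) W₂ → W₁ = W₂)
    (F : Subfield Ω) (hKF : (algebraMap K Ω).fieldRange ≤ F)
    (hfin : haveI := Fact.mk hKF; FiniteDimensional (algebraMap K Ω).fieldRange F)
    (hnorm : haveI := Fact.mk hKF; Normal (algebraMap K Ω).fieldRange F)
    (hwu : WU V F ((algebraMap M Ω).fieldRange ⊔ F)) :
    letI : Algebra K F :=
      ((Subfield.inclusion hKF).comp (algebraMap K Ω).rangeRestrictField).toAlgebra
    FiniteDimensional K F ∧ EtRam.IsWeakSolution C K M F := by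
  haveI : Fact ((algebraMap K Ω).fieldRange ≤ F) := ⟨hKF⟩
  haveI := hfin
  haveI := hnorm
  letI algKF : Algebra K F :=
    ((Subfield.inclusion hKF).comp (algebraMap K Ω).rangeRestrictField).toAlgebra
  -- finiteness over `K`
  have hfinK : FiniteDimensional K F := by
    letI : Algebra K (algebraMap K Ω).fieldRange := (algebraMap K Ω).rangeRestrictField.toAlgebra
    haveI : IsScalarTower K (algebraMap K Ω).fieldRange F :=
      IsScalarTower.of_algebraMap_eq (fun _ => rfl)
    haveI : Module.Finite K (algebraMap K Ω).fieldRange :=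
      Module.Finite.of_surjective (Algebra.linearMap K (algebraMap K Ω).fieldRange) (by
        rintro ⟨_, ⟨x, rfl⟩⟩
        exact ⟨x, rfl⟩)
    exact Module.Finite.trans (algebraMap K Ω).fieldRange F
  refine ⟨hfinK, ?_⟩
  haveI := hfinK
  intro M' _ _ _ _ _ _ hadj W' hW'
  haveI : FiniteDimensional M M' := finite_of_adjoin_eq_top K M F M' hadj
  haveI : Algebra.IsAlgebraic M M' := Algebra.IsAlgebraic.of_finite M M'
  let τ : M' →ₐ[M] Ω := IsAlgClosed.lift
  -- uniqueness of the valuation ring
  have hdom' : EtRam.Dominates C ((algebraMap M M').comp (algebraMap C M)) (V.comap τ) := by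
    apply RI.dominates_comap_of_comp (j := (τ : M' →+* Ω))
    have : (τ : M' →+* Ω).comp ((algebraMap M M').comp (algebraMap C M)) =
        (algebraMap M Ω).comp (algebraMap C M) := by
      ext c
      exact τ.commutes (algebraMap C M c)
    rw [this]
    exact hdom
  obtain rfl : W' = V.comap (τ : M' →+* Ω) := huniq M' W' _ hW' hdom'
  -- the embedding of `F` has image `F`
  have hτK : ∀ k : K, τ (algebraMap K M' k) = algebraMap K Ω k := by
    intro k
    rw [IsScalarTower.algebraMap_apply K M M', τ.commutes, ← IsScalarTower.algebraMap_apply]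
  let g' : ext (algebraMap K Ω).fieldRange F →ₐ[(algebraMap K Ω).fieldRange] Ω :=
    { toFun := fun x => τ (algebraMap F M' ⟨(x : Ω), x.2⟩)
      map_one' := by
        have : (⟨((1 : ext (algebraMap K Ω).fieldRange F) : Ω), (1 : ext _ F).2⟩ : F) = 1 := rfl
        rw [this, map_one, map_one]
      map_mul' := fun x y => by
        have : (⟨((x * y : ext (algebraMap K Ω).fieldRange F) : Ω), (x * y).2⟩ : F) =
            ⟨(x : Ω), x.2⟩ * ⟨(y : Ω), y.2⟩ := rfl
        rw [this, map_mul, map_mul]
      map_zero' := by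
        have : (⟨((0 : ext (algebraMap K Ω).fieldRange F) : Ω), (0 : ext _ F).2⟩ : F) = 0 := rfl
        rw [this, map_zero, map_zero]
      map_add' := fun x y => by
        have : (⟨((x + y : ext (algebraMap K Ω).fieldRange F) : Ω), (x + y).2⟩ : F) =
            ⟨(x : Ω), x.2⟩ + ⟨(y : Ω), y.2⟩ := rfl
        rw [this, map_add, map_add]
      commutes' := by
        rintro ⟨_, ⟨k, rfl⟩⟩
        have h1 : (⟨((algebraMap (algebraMap K Ω).fieldRange
            (ext (algebraMap K Ω).fieldRange F) ⟨algebraMap K Ω k, ⟨k, rfl⟩⟩ :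
            ext (algebraMap K Ω).fieldRange F) : Ω), (algebraMap (algebraMap K Ω).fieldRange
            (ext (algebraMap K Ω).fieldRange F) ⟨algebraMap K Ω k, ⟨k, rfl⟩⟩).2⟩ : F) =
            algebraMap K F k := rfl
        show τ (algebraMap F M' _) = _
        rw [h1, ← IsScalarTower.algebraMap_apply K F M', hτK]
        rfl }
  haveI : Normal (algebraMap K Ω).fieldRange (ext (algebraMap K Ω).fieldRange F) :=
    Normal.of_algEquiv (equivExt (algebraMap K Ω).fieldRange F)
  have hrange : g'.fieldRange = ext (algebraMap K Ω).fieldRange F :=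
    AlgHom.fieldRange_of_normal g'
  have hτF : ∀ a : F, τ (algebraMap F M' a) ∈ F := by
    intro a
    have : g' ⟨(a : Ω), a.2⟩ ∈ g'.fieldRange := ⟨_, rfl⟩
    rw [hrange] at this
    exact this
  have hFτ : ∀ a' ∈ F, ∃ a : F, τ (algebraMap F M' a) = a' := by
    intro a' ha'
    have : a' ∈ g'.fieldRange := by
      rw [hrange]
      exact ha'
    obtain ⟨x, hx⟩ := this
    exact ⟨⟨(x : Ω), x.2⟩, hx⟩
  -- the image of `M'` lies in the compositum
  have hτM' : ∀ y : M', τ y ∈ (algebraMap M Ω).fieldRange ⊔ F := by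
    intro y
    have hy : y ∈ Algebra.adjoin M (Set.range (algebraMap F M')) := by rw [hadj]; trivial
    induction hy using Algebra.adjoin_induction with
    | mem y hy =>
      obtain ⟨a, rfl⟩ := hy
      exact (le_sup_right : F ≤ (algebraMap M Ω).fieldRange ⊔ F) (hτF a)
    | algebraMap m =>
      rw [τ.commutes]
      exact (le_sup_left : (algebraMap M Ω).fieldRange ≤ (algebraMap M Ω).fieldRange ⊔ F)
        ⟨m, rfl⟩
    | add y z _ _ hy hz =>
      rw [map_add]
      exact add_mem hy hz
    | mul y z _ _ hy hz =>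
      rw [map_mul]
      exact mul_mem hy hz
  rw [RI.isWeaklyUnramified_comap_iff]
  intro y hy
  have hequiv := RI.isEquiv_comap V (τ : M' →+* Ω)
  have hy' : V.valuation (τ y) < 1 := hequiv.lt_one_iff_lt_one.mp hy
  obtain ⟨a', ha'F, ha'1, hya'⟩ := hwu (τ y) (hτM' y) hy'
  obtain ⟨a, rfl⟩ := hFτ a' ha'F
  exact ⟨a, hequiv.lt_one_iff_lt_one.mpr ha'1, (hequiv y (algebraMap F M' a)).mpr hya'⟩

end Official

end Groth.Agent.H6.EppTower
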