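import Mathlib
import Groth.Agent.Lib.Helper6.ET12

/-!
# Epp tower: transfer of the abstract hypotheses to the internal setting
-/

set_option autoImplicit false
universe u

namespace Groth.Agent.H6.EppTower

open IsLocalRing Groth.Agent.H8

variable {Ω : Type u} [Field Ω] (V : ValuationSubring Ω)

section Transfer

variable (R E : Type u) [CommRing R] [IsDomain R] [IsDiscreteValuationRing R] [Field E]
  [Algebra R E] [IsFractionRing R E] [Algebra E Ω]

/-- The ring homomorphism from a DVR dominated by `V` to the valuation ring of the image of its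
fraction field. -/
def toO (hdom : EtRam.Dominates R ((algebraMap E Ω).comp (algebraMap R E)) V) :
    R →+* O V (algebraMap E Ω).fieldRange where
  toFun r := ⟨⟨algebraMap E Ω (algebraMap R E r), ⟨_, rfl⟩⟩, hdom.1 r⟩
  map_one' := by
    apply Subtype.ext; apply Subtype.ext
    show algebraMap E Ω (algebraMap R E 1) = 1
    rw [map_one, map_one]
  map_mul' x y := by
    apply Subtype.ext; apply Subtype.ext
    show algebraMap E Ω (algebraMap R E (x * y)) =
      algebraMap E Ω (algebraMap R E x) * algebraMap E Ω (algebraMap R E y)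
    rw [map_mul, map_mul]
  map_zero' := by
    apply Subtype.ext; apply Subtype.ext
    show algebraMap E Ω (algebraMap R E 0) = 0
    rw [map_zero, map_zero]
  map_add' x y := by
    apply Subtype.ext; apply Subtype.ext
    show algebraMap E Ω (algebraMap R E (x + y)) =
      algebraMap E Ω (algebraMap R E x) + algebraMap E Ω (algebraMap R E y)
    rw [map_add, map_add]

variable {V R E}

theorem toO_bijective (hdom : EtRam.Dominates R ((algebraMap E Ω).comp (algebraMap R E)) V) :
    Function.Bijective (toO V R E hdom) := by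
  constructor
  · intro x y hxy
    have h1 : algebraMap E Ω (algebraMap R E x) = algebraMap E Ω (algebraMap R E y) :=
      congrArg (fun z : O V (algebraMap E Ω).fieldRange => ((z : (algebraMap E Ω).fieldRange) : Ω))
        hxy
    exact IsFractionRing.injective R E ((algebraMap E Ω).injective h1)
  · rintro ⟨⟨_, ⟨z, rfl⟩⟩, hz⟩
    have hz1 : V.valuation (algebraMap E Ω z) ≤ 1 := (V.valuation_le_one_iff _).mpr hz
    suffices h : ∃ r : R, algebraMap R E r = z by
      obtain ⟨r, rfl⟩ := h
      exact ⟨r, rfl⟩
    by_cases hz0 : z = 0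
    · exact ⟨0, by rw [hz0, map_zero]⟩
    rcases ValuationRing.isInteger_or_isInteger R z with ⟨r, hr⟩ | ⟨r, hr⟩
    · exact ⟨r, hr⟩
    · by_cases hu : IsUnit r
      · obtain ⟨u, rfl⟩ := hu
        refine ⟨((u⁻¹ : Rˣ) : R), ?_⟩
        have h1 : algebraMap R E (u : R) * algebraMap R E ((u⁻¹ : Rˣ) : R) = 1 := by
          rw [← map_mul, Units.mul_inv, map_one]
        rw [hr] at h1
        calc algebraMap R E ((u⁻¹ : Rˣ) : R) = z * (z⁻¹ * algebraMap R E ((u⁻¹ : Rˣ) : R)) := by
              rw [← mul_assoc, mul_inv_cancel₀ hz0, one_mul]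
          _ = z := by rw [h1, mul_one]
      · exfalso
        have hm : r ∈ maximalIdeal R := (mem_maximalIdeal r).mpr (mem_nonunits_iff.mpr hu)
        have h2 := hdom.2 r hm
        have h3 : V.valuation (algebraMap E Ω z⁻¹) < 1 := by
          rw [← hr]
          exact h2
        rw [map_inv₀, map_inv₀] at h3
        have hne : V.valuation (algebraMap E Ω z) ≠ 0 :=
          (Valuation.ne_zero_iff _).mpr ((_root_.map_ne_zero _).mpr hz0)
        have h5 : 1 ≤ (V.valuation (algebraMap E Ω z))⁻¹ :=
          (one_le_inv₀ (zero_lt_iff.mpr hne)).mpr hz1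
        exact absurd h3 (not_lt.mpr h5)

/-- The ring isomorphism `R ≃ O (image of E)`. -/
noncomputable def equivO (hdom : EtRam.Dominates R ((algebraMap E Ω).comp (algebraMap R E)) V) :
    R ≃+* O V (algebraMap E Ω).fieldRange :=
  RingEquiv.ofBijective (toO V R E hdom) (toO_bijective hdom)

theorem coe_equivO (hdom : EtRam.Dominates R ((algebraMap E Ω).comp (algebraMap R E)) V) (r : R) :
    (((equivO hdom r : O V (algebraMap E Ω).fieldRange) : (algebraMap E Ω).fieldRange) : Ω) =
      algebraMap E Ω (algebraMap R E r) := rfl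

end Transfer

section BaseTransfer

variable {V} (p : ℕ) [hp : Fact p.Prime] (A B K L : Type u)
  [CommRing A] [IsDomain A] [IsDiscreteValuationRing A]
  [CommRing B] [IsDomain B] [IsDiscreteValuationRing B] [Algebra A B]
  [IsLocalHom (algebraMap A B)] [Field K] [Field L] [Algebra A K] [IsFractionRing A K]
  [Algebra B L] [IsFractionRing B L] [Algebra K L] [Algebra A L] [IsScalarTower A K L]
  [IsScalarTower A B L] [Algebra K Ω] [Algebra L Ω] [IsScalarTower K L Ω]

omit [Field Ω] in
theorem fieldRange_le_fieldRange [Field Ω] [Algebra K Ω] [Algebra L Ω] [IsScalarTower K L Ω] :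
    (algebraMap K Ω).fieldRange ≤ (algebraMap L Ω).fieldRange := by
  rintro _ ⟨k, rfl⟩
  exact ⟨algebraMap K L k, (IsScalarTower.algebraMap_apply K L Ω k).symm⟩

variable {A B K L}

theorem base_of_abstract
    (hdomA : EtRam.Dominates A ((algebraMap K Ω).comp (algebraMap A K)) V)
    (hdomB : EtRam.Dominates B ((algebraMap L Ω).comp (algebraMap B L)) V)
    [IsAlgClosed (ResidueField A)] [CharP (ResidueField A) p]
    [IsAdicComplete (maximalIdeal A) A] [IsAdicComplete (maximalIdeal B) B]
    (hw : EtRam.IsWeaklyUnramified A B)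
    (hk : ∀ x : ResidueField B, (∀ n : ℕ, ∃ y : ResidueField B, y ^ (p ^ n) = x) →
      x ∈ Set.range (algebraMap (ResidueField A) (ResidueField B))) :
    haveI : Fact ((algebraMap K Ω).fieldRange ≤ (algebraMap L Ω).fieldRange) :=
      ⟨fieldRange_le_fieldRange K L⟩
    Base V p (algebraMap K Ω).fieldRange (algebraMap L Ω).fieldRange := by
  haveI : Fact ((algebraMap K Ω).fieldRange ≤ (algebraMap L Ω).fieldRange) :=
    ⟨fieldRange_le_fieldRange K L⟩
  set eA := equivO hdomA with heA
  set eB := equivO hdomB with heB
  have hsq : ∀ a : A, algebraMap (O V (algebraMap K Ω).fieldRange)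
      (O V (algebraMap L Ω).fieldRange) (eA a) = eB (algebraMap A B a) := by
    intro a
    apply Subtype.ext
    apply Subtype.ext
    show algebraMap K Ω (algebraMap A K a) = algebraMap L Ω (algebraMap B L (algebraMap A B a))
    rw [← IsScalarTower.algebraMap_apply A B L, IsScalarTower.algebraMap_apply A K L,
      ← IsScalarTower.algebraMap_apply K L Ω]
  haveI dvrK : IsDiscreteValuationRing (O V (algebraMap K Ω).fieldRange) :=
    IsDiscreteValuationRing.RingEquivClass.isDiscreteValuationRing eA
  haveI dvrL : IsDiscreteValuationRing (O V (algebraMap L Ω).fieldRange) :=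
    IsDiscreteValuationRing.RingEquivClass.isDiscreteValuationRing eB
  have complK : IsAdicComplete (maximalIdeal (O V (algebraMap K Ω).fieldRange))
      (O V (algebraMap K Ω).fieldRange) := by
    rw [← map_ringEquiv_maximalIdeal eA, IsAdicComplete.congr_ringEquiv]
    infer_instance
  have complL : IsAdicComplete (maximalIdeal (O V (algebraMap L Ω).fieldRange))
      (O V (algebraMap L Ω).fieldRange) := by
    rw [← map_ringEquiv_maximalIdeal eB, IsAdicComplete.congr_ringEquiv]
    infer_instance
  have hsqres : ∀ r : ResidueField A,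
      algebraMap (ResidueField (O V (algebraMap K Ω).fieldRange))
        (ResidueField (O V (algebraMap L Ω).fieldRange)) (ResidueField.mapEquiv eA r) =
      ResidueField.mapEquiv eB (algebraMap (ResidueField A) (ResidueField B) r) := by
    intro r
    obtain ⟨a, rfl⟩ := residue_surjective r
    show algebraMap _ _ (residue _ (eA a)) = residue _ (eB (algebraMap A B a))
    rw [ResidueField.algebraMap_residue, hsq]
  refine ⟨dvrK, dvrL, complK, complL,
    IsAlgClosed.of_ringEquiv _ _ (ResidueField.mapEquiv eA),
    charP_of_injective_ringHom (ResidueField.mapEquiv eA).injective p, ?_, ?_⟩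
  · rw [wu_iff_weaklyUnramified]
    unfold EtRam.IsWeaklyUnramified at hw ⊢
    obtain ⟨π, hπirr⟩ := IsDiscreteValuationRing.exists_irreducible A
    have hA : maximalIdeal A = Ideal.span {π} := hπirr.maximalIdeal_eq
    have hB : maximalIdeal B = Ideal.span {algebraMap A B π} := by
      rw [← hw, hA, Ideal.map_span, Set.image_singleton]
    rw [← map_ringEquiv_maximalIdeal eA, ← map_ringEquiv_maximalIdeal eB, hA, hB, Ideal.map_span,
      Ideal.map_span, Ideal.map_span, Set.image_singleton, Set.image_singleton,
      Set.image_singleton, hsq]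
  · intro x hx
    obtain ⟨r, hr⟩ := hk ((ResidueField.mapEquiv eB).symm x) (by
      intro n
      obtain ⟨y, hy⟩ := hx n
      exact ⟨(ResidueField.mapEquiv eB).symm y, by rw [← map_pow, hy]⟩)
    refine ⟨ResidueField.mapEquiv eA r, ?_⟩
    rw [hsqres, hr, RingEquiv.apply_symm_apply]

end BaseTransfer

end Groth.Agent.H6.EppTower
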