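import Mathlib
import Groth.Agent.Lib.Helper6.ET13

/-!
# Epp tower: the tower lemma (Stacks, eliminating ramification: complete case with algebraically
closed residue field)
-/

set_option autoImplicit false
universe u

namespace Groth.Agent.H6.EppTower

open IsLocalRing Groth.Agent.H8

section Aux

variable {Ω : Type u} [Field Ω] {V : ValuationSubring Ω}

theorem dominates_of_tower (A B K L : Type u) [CommRing A] [IsLocalRing A] [CommRing B]
    [IsLocalRing B] [Algebra A B] [IsLocalHom (algebraMap A B)] [Field K] [Field L] [Algebra A K]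
    [Algebra B L] [Algebra K L] [Algebra A L] [IsScalarTower A K L] [IsScalarTower A B L]
    [Algebra K Ω] [Algebra L Ω] [IsScalarTower K L Ω]
    (h : EtRam.Dominates B ((algebraMap L Ω).comp (algebraMap B L)) V) :
    EtRam.Dominates A ((algebraMap K Ω).comp (algebraMap A K)) V := by
  have key : ∀ a : A, ((algebraMap K Ω).comp (algebraMap A K)) a =
      ((algebraMap L Ω).comp (algebraMap B L)) (algebraMap A B a) := by
    intro a
    show algebraMap K Ω (algebraMap A K a) = algebraMap L Ω (algebraMap B L (algebraMap A B a))
    rw [← IsScalarTower.algebraMap_apply A B L, IsScalarTower.algebraMap_apply A K L,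
      ← IsScalarTower.algebraMap_apply K L Ω]
  refine ⟨fun a => ?_, fun a ha => ?_⟩
  · rw [key]
    exact h.1 _
  · rw [key]
    apply h.2
    rw [mem_maximalIdeal, mem_nonunits_iff] at ha ⊢
    exact fun hu => ha (isUnit_of_map_unit (algebraMap A B) a hu)

/-- `L ≃ image of L in Ω`. -/
noncomputable def equivRange (L : Type u) [Field L] [Algebra L Ω] :
    L ≃+* (algebraMap L Ω).fieldRange :=
  RingEquiv.ofBijective (algebraMap L Ω).rangeRestrictField
    ⟨fun x y hxy => (algebraMap L Ω).injective (congrArg Subtype.val hxy),
      by rintro ⟨_, ⟨x, rfl⟩⟩; exact ⟨x, rfl⟩⟩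

theorem exists_normal_closure [IsAlgClosed Ω] (E F : Subfield Ω) [Fact (E ≤ F)]
    [FiniteDimensional E F] :
    ∃ (F' : Subfield Ω) (h : E ≤ F'), F ≤ F' ∧
      (haveI := Fact.mk h; FiniteDimensional E F' ∧ Normal E F') := by
  haveI : FiniteDimensional E (ext E F) := (equivExt E F).toLinearEquiv.finiteDimensional
  haveI : Algebra.IsAlgebraic E (ext E F) := Algebra.IsAlgebraic.of_finite _ _
  let Y : IntermediateField E Ω := IntermediateField.normalClosure E (ext E F) Ω
  haveI : IsNormalClosure E (ext E F) Y :=
    Algebra.IsAlgebraic.isNormalClosure_normalClosure (fun x => IsAlgClosed.splits _)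
  haveI : Normal E Y := IsNormalClosure.normal (K := ext E F)
  haveI : FiniteDimensional E Y := normalClosure.is_finiteDimensional E _ Ω
  have hEY : E ≤ Y.toSubfield := fun x hx => Y.algebraMap_mem ⟨x, hx⟩
  have hFY : F ≤ Y.toSubfield := fun x hx =>
    (IntermediateField.le_normalClosure (ext E F)) (show x ∈ ext E F from hx)
  haveI : Fact (E ≤ Y.toSubfield) := ⟨hEY⟩
  let eY := equivOfEq E Y.toSubfield Y rfl
  exact ⟨Y.toSubfield, hEY, hFY, eY.symm.toLinearEquiv.finiteDimensional,
    Normal.of_algEquiv eY.symm⟩

end Aux

/-- **Tower lemma.** -/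
theorem tower (p : ℕ) (hp : p.Prime) (A B C K L M : Type u)
    [CommRing A] [IsDomain A] [IsDiscreteValuationRing A] [CommRing B] [IsDomain B]
    [IsDiscreteValuationRing B]
    [CommRing C] [IsDomain C] [IsDiscreteValuationRing C]
    [Algebra A B] [Algebra B C] [Algebra A C] [IsScalarTower A B C]
    (hAB : Function.Injective (algebraMap A B)) (hBC : Function.Injective (algebraMap B C))
    [IsLocalHom (algebraMap A B)] [IsLocalHom (algebraMap B C)]
    [Field K] [Field L] [Field M] [Algebra A K] [IsFractionRing A K] [Algebra B L]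
    [IsFractionRing B L]
    [Algebra C M] [IsFractionRing C M] [Algebra K L] [Algebra L M] [Algebra K M]
    [IsScalarTower K L M]
    [Algebra A L] [IsScalarTower A K L] [IsScalarTower A B L] [Algebra B M] [IsScalarTower B L M]
    [IsScalarTower B C M]
    [Algebra A M] [IsScalarTower A K M] [IsScalarTower A C M]
    [IsAlgClosed (IsLocalRing.ResidueField A)] [CharP (IsLocalRing.ResidueField A) p]
    [IsAdicComplete (IsLocalRing.maximalIdeal A) A] [IsAdicComplete (IsLocalRing.maximalIdeal B) B]
    (hw : EtRam.IsWeaklyUnramified A B) [FiniteDimensional L M]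
    (hk : ∀ x : IsLocalRing.ResidueField B,
      (∀ n : ℕ, ∃ y : IsLocalRing.ResidueField B, y ^ (p ^ n) = x) ↔
      x ∈ Set.range (algebraMap (IsLocalRing.ResidueField A) (IsLocalRing.ResidueField B))) :
    ∃ (K₁ : Type u) (_ : Field K₁) (_ : Algebra K K₁), FiniteDimensional K K₁ ∧
      EtRam.IsWeakSolution C K M K₁ := by
  haveI := Fact.mk hp
  obtain ⟨V, hV⟩ := RI.exists_dominates_of_local
    ((algebraMap M (AlgebraicClosure M)).comp (algebraMap C M))
  have hVB : EtRam.Dominates B ((algebraMap L (AlgebraicClosure M)).comp (algebraMap B L)) V :=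
    dominates_of_tower B C L M hV
  have hVA : EtRam.Dominates A ((algebraMap K (AlgebraicClosure M)).comp (algebraMap A K)) V :=
    dominates_of_tower A B K L hVB
  haveI : Fact ((algebraMap K (AlgebraicClosure M)).fieldRange ≤
      (algebraMap L (AlgebraicClosure M)).fieldRange) := ⟨fieldRange_le_fieldRange K L⟩
  haveI : Fact ((algebraMap L (AlgebraicClosure M)).fieldRange ≤
      (algebraMap M (AlgebraicClosure M)).fieldRange) := ⟨fieldRange_le_fieldRange L M⟩
  have hB : Base V p (algebraMap K (AlgebraicClosure M)).fieldRange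
      (algebraMap L (AlgebraicClosure M)).fieldRange :=
    base_of_abstract p hVA hVB hw (fun x hx => (hk x).mp hx)
  -- finiteness of the images
  haveI : FiniteDimensional (algebraMap L (AlgebraicClosure M)).fieldRange
      (algebraMap M (AlgebraicClosure M)).fieldRange := by
    refine Module.Finite.of_equiv_equiv (A₁ := L) (B₁ := M)
      (equivRange (Ω := AlgebraicClosure M) L) (equivRange (Ω := AlgebraicClosure M) M) ?_
    ext l
    exact (IsScalarTower.algebraMap_apply L M (AlgebraicClosure M) l)
  obtain ⟨Msn, hLMsn, hMsMsn, hfinn, hnormn⟩ :=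
    exists_normal_closure (algebraMap L (AlgebraicClosure M)).fieldRange
      (algebraMap M (AlgebraicClosure M)).fieldRange
  haveI : Fact ((algebraMap L (AlgebraicClosure M)).fieldRange ≤ Msn) := ⟨hLMsn⟩
  haveI := hfinn
  haveI := hnormn
  -- the characteristic
  have hchar : CharZero (AlgebraicClosure M) ∨ CharP (AlgebraicClosure M) p := by
    obtain ⟨q, hq⟩ := CharP.exists K
    rcases Nat.eq_zero_or_pos q with rfl | hqpos
    · left
      haveI : CharZero K := CharP.charP_to_charZero K
      exact charZero_of_injective_algebraMap (algebraMap K (AlgebraicClosure M)).injective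
    · right
      have hqA : (q : A) = 0 := by
        apply IsFractionRing.injective A K
        rw [map_natCast, map_zero]
        exact CharP.cast_eq_zero K q
      have hqres : (q : ResidueField A) = 0 := by
        rw [← map_natCast (residue A), hqA, map_zero]
      have hpq : p ∣ q := (CharP.cast_eq_zero_iff (ResidueField A) p q).mp hqres
      have hqprime : q.Prime := (CharP.char_is_prime_or_zero K q).resolve_right hqpos.ne'
      have hpq' : p = q := (Nat.prime_dvd_prime_iff_eq hp hqprime).mp hpq
      subst hpq'
      exact charP_of_injective_algebraMap (algebraMap K (AlgebraicClosure M)).injective p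
  obtain ⟨F₀, hKF₀, hfin₀, hwu₀⟩ :=
    tower_internal (algebraMap K (AlgebraicClosure M)).fieldRange
      (algebraMap L (AlgebraicClosure M)).fieldRange Msn hB hchar
  haveI : Fact ((algebraMap K (AlgebraicClosure M)).fieldRange ≤ F₀) := ⟨hKF₀⟩
  haveI := hfin₀
  obtain ⟨F, hKF, ⟨hfinF, hnormF⟩, hwuF⟩ :=
    exists_normal_enlargement (algebraMap K (AlgebraicClosure M)).fieldRange
      (algebraMap L (AlgebraicClosure M)).fieldRange Msn hB F₀ hwu₀
  have hwuF' : WU V F ((algebraMap M (AlgebraicClosure M)).fieldRange ⊔ F) :=
    hwuF.mono (sup_le_sup_right hMsMsn F)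
  -- uniqueness of valuation rings over `C`
  have huniq : ∀ (M' : Type u) [Field M'] [Algebra M M'] [FiniteDimensional M M']
      (W₁ W₂ : ValuationSubring M'),
      EtRam.Dominates C ((algebraMap M M').comp (algebraMap C M)) W₁ →
      EtRam.Dominates C ((algebraMap M M').comp (algebraMap C M)) W₂ → W₁ = W₂ := by
    intro M' _ _ _ W₁ W₂ h₁ h₂
    letI : Algebra L M' := ((algebraMap M M').comp (algebraMap L M)).toAlgebra
    haveI : IsScalarTower L M M' := IsScalarTower.of_algebraMap_eq (fun _ => rfl)
    letI : Algebra B M' := ((algebraMap L M').comp (algebraMap B L)).toAlgebra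
    haveI : IsScalarTower B L M' := IsScalarTower.of_algebraMap_eq (fun _ => rfl)
    haveI : FiniteDimensional L M' := Module.Finite.trans M M'
    have hdomB : ∀ W : ValuationSubring M',
        EtRam.Dominates C ((algebraMap M M').comp (algebraMap C M)) W →
        EtRam.Dominates B (algebraMap B M') W := by
      intro W h
      have key : ∀ b : B, algebraMap B M' b =
          ((algebraMap M M').comp (algebraMap C M)) (algebraMap B C b) := by
        intro b
        show algebraMap M M' (algebraMap L M (algebraMap B L b)) =
          algebraMap M M' (algebraMap C M (algebraMap B C b))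
        rw [← IsScalarTower.algebraMap_apply B L M, ← IsScalarTower.algebraMap_apply B C M]
      refine ⟨fun b => ?_, fun b hb => ?_⟩
      · rw [key]
        exact h.1 _
      · rw [key]
        apply h.2
        rw [mem_maximalIdeal, mem_nonunits_iff] at hb ⊢
        exact fun hu => hb (isUnit_of_map_unit (algebraMap B C) b hu)
    exact dominating_unique (K := L) (hdomB W₂ h₂) (hdomB W₁ h₁)
  have hfinal := weakSolution_of_internal V C K M hV huniq F hKF hfinF hnormF hwuF'
  exact ⟨F, inferInstance,
    ((Subfield.inclusion hKF).comp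
      (algebraMap K (AlgebraicClosure M)).rangeRestrictField).toAlgebra, hfinal⟩

end Groth.Agent.H6.EppTower
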