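import Mathlib
import Groth.Agent.Lib.Helper6.ET14

/-!
# Epp, general case: value groups of subfields of a valued field, density
-/

set_option autoImplicit false
universe u

namespace Groth.Agent.H6.EppGen

open IsLocalRing Groth.Agent.H8 Groth.Agent.H6.EppTower

variable {Ω : Type u} [Field Ω] {V : ValuationSubring Ω}

section VLe

variable (V)

/-- The value group of `N` is contained in the value group of `F`. -/
def VLe (N F : Subfield Ω) : Prop := ∀ x ∈ N, ∃ a ∈ F, V.valuation a = V.valuation x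

/-- `E'` is `ϖ`-adically dense in `E`. -/
def Dense (ϖ : Ω) (E' E : Subfield Ω) : Prop :=
  ∀ x ∈ E, ∀ n : ℕ, ∃ a ∈ E', V.valuation (x - a) ≤ V.valuation ϖ ^ n

variable {V}

theorem VLe.trans {N F G : Subfield Ω} (h1 : VLe V N F) (h2 : VLe V F G) : VLe V N G := by
  intro x hx
  obtain ⟨a, ha, hax⟩ := h1 x hx
  obtain ⟨b, hb, hba⟩ := h2 a ha
  exact ⟨b, hb, hba.trans hax⟩

theorem VLe.mono_left {N N' F : Subfield Ω} (h : VLe V N F) (hN : N' ≤ N) : VLe V N' F :=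
  fun x hx => h x (hN hx)

theorem VLe.mono_right {N F F' : Subfield Ω} (h : VLe V N F) (hF : F ≤ F') : VLe V N F' := by
  intro x hx
  obtain ⟨a, ha, hax⟩ := h x hx
  exact ⟨a, hF ha, hax⟩

theorem VLe.of_le {N F : Subfield Ω} (h : N ≤ F) : VLe V N F := fun x hx => ⟨x, h hx, rfl⟩

theorem wu_of_vle {E F : Subfield Ω} (h : VLe V F E) : WU V E F := by
  intro y hy hlt
  obtain ⟨a, ha, hay⟩ := h y hy
  exact ⟨a, ha, hay ▸ hlt, hay.ge⟩

theorem vle_of_wu {E F : Subfield Ω} (hEF : E ≤ F) [IsDiscreteValuationRing (O V E)]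
    [IsDiscreteValuationRing (O V F)] (h : WU V E F) : VLe V F E := by
  obtain ⟨π, hπ0, hπ⟩ := exists_isU (V := V) E
  have hπF : IsU V F π := (wu_iff_isU hEF hπ).mp h
  intro x hx
  by_cases hx0 : x = 0
  · exact ⟨0, E.zero_mem, by rw [hx0]⟩
  rcases le_or_gt (V.valuation x) 1 with h1 | h1
  · obtain ⟨m, hm⟩ := exists_pow_eq_of_isU F hπF hπ0 hx hx0 h1
    exact ⟨π ^ m, E.pow_mem hπ.1 m, by rw [map_pow, hm]⟩
  · have hx1 : V.valuation x⁻¹ ≤ 1 := by
      rw [map_inv₀]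
      exact inv_le_one_of_one_le₀ h1.le
    obtain ⟨m, hm⟩ := exists_pow_eq_of_isU F hπF hπ0 (F.inv_mem hx) (inv_ne_zero hx0) hx1
    refine ⟨(π ^ m)⁻¹, E.inv_mem (E.pow_mem hπ.1 m), ?_⟩
    rw [map_inv₀, map_pow, ← hm, map_inv₀, inv_inv]

end VLe

section Arch

/-- Archimedean property of a discretely valued subfield. -/
theorem exists_pow_lt (E : Subfield Ω) [IsDiscreteValuationRing (O V E)] {ϖ : Ω} (hϖE : ϖ ∈ E)
    (hϖ : V.valuation ϖ < 1) {x : Ω} (hx : x ∈ E) (hx0 : x ≠ 0) :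
    ∃ n : ℕ, V.valuation ϖ ^ n < V.valuation x := by
  obtain ⟨π, hπ0, hπ⟩ := exists_isU (V := V) E
  have hϖπ : V.valuation ϖ ≤ V.valuation π := hπ.2.2 ϖ hϖE hϖ
  have hvπ0 : V.valuation π ≠ 0 := (Valuation.ne_zero_iff _).mpr hπ0
  rcases le_or_gt (V.valuation x) 1 with h1 | h1
  · obtain ⟨m, hm⟩ := exists_pow_eq_of_isU E hπ hπ0 hx hx0 h1
    refine ⟨m + 1, ?_⟩
    rw [hm]
    calc V.valuation ϖ ^ (m + 1) ≤ V.valuation π ^ (m + 1) := pow_le_pow_left₀ zero_le' hϖπ _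
      _ = V.valuation π ^ m * V.valuation π := pow_succ _ _
      _ < V.valuation π ^ m * 1 := by
          apply mul_lt_mul_of_pos_left hπ.2.1
          exact pow_pos (zero_lt_iff.mpr hvπ0) m
      _ = V.valuation π ^ m := mul_one _
  · exact ⟨1, by rw [pow_one]; exact hϖ.trans h1⟩

/-- Boundedness in a discretely valued subfield. -/
theorem exists_pow_mul_le_one (E : Subfield Ω) [IsDiscreteValuationRing (O V E)] {ϖ : Ω}
    (hϖE : ϖ ∈ E) (hϖ : V.valuation ϖ < 1) {x : Ω} (hx : x ∈ E) :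
    ∃ n : ℕ, V.valuation ϖ ^ n * V.valuation x ≤ 1 := by
  by_cases hx0 : x = 0
  · exact ⟨0, by rw [hx0, map_zero, mul_zero]; exact zero_le'⟩
  obtain ⟨n, hn⟩ := exists_pow_lt E hϖE hϖ (E.inv_mem hx) (inv_ne_zero hx0)
  refine ⟨n, ?_⟩
  rw [map_inv₀] at hn
  have hvx : 0 < V.valuation x := zero_lt_iff.mpr ((Valuation.ne_zero_iff _).mpr hx0)
  have := mul_le_mul_of_nonneg_right hn.le hvx.le
  rwa [inv_mul_cancel₀ hvx.ne'] at this

end Arch

section DenseSup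

variable {ϖ : Ω}

theorem vle_of_dense (N₂ : Subfield Ω) [IsDiscreteValuationRing (O V N₂)] (hϖN : ϖ ∈ N₂)
    (hϖ : V.valuation ϖ < 1) {E' E : Subfield Ω} (hE : E ≤ N₂) (hd : Dense V ϖ E' E) :
    VLe V E E' := by
  intro x hx
  by_cases hx0 : x = 0
  · exact ⟨0, E'.zero_mem, by rw [hx0]⟩
  obtain ⟨n, hn⟩ := exists_pow_lt N₂ hϖN hϖ (hE hx) hx0
  obtain ⟨a, ha, hxa⟩ := hd x hx n
  refine ⟨a, ha, ?_⟩
  have hlt : V.valuation (x - a) < V.valuation x := lt_of_le_of_lt hxa hn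
  have := Valuation.map_sub_eq_of_lt_left (V.valuation) hlt
  -- `v (x - (x - a)) = v x`
  have h2 : V.valuation (x - (x - a)) = V.valuation x := by
    rw [Valuation.map_sub_swap]
    exact Valuation.map_sub_eq_of_lt_right _ hlt
  rwa [sub_sub_cancel] at h2

end DenseSup

end Groth.Agent.H6.EppGen
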