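import Mathlib
import Groth.Agent.Lib.Helper6.EG1

set_option autoImplicit false
universe u

namespace Groth.Agent.H6.EppGen

open IsLocalRing Groth.Agent.H8 Groth.Agent.H6.EppTower

variable {Ω : Type u} [Field Ω] {V : ValuationSubring Ω}

section DenseSup

variable {ϖ : Ω}

theorem pow_le_pow_of_le {n m : ℕ} (hϖ : V.valuation ϖ < 1) (h : n ≤ m) :
    V.valuation ϖ ^ m ≤ V.valuation ϖ ^ n :=
  pow_le_pow_of_le_one zero_le' hϖ.le h

/-- Density is inherited by composita, inside a discretely valued field. -/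
theorem dense_sup (N₂ : Subfield Ω) [IsDiscreteValuationRing (O V N₂)] (hϖN : ϖ ∈ N₂)
    (hϖ : V.valuation ϖ < 1) {E' E P : Subfield Ω} (hE' : E' ≤ E) (hE : E ≤ N₂)
    (hP : P ≤ N₂) (hd : Dense V ϖ E' E) : Dense V ϖ (E' ⊔ P) (E ⊔ P) := by
  have hsup : E ⊔ P ≤ N₂ := sup_le hE hP
  have hsup' : E' ⊔ P ≤ E ⊔ P := sup_le_sup_right hE' P
  have key : ∀ x ∈ Subfield.closure ((E : Set Ω) ∪ P),
      x ∈ E ⊔ P ∧ ∀ n : ℕ, ∃ a ∈ E' ⊔ P, V.valuation (x - a) ≤ V.valuation ϖ ^ n := by
    intro x hx'
    induction hx' using Subfield.closure_induction with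
    | mem y hy =>
      rcases hy with hy | hy
      · refine ⟨(le_sup_left : E ≤ E ⊔ P) hy, fun n => ?_⟩
        obtain ⟨a, ha, h⟩ := hd y hy n
        exact ⟨a, (le_sup_left : E' ≤ E' ⊔ P) ha, h⟩
      · refine ⟨(le_sup_right : P ≤ E ⊔ P) hy, fun n => ⟨y, (le_sup_right : P ≤ E' ⊔ P) hy, ?_⟩⟩
        rw [sub_self, map_zero]
        exact zero_le'
    | one =>
      refine ⟨(E ⊔ P).one_mem, fun n => ⟨1, (E' ⊔ P).one_mem, ?_⟩⟩
      rw [sub_self, map_zero]
      exact zero_le'
    | add y z _ _ hy hz =>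
      refine ⟨(E ⊔ P).add_mem hy.1 hz.1, fun n => ?_⟩
      obtain ⟨a, ha, h1⟩ := hy.2 n
      obtain ⟨b, hb, h2⟩ := hz.2 n
      refine ⟨a + b, (E' ⊔ P).add_mem ha hb, ?_⟩
      have : y + z - (a + b) = (y - a) + (z - b) := by ring
      rw [this]
      exact (Valuation.map_add _ _ _).trans (max_le h1 h2)
    | neg y _ hy =>
      refine ⟨(E ⊔ P).neg_mem hy.1, fun n => ?_⟩
      obtain ⟨a, ha, h1⟩ := hy.2 n
      refine ⟨-a, (E' ⊔ P).neg_mem ha, ?_⟩
      have : -y - -a = -(y - a) := by ring
      rw [this, Valuation.map_neg]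
      exact h1
    | inv y _ hy =>
      refine ⟨(E ⊔ P).inv_mem hy.1, fun n => ?_⟩
      by_cases hy0 : y = 0
      · refine ⟨0, (E' ⊔ P).zero_mem, ?_⟩
        rw [hy0, inv_zero, sub_self, map_zero]
        exact zero_le'
      obtain ⟨k, hk⟩ := exists_pow_lt N₂ hϖN hϖ (hsup hy.1) hy0
      obtain ⟨a, ha, h1⟩ := hy.2 (n + 2 * k)
      have hlt : V.valuation (y - a) < V.valuation y := by
        refine lt_of_le_of_lt (h1.trans ?_) hk
        exact pow_le_pow_of_le hϖ (by omega)
      have hva : V.valuation a = V.valuation y := by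
        have h2 : V.valuation (y - (y - a)) = V.valuation y := by
          rw [Valuation.map_sub_swap]
          exact Valuation.map_sub_eq_of_lt_right _ hlt
        rwa [sub_sub_cancel] at h2
      have hvy : 0 < V.valuation y := zero_lt_iff.mpr ((Valuation.ne_zero_iff _).mpr hy0)
      have ha0 : a ≠ 0 := by
        intro h
        rw [h, map_zero] at hva
        exact hvy.ne hva
      refine ⟨a⁻¹, (E' ⊔ P).inv_mem ha, ?_⟩
      have hid : y⁻¹ - a⁻¹ = (a - y) * (y⁻¹ * a⁻¹) := by
        field_simp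
      rw [hid, map_mul, map_mul, map_inv₀, map_inv₀, hva, Valuation.map_sub_swap]
      -- `v (y - a) ≤ ϖ^(n+2k)`, and `ϖ^(2k) ≤ (v y)^2`
      have h3 : V.valuation ϖ ^ (2 * k) ≤ V.valuation y * V.valuation y := by
        rw [two_mul, pow_add]
        exact mul_le_mul' hk.le hk.le
      have h4 : V.valuation (y - a) ≤ V.valuation ϖ ^ n * (V.valuation y * V.valuation y) := by
        refine h1.trans ?_
        rw [pow_add]
        exact mul_le_mul' le_rfl h3
      calc V.valuation (y - a) * ((V.valuation y)⁻¹ * (V.valuation y)⁻¹)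
          ≤ V.valuation ϖ ^ n * (V.valuation y * V.valuation y) *
            ((V.valuation y)⁻¹ * (V.valuation y)⁻¹) := mul_le_mul' h4 le_rfl
        _ = V.valuation ϖ ^ n := by
          rw [mul_assoc, mul_mul_mul_comm, mul_inv_cancel₀ hvy.ne', one_mul, mul_one]
    | mul y z _ _ hy hz =>
      refine ⟨(E ⊔ P).mul_mem hy.1 hz.1, fun n => ?_⟩
      obtain ⟨my, hmy⟩ := exists_pow_mul_le_one N₂ hϖN hϖ (hsup hy.1)
      obtain ⟨mz, hmz⟩ := exists_pow_mul_le_one N₂ hϖN hϖ (hsup hz.1)
      obtain ⟨b, hb, h2⟩ := hz.2 (n + my)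
      obtain ⟨a, ha, h1⟩ := hy.2 (n + mz + n + my)
      -- bound on `b`
      have hvb : V.valuation ϖ ^ (mz + n + my) * V.valuation b ≤ 1 := by
        have hb1 : V.valuation b ≤ max (V.valuation z) (V.valuation (z - b)) := by
          have := Valuation.map_sub V.valuation z (z - b)
          rwa [sub_sub_cancel] at this
        rcases le_max_iff.mp hb1 with h | h
        · calc V.valuation ϖ ^ (mz + n + my) * V.valuation b
              ≤ V.valuation ϖ ^ mz * V.valuation z :=
                mul_le_mul' (pow_le_pow_of_le hϖ (by omega)) h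
            _ ≤ 1 := hmz
        · calc V.valuation ϖ ^ (mz + n + my) * V.valuation b
              ≤ 1 * 1 := by
                apply mul_le_mul' (pow_le_one₀ zero_le' hϖ.le)
                exact h.trans (h2.trans (pow_le_one₀ zero_le' hϖ.le))
            _ = 1 := one_mul 1
      refine ⟨a * b, (E' ⊔ P).mul_mem ha hb, ?_⟩
      have hid : y * z - a * b = y * (z - b) + (y - a) * b := by ring
      rw [hid]
      refine (Valuation.map_add _ _ _).trans (max_le ?_ ?_)
      · rw [map_mul]
        calc V.valuation y * V.valuation (z - b)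
            ≤ V.valuation y * V.valuation ϖ ^ (n + my) := mul_le_mul' le_rfl h2
          _ = V.valuation ϖ ^ n * (V.valuation ϖ ^ my * V.valuation y) := by
              rw [pow_add]; ac_rfl
          _ ≤ V.valuation ϖ ^ n * 1 := mul_le_mul' le_rfl hmy
          _ = V.valuation ϖ ^ n := mul_one _
      · rw [map_mul]
        calc V.valuation (y - a) * V.valuation b
            ≤ V.valuation ϖ ^ (n + mz + n + my) * V.valuation b := mul_le_mul' h1 le_rfl
          _ = V.valuation ϖ ^ n * (V.valuation ϖ ^ (mz + n + my) * V.valuation b) := by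
              rw [show n + mz + n + my = n + (mz + n + my) by omega, pow_add, mul_assoc]
          _ ≤ V.valuation ϖ ^ n * 1 := mul_le_mul' le_rfl hvb
          _ = V.valuation ϖ ^ n := mul_one _

  intro x hx
  apply (key x ?_).2
  rw [Subfield.closure_union, Subfield.closure_eq, Subfield.closure_eq]
  exact hx

end DenseSup

end Groth.Agent.H6.EppGen
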