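import Mathlib
import Groth.Agent.Lib.Helper6.EG1b

/-!
# Epp, general case: adjoining an unramified element to a complete discretely valued subfield
-/

set_option autoImplicit false
universe u

namespace Groth.Agent.H6.EppGen

open IsLocalRing Groth.Agent.H8 Groth.Agent.H6.EppTower Polynomial

variable {Ω : Type u} [Field Ω] {V : ValuationSubring Ω}

/-- The inclusion of the valuation ring of a subfield into `Ω`. -/
def ι (V : ValuationSubring Ω) (N : Subfield Ω) : O V N →+* Ω := N.subtype.comp (O V N).subtype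

@[simp] theorem ι_apply (N : Subfield Ω) (x : O V N) : ι V N x = ((x : N) : Ω) := rfl

theorem val_ι_le_one (N : Subfield Ω) (x : O V N) : V.valuation (ι V N x) ≤ 1 :=
  val_O_le_one V N x

/-- Evaluating an integral polynomial at an integral point gives an integral element. -/
theorem val_eval_le_one (N : Subfield Ω) (Q : (O V N)[X]) {u : Ω} (hu : V.valuation u ≤ 1) :
    V.valuation ((Q.map (ι V N)).eval u) ≤ 1 := by
  rw [eval_map, eval₂_eq_sum_range]
  apply Valuation.map_sum_le
  intro i _
  rw [map_mul, map_pow]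
  exact mul_le_one' (val_ι_le_one N _) (pow_le_one₀ zero_le' hu)

/-- Congruent points have congruent values. -/
theorem val_eval_sub_le (N : Subfield Ω) (Q : (O V N)[X]) {a b : Ω} (ha : V.valuation a ≤ 1)
    (hb : V.valuation b ≤ 1) :
    V.valuation ((Q.map (ι V N)).eval a - (Q.map (ι V N)).eval b) ≤ V.valuation (a - b) := by
  -- work in the ring `V`
  let j : O V N →+* V :=
    { toFun := fun x => ⟨ι V N x, (V.valuation_le_one_iff _).mp (val_ι_le_one N x)⟩
      map_one' := rfl
      map_mul' := fun _ _ => rfl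
      map_zero' := rfl
      map_add' := fun _ _ => rfl }
  have hj : V.subtype.comp j = ι V N := rfl
  let a' : V := ⟨a, (V.valuation_le_one_iff _).mp ha⟩
  let b' : V := ⟨b, (V.valuation_le_one_iff _).mp hb⟩
  obtain ⟨c, hc⟩ := Polynomial.sub_dvd_eval_sub a' b' (Q.map j)
  have h1 : (Q.map (ι V N)).eval a = ((Q.map j).eval a' : V) := by
    rw [← hj, ← Polynomial.map_map, eval_map]
    exact Polynomial.eval₂_hom V.subtype a'
  have h2 : (Q.map (ι V N)).eval b = ((Q.map j).eval b' : V) := by
    rw [← hj, ← Polynomial.map_map, eval_map]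
    exact Polynomial.eval₂_hom V.subtype b'
  have h3 : (((Q.map j).eval a' : V) : Ω) - (((Q.map j).eval b' : V) : Ω) = (a - b) * (c : Ω) := by
    have := congrArg (fun z : V => (z : Ω)) hc
    simpa using this
  rw [h1, h2, h3, map_mul]
  exact mul_le_of_le_one_right' ((V.valuation_le_one_iff _).mpr c.2)

/-- The inclusion of the valuation ring of a subfield into `V`. -/
def ιV (V : ValuationSubring Ω) (N : Subfield Ω) : O V N →+* V where
  toFun x := ⟨ι V N x, (V.valuation_le_one_iff _).mp (val_ι_le_one N x)⟩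
  map_one' := rfl
  map_mul' _ _ := rfl
  map_zero' := rfl
  map_add' _ _ := rfl

theorem subtype_comp_ιV (N : Subfield Ω) : V.subtype.comp (ιV V N) = ι V N := rfl

theorem eval_map_ι_eq (N : Subfield Ω) (Q : (O V N)[X]) (a' : V) :
    (Q.map (ι V N)).eval (a' : Ω) = (((Q.map (ιV V N)).eval a' : V) : Ω) := by
  rw [← subtype_comp_ιV, ← Polynomial.map_map, eval_map]
  exact Polynomial.eval₂_hom V.subtype a'

/-- Two congruent integral roots of an integral polynomial, one of them simple modulo the maximal
ideal, coincide. -/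
theorem root_unique (N : Subfield Ω) (m : (O V N)[X]) {a b : Ω} (ha : V.valuation a ≤ 1)
    (hb : V.valuation b ≤ 1) (hma : (m.map (ι V N)).eval a = 0) (hmb : (m.map (ι V N)).eval b = 0)
    (hd : V.valuation ((derivative m).map (ι V N) |>.eval a) = 1)
    (hab : V.valuation (a - b) < 1) : a = b := by
  let a' : V := ⟨a, (V.valuation_le_one_iff _).mp ha⟩
  let b' : V := ⟨b, (V.valuation_le_one_iff _).mp hb⟩
  obtain ⟨k, hk⟩ := Polynomial.binomExpansion (m.map (ιV V N)) a' (b' - a')
  rw [add_sub_cancel] at hk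
  have e1 : ((m.map (ιV V N)).eval a' : V) = 0 := by
    apply Subtype.ext
    rw [← eval_map_ι_eq]
    exact hma
  have e2 : ((m.map (ιV V N)).eval b' : V) = 0 := by
    apply Subtype.ext
    rw [← eval_map_ι_eq]
    exact hmb
  rw [e1, e2, zero_add] at hk
  have hk' : (0 : Ω) = ((derivative m).map (ι V N)).eval a * (b - a) + (k : Ω) * (b - a) ^ 2 := by
    have := congrArg (fun z : V => (z : Ω)) hk
    simp only [ZeroMemClass.coe_zero] at this
    rw [this]
    push_cast
    rw [Polynomial.derivative_map, ← eval_map_ι_eq]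
  set D := ((derivative m).map (ι V N)).eval a with hD
  have hfac : (b - a) * (D + (k : Ω) * (b - a)) = 0 := by
    rw [hk']; ring
  have hkv : V.valuation ((k : Ω) * (b - a)) < 1 := by
    rw [map_mul, Valuation.map_sub_swap]
    exact lt_of_le_of_lt (mul_le_of_le_one_left' ((V.valuation_le_one_iff _).mpr k.2)) hab
  have hne : D + (k : Ω) * (b - a) ≠ 0 := by
    intro h0
    have : V.valuation (D + (k : Ω) * (b - a)) = 1 := by
      rw [Valuation.map_add_eq_of_lt_left _ (by rw [hd]; exact hkv), hd]
    rw [h0, map_zero] at this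
    exact zero_ne_one this
  rcases mul_eq_zero.mp hfac with h | h
  · exact (sub_eq_zero.mp h).symm
  · exact absurd h hne

/-- A monic integral polynomial vanishing at `u` modulo the maximal ideal. -/
def Kills (V : ValuationSubring Ω) (N : Subfield Ω) (u : Ω) (H : (O V N)[X]) : Prop :=
  H.Monic ∧ V.valuation ((H.map (ι V N)).eval u) < 1

theorem val_ι_eq_one_of_isUnit (N : Subfield Ω) {a : O V N} (ha : IsUnit a) :
    V.valuation (ι V N a) = 1 := (isUnit_O_iff V N a).mp ha

theorem val_ι_lt_one_of_not_isUnit (N : Subfield Ω) {a : O V N} (ha : ¬ IsUnit a) :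
    V.valuation (ι V N a) < 1 :=
  lt_of_le_of_ne (val_ι_le_one N a) (fun h => ha ((isUnit_O_iff V N a).mpr h))

/-- Residual independence of `1, u, …, u^(d₁-1)` when `d₁` is the least degree of a monic
integral polynomial killing `u` modulo the maximal ideal. -/
theorem resid_indep (N : Subfield Ω) {u : Ω} (hu : V.valuation u ≤ 1) (d₁ : ℕ)
    (hmin : ∀ H, Kills V N u H → d₁ ≤ H.natDegree) :
    ∀ n : ℕ, ∀ Q : (O V N)[X], Q.natDegree = n → n < d₁ → (∃ i, IsUnit (Q.coeff i)) →
      V.valuation ((Q.map (ι V N)).eval u) = 1 := by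
  intro n
  induction n using Nat.strong_induction_on with
  | _ n ih =>
    intro Q hQn hnd hunit
    obtain ⟨i, hi⟩ := hunit
    have hle : V.valuation ((Q.map (ι V N)).eval u) ≤ 1 := val_eval_le_one N Q hu
    by_cases hlead : IsUnit Q.leadingCoeff
    · by_contra hne
      have hlt : V.valuation ((Q.map (ι V N)).eval u) < 1 := lt_of_le_of_ne hle hne
      obtain ⟨a, ha⟩ := hlead
      have hmon : (C (↑a⁻¹ : O V N) * Q).Monic :=
        monic_C_mul_of_mul_leadingCoeff_eq_one (by rw [← ha]; exact a.inv_mul)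
      have hdeg : (C (↑a⁻¹ : O V N) * Q).natDegree = n := by
        rw [natDegree_C_mul (Units.ne_zero a⁻¹), hQn]
      have hk : Kills V N u (C (↑a⁻¹ : O V N) * Q) := by
        refine ⟨hmon, ?_⟩
        rw [Polynomial.map_mul, map_C, eval_mul, eval_C, map_mul]
        calc V.valuation (ι V N ↑a⁻¹) * V.valuation ((Q.map (ι V N)).eval u)
            ≤ 1 * V.valuation ((Q.map (ι V N)).eval u) :=
              mul_le_mul' (val_ι_le_one N _) le_rfl
          _ < 1 := by rw [one_mul]; exact hlt
      have := hmin _ hk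
      omega
    · -- the leading coefficient is not a unit
      have hin : i ≠ Q.natDegree := by
        rintro rfl
        exact hlead hi
      have hE0 : Q.eraseLead ≠ 0 := by
        intro h0
        have : Q.eraseLead.coeff i = Q.coeff i := eraseLead_coeff_of_ne i hin
        rw [h0, coeff_zero] at this
        rw [← this] at hi
        exact not_isUnit_zero hi
      have hElt : Q.eraseLead.natDegree < n := by
        rcases eraseLead_natDegree_lt_or_eraseLead_eq_zero Q with h | h
        · rwa [hQn] at h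
        · exact absurd h hE0
      have hE : V.valuation ((Q.eraseLead.map (ι V N)).eval u) = 1 :=
        ih _ hElt Q.eraseLead rfl (hElt.trans hnd)
          ⟨i, by rw [eraseLead_coeff_of_ne i hin]; exact hi⟩
      have hsplit : Q = Q.eraseLead + C Q.leadingCoeff * X ^ Q.natDegree :=
        (eraseLead_add_C_mul_X_pow Q).symm
      have hev : (Q.map (ι V N)).eval u =
          (Q.eraseLead.map (ι V N)).eval u + ι V N Q.leadingCoeff * u ^ Q.natDegree := by
        conv_lhs => rw [hsplit]
        simp only [Polynomial.map_add, Polynomial.map_mul, map_C, Polynomial.map_pow, map_X,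
          eval_add, eval_mul, eval_C, eval_pow, eval_X]
      have hsmall : V.valuation (ι V N Q.leadingCoeff * u ^ Q.natDegree) < 1 := by
        rw [map_mul, map_pow]
        calc V.valuation (ι V N Q.leadingCoeff) * V.valuation u ^ Q.natDegree
            ≤ V.valuation (ι V N Q.leadingCoeff) * 1 :=
              mul_le_mul' le_rfl (pow_le_one₀ zero_le' hu)
          _ < 1 := by rw [mul_one]; exact val_ι_lt_one_of_not_isUnit N hlead
      rw [hev, Valuation.map_add_eq_of_lt_left _ (by rw [hE]; exact hsmall), hE]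

/-- A monic integral polynomial which is small at `u` has a root near `u`. -/
theorem exists_root_near [IsAlgClosed Ω] (N : Subfield Ω) (H : (O V N)[X]) (hH : H.Monic) {u : Ω}
    (hlt : V.valuation ((H.map (ι V N)).eval u) < 1) :
    ∃ r : Ω, (H.map (ι V N)).eval r = 0 ∧ V.valuation (u - r) < 1 := by
  have hsp : (H.map (ι V N)).Splits := IsAlgClosed.splits _
  have hm : (H.map (ι V N)).Monic := hH.map _
  rw [hsp.eval_eq_prod_roots_of_monic hm, map_multiset_prod, Multiset.map_map] at hlt
  by_contra hcon
  push_neg at hcon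
  have : (1 : ValuationSubring.ValueGroup V) ≤
      (Multiset.map ((V.valuation : Ω → _) ∘ fun x => u - x) (H.map (ι V N)).roots).prod := by
    apply Multiset.one_le_prod_of_one_le
    intro x hx
    obtain ⟨r, hr, rfl⟩ := Multiset.mem_map.mp hx
    exact hcon r ((mem_roots hm.ne_zero).mp hr)
  exact absurd hlt (not_lt.mpr this)

/-- If `r` is a root of a monic integral polynomial of degree `d₁` and `1, r, …, r^(d₁-1)` are
residually independent, then `N(r)` has the same value group as `N`. -/
theorem vle_adjoin_root (N : Subfield Ω) (H₁ : (O V N)[X]) (hH : H₁.Monic) {r : Ω}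
    (hr : (H₁.map (ι V N)).eval r = 0)
    (hri : ∀ Q : (O V N)[X], Q.degree < H₁.natDegree → (∃ i, IsUnit (Q.coeff i)) →
      V.valuation ((Q.map (ι V N)).eval r) = 1) :
    ∀ y ∈ IntermediateField.adjoin N ({r} : Set Ω), ∃ a ∈ N, V.valuation a = V.valuation y := by
  intro y hy
  set H' : N[X] := H₁.map (O V N).subtype with hH'
  have hH'm : H'.Monic := hH.map _
  have hH'r : aeval r H' = 0 := by
    rw [aeval_def, hH', eval₂_map, ← eval_map]
    exact hr
  have hint : IsIntegral N r := ⟨H', hH'm, hH'r⟩
  have hy' : y ∈ Algebra.adjoin N ({r} : Set Ω) := by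
    rw [← IntermediateField.adjoin_simple_toSubalgebra_of_isAlgebraic hint.isAlgebraic]
    exact hy
  rw [Algebra.adjoin_singleton_eq_range_aeval] at hy'
  obtain ⟨P, rfl⟩ := hy'
  set Q := P %ₘ H' with hQ
  have hPQ : aeval r P = aeval r Q := by
    conv_lhs => rw [← modByMonic_add_div P H']
    rw [map_add, map_mul, hH'r, zero_mul, add_zero]
  rw [AlgHom.toRingHom_eq_coe, RingHom.coe_coe, hPQ]
  by_cases hQ0 : Q = 0
  · exact ⟨0, N.zero_mem, by rw [hQ0, map_zero, map_zero, map_zero]⟩
  have hQdeg : Q.degree < H₁.natDegree := by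
    have := degree_modByMonic_lt P hH'm
    rwa [hH', degree_map_eq_of_injective (Subtype.val_injective), degree_eq_natDegree hH.ne_zero]
      at this
  obtain ⟨i₀, hi₀, hmax⟩ := Finset.exists_max_image Q.support
    (fun i => V.valuation ((Q.coeff i : N) : Ω)) (nonempty_support_iff.mpr hQ0)
  set c : N := Q.coeff i₀ with hc
  have hc0 : c ≠ 0 := mem_support_iff.mp hi₀
  have hcΩ : ((c : N) : Ω) ≠ 0 := fun h => hc0 (Subtype.ext h)
  have hvc : 0 < V.valuation ((c : N) : Ω) := zero_lt_iff.mpr ((Valuation.ne_zero_iff _).mpr hcΩ)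
  -- the normalised polynomial
  set Q₀ : N[X] := C c⁻¹ * Q with hQ₀
  have hcoeff : ∀ j, V.valuation (((Q₀.coeff j : N)) : Ω) ≤ 1 := by
    intro j
    rw [hQ₀, coeff_C_mul]
    push_cast
    rw [map_mul, map_inv₀]
    by_cases hj : j ∈ Q.support
    · have := hmax j hj
      calc (V.valuation ((c : N) : Ω))⁻¹ * V.valuation ((Q.coeff j : N) : Ω)
          ≤ (V.valuation ((c : N) : Ω))⁻¹ * V.valuation ((c : N) : Ω) := mul_le_mul' le_rfl this
        _ = 1 := inv_mul_cancel₀ hvc.ne'
    · rw [notMem_support_iff.mp hj]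
      simp
  have hlifts : Q₀ ∈ Polynomial.lifts (O V N).subtype := by
    rw [Polynomial.lifts_iff_coeff_lifts]
    intro j
    exact ⟨⟨Q₀.coeff j, (V.valuation_le_one_iff _).mp (hcoeff j)⟩, rfl⟩
  obtain ⟨Q₀', hmap, hdeg⟩ := Polynomial.mem_lifts_and_degree_eq hlifts
  have hQ₀deg : Q₀.degree = Q.degree := by
    rw [hQ₀, degree_C_mul (inv_ne_zero hc0)]
  have hunit : IsUnit (Q₀'.coeff i₀) := by
    have h1 : ((Q₀'.coeff i₀ : O V N) : N) = 1 := by
      have := congrArg (fun p : N[X] => p.coeff i₀) hmap
      simp only [coeff_map] at this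
      rw [show ((O V N).subtype (Q₀'.coeff i₀)) = ((Q₀'.coeff i₀ : O V N) : N) from rfl] at this
      rw [this, hQ₀, coeff_C_mul, ← hc, inv_mul_cancel₀ hc0]
    have : Q₀'.coeff i₀ = 1 := Subtype.ext h1
    rw [this]
    exact isUnit_one
  have hval := hri Q₀' (by rw [hdeg, hQ₀deg]; exact hQdeg) ⟨i₀, hunit⟩
  have hev : (Q₀'.map (ι V N)).eval r = ((c : N) : Ω)⁻¹ * aeval r Q := by
    have : Q₀'.map (ι V N) = Q₀.map N.subtype := by
      rw [← hmap, Polynomial.map_map]
      rfl
    rw [this, hQ₀, Polynomial.map_mul, map_C, eval_mul, eval_C, aeval_def, eval₂_eq_eval_map]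
    rfl
  rw [hev, map_mul, map_inv₀] at hval
  refine ⟨c, c.2, ?_⟩
  have := congrArg (fun t => V.valuation ((c : N) : Ω) * t) hval
  simp only [mul_one] at this
  rw [← mul_assoc, mul_inv_cancel₀ hvc.ne', one_mul] at this
  exact this.symm

end Groth.Agent.H6.EppGen
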