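import Mathlib
import Groth.Agent.Lib.Helper6.EG2

/-!
# Epp, general case: unramified elements over a complete discretely valued subfield
-/

set_option autoImplicit false
universe u

namespace Groth.Agent.H6.EppGen

open IsLocalRing Groth.Agent.H8 Groth.Agent.H6.EppTower Polynomial

variable {Ω : Type u} [Field Ω] {V : ValuationSubring Ω}

/-- `u` is a root of a monic integral polynomial over `N`, simple modulo the maximal ideal. -/
def Unr (V : ValuationSubring Ω) (N : Subfield Ω) (u : Ω) : Prop :=
  ∃ m : (O V N)[X], m.Monic ∧ (m.map (ι V N)).eval u = 0 ∧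
    V.valuation (((derivative m).map (ι V N)).eval u) = 1

theorem ι_comp_algebraMap (N N' : Subfield Ω) [Fact (N ≤ N')] :
    (ι V N').comp (algebraMap (O V N) (O V N')) = ι V N := rfl

theorem Unr.mono {N N' : Subfield Ω} (h : N ≤ N') {u : Ω} (hu : Unr V N u) : Unr V N' u := by
  haveI : Fact (N ≤ N') := ⟨h⟩
  obtain ⟨m, hm, h1, h2⟩ := hu
  refine ⟨m.map (algebraMap (O V N) (O V N')), hm.map _, ?_, ?_⟩
  · rw [Polynomial.map_map, ι_comp_algebraMap]
    exact h1
  · rw [Polynomial.derivative_map, Polynomial.map_map, ι_comp_algebraMap]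
    exact h2

theorem Unr.val_le_one {N : Subfield Ω} {u : Ω} (hu : Unr V N u) : V.valuation u ≤ 1 := by
  obtain ⟨m, hm, h1, -⟩ := hu
  have hint : IsIntegral V u := by
    refine ⟨m.map (ιV V N), hm.map _, ?_⟩
    rw [← eval_map, Polynomial.map_map]
    exact h1
  obtain ⟨y, hy⟩ := (IsIntegrallyClosed.isIntegral_iff (R := V) (K := Ω)).mp hint
  rw [← hy]
  exact (V.valuation_le_one_iff _).mpr y.2

theorem eval_map_ι (N : Subfield Ω) (Q : (O V N)[X]) (a : O V N) :
    (Q.map (ι V N)).eval (ι V N a) = ι V N (Q.eval a) := by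
  rw [eval_map]
  exact Polynomial.eval₂_hom (ι V N) a

variable [IsAlgClosed Ω]

/-- Adjoining an unramified element to a complete discretely valued subfield: the element lies
in a finite extension with the same value group. -/
theorem exists_adjoin_unr (N : Subfield Ω) [IsDiscreteValuationRing (O V N)]
    [IsAdicComplete (maximalIdeal (O V N)) (O V N)] {u : Ω} (hu : Unr V N u) :
    ∃ (T : Subfield Ω) (h : N ≤ T), u ∈ T ∧ (haveI := Fact.mk h; FiniteDimensional N T) ∧
      VLe V T N := by
  classical
  have hu1 : V.valuation u ≤ 1 := hu.val_le_one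
  obtain ⟨m, hm, hmu, hmd⟩ := hu
  -- the least degree of a killing polynomial
  have hex : ∃ n, ∃ H, Kills V N u H ∧ H.natDegree = n :=
    ⟨m.natDegree, m, ⟨hm, by rw [hmu, map_zero]; exact zero_lt_one⟩, rfl⟩
  obtain ⟨H₁, hK, hdeg⟩ := Nat.find_spec hex
  have hmin : ∀ H, Kills V N u H → Nat.find hex ≤ H.natDegree :=
    fun H hH => Nat.find_min' hex ⟨H, hH, rfl⟩
  obtain ⟨r, hr0, hur⟩ := exists_root_near N H₁ hK.1 hK.2
  have hr1 : V.valuation r ≤ 1 := by
    have : r = u - (u - r) := by ring
    rw [this]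
    exact (Valuation.map_sub _ _ _).trans (max_le hu1 hur.le)
  have hru : V.valuation (r - u) < 1 := by rwa [Valuation.map_sub_swap]
  -- residual independence at `r`
  have hri : ∀ Q : (O V N)[X], Q.degree < H₁.natDegree → (∃ i, IsUnit (Q.coeff i)) →
      V.valuation ((Q.map (ι V N)).eval r) = 1 := by
    intro Q hQd hQu
    have hQ0 : Q ≠ 0 := by
      rintro rfl
      obtain ⟨i, hi⟩ := hQu
      rw [coeff_zero] at hi
      exact not_isUnit_zero hi
    have hnat : Q.natDegree < Nat.find hex := by
      rw [← hdeg]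
      exact (natDegree_lt_iff_degree_lt hQ0).mpr hQd
    have h1 := resid_indep N hu1 (Nat.find hex) hmin _ Q rfl hnat hQu
    have h2 := val_eval_sub_le N Q hr1 hu1
    have h3 : V.valuation ((Q.map (ι V N)).eval r - (Q.map (ι V N)).eval u) <
        V.valuation ((Q.map (ι V N)).eval u) := by
      rw [h1]
      exact lt_of_le_of_lt h2 hru
    have h4 := Valuation.map_add_eq_of_lt_left V.valuation
      (x := (Q.map (ι V N)).eval u) (y := (Q.map (ι V N)).eval r - (Q.map (ι V N)).eval u) h3
    rw [add_sub_cancel] at h4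
    rw [h4, h1]
  have hvle := vle_adjoin_root N H₁ hK.1 hr0 hri
  -- the field `T = N(r)`
  set Y : IntermediateField N Ω := IntermediateField.adjoin N ({r} : Set Ω) with hY
  have hNY : N ≤ Y.toSubfield := fun x hx => Y.algebraMap_mem ⟨x, hx⟩
  haveI : Fact (N ≤ Y.toSubfield) := ⟨hNY⟩
  have hrY : r ∈ Y.toSubfield := IntermediateField.mem_adjoin_simple_self N r
  have hint : IsIntegral N r := by
    refine ⟨H₁.map (O V N).subtype, hK.1.map _, ?_⟩
    rw [eval₂_map, ← eval_map]
    exact hr0
  haveI : FiniteDimensional N Y := IntermediateField.adjoin.finiteDimensional hint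
  haveI hfin : FiniteDimensional N Y.toSubfield :=
    (equivOfEq N Y.toSubfield Y rfl).symm.toLinearEquiv.finiteDimensional
  haveI := isDVR_O_of_finite V N Y.toSubfield
  haveI := isAdicComplete_O_of_finite V N Y.toSubfield
  have hVLE : VLe V Y.toSubfield N := fun y hy => hvle y hy
  refine ⟨Y.toSubfield, hNY, ?_, hfin, hVLE⟩
  -- Hensel's lemma in `O V T`
  set mT : (O V Y.toSubfield)[X] := m.map (algebraMap (O V N) (O V Y.toSubfield)) with hmT
  have hmTι : mT.map (ι V Y.toSubfield) = m.map (ι V N) := by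
    rw [hmT, Polynomial.map_map, ι_comp_algebraMap]
  let a₀ : O V Y.toSubfield := ⟨⟨r, hrY⟩, (V.valuation_le_one_iff _).mp hr1⟩
  have ha₀ : ι V Y.toSubfield a₀ = r := rfl
  have h₁ : mT.eval a₀ ∈ maximalIdeal (O V Y.toSubfield) := by
    rw [mem_maximalIdeal_O]
    show V.valuation (ι V Y.toSubfield (mT.eval a₀)) < 1
    rw [← eval_map_ι, hmTι, ha₀]
    have := val_eval_sub_le N m hr1 hu1
    rw [hmu, sub_zero] at this
    exact lt_of_le_of_lt this hru
  have h₂ : IsUnit ((derivative mT).eval a₀) := by
    rw [isUnit_O_iff]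
    show V.valuation (ι V Y.toSubfield ((derivative mT).eval a₀)) = 1
    rw [← eval_map_ι, ← Polynomial.derivative_map, hmTι, Polynomial.derivative_map, ha₀]
    have h2 := val_eval_sub_le N (derivative m) hr1 hu1
    have h3 : V.valuation (((derivative m).map (ι V N)).eval r -
        ((derivative m).map (ι V N)).eval u) < V.valuation (((derivative m).map (ι V N)).eval u) := by
      rw [hmd]
      exact lt_of_le_of_lt h2 hru
    have h4 := Valuation.map_add_eq_of_lt_left V.valuation
      (x := ((derivative m).map (ι V N)).eval u)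
      (y := ((derivative m).map (ι V N)).eval r - ((derivative m).map (ι V N)).eval u) h3
    rw [add_sub_cancel] at h4
    rw [h4, hmd]
  obtain ⟨a, ha, haa₀⟩ := HenselianRing.is_henselian
    (I := maximalIdeal (O V Y.toSubfield)) mT (hm.map _) a₀ h₁ (h₂.map _)
  -- the root found equals `u`
  have hau' : (m.map (ι V N)).eval (ι V Y.toSubfield a) = 0 := by
    rw [← hmTι, eval_map_ι, show mT.eval a = 0 from ha, map_zero]
  have hnear : V.valuation (ι V Y.toSubfield a - r) < 1 := by
    rw [mem_maximalIdeal_O] at haa₀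
    exact haa₀
  have hclose : V.valuation (u - ι V Y.toSubfield a) < 1 := by
    have : u - ι V Y.toSubfield a = (u - r) - (ι V Y.toSubfield a - r) := by ring
    rw [this]
    exact lt_of_le_of_lt (Valuation.map_sub _ _ _) (max_lt hur hnear)
  have := root_unique N m hu1 (val_ι_le_one _ a) hmu hau' hmd hclose
  rw [this]
  exact (a : Y.toSubfield).2

end Groth.Agent.H6.EppGen
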