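import Mathlib
import Groth.Agent.Lib.Helper6.EG3

/-!
# Epp, general case: adjoining a set of unramified elements does not change the value group
-/

set_option autoImplicit false
universe u

namespace Groth.Agent.H6.EppGen

open IsLocalRing Groth.Agent.H8 Groth.Agent.H6.EppTower Polynomial

variable {Ω : Type u} [Field Ω] {V : ValuationSubring Ω} [IsAlgClosed Ω]

theorem exists_adjoin_unr_finset (N : Subfield Ω) [IsDiscreteValuationRing (O V N)]
    [IsAdicComplete (maximalIdeal (O V N)) (O V N)] (S : Finset Ω) (hS : ∀ u ∈ S, Unr V N u) :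
    ∃ (T : Subfield Ω) (h : N ≤ T), (S : Set Ω) ⊆ T ∧
      (haveI := Fact.mk h; FiniteDimensional N T) ∧ VLe V T N := by
  classical
  induction S using Finset.induction_on with
  | empty =>
    refine ⟨N, le_rfl, by simp, ?_, VLe.of_le le_rfl⟩
    haveI : Fact (N ≤ N) := ⟨le_rfl⟩
    exact finiteDimensional_self N
  | insert u S _ ih =>
    obtain ⟨T', hNT', hST', hfin', hvle'⟩ := ih (fun x hx => hS x (Finset.mem_insert_of_mem hx))
    haveI : Fact (N ≤ T') := ⟨hNT'⟩
    haveI := hfin'
    haveI := isDVR_O_of_finite V N T'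
    haveI := isAdicComplete_O_of_finite V N T'
    have hu : Unr V T' u := (hS u (Finset.mem_insert_self u S)).mono hNT'
    obtain ⟨T, hT'T, huT, hfin, hvle⟩ := exists_adjoin_unr T' hu
    haveI : Fact (T' ≤ T) := ⟨hT'T⟩
    haveI : Fact (N ≤ T) := ⟨hNT'.trans hT'T⟩
    haveI := hfin
    refine ⟨T, hNT'.trans hT'T, ?_, finite_trans N T' T, hvle.trans hvle'⟩
    intro x hx
    rw [Finset.coe_insert] at hx
    rcases hx with rfl | hx
    · exact huT
    · exact hT'T (hST' hx)

/-- Adjoining any set of unramified elements to a complete discretely valued subfield does not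
change the value group. -/
theorem vle_sup_closure_unr (N : Subfield Ω) [IsDiscreteValuationRing (O V N)]
    [IsAdicComplete (maximalIdeal (O V N)) (O V N)] (U : Set Ω) (hU : ∀ u ∈ U, Unr V N u) :
    VLe V (N ⊔ Subfield.closure U) N := by
  intro x hx
  have hx' : x ∈ IntermediateField.adjoin N U := by
    rw [← IntermediateField.mem_toSubfield, IntermediateField.adjoin_toSubfield,
      Subfield.closure_union, range_algebraMap_sub, Subfield.closure_eq]
    exact hx
  obtain ⟨S, hSU, hxS⟩ := IntermediateField.exists_finset_of_mem_adjoin hx'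
  obtain ⟨T, hNT, hST, -, hvle⟩ := exists_adjoin_unr_finset N S (fun u hu => hU u (hSU hu))
  apply hvle x
  have hle : IntermediateField.adjoin N (S : Set Ω) ≤ Subfield.extendScalars hNT := by
    rw [IntermediateField.adjoin_le_iff]
    exact hST
  exact hle hxS

end Groth.Agent.H6.EppGen
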