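import Mathlib

/-! Krasner-type lemmas, part 1: Hensel/Newton for non-monic polynomials over adically complete rings. -/

universe u

namespace Groth.Agent.H6.Krasner

open Polynomial

/-- Hensel's lemma for arbitrary (not necessarily monic) polynomials over an adically complete
ring.  (Mathlib's proof of `IsAdicComplete.henselianRing` never uses monicity; we repeat it.) -/
theorem hensel_nonmonic (R : Type*) [CommRing R] (I : Ideal R) [IsAdicComplete I R]
    (f : R[X]) (a₀ : R) (h₁ : f.eval a₀ ∈ I)
    (h₂ : IsUnit (Ideal.Quotient.mk I (f.derivative.eval a₀))) :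
    ∃ a : R, f.IsRoot a ∧ a - a₀ ∈ I := by
  classical
    let f' := derivative f
    let c : ℕ → R := fun n => Nat.recOn n a₀ fun _ b => b - f.eval b * Ring.inverse (f'.eval b)
    have hc : ∀ n, c (n + 1) = c n - f.eval (c n) * Ring.inverse (f'.eval (c n)) := by
      intro n
      simp only [c]
    have hc_mod : ∀ n, c n ≡ a₀ [SMOD I] := by
      intro n
      induction n with
      | zero => rfl
      | succ n ih => ?_
      rw [hc, sub_eq_add_neg, ← add_zero a₀]
      refine ih.add ?_
      rw [SModEq.zero, Ideal.neg_mem_iff]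
      refine I.mul_mem_right _ ?_
      rw [← SModEq.zero] at h₁ ⊢
      exact (ih.eval f).trans h₁
    have hf'c : ∀ n, IsUnit (f'.eval (c n)) := by
      intro n
      have := isLocalHom_of_le_jacobson_bot I (IsAdicComplete.le_jacobson_bot I)
      apply IsUnit.of_map (Ideal.Quotient.mk I)
      convert! h₂ using 1
      exact SModEq.def.mp ((hc_mod n).eval _)
    have hfcI : ∀ n, f.eval (c n) ∈ I ^ (n + 1) := by
      intro n
      induction n with
      | zero => simpa only [Nat.rec_zero, zero_add, pow_one] using! h₁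
      | succ n ih => ?_
      rw [← taylor_eval_sub (c n), hc, sub_eq_add_neg, sub_eq_add_neg,
        add_neg_cancel_comm]
      rw [eval_eq_sum, sum_over_range' _ _ _ (lt_add_of_pos_right _ zero_lt_two), ←
        Finset.sum_range_add_sum_Ico _ (Nat.le_add_left _ _)]
      swap
      · intro i
        rw [zero_mul]
      refine Ideal.add_mem _ ?_ ?_
      · rw [← one_add_one_eq_two, Finset.sum_range_succ, Finset.range_one, Finset.sum_singleton,
          taylor_coeff_zero, taylor_coeff_one, pow_zero, pow_one, mul_one, mul_neg,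
          mul_left_comm, Ring.mul_inverse_cancel _ (hf'c n), mul_one, add_neg_cancel]
        exact Ideal.zero_mem _
      · refine Submodule.sum_mem _ ?_
        simp only [Finset.mem_Ico]
        rintro i ⟨h2i, _⟩
        have aux : n + 2 ≤ i * (n + 1) := by trans 2 * (n + 1) <;> nlinarith only [h2i]
        refine Ideal.mul_mem_left _ _ (Ideal.pow_le_pow_right aux ?_)
        rw [pow_mul']
        exact Ideal.pow_mem_pow ((Ideal.neg_mem_iff _).2 <| Ideal.mul_mem_right _ _ ih) _
    have aux : ∀ m n, m ≤ n → c m ≡ c n [SMOD (I ^ m • ⊤ : Ideal R)] := by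
      intro m n hmn
      rw [← Ideal.one_eq_top, Ideal.smul_eq_mul, mul_one]
      obtain ⟨k, rfl⟩ := Nat.exists_eq_add_of_le hmn
      clear hmn
      induction k with
      | zero => rw [add_zero]
      | succ k ih => ?_
      rw [← add_assoc, hc, ← add_zero (c m), sub_eq_add_neg]
      refine ih.add ?_
      symm
      rw [SModEq.zero, Ideal.neg_mem_iff]
      refine Ideal.mul_mem_right _ _ (Ideal.pow_le_pow_right ?_ (hfcI _))
      rw [add_assoc]
      exact le_self_add
    obtain ⟨a, ha⟩ := IsPrecomplete.prec' c (aux _ _)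
    refine ⟨a, ?_, ?_⟩
    · show f.IsRoot a
      suffices ∀ n, f.eval a ≡ 0 [SMOD (I ^ n • ⊤ : Ideal R)] by exact IsHausdorff.haus' _ this
      intro n
      specialize ha n
      rw [← Ideal.one_eq_top, Ideal.smul_eq_mul, mul_one] at ha ⊢
      refine (ha.symm.eval f).trans ?_
      rw [SModEq.zero]
      exact Ideal.pow_le_pow_right le_self_add (hfcI _)
    · show a - a₀ ∈ I
      specialize ha (0 + 1)
      rw [hc, pow_one, ← Ideal.one_eq_top, Ideal.smul_eq_mul, mul_one, sub_eq_add_neg] at ha
      rw [← SModEq.sub_mem, ← add_zero a₀]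
      refine ha.symm.trans (SModEq.rfl.add ?_)
      rw [SModEq.zero, Ideal.neg_mem_iff]
      exact Ideal.mul_mem_right _ _ h₁


/-- Newton's lemma: if `F a = F'(a)^2 * t` with `t ∈ I`, then `F` has a root of the form
`a + F'(a) * (t * s)`. -/
theorem newton (R : Type*) [CommRing R] (I : Ideal R) [IsAdicComplete I R]
    (F : R[X]) (a t : R) (ht : t ∈ I)
    (h : F.eval a = (F.derivative.eval a) ^ 2 * t) :
    ∃ s : R, F.eval (a + F.derivative.eval a * (t * s)) = 0 := by
  set d := F.derivative.eval a with hd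
  obtain ⟨k, hk⟩ := Polynomial.binomExpansion (F.map (C : R →+* R[X])) (C a) (C d * X)
  have e1 : (F.map (C : R →+* R[X])).eval (C a) = C (F.eval a) := by
    rw [Polynomial.eval_map, Polynomial.eval₂_at_apply]
  have e2 : (F.map (C : R →+* R[X])).derivative.eval (C a) = C d := by
    rw [Polynomial.derivative_map, Polynomial.eval_map, Polynomial.eval₂_at_apply]
  set G : R[X] := C t + X + k * X ^ 2 with hG
  have e3 : (F.map (C : R →+* R[X])).eval (C a + C d * X) = C d ^ 2 * G := by
    rw [hk, e1, e2, h, hG]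
    simp only [map_mul, map_pow]
    ring
  have e4 : ∀ y : R, F.eval (a + d * y) = d ^ 2 * G.eval y := by
    intro y
    have := congrArg (Polynomial.evalRingHom y) e3
    rw [Polynomial.eval_map, Polynomial.hom_eval₂] at this
    have hid : (Polynomial.evalRingHom y).comp (C : R →+* R[X]) = RingHom.id R :=
      RingHom.ext fun r => by simp
    rw [hid, Polynomial.eval₂_id] at this
    simpa using this
  have hG0 : G.eval 0 = t := by simp [hG]
  have hG' : G.derivative.eval 0 = 1 := by simp [hG]
  obtain ⟨y, hy, hyI⟩ := hensel_nonmonic R I G 0 (by rw [hG0]; exact ht)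
    (by rw [hG', map_one]; exact isUnit_one)
  rw [sub_zero] at hyI
  have hroot : t + y + k.eval y * y ^ 2 = 0 := by
    have : G.eval y = 0 := hy
    simpa [hG] using this
  -- `y = - t * u⁻¹`
  have hu : IsUnit (1 + y * k.eval y) := by
    have hj := IsAdicComplete.le_jacobson_bot I hyI
    rw [Ideal.mem_jacobson_bot] at hj
    have := hj (k.eval y)
    rwa [add_comm] at this
  obtain ⟨u', hu'⟩ := hu.exists_right_inv
  refine ⟨-u', ?_⟩
  have hy' : y = t * (-u') := by
    have h1 : y * (1 + y * k.eval y) = -t := by linear_combination hroot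
    calc y = y * ((1 + y * k.eval y) * u') := by rw [hu', mul_one]
      _ = (y * (1 + y * k.eval y)) * u' := by ring
      _ = t * (-u') := by rw [h1]; ring
  rw [← hy', e4, show G.eval y = 0 from hy, mul_zero]

/-- Root approximation: if `v * P'(x) = π^c * w` with `w` a unit and `P x = π^N * e` with
`N ≥ 2c+1`, then `P` has a root congruent to `x` modulo `π^(N-2c)`. -/
theorem half (C : Type*) [CommRing C] (π : C) [IsAdicComplete (Ideal.span {π}) C]
    (P : C[X]) (x v w e : C) (c N : ℕ) (hw : IsUnit w)
    (hv : v * P.derivative.eval x = π ^ c * w) (hP : P.eval x = π ^ N * e)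
    (hN : 2 * c + 1 ≤ N) :
    ∃ z : C, P.eval (x + π ^ (N - 2 * c) * z) = 0 := by
  obtain ⟨w', hw'⟩ := hw.exists_right_inv
  set t := v ^ 2 * w' ^ 2 * π ^ (N - 2 * c) * e with ht
  have htI : t ∈ Ideal.span {π} := by
    rw [Ideal.mem_span_singleton]
    obtain ⟨m, hm⟩ : ∃ m, N - 2 * c = m + 1 := ⟨N - 2 * c - 1, by omega⟩
    rw [ht, hm, pow_succ]
    exact ⟨v ^ 2 * w' ^ 2 * π ^ m * e, by ring⟩
  have hN' : N = 2 * c + (N - 2 * c) := by omega
  have hPt : P.eval x = (P.derivative.eval x) ^ 2 * t := by
    have h1 : (v * P.derivative.eval x) ^ 2 * w' ^ 2 = π ^ (2 * c) := by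
      rw [hv, mul_pow, mul_assoc, ← mul_pow, hw', one_pow, mul_one, ← pow_mul, mul_comm]
    rw [hP, ht]
    conv_lhs => rw [hN', pow_add, ← h1]
    ring
  obtain ⟨s, hs⟩ := newton C (Ideal.span {π}) P x t htI hPt
  refine ⟨P.derivative.eval x * (v ^ 2 * w' ^ 2 * e * s), ?_⟩
  rw [← hs, ht]
  congr 2
  ring

/-- Uniqueness of nearby roots. -/
theorem uniq (C : Type*) [CommRing C] (π : C) (hreg : ∀ z : C, π * z = 0 → z = 0)
    (hjac : π ∈ Ideal.jacobson (⊥ : Ideal C))
    (P : C[X]) (x v w z : C) (c k : ℕ) (hw : IsUnit w)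
    (hv : v * P.derivative.eval x = π ^ c * w) (hx : P.eval x = 0)
    (hy : P.eval (x + π ^ k * z) = 0) (hk : c + 1 ≤ k) : z = 0 := by
  obtain ⟨q, hq⟩ := Polynomial.exists_mul_sq_add_linear_part_eq_eval_add P x (π ^ k * z)
  rw [hx, hy, add_zero] at hq
  obtain ⟨m, rfl⟩ : ∃ m, k = c + 1 + m := ⟨k - (c + 1), by omega⟩
  have hregpow : ∀ (n : ℕ) (z : C), π ^ n * z = 0 → z = 0 := by
    intro n
    induction n with
    | zero => intro z hz; simpa using hz
    | succ n ih =>
      intro z hz
      apply hreg
      apply ih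
      rw [← hz]; ring
  have h1 : π ^ (c + (c + 1 + m)) * (z * (w + π * (π ^ m * v * q * z))) = 0 := by
    have : v * (q * (π ^ (c + 1 + m) * z) ^ 2 + P.derivative.eval x * (π ^ (c + 1 + m) * z)) = 0 := by
      rw [hq, mul_zero]
    rw [← this]
    have e1 : v * (q * (π ^ (c + 1 + m) * z) ^ 2 + P.derivative.eval x * (π ^ (c + 1 + m) * z))
        = v * q * (π ^ (c + 1 + m) * z) ^ 2 + (v * P.derivative.eval x) * (π ^ (c + 1 + m) * z) := by
      ring
    rw [e1, hv]
    ring
  have h2 := hregpow _ _ h1
  have hu : IsUnit (w + π * (π ^ m * v * q * z)) := by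
    obtain ⟨w', hw'⟩ := hw.exists_right_inv
    rw [Ideal.mem_jacobson_bot] at hjac
    have h3 := hjac (π ^ m * v * q * z * w')
    have h4 : w + π * (π ^ m * v * q * z) = w * (π * (π ^ m * v * q * z * w') + 1) := by
      have : w * (π * (π ^ m * v * q * z * w') + 1)
          = π * (π ^ m * v * q * z) * (w * w') + w := by ring
      rw [this, hw', mul_one, add_comm]
    rw [h4]
    exact hw.mul h3
  exact (hu.mul_left_eq_zero).mp h2

end Groth.Agent.H6.Krasner
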