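import Mathlib
import Groth.Agent.Lib.Helper6.Kr1
import Groth.Agent.Lib.Helper9.CompleteDVRExt

/-! Krasner-type lemmas, part 2: `AdjoinRoot f ≃ AdjoinRoot g` for close monic polynomials over a
`π`-adically complete domain. -/

universe u

namespace Groth.Agent.H6.Krasner

open Polynomial

section
variable (O : Type u) [CommRing O] [IsDomain O] (π : O) [IsAdicComplete (Ideal.span {π}) O]

theorem adjoinRoot_complete (h : O[X]) (hm : h.Monic) :
    IsAdicComplete (Ideal.span {AdjoinRoot.of h π}) (AdjoinRoot h) := by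
  haveI : Module.Finite O (AdjoinRoot h) := (AdjoinRoot.powerBasis' hm).finite
  haveI : Module.Free O (AdjoinRoot h) := Module.Free.of_basis (AdjoinRoot.powerBasis' hm).basis
  haveI : IsAdicComplete (Ideal.span {π}) (AdjoinRoot h) :=
    Groth.Agent.H9.isAdicComplete_of_finite_projective (Ideal.span {π}) (AdjoinRoot h)
  have := Groth.Agent.H9.CDVR.isAdicComplete_map (A := O) (B := AdjoinRoot h) (Ideal.span {π})
  rwa [Ideal.map_span, Set.image_singleton, AdjoinRoot.algebraMap_eq] at this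

theorem adjoinRoot_regular (hπ : π ≠ 0) (h : O[X]) (hm : h.Monic) (z : AdjoinRoot h)
    (hz : AdjoinRoot.of h π * z = 0) : z = 0 := by
  haveI : Module.Free O (AdjoinRoot h) := Module.Free.of_basis (AdjoinRoot.powerBasis' hm).basis
  have h1 : π • z = 0 := by
    rw [Algebra.smul_def, AdjoinRoot.algebraMap_eq]
    exact hz
  exact (smul_eq_zero.mp h1).resolve_left hπ

theorem adjoinRoot_jac (h : O[X]) (hm : h.Monic) :
    AdjoinRoot.of h π ∈ Ideal.jacobson (⊥ : Ideal (AdjoinRoot h)) := by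
  haveI := adjoinRoot_complete O π h hm
  exact IsAdicComplete.le_jacobson_bot (Ideal.span {AdjoinRoot.of h π})
    (Ideal.subset_span (Set.mem_singleton _))

theorem isUnit_one_add (h : O[X]) (hm : h.Monic) (y : AdjoinRoot h) :
    IsUnit (1 + AdjoinRoot.of h π * y) := by
  have := adjoinRoot_jac O π h hm
  rw [Ideal.mem_jacobson_bot] at this
  have h2 := this y
  rwa [add_comm] at h2

/-- existence of a nearby root in `AdjoinRoot f` -/
theorem lemmaA (f P S T V' W' E' : O[X]) (hf : f.Monic) (c N : ℕ)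
    (h1 : P = S * f + C (π ^ N) * E')
    (h2 : V' * derivative P = T * f + C (π ^ c) * (1 + C π * W'))
    (hN : 2 * c + 1 ≤ N) :
    ∃ z : AdjoinRoot f,
      aeval (AdjoinRoot.root f + (AdjoinRoot.of f π) ^ (N - 2 * c) * z) P = 0 := by
  haveI := adjoinRoot_complete O π f hf
  have key := half (AdjoinRoot f) (AdjoinRoot.of f π) (P.map (AdjoinRoot.of f)) (AdjoinRoot.root f)
    (AdjoinRoot.mk f V') (1 + AdjoinRoot.of f π * AdjoinRoot.mk f W') (AdjoinRoot.mk f E') c N
    (isUnit_one_add O π f hf _) ?_ ?_ hN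
  · obtain ⟨z, hz⟩ := key
    refine ⟨z, ?_⟩
    rw [← hz, ← AdjoinRoot.algebraMap_eq, Polynomial.eval_map_algebraMap]
  · rw [Polynomial.derivative_map, ← AdjoinRoot.algebraMap_eq, Polynomial.eval_map_algebraMap,
      AdjoinRoot.aeval_eq, ← map_mul, h2]
    simp only [map_add, map_mul, map_pow, map_one, AdjoinRoot.mk_self, AdjoinRoot.mk_C, mul_zero,
      zero_add, AdjoinRoot.algebraMap_eq]
  · rw [← AdjoinRoot.algebraMap_eq, Polynomial.eval_map_algebraMap, AdjoinRoot.aeval_eq, h1]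
    simp only [map_add, map_mul, map_pow, AdjoinRoot.mk_self, AdjoinRoot.mk_C, mul_zero,
      zero_add, AdjoinRoot.algebraMap_eq]

/-- uniqueness of nearby roots in `AdjoinRoot f` -/
theorem lemmaB (hπ : π ≠ 0) (f T V' W' : O[X]) (hf : f.Monic) (c k : ℕ)
    (h2 : V' * derivative f = T * f + C (π ^ c) * (1 + C π * W'))
    (hk : c + 1 ≤ k) (z : AdjoinRoot f)
    (hz : aeval (AdjoinRoot.root f + (AdjoinRoot.of f π) ^ k * z) f = 0) : z = 0 := by
  refine uniq (AdjoinRoot f) (AdjoinRoot.of f π) (adjoinRoot_regular O π hπ f hf)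
    (adjoinRoot_jac O π f hf) (f.map (AdjoinRoot.of f)) (AdjoinRoot.root f)
    (AdjoinRoot.mk f V') (1 + AdjoinRoot.of f π * AdjoinRoot.mk f W') z c k
    (isUnit_one_add O π f hf _) ?_ ?_ ?_ hk
  · rw [Polynomial.derivative_map, ← AdjoinRoot.algebraMap_eq, Polynomial.eval_map_algebraMap,
      AdjoinRoot.aeval_eq, ← map_mul, h2]
    simp only [map_add, map_mul, map_pow, map_one, AdjoinRoot.mk_self, AdjoinRoot.mk_C, mul_zero,
      zero_add, AdjoinRoot.algebraMap_eq]
  · rw [← AdjoinRoot.algebraMap_eq, Polynomial.eval_map_algebraMap, AdjoinRoot.aeval_eq,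
      AdjoinRoot.mk_self]
  · rw [← hz, ← AdjoinRoot.algebraMap_eq, Polynomial.eval_map_algebraMap]


/-- close monic polynomials (relative to the discriminant-like exponent `c`) have isomorphic
`AdjoinRoot`s. -/
theorem adjoinRoot_equiv_of_close (hπ : π ≠ 0) (f g U V E : O[X]) (hf : f.Monic) (hg : g.Monic)
    (c N : ℕ) (hUV : U * f + V * derivative f = C (π ^ c)) (hgf : g = f + C (π ^ N) * E)
    (hN : 3 * c + 1 ≤ N) : Nonempty (AdjoinRoot f ≃ₐ[O] AdjoinRoot g) := by
  obtain ⟨m, rfl⟩ : ∃ m, N = c + 1 + m := ⟨N - (c + 1), by omega⟩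
  have dg : derivative g = derivative f + C (π ^ (c + 1 + m)) * derivative E := by
    rw [hgf, derivative_add, derivative_C_mul]
  simp only [C_pow] at hUV hgf dg
  set k := c + 1 + m - 2 * c with hk
  have hk1 : c + 1 ≤ k := by omega
  have hN2 : 2 * c + 1 ≤ c + 1 + m := by omega
  obtain ⟨zf, hzf⟩ := lemmaA O π f g 1 (-U) V (C (π ^ m) * (V * derivative E)) E hf c (c + 1 + m)
    (by simp only [C_pow]; rw [hgf]; ring)
    (by simp only [C_pow]; rw [dg]; linear_combination hUV) hN2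
  obtain ⟨zg, hzg⟩ := lemmaA O π g f 1 (-U) V (C (π ^ m) * (U * E)) (-E) hg c (c + 1 + m)
    (by simp only [C_pow]; rw [hgf]; ring)
    (by simp only [C_pow]; rw [hgf]; linear_combination hUV) hN2
  rw [← hk] at hzf hzg
  set bf := AdjoinRoot.root f + (AdjoinRoot.of f π) ^ k * zf with hbf
  set bg := AdjoinRoot.root g + (AdjoinRoot.of g π) ^ k * zg with hbg
  let φ : AdjoinRoot g →ₐ[O] AdjoinRoot f :=
    AdjoinRoot.liftAlgHom g (Algebra.ofId O (AdjoinRoot f)) bf hzf
  let ψ : AdjoinRoot f →ₐ[O] AdjoinRoot g :=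
    AdjoinRoot.liftAlgHom f (Algebra.ofId O (AdjoinRoot g)) bg hzg
  have hφr : φ (AdjoinRoot.root g) = bf := AdjoinRoot.liftAlgHom_root _ _ _ _
  have hψr : ψ (AdjoinRoot.root f) = bg := AdjoinRoot.liftAlgHom_root _ _ _ _
  have hφπ : φ (AdjoinRoot.of g π) = AdjoinRoot.of f π := by
    rw [← AdjoinRoot.algebraMap_eq, ← AdjoinRoot.algebraMap_eq, φ.commutes]
  have hψπ : ψ (AdjoinRoot.of f π) = AdjoinRoot.of g π := by
    rw [← AdjoinRoot.algebraMap_eq, ← AdjoinRoot.algebraMap_eq, ψ.commutes]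
  have h1 : ψ (φ (AdjoinRoot.root g)) = AdjoinRoot.root g := by
    have e1 : ψ (φ (AdjoinRoot.root g)) =
        AdjoinRoot.root g + (AdjoinRoot.of g π) ^ k * (zg + ψ zf) := by
      rw [hφr, hbf, map_add, map_mul, map_pow, hψr, hψπ, hbg]
      ring
    have e2 : aeval (ψ (φ (AdjoinRoot.root g))) g = 0 :=
      AdjoinRoot.aeval_algHom_eq_zero g (ψ.comp φ)
    rw [e1] at e2
    have := lemmaB O π hπ g (-U) V (C (π ^ m) * (U * E + V * derivative E)) hg c k
      (by simp only [C_pow]; rw [dg, hgf]; linear_combination hUV) hk1 _ e2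
    rw [e1, this, mul_zero, add_zero]
  have h2 : φ (ψ (AdjoinRoot.root f)) = AdjoinRoot.root f := by
    have e1 : φ (ψ (AdjoinRoot.root f)) =
        AdjoinRoot.root f + (AdjoinRoot.of f π) ^ k * (zf + φ zg) := by
      rw [hψr, hbg, map_add, map_mul, map_pow, hφr, hφπ, hbf]
      ring
    have e2 : aeval (φ (ψ (AdjoinRoot.root f))) f = 0 :=
      AdjoinRoot.aeval_algHom_eq_zero f (φ.comp ψ)
    rw [e1] at e2
    have := lemmaB O π hπ f (-U) V 0 hf c k
      (by simp only [C_pow]; linear_combination hUV) hk1 _ e2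
    rw [e1, this, mul_zero, add_zero]
  exact ⟨AlgEquiv.ofAlgHom ψ φ (AdjoinRoot.algHom_ext (by simpa using h1))
    (AdjoinRoot.algHom_ext (by simpa using h2))⟩

end

end Groth.Agent.H6.Krasner
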