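import Mathlib
import Groth.Agent.S0549

/-! Krasner-type lemmas, part 3: the completion of a DVR. -/

universe u

namespace Groth.Agent.H6.Krasner

open Polynomial IsLocalRing

section
variable (A : Type u) [CommRing A] [IsDomain A] [IsDiscreteValuationRing A]

theorem completion_span (ϖ : A) (hϖ : Irreducible ϖ) :
    maximalIdeal (AdicCompletion (maximalIdeal A) A) =
      Ideal.span {algebraMap A (AdicCompletion (maximalIdeal A) A) ϖ} := by
  rw [AdicCompletion.maximalIdeal_eq_map, hϖ.maximalIdeal_eq, Ideal.map_span, Set.image_singleton]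

theorem completion_approx (ϖ : A) (hϖ : Irreducible ϖ) (x : AdicCompletion (maximalIdeal A) A)
    (N : ℕ) : ∃ (a : A) (y : AdicCompletion (maximalIdeal A) A),
      x = algebraMap A (AdicCompletion (maximalIdeal A) A) a +
        (algebraMap A (AdicCompletion (maximalIdeal A) A) ϖ) ^ N * y := by
  have fg : (maximalIdeal A).FG := (maximalIdeal A).fg_of_isNoetherianRing
  rcases Submodule.Quotient.mk_surjective _ (x.1 N) with ⟨a, ha⟩
  have h1 : x - algebraMap A (AdicCompletion (maximalIdeal A) A) a ∈
      (maximalIdeal A) ^ N • (⊤ : Submodule A (AdicCompletion (maximalIdeal A) A)) := by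
    rw [AdicCompletion.algebraMap_apply, AdicCompletion.pow_smul_top_eq_ker_eval fg]
    simpa [AdicCompletion.eval, sub_eq_zero] using ha.symm
  have hpow : maximalIdeal A ^ N = Ideal.span {ϖ ^ N} := by
    rw [hϖ.maximalIdeal_eq, Ideal.span_singleton_pow]
  rw [Ideal.smul_top_eq_map, Submodule.restrictScalars_mem, hpow,
    Ideal.map_span, Set.image_singleton, Ideal.mem_span_singleton',
    map_pow] at h1
  obtain ⟨y, hy⟩ := h1
  refine ⟨a, y, ?_⟩
  rw [mul_comm, hy]
  ring

theorem completion_dvr (ϖ : A) (hϖ : Irreducible ϖ) :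
    ∃ (_ : IsDomain (AdicCompletion (maximalIdeal A) A))
      (_ : IsDiscreteValuationRing (AdicCompletion (maximalIdeal A) A)),
      Irreducible (algebraMap A (AdicCompletion (maximalIdeal A) A) ϖ) ∧
      IsAdicComplete (Ideal.span {algebraMap A (AdicCompletion (maximalIdeal A) A) ϖ})
        (AdicCompletion (maximalIdeal A) A) := by
  obtain ⟨hd, hdvr⟩ := (Groth.Agent.S0549.result A).mp ⟨inferInstance, inferInstance⟩
  refine ⟨hd, hdvr, ?_, ?_⟩
  · rw [IsDiscreteValuationRing.irreducible_iff_uniformizer]
    exact completion_span A ϖ hϖ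
  · rw [← completion_span A ϖ hϖ]
    infer_instance

end

end Groth.Agent.H6.Krasner
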