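import Mathlib
import Groth.Agent.Lib.Helper6.Kr2
import Groth.Agent.Lib.Helper6.Kr3

/-! Krasner-type lemmas, part 4: finite separable extensions of the fraction field of the
completion of a DVR descend. -/

universe u

namespace Groth.Agent.H6.Krasner

open Polynomial IsLocalRing TensorProduct IntermediateField

section P1
variable (O : Type u) [CommRing O] [IsDomain O] [IsIntegrallyClosed O]
  (F : Type u) [Field F] [Algebra O F] [IsFractionRing O F]
  (M : Type u) [Field M] [Algebra F M] [FiniteDimensional F M] [Algebra.IsSeparable F M]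
  [Algebra O M] [IsScalarTower O F M]

/-- an integral primitive element and its monic minimal polynomial over `O` -/
theorem exists_integral_primitive :
    ∃ (α : M) (f₀ : O[X]), f₀.Monic ∧ aeval α f₀ = 0 ∧ f₀.natDegree = Module.finrank F M ∧
      F⟮α⟯ = ⊤ ∧ (f₀.map (algebraMap O F)).Separable := by
  obtain ⟨α₀, hα₀⟩ := Field.exists_primitive_element F M
  have halg : IsAlgebraic O α₀ := by
    have h1 : IsAlgebraic F α₀ := Algebra.IsAlgebraic.isAlgebraic α₀
    exact (IsFractionRing.isAlgebraic_iff O F M).mpr h1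
  obtain ⟨d, hd, hint⟩ := halg.exists_integral_multiple
  set α : M := d • α₀ with hα
  have hdF : algebraMap O F d ≠ 0 := by
    rw [Ne, map_eq_zero_iff _ (IsFractionRing.injective O F)]
    exact hd
  have hα' : α = (algebraMap O F d) • α₀ := by
    rw [hα, algebraMap_smul]
  have htop : F⟮α⟯ = ⊤ := by
    rw [eq_top_iff, ← hα₀, IntermediateField.adjoin_simple_le_iff]
    have h1 : α ∈ F⟮α⟯ := IntermediateField.mem_adjoin_simple_self F α
    have h2 : α₀ = (algebraMap O F d)⁻¹ • α := by
      rw [hα', smul_smul, inv_mul_cancel₀ hdF, one_smul]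
    rw [h2]
    exact F⟮α⟯.smul_mem h1
  have hmin : minpoly F α = (minpoly O α).map (algebraMap O F) :=
    minpoly.isIntegrallyClosed_eq_field_fractions' F hint
  refine ⟨α, minpoly O α, minpoly.monic hint, minpoly.aeval O α, ?_, htop, ?_⟩
  · have h1 : (minpoly F α).natDegree = Module.finrank F M := by
      rw [← IntermediateField.adjoin.finrank (Algebra.IsIntegral.isIntegral α), htop,
        IntermediateField.finrank_top']
    rw [← h1, hmin, (minpoly.monic hint).natDegree_map]
  · rw [← hmin]
    exact Algebra.IsSeparable.isSeparable F α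

end P1


section P2
variable (O : Type u) [CommRing O] [IsDomain O] [IsDiscreteValuationRing O]
  (F : Type u) [Field F] [Algebra O F] [IsFractionRing O F]

/-- Bezout relation over `O` for a polynomial which is separable over the fraction field -/
theorem exists_bezout (ϖ : O) (hϖ : Irreducible ϖ) (f₀ : O[X])
    (hsep : (f₀.map (algebraMap O F)).Separable) :
    ∃ (U V : O[X]) (c : ℕ), U * f₀ + V * derivative f₀ = C (ϖ ^ c) := by
  obtain ⟨u, v, huv⟩ := hsep
  obtain ⟨b₁, hb₁, hU⟩ := IsLocalization.integerNormalization_spec (nonZeroDivisors O) u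
  obtain ⟨b₂, hb₂, hV⟩ := IsLocalization.integerNormalization_spec (nonZeroDivisors O) v
  set U₁ := IsLocalization.integerNormalization (nonZeroDivisors O) u
  set V₁ := IsLocalization.integerNormalization (nonZeroDivisors O) v
  have hinj : Function.Injective (Polynomial.map (algebraMap O F)) :=
    Polynomial.map_injective _ (IsFractionRing.injective O F)
  have key : C b₂ * U₁ * f₀ + C b₁ * V₁ * derivative f₀ = C (b₁ * b₂) := by
    apply hinj
    simp only [Polynomial.map_add, Polynomial.map_mul, Polynomial.map_C, hU, hV]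
    rw [← Polynomial.derivative_map]
    have e1 : C ((algebraMap O F) b₂) * b₁ • u * Polynomial.map (algebraMap O F) f₀ +
        C ((algebraMap O F) b₁) * b₂ • v * derivative (Polynomial.map (algebraMap O F) f₀) =
        C ((algebraMap O F) b₁) * C ((algebraMap O F) b₂) *
          (u * Polynomial.map (algebraMap O F) f₀ +
            v * derivative (Polynomial.map (algebraMap O F) f₀)) := by
      rw [Algebra.smul_def, Algebra.smul_def]
      simp only [Polynomial.algebraMap_apply]
      ring
    rw [e1, huv, mul_one, map_mul, C_mul]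
  have hb : b₁ * b₂ ≠ 0 :=
    mul_ne_zero (nonZeroDivisors.ne_zero hb₁) (nonZeroDivisors.ne_zero hb₂)
  obtain ⟨c, w, hw⟩ := IsDiscreteValuationRing.eq_unit_mul_pow_irreducible hb hϖ
  refine ⟨C (↑w⁻¹ : O) * (C b₂ * U₁), C (↑w⁻¹ : O) * (C b₁ * V₁), c, ?_⟩
  have : C (↑w⁻¹ : O) * (C b₂ * U₁) * f₀ + C (↑w⁻¹ : O) * (C b₁ * V₁) * derivative f₀ =
      C (↑w⁻¹ : O) * (C b₂ * U₁ * f₀ + C b₁ * V₁ * derivative f₀) := by ring
  rw [this, key, hw, ← C_mul, ← mul_assoc, Units.inv_mul, one_mul]

end P2


section P3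
variable (A : Type u) [CommRing A] [Nontrivial A] (O : Type u) [CommRing O] [Algebra A O] (ϖ : O)

/-- approximating a monic polynomial over `O` by one coming from `A` -/
theorem exists_approx_poly
    (happrox : ∀ x : O, ∃ (a : A) (y : O), x = algebraMap A O a + ϖ * y)
    (f₀ : O[X]) (hf : f₀.Monic) :
    ∃ (gA : A[X]) (E : O[X]), gA.Monic ∧ gA.natDegree = f₀.natDegree ∧
      gA.map (algebraMap A O) = f₀ + C ϖ * E := by
  choose a y hxy using happrox
  set n := f₀.natDegree with hn
  set r : A[X] := ∑ i ∈ Finset.range n, C (a (f₀.coeff i)) * X ^ i with hr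
  have hdeg : r.degree < n := by
    refine (degree_sum_le _ _).trans_lt ?_
    refine (Finset.sup_lt_iff (WithBot.bot_lt_coe n)).mpr ?_
    intro i hi
    refine (degree_C_mul_X_pow_le i _).trans_lt ?_
    exact Nat.cast_lt.mpr (Finset.mem_range.mp hi)
  have hsum : f₀ = X ^ n + ∑ i ∈ Finset.range n, C (f₀.coeff i) * X ^ i := hf.as_sum
  refine ⟨X ^ n + r, -∑ i ∈ Finset.range n, C (y (f₀.coeff i)) * X ^ i,
    monic_X_pow_add hdeg, ?_, ?_⟩
  · rw [natDegree_add_eq_left_of_degree_lt, natDegree_X_pow]
    rwa [degree_X_pow]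
  · calc (X ^ n + r).map (algebraMap A O)
        = X ^ n + ∑ i ∈ Finset.range n, C (algebraMap A O (a (f₀.coeff i))) * X ^ i := by
          rw [Polynomial.map_add, Polynomial.map_pow, Polynomial.map_X, hr, Polynomial.map_sum]
          congr 1
          refine Finset.sum_congr rfl fun i _ => ?_
          rw [Polynomial.map_mul, Polynomial.map_C, Polynomial.map_pow, Polynomial.map_X]
      _ = (X ^ n + ∑ i ∈ Finset.range n, C (f₀.coeff i) * X ^ i) +
            C ϖ * -∑ i ∈ Finset.range n, C (y (f₀.coeff i)) * X ^ i := by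
          rw [add_assoc]
          congr 1
          rw [mul_neg, Finset.mul_sum, ← sub_eq_add_neg, ← Finset.sum_sub_distrib]
          refine Finset.sum_congr rfl fun i _ => ?_
          have e : C (f₀.coeff i) =
              C (algebraMap A O (a (f₀.coeff i))) + C ϖ * C (y (f₀.coeff i)) := by
            rw [← C_mul, ← C_add]
            exact congrArg C (hxy _)
          rw [e]
          ring
      _ = f₀ + C ϖ * -∑ i ∈ Finset.range n, C (y (f₀.coeff i)) * X ^ i := by
          rw [← hsum]

end P3


section P4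
variable (A K : Type u) [CommRing A] [IsDomain A] [Field K] [Algebra A K]
  (O : Type u) [CommRing O] [IsDomain O] [IsDiscreteValuationRing O] [Algebra A O]
  (F : Type u) [Field F] [Algebra O F] [IsFractionRing O F] [Algebra A F] [Algebra K F]
  [IsScalarTower A O F] [IsScalarTower A K F]
  (M : Type u) [Field M] [Algebra F M] [FiniteDimensional F M] [Algebra.IsSeparable F M]
  [Algebra O M] [IsScalarTower O F M] [Algebra K M] [IsScalarTower K F M]

set_option maxHeartbeats 1600000 in
theorem descent (ϖ : O) (hϖ : Irreducible ϖ) [IsAdicComplete (Ideal.span {ϖ}) O]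
    (happrox : ∀ (N : ℕ) (x : O), ∃ (a : A) (y : O), x = algebraMap A O a + ϖ ^ N * y) :
    ∃ (L : Type u) (_ : Field L) (_ : Algebra K L), FiniteDimensional K L ∧
      Algebra.IsSeparable K L ∧ Nonempty ((F ⊗[K] L) ≃ₐ[F] M) := by
  obtain ⟨α, f₀, hf, hα, hdeg, htop, hsep⟩ := exists_integral_primitive O F M
  obtain ⟨U, V, c, hUV⟩ := exists_bezout O F ϖ hϖ f₀ hsep
  obtain ⟨gA, E, hgm, hgdeg, hgE⟩ :=
    exists_approx_poly A O (ϖ ^ (3 * c + 1)) (happrox _) f₀ hf
  set g₀ := gA.map (algebraMap A O) with hg₀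
  have hg₀m : g₀.Monic := hgm.map _
  obtain ⟨e⟩ := adjoinRoot_equiv_of_close O ϖ hϖ.ne_zero f₀ g₀ U V E hf hg₀m c (3 * c + 1)
    hUV hgE le_rfl
  let ι : AdjoinRoot f₀ →ₐ[O] M := AdjoinRoot.liftAlgHom f₀ (Algebra.ofId O M) α hα
  let κ : AdjoinRoot g₀ →ₐ[O] M := ι.comp e.symm.toAlgHom
  set β := κ (AdjoinRoot.root g₀) with hβ
  have hβ0 : aeval β g₀ = 0 := AdjoinRoot.aeval_algHom_eq_zero g₀ κ
  obtain ⟨q, hq⟩ := AdjoinRoot.mk_surjective (e (AdjoinRoot.root f₀))
  have hαq : α = aeval β q := by
    have h1 : κ (e (AdjoinRoot.root f₀)) = α := by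
      show ι (e.symm (e (AdjoinRoot.root f₀))) = α
      rw [e.symm_apply_apply]
      exact AdjoinRoot.liftAlgHom_root _ _ _ _
    rw [← h1, ← hq, ← AdjoinRoot.aeval_eq, hβ, Polynomial.aeval_algHom_apply]
  have htopβ : F⟮β⟯ = ⊤ := by
    rw [eq_top_iff, ← htop, IntermediateField.adjoin_simple_le_iff, hαq,
      ← Polynomial.aeval_map_algebraMap F]
    exact IntermediateField.algebra_adjoin_le_adjoin F {β}
      (Polynomial.aeval_mem_adjoin_singleton F β)
  set gF := gA.map (algebraMap A F) with hgF
  have hgF' : gF = g₀.map (algebraMap O F) := by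
    rw [hg₀, Polynomial.map_map, ← IsScalarTower.algebraMap_eq]
  have hgFm : gF.Monic := hgm.map _
  have hβF : aeval β gF = 0 := by rw [hgF', Polynomial.aeval_map_algebraMap, hβ0]
  have hβint : IsIntegral F β := Algebra.IsIntegral.isIntegral β
  have hminβ : gF = minpoly F β := by
    refine Polynomial.eq_of_monic_of_dvd_of_natDegree_le (minpoly.monic hβint) hgFm
      (minpoly.dvd F β hβF) ?_
    rw [hgm.natDegree_map, hgdeg, hdeg, ← IntermediateField.adjoin.finrank hβint, htopβ,
      IntermediateField.finrank_top']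
  set gK := gA.map (algebraMap A K) with hgK
  have hgKm : gK.Monic := hgm.map _
  have hKF : gK.map (algebraMap K F) = gF := by
    rw [hgK, Polynomial.map_map, ← IsScalarTower.algebraMap_eq]
  have hirr : Irreducible gK := by
    refine Polynomial.Monic.irreducible_of_irreducible_map (algebraMap K F) gK hgKm ?_
    rw [hKF, hminβ]
    exact minpoly.irreducible hβint
  have hsepK : gK.Separable := by
    refine (Polynomial.separable_map (algebraMap K F)).mp ?_
    rw [hKF, hminβ]
    exact Algebra.IsSeparable.isSeparable F β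
  haveI : Fact (Irreducible gK) := ⟨hirr⟩
  haveI hfinL : Module.Finite K (AdjoinRoot gK) := hgKm.finite_adjoinRoot
  have hβK : aeval β gK = 0 := by
    rw [← Polynomial.aeval_map_algebraMap F, hKF]
    exact hβF
  refine ⟨AdjoinRoot gK, inferInstance, inferInstance, hfinL, ?_, ?_⟩
  · have h1 : IsSeparable K (AdjoinRoot.root gK) := by
      unfold IsSeparable
      rw [AdjoinRoot.minpoly_root hgKm.ne_zero, hgKm.leadingCoeff, inv_one, C_1, mul_one]
      exact hsepK
    have h2 : K⟮AdjoinRoot.root gK⟯ = ⊤ :=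
      IntermediateField.adjoin_eq_top_of_algebra K _ AdjoinRoot.adjoinRoot_eq_top
    rw [← IntermediateField.isSeparable_top, ← h2]
    exact (IntermediateField.isSeparable_adjoin_simple_iff_isSeparable K (AdjoinRoot gK)).mpr h1
  · let τ : AdjoinRoot gK →ₐ[K] M := AdjoinRoot.liftAlgHom gK (Algebra.ofId K M) β hβK
    let Φ : F ⊗[K] AdjoinRoot gK →ₐ[F] M :=
      Algebra.TensorProduct.lift (Algebra.ofId F M) τ (fun _ _ => Commute.all _ _)
    have hΦβ : Φ (1 ⊗ₜ AdjoinRoot.root gK) = β := by
      show Algebra.TensorProduct.lift (Algebra.ofId F M) τ _ (1 ⊗ₜ AdjoinRoot.root gK) = β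
      rw [Algebra.TensorProduct.lift_tmul, map_one, one_mul]
      exact AdjoinRoot.liftAlgHom_root _ _ _ _
    have hadj : Algebra.adjoin F {β} = ⊤ := by
      rw [← IntermediateField.adjoin_simple_toSubalgebra_of_isAlgebraic hβint.isAlgebraic, htopβ,
        IntermediateField.top_toSubalgebra]
    have hsurj : Function.Surjective Φ := by
      rw [← AlgHom.range_eq_top, eq_top_iff, ← hadj]
      exact Algebra.adjoin_le (Set.singleton_subset_iff.mpr ⟨_, hΦβ⟩)
    have hfin : Module.finrank F (F ⊗[K] AdjoinRoot gK) = Module.finrank F M := by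
      rw [Module.finrank_baseChange, ← hdeg, ← hgdeg, (AdjoinRoot.powerBasis' hgKm).finrank,
        AdjoinRoot.powerBasis'_dim, hgm.natDegree_map]
    have hinj : Function.Injective Φ :=
      (LinearMap.injective_iff_surjective_of_finrank_eq_finrank (f := Φ.toLinearMap) hfin).mpr
        hsurj
    exact ⟨AlgEquiv.ofBijective Φ ⟨hinj, hsurj⟩⟩

end P4

section Final

theorem s7138 (A K : Type u) [CommRing A] [IsDomain A]
    [IsDiscreteValuationRing A] [Field K] [Algebra A K] [IsFractionRing A K]
    (Kh : Type u) [Field Kh] [Algebra (AdicCompletion (IsLocalRing.maximalIdeal A) A) Kh]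
    [IsFractionRing (AdicCompletion (IsLocalRing.maximalIdeal A) A) Kh] [Algebra A Kh] [Algebra K Kh]
    [IsScalarTower A (AdicCompletion (IsLocalRing.maximalIdeal A) A) Kh] [IsScalarTower A K Kh]
    (M : Type u) [Field M] [Algebra Kh M] [FiniteDimensional Kh M] [Algebra.IsSeparable Kh M] :
    ∃ (L : Type u) (_ : Field L) (_ : Algebra K L), FiniteDimensional K L ∧ Algebra.IsSeparable K L ∧
      Nonempty ((Kh ⊗[K] L) ≃ₐ[Kh] M) := by
  obtain ⟨ϖ, hϖ⟩ := IsDiscreteValuationRing.exists_irreducible A
  obtain ⟨hd, hdvr, hirr, hcompl⟩ := completion_dvr A ϖ hϖ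
  letI : Algebra (AdicCompletion (maximalIdeal A) A) M :=
    ((algebraMap Kh M).comp (algebraMap (AdicCompletion (maximalIdeal A) A) Kh)).toAlgebra
  haveI : IsScalarTower (AdicCompletion (maximalIdeal A) A) Kh M :=
    IsScalarTower.of_algebraMap_eq (fun _ => rfl)
  letI : Algebra K M := ((algebraMap Kh M).comp (algebraMap K Kh)).toAlgebra
  haveI : IsScalarTower K Kh M := IsScalarTower.of_algebraMap_eq (fun _ => rfl)
  exact descent A K (AdicCompletion (maximalIdeal A) A) Kh M
    (algebraMap A (AdicCompletion (maximalIdeal A) A) ϖ) hirr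
    (fun N x => completion_approx A ϖ hϖ x N)

end Final

end Groth.Agent.H6.Krasner
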