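import Mathlib
import Groth.Agent.Lib.Helper6.Kr4

/-!
# Krasner descent, element form
-/

set_option autoImplicit false
universe u

namespace Groth.Agent.H6.EppGen

open Polynomial IsLocalRing TensorProduct IntermediateField Groth.Agent.H6.Krasner

section
variable (A : Type u) [CommRing A] [IsDomain A]
  (O : Type u) [CommRing O] [IsDomain O] [IsDiscreteValuationRing O] [Algebra A O]
  (F : Type u) [Field F] [Algebra O F] [IsFractionRing O F]
  (M : Type u) [Field M] [Algebra F M] [FiniteDimensional F M] [Algebra.IsSeparable F M]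
  [Algebra O M] [IsScalarTower O F M]

set_option maxHeartbeats 1600000 in
/-- Krasner: a finite separable extension of the fraction field of a complete DVR `O` is generated
by a root of a monic polynomial with coefficients in a dense subring `A`. -/
theorem descent_elt (ϖ : O) (hϖ : Irreducible ϖ) [IsAdicComplete (Ideal.span {ϖ}) O]
    (happrox : ∀ (N : ℕ) (x : O), ∃ (a : A) (y : O), x = algebraMap A O a + ϖ ^ N * y) :
    ∃ (β : M) (gA : A[X]), gA.Monic ∧ gA.natDegree = Module.finrank F M ∧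
      aeval β (gA.map (algebraMap A O)) = 0 ∧ F⟮β⟯ = ⊤ := by
  obtain ⟨α, f₀, hf, hα, hdeg, htop, hsep⟩ := exists_integral_primitive O F M
  obtain ⟨U, V, c, hUV⟩ := exists_bezout O F ϖ hϖ f₀ hsep
  obtain ⟨gA, E, hgm, hgdeg, hgE⟩ :=
    exists_approx_poly A O (ϖ ^ (3 * c + 1)) (happrox _) f₀ hf
  set g₀ := gA.map (algebraMap A O) with hg₀
  have hg₀m : g₀.Monic := hgm.map _
  obtain ⟨e⟩ := adjoinRoot_equiv_of_close O ϖ hϖ.ne_zero f₀ g₀ U V E hf hg₀m c (3 * c + 1)
    hUV hgE le_rfl
  let ι : AdjoinRoot f₀ →ₐ[O] M := AdjoinRoot.liftAlgHom f₀ (Algebra.ofId O M) α hα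
  let κ : AdjoinRoot g₀ →ₐ[O] M := ι.comp e.symm.toAlgHom
  set β := κ (AdjoinRoot.root g₀) with hβ
  have hβ0 : aeval β g₀ = 0 := AdjoinRoot.aeval_algHom_eq_zero g₀ κ
  obtain ⟨q, hq⟩ := AdjoinRoot.mk_surjective (e (AdjoinRoot.root f₀))
  have hαq : α = aeval β q := by
    have h1 : κ (e (AdjoinRoot.root f₀)) = α := by
      show ι (e.symm (e (AdjoinRoot.root f₀))) = α
      rw [e.symm_apply_apply]
      exact AdjoinRoot.liftAlgHom_root _ _ _ _
    rw [← h1, ← hq, ← AdjoinRoot.aeval_eq, hβ, Polynomial.aeval_algHom_apply]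
  have htopβ : F⟮β⟯ = ⊤ := by
    rw [eq_top_iff, ← htop, IntermediateField.adjoin_simple_le_iff, hαq,
      ← Polynomial.aeval_map_algebraMap F]
    exact IntermediateField.algebra_adjoin_le_adjoin F {β}
      (Polynomial.aeval_mem_adjoin_singleton F β)
  exact ⟨β, gA, hgm, by rw [hgdeg, hdeg], hβ0, htopβ⟩

end

end Groth.Agent.H6.EppGen
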