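import Mathlib
import Groth.Agent.Lib.Helper6.EG4
import Groth.Agent.Lib.Helper6.EG5

/-!
# Epp, general case: descending finite separable extensions along dense subfields (internal form)
-/

set_option autoImplicit false
universe u

namespace Groth.Agent.H6.EppGen

open IsLocalRing Groth.Agent.H8 Groth.Agent.H6.EppTower Polynomial

variable {Ω : Type u} [Field Ω] {V : ValuationSubring Ω}

section Approx

/-- Density gives the approximation property needed for Krasner's lemma. -/
theorem happrox_of_dense (E' E : Subfield Ω) [Fact (E' ≤ E)] {π : Ω} (hπE' : π ∈ E') (hπ0 : π ≠ 0)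
    (hπ : IsU V E π) (hd : Dense V π E' E) (N : ℕ) (x : O V E) :
    ∃ (a : O V E') (y : O V E), x = algebraMap (O V E') (O V E) a + hπ.elt ^ N * y := by
  have hE'E : E' ≤ E := Fact.out
  obtain ⟨a₀, ha₀, hxa⟩ := hd ((x : E) : Ω) (x : E).2 N
  have hx1 : V.valuation ((x : E) : Ω) ≤ 1 := val_O_le_one V E x
  have hπ1 : V.valuation π < 1 := hπ.2.1
  have hle1 : V.valuation (((x : E) : Ω) - a₀) ≤ 1 := hxa.trans (pow_le_one₀ zero_le' hπ1.le)
  have ha1 : V.valuation a₀ ≤ 1 := by
    have : a₀ = ((x : E) : Ω) - (((x : E) : Ω) - a₀) := by ring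
    rw [this]
    exact (Valuation.map_sub _ _ _).trans (max_le hx1 hle1)
  have hvπ : V.valuation π ≠ 0 := (Valuation.ne_zero_iff _).mpr hπ0
  have hy1 : V.valuation ((((x : E) : Ω) - a₀) / π ^ N) ≤ 1 := by
    rw [map_div₀, map_pow]
    exact div_le_one_of_le₀ hxa zero_le'
  have hyE : (((x : E) : Ω) - a₀) / π ^ N ∈ E :=
    E.div_mem (E.sub_mem (x : E).2 (hE'E ha₀)) (E.pow_mem hπ.1 N)
  refine ⟨⟨⟨a₀, ha₀⟩, (V.valuation_le_one_iff _).mp ha1⟩,
    ⟨⟨_, hyE⟩, (V.valuation_le_one_iff _).mp hy1⟩, ?_⟩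
  apply Subtype.ext
  apply Subtype.ext
  show ((x : E) : Ω) = a₀ + π ^ N * ((((x : E) : Ω) - a₀) / π ^ N)
  field_simp
  ring

end Approx

section Gen

/-- Krasner, internal form: a finite separable extension `M` of a complete discretely valued
subfield `E` is generated by a root of a monic polynomial of degree `[M : E]` with coefficients
in the valuation ring of a dense subfield `E'`. -/
theorem exists_gen (E' E M : Subfield Ω) [Fact (E' ≤ E)] [Fact (E ≤ M)]
    [IsDiscreteValuationRing (O V E)] [IsAdicComplete (maximalIdeal (O V E)) (O V E)]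
    {π : Ω} (hπE' : π ∈ E') (hπ0 : π ≠ 0) (hπ : IsU V E π) (hd : Dense V π E' E)
    [FiniteDimensional E M] [Algebra.IsSeparable E M] :
    ∃ (β : M) (g : (O V E')[X]), g.Monic ∧ g.natDegree = Module.finrank E M ∧
      (g.map (ι V E')).eval (β : Ω) = 0 ∧ IntermediateField.adjoin E ({β} : Set M) = ⊤ ∧
      ∀ x ∈ M, x ∈ IntermediateField.adjoin E ({(β : Ω)} : Set Ω) := by
  have hirr : Irreducible hπ.elt :=
    (IsDiscreteValuationRing.irreducible_iff_uniformizer _).mpr (hπ.span_eq hπ0)
  haveI : IsAdicComplete (Ideal.span {hπ.elt}) (O V E) := by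
    rw [← hπ.span_eq hπ0]
    infer_instance
  obtain ⟨β, gA, hgm, hgdeg, hβ0, htop⟩ := descent_elt (O V E') (O V E) E M hπ.elt hirr
    (fun N x => happrox_of_dense E' E hπE' hπ0 hπ hd N x)
  refine ⟨β, gA, hgm, hgdeg, ?_, htop, ?_⟩
  · have h1 := congrArg M.subtype hβ0
    rw [map_zero, aeval_def, Polynomial.hom_eval₂, eval₂_map] at h1
    rw [eval_map]
    exact h1
  · intro x hx
    let j : M →ₐ[E] Ω := IsScalarTower.toAlgHom E M Ω
    have h2 : (IntermediateField.adjoin E ({β} : Set M)).map j =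
        IntermediateField.adjoin E ({(β : Ω)} : Set Ω) := by
      rw [IntermediateField.adjoin_map, Set.image_singleton]
      rfl
    rw [← h2, htop]
    exact ⟨⟨x, hx⟩, IntermediateField.mem_top, rfl⟩

end Gen

end Groth.Agent.H6.EppGen
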