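import Mathlib
import Groth.Agent.Lib.Helper6.EG6

/-!
# Epp, general case: descent of a finite normal separable extension from the closure of `K` to `K`
-/

set_option autoImplicit false
universe u

namespace Groth.Agent.H6.EppGen

open IsLocalRing Groth.Agent.H8 Groth.Agent.H6.EppTower Polynomial

variable {Ω : Type u} [Field Ω] {V : ValuationSubring Ω} [IsAlgClosed Ω]

/-- Step β: a finite normal separable extension `M` of the complete field `Kc`, in which `K` is
dense, is of the form `Kc ⊔ F` with `F/K` finite normal. -/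
theorem step_beta (K Kc M : Subfield Ω) [Fact (K ≤ Kc)] [Fact (Kc ≤ M)]
    [IsDiscreteValuationRing (O V Kc)] [IsAdicComplete (maximalIdeal (O V Kc)) (O V Kc)]
    {π : Ω} (hπK : π ∈ K) (hπ0 : π ≠ 0) (hπ : IsU V Kc π) (hd : Dense V π K Kc)
    [FiniteDimensional Kc M] [Algebra.IsSeparable Kc M] [Normal Kc M] :
    ∃ (F : Subfield Ω) (hKF : K ≤ F),
      (haveI := Fact.mk hKF; FiniteDimensional K F ∧ Normal K F) ∧ Kc ⊔ F = M := by
  have hKKc : K ≤ Kc := Fact.out
  have hKcM : Kc ≤ M := Fact.out
  obtain ⟨β, g, hgm, hgdeg, hβ0, htop, hgen⟩ := exists_gen K Kc M hπK hπ0 hπ hd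
  -- the polynomial over `K`
  set gK : K[X] := g.map (O V K).subtype with hgK
  have hgKm : gK.Monic := hgm.map _
  have hgKΩ : gK.map (algebraMap K Ω) = g.map (ι V K) := by
    rw [hgK, Polynomial.map_map]
    rfl
  have hsp : (gK.map (algebraMap K Ω)).Splits := IsAlgClosed.splits _
  set Y : IntermediateField K Ω := IntermediateField.adjoin K (gK.rootSet Ω) with hY
  haveI : gK.IsSplittingField K Y := IntermediateField.adjoin_rootSet_isSplittingField hsp
  haveI : Normal K Y := Normal.of_isSplittingField gK
  haveI : FiniteDimensional K Y := Polynomial.IsSplittingField.finiteDimensional Y gK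
  have hKY : K ≤ Y.toSubfield := fun x hx => Y.algebraMap_mem ⟨x, hx⟩
  haveI : Fact (K ≤ Y.toSubfield) := ⟨hKY⟩
  let eY := equivOfEq K Y.toSubfield Y rfl
  refine ⟨Y.toSubfield, hKY, ⟨eY.symm.toLinearEquiv.finiteDimensional, Normal.of_algEquiv eY.symm⟩, ?_⟩
  have hβroot : (β : Ω) ∈ gK.rootSet Ω := by
    rw [mem_rootSet_of_ne hgKm.ne_zero, aeval_def, eval₂_eq_eval_map, hgKΩ]
    exact hβ0
  apply le_antisymm
  · apply sup_le hKcM
    -- the roots of `gK` lie in `M`
    rw [IntermediateField.adjoin_toSubfield, Subfield.closure_le]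
    rintro ρ (hρ | hρ)
    · obtain ⟨k, rfl⟩ := hρ
      exact hKcM (hKKc k.2)
    · -- `ρ` is a root of the minimal polynomial of `β` over `Kc`, which splits in `M`
      set gKc : Kc[X] := gK.map (algebraMap K Kc) with hgKc
      have hgKcm : gKc.Monic := hgKm.map _
      have hmapΩ : gKc.map (algebraMap Kc Ω) = gK.map (algebraMap K Ω) := by
        rw [hgKc, Polynomial.map_map]
        rfl
      have hβKc : aeval β gKc = 0 := by
        apply Subtype.val_injective
        have h := Polynomial.hom_eval₂ gKc (algebraMap Kc M) M.subtype β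
        rw [aeval_def]
        refine h.trans ?_
        rw [show M.subtype.comp (algebraMap Kc M) = algebraMap Kc Ω from rfl, eval₂_eq_eval_map,
          hmapΩ, hgKΩ]
        exact hβ0
      have hint : IsIntegral Kc β := Algebra.IsIntegral.isIntegral β
      have hmin : gKc = minpoly Kc β := by
        refine Polynomial.eq_of_monic_of_dvd_of_natDegree_le (minpoly.monic hint) hgKcm
          (minpoly.dvd Kc β hβKc) ?_
        rw [hgKc, hgKm.natDegree_map, hgK, hgm.natDegree_map, hgdeg,
          ← IntermediateField.adjoin.finrank hint, htop, IntermediateField.finrank_top']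
      have hsplM : (gKc.map (algebraMap Kc M)).Splits := by
        rw [hmin]
        exact Normal.splits inferInstance β
      have hroots := hsplM.roots_map (algebraMap M Ω)
      have hρ' : ρ ∈ ((gKc.map (algebraMap Kc M)).map (algebraMap M Ω)).roots := by
        rw [Polynomial.map_map, show (algebraMap M Ω).comp (algebraMap Kc M) = algebraMap Kc Ω from rfl,
          hmapΩ]
        rw [mem_rootSet_of_ne hgKm.ne_zero, aeval_def, eval₂_eq_eval_map] at hρ
        exact (mem_roots (hgKm.map _).ne_zero).mpr hρ
      rw [hroots] at hρ'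
      obtain ⟨y, -, rfl⟩ := Multiset.mem_map.mp hρ'
      exact y.2
  · intro x hx
    have h1 := hgen x hx
    have hle : IntermediateField.adjoin Kc ({(β : Ω)} : Set Ω) ≤
        Subfield.extendScalars (le_sup_left : Kc ≤ Kc ⊔ Y.toSubfield) := by
      rw [IntermediateField.adjoin_le_iff, Set.singleton_subset_iff]
      exact (le_sup_right : Y.toSubfield ≤ Kc ⊔ Y.toSubfield)
        (IntermediateField.subset_adjoin K _ hβroot)
    exact hle h1

end Groth.Agent.H6.EppGen
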