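import Mathlib
import Groth.Agent.Lib.Helper6.EG7

/-!
# Epp, general case: descent of a finite separable extension to an algebraic dense subfield
-/

set_option autoImplicit false
universe u

namespace Groth.Agent.H6.EppGen

open IsLocalRing Groth.Agent.H8 Groth.Agent.H6.EppTower Polynomial

variable {Ω : Type u} [Field Ω] {V : ValuationSubring Ω} [IsAlgClosed Ω]

/-- The normal closure in `Ω` of a simple algebraic extension. -/
theorem exists_normal_of_integral (K00 : Subfield Ω) {β : Ω} (hβ : IsIntegral K00 β) :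
    ∃ (F : Subfield Ω) (h : K00 ≤ F),
      (haveI := Fact.mk h; FiniteDimensional K00 F ∧ Normal K00 F ∧
        (IsSeparable K00 β → Algebra.IsSeparable K00 F)) ∧ β ∈ F := by
  set p := minpoly K00 β with hp
  have hsp : (p.map (algebraMap K00 Ω)).Splits := IsAlgClosed.splits _
  set Y : IntermediateField K00 Ω := IntermediateField.adjoin K00 (p.rootSet Ω) with hY
  haveI : p.IsSplittingField K00 Y := IntermediateField.adjoin_rootSet_isSplittingField hsp
  haveI : Normal K00 Y := Normal.of_isSplittingField p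
  haveI : FiniteDimensional K00 Y := Polynomial.IsSplittingField.finiteDimensional Y p
  have hKY : K00 ≤ Y.toSubfield := fun x hx => Y.algebraMap_mem ⟨x, hx⟩
  haveI : Fact (K00 ≤ Y.toSubfield) := ⟨hKY⟩
  let eY := equivOfEq K00 Y.toSubfield Y rfl
  refine ⟨Y.toSubfield, hKY,
    ⟨eY.symm.toLinearEquiv.finiteDimensional, Normal.of_algEquiv eY.symm, ?_⟩, ?_⟩
  · intro hsep
    haveI : IsGalois K00 Y := IsGalois.of_separable_splitting_field (p := p) hsep
    exact Algebra.IsSeparable.of_algHom K00 Y eY.toAlgHom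
  apply IntermediateField.subset_adjoin K00
  rw [mem_rootSet_of_ne (minpoly.ne_zero hβ)]
  exact minpoly.aeval K00 β

/-- Step α: a finite separable extension `M` of the complete field `K0`, in which a subfield
`K0u`, algebraic over `K00`, is dense, is contained in `K0 ⊔ F` with `F/K00` finite normal. -/
theorem step_alpha (K00 K0u K0 M : Subfield Ω) [Fact (K00 ≤ K0u)] [Fact (K0u ≤ K0)] [Fact (K0 ≤ M)]
    [IsDiscreteValuationRing (O V K0)] [IsAdicComplete (maximalIdeal (O V K0)) (O V K0)]
    [Algebra.IsSeparable K00 K0u]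
    {ϖ : Ω} (hϖ' : ϖ ∈ K0u) (hϖ0 : ϖ ≠ 0) (hϖ : IsU V K0 ϖ) (hd : Dense V ϖ K0u K0)
    [FiniteDimensional K0 M] [Algebra.IsSeparable K0 M] :
    ∃ (F : Subfield Ω) (h : K00 ≤ F),
      (haveI := Fact.mk h; FiniteDimensional K00 F ∧ Normal K00 F ∧ Algebra.IsSeparable K00 F) ∧
        M ≤ K0 ⊔ F := by
  obtain ⟨β, g, hgm, hgdeg, hβ0, htop, hgen⟩ := exists_gen K0u K0 M hϖ' hϖ0 hϖ hd
  set gu : K0u[X] := g.map (O V K0u).subtype with hgu
  have hgum : gu.Monic := hgm.map _
  have hguβ : aeval (β : Ω) gu = 0 := by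
    rw [aeval_def, hgu, eval₂_map, ← eval_map]
    exact hβ0
  have hint1 : IsIntegral K0u (β : Ω) := ⟨gu, hgum, hguβ⟩
  haveI : Algebra.IsIntegral K00 K0u := Algebra.IsAlgebraic.isIntegral
  have hint : IsIntegral K00 (β : Ω) := isIntegral_trans (β : Ω) hint1
  -- separability of `β` over `K0u`
  have hsepu : IsSeparable K0u (β : Ω) := by
    set g0 : K0[X] := gu.map (algebraMap K0u K0) with hg0
    have hg0m : g0.Monic := hgum.map _
    have hβK0 : aeval β g0 = 0 := by
      apply Subtype.val_injective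
      have h := Polynomial.hom_eval₂ g0 (algebraMap K0 M) M.subtype β
      rw [aeval_def]
      refine h.trans ?_
      rw [show M.subtype.comp (algebraMap K0 M) = algebraMap K0 Ω from rfl, eval₂_eq_eval_map, hg0,
        Polynomial.map_map, show (algebraMap K0 Ω).comp (algebraMap K0u K0) = algebraMap K0u Ω from rfl,
        ← eval₂_eq_eval_map, ← aeval_def]
      exact hguβ
    have hintβ : IsIntegral K0 β := Algebra.IsIntegral.isIntegral β
    have hmin : g0 = minpoly K0 β := by
      refine Polynomial.eq_of_monic_of_dvd_of_natDegree_le (minpoly.monic hintβ) hg0m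
        (minpoly.dvd K0 β hβK0) ?_
      rw [hg0, hgum.natDegree_map, hgu, hgm.natDegree_map, hgdeg,
        ← IntermediateField.adjoin.finrank hintβ, htop, IntermediateField.finrank_top']
    have hsep0 : g0.Separable := by
      rw [hmin]
      exact Algebra.IsSeparable.isSeparable K0 β
    have hsepgu : gu.Separable := (Polynomial.separable_map (algebraMap K0u K0)).mp hsep0
    exact hsepgu.of_dvd (minpoly.dvd K0u (β : Ω) hguβ)
  have hsep : IsSeparable K00 (β : Ω) :=
    IsSeparable.of_algebra_isSeparable_of_isSeparable K00 (E := K0u) hsepu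
  obtain ⟨F, hF, ⟨hFf, hFN, hFs⟩, hβF⟩ := exists_normal_of_integral K00 hint
  refine ⟨F, hF, ⟨hFf, hFN, hFs hsep⟩, ?_⟩
  intro x hx
  have hle : IntermediateField.adjoin K0 ({(β : Ω)} : Set Ω) ≤
      Subfield.extendScalars (le_sup_left : K0 ≤ K0 ⊔ F) := by
    rw [IntermediateField.adjoin_le_iff, Set.singleton_subset_iff]
    exact (le_sup_right : F ≤ K0 ⊔ F) hβF
  exact hle (hgen x hx)

end Groth.Agent.H6.EppGen
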