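import Mathlib
import Groth.Agent.Lib.Helper6.EG8

/-!
# Epp, general case: field-theoretic glue for subfields of `Ω`
-/

set_option autoImplicit false
universe u

namespace Groth.Agent.H6.EppGen

open IsLocalRing Groth.Agent.H8 Groth.Agent.H6.EppTower Polynomial

variable {Ω : Type u} [Field Ω] {V : ValuationSubring Ω}

/-- An unramified element is separable. -/
theorem Unr.isSeparable {N : Subfield Ω} {u : Ω} (hu : Unr V N u) : IsSeparable N u := by
  obtain ⟨m, hm, h1, h2⟩ := hu
  set mN : N[X] := m.map (O V N).subtype with hmN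
  have hmNm : mN.Monic := hm.map _
  have hmap : mN.map (algebraMap N Ω) = m.map (ι V N) := by
    rw [hmN, Polynomial.map_map]
    rfl
  have hroot : aeval u mN = 0 := by
    rw [aeval_def, eval₂_eq_eval_map, hmap]
    exact h1
  have hint : IsIntegral N u := ⟨mN, hmNm, hroot⟩
  obtain ⟨h, hh⟩ := minpoly.dvd N u hroot
  have hder : aeval u (derivative mN) ≠ 0 := by
    rw [aeval_def, eval₂_eq_eval_map, ← Polynomial.derivative_map, hmap, Polynomial.derivative_map]
    intro h0
    rw [h0, map_zero] at h2
    exact zero_ne_one h2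
  unfold IsSeparable
  rw [Polynomial.separable_iff_derivative_ne_zero (minpoly.irreducible hint)]
  intro h0
  apply hder
  rw [hh, derivative_mul, h0, zero_mul, zero_add, map_mul, minpoly.aeval, zero_mul]

/-- `E(x)` as a subfield. -/
theorem adjoin_singleton_toSubfield (E : Subfield Ω) (x : Ω) :
    (IntermediateField.adjoin E ({x} : Set Ω)).toSubfield = E ⊔ Subfield.closure {x} := by
  rw [IntermediateField.adjoin_toSubfield, Subfield.closure_union, range_algebraMap_sub,
    Subfield.closure_eq]

theorem adjoin_set_toSubfield (E : Subfield Ω) (S : Set Ω) :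
    (IntermediateField.adjoin E S).toSubfield = E ⊔ Subfield.closure S := by
  rw [IntermediateField.adjoin_toSubfield, Subfield.closure_union, range_algebraMap_sub,
    Subfield.closure_eq]

theorem finite_adjoin_elt (E : Subfield Ω) {x : Ω} (hx : IsIntegral E x) :
    FiniteDimensional E (E ⊔ Subfield.closure {x} : Subfield Ω) := by
  haveI : FiniteDimensional E (IntermediateField.adjoin E ({x} : Set Ω)) :=
    IntermediateField.adjoin.finiteDimensional hx
  exact (equivOfEq E _ _ (adjoin_singleton_toSubfield E x)).symm.toLinearEquiv.finiteDimensional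

theorem isSeparable_sup_closure (E : Subfield Ω) (U : Set Ω) (hU : ∀ u ∈ U, IsSeparable E u) :
    Algebra.IsSeparable E (E ⊔ Subfield.closure U : Subfield Ω) := by
  haveI : Algebra.IsSeparable E (IntermediateField.adjoin E U) :=
    (IntermediateField.isSeparable_adjoin_iff_isSeparable _ _).mpr hU
  exact Algebra.IsSeparable.of_algHom E _ (equivOfEq E _ _ (adjoin_set_toSubfield E U)).toAlgHom

/-- The compositum of two finite normal extensions is finite normal. -/
theorem finite_normal_sup (K F₁ F₂ : Subfield Ω) [Fact (K ≤ F₁)] [Fact (K ≤ F₂)]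
    [Fact (K ≤ F₁ ⊔ F₂)]
    [FiniteDimensional K F₁] [FiniteDimensional K F₂] [Normal K F₁] [Normal K F₂] :
    FiniteDimensional K (F₁ ⊔ F₂ : Subfield Ω) ∧ Normal K (F₁ ⊔ F₂ : Subfield Ω) := by
  haveI : FiniteDimensional K (ext K F₁) := (equivExt K F₁).toLinearEquiv.finiteDimensional
  haveI : FiniteDimensional K (ext K F₂) := (equivExt K F₂).toLinearEquiv.finiteDimensional
  haveI : Normal K (ext K F₁) := Normal.of_algEquiv (equivExt K F₁)
  haveI : Normal K (ext K F₂) := Normal.of_algEquiv (equivExt K F₂)
  have hX : (ext K F₁ ⊔ ext K F₂ : IntermediateField K Ω).toSubfield = F₁ ⊔ F₂ := by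
    rw [IntermediateField.sup_toSubfield]
    rfl
  let e := equivOfEq K (F₁ ⊔ F₂) _ hX
  exact ⟨e.symm.toLinearEquiv.finiteDimensional, Normal.of_algEquiv e.symm⟩

/-- Base change of a separable extension is separable. -/
theorem separable_sup (L₁ M L' : Subfield Ω) [Fact (L₁ ≤ M)] [hL : Fact (L₁ ≤ L')]
    [Algebra.IsSeparable L₁ M] : Algebra.IsSeparable L' (L' ⊔ M : Subfield Ω) := by
  have : Algebra.IsSeparable L' (L' ⊔ Subfield.closure (M : Set Ω) : Subfield Ω) := by
    apply isSeparable_sup_closure
    intro u hu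
    have h1 : IsSeparable L₁ (⟨u, hu⟩ : M) := Algebra.IsSeparable.isSeparable L₁ _
    have h2 : IsSeparable L₁ u := by
      have e : minpoly L₁ (algebraMap M Ω (⟨u, hu⟩ : M)) = minpoly L₁ (⟨u, hu⟩ : M) :=
        minpoly.algebraMap_eq (algebraMap M Ω).injective _
      have h3 : (minpoly L₁ (algebraMap M Ω (⟨u, hu⟩ : M))).Separable := by
        rw [e]
        exact h1
      exact h3
    exact h2.tower_top L'
  rwa [Subfield.closure_eq] at this

end Groth.Agent.H6.EppGen
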