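import Mathlib
import Groth.Agent.Lib.Helper6.EG9

/-!
# Epp, general case: the internal main theorem
-/

set_option autoImplicit false
universe u

namespace Groth.Agent.H6.EppGen

open IsLocalRing Groth.Agent.H8 Groth.Agent.H6.EppTower Polynomial

variable {Ω : Type u} [Field Ω] {V : ValuationSubring Ω} [IsAlgClosed Ω]

/-- The unramified elements of `K0` over `K00`. -/
def UnrSet (V : ValuationSubring Ω) (K00 K0 : Subfield Ω) : Set Ω := {u | u ∈ K0 ∧ Unr V K00 u}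

set_option maxHeartbeats 8000000 in
theorem internal_main (K Kc K00 K0 Lh S : Subfield Ω) {π ϖ ϖq : Ω} {q : ℕ}
    (hKKc : K ≤ Kc) (hKcLh : Kc ≤ Lh) (hK00Kc : K00 ≤ Kc) (hK00K0 : K00 ≤ K0) (hK0Lh : K0 ≤ Lh)
    (hK0S : K0 ≤ S)
    [IsDiscreteValuationRing (O V Kc)] [IsAdicComplete (maximalIdeal (O V Kc)) (O V Kc)]
    [IsDiscreteValuationRing (O V K0)] [IsAdicComplete (maximalIdeal (O V K0)) (O V K0)]
    [IsDiscreteValuationRing (O V Lh)]
    (hπK : π ∈ K) (hπ0 : π ≠ 0) (hπ : IsU V Kc π) (hdK : Dense V π K Kc)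
    (hϖ00 : ϖ ∈ K00) (hϖ0 : ϖ ≠ 0) (hϖ : IsU V K0 ϖ)
    (hdU : Dense V ϖ (K00 ⊔ Subfield.closure (UnrSet V K00 K0)) K0)
    (hSfin : haveI := Fact.mk hK0S;
      FiniteDimensional K0 S ∧ Normal K0 S ∧ Algebra.IsSeparable K0 S)
    (hq0 : q ≠ 0) (hϖq : ϖq ^ q = ϖ) (hϖK : ϖ ∈ K)
    (hqN : haveI : Fact (K ≤ K ⊔ Subfield.closure {ϖq}) := ⟨le_sup_left⟩;
      Normal K (K ⊔ Subfield.closure {ϖq} : Subfield Ω))
    (hstable : ∀ (F' : Subfield Ω) (h : K0 ≤ F'), S ≤ F' → ϖq ∈ F' →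
      (haveI := Fact.mk h; FiniteDimensional K0 F') → WU V F' (Lh ⊔ F')) :
    ∃ (F : Subfield Ω) (hKF : K ≤ F),
      (haveI := Fact.mk hKF; FiniteDimensional K F ∧ Normal K F) ∧ WU V F (Lh ⊔ F) := by
  classical
  haveI : Fact (K0 ≤ S) := ⟨hK0S⟩
  obtain ⟨hSf, hSn, hSs⟩ := hSfin
  haveI := hSf
  haveI := hSn
  haveI := hSs
  -- the unramified hull
  set U := UnrSet V K00 K0 with hU
  set K0u : Subfield Ω := K00 ⊔ Subfield.closure U with hK0u
  have hK0uK0 : K0u ≤ K0 := sup_le hK00K0 (Subfield.closure_le.mpr (fun u hu => hu.1))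
  haveI : Fact (K00 ≤ K0u) := ⟨le_sup_left⟩
  haveI : Fact (K0u ≤ K0) := ⟨hK0uK0⟩
  haveI : Algebra.IsSeparable K00 K0u :=
    isSeparable_sup_closure K00 U (fun u hu => hu.2.isSeparable)
  -- step α
  obtain ⟨F00s, hK00F, ⟨hF00f, hF00n, hF00s⟩, hSle⟩ :=
    step_alpha K00 K0u K0 S ((le_sup_left : K00 ≤ K0u) hϖ00) hϖ0 hϖ hdU
  haveI : Fact (K00 ≤ F00s) := ⟨hK00F⟩
  haveI := hF00f
  haveI := hF00n
  haveI := hF00s
  -- the integrality of `ϖq`
  have hintq00 : IsIntegral K00 ϖq := by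
    apply IsIntegral.of_pow (Nat.pos_of_ne_zero hq0)
    rw [hϖq]
    exact isIntegral_algebraMap (x := (⟨ϖ, hϖ00⟩ : K00))
  have hintqK : IsIntegral K ϖq := by
    apply IsIntegral.of_pow (Nat.pos_of_ne_zero hq0)
    rw [hϖq]
    exact isIntegral_algebraMap (x := (⟨ϖ, hϖK⟩ : K))
  -- step β, applied to `Kc ⊔ F00s`
  haveI : Fact (K ≤ Kc) := ⟨hKKc⟩
  haveI : Fact (K00 ≤ Kc) := ⟨hK00Kc⟩
  haveI : Fact (Kc ≤ Kc ⊔ F00s) := ⟨le_sup_left⟩
  haveI : FiniteDimensional Kc (Kc ⊔ F00s : Subfield Ω) := (finite_sup K00 F00s Kc).1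
  haveI : Normal Kc (Kc ⊔ F00s : Subfield Ω) := normal_sup K00 F00s Kc
  haveI : Algebra.IsSeparable Kc (Kc ⊔ F00s : Subfield Ω) := separable_sup K00 F00s Kc
  obtain ⟨Fs, hKFs, ⟨hFsf, hFsn⟩, hFseq⟩ := step_beta K Kc (Kc ⊔ F00s) hπK hπ0 hπ hdK
  haveI : Fact (K ≤ Fs) := ⟨hKFs⟩
  haveI := hFsf
  haveI := hFsn
  -- the extension `F = Fs ⊔ K(ϖq)`
  set Kq : Subfield Ω := K ⊔ Subfield.closure {ϖq} with hKq
  haveI : Fact (K ≤ Kq) := ⟨le_sup_left⟩
  haveI : FiniteDimensional K Kq := finite_adjoin_elt K hintqK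
  haveI : Normal K Kq := hqN
  have hϖqKq : ϖq ∈ Kq :=
    (le_sup_right : Subfield.closure {ϖq} ≤ Kq) (Subfield.subset_closure rfl)
  set F : Subfield Ω := Fs ⊔ Kq with hF
  have hKF : K ≤ F := hKFs.trans le_sup_left
  haveI : Fact (K ≤ F) := ⟨hKF⟩
  obtain ⟨hFf, hFn⟩ := finite_normal_sup K Fs Kq
  haveI := hFf
  haveI := hFn
  refine ⟨F, hKF, ⟨hFf, hFn⟩, ?_⟩
  -- the finite extension `F₀'` of `K0`
  set Q00 : Subfield Ω := K00 ⊔ Subfield.closure {ϖq} with hQ00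
  haveI : Fact (K00 ≤ Q00) := ⟨le_sup_left⟩
  haveI : FiniteDimensional K00 Q00 := finite_adjoin_elt K00 hintq00
  set F00 : Subfield Ω := F00s ⊔ Q00 with hF00
  haveI : Fact (K00 ≤ F00) := ⟨hK00F.trans le_sup_left⟩
  haveI : Fact (F00s ≤ F00) := ⟨le_sup_left⟩
  haveI : FiniteDimensional F00s F00 := (finite_sup K00 Q00 F00s).1
  haveI : FiniteDimensional K00 F00 := finite_trans K00 F00s F00
  haveI : Fact (K00 ≤ K0) := ⟨hK00K0⟩
  set F₀' : Subfield Ω := K0 ⊔ F00 with hF₀'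
  have hfinF₀' : FiniteDimensional K0 F₀' := (finite_sup K00 F00 K0).1
  have hϖqF₀' : ϖq ∈ F₀' :=
    (le_sup_right : F00 ≤ F₀') ((le_sup_right : Q00 ≤ F00)
      ((le_sup_right : Subfield.closure {ϖq} ≤ Q00) (Subfield.subset_closure rfl)))
  have hSF₀' : S ≤ F₀' := hSle.trans (sup_le le_sup_left
    ((le_sup_left : F00s ≤ F00).trans le_sup_right))
  have hwu₀ : WU V F₀' (Lh ⊔ F₀') := hstable F₀' le_sup_left hSF₀' hϖqF₀' hfinF₀'
  -- comparison of the composita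
  have hcl : Subfield.closure {ϖq} ≤ Lh ⊔ F :=
    ((le_sup_right : Subfield.closure {ϖq} ≤ Kq).trans (le_sup_right : Kq ≤ F)).trans le_sup_right
  have hF00sle : F00s ≤ Lh ⊔ F := by
    have h1 : F00s ≤ Kc ⊔ Fs := by rw [hFseq]; exact le_sup_right
    exact h1.trans (sup_le (hKcLh.trans le_sup_left) ((le_sup_left : Fs ≤ F).trans le_sup_right))
  have hFsle : Fs ≤ Lh ⊔ F₀' := by
    have h1 : Fs ≤ Kc ⊔ F00s := by rw [← hFseq]; exact le_sup_right
    exact h1.trans (sup_le (hKcLh.trans le_sup_left)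
      (((le_sup_left : F00s ≤ F00).trans (le_sup_right : F00 ≤ F₀')).trans le_sup_right))
  have hclF₀' : Subfield.closure {ϖq} ≤ Lh ⊔ F₀' := by
    rw [Subfield.closure_le, Set.singleton_subset_iff]
    exact (le_sup_right : F₀' ≤ Lh ⊔ F₀') hϖqF₀'
  have hsupeq : Lh ⊔ F = Lh ⊔ F₀' := by
    apply le_antisymm
    · apply sup_le le_sup_left
      apply sup_le hFsle
      exact sup_le ((hKKc.trans hKcLh).trans le_sup_left) hclF₀'
    · apply sup_le le_sup_left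
      apply sup_le (hK0Lh.trans le_sup_left)
      apply sup_le hF00sle
      exact sup_le ((hK00Kc.trans hKcLh).trans le_sup_left) hcl
  -- value groups
  set N : Subfield Ω := Kc ⊔ F with hN
  haveI : Fact (K ≤ Lh) := ⟨hKKc.trans hKcLh⟩
  haveI : Fact (Lh ≤ Lh ⊔ F) := ⟨le_sup_left⟩
  haveI : FiniteDimensional Lh (Lh ⊔ F : Subfield Ω) := (finite_sup K F Lh).1
  haveI : IsDiscreteValuationRing (O V (Lh ⊔ F : Subfield Ω)) := isDVR_O_of_finite V Lh (Lh ⊔ F)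
  haveI : Fact (Kc ≤ N) := ⟨le_sup_left⟩
  haveI : FiniteDimensional Kc N := (finite_sup K F Kc).1
  haveI : IsDiscreteValuationRing (O V N) := isDVR_O_of_finite V Kc N
  haveI : IsAdicComplete (maximalIdeal (O V N)) (O V N) := isAdicComplete_O_of_finite V Kc N
  have hNle : N ≤ Lh ⊔ F := sup_le (hKcLh.trans le_sup_left) le_sup_right
  have hπ1 : V.valuation π < 1 := hπ.2.1
  have hϖ1 : V.valuation ϖ < 1 := hϖ.2.1
  -- γ1
  have hγ1 : VLe V N F := by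
    have hd1 : Dense V π (K ⊔ F) (Kc ⊔ F) :=
      dense_sup (Lh ⊔ F) ((hKKc.trans hKcLh |>.trans le_sup_left) hπK) hπ1 hKKc
        (hKcLh.trans le_sup_left) le_sup_right hdK
    have h1 : VLe V (Kc ⊔ F) (K ⊔ F) :=
      vle_of_dense (Lh ⊔ F) ((hKKc.trans hKcLh |>.trans le_sup_left) hπK) hπ1 hNle hd1
    rwa [sup_eq_right.mpr hKF] at h1
  -- γ2
  have hγ2 : VLe V (K0 ⊔ N) N := by
    have hd2 : Dense V ϖ (K0u ⊔ N) (K0 ⊔ N) :=
      dense_sup (Lh ⊔ F) ((hK00Kc.trans hKcLh |>.trans le_sup_left) hϖ00) hϖ1 hK0uK0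
        (hK0Lh.trans le_sup_left) hNle hdU
    have h1 : VLe V (K0 ⊔ N) (K0u ⊔ N) :=
      vle_of_dense (Lh ⊔ F) ((hK00Kc.trans hKcLh |>.trans le_sup_left) hϖ00) hϖ1
        (sup_le (hK0Lh.trans le_sup_left) hNle) hd2
    have h2 : K0u ⊔ N = N ⊔ Subfield.closure U := by
      rw [hK0u]
      apply le_antisymm
      · exact sup_le (sup_le ((hK00Kc.trans le_sup_left).trans le_sup_left) le_sup_right) le_sup_left
      · exact sup_le le_sup_right ((le_sup_right : Subfield.closure U ≤ K0u).trans le_sup_left)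
    rw [h2] at h1
    exact h1.trans (vle_sup_closure_unr N U
      (fun u hu => hu.2.mono (hK00Kc.trans le_sup_left)))
  have hF₀'le : F₀' ≤ K0 ⊔ N := by
    apply sup_le le_sup_left
    apply sup_le
    · have h1 : F00s ≤ Kc ⊔ Fs := by rw [hFseq]; exact le_sup_right
      exact (h1.trans (sup_le le_sup_left ((le_sup_left : Fs ≤ F).trans le_sup_right))).trans
        le_sup_right
    · apply sup_le ((hK00Kc.trans le_sup_left).trans le_sup_right)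
      exact (((le_sup_right : Subfield.closure {ϖq} ≤ Kq).trans (le_sup_right : Kq ≤ F)).trans
        (le_sup_right : F ≤ N)).trans le_sup_right
  have hvle : VLe V F₀' F := ((hγ2.trans hγ1).mono_left hF₀'le)
  -- conclusion
  intro y hy hlt
  rw [hsupeq] at hy
  obtain ⟨a, ha, ha1, hya⟩ := hwu₀ y hy hlt
  obtain ⟨a', ha', haa'⟩ := hvle a ha
  exact ⟨a', ha', haa' ▸ ha1, haa' ▸ hya⟩

end Groth.Agent.H6.EppGen
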