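import Mathlib
import Groth.Agent.Lib.Helper6.EG10

/-!
# Epp, general case: stable weak solutions from the tower lemma
-/

set_option autoImplicit false
universe u

namespace Groth.Agent.H6.EppGen

open IsLocalRing Groth.Agent.H8 Groth.Agent.H6.EppTower Polynomial

variable {Ω : Type u} [Field Ω] {V : ValuationSubring Ω} [IsAlgClosed Ω]

/-- The tower lemma gives a finite extension of `K0` all of whose finite enlargements are weak
solutions for `Lh`. -/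
theorem exists_stable {p : ℕ} [hp : Fact p.Prime] (K0 L0 Lh : Subfield Ω) [Fact (K0 ≤ L0)]
    [Fact (L0 ≤ Lh)] [FiniteDimensional L0 Lh] (hB : Base V p K0 L0)
    (hchar : CharZero Ω ∨ CharP Ω p) :
    ∃ (F₀ : Subfield Ω) (h : K0 ≤ F₀), (haveI := Fact.mk h; FiniteDimensional K0 F₀) ∧
      ∀ (F' : Subfield Ω) (h' : K0 ≤ F'), F₀ ≤ F' →
        (haveI := Fact.mk h'; FiniteDimensional K0 F') → WU V F' (Lh ⊔ F') := by
  haveI := hB.dvrK
  haveI := hB.dvrL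
  haveI := hB.complK
  haveI := hB.complL
  haveI := hB.algClosed
  have hK0L0 : K0 ≤ L0 := Fact.out
  have hL0Lh : L0 ≤ Lh := Fact.out
  obtain ⟨Msn, hL0M, hLhM, hMfin, hMnorm⟩ := exists_normal_closure L0 Lh
  haveI : Fact (L0 ≤ Msn) := ⟨hL0M⟩
  haveI := hMfin
  haveI := hMnorm
  obtain ⟨F₀, hKF₀, hfin₀, hwu₀⟩ := tower_internal K0 L0 Msn hB hchar
  haveI : Fact (K0 ≤ F₀) := ⟨hKF₀⟩
  haveI := hfin₀
  refine ⟨F₀, hKF₀, hfin₀, ?_⟩
  intro F' hK0F' hF₀F' hfin'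
  haveI : Fact (K0 ≤ F') := ⟨hK0F'⟩
  haveI : Fact (F₀ ≤ F') := ⟨hF₀F'⟩
  haveI := hfin'
  haveI : FiniteDimensional F₀ F' := FiniteDimensional.right K0 F₀ F'
  haveI := isDVR_O_of_finite V K0 F₀
  haveI := isAdicComplete_O_of_finite V K0 F₀
  haveI := isAlgClosed_residue_of_finite V K0 F₀
  haveI : Fact (K0 ≤ Msn) := ⟨hK0L0.trans hL0M⟩
  haveI : Fact (L0 ≤ Msn ⊔ F₀) := ⟨hL0M.trans le_sup_left⟩
  haveI : FiniteDimensional Msn (Msn ⊔ F₀ : Subfield Ω) := (finite_sup K0 F₀ Msn).1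
  haveI : FiniteDimensional L0 (Msn ⊔ F₀ : Subfield Ω) := finite_trans L0 Msn (Msn ⊔ F₀)
  haveI := isDVR_O_of_finite V L0 (Msn ⊔ F₀)
  haveI := isAdicComplete_O_of_finite V L0 (Msn ⊔ F₀)
  have h1 : WU V F' ((Msn ⊔ F₀) ⊔ F') := wu_stable V F₀ F' (Msn ⊔ F₀) hwu₀
  exact h1.mono (sup_le ((hLhM.trans le_sup_left).trans le_sup_left) le_sup_right)

/-- A trivial extension is normal. -/
theorem normal_of_le (K Kq : Subfield Ω) [Fact (K ≤ Kq)] (h : Kq ≤ K) : Normal K Kq := by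
  rw [normal_iff]
  intro x
  obtain ⟨y, rfl⟩ : ∃ y : K, algebraMap K Kq y = x := ⟨⟨(x : Ω), h x.2⟩, rfl⟩
  refine ⟨isIntegral_algebraMap, ?_⟩
  rw [minpoly.eq_X_sub_C, Polynomial.map_sub, map_X, map_C]
  exact Splits.X_sub_C _

end Groth.Agent.H6.EppGen
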