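import Mathlib

/-!
# Epp, general case: Frobenius-type closure lemma
-/

set_option autoImplicit false
universe u

namespace Groth.Agent.H6.EppGen

/-- If `W` is "perfect modulo `ϖ`" and `j : W → C` has image in `A + m` with `j ϖ ∈ i(A) ∩ m`, then
the image of `j` lies in the `m`-adic closure of the image of `A`. -/
theorem closure_of_frobenius {W A C : Type*} [CommRing W] [CommRing A] [CommRing C] (p : ℕ)
    (m : Ideal C) (hp : (p : C) ∈ m) (i : A →+* C) (j : W →+* C) (ϖ : W)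
    (hfrob : ∀ (x : W) (n : ℕ), ∃ y x₁ : W, x = y ^ p ^ n + ϖ * x₁)
    (hϖ : ∃ a₀ : A, i a₀ = j ϖ) (hϖm : j ϖ ∈ m)
    (h1 : ∀ w : W, ∃ a : A, j w - i a ∈ m) :
    ∀ (n : ℕ) (w : W), ∃ a : A, j w - i a ∈ m ^ n := by
  intro n
  induction n with
  | zero => intro w; exact ⟨0, by simp⟩
  | succ n ih =>
    intro w
    obtain ⟨y, x₁, rfl⟩ := hfrob w n
    obtain ⟨ay, hay⟩ := h1 y
    obtain ⟨a₁, ha₁⟩ := ih x₁
    obtain ⟨a₀, ha₀⟩ := hϖ
    have h2 : (j y) ^ p ^ n ≡ (i ay) ^ p ^ n [SMOD m ^ (n + 1)] :=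
      SModEq.pow_pow_add_one hp (SModEq.sub_mem.mpr hay) n
    rw [SModEq.sub_mem] at h2
    refine ⟨ay ^ p ^ n + a₀ * a₁, ?_⟩
    have h3 : j (y ^ p ^ n + ϖ * x₁) - i (ay ^ p ^ n + a₀ * a₁) =
        ((j y) ^ p ^ n - (i ay) ^ p ^ n) + j ϖ * (j x₁ - i a₁) := by
      simp only [map_add, map_mul, map_pow, ha₀]
      ring
    rw [h3]
    refine Ideal.add_mem _ h2 ?_
    rw [pow_succ']
    exact Ideal.mul_mem_mul hϖm ha₁

end Groth.Agent.H6.EppGen
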