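import Mathlib

/-!
# Epp, general case: the perfect core of a field of characteristic `p`
-/

set_option autoImplicit false
universe u

namespace Groth.Agent.H6.EppGen

open Polynomial

section Frob

variable (p : ℕ) [hp : Fact p.Prime]

theorem pow_inj_char {F : Type*} [Field F] [CharP F p] (n : ℕ) {a b : F}
    (h : a ^ (p ^ n) = b ^ (p ^ n)) : a = b := by
  have hinj : Function.Injective (iterateFrobenius F p n) := (iterateFrobenius F p n).injective
  apply hinj
  rw [iterateFrobenius_def, iterateFrobenius_def, h]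

/-- Frobenius twist of a polynomial evaluated at a `p^n`-th power. -/
theorem eval₂_map_iterateFrobenius {k L : Type*} [CommRing k] [CommRing L] [CharP k p] [CharP L p]
    (ψ : k →+* L) (f : k[X]) (y : L) (n : ℕ) :
    eval₂ ψ (y ^ p ^ n) (f.map (iterateFrobenius k p n)) = (eval₂ ψ y f) ^ p ^ n := by
  rw [eval₂_map, eval₂_eq_sum_range, eval₂_eq_sum_range, sum_pow_char_pow]
  apply Finset.sum_congr rfl
  intro i _
  rw [RingHom.comp_apply, iterateFrobenius_def, map_pow, mul_pow, ← pow_mul, ← pow_mul, mul_comm i]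

end Frob

section Core

variable (p : ℕ) [hp : Fact p.Prime]

/-- The perfect core of a field of characteristic `p`. -/
def pcore (κ : Type*) [Field κ] [CharP κ p] : Subfield κ where
  carrier := {x | ∀ n : ℕ, ∃ y : κ, y ^ p ^ n = x}
  mul_mem' := by
    intro a b ha hb n
    obtain ⟨y, hy⟩ := ha n
    obtain ⟨z, hz⟩ := hb n
    exact ⟨y * z, by rw [mul_pow, hy, hz]⟩
  one_mem' := fun n => ⟨1, one_pow _⟩
  add_mem' := by
    intro a b ha hb n
    obtain ⟨y, hy⟩ := ha n
    obtain ⟨z, hz⟩ := hb n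
    exact ⟨y + z, by rw [add_pow_char_pow, hy, hz]⟩
  zero_mem' := fun n => ⟨0, zero_pow (pow_ne_zero _ hp.out.ne_zero)⟩
  neg_mem' := by
    intro a ha n
    obtain ⟨y, hy⟩ := ha n
    refine ⟨0 - y, ?_⟩
    rw [sub_pow_char_pow, hy, zero_pow (pow_ne_zero _ hp.out.ne_zero), zero_sub]
  inv_mem' := by
    intro a ha n
    obtain ⟨y, hy⟩ := ha n
    exact ⟨y⁻¹, by rw [inv_pow, hy]⟩

variable {p}

theorem mem_pcore {κ : Type*} [Field κ] [CharP κ p] {x : κ} :
    x ∈ pcore p κ ↔ ∀ n : ℕ, ∃ y : κ, y ^ p ^ n = x := Iff.rfl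

theorem root_mem_pcore {κ : Type*} [Field κ] [CharP κ p] {x y : κ} (hx : x ∈ pcore p κ) {n : ℕ}
    (hy : y ^ p ^ n = x) : y ∈ pcore p κ := by
  intro m
  obtain ⟨z, hz⟩ := hx (n + m)
  refine ⟨z, ?_⟩
  apply pow_inj_char p n
  rw [hy, ← hz, ← pow_mul, pow_add, mul_comm]

theorem exists_root_pcore {κ : Type*} [Field κ] [CharP κ p] {x : κ} (hx : x ∈ pcore p κ) (n : ℕ) :
    ∃ y ∈ pcore p κ, y ^ p ^ n = x := by
  obtain ⟨y, hy⟩ := hx n
  exact ⟨y, root_mem_pcore hx hy, hy⟩

instance {κ : Type*} [Field κ] [CharP κ p] : CharP (pcore p κ) p :=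
  RingHom.charP (pcore p κ).subtype (pcore p κ).subtype.injective p

instance {κ : Type*} [Field κ] [CharP κ p] : PerfectRing (pcore p κ) p := by
  apply PerfectRing.ofSurjective
  intro x
  obtain ⟨y, hy, hyx⟩ := exists_root_pcore x.2 1
  refine ⟨⟨y, hy⟩, ?_⟩
  apply Subtype.ext
  rw [frobenius_def]
  show y ^ p = x
  rw [← hyx, pow_one]

/-- A ring homomorphism of fields maps the perfect core into the perfect core. -/
theorem map_mem_pcore {κ κ' : Type*} [Field κ] [CharP κ p] [Field κ'] [CharP κ' p] (φ : κ →+* κ')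
    {x : κ} (hx : x ∈ pcore p κ) : φ x ∈ pcore p κ' := by
  intro n
  obtain ⟨y, hy⟩ := hx n
  exact ⟨φ y, by rw [← map_pow, hy]⟩

end Core

section Minpoly

variable {p : ℕ} [hp : Fact p.Prime] {κ κ' : Type*} [Field κ] [Field κ'] [Algebra κ κ']
  [CharP κ p] [CharP κ' p]

/-- If `x` and its `p^n`-th roots are separable over `κ`, the coefficients of the minimal polynomial of
`x` lie in the perfect core of `κ`. -/
theorem minpoly_coeff_mem_pcore (x : κ') (h : ∀ n : ℕ, ∃ y : κ', y ^ p ^ n = x ∧ IsSeparable κ y)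
    (i : ℕ) : (minpoly κ x).coeff i ∈ pcore p κ := by
  intro n
  obtain ⟨y, hy, hys⟩ := h n
  have hyint : IsIntegral κ y := hys.isIntegral
  have hxint : IsIntegral κ x := by rw [← hy]; exact hyint.pow _
  -- `y ∈ κ(x)`
  have hyE : y ∈ IntermediateField.adjoin κ {x} := by
    set E := IntermediateField.adjoin κ {x} with hE
    haveI : ExpChar E p := ExpChar.prime hp.out
    have h1 : y ∈ separableClosure E κ' := by
      rw [mem_separableClosure_iff]
      exact hys.tower_top E
    have h2 : y ∈ perfectClosure E κ' := by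
      rw [mem_perfectClosure_iff_pow_mem p]
      refine ⟨n, ⟨⟨x, IntermediateField.mem_adjoin_simple_self κ x⟩, ?_⟩⟩
      rw [hy]
      rfl
    have h3 : y ∈ separableClosure E κ' ⊓ perfectClosure E κ' := ⟨h1, h2⟩
    rw [separableClosure_inf_perfectClosure, IntermediateField.mem_bot] at h3
    obtain ⟨e, he⟩ := h3
    rw [← he]
    exact e.2
  have hfields : IntermediateField.adjoin κ {y} = IntermediateField.adjoin κ {x} := by
    apply le_antisymm
    · rw [IntermediateField.adjoin_simple_le_iff]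
      exact hyE
    · rw [IntermediateField.adjoin_simple_le_iff, ← hy]
      exact pow_mem (IntermediateField.mem_adjoin_simple_self κ y) _
  have hdeg : (minpoly κ y).natDegree = (minpoly κ x).natDegree := by
    rw [← IntermediateField.adjoin.finrank hyint, ← IntermediateField.adjoin.finrank hxint,
      hfields]
  set g := (minpoly κ y).map (iterateFrobenius κ p n) with hg
  have hgm : g.Monic := (minpoly.monic hyint).map _
  have hgdeg : g.natDegree = (minpoly κ y).natDegree := (minpoly.monic hyint).natDegree_map _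
  have hgx : aeval x g = 0 := by
    rw [aeval_def, ← hy, hg, eval₂_map_iterateFrobenius, ← aeval_def, minpoly.aeval, zero_pow]
    exact pow_ne_zero _ hp.out.ne_zero
  have hdvd : minpoly κ x ∣ g := minpoly.dvd κ x hgx
  have heq : g = minpoly κ x :=
    Polynomial.eq_of_monic_of_dvd_of_natDegree_le (minpoly.monic hxint) hgm hdvd
      (by rw [hgdeg, hdeg])
  refine ⟨(minpoly κ y).coeff i, ?_⟩
  rw [← heq, hg, coeff_map, iterateFrobenius_def]

end Minpoly

end Groth.Agent.H6.EppGen
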