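import Mathlib
import Groth.Agent.Lib.Helper6.EG13

/-!
# Epp, general case: the perfect core, separability and algebraic closedness
-/

set_option autoImplicit false
universe u

namespace Groth.Agent.H6.EppGen

open Polynomial

section Tower

variable {p : ℕ} [hp : Fact p.Prime] {κA κB κh : Type*} [Field κA] [Field κB] [Field κh]
  [Algebra κA κB] [Algebra κB κh] [Algebra κA κh] [IsScalarTower κA κB κh]
  [CharP κA p] [CharP κB p] [CharP κh p]

/-- An element of `κh` whose minimal polynomial over `κB` is separable with coefficients separable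
over `κA` is separable over `κA`. -/
theorem isSeparable_of_coeff (x : κh) (hx : IsSeparable κB x)
    (hc : ∀ i, IsSeparable κA ((minpoly κB x).coeff i)) : IsSeparable κA x := by
  set E := separableClosure κA κB with hE
  haveI : IsScalarTower E κB κh := inferInstance
  haveI : IsScalarTower κA E κh := IsScalarTower.of_algebraMap_eq (fun a => by
    show algebraMap κA κh a = algebraMap κB κh (algebraMap E κB (algebraMap κA E a))
    rw [← IsScalarTower.algebraMap_apply κA E κB, ← IsScalarTower.algebraMap_apply κA κB κh])
  have hlift : minpoly κB x ∈ Polynomial.lifts (algebraMap E κB) := by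
    rw [Polynomial.lifts_iff_coeff_lifts]
    intro i
    exact ⟨⟨(minpoly κB x).coeff i, mem_separableClosure_iff.mpr (hc i)⟩, rfl⟩
  obtain ⟨m', hm'⟩ := hlift
  rw [coe_mapRingHom] at hm'
  have hm's : m'.Separable := by
    rw [← Polynomial.separable_map (algebraMap E κB), hm']
    exact hx
  have hm'x : aeval x m' = 0 := by
    have h1 : aeval x (m'.map (algebraMap E κB)) = 0 := by rw [hm']; exact minpoly.aeval κB x
    rwa [aeval_map_algebraMap] at h1
  have hxE : IsSeparable E x := hm's.of_dvd (minpoly.dvd E x hm'x)
  exact IsSeparable.of_algebra_isSeparable_of_isSeparable κA hxE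

/-- Transfer of the hypothesis of Epp's theorem along a separable algebraic extension of the top
residue field. -/
theorem isSeparable_of_mem_pcore [Algebra.IsSeparable κB κh]
    (hres : ∀ x : κB, x ∈ pcore p κB → IsSeparable κA x) (x : κh) (hx : x ∈ pcore p κh) :
    IsSeparable κA x := by
  apply isSeparable_of_coeff (κB := κB) x (Algebra.IsSeparable.isSeparable κB x)
  intro i
  apply hres
  apply minpoly_coeff_mem_pcore
  intro n
  obtain ⟨y, -, hy⟩ := exists_root_pcore hx n
  exact ⟨y, hy, Algebra.IsSeparable.isSeparable κB y⟩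

/-- The minimal polynomial over `κA` of an element of the perfect core of `κh` is separable with
coefficients in the perfect core of `κA`. -/
theorem minpoly_pcore [Algebra.IsSeparable κB κh]
    (hres : ∀ x : κB, x ∈ pcore p κB → IsSeparable κA x) (x : κh) (hx : x ∈ pcore p κh) :
    (minpoly κA x).Separable ∧ ∀ i, (minpoly κA x).coeff i ∈ pcore p κA := by
  refine ⟨isSeparable_of_mem_pcore hres x hx, ?_⟩
  intro i
  apply minpoly_coeff_mem_pcore
  intro n
  obtain ⟨y, hyc, hy⟩ := exists_root_pcore hx n
  exact ⟨y, hy, isSeparable_of_mem_pcore hres y hyc⟩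

end Tower

section AlgClosed

variable {p : ℕ} [hp : Fact p.Prime] {κ : Type*} [Field κ] [CharP κ p]

/-- The perfect core of a separably closed field is algebraically closed. -/
theorem isAlgClosed_pcore [IsSepClosed κ] : IsAlgClosed (pcore p κ) := by
  haveI : ExpChar (pcore p κ) p := ExpChar.prime hp.out
  haveI : PerfectField (pcore p κ) := PerfectRing.toPerfectField (pcore p κ) p
  apply IsAlgClosed.of_exists_root
  intro f hfm hfi
  have hfs : f.Separable := PerfectField.separable_of_irreducible hfi
  have hdeg : (f.map (pcore p κ).subtype).degree ≠ 0 := by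
    rw [degree_map]
    exact (degree_pos_of_irreducible hfi).ne'
  obtain ⟨x, hx⟩ := IsSepClosed.exists_root (f.map (pcore p κ).subtype) hdeg hfs.map
  suffices hxc : x ∈ pcore p κ by
    refine ⟨⟨x, hxc⟩, ?_⟩
    apply (pcore p κ).subtype.injective
    rw [map_zero, ← hx, eval_map, ← Polynomial.eval₂_hom]
    rfl
  intro n
  -- the twisted polynomial
  set φ : pcore p κ ≃+* pcore p κ := (iterateFrobeniusEquiv (pcore p κ) p n).symm with hφ
  set fn : (pcore p κ)[X] := f.map (φ : pcore p κ →+* pcore p κ) with hfn
  have hfn_map : fn.map (iterateFrobenius (pcore p κ) p n) = f := by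
    rw [hfn, Polynomial.map_map]
    have h1 : (iterateFrobenius (pcore p κ) p n).comp (φ : pcore p κ →+* pcore p κ) =
        RingHom.id _ := by
      apply RingHom.ext
      intro a
      have h2 := (iterateFrobeniusEquiv (pcore p κ) p n).apply_symm_apply a
      rw [coe_iterateFrobeniusEquiv] at h2
      simp only [RingHom.comp_apply, RingHom.id_apply]
      exact h2
    rw [h1, Polynomial.map_id]
  have hfni : Irreducible fn := by
    have h1 : fn = Polynomial.mapEquiv φ f := rfl
    rw [h1]
    exact (MulEquiv.irreducible_iff (Polynomial.mapEquiv φ).toMulEquiv).mpr hfi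
  have hfns : fn.Separable := PerfectField.separable_of_irreducible hfni
  -- a root in the algebraic closure
  obtain ⟨y, hy⟩ := IsAlgClosed.exists_pow_nat_eq (algebraMap κ (AlgebraicClosure κ) x)
    (pow_pos hp.out.pos n)
  set ψ : pcore p κ →+* AlgebraicClosure κ :=
    (algebraMap κ (AlgebraicClosure κ)).comp (pcore p κ).subtype with hψ
  haveI : CharP (AlgebraicClosure κ) p :=
    charP_of_injective_algebraMap (algebraMap κ (AlgebraicClosure κ)).injective p
  have hy0 : eval₂ ψ y fn = 0 := by
    have h1 := eval₂_map_iterateFrobenius p ψ fn y n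
    rw [hfn_map, hy, hψ, ← eval₂_map, eval₂_at_apply, hx, map_zero] at h1
    exact pow_eq_zero_iff (pow_ne_zero _ hp.out.ne_zero) |>.mp h1.symm
  have hysep : IsSeparable κ y := by
    have h1 : aeval y (fn.map (pcore p κ).subtype) = 0 := by
      rw [aeval_def, eval₂_map]
      exact hy0
    exact hfns.map.of_dvd (minpoly.dvd κ y h1)
  have hyint : IsIntegral κ y := hysep.isIntegral
  have hdeg1 : (minpoly κ y).degree = 1 :=
    IsSepClosed.degree_eq_one_of_irreducible κ (minpoly.irreducible hyint) hysep
  obtain ⟨y₀, hy₀⟩ := minpoly.degree_eq_one_iff.mp hdeg1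
  refine ⟨y₀, ?_⟩
  apply (algebraMap κ (AlgebraicClosure κ)).injective
  rw [map_pow]
  rw [hy₀]
  exact hy

end AlgClosed

end Groth.Agent.H6.EppGen
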