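import Mathlib
import Groth.Agent.Lib.Helper6.EG11

/-!
# Epp, general case: the closure of a subfield of a discretely valued field
-/

set_option autoImplicit false
universe u

namespace Groth.Agent.H6.EppGen

open IsLocalRing Groth.Agent.H8 Groth.Agent.H6.EppTower

variable {Ω : Type u} [Field Ω] {V : ValuationSubring Ω}

section PowMem

/-- Membership in powers of the maximal ideal via a uniformizer. -/
theorem mem_maximalIdeal_pow_O_iff (E : Subfield Ω) {π : Ω} (hπ : IsU V E π) (hπ0 : π ≠ 0) (n : ℕ)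
    (z : O V E) : z ∈ maximalIdeal (O V E) ^ n ↔ V.valuation ((z : E) : Ω) ≤ V.valuation π ^ n := by
  rw [hπ.span_eq hπ0, Ideal.span_singleton_pow, Ideal.mem_span_singleton]
  constructor
  · rintro ⟨c, rfl⟩
    have h1 : V.valuation ((((hπ.elt ^ n * c : O V E) : E) : Ω)) =
        V.valuation π ^ n * V.valuation ((c : E) : Ω) := by
      rw [← map_pow, ← map_mul]
      rfl
    rw [h1]
    calc V.valuation π ^ n * V.valuation ((c : E) : Ω) ≤ V.valuation π ^ n * 1 :=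
          mul_le_mul' le_rfl (val_O_le_one V E c)
      _ = V.valuation π ^ n := mul_one _
  · intro h
    have hvπ : V.valuation π ≠ 0 := (Valuation.ne_zero_iff _).mpr hπ0
    have hc : V.valuation (((z : E) : Ω) * (π ^ n)⁻¹) ≤ 1 := by
      rw [map_mul, map_inv₀, map_pow]
      calc V.valuation ((z : E) : Ω) * (V.valuation π ^ n)⁻¹
          ≤ V.valuation π ^ n * (V.valuation π ^ n)⁻¹ := mul_le_mul' h le_rfl
        _ = 1 := mul_inv_cancel₀ (pow_ne_zero _ hvπ)
    have hcE : ((z : E) : Ω) * (π ^ n)⁻¹ ∈ E :=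
      E.mul_mem (z : E).2 (E.inv_mem (E.pow_mem hπ.1 n))
    refine ⟨⟨⟨_, hcE⟩, (V.valuation_le_one_iff _).mp hc⟩, ?_⟩
    apply Subtype.ext
    apply Subtype.ext
    show ((z : E) : Ω) = π ^ n * (((z : E) : Ω) * (π ^ n)⁻¹)
    rw [mul_comm ((z : E) : Ω), ← mul_assoc, mul_inv_cancel₀ (pow_ne_zero _ hπ0), one_mul]

end PowMem

section Closure

variable (V)

/-- The closure of `K` in `Lh` for the `π`-adic topology, as a set. -/
def clSet (π : Ω) (K Lh : Subfield Ω) : Set Ω :=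
  {x | x ∈ Lh ∧ ∀ n : ℕ, ∃ a ∈ K, V.valuation (x - a) ≤ V.valuation π ^ n}

variable {V}

variable {π : Ω} {K Lh : Subfield Ω}

theorem subset_clSet (hKL : K ≤ Lh) {x : Ω} (hx : x ∈ K) : x ∈ clSet V π K Lh :=
  ⟨hKL hx, fun n => ⟨x, hx, by rw [sub_self, map_zero]; exact zero_le⟩⟩

theorem clSet_add {x y : Ω} (hx : x ∈ clSet V π K Lh) (hy : y ∈ clSet V π K Lh) :
    x + y ∈ clSet V π K Lh := by
  refine ⟨Lh.add_mem hx.1 hy.1, fun n => ?_⟩
  obtain ⟨a, ha, hxa⟩ := hx.2 n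
  obtain ⟨b, hb, hyb⟩ := hy.2 n
  refine ⟨a + b, K.add_mem ha hb, ?_⟩
  have : x + y - (a + b) = (x - a) + (y - b) := by ring
  rw [this]
  exact (Valuation.map_add _ _ _).trans (max_le hxa hyb)

theorem clSet_neg {x : Ω} (hx : x ∈ clSet V π K Lh) : -x ∈ clSet V π K Lh := by
  refine ⟨Lh.neg_mem hx.1, fun n => ?_⟩
  obtain ⟨a, ha, hxa⟩ := hx.2 n
  refine ⟨-a, K.neg_mem ha, ?_⟩
  have : -x - -a = -(x - a) := by ring
  rw [this, Valuation.map_neg]
  exact hxa

theorem pow_add_le (hπ : V.valuation π < 1) (n N : ℕ) :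
    V.valuation π ^ (n + N) ≤ V.valuation π ^ n := by
  rw [pow_add]
  calc V.valuation π ^ n * V.valuation π ^ N ≤ V.valuation π ^ n * 1 :=
        mul_le_mul' le_rfl (pow_le_one' hπ.le N)
    _ = V.valuation π ^ n := mul_one _

theorem clSet_mul [IsDiscreteValuationRing (O V Lh)] (hKL : K ≤ Lh) (hπK : π ∈ K)
    (hπ : V.valuation π < 1) {x y : Ω} (hx : x ∈ clSet V π K Lh) (hy : y ∈ clSet V π K Lh) :
    x * y ∈ clSet V π K Lh := by
  refine ⟨Lh.mul_mem hx.1 hy.1, fun n => ?_⟩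
  obtain ⟨N₁, hN₁⟩ := exists_pow_mul_le_one Lh (hKL hπK) hπ hx.1
  obtain ⟨N₂, hN₂⟩ := exists_pow_mul_le_one Lh (hKL hπK) hπ hy.1
  set N := N₁ + N₂ with hN
  have hNx : V.valuation π ^ N * V.valuation x ≤ 1 := by
    rw [hN, pow_add, mul_comm (V.valuation π ^ N₁), mul_assoc]
    calc V.valuation π ^ N₂ * (V.valuation π ^ N₁ * V.valuation x) ≤ 1 * 1 :=
          mul_le_mul' (pow_le_one' hπ.le _) hN₁
      _ = 1 := one_mul _
  have hNy : V.valuation π ^ N * V.valuation y ≤ 1 := by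
    rw [hN, pow_add, mul_assoc]
    calc V.valuation π ^ N₁ * (V.valuation π ^ N₂ * V.valuation y) ≤ 1 * 1 :=
          mul_le_mul' (pow_le_one' hπ.le _) hN₂
      _ = 1 := one_mul _
  obtain ⟨a, ha, hxa⟩ := hx.2 (n + N)
  obtain ⟨b, hb, hyb⟩ := hy.2 (n + N)
  have hNb : V.valuation π ^ N * V.valuation b ≤ 1 := by
    have h1 : V.valuation b ≤ max (V.valuation y) (V.valuation (y - b)) := by
      have : b = y - (y - b) := by ring
      calc V.valuation b = V.valuation (y - (y - b)) := by rw [← this]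
        _ ≤ max (V.valuation y) (V.valuation (y - b)) := Valuation.map_sub _ _ _
    rcases le_max_iff.mp h1 with h2 | h2
    · exact (mul_le_mul' le_rfl h2).trans hNy
    · calc V.valuation π ^ N * V.valuation b ≤ 1 * V.valuation π ^ (n + N) :=
            mul_le_mul' (pow_le_one' hπ.le _) (h2.trans hyb)
        _ ≤ 1 := by rw [one_mul]; exact pow_le_one' hπ.le _
  refine ⟨a * b, K.mul_mem ha hb, ?_⟩
  have h3 : x * y - a * b = x * (y - b) + b * (x - a) := by ring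
  rw [h3]
  refine (Valuation.map_add _ _ _).trans (max_le ?_ ?_)
  · rw [map_mul]
    calc V.valuation x * V.valuation (y - b) ≤ V.valuation x * V.valuation π ^ (n + N) :=
          mul_le_mul' le_rfl hyb
      _ = V.valuation π ^ n * (V.valuation π ^ N * V.valuation x) := by rw [pow_add]; ac_rfl
      _ ≤ V.valuation π ^ n * 1 := mul_le_mul' le_rfl hNx
      _ = V.valuation π ^ n := mul_one _
  · rw [map_mul]
    calc V.valuation b * V.valuation (x - a) ≤ V.valuation b * V.valuation π ^ (n + N) :=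
          mul_le_mul' le_rfl hxa
      _ = V.valuation π ^ n * (V.valuation π ^ N * V.valuation b) := by rw [pow_add]; ac_rfl
      _ ≤ V.valuation π ^ n * 1 := mul_le_mul' le_rfl hNb
      _ = V.valuation π ^ n := mul_one _

/-- A good approximation of a nonzero element has the same valuation. -/
theorem exists_approx_val_eq [IsDiscreteValuationRing (O V Lh)] (hKL : K ≤ Lh) (hπK : π ∈ K)
    (hπ : V.valuation π < 1) {x : Ω} (hx : x ∈ clSet V π K Lh) (hx0 : x ≠ 0) (n : ℕ) :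
    ∃ a ∈ K, V.valuation (x - a) ≤ V.valuation π ^ n ∧ V.valuation a = V.valuation x := by
  obtain ⟨M, hM⟩ := exists_pow_lt Lh (hKL hπK) hπ hx.1 hx0
  obtain ⟨a, ha, hxa⟩ := hx.2 (n + M)
  have hlt : V.valuation (x - a) < V.valuation x := by
    refine lt_of_le_of_lt hxa (lt_of_le_of_lt ?_ hM)
    rw [add_comm]
    exact pow_add_le hπ M n
  refine ⟨a, ha, hxa.trans (pow_add_le hπ n M), ?_⟩
  have h2 : V.valuation (x - (x - a)) = V.valuation x := by
    rw [Valuation.map_sub_swap]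
    exact Valuation.map_sub_eq_of_lt_right _ hlt
  rwa [sub_sub_cancel] at h2

theorem clSet_inv [IsDiscreteValuationRing (O V Lh)] (hKL : K ≤ Lh) (hπK : π ∈ K)
    (hπ : V.valuation π < 1) (hπ0 : π ≠ 0) {x : Ω} (hx : x ∈ clSet V π K Lh) : x⁻¹ ∈ clSet V π K Lh := by
  by_cases hx0 : x = 0
  · rw [hx0, inv_zero]
    exact subset_clSet hKL K.zero_mem
  refine ⟨Lh.inv_mem hx.1, fun n => ?_⟩
  obtain ⟨M, hM⟩ := exists_pow_lt Lh (hKL hπK) hπ hx.1 hx0
  obtain ⟨a, ha, hxa, hva⟩ := exists_approx_val_eq hKL hπK hπ hx hx0 (n + (M + M))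
  have hvx : V.valuation x ≠ 0 := (Valuation.ne_zero_iff _).mpr hx0
  have ha0 : a ≠ 0 := by
    intro h
    rw [h, map_zero] at hva
    exact hvx hva.symm
  refine ⟨a⁻¹, K.inv_mem ha, ?_⟩
  have h1 : x⁻¹ - a⁻¹ = -((x - a) * (x⁻¹ * a⁻¹)) := by
    field_simp
    ring
  rw [h1, Valuation.map_neg, map_mul, map_mul, map_inv₀, map_inv₀, hva]
  have hMpos : V.valuation π ^ M ≠ 0 := pow_ne_zero _ ((Valuation.ne_zero_iff _).mpr hπ0)
  have h2 : (V.valuation x)⁻¹ ≤ (V.valuation π ^ M)⁻¹ :=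
    inv_anti₀ (zero_lt_iff.mpr hMpos) hM.le
  calc V.valuation (x - a) * ((V.valuation x)⁻¹ * (V.valuation x)⁻¹)
      ≤ V.valuation π ^ (n + (M + M)) * ((V.valuation π ^ M)⁻¹ * (V.valuation π ^ M)⁻¹) :=
        mul_le_mul' hxa (mul_le_mul' h2 h2)
    _ = V.valuation π ^ n * ((V.valuation π ^ M * (V.valuation π ^ M)⁻¹) *
          (V.valuation π ^ M * (V.valuation π ^ M)⁻¹)) := by
        rw [pow_add, pow_add]; ac_rfl
    _ = V.valuation π ^ n := by rw [mul_inv_cancel₀ hMpos, mul_one, mul_one]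

variable (V π K Lh)

/-- The closure of `K` in `Lh`. -/
def closureIn [IsDiscreteValuationRing (O V Lh)] (hKL : K ≤ Lh) (hπK : π ∈ K)
    (hπ : V.valuation π < 1) (hπ0 : π ≠ 0) : Subfield Ω where
  carrier := clSet V π K Lh
  mul_mem' := fun hx hy => clSet_mul hKL hπK hπ hx hy
  one_mem' := subset_clSet hKL K.one_mem
  add_mem' := fun hx hy => clSet_add hx hy
  zero_mem' := subset_clSet hKL K.zero_mem
  neg_mem' := fun hx => clSet_neg hx
  inv_mem' := fun _ hx => clSet_inv hKL hπK hπ hπ0 hx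

variable {V π K Lh}

variable [IsDiscreteValuationRing (O V Lh)] (hKL : K ≤ Lh) (hπK : π ∈ K)
    (hπ : V.valuation π < 1) (hπ0 : π ≠ 0)

theorem mem_closureIn {x : Ω} : x ∈ closureIn V π K Lh hKL hπK hπ hπ0 ↔
    x ∈ Lh ∧ ∀ n : ℕ, ∃ a ∈ K, V.valuation (x - a) ≤ V.valuation π ^ n := Iff.rfl

theorem le_closureIn : K ≤ closureIn V π K Lh hKL hπK hπ hπ0 := fun _ hx => subset_clSet hKL hx

theorem closureIn_le : closureIn V π K Lh hKL hπK hπ hπ0 ≤ Lh := fun _ hx => hx.1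

theorem dense_closureIn : Dense V π K (closureIn V π K Lh hKL hπK hπ hπ0) := fun _ hx n => hx.2 n

/-- The closure is closed. -/
theorem closureIn_closed {x : Ω} (hx : x ∈ Lh)
    (h : ∀ n : ℕ, ∃ a ∈ closureIn V π K Lh hKL hπK hπ hπ0, V.valuation (x - a) ≤ V.valuation π ^ n) :
    x ∈ closureIn V π K Lh hKL hπK hπ hπ0 := by
  refine ⟨hx, fun n => ?_⟩
  obtain ⟨a, ha, hxa⟩ := h n
  obtain ⟨b, hb, hab⟩ := ha.2 n
  refine ⟨b, hb, ?_⟩
  have : x - b = (x - a) + (a - b) := by ring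
  rw [this]
  exact (Valuation.map_add _ _ _).trans (max_le hxa hab)

/-- A uniformizer of `K` is a uniformizer of its closure. -/
theorem isU_closureIn (hU : IsU V K π) : IsU V (closureIn V π K Lh hKL hπK hπ hπ0) π := by
  refine ⟨le_closureIn hKL hπK hπ hπ0 hπK, hπ, fun a ha hlt => ?_⟩
  by_cases ha0 : a = 0
  · rw [ha0, map_zero]; exact zero_le
  obtain ⟨b, hb, -, hvb⟩ := exists_approx_val_eq hKL hπK hπ ha ha0 0
  rw [← hvb]
  exact hU.2.2 b hb (hvb ▸ hlt)

end Closure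

end Groth.Agent.H6.EppGen
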