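import Mathlib
import Groth.Agent.Lib.Helper6.EG15

/-!
# Epp, general case: the closure of a discretely valued subfield is a complete DVR
-/

set_option autoImplicit false
universe u

namespace Groth.Agent.H6.EppGen

open IsLocalRing Groth.Agent.H8 Groth.Agent.H6.EppTower

variable {Ω : Type u} [Field Ω] {V : ValuationSubring Ω}

theorem smodEq_pow_iff {R : Type*} [CommRing R] (I : Ideal R) (n : ℕ) (x y : R) :
    x ≡ y [SMOD (I ^ n • ⊤ : Submodule R R)] ↔ x - y ∈ I ^ n := by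
  rw [SModEq.sub_mem, smul_eq_mul, Ideal.mul_top]

/-- A nontrivially valued subfield `E` with a uniformizer such that all valuations are powers of the
uniformizer has a discrete valuation ring. -/
theorem isDVR_of_isU (E : Subfield Ω) {π : Ω} (hU : IsU V E π) (hπ0 : π ≠ 0)
    (hpow : ∀ x ∈ E, x ≠ 0 → V.valuation x ≤ 1 → ∃ m : ℕ, V.valuation x = V.valuation π ^ m) :
    IsDiscreteValuationRing (O V E) := by
  apply IsDiscreteValuationRing.ofHasUnitMulPowIrreducibleFactorization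
  have helt0 : hU.elt ≠ 0 := fun h => hπ0 (congrArg (fun z : O V E => ((z : E) : Ω)) h)
  refine ⟨hU.elt, IsDiscreteValuationRing.irreducible_of_span_eq_maximalIdeal _ helt0 (hU.span_eq hπ0), ?_⟩
  intro x hx0
  have hx0' : ((x : E) : Ω) ≠ 0 := fun h => hx0 (by apply Subtype.ext; apply Subtype.ext; exact h)
  obtain ⟨m, hm⟩ := hpow _ (x : E).2 hx0' (val_O_le_one V E x)
  refine ⟨m, ?_⟩
  have hvπ : V.valuation π ≠ 0 := (Valuation.ne_zero_iff _).mpr hπ0
  have hu1 : V.valuation (((x : E) : Ω) * (π ^ m)⁻¹) = 1 := by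
    rw [map_mul, map_inv₀, map_pow, hm, mul_inv_cancel₀ (pow_ne_zero _ hvπ)]
  have huE : ((x : E) : Ω) * (π ^ m)⁻¹ ∈ E := E.mul_mem (x : E).2 (E.inv_mem (E.pow_mem hU.1 m))
  set u : O V E := ⟨⟨_, huE⟩, (V.valuation_le_one_iff _).mp hu1.le⟩ with hu
  have huu : IsUnit u := (isUnit_O_iff V E u).mpr hu1
  obtain ⟨u', hu'⟩ := huu
  refine ⟨u', ?_⟩
  rw [hu']
  apply Subtype.ext
  apply Subtype.ext
  show π ^ m * (((x : E) : Ω) * (π ^ m)⁻¹) = ((x : E) : Ω)
  rw [mul_comm ((x : E) : Ω), ← mul_assoc, mul_inv_cancel₀ (pow_ne_zero _ hπ0), one_mul]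

section Closure

variable {π : Ω} {K Lh : Subfield Ω} [IsDiscreteValuationRing (O V Lh)] (hKL : K ≤ Lh)
  (hπK : π ∈ K) (hπ : V.valuation π < 1) (hπ0 : π ≠ 0)

theorem isDVR_closureIn [IsDiscreteValuationRing (O V K)] (hU : IsU V K π) :
    IsDiscreteValuationRing (O V (closureIn V π K Lh hKL hπK hπ hπ0)) := by
  apply isDVR_of_isU _ (isU_closureIn hKL hπK hπ hπ0 hU) hπ0
  intro x hx hx0 hx1
  obtain ⟨a, ha, -, hva⟩ := exists_approx_val_eq hKL hπK hπ hx hx0 0
  have ha0 : a ≠ 0 := by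
    intro h
    rw [h, map_zero] at hva
    exact (Valuation.ne_zero_iff _).mpr hx0 hva.symm
  obtain ⟨m, hm⟩ := exists_pow_eq_of_isU K hU hπ0 ha ha0 (hva ▸ hx1)
  exact ⟨m, by rw [← hva, hm]⟩

theorem isAdicComplete_closureIn [IsDiscreteValuationRing (O V K)] (hU : IsU V K π)
    [IsAdicComplete (maximalIdeal (O V Lh)) (O V Lh)] :
    IsAdicComplete (maximalIdeal (O V (closureIn V π K Lh hKL hπK hπ hπ0)))
      (O V (closureIn V π K Lh hKL hπK hπ hπ0)) := by
  set Kc := closureIn V π K Lh hKL hπK hπ hπ0 with hKc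
  haveI : IsDiscreteValuationRing (O V Kc) := isDVR_closureIn hKL hπK hπ hπ0 hU
  have hUc : IsU V Kc π := isU_closureIn hKL hπK hπ hπ0 hU
  have hKcL : Kc ≤ Lh := closureIn_le hKL hπK hπ hπ0
  haveI : Fact (Kc ≤ Lh) := ⟨hKcL⟩
  obtain ⟨πh, hπh0, hUh⟩ := exists_isU (V := V) Lh
  have hππh : V.valuation π ≤ V.valuation πh := hUh.2.2 π (hKL hπK) hπ
  -- comparison of the two topologies
  have hcomp : ∀ n : ℕ, ∃ M : ℕ, V.valuation πh ^ M ≤ V.valuation π ^ n := by
    intro n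
    obtain ⟨M, hM⟩ := exists_pow_lt Lh hUh.1 hUh.2.1 (Lh.pow_mem (hKL hπK) n) (pow_ne_zero n hπ0)
    exact ⟨M, by rw [map_pow] at hM; exact hM.le⟩
  have hanti : ∀ {a b : ℕ}, a ≤ b → V.valuation πh ^ b ≤ V.valuation πh ^ a := by
    intro a b hab
    obtain ⟨c, rfl⟩ := Nat.exists_eq_add_of_le hab
    exact pow_add_le hUh.2.1 a c
  refine { haus' := ?_, prec' := ?_ }
  · intro x hx
    by_contra hx0
    have hx0' : ((x : Kc) : Ω) ≠ 0 := fun h => hx0 (by apply Subtype.ext; apply Subtype.ext; exact h)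
    obtain ⟨n, hn⟩ := exists_pow_lt Kc hUc.1 hπ (x : Kc).2 hx0'
    have h1 := hx n
    rw [smodEq_pow_iff, sub_zero, mem_maximalIdeal_pow_O_iff Kc hUc hπ0] at h1
    exact absurd h1 (not_le.mpr hn)
  · intro f hf
    have hf' : ∀ {m n : ℕ}, m ≤ n →
        V.valuation (((f m : Kc) : Ω) - ((f n : Kc) : Ω)) ≤ V.valuation π ^ m := by
      intro m n hmn
      have h1 := hf hmn
      rw [smodEq_pow_iff, mem_maximalIdeal_pow_O_iff Kc hUc hπ0] at h1
      exact h1
    -- the sequence in `O V Lh`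
    set g : ℕ → O V Lh := fun n => algebraMap (O V Kc) (O V Lh) (f n) with hg
    have hgC : ∀ {m n : ℕ}, m ≤ n →
        g m ≡ g n [SMOD (maximalIdeal (O V Lh) ^ m • ⊤ : Submodule (O V Lh) (O V Lh))] := by
      intro m n hmn
      rw [smodEq_pow_iff, mem_maximalIdeal_pow_O_iff Lh hUh hπh0]
      show V.valuation (((f m : Kc) : Ω) - ((f n : Kc) : Ω)) ≤ V.valuation πh ^ m
      exact (hf' hmn).trans (pow_le_pow_left₀ zero_le hππh m)
    obtain ⟨L, hL⟩ := IsPrecomplete.prec' (I := maximalIdeal (O V Lh)) g hgC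
    have hL' : ∀ n : ℕ, V.valuation (((f n : Kc) : Ω) - ((L : Lh) : Ω)) ≤ V.valuation πh ^ n := by
      intro n
      have h1 := hL n
      rw [smodEq_pow_iff, mem_maximalIdeal_pow_O_iff Lh hUh hπh0] at h1
      exact h1
    -- the limit lies in the closure
    have hLc : ((L : Lh) : Ω) ∈ Kc := by
      apply closureIn_closed hKL hπK hπ hπ0 (L : Lh).2
      intro N
      obtain ⟨M, hM⟩ := hcomp N
      refine ⟨((f M : Kc) : Ω), (f M : Kc).2, ?_⟩
      rw [Valuation.map_sub_swap]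
      exact (hL' M).trans hM
    refine ⟨⟨⟨((L : Lh) : Ω), hLc⟩, L.2⟩, ?_⟩
    intro n
    rw [smodEq_pow_iff, mem_maximalIdeal_pow_O_iff Kc hUc hπ0]
    show V.valuation (((f n : Kc) : Ω) - ((L : Lh) : Ω)) ≤ V.valuation π ^ n
    obtain ⟨M, hM⟩ := hcomp n
    have h2 : ((f n : Kc) : Ω) - ((L : Lh) : Ω) =
        (((f n : Kc) : Ω) - ((f (max n M) : Kc) : Ω)) +
          (((f (max n M) : Kc) : Ω) - ((L : Lh) : Ω)) := by ring
    rw [h2]
    refine (Valuation.map_add _ _ _).trans (max_le (hf' (le_max_left n M)) ?_)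
    exact ((hL' (max n M)).trans (hanti (le_max_right n M))).trans hM

end Closure

end Groth.Agent.H6.EppGen
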