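import Mathlib
import Groth.Agent.Lib.Helper6.EG16

/-!
# Epp, general case: density of the unramified hull
-/

set_option autoImplicit false
universe u

namespace Groth.Agent.H6.EppGen

open IsLocalRing Groth.Agent.H8 Groth.Agent.H6.EppTower Polynomial

variable {Ω : Type u} [Field Ω] {V : ValuationSubring Ω}

/-- If every residue of `K0` is a simple root of a monic polynomial over `K00`, the unramified hull
of `K00` in `K0` is dense. -/
theorem dense_unr (K00 K0 : Subfield Ω) (hle : K00 ≤ K0) [IsDiscreteValuationRing (O V K0)]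
    [IsAdicComplete (maximalIdeal (O V K0)) (O V K0)] {ϖ : Ω} (hϖ00 : ϖ ∈ K00) (hϖ0 : ϖ ≠ 0)
    (hϖ : IsU V K0 ϖ)
    (hP : ∀ x ∈ K0, V.valuation x ≤ 1 → ∃ H : (O V K00)[X], H.Monic ∧
      V.valuation ((H.map (ι V K00)).eval x) < 1 ∧
      V.valuation (((derivative H).map (ι V K00)).eval x) = 1) :
    Dense V ϖ (K00 ⊔ Subfield.closure (UnrSet V K00 K0)) K0 := by
  haveI : Fact (K00 ≤ K0) := ⟨hle⟩
  set E' : Subfield Ω := K00 ⊔ Subfield.closure (UnrSet V K00 K0) with hE'
  have hϖE' : ϖ ∈ E' := (le_sup_left : K00 ≤ E') hϖ00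
  have hvϖ : V.valuation ϖ ≠ 0 := (Valuation.ne_zero_iff _).mpr hϖ0
  -- integral elements
  have hA : ∀ n : ℕ, ∀ x ∈ K0, V.valuation x ≤ 1 →
      ∃ a ∈ E', V.valuation (x - a) ≤ V.valuation ϖ ^ n := by
    intro n
    induction n with
    | zero =>
      intro x _ hx1
      exact ⟨0, E'.zero_mem, by rw [sub_zero, pow_zero]; exact hx1⟩
    | succ n ih =>
      intro x hx hx1
      obtain ⟨H, hHm, hH1, hH2⟩ := hP x hx hx1
      set HT : (O V K0)[X] := H.map (algebraMap (O V K00) (O V K0)) with hHT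
      have hHTι : HT.map (ι V K0) = H.map (ι V K00) := by
        rw [hHT, Polynomial.map_map, ι_comp_algebraMap]
      let x₀ : O V K0 := ⟨⟨x, hx⟩, (V.valuation_le_one_iff _).mp hx1⟩
      have hx₀ : ι V K0 x₀ = x := rfl
      have h₁ : HT.eval x₀ ∈ maximalIdeal (O V K0) := by
        rw [mem_maximalIdeal_O]
        show V.valuation (ι V K0 (HT.eval x₀)) < 1
        rw [← eval_map_ι, hHTι, hx₀]
        exact hH1
      have h₂ : IsUnit ((derivative HT).eval x₀) := by
        rw [isUnit_O_iff]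
        show V.valuation (ι V K0 ((derivative HT).eval x₀)) = 1
        rw [← eval_map_ι, ← Polynomial.derivative_map, hHTι, Polynomial.derivative_map, hx₀]
        exact hH2
      obtain ⟨a, ha, haa₀⟩ := HenselianRing.is_henselian
        (I := maximalIdeal (O V K0)) HT (hHm.map _) x₀ h₁ (h₂.map _)
      set u : Ω := ι V K0 a with hu
      have huK0 : u ∈ K0 := (a : K0).2
      have hu1 : V.valuation u ≤ 1 := val_O_le_one V K0 a
      have hux : V.valuation (u - x) < 1 := by
        have := (mem_maximalIdeal_O V K0 (a - x₀)).mp haa₀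
        exact this
      have hroot : (H.map (ι V K00)).eval u = 0 := by
        rw [← hHTι, hu, eval_map_ι]
        have : HT.eval a = 0 := ha
        rw [this, map_zero]
      have hder : V.valuation (((derivative H).map (ι V K00)).eval u) = 1 := by
        have h2 := val_eval_sub_le K00 (derivative H) hu1 hx1
        have h3 : V.valuation (((derivative H).map (ι V K00)).eval u -
            ((derivative H).map (ι V K00)).eval x) <
            V.valuation (((derivative H).map (ι V K00)).eval x) := by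
          rw [hH2]
          exact lt_of_le_of_lt h2 hux
        have h4 := Valuation.map_add_eq_of_lt_left V.valuation
          (x := ((derivative H).map (ι V K00)).eval x)
          (y := ((derivative H).map (ι V K00)).eval u - ((derivative H).map (ι V K00)).eval x) h3
        rw [add_sub_cancel] at h4
        rw [h4, hH2]
      have huU : u ∈ UnrSet V K00 K0 := ⟨huK0, H, hHm, hroot, hder⟩
      have huE' : u ∈ E' :=
        (le_sup_right : Subfield.closure (UnrSet V K00 K0) ≤ E') (Subfield.subset_closure huU)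
      -- the next digit
      have hxu : V.valuation (x - u) ≤ V.valuation ϖ := by
        rw [Valuation.map_sub_swap]
        exact hϖ.2.2 _ (K0.sub_mem huK0 hx) hux
      set x₁ : Ω := (x - u) * ϖ⁻¹ with hx₁
      have hx₁K0 : x₁ ∈ K0 := K0.mul_mem (K0.sub_mem hx huK0) (K0.inv_mem hϖ.1)
      have hx₁1 : V.valuation x₁ ≤ 1 := by
        rw [hx₁, map_mul, map_inv₀]
        calc V.valuation (x - u) * (V.valuation ϖ)⁻¹ ≤ V.valuation ϖ * (V.valuation ϖ)⁻¹ :=
              mul_le_mul' hxu le_rfl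
          _ = 1 := mul_inv_cancel₀ hvϖ
      obtain ⟨a₁, ha₁, hxa₁⟩ := ih x₁ hx₁K0 hx₁1
      refine ⟨u + ϖ * a₁, E'.add_mem huE' (E'.mul_mem hϖE' ha₁), ?_⟩
      have h5 : x - (u + ϖ * a₁) = ϖ * (x₁ - a₁) := by
        rw [hx₁]
        field_simp
        ring
      rw [h5, map_mul, pow_succ']
      exact mul_le_mul' le_rfl hxa₁
  -- general elements
  intro x hx n
  obtain ⟨N, hN⟩ := exists_pow_mul_le_one K0 hϖ.1 hϖ.2.1 hx
  have hyK0 : ϖ ^ N * x ∈ K0 := K0.mul_mem (K0.pow_mem hϖ.1 N) hx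
  have hy1 : V.valuation (ϖ ^ N * x) ≤ 1 := by rw [map_mul, map_pow]; exact hN
  obtain ⟨a', ha', hya'⟩ := hA (n + N) _ hyK0 hy1
  refine ⟨a' * (ϖ ^ N)⁻¹, E'.mul_mem ha' (E'.inv_mem (E'.pow_mem hϖE' N)), ?_⟩
  have h6 : x - a' * (ϖ ^ N)⁻¹ = (ϖ ^ N * x - a') * (ϖ ^ N)⁻¹ := by
    field_simp
  rw [h6, map_mul, map_inv₀, map_pow]
  calc V.valuation (ϖ ^ N * x - a') * (V.valuation ϖ ^ N)⁻¹
      ≤ V.valuation ϖ ^ (n + N) * (V.valuation ϖ ^ N)⁻¹ := mul_le_mul' hya' le_rfl
    _ = V.valuation ϖ ^ n * (V.valuation ϖ ^ N * (V.valuation ϖ ^ N)⁻¹) := by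
        rw [pow_add, mul_assoc]
    _ = V.valuation ϖ ^ n := by rw [mul_inv_cancel₀ (pow_ne_zero _ hvϖ), mul_one]

end Groth.Agent.H6.EppGen
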