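import Mathlib
import Groth.Agent.Lib.Helper6.EG17

/-!
# Epp, general case: finiteness over a complete discretely valued subfield with the same residue
field
-/

set_option autoImplicit false
universe u

namespace Groth.Agent.H6.EppGen

open IsLocalRing Groth.Agent.H8 Groth.Agent.H6.EppTower Polynomial

variable {Ω : Type u} [Field Ω] {V : ValuationSubring Ω}

section Digits

variable (L0 Lh : Subfield Ω) {ϖ πh : Ω} {e : ℕ} [Fact (L0 ≤ Lh)]

/-- Expansion to order `k` in the uniformizer `πh` with digits in `O V L0`. -/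
theorem exists_digits (hres : Res1 V L0 Lh) (hπh : IsU V Lh πh) (hπh0 : πh ≠ 0) (k : ℕ)
    (x : Ω) (hx : x ∈ Lh) (hx1 : V.valuation x ≤ 1) :
    ∃ c : ℕ → O V L0, V.valuation (x - ∑ i ∈ Finset.range k, ι V L0 (c i) * πh ^ i) ≤
      V.valuation πh ^ k := by
  induction k with
  | zero => exact ⟨fun _ => 0, by simpa using hx1⟩
  | succ k ih =>
    obtain ⟨c, hc⟩ := ih
    have hvπ : V.valuation πh ≠ 0 := (Valuation.ne_zero_iff _).mpr hπh0
    set r : Ω := (x - ∑ i ∈ Finset.range k, ι V L0 (c i) * πh ^ i) * (πh ^ k)⁻¹ with hr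
    have hsumLh : ∑ i ∈ Finset.range k, ι V L0 (c i) * πh ^ i ∈ Lh := by
      apply Lh.sum_mem
      intro i _
      exact Lh.mul_mem ((Fact.out : L0 ≤ Lh) (c i : L0).2) (Lh.pow_mem hπh.1 i)
    have hrLh : r ∈ Lh := Lh.mul_mem (Lh.sub_mem hx hsumLh) (Lh.inv_mem (Lh.pow_mem hπh.1 k))
    have hr1 : V.valuation r ≤ 1 := by
      rw [hr, map_mul, map_inv₀, map_pow]
      calc _ ≤ V.valuation πh ^ k * (V.valuation πh ^ k)⁻¹ := mul_le_mul' hc le_rfl
        _ = 1 := mul_inv_cancel₀ (pow_ne_zero _ hvπ)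
    obtain ⟨a, ha, ha1, hra⟩ := hres r hrLh hr1
    let a' : O V L0 := ⟨⟨a, ha⟩, (V.valuation_le_one_iff _).mp ha1⟩
    refine ⟨fun i => if i = k then a' else c i, ?_⟩
    rw [Finset.sum_range_succ]
    have h1 : ∑ i ∈ Finset.range k, ι V L0 ((fun i => if i = k then a' else c i) i) * πh ^ i =
        ∑ i ∈ Finset.range k, ι V L0 (c i) * πh ^ i := by
      apply Finset.sum_congr rfl
      intro i hi
      have : i ≠ k := (Finset.mem_range.mp hi).ne
      simp only [this, if_false]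
    rw [h1]
    simp only [if_true]
    have h2 : x - (∑ i ∈ Finset.range k, ι V L0 (c i) * πh ^ i + ι V L0 a' * πh ^ k) =
        πh ^ k * (r - a) := by
      rw [hr]
      have : ι V L0 a' = a := rfl
      rw [this]
      field_simp
      ring
    rw [h2, map_mul, map_pow, pow_succ]
    apply mul_le_mul' le_rfl
    exact hπh.2.2 _ (Lh.sub_mem hrLh ((Fact.out : L0 ≤ Lh) ha)) hra

/-- One step of the `ϖ`-adic expansion. -/
theorem exists_step_digits (hres : Res1 V L0 Lh) (hπh : IsU V Lh πh) (hπh0 : πh ≠ 0)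
    (hϖ0 : ϖ ≠ 0) (hϖL0 : ϖ ∈ L0) (he : V.valuation ϖ = V.valuation πh ^ e) (X : O V Lh) :
    ∃ (c : ℕ → O V L0) (X' : O V Lh), ι V Lh X =
      ∑ i ∈ Finset.range e, ι V L0 (c i) * πh ^ i + ϖ * ι V Lh X' := by
  obtain ⟨c, hc⟩ := exists_digits L0 Lh hres hπh hπh0 e (ι V Lh X) (X : Lh).2
    (val_O_le_one V Lh X)
  have hvϖ : V.valuation ϖ ≠ 0 := (Valuation.ne_zero_iff _).mpr hϖ0
  set r : Ω := (ι V Lh X - ∑ i ∈ Finset.range e, ι V L0 (c i) * πh ^ i) * ϖ⁻¹ with hr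
  have hsumLh : ∑ i ∈ Finset.range e, ι V L0 (c i) * πh ^ i ∈ Lh := by
    apply Lh.sum_mem
    intro i _
    exact Lh.mul_mem ((Fact.out : L0 ≤ Lh) (c i : L0).2) (Lh.pow_mem hπh.1 i)
  have hrLh : r ∈ Lh := Lh.mul_mem (Lh.sub_mem (X : Lh).2 hsumLh)
    (Lh.inv_mem ((Fact.out : L0 ≤ Lh) hϖL0))
  have hr1 : V.valuation r ≤ 1 := by
    rw [hr, map_mul, map_inv₀, he]
    calc _ ≤ V.valuation πh ^ e * (V.valuation πh ^ e)⁻¹ := mul_le_mul' hc le_rfl
      _ = 1 := mul_inv_cancel₀ (by rw [← he]; exact hvϖ)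
  refine ⟨c, ⟨⟨r, hrLh⟩, (V.valuation_le_one_iff _).mp hr1⟩, ?_⟩
  show ι V Lh X = ∑ i ∈ Finset.range e, ι V L0 (c i) * πh ^ i + ϖ * r
  rw [hr]
  field_simp
  ring

end Digits

section Finite

variable (L0 Lh : Subfield Ω) [Fact (L0 ≤ Lh)] [IsDiscreteValuationRing (O V L0)]
  [IsAdicComplete (maximalIdeal (O V L0)) (O V L0)] [IsDiscreteValuationRing (O V Lh)]

/-- Every integral element of `Lh` is a combination of the first powers of a uniformizer. -/
theorem exists_expansion (hres : Res1 V L0 Lh) {ϖ πh : Ω} {e : ℕ} (hπh : IsU V Lh πh)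
    (hπh0 : πh ≠ 0) (hϖ : IsU V L0 ϖ) (hϖ0 : ϖ ≠ 0)
    (he : V.valuation ϖ = V.valuation πh ^ e) (X : O V Lh) :
    ∃ C : ℕ → O V L0, ι V Lh X = ∑ i ∈ Finset.range e, ι V L0 (C i) * πh ^ i := by
  classical
  have hL : L0 ≤ Lh := Fact.out
  choose c nxt hspec using exists_step_digits L0 Lh hres hπh hπh0 hϖ0 hϖ.1 he
  set seq : ℕ → O V Lh := fun n => Nat.rec X (fun _ Y => nxt Y) n with hseq
  have hseq0 : seq 0 = X := rfl
  have hseqS : ∀ n, seq (n + 1) = nxt (seq n) := fun _ => rfl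
  -- the partial sums
  set S : ℕ → ℕ → O V L0 := fun i n => ∑ j ∈ Finset.range n, c (seq j) i * hϖ.elt ^ j with hS
  have hιS : ∀ i n, ι V L0 (S i n) = ∑ j ∈ Finset.range n, ι V L0 (c (seq j) i) * ϖ ^ j := by
    intro i n
    rw [hS, map_sum]
    apply Finset.sum_congr rfl
    intro j _
    rw [map_mul, map_pow]
    rfl
  have hmain : ∀ n, ι V Lh X =
      ∑ i ∈ Finset.range e, ι V L0 (S i n) * πh ^ i + ϖ ^ n * ι V Lh (seq n) := by
    intro n
    induction n with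
    | zero =>
      simp only [hιS, Finset.range_zero, Finset.sum_empty, zero_mul, Finset.sum_const_zero,
        pow_zero, one_mul, zero_add]
      rfl
    | succ n ih =>
      rw [ih, hspec (seq n), hseqS]
      simp only [hιS, Finset.sum_range_succ, add_mul, Finset.sum_add_distrib, mul_add,
        Finset.mul_sum]
      rw [pow_succ]
      have : ∑ i ∈ Finset.range e, ϖ ^ n * (ι V L0 (c (seq n) i) * πh ^ i) =
          ∑ i ∈ Finset.range e, ι V L0 (c (seq n) i) * ϖ ^ n * πh ^ i := by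
        apply Finset.sum_congr rfl
        intro i _
        ring
      rw [this]
      ring
  -- limits of the partial sums
  have hcauchy : ∀ i, ∀ {m n : ℕ}, m ≤ n →
      S i m ≡ S i n [SMOD (maximalIdeal (O V L0) ^ m • ⊤ : Submodule (O V L0) (O V L0))] := by
    intro i m n hmn
    rw [smodEq_pow_iff, hS]
    simp only
    rw [← Finset.sum_range_add_sum_Ico _ hmn, sub_add_cancel_left]
    apply Ideal.neg_mem_iff _ |>.mpr
    apply Ideal.sum_mem
    intro j hj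
    have hmj : m ≤ j := (Finset.mem_Ico.mp hj).1
    apply Ideal.mul_mem_left
    apply Ideal.pow_le_pow_right hmj
    apply Ideal.pow_mem_pow
    rw [hϖ.span_eq hϖ0]
    exact Ideal.mem_span_singleton_self _
  have hlim : ∀ i, ∃ Ci : O V L0, ∀ n,
      S i n ≡ Ci [SMOD (maximalIdeal (O V L0) ^ n • ⊤ : Submodule (O V L0) (O V L0))] :=
    fun i => IsPrecomplete.prec' (I := maximalIdeal (O V L0)) (S i) (hcauchy i)
  choose C hC using hlim
  have hC' : ∀ i n, V.valuation (ι V L0 (S i n) - ι V L0 (C i)) ≤ V.valuation ϖ ^ n := by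
    intro i n
    have h1 := hC i n
    rw [smodEq_pow_iff, mem_maximalIdeal_pow_O_iff L0 hϖ hϖ0] at h1
    exact h1
  refine ⟨C, ?_⟩
  -- the difference is arbitrarily small
  by_contra hne
  have hd0 : ι V Lh X - ∑ i ∈ Finset.range e, ι V L0 (C i) * πh ^ i ≠ 0 := sub_ne_zero.mpr hne
  have hdLh : ι V Lh X - ∑ i ∈ Finset.range e, ι V L0 (C i) * πh ^ i ∈ Lh := by
    apply Lh.sub_mem (X : Lh).2
    apply Lh.sum_mem
    intro i _
    exact Lh.mul_mem (hL (C i : L0).2) (Lh.pow_mem hπh.1 i)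
  obtain ⟨n, hn⟩ := exists_pow_lt Lh (hL hϖ.1) hϖ.2.1 hdLh hd0
  have hbound : V.valuation (ι V Lh X - ∑ i ∈ Finset.range e, ι V L0 (C i) * πh ^ i) ≤
      V.valuation ϖ ^ n := by
    rw [hmain n]
    have h2 : ∑ i ∈ Finset.range e, ι V L0 (S i n) * πh ^ i + ϖ ^ n * ι V Lh (seq n) -
        ∑ i ∈ Finset.range e, ι V L0 (C i) * πh ^ i =
        ∑ i ∈ Finset.range e, (ι V L0 (S i n) - ι V L0 (C i)) * πh ^ i +
          ϖ ^ n * ι V Lh (seq n) := by
      simp only [sub_mul, Finset.sum_sub_distrib]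
      ring
    rw [h2]
    refine (Valuation.map_add _ _ _).trans (max_le ?_ ?_)
    · apply Valuation.map_sum_le
      intro i _
      rw [map_mul, map_pow]
      calc V.valuation (ι V L0 (S i n) - ι V L0 (C i)) * V.valuation πh ^ i
          ≤ V.valuation ϖ ^ n * 1 := mul_le_mul' (hC' i n) (pow_le_one' hπh.2.1.le i)
        _ = V.valuation ϖ ^ n := mul_one _
    · rw [map_mul, map_pow]
      calc V.valuation ϖ ^ n * V.valuation (ι V Lh (seq n)) ≤ V.valuation ϖ ^ n * 1 :=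
            mul_le_mul' le_rfl (val_O_le_one V Lh (seq n))
        _ = V.valuation ϖ ^ n := mul_one _
  exact absurd hbound (not_le.mpr hn)

/-- `Lh` is finite over the complete subfield `L0` when the residue fields coincide. -/
theorem finite_of_res1 (hres : Res1 V L0 Lh) : FiniteDimensional L0 Lh := by
  classical
  have hL : L0 ≤ Lh := Fact.out
  obtain ⟨ϖ, hϖ0, hϖ⟩ := exists_isU (V := V) L0
  obtain ⟨πh, hπh0, hπh⟩ := exists_isU (V := V) Lh
  obtain ⟨e, he⟩ := exists_pow_eq_of_isU Lh hπh hπh0 (hL hϖ.1) hϖ0 hϖ.2.1.le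
  have hspan : ∀ x : Lh, x ∈ Submodule.span L0
      (Set.range (fun i : Fin e => (⟨πh ^ (i : ℕ), Lh.pow_mem hπh.1 i⟩ : Lh))) := by
    intro x
    obtain ⟨N, hN⟩ := exists_pow_mul_le_one Lh (hL hϖ.1) hϖ.2.1 x.2
    have hyLh : ϖ ^ N * (x : Ω) ∈ Lh := Lh.mul_mem (Lh.pow_mem (hL hϖ.1) N) x.2
    have hy1 : V.valuation (ϖ ^ N * (x : Ω)) ≤ 1 := by rw [map_mul, map_pow]; exact hN
    obtain ⟨C, hC⟩ := exists_expansion L0 Lh hres hπh hπh0 hϖ hϖ0 he
      ⟨⟨_, hyLh⟩, (V.valuation_le_one_iff _).mp hy1⟩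
    have hx : x = ∑ i : Fin e, (⟨ι V L0 (C i) * (ϖ ^ N)⁻¹,
        L0.mul_mem (C i : L0).2 (L0.inv_mem (L0.pow_mem hϖ.1 N))⟩ : L0) •
        (⟨πh ^ (i : ℕ), Lh.pow_mem hπh.1 i⟩ : Lh) := by
      apply Subtype.ext
      rw [AddSubmonoidClass.coe_finsetSum]
      have h1 : ϖ ^ N * (x : Ω) = ∑ i ∈ Finset.range e, ι V L0 (C i) * πh ^ i := hC
      have h2 : (x : Ω) = (ϖ ^ N)⁻¹ * ∑ i ∈ Finset.range e, ι V L0 (C i) * πh ^ i := by
        rw [← h1, ← mul_assoc, inv_mul_cancel₀ (pow_ne_zero _ hϖ0), one_mul]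
      rw [h2, Finset.mul_sum, ← Fin.sum_univ_eq_sum_range (fun i => (ϖ ^ N)⁻¹ * (ι V L0 (C i) * πh ^ i))]
      apply Finset.sum_congr rfl
      intro i _
      rw [Algebra.smul_def]
      show (ϖ ^ N)⁻¹ * (ι V L0 (C i) * πh ^ (i : ℕ)) = ι V L0 (C i) * (ϖ ^ N)⁻¹ * πh ^ (i : ℕ)
      ring
    rw [hx]
    apply Submodule.sum_mem
    intro i _
    apply Submodule.smul_mem
    exact Submodule.subset_span ⟨i, rfl⟩
  refine ⟨Submodule.fg_def.mpr ⟨Set.range (fun i : Fin e =>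
    (⟨πh ^ (i : ℕ), Lh.pow_mem hπh.1 i⟩ : Lh)), Set.finite_range _, ?_⟩⟩
  exact eq_top_iff.mpr (fun x _ => hspan x)

end Finite

end Groth.Agent.H6.EppGen
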