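import Mathlib
import Groth.Agent.Lib.Helper6.EG18
import Groth.Agent.Lib.Helper6.EG13

/-!
# Epp, general case: `p^n`-th roots in a complete discretely valued field of characteristic `p`
with perfect residue field
-/

set_option autoImplicit false
universe u

namespace Groth.Agent.H6.EppGen

open IsLocalRing Groth.Agent.H8 Groth.Agent.H6.EppTower Polynomial

variable {Ω : Type u} [Field Ω] {V : ValuationSubring Ω}

section Roots

variable {p : ℕ} [hp : Fact p.Prime] [CharP Ω p] (K0 : Subfield Ω)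
  [IsDiscreteValuationRing (O V K0)] [IsAdicComplete (maximalIdeal (O V K0)) (O V K0)]
  [IsAlgClosed (ResidueField (O V K0))]

omit [CharP Ω p] [IsAdicComplete (maximalIdeal (O V K0)) (O V K0)] in
/-- One digit of the expansion in `p^n`-th powers. -/
theorem exists_pow_digit {ϖ : Ω} (hϖ : IsU V K0 ϖ) (hϖ0 : ϖ ≠ 0) (n : ℕ) (X : O V K0) :
    ∃ (b X' : O V K0), ι V K0 X = ι V K0 b ^ p ^ n + ϖ * ι V K0 X' := by
  obtain ⟨z, hz⟩ := IsAlgClosed.exists_pow_nat_eq (residue (O V K0) X) (pow_pos hp.out.pos n)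
  obtain ⟨b, rfl⟩ := residue_surjective z
  have h1 : X - b ^ p ^ n ∈ maximalIdeal (O V K0) := by
    rw [← residue_eq_zero_iff, map_sub, map_pow, hz, sub_self]
  rw [hϖ.span_eq hϖ0, Ideal.mem_span_singleton'] at h1
  obtain ⟨X', hX'⟩ := h1
  refine ⟨b, X', ?_⟩
  have h2 : X = b ^ p ^ n + hϖ.elt * X' := by rw [mul_comm, hX']; ring
  rw [h2, map_add, map_mul, map_pow]
  rfl

variable [IsAlgClosed Ω]

/-- `K0^{1/p^n} ⊆ K0(ϖ^{1/p^n})`, integral case. -/
theorem pth_root_mem_of_le_one {ϖ ϖq : Ω} {n : ℕ} (hϖ : IsU V K0 ϖ) (hϖ0 : ϖ ≠ 0)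
    (hq : ϖq ^ p ^ n = ϖ) (X : O V K0) (y : Ω) (hy : y ^ p ^ n = ι V K0 X) :
    y ∈ K0 ⊔ Subfield.closure {ϖq} := by
  classical
  set E : Subfield Ω := K0 ⊔ Subfield.closure {ϖq} with hE
  have hint : IsIntegral K0 ϖq := by
    apply IsIntegral.of_pow (pow_pos hp.out.pos n)
    rw [hq]
    exact isIntegral_algebraMap (x := (⟨ϖ, hϖ.1⟩ : K0))
  haveI : FiniteDimensional K0 E := finite_adjoin_elt K0 hint
  haveI := isDVR_O_of_finite V K0 E
  haveI := isAdicComplete_O_of_finite V K0 E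
  have hϖqE : ϖq ∈ E :=
    (le_sup_right : Subfield.closure {ϖq} ≤ E) (Subfield.subset_closure rfl)
  have hvq : V.valuation ϖq < 1 := by
    by_contra h
    rw [not_lt] at h
    have h1 : 1 ≤ V.valuation ϖ := by
      rw [← hq, map_pow]
      exact one_le_pow₀ h
    exact absurd hϖ.2.1 (not_lt.mpr h1)
  let ϖqE : O V E := ⟨⟨ϖq, hϖqE⟩, (V.valuation_le_one_iff _).mp hvq.le⟩
  have hϖqEm : ϖqE ∈ maximalIdeal (O V E) := (mem_maximalIdeal_O V E ϖqE).mpr hvq
  obtain ⟨πE, hπE0, hUE⟩ := exists_isU (V := V) E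
  have hϖπE : V.valuation ϖ ≤ V.valuation πE :=
    hUE.2.2 ϖ ((le_sup_left : K0 ≤ E) hϖ.1) hϖ.2.1
  -- digits
  choose b nxt hspec using exists_pow_digit (p := p) K0 hϖ hϖ0 n
  set seq : ℕ → O V K0 := fun N => Nat.rec X (fun _ Y => nxt Y) N with hseq
  have hseqS : ∀ N, seq (N + 1) = nxt (seq N) := fun _ => rfl
  have hmain : ∀ N, ι V K0 X =
      ∑ j ∈ Finset.range N, ι V K0 (b (seq j)) ^ p ^ n * ϖ ^ j + ϖ ^ N * ι V K0 (seq N) := by
    intro N
    induction N with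
    | zero => simp only [Finset.range_zero, Finset.sum_empty, pow_zero, one_mul, zero_add]; rfl
    | succ N ih =>
      rw [ih, hspec (seq N), hseqS, Finset.sum_range_succ]
      ring
  -- the partial sums of the root
  set T : ℕ → O V E := fun N =>
    ∑ j ∈ Finset.range N, algebraMap (O V K0) (O V E) (b (seq j)) * ϖqE ^ j with hT
  have hιT : ∀ N, ι V E (T N) = ∑ j ∈ Finset.range N, ι V K0 (b (seq j)) * ϖq ^ j := by
    intro N
    rw [hT, map_sum]
    apply Finset.sum_congr rfl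
    intro j _
    rw [map_mul, map_pow]
    rfl
  have hTpow : ∀ N, ι V E (T N) ^ p ^ n =
      ∑ j ∈ Finset.range N, ι V K0 (b (seq j)) ^ p ^ n * ϖ ^ j := by
    intro N
    rw [hιT, sum_pow_char_pow]
    apply Finset.sum_congr rfl
    intro j _
    rw [mul_pow, ← pow_mul, mul_comm j, pow_mul, hq]
  have hcauchy : ∀ {m N : ℕ}, m ≤ N →
      T m ≡ T N [SMOD (maximalIdeal (O V E) ^ m • ⊤ : Submodule (O V E) (O V E))] := by
    intro m N hmN
    rw [smodEq_pow_iff, hT]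
    simp only
    rw [← Finset.sum_range_add_sum_Ico _ hmN, sub_add_cancel_left]
    apply Ideal.neg_mem_iff _ |>.mpr
    apply Ideal.sum_mem
    intro j hj
    have hmj : m ≤ j := (Finset.mem_Ico.mp hj).1
    apply Ideal.mul_mem_left
    apply Ideal.pow_le_pow_right hmj
    exact Ideal.pow_mem_pow hϖqEm j
  obtain ⟨Tl, hTl⟩ := IsPrecomplete.prec' (I := maximalIdeal (O V E)) T hcauchy
  have hTl' : ∀ N, V.valuation (ι V E (T N) - ι V E Tl) ≤ V.valuation πE ^ N := by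
    intro N
    have h1 := hTl N
    rw [smodEq_pow_iff, mem_maximalIdeal_pow_O_iff E hUE hπE0] at h1
    exact h1
  -- the limit is the root
  have hroot : ι V E Tl ^ p ^ n = ι V K0 X := by
    by_contra hne
    have hd0 : ι V E Tl ^ p ^ n - ι V K0 X ≠ 0 := sub_ne_zero.mpr hne
    have hdE : ι V E Tl ^ p ^ n - ι V K0 X ∈ E :=
      E.sub_mem (E.pow_mem (Tl : E).2 _) ((le_sup_left : K0 ≤ E) (X : K0).2)
    obtain ⟨N, hN⟩ := exists_pow_lt E hUE.1 hUE.2.1 hdE hd0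
    have hbound : V.valuation (ι V E Tl ^ p ^ n - ι V K0 X) ≤ V.valuation πE ^ N := by
      have h2 : ι V E Tl ^ p ^ n - ι V K0 X =
          (ι V E Tl - ι V E (T N)) ^ p ^ n - ϖ ^ N * ι V K0 (seq N) := by
        rw [sub_pow_char_pow, hTpow N]
        nth_rw 1 [hmain N]
        ring
      rw [h2]
      refine (Valuation.map_sub _ _ _).trans (max_le ?_ ?_)
      · rw [map_pow, Valuation.map_sub_swap]
        have h3 : V.valuation (ι V E (T N) - ι V E Tl) ≤ 1 :=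
          (hTl' N).trans (pow_le_one' hUE.2.1.le N)
        exact (pow_le_of_le_one zero_le h3 (pow_ne_zero _ hp.out.ne_zero)).trans (hTl' N)
      · rw [map_mul, map_pow]
        calc V.valuation ϖ ^ N * V.valuation (ι V K0 (seq N)) ≤ V.valuation πE ^ N * 1 :=
              mul_le_mul' (pow_le_pow_left₀ zero_le hϖπE N) (val_O_le_one V K0 (seq N))
          _ = V.valuation πE ^ N := mul_one _
    exact absurd hbound (not_le.mpr hN)
  have hyT : y = ι V E Tl := pow_inj_char p n (hy.trans hroot.symm)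
  rw [hyT]
  exact (Tl : E).2

/-- `K0^{1/p^n} ⊆ K0(ϖ^{1/p^n})`. -/
theorem pth_root_mem {ϖ ϖq : Ω} {n : ℕ} (hϖ : IsU V K0 ϖ) (hϖ0 : ϖ ≠ 0)
    (hq : ϖq ^ p ^ n = ϖ) (c : Ω) (hc : c ∈ K0) (y : Ω) (hy : y ^ p ^ n = c) :
    y ∈ K0 ⊔ Subfield.closure {ϖq} := by
  obtain ⟨N, hN⟩ := exists_pow_mul_le_one K0 hϖ.1 hϖ.2.1 hc
  have hc'K0 : ϖ ^ N * c ∈ K0 := K0.mul_mem (K0.pow_mem hϖ.1 N) hc
  have hc'1 : V.valuation (ϖ ^ N * c) ≤ 1 := by rw [map_mul, map_pow]; exact hN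
  have hy' : (ϖq ^ N * y) ^ p ^ n = ι V K0 ⟨⟨_, hc'K0⟩, (V.valuation_le_one_iff _).mp hc'1⟩ := by
    show (ϖq ^ N * y) ^ p ^ n = ϖ ^ N * c
    rw [mul_pow, ← pow_mul, mul_comm N, pow_mul, hq, hy]
  have h1 := pth_root_mem_of_le_one K0 hϖ hϖ0 hq _ _ hy'
  have hϖq0 : ϖq ≠ 0 := by
    intro h
    rw [h, zero_pow (pow_ne_zero _ hp.out.ne_zero)] at hq
    exact hϖ0 hq.symm
  have hϖqE : ϖq ∈ K0 ⊔ Subfield.closure {ϖq} :=
    (le_sup_right : Subfield.closure {ϖq} ≤ _) (Subfield.subset_closure rfl)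
  have h2 : y = (ϖq ^ N)⁻¹ * (ϖq ^ N * y) := by
    rw [← mul_assoc, inv_mul_cancel₀ (pow_ne_zero _ hϖq0), one_mul]
  rw [h2]
  exact Subfield.mul_mem _ (Subfield.inv_mem _ (Subfield.pow_mem _ hϖqE N)) h1

end Roots

end Groth.Agent.H6.EppGen
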