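import Mathlib
import Groth.Agent.Lib.Helper6.EG19

/-!
# Epp, general case: the separable part of a finite extension and purely inseparable elements
-/

set_option autoImplicit false
universe u

namespace Groth.Agent.H6.EppGen

open IsLocalRing Groth.Agent.H8 Groth.Agent.H6.EppTower Polynomial

variable {Ω : Type u} [Field Ω] {V : ValuationSubring Ω}

section SepPart

variable {p : ℕ} [hp : Fact p.Prime] [CharP Ω p] [IsAlgClosed Ω]

/-- A finite extension of `K0` is, up to `p^n`-th powers, contained in a finite Galois extension. -/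
theorem exists_sep_part (K0 F₀ : Subfield Ω) [Fact (K0 ≤ F₀)] [FiniteDimensional K0 F₀] :
    ∃ (S : Subfield Ω) (h : K0 ≤ S) (n : ℕ),
      (haveI := Fact.mk h; FiniteDimensional K0 S ∧ Normal K0 S ∧ Algebra.IsSeparable K0 S) ∧
      ∀ x ∈ F₀, x ^ p ^ n ∈ S := by
  obtain ⟨N₀, hK0N, hF₀N, hfin, hnorm⟩ := exists_normal_closure K0 F₀
  haveI : Fact (K0 ≤ N₀) := ⟨hK0N⟩
  haveI := hfin
  haveI := hnorm
  set Y : IntermediateField K0 Ω := ext K0 N₀ with hY
  let eY : N₀ ≃ₐ[K0] Y := equivExt K0 N₀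
  haveI : FiniteDimensional K0 Y := eY.toLinearEquiv.finiteDimensional
  haveI : Normal K0 Y := Normal.of_algEquiv eY
  haveI : Algebra.IsAlgebraic K0 Y := Algebra.IsAlgebraic.of_finite K0 Y
  set S₁ : IntermediateField K0 Y := separableClosure K0 Y with hS₁
  haveI : IsGalois K0 S₁ := separableClosure.isGalois K0 Y
  haveI : Normal K0 S₁ := IsGalois.to_normal
  haveI : FiniteDimensional K0 S₁ := IntermediateField.finiteDimensional_left S₁
  haveI : FiniteDimensional S₁ Y := IntermediateField.finiteDimensional_right S₁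
  haveI : IsPurelyInseparable S₁ Y := separableClosure.isPurelyInseparable K0 Y
  haveI : CharP S₁ p := RingHom.charP ((algebraMap Y Ω).comp (algebraMap S₁ Y))
    ((algebraMap Y Ω).comp (algebraMap S₁ Y)).injective p
  haveI : ExpChar S₁ p := ExpChar.prime hp.out
  set n := IsPurelyInseparable.exponent S₁ Y with hn
  set Slift : IntermediateField K0 Ω := IntermediateField.lift S₁ with hSlift
  set S : Subfield Ω := Slift.toSubfield with hS
  have hK0S : K0 ≤ S := fun x hx => Slift.algebraMap_mem ⟨x, hx⟩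
  haveI : Fact (K0 ≤ S) := ⟨hK0S⟩
  let e1 : S₁ ≃ₐ[K0] Slift := IntermediateField.liftAlgEquiv S₁
  let e2 : S ≃ₐ[K0] Slift := equivOfEq K0 S Slift rfl
  let e : S₁ ≃ₐ[K0] S := e1.trans e2.symm
  refine ⟨S, hK0S, n, ⟨e.toLinearEquiv.finiteDimensional, Normal.of_algEquiv e,
    Algebra.IsSeparable.of_algHom K0 S₁ e.symm.toAlgHom⟩, ?_⟩
  intro x hx
  have hxY : x ∈ Y := hF₀N hx
  obtain ⟨s, hs⟩ := IsPurelyInseparable.exponent_def' S₁ p (⟨x, hxY⟩ : Y)
  have h1 : ((s : Y) : Ω) = x ^ p ^ n := by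
    have := congrArg (fun y : Y => (y : Ω)) hs
    simpa using this
  rw [← h1]
  show ((s : Y) : Ω) ∈ IntermediateField.lift S₁
  exact (IntermediateField.mem_lift (s : Y)).mpr s.2

omit [IsAlgClosed Ω] in
/-- A purely inseparable simple extension is normal. -/
theorem normal_adjoin_root (K : Subfield Ω) {ϖ ϖq : Ω} {n : ℕ} (hϖK : ϖ ∈ K)
    (hq : ϖq ^ p ^ n = ϖ) :
    haveI : Fact (K ≤ K ⊔ Subfield.closure {ϖq}) := ⟨le_sup_left⟩
    Normal K (K ⊔ Subfield.closure {ϖq} : Subfield Ω) := by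
  haveI : Fact (K ≤ K ⊔ Subfield.closure {ϖq}) := ⟨le_sup_left⟩
  haveI : CharP K p := RingHom.charP K.subtype K.subtype.injective p
  haveI : ExpChar K p := ExpChar.prime hp.out
  haveI : IsPurelyInseparable K (IntermediateField.adjoin K ({ϖq} : Set Ω)) := by
    rw [IntermediateField.isPurelyInseparable_adjoin_simple_iff_pow_mem K Ω p]
    exact ⟨n, ⟨⟨ϖ, hϖK⟩, hq.symm⟩⟩
  let e := equivOfEq K (K ⊔ Subfield.closure {ϖq}) (IntermediateField.adjoin K ({ϖq} : Set Ω))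
    (adjoin_singleton_toSubfield K ϖq)
  exact Normal.of_algEquiv e.symm

/-- Elements whose `p^n`-th power lies in a separable extension `S` of `K0` lie in `S ⊔ E` as soon as
`E` contains the `p^n`-th roots of the elements of `K0`. -/
theorem mem_sup_of_pow_mem (K0 S E : Subfield Ω) [Fact (K0 ≤ S)] [Algebra.IsSeparable K0 S]
    (n : ℕ) (hroot : ∀ c ∈ K0, ∀ y : Ω, y ^ p ^ n = c → y ∈ E) (x : Ω) (hx : x ^ p ^ n ∈ S) :
    x ∈ S ⊔ E := by
  haveI : CharP K0 p := RingHom.charP K0.subtype K0.subtype.injective p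
  haveI : ExpChar K0 p := ExpChar.prime hp.out
  have hspan : Submodule.span K0 (Set.range (fun s : S => s ^ p ^ n)) = ⊤ := by
    apply Field.span_map_pow_expChar_pow_eq_top_of_isSeparable p n (v := (id : S → S))
    rw [Set.range_id, Submodule.span_univ]
  have hmem : (⟨x ^ p ^ n, hx⟩ : S) ∈ Submodule.span K0 (Set.range (fun s : S => s ^ p ^ n)) := by
    rw [hspan]; trivial
  have key : ∀ c : S, c ∈ Submodule.span K0 (Set.range (fun s : S => s ^ p ^ n)) →
      ∃ z ∈ S ⊔ E, z ^ p ^ n = (c : Ω) := by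
    intro c hc
    induction hc using Submodule.span_induction with
    | mem c hc =>
      obtain ⟨s, rfl⟩ := hc
      exact ⟨(s : Ω), (le_sup_left : S ≤ S ⊔ E) s.2, rfl⟩
    | zero => exact ⟨0, Subfield.zero_mem _, by rw [zero_pow (pow_ne_zero _ hp.out.ne_zero)]; rfl⟩
    | add c d _ _ hc hd =>
      obtain ⟨z₁, hz₁, h1⟩ := hc
      obtain ⟨z₂, hz₂, h2⟩ := hd
      exact ⟨z₁ + z₂, Subfield.add_mem _ hz₁ hz₂, by rw [add_pow_char_pow, h1, h2]; rfl⟩
    | smul a c _ hc =>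
      obtain ⟨z, hz, h1⟩ := hc
      obtain ⟨y, hy⟩ := IsAlgClosed.exists_pow_nat_eq (a : Ω) (pow_pos hp.out.pos n)
      have hyE : y ∈ E := hroot _ a.2 y hy
      refine ⟨y * z, Subfield.mul_mem _ ((le_sup_right : E ≤ S ⊔ E) hyE) hz, ?_⟩
      rw [mul_pow, hy, h1, Algebra.smul_def]
      rfl
  obtain ⟨z, hz, hzx⟩ := key _ hmem
  have : x = z := pow_inj_char p n hzx.symm
  rw [this]
  exact hz

/-- The data needed for the internal main theorem, characteristic `p`. -/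
theorem exists_sep_root (K0 F₀ : Subfield Ω) [Fact (K0 ≤ F₀)] [FiniteDimensional K0 F₀]
    [IsDiscreteValuationRing (O V K0)] [IsAdicComplete (maximalIdeal (O V K0)) (O V K0)]
    [IsAlgClosed (ResidueField (O V K0))] {ϖ : Ω} (hϖ : IsU V K0 ϖ) (hϖ0 : ϖ ≠ 0) :
    ∃ (S : Subfield Ω) (h : K0 ≤ S) (n : ℕ) (ϖq : Ω),
      (haveI := Fact.mk h; FiniteDimensional K0 S ∧ Normal K0 S ∧ Algebra.IsSeparable K0 S) ∧
      ϖq ^ p ^ n = ϖ ∧ F₀ ≤ S ⊔ Subfield.closure {ϖq} := by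
  obtain ⟨S, hK0S, n, ⟨hf, hn, hs⟩, hpow⟩ := exists_sep_part (p := p) K0 F₀
  haveI : Fact (K0 ≤ S) := ⟨hK0S⟩
  haveI := hs
  obtain ⟨ϖq, hq⟩ := IsAlgClosed.exists_pow_nat_eq ϖ (pow_pos hp.out.pos n)
  refine ⟨S, hK0S, n, ϖq, ⟨hf, hn, hs⟩, hq, ?_⟩
  intro x hx
  have h1 := mem_sup_of_pow_mem (p := p) K0 S (K0 ⊔ Subfield.closure {ϖq}) n
    (fun c hc y hy => pth_root_mem K0 hϖ hϖ0 hq c hc y hy) x (hpow x hx)
  have h2 : S ⊔ (K0 ⊔ Subfield.closure {ϖq}) = S ⊔ Subfield.closure {ϖq} := by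
    rw [← sup_assoc, sup_eq_left.mpr hK0S]
  rwa [h2] at h1

end SepPart

end Groth.Agent.H6.EppGen
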