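import Mathlib
import Groth.Agent.Lib.Helper6.EG20

/-!
# Epp, general case: the internal theorem
-/

set_option autoImplicit false
universe u

namespace Groth.Agent.H6.EppGen

open IsLocalRing Groth.Agent.H8 Groth.Agent.H6.EppTower Polynomial

variable {Ω : Type u} [Field Ω] {V : ValuationSubring Ω} [IsAlgClosed Ω]

set_option maxHeartbeats 4000000 in
/-- The internal form of Epp's theorem. -/
theorem internal_epp {p : ℕ} [hp : Fact p.Prime] (K Kc K00 K0 L0 Lh : Subfield Ω) {π ϖ : Ω}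
    (hKKc : K ≤ Kc) (hKcLh : Kc ≤ Lh) (hK00Kc : K00 ≤ Kc) (hK00K0 : K00 ≤ K0)
    [Fact (K0 ≤ L0)] [Fact (L0 ≤ Lh)] [FiniteDimensional L0 Lh]
    [IsDiscreteValuationRing (O V Kc)] [IsAdicComplete (maximalIdeal (O V Kc)) (O V Kc)]
    [IsDiscreteValuationRing (O V Lh)]
    (hB : Base V p K0 L0) (hchar : CharZero Ω ∨ CharP Ω p)
    (hπK : π ∈ K) (hπ0 : π ≠ 0) (hπ : IsU V Kc π) (hdK : Dense V π K Kc)
    (hϖ00 : ϖ ∈ K00) (hϖ0 : ϖ ≠ 0) (hϖ : IsU V K0 ϖ) (hϖK : ϖ ∈ K)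
    (hdU : Dense V ϖ (K00 ⊔ Subfield.closure (UnrSet V K00 K0)) K0) :
    ∃ (F : Subfield Ω) (hKF : K ≤ F),
      (haveI := Fact.mk hKF; FiniteDimensional K F ∧ Normal K F) ∧ WU V F (Lh ⊔ F) := by
  haveI := hB.dvrK
  haveI := hB.complK
  haveI := hB.algClosed
  have hK0L0 : K0 ≤ L0 := Fact.out
  have hL0Lh : L0 ≤ Lh := Fact.out
  have hK0Lh : K0 ≤ Lh := hK0L0.trans hL0Lh
  obtain ⟨F₀, hK0F₀, hfin₀, hst⟩ := exists_stable K0 L0 Lh hB hchar
  haveI : Fact (K0 ≤ F₀) := ⟨hK0F₀⟩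
  haveI := hfin₀
  rcases hchar with hc0 | hcp
  · -- characteristic zero
    haveI := hc0
    obtain ⟨S, hK0S, hF₀S, hSf, hSn⟩ := exists_normal_closure K0 F₀
    haveI : Fact (K0 ≤ S) := ⟨hK0S⟩
    haveI := hSf
    haveI : CharZero K0 := RingHom.charZero K0.subtype
    haveI : Algebra.IsAlgebraic K0 S := Algebra.IsAlgebraic.of_finite K0 S
    have hSs : Algebra.IsSeparable K0 S := inferInstance
    haveI : Fact (K ≤ K ⊔ Subfield.closure {ϖ}) := ⟨le_sup_left⟩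
    have hqN : Normal K (K ⊔ Subfield.closure {ϖ} : Subfield Ω) :=
      normal_of_le K _ (sup_le le_rfl (Subfield.closure_le.mpr (Set.singleton_subset_iff.mpr hϖK)))
    exact internal_main K Kc K00 K0 Lh S (q := 1) (ϖq := ϖ) hKKc hKcLh hK00Kc hK00K0 hK0Lh hK0S
      hπK hπ0 hπ hdK hϖ00 hϖ0 hϖ hdU ⟨hSf, hSn, hSs⟩ one_ne_zero (pow_one ϖ) hϖK hqN
      (fun F' h hSF' _ hfin' => hst F' h (hF₀S.trans hSF') hfin')
  · -- characteristic `p`
    haveI := hcp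
    obtain ⟨S, hK0S, n, ϖq, hSfin, hq, hF₀le⟩ := exists_sep_root (p := p) K0 F₀ hϖ hϖ0
    have hqN := normal_adjoin_root (p := p) K hϖK hq
    exact internal_main K Kc K00 K0 Lh S (q := p ^ n) (ϖq := ϖq) hKKc hKcLh hK00Kc hK00K0 hK0Lh
      hK0S hπK hπ0 hπ hdK hϖ00 hϖ0 hϖ hdU hSfin (pow_ne_zero _ hp.out.ne_zero) hq hϖK hqN
      (fun F' h hSF' hϖqF' hfin' => hst F' h
        (hF₀le.trans (sup_le hSF' (Subfield.closure_le.mpr (Set.singleton_subset_iff.mpr hϖqF'))))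
        hfin')

end Groth.Agent.H6.EppGen
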