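import Mathlib
import Groth.Agent.Lib.Helper6.EG21

/-!
# Epp, general case: subfields attached to dominated discrete valuation rings
-/

set_option autoImplicit false
universe u

namespace Groth.Agent.H6.EppGen

open IsLocalRing Groth.Agent.H8 Groth.Agent.H6.EppTower Polynomial

variable {Ω : Type u} [Field Ω] (V : ValuationSubring Ω)

section Wrap

variable (W : Type u) [CommRing W] [IsDomain W] [IsDiscreteValuationRing W] (g : W →+* Ω)
  (hg : Function.Injective g)

/-- The algebra structure on `Ω` over the fraction field of `W`. -/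
@[reducible] noncomputable def algFrac : Algebra (FractionRing W) Ω :=
  (IsFractionRing.lift (K := FractionRing W) hg).toAlgebra

/-- The subfield generated by the image of `W`. -/
noncomputable def fieldOf : Subfield Ω :=
  letI := algFrac W g hg
  (algebraMap (FractionRing W) Ω).fieldRange

theorem algebraMap_algFrac (w : W) :
    letI := algFrac W g hg
    algebraMap (FractionRing W) Ω (algebraMap W (FractionRing W) w) = g w :=
  IsFractionRing.lift_algebraMap hg w

variable {W g}

theorem dominates_wrap (hdom : ∀ w, g w ∈ V)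
    (hdom' : ∀ w ∈ maximalIdeal W, V.valuation (g w) < 1) :
    letI := algFrac W g hg
    EtRam.Dominates W ((algebraMap (FractionRing W) Ω).comp
      (algebraMap W (FractionRing W))) V := by
  letI := algFrac W g hg
  refine ⟨fun w => ?_, fun w hw => ?_⟩
  · rw [RingHom.comp_apply, algebraMap_algFrac]
    exact hdom w
  · rw [RingHom.comp_apply, algebraMap_algFrac]
    exact hdom' w hw

/-- `W ≃ O V (fieldOf W)`. -/
noncomputable def equivOf (hdom : ∀ w, g w ∈ V)
    (hdom' : ∀ w ∈ maximalIdeal W, V.valuation (g w) < 1) : W ≃+* O V (fieldOf W g hg) :=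
  letI := algFrac W g hg
  equivO (dominates_wrap V hg hdom hdom')

theorem coe_equivOf (hdom : ∀ w, g w ∈ V)
    (hdom' : ∀ w ∈ maximalIdeal W, V.valuation (g w) < 1) (w : W) :
    ι V (fieldOf W g hg) (equivOf V hg hdom hdom' w) = g w :=
  algebraMap_algFrac W g hg w

theorem mem_fieldOf (w : W) : g w ∈ fieldOf W g hg := by
  letI := algFrac W g hg
  exact ⟨algebraMap W (FractionRing W) w, algebraMap_algFrac W g hg w⟩

/-- Every integral element of `fieldOf W` comes from `W`. -/
theorem exists_of_mem_fieldOf (hdom : ∀ w, g w ∈ V)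
    (hdom' : ∀ w ∈ maximalIdeal W, V.valuation (g w) < 1) {x : Ω} (hx : x ∈ fieldOf W g hg)
    (hx1 : V.valuation x ≤ 1) : ∃ w : W, g w = x := by
  let X : O V (fieldOf W g hg) := ⟨⟨x, hx⟩, (V.valuation_le_one_iff _).mp hx1⟩
  refine ⟨(equivOf V hg hdom hdom').symm X, ?_⟩
  rw [← coe_equivOf V hg hdom hdom', RingEquiv.apply_symm_apply]
  rfl

theorem fieldOf_le {L : Subfield Ω} (h : ∀ w, g w ∈ L) : fieldOf W g hg ≤ L := by
  letI := algFrac W g hg
  rintro _ ⟨z, rfl⟩
  obtain ⟨a, s, -, rfl⟩ := IsFractionRing.div_surjective (A := W) z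
  rw [map_div₀, algebraMap_algFrac, algebraMap_algFrac]
  exact L.div_mem (h a) (h s)

theorem isDVR_fieldOf (hdom : ∀ w, g w ∈ V)
    (hdom' : ∀ w ∈ maximalIdeal W, V.valuation (g w) < 1) :
    IsDiscreteValuationRing (O V (fieldOf W g hg)) :=
  IsDiscreteValuationRing.RingEquivClass.isDiscreteValuationRing (equivOf V hg hdom hdom')

theorem isAdicComplete_fieldOf [IsAdicComplete (maximalIdeal W) W] (hdom : ∀ w, g w ∈ V)
    (hdom' : ∀ w ∈ maximalIdeal W, V.valuation (g w) < 1) :
    IsAdicComplete (maximalIdeal (O V (fieldOf W g hg))) (O V (fieldOf W g hg)) := by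
  haveI := isDVR_fieldOf V hg hdom hdom'
  rw [← map_ringEquiv_maximalIdeal (equivOf V hg hdom hdom'), IsAdicComplete.congr_ringEquiv]
  infer_instance

/-- An irreducible element of `W` gives a uniformizer. -/
theorem isU_fieldOf (hdom : ∀ w, g w ∈ V)
    (hdom' : ∀ w ∈ maximalIdeal W, V.valuation (g w) < 1) {ϖ : W} (hϖ : Irreducible ϖ) :
    IsU V (fieldOf W g hg) (g ϖ) := by
  haveI := isDVR_fieldOf V hg hdom hdom'
  set e := equivOf V hg hdom hdom' with he
  have h1 : maximalIdeal (O V (fieldOf W g hg)) = Ideal.span {e ϖ} := by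
    rw [← map_ringEquiv_maximalIdeal e, hϖ.maximalIdeal_eq, Ideal.map_span, Set.image_singleton]
  have h2 := isU_of_span_eq (e ϖ) (by
    intro h
    exact hϖ.ne_zero (e.injective (h.trans (map_zero e).symm))) h1
  have h3 : ((e ϖ : fieldOf W g hg) : Ω) = g ϖ := coe_equivOf V hg hdom hdom' ϖ
  rwa [h3] at h2

theorem val_lt_one_iff (hdom : ∀ w, g w ∈ V)
    (hdom' : ∀ w ∈ maximalIdeal W, V.valuation (g w) < 1) (w : W) :
    V.valuation (g w) < 1 ↔ w ∈ maximalIdeal W := by
  constructor
  · intro h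
    by_contra hw
    rw [mem_maximalIdeal, mem_nonunits_iff, not_not] at hw
    obtain ⟨u, rfl⟩ := hw
    have h1 : V.valuation (g (u : W)) * V.valuation (g ((u⁻¹ : Wˣ) : W)) = 1 := by
      rw [← map_mul, ← map_mul, Units.mul_inv, map_one, map_one]
    have h2 : V.valuation (g ((u⁻¹ : Wˣ) : W)) ≤ 1 := (V.valuation_le_one_iff _).mpr (hdom _)
    have h3 : V.valuation (g (u : W)) * V.valuation (g ((u⁻¹ : Wˣ) : W)) < 1 := by
      calc _ ≤ V.valuation (g (u : W)) * 1 := mul_le_mul' le_rfl h2
        _ = V.valuation (g (u : W)) := mul_one _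
        _ < 1 := h
    rw [h1] at h3
    exact lt_irrefl _ h3
  · exact hdom' w

end Wrap

end Groth.Agent.H6.EppGen
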