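import Mathlib
import Groth.Agent.Lib.Helper6.EG22

/-!
# Epp, general case: from coefficient rings to the internal data
-/

set_option autoImplicit false
universe u

namespace Groth.Agent.H6.EppGen

open IsLocalRing Groth.Agent.H8 Groth.Agent.H6.EppTower Polynomial

variable {Ω : Type u} [Field Ω] {V : ValuationSubring Ω}

theorem mem_maximalIdeal_map {R S : Type*} [CommRing R] [CommRing S] [IsLocalRing R]
    [IsLocalRing S] (f : R →+* S) [IsLocalHom f] {a : R} (ha : a ∈ maximalIdeal R) :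
    f a ∈ maximalIdeal S := by
  rw [mem_maximalIdeal, mem_nonunits_iff] at ha ⊢
  exact fun hu => ha (isUnit_of_map_unit f a hu)

section Base

variable (p : ℕ) [hp : Fact p.Prime] {W₂ W₃ : Type u}
  [CommRing W₂] [IsDomain W₂] [IsDiscreteValuationRing W₂] [IsAdicComplete (maximalIdeal W₂) W₂]
  [CommRing W₃] [IsDomain W₃] [IsDiscreteValuationRing W₃] [IsAdicComplete (maximalIdeal W₃) W₃]
  (j₂₃ : W₂ →+* W₃) [IsLocalHom j₂₃] (hj₂₃ : Function.Injective j₂₃)
  (g₃ : W₃ →+* Ω) (hg₃ : Function.Injective g₃) (hg₂ : Function.Injective (g₃.comp j₂₃))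

include hj₂₃ in
set_option maxHeartbeats 1000000 in
theorem base_of_coef (hdom₃ : ∀ w, g₃ w ∈ V)
    (hdom₃' : ∀ w ∈ maximalIdeal W₃, V.valuation (g₃ w) < 1)
    {ϖ₂ : W₂} (hϖ₂ : Irreducible ϖ₂) (hϖ₃ : Irreducible (j₂₃ ϖ₂))
    [IsAlgClosed (ResidueField W₂)] [CharP (ResidueField W₂) p]
    (hk : ∀ x : ResidueField W₃, (∀ n : ℕ, ∃ y : ResidueField W₃, y ^ p ^ n = x) →
      x ∈ Set.range (ResidueField.map j₂₃)) :
    haveI : Fact (fieldOf W₂ (g₃.comp j₂₃) hg₂ ≤ fieldOf W₃ g₃ hg₃) :=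
      ⟨fieldOf_le hg₂ (fun w => mem_fieldOf hg₃ (j₂₃ w))⟩
    Base V p (fieldOf W₂ (g₃.comp j₂₃) hg₂) (fieldOf W₃ g₃ hg₃) := by
  letI a2 := algFrac W₂ (g₃.comp j₂₃) hg₂
  letI a3 := algFrac W₃ g₃ hg₃
  letI : Algebra W₂ W₃ := j₂₃.toAlgebra
  haveI : IsLocalHom (algebraMap W₂ W₃) := ‹IsLocalHom j₂₃›
  haveI : IsScalarTower W₂ W₃ (FractionRing W₃) := inferInstance
  haveI : FaithfulSMul W₂ (FractionRing W₃) := by
    rw [faithfulSMul_iff_algebraMap_injective, IsScalarTower.algebraMap_eq W₂ W₃ (FractionRing W₃)]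
    exact (IsFractionRing.injective W₃ (FractionRing W₃)).comp hj₂₃
  letI : Algebra (FractionRing W₂) (FractionRing W₃) :=
    FractionRing.liftAlgebra W₂ (FractionRing W₃)
  haveI : IsScalarTower W₂ (FractionRing W₂) (FractionRing W₃) :=
    FractionRing.isScalarTower_liftAlgebra W₂ _
  haveI : IsScalarTower (FractionRing W₂) (FractionRing W₃) Ω := by
    apply IsScalarTower.of_algebraMap_eq'
    apply IsLocalization.ringHom_ext (nonZeroDivisors W₂)
    ext w
    simp only [RingHom.comp_apply]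
    rw [algebraMap_algFrac, ← IsScalarTower.algebraMap_apply W₂ (FractionRing W₂) (FractionRing W₃),
      IsScalarTower.algebraMap_apply W₂ W₃ (FractionRing W₃), algebraMap_algFrac]
    rfl
  have hd3 := dominates_wrap V hg₃ hdom₃ hdom₃'
  have hd2 := dominates_wrap V hg₂ (fun w => hdom₃ (j₂₃ w))
    (fun w hw => hdom₃' _ (mem_maximalIdeal_map j₂₃ hw))
  have hw : EtRam.IsWeaklyUnramified W₂ W₃ := by
    unfold EtRam.IsWeaklyUnramified
    rw [hϖ₂.maximalIdeal_eq, Ideal.map_span, Set.image_singleton, hϖ₃.maximalIdeal_eq]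
    rfl
  have hk' : ∀ x : ResidueField W₃, (∀ n : ℕ, ∃ y : ResidueField W₃, y ^ p ^ n = x) →
      x ∈ Set.range (algebraMap (ResidueField W₂) (ResidueField W₃)) := by
    intro x hx
    obtain ⟨r, hr⟩ := hk x hx
    obtain ⟨w, rfl⟩ := residue_surjective r
    exact ⟨residue W₂ w, by rw [← hr]; rfl⟩
  exact base_of_abstract p hd2 hd3 hw hk'

end Base

section Res

variable {C M : Type u} [CommRing C] [IsDomain C] [IsDiscreteValuationRing C] [Field M]
  [Algebra C M] [IsFractionRing C M] [Algebra M Ω]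
  (hV : EtRam.Dominates C ((algebraMap M Ω).comp (algebraMap C M)) V)

include hV in
theorem exists_of_mem_range {x : Ω} (hx : x ∈ (algebraMap M Ω).fieldRange)
    (hx1 : V.valuation x ≤ 1) : ∃ c : C, algebraMap M Ω (algebraMap C M c) = x := by
  let X : O V (algebraMap M Ω).fieldRange := ⟨⟨x, hx⟩, (V.valuation_le_one_iff _).mp hx1⟩
  refine ⟨(equivO hV).symm X, ?_⟩
  rw [← coe_equivO hV, RingEquiv.apply_symm_apply]

include hV in
theorem res1_of_surj {W₃ : Type u} [CommRing W₃] [IsDomain W₃] [IsDiscreteValuationRing W₃]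
    (j₃ : W₃ →+* C)
    (hg₃ : Function.Injective (((algebraMap M Ω).comp (algebraMap C M)).comp j₃))
    (hres3 : Function.Surjective ((residue C).comp j₃)) :
    Res1 V (fieldOf W₃ (((algebraMap M Ω).comp (algebraMap C M)).comp j₃) hg₃)
      (algebraMap M Ω).fieldRange := by
  intro x hx hx1
  obtain ⟨c, rfl⟩ := exists_of_mem_range hV hx hx1
  obtain ⟨w, hw⟩ := hres3 (residue C c)
  refine ⟨_, mem_fieldOf hg₃ w, (V.valuation_le_one_iff _).mpr (hV.1 (j₃ w)), ?_⟩
  have h1 : c - j₃ w ∈ maximalIdeal C := by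
    rw [← residue_eq_zero_iff, map_sub, ← hw]
    simp
  have h2 := hV.2 _ h1
  simpa using h2

end Res

end Groth.Agent.H6.EppGen
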