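import Mathlib
import Groth.Agent.Lib.Helper6.EG23

/-!
# Epp, general case: weak solutions from coefficient rings (complete top ring)
-/

set_option autoImplicit false
universe u

namespace Groth.Agent.H6.EppGen

open IsLocalRing Groth.Agent.H8 Groth.Agent.H6.EppTower Polynomial

set_option maxHeartbeats 8000000 in
/-- **Epp's theorem over a complete top ring, given coefficient rings.** -/
theorem assembly (p : ℕ) [hp : Fact p.Prime] (A C K M : Type u)
    [CommRing A] [IsDomain A] [IsDiscreteValuationRing A]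
    [CommRing C] [IsDomain C] [IsDiscreteValuationRing C] [Algebra A C]
    [IsLocalHom (algebraMap A C)]
    [Field K] [Field M] [Algebra A K] [IsFractionRing A K] [Algebra C M] [IsFractionRing C M]
    [Algebra K M] [Algebra A M] [IsScalarTower A K M] [IsScalarTower A C M]
    [IsAdicComplete (maximalIdeal C) C] [CharP (ResidueField A) p]
    (W₁ W₂ W₃ : Type u) [CommRing W₁]
    [CommRing W₂] [IsDomain W₂] [IsDiscreteValuationRing W₂] [IsAdicComplete (maximalIdeal W₂) W₂]
    [CommRing W₃] [IsDomain W₃] [IsDiscreteValuationRing W₃] [IsAdicComplete (maximalIdeal W₃) W₃]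
    (j₁₂ : W₁ →+* W₂) (j₂₃ : W₂ →+* W₃) (j₃ : W₃ →+* C) [IsLocalHom j₂₃] [IsLocalHom j₃]
    (hj₂₃ : Function.Injective j₂₃) (hj₃ : Function.Injective j₃)
    (ϖ₂ : W₂) (hϖ₂ : Irreducible ϖ₂) (hϖ₃ : Irreducible (j₂₃ ϖ₂)) (a₀ : A)
    (ha₀ : algebraMap A C a₀ = j₃ (j₂₃ ϖ₂))
    [IsAlgClosed (ResidueField W₂)]
    (hk : ∀ x : ResidueField W₃, (∀ n : ℕ, ∃ y : ResidueField W₃, y ^ p ^ n = x) →
      x ∈ Set.range (ResidueField.map j₂₃))
    (hres3 : Function.Surjective ((residue C).comp j₃))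
    (hclosure : ∀ (w : W₁) (n : ℕ), ∃ a : A,
      j₃ (j₂₃ (j₁₂ w)) - algebraMap A C a ∈ maximalIdeal C ^ n)
    (hsep : ∀ x : W₂, ∃ H : W₁[X], H.Monic ∧ (H.map j₁₂).eval x ∈ maximalIdeal W₂ ∧
      (derivative (H.map j₁₂)).eval x ∉ maximalIdeal W₂) :
    ∃ (K₁ : Type u) (_ : Field K₁) (_ : Algebra K K₁), FiniteDimensional K K₁ ∧
      EtRam.IsWeakSolution C K M K₁ := by
  classical
  obtain ⟨V, hV⟩ := RI.exists_dominates_of_local
    ((algebraMap M (AlgebraicClosure M)).comp (algebraMap C M))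
  have hVA : EtRam.Dominates A ((algebraMap K (AlgebraicClosure M)).comp (algebraMap A K)) V :=
    dominates_of_tower A C K M hV
  -- notation
  set gC : C →+* AlgebraicClosure M := (algebraMap M (AlgebraicClosure M)).comp (algebraMap C M)
    with hgC
  have hgCinj : Function.Injective gC :=
    (algebraMap M (AlgebraicClosure M)).injective.comp (IsFractionRing.injective C M)
  have hAC : ∀ a : A, algebraMap K (AlgebraicClosure M) (algebraMap A K a) =
      gC (algebraMap A C a) := by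
    intro a
    show algebraMap K (AlgebraicClosure M) (algebraMap A K a) =
      algebraMap M (AlgebraicClosure M) (algebraMap C M (algebraMap A C a))
    rw [← IsScalarTower.algebraMap_apply A C M, IsScalarTower.algebraMap_apply A K M,
      ← IsScalarTower.algebraMap_apply K M (AlgebraicClosure M)]
  set Kf : Subfield (AlgebraicClosure M) := (algebraMap K (AlgebraicClosure M)).fieldRange with hKf
  set Lh : Subfield (AlgebraicClosure M) := (algebraMap M (AlgebraicClosure M)).fieldRange with hLh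
  have hKfLh : Kf ≤ Lh := fieldRange_le_fieldRange K M
  let eA := equivO hVA
  let eC := equivO hV
  haveI dvrKf : IsDiscreteValuationRing (O V Kf) :=
    IsDiscreteValuationRing.RingEquivClass.isDiscreteValuationRing eA
  haveI dvrLh : IsDiscreteValuationRing (O V Lh) :=
    IsDiscreteValuationRing.RingEquivClass.isDiscreteValuationRing eC
  haveI complLh : IsAdicComplete (maximalIdeal (O V Lh)) (O V Lh) := by
    rw [← map_ringEquiv_maximalIdeal eC, IsAdicComplete.congr_ringEquiv]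
    infer_instance
  -- the uniformizer of `A`
  obtain ⟨ϖA, hϖA⟩ := IsDiscreteValuationRing.exists_irreducible A
  set π : AlgebraicClosure M := algebraMap K (AlgebraicClosure M) (algebraMap A K ϖA) with hπdef
  have hπKf : π ∈ Kf := ⟨_, rfl⟩
  have hπ0 : π ≠ 0 := by
    rw [hπdef, Ne, map_eq_zero, map_eq_zero_iff _ (IsFractionRing.injective A K)]
    exact hϖA.ne_zero
  have hπU : IsU V Kf π := by
    have h1 : maximalIdeal (O V Kf) = Ideal.span {eA ϖA} := by
      rw [← map_ringEquiv_maximalIdeal eA, hϖA.maximalIdeal_eq, Ideal.map_span,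
        Set.image_singleton]
    have h2 := isU_of_span_eq (eA ϖA) (by
      intro h
      exact hϖA.ne_zero (eA.injective (h.trans (map_zero eA).symm))) h1
    exact h2
  have hπ1 : V.valuation π < 1 := hπU.2.1
  -- the closure of `K`
  set Kc : Subfield (AlgebraicClosure M) := closureIn V π Kf Lh hKfLh hπKf hπ1 hπ0 with hKc
  have hKfKc : Kf ≤ Kc := le_closureIn hKfLh hπKf hπ1 hπ0
  have hKcLh : Kc ≤ Lh := closureIn_le hKfLh hπKf hπ1 hπ0
  haveI dvrKc : IsDiscreteValuationRing (O V Kc) := isDVR_closureIn hKfLh hπKf hπ1 hπ0 hπU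
  haveI complKc : IsAdicComplete (maximalIdeal (O V Kc)) (O V Kc) :=
    isAdicComplete_closureIn hKfLh hπKf hπ1 hπ0 hπU
  have hπUc : IsU V Kc π := isU_closureIn hKfLh hπKf hπ1 hπ0 hπU
  have hdK : Dense V π Kf Kc := dense_closureIn hKfLh hπKf hπ1 hπ0
  -- the coefficient fields
  set g₃ : W₃ →+* AlgebraicClosure M := gC.comp j₃ with hg₃def
  have hg₃ : Function.Injective g₃ := hgCinj.comp hj₃
  have hg₂ : Function.Injective (g₃.comp j₂₃) := hg₃.comp hj₂₃
  have hdom₃ : ∀ w, g₃ w ∈ V := fun w => hV.1 (j₃ w)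
  have hdom₃' : ∀ w ∈ maximalIdeal W₃, V.valuation (g₃ w) < 1 :=
    fun w hw => hV.2 _ (mem_maximalIdeal_map j₃ hw)
  have hdom₂ : ∀ w, (g₃.comp j₂₃) w ∈ V := fun w => hdom₃ (j₂₃ w)
  have hdom₂' : ∀ w ∈ maximalIdeal W₂, V.valuation ((g₃.comp j₂₃) w) < 1 :=
    fun w hw => hdom₃' _ (mem_maximalIdeal_map j₂₃ hw)
  set K0 : Subfield (AlgebraicClosure M) := fieldOf W₂ (g₃.comp j₂₃) hg₂ with hK0
  set L0 : Subfield (AlgebraicClosure M) := fieldOf W₃ g₃ hg₃ with hL0
  haveI : Fact (K0 ≤ L0) := ⟨fieldOf_le hg₂ (fun w => mem_fieldOf hg₃ (j₂₃ w))⟩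
  have hL0Lh : L0 ≤ Lh := fieldOf_le hg₃ (fun w => ⟨algebraMap C M (j₃ w), rfl⟩)
  haveI : Fact (L0 ≤ Lh) := ⟨hL0Lh⟩
  -- characteristic
  haveI : CharP (ResidueField C) p :=
    charP_of_injective_ringHom (ResidueField.map (algebraMap A C)).injective p
  haveI : CharP (ResidueField W₂) p :=
    RingHom.charP (ResidueField.map (j₃.comp j₂₃)) (RingHom.injective _) p
  have hB : Base V p K0 L0 :=
    base_of_coef p j₂₃ hj₂₃ g₃ hg₃ hg₂ hdom₃ hdom₃' hϖ₂ hϖ₃ hk
  haveI dvrL0 : IsDiscreteValuationRing (O V L0) := hB.dvrL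
  haveI complL0 : IsAdicComplete (maximalIdeal (O V L0)) (O V L0) := hB.complL
  haveI dvrK0 : IsDiscreteValuationRing (O V K0) := hB.dvrK
  haveI complK0 : IsAdicComplete (maximalIdeal (O V K0)) (O V K0) := hB.complK
  haveI : FiniteDimensional L0 Lh := finite_of_res1 L0 Lh (res1_of_surj hV j₃ hg₃ hres3)
  -- the uniformizer of `K0`
  set ϖ : AlgebraicClosure M := (g₃.comp j₂₃) ϖ₂ with hϖdef
  have hϖU : IsU V K0 ϖ := isU_fieldOf V hg₂ hdom₂ hdom₂' hϖ₂
  have hϖ0 : ϖ ≠ 0 := by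
    rw [hϖdef, Ne, map_eq_zero_iff _ hg₂]
    exact hϖ₂.ne_zero
  have hϖeq : ϖ = algebraMap K (AlgebraicClosure M) (algebraMap A K a₀) := by
    rw [hAC, ha₀]
    rfl
  have hϖKf : ϖ ∈ Kf := ⟨_, hϖeq.symm⟩
  set K00 : Subfield (AlgebraicClosure M) := K0 ⊓ Kc with hK00
  have hϖ00 : ϖ ∈ K00 := ⟨hϖU.1, hKfKc hϖKf⟩
  -- the image of `W₁` lies in the closure
  obtain ⟨ϖC, hϖC⟩ := IsDiscreteValuationRing.exists_irreducible C
  have hvϖC : V.valuation (gC ϖC) < 1 :=
    hV.2 _ (by rw [hϖC.maximalIdeal_eq]; exact Ideal.mem_span_singleton_self _)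
  have hϖC0 : gC ϖC ≠ 0 := by
    rw [Ne, map_eq_zero_iff _ hgCinj]
    exact hϖC.ne_zero
  have hpow : ∀ (d : C) (N : ℕ), d ∈ maximalIdeal C ^ N →
      V.valuation (gC d) ≤ V.valuation (gC ϖC) ^ N := by
    intro d N hd
    rw [hϖC.maximalIdeal_eq, Ideal.span_singleton_pow, Ideal.mem_span_singleton] at hd
    obtain ⟨d', rfl⟩ := hd
    rw [map_mul, map_pow, map_mul, map_pow]
    calc V.valuation (gC ϖC) ^ N * V.valuation (gC d') ≤ V.valuation (gC ϖC) ^ N * 1 :=
          mul_le_mul' le_rfl ((V.valuation_le_one_iff _).mpr (hV.1 d'))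
      _ = V.valuation (gC ϖC) ^ N := mul_one _
  have hW₁Kc : ∀ w : W₁, (g₃.comp j₂₃) (j₁₂ w) ∈ Kc := by
    intro w
    rw [hKc, mem_closureIn]
    refine ⟨⟨algebraMap C M (j₃ (j₂₃ (j₁₂ w))), rfl⟩, fun n => ?_⟩
    obtain ⟨N, hN⟩ := exists_pow_lt Lh (⟨algebraMap C M ϖC, rfl⟩ : gC ϖC ∈ Lh) hvϖC
      (Lh.pow_mem (hKfLh hπKf) n) (pow_ne_zero n hπ0)
    obtain ⟨a, ha⟩ := hclosure w N
    refine ⟨algebraMap K (AlgebraicClosure M) (algebraMap A K a), ⟨_, rfl⟩, ?_⟩
    rw [hAC]
    have h1 := hpow _ N ha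
    rw [map_sub] at h1
    rw [map_pow] at hN
    exact h1.trans hN.le
  -- the map `W₁ → O V K00`
  let θ₀ : W₁ →+* K00 := ((g₃.comp j₂₃).comp j₁₂).codRestrict K00
    (fun w => ⟨mem_fieldOf hg₂ (j₁₂ w), hW₁Kc w⟩)
  let θ : W₁ →+* O V K00 := θ₀.codRestrict (O V K00) (fun w => hdom₂ (j₁₂ w))
  have hιθ : (ι V K00).comp θ = (g₃.comp j₂₃).comp j₁₂ := rfl
  -- the separability hypothesis
  have hP : ∀ x ∈ K0, V.valuation x ≤ 1 → ∃ H : (O V K00)[X], H.Monic ∧
      V.valuation ((H.map (ι V K00)).eval x) < 1 ∧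
      V.valuation (((derivative H).map (ι V K00)).eval x) = 1 := by
    intro x hx hx1
    obtain ⟨x₂, rfl⟩ := exists_of_mem_fieldOf V hg₂ hdom₂ hdom₂' hx hx1
    obtain ⟨H₁, hH₁m, hH₁e, hH₁d⟩ := hsep x₂
    refine ⟨H₁.map θ, hH₁m.map θ, ?_, ?_⟩
    · rw [Polynomial.map_map, hιθ, ← Polynomial.map_map, eval_map, eval₂_at_apply]
      exact hdom₂' _ hH₁e
    · rw [Polynomial.derivative_map, Polynomial.map_map, hιθ, ← Polynomial.map_map,
        ← Polynomial.derivative_map, eval_map, eval₂_at_apply]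
      have h1 : V.valuation ((g₃.comp j₂₃) ((derivative (H₁.map j₁₂)).eval x₂)) ≤ 1 :=
        (V.valuation_le_one_iff _).mpr (hdom₂ _)
      rcases lt_or_eq_of_le h1 with h2 | h2
      · exact absurd ((val_lt_one_iff V hdom₂ hdom₂' _).mp h2) hH₁d
      · exact h2
  have hdU : Dense V ϖ (K00 ⊔ Subfield.closure (UnrSet V K00 K0)) K0 :=
    dense_unr K00 K0 inf_le_left hϖ00 hϖ0 hϖU hP
  -- the characteristic of `Ω`
  have hchar : CharZero (AlgebraicClosure M) ∨ CharP (AlgebraicClosure M) p := by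
    obtain ⟨q, hq⟩ := CharP.exists K
    rcases Nat.eq_zero_or_pos q with rfl | hqpos
    · left
      haveI : CharZero K := CharP.charP_to_charZero K
      exact charZero_of_injective_algebraMap (algebraMap K (AlgebraicClosure M)).injective
    · right
      have hqA : (q : A) = 0 := by
        apply IsFractionRing.injective A K
        rw [map_natCast, map_zero]
        exact CharP.cast_eq_zero K q
      have hqres : (q : ResidueField A) = 0 := by
        rw [← map_natCast (residue A), hqA, map_zero]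
      have hpq : p ∣ q := (CharP.cast_eq_zero_iff (ResidueField A) p q).mp hqres
      have hqprime : q.Prime := (CharP.char_is_prime_or_zero K q).resolve_right hqpos.ne'
      have hpq' : p = q := (Nat.prime_dvd_prime_iff_eq hp.out hqprime).mp hpq
      subst hpq'
      exact charP_of_injective_algebraMap (algebraMap K (AlgebraicClosure M)).injective p
  -- the internal theorem
  obtain ⟨F, hKF, ⟨hfinF, hnormF⟩, hwuF⟩ :=
    internal_epp (p := p) Kf Kc K00 K0 L0 Lh hKfKc hKcLh inf_le_right inf_le_left hB hchar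
      hπKf hπ0 hπUc hdK hϖ00 hϖ0 hϖU hϖKf hdU
  -- uniqueness of valuation rings over `C`
  have huniq : ∀ (M' : Type u) [Field M'] [Algebra M M'] [FiniteDimensional M M']
      (W₁ W₂ : ValuationSubring M'),
      EtRam.Dominates C ((algebraMap M M').comp (algebraMap C M)) W₁ →
      EtRam.Dominates C ((algebraMap M M').comp (algebraMap C M)) W₂ → W₁ = W₂ := by
    intro M' _ _ _ W₁ W₂ h₁ h₂
    letI : Algebra C M' := ((algebraMap M M').comp (algebraMap C M)).toAlgebra
    haveI : IsScalarTower C M M' := IsScalarTower.of_algebraMap_eq (fun _ => rfl)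
    exact dominating_unique (K := M) (A := C) h₂ h₁
  have hfinal := weakSolution_of_internal V C K M hV huniq F hKF hfinF hnormF hwuF
  exact ⟨F, inferInstance,
    ((Subfield.inclusion hKF).comp
      (algebraMap K (AlgebraicClosure M)).rangeRestrictField).toAlgebra, hfinal⟩

end Groth.Agent.H6.EppGen
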