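import Mathlib
set_option autoImplicit false
universe u

namespace Groth.Agent.H6.PSComplete
open PowerSeries

variable (R : Type u) [CommRing R]

lemma mem_span_X_pow_smul_top (n : ℕ) (f : R⟦X⟧) :
    f ∈ ((Ideal.span {(X : R⟦X⟧)}) ^ n • (⊤ : Submodule R⟦X⟧ R⟦X⟧)) ↔ ∀ i < n, coeff i f = 0 := by
  rw [smul_eq_mul, Ideal.mul_top, Ideal.span_singleton_pow, Ideal.mem_span_singleton,
    PowerSeries.X_pow_dvd_iff]

instance isAdicComplete : IsAdicComplete (Ideal.span {(X : R⟦X⟧)}) R⟦X⟧ where
  haus' := by
    intro f hf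
    ext i
    have := hf (i + 1)
    rw [SModEq.sub_mem, sub_zero, mem_span_X_pow_smul_top] at this
    rw [this i (Nat.lt_succ_self i), map_zero]
  prec' := by
    intro f hf
    refine ⟨PowerSeries.mk fun i => coeff i (f (i + 1)), fun n => ?_⟩
    rw [SModEq.sub_mem, mem_span_X_pow_smul_top]
    intro i hi
    rw [map_sub, coeff_mk, sub_eq_zero]
    have := hf (m := i + 1) (n := n) hi
    rw [SModEq.sub_mem, mem_span_X_pow_smul_top] at this
    have h := this i (Nat.lt_succ_self i)
    rw [map_sub, sub_eq_zero] at h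
    exact h.symm

end Groth.Agent.H6.PSComplete

namespace Groth.Agent.H6.PSComplete
open PowerSeries Polynomial

/-- square roots of power series over a field with `2 ≠ 0` whose constant coefficient is a nonzero square. -/
theorem exists_sq_eq {k : Type u} [Field k] (h2 : (2 : k) ≠ 0) (u : k⟦X⟧) (c : k) (hc : c ≠ 0)
    (hu : PowerSeries.coeff 0 u = c ^ 2) : ∃ g : k⟦X⟧, g ^ 2 = u := by
  have hH : HenselianRing k⟦X⟧ (Ideal.span {(PowerSeries.X : k⟦X⟧)}) := inferInstance
  let f : (k⟦X⟧)[X] := Polynomial.X ^ 2 - Polynomial.C u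
  have hf : f.Monic := by
    apply Polynomial.monic_X_pow_sub_C; norm_num
  have hmem : ∀ w : k⟦X⟧, w ∈ Ideal.span {(PowerSeries.X : k⟦X⟧)} ↔ PowerSeries.coeff 0 w = 0 := by
    intro w
    rw [Ideal.mem_span_singleton, PowerSeries.X_dvd_iff]
    simp
  obtain ⟨a, ha, _⟩ := hH.is_henselian f hf (PowerSeries.C c) (by
    rw [hmem]
    simp only [f, eval_sub, eval_pow, eval_X, eval_C, map_sub, map_pow, hu]
    simp) (by
    have : (f.derivative.eval (PowerSeries.C c)) = PowerSeries.C (2 * c) := by
      have hd : f.derivative = Polynomial.C (2 : k⟦X⟧) * Polynomial.X := by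
        simp only [f, Polynomial.derivative_sub, Polynomial.derivative_X_pow, Polynomial.derivative_C,
          sub_zero]
        norm_num
      rw [hd, Polynomial.eval_mul, Polynomial.eval_C, Polynomial.eval_X, map_mul]
      congr 1
    rw [this]
    apply IsUnit.map
    have : IsUnit (2 * c) := (mul_ne_zero h2 hc).isUnit
    exact this.map _)
  refine ⟨a, ?_⟩
  have : f.eval a = 0 := ha
  simp only [f, eval_sub, eval_pow, eval_X, eval_C] at this
  exact sub_eq_zero.mp this

theorem isSquare_laurent_iff {k : Type u} [Field k] [IsAlgClosed k] (h2 : (2 : k) ≠ 0)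
    (f : LaurentSeries k) (hf : f ≠ 0) : IsSquare f ↔ Even f.order := by
  constructor
  · rintro ⟨g, rfl⟩
    have hg : g ≠ 0 := by
      rintro rfl
      exact hf (mul_zero _)
    rw [HahnSeries.order_mul hg hg]
    exact ⟨g.order, rfl⟩
  · rintro ⟨m, hm⟩
    have h1 := LaurentSeries.single_order_mul_powerSeriesPart f
    set u := f.powerSeriesPart with hu
    have hu0 : PowerSeries.coeff 0 u ≠ 0 := by
      rw [hu, LaurentSeries.powerSeriesPart_coeff, Nat.cast_zero, add_zero]
      exact fun h => hf (HahnSeries.coeff_order_eq_zero.mp h)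
    obtain ⟨c, hc⟩ := IsAlgClosed.exists_pow_nat_eq (PowerSeries.coeff 0 u) (n := 2) (by norm_num)
    have hc0 : c ≠ 0 := by
      rintro rfl
      apply hu0
      rw [← hc]; simp
    obtain ⟨g, hg⟩ := exists_sq_eq h2 u c hc0 hc.symm
    refine ⟨HahnSeries.single m (1 : k) * (HahnSeries.ofPowerSeries ℤ k g), ?_⟩
    rw [← h1, hm, ← hg]
    rw [pow_two, map_mul]
    have : (HahnSeries.single (m + m) (1 : k) : LaurentSeries k) =
        HahnSeries.single m 1 * HahnSeries.single m 1 := by
      rw [HahnSeries.single_mul_single, mul_one]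
    rw [this]
    ring

end Groth.Agent.H6.PSComplete
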