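import Mathlib
import Groth.Agent.Lib.Helper6.PSComplete

/-!
# Epp, general case: evaluation of power series in a complete ring
-/

set_option autoImplicit false
universe u

namespace Groth.Agent.H6.EppGen

namespace PSEval

open Polynomial

variable {k C : Type*} [CommRing k] [CommRing C] (I : Ideal C) (s : k →+* C) {c : C} (hc : c ∈ I)

include hc in
theorem eval₂_sub_mem {n : ℕ} {P Q : k[X]} (h : (X : k[X]) ^ n ∣ P - Q) :
    P.eval₂ s c - Q.eval₂ s c ∈ I ^ n := by
  obtain ⟨R, hR⟩ := h
  rw [← eval₂_sub, hR, eval₂_mul, eval₂_pow, eval₂_X]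
  exact Ideal.mul_mem_right _ _ (Ideal.pow_mem_pow hc n)

theorem X_pow_dvd_trunc_coe_sub (n : ℕ) (P : k[X]) :
    (X : k[X]) ^ n ∣ PowerSeries.trunc n (P : PowerSeries k) - P := by
  rw [Polynomial.X_pow_dvd_iff]
  intro d hd
  rw [coeff_sub, PowerSeries.coeff_trunc, if_pos hd, Polynomial.coeff_coe, sub_self]

theorem X_pow_dvd_trunc_sub_trunc {m n : ℕ} (hmn : m ≤ n) (f : PowerSeries k) :
    (X : k[X]) ^ m ∣ PowerSeries.trunc n f - PowerSeries.trunc m f := by
  rw [Polynomial.X_pow_dvd_iff]
  intro d hd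
  rw [coeff_sub, PowerSeries.coeff_trunc, PowerSeries.coeff_trunc, if_pos hd,
    if_pos (lt_of_lt_of_le hd hmn), sub_self]

/-- Truncated evaluation. -/
noncomputable def evN (n : ℕ) : PowerSeries k →+* C ⧸ I ^ n where
  toFun f := Ideal.Quotient.mk (I ^ n) ((PowerSeries.trunc n f).eval₂ s c)
  map_one' := by
    rw [← map_one (Ideal.Quotient.mk (I ^ n)), Ideal.Quotient.eq]
    have h1 := X_pow_dvd_trunc_coe_sub n (1 : k[X])
    rw [Polynomial.coe_one] at h1
    have h2 := eval₂_sub_mem I s hc h1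
    rwa [eval₂_one] at h2
  map_mul' f g := by
    rw [← map_mul, Ideal.Quotient.eq, ← eval₂_mul]
    apply eval₂_sub_mem I s hc
    have h1 := X_pow_dvd_trunc_coe_sub n (PowerSeries.trunc n f * PowerSeries.trunc n g)
    rwa [Polynomial.coe_mul, PowerSeries.trunc_trunc_mul_trunc] at h1
  map_zero' := by
    rw [map_zero, eval₂_zero, map_zero]
  map_add' f g := by
    rw [map_add, eval₂_add, map_add]

theorem evN_apply (n : ℕ) (f : PowerSeries k) :
    evN I s hc n f = Ideal.Quotient.mk (I ^ n) ((PowerSeries.trunc n f).eval₂ s c) := rfl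

theorem evN_compat {m n : ℕ} (hle : m ≤ n) :
    (Ideal.Quotient.factorPow I hle).comp (evN I s hc n) = evN I s hc m := by
  ext f
  rw [RingHom.comp_apply, evN_apply, evN_apply, Ideal.Quotient.factor_mk, Ideal.Quotient.eq]
  exact eval₂_sub_mem I s hc (X_pow_dvd_trunc_sub_trunc hle f)

variable [IsAdicComplete I C]

/-- Evaluation of power series at an element of `I` in an `I`-adically complete ring. -/
noncomputable def ev : PowerSeries k →+* C :=
  IsAdicComplete.liftRingHom I (evN I s hc) (fun hle => evN_compat I s hc hle)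

theorem mk_ev (n : ℕ) (f : PowerSeries k) :
    Ideal.Quotient.mk (I ^ n) (ev I s hc f) =
      Ideal.Quotient.mk (I ^ n) ((PowerSeries.trunc n f).eval₂ s c) :=
  IsAdicComplete.mk_liftRingHom I (evN I s hc) (fun hle => evN_compat I s hc hle) n f

/-- `ev f ≡ s (f 0)` modulo `I`. -/
theorem ev_sub_mem (f : PowerSeries k) : ev I s hc f - s (PowerSeries.constantCoeff f) ∈ I := by
  have h1 := mk_ev I s hc 1 f
  rw [PowerSeries.trunc_one_left, eval₂_C, Ideal.Quotient.eq, pow_one] at h1
  simpa using h1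

theorem ev_coe (P : k[X]) : ev I s hc (P : PowerSeries k) = P.eval₂ s c := by
  have hH : IsHausdorff I C := inferInstance
  rw [← sub_eq_zero]
  apply hH.haus
  intro n
  rw [SModEq.sub_mem, sub_zero, smul_eq_mul, Ideal.mul_top, ← Ideal.Quotient.eq, mk_ev,
    Ideal.Quotient.eq]
  exact eval₂_sub_mem I s hc (X_pow_dvd_trunc_coe_sub n P)

theorem ev_X : ev I s hc (PowerSeries.X : PowerSeries k) = c := by
  have := ev_coe I s hc (X : k[X])
  rwa [Polynomial.coe_X, eval₂_X] at this

theorem ev_C (a : k) : ev I s hc (PowerSeries.C a) = s a := by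
  have := ev_coe I s hc (Polynomial.C a : k[X])
  rwa [Polynomial.coe_C, eval₂_C] at this

end PSEval

end Groth.Agent.H6.EppGen
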