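import Mathlib
import Groth.Agent.Lib.Helper6.EG24
import Groth.Agent.Lib.Helper6.EG14
import Groth.Agent.Lib.Helper6.EG12

/-!
# Epp, general case: weak solutions from coefficient rings, residue field form
-/

set_option autoImplicit false
universe u

namespace Groth.Agent.H6.EppGen

open IsLocalRing Groth.Agent.H8 Groth.Agent.H6.EppTower Polynomial

set_option maxHeartbeats 4000000 in
/-- **Epp's theorem over a complete top ring with separably closed residue field, given coefficient
rings**; the hypotheses are expressed in the residue field of `C`. -/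
theorem assembly' (p : ℕ) [hp : Fact p.Prime] (A C K M : Type u)
    [CommRing A] [IsDomain A] [IsDiscreteValuationRing A]
    [CommRing C] [IsDomain C] [IsDiscreteValuationRing C] [Algebra A C]
    [IsLocalHom (algebraMap A C)]
    [Field K] [Field M] [Algebra A K] [IsFractionRing A K] [Algebra C M] [IsFractionRing C M]
    [Algebra K M] [Algebra A M] [IsScalarTower A K M] [IsScalarTower A C M]
    [IsAdicComplete (maximalIdeal C) C] [CharP (ResidueField A) p] [CharP (ResidueField C) p]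
    [IsSepClosed (ResidueField C)]
    (hresC : ∀ x : ResidueField C, x ∈ pcore p (ResidueField C) →
      (minpoly (ResidueField A) x).Separable ∧
        ∀ i, (minpoly (ResidueField A) x).coeff i ∈ pcore p (ResidueField A))
    (W₁ W₂ W₃ : Type u) [CommRing W₁]
    [CommRing W₂] [IsDomain W₂] [IsDiscreteValuationRing W₂] [IsAdicComplete (maximalIdeal W₂) W₂]
    [CommRing W₃] [IsDomain W₃] [IsDiscreteValuationRing W₃] [IsAdicComplete (maximalIdeal W₃) W₃]
    (j₁₂ : W₁ →+* W₂) (j₂₃ : W₂ →+* W₃) (j₃ : W₃ →+* C) [IsLocalHom j₂₃] [IsLocalHom j₃]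
    (hj₂₃ : Function.Injective j₂₃) (hj₃ : Function.Injective j₃)
    (ϖ₂ : W₂) (hϖ₂ : Irreducible ϖ₂) (hϖ₃ : Irreducible (j₂₃ ϖ₂)) (a₀ : A)
    (ha₀ : algebraMap A C a₀ = j₃ (j₂₃ ϖ₂))
    (hW3 : Function.Surjective ((residue C).comp j₃))
    (hW2 : ∀ z : ResidueField C, z ∈ pcore p (ResidueField C) ↔
      ∃ x : W₂, residue C (j₃ (j₂₃ x)) = z)
    (hW1a : ∀ w : W₁, ∃ a : A, j₃ (j₂₃ (j₁₂ w)) - algebraMap A C a ∈ maximalIdeal C)
    (hW1b : ∀ z : ResidueField A, z ∈ pcore p (ResidueField A) →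
      ∃ w : W₁, residue C (j₃ (j₂₃ (j₁₂ w))) = algebraMap (ResidueField A) (ResidueField C) z)
    (ϖ₁ : W₁) (hfrob : ∀ (x : W₁) (n : ℕ), ∃ y x₁ : W₁, x = y ^ p ^ n + ϖ₁ * x₁)
    (hϖ₁ : ∃ a₁ : A, algebraMap A C a₁ = j₃ (j₂₃ (j₁₂ ϖ₁)))
    (hϖ₁m : j₃ (j₂₃ (j₁₂ ϖ₁)) ∈ maximalIdeal C) :
    ∃ (K₁ : Type u) (_ : Field K₁) (_ : Algebra K K₁), FiniteDimensional K K₁ ∧
      EtRam.IsWeakSolution C K M K₁ := by
  classical
  -- the residue field of `W₂`
  set φ₂ : ResidueField W₂ →+* ResidueField C := ResidueField.map (j₃.comp j₂₃) with hφ₂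
  have hφ₂res : ∀ x : W₂, φ₂ (residue W₂ x) = residue C (j₃ (j₂₃ x)) := fun x => rfl
  have hφ₂mem : ∀ r : ResidueField W₂, φ₂ r ∈ pcore p (ResidueField C) := by
    intro r
    obtain ⟨x, rfl⟩ := residue_surjective r
    exact (hW2 _).mpr ⟨x, (hφ₂res x).symm⟩
  let e₂ : ResidueField W₂ ≃+* pcore p (ResidueField C) :=
    RingEquiv.ofBijective (φ₂.codRestrict (pcore p (ResidueField C)) hφ₂mem)
      ⟨fun a b hab => φ₂.injective (congrArg Subtype.val hab), fun z => by
        obtain ⟨x, hx⟩ := (hW2 z.1).mp z.2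
        exact ⟨residue W₂ x, Subtype.ext ((hφ₂res x).trans hx)⟩⟩
  haveI : IsAlgClosed (pcore p (ResidueField C)) := isAlgClosed_pcore
  haveI : IsAlgClosed (ResidueField W₂) := IsAlgClosed.of_ringEquiv _ _ e₂.symm
  -- the perfect core of the residue field of `W₃`
  have hk : ∀ x : ResidueField W₃, (∀ n : ℕ, ∃ y : ResidueField W₃, y ^ p ^ n = x) →
      x ∈ Set.range (ResidueField.map j₂₃) := by
    intro x hx
    set φ₃ : ResidueField W₃ →+* ResidueField C := ResidueField.map j₃ with hφ₃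
    have h1 : φ₃ x ∈ pcore p (ResidueField C) := by
      intro n
      obtain ⟨y, hy⟩ := hx n
      exact ⟨φ₃ y, by rw [← map_pow, hy]⟩
    obtain ⟨x₂, hx₂⟩ := (hW2 _).mp h1
    refine ⟨residue W₂ x₂, ?_⟩
    apply φ₃.injective
    rw [← hx₂]
    rfl
  -- the closure condition
  have hpC : (p : C) ∈ maximalIdeal C := by
    rw [← residue_eq_zero_iff, map_natCast]
    exact CharP.cast_eq_zero _ p
  have hclosure : ∀ (w : W₁) (n : ℕ), ∃ a : A,
      j₃ (j₂₃ (j₁₂ w)) - algebraMap A C a ∈ maximalIdeal C ^ n := by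
    intro w n
    have := closure_of_frobenius p (maximalIdeal C) hpC (algebraMap A C)
      ((j₃.comp j₂₃).comp j₁₂) ϖ₁ hfrob hϖ₁ hϖ₁m hW1a n w
    exact this
  -- the separability condition
  have hsep : ∀ x : W₂, ∃ H : W₁[X], H.Monic ∧ (H.map j₁₂).eval x ∈ maximalIdeal W₂ ∧
      (derivative (H.map j₁₂)).eval x ∉ maximalIdeal W₂ := by
    intro x
    set z : ResidueField C := residue C (j₃ (j₂₃ x)) with hz
    have hzc : z ∈ pcore p (ResidueField C) := (hW2 z).mpr ⟨x, rfl⟩
    obtain ⟨hsepz, hcoeff⟩ := hresC z hzc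
    have hzint : IsIntegral (ResidueField A) z := by
      by_contra hni
      have h0 : minpoly (ResidueField A) z = 0 := minpoly.eq_zero hni
      rw [h0] at hsepz
      exact Polynomial.not_separable_zero hsepz
    set f : W₁ →+* ResidueField C := (residue C).comp ((j₃.comp j₂₃).comp j₁₂) with hf
    set h : (ResidueField C)[X] :=
      (minpoly (ResidueField A) z).map (algebraMap (ResidueField A) (ResidueField C)) with hh
    have hlift : h ∈ Polynomial.lifts f := by
      rw [Polynomial.lifts_iff_coeff_lifts]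
      intro i
      obtain ⟨w, hw⟩ := hW1b _ (hcoeff i)
      exact ⟨w, by rw [hh, coeff_map, ← hw]; rfl⟩
    obtain ⟨H, hHmap, -, hHm⟩ :=
      Polynomial.lifts_and_natDegree_eq_and_monic hlift ((minpoly.monic hzint).map _)
    refine ⟨H, hHm, ?_, ?_⟩
    · have h1 : residue C ((j₃.comp j₂₃) ((H.map j₁₂).eval x)) = 0 := by
        rw [← Polynomial.eval₂_at_apply, ← Polynomial.eval_map, ← Polynomial.eval₂_at_apply,
          ← Polynomial.eval_map, Polynomial.map_map, Polynomial.map_map]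
        show (H.map f).eval z = 0
        rw [hHmap, hh, eval_map, ← aeval_def, minpoly.aeval]
      by_contra hnm
      have hu : IsUnit ((H.map j₁₂).eval x) := by
        rwa [mem_maximalIdeal, mem_nonunits_iff, not_not] at hnm
      have hu' : IsUnit (residue C ((j₃.comp j₂₃) ((H.map j₁₂).eval x))) :=
        (hu.map (j₃.comp j₂₃)).map (residue C)
      rw [h1] at hu'
      exact not_isUnit_zero hu'
    · intro hmem
      have h1 : residue C ((j₃.comp j₂₃) ((derivative (H.map j₁₂)).eval x)) = 0 := by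
        rw [residue_eq_zero_iff]
        exact mem_maximalIdeal_map j₃ (mem_maximalIdeal_map j₂₃ hmem)
      rw [← Polynomial.eval₂_at_apply, ← Polynomial.eval_map, ← Polynomial.eval₂_at_apply,
        ← Polynomial.eval_map, Polynomial.derivative_map, Polynomial.map_map,
        Polynomial.map_map, ← Polynomial.derivative_map] at h1
      have h2 : (derivative (H.map f)).eval z = 0 := h1
      rw [hHmap, hh, Polynomial.derivative_map, eval_map, ← aeval_def] at h2
      exact hsepz.aeval_derivative_ne_zero (minpoly.aeval _ z) h2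
  exact assembly p A C K M W₁ W₂ W₃ j₁₂ j₂₃ j₃ hj₂₃ hj₃ ϖ₂ hϖ₂ hϖ₃ a₀ ha₀ hk hW3 hclosure hsep

end Groth.Agent.H6.EppGen
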