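import Mathlib
import Groth.Agent.Lib.Helper6.EG26
import Groth.Agent.Lib.Helper6.EG25
import Groth.Agent.Lib.Helper5.CA.CF1

/-!
# Epp, general case: the equal characteristic case over a complete top ring
-/

set_option autoImplicit false
universe u

namespace Groth.Agent.H6.EppGen

open IsLocalRing Groth.Agent.H8 Groth.Agent.H6.EppTower Polynomial

theorem injective_of_map_irreducible_ne_zero {W T : Type*} [CommRing W] [IsDomain W]
    [IsDiscreteValuationRing W] [CommRing T] [IsDomain T] (f : W →+* T) {ϖ : W}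
    (hϖ : Irreducible ϖ) (h : f ϖ ≠ 0) : Function.Injective f := by
  rw [injective_iff_map_eq_zero]
  intro x hx
  by_contra hx0
  obtain ⟨n, u, rfl⟩ := IsDiscreteValuationRing.eq_unit_mul_pow_irreducible hx0 hϖ
  rw [map_mul, map_pow] at hx
  rcases mul_eq_zero.mp hx with h1 | h1
  · exact (u.isUnit.map f).ne_zero h1
  · exact h (pow_eq_zero_iff (fun hn => by rw [hn, pow_zero] at h1; exact one_ne_zero h1) |>.mp h1)

instance isAdicComplete_powerSeries (k : Type u) [Field k] :
    IsAdicComplete (maximalIdeal (PowerSeries k)) (PowerSeries k) := by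
  rw [PowerSeries.maximalIdeal_eq_span_X]
  exact PSComplete.isAdicComplete k

set_option maxHeartbeats 4000000 in
/-- Epp's theorem, equal characteristic `p`, complete top ring with separably closed residue
field. -/
theorem epp_complete_equal (p : ℕ) [hp : Fact p.Prime] (A C K M : Type u)
    [CommRing A] [IsDomain A] [IsDiscreteValuationRing A]
    [CommRing C] [IsDomain C] [IsDiscreteValuationRing C] [Algebra A C]
    [IsLocalHom (algebraMap A C)] (hinj : Function.Injective (algebraMap A C))
    [Field K] [Field M] [Algebra A K] [IsFractionRing A K] [Algebra C M] [IsFractionRing C M]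
    [Algebra K M] [Algebra A M] [IsScalarTower A K M] [IsScalarTower A C M]
    [IsAdicComplete (maximalIdeal C) C] [CharP (ResidueField A) p] [CharP (ResidueField C) p]
    [IsSepClosed (ResidueField C)]
    (hresC : ∀ x : ResidueField C, x ∈ pcore p (ResidueField C) →
      (minpoly (ResidueField A) x).Separable ∧
        ∀ i, (minpoly (ResidueField A) x).coeff i ∈ pcore p (ResidueField A))
    (hpA : (p : A) = 0) :
    ∃ (K₁ : Type u) (_ : Field K₁) (_ : Algebra K K₁), FiniteDimensional K K₁ ∧
      EtRam.IsWeakSolution C K M K₁ := by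
  classical
  have hpC : (p : C) = 0 := by rw [← map_natCast (algebraMap A C), hpA, map_zero]
  obtain ⟨s, hs⟩ := Groth.Agent.H5.CF.exists_coeffField C p hpC
  have hs' : ∀ z, residue C (s z) = z := fun z => congrArg (fun φ => φ z) hs
  obtain ⟨ϖA, hϖA⟩ := IsDiscreteValuationRing.exists_irreducible A
  set c : C := algebraMap A C ϖA with hc
  have hcm : c ∈ maximalIdeal C :=
    mem_maximalIdeal_map (algebraMap A C)
      (by rw [hϖA.maximalIdeal_eq]; exact Ideal.mem_span_singleton_self _)
  have hc0 : c ≠ 0 := by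
    rw [hc, Ne, map_eq_zero_iff _ hinj]
    exact hϖA.ne_zero
  -- the coefficient rings
  set kC := ResidueField C with hkC
  set k₀ : Subfield kC := pcore p kC with hk₀
  set kA₀ : Subfield (ResidueField A) := pcore p (ResidueField A) with hkA₀
  let ιk : kA₀ →+* k₀ := ((algebraMap (ResidueField A) kC).comp kA₀.subtype).codRestrict k₀
    (fun w => map_mem_pcore (algebraMap (ResidueField A) kC) w.2)
  let j₃ : PowerSeries kC →+* C := PSEval.ev (maximalIdeal C) s hcm
  let j₂₃ : PowerSeries k₀ →+* PowerSeries kC := PowerSeries.map k₀.subtype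
  let j₁₂ : kA₀ →+* PowerSeries k₀ := (PowerSeries.C).comp ιk
  have hres₃ : ∀ g : PowerSeries kC, residue C (j₃ g) = PowerSeries.constantCoeff g := by
    intro g
    have h1 := PSEval.ev_sub_mem (maximalIdeal C) s hcm g
    rw [← residue_eq_zero_iff, map_sub, sub_eq_zero, hs'] at h1
    exact h1
  haveI : IsLocalHom j₂₃ := by
    constructor
    intro f hf
    rw [PowerSeries.isUnit_iff_constantCoeff] at hf ⊢
    have h1 : PowerSeries.constantCoeff (j₂₃ f) = k₀.subtype (PowerSeries.constantCoeff f) := by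
      rw [← PowerSeries.coeff_zero_eq_constantCoeff_apply, ← PowerSeries.coeff_zero_eq_constantCoeff_apply]
      exact PowerSeries.coeff_map _ _ _
    rw [h1] at hf
    exact isUnit_iff_ne_zero.mpr (fun h0 => by rw [h0, map_zero] at hf; exact not_isUnit_zero hf)
  haveI : IsLocalHom j₃ := by
    constructor
    intro f hf
    rw [PowerSeries.isUnit_iff_constantCoeff, isUnit_iff_ne_zero, ← hres₃]
    exact (hf.map (residue C)).ne_zero
  have hj₂₃ : Function.Injective j₂₃ := by
    intro f g hfg
    ext n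
    have := congrArg (PowerSeries.coeff n) hfg
    simp only [j₂₃, PowerSeries.coeff_map] at this
    exact this
  have hj₃X : j₃ PowerSeries.X = c := PSEval.ev_X (maximalIdeal C) s hcm
  have hj₃ : Function.Injective j₃ :=
    injective_of_map_irreducible_ne_zero j₃ PowerSeries.X_irreducible (by rw [hj₃X]; exact hc0)
  have hj₂₃X : j₂₃ PowerSeries.X = PowerSeries.X := PowerSeries.map_X _
  have hW3 : Function.Surjective ((residue C).comp j₃) := by
    intro z
    exact ⟨PowerSeries.C z, by
      rw [RingHom.comp_apply, hres₃]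
      simp⟩
  have hres₂ : ∀ x : PowerSeries k₀, residue C (j₃ (j₂₃ x)) =
      ((PowerSeries.constantCoeff x : k₀) : kC) := by
    intro x
    rw [hres₃, ← PowerSeries.coeff_zero_eq_constantCoeff_apply,
      ← PowerSeries.coeff_zero_eq_constantCoeff_apply]
    exact PowerSeries.coeff_map _ _ _
  have hW2 : ∀ z : kC, z ∈ pcore p kC ↔ ∃ x : PowerSeries k₀, residue C (j₃ (j₂₃ x)) = z := by
    intro z
    constructor
    · intro hz
      exact ⟨PowerSeries.C (⟨z, hz⟩ : k₀), by rw [hres₂]; simp⟩
    · rintro ⟨x, rfl⟩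
      rw [hres₂]
      exact (PowerSeries.constantCoeff x : k₀).2
  have hres₁ : ∀ w : kA₀, residue C (j₃ (j₂₃ (j₁₂ w))) =
      algebraMap (ResidueField A) kC (w : ResidueField A) := by
    intro w
    rw [hres₂]
    simp [j₁₂, ιk]
  have hW1a : ∀ w : kA₀, ∃ a : A, j₃ (j₂₃ (j₁₂ w)) - algebraMap A C a ∈ maximalIdeal C := by
    intro w
    obtain ⟨a, ha⟩ := residue_surjective (w : ResidueField A)
    refine ⟨a, ?_⟩
    rw [← residue_eq_zero_iff, map_sub, hres₁, ← ha, sub_eq_zero]
    rfl
  have hW1b : ∀ z : ResidueField A, z ∈ pcore p (ResidueField A) →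
      ∃ w : kA₀, residue C (j₃ (j₂₃ (j₁₂ w))) = algebraMap (ResidueField A) kC z :=
    fun z hz => ⟨⟨z, hz⟩, hres₁ _⟩
  have hfrob : ∀ (x : kA₀) (n : ℕ), ∃ y x₁ : kA₀, x = y ^ p ^ n + 0 * x₁ := by
    intro x n
    obtain ⟨y, hy, hyx⟩ := exists_root_pcore x.2 n
    exact ⟨⟨y, hy⟩, 0, by rw [zero_mul, add_zero]; exact Subtype.ext hyx.symm⟩
  exact assembly' p A C K M hresC kA₀ (PowerSeries k₀) (PowerSeries kC) j₁₂ j₂₃ j₃ hj₂₃ hj₃
    PowerSeries.X PowerSeries.X_irreducible (by rw [hj₂₃X]; exact PowerSeries.X_irreducible) ϖA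
    (by rw [hj₂₃X, hj₃X]) hW3 hW2 hW1a hW1b 0 hfrob ⟨0, by simp⟩ (by simp)

end Groth.Agent.H6.EppGen
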