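import Mathlib
import Groth.Agent.Lib.Helper6.EG27
import Groth.Agent.Lib.Helper5.CA.NN4

/-!
# Epp, general case: the mixed characteristic case over a complete top ring
-/

set_option autoImplicit false
universe u

namespace Groth.Agent.H6.EppGen

open IsLocalRing Groth.Agent.H8 Groth.Agent.H6.EppTower Polynomial Groth.Agent.H5

/-- A Cohen ring with prescribed residue field, mapping to a complete local ring. -/
theorem exists_cohen_lift (p : ℕ) [hp : Fact p.Prime] (κ : Type u) [Field κ] [CharP κ p]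
    (T : Type u) [CommRing T] [IsLocalRing T] [IsAdicComplete (maximalIdeal T) T]
    (φ : κ →+* ResidueField T) :
    ∃ (W : Type u) (_ : CommRing W) (_ : IsDomain W) (_ : IsDiscreteValuationRing W)
      (_ : IsAdicComplete (maximalIdeal W) W) (e : ResidueField W ≃+* κ) (v : W →+* T),
      maximalIdeal W = Ideal.span {(p : W)} ∧ ∀ w, residue T (v w) = φ (e (residue W w)) := by
  obtain ⟨Λ, _, _, hΛ, ⟨ε⟩⟩ := CohenZorn.exists_cohenRing p κ
  have hΛ' := hΛ
  obtain ⟨hdom, hdvr, hcomp, q, hq, hmq⟩ := hΛ'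
  have hpq : p = q := Cohen8.charP_eq_of_isCohenRing hq hmq p (ε : ResidueField Λ →+* κ)
  subst hpq
  let u : Λ →+* ResidueField T := φ.comp ((ε : ResidueField Λ →+* κ).comp (residue Λ))
  haveI : IsLocalHom u := by
    constructor
    intro a ha
    have h1 : u a ≠ 0 := ha.ne_zero
    have h2 : residue Λ a ≠ 0 := by
      intro h0
      apply h1
      simp only [u, RingHom.comp_apply, h0, map_zero]
    exact (residue_ne_zero_iff_isUnit a).mp h2
  obtain ⟨v, hv⟩ := Cohen9.exists_lift_residue (Or.inr hΛ) u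
  refine ⟨Λ, inferInstance, hdom, hdvr, hcomp, ε, v, hmq, ?_⟩
  intro w
  have := congrArg (fun ψ => ψ w) hv
  simpa [u] using this

set_option maxHeartbeats 4000000 in
/-- Epp's theorem, mixed characteristic, complete top ring with separably closed residue field. -/
theorem epp_complete_mixed (p : ℕ) [hp : Fact p.Prime] (A C K M : Type u)
    [CommRing A] [IsDomain A] [IsDiscreteValuationRing A]
    [CommRing C] [IsDomain C] [IsDiscreteValuationRing C] [Algebra A C]
    [IsLocalHom (algebraMap A C)] (hinj : Function.Injective (algebraMap A C))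
    [Field K] [Field M] [Algebra A K] [IsFractionRing A K] [Algebra C M] [IsFractionRing C M]
    [Algebra K M] [Algebra A M] [IsScalarTower A K M] [IsScalarTower A C M]
    [IsAdicComplete (maximalIdeal C) C] [CharP (ResidueField A) p] [CharP (ResidueField C) p]
    [IsSepClosed (ResidueField C)]
    (hresC : ∀ x : ResidueField C, x ∈ pcore p (ResidueField C) →
      (minpoly (ResidueField A) x).Separable ∧
        ∀ i, (minpoly (ResidueField A) x).coeff i ∈ pcore p (ResidueField A))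
    (hpA : (p : A) ≠ 0) :
    ∃ (K₁ : Type u) (_ : Field K₁) (_ : Algebra K K₁), FiniteDimensional K K₁ ∧
      EtRam.IsWeakSolution C K M K₁ := by
  classical
  set kC := ResidueField C with hkC
  set k₀ : Subfield kC := pcore p kC with hk₀
  set kA₀ : Subfield (ResidueField A) := pcore p (ResidueField A) with hkA₀
  let ιk : kA₀ →+* k₀ := ((algebraMap (ResidueField A) kC).comp kA₀.subtype).codRestrict k₀
    (fun w => map_mem_pcore (algebraMap (ResidueField A) kC) w.2)
  obtain ⟨W₃, _, _, _, _, e₃, j₃, hm₃, hj₃res⟩ :=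
    exists_cohen_lift p kC C (RingHom.id _)
  obtain ⟨W₂, _, _, _, _, e₂, j₂₃, hm₂, hj₂₃res⟩ :=
    exists_cohen_lift p k₀ W₃ ((e₃.symm : kC →+* ResidueField W₃).comp k₀.subtype)
  obtain ⟨W₁, _, _, _, _, e₁, j₁₂, hm₁, hj₁₂res⟩ :=
    exists_cohen_lift p kA₀ W₂ ((e₂.symm : k₀ →+* ResidueField W₂).comp ιk)
  have hres₃ : ∀ w : W₃, residue C (j₃ w) = e₃ (residue W₃ w) := fun w => hj₃res w
  have hres₂₃ : ∀ x : W₂, residue W₃ (j₂₃ x) = e₃.symm ((e₂ (residue W₂ x) : k₀) : kC) :=
    fun x => hj₂₃res x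
  have hres₂ : ∀ x : W₂, residue C (j₃ (j₂₃ x)) = ((e₂ (residue W₂ x) : k₀) : kC) := by
    intro x
    rw [hres₃, hres₂₃, RingEquiv.apply_symm_apply]
  have hres₁₂ : ∀ w : W₁, residue W₂ (j₁₂ w) = e₂.symm (ιk (e₁ (residue W₁ w))) :=
    fun w => hj₁₂res w
  have hres₁ : ∀ w : W₁, residue C (j₃ (j₂₃ (j₁₂ w))) =
      algebraMap (ResidueField A) kC ((e₁ (residue W₁ w) : kA₀) : ResidueField A) := by
    intro w
    rw [hres₂, hres₁₂, RingEquiv.apply_symm_apply]
    rfl
  haveI : IsLocalHom j₃ := by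
    constructor
    intro a ha
    have h1 : residue C (j₃ a) ≠ 0 := (ha.map (residue C)).ne_zero
    rw [hres₃] at h1
    have h2 : residue W₃ a ≠ 0 := fun h0 => h1 (by rw [h0, map_zero])
    exact (residue_ne_zero_iff_isUnit a).mp h2
  haveI : IsLocalHom j₂₃ := by
    constructor
    intro a ha
    have h1 : residue W₃ (j₂₃ a) ≠ 0 := (ha.map (residue W₃)).ne_zero
    rw [hres₂₃] at h1
    have h2 : residue W₂ a ≠ 0 := fun h0 => h1 (by rw [h0, map_zero]; simp)
    exact (residue_ne_zero_iff_isUnit a).mp h2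
  have hirr₂ : Irreducible (p : W₂) := (IsDiscreteValuationRing.irreducible_iff_uniformizer _).mpr hm₂
  have hirr₃ : Irreducible (p : W₃) := (IsDiscreteValuationRing.irreducible_iff_uniformizer _).mpr hm₃
  have hj₂₃p : j₂₃ (p : W₂) = (p : W₃) := map_natCast j₂₃ p
  have hj₃p : j₃ (p : W₃) = (p : C) := map_natCast j₃ p
  have hpC0 : (p : C) ≠ 0 := by
    rw [← map_natCast (algebraMap A C), Ne, map_eq_zero_iff _ hinj]
    exact hpA
  have hj₂₃ : Function.Injective j₂₃ :=
    injective_of_map_irreducible_ne_zero j₂₃ hirr₂ (by rw [hj₂₃p]; exact hirr₃.ne_zero)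
  have hj₃ : Function.Injective j₃ :=
    injective_of_map_irreducible_ne_zero j₃ hirr₃ (by rw [hj₃p]; exact hpC0)
  have hW3 : Function.Surjective ((residue C).comp j₃) := by
    intro z
    obtain ⟨w, hw⟩ := residue_surjective (e₃.symm z)
    exact ⟨w, by rw [RingHom.comp_apply, hres₃, hw, RingEquiv.apply_symm_apply]⟩
  have hW2 : ∀ z : kC, z ∈ pcore p kC ↔ ∃ x : W₂, residue C (j₃ (j₂₃ x)) = z := by
    intro z
    constructor
    · intro hz
      obtain ⟨x, hx⟩ := residue_surjective (e₂.symm (⟨z, hz⟩ : k₀))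
      exact ⟨x, by rw [hres₂, hx, RingEquiv.apply_symm_apply]⟩
    · rintro ⟨x, rfl⟩
      rw [hres₂]
      exact (e₂ (residue W₂ x) : k₀).2
  have hW1a : ∀ w : W₁, ∃ a : A, j₃ (j₂₃ (j₁₂ w)) - algebraMap A C a ∈ maximalIdeal C := by
    intro w
    obtain ⟨a, ha⟩ := residue_surjective ((e₁ (residue W₁ w) : kA₀) : ResidueField A)
    refine ⟨a, ?_⟩
    rw [← residue_eq_zero_iff, map_sub, hres₁, ← ha, sub_eq_zero]
    rfl
  have hW1b : ∀ z : ResidueField A, z ∈ pcore p (ResidueField A) →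
      ∃ w : W₁, residue C (j₃ (j₂₃ (j₁₂ w))) = algebraMap (ResidueField A) kC z := by
    intro z hz
    obtain ⟨w, hw⟩ := residue_surjective (e₁.symm (⟨z, hz⟩ : kA₀))
    exact ⟨w, by rw [hres₁, hw, RingEquiv.apply_symm_apply]⟩
  have hfrob : ∀ (x : W₁) (n : ℕ), ∃ y x₁ : W₁, x = y ^ p ^ n + (p : W₁) * x₁ := by
    intro x n
    obtain ⟨y', hy'c, hy'⟩ := exists_root_pcore (e₁ (residue W₁ x) : kA₀).2 n
    obtain ⟨y, hy⟩ := residue_surjective (e₁.symm (⟨y', hy'c⟩ : kA₀))
    have h1 : x - y ^ p ^ n ∈ maximalIdeal W₁ := by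
      rw [← residue_eq_zero_iff, map_sub, map_pow, hy, ← map_pow, sub_eq_zero]
      apply e₁.injective
      rw [RingEquiv.apply_symm_apply]
      exact Subtype.ext hy'.symm
    rw [hm₁, Ideal.mem_span_singleton'] at h1
    obtain ⟨x₁, hx₁⟩ := h1
    exact ⟨y, x₁, by rw [mul_comm, hx₁]; ring⟩
  have hpCm : (p : C) ∈ maximalIdeal C := by
    rw [← residue_eq_zero_iff, map_natCast]
    exact CharP.cast_eq_zero _ p
  have hjp : j₃ (j₂₃ (j₁₂ (p : W₁))) = (p : C) := by
    rw [map_natCast, map_natCast, map_natCast]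
  exact assembly' p A C K M hresC W₁ W₂ W₃ j₁₂ j₂₃ j₃ hj₂₃ hj₃ (p : W₂) hirr₂
    (by rw [hj₂₃p]; exact hirr₃) (p : A) (by rw [hj₂₃p, hj₃p, map_natCast]) hW3 hW2 hW1a hW1b
    (p : W₁) hfrob ⟨(p : A), by rw [hjp, map_natCast]⟩ (by rw [hjp]; exact hpCm)

end Groth.Agent.H6.EppGen
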