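import Mathlib
import Groth.Agent.Lib.Helper6.EG28
import Groth.Agent.Lib.Helper6.Kr3
import Groth.Agent.Lib.Helper8.Hens.DVR
import Groth.Agent.Lib.Helper8.Hens.Strict

/-!
# Epp, general case: a complete DVR with separably closed residue field above a given DVR
-/

set_option autoImplicit false
universe u

namespace Groth.Agent.H6.EppGen

open IsLocalRing Groth.Agent.H8 Polynomial

set_option maxHeartbeats 2000000 in
/-- Every DVR `B` admits a local injective map to a complete DVR with separably closed residue
field which is separable algebraic over the residue field of `B`. -/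
theorem exists_complete_sepClosed (B : Type u) [CommRing B] [IsDomain B]
    [IsDiscreteValuationRing B] :
    ∃ (C : Type u) (_ : CommRing C) (_ : IsDomain C) (_ : IsDiscreteValuationRing C)
      (_ : Algebra B C) (_ : IsLocalHom (algebraMap B C)),
      Function.Injective (algebraMap B C) ∧ IsAdicComplete (maximalIdeal C) C ∧
      IsSepClosed (ResidueField C) ∧ Algebra.IsSeparable (ResidueField B) (ResidueField C) := by
  set B' := Hens.StrictHenselization B with hB'
  haveI hSH : Hensel.IsStrictHenselization B B' := Hens.isStrictHenselization
  obtain ⟨hdom', hdvr'⟩ :=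
    (Hens.dvr_iff_of_isStrictHenselization (R := B) B').mp ⟨inferInstance, inferInstance⟩
  obtain ⟨ϖ', hϖ'⟩ := IsDiscreteValuationRing.exists_irreducible B'
  obtain ⟨hdomC, hdvrC, hirrC, -⟩ := Groth.Agent.H6.Krasner.completion_dvr B' ϖ' hϖ'
  set C := AdicCompletion (maximalIdeal B') B' with hC
  letI : Algebra B C := ((algebraMap B' C).comp (algebraMap B B')).toAlgebra
  haveI : IsScalarTower B B' C := IsScalarTower.of_algebraMap_eq (fun _ => rfl)
  haveI hloc : IsLocalHom (algebraMap B C) :=
    RingHom.isLocalHom_comp (algebraMap B' C) (algebraMap B B')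
  -- injectivity
  have hinj' : Function.Injective (algebraMap B' C) :=
    injective_of_map_irreducible_ne_zero _ hϖ' hirrC.ne_zero
  obtain ⟨ϖ, hϖ⟩ := IsDiscreteValuationRing.exists_irreducible B
  have hmapm := Hens.map_maximalIdeal_of_isStrictHenselization (R := B) B'
  have hinjB : Function.Injective (algebraMap B B') := by
    apply injective_of_map_irreducible_ne_zero _ hϖ
    intro h0
    rw [hϖ.maximalIdeal_eq, Ideal.map_span, Set.image_singleton, h0] at hmapm
    have : maximalIdeal B' = ⊥ := by rw [← hmapm]; simp
    exact IsDiscreteValuationRing.not_a_field B' this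
  have hinj : Function.Injective (algebraMap B C) := hinj'.comp hinjB
  -- residue fields
  have hsc : IsSepClosure (ResidueField B) (ResidueField B') := hSH.isSepClosure
  haveI : IsSepClosed (ResidueField B') := hsc.sep_closed
  haveI : Algebra.IsSeparable (ResidueField B) (ResidueField B') := hsc.separable
  have hbij : Function.Bijective (algebraMap (ResidueField B') (ResidueField C)) := by
    have h1 := AdicCompletion.residueField_map_bijective B'
    have h2 : ⇑(algebraMap (ResidueField B') (ResidueField C)) =
        ⇑(ResidueField.map (algebraMap B' C)) := by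
      funext r
      obtain ⟨x, rfl⟩ := residue_surjective r
      rfl
    rw [h2]
    exact h1
  haveI : IsScalarTower (ResidueField B) (ResidueField B') (ResidueField C) :=
    IsScalarTower.of_algebraMap_eq (fun r => by
      obtain ⟨x, rfl⟩ := residue_surjective r
      rfl)
  let e : ResidueField B' ≃ₐ[ResidueField B] ResidueField C :=
    AlgEquiv.ofBijective (IsScalarTower.toAlgHom (ResidueField B) (ResidueField B')
      (ResidueField C)) hbij
  refine ⟨C, inferInstance, hdomC, hdvrC, inferInstance, hloc, hinj, inferInstance, ?_, ?_⟩
  · exact Hens.isSepClosed_of_ringEquiv e.toRingEquiv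
  · exact Algebra.IsSeparable.of_algHom (ResidueField B) (ResidueField B') e.symm.toAlgHom

end Groth.Agent.H6.EppGen
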