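import Mathlib
import Groth.Agent.Lib.Helper6.EG28

/-!
# Epp, general case: residue characteristic zero (tame case) over a complete top ring
-/

set_option autoImplicit false
universe u

namespace Groth.Agent.H6.EppGen

open IsLocalRing Groth.Agent.H8 Groth.Agent.H6.EppTower Polynomial

variable {Ω : Type u} [Field Ω] {V : ValuationSubring Ω}

set_option maxHeartbeats 4000000 in
/-- The tame case, internally: adjoin an `e`-th root of a uniformizer and pass to a normal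
closure. -/
theorem tame_internal [IsAlgClosed Ω] (K Lh : Subfield Ω) [Fact (K ≤ Lh)]
    [IsDiscreteValuationRing (O V K)] [IsDiscreteValuationRing (O V Lh)]
    [CharZero (ResidueField (O V K))] :
    ∃ (F : Subfield Ω) (hKF : K ≤ F),
      (haveI := Fact.mk hKF; FiniteDimensional K F ∧ Normal K F) ∧ WU V F (Lh ⊔ F) := by
  have hKL : K ≤ Lh := Fact.out
  obtain ⟨π₀, hπ₀0, hπ₀⟩ := exists_isU (V := V) K
  obtain ⟨t, ht0, ht⟩ := exists_isU (V := V) Lh
  obtain ⟨e, h1⟩ := exists_pow_eq_of_isU Lh ht ht0 (hKL hπ₀.1) hπ₀0 hπ₀.2.1.le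
  have he0 : e ≠ 0 := by
    rintro rfl
    rw [pow_zero] at h1
    exact absurd hπ₀.2.1 (by rw [h1]; exact lt_irrefl _)
  obtain ⟨ϖ₁, hϖ₁⟩ := IsAlgClosed.exists_pow_nat_eq π₀ (Nat.pos_of_ne_zero he0)
  have hint : IsIntegral K ϖ₁ := by
    refine ⟨Polynomial.X ^ e - Polynomial.C (⟨π₀, hπ₀.1⟩ : K),
      Polynomial.monic_X_pow_sub_C _ he0, ?_⟩
    rw [Polynomial.eval₂_sub, Polynomial.eval₂_X_pow, Polynomial.eval₂_C, hϖ₁]
    exact sub_self π₀
  haveI : Fact (K ≤ K ⊔ Subfield.closure {ϖ₁}) := ⟨le_sup_left⟩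
  haveI : FiniteDimensional K (K ⊔ Subfield.closure {ϖ₁} : Subfield Ω) := finite_adjoin_elt K hint
  obtain ⟨F, hKF, hYF, hFfin, hFnorm⟩ := exists_normal_closure K (K ⊔ Subfield.closure {ϖ₁})
  haveI : Fact (K ≤ F) := ⟨hKF⟩
  haveI := hFfin
  haveI := hFnorm
  have hϖF : ϖ₁ ∈ F :=
    hYF ((le_sup_right : Subfield.closure {ϖ₁} ≤ _) (Subfield.subset_closure rfl))
  let σ : F →ₐ[K] Ω := { F.subtype with commutes' := fun _ => rfl }
  have heB : Ideal.ramificationIdx' (maximalIdeal (O V K)) (maximalIdeal (O V Lh)) = e :=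
    ramIdx'_O_eq K Lh hπ₀ hπ₀0 ht he0 h1
  have htame : CharZero (ResidueField (O V K)) ∨ ∃ p : ℕ, p.Prime ∧
      CharP (ResidueField (O V K)) p ∧
      ¬ p ∣ Ideal.ramificationIdx' (maximalIdeal (O V K)) (maximalIdeal (O V Lh)) ∧
      Algebra.IsGeometricallyReduced (ResidueField (O V K)) (ResidueField (O V Lh)) :=
    Or.inl inferInstance
  have hsol := BC.sol1982 (O V K) (O V Lh) K Lh htame F
  have happ := apply_forallLocalExt V K Lh F σ _ hsol
  -- uniformizer of `F`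
  haveI := isDVR_O_of_finite V K F
  obtain ⟨s, hs0, hs⟩ := exists_isU (V := V) F
  obtain ⟨e₁, h2⟩ := exists_pow_eq_of_isU F hs hs0 (hKF hπ₀.1) hπ₀0 hπ₀.2.1.le
  have he₁0 : e₁ ≠ 0 := by
    rintro rfl
    rw [pow_zero] at h2
    exact absurd hπ₀.2.1 (by rw [h2]; exact lt_irrefl _)
  have hϖ0 : ϖ₁ ≠ 0 := by
    rintro rfl
    rw [zero_pow he0] at hϖ₁
    exact hπ₀0 hϖ₁.symm
  have hϖ1 : V.valuation ϖ₁ ≤ 1 := by
    apply (pow_le_one_iff_of_nonneg zero_le he0).mp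
    rw [← map_pow, hϖ₁]
    exact hπ₀.2.1.le
  obtain ⟨m, hm⟩ := exists_pow_eq_of_isU F hs hs0 hϖF hϖ0 hϖ1
  have hdiv : e ∣ e₁ := by
    have h3 : V.valuation s ^ (m * e) = V.valuation s ^ e₁ := by
      rw [pow_mul, ← hm, ← map_pow, hϖ₁, h2]
    have hs_pos : 0 < V.valuation s := zero_lt_iff.mpr ((Valuation.ne_zero_iff _).mpr hs0)
    have : m * e = e₁ := by
      apply le_antisymm
      · exact (pow_le_pow_iff_right_of_lt_one₀ hs_pos hs.2.1).mp (le_of_eq h3.symm)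
      · exact (pow_le_pow_iff_right_of_lt_one₀ hs_pos hs.2.1).mp (le_of_eq h3)
    exact ⟨m, by rw [← this, mul_comm]⟩
  have hrange : rangeσ K F σ = F := by
    ext x
    constructor
    · rintro ⟨y, rfl⟩
      exact y.2
    · intro hx
      exact ⟨⟨x, hx⟩, rfl⟩
  have hWeq : (O V (Lh ⊔ rangeσ K F σ)).comap (σN K Lh F σ) = O V F := rfl
  have hA : ∀ a : O V K, (algebraMap K F).comp (algebraMap (O V K) K) a ∈
      (O V (Lh ⊔ rangeσ K F σ)).comap (σN K Lh F σ) := fun a => a.2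
  have hram := ramIdx'_of_eq K F _ hWeq hA hπ₀ hπ₀0 hs he₁0 h2
  obtain ⟨hwu, -⟩ := happ hA (by rw [heB, hram]; exact hdiv)
  have hfinal := wu_of_comap_wu V K Lh F σ hwu
  rw [hrange] at hfinal
  exact ⟨F, hKF, ⟨hFfin, hFnorm⟩, hfinal⟩

end Groth.Agent.H6.EppGen
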