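import Mathlib
import Groth.Agent.Lib.Helper6.EG30
import Groth.Agent.Lib.Helper6.EG29
import Groth.Agent.S1988

/-!
# Epp's theorem: weak solutions exist
-/

set_option autoImplicit false
universe u

namespace Groth.Agent.H6.EppGen

open IsLocalRing Groth.Agent.H8 Groth.Agent.H6.EppTower Polynomial

set_option maxHeartbeats 4000000 in
/-- Epp's theorem, residue characteristic zero, complete top ring. -/
theorem epp_complete_tame (A C K M : Type u)
    [CommRing A] [IsDomain A] [IsDiscreteValuationRing A]
    [CommRing C] [IsDomain C] [IsDiscreteValuationRing C] [Algebra A C]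
    [IsLocalHom (algebraMap A C)]
    [Field K] [Field M] [Algebra A K] [IsFractionRing A K] [Algebra C M] [IsFractionRing C M]
    [Algebra K M] [Algebra A M] [IsScalarTower A K M] [IsScalarTower A C M]
    [IsAdicComplete (maximalIdeal C) C] [CharZero (ResidueField A)] :
    ∃ (K₁ : Type u) (_ : Field K₁) (_ : Algebra K K₁), FiniteDimensional K K₁ ∧
      EtRam.IsWeakSolution C K M K₁ := by
  classical
  obtain ⟨V, hV⟩ := RI.exists_dominates_of_local
    ((algebraMap M (AlgebraicClosure M)).comp (algebraMap C M))
  have hVA : EtRam.Dominates A ((algebraMap K (AlgebraicClosure M)).comp (algebraMap A K)) V :=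
    dominates_of_tower A C K M hV
  set Kf : Subfield (AlgebraicClosure M) := (algebraMap K (AlgebraicClosure M)).fieldRange with hKf
  set Lh : Subfield (AlgebraicClosure M) := (algebraMap M (AlgebraicClosure M)).fieldRange with hLh
  have hKfLh : Kf ≤ Lh := fieldRange_le_fieldRange K M
  haveI : Fact (Kf ≤ Lh) := ⟨hKfLh⟩
  let eA := equivO hVA
  let eC := equivO hV
  haveI dvrKf : IsDiscreteValuationRing (O V Kf) :=
    IsDiscreteValuationRing.RingEquivClass.isDiscreteValuationRing eA
  haveI dvrLh : IsDiscreteValuationRing (O V Lh) :=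
    IsDiscreteValuationRing.RingEquivClass.isDiscreteValuationRing eC
  haveI : CharZero (ResidueField (O V Kf)) :=
    charZero_of_injective_ringHom (ResidueField.mapEquiv eA).injective
  obtain ⟨F, hKF, ⟨hfinF, hnormF⟩, hwuF⟩ := tame_internal (V := V) Kf Lh
  have huniq : ∀ (M' : Type u) [Field M'] [Algebra M M'] [FiniteDimensional M M']
      (W₁ W₂ : ValuationSubring M'),
      EtRam.Dominates C ((algebraMap M M').comp (algebraMap C M)) W₁ →
      EtRam.Dominates C ((algebraMap M M').comp (algebraMap C M)) W₂ → W₁ = W₂ := by
    intro M' _ _ _ W₁ W₂ h₁ h₂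
    letI : Algebra C M' := ((algebraMap M M').comp (algebraMap C M)).toAlgebra
    haveI : IsScalarTower C M M' := IsScalarTower.of_algebraMap_eq (fun _ => rfl)
    exact dominating_unique (K := M) (A := C) h₂ h₁
  have hfinal := weakSolution_of_internal V C K M hV huniq F hKF hfinF hnormF hwuF
  exact ⟨F, inferInstance,
    ((Subfield.inclusion hKF).comp
      (algebraMap K (AlgebraicClosure M)).rangeRestrictField).toAlgebra, hfinal⟩

set_option maxHeartbeats 4000000 in
/-- **Epp's theorem** (weak solutions). -/
theorem epp_general (A B K L : Type u) [CommRing A] [IsDomain A] [IsDiscreteValuationRing A]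
    [CommRing B] [IsDomain B] [IsDiscreteValuationRing B] [Algebra A B]
    [IsLocalHom (algebraMap A B)] (hinj : Function.Injective (algebraMap A B))
    [Field K] [Field L] [Algebra A K] [IsFractionRing A K] [Algebra B L] [IsFractionRing B L]
    [Algebra K L] [Algebra A L] [IsScalarTower A K L] [IsScalarTower A B L]
    (hres : ∀ p : ℕ, p.Prime → CharP (IsLocalRing.ResidueField A) p →
      ∀ x : IsLocalRing.ResidueField B,
        (∀ n : ℕ, ∃ y : IsLocalRing.ResidueField B, y ^ (p ^ n) = x) →
        IsSeparable (IsLocalRing.ResidueField A) x) :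
    ∃ (K₁ : Type u) (_ : Field K₁) (_ : Algebra K K₁) (_ : FiniteDimensional K K₁),
      EtRam.IsWeakSolution B K L K₁ := by
  classical
  obtain ⟨C, _, _, _, _, _, hinjBC, hcompl, hsepcl, hsepres⟩ := exists_complete_sepClosed B
  haveI := hcompl
  haveI := hsepcl
  haveI := hsepres
  obtain ⟨M, _, _, _⟩ : ∃ (M : Type u) (_ : Field M) (_ : Algebra C M), IsFractionRing C M :=
    ⟨FractionRing C, inferInstance, inferInstance, inferInstance⟩
  -- the instance web
  letI algAC : Algebra A C := ((algebraMap B C).comp (algebraMap A B)).toAlgebra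
  haveI tABC : IsScalarTower A B C := IsScalarTower.of_algebraMap_eq (fun _ => rfl)
  haveI locAC : IsLocalHom (algebraMap A C) :=
    RingHom.isLocalHom_comp (algebraMap B C) (algebraMap A B)
  have hinjAC : Function.Injective (algebraMap A C) := hinjBC.comp hinj
  letI algBM : Algebra B M := ((algebraMap C M).comp (algebraMap B C)).toAlgebra
  haveI tBCM : IsScalarTower B C M := IsScalarTower.of_algebraMap_eq (fun _ => rfl)
  have hinjBM : Function.Injective (algebraMap B M) :=
    (IsFractionRing.injective C M).comp hinjBC
  letI algLM : Algebra L M := (IsFractionRing.lift hinjBM).toAlgebra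
  haveI tBLM : IsScalarTower B L M :=
    IsScalarTower.of_algebraMap_eq (fun b => (IsFractionRing.lift_algebraMap hinjBM b).symm)
  letI algKM : Algebra K M := ((algebraMap L M).comp (algebraMap K L)).toAlgebra
  haveI tKLM : IsScalarTower K L M := IsScalarTower.of_algebraMap_eq (fun _ => rfl)
  letI algAM : Algebra A M := ((algebraMap C M).comp (algebraMap A C)).toAlgebra
  haveI tACM : IsScalarTower A C M := IsScalarTower.of_algebraMap_eq (fun _ => rfl)
  haveI tAKM : IsScalarTower A K M := IsScalarTower.of_algebraMap_eq (fun a => by
    show algebraMap C M (algebraMap B C (algebraMap A B a)) =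
      algebraMap L M (algebraMap K L (algebraMap A K a))
    rw [← IsScalarTower.algebraMap_apply A K L, IsScalarTower.algebraMap_apply A B L,
      ← IsScalarTower.algebraMap_apply B L M, IsScalarTower.algebraMap_apply B C M])
  -- a weak solution over `C`
  have hC : ∃ (K₁ : Type u) (_ : Field K₁) (_ : Algebra K K₁), FiniteDimensional K K₁ ∧
      EtRam.IsWeakSolution C K M K₁ := by
    obtain ⟨q, hq⟩ := CharP.exists (ResidueField A)
    rcases Nat.eq_zero_or_pos q with rfl | hqpos
    · haveI : CharZero (ResidueField A) := CharP.charP_to_charZero _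
      exact epp_complete_tame A C K M
    · have hqprime : q.Prime :=
        (CharP.char_is_prime_or_zero (ResidueField A) q).resolve_right hqpos.ne'
      haveI : Fact q.Prime := ⟨hqprime⟩
      haveI : CharP (ResidueField B) q :=
        charP_of_injective_algebraMap (algebraMap (ResidueField A) (ResidueField B)).injective q
      haveI : CharP (ResidueField C) q :=
        charP_of_injective_algebraMap (algebraMap (ResidueField A) (ResidueField C)).injective q
      have hresC : ∀ x : ResidueField C, x ∈ pcore q (ResidueField C) →
          (minpoly (ResidueField A) x).Separable ∧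
            ∀ i, (minpoly (ResidueField A) x).coeff i ∈ pcore q (ResidueField A) :=
        fun x hx => minpoly_pcore (κB := ResidueField B)
          (fun y hy => hres q hqprime hq y hy) x hx
      by_cases hqA : (q : A) = 0
      · exact epp_complete_equal q A C K M hinjAC hresC hqA
      · exact epp_complete_mixed q A C K M hinjAC hresC hqA
  obtain ⟨K₁, fK₁, aK₁, hfin, hweak⟩ := hC
  haveI := hfin
  exact ⟨K₁, fK₁, aK₁, hfin, (Groth.Agent.S1988.result A B C K L M K₁ hinj hinjBC).1 hweak⟩

end Groth.Agent.H6.EppGen
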