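import Mathlib

/-! # Euler products over finitely supported multiplicity functions -/

set_option autoImplicit false
set_option linter.unusedSectionVars false

namespace Groth.Agent.H6.EP

open Finset Filter Topology

variable {I : Type*} {𝕜 : Type*} [NormedField 𝕜] [CompleteSpace 𝕜]

/-- The weight of a multiplicity function. -/
noncomputable def wt (u : I → 𝕜) (α : I →₀ ℕ) : 𝕜 := α.prod (fun i m => u i ^ m)

lemma wt_zero (u : I → 𝕜) : wt u 0 = 1 := by simp [wt]

lemma wt_add (u : I → 𝕜) (α β : I →₀ ℕ) : wt u (α + β) = wt u α * wt u β := by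
  classical
  unfold wt
  exact Finsupp.prod_add_index' (fun _ => pow_zero _) (fun _ _ _ => pow_add _ _ _)

lemma wt_single (u : I → 𝕜) (j : I) (m : ℕ) : wt u (Finsupp.single j m) = u j ^ m := by
  unfold wt
  exact Finsupp.prod_single_index (pow_zero _)

lemma norm_wt (u : I → 𝕜) (α : I →₀ ℕ) : ‖wt u α‖ = wt (fun i => ‖u i‖) α := by
  unfold wt Finsupp.prod
  rw [norm_prod]
  simp [norm_pow]

/-- Multiplicity functions supported in `S`. -/
def Supp (S : Finset I) : Set (I →₀ ℕ) := {α | α.support ⊆ S}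

lemma mem_Supp {S : Finset I} {α : I →₀ ℕ} : α ∈ Supp S ↔ α.support ⊆ S := Iff.rfl

noncomputable def insertEquiv [DecidableEq I] (S : Finset I) (j : I) (hj : j ∉ S) :
    ℕ × Supp S ≃ Supp (insert j S) where
  toFun p := ⟨Finsupp.single j p.1 + p.2.1, by
    rw [mem_Supp]
    refine Finsupp.support_add.trans ?_
    apply Finset.union_subset
    · exact Finsupp.support_single_subset.trans (by simp)
    · exact p.2.2.trans (Finset.subset_insert _ _)⟩
  invFun β := (β.1 j, ⟨β.1.erase j, by
    rw [mem_Supp, Finsupp.support_erase]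
    intro i hi
    rw [Finset.mem_erase] at hi
    have := β.2 hi.2
    rw [Finset.mem_insert] at this
    rcases this with h | h
    · exact absurd h hi.1
    · exact h⟩)
  left_inv p := by
    obtain ⟨m, α, hα⟩ := p
    have hαj : α j = 0 := by
      by_contra h
      exact hj (hα (Finsupp.mem_support_iff.2 h))
    refine Prod.ext ?_ (Subtype.ext ?_)
    · simp [hαj]
    · simp only
      ext i
      by_cases hi : i = j
      · subst hi; simp [hαj]
      · simp [Finsupp.erase_ne hi, Finsupp.single_apply, Ne.symm hi]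
  right_inv β := by
    ext i
    simp only
    by_cases hi : i = j
    · subst hi; simp
    · simp [Finsupp.erase_ne hi, Finsupp.single_apply, Ne.symm hi]

theorem core [DecidableEq I] (u : I → 𝕜) (hu : ∀ i, ‖u i‖ < 1) (S : Finset I) :
    Summable (fun α : Supp S => ‖wt u α.1‖) ∧
      HasSum (fun α : Supp S => wt u α.1) (∏ i ∈ S, (1 - u i)⁻¹) := by
  induction S using Finset.induction_on with
  | empty =>
    have hU : ∀ α : Supp (∅ : Finset I), α = ⟨0, by simp [mem_Supp]⟩ := by
      intro α
      ext1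
      have := α.2
      rw [mem_Supp, Finset.subset_empty, Finsupp.support_eq_empty] at this
      exact this
    haveI : Unique (Supp (∅ : Finset I)) := ⟨⟨⟨0, by simp [mem_Supp]⟩⟩, hU⟩
    refine ⟨(hasSum_unique _).summable, ?_⟩
    have := hasSum_unique (fun α : Supp (∅ : Finset I) => wt u α.1)
    rw [Finset.prod_empty]
    have h1 : wt u (default : Supp (∅ : Finset I)).1 = 1 := by
      rw [hU default]; exact wt_zero u
    rw [h1] at this
    exact this
  | insert j S hj ih =>
    obtain ⟨ih1, ih2⟩ := ih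
    have hg1 : Summable (fun m : ℕ => ‖u j ^ m‖) := by
      simp_rw [norm_pow]
      exact summable_geometric_of_lt_one (norm_nonneg _) (hu j)
    have hg2 : HasSum (fun m : ℕ => u j ^ m) (1 - u j)⁻¹ :=
      hasSum_geometric_of_norm_lt_one (hu j)
    have key : ∀ p : ℕ × Supp S, wt u ((insertEquiv S j hj) p).1 = u j ^ p.1 * wt u p.2.1 := by
      intro p
      change wt u (Finsupp.single j p.1 + p.2.1) = _
      rw [wt_add, wt_single]
    constructor
    · rw [← (insertEquiv S j hj).summable_iff]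
      have := Summable.mul_norm hg1 ih1
      refine this.congr ?_
      intro p
      simp only [Function.comp_apply]
      rw [key]
    · rw [← (insertEquiv S j hj).hasSum_iff, Finset.prod_insert hj]
      have := HasSum.mul hg2 ih2 (summable_mul_of_summable_norm hg1 ih1)
      refine this.congr_fun ?_
      intro p
      simp only [Function.comp_apply]
      rw [key]


lemma inv_one_sub_le_exp {t ρ : ℝ} (ht : 0 ≤ t) (htρ : t ≤ ρ) (hρ : ρ < 1) :
    (1 - t)⁻¹ ≤ Real.exp (t / (1 - ρ)) := by
  have h1 : 0 < 1 - ρ := by linarith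
  have h2 : 0 < 1 - t := by linarith
  have h3 : (1 - t)⁻¹ = 1 + t / (1 - t) := by
    field_simp
    ring
  rw [h3]
  have h4 : t / (1 - t) ≤ t / (1 - ρ) := by
    apply div_le_div_of_nonneg_left ht h1
    linarith
  have := Real.add_one_le_exp (t / (1 - ρ))
  linarith

theorem summable_norm_wt (u : I → 𝕜) (ρ : ℝ) (hρ : ρ < 1) (hu : ∀ i, ‖u i‖ ≤ ρ)
    (hs : Summable (fun i => ‖u i‖)) :
    Summable (fun α : I →₀ ℕ => ‖wt u α‖) := by
  classical
  simp_rw [norm_wt]
  set t : I → ℝ := fun i => ‖u i‖ with ht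
  have ht0 : ∀ i, 0 ≤ t i := fun i => norm_nonneg _
  have hwt0 : ∀ α : I →₀ ℕ, 0 ≤ wt t α := by
    intro α
    unfold wt Finsupp.prod
    exact Finset.prod_nonneg fun i _ => pow_nonneg (ht0 i) _
  have htn : ∀ i, ‖t i‖ < 1 := by
    intro i
    rw [Real.norm_of_nonneg (ht0 i)]
    exact (hu i).trans_lt hρ
  refine summable_of_sum_le (c := Real.exp ((∑' i, t i) / (1 - ρ))) hwt0 ?_
  intro A
  set S : Finset I := A.biUnion Finsupp.support with hS
  obtain ⟨-, h2⟩ := core t htn S
  have h3 : HasSum (Set.indicator (Supp S) (wt t)) (∏ i ∈ S, (1 - t i)⁻¹) :=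
    (hasSum_subtype_iff_indicator (s := Supp S) (f := wt t)).1 h2
  have h4 : ∑ α ∈ A, wt t α = ∑ α ∈ A, Set.indicator (Supp S) (wt t) α := by
    apply Finset.sum_congr rfl
    intro α hα
    rw [Set.indicator_of_mem]
    rw [mem_Supp, hS]
    exact Finset.subset_biUnion_of_mem Finsupp.support hα
  rw [h4]
  refine (sum_le_hasSum A (fun α _ => Set.indicator_nonneg (fun a _ => hwt0 a) α) h3).trans ?_
  calc ∏ i ∈ S, (1 - t i)⁻¹ ≤ ∏ i ∈ S, Real.exp (t i / (1 - ρ)) := by
        apply Finset.prod_le_prod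
        · intro i _
          have : 0 < 1 - t i := by linarith [hu i]
          exact (inv_pos.2 this).le
        · intro i _
          exact inv_one_sub_le_exp (ht0 i) (hu i) hρ
    _ = Real.exp (∑ i ∈ S, t i / (1 - ρ)) := (Real.exp_sum _ _).symm
    _ ≤ Real.exp ((∑' i, t i) / (1 - ρ)) := by
        apply Real.exp_le_exp.2
        rw [← Finset.sum_div]
        apply div_le_div_of_nonneg_right _ (by linarith : (0:ℝ) ≤ 1 - ρ)
        exact hs.sum_le_tsum S (fun i _ => ht0 i)

theorem hasProd_wt (u : I → 𝕜) (ρ : ℝ) (hρ : ρ < 1) (hu : ∀ i, ‖u i‖ ≤ ρ)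
    (hs : Summable (fun i => ‖u i‖)) :
    HasProd (fun i => (1 - u i)⁻¹) (∑' α, wt u α) := by
  classical
  have hsw := summable_norm_wt u ρ hρ hu hs
  have hun : ∀ i, ‖u i‖ < 1 := fun i => (hu i).trans_lt hρ
  unfold HasProd
  have h1 : ∀ S : Finset I, ∏ i ∈ S, (1 - u i)⁻¹ = ∑' α, Set.indicator (Supp S) (wt u) α := by
    intro S
    obtain ⟨-, h2⟩ := core u hun S
    exact ((hasSum_subtype_iff_indicator (s := Supp S) (f := wt u)).1 h2).tsum_eq.symm
  simp_rw [h1]
  refine tendsto_tsum_of_dominated_convergence (bound := fun α => ‖wt u α‖) hsw ?_ ?_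
  · intro α
    apply tendsto_const_nhds.congr'
    filter_upwards [eventually_ge_atTop α.support] with S hS
    rw [Set.indicator_of_mem]
    exact hS
  · apply Filter.Eventually.of_forall
    intro S α
    exact norm_indicator_le_norm_self _ _

theorem tsum_wt_ne_zero (u : I → 𝕜) (ρ : ℝ) (hρ : ρ < 1) (hu : ∀ i, ‖u i‖ ≤ ρ)
    (hs : Summable (fun i => ‖u i‖)) : ∑' α, wt u α ≠ 0 := by
  have hun : ∀ i, ‖u i‖ < 1 := fun i => (hu i).trans_lt hρ
  have hne : ∀ i, 1 - u i ≠ 0 := by
    intro i h
    have : u i = 1 := (sub_eq_zero.1 h).symm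
    have := hun i
    rw [‹u i = 1›, norm_one] at this
    exact lt_irrefl _ this
  rw [← (hasProd_wt u ρ hρ hu hs).tprod_eq]
  have h1 : (fun i => (1 - u i)⁻¹) = fun i => 1 + ((1 - u i)⁻¹ - 1) := by
    funext i; ring
  rw [h1]
  apply tprod_one_add_ne_zero_of_summable
  · intro i
    rw [add_sub_cancel]
    exact inv_ne_zero (hne i)
  · have h0 : 0 < 1 - ρ := by linarith
    refine Summable.of_nonneg_of_le (fun i => norm_nonneg _) ?_ (hs.div_const (1 - ρ))
    intro i
    have h2 : (1 - u i)⁻¹ - 1 = u i / (1 - u i) := by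
      field_simp [hne i]
      ring
    rw [h2, norm_div]
    have h3 : 1 - ρ ≤ ‖1 - u i‖ := by
      have := norm_sub_norm_le (1 : 𝕜) (u i)
      rw [norm_one] at this
      linarith [hu i]
    exact div_le_div_of_nonneg_left (norm_nonneg _) h0 h3

end Groth.Agent.H6.EP
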