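import Groth.Agent.Lib.Helper6.EP1

/-! # L-series of a counting function of multiplicity functions by norm -/

set_option autoImplicit false
set_option linter.unusedSectionVars false

namespace Groth.Agent.H6.EP

open Finset Filter Topology Complex

variable {I : Type*}

/-- The norm of a multiplicity function. -/
noncomputable def Nm (N : I → ℕ) (α : I →₀ ℕ) : ℕ := α.prod (fun x m => N x ^ m)

/-- The counting sequence: number of multiplicity functions supported in `G` of norm `n`. -/
noncomputable def cnt (N : I → ℕ) (G : Set I) (n : ℕ) : ℂ :=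
  (Nat.card {α : I →₀ ℕ // (∀ x ∈ α.support, x ∈ G) ∧ Nm N α = n} : ℂ)

variable (N : I → ℕ) (G : Set I) (s : ℂ)

/-- The local weight. -/
noncomputable def uu (x : I) : ℂ := by
  classical
  exact if x ∈ G ∧ 2 ≤ N x then (N x : ℂ) ^ (-s) else 0

/-- Good multiplicity functions. -/
def Good (α : I →₀ ℕ) : Prop := ∀ x ∈ α.support, x ∈ G ∧ 2 ≤ N x

/-- The norm, set to zero on bad multiplicity functions. -/
noncomputable def nu (α : I →₀ ℕ) : ℕ := by
  classical
  exact if Good N G α then Nm N α else 0

/-- The term function. -/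
noncomputable def FF (n : ℕ) : ℂ := if n = 0 then 0 else (n : ℂ) ^ (-s)

lemma Nm_ne_zero_of_good {α : I →₀ ℕ} (h : Good N G α) : Nm N α ≠ 0 := by
  unfold Nm Finsupp.prod
  rw [Finset.prod_ne_zero_iff]
  intro x hx
  apply pow_ne_zero
  have := (h x hx).2
  omega

lemma natCast_prod_cpow (S : Finset I) (g : I → ℕ) (z : ℂ) :
    ((∏ x ∈ S, g x : ℕ) : ℂ) ^ z = ∏ x ∈ S, (g x : ℂ) ^ z := by
  classical
  induction S using Finset.induction_on with
  | empty => simp
  | insert a S ha ih =>
    rw [Finset.prod_insert ha, Finset.prod_insert ha, Nat.cast_mul, natCast_mul_natCast_cpow, ih]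

lemma natCast_pow_cpow (n k : ℕ) (z : ℂ) : ((n ^ k : ℕ) : ℂ) ^ z = ((n : ℂ) ^ z) ^ k := by
  induction k with
  | zero => simp
  | succ k ih => rw [pow_succ, pow_succ, Nat.cast_mul, natCast_mul_natCast_cpow, ih]

lemma wt_eq (α : I →₀ ℕ) : wt (uu N G s) α = FF s (nu N G α) := by
  classical
  unfold nu
  by_cases h : Good N G α
  · rw [if_pos h]
    unfold FF
    rw [if_neg (Nm_ne_zero_of_good N G h)]
    unfold wt Nm Finsupp.prod
    rw [natCast_prod_cpow]
    apply Finset.prod_congr rfl
    intro x hx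
    rw [natCast_pow_cpow]
    change (uu N G s x) ^ (α x) = _
    congr 1
    unfold uu
    rw [if_pos (h x hx)]
  · rw [if_neg h]
    unfold Good at h
    push Not at h
    obtain ⟨x, hx, hbad⟩ := h
    unfold FF
    rw [if_pos rfl]
    unfold wt Finsupp.prod
    apply Finset.prod_eq_zero hx
    have : uu N G s x = 0 := by
      unfold uu
      rw [if_neg]
      intro h'
      exact absurd h'.2 (by have := hbad h'.1; omega)
    change (uu N G s x) ^ (α x) = 0
    rw [this]
    apply zero_pow
    exact Finsupp.mem_support_iff.1 hx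

lemma card_fiber (hN1 : ∀ x ∈ G, N x ≠ 1) {n : ℕ} (hn : n ≠ 0) :
    (Nat.card {α : I →₀ ℕ // nu N G α = n} : ℂ) = cnt N G n := by
  classical
  unfold cnt
  congr 2
  apply congrArg
  ext α
  unfold nu
  constructor
  · intro h
    by_cases hg : Good N G α
    · rw [if_pos hg] at h
      exact ⟨fun x hx => (hg x hx).1, h⟩
    · rw [if_neg hg] at h
      exact absurd h.symm hn
  · rintro ⟨h1, h2⟩
    have hg : Good N G α := by
      intro x hx
      refine ⟨h1 x hx, ?_⟩
      have hx0 : α x ≠ 0 := Finsupp.mem_support_iff.1 hx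
      have hdvd : N x ^ α x ∣ Nm N α := by
        unfold Nm Finsupp.prod
        exact Finset.dvd_prod_of_mem (fun y => N y ^ α y) hx
      have hNx0 : N x ≠ 0 := by
        intro h0
        rw [h0, zero_pow hx0, h2] at hdvd
        exact hn (zero_dvd_iff.1 hdvd)
      have := hN1 x (h1 x hx)
      omega
    rw [if_pos hg]
    exact h2


lemma term_eq (hN1 : ∀ x ∈ G, N x ≠ 1) (n : ℕ) :
    LSeries.term (cnt N G) s n = Nat.card {α : I →₀ ℕ // nu N G α = n} • FF s n := by
  rcases eq_or_ne n 0 with rfl | hn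
  · simp [FF]
  · rw [LSeries.term_of_ne_zero hn, nsmul_eq_mul, card_fiber N G hN1 hn]
    unfold FF
    rw [if_neg hn, cpow_neg, div_eq_mul_inv]

theorem main (hN1 : ∀ x ∈ G, N x ≠ 1) (hs : 0 < s.re)
    (hsum : Summable (fun x : I => ‖uu N G s x‖)) :
    LSeriesSummable (cnt N G) s ∧ LSeries (cnt N G) s ≠ 0 := by
  classical
  set ρ : ℝ := (2 : ℝ) ^ (-s.re) with hρdef
  have hρ : ρ < 1 := Real.rpow_lt_one_of_one_lt_of_neg (by norm_num) (by linarith)
  have hu : ∀ x, ‖uu N G s x‖ ≤ ρ := by
    intro x
    unfold uu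
    split_ifs with h
    · have hpos : 0 < N x := by omega
      rw [norm_natCast_cpow_of_pos hpos]
      simp only [neg_re]
      apply Real.rpow_le_rpow_of_nonpos (by norm_num) _ (by linarith)
      exact_mod_cast h.2
    · rw [norm_zero]
      exact (Real.rpow_pos_of_pos (by norm_num) _).le
  have hA := summable_norm_wt (uu N G s) ρ hρ hu hsum
  have hB := tsum_wt_ne_zero (uu N G s) ρ hρ hu hsum
  simp_rw [wt_eq] at hA hB
  have hA' : Summable (fun α : I →₀ ℕ => FF s (nu N G α)) := hA.of_norm
  let e := Equiv.sigmaFiberEquiv (nu N G)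
  have he : ∀ p : (Σ n, {α : I →₀ ℕ // nu N G α = n}), nu N G (e p) = p.1 := fun p => p.2.2
  have hS : Summable (fun p : (Σ n, {α : I →₀ ℕ // nu N G α = n}) => FF s p.1) := by
    have := e.summable_iff.2 hA'
    refine this.congr ?_
    intro p
    simp only [Function.comp_apply]
    rw [he]
  have hterm : ∀ n, LSeries.term (cnt N G) s n
      = ∑' _ : {α : I →₀ ℕ // nu N G α = n}, FF s n := by
    intro n
    rw [term_eq N G s hN1, tsum_const]
  constructor
  · unfold LSeriesSummable
    have := hS.sigma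
    refine this.congr ?_
    intro n
    rw [hterm]
  · unfold LSeries
    simp_rw [hterm]
    rw [← hS.tsum_sigma' (fun n => hS.sigma_factor n)]
    have : ∑' p : (Σ n, {α : I →₀ ℕ // nu N G α = n}), FF s p.1
        = ∑' α : I →₀ ℕ, FF s (nu N G α) := by
      rw [← e.tsum_eq]
      apply tsum_congr
      intro p
      rw [he]
    rw [this]
    exact hB

end Groth.Agent.H6.EP
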