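import Mathlib

set_option autoImplicit false

namespace Groth.Agent.H6.PC

open Polynomial

theorem hom_ext_of_adjoin {R A F : Type*} [CommRing R] [CommRing A] [Algebra R A] [CommRing F]
    [Subsingleton (R →+* F)] {ι : Type*} (a : ι → A)
    (hgen : Algebra.adjoin R (Set.range a) = ⊤) (φ φ' : A →+* F)
    (h : ∀ j, φ (a j) = φ' (a j)) : φ = φ' := by
  have hR : φ.comp (algebraMap R A) = φ'.comp (algebraMap R A) := Subsingleton.elim _ _
  ext x
  have hx : x ∈ Algebra.adjoin R (Set.range a) := by rw [hgen]; trivial
  induction hx using Algebra.adjoin_induction with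
  | mem z hz =>
    obtain ⟨j, rfl⟩ := hz
    exact h j
  | algebraMap r => exact RingHom.congr_fun hR r
  | add z z' _ _ h1 h2 => rw [map_add, map_add, h1, h2]
  | mul z z' _ _ h1 h2 => rw [map_mul, map_mul, h1, h2]

/-- Root counting: if `A` is generated over `R` by elements `a j`, each a root of a polynomial
`P j` over `R[t]` that stays nonzero under every homomorphism to the finite field `F`, then the
number of homomorphisms `A → F` is at most `(∏ deg P j) * |F|^s`. -/
theorem card_hom_le {R A F : Type*} [CommRing R] [CommRing A] [Algebra R A] [Field F] [Fintype F]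
    [Subsingleton (R →+* F)] {s : ℕ} {ι : Type*} [Fintype ι] (t : Fin s → A) (a : ι → A)
    (hgen : Algebra.adjoin R (Set.range a) = ⊤)
    (P : ι → Polynomial (MvPolynomial (Fin s) R))
    (hroot : ∀ j, Polynomial.eval₂
      ((MvPolynomial.aeval t : MvPolynomial (Fin s) R →ₐ[R] A) : MvPolynomial (Fin s) R →+* A)
      (a j) (P j) = 0)
    (hne : ∀ (φ : A →+* F) (j : ι), (P j).map
      (φ.comp ((MvPolynomial.aeval t : MvPolynomial (Fin s) R →ₐ[R] A) :
        MvPolynomial (Fin s) R →+* A)) ≠ 0) :
    Nat.card (A →+* F) ≤ (∏ j, (P j).natDegree) * Fintype.card F ^ s := by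
  classical
  -- injectivity of evaluation at generators
  have hinj : Function.Injective (fun (φ : A →+* F) (j : ι) => φ (a j)) := by
    intro φ φ' h
    exact hom_ext_of_adjoin a hgen φ φ' (fun j => congrFun h j)
  have hfin : Finite (A →+* F) := Finite.of_injective _ hinj
  have : Fintype (A →+* F) := Fintype.ofFinite _
  rw [Nat.card_eq_fintype_card]
  rcases isEmpty_or_nonempty (A →+* F) with hE | ⟨⟨φ₀⟩⟩
  · rw [Fintype.card_eq_zero]; exact Nat.zero_le _
  let ψ : R →+* F := φ₀.comp (algebraMap R A)
  let α : MvPolynomial (Fin s) R →+* A :=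
    ((MvPolynomial.aeval t : MvPolynomial (Fin s) R →ₐ[R] A) : MvPolynomial (Fin s) R →+* A)
  let Q : ι → (Fin s → F) → F[X] := fun j x => (P j).map (MvPolynomial.eval₂Hom ψ x)
  have hQ : ∀ (φ : A →+* F), MvPolynomial.eval₂Hom ψ (fun i => φ (t i)) = φ.comp α := by
    intro φ
    apply MvPolynomial.ringHom_ext
    · intro r
      have hR : ψ = φ.comp (algebraMap R A) := Subsingleton.elim _ _
      simp [α, hR]
    · intro i
      simp [α]
  let n : ℕ := ∏ j, (P j).natDegree
  have key := Finset.card_le_mul_card_image (f := fun (φ : A →+* F) (i : Fin s) => φ (t i))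
    (Finset.univ : Finset (A →+* F)) n ?_
  · rw [Finset.card_univ] at key
    refine key.trans ?_
    apply Nat.mul_le_mul_left
    refine (Finset.card_le_univ _).trans ?_
    rw [Fintype.card_fun, Fintype.card_fin]
  · intro x hx
    -- the fibre over x
    let T : Finset (ι → F) := Fintype.piFinset (fun j => (Q j x).roots.toFinset)
    have hT : T.card ≤ n := by
      rw [Fintype.card_piFinset]
      apply Finset.prod_le_prod'
      intro j _
      refine (Multiset.toFinset_card_le _).trans ?_
      refine (Polynomial.card_roots' _).trans ?_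
      exact Polynomial.natDegree_map_le
    refine le_trans ?_ hT
    apply Finset.card_le_card_of_injOn (fun (φ : A →+* F) (j : ι) => φ (a j))
    · intro φ hφ
      rw [Finset.mem_coe, Finset.mem_filter] at hφ
      have hφx : (fun i => φ (t i)) = x := hφ.2
      rw [Finset.mem_coe, Fintype.mem_piFinset]
      intro j
      rw [Multiset.mem_toFinset, Polynomial.mem_roots']
      have hQj : Q j x = (P j).map (φ.comp α) := by
        show (P j).map (MvPolynomial.eval₂Hom ψ x) = _
        rw [← hφx, hQ φ]
      rw [hQj]
      refine ⟨hne φ j, ?_⟩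
      rw [Polynomial.IsRoot, Polynomial.eval_map, ← Polynomial.hom_eval₂, hroot j, map_zero]
    · exact hinj.injOn

end Groth.Agent.H6.PC
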