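import Mathlib
import Groth.Agent.Lib.Helper6.PC1
import Groth.Agent.Lib.Helper2.DimFG

set_option autoImplicit false

namespace Groth.Agent.H6.PC

open Polynomial
universe u v w

/-- Point count bound for a finitely generated algebra over a "prime-like" field. -/
theorem card_hom_le_of_field (k : Type w) [Field k]
    (A : Type u) [CommRing A] [Algebra k A] [Algebra.FiniteType k A] (r : ℕ)
    (hr : ringKrullDim A ≤ r) :
    ∃ c : ℕ, ∀ (F : Type v) [Field F] [Finite F], Subsingleton (k →+* F) →
      Nat.card (A →+* F) ≤ c * Nat.card F ^ r := by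
  classical
  rcases subsingleton_or_nontrivial A with hA | hA
  · refine ⟨0, fun F _ _ _ => ?_⟩
    have : IsEmpty (A →+* F) := by
      refine ⟨fun φ => ?_⟩
      have h1 : (1 : A) = 0 := Subsingleton.elim _ _
      have := congrArg φ h1
      rw [map_one, map_zero] at this
      exact one_ne_zero this
    simp
  obtain ⟨s, g, hginj, hgint⟩ := exists_integral_inj_algHom_of_fg k A
  -- dimension
  have hs : s ≤ r := by
    have h1 : ringKrullDim A = s := by
      algebraize [g.toRingHom]
      have : Algebra.IsIntegral (MvPolynomial (Fin s) k) A := ⟨hgint⟩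
      rw [Groth.Agent.H2.DimFG.ringKrullDim_eq_of_integral_injective (MvPolynomial (Fin s) k) A hginj,
        Groth.Agent.H2.DimFG.ringKrullDim_mvPolynomial_fin]
    rw [h1] at hr
    exact_mod_cast hr
  -- generators
  obtain ⟨S, hS⟩ := (Algebra.FiniteType.out : (⊤ : Subalgebra k A).FG)
  let a : S → A := Subtype.val
  have hgen : Algebra.adjoin k (Set.range a) = ⊤ := by
    rw [Subtype.range_coe]; exact hS
  let t : Fin s → A := fun i => g (MvPolynomial.X i)
  have hg : g = MvPolynomial.aeval t := MvPolynomial.aeval_unique g
  choose P hPmonic hProot using fun j : S => hgint (a j)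
  refine ⟨∏ j, (P j).natDegree, fun F _ _ hsub => ?_⟩
  have : Fintype F := Fintype.ofFinite F
  have h := card_hom_le (R := k) (F := F) t a hgen P ?_ ?_
  · refine h.trans ?_
    rw [Nat.card_eq_fintype_card]
    apply Nat.mul_le_mul_left
    exact Nat.pow_le_pow_right Fintype.card_pos hs
  · intro j
    have := hProot j
    rw [hg] at this
    exact this
  · intro φ j
    exact ((hPmonic j).map _).ne_zero

end Groth.Agent.H6.PC
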