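import Mathlib
import Groth.Agent.Lib.Helper9.Misc.FTZ
import Groth.Agent.Lib.Helper2.DimFG

set_option autoImplicit false

namespace Groth.Agent.H6.PC

open Polynomial TensorProduct
universe u

section loc
variable (A : Type u) [CommRing A]

/-- the map `A → ℚ ⊗ A` -/
noncomputable def iota : A →+* ℚ ⊗[ℤ] A :=
  (Algebra.TensorProduct.includeRight : A →ₐ[ℤ] ℚ ⊗[ℤ] A).toRingHom

attribute [local instance] Algebra.TensorProduct.rightAlgebra in
theorem isLoc : IsLocalization (Algebra.algebraMapSubmonoid A (nonZeroDivisors ℤ)) (ℚ ⊗[ℤ] A) :=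
  inferInstance

attribute [local instance] Algebra.TensorProduct.rightAlgebra in
theorem iota_surj (z : ℚ ⊗[ℤ] A) : ∃ (a : A) (m : ℤ), m ≠ 0 ∧ z * iota A (m : A) = iota A a := by
  have := isLoc A
  obtain ⟨⟨a, ⟨_, m, hm, rfl⟩⟩, h⟩ := IsLocalization.surj (Algebra.algebraMapSubmonoid A (nonZeroDivisors ℤ)) z
  refine ⟨a, m, nonZeroDivisors.ne_zero hm, ?_⟩
  have h2 : z * algebraMap A (ℚ ⊗[ℤ] A) (algebraMap ℤ A m) = algebraMap A (ℚ ⊗[ℤ] A) a := h
  rw [eq_intCast (algebraMap ℤ A)] at h2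
  exact h2

attribute [local instance] Algebra.TensorProduct.rightAlgebra in
theorem iota_eq_zero (a : A) (h : iota A a = 0) : ∃ m : ℤ, m ≠ 0 ∧ (m : A) * a = 0 := by
  have := isLoc A
  have h' : algebraMap A (ℚ ⊗[ℤ] A) a = 0 := h
  rw [IsLocalization.map_eq_zero_iff (Algebra.algebraMapSubmonoid A (nonZeroDivisors ℤ))] at h'
  obtain ⟨⟨_, m, hm, rfl⟩, h2⟩ := h'
  exact ⟨m, nonZeroDivisors.ne_zero hm, by simpa using h2⟩

end loc

section dim
variable (A : Type u) [CommRing A] [Algebra.FiniteType ℤ A]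

attribute [local instance] Algebra.TensorProduct.rightAlgebra in
/-- `dim (ℚ ⊗ A) + 1 ≤ dim A` for a finitely generated ring `A`. -/
theorem dim_succ_le (s : ℕ) (hs : ringKrullDim (ℚ ⊗[ℤ] A) = s) :
    ((s + 1 : ℕ) : WithBot ℕ∞) ≤ ringKrullDim A := by
  have hloc := isLoc A
  have hle : (s : WithBot ℕ∞) ≤ Order.krullDim (PrimeSpectrum (ℚ ⊗[ℤ] A)) := by
    rw [← hs]; rfl
  obtain ⟨l, hl⟩ := Order.le_krullDim_iff.mp hle
  let M := Algebra.algebraMapSubmonoid A (nonZeroDivisors ℤ)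
  -- comap is strictly monotone
  have hmono : StrictMono (PrimeSpectrum.comap (algebraMap A (ℚ ⊗[ℤ] A))) := by
    intro P Q hPQ
    rw [← PrimeSpectrum.asIdeal_lt_asIdeal] at hPQ ⊢
    refine lt_of_le_of_ne (Ideal.comap_mono hPQ.le) ?_
    intro heq
    apply hPQ.ne
    have h1 := IsLocalization.map_under M (ℚ ⊗[ℤ] A) P.asIdeal
    have h2 := IsLocalization.map_under M (ℚ ⊗[ℤ] A) Q.asIdeal
    rw [← h1, ← h2]
    exact congrArg _ heq
  let l' : LTSeries (PrimeSpectrum A) := l.map _ hmono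
  let q : PrimeSpectrum A := l'.last
  -- q is not maximal
  have hq : ¬ q.asIdeal.IsMaximal := by
    intro hmax
    let K := A ⧸ q.asIdeal
    let _ : Field K := Ideal.Quotient.field q.asIdeal
    have hfin : Module.Finite ℤ K := finite_of_finite_type_of_isJacobsonRing ℤ K
    have hint : Algebra.IsIntegral ℤ K := inferInstance
    have hinj : Function.Injective (algebraMap ℤ K) := by
      rw [injective_iff_map_eq_zero]
      intro n hn
      by_contra hn0
      have h1 : algebraMap ℤ K n = Ideal.Quotient.mk q.asIdeal (algebraMap ℤ A n) := rfl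
      rw [h1, Ideal.Quotient.eq_zero_iff_mem] at hn
      have h2 : algebraMap A (ℚ ⊗[ℤ] A) (algebraMap ℤ A n) ∈ l.last.asIdeal := hn
      have hu : IsUnit (algebraMap A (ℚ ⊗[ℤ] A) (algebraMap ℤ A n)) :=
        IsLocalization.map_units (ℚ ⊗[ℤ] A) (⟨algebraMap ℤ A n, n,
          mem_nonZeroDivisors_of_ne_zero hn0, rfl⟩ : M)
      exact l.last.isPrime.ne_top (Ideal.eq_top_of_isUnit_mem _ h2 hu)
    exact Int.not_isField (isField_of_isIntegral_of_isField hinj (Field.toIsField K))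
  obtain ⟨m, hm, hqm⟩ := Ideal.exists_le_maximal q.asIdeal q.isPrime.ne_top
  have hlt : q < ⟨m, hm.isPrime⟩ := by
    rw [← PrimeSpectrum.asIdeal_lt_asIdeal]
    refine lt_of_le_of_ne hqm ?_
    intro h
    apply hq
    rw [h]
    exact hm
  let l'' : LTSeries (PrimeSpectrum A) := l'.snoc ⟨m, hm.isPrime⟩ hlt
  have hlen : l''.length = s + 1 := by
    simp [l'', l', hl]
  have := Order.LTSeries.length_le_krullDim l''
  rw [hlen] at this
  exact this

end dim

section denom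
variable {s : ℕ}

attribute [local instance] MvPolynomial.algebraMvPolynomial in
/-- clearing denominators in a polynomial over `ℚ[X_1..X_s]` -/
theorem exists_clear_denom (Q : Polynomial (MvPolynomial (Fin s) ℚ)) :
    ∃ (P : Polynomial (MvPolynomial (Fin s) ℤ)) (D : ℤ), D ≠ 0 ∧
      P.map (MvPolynomial.map (Int.castRingHom ℚ)) =
        Polynomial.C (MvPolynomial.C (D : ℚ)) * Q := by
  obtain ⟨b, hb, h⟩ := IsLocalization.integerNormalization_spec
    ((nonZeroDivisors ℤ).map (MvPolynomial.C (σ := Fin s))) Q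
  obtain ⟨D, hD, rfl⟩ := hb
  refine ⟨IsLocalization.integerNormalization
    ((nonZeroDivisors ℤ).map (MvPolynomial.C (σ := Fin s))) Q, D, nonZeroDivisors.ne_zero hD, ?_⟩
  have h1 : algebraMap (MvPolynomial (Fin s) ℤ) (MvPolynomial (Fin s) ℚ) =
      MvPolynomial.map (Int.castRingHom ℚ) := rfl
  rw [← h1, h]
  rw [Algebra.smul_def]
  congr 1
  show Polynomial.C (algebraMap (MvPolynomial (Fin s) ℤ) (MvPolynomial (Fin s) ℚ)
    (MvPolynomial.C D)) = _
  rw [h1, MvPolynomial.map_C]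
  rfl

end denom

section generic
variable (A : Type u) [CommRing A] [Algebra.FiniteType ℤ A]

omit [Algebra.FiniteType ℤ A] in
theorem iota_intCast (n : ℤ) : iota A (n : A) = algebraMap ℚ (ℚ ⊗[ℤ] A) (n : ℚ) := by
  rw [map_intCast, map_intCast]

/-- generic Noether normalization for a finitely generated ring -/
theorem exists_almost_integral :
    (∃ N : ℤ, N ≠ 0 ∧ (N : A) = 0) ∨
    ∃ (s : ℕ) (t : Fin s → A), ((s + 1 : ℕ) : WithBot ℕ∞) ≤ ringKrullDim A ∧
      ∀ a : A, ∃ (P : Polynomial (MvPolynomial (Fin s) ℤ)) (e : ℕ) (D : ℤ), D ≠ 0 ∧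
        P.coeff e = MvPolynomial.C D ∧
        Polynomial.eval₂ ((MvPolynomial.aeval t : MvPolynomial (Fin s) ℤ →ₐ[ℤ] A) :
          MvPolynomial (Fin s) ℤ →+* A) a P = 0 := by
  rcases subsingleton_or_nontrivial (ℚ ⊗[ℤ] A) with hsub | hnt
  · left
    have h1 : iota A 1 = 0 := Subsingleton.elim _ _
    obtain ⟨m, hm, h⟩ := iota_eq_zero A 1 h1
    exact ⟨m, hm, by simpa using h⟩
  right
  obtain ⟨s, g, hginj, hgint⟩ := exists_integral_inj_algHom_of_fg ℚ (ℚ ⊗[ℤ] A)
  have hdim : ringKrullDim (ℚ ⊗[ℤ] A) = s := by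
    algebraize [g.toRingHom]
    have : Algebra.IsIntegral (MvPolynomial (Fin s) ℚ) (ℚ ⊗[ℤ] A) := ⟨hgint⟩
    rw [Groth.Agent.H2.DimFG.ringKrullDim_eq_of_integral_injective (MvPolynomial (Fin s) ℚ)
      (ℚ ⊗[ℤ] A) hginj, Groth.Agent.H2.DimFG.ringKrullDim_mvPolynomial_fin]
  choose t m hm0 hm using fun i : Fin s => iota_surj A (g (MvPolynomial.X i))
  refine ⟨s, t, dim_succ_le A s hdim, ?_⟩
  let σ : MvPolynomial (Fin s) ℚ →ₐ[ℚ] MvPolynomial (Fin s) ℚ :=
    MvPolynomial.aeval (fun i => MvPolynomial.C ((m i : ℚ)⁻¹) * MvPolynomial.X i)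
  let g' : MvPolynomial (Fin s) ℚ →ₐ[ℚ] ℚ ⊗[ℤ] A :=
    MvPolynomial.aeval (fun i => iota A (t i))
  have hcomp : g'.comp σ = g := by
    apply MvPolynomial.algHom_ext
    intro i
    have hmi : ((m i : ℤ) : ℚ) ≠ 0 := by exact_mod_cast hm0 i
    have h1 := hm i
    rw [iota_intCast] at h1
    simp only [AlgHom.comp_apply, σ, g', MvPolynomial.aeval_X, map_mul, MvPolynomial.aeval_C]
    rw [← h1, mul_comm (g (MvPolynomial.X i)), ← mul_assoc, ← map_mul, inv_mul_cancel₀ hmi,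
      map_one, one_mul]
  let α : MvPolynomial (Fin s) ℤ →+* A :=
    ((MvPolynomial.aeval t : MvPolynomial (Fin s) ℤ →ₐ[ℤ] A) : MvPolynomial (Fin s) ℤ →+* A)
  have hα : (iota A).comp α = (g' : MvPolynomial (Fin s) ℚ →+* ℚ ⊗[ℤ] A).comp
      (MvPolynomial.map (Int.castRingHom ℚ)) := by
    apply MvPolynomial.ringHom_ext
    · intro n
      simp [α, g']
    · intro i
      simp [α, g']
  intro a
  obtain ⟨p, hpmonic, hp⟩ := hgint (iota A a)
  let Q : Polynomial (MvPolynomial (Fin s) ℚ) := p.map (σ : MvPolynomial (Fin s) ℚ →+* _)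
  have hQmonic : Q.Monic := hpmonic.map _
  have hQ : Polynomial.eval₂ (g' : MvPolynomial (Fin s) ℚ →+* ℚ ⊗[ℤ] A) (iota A a) Q = 0 := by
    rw [Polynomial.eval₂_map]
    have : (g' : MvPolynomial (Fin s) ℚ →+* ℚ ⊗[ℤ] A).comp
        (σ : MvPolynomial (Fin s) ℚ →+* _) = (g : MvPolynomial (Fin s) ℚ →+* ℚ ⊗[ℤ] A) := by
      rw [← hcomp]; rfl
    rw [this]
    exact hp
  obtain ⟨P', D, hD, hP'⟩ := exists_clear_denom Q
  -- the value of P' at a is torsion
  have h0 : iota A (Polynomial.eval₂ α a P') = 0 := by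
    rw [Polynomial.hom_eval₂, hα, ← Polynomial.eval₂_map, hP', Polynomial.eval₂_mul, hQ, mul_zero]
  obtain ⟨M, hM, hMz⟩ := iota_eq_zero A _ h0
  refine ⟨Polynomial.C (MvPolynomial.C M) * P', Q.natDegree, M * D, mul_ne_zero hM hD, ?_, ?_⟩
  · rw [Polynomial.coeff_C_mul]
    have h1 : (P'.map (MvPolynomial.map (Int.castRingHom ℚ))).coeff Q.natDegree =
        MvPolynomial.C (D : ℚ) := by
      rw [hP', Polynomial.coeff_C_mul, hQmonic.coeff_natDegree, mul_one]
    rw [Polynomial.coeff_map] at h1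
    have h2 : MvPolynomial.map (Int.castRingHom ℚ) (P'.coeff Q.natDegree) =
        MvPolynomial.map (Int.castRingHom ℚ) (MvPolynomial.C D : MvPolynomial (Fin s) ℤ) := by
      rw [h1, MvPolynomial.map_C]; rfl
    have h3 := MvPolynomial.map_injective (σ := Fin s) (Int.castRingHom ℚ) Int.cast_injective h2
    rw [h3, ← map_mul]
  · rw [Polynomial.eval₂_mul, Polynomial.eval₂_C]
    have : α (MvPolynomial.C M) = (M : A) := by simp [α]
    rw [this]
    exact hMz

end generic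

end Groth.Agent.H6.PC
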