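import Mathlib
import Groth.Agent.Lib.Helper6.PC1
import Groth.Agent.Lib.Helper6.PC2
import Groth.Agent.Lib.Helper6.PC3

set_option autoImplicit false

namespace Groth.Agent.H6.PC

open Polynomial TensorProduct
universe u v

theorem natAbs_cast_eq_zero {F : Type*} [Ring F] (N : ℤ) (h : (N : F) = 0) :
    ((N.natAbs : ℕ) : F) = 0 := by
  rw [← Int.cast_natCast]
  rcases Int.natAbs_eq N with h1 | h1
  · rw [← h1]; exact h
  · have : (N.natAbs : ℤ) = -N := by omega
    rw [this, Int.cast_neg, h, neg_zero]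

section generic
variable (A : Type u) [CommRing A] [Algebra.FiniteType ℤ A]

/-- Lemma A: generic bound -/
theorem card_hom_le_generic (r : ℕ) (hr : ringKrullDim A ≤ r) :
    ∃ (c N : ℕ), 0 < N ∧ ∀ (F : Type v) [Field F] [Finite F], (N : F) ≠ 0 →
      (r = 0 → IsEmpty (A →+* F)) ∧ Nat.card (A →+* F) ≤ c * Nat.card F ^ (r - 1) := by
  classical
  rcases exists_almost_integral A with ⟨N, hN0, hN⟩ | ⟨s, t, hdim, hP⟩
  · refine ⟨0, N.natAbs, Int.natAbs_pos.mpr hN0, fun F _ _ hNF => ?_⟩
    have hE : IsEmpty (A →+* F) := by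
      refine ⟨fun φ => ?_⟩
      apply hNF
      have h1 := congrArg φ hN
      rw [map_intCast, map_zero] at h1
      exact natAbs_cast_eq_zero N h1
    refine ⟨fun _ => hE, ?_⟩
    simp
  · -- dimension
    have hsr : s + 1 ≤ r := by
      have := hdim.trans hr
      exact_mod_cast this
    obtain ⟨S, hS⟩ := (Algebra.FiniteType.out : (⊤ : Subalgebra ℤ A).FG)
    let a : S → A := Subtype.val
    have hgen : Algebra.adjoin ℤ (Set.range a) = ⊤ := by
      rw [Subtype.range_coe]; exact hS
    choose P e D hD hcoeff hroot using fun j : S => hP (a j)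
    refine ⟨∏ j, (P j).natDegree, ∏ j, (D j).natAbs,
      Finset.prod_pos (fun j _ => Int.natAbs_pos.mpr (hD j)), fun F _ _ hNF => ?_⟩
    refine ⟨fun h => by omega, ?_⟩
    have : Fintype F := Fintype.ofFinite F
    have hDF : ∀ j, ((D j : ℤ) : F) ≠ 0 := by
      intro j hj
      apply hNF
      rw [Nat.cast_prod]
      apply Finset.prod_eq_zero (Finset.mem_univ j)
      exact natAbs_cast_eq_zero (D j) hj
    have h := card_hom_le (R := ℤ) (F := F) t a hgen P hroot ?_
    · refine h.trans ?_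
      rw [Nat.card_eq_fintype_card]
      apply Nat.mul_le_mul_left
      exact Nat.pow_le_pow_right Fintype.card_pos (by omega)
    · intro φ j h0
      have h1 := congrArg (fun q => q.coeff (e j)) h0
      simp only [Polynomial.coeff_map, hcoeff j, Polynomial.coeff_zero] at h1
      apply hDF j
      simpa using h1

end generic

section charl
variable (A : Type u) [CommRing A] [Algebra.FiniteType ℤ A]

/-- Lemma B': bound in characteristic `ℓ` -/
theorem card_hom_le_char (ℓ : ℕ) (r : ℕ) (hr : ringKrullDim A ≤ r) :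
    ∃ c : ℕ, ∀ (F : Type v) [Field F] [Finite F], ℓ.Prime → (ℓ : F) = 0 →
      Nat.card (A →+* F) ≤ c * Nat.card F ^ r := by
  by_cases hℓ : ℓ.Prime
  swap
  · exact ⟨0, fun F _ _ h => absurd h hℓ⟩
  have : Fact ℓ.Prime := ⟨hℓ⟩
  let I : Ideal A := Ideal.span {(ℓ : A)}
  let B := A ⧸ I
  have hℓB : ((ℓ : ℕ) : B) = 0 := by
    have : ((ℓ : ℕ) : B) = Ideal.Quotient.mk I (ℓ : A) := by simp
    rw [this, Ideal.Quotient.eq_zero_iff_mem]
    exact Ideal.subset_span rfl
  let ρ : ZMod ℓ →+* B := ZMod.castHom (ringChar.dvd hℓB) B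
  let _ : Algebra (ZMod ℓ) B := ρ.toAlgebra
  have hftZ : Algebra.FiniteType ℤ B :=
    Algebra.FiniteType.of_surjective (Ideal.Quotient.mkₐ ℤ I) Ideal.Quotient.mk_surjective
  have hft : Algebra.FiniteType (ZMod ℓ) B :=
    Algebra.FiniteType.of_restrictScalars_finiteType ℤ (ZMod ℓ) B
  have hdimB : ringKrullDim B ≤ r := (ringKrullDim_quotient_le I).trans hr
  obtain ⟨c, hc⟩ := card_hom_le_of_field.{u, v, 0} (ZMod ℓ) B r hdimB
  refine ⟨c, fun F _ _ _ hℓF => ?_⟩
  have hfinA : Finite (A →+* F) := Groth.Agent.H9.FTZ.finite_ringHom A F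
  have hfin : Finite (B →+* F) := by
    apply Finite.of_injective (fun ψ : B →+* F => ψ.comp (Ideal.Quotient.mk I))
    intro ψ ψ' h
    ext a
    exact RingHom.congr_fun h a
  refine le_trans ?_ (hc F inferInstance)
  let Φ : (A →+* F) → (B →+* F) := fun φ => Ideal.Quotient.lift I φ (by
    intro a ha
    obtain ⟨b, rfl⟩ := Ideal.mem_span_singleton'.mp ha
    rw [map_mul, map_natCast, hℓF, mul_zero])
  apply Nat.card_le_card_of_injective Φ
  intro φ φ' h
  ext a
  have := congrArg (fun ψ : B →+* F => ψ (Ideal.Quotient.mk I a)) h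
  simp only [Φ] at this
  exact this

end charl

section ringmain
variable (A : Type u) [CommRing A] [Algebra.FiniteType ℤ A]

theorem ring_main (r : ℕ) (hr : ringKrullDim A ≤ r) :
    ∃ (c p₀ : ℕ), ∀ (p m : ℕ), p.Prime → 1 ≤ m → ∀ (F : Type v) [Field F], Nat.card F = p ^ m →
      (p₀ ≤ p → (r = 0 → IsEmpty (A →+* F)) ∧ Nat.card (A →+* F) ≤ c * (p ^ m) ^ (r - 1)) ∧
      (p < p₀ → Nat.card (A →+* F) ≤ c * (p ^ m) ^ r) := by
  obtain ⟨c₁, N, hN, hA⟩ := card_hom_le_generic.{u, v} A r hr
  choose cB hB using fun ℓ : ℕ => card_hom_le_char.{u, v} A ℓ r hr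
  refine ⟨c₁ + ∑ ℓ ∈ Finset.range (N + 1), cB ℓ, N + 1, ?_⟩
  intro p m hp hm F _ hcard
  have hfin : Finite F := by
    apply Nat.finite_of_card_ne_zero
    rw [hcard]
    exact pow_ne_zero _ hp.ne_zero
  have : Fintype F := Fintype.ofFinite F
  have hp0 : ((p : ℕ) : F) = 0 := by
    have h1 : ((Fintype.card F : ℕ) : F) = 0 := FiniteField.cast_card_eq_zero F
    rw [← Nat.card_eq_fintype_card, hcard, Nat.cast_pow] at h1
    exact eq_zero_of_pow_eq_zero h1
  constructor
  · intro hle
    have hNF : ((N : ℕ) : F) ≠ 0 := by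
      intro hN0
      have h1 : ringChar F ∣ p := ringChar.dvd hp0
      have h2 : ringChar F = p := by
        rcases (Nat.dvd_prime hp).mp h1 with h | h
        · exact absurd h (CharP.ringChar_ne_one)
        · exact h
      have h3 : ringChar F ∣ N := ringChar.dvd hN0
      rw [h2] at h3
      have := Nat.le_of_dvd hN h3
      omega
    obtain ⟨h1, h2⟩ := hA F hNF
    refine ⟨h1, ?_⟩
    rw [hcard] at h2
    refine h2.trans ?_
    apply Nat.mul_le_mul_right
    exact Nat.le_add_right _ _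
  · intro hlt
    have h2 := hB p F hp hp0
    rw [hcard] at h2
    refine h2.trans ?_
    apply Nat.mul_le_mul_right
    refine le_trans ?_ (Nat.le_add_left _ _)
    exact Finset.single_le_sum (f := cB) (fun _ _ => Nat.zero_le _) (Finset.mem_range.mpr hlt)

end ringmain

end Groth.Agent.H6.PC
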