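import Mathlib
import Groth.Agent.Lib.Helper6.PC4

set_option autoImplicit false

namespace Groth.Agent.H6.PC

open CategoryTheory AlgebraicGeometry
universe u

section points
variable {X : Scheme.{u}} (F : Type u) [Field F]

/-- the point of `Spec F` -/
noncomputable def pt : Spec (CommRingCat.of F) := (default : PrimeSpectrum F)

theorem range_subset {U : X.Opens} (g : Spec (CommRingCat.of F) ⟶ X) (h : g (pt F) ∈ U) :
    Set.range g ⊆ U := by
  rintro _ ⟨y, rfl⟩
  have : y = pt F := Subsingleton.elim (α := PrimeSpectrum F) _ _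
  rw [this]; exact h

/-- the ring hom attached to a point landing in an affine open -/
noncomputable def toHom {U : X.Opens} (hU : IsAffineOpen U) (g : Spec (CommRingCat.of F) ⟶ X)
    (h : g (pt F) ∈ U) : Γ(X, U) →+* F :=
  (Spec.homEquiv (IsOpenImmersion.lift hU.fromSpec g
    (by rw [hU.range_fromSpec]; exact range_subset F g h))).hom

theorem toHom_injective {U : X.Opens} (hU : IsAffineOpen U)
    (g g' : Spec (CommRingCat.of F) ⟶ X) (h : g (pt F) ∈ U) (h' : g' (pt F) ∈ U)
    (heq : toHom F hU g h = toHom F hU g' h') : g = g' := by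
  have h1 : IsOpenImmersion.lift hU.fromSpec g
      (by rw [hU.range_fromSpec]; exact range_subset F g h) =
      IsOpenImmersion.lift hU.fromSpec g'
      (by rw [hU.range_fromSpec]; exact range_subset F g' h') := by
    apply Spec.homEquiv.injective
    exact CommRingCat.hom_ext heq
  rw [← IsOpenImmersion.lift_fac hU.fromSpec g
    (by rw [hU.range_fromSpec]; exact range_subset F g h), h1, IsOpenImmersion.lift_fac]

end points

section count
variable {X : Scheme.{u}} (F : Type u) [Field F]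

theorem card_le_sum (t : Finset X.affineOpens)
    (ht : (Set.univ : Set X) ⊆ ⋃ V ∈ t, ((V : X.Opens) : Set X))
    (hfin : ∀ V : X.affineOpens, Finite (Γ(X, V.1) →+* F)) :
    Nat.card (Spec (CommRingCat.of F) ⟶ X) ≤ ∑ V ∈ t, Nat.card (Γ(X, V.1) →+* F) := by
  classical
  have hex : ∀ g : Spec (CommRingCat.of F) ⟶ X, ∃ V : t, g (pt F) ∈ (V.1 : X.Opens) := by
    intro g
    obtain ⟨V, hVt, hV⟩ := Set.mem_iUnion₂.mp (ht (Set.mem_univ (g (pt F))))
    exact ⟨⟨V, hVt⟩, hV⟩
  choose W hW using hex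
  let Θ : (Spec (CommRingCat.of F) ⟶ X) → Σ V : t, (Γ(X, V.1.1) →+* F) :=
    fun g => ⟨W g, toHom F (W g).1.2 g (hW g)⟩
  have hΘ : Function.Injective Θ := by
    intro g g' h
    have h1 : W g = W g' := congrArg Sigma.fst h
    have hg' : g' (pt F) ∈ ((W g).1 : X.Opens) := by rw [h1]; exact hW g'
    apply toHom_injective F (W g).1.2 g g' (hW g) hg'
    have key : ∀ (V V' : t) (_ : V = V') (h : g' (pt F) ∈ (V.1 : X.Opens))
        (h' : g' (pt F) ∈ (V'.1 : X.Opens)),
        (⟨V', toHom F V'.1.2 g' h'⟩ : Σ V : t, (Γ(X, V.1.1) →+* F)) =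
          ⟨V, toHom F V.1.2 g' h⟩ := by
      intro V V' hVV
      subst hVV
      intro _ _
      rfl
    have h2 : Θ g' = ⟨W g, toHom F (W g).1.2 g' hg'⟩ := key (W g) (W g') h1 hg' (hW g')
    rw [h2] at h
    exact eq_of_heq (Sigma.mk.inj h).2
  have : ∀ V : t, Finite (Γ(X, V.1.1) →+* F) := fun V => hfin V.1
  have h1 := Nat.card_le_card_of_injective Θ hΘ
  rw [Nat.card_sigma] at h1
  rw [← Finset.sum_coe_sort t (fun V => Nat.card (Γ(X, V.1) →+* F))]
  exact h1

end count

section main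
variable {X : Scheme.{u}}

theorem ringKrullDim_le_of_isAffineOpen {U : X.Opens} (hU : IsAffineOpen U) :
    ringKrullDim Γ(X, U) ≤ topologicalKrullDim X := by
  rw [← PrimeSpectrum.topologicalKrullDim_eq_ringKrullDim]
  exact hU.fromSpec.isOpenEmbedding.isInducing.topologicalKrullDim_le

theorem main_nat
    (f : X ⟶ Spec (CommRingCat.of (ULift.{u} ℤ))) [LocallyOfFiniteType f] [QuasiCompact f] (r : ℕ)
    (hr : topologicalKrullDim X ≤ r) :
    ∃ (c p₀ : ℕ), ∀ (p m : ℕ), p.Prime → 1 ≤ m → ∀ (F : Type u) [Field F],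
      Nat.card F = p ^ m →
      (p₀ ≤ p → (r = 0 → Nat.card (Spec (CommRingCat.of F) ⟶ X) = 0) ∧
        Nat.card (Spec (CommRingCat.of F) ⟶ X) ≤ c * (p ^ m) ^ (r - 1)) ∧
      (p < p₀ → Nat.card (Spec (CommRingCat.of F) ⟶ X) ≤ c * (p ^ m) ^ r) := by
  classical
  have hcpt : CompactSpace X := QuasiCompact.compactSpace_of_compactSpace f
  have hlft : LocallyOfFiniteType (Limits.IsTerminal.from specULiftZIsTerminal X) := by
    have : Limits.IsTerminal.from specULiftZIsTerminal X = f :=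
      specULiftZIsTerminal.hom_ext _ _
    rw [this]; infer_instance
  have hft : ∀ V : X.affineOpens, Algebra.FiniteType ℤ Γ(X, V.1) :=
    fun V => Groth.Agent.H9.FTZ.finiteType_int X V.2
  have hdim : ∀ V : X.affineOpens, ringKrullDim Γ(X, V.1) ≤ r :=
    fun V => (ringKrullDim_le_of_isAffineOpen V.2).trans hr
  have hcover : (Set.univ : Set X) ⊆ ⋃ V : X.affineOpens, ((V : X.Opens) : Set X) := by
    intro y _
    obtain ⟨_, ⟨U, hU, rfl⟩, hyU, -⟩ :=
      X.isBasis_affineOpens.exists_subset_of_mem_open (Set.mem_univ y) isOpen_univ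
    exact Set.mem_iUnion.2 ⟨⟨U, hU⟩, hyU⟩
  obtain ⟨t, ht⟩ := isCompact_univ.elim_finite_subcover
    (fun V : X.affineOpens => ((V : X.Opens) : Set X)) (fun V => V.1.isOpen) hcover
  choose c p₀ hc using fun V : X.affineOpens => ring_main.{u, u} Γ(X, V.1) r (hdim V)
  refine ⟨∑ V ∈ t, c V, t.sup p₀, ?_⟩
  intro p m hp hm F _ hcard
  have hF : Finite F := by
    apply Nat.finite_of_card_ne_zero
    rw [hcard]
    exact pow_ne_zero _ hp.ne_zero
  have hfin : ∀ V : X.affineOpens, Finite (Γ(X, V.1) →+* F) :=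
    fun V => Groth.Agent.H9.FTZ.finite_ringHom _ F
  have hsum := card_le_sum F t ht hfin
  constructor
  · intro hle
    have hV : ∀ V ∈ t, p₀ V ≤ p := fun V hV => (Finset.le_sup hV).trans hle
    constructor
    · intro hr0
      apply Nat.eq_zero_of_le_zero
      refine hsum.trans ?_
      apply le_of_eq
      apply Finset.sum_eq_zero
      intro V hVt
      have := ((hc V p m hp hm F hcard).1 (hV V hVt)).1 hr0
      exact Nat.card_of_isEmpty
    · refine hsum.trans ?_
      rw [Finset.sum_mul]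
      apply Finset.sum_le_sum
      intro V hVt
      exact ((hc V p m hp hm F hcard).1 (hV V hVt)).2
  · intro hlt
    refine hsum.trans ?_
    rw [Finset.sum_mul]
    apply Finset.sum_le_sum
    intro V hVt
    rcases lt_or_ge p (p₀ V) with h | h
    · exact (hc V p m hp hm F hcard).2 h
    · refine ((hc V p m hp hm F hcard).1 h).2.trans ?_
      apply Nat.mul_le_mul_left
      exact Nat.pow_le_pow_right (pow_pos hp.pos m) (Nat.sub_le r 1)

end main

section real
variable {X : Scheme.{u}}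

theorem main_real
    (f : X ⟶ Spec (CommRingCat.of (ULift.{u} ℤ))) [LocallyOfFiniteType f] [QuasiCompact f] (r : ℕ)
    (hr : topologicalKrullDim X ≤ r) :
    ∃ (c : ℝ) (p₀ : ℕ), 0 < c ∧ ∀ (p m : ℕ), p.Prime → 1 ≤ m →
      ∀ (F : Type u) [Field F], Nat.card F = p ^ m →
        (p₀ ≤ p → (Nat.card (Spec (CommRingCat.of F) ⟶ X) : ℝ) ≤
            c * (p : ℝ) ^ ((m : ℝ) * ((r : ℝ) - 1))) ∧
        (p < p₀ → (Nat.card (Spec (CommRingCat.of F) ⟶ X) : ℝ) ≤ c * (p : ℝ) ^ ((m : ℝ) * r)) := by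
  obtain ⟨c, p₀, h⟩ := main_nat f r hr
  refine ⟨(c : ℝ) + 1, p₀, by positivity, ?_⟩
  intro p m hp hm F _ hcard
  obtain ⟨h1, h2⟩ := h p m hp hm F hcard
  have hp0 : (0 : ℝ) < (p : ℝ) := by exact_mod_cast hp.pos
  constructor
  · intro hle
    obtain ⟨h3, h4⟩ := h1 hle
    rcases Nat.eq_zero_or_pos r with hr0 | hrpos
    · rw [h3 hr0]
      simp only [Nat.cast_zero]
      have : 0 < (p : ℝ) ^ ((m : ℝ) * ((r : ℝ) - 1)) := Real.rpow_pos_of_pos hp0 _
      positivity
    · have hexp : (m : ℝ) * ((r : ℝ) - 1) = ((m * (r - 1) : ℕ) : ℝ) := by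
        rw [Nat.cast_mul, Nat.cast_sub hrpos, Nat.cast_one]
      rw [hexp, Real.rpow_natCast]
      have h5 : (Nat.card (Spec (CommRingCat.of F) ⟶ X) : ℝ) ≤ ((c * (p ^ m) ^ (r - 1) : ℕ) : ℝ) := by
        exact_mod_cast h4
      refine h5.trans ?_
      rw [Nat.cast_mul, Nat.cast_pow, Nat.cast_pow, ← pow_mul]
      apply mul_le_mul_of_nonneg_right (by linarith) (by positivity)
  · intro hlt
    have h4 := h2 hlt
    have hexp : (m : ℝ) * (r : ℝ) = ((m * r : ℕ) : ℝ) := by
      rw [Nat.cast_mul]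
    rw [hexp, Real.rpow_natCast]
    have h5 : (Nat.card (Spec (CommRingCat.of F) ⟶ X) : ℝ) ≤ ((c * (p ^ m) ^ r : ℕ) : ℝ) := by
      exact_mod_cast h4
    refine h5.trans ?_
    rw [Nat.cast_mul, Nat.cast_pow, Nat.cast_pow, ← pow_mul]
    apply mul_le_mul_of_nonneg_right (by linarith) (by positivity)

end real

end Groth.Agent.H6.PC
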