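import Mathlib
import Groth.Agent.Lib.Helper6.PC5
import Groth.Prelude.Def_SgaExt

set_option autoImplicit false

namespace Groth.Agent.H6.PC

open CategoryTheory AlgebraicGeometry
universe u

section fin
variable {X : Scheme.{u}}

theorem finite_hom_of_cover (F : Type u) [Field F] (t : Finset X.affineOpens)
    (ht : (Set.univ : Set X) ⊆ ⋃ V ∈ t, ((V : X.Opens) : Set X))
    (hfin : ∀ V : X.affineOpens, Finite (Γ(X, V.1) →+* F)) :
    Finite (Spec (CommRingCat.of F) ⟶ X) := by
  classical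
  have hex : ∀ g : Spec (CommRingCat.of F) ⟶ X, ∃ V : t, g (pt F) ∈ (V.1 : X.Opens) := by
    intro g
    obtain ⟨V, hVt, hV⟩ := Set.mem_iUnion₂.mp (ht (Set.mem_univ (g (pt F))))
    exact ⟨⟨V, hVt⟩, hV⟩
  choose W hW using hex
  let Θ : (Spec (CommRingCat.of F) ⟶ X) → Σ V : t, (Γ(X, V.1.1) →+* F) :=
    fun g => ⟨W g, toHom F (W g).1.2 g (hW g)⟩
  have hΘ : Function.Injective Θ := by
    intro g g' h
    have h1 : W g = W g' := congrArg Sigma.fst h
    have hg' : g' (pt F) ∈ ((W g).1 : X.Opens) := by rw [h1]; exact hW g'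
    apply toHom_injective F (W g).1.2 g g' (hW g) hg'
    have key : ∀ (V V' : t) (_ : V = V') (h : g' (pt F) ∈ (V.1 : X.Opens))
        (h' : g' (pt F) ∈ (V'.1 : X.Opens)),
        (⟨V', toHom F V'.1.2 g' h'⟩ : Σ V : t, (Γ(X, V.1.1) →+* F)) =
          ⟨V, toHom F V.1.2 g' h⟩ := by
      intro V V' hVV
      subst hVV
      intro _ _
      rfl
    have h2 : Θ g' = ⟨W g, toHom F (W g).1.2 g' hg'⟩ := key (W g) (W g') h1 hg' (hW g')
    rw [h2] at h
    exact eq_of_heq (Sigma.mk.inj h).2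
  have : ∀ V : t, Finite (Γ(X, V.1.1) →+* F) := fun V => hfin V.1
  exact Finite.of_injective Θ hΘ

theorem finite_hom (f : X ⟶ Spec (CommRingCat.of (ULift.{u} ℤ))) [LocallyOfFiniteType f]
    [QuasiCompact f] (F : Type u) [Field F] [Finite F] :
    Finite (Spec (CommRingCat.of F) ⟶ X) := by
  have hcpt : CompactSpace X := QuasiCompact.compactSpace_of_compactSpace f
  have hlft : LocallyOfFiniteType (Limits.IsTerminal.from specULiftZIsTerminal X) := by
    have : Limits.IsTerminal.from specULiftZIsTerminal X = f :=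
      specULiftZIsTerminal.hom_ext _ _
    rw [this]; infer_instance
  have hft : ∀ V : X.affineOpens, Algebra.FiniteType ℤ Γ(X, V.1) :=
    fun V => Groth.Agent.H9.FTZ.finiteType_int X V.2
  have hcover : (Set.univ : Set X) ⊆ ⋃ V : X.affineOpens, ((V : X.Opens) : Set X) := by
    intro y _
    obtain ⟨_, ⟨U, hU, rfl⟩, hyU, -⟩ :=
      X.isBasis_affineOpens.exists_subset_of_mem_open (Set.mem_univ y) isOpen_univ
    exact Set.mem_iUnion.2 ⟨⟨U, hU⟩, hyU⟩
  obtain ⟨t, ht⟩ := isCompact_univ.elim_finite_subcover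
    (fun V : X.affineOpens => ((V : X.Opens) : Set X)) (fun V => V.1.isOpen) hcover
  exact finite_hom_of_cover F t ht (fun V => Groth.Agent.H9.FTZ.finite_ringHom _ F)

end fin

section overk
variable {k : Type u} [Field k] [Finite k] {X : Scheme.{u}}

theorem main_over_finite_field
    (f : X ⟶ Spec (CommRingCat.of k)) [LocallyOfFiniteType f] [QuasiCompact f] (r : ℕ)
    (hr : topologicalKrullDim X ≤ r) :
    ∃ c : ℕ, ∀ (k' : Type u) [Field k'] [Algebra k k'] [Finite k'],
      SgaExt.pointCount f k' ≤ c * Nat.card k ^ (r * Module.finrank k k') := by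
  let φ : ULift.{u} ℤ →+* k := (Int.castRingHom k).comp (ULift.ringEquiv : ULift.{u} ℤ ≃+* ℤ)
  let g : Spec (CommRingCat.of k) ⟶ Spec (CommRingCat.of (ULift.{u} ℤ)) :=
    Spec.map (CommRingCat.ofHom φ)
  have hφ : φ.FiniteType := by
    apply RingHom.FiniteType.of_finite
    unfold RingHom.Finite
    exact @Module.Finite.of_finite _ _ _ _ φ.toAlgebra.toModule _
  have hg : LocallyOfFiniteType g := by
    rw [HasRingHomProperty.Spec_iff (P := @LocallyOfFiniteType)]
    exact hφ
  have : LocallyOfFiniteType (f ≫ g) := inferInstance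
  have : QuasiCompact (f ≫ g) := inferInstance
  obtain ⟨c, p₀, h⟩ := main_nat (f ≫ g) r hr
  refine ⟨c, fun k' _ _ _ => ?_⟩
  have hfinHom : Finite (Spec (CommRingCat.of k') ⟶ X) := finite_hom (f ≫ g) k'
  have h1 : SgaExt.pointCount f k' ≤ Nat.card (Spec (CommRingCat.of k') ⟶ X) := by
    unfold SgaExt.pointCount
    exact Nat.card_le_card_of_injective _ Subtype.val_injective
  refine h1.trans ?_
  have : Fintype k := Fintype.ofFinite k
  have : Fintype k' := Fintype.ofFinite k'
  obtain ⟨p, hchar⟩ := CharP.exists k'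
  obtain ⟨n, hp, hcard⟩ := FiniteField.card k' p
  have hcard' : Nat.card k' = p ^ (n : ℕ) := by rw [Nat.card_eq_fintype_card, hcard]
  have hkk' : Nat.card k' = Nat.card k ^ Module.finrank k k' := by
    rw [Nat.card_eq_fintype_card, Nat.card_eq_fintype_card]
    exact Module.card_eq_pow_finrank
  obtain ⟨h2, h3⟩ := h p n hp n.2 k' hcard'
  have h4 : Nat.card (Spec (CommRingCat.of k') ⟶ X) ≤ c * (p ^ (n : ℕ)) ^ r := by
    rcases lt_or_ge p p₀ with hlt | hge
    · exact h3 hlt
    · refine (h2 hge).2.trans ?_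
      apply Nat.mul_le_mul_left
      exact Nat.pow_le_pow_right (pow_pos hp.pos _) (Nat.sub_le r 1)
  refine h4.trans ?_
  rw [← hcard', hkk', ← pow_mul, mul_comm r]

end overk

end Groth.Agent.H6.PC
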