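import Groth.Agent.Lib.Helper6.EP2
import Groth.Agent.Lib.Helper6.PC6
import Groth.Prelude.Def_W4c1zetahwZeta

/-! # Closed points of given norm on an arithmetic scheme -/

set_option autoImplicit false
set_option linter.unusedSectionVars false

namespace Groth.Agent.H6.EP

open CategoryTheory AlgebraicGeometry

universe u
variable {X : Scheme.{u}}

/-- The norm of a point. -/
noncomputable def NN (X : Scheme.{u}) (x : X) : ℕ := Nat.card (X.residueField x)

/-- Closed points of norm `n`. -/
def Pn (X : Scheme.{u}) (n : ℕ) : Type u :=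
  {x : X // IsClosed ({x} : Set X) ∧ NN X x = n}

lemma NN_ne_one (x : X) : NN X x ≠ 1 := by
  intro h
  unfold NN at h
  rw [Nat.card_eq_one_iff_unique] at h
  obtain ⟨h1, -⟩ := h
  exact not_subsingleton (X.residueField x) h1

theorem exists_injective {n : ℕ} (hn : n ≠ 0) (x₀ : Pn X n) :
    ∃ φ : Pn X n → (Spec (CommRingCat.of (X.residueField x₀.1)) ⟶ X), Function.Injective φ := by
  classical
  have hfin : ∀ x : Pn X n, Finite (X.residueField x.1) := by
    intro x
    apply Nat.finite_of_card_ne_zero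
    have := x.2.2
    unfold NN at this
    rw [this]; exact hn
  have heq : ∀ x : Pn X n, Nonempty (X.residueField x.1 ≃+* X.residueField x₀.1) := by
    intro x
    haveI := hfin x
    haveI := hfin x₀
    letI := Fintype.ofFinite (X.residueField x.1)
    letI := Fintype.ofFinite (X.residueField x₀.1)
    refine ⟨FiniteField.ringEquivOfCardEq ?_⟩
    rw [← Nat.card_eq_fintype_card, ← Nat.card_eq_fintype_card]
    have h1 := x.2.2
    have h2 := x₀.2.2
    unfold NN at h1 h2
    rw [h1, h2]
  let e : ∀ x : Pn X n, X.residueField x.1 ≃+* X.residueField x₀.1 := fun x => (heq x).some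
  refine ⟨fun x => Spec.map (CommRingCat.ofHom (e x).toRingHom) ≫ X.fromSpecResidueField x.1, ?_⟩
  intro x y hxy
  have hpt : Nonempty (Spec (CommRingCat.of (X.residueField x₀.1))) :=
    ⟨(default : PrimeSpectrum (X.residueField x₀.1))⟩
  obtain ⟨pt⟩ := hpt
  have h1 := congrArg (fun g => g.base pt) hxy
  simp only [Scheme.Hom.comp_base, TopCat.hom_comp, ContinuousMap.comp_apply] at h1
  rw [Scheme.fromSpecResidueField_apply, Scheme.fromSpecResidueField_apply] at h1
  exact Subtype.ext h1


theorem card_Pn_le (f : X ⟶ Spec (CommRingCat.of (ULift.{u} ℤ))) [LocallyOfFiniteType f]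
    [QuasiCompact f] (r : ℕ) (hr : topologicalKrullDim X ≤ r) :
    ∃ c p₀ : ℕ, ∀ n : ℕ, 2 ≤ n → Finite (Pn X n) ∧
      ((Nat.card (Pn X n) ≤ c * n ^ (r - 1) ∧ (r = 0 → Nat.card (Pn X n) = 0)) ∨
        (∃ p m : ℕ, p.Prime ∧ p < p₀ ∧ 1 ≤ m ∧ n = p ^ m ∧ Nat.card (Pn X n) ≤ c * n ^ r)) := by
  classical
  obtain ⟨c, p₀, h⟩ := Groth.Agent.H6.PC.main_nat f r hr
  refine ⟨c, p₀, fun n hn => ?_⟩
  rcases isEmpty_or_nonempty (Pn X n) with hE | ⟨⟨x₀⟩⟩
  · refine ⟨inferInstance, Or.inl ⟨?_, fun _ => ?_⟩⟩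
    · rw [Nat.card_of_isEmpty]; exact Nat.zero_le _
    · exact Nat.card_of_isEmpty
  · have hn0 : n ≠ 0 := by omega
    obtain ⟨φ, hφ⟩ := exists_injective hn0 x₀
    have hcard0 : Nat.card (X.residueField x₀.1) = n := x₀.2.2
    haveI hF : Finite (X.residueField x₀.1) := by
      apply Nat.finite_of_card_ne_zero
      rw [hcard0]; exact hn0
    haveI hfinHom : Finite (Spec (CommRingCat.of (X.residueField x₀.1)) ⟶ X) :=
      Groth.Agent.H6.PC.finite_hom f (X.residueField x₀.1)
    have hfinP : Finite (Pn X n) := Finite.of_injective φ hφ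
    have hle : Nat.card (Pn X n) ≤ Nat.card (Spec (CommRingCat.of (X.residueField x₀.1)) ⟶ X) :=
      Nat.card_le_card_of_injective φ hφ
    letI := Fintype.ofFinite (X.residueField x₀.1)
    obtain ⟨p, hchar⟩ := CharP.exists (X.residueField x₀.1)
    obtain ⟨m, hp, hcard⟩ := FiniteField.card (X.residueField x₀.1) p
    have hcard' : Nat.card (X.residueField x₀.1) = p ^ (m : ℕ) := by
      rw [Nat.card_eq_fintype_card, hcard]
    have hnpm : n = p ^ (m : ℕ) := by rw [← hcard0, hcard']
    obtain ⟨h2, h3⟩ := h p m hp m.2 (X.residueField x₀.1) hcard'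
    refine ⟨hfinP, ?_⟩
    rcases lt_or_ge p p₀ with hlt | hge
    · right
      refine ⟨p, m, hp, hlt, m.2, hnpm, hle.trans ?_⟩
      have := h3 hlt
      rw [← hnpm] at this
      exact this
    · left
      obtain ⟨h4, h5⟩ := h2 hge
      refine ⟨hle.trans ?_, fun hr0 => ?_⟩
      · rw [← hnpm] at h5; exact h5
      · have := h4 hr0
        omega

end Groth.Agent.H6.EP
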