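import Groth.Agent.Lib.Helper6.EP3

/-! # Summability of norms of closed points -/

set_option autoImplicit false
set_option linter.unusedSectionVars false

namespace Groth.Agent.H6.EP

open CategoryTheory AlgebraicGeometry

universe u

/-- The `p`-part of the majorant. -/
noncomputable def gp (c : ℕ) (e : ℝ) (p n : ℕ) : ℝ := by
  classical
  exact if ∃ m, 1 ≤ m ∧ n = p ^ m then c * (n : ℝ) ^ e else 0

/-- The majorant. -/
noncomputable def Hb (c p₀ r : ℕ) (σ : ℝ) (n : ℕ) : ℝ :=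
  c * (n : ℝ) ^ ((r : ℝ) - 1 - σ) +
    ∑ p ∈ (Finset.range p₀).filter Nat.Prime, gp c ((r : ℝ) - σ) p n

lemma gp_nonneg (c : ℕ) (e : ℝ) (p n : ℕ) : 0 ≤ gp c e p n := by
  unfold gp
  split_ifs
  · exact mul_nonneg (Nat.cast_nonneg _) (Real.rpow_nonneg (Nat.cast_nonneg _) _)
  · exact le_refl _

lemma summable_gp (c : ℕ) {e : ℝ} (he : e < 0) {p : ℕ} (hp : p.Prime) : Summable (gp c e p) := by
  classical
  have hinj : Function.Injective (fun m : ℕ => p ^ (m + 1)) := by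
    intro a b hab
    have := Nat.pow_right_injective hp.two_le hab
    omega
  rw [← hinj.summable_iff]
  · have hq0 : (0 : ℝ) < (p : ℝ) ^ e := Real.rpow_pos_of_pos (by exact_mod_cast hp.pos) _
    have hq1 : (p : ℝ) ^ e < 1 :=
      Real.rpow_lt_one_of_one_lt_of_neg (by exact_mod_cast hp.one_lt) he
    have hgeo : Summable (fun m : ℕ => (c : ℝ) * ((p : ℝ) ^ e) ^ (m + 1)) := by
      apply Summable.mul_left
      have := summable_geometric_of_lt_one hq0.le hq1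
      exact (summable_nat_add_iff 1).2 this
    refine hgeo.congr ?_
    intro m
    simp only [Function.comp_apply]
    unfold gp
    rw [if_pos ⟨m + 1, by omega, rfl⟩]
    congr 1
    rw [Nat.cast_pow, ← Real.rpow_natCast, ← Real.rpow_natCast, ← Real.rpow_mul (Nat.cast_nonneg _),
      ← Real.rpow_mul (Nat.cast_nonneg _), mul_comm]
  · intro n hn
    unfold gp
    rw [if_neg]
    rintro ⟨m, hm, rfl⟩
    apply hn
    exact ⟨m - 1, by simp only; congr 1; omega⟩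

lemma Hb_nonneg (c p₀ r : ℕ) (σ : ℝ) (n : ℕ) : 0 ≤ Hb c p₀ r σ n := by
  unfold Hb
  apply add_nonneg
  · exact mul_nonneg (Nat.cast_nonneg _) (Real.rpow_nonneg (Nat.cast_nonneg _) _)
  · exact Finset.sum_nonneg fun p _ => gp_nonneg _ _ _ _

lemma summable_Hb (c p₀ r : ℕ) {σ : ℝ} (hσ : (r : ℝ) < σ) : Summable (Hb c p₀ r σ) := by
  unfold Hb
  apply Summable.add
  · apply Summable.mul_left
    rw [Real.summable_nat_rpow]
    linarith
  · apply summable_sum
    intro p hp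
    exact summable_gp c (by linarith) (Finset.mem_filter.1 hp).2


variable {X : Scheme.{u}}

lemma card_mul_le_Hb {c p₀ r : ℕ} {σ : ℝ} {n : ℕ} (hn : 2 ≤ n)
    (h : (Nat.card (Pn X n) ≤ c * n ^ (r - 1) ∧ (r = 0 → Nat.card (Pn X n) = 0)) ∨
        (∃ p m : ℕ, p.Prime ∧ p < p₀ ∧ 1 ≤ m ∧ n = p ^ m ∧ Nat.card (Pn X n) ≤ c * n ^ r)) :
    (Nat.card (Pn X n) : ℝ) * (n : ℝ) ^ (-σ) ≤ Hb c p₀ r σ n := by
  classical
  have hn0 : (0 : ℝ) < (n : ℝ) := by exact_mod_cast (by omega : 0 < n)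
  have hpos : (0 : ℝ) ≤ (n : ℝ) ^ (-σ) := Real.rpow_nonneg hn0.le _
  unfold Hb
  rcases h with ⟨h1, h2⟩ | ⟨p, m, hp, hlt, hm, hnpm, h1⟩
  · refine le_trans ?_ (le_add_of_nonneg_right (Finset.sum_nonneg fun p _ => gp_nonneg _ _ _ _))
    rcases Nat.eq_zero_or_pos r with hr0 | hrpos
    · rw [h2 hr0]
      simp only [Nat.cast_zero, zero_mul]
      exact mul_nonneg (Nat.cast_nonneg _) (Real.rpow_nonneg hn0.le _)
    · have h3 : (Nat.card (Pn X n) : ℝ) ≤ (c : ℝ) * (n : ℝ) ^ ((r : ℝ) - 1) := by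
        have : (Nat.card (Pn X n) : ℝ) ≤ ((c * n ^ (r - 1) : ℕ) : ℝ) := by exact_mod_cast h1
        refine this.trans (le_of_eq ?_)
        rw [Nat.cast_mul, Nat.cast_pow, ← Real.rpow_natCast, Nat.cast_sub hrpos, Nat.cast_one]
      calc (Nat.card (Pn X n) : ℝ) * (n : ℝ) ^ (-σ)
          ≤ ((c : ℝ) * (n : ℝ) ^ ((r : ℝ) - 1)) * (n : ℝ) ^ (-σ) :=
            mul_le_mul_of_nonneg_right h3 hpos
        _ = (c : ℝ) * (n : ℝ) ^ ((r : ℝ) - 1 - σ) := by
            rw [mul_assoc, ← Real.rpow_add hn0]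
            congr 2
  · refine le_trans ?_ (le_add_of_nonneg_left
      (mul_nonneg (Nat.cast_nonneg _) (Real.rpow_nonneg hn0.le _)))
    have hmem : p ∈ (Finset.range p₀).filter Nat.Prime :=
      Finset.mem_filter.2 ⟨Finset.mem_range.2 hlt, hp⟩
    refine le_trans ?_ (Finset.single_le_sum (fun q _ => gp_nonneg c ((r : ℝ) - σ) q n) hmem)
    unfold gp
    rw [if_pos ⟨m, hm, hnpm⟩]
    have h3 : (Nat.card (Pn X n) : ℝ) ≤ (c : ℝ) * (n : ℝ) ^ (r : ℝ) := by
      have : (Nat.card (Pn X n) : ℝ) ≤ ((c * n ^ r : ℕ) : ℝ) := by exact_mod_cast h1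
      refine this.trans (le_of_eq ?_)
      rw [Nat.cast_mul, Nat.cast_pow, ← Real.rpow_natCast]
    calc (Nat.card (Pn X n) : ℝ) * (n : ℝ) ^ (-σ)
        ≤ ((c : ℝ) * (n : ℝ) ^ (r : ℝ)) * (n : ℝ) ^ (-σ) :=
          mul_le_mul_of_nonneg_right h3 hpos
      _ = (c : ℝ) * (n : ℝ) ^ ((r : ℝ) - σ) := by
          rw [mul_assoc, ← Real.rpow_add hn0]
          congr 2

/-- The local term of the zeta function of `X`. -/
noncomputable def tt (X : Scheme.{u}) (σ : ℝ) (x : X) : ℝ := by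
  classical
  exact if IsClosed ({x} : Set X) ∧ 2 ≤ NN X x then (NN X x : ℝ) ^ (-σ) else 0

theorem summable_tt (f : X ⟶ Spec (CommRingCat.of (ULift.{u} ℤ))) [LocallyOfFiniteType f]
    [QuasiCompact f] (r : ℕ) (hr : topologicalKrullDim X ≤ r) {σ : ℝ} (hσ : (r : ℝ) < σ) :
    Summable (tt X σ) := by
  classical
  obtain ⟨c, p₀, hcp⟩ := card_Pn_le f r hr
  have hH := summable_Hb c p₀ r hσ
  have htt0 : ∀ x, 0 ≤ tt X σ x := by
    intro x
    unfold tt
    split_ifs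
    · exact Real.rpow_nonneg (Nat.cast_nonneg _) _
    · exact le_refl _
  refine summable_of_sum_le (c := ∑' n, Hb c p₀ r σ n) htt0 ?_
  intro A
  set A' : Finset X := A.filter (fun x => IsClosed ({x} : Set X) ∧ 2 ≤ NN X x) with hA'
  have h1 : ∑ x ∈ A, tt X σ x = ∑ x ∈ A', (NN X x : ℝ) ^ (-σ) := by
    rw [hA', Finset.sum_filter]
    apply Finset.sum_congr rfl
    intro x _
    rfl
  rw [h1]
  have h2 : ∑ x ∈ A', (NN X x : ℝ) ^ (-σ)
      = ∑ n ∈ A'.image (NN X), ∑ x ∈ A' with NN X x = n, (NN X x : ℝ) ^ (-σ) :=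
    (Finset.sum_fiberwise_of_maps_to (fun x hx => Finset.mem_image_of_mem _ hx) _).symm
  rw [h2]
  have h3 : ∀ n ∈ A'.image (NN X),
      ∑ x ∈ A' with NN X x = n, (NN X x : ℝ) ^ (-σ) ≤ Hb c p₀ r σ n := by
    intro n hn
    obtain ⟨x₁, hx₁, hx₁n⟩ := Finset.mem_image.1 hn
    have hn2 : 2 ≤ n := by
      rw [← hx₁n]
      exact (Finset.mem_filter.1 hx₁).2.2
    obtain ⟨hfin, hbd⟩ := hcp n hn2
    refine le_trans ?_ (card_mul_le_Hb (σ := σ) hn2 hbd)
    have h4 : ∑ x ∈ A' with NN X x = n, (NN X x : ℝ) ^ (-σ)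
        = ((A'.filter (fun x => NN X x = n)).card : ℝ) * (n : ℝ) ^ (-σ) := by
      rw [← nsmul_eq_mul, ← Finset.sum_const]
      apply Finset.sum_congr rfl
      intro x hx
      rw [(Finset.mem_filter.1 hx).2]
    rw [h4]
    apply mul_le_mul_of_nonneg_right _ (Real.rpow_nonneg (Nat.cast_nonneg _) _)
    norm_cast
    let ψ : (A'.filter (fun x => NN X x = n)) → Pn X n := fun x =>
      ⟨x.1, ((Finset.mem_filter.1 (Finset.mem_filter.1 x.2).1).2).1, (Finset.mem_filter.1 x.2).2⟩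
    have hψ : Function.Injective ψ := by
      intro x y hxy
      apply Subtype.ext
      exact congrArg (fun z : Pn X n => z.1) hxy
    have := Nat.card_le_card_of_injective ψ hψ
    rwa [Nat.card_eq_fintype_card, Fintype.card_coe] at this
  refine (Finset.sum_le_sum h3).trans ?_
  exact hH.sum_le_tsum _ (fun n _ => Hb_nonneg _ _ _ _ _)

end Groth.Agent.H6.EP
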