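import Groth.Agent.Lib.Helper6.EP4

/-! # The zeta function of an arithmetic scheme converges and does not vanish for `Re s > dim` -/

set_option autoImplicit false
set_option linter.unusedSectionVars false

namespace Groth.Agent.H6.EP

open CategoryTheory AlgebraicGeometry

universe u
variable {X : Scheme.{u}}

lemma arithCoeff_eq (X : Scheme.{u}) :
    Zeta.arithCoeff X = cnt (NN X) {x : X | IsClosed ({x} : Set X)} := by
  funext n
  rfl

lemma norm_uu (s : ℂ) (x : X) :
    ‖uu (NN X) {x : X | IsClosed ({x} : Set X)} s x‖ = tt X s.re x := by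
  classical
  unfold uu tt
  simp only [Set.mem_ofPred_eq]
  split_ifs with h
  · have hpos : 0 < NN X x := by omega
    rw [Complex.norm_natCast_cpow_of_pos hpos]
    simp
  · exact norm_zero

theorem zeta_int (f : X ⟶ Spec (CommRingCat.of (ULift.{u} ℤ))) [LocallyOfFiniteType f]
    [QuasiCompact f] (r : ℕ) (hr : topologicalKrullDim X ≤ r) :
    LSeries.abscissaOfAbsConv (Zeta.arithCoeff X) ≤ (r : ℝ) ∧
      ∀ s : ℂ, (r : ℝ) < s.re → LSeries (Zeta.arithCoeff X) s ≠ 0 := by
  have key : ∀ s : ℂ, (r : ℝ) < s.re →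
      LSeriesSummable (Zeta.arithCoeff X) s ∧ LSeries (Zeta.arithCoeff X) s ≠ 0 := by
    intro s hs
    rw [arithCoeff_eq]
    apply main
    · intro x _
      exact NN_ne_one x
    · exact lt_of_le_of_lt (Nat.cast_nonneg r) hs
    · simp_rw [norm_uu]
      exact summable_tt f r hr hs
  constructor
  · apply LSeries.abscissaOfAbsConv_le_of_forall_lt_LSeriesSummable
    intro y hy
    exact (key (y : ℂ) (by simpa using hy)).1
  · intro s hs
    exact (key s hs).2

end Groth.Agent.H6.EP
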