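import Mathlib.AlgebraicGeometry.EllipticCurve.Reduction
import Mathlib.LinearAlgebra.FiniteDimensional.Defs

set_option autoImplicit false
universe u

open IsDiscreteValuationRing IsLocalRing IsDedekindDomain.HeightOneSpectrum

namespace Groth.Agent.H6.EllJ

/-- A minimal Weierstrass equation with good reduction has integral `j`. -/
theorem j_integral_of_good {RL : Type*} [CommRing RL] [IsDomain RL] [IsDiscreteValuationRing RL]
    {L : Type*} [Field L] [Algebra RL L] [IsFractionRing RL L]
    (M : WeierstrassCurve L) [M.IsElliptic] (hM : M.HasGoodReduction RL) :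
    ∃ s : RL, algebraMap RL L s = M.j := by
  haveI : M.IsMinimal RL := hM.toIsMinimal
  have hΔ : algebraMap RL L (M.integralModel RL).Δ = M.Δ := WeierstrassCurve.integralModel_Δ_eq RL M
  have hc : algebraMap RL L (M.integralModel RL).c₄ = M.c₄ := WeierstrassCurve.integralModel_c₄_eq RL M
  have hg := hM.goodReduction
  have hnot : (M.integralModel RL).Δ ∉ IsLocalRing.maximalIdeal RL := by
    intro hmem
    have : valuation L (maximalIdeal RL) (algebraMap RL L (M.integralModel RL).Δ) < 1 :=
      (valuation_lt_one_iff_mem (K := L) (maximalIdeal RL) (M.integralModel RL).Δ).mpr hmem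
    rw [hΔ, hg] at this
    exact lt_irrefl _ this
  have hu : IsUnit (M.integralModel RL).Δ := by
    by_contra h
    exact hnot ((IsLocalRing.mem_maximalIdeal _).mpr h)
  obtain ⟨u, hu⟩ := hu
  refine ⟨↑u⁻¹ * (M.integralModel RL).c₄ ^ 3, ?_⟩
  rw [WeierstrassCurve.j, map_mul, map_pow, hc]
  congr 1
  have h1 : (M.Δ' : L) * algebraMap RL L ↑u⁻¹ = 1 := by
    rw [WeierstrassCurve.coe_Δ', ← hΔ, ← hu, ← map_mul, Units.mul_inv, map_one]
  have h2 : (M.Δ' : L) * ↑(M.Δ'⁻¹) = 1 := Units.mul_inv _
  exact (M.Δ'.isUnit.mul_left_cancel (h1.trans h2.symm))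

/-- Descent of integrality along a dominating extension of valuation rings. -/
theorem mem_of_dominates {R : Type*} [CommRing R] [IsDomain R] [ValuationRing R]
    {K : Type*} [Field K] [Algebra R K] [IsFractionRing R K]
    {RL : Type*} [CommRing RL] [IsDomain RL] {L : Type*} [Field L] [Algebra K L]
    [Algebra RL L] [IsFractionRing RL L] (φ : R →+* RL) [IsLocalHom φ]
    (hφ : ∀ r : R, algebraMap K L (algebraMap R K r) = algebraMap RL L (φ r))
    (x : K) (s : RL) (hx : algebraMap K L x = algebraMap RL L s) :
    ∃ r : R, algebraMap R K r = x := by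
  rcases ValuationRing.isInteger_or_isInteger R x with h | h
  · exact h
  · obtain ⟨r, hr⟩ := h
    by_cases hx0 : x = 0
    · exact ⟨0, by rw [map_zero, hx0]⟩
    have h1 : algebraMap RL L (s * φ r) = 1 := by
      rw [map_mul, ← hφ, hr, ← hx, ← map_mul, mul_inv_cancel₀ hx0, map_one]
    have h2 : s * φ r = 1 := by
      apply IsFractionRing.injective RL L
      rw [h1, map_one]
    have h3 : IsUnit (φ r) := IsUnit.of_mul_eq_one s (by rw [mul_comm]; exact h2)
    have h4 : IsUnit r := isUnit_of_map_unit φ r h3
    obtain ⟨v, rfl⟩ := h4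
    refine ⟨↑v⁻¹, ?_⟩
    have : algebraMap R K ↑v⁻¹ * algebraMap R K ↑v = 1 := by
      rw [← map_mul, Units.inv_mul, map_one]
    rw [hr] at this
    have h5 : x * x⁻¹ = 1 := mul_inv_cancel₀ hx0
    exact (mul_right_cancel₀ (inv_ne_zero hx0) (this.trans h5.symm))

/-- Potential good reduction implies integral `j`. -/
theorem j_of_pgr {R : Type u} [CommRing R] [IsDomain R]
    [IsDiscreteValuationRing R] {K : Type u} [Field K] [Algebra R K] [IsFractionRing R K]
    (W : WeierstrassCurve K) [W.IsElliptic]
    (h : ∃ (L : Type u) (_ : Field L) (_ : Algebra K L) (_ : FiniteDimensional K L) (RL : Type u)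
        (_ : CommRing RL) (_ : IsDomain RL) (_ : IsDiscreteValuationRing RL) (_ : Algebra RL L)
        (_ : IsFractionRing RL L) (φ : R →+* RL), IsLocalHom φ ∧
        (∀ r : R, algebraMap K L (algebraMap R K r) = algebraMap RL L (φ r)) ∧
        ((W.baseChange L).minimal RL).HasGoodReduction RL) :
    ∃ r : R, algebraMap R K r = W.j := by
  obtain ⟨L, _, _, _, RL, _, _, _, _, _, φ, hloc, hφ, hgood⟩ := h
  haveI : (W.baseChange L).IsElliptic := by
    unfold WeierstrassCurve.baseChange; infer_instance
  haveI : ((W.baseChange L).minimal RL).IsElliptic := by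
    unfold WeierstrassCurve.minimal; infer_instance
  obtain ⟨s, hs⟩ := j_integral_of_good ((W.baseChange L).minimal RL) hgood
  have hj : ((W.baseChange L).minimal RL).j = algebraMap K L W.j := by
    have h1 : ((W.baseChange L).minimal RL).j = (W.baseChange L).j := by
      unfold WeierstrassCurve.minimal
      exact WeierstrassCurve.variableChange_j _ _
    rw [h1]
    exact WeierstrassCurve.map_j W (algebraMap K L)
  exact mem_of_dominates φ hφ W.j s (by rw [← hj, hs])

end Groth.Agent.H6.EllJ
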