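import Mathlib
import Groth.Agent.Lib.Helper8.ASK.Compositum
import Groth.Agent.Lib.Helper8.ASK.GalClosure
import Groth.Agent.Lib.Helper8.ASK.RamIdx

set_option autoImplicit false
universe u

open IsDiscreteValuationRing IsLocalRing IsDedekindDomain.HeightOneSpectrum

namespace Groth.Agent.H6.EllJ

/-- If some variable change of `W` is integral with unit discriminant then the minimal model of
`W` has good reduction. -/
theorem minimal_good {RL : Type*} [CommRing RL] [IsDomain RL] [IsDiscreteValuationRing RL]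
    {L : Type*} [Field L] [Algebra RL L] [IsFractionRing RL L]
    (W : WeierstrassCurve L) (C : WeierstrassCurve.VariableChange L)
    (hint : WeierstrassCurve.IsIntegral RL (C • W))
    (hΔ : valuation L (maximalIdeal RL) (C • W).Δ = 1) :
    (W.minimal RL).HasGoodReduction RL := by
  obtain ⟨C₀, hC₀⟩ : ∃ C₀ : WeierstrassCurve.VariableChange L, W.minimal RL = C₀ • W :=
    ⟨_, rfl⟩
  haveI hmin : WeierstrassCurve.IsMinimal RL (W.minimal RL) := inferInstance
  have hmax := hmin.val_Δ_maximal
  have hE : (C * C₀⁻¹) • (W.minimal RL) = C • W := by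
    rw [hC₀, ← mul_smul, mul_assoc, inv_mul_cancel, mul_one]
  have hP : WeierstrassCurve.IsIntegral RL ((C * C₀⁻¹) • (W.minimal RL)) := by
    rw [hE]; exact hint
  have hfj : (WeierstrassCurve.valuation_Δ_aux RL ((C * C₀⁻¹) • (W.minimal RL)) : WithZero (Multiplicative ℤ)) = 1 := by
    rw [WeierstrassCurve.valuation_Δ_aux_eq_of_isIntegral, hE, hΔ]
  have hf1 : (WeierstrassCurve.valuation_Δ_aux RL ((1 : WeierstrassCurve.VariableChange L) • (W.minimal RL)) : WithZero (Multiplicative ℤ)) =
      valuation L (maximalIdeal RL) (W.minimal RL).Δ := by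
    haveI : WeierstrassCurve.IsIntegral RL ((1 : WeierstrassCurve.VariableChange L) • (W.minimal RL)) := hmax.1
    rw [WeierstrassCurve.valuation_Δ_aux_eq_of_isIntegral, one_smul]
  have hle : WeierstrassCurve.valuation_Δ_aux RL ((1 : WeierstrassCurve.VariableChange L) • (W.minimal RL)) ≤
      WeierstrassCurve.valuation_Δ_aux RL ((C * C₀⁻¹) • (W.minimal RL)) := by
    rw [← Subtype.coe_le_coe, hfj]
    exact (WeierstrassCurve.valuation_Δ_aux RL _).2
  have hge := hmax.2 hP hle
  rw [← Subtype.coe_le_coe, hfj, hf1] at hge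
  have hle' : valuation L (maximalIdeal RL) (W.minimal RL).Δ ≤ 1 := by
    rw [← hf1]; exact (WeierstrassCurve.valuation_Δ_aux RL _).2
  exact (WeierstrassCurve.hasGoodReduction_iff RL _).mpr ⟨hmin, le_antisymm hle' hge⟩

end Groth.Agent.H6.EllJ
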