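import Mathlib
import Groth.Agent.Lib.Helper8.ASK.Compositum
import Groth.Agent.Lib.Helper8.ASK.GalClosure
import Groth.Agent.Lib.Helper8.ASK.RamIdx
import Groth.Agent.Lib.Helper6.EllJ2

set_option autoImplicit false
universe u

open IsDiscreteValuationRing IsLocalRing IsDedekindDomain.HeightOneSpectrum

namespace Groth.Agent.H6.EllJ

theorem mem_valSubring_of_isIntegral {R : Type u} [CommRing R] [IsLocalRing R]
    {L : Type u} [Field L] [Algebra R L] (V : ValuationSubring L)
    (hV : EtRam.Dominates R (algebraMap R L) V) (x : L) (hx : IsIntegral R x) :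
    ∃ y : V, algebraMap V L y = x := by
  have h1 : IsIntegral V x := by
    have := IsIntegral.map_of_comp_eq (RingHom.codRestrict (algebraMap R L) V hV.1)
      (RingHom.id L) (by ext r; rfl) hx
    simpa using this
  exact IsIntegrallyClosed.isIntegral_iff.mp h1

theorem pgr_of_model {R : Type u} [CommRing R] [IsDomain R] [IsDiscreteValuationRing R]
    {K : Type u} [Field K] [Algebra R K] [IsFractionRing R K]
    {Ω : Type u} [Field Ω] [Algebra K Ω] [Algebra R Ω] [IsScalarTower R K Ω]
    [IsAlgClosed Ω] [Algebra.IsAlgebraic K Ω]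
    (W : WeierstrassCurve K) [W.IsElliptic]
    (E : WeierstrassCurve Ω) [E.IsElliptic]
    (hj : E.j = algebraMap K Ω W.j)
    (h₁ : IsIntegral R E.a₁) (h₂ : IsIntegral R E.a₂) (h₃ : IsIntegral R E.a₃)
    (h₄ : IsIntegral R E.a₄) (h₆ : IsIntegral R E.a₆)
    (d : Ω) (hd : E.Δ * d = 1) (hdi : IsIntegral R d) :
    ∃ (L : Type u) (_ : Field L) (_ : Algebra K L) (_ : FiniteDimensional K L) (RL : Type u)
        (_ : CommRing RL) (_ : IsDomain RL) (_ : IsDiscreteValuationRing RL) (_ : Algebra RL L)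
        (_ : IsFractionRing RL L) (φ : R →+* RL), IsLocalHom φ ∧
        (∀ r : R, algebraMap K L (algebraMap R K r) = algebraMap RL L (φ r)) ∧
        ((W.baseChange L).minimal RL).HasGoodReduction RL := by
  classical
  obtain ⟨C, hC⟩ := WeierstrassCurve.exists_variableChange_of_j_eq (W.map (algebraMap K Ω)) E
    (by rw [WeierstrassCurve.map_j, hj])
  let S : Set Ω := {E.a₁, E.a₂, E.a₃, E.a₄, E.a₆, (C.u : Ω), ((C.u⁻¹ : Ωˣ) : Ω), C.r, C.s, C.t, d}
  haveI : Finite S := Set.Finite.to_subtype (by simp [S])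
  let L₀ : IntermediateField K Ω := IntermediateField.adjoin K S
  haveI : FiniteDimensional K L₀ := IntermediateField.finiteDimensional_adjoin
    (fun x _ => (Algebra.IsAlgebraic.isAlgebraic x).isIntegral)
  have hmem : ∀ x ∈ S, x ∈ L₀ := fun x hx => IntermediateField.subset_adjoin K S hx
  obtain ⟨V, hV⟩ := Groth.Agent.H8.RI.exists_dominates_of_local (algebraMap R L₀)
  obtain ⟨π, hπ⟩ := IsDiscreteValuationRing.exists_irreducible R
  haveI : IsDiscreteValuationRing V :=
    Groth.Agent.H8.BC.isDVR_of_dominates (L := K) hπ.maximalIdeal_eq hV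
  haveI := Groth.Agent.H8.RI.isLocalHom_of_dominates hV
  refine ⟨L₀, inferInstance, inferInstance, inferInstance, V, inferInstance, inferInstance,
    inferInstance, inferInstance, inferInstance, RingHom.codRestrict (algebraMap R L₀) V hV.1,
    inferInstance, ?_, ?_⟩
  · intro r
    exact (IsScalarTower.algebraMap_apply R K L₀ r).symm
  · let EL : WeierstrassCurve L₀ :=
      ⟨⟨E.a₁, hmem _ (by simp [S])⟩, ⟨E.a₂, hmem _ (by simp [S])⟩, ⟨E.a₃, hmem _ (by simp [S])⟩,
        ⟨E.a₄, hmem _ (by simp [S])⟩, ⟨E.a₆, hmem _ (by simp [S])⟩⟩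
    let uL : L₀ˣ := ⟨⟨(C.u : Ω), hmem _ (by simp [S])⟩, ⟨((C.u⁻¹ : Ωˣ) : Ω), hmem _ (by simp [S])⟩,
      Subtype.ext (by simp), Subtype.ext (by simp)⟩
    let CL : WeierstrassCurve.VariableChange L₀ :=
      ⟨uL, ⟨C.r, hmem _ (by simp [S])⟩, ⟨C.s, hmem _ (by simp [S])⟩, ⟨C.t, hmem _ (by simp [S])⟩⟩
    let dL : L₀ := ⟨d, hmem _ (by simp [S])⟩
    have hEL : EL.map (algebraMap L₀ Ω) = E := by
      ext <;> rfl
    have hCL : CL.map (algebraMap L₀ Ω) = C := by
      ext <;> rfl
    have hWL : (W.baseChange L₀).map (algebraMap L₀ Ω) = W.map (algebraMap K Ω) := by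
      ext <;> rfl
    have h1 : CL • (W.baseChange L₀) = EL := by
      apply WeierstrassCurve.map_injective (algebraMap L₀ Ω).injective
      show (CL • W.baseChange L₀).map (algebraMap L₀ Ω) = EL.map (algebraMap L₀ Ω)
      rw [← WeierstrassCurve.map_variableChange, hCL, hWL, hC, hEL]
    have hinj : Function.Injective (algebraMap L₀ Ω) := (algebraMap L₀ Ω).injective
    haveI : IsScalarTower R L₀ Ω := IsScalarTower.of_algebraMap_eq (fun r => rfl)
    have hint : ∀ x : L₀, IsIntegral R (algebraMap L₀ Ω x) → ∃ y : V, algebraMap V L₀ y = x := by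
      intro x hx
      exact mem_valSubring_of_isIntegral V hV x ((isIntegral_algebraMap_iff hinj).mp hx)
    have hEint : WeierstrassCurve.IsIntegral V EL := by
      apply WeierstrassCurve.isIntegral_of_exists_lift
      · exact hint _ h₁
      · exact hint _ h₂
      · exact hint _ h₃
      · exact hint _ h₄
      · exact hint _ h₆
    have hΔd : EL.Δ * dL = 1 := by
      apply hinj
      rw [map_mul, map_one, ← WeierstrassCurve.map_Δ, hEL]
      exact hd
    obtain ⟨δ, hδ⟩ := WeierstrassCurve.Δ_integral_of_isIntegral V EL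
    obtain ⟨d', hd'⟩ := hint dL hdi
    apply minimal_good (W.baseChange L₀) CL
    · rw [h1]; exact hEint
    · rw [h1]
      have ha : valuation L₀ (maximalIdeal V) EL.Δ ≤ 1 := by
        rw [← hδ]; exact valuation_le_one _ _
      have hb : valuation L₀ (maximalIdeal V) dL ≤ 1 := by
        rw [← hd']; exact valuation_le_one _ _
      have hab : valuation L₀ (maximalIdeal V) EL.Δ * valuation L₀ (maximalIdeal V) dL = 1 := by
        rw [← map_mul, hΔd, map_one]
      refine le_antisymm ha ?_
      calc (1 : WithZero (Multiplicative ℤ)) = valuation L₀ (maximalIdeal V) EL.Δ * valuation L₀ (maximalIdeal V) dL := hab.symm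
        _ ≤ valuation L₀ (maximalIdeal V) EL.Δ * 1 := by gcongr
        _ = _ := mul_one _

end Groth.Agent.H6.EllJ
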