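import Mathlib

set_option autoImplicit false
universe u

open Polynomial

namespace Groth.Agent.H6.EllJ

theorem isIntegral_ofNat' {R B : Type*} [CommRing R] [CommRing B] [Algebra R B] (n : ℕ)
    [n.AtLeastTwo] : IsIntegral R (OfNat.ofNat n : B) := by
  rw [← Nat.cast_ofNat]
  exact isIntegral_natCast _

macro "integ" : tactic => `(tactic| (repeat' first
  | assumption | exact isIntegral_algebraMap | exact isIntegral_one | exact isIntegral_zero
  | exact isIntegral_ofNat' _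
  | apply IsIntegral.add | apply IsIntegral.sub | apply IsIntegral.mul | apply IsIntegral.neg
  | apply IsIntegral.pow))

theorem j_eq_of_mul {A : Type*} [CommRing A] (E : WeierstrassCurve A) [E.IsElliptic] (x : A)
    (h : E.Δ * x = E.c₄ ^ 3) : E.j = x := by
  rw [WeierstrassCurve.j, ← h, ← mul_assoc, ← WeierstrassCurve.coe_Δ', Units.inv_mul, one_mul]

/-- Legendre model when `2` is invertible. -/
theorem exists_model_two {R : Type*} [CommRing R] {Ω : Type*} [Field Ω] [Algebra R Ω]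
    [IsAlgClosed Ω] (w : R) (hw : 2 * w = 1) (r : R) :
    ∃ (E : WeierstrassCurve Ω) (_ : E.IsElliptic), E.j = algebraMap R Ω r ∧
      IsIntegral R E.a₁ ∧ IsIntegral R E.a₂ ∧ IsIntegral R E.a₃ ∧ IsIntegral R E.a₄ ∧
      IsIntegral R E.a₆ ∧ ∃ d : Ω, E.Δ * d = 1 ∧ IsIntegral R d := by
  let QR : R[X] := X ^ 6 - 3 * X ^ 5 + C (6 - r * w ^ 8) * X ^ 4 + C (-7 + 2 * (r * w ^ 8)) * X ^ 3
    + C (6 - r * w ^ 8) * X ^ 2 - 3 * X + 1
  have hQm : QR.Monic := by
    simp only [QR]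
    monicity!
  have hdeg : (QR.map (algebraMap R Ω)).degree ≠ 0 := by
    haveI : Nontrivial R := (algebraMap R Ω).domain_nontrivial
    have : QR.natDegree = 6 := by
      simp only [QR]
      compute_degree!
    rw [degree_eq_natDegree (hQm.map (algebraMap R Ω)).ne_zero, hQm.natDegree_map, this]
    norm_num
  obtain ⟨l, hl⟩ := IsAlgClosed.exists_root _ hdeg
  rw [IsRoot, eval_map] at hl
  have hlint : IsIntegral R l := ⟨QR, hQm, hl⟩
  set ρ : Ω := algebraMap R Ω r with hρ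
  set ω : Ω := algebraMap R Ω w with hω
  have hρi : IsIntegral R ρ := isIntegral_algebraMap
  have hωi : IsIntegral R ω := isIntegral_algebraMap
  have h2 : 2 * ω = 1 := by
    rw [hω, ← map_ofNat (algebraMap R Ω) 2, ← map_mul, hw, map_one]
  have hroot : l ^ 6 - 3 * l ^ 5 + (6 - ρ * ω ^ 8) * l ^ 4 + (-7 + 2 * (ρ * ω ^ 8)) * l ^ 3
      + (6 - ρ * ω ^ 8) * l ^ 2 - 3 * l + 1 = 0 := by
    simpa [QR, eval₂_add, eval₂_sub, eval₂_mul, eval₂_pow, map_ofNat] using hl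
  have h256 : 256 * ω ^ 8 = 1 := by
    calc 256 * ω ^ 8 = (2 * ω) ^ 8 := by ring
      _ = 1 := by rw [h2, one_pow]
  set linv : Ω := -(l ^ 5 - 3 * l ^ 4 + (6 - ρ * ω ^ 8) * l ^ 3 + (-7 + 2 * (ρ * ω ^ 8)) * l ^ 2
      + (6 - ρ * ω ^ 8) * l - 3) with hlinv
  set minv : Ω := (1 - l) ^ 5 - 3 * (1 - l) ^ 4 + (6 - ρ * ω ^ 8) * (1 - l) ^ 3
      + (-7 + 2 * (ρ * ω ^ 8)) * (1 - l) ^ 2 + (6 - ρ * ω ^ 8) * (1 - l) - 3 with hminv
  have hl1 : l * linv = 1 := by
    rw [hlinv]; linear_combination (-1) * hroot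
  have hm1 : (l - 1) * minv = 1 := by
    rw [hminv]; linear_combination (-1) * hroot
  have hlinvi : IsIntegral R linv := by rw [hlinv]; integ
  have hminvi : IsIntegral R minv := by rw [hminv]; integ
  let E : WeierstrassCurve Ω := ⟨0, -(1 + l), 0, l, 0⟩
  have hΔ : E.Δ = 16 * l ^ 2 * (l - 1) ^ 2 := by
    simp only [E, WeierstrassCurve.Δ, WeierstrassCurve.b₂, WeierstrassCurve.b₄,
      WeierstrassCurve.b₆, WeierstrassCurve.b₈]
    ring
  have hc₄ : E.c₄ = 16 * (l ^ 2 - l + 1) := by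
    simp only [E, WeierstrassCurve.c₄, WeierstrassCurve.b₂, WeierstrassCurve.b₄]
    ring
  have hd : E.Δ * (ω ^ 4 * linv ^ 2 * minv ^ 2) = 1 := by
    rw [hΔ]
    calc 16 * l ^ 2 * (l - 1) ^ 2 * (ω ^ 4 * linv ^ 2 * minv ^ 2)
        = (2 * ω) ^ 4 * (l * linv) ^ 2 * ((l - 1) * minv) ^ 2 := by ring
      _ = 1 := by rw [h2, hl1, hm1]; ring
  haveI hE : E.IsElliptic := ⟨IsUnit.of_mul_eq_one _ hd⟩
  refine ⟨E, hE, ?_, ?_, ?_, ?_, ?_, ?_, ω ^ 4 * linv ^ 2 * minv ^ 2, hd, ?_⟩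
  · apply j_eq_of_mul
    rw [hΔ, hc₄]
    linear_combination (-4096) * hroot - 16 * ρ * l ^ 2 * (l - 1) ^ 2 * h256
  · exact isIntegral_zero
  · show IsIntegral R (-(1 + l)); integ
  · exact isIntegral_zero
  · exact hlint
  · exact isIntegral_zero
  · integ

/-- Deuring model when `3` is invertible. -/
theorem exists_model_three {R : Type*} [CommRing R] {Ω : Type*} [Field Ω] [Algebra R Ω]
    [IsAlgClosed Ω] (w : R) (hw : 3 * w = 1) (r : R) :
    ∃ (E : WeierstrassCurve Ω) (_ : E.IsElliptic), E.j = algebraMap R Ω r ∧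
      IsIntegral R E.a₁ ∧ IsIntegral R E.a₂ ∧ IsIntegral R E.a₃ ∧ IsIntegral R E.a₄ ∧
      IsIntegral R E.a₆ ∧ ∃ d : Ω, E.Δ * d = 1 ∧ IsIntegral R d := by
  let QR : R[X] := X ^ 12 - 72 * X ^ 9 + 1728 * X ^ 6 - C (13824 + r) * X ^ 3 + C (27 * r)
  have hQm : QR.Monic := by
    simp only [QR]
    monicity!
  have hdeg : (QR.map (algebraMap R Ω)).degree ≠ 0 := by
    haveI : Nontrivial R := (algebraMap R Ω).domain_nontrivial
    have : QR.natDegree = 12 := by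
      simp only [QR]
      compute_degree!
    rw [degree_eq_natDegree (hQm.map (algebraMap R Ω)).ne_zero, hQm.natDegree_map, this]
    norm_num
  obtain ⟨a, ha⟩ := IsAlgClosed.exists_root _ hdeg
  rw [IsRoot, eval_map] at ha
  have haint : IsIntegral R a := ⟨QR, hQm, ha⟩
  set ρ : Ω := algebraMap R Ω r with hρ
  set ω : Ω := algebraMap R Ω w with hω
  have hρi : IsIntegral R ρ := isIntegral_algebraMap
  have hωi : IsIntegral R ω := isIntegral_algebraMap
  have h3 : 3 * ω = 1 := by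
    rw [hω, ← map_ofNat (algebraMap R Ω) 3, ← map_mul, hw, map_one]
  have hroot : a ^ 12 - 72 * a ^ 9 + 1728 * a ^ 6 - (13824 + ρ) * a ^ 3 + 27 * ρ = 0 := by
    simpa [QR, eval₂_add, eval₂_sub, eval₂_mul, eval₂_pow, map_ofNat] using ha
  have h729 : 729 * ω ^ 6 = 1 := by
    calc 729 * ω ^ 6 = (3 * ω) ^ 6 := by ring
      _ = 1 := by rw [h3, one_pow]
  set δ : Ω := a ^ 3 - 27 with hδ
  have hδi : IsIntegral R δ := by rw [hδ]; integ
  let E : WeierstrassCurve Ω := ⟨a, 0, 1, 0, 0⟩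
  have hΔ : E.Δ = δ := by
    simp only [E, WeierstrassCurve.Δ, WeierstrassCurve.b₂, WeierstrassCurve.b₄,
      WeierstrassCurve.b₆, WeierstrassCurve.b₈, hδ]
    ring
  have hc₄ : E.c₄ = a * (a ^ 3 - 24) := by
    simp only [E, WeierstrassCurve.c₄, WeierstrassCurve.b₂, WeierstrassCurve.b₄]
    ring
  have hd : E.Δ * (ω ^ 6 * (ρ - δ ^ 3 - 36 * δ ^ 2 - 270 * δ - 756)) = 1 := by
    rw [hΔ, hδ]
    linear_combination (-ω ^ 6) * hroot + h729
  haveI hE : E.IsElliptic := ⟨IsUnit.of_mul_eq_one _ hd⟩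
  refine ⟨E, hE, ?_, ?_, ?_, ?_, ?_, ?_, ω ^ 6 * (ρ - δ ^ 3 - 36 * δ ^ 2 - 270 * δ - 756), hd, ?_⟩
  · apply j_eq_of_mul
    rw [hΔ, hc₄, hδ]
    linear_combination (-1) * hroot
  · exact haint
  · exact isIntegral_zero
  · exact isIntegral_one
  · exact isIntegral_zero
  · exact isIntegral_zero
  · integ

end Groth.Agent.H6.EllJ
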