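import Mathlib
import Groth.Agent.Lib.Helper6.EllJ1
import Groth.Agent.Lib.Helper6.EllJ3
import Groth.Agent.Lib.Helper6.EllJ4

set_option autoImplicit false
universe u

namespace Groth.Agent.H6.EllJ

theorem main {R : Type u} [CommRing R] [IsDomain R]
    [IsDiscreteValuationRing R] {K : Type u} [Field K] [Algebra R K] [IsFractionRing R K]
    (W : WeierstrassCurve K) [W.IsElliptic] :
    (∃ r : R, algebraMap R K r = W.j) ↔
      ∃ (L : Type u) (_ : Field L) (_ : Algebra K L) (_ : FiniteDimensional K L) (RL : Type u)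
        (_ : CommRing RL) (_ : IsDomain RL) (_ : IsDiscreteValuationRing RL) (_ : Algebra RL L)
        (_ : IsFractionRing RL L) (φ : R →+* RL), IsLocalHom φ ∧
        (∀ r : R, algebraMap K L (algebraMap R K r) = algebraMap RL L (φ r)) ∧
        ((W.baseChange L).minimal RL).HasGoodReduction RL := by
  constructor
  · rintro ⟨r, hr⟩
    have hjr : algebraMap K (AlgebraicClosure K) W.j = algebraMap R (AlgebraicClosure K) r := by
      rw [← hr, ← IsScalarTower.algebraMap_apply]
    have h23 : IsUnit (3 : R) ∨ IsUnit (-2 : R) :=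
      IsLocalRing.isUnit_or_isUnit_of_isUnit_add (by norm_num)
    rcases h23 with h3 | h2
    · obtain ⟨w, hw⟩ := h3.exists_right_inv
      obtain ⟨E, hE, hj, h₁, h₂, h₃, h₄, h₆, d, hd, hdi⟩ :=
        exists_model_three (Ω := AlgebraicClosure K) w hw r
      exact pgr_of_model W E (hj.trans hjr.symm) h₁ h₂ h₃ h₄ h₆ d hd hdi
    · obtain ⟨w, hw⟩ := h2.exists_right_inv
      obtain ⟨E, hE, hj, h₁, h₂, h₃, h₄, h₆, d, hd, hdi⟩ :=
        exists_model_two (Ω := AlgebraicClosure K) (-w) (by linear_combination hw) r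
      exact pgr_of_model W E (hj.trans hjr.symm) h₁ h₂ h₃ h₄ h₆ d hd hdi
  · exact j_of_pgr W

end Groth.Agent.H6.EllJ
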