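import Mathlib
import Groth.Agent.Lib.Helper6.Conn15
set_option autoImplicit false
open AlgebraicGeometry CategoryTheory CategoryTheory.Limits An Topology TopologicalSpace

namespace Groth.Agent.H6.Eps

open Groth.Agent.H6.An

section basics

variable {A : Scheme.{0}} [A.Over SC] [LocallyOfFiniteType (A ↘ SC)]

/-- An open subset containing the underlying points of all `ℂ`-points is everything. -/
lemma eq_univ_of_forall_pt_mem {Z : Set A} (hZ : IsOpen Z) (h : ∀ α : Pts A, α.pt ∈ Z) :
    Z = Set.univ := by
  have h1 : (Pts.pt ⁻¹' Zᶜ : Set (Pts A)) = ∅ := by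
    ext α
    simp only [Set.mem_preimage, Set.mem_compl_iff, Set.mem_empty_iff_false, iff_false, not_not]
    exact h α
  have := Groth.Agent.H6.Conn.eq_empty_of_preimage_pt_eq_empty hZ.isClosed_compl.isLocallyClosed h1
  exact Set.compl_empty_iff.1 this

/-- An open immersion through which all `ℂ`-points factor is an isomorphism. -/
lemma isIso_of_isOpenImmersion_of_pts {P : Scheme.{0}} (j : P ⟶ A) [IsOpenImmersion j]
    (h : ∀ α : Pts A, α.pt ∈ Set.range j) : IsIso j := by
  rw [isIso_iff_isOpenImmersion_and_surjective]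
  refine ⟨inferInstance, ⟨?_⟩⟩
  rw [← Set.range_eq_univ]
  exact eq_univ_of_forall_pt_mem j.isOpenEmbedding.isOpen_range h

/-- Two morphisms over a base `S` into a scheme unramified over `S` that agree on `ℂ`-points are
equal. -/
theorem eq_of_map_eq {B S : Scheme.{0}} [B.Over SC] (f₁ f₂ : A ⟶ B) [f₁.IsOver SC] [f₂.IsOver SC]
    (b : B ⟶ S) [FormallyUnramified b] [LocallyOfFiniteType b] (hb : f₁ ≫ b = f₂ ≫ b)
    (h : ∀ α : Pts A, Pts.map f₁ α = Pts.map f₂ α) : f₁ = f₂ := by
  let d := pullback.diagonal b
  let l : A ⟶ pullback b b := pullback.lift f₁ f₂ hb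
  have hl1 : l ≫ pullback.fst b b = f₁ := pullback.lift_fst _ _ _
  have hl2 : l ≫ pullback.snd b b = f₂ := pullback.lift_snd _ _ _
  have hd1 : d ≫ pullback.fst b b = 𝟙 B := pullback.diagonal_fst b
  have hd2 : d ≫ pullback.snd b b = 𝟙 B := pullback.diagonal_snd b
  have h1 : pullback.fst d l = pullback.snd d l ≫ f₁ := by
    have := congrArg (· ≫ pullback.fst b b) (pullback.condition (f := d) (g := l))
    simp only [Category.assoc, hl1, hd1, Category.comp_id] at this
    exact this
  have h2 : pullback.fst d l = pullback.snd d l ≫ f₂ := by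
    have := congrArg (· ≫ pullback.snd b b) (pullback.condition (f := d) (g := l))
    simp only [Category.assoc, hl2, hd2, Category.comp_id] at this
    exact this
  have hiso : IsIso (pullback.snd d l) := by
    apply isIso_of_isOpenImmersion_of_pts
    intro α
    have hα : α.1 ≫ f₁ = α.1 ≫ f₂ := congrArg Subtype.val (h α)
    let t : SC ⟶ pullback d l := pullback.lift (α.1 ≫ f₁) α.1 (by
      apply pullback.hom_ext
      · simp only [Category.assoc, hl1, hd1, Category.comp_id]
      · simp only [Category.assoc, hl2, hd2, Category.comp_id, hα])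
    refine ⟨t cpt, ?_⟩
    have ht : t ≫ pullback.snd d l = α.1 := pullback.lift_snd _ _ _
    change (pullback.snd d l) (t cpt) = α.1 cpt
    rw [← ht]
    exact (Scheme.Hom.comp_apply _ _ _).symm
  rw [← cancel_epi (pullback.snd d l), ← h1, ← h2]

end basics

end Groth.Agent.H6.Eps
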