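import Mathlib
import Groth.Agent.Lib.Helper6.Eps1
import Groth.Agent.Lib.Helper6.An13b
set_option autoImplicit false
open AlgebraicGeometry CategoryTheory CategoryTheory.Limits An Topology TopologicalSpace

namespace Groth.Agent.H6.Eps

open Groth.Agent.H6.An Groth.Agent.H6.Conn

section clopen

variable {X : Scheme.{0}} [X.Over SC] [LocallyOfFiniteType (X ↘ SC)]

/-- Every clopen subset of `X(ℂ)` is the set of `ℂ`-points of a clopen subset of `X`. -/
theorem exists_isClopen_preimage_pt_eq (M : Set (Pts X)) (hM : IsClopen M) :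
    ∃ Z : Set X, IsClopen Z ∧ Pts.pt ⁻¹' Z = M := by
  set Z : Set X := {x : X | {y : Pts X | x ⤳ y.pt} ⊆ M} with hZ
  set Z' : Set X := {x : X | {y : Pts X | x ⤳ y.pt} ⊆ Mᶜ} with hZ'
  have hZc : IsClosed Z := isClosed_setOf_specializes_subset M hM
  have hZ'c : IsClosed Z' := isClosed_setOf_specializes_subset Mᶜ hM.compl
  have hcompl : Z' = Zᶜ := by
    ext x
    constructor
    · intro hx' hx
      obtain ⟨y, hy⟩ := nonempty_specializes x
      exact hx' hy (hx hy)
    · intro hx y hy hyM
      apply hx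
      exact (isPreconnected_specializes x).subset_isClopen hM ⟨y, hy, hyM⟩
  refine ⟨Z, ⟨hZc, by rw [← isClosed_compl_iff, ← hcompl]; exact hZ'c⟩, ?_⟩
  ext y
  constructor
  · intro hy
    exact hy (show y.pt ⤳ y.pt from specializes_rfl)
  · intro hy y' hy'
    have h1 : y'.pt ∈ closure {y.pt} := specializes_iff_mem_closure.1 hy'
    rw [(isClosed_singleton_pt y).closure_eq] at h1
    have : y' = y := pt_injective h1
    rw [this]; exact hy

end clopen

section mono

variable {A B : Scheme.{0}} [A.Over SC] [B.Over SC] [LocallyOfFiniteType (A ↘ SC)]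
  [LocallyOfFiniteType (B ↘ SC)]

/-- An étale morphism that is bijective on `ℂ`-points is an isomorphism. -/
theorem isIso_of_etale_of_bijective (φ : A ⟶ B) [φ.IsOver SC] [Etale φ]
    (hφ : Function.Bijective (Pts.map φ)) : IsIso φ := by
  have hmono : Mono φ := by
    rw [← pullback.isIso_diagonal_iff]
    apply isIso_of_isOpenImmersion_of_pts
    intro γ
    let γ₁ : Pts A := Pts.map (pullback.fst φ φ) γ
    let γ₂ : Pts A := Pts.map (pullback.snd φ φ) γ
    have h12 : γ₁ = γ₂ := by
      apply hφ.1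
      exact Pts.map_pullback_condition φ φ γ
    have hγ : γ.1 = γ₁.1 ≫ pullback.diagonal φ := by
      apply pullback.hom_ext
      · rw [Category.assoc, pullback.diagonal_fst, Category.comp_id]; rfl
      · rw [Category.assoc, pullback.diagonal_snd, Category.comp_id, h12]; rfl
    refine ⟨γ₁.pt, ?_⟩
    change (pullback.diagonal φ) (γ₁.1 cpt) = γ.1 cpt
    rw [hγ]
    exact (Scheme.Hom.comp_apply _ _ _).symm
  have : IsOpenImmersion φ := IsOpenImmersion.of_flat_of_mono φ
  apply isIso_of_isOpenImmersion_of_pts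
  intro α
  obtain ⟨β, rfl⟩ := hφ.2 α
  exact ⟨β.pt, (Pts.pt_map φ β).symm⟩

end mono

end Groth.Agent.H6.Eps
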