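import Mathlib
import Groth.Agent.Lib.Helper6.Eps2
set_option autoImplicit false
open AlgebraicGeometry CategoryTheory CategoryTheory.Limits An Topology TopologicalSpace

namespace Groth.Agent.H6.Eps

open Groth.Agent.H6.An Groth.Agent.H6.Conn

section full

variable {X U V : Scheme.{0}} [X.Over SC] [U.Over SC] [V.Over SC] [LocallyOfFiniteType (X ↘ SC)]

/-- Fullness: a continuous map `U(ℂ) → V(ℂ)` over `X(ℂ)` between étale `X`-schemes, the target
separated over `X`, is induced by a morphism of `X`-schemes. -/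
theorem exists_hom_of_continuous (u : U ⟶ X) (v : V ⟶ X) [u.IsOver SC] [v.IsOver SC]
    [Etale u] [Etale v] [IsSeparated v]
    (h : Pts U → Pts V) (hc : Continuous h) (hov : ∀ α, Pts.map v (h α) = Pts.map u α) :
    ∃ g : U ⟶ V, g ≫ v = u ∧ ∀ α : Pts U, α.1 ≫ g = (h α).1 := by
  have hU : LocallyOfFiniteType (U ↘ SC) := by rw [← comp_over u SC]; infer_instance
  have hV : LocallyOfFiniteType (V ↘ SC) := by rw [← comp_over v SC]; infer_instance
  let W := pullback u v
  let π₁ : W ⟶ U := pullback.fst u v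
  let π₂ : W ⟶ V := pullback.snd u v
  -- the section of `W(ℂ) → U(ℂ)` given by the graph of `h`
  let Φ := (pullback_isHomeomorph u v).homeomorph
  let σ : Pts U → Pts W := fun α => Φ.symm ⟨(α, h α), (hov α).symm⟩
  have hσc : Continuous σ := Φ.symm.continuous.comp
    (Continuous.subtype_mk (continuous_id.prodMk hc) _)
  have hΦσ : ∀ α, Φ (σ α) = ⟨(α, h α), (hov α).symm⟩ := fun α => Φ.apply_symm_apply _
  have hσ1 : ∀ α, Pts.map π₁ (σ α) = α := fun α =>
    congrArg (fun q => q.1.1) (hΦσ α)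
  have hσ2 : ∀ α, Pts.map π₂ (σ α) = h α := fun α =>
    congrArg (fun q => q.1.2) (hΦσ α)
  have hinj : ∀ w w' : Pts W, Pts.map π₁ w = Pts.map π₁ w' → Pts.map π₂ w = Pts.map π₂ w' →
      w = w' := by
    intro w w' h1 h2
    apply Φ.injective
    apply Subtype.ext
    exact Prod.ext h1 h2
  have hσπ : ∀ w : Pts W, w ∈ Set.range σ → σ (Pts.map π₁ w) = w := by
    rintro _ ⟨α, rfl⟩
    rw [hσ1]
  -- the graph is clopen
  have hlh : IsLocalHomeomorph (Pts.map π₁) := isLocalHomeomorph_map_of_etale π₁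
  have hσlh : IsLocalHomeomorph σ := by
    refine IsLocalHomeomorph.of_comp (g := Pts.map π₁) ?_ hlh hσc
    have : Pts.map π₁ ∘ σ = id := funext hσ1
    rw [this]
    exact (Homeomorph.refl _).isLocalHomeomorph
  have hopen : IsOpen (Set.range σ) := hσlh.isOpenMap.isOpen_range
  have hsep : IsSeparatedMap (Pts.map π₁) := (isSeparated_iff_pts π₁).1 inferInstance
  have hclosed : IsClosed (Set.range σ) := by
    have h1 : Set.range σ = {w | (σ ∘ Pts.map π₁) w = id w} := by
      ext w
      constructor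
      · intro hw
        exact hσπ w hw
      · intro hw
        exact ⟨Pts.map π₁ w, hw⟩
    rw [h1]
    apply hsep.isClosed_eqLocus (hσc.comp (Pts.continuous_map π₁)) continuous_id
    funext w
    simp only [Function.comp_apply, id_eq]
    exact hσ1 _
  obtain ⟨Z, hZ, hZM⟩ := exists_isClopen_preimage_pt_eq (Set.range σ) ⟨hclosed, hopen⟩
  let Zo : W.Opens := ⟨Z, hZ.isOpen⟩
  let φ : Zo.toScheme ⟶ U := Zo.ι ≫ π₁
  have hφmap : ∀ β : Pts Zo.toScheme, Pts.map φ β = Pts.map π₁ (Pts.map Zo.ι β) := fun β =>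
    Subtype.ext (by simp [φ])
  have hmem : ∀ β : Pts Zo.toScheme, Pts.map Zo.ι β ∈ Set.range σ := by
    intro β
    rw [← hZM]
    have : Pts.map Zo.ι β ∈ Set.range (Pts.map Zo.ι) := ⟨β, rfl⟩
    rw [range_map_ι] at this
    exact this
  have hbij : Function.Bijective (Pts.map φ) := by
    constructor
    · intro β₁ β₂ h12
      rw [hφmap, hφmap] at h12
      apply (isOpenEmbedding_map_ι Zo).injective
      rw [← hσπ _ (hmem β₁), ← hσπ _ (hmem β₂), h12]
    · intro α
      have h1 : σ α ∈ Set.range (Pts.map Zo.ι) := by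
        rw [range_map_ι]
        change σ α ∈ Pts.pt ⁻¹' Z
        rw [hZM]
        exact ⟨α, rfl⟩
      obtain ⟨β, hβ⟩ := h1
      refine ⟨β, ?_⟩
      rw [hφmap, hβ, hσ1]
  have hiso : IsIso φ := isIso_of_etale_of_bijective φ hbij
  refine ⟨inv φ ≫ Zo.ι ≫ π₂, ?_, ?_⟩
  · rw [Category.assoc, Category.assoc]
    have : π₂ ≫ v = π₁ ≫ u := pullback.condition.symm
    rw [this, ← Category.assoc Zo.ι, IsIso.inv_hom_id_assoc]
  · intro α
    obtain ⟨β, hβ⟩ := hbij.2 α
    have h1 : β.1 ≫ φ = α.1 := congrArg Subtype.val hβ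
    have h2 : α.1 ≫ inv φ = β.1 := by rw [← h1, Category.assoc, IsIso.hom_inv_id, Category.comp_id]
    rw [← Category.assoc, h2]
    have h3 : Pts.map Zo.ι β = σ α := by
      rw [← hσπ _ (hmem β), ← hφmap, hβ]
    have h4 := congrArg Subtype.val (hσ2 α)
    rw [← h3] at h4
    simpa using h4

end full

end Groth.Agent.H6.Eps
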