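import Mathlib
import Groth.Agent.Lib.Helper6.Eps3
set_option autoImplicit false
open AlgebraicGeometry CategoryTheory CategoryTheory.Limits An Topology TopologicalSpace

namespace Groth.Agent.H6.Eps

open Groth.Agent.H6.An Groth.Agent.H6.Conn

section epsff

variable (X : Scheme.{0}) [X.Over SC] [LocallyOfFiniteType (X ↘ SC)] [Fact EtaleLH]

theorem eps_faithful : (eps X).Faithful := by
  refine ⟨fun {U V} g g' h => ?_⟩
  have h1 : ∀ α : Pts U.left, Pts.map g.left α = Pts.map g'.left α := fun α =>
    congrFun (congrArg Cl.Hom.toFun h) α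
  have : Etale V.hom := V.prop
  have h2 : g.left = g'.left :=
    eq_of_map_eq g.left g'.left V.hom (by rw [Over.w g.hom, Over.w g'.hom]) h1
  exact MorphismProperty.Over.Hom.ext h2

theorem eps_full (U V : X.Etale) [IsSeparated (V.left ↘ X)] :
    Function.Surjective ((eps X).map : (U ⟶ V) → ((eps X).obj U ⟶ (eps X).obj V)) := by
  intro k
  have : Etale (U.left ↘ X) := U.prop
  have : Etale (V.left ↘ X) := V.prop
  obtain ⟨g, hg, hgk⟩ := exists_hom_of_continuous (U.left ↘ X) (V.left ↘ X) k.toFun k.continuous
    (fun α => k.over α)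
  refine ⟨MorphismProperty.Over.homMk g hg trivial, ?_⟩
  apply Cl.hom_ext
  funext α
  apply Subtype.ext
  exact hgk α

end epsff

end Groth.Agent.H6.Eps
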