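import Mathlib
import Groth.Prelude.Def_ARSys
import Groth.Prelude.Def_DerCA
import Groth.Agent.Lib.Helper2.ARSys0

/-! Essential constancy for inverse systems of Artinian modules with Artinian limit. -/

set_option autoImplicit false
universe u
open CategoryTheory CategoryTheory.Limits Opposite

namespace Groth.Agent.H6

namespace EssArt

variable {A : Type u} [CommRing A] (X : ℕᵒᵖ ⥤ ModuleCat.{u} A)

/-- transition maps as linear maps -/
noncomputable abbrev t {n m : ℕ} (h : n ≤ m) : X.obj (op m) →ₗ[A] X.obj (op n) := (ARSys.tr X h).hom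

lemma t_comp {n m k : ℕ} (h : n ≤ m) (h' : m ≤ k) (x : X.obj (op k)) :
    t X h (t X h' x) = t X (h.trans h') x := by
  have := congrArg (fun ψ => ψ.hom x) (Groth.Agent.H2.AR.tr_comp X h h')
  exact this

lemma t_self (n : ℕ) (x : X.obj (op n)) : t X (le_refl n) x = x := by
  have := congrArg (fun ψ => ψ.hom x) (Groth.Agent.H2.AR.tr_self X n)
  exact this

lemma range_t_anti {n m k : ℕ} (h : n ≤ m) (h' : m ≤ k) :
    LinearMap.range (t X (h.trans h')) ≤ LinearMap.range (t X h) := by
  rintro _ ⟨x, rfl⟩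
  exact ⟨t X h' x, t_comp X h h' x⟩

variable (hX : ∀ n : ℕ, IsArtinian A (X.obj (op n)))

include hX in
lemma exists_stable (n : ℕ) : ∃ r : ℕ, ∀ m (h : n ≤ m), n + r ≤ m →
    LinearMap.range (t X h) = LinearMap.range (t X (Nat.le_add_right n r)) := by
  have := hX n
  let f : ℕ →o (Submodule A (X.obj (op n)))ᵒᵈ :=
    { toFun := fun s => OrderDual.toDual (LinearMap.range (t X (Nat.le_add_right n s)))
      monotone' := by
        intro s s' hs
        have h1 : n + s ≤ n + s' := by omega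
        exact range_t_anti X (Nat.le_add_right n s) h1 }
  obtain ⟨r, hr⟩ := IsArtinian.monotone_stabilizes f
  refine ⟨r, fun m h hm => ?_⟩
  obtain ⟨s, rfl⟩ : ∃ s, m = n + s := ⟨m - n, by omega⟩
  have := hr s (by omega)
  exact (congrArg OrderDual.ofDual this).symm

/-- the stable image -/
noncomputable def E (n : ℕ) : Submodule A (X.obj (op n)) :=
  LinearMap.range (t X (Nat.le_add_right n (exists_stable X hX n).choose))

noncomputable def r (n : ℕ) : ℕ := (exists_stable X hX n).choose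

lemma E_eq (n m : ℕ) (h : n ≤ m) (hm : n + r X hX n ≤ m) : LinearMap.range (t X h) = E X hX n :=
  (exists_stable X hX n).choose_spec m h hm

lemma E_le (n m : ℕ) (h : n ≤ m) : E X hX n ≤ LinearMap.range (t X h) := by
  have h1 : m ≤ max m (n + r X hX n) := le_max_left _ _
  rw [← E_eq X hX n (max m (n + r X hX n)) (h.trans h1) (le_max_right _ _)]
  exact range_t_anti X h h1

lemma E_surj (n m : ℕ) (h : n ≤ m) (y : X.obj (op n)) (hy : y ∈ E X hX n) :
    ∃ w ∈ E X hX m, t X h w = y := by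
  set p := max (m + r X hX m) (n + r X hX n) with hp
  have hmp : m ≤ p := (Nat.le_add_right _ _).trans (le_max_left _ _)
  rw [← E_eq X hX n p (h.trans hmp) (le_max_right _ _)] at hy
  obtain ⟨z, rfl⟩ := hy
  refine ⟨t X hmp z, ?_, t_comp X h hmp z⟩
  rw [← E_eq X hX m p hmp (le_max_left _ _)]
  exact ⟨z, rfl⟩

lemma exists_mem_E (j m k : ℕ) (hjm : j ≤ m) (hmk : m ≤ k) (hk : m + r X hX m ≤ k) (x : X.obj (op k)) :
    t X hmk x ∈ E X hX m := by
  rw [← E_eq X hX m k hmk hk]
  exact ⟨x, rfl⟩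

/-- a sequence of lifts in the stable images -/
noncomputable def zseq (n : ℕ) (y : X.obj (op n)) (hy : y ∈ E X hX n) :
    (s : ℕ) → {w : X.obj (op (n + s)) // w ∈ E X hX (n + s)}
  | 0 => ⟨y, hy⟩
  | s + 1 => ⟨(E_surj X hX (n + s) (n + (s + 1)) (by omega) (zseq n y hy s).1 (zseq n y hy s).2).choose,
      (E_surj X hX (n + s) (n + (s + 1)) (by omega) (zseq n y hy s).1 (zseq n y hy s).2).choose_spec.1⟩

lemma zseq_succ (n : ℕ) (y : X.obj (op n)) (hy : y ∈ E X hX n) (s : ℕ) :
    t X (by omega : n + s ≤ n + (s + 1)) (zseq X hX n y hy (s + 1)).1 = (zseq X hX n y hy s).1 :=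
  (E_surj X hX (n + s) (n + (s + 1)) (by omega) (zseq X hX n y hy s).1
    (zseq X hX n y hy s).2).choose_spec.2

lemma zseq_compat (n : ℕ) (y : X.obj (op n)) (hy : y ∈ E X hX n) (s s' : ℕ) (h : s ≤ s') :
    t X (by omega : n + s ≤ n + s') (zseq X hX n y hy s').1 = (zseq X hX n y hy s).1 := by
  induction s', h using Nat.le_induction with
  | base => exact t_self X _ _
  | succ s' h ih =>
    have h1 : n + s ≤ n + s' := by omega
    have h2 : n + s' ≤ n + (s' + 1) := by omega
    rw [← t_comp X h1 h2, zseq_succ, ih]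

variable {H : ModuleCat.{u} A} (c : (Functor.const ℕᵒᵖ).obj H ⟶ X)

noncomputable abbrev cn (n : ℕ) : H →ₗ[A] X.obj (op n) := (c.app (op n)).hom

lemma c_nat {n m : ℕ} (h : n ≤ m) (x : H) : t X h (cn X c m x) = cn X c n x := by
  have := congrArg (fun ψ => ψ.hom x) (c.naturality (homOfLE h).op)
  exact this.symm

lemma range_cn_le (n : ℕ) : LinearMap.range (cn X c n) ≤ E X hX n := by
  rintro _ ⟨x, rfl⟩
  rw [← c_nat X c (Nat.le_add_right n (r X hX n)) x]
  exact exists_mem_E X hX n n _ le_rfl _ le_rfl _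

variable (hsurj : ∀ y : (∀ n : ℕ, X.obj (op n)),
  (∀ (n m : ℕ) (h : n ≤ m), (X.map (homOfLE h).op) (y m) = y n) → ∃ x : H, ∀ n : ℕ, (c.app (op n)) x = y n)

include hsurj in
lemma E_le_range_cn (n : ℕ) : E X hX n ≤ LinearMap.range (cn X c n) := by
  intro y hy
  let Y : ∀ m : ℕ, X.obj (op m) := fun m => t X (Nat.le_add_left m n) (zseq X hX n y hy m).1
  have hY : ∀ (m m' : ℕ) (h : m ≤ m'), (X.map (homOfLE h).op) (Y m') = Y m := by
    intro m m' h
    change t X h (t X (Nat.le_add_left m' n) (zseq X hX n y hy m').1) =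
      t X (Nat.le_add_left m n) (zseq X hX n y hy m).1
    have h1 : n + m ≤ n + m' := by omega
    rw [t_comp, ← zseq_compat X hX n y hy m m' h, t_comp]
  obtain ⟨x, hx⟩ := hsurj Y hY
  refine ⟨x, ?_⟩
  have h1 := hx n
  have h2 := zseq_compat X hX n y hy 0 n (Nat.zero_le n)
  change cn X c n x = t X (Nat.le_add_left n n) (zseq X hX n y hy n).1 at h1
  rw [h1]
  exact h2

variable (hH : IsArtinian A H) (hinj : ∀ x : H, (∀ n : ℕ, (c.app (op n)) x = 0) → x = 0)

include hH hinj in
lemma exists_injective : ∃ n₀ : ℕ, ∀ m, n₀ ≤ m → Function.Injective (cn X c m) := by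
  let f : ℕ →o (Submodule A H)ᵒᵈ :=
    { toFun := fun n => OrderDual.toDual (LinearMap.ker (cn X c n))
      monotone' := by
        intro n m hnm
        change LinearMap.ker (cn X c m) ≤ LinearMap.ker (cn X c n)
        intro x hx
        rw [LinearMap.mem_ker] at hx ⊢
        rw [← c_nat X c hnm, hx, map_zero] }
  obtain ⟨n₀, hn₀⟩ := IsArtinian.monotone_stabilizes f
  have hker : ∀ m, n₀ ≤ m → LinearMap.ker (cn X c m) = LinearMap.ker (cn X c n₀) := fun m hm =>
    (congrArg OrderDual.ofDual (hn₀ m hm)).symm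
  have h0 : LinearMap.ker (cn X c n₀) = ⊥ := by
    rw [eq_bot_iff]
    intro x hx
    rw [Submodule.mem_bot]
    apply hinj
    intro n
    by_cases hn : n₀ ≤ n
    · have : x ∈ LinearMap.ker (cn X c n) := by rw [hker n hn]; exact hx
      exact this
    · have hn' : n ≤ n₀ := by omega
      rw [LinearMap.mem_ker] at hx
      change cn X c n x = 0
      rw [← c_nat X c hn', hx, map_zero]
  refine ⟨n₀, fun m hm => ?_⟩
  rw [← LinearMap.ker_eq_bot, hker m hm, h0]

include hX hsurj hH hinj in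
/-- An inverse system of Artinian modules whose limit is an Artinian module `H` (elementwise) is essentially
constant with value `H`. -/
theorem isEssConstant : DerCA.IsEssConstant X H c := by
  obtain ⟨n₁, hn₁⟩ := exists_injective X c hH hinj
  have hrange : ∀ n, LinearMap.range (cn X c n) = E X hX n := fun n =>
    le_antisymm (range_cn_le X hX c n) (E_le_range_cn X hX c hsurj n)
  set k := n₁ + r X hX n₁ with hk
  have hn₁k : n₁ ≤ k := Nat.le_add_right _ _
  let e : H ≃ₗ[A] E X hX n₁ := (LinearEquiv.ofInjective (cn X c n₁) (hn₁ n₁ le_rfl)).trans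
    (LinearEquiv.ofEq _ _ (hrange n₁))
  have he : ∀ x : H, ((e x : E X hX n₁) : X.obj (op n₁)) = cn X c n₁ x := fun x => rfl
  let sl : X.obj (op k) →ₗ[A] H := e.symm.toLinearMap ∘ₗ
    (LinearMap.codRestrict (E X hX n₁) (t X hn₁k)
      (fun x => exists_mem_E X hX n₁ n₁ k le_rfl hn₁k le_rfl x))
  have hs : ∀ x : X.obj (op k), cn X c n₁ (sl x) = t X hn₁k x := by
    intro x
    rw [← he]
    simp [sl]
  refine ⟨k, ModuleCat.ofHom sl, ?_, ?_⟩
  · ext x
    apply hn₁ n₁ le_rfl
    change cn X c n₁ (sl (cn X c k x)) = cn X c n₁ x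
    rw [hs, c_nat]
  · intro j
    set m := max j n₁ with hm
    have hn₁m : n₁ ≤ m := le_max_right _ _
    have hjm : j ≤ m := le_max_left _ _
    set k' := max k (m + r X hX m) with hk'
    have hm1 : m ≤ k' := (Nat.le_add_right _ _).trans (le_max_right _ _)
    have hkk' : k ≤ k' := le_max_left _ _
    refine ⟨k', hkk', hjm.trans hm1, ?_⟩
    ext x
    change t X (hjm.trans hm1) x = cn X c j (sl (t X hkk' x))
    have hxm : t X hm1 x ∈ E X hX m := exists_mem_E X hX m m k' le_rfl hm1 (le_max_right _ _) x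
    rw [← hrange m] at hxm
    obtain ⟨h', hh'⟩ := hxm
    have h3 : sl (t X hkk' x) = h' := by
      apply hn₁ n₁ le_rfl
      rw [hs, t_comp, ← c_nat X c hn₁m h', hh', t_comp]
    rw [h3, ← c_nat X c hjm h', hh', t_comp]

end EssArt

end Groth.Agent.H6
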