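import Mathlib
import Groth.Agent.Lib.Helper8.SplitDom

set_option autoImplicit false
set_option linter.style.haveILetI false
open CategoryTheory AlgebraicGeometry CategoryTheory.Limits TensorProduct Polynomial

namespace Groth.Agent.H6.EtDom

universe u

set_option backward.isDefEq.respectTransparency false in
theorem s1390 {U S : Scheme.{u}} (e : U ⟶ S) [Etale e] (u : U) (s : S) (hu : e u = s) :
    ∃ (V : S.Opens) (T : Scheme.{u}) (π : T ⟶ (V : Scheme.{u})), s ∈ V ∧ IsAffineOpen V ∧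
      Surjective π ∧ IsFinite π ∧ Flat π ∧ LocallyOfFinitePresentation π ∧
      ∀ t : T, V.ι (π t) = s → ∃ (W : T.Opens) (h : (W : Scheme.{u}) ⟶ U), t ∈ W ∧
        h ≫ e = W.ι ≫ π ≫ V.ι ∧ ∀ ht : t ∈ W, h ⟨t, ht⟩ = u := by
  obtain ⟨_, ⟨(V : S.Opens), hV, rfl⟩, hsV, -⟩ :=
    S.isBasis_affineOpens.exists_subset_of_mem_open (Set.mem_univ s) isOpen_univ
  obtain ⟨_, ⟨(U₀ : U.Opens), hU₀, rfl⟩, huU₀, hUsub⟩ := U.isBasis_affineOpens.exists_subset_of_mem_open
    (show u ∈ ((e ⁻¹ᵁ V : U.Opens) : Set U) from by rw [← hu] at hsV; exact hsV) (e ⁻¹ᵁ V).isOpen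
  have le : U₀ ≤ e ⁻¹ᵁ V := hUsub
  set φ := e.appLE V U₀ le with hφ
  letI algAB : Algebra Γ(S, V) Γ(U, U₀) := φ.hom.toAlgebra
  haveI : Algebra.Etale Γ(S, V) Γ(U, U₀) := e.etale_appLE hV hU₀ le
  haveI : Algebra.FinitePresentation Γ(S, V) Γ(U, U₀) := Algebra.Etale.finitePresentation
  set y : PrimeSpectrum Γ(U, U₀) := hU₀.primeIdealOf ⟨u, huU₀⟩ with hy
  have hyu : hU₀.fromSpec y = u := hU₀.fromSpec_primeIdealOf ⟨u, huU₀⟩
  have hnat : Spec.map φ ≫ hV.fromSpec = hU₀.fromSpec ≫ e :=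
    IsAffineOpen.SpecMap_appLE_fromSpec e hV hU₀ le
  haveI : Algebra.IsEtaleAt Γ(S, V) y.asIdeal := inferInstance
  obtain ⟨b, hbQ, hstd⟩ := Algebra.IsEtaleAt.exists_isStandardEtale (R := Γ(S, V)) y.asIdeal
  obtain ⟨P⟩ := hstd.nonempty_standardEtalePresentation
  obtain ⟨C, _, _, hfin, hfree, hfp, hinj, r, hr⟩ :=
    Groth.Agent.H8.Split.exists_splitting_algebra P.f.natDegree Γ(S, V) P.f P.monic_f rfl
  -- the prime of the localisation
  have hdisj : Disjoint (Submonoid.powers b : Set Γ(U, U₀)) (y.asIdeal : Set Γ(U, U₀)) :=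
    (Ideal.disjoint_powers_iff_notMem_of_isPrime _).mpr hbQ
  haveI hq₁ : (y.asIdeal.map (algebraMap Γ(U, U₀) (Localization.Away b))).IsPrime :=
    IsLocalization.isPrime_of_isPrime_disjoint (.powers b) _ _ y.isPrime hdisj
  have hcomap : (y.asIdeal.map (algebraMap Γ(U, U₀) (Localization.Away b))).comap
      (algebraMap Γ(U, U₀) _) = y.asIdeal :=
    IsLocalization.under_map_of_isPrime_disjoint (.powers b) _ y.isPrime hdisj
  set q₁ := y.asIdeal.map (algebraMap Γ(U, U₀) (Localization.Away b)) with hq₁def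
  have hq₁R : q₁.under Γ(S, V) = y.asIdeal.under Γ(S, V) := by
    rw [Ideal.under, Ideal.under,
      IsScalarTower.algebraMap_eq Γ(S, V) Γ(U, U₀) (Localization.Away b),
      ← Ideal.comap_comap, hcomap]
  -- the scheme T
  let γ : Γ(S, V) ⟶ CommRingCat.of C := CommRingCat.ofHom (algebraMap Γ(S, V) C)
  let π₀ : Spec (CommRingCat.of C) ⟶ Spec Γ(S, V) := Spec.map γ
  let π : Spec (CommRingCat.of C) ⟶ (V : Scheme.{u}) := π₀ ≫ hV.isoSpec.inv
  have hπι : π ≫ V.ι = π₀ ≫ hV.fromSpec := by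
    simp only [π, Category.assoc]
    rfl
  haveI : Algebra.IsIntegral Γ(S, V) C := Algebra.IsIntegral.of_finite _ _
  have hπ₀surj : Surjective π₀ := by
    refine ⟨fun p => ?_⟩
    obtain ⟨Q, -, hQ, hQp⟩ := Ideal.exists_ideal_over_prime_of_isIntegral p.asIdeal
      (⊥ : Ideal C) (by
        rw [← RingHom.ker_eq_comap_bot, (RingHom.injective_iff_ker_eq_bot _).mp hinj]
        exact bot_le)
    exact ⟨⟨Q, hQ⟩, PrimeSpectrum.ext hQp⟩
  haveI hπ₀fin : IsFinite π₀ := by
    rw [IsFinite.SpecMap_iff]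
    exact RingHom.finite_algebraMap.mpr hfin
  haveI hπ₀flat : Flat π₀ := by
    rw [HasRingHomProperty.Spec_iff (P := @Flat)]
    exact RingHom.flat_algebraMap_iff.mpr inferInstance
  haveI hπ₀fp : LocallyOfFinitePresentation π₀ := by
    rw [HasRingHomProperty.Spec_iff (P := @LocallyOfFinitePresentation)]
    exact RingHom.finitePresentation_algebraMap.mpr hfp
  haveI := hπ₀surj
  refine ⟨V, Spec (CommRingCat.of C), π, hsV, hV, inferInstance, inferInstance, inferInstance,
    inferInstance, ?_⟩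
  intro t ht
  have h2 : ∀ w : Spec Γ(U, U₀), e (hU₀.fromSpec w) = hV.fromSpec (Spec.map φ w) := by
    intro w
    rw [← Scheme.Hom.comp_apply, ← hnat, Scheme.Hom.comp_apply]
  have hinjV : Function.Injective hV.fromSpec := hV.fromSpec.isOpenEmbedding.injective
  -- t lies over the same prime as y
  have htp : π₀ t = Spec.map φ y := by
    apply hinjV
    have h5 : hV.fromSpec (π₀ t) = V.ι (π t) := by
      rw [← Scheme.Hom.comp_apply, ← hπι, Scheme.Hom.comp_apply]
    rw [h5, ht, ← h2, hyu, hu]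
  have hunder : t.asIdeal.under Γ(S, V) = q₁.under Γ(S, V) := by
    rw [hq₁R]
    exact congrArg PrimeSpectrum.asIdeal htp
  obtain ⟨i, hi, ψ, hψ⟩ := Groth.Agent.H8.Split.exists_hom_away P r hr q₁ t.asIdeal hunder
  generalize hg'' : aeval (r i) P.g = g'' at hi ψ hψ
  -- the open W and the map
  let ιg : Spec (CommRingCat.of (Localization.Away g'')) ⟶ Spec (CommRingCat.of C) :=
    Spec.map (CommRingCat.ofHom (algebraMap C (Localization.Away g'')))
  let Ψ : Γ(U, U₀) ⟶ CommRingCat.of (Localization.Away g'') :=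
    CommRingCat.ofHom (ψ.toRingHom.comp (algebraMap Γ(U, U₀) (Localization.Away b)))
  let W : (Spec (CommRingCat.of C)).Opens := ιg.opensRange
  let h : (W : Scheme.{u}) ⟶ U := ιg.isoOpensRange.inv ≫ Spec.map Ψ ≫ hU₀.fromSpec
  have hrange : Set.range ιg = (PrimeSpectrum.basicOpen g'' : Set (PrimeSpectrum C)) :=
    PrimeSpectrum.localization_away_comap_range (Localization.Away g'') g''
  have htW : t ∈ W := by
    show t ∈ Set.range ιg
    rw [hrange]
    exact hi
  refine ⟨W, h, htW, ?_, ?_⟩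
  · -- commutativity
    have hring : φ ≫ Ψ = γ ≫ CommRingCat.ofHom (algebraMap C (Localization.Away g'')) := by
      ext a
      show ψ (algebraMap Γ(U, U₀) (Localization.Away b) (algebraMap Γ(S, V) Γ(U, U₀) a)) =
        algebraMap C (Localization.Away g'') (algebraMap Γ(S, V) C a)
      rw [← IsScalarTower.algebraMap_apply, ψ.commutes, ← IsScalarTower.algebraMap_apply]
    have hWι : W.ι = ιg.isoOpensRange.inv ≫ ιg := by
      rw [Iso.eq_inv_comp]; exact ιg.isoOpensRange_hom_ι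
    simp only [h, Category.assoc]
    rw [← hnat, hWι, hπι, Category.assoc]
    congr 1
    rw [← Spec.map_comp_assoc, hring, Spec.map_comp_assoc]
  · intro htW'
    -- the point of Spec (Away g'') over t
    obtain ⟨tg, htg⟩ : ∃ tg, ιg tg = t := htW
    have h1 : ιg.isoOpensRange.inv ⟨t, htW'⟩ = tg := by
      apply ιg.isOpenEmbedding.injective
      rw [htg]
      have : (ιg.isoOpensRange.inv ≫ ιg) ⟨t, htW'⟩ = t := by
        rw [ιg.isoOpensRange_inv_comp]; rfl
      exact this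
    show hU₀.fromSpec (Spec.map Ψ (ιg.isoOpensRange.inv ⟨t, htW'⟩)) = u
    rw [h1, ← hyu]
    congr 1
    apply PrimeSpectrum.ext
    -- ideal computation
    have h3 : tg.asIdeal = t.asIdeal.map (algebraMap C (Localization.Away g'')) := by
      have h4 : tg.asIdeal.comap (algebraMap C (Localization.Away g'')) = t.asIdeal :=
        congrArg PrimeSpectrum.asIdeal htg
      rw [← h4]
      exact (IsLocalization.map_under (Submonoid.powers g'') (Localization.Away g'') _).symm
    show (tg.asIdeal.comap (ψ.toRingHom.comp (algebraMap Γ(U, U₀) (Localization.Away b)))) = y.asIdeal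
    rw [← Ideal.comap_comap, h3, hψ, hcomap]

end Groth.Agent.H6.EtDom
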