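import Mathlib
import Groth.Agent.Lib.Helper1.FibDimEt

set_option autoImplicit false
universe u

namespace Groth.Agent.H6.EtFib

open AlgebraicGeometry CategoryTheory CategoryTheory.Limits

/-- the map on fibres induced by an étale-local square is étale. -/
theorem main {U U' V V' : Scheme.{u}} (h : U ⟶ V) (h' : U' ⟶ V') (a : U' ⟶ U)
    (b : V' ⟶ V) [Etale a] [Etale b] (comm : h' ≫ b = a ≫ h) (v' : V')
    (φ : h'.fiber v' ⟶ h.fiber (b v')) (hφ1 : φ ≫ h.fiberι (b v') = h'.fiberι v' ≫ a)
    (hφ2 : φ ≫ h.fiberToSpecResidueField (b v') =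
      h'.fiberToSpecResidueField v' ≫ Spec.map (b.residueFieldMap v')) :
    Etale φ := by
  -- the fibre product and the comparison map
  let c : U' ⟶ pullback h b := pullback.lift a h' comm.symm
  have hc1 : c ≫ pullback.fst h b = a := pullback.lift_fst _ _ _
  have hc2 : c ≫ pullback.snd h b = h' := pullback.lift_snd _ _ _
  haveI : Etale (c ≫ pullback.fst h b) := by rw [hc1]; infer_instance
  haveI : Etale c := MorphismProperty.of_postcomp (W := @Etale) (W' := @Etale) c
    (pullback.fst h b) inferInstance inferInstance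
  -- the fibre of `snd` over `v'`
  let θ : h'.fiber v' ⟶ (pullback.snd h b).fiber v' :=
    pullback.lift (h'.fiberι v' ≫ c) (h'.fiberToSpecResidueField v')
      (by rw [Category.assoc, hc2]; exact h'.fiber_fac v')
  have hθ1 : θ ≫ (pullback.snd h b).fiberι v' = h'.fiberι v' ≫ c := pullback.lift_fst _ _ _
  have hθ2 : θ ≫ (pullback.snd h b).fiberToSpecResidueField v' =
      h'.fiberToSpecResidueField v' := pullback.lift_snd _ _ _
  have sqθ : IsPullback θ (h'.fiberι v') ((pullback.snd h b).fiberι v') c := by
    refine IsPullback.of_right (h₁₂ := (pullback.snd h b).fiberToSpecResidueField v')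
      (h₂₂ := pullback.snd h b) (v₁₃ := V'.fromSpecResidueField v') ?_ hθ1 ?_
    · rw [hθ2, hc2]
      exact (IsPullback.of_hasPullback h' (V'.fromSpecResidueField v')).flip
    · exact (IsPullback.of_hasPullback (pullback.snd h b) (V'.fromSpecResidueField v')).flip
  haveI : Etale θ := MorphismProperty.of_isPullback (P := @Etale) sqθ.flip inferInstance
  -- the base change of the residue field extension
  obtain ⟨ρ, hρ, hρ1⟩ : ∃ ρ : (pullback.snd h b).fiber v' ⟶ h.fiber (b v'),
      IsPullback ρ ((pullback.snd h b).fiberToSpecResidueField v')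
        (h.fiberToSpecResidueField (b v')) (Spec.map (b.residueFieldMap v')) ∧
      ρ ≫ h.fiberι (b v') = (pullback.snd h b).fiberι v' ≫ pullback.fst h b :=
    ⟨_, isPullback_fiberToSpecResidueField_of_isPullback (IsPullback.of_hasPullback h b) v',
      pullback.lift_fst _ _ _⟩
  haveI : Etale (Spec.map (b.residueFieldMap v')) :=
    Groth.Agent.H1.FibDimEt.etale_SpecMap_residueFieldMap b v'
  haveI : Etale ρ := MorphismProperty.of_isPullback (P := @Etale) hρ.flip inferInstance
  have hφ : φ = θ ≫ ρ := by
    refine pullback.hom_ext (f := h) (g := V.fromSpecResidueField (b v')) ?_ ?_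
    · change φ ≫ h.fiberι (b v') = (θ ≫ ρ) ≫ h.fiberι (b v')
      rw [hφ1, Category.assoc, hρ1, ← Category.assoc, hθ1, Category.assoc, hc1]
    · change φ ≫ h.fiberToSpecResidueField (b v') =
        (θ ≫ ρ) ≫ h.fiberToSpecResidueField (b v')
      rw [hφ2, Category.assoc, hρ.w, ← Category.assoc, hθ2]
  rw [hφ]
  infer_instance

end Groth.Agent.H6.EtFib
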