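import Groth.Agent.Lib.Helper3.ExalAux
import Mathlib.RingTheory.AdicCompletion.Noetherian
import Mathlib.RingTheory.SimpleModule.Basic
import Mathlib.RingTheory.LocalRing.RingHom.Basic

/-!
# helper6: extensions of a Noetherian local ring by a simple module

The middle ring is local Noetherian; a power of its maximal ideal meets the kernel trivially;
it is complete when the base is.
-/

set_option autoImplicit false
set_option linter.style.haveILetI false
set_option linter.unusedTactic false
set_option linter.unusedVariables false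

universe u v

namespace Groth.Agent.H6.ExalPS

open IsLocalRing Exal Groth.Agent.H3.ExalAux

variable {A : Type u} {B L : Type v} [CommRing A] [CommRing B] [Algebra A B] [AddCommGroup L]
  [Module B L] (X : Exal.Ext A B L)

lemma isUnit_of_isUnit_proj (a : X.E) (h : IsUnit (X.proj a)) : IsUnit a := by
  obtain ⟨b', hb'⟩ := h.exists_right_inv
  obtain ⟨b, rfl⟩ := X.isExtension.proj_surjective b'
  obtain ⟨z, hz⟩ := exists_incl_eq_sub X (x := a * b) (y := 1) (by rw [map_mul, hb', map_one])
  have h1 : a * b = 1 + X.incl z := by rw [hz]; ring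
  have h2 : a * (b * (1 - X.incl z)) = 1 := by
    rw [← mul_assoc, h1]
    have := incl_mul_incl X z z
    linear_combination (-1 : X.E) * this
  exact IsUnit.of_mul_eq_one _ h2

instance isLocalHom_proj : IsLocalHom X.proj.toRingHom :=
  ⟨fun a h => isUnit_of_isUnit_proj X a h⟩

section Local

variable [IsLocalRing B]

instance nontrivial_E : Nontrivial X.E := by
  refine ⟨⟨0, 1, fun h => ?_⟩⟩
  have := congrArg X.proj h
  rw [map_zero, map_one] at this
  exact zero_ne_one this

instance isLocalRing_E : IsLocalRing X.E :=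
  RingHom.domain_isLocalRing X.proj.toRingHom

lemma mem_maximalIdeal_iff (a : X.E) : a ∈ maximalIdeal X.E ↔ X.proj a ∈ maximalIdeal B := by
  rw [IsLocalRing.mem_maximalIdeal, IsLocalRing.mem_maximalIdeal, mem_nonunits_iff,
    mem_nonunits_iff]
  constructor
  · intro h hu
    exact h (isUnit_of_isUnit_proj X a hu)
  · intro h hu
    exact h (hu.map X.proj)

lemma map_maximalIdeal : (maximalIdeal X.E).map X.proj.toRingHom = maximalIdeal B := by
  apply le_antisymm
  · rw [Ideal.map_le_iff_le_comap]
    intro a ha
    exact (mem_maximalIdeal_iff X a).1 ha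
  · intro b hb
    obtain ⟨a, rfl⟩ := X.isExtension.proj_surjective b
    exact Ideal.mem_map_of_mem _ ((mem_maximalIdeal_iff X a).2 hb)

lemma map_maximalIdeal_pow (n : ℕ) :
    (maximalIdeal X.E ^ n).map X.proj.toRingHom = maximalIdeal B ^ n := by
  rw [Ideal.map_pow, map_maximalIdeal]

lemma proj_mem_pow {a : X.E} {n : ℕ} (ha : a ∈ maximalIdeal X.E ^ n) :
    X.proj a ∈ maximalIdeal B ^ n := by
  rw [← map_maximalIdeal_pow X n]
  exact Ideal.mem_map_of_mem _ ha

lemma exists_mem_pow_proj_eq {b : B} {n : ℕ} (hb : b ∈ maximalIdeal B ^ n) :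
    ∃ a ∈ maximalIdeal X.E ^ n, X.proj a = b := by
  rw [← map_maximalIdeal_pow X n] at hb
  have hs : Function.Surjective X.proj.toRingHom := X.isExtension.proj_surjective
  obtain ⟨a, ha, hab⟩ := (Ideal.mem_map_iff_of_surjective _ hs).1 hb
  exact ⟨a, ha, hab⟩

variable [IsSimpleModule B L]

lemma maximalIdeal_smul (b : B) (hb : b ∈ maximalIdeal B) (z : L) : b • z = 0 := by
  have hmax : (Module.annihilator B L).IsMaximal := IsSimpleModule.annihilator_isMaximal
  have h := IsLocalRing.eq_maximalIdeal hmax
  rw [← h] at hb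
  exact Module.mem_annihilator.1 hb z

lemma maximalIdeal_mul_incl (a : X.E) (ha : a ∈ maximalIdeal X.E) (z : L) :
    a * X.incl z = 0 := by
  rw [X.isExtension.mul_incl, maximalIdeal_smul _ ((mem_maximalIdeal_iff X a).1 ha), map_zero]

/-- the submodule of `L` of elements whose image lies in an ideal -/
def inclComap (I : Ideal X.E) : Submodule B L where
  carrier := {z | X.incl z ∈ I}
  add_mem' := by
    intro z w hz hw
    change X.incl (z + w) ∈ I
    rw [map_add]
    exact I.add_mem hz hw
  zero_mem' := by
    change X.incl 0 ∈ I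
    rw [map_zero]
    exact I.zero_mem
  smul_mem' := by
    intro b z hz
    obtain ⟨a, rfl⟩ := X.isExtension.proj_surjective b
    change X.incl (X.proj a • z) ∈ I
    rw [← X.isExtension.mul_incl]
    exact I.mul_mem_left _ hz

lemma mem_inclComap (I : Ideal X.E) (z : L) : z ∈ inclComap X I ↔ X.incl z ∈ I := Iff.rfl

/-- the middle ring is Noetherian -/
theorem isNoetherianRing_E [IsNoetherianRing B] : IsNoetherianRing X.E := by
  classical
  rw [isNoetherianRing_iff_ideal_fg]
  intro I
  have hs : Function.Surjective X.proj.toRingHom := X.isExtension.proj_surjective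
  obtain ⟨s, hs2⟩ : (I.map X.proj.toRingHom).FG := IsNoetherian.noetherian _
  have hsmem : ∀ b ∈ s, ∃ a ∈ I, X.proj a = b := by
    intro b hb
    have : b ∈ I.map X.proj.toRingHom := by rw [← hs2]; exact Ideal.subset_span hb
    exact (Ideal.mem_map_iff_of_surjective _ hs).1 this
  choose! lift hlift1 hlift2 using hsmem
  let t : Finset X.E := s.image lift
  have ht : (t : Set X.E) ⊆ I := by
    intro a ha
    rw [Finset.coe_image] at ha
    obtain ⟨b, hb, rfl⟩ := ha
    exact hlift1 b hb
  have hst : Ideal.span (s : Set B) ≤ (Ideal.span (t : Set X.E)).map X.proj.toRingHom := by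
    rw [Ideal.span_le]
    intro b hb
    have : X.proj.toRingHom (lift b) = b := hlift2 b hb
    rw [← this]
    apply Ideal.mem_map_of_mem
    apply Ideal.subset_span
    rw [Finset.coe_image]
    exact ⟨b, hb, rfl⟩
  have key : ∀ x ∈ I, ∃ y ∈ Ideal.span (t : Set X.E), ∃ z : L, x = y + X.incl z := by
    intro x hx
    have h1 : X.proj x ∈ Ideal.span (s : Set B) := by
      rw [hs2]
      exact Ideal.mem_map_of_mem _ hx
    obtain ⟨y, hy, hyx⟩ := (Ideal.mem_map_iff_of_surjective _ hs).1 (hst h1)
    obtain ⟨z, hz⟩ := exists_incl_eq_sub X (x := x) (y := y) hyx.symm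
    exact ⟨y, hy, z, by rw [hz]; ring⟩
  have hzmem : ∀ (y : X.E) (z : L), y ∈ Ideal.span (t : Set X.E) → y + X.incl z ∈ I →
      z ∈ inclComap X I := by
    intro y z hy hx
    change X.incl z ∈ I
    have : X.incl z = (y + X.incl z) - y := by ring
    rw [this]
    exact I.sub_mem hx (Ideal.span_le.2 ht hy)
  by_cases hcase : inclComap X I = ⊥
  · refine ⟨t, le_antisymm (Ideal.span_le.2 ht) ?_⟩
    intro x hx
    obtain ⟨y, hy, z, rfl⟩ := key x hx
    have hz := hzmem y z hy hx
    rw [hcase, Submodule.mem_bot] at hz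
    rw [hz, map_zero, add_zero]
    exact hy
  · have htop : inclComap X I = ⊤ := (eq_bot_or_eq_top _).resolve_left hcase
    haveI : Nontrivial L := IsSimpleModule.nontrivial B L
    obtain ⟨z₀, hz₀⟩ : ∃ z₀ : L, z₀ ≠ 0 := exists_ne 0
    refine ⟨insert (X.incl z₀) t, le_antisymm ?_ ?_⟩
    · rw [Ideal.span_le, Finset.coe_insert]
      intro a ha
      rcases ha with rfl | ha
      · have : z₀ ∈ inclComap X I := by rw [htop]; trivial
        exact this
      · exact ht ha
    · intro x hx
      obtain ⟨y, hy, z, rfl⟩ := key x hx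
      have hz : z ∈ Submodule.span B {z₀} := by
        rw [IsSimpleModule.span_singleton_eq_top B hz₀]
        trivial
      obtain ⟨b, rfl⟩ := Submodule.mem_span_singleton.1 hz
      obtain ⟨a, rfl⟩ := X.isExtension.proj_surjective b
      rw [← X.isExtension.mul_incl]
      refine Ideal.add_mem _ (Ideal.span_mono ?_ hy) (Ideal.mul_mem_left _ _ (Ideal.subset_span ?_))
      · rw [Finset.coe_insert]
        exact Set.subset_insert _ _
      · rw [Finset.coe_insert]
        exact Set.mem_insert _ _

variable [IsNoetherianRing B]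

/-- a power of the maximal ideal of the middle ring meets the kernel trivially -/
theorem exists_pow_inclComap_eq_bot : ∃ N : ℕ, ∀ n, N ≤ n → inclComap X (maximalIdeal X.E ^ n) = ⊥ := by
  haveI := isNoetherianRing_E X
  by_contra hcon
  push Not at hcon
  -- all are top
  have hall : ∀ N : ℕ, inclComap X (maximalIdeal X.E ^ N) = ⊤ := by
    intro N
    obtain ⟨n, hn, hne⟩ := hcon N
    have htop : inclComap X (maximalIdeal X.E ^ n) = ⊤ := (eq_bot_or_eq_top _).resolve_left hne
    rw [eq_top_iff]
    intro z _
    have hz : z ∈ inclComap X (maximalIdeal X.E ^ n) := by rw [htop]; trivial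
    exact Ideal.pow_le_pow_right hn hz
  haveI : Nontrivial L := IsSimpleModule.nontrivial B L
  obtain ⟨z₀, hz₀⟩ : ∃ z₀ : L, z₀ ≠ 0 := exists_ne 0
  apply hz₀
  apply X.isExtension.incl_injective
  rw [map_zero]
  have hmem : X.incl z₀ ∈ (⨅ n : ℕ, maximalIdeal X.E ^ n : Ideal X.E) := by
    rw [Ideal.mem_iInf]
    intro n
    have : z₀ ∈ inclComap X (maximalIdeal X.E ^ n) := by rw [hall n]; trivial
    exact this
  rw [Ideal.iInf_pow_eq_bot_of_isLocalRing _ (IsLocalRing.maximalIdeal.isMaximal X.E).ne_top] at hmem
  exact hmem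

/-- the middle ring is complete when the base is -/
theorem isAdicComplete_E [IsAdicComplete (maximalIdeal B) B] :
    IsAdicComplete (maximalIdeal X.E) X.E := by
  haveI := isNoetherianRing_E X
  haveI : IsHausdorff (maximalIdeal X.E) X.E := inferInstance
  haveI : IsPrecomplete (maximalIdeal X.E) X.E := by
    constructor
    intro f hf
    -- reformulate the Cauchy condition
    have hf' : ∀ {m n : ℕ}, m ≤ n → f m - f n ∈ maximalIdeal X.E ^ m := by
      intro m n hmn
      have := hf hmn
      rw [SModEq.sub_mem, smul_eq_mul, Ideal.mul_top] at this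
      exact this
    -- the limit of the images
    obtain ⟨r, hr⟩ := IsPrecomplete.prec (I := maximalIdeal B) (M := B) inferInstance
      (f := fun n => X.proj (f n)) (by
        intro m n hmn
        rw [SModEq.sub_mem, smul_eq_mul, Ideal.mul_top, ← map_sub]
        exact proj_mem_pow X (hf' hmn))
    have hr' : ∀ n, r - X.proj (f n) ∈ maximalIdeal B ^ n := by
      intro n
      have := (hr n).symm
      rw [SModEq.sub_mem, smul_eq_mul, Ideal.mul_top] at this
      exact this
    obtain ⟨g₀, hg₀⟩ := X.isExtension.proj_surjective r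
    -- corrections
    have hcorr : ∀ n, ∃ a ∈ maximalIdeal X.E ^ n, ∃ l : L, g₀ - f n = a + X.incl l := by
      intro n
      obtain ⟨a, ha, hab⟩ := exists_mem_pow_proj_eq X (hr' n)
      obtain ⟨l, hl⟩ := exists_incl_eq_sub X (x := g₀ - f n) (y := a) (by
        rw [map_sub, hg₀, hab])
      exact ⟨a, ha, l, by rw [hl]; ring⟩
    choose a ha l hl using hcorr
    obtain ⟨N, hN⟩ := exists_pow_inclComap_eq_bot X
    have hconst : ∀ n, N ≤ n → l (n + 1) = l n := by
      intro n hn
      have h1 : X.incl (l (n + 1) - l n) ∈ maximalIdeal X.E ^ n := by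
        have e : X.incl (l (n + 1) - l n) = (f n - f (n + 1)) + (a n - a (n + 1)) := by
          rw [map_sub]
          have h1 := hl n
          have h2 := hl (n + 1)
          linear_combination h1 - h2
        rw [e]
        refine Ideal.add_mem _ (hf' (Nat.le_succ n)) (Ideal.sub_mem _ (ha n) ?_)
        exact Ideal.pow_le_pow_right (Nat.le_succ n) (ha (n + 1))
      have h2 : l (n + 1) - l n ∈ inclComap X (maximalIdeal X.E ^ n) := h1
      rw [hN n hn, Submodule.mem_bot] at h2
      exact sub_eq_zero.1 h2
    have hconst' : ∀ n, N ≤ n → l n = l N := by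
      intro n hn
      induction n, hn using Nat.le_induction with
      | base => rfl
      | succ n hn ih => rw [hconst n hn, ih]
    refine ⟨g₀ - X.incl (l N), ?_⟩
    intro n
    rw [SModEq.sub_mem, smul_eq_mul, Ideal.mul_top]
    have hbig : ∀ n, N ≤ n → f n - (g₀ - X.incl (l N)) ∈ maximalIdeal X.E ^ n := by
      intro n hn
      have e : f n - (g₀ - X.incl (l N)) = - a n := by
        have h1 := hl n
        rw [hconst' n hn] at h1
        linear_combination (-1 : X.E) * h1
      rw [e]
      exact Ideal.neg_mem_iff _ |>.2 (ha n)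
    by_cases hn : N ≤ n
    · exact hbig n hn
    · push Not at hn
      have e : f n - (g₀ - X.incl (l N)) = (f n - f N) + (f N - (g₀ - X.incl (l N))) := by ring
      rw [e]
      exact Ideal.add_mem _ (hf' hn.le) (Ideal.pow_le_pow_right hn.le (hbig N le_rfl))
  exact { }

end Local

end Groth.Agent.H6.ExalPS
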