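import Groth.Agent.Lib.Helper6.ExalPS1
import Groth.Agent.Lib.Helper6.CompleteNoeth
import Groth.Agent.Lib.Helper5.CA.PSExt
import Groth.Agent.Lib.Helper5.FSm.PSComplete
import Groth.Agent.S5813
import Groth.Agent.S5814

/-!
# helper6: extensions of a quotient of a power series ring by a simple module
-/

set_option autoImplicit false
set_option linter.style.haveILetI false
set_option linter.unusedTactic false
set_option linter.unusedVariables false

universe u

namespace Groth.Agent.H6.ExalPS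

open IsLocalRing Exal Groth.Agent.H3.ExalAux

section PExt

variable {Λ : Type u} [CommRing Λ] {P : Type u} [CommRing P] [Algebra Λ P] (J : Ideal P)
  {L : Type u} [AddCommGroup L] [Module (P ⧸ J) L]

/-- a `Λ`-extension of `P/J` with a lift of the quotient map, regarded as a `P`-extension -/
def toPExt (X : Exal.Ext Λ (P ⧸ J) L) (u : P →ₐ[Λ] X.E)
    (hu : ∀ p, X.proj (u p) = Ideal.Quotient.mk J p) : Exal.Ext P (P ⧸ J) L :=
  letI : Algebra P X.E := u.toRingHom.toAlgebra
  { E := X.E
    proj :=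
      { toFun := fun x => X.proj x
        map_one' := map_one X.proj
        map_mul' := map_mul X.proj
        map_zero' := map_zero X.proj
        map_add' := map_add X.proj
        commutes' := fun p => hu p }
    incl := X.incl
    isExtension :=
      { proj_surjective := X.isExtension.proj_surjective
        incl_injective := X.isExtension.incl_injective
        exact := X.isExtension.exact
        mul_incl := X.isExtension.mul_incl } }

variable [Module P L] [IsScalarTower P (P ⧸ J) L]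

lemma toPExt_incl_idealToKer (X : Exal.Ext Λ (P ⧸ J) L) (u : P →ₐ[Λ] X.E)
    (hu : ∀ p, X.proj (u p) = Ideal.Quotient.mk J p) (j : J) :
    X.incl ((toPExt J X u hu).idealToKer J j) = u j :=
  (toPExt J X u hu).incl_kerLift _ ((toPExt J X u hu).proj_algebraMap_eq_zero J j)

/-- two `Λ`-extensions with lifts inducing the same map `J → L` are equivalent -/
theorem equiv_of_restrict_eq (X X' : Exal.Ext Λ (P ⧸ J) L) (u : P →ₐ[Λ] X.E) (u' : P →ₐ[Λ] X'.E)
    (hu : ∀ p, X.proj (u p) = Ideal.Quotient.mk J p)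
    (hu' : ∀ p, X'.proj (u' p) = Ideal.Quotient.mk J p)
    (h : ∀ j ∈ J, ∃ z : L, X.incl z = u j ∧ X'.incl z = u' j) : Nonempty (X.Equiv X') := by
  have hcon : (toPExt J X u hu).conormalMap J = (toPExt J X' u' hu').conormalMap J := by
    apply LinearMap.ext
    intro c
    obtain ⟨j, rfl⟩ := J.toCotangent_surjective c
    change (toPExt J X u hu).idealToKer J j = (toPExt J X' u' hu').idealToKer J j
    obtain ⟨z, hz1, hz2⟩ := h j j.2
    have e1 : (toPExt J X u hu).idealToKer J j = z := by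
      apply X.isExtension.incl_injective
      rw [toPExt_incl_idealToKer, hz1]
    have e2 : (toPExt J X' u' hu').idealToKer J j = z := by
      apply X'.isExtension.incl_injective
      rw [toPExt_incl_idealToKer, hz2]
    rw [e1, e2]
  obtain ⟨e⟩ := Groth.Agent.S5813.result J (toPExt J X u hu) (toPExt J X' u' hu') hcon
  let φ : X.E ≃+* X'.E := e.toAlgEquiv.toRingEquiv
  have hφ : ∀ p : P, φ (u p) = u' p := fun p => e.toAlgEquiv.commutes p
  refine ⟨⟨{ φ with commutes' := ?_ }, e.proj_apply, e.apply_incl⟩⟩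
  intro l
  have h1 : algebraMap Λ X.E l = u (algebraMap Λ P l) := (u.commutes l).symm
  have h2 : algebraMap Λ X'.E l = u' (algebraMap Λ P l) := (u'.commutes l).symm
  change φ (algebraMap Λ X.E l) = algebraMap Λ X'.E l
  rw [h1, h2, hφ]

/-- every linear map `J → L` comes from an extension with a lift -/
theorem exists_ext_of_linearMap (δ : J →ₗ[P] L) :
    ∃ (X : Exal.Ext Λ (P ⧸ J) L) (u : P →ₐ[Λ] X.E),
      (∀ p, X.proj (u p) = Ideal.Quotient.mk J p) ∧ ∀ j : J, X.incl (δ j) = u j := by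
  let w : J.Cotangent →ₗ[P] L := Submodule.liftQ (J • ⊤ : Submodule P J) δ (by
    rw [Submodule.smul_le]
    intro b hb z _
    rw [LinearMap.mem_ker, map_smul, ← IsScalarTower.algebraMap_smul (P ⧸ J) b,
      Ideal.Quotient.algebraMap_eq, Ideal.Quotient.eq_zero_iff_mem.2 hb, zero_smul])
  obtain ⟨Y, hY⟩ := Groth.Agent.S5814.result J w
  let X : Exal.Ext Λ (P ⧸ J) L := Y.restrictBase Λ
  let u : P →ₐ[Λ] X.E :=
    { (algebraMap P Y.E : P →+* Y.E) with
      commutes' := fun l => rfl }
  refine ⟨X, u, ?_, ?_⟩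
  · intro p
    change Y.proj (algebraMap P Y.E p) = _
    rw [AlgHom.commutes]
    rfl
  · intro j
    have h1 : Y.incl (Y.idealToKer J j) = algebraMap P Y.E j :=
      Y.incl_kerLift _ (Y.proj_algebraMap_eq_zero J j)
    have h2 : Y.idealToKer J j = δ j := by
      have : Y.conormalMap J (J.toCotangent j) = w (J.toCotangent j) := by rw [hY]
      exact this
    change Y.incl (δ j) = algebraMap P Y.E j
    rw [← h2, h1]

end PExt

section Main

variable {Λ : Type u} [CommRing Λ] [IsLocalRing Λ] [IsNoetherianRing Λ]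
  [IsAdicComplete (IsLocalRing.maximalIdeal Λ) Λ]
  (d : ℕ) (J : Ideal (MvPowerSeries (Fin d) Λ))
  (hJ : J ≤ Ideal.span (Set.range (MvPowerSeries.X : Fin d → MvPowerSeries (Fin d) Λ)) ^ 2)

lemma X_mem_maximalIdeal (i : Fin d) :
    (MvPowerSeries.X i : MvPowerSeries (Fin d) Λ) ∈ maximalIdeal (MvPowerSeries (Fin d) Λ) := by
  rw [IsLocalRing.mem_maximalIdeal, mem_nonunits_iff, MvPowerSeries.isUnit_iff_constantCoeff,
    MvPowerSeries.constantCoeff_X]
  exact not_isUnit_zero

lemma spanX_le : Ideal.span (Set.range (MvPowerSeries.X : Fin d → MvPowerSeries (Fin d) Λ)) ≤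
    maximalIdeal (MvPowerSeries (Fin d) Λ) := by
  rw [Ideal.span_le]
  rintro _ ⟨i, rfl⟩
  exact X_mem_maximalIdeal d i

include hJ in
lemma J_le : J ≤ maximalIdeal (MvPowerSeries (Fin d) Λ) :=
  hJ.trans ((Ideal.pow_le_self two_ne_zero).trans (spanX_le d))

include hJ in
lemma quot_nontrivial : Nontrivial (MvPowerSeries (Fin d) Λ ⧸ J) :=
  Ideal.Quotient.nontrivial_iff.2
    (ne_top_of_le_ne_top (maximalIdeal.isMaximal _).ne_top (J_le d J hJ))

include hJ in
lemma quot_isLocalRing : IsLocalRing (MvPowerSeries (Fin d) Λ ⧸ J) :=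
  haveI := quot_nontrivial d J hJ
  IsLocalRing.of_surjective' (Ideal.Quotient.mk J) Ideal.Quotient.mk_surjective

include hJ in
lemma mk_mem_maximalIdeal_iff (p : MvPowerSeries (Fin d) Λ) :
    haveI := quot_isLocalRing d J hJ
    Ideal.Quotient.mk J p ∈ maximalIdeal (MvPowerSeries (Fin d) Λ ⧸ J) ↔
      p ∈ maximalIdeal (MvPowerSeries (Fin d) Λ) := by
  haveI := quot_isLocalRing d J hJ
  rw [IsLocalRing.mem_maximalIdeal, IsLocalRing.mem_maximalIdeal, mem_nonunits_iff,
    mem_nonunits_iff, not_iff_not]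
  constructor
  · intro hu
    obtain ⟨q', hq'⟩ := hu.exists_right_inv
    obtain ⟨q, rfl⟩ := Ideal.Quotient.mk_surjective q'
    rw [← map_mul, ← map_one (Ideal.Quotient.mk J), Ideal.Quotient.eq] at hq'
    have h1 : p * q - 1 ∈ maximalIdeal (MvPowerSeries (Fin d) Λ) := J_le d J hJ hq'
    have h2 : IsUnit (p * q) := by
      by_contra hn
      have h3 : p * q ∈ maximalIdeal (MvPowerSeries (Fin d) Λ) :=
        (IsLocalRing.mem_maximalIdeal _).2 hn
      have h4 : (1 : MvPowerSeries (Fin d) Λ) ∈ maximalIdeal (MvPowerSeries (Fin d) Λ) := by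
        have := Ideal.sub_mem _ h3 h1
        rwa [sub_sub_cancel] at this
      exact (IsLocalRing.mem_maximalIdeal _).1 h4 isUnit_one
    exact isUnit_of_mul_isUnit_left h2
  · intro hu
    exact hu.map _

variable {L : Type u} [AddCommGroup L] [Module (MvPowerSeries (Fin d) Λ ⧸ J) L]
  [IsSimpleModule (MvPowerSeries (Fin d) Λ ⧸ J) L]

include hJ in
/-- the quotient map lifts to every extension -/
theorem exists_lift (X : Exal.Ext Λ (MvPowerSeries (Fin d) Λ ⧸ J) L) :
    ∃ u : MvPowerSeries (Fin d) Λ →ₐ[Λ] X.E, ∀ p, X.proj (u p) = Ideal.Quotient.mk J p := by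
  haveI := quot_isLocalRing d J hJ
  haveI : IsAdicComplete (maximalIdeal (MvPowerSeries (Fin d) Λ ⧸ J))
      (MvPowerSeries (Fin d) Λ ⧸ J) := Groth.Agent.H6.isAdicComplete_quotient J
  haveI := isAdicComplete_E X
  choose e he using fun i : Fin d => X.isExtension.proj_surjective
    (Ideal.Quotient.mk J (MvPowerSeries.X i))
  have hem : ∀ i, e i ∈ maximalIdeal X.E := by
    intro i
    rw [mem_maximalIdeal_iff X, he, mk_mem_maximalIdeal_iff d J hJ]
    exact X_mem_maximalIdeal d i
  obtain ⟨u₀, hu₀⟩ := Groth.Agent.H5.CA.exists_algHom_mvPowerSeries' Λ X.E (maximalIdeal X.E) e hem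
  refine ⟨u₀, ?_⟩
  have key : X.proj.comp u₀ = Ideal.Quotient.mkₐ Λ J := by
    apply Groth.Agent.H5.CA.algHom_ext_of_isHausdorff_fin
      (maximalIdeal (MvPowerSeries (Fin d) Λ ⧸ J))
    · intro i
      change X.proj (u₀ (MvPowerSeries.X i)) ∈ _
      rw [hu₀, he, mk_mem_maximalIdeal_iff d J hJ]
      exact X_mem_maximalIdeal d i
    · intro i
      change X.proj (u₀ (MvPowerSeries.X i)) = Ideal.Quotient.mk J (MvPowerSeries.X i)
      rw [hu₀, he]
  intro p
  exact congrArg (fun g : MvPowerSeries (Fin d) Λ →ₐ[Λ] (MvPowerSeries (Fin d) Λ ⧸ J) => g p) key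

variable [Module (MvPowerSeries (Fin d) Λ) L]
  [IsScalarTower (MvPowerSeries (Fin d) Λ) (MvPowerSeries (Fin d) Λ ⧸ J) L]

include hJ in
/-- equivalent extensions induce the same map on `J` -/
theorem restrict_eq_of_equiv (X X' : Exal.Ext Λ (MvPowerSeries (Fin d) Λ ⧸ J) L)
    (u : MvPowerSeries (Fin d) Λ →ₐ[Λ] X.E) (u' : MvPowerSeries (Fin d) Λ →ₐ[Λ] X'.E)
    (hu : ∀ p, X.proj (u p) = Ideal.Quotient.mk J p)
    (hu' : ∀ p, X'.proj (u' p) = Ideal.Quotient.mk J p)
    (φ : X.Equiv X') (j : MvPowerSeries (Fin d) Λ) (hj : j ∈ J) :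
    ∃ z : L, X.incl z = u j ∧ X'.incl z = u' j := by
  haveI := quot_isLocalRing d J hJ
  -- the difference derivation
  have hD : ∀ p, ∃ w : L, X'.incl w = u' p - φ.toAlgEquiv (u p) := by
    intro p
    exact exists_incl_eq_sub X' (by rw [φ.proj_apply, hu, hu'])
  have hprod : ∀ a ∈ Ideal.span (Set.range (MvPowerSeries.X : Fin d → MvPowerSeries (Fin d) Λ)),
      ∀ b ∈ Ideal.span (Set.range (MvPowerSeries.X : Fin d → MvPowerSeries (Fin d) Λ)),
      u' (a * b) = φ.toAlgEquiv (u (a * b)) := by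
    intro a ha b hb
    obtain ⟨wa, hwa⟩ := hD a
    obtain ⟨wb, hwb⟩ := hD b
    have ham : Ideal.Quotient.mk J a ∈ maximalIdeal (MvPowerSeries (Fin d) Λ ⧸ J) :=
      (mk_mem_maximalIdeal_iff d J hJ a).2 (spanX_le d ha)
    have hbm : Ideal.Quotient.mk J b ∈ maximalIdeal (MvPowerSeries (Fin d) Λ ⧸ J) :=
      (mk_mem_maximalIdeal_iff d J hJ b).2 (spanX_le d hb)
    have e1 : u' a * X'.incl wb = 0 := by
      rw [X'.isExtension.mul_incl, hu', maximalIdeal_smul _ ham, map_zero]
    have e2 : φ.toAlgEquiv (u b) * X'.incl wa = 0 := by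
      rw [X'.isExtension.mul_incl, φ.proj_apply, hu, maximalIdeal_smul _ hbm, map_zero]
    rw [map_mul, map_mul, map_mul]
    rw [hwb] at e1
    rw [hwa] at e2
    linear_combination e1 + e2
  have hsq : ∀ x ∈ Ideal.span (Set.range (MvPowerSeries.X : Fin d → MvPowerSeries (Fin d) Λ)) ^ 2,
      u' x = φ.toAlgEquiv (u x) := by
    intro x hx
    rw [pow_two] at hx
    refine Submodule.mul_induction_on hx (fun a ha b hb => hprod a ha b hb) ?_
    intro x y hx hy
    rw [map_add, map_add, map_add, hx, hy]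
  obtain ⟨z, hz⟩ := (X.isExtension.exact (u j)).1 (by
    rw [hu, Ideal.Quotient.eq_zero_iff_mem]
    exact hj)
  refine ⟨z, hz, ?_⟩
  rw [hsq j (hJ hj), ← hz, φ.apply_incl]

end Main

end Groth.Agent.H6.ExalPS
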