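import Groth.Agent.Lib.Helper6.ExalPS1

/-!
# helper6: quotient extensions and inverse images of extensions
-/

set_option autoImplicit false
set_option linter.style.haveILetI false
set_option linter.unusedTactic false
set_option linter.unusedVariables false

universe u v

namespace Groth.Agent.H6.ExalPS

open IsLocalRing Exal Groth.Agent.H3.ExalAux

section Hom

variable {A : Type u} {B L : Type v} [CommRing A] [CommRing B] [Algebra A B] [AddCommGroup L]
  [Module B L]

/-- A morphism of extensions is an equivalence. -/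
lemma nonempty_equiv_of_hom (X Y : Exal.Ext A B L) (φ : X.E →ₐ[A] Y.E)
    (hp : ∀ e, Y.proj (φ e) = X.proj e) (hi : ∀ l, φ (X.incl l) = Y.incl l) :
    Nonempty (X.Equiv Y) := by
  have hinj : Function.Injective φ := by
    rw [injective_iff_map_eq_zero]
    intro e he
    have h1 : X.proj e = 0 := by rw [← hp, he, map_zero]
    obtain ⟨l, rfl⟩ := (X.isExtension.exact e).1 h1
    rw [hi] at he
    have : l = 0 := Y.isExtension.incl_injective (by rw [he, map_zero])
    rw [this, map_zero]
  have hsurj : Function.Surjective φ := by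
    intro y
    obtain ⟨e, he⟩ := X.isExtension.proj_surjective (Y.proj y)
    obtain ⟨l, hl⟩ := exists_incl_eq_sub Y (x := y) (y := φ e) (by rw [hp, he])
    refine ⟨e + X.incl l, ?_⟩
    rw [map_add, hi, hl]; ring
  exact ⟨⟨AlgEquiv.ofBijective φ ⟨hinj, hsurj⟩, hp, hi⟩⟩

end Hom

section Quot

variable {A : Type u} {B L : Type v} [CommRing A] [CommRing B] [Algebra A B] [AddCommGroup L]
  [Module B L] (X : Exal.Ext A B L) (K : Ideal X.E) (hK : ∀ z, X.incl z ∈ K → z = 0)
  {C : Type v} [CommRing C] [Algebra A C] (π : B →ₐ[A] C) (hπ : Function.Surjective π)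
  (hker : ∀ b, π b = 0 ↔ b ∈ K.map X.proj.toRingHom) [Module C L]
  (hsm : ∀ (b : B) (z : L), π b • z = b • z)

/-- the quotient of an extension by an ideal meeting the kernel trivially, as an extension of a
quotient of the base -/
noncomputable def quotExt : Exal.Ext A C L where
  E := X.E ⧸ K
  proj := Ideal.Quotient.liftₐ K (π.comp X.proj)
    (fun x hx => (hker _).2 (Ideal.mem_map_of_mem X.proj.toRingHom hx))
  incl := (Ideal.Quotient.mk K : X.E →+* X.E ⧸ K).toAddMonoidHom.comp X.incl
  isExtension :=
    { proj_surjective := by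
        intro c
        obtain ⟨b, rfl⟩ := hπ c
        obtain ⟨x, rfl⟩ := X.isExtension.proj_surjective b
        exact ⟨Ideal.Quotient.mk K x, rfl⟩
      incl_injective := by
        intro z z' h
        have h1 : Ideal.Quotient.mk K (X.incl z) = Ideal.Quotient.mk K (X.incl z') := h
        rw [Ideal.Quotient.eq, ← map_sub] at h1
        exact sub_eq_zero.1 (hK _ h1)
      exact := by
        intro y
        obtain ⟨x, rfl⟩ := Ideal.Quotient.mk_surjective y
        have hs : Function.Surjective X.proj.toRingHom := X.isExtension.proj_surjective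
        constructor
        · intro h
          have h1 : π (X.proj x) = 0 := h
          rw [hker] at h1
          obtain ⟨y, hy, hyx⟩ := (Ideal.mem_map_iff_of_surjective _ hs).1 h1
          obtain ⟨z, hz⟩ := exists_incl_eq_sub X (x := x) (y := y) hyx.symm
          refine ⟨z, ?_⟩
          change Ideal.Quotient.mk K (X.incl z) = Ideal.Quotient.mk K x
          rw [Ideal.Quotient.eq, hz]
          have : x - y - x = -y := by ring
          rw [this]
          exact K.neg_mem hy
        · rintro ⟨z, hz⟩
          have h1 : Ideal.Quotient.mk K (X.incl z) = Ideal.Quotient.mk K x := hz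
          change π (X.proj x) = 0
          rw [Ideal.Quotient.eq] at h1
          rw [hker]
          have h2 : X.proj.toRingHom (x - X.incl z) = X.proj x := by
            change X.proj (x - X.incl z) = X.proj x
            rw [map_sub, proj_incl, sub_zero]
          rw [← h2]
          apply Ideal.mem_map_of_mem
          have : x - X.incl z = -(X.incl z - x) := by ring
          rw [this]
          exact K.neg_mem h1
      mul_incl := by
        intro y z
        obtain ⟨x, rfl⟩ := Ideal.Quotient.mk_surjective y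
        change Ideal.Quotient.mk K x * Ideal.Quotient.mk K (X.incl z) =
          Ideal.Quotient.mk K (X.incl (π (X.proj x) • z))
        rw [← map_mul, X.isExtension.mul_incl, hsm] }

lemma quotExt_proj_mk (x : X.E) :
    (quotExt X K hK π hπ hker hsm).proj (Ideal.Quotient.mk K x) = π (X.proj x) := rfl

lemma quotExt_incl (z : L) :
    (quotExt X K hK π hπ hker hsm).incl z = Ideal.Quotient.mk K (X.incl z) := rfl

end Quot

section QuotHom

variable {A : Type u} {B B' L : Type v} [CommRing A] [CommRing B] [Algebra A B] [CommRing B']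
  [Algebra A B'] [AddCommGroup L] [Module B L] [Module B' L]
  (X : Exal.Ext A B L) (K : Ideal X.E) (hK : ∀ z, X.incl z ∈ K → z = 0)
  (X' : Exal.Ext A B' L) (K' : Ideal X'.E) (hK' : ∀ z, X'.incl z ∈ K' → z = 0)
  {C : Type v} [CommRing C] [Algebra A C] [Module C L]
  (π : B →ₐ[A] C) (hπ : Function.Surjective π)
  (hker : ∀ b, π b = 0 ↔ b ∈ K.map X.proj.toRingHom)
  (hsm : ∀ (b : B) (z : L), π b • z = b • z)
  (π' : B' →ₐ[A] C) (hπ' : Function.Surjective π')
  (hker' : ∀ b, π' b = 0 ↔ b ∈ K'.map X'.proj.toRingHom)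
  (hsm' : ∀ (b : B') (z : L), π' b • z = b • z)

/-- a morphism of extensions compatible with the ideals induces an equivalence of the quotient
extensions -/
theorem quotExt_equiv_of_hom (f : X.E →ₐ[A] X'.E) (hfK : ∀ x ∈ K, f x ∈ K')
    (hp : ∀ x, π' (X'.proj (f x)) = π (X.proj x)) (hi : ∀ z, f (X.incl z) = X'.incl z) :
    Nonempty ((quotExt X K hK π hπ hker hsm).Equiv (quotExt X' K' hK' π' hπ' hker' hsm')) := by
  let φ : (X.E ⧸ K) →ₐ[A] (X'.E ⧸ K') := Ideal.quotientMapₐ K' f (fun x hx => hfK x hx)
  refine nonempty_equiv_of_hom (quotExt X K hK π hπ hker hsm)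
    (quotExt X' K' hK' π' hπ' hker' hsm') φ ?_ ?_
  · intro y
    obtain ⟨x, rfl⟩ := Ideal.Quotient.mk_surjective y
    change π' (X'.proj (f x)) = π (X.proj x)
    exact hp x
  · intro z
    change Ideal.Quotient.mk K' (f (X.incl z)) = Ideal.Quotient.mk K' (X'.incl z)
    rw [hi]

end QuotHom

section Pullback

variable {A : Type u} {B L : Type v} [CommRing A] [CommRing B] [Algebra A B] [AddCommGroup L]
  [Module B L] (B₀ : Type v) [CommRing B₀] [Algebra A B₀] [Algebra B₀ B] [IsScalarTower A B₀ B]
  [Module B₀ L] [IsScalarTower B₀ B L]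

lemma mem_fiberProd (Z : Exal.Ext A B L) (w : Z.E × B₀) :
    w ∈ Z.fiberProd B₀ ↔ Z.proj w.1 = algebraMap B₀ B w.2 := Iff.rfl

lemma fiberProd_condition (Z : Exal.Ext A B L) (w : Z.fiberProd B₀) :
    Z.proj w.1.1 = algebraMap B₀ B w.1.2 := w.2

lemma pullback_proj (Z : Exal.Ext A B L) (w : (Z.pullback B₀).E) :
    (Z.pullback B₀).proj w = w.1.2 := rfl

lemma pullback_incl_fst (Z : Exal.Ext A B L) (z : L) :
    ((Z.pullback B₀).incl z).1.1 = Z.incl z := rfl

/-- the first projection of the inverse image -/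
noncomputable def pullbackFst (Z : Exal.Ext A B L) : (Z.pullback B₀).E →ₐ[A] Z.E :=
  (AlgHom.fst A Z.E B₀).comp (Z.fiberProd B₀).val

lemma pullbackFst_apply (Z : Exal.Ext A B L) (w : (Z.pullback B₀).E) :
    pullbackFst B₀ Z w = w.1.1 := rfl

lemma proj_pullbackFst (Z : Exal.Ext A B L) (w : (Z.pullback B₀).E) :
    Z.proj (pullbackFst B₀ Z w) = algebraMap B₀ B ((Z.pullback B₀).proj w) := w.2

/-- an extension mapping to `Z` over `B₀ → B` is equivalent to the inverse image of `Z` -/
theorem equiv_pullback_of_hom (W : Exal.Ext A B₀ L) (Z : Exal.Ext A B L) (f : W.E →ₐ[A] Z.E)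
    (hp : ∀ w, Z.proj (f w) = algebraMap B₀ B (W.proj w)) (hi : ∀ z, f (W.incl z) = Z.incl z) :
    Nonempty (W.Equiv (Z.pullback B₀)) := by
  let g : W.E →ₐ[A] (Z.fiberProd B₀) :=
    (f.prod W.proj).codRestrict (Z.fiberProd B₀) (fun w => hp w)
  refine nonempty_equiv_of_hom W (Z.pullback B₀) g ?_ ?_
  · intro w
    rfl
  · intro z
    apply Subtype.ext
    apply Prod.ext
    · exact hi z
    · exact proj_incl W z

/-- inverse images of equivalent extensions are equivalent -/
theorem pullback_congr {Z Z' : Exal.Ext A B L} (e : Z.Equiv Z') :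
    Nonempty ((Z.pullback B₀).Equiv (Z'.pullback B₀)) := by
  apply equiv_pullback_of_hom B₀ (Z.pullback B₀) Z'
    ((e.toAlgEquiv : Z.E →ₐ[A] Z'.E).comp (pullbackFst B₀ Z))
  · intro w
    change Z'.proj (e.toAlgEquiv (pullbackFst B₀ Z w)) = _
    rw [e.proj_apply, proj_pullbackFst]
  · intro z
    change e.toAlgEquiv (Z.incl z) = Z'.incl z
    exact e.apply_incl z

end Pullback

section PullbackPullback

variable {A : Type u} {B L : Type v} [CommRing A] [CommRing B] [Algebra A B] [AddCommGroup L]
  [Module B L]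
  (B₁ : Type v) [CommRing B₁] [Algebra A B₁] [Algebra B₁ B] [IsScalarTower A B₁ B]
  [Module B₁ L] [IsScalarTower B₁ B L]
  (B₀ : Type v) [CommRing B₀] [Algebra A B₀] [Algebra B₀ B₁] [IsScalarTower A B₀ B₁]
  [Module B₀ L] [IsScalarTower B₀ B₁ L]
  [Algebra B₀ B] [IsScalarTower A B₀ B] [IsScalarTower B₀ B L] [IsScalarTower B₀ B₁ B]

/-- inverse images compose -/
theorem pullback_pullback (Z : Exal.Ext A B L) :
    Nonempty (((Z.pullback B₁).pullback B₀).Equiv (Z.pullback B₀)) := by
  apply equiv_pullback_of_hom B₀ ((Z.pullback B₁).pullback B₀) Z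
    ((pullbackFst B₁ Z).comp (pullbackFst B₀ (Z.pullback B₁)))
  · intro w
    change Z.proj (pullbackFst B₁ Z (pullbackFst B₀ (Z.pullback B₁) w)) = _
    rw [proj_pullbackFst, proj_pullbackFst, ← IsScalarTower.algebraMap_apply]
  · intro z
    rfl

end PullbackPullback

end Groth.Agent.H6.ExalPS
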