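import Groth.Agent.Lib.Helper6.ExalPS3
import Groth.Agent.Lib.Helper6.ExalPS2
import Groth.Agent.S0543

/-!
# helper6: extensions of a local ring and of its completion by a simple module
-/

set_option autoImplicit false
set_option linter.style.haveILetI false
set_option linter.unusedTactic false
set_option linter.unusedVariables false

universe u v

namespace Groth.Agent.H6.ExalPS

open IsLocalRing Exal Groth.Agent.H3.ExalAux

section Gen

lemma map_mem_pow {E E' : Type*} [CommRing E] [CommRing E'] [IsLocalRing E] [IsLocalRing E']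
    (f : E →+* E') (hf : ∀ x ∈ maximalIdeal E, f x ∈ maximalIdeal E') (n : ℕ) (x : E)
    (hx : x ∈ maximalIdeal E ^ n) : f x ∈ maximalIdeal E' ^ n := by
  have h1 : (maximalIdeal E).map f ≤ maximalIdeal E' :=
    Ideal.map_le_iff_le_comap.2 (fun x hx => hf x hx)
  have h2 : (maximalIdeal E ^ n).map f ≤ maximalIdeal E' ^ n := by
    rw [Ideal.map_pow]; exact Ideal.pow_right_mono h1 n
  exact h2 (Ideal.mem_map_of_mem f hx)

lemma isSimpleModule_of_tower (B₀ B L : Type*) [CommRing B₀] [CommRing B] [Algebra B₀ B]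
    [AddCommGroup L] [Module B₀ L] [Module B L] [IsScalarTower B₀ B L] [IsSimpleModule B₀ L] :
    IsSimpleModule B L := by
  haveI : Nontrivial L := IsSimpleModule.nontrivial B₀ L
  rw [isSimpleModule_iff]
  haveI : Nontrivial (Submodule B L) := (Submodule.nontrivial_iff B).2 this
  refine { eq_bot_or_eq_top := fun N => ?_ }
  rcases eq_bot_or_eq_top (N.restrictScalars B₀) with h | h
  · left; exact (Submodule.restrictScalars_eq_bot_iff B₀ B L).1 h
  · right; exact (Submodule.restrictScalars_eq_top_iff B₀ B L).1 h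

lemma exists_level {A : Type u} {B L : Type v} [CommRing A] [CommRing B] [Algebra A B]
    [IsLocalRing B] [IsNoetherianRing B] [AddCommGroup L] [Module B L] [IsSimpleModule B L]
    (Z : Exal.Ext A B L) :
    ∃ N : ℕ, ∀ n, N ≤ n → ∀ z, Z.incl z ∈ maximalIdeal Z.E ^ (n + 1) → z = 0 := by
  obtain ⟨N, hN⟩ := exists_pow_inclComap_eq_bot Z
  refine ⟨N, fun n hn z hz => ?_⟩
  have := hN (n + 1) (by omega)
  have hz' : z ∈ inclComap Z (maximalIdeal Z.E ^ (n + 1)) := hz
  rw [this] at hz'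
  exact (Submodule.mem_bot _).1 hz'

end Gen

section Level

variable {A : Type u} {B L : Type v} [CommRing A] [CommRing B] [Algebra A B] [IsLocalRing B]
  [AddCommGroup L] [Module B L] [IsSimpleModule B L]

lemma isTorsionBySet (n : ℕ) :
    Module.IsTorsionBySet B L (maximalIdeal B ^ (n + 1) : Ideal B) := by
  intro z ⟨b, hb⟩
  have hb' : b ∈ maximalIdeal B := Ideal.pow_le_self (by omega) hb
  exact maximalIdeal_smul b hb' z

/-- the module structure of `L` over `B ⧸ 𝔪 ^ (n + 1)` -/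
@[reducible] noncomputable def modC (n : ℕ) : Module (B ⧸ maximalIdeal B ^ (n + 1)) L :=
  (isTorsionBySet (B := B) (L := L) n).module

attribute [local instance] modC

lemma mk_smul_C (n : ℕ) (b : B) (z : L) :
    (Ideal.Quotient.mk (maximalIdeal B ^ (n + 1)) b) • z = b • z := rfl

instance isScalarTower_C (n : ℕ) : IsScalarTower B (B ⧸ maximalIdeal B ^ (n + 1)) L :=
  (isTorsionBySet (B := B) (L := L) n).isScalarTower

instance isScalarTower_C' (n : ℕ) (B₀ : Type v) [CommRing B₀] [Algebra B₀ B] [Module B₀ L]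
    [IsScalarTower B₀ B L] : IsScalarTower B₀ (B ⧸ maximalIdeal B ^ (n + 1)) L := by
  constructor
  intro r c z
  obtain ⟨b, rfl⟩ := Ideal.Quotient.mk_surjective c
  have : r • (Ideal.Quotient.mk (maximalIdeal B ^ (n + 1)) b) =
    Ideal.Quotient.mk (maximalIdeal B ^ (n + 1)) (r • b) := rfl
  rw [this, mk_smul_C, mk_smul_C, smul_assoc]

end Level

section Main

variable {A : Type u} {B₀ B L : Type v} [CommRing A] [CommRing B₀] [CommRing B] [Algebra A B₀]
  [Algebra A B] [Algebra B₀ B] [IsScalarTower A B₀ B] [IsLocalRing B₀] [IsLocalRing B]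
  [IsNoetherianRing B₀] [IsNoetherianRing B] [IsLocalHom (algebraMap B₀ B)]
  [AddCommGroup L] [Module B₀ L] [Module B L] [IsScalarTower B₀ B L] [IsSimpleModule B₀ L]
  [IsSimpleModule B L]
  (H : ∀ n (b : B), ∃ r : B₀, b - algebraMap B₀ B r ∈ maximalIdeal B ^ n)
  (H' : ∀ n (r : B₀), algebraMap B₀ B r ∈ maximalIdeal B ^ n → r ∈ maximalIdeal B₀ ^ n)

attribute [local instance] modC

/-- the quotient map `B₀ → B ⧸ 𝔪 ^ (n + 1)` -/
noncomputable def pi0 (n : ℕ) : B₀ →ₐ[A] (B ⧸ maximalIdeal B ^ (n + 1)) :=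
  (Ideal.Quotient.mkₐ A (maximalIdeal B ^ (n + 1))).comp (IsScalarTower.toAlgHom A B₀ B)

lemma pi0_apply (n : ℕ) (r : B₀) :
    pi0 (A := A) (B := B) n r = Ideal.Quotient.mk (maximalIdeal B ^ (n + 1)) (algebraMap B₀ B r) :=
  rfl

include H in
lemma pi0_surjective (n : ℕ) : Function.Surjective (pi0 (A := A) (B₀ := B₀) (B := B) n) := by
  intro c
  obtain ⟨b, rfl⟩ := Ideal.Quotient.mk_surjective c
  obtain ⟨r, hr⟩ := H (n + 1) b
  refine ⟨r, ?_⟩
  rw [pi0_apply]
  exact (Ideal.Quotient.eq.2 hr).symm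

include H' in
lemma pi0_eq_zero_iff (n : ℕ) (r : B₀) :
    pi0 (A := A) (B := B) n r = 0 ↔ r ∈ maximalIdeal B₀ ^ (n + 1) := by
  rw [pi0_apply, Ideal.Quotient.eq_zero_iff_mem]
  constructor
  · exact H' (n + 1) r
  · intro hr
    exact map_mem_pow (algebraMap B₀ B)
      (fun x hx => map_nonunit (algebraMap B₀ B) x hx)
      (n + 1) r hr

lemma pi0_smul (n : ℕ) (r : B₀) (z : L) : pi0 (A := A) (B := B) n r • z = r • z := by
  rw [pi0_apply, mk_smul_C, algebraMap_smul]

include H' in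
lemma hker0 (W : Exal.Ext A B₀ L) (n : ℕ) (r : B₀) :
    pi0 (A := A) (B := B) n r = 0 ↔ r ∈ (maximalIdeal W.E ^ (n + 1)).map W.proj.toRingHom := by
  rw [pi0_eq_zero_iff H', map_maximalIdeal_pow]

lemma hkerB (X : Exal.Ext A B L) (n : ℕ) (b : B) :
    Ideal.Quotient.mkₐ A (maximalIdeal B ^ (n + 1)) b = 0 ↔
      b ∈ (maximalIdeal X.E ^ (n + 1)).map X.proj.toRingHom := by
  rw [map_maximalIdeal_pow]
  exact Ideal.Quotient.eq_zero_iff_mem

/-- the truncation of an extension of `B₀` -/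
noncomputable def quot0 (W : Exal.Ext A B₀ L) (n : ℕ)
    (hK : ∀ z, W.incl z ∈ maximalIdeal W.E ^ (n + 1) → z = 0) :
    Exal.Ext A (B ⧸ maximalIdeal B ^ (n + 1)) L :=
  quotExt W (maximalIdeal W.E ^ (n + 1)) hK (pi0 n) (pi0_surjective H n) (hker0 H' W n)
    (pi0_smul n)

/-- the truncation of an extension of `B` -/
noncomputable def quotB (X : Exal.Ext A B L) (n : ℕ)
    (hK : ∀ z, X.incl z ∈ maximalIdeal X.E ^ (n + 1) → z = 0) :
    Exal.Ext A (B ⧸ maximalIdeal B ^ (n + 1)) L :=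
  quotExt X (maximalIdeal X.E ^ (n + 1)) hK (Ideal.Quotient.mkₐ A (maximalIdeal B ^ (n + 1)))
    (Ideal.Quotient.mkₐ_surjective A _) (hkerB X n) (fun b z => rfl)

theorem equiv_pullback_quotB (X : Exal.Ext A B L) (n : ℕ)
    (hK : ∀ z, X.incl z ∈ maximalIdeal X.E ^ (n + 1) → z = 0) :
    Nonempty (X.Equiv ((quotB X n hK).pullback B)) :=
  equiv_pullback_of_hom B X (quotB X n hK) (Ideal.Quotient.mkₐ A (maximalIdeal X.E ^ (n + 1)))
    (fun w => rfl) (fun z => rfl)

theorem equiv_pullback_quot0 (W : Exal.Ext A B₀ L) (n : ℕ)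
    (hK : ∀ z, W.incl z ∈ maximalIdeal W.E ^ (n + 1) → z = 0) :
    Nonempty (W.Equiv ((quot0 H H' W n hK).pullback B₀)) :=
  equiv_pullback_of_hom B₀ W (quot0 H H' W n hK)
    (Ideal.Quotient.mkₐ A (maximalIdeal W.E ^ (n + 1))) (fun w => rfl) (fun z => rfl)

theorem quot0_pullback_equiv (X : Exal.Ext A B L) (n : ℕ)
    (hK : ∀ z, X.incl z ∈ maximalIdeal X.E ^ (n + 1) → z = 0)
    (hK₀ : ∀ z, (X.pullback B₀).incl z ∈ maximalIdeal (X.pullback B₀).E ^ (n + 1) → z = 0) :
    Nonempty ((quot0 H H' (X.pullback B₀) n hK₀).Equiv (quotB X n hK)) := by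
  apply quotExt_equiv_of_hom (f := pullbackFst B₀ X)
  · intro w hw
    refine map_mem_pow (pullbackFst B₀ X).toRingHom ?_ (n + 1) w hw
    intro w hw
    rw [mem_maximalIdeal_iff] at hw ⊢
    change X.proj (pullbackFst B₀ X w) ∈ _
    rw [proj_pullbackFst]
    exact map_nonunit (algebraMap B₀ B) _ hw
  · intro w
    change Ideal.Quotient.mk _ (X.proj (pullbackFst B₀ X w)) = _
    rw [proj_pullbackFst]
    rfl
  · intro z
    rfl

theorem quot0_congr {W W' : Exal.Ext A B₀ L} (ψ : W.Equiv W') (n : ℕ)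
    (hK : ∀ z, W.incl z ∈ maximalIdeal W.E ^ (n + 1) → z = 0)
    (hK' : ∀ z, W'.incl z ∈ maximalIdeal W'.E ^ (n + 1) → z = 0) :
    Nonempty ((quot0 H H' W n hK).Equiv (quot0 H H' W' n hK')) := by
  apply quotExt_equiv_of_hom (f := (ψ.toAlgEquiv : W.E →ₐ[A] W'.E))
  · intro w hw
    refine map_mem_pow (ψ.toAlgEquiv : W.E →ₐ[A] W'.E).toRingHom ?_ (n + 1) w hw
    intro w hw
    rw [mem_maximalIdeal_iff] at hw ⊢
    change W'.proj (ψ.toAlgEquiv w) ∈ _
    rw [ψ.proj_apply]
    exact hw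
  · intro w
    change pi0 n (W'.proj (ψ.toAlgEquiv w)) = _
    rw [ψ.proj_apply]
  · intro z
    exact ψ.apply_incl z

include H H' in
/-- every extension of `B₀` is the inverse image of an extension of `B` -/
theorem exists_pullback_equiv (Y : Exal.Ext A B₀ L) :
    ∃ X : Exal.Ext A B L, Nonempty ((X.pullback B₀).Equiv Y) := by
  obtain ⟨n, hn⟩ := exists_level Y
  have hK := hn n le_rfl
  refine ⟨(quot0 H H' Y n hK).pullback B, ?_⟩
  obtain ⟨e1⟩ := pullback_pullback B B₀ (quot0 H H' Y n hK)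
  obtain ⟨e2⟩ := equiv_pullback_quot0 H H' Y n hK
  exact ⟨e1.trans e2.symm⟩

include H H' in
/-- extensions of `B` with equivalent inverse images are equivalent -/
theorem equiv_of_pullback_equiv (X X' : Exal.Ext A B L)
    (h : Nonempty ((X.pullback B₀).Equiv (X'.pullback B₀))) : Nonempty (X.Equiv X') := by
  obtain ⟨ψ⟩ := h
  obtain ⟨N1, h1⟩ := exists_level X
  obtain ⟨N2, h2⟩ := exists_level X'
  obtain ⟨N3, h3⟩ := exists_level (X.pullback B₀)
  obtain ⟨N4, h4⟩ := exists_level (X'.pullback B₀)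
  obtain ⟨n, hn1, hn2, hn3, hn4⟩ : ∃ n, N1 ≤ n ∧ N2 ≤ n ∧ N3 ≤ n ∧ N4 ≤ n :=
    ⟨N1 + N2 + N3 + N4, by omega, by omega, by omega, by omega⟩
  obtain ⟨e1⟩ := equiv_pullback_quotB X n (h1 n hn1)
  obtain ⟨e2⟩ := equiv_pullback_quotB X' n (h2 n hn2)
  obtain ⟨e3⟩ := quot0_pullback_equiv H H' X n (h1 n hn1) (h3 n hn3)
  obtain ⟨e4⟩ := quot0_pullback_equiv H H' X' n (h2 n hn2) (h4 n hn4)
  obtain ⟨e5⟩ := quot0_congr H H' ψ n (h3 n hn3) (h4 n hn4)
  obtain ⟨e6⟩ := pullback_congr B ((e3.symm.trans e5).trans e4)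
  exact ⟨(e1.trans e6).trans e2.symm⟩

end Main

section Completion

variable {R : Type u} [CommRing R] [IsLocalRing R] [IsNoetherianRing R]

lemma mem_maximalIdeal_pow_iff (n : ℕ) (b : AdicCompletion (maximalIdeal R) R) :
    b ∈ maximalIdeal (AdicCompletion (maximalIdeal R) R) ^ n ↔
      AdicCompletion.evalₐ (maximalIdeal R) n b = 0 := by
  have h1 : (AdicCompletion.eval (maximalIdeal R) R n).ker =
      (maximalIdeal R ^ n) • (⊤ : Submodule R (AdicCompletion (maximalIdeal R) R)) :=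
    (AdicCompletion.pow_smul_top_eq_ker_eval (maximalIdeal R).fg_of_isNoetherianRing).symm
  rw [AdicCompletion.maximalIdeal_eq_map, ← Ideal.map_pow, ← Submodule.restrictScalars_mem R,
    ← Ideal.smul_top_eq_map, ← h1, LinearMap.mem_ker]
  have h2 : (maximalIdeal R ^ n • ⊤ : Ideal R) ≤ maximalIdeal R ^ n := by
    rw [smul_eq_mul, Ideal.mul_top]
  have h3 : maximalIdeal R ^ n ≤ (maximalIdeal R ^ n • ⊤ : Ideal R) := by
    rw [smul_eq_mul, Ideal.mul_top]
  constructor
  · intro h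
    rw [← AdicCompletion.factor_eval_eq_evalₐ _ b h2, h, map_zero]
  · intro h
    rw [← AdicCompletion.factor_evalₐ_eq_eval _ b h3, h, map_zero]

lemma completion_H (n : ℕ) (b : AdicCompletion (maximalIdeal R) R) :
    ∃ r : R, b - algebraMap R (AdicCompletion (maximalIdeal R) R) r ∈
      maximalIdeal (AdicCompletion (maximalIdeal R) R) ^ n := by
  obtain ⟨r, hr⟩ := Ideal.Quotient.mk_surjective (AdicCompletion.evalₐ (maximalIdeal R) n b)
  refine ⟨r, ?_⟩
  rw [mem_maximalIdeal_pow_iff, map_sub, AdicCompletion.algebraMap_apply,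
    AdicCompletion.evalₐ_of, Algebra.algebraMap_self_apply, hr, sub_self]

lemma completion_H' (n : ℕ) (r : R)
    (h : algebraMap R (AdicCompletion (maximalIdeal R) R) r ∈
      maximalIdeal (AdicCompletion (maximalIdeal R) R) ^ n) : r ∈ maximalIdeal R ^ n := by
  rw [mem_maximalIdeal_pow_iff, AdicCompletion.algebraMap_apply, AdicCompletion.evalₐ_of,
    Algebra.algebraMap_self_apply] at h
  exact Ideal.Quotient.eq_zero_iff_mem.1 h

theorem main11283 {Λ : Type u} [CommRing Λ] [Algebra Λ R]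
    (L : Type u) [AddCommGroup L] [Module (AdicCompletion (maximalIdeal R) R) L] [Module R L]
    [IsScalarTower R (AdicCompletion (maximalIdeal R) R) L] [IsSimpleModule R L] :
    (∀ X X' : Exal.Ext Λ (AdicCompletion (maximalIdeal R) R) L,
        Nonempty ((X.pullback R).Equiv (X'.pullback R)) → Nonempty (X.Equiv X')) ∧
    (∀ Y : Exal.Ext Λ R L, ∃ X : Exal.Ext Λ (AdicCompletion (maximalIdeal R) R) L,
        Nonempty ((X.pullback R).Equiv Y)) := by
  haveI : IsNoetherianRing (AdicCompletion (maximalIdeal R) R) :=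
    Groth.Agent.S0543.result R (maximalIdeal R)
  haveI : IsSimpleModule (AdicCompletion (maximalIdeal R) R) L :=
    isSimpleModule_of_tower R (AdicCompletion (maximalIdeal R) R) L
  exact ⟨fun X X' h => equiv_of_pullback_equiv completion_H completion_H' X X' h,
    fun Y => exists_pullback_equiv completion_H completion_H' Y⟩

end Completion

end Groth.Agent.H6.ExalPS
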