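import Groth.Agent.Lib.Helper6.ExalPS4
import Groth.Agent.Lib.Helper5.CA.CohenQuot2

/-!
# helper6: a uniform truncation level for extensions of a local ring by a simple module
-/

set_option autoImplicit false
set_option linter.style.haveILetI false
set_option linter.unusedTactic false
set_option linter.unusedVariables false

universe u v

namespace Groth.Agent.H6.ExalPS

open IsLocalRing Exal Groth.Agent.H3.ExalAux

section AR

lemma exists_artinRees {P : Type*} [CommRing P] [IsNoetherianRing P] (I J : Ideal P) :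
    ∃ c : ℕ, I ^ (c + 1) ⊓ J ≤ I * J := by
  obtain ⟨k, hk⟩ := Ideal.exists_pow_inf_eq_pow_smul I (J : Submodule P P)
  refine ⟨k, ?_⟩
  have h := hk (k + 1) (by omega)
  have h1 : k + 1 - k = 1 := by omega
  rw [h1, pow_one] at h
  intro x hx
  have hx' : x ∈ (I ^ (k + 1) • ⊤ ⊓ J : Submodule P P) := by
    refine ⟨?_, hx.2⟩
    rw [smul_eq_mul, Ideal.mul_top]
    exact hx.1
  rw [h] at hx'
  exact Submodule.smul_mono (le_refl I) inf_le_right hx'

end AR

section Complete

variable {Λ : Type u} [CommRing Λ] [IsLocalRing Λ] [IsNoetherianRing Λ]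
  [IsAdicComplete (maximalIdeal Λ) Λ]
  {S : Type u} [CommRing S] [Algebra Λ S] [IsLocalRing S] [IsNoetherianRing S]
  [IsAdicComplete (maximalIdeal S) S]
  {d : ℕ} (ψ : MvPowerSeries (Fin d) Λ →ₐ[Λ] S) (hψ : Function.Surjective ψ)
  {L : Type u} [AddCommGroup L] [Module S L] [IsSimpleModule S L]

include hψ in
lemma psi_mem_maximalIdeal_iff (p : MvPowerSeries (Fin d) Λ) :
    ψ p ∈ maximalIdeal S ↔ p ∈ maximalIdeal (MvPowerSeries (Fin d) Λ) := by
  haveI : IsLocalHom ψ.toRingHom := IsLocalHom.of_surjective ψ.toRingHom hψ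
  constructor
  · intro h
    by_contra hp
    have hu : IsUnit p := by rwa [mem_maximalIdeal, mem_nonunits_iff, not_not] at hp
    exact (mem_maximalIdeal _).1 h (hu.map ψ)
  · intro h
    exact map_nonunit ψ.toRingHom p h

include hψ in
/-- a presentation of the base lifts to every extension -/
theorem exists_lift' (X : Exal.Ext Λ S L) :
    ∃ u : MvPowerSeries (Fin d) Λ →ₐ[Λ] X.E, ∀ p, X.proj (u p) = ψ p := by
  haveI := isAdicComplete_E X
  choose e he using fun i : Fin d => X.isExtension.proj_surjective (ψ (MvPowerSeries.X i))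
  have hem : ∀ i, e i ∈ maximalIdeal X.E := by
    intro i
    rw [mem_maximalIdeal_iff X, he, psi_mem_maximalIdeal_iff ψ hψ]
    exact X_mem_maximalIdeal d i
  obtain ⟨u₀, hu₀⟩ := Groth.Agent.H5.CA.exists_algHom_mvPowerSeries' Λ X.E (maximalIdeal X.E) e hem
  refine ⟨u₀, ?_⟩
  have key : X.proj.comp u₀ = ψ := by
    apply Groth.Agent.H5.CA.algHom_ext_of_isHausdorff_fin (maximalIdeal S)
    · intro i
      change X.proj (u₀ (MvPowerSeries.X i)) ∈ _
      rw [hu₀, he, psi_mem_maximalIdeal_iff ψ hψ]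
      exact X_mem_maximalIdeal d i
    · intro i
      change X.proj (u₀ (MvPowerSeries.X i)) = ψ (MvPowerSeries.X i)
      rw [hu₀, he]
  intro p
  exact congrArg (fun g : MvPowerSeries (Fin d) Λ →ₐ[Λ] S => g p) key

variable (X : Exal.Ext Λ S L) (u : MvPowerSeries (Fin d) Λ →ₐ[Λ] X.E)
  (hu : ∀ p, X.proj (u p) = ψ p)

include hψ hu in
lemma u_mem {p : MvPowerSeries (Fin d) Λ} (hp : p ∈ maximalIdeal (MvPowerSeries (Fin d) Λ)) :
    u p ∈ maximalIdeal X.E := by
  rw [mem_maximalIdeal_iff X, hu, psi_mem_maximalIdeal_iff ψ hψ]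
  exact hp

include hψ hu in
lemma exists_eq_add_of_mem {e : X.E} (he : e ∈ maximalIdeal X.E) :
    ∃ p ∈ maximalIdeal (MvPowerSeries (Fin d) Λ), ∃ z : L, e = u p + X.incl z := by
  obtain ⟨p, hp⟩ := hψ (X.proj e)
  have hpm : p ∈ maximalIdeal (MvPowerSeries (Fin d) Λ) := by
    rw [← psi_mem_maximalIdeal_iff ψ hψ, hp, ← mem_maximalIdeal_iff X]
    exact he
  obtain ⟨z, hz⟩ := exists_incl_eq_sub X (x := e) (y := u p) (by rw [hu, hp])
  exact ⟨p, hpm, z, by rw [hz]; ring⟩

include hψ hu in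
lemma mul_u_eq {e : X.E} (he : e ∈ maximalIdeal X.E) {a : MvPowerSeries (Fin d) Λ}
    (ha : a ∈ maximalIdeal (MvPowerSeries (Fin d) Λ)) :
    ∃ p ∈ maximalIdeal (MvPowerSeries (Fin d) Λ), e * u a = u (p * a) := by
  obtain ⟨p, hpm, z, rfl⟩ := exists_eq_add_of_mem ψ hψ X u hu he
  refine ⟨p, hpm, ?_⟩
  rw [add_mul, map_mul, mul_comm (X.incl z), maximalIdeal_mul_incl X _ (u_mem ψ hψ X u hu ha),
    add_zero]

include hψ hu in
lemma exists_of_mem_pow (k : ℕ) :
    ∀ e ∈ maximalIdeal X.E ^ (k + 2),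
      ∃ a ∈ maximalIdeal (MvPowerSeries (Fin d) Λ) ^ (k + 2), u a = e := by
  induction k with
  | zero =>
    intro e he
    rw [zero_add, pow_two] at he
    rw [zero_add, pow_two]
    refine Submodule.mul_induction_on he ?_ ?_
    · intro m hm n hn
      obtain ⟨p', hp', z', rfl⟩ := exists_eq_add_of_mem ψ hψ X u hu hn
      rw [mul_add, maximalIdeal_mul_incl X m hm, add_zero]
      obtain ⟨p, hp, h⟩ := mul_u_eq ψ hψ X u hu hm hp'
      exact ⟨p * p', Ideal.mul_mem_mul hp hp', h.symm⟩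
    · rintro x y ⟨a, ha, rfl⟩ ⟨b, hb, rfl⟩
      exact ⟨a + b, Ideal.add_mem _ ha hb, map_add _ _ _⟩
  | succ k ih =>
    intro e he
    have h1 : k + 1 + 2 = (k + 2) + 1 := by ring
    rw [h1, pow_succ'] at he
    rw [h1, pow_succ']
    refine Submodule.mul_induction_on he ?_ ?_
    · intro m hm n hn
      obtain ⟨a, ha, rfl⟩ := ih n hn
      have ha' : a ∈ maximalIdeal (MvPowerSeries (Fin d) Λ) :=
        Ideal.pow_le_self (by omega) ha
      obtain ⟨p, hp, h⟩ := mul_u_eq ψ hψ X u hu hm ha'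
      exact ⟨p * a, Ideal.mul_mem_mul hp ha, h.symm⟩
    · rintro x y ⟨a, ha, rfl⟩ ⟨b, hb, rfl⟩
      exact ⟨a + b, Ideal.add_mem _ ha hb, map_add _ _ _⟩

include hψ hu in
lemma u_eq_zero_of_mem_mul {a : MvPowerSeries (Fin d) Λ}
    (ha : a ∈ maximalIdeal (MvPowerSeries (Fin d) Λ) * RingHom.ker ψ.toRingHom) : u a = 0 := by
  refine Submodule.mul_induction_on ha ?_ ?_
  · intro m hm j hj
    have hj' : ψ j = 0 := hj
    obtain ⟨z, hz⟩ := (X.isExtension.exact (u j)).1 (by rw [hu, hj'])
    rw [map_mul, ← hz, maximalIdeal_mul_incl X _ (u_mem ψ hψ X u hu hm)]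
  · intro x y hx hy
    rw [map_add, hx, hy, add_zero]

include hψ hu in
theorem incl_eq_zero_of_mem_pow (c : ℕ)
    (hc : maximalIdeal (MvPowerSeries (Fin d) Λ) ^ (c + 1) ⊓ RingHom.ker ψ.toRingHom ≤
      maximalIdeal (MvPowerSeries (Fin d) Λ) * RingHom.ker ψ.toRingHom)
    (n : ℕ) (hn : c ≤ n) (hn1 : 1 ≤ n) (z : L) (hz : X.incl z ∈ maximalIdeal X.E ^ (n + 1)) :
    z = 0 := by
  obtain ⟨k, rfl⟩ : ∃ k, n = k + 1 := ⟨n - 1, by omega⟩
  obtain ⟨a, ha, hua⟩ := exists_of_mem_pow ψ hψ X u hu k (X.incl z) hz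
  have h1 : a ∈ RingHom.ker ψ.toRingHom := by
    change ψ a = 0
    rw [← hu, hua, proj_incl]
  have h2 : a ∈ maximalIdeal (MvPowerSeries (Fin d) Λ) ^ (c + 1) :=
    Ideal.pow_le_pow_right (by omega) ha
  have h3 := u_eq_zero_of_mem_mul ψ hψ X u hu (hc ⟨h2, h1⟩)
  rw [hua] at h3
  exact X.isExtension.incl_injective (by rw [h3, map_zero])

end Complete

section Uniform

variable {Λ : Type u} [CommRing Λ] [IsLocalRing Λ] [IsNoetherianRing Λ]
  [IsAdicComplete (maximalIdeal Λ) Λ]
  {S : Type u} [CommRing S] [Algebra Λ S] [IsLocalRing S] [IsNoetherianRing S]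
  [IsAdicComplete (maximalIdeal S) S]
  (L : Type u) [AddCommGroup L] [Module S L] [IsSimpleModule S L]

/-- a uniform truncation level for the extensions of a complete local Noetherian ring -/
theorem exists_uniform_level_complete
    (hK : Function.Surjective ((residue S).comp (algebraMap Λ S))) :
    ∃ n : ℕ, ∀ X : Exal.Ext Λ S L, ∀ z, X.incl z ∈ maximalIdeal X.E ^ (n + 1) → z = 0 := by
  obtain ⟨d, ψ, hψ, -⟩ := Groth.Agent.H5.CA.exists_surjective_mvPowerSeries' Λ S
    (maximalIdeal S).fg_of_isNoetherianRing hK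
  obtain ⟨c, hc⟩ := exists_artinRees (maximalIdeal (MvPowerSeries (Fin d) Λ))
    (RingHom.ker ψ.toRingHom)
  refine ⟨c + 1, fun X z hz => ?_⟩
  obtain ⟨u, hu⟩ := exists_lift' ψ hψ X
  exact incl_eq_zero_of_mem_pow ψ hψ X u hu c hc (c + 1) (by omega) (by omega) z hz

end Uniform

section Final

variable {Λ : Type u} [CommRing Λ] [IsLocalRing Λ] [IsNoetherianRing Λ]
  [IsAdicComplete (maximalIdeal Λ) Λ]
  {R : Type u} [CommRing R] [Algebra Λ R] [IsLocalRing R] [IsNoetherianRing R]
  (hR : ∀ r : R, ∃ a : Λ, r - algebraMap Λ R a ∈ maximalIdeal R)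

include hR in
lemma completion_residue_surjective :
    Function.Surjective ((residue (AdicCompletion (maximalIdeal R) R)).comp
      (algebraMap Λ (AdicCompletion (maximalIdeal R) R))) := by
  intro y
  obtain ⟨s, rfl⟩ := residue_surjective y
  obtain ⟨r, hr⟩ := completion_H 1 s
  obtain ⟨a, ha⟩ := hR r
  refine ⟨a, ?_⟩
  change residue _ (algebraMap Λ (AdicCompletion (maximalIdeal R) R) a) = residue _ s
  rw [← sub_eq_zero, ← map_sub, residue_eq_zero_iff]
  rw [pow_one] at hr
  have h1 : algebraMap R (AdicCompletion (maximalIdeal R) R) (r - algebraMap Λ R a) ∈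
      maximalIdeal (AdicCompletion (maximalIdeal R) R) :=
    map_nonunit (algebraMap R (AdicCompletion (maximalIdeal R) R)) _ ha
  have h2 : algebraMap Λ (AdicCompletion (maximalIdeal R) R) a - s =
      -(s - algebraMap R (AdicCompletion (maximalIdeal R) R) r) -
        algebraMap R (AdicCompletion (maximalIdeal R) R) (r - algebraMap Λ R a) := by
    rw [map_sub, ← IsScalarTower.algebraMap_apply]
    ring
  rw [h2]
  exact Ideal.sub_mem _ (neg_mem hr) h1

variable (L : Type u) [AddCommGroup L] [Module (AdicCompletion (maximalIdeal R) R) L] [Module R L]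
  [IsScalarTower R (AdicCompletion (maximalIdeal R) R) L] [IsSimpleModule R L]

include hR in
/-- a uniform truncation level for the extensions of a local Noetherian ring -/
theorem exists_uniform_level :
    ∃ n : ℕ, ∀ X : Exal.Ext Λ R L, ∀ z, X.incl z ∈ maximalIdeal X.E ^ (n + 1) → z = 0 := by
  haveI : IsNoetherianRing (AdicCompletion (maximalIdeal R) R) :=
    Groth.Agent.S0543.result R (maximalIdeal R)
  haveI : IsSimpleModule (AdicCompletion (maximalIdeal R) R) L :=
    isSimpleModule_of_tower R (AdicCompletion (maximalIdeal R) R) L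
  obtain ⟨n, hn⟩ := exists_uniform_level_complete (Λ := Λ) L (completion_residue_surjective hR)
  refine ⟨n, fun X z hz => ?_⟩
  obtain ⟨Xh, ⟨e⟩⟩ := exists_pullback_equiv (A := Λ) (L := L) completion_H completion_H' X
  refine hn Xh z ?_
  let f : X.E →ₐ[Λ] Xh.E := (pullbackFst R Xh).comp (e.symm.toAlgEquiv : X.E →ₐ[Λ] _)
  have hf : f (X.incl z) = Xh.incl z := by
    change pullbackFst R Xh (e.symm.toAlgEquiv (X.incl z)) = _
    rw [e.symm.apply_incl]
    rfl
  rw [← hf]
  refine map_mem_pow f.toRingHom ?_ (n + 1) _ hz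
  intro w hw
  rw [mem_maximalIdeal_iff] at hw ⊢
  change Xh.proj (pullbackFst R Xh (e.symm.toAlgEquiv w)) ∈ _
  rw [proj_pullbackFst, e.symm.proj_apply]
  exact map_nonunit (algebraMap R (AdicCompletion (maximalIdeal R) R)) _ hw

omit [IsNoetherianRing R] in
lemma isSimpleModule_residueField : IsSimpleModule R (ResidueField R) := by
  rw [isSimpleModule_iff]
  haveI : Nontrivial (Submodule R (ResidueField R)) :=
    (Submodule.nontrivial_iff R).2 inferInstance
  refine { eq_bot_or_eq_top := fun N => ?_ }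
  by_cases h : N = ⊥
  · exact Or.inl h
  · right
    obtain ⟨x, hxN, hx0⟩ := (Submodule.ne_bot_iff N).1 h
    obtain ⟨r, rfl⟩ := residue_surjective x
    have hr : IsUnit r := by
      by_contra hr
      exact hx0 ((residue_eq_zero_iff r).2 ((mem_maximalIdeal r).2 hr))
    obtain ⟨r', hr'⟩ := hr.exists_left_inv
    have h1 : (1 : ResidueField R) ∈ N := by
      have := N.smul_mem r' hxN
      rwa [Algebra.smul_def, ResidueField.algebraMap_eq, ← map_mul, hr', map_one] at this
    rw [eq_top_iff]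
    intro y _
    obtain ⟨s, rfl⟩ := residue_surjective y
    have := N.smul_mem s h1
    rwa [Algebra.smul_def, mul_one] at this

include hR in
theorem main11282 :
    ∃ n : ℕ, ∀ X : Exal.Ext Λ R (ResidueField R),
      ∃ I : Ideal X.E, (∀ x ∈ I, X.proj x = 0 → x = 0) ∧
        Ideal.map X.proj I = maximalIdeal R ^ (n + 1) := by
  let φ : AdicCompletion (maximalIdeal R) R →+* ResidueField R :=
    (AdicCompletion.evalOneₐ (maximalIdeal R)).toRingHom
  have hφ : ∀ r : R, φ (algebraMap R (AdicCompletion (maximalIdeal R) R) r) =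
      algebraMap R (ResidueField R) r := fun r =>
    (AdicCompletion.evalOneₐ (maximalIdeal R)).commutes r
  letI : Module (AdicCompletion (maximalIdeal R) R) (ResidueField R) :=
    Module.compHom (ResidueField R) φ
  haveI : IsScalarTower R (AdicCompletion (maximalIdeal R) R) (ResidueField R) := by
    constructor
    intro r x z
    change φ (r • x) * z = r • (φ x * z)
    rw [Algebra.smul_def, map_mul, hφ, Algebra.smul_def, mul_assoc]
  haveI : IsSimpleModule R (ResidueField R) := isSimpleModule_residueField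
  obtain ⟨n, hn⟩ := exists_uniform_level hR (ResidueField R)
  refine ⟨n, fun X => ⟨maximalIdeal X.E ^ (n + 1), ?_, map_maximalIdeal_pow X (n + 1)⟩⟩
  intro x hx hpx
  obtain ⟨z, rfl⟩ := (X.isExtension.exact x).1 hpx
  rw [hn X z hx, map_zero]

end Final

end Groth.Agent.H6.ExalPS
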