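import Mathlib
import Groth.Agent.Lib.Helper8.Extend
import Groth.Agent.Lib.Helper7.Reg1
import Groth.Agent.Lib.Helper6.Ext1

universe u
open CategoryTheory CategoryTheory.Limits AlgebraicGeometry TopologicalSpace Opposite IsLocalRing
open Groth.Agent.H8 Groth.Agent.H8.Extend

namespace Groth.Agent.H6.Ext2

/-- the canonical morphism `Spec Frac(O_{Y,y}) ⟶ Spec O_{Y,y}`. -/
noncomputable abbrev fracι {Y : Scheme.{u}} (y : Y) :
    Spec (CommRingCat.of (FractionRing (Y.presheaf.stalk y))) ⟶ Spec (Y.presheaf.stalk y) :=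
  Spec.map (CommRingCat.ofHom (algebraMap (Y.presheaf.stalk y)
    (FractionRing (Y.presheaf.stalk y))))

/-- closed maps lift specializations. -/
theorem exists_specializes_of_isClosedMap {X Y : Scheme.{u}} (f : X ⟶ Y)
    (hcl : IsClosedMap f.base) (ξ : X) {y : Y} (h : f ξ ⤳ y) : ∃ z : X, ξ ⤳ z ∧ f z = y := by
  have h1 : IsClosed (f '' closure {ξ}) := hcl _ isClosed_closure
  have h2 : f ξ ∈ f '' closure {ξ} := ⟨ξ, subset_closure rfl, rfl⟩
  have h3 : y ∈ f '' closure {ξ} :=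
    closure_minimal (Set.singleton_subset_iff.2 h2) h1 h.mem_closure
  obtain ⟨z, hz, rfl⟩ := h3
  exact ⟨z, specializes_iff_mem_closure.2 hz, rfl⟩

/-- pure algebra: a local ring `B` between a valuation ring `R` and its fraction field `K`
(via a local homomorphism `g : R → B` and `φ : B → K` with `φ ∘ g` the canonical map) retracts
onto `R`. -/
theorem exists_retraction_of_valuationRing (R K B : Type u) [CommRing R] [IsDomain R]
    [ValuationRing R] [Field K] [Algebra R K] [IsFractionRing R K] [CommRing B] [IsLocalRing B]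
    (g : R →+* B) [IsLocalHom g] (φ : B →+* K) (h1' : ∀ r : R, φ (g r) = algebraMap R K r) :
    ∃ ψ : B →+* R, (∀ w, algebraMap R K (ψ w) = φ w) ∧ ∀ r, ψ (g r) = r := by
  have h2 : ∀ w : B, φ w ∈ (algebraMap R K).range := by
    intro w
    by_cases hw0 : φ w = 0
    · exact ⟨0, by rw [map_zero, hw0]⟩
    rcases ValuationRing.isInteger_or_isInteger R (φ w) with ⟨r, hr⟩ | ⟨r, hr⟩
    · exact ⟨r, hr⟩
    · by_cases hru : IsUnit r
      · obtain ⟨u, rfl⟩ := hru
        exact ⟨((u⁻¹ : Rˣ) : R), by rw [map_units_inv, hr, inv_inv]⟩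
      · exfalso
        have hr_m : g r ∈ nonunits B := by
          rw [mem_nonunits_iff]
          intro h
          exact hru (isUnit_of_map_unit g r h)
        have hmem : g r * w ∈ nonunits B := by
          rw [← mem_maximalIdeal] at hr_m ⊢
          exact Ideal.mul_mem_right _ _ hr_m
        have hunit : IsUnit (1 - g r * w) :=
          IsLocalRing.isUnit_one_sub_self_of_mem_nonunits _ hmem
        have h0 : φ (1 - g r * w) = 0 := by
          rw [map_sub, map_mul, h1', hr, map_one, inv_mul_cancel₀ hw0, sub_self]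
        exact (hunit.map φ).ne_zero h0
  have hinj : Function.Injective (algebraMap R K) := IsFractionRing.injective R K
  let e : R ≃+* (algebraMap R K).range :=
    RingEquiv.ofBijective (algebraMap R K).rangeRestrict
      ⟨fun x y h => hinj (congrArg Subtype.val h), (algebraMap R K).rangeRestrict_surjective⟩
  let ψ : B →+* R := e.symm.toRingHom.comp (φ.codRestrict (algebraMap R K).range h2)
  have hψ : ∀ w, algebraMap R K (ψ w) = φ w := by
    intro w
    have h3 : e (ψ w) = ⟨φ w, h2 w⟩ := e.apply_symm_apply _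
    exact congrArg Subtype.val h3
  exact ⟨ψ, hψ, fun r => hinj (by rw [hψ, h1'])⟩

/-- a `K`-point of `X` over the generic point of `Spec O_{Y,y}` (a valuation ring) specializing to a
point over `y` extends to `Spec O_{Y,y}`. -/
theorem exists_lift_of_specializes {X Y : Scheme.{u}} (f : X ⟶ Y) (y : Y)
    [IsDomain (Y.presheaf.stalk y)] [ValuationRing (Y.presheaf.stalk y)]
    (a : Spec (CommRingCat.of (FractionRing (Y.presheaf.stalk y))) ⟶ X)
    (ha : a ≫ f = fracι y ≫ Y.fromSpecStalk y) (z : X) (hzy : f z = y)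
    (hz : a (closedPoint (FractionRing (Y.presheaf.stalk y))) ⤳ z) :
    ∃ l : Spec (Y.presheaf.stalk y) ⟶ X, fracι y ≫ l = a ∧ l ≫ f = Y.fromSpecStalk y := by
  subst hzy
  obtain ⟨φ, hφ⟩ : ∃ φ : X.presheaf.stalk z ⟶
      CommRingCat.of (FractionRing (Y.presheaf.stalk (f z))),
      Spec.map φ ≫ X.fromSpecStalk z = a := by
    refine ⟨X.presheaf.stalkSpecializes hz ≫ Scheme.stalkClosedPointTo a, ?_⟩
    rw [Spec.map_comp, Category.assoc, Scheme.SpecMap_stalkSpecializes_fromSpecStalk,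
      Scheme.Spec_stalkClosedPointTo_fromSpecStalk]
  have hg : Spec.map (f.stalkMap z) ≫ Y.fromSpecStalk (f z) = X.fromSpecStalk z ≫ f :=
    Scheme.SpecMap_stalkMap_fromSpecStalk f
  obtain ⟨A, hA⟩ : ∃ A : Y.presheaf.stalk (f z) ⟶
      CommRingCat.of (FractionRing (Y.presheaf.stalk (f z))),
      (∀ r, A.hom r = algebraMap (Y.presheaf.stalk (f z))
        (FractionRing (Y.presheaf.stalk (f z))) r) ∧ Spec.map A = fracι (f z) :=
    ⟨CommRingCat.ofHom (algebraMap (Y.presheaf.stalk (f z))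
      (FractionRing (Y.presheaf.stalk (f z)))), fun r => rfl, rfl⟩
  obtain ⟨hA1, hA2⟩ := hA
  have h1 : f.stalkMap z ≫ φ = A := by
    apply Spec.map_injective
    rw [← cancel_mono (Y.fromSpecStalk (f z)), Spec.map_comp, Category.assoc, hg,
      ← Category.assoc, hφ, ha, hA2]
  have h1' : ∀ r : Y.presheaf.stalk (f z), φ.hom ((f.stalkMap z).hom r) =
      algebraMap (Y.presheaf.stalk (f z)) (FractionRing (Y.presheaf.stalk (f z))) r := fun r => by
    have := congrArg (fun t => t.hom r) h1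
    exact this.trans (hA1 r)
  have hgloc : IsLocalHom (f.stalkMap z).hom := inferInstance
  obtain ⟨ψ, hψ, hψg⟩ := exists_retraction_of_valuationRing (Y.presheaf.stalk (f z))
    (FractionRing (Y.presheaf.stalk (f z))) (X.presheaf.stalk z) (f.stalkMap z).hom φ.hom h1'
  obtain ⟨Ψ, hΨ1, hΨ2⟩ : ∃ Ψ : X.presheaf.stalk z ⟶ Y.presheaf.stalk (f z),
      Ψ ≫ A = φ ∧ f.stalkMap z ≫ Ψ = 𝟙 _ := by
    refine ⟨CommRingCat.ofHom ψ, ?_, ?_⟩
    · ext w
      exact (hA1 _).trans (hψ w)
    · ext r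
      exact hψg r
  refine ⟨Spec.map Ψ ≫ X.fromSpecStalk z, ?_, ?_⟩
  · rw [← hφ, ← hΨ1, Spec.map_comp, Category.assoc, hA2]
  · rw [Category.assoc, ← hg, ← Category.assoc, ← Spec.map_comp, hΨ2, Spec.map_id,
      Category.id_comp]

/-- for a closed map `f : X ⟶ Y`, a `K`-point of `X` over the generic point of the spectrum of the
valuation ring `O_{Y,y}` extends to `Spec O_{Y,y}`. -/
theorem exists_lift_of_isClosedMap {X Y : Scheme.{u}} (f : X ⟶ Y) (hcl : IsClosedMap f.base)
    (y : Y) [IsDomain (Y.presheaf.stalk y)] [ValuationRing (Y.presheaf.stalk y)]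
    (a : Spec (CommRingCat.of (FractionRing (Y.presheaf.stalk y))) ⟶ X)
    (ha : a ≫ f = fracι y ≫ Y.fromSpecStalk y) :
    ∃ l : Spec (Y.presheaf.stalk y) ⟶ X, fracι y ≫ l = a ∧ l ≫ f = Y.fromSpecStalk y := by
  have h : f (a (closedPoint (FractionRing (Y.presheaf.stalk y)))) ⤳ y := by
    have h1 : f (a (closedPoint (FractionRing (Y.presheaf.stalk y)))) =
        (Y.fromSpecStalk y) (fracι y (closedPoint (FractionRing (Y.presheaf.stalk y)))) := by
      rw [← Scheme.Hom.comp_apply, ha, Scheme.Hom.comp_apply]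
    rw [h1]
    have hm : (Y.fromSpecStalk y) (fracι y (closedPoint (FractionRing (Y.presheaf.stalk y)))) ∈
        Set.range (Y.fromSpecStalk y) := ⟨_, rfl⟩
    rw [Scheme.range_fromSpecStalk] at hm
    exact hm
  obtain ⟨z, hz, hzy⟩ := exists_specializes_of_isClosedMap f hcl _ h
  exact exists_lift_of_specializes f y a ha z hzy hz

set_option maxHeartbeats 400000 in
/-- variant of `Groth.Agent.H8.Extend.extend_at_valuationRing_point` where the lift over the local
ring is provided by a hypothesis instead of the valuative criterion. -/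
theorem extend_at_point_of_lift {X Y S : Scheme.{u}} (p : X ⟶ S) (q : Y ⟶ S)
    [IsSeparated q] [LocallyOfFiniteType q] (x : X) (U : X.Opens) (f : (U : Scheme.{u}) ⟶ Y)
    (hf : f ≫ q = U.ι ≫ p) (hx : x ∈ closure (U : Set ↥X))
    [hd : IsDomain (X.presheaf.stalk x)]
    (V₁ : X.Opens) (hxV₁ : x ∈ V₁) [IsIntegral (V₁ : Scheme.{u})]
    (hlift : ∀ t : Spec (CommRingCat.of (FractionRing (X.presheaf.stalk x))) ⟶ U,
      t ≫ U.ι = fracι x ≫ X.fromSpecStalk x →
      ∃ l : Spec (X.presheaf.stalk x) ⟶ Y, fracι x ≫ l = t ≫ f ∧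
        l ≫ q = X.fromSpecStalk x ≫ p) :
    ∃ (U' : X.Opens) (hUU' : U ≤ U'), x ∈ U' ∧
      ∃ f' : (U' : Scheme.{u}) ⟶ Y, f' ≫ q = U'.ι ≫ p ∧ X.homOfLE hUU' ≫ f' = f := by
  -- germ injectivity
  have hgi : X.IsGermInjectiveAt x := by
    have h1 : (V₁ : Scheme.{u}).IsGermInjectiveAt ⟨x, hxV₁⟩ := inferInstance
    exact (isGermInjectiveAt_iff_of_isOpenImmersion (f := V₁.ι) (x := ⟨x, hxV₁⟩)).2 h1
  obtain ⟨hηV₁, hV₁cl⟩ := genPt_mem_and_subset_closure x V₁ hxV₁
  -- the generic point lies in `U`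
  have hηU : genPt x ∈ U := by
    obtain ⟨u, huV, huU⟩ := mem_closure_iff.1 hx V₁ V₁.isOpen hxV₁
    have h1 : genPt x ⤳ u := specializes_iff_mem_closure.2 (hV₁cl huV)
    exact h1.mem_open U.isOpen huU
  let K := FractionRing (X.presheaf.stalk x)
  let ι : Spec (CommRingCat.of K) ⟶ Spec (X.presheaf.stalk x) :=
    Spec.map (CommRingCat.ofHom (algebraMap (X.presheaf.stalk x) K))
  let tK : Spec (CommRingCat.of K) ⟶ X := ι ≫ X.fromSpecStalk x
  have htK : ∀ pt, tK pt = genPt x := by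
    intro pt
    rw [Scheme.Hom.comp_apply]
    congr 1
    exact MonoVal.specMap_apply_of_injective (algebraMap (X.presheaf.stalk x) K)
      (IsFractionRing.injective (X.presheaf.stalk x) K) pt
  have hrange : ∀ (W : X.Opens), genPt x ∈ W → Set.range tK ⊆ Set.range W.ι := by
    rintro W hW _ ⟨pt, rfl⟩
    rw [htK, Scheme.Opens.range_ι]; exact hW
  let t : Spec (CommRingCat.of K) ⟶ U := IsOpenImmersion.lift U.ι tK (hrange U hηU)
  have ht : t ≫ U.ι = tK := IsOpenImmersion.lift_fac _ _ _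
  obtain ⟨l, hl₁, hl₂⟩ := hlift t ht
  change ι ≫ l = t ≫ f at hl₁
  -- spread out
  obtain ⟨V₂, hxV₂, fV₂, hfV₂, hfV₂q⟩ := spread_out_of_isGermInjective' p q l hl₂
  let V : X.Opens := V₂ ⊓ V₁
  have hxV : x ∈ V := ⟨hxV₂, hxV₁⟩
  let fV : (V : Scheme.{u}) ⟶ Y := X.homOfLE (inf_le_left : V ≤ V₂) ≫ fV₂
  have hfVq : fV ≫ q = V.ι ≫ p := by
    rw [Category.assoc, hfV₂q, ← Category.assoc, Scheme.homOfLE_ι]
  -- agreement on the overlap
  let T : X.Opens := U ⊓ V
  have hηV₂ : genPt x ∈ V₂ := (genPt_specializes x).mem_open V₂.isOpen hxV₂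
  have hηT : genPt x ∈ T := ⟨hηU, hηV₂, hηV₁⟩
  have hTV₁ : T ≤ V₁ := inf_le_right.trans inf_le_right
  have : Nonempty (T : Scheme.{u}) := ⟨⟨genPt x, hηT⟩⟩
  have hTint : IsIntegral (T : Scheme.{u}) := isIntegral_of_isOpenImmersion (X.homOfLE hTV₁)
  let tT : Spec (CommRingCat.of K) ⟶ T := IsOpenImmersion.lift T.ι tK (hrange T hηT)
  have htT : tT ≫ T.ι = tK := IsOpenImmersion.lift_fac _ _ _
  have hdom : IsDominant tT := by
    constructor
    rw [DenseRange, dense_iff_closure_eq, Set.eq_univ_iff_forall]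
    intro w
    have h1 : genPt x ⤳ T.ι w := specializes_iff_mem_closure.2 (hV₁cl (hTV₁ w.2))
    have h2 : T.ι (tT (closedPoint K)) = genPt x := by
      rw [← Scheme.Hom.comp_apply, htT, htK]
    rw [← h2] at h1
    have h3 : tT (closedPoint K) ⤳ w := (T.ι.isEmbedding.isInducing.specializes_iff).1 h1
    have h4 : ({tT (closedPoint K)} : Set (T : Scheme.{u})) ⊆ Set.range tT :=
      Set.singleton_subset_iff.2 ⟨closedPoint K, rfl⟩
    exact closure_mono h4 h3.mem_closure
  have hagree : X.homOfLE (inf_le_left : U ⊓ V ≤ U) ≫ f = X.homOfLE (inf_le_right : U ⊓ V ≤ V) ≫ fV := by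
    apply ext_of_isDominant_of_isSeparated q ?_ tT ?_
    · rw [Category.assoc, Category.assoc, hf, hfVq, ← Category.assoc, ← Category.assoc,
        Scheme.homOfLE_ι, Scheme.homOfLE_ι]
    · have h1 : tT ≫ X.homOfLE (inf_le_left : U ⊓ V ≤ U) = t := by
        rw [← cancel_mono U.ι, Category.assoc, Scheme.homOfLE_ι, htT, ht]
      have h2 : tT ≫ X.homOfLE (inf_le_right : U ⊓ V ≤ V) ≫ X.homOfLE (inf_le_left : V ≤ V₂) =
          ι ≫ V₂.fromSpecStalkOfMem x hxV₂ := by
        rw [← cancel_mono V₂.ι, Category.assoc, Category.assoc, Scheme.homOfLE_ι,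
          Scheme.homOfLE_ι, htT, Category.assoc, Scheme.Opens.fromSpecStalkOfMem_ι]
      rw [← Category.assoc, h1, ← hl₁, hfV₂]
      simp only [fV]
      rw [← Category.assoc, ← Category.assoc, ← Category.assoc, Category.assoc tT, h2]
  obtain ⟨U', hU, hV, f', hf'U, hf'V, hext⟩ := exists_glue_two U V f fV hagree
  refine ⟨U', hU, hV hxV, f', ?_, hf'U⟩
  apply hext
  · rw [← Category.assoc, hf'U, hf, ← Category.assoc, Scheme.homOfLE_ι]
  · rw [← Category.assoc, hf'V, hfVq, ← Category.assoc, Scheme.homOfLE_ι]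

/-- **S2354**: extension of a section over the points of codimension `≤ 1`, for a separated
morphism locally of finite type which is a closed map. -/
theorem s2354 {X Y : Scheme.{u}} [IsLocallyNoetherian Y] [IsReduced Y]
    (hreg : ∀ y : Y, ringKrullDim (Y.presheaf.stalk y) ≤ 1 →
      IsRegularLocalRing (Y.presheaf.stalk y))
    (f : X ⟶ Y) [IsSeparated f] [LocallyOfFiniteType f] (hcl : IsClosedMap f.base)
    (V : Y.Opens) (hV : Dense (V : Set Y)) (s : (V : Scheme.{u}) ⟶ X) (hs : s ≫ f = V.ι) :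
    ∃ (U : Y.Opens) (hVU : V ≤ U) (s' : (U : Scheme.{u}) ⟶ X), s' ≫ f = U.ι ∧
      Y.homOfLE hVU ≫ s' = s ∧
      ∀ y : Y, ringKrullDim (Y.presheaf.stalk y) ≤ 1 → y ∈ U := by
  have hs' : s ≫ f = V.ι ≫ 𝟙 Y := by rw [Category.comp_id, hs]
  let P := {y : Y // ringKrullDim (Y.presheaf.stalk y) ≤ 1}
  have hloc : ∀ y : P, ∃ (U' : Y.Opens) (hUU' : V ≤ U'), y.1 ∈ U' ∧
      ∃ f' : (U' : Scheme.{u}) ⟶ X, f' ≫ f = U'.ι ≫ 𝟙 Y ∧ Y.homOfLE hUU' ≫ f' = s := by
    rintro ⟨y, hy⟩
    have := hreg y hy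
    have hd : IsDomain (Y.presheaf.stalk y) := Groth.Agent.H7.Reg.isDomain _
    have hv : ValuationRing (Y.presheaf.stalk y) :=
      Groth.Agent.H6.Ext.valuationRing_of_regular _ hy
    obtain ⟨V₁, hxV₁, hV₁⟩ := Groth.Agent.H8.Extend.exists_isIntegral_nhd_of_germInjective y
    refine extend_at_point_of_lift (𝟙 Y) f y V s hs' (by rw [hV.closure_eq]; trivial) V₁ hxV₁ ?_
    intro t ht
    obtain ⟨l, hl1, hl2⟩ := exists_lift_of_isClosedMap f hcl y (t ≫ s)
      (by rw [Category.assoc, hs, ht])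
    exact ⟨l, hl1, by rw [hl2, Category.comp_id]⟩
  choose U' hUU' hyU' f' hf'p hf'g using hloc
  let U'' : Option P → Y.Opens := fun i => i.elim V U'
  have hVU'' : ∀ i, V ≤ U'' i := fun i => by
    cases i with
    | none => exact le_rfl
    | some y => exact hUU' y
  let g'' : ∀ i, ((U'' i : Y.Opens) : Scheme.{u}) ⟶ X := fun i =>
    match i with
    | none => s
    | some y => f' y
  have hg'' : ∀ i, g'' i ≫ f = (U'' i).ι ≫ 𝟙 Y := fun i => by
    cases i with
    | none => exact hs'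
    | some y => exact hf'p y
  have hg''V : ∀ i, Y.homOfLE (hVU'' i) ≫ g'' i = s := fun i => by
    cases i with
    | none =>
      change Y.homOfLE (le_refl V) ≫ s = s
      rw [Scheme.homOfLE_rfl, Category.id_comp]
    | some y => exact hf'g y
  obtain ⟨G, hG1, hG2⟩ := Groth.Agent.H6.Ext.exists_glue_family f (𝟙 Y) V hV U'' hVU'' g'' hg''
    (fun i j => (hg''V i).trans (hg''V j).symm)
  refine ⟨⨆ i, U'' i, le_iSup U'' none, G, by rw [hG1, Category.comp_id], hG2 none, ?_⟩
  intro y hy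
  exact (le_iSup U'' (some ⟨y, hy⟩)) (hyU' ⟨y, hy⟩)

end Groth.Agent.H6.Ext2
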