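import Mathlib

set_option autoImplicit false

universe w v u

open CategoryTheory CategoryTheory.Limits CategoryTheory.Abelian

namespace Groth.Agent.H6.ExtCrit

variable {C : Type u} [Category.{v} C] [Abelian C]

open Abelian

theorem forward [HasExt.{w} C] {S : ShortComplex C} (hS : S.ShortExact) {Q P : C} (φ : S.X₁ ⟶ Q) (π : S.X₃ ⟶ P)
    (B : C) (f : Q ⟶ B) (g : B ⟶ P) (h : S.X₂ ⟶ B) (w : f ≫ g = 0)
    (hB : (ShortComplex.mk f g w).ShortExact) (c1 : S.f ≫ h = φ ≫ f) (c2 : h ≫ g = S.g ≫ π) :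
    (Ext.mk₀ (kernel.ι π)).comp (hS.extClass.comp (Ext.mk₀ φ) (add_zero 1)) (zero_add 1) = 0 := by
  let ψ : S ⟶ ShortComplex.mk f g w :=
    { τ₁ := φ
      τ₂ := h
      τ₃ := π
      comm₁₂ := c1.symm
      comm₂₃ := c2 }
  have hnat := ShortComplex.ShortExact.extClass_naturality hS hB ψ
  change hS.extClass.comp (Ext.mk₀ φ) (add_zero 1) = (Ext.mk₀ π).comp hB.extClass (zero_add 1) at hnat
  rw [hnat, Ext.mk₀_comp_mk₀_assoc, kernel.condition, Ext.mk₀_zero, Ext.zero_comp]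




section SK

variable {S : ShortComplex C} (hS : S.ShortExact) {P : C} (π : S.X₃ ⟶ P)

/-- `A' → A_K = ker (A → A'' → P)` -/
noncomputable def fK : S.X₁ ⟶ kernel (S.g ≫ π) :=
  kernel.lift _ S.f (by rw [← Category.assoc, S.zero, zero_comp])

/-- `A_K → K = ker π` -/
noncomputable def gK : kernel (S.g ≫ π) ⟶ kernel π :=
  kernel.lift π (kernel.ι (S.g ≫ π) ≫ S.g) (by rw [Category.assoc, kernel.condition])

@[reassoc (attr := simp)]
theorem fK_ι : fK π ≫ kernel.ι (S.g ≫ π) = S.f := kernel.lift_ι _ _ _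

@[reassoc (attr := simp)]
theorem gK_ι : gK π ≫ kernel.ι π = kernel.ι (S.g ≫ π) ≫ S.g := kernel.lift_ι _ _ _

theorem fK_gK : fK (S := S) π ≫ gK π = 0 := by
  rw [← cancel_mono (kernel.ι π), Category.assoc, gK_ι, fK_ι_assoc, S.zero, zero_comp]

/-- the short complex `A' → A_K → K`. -/
noncomputable abbrev SK : ShortComplex C := ShortComplex.mk (fK (S := S) π) (gK π) (fK_gK π)

include hS in
theorem SK_shortExact : (SK (S := S) π).ShortExact := by
  have := hS.mono_f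
  have := hS.epi_g
  have hmono : Mono (fK (S := S) π) := mono_of_mono_fac (fK_ι π)
  have hepi : Epi (gK (S := S) π) := by
    rw [epi_iff_surjective_up_to_refinements]
    intro Z z
    obtain ⟨Z₁, p₁, hp₁, a, ha⟩ := surjective_up_to_refinements_of_epi S.g (z ≫ kernel.ι π)
    have ha0 : a ≫ S.g ≫ π = 0 := by
      rw [← Category.assoc, ← ha, Category.assoc, Category.assoc, kernel.condition, comp_zero, comp_zero]
    refine ⟨Z₁, p₁, hp₁, kernel.lift _ a ha0, ?_⟩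
    rw [← cancel_mono (kernel.ι π), Category.assoc, Category.assoc, gK_ι, kernel.lift_ι_assoc, ha]
  have hex : (SK (S := S) π).Exact := by
    rw [ShortComplex.exact_iff_exact_up_to_refinements]
    intro Z x₂ hx₂
    change x₂ ≫ gK π = 0 at hx₂
    have h0 : (x₂ ≫ kernel.ι (S.g ≫ π)) ≫ S.g = 0 := by
      rw [Category.assoc, ← gK_ι, ← Category.assoc, hx₂, zero_comp]
    obtain ⟨Z₁, p₁, hp₁, x₁, hx₁⟩ := hS.exact.exact_up_to_refinements _ h0
    refine ⟨Z₁, p₁, hp₁, x₁, ?_⟩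
    change p₁ ≫ x₂ = x₁ ≫ fK π
    rw [← cancel_mono (kernel.ι (S.g ≫ π)), Category.assoc, Category.assoc, fK_ι, hx₁]
  exact ShortComplex.ShortExact.mk' hex hmono hepi

/-- the morphism of short complexes `SK → S`. -/
noncomputable def SKhom : SK (S := S) π ⟶ S where
  τ₁ := 𝟙 _
  τ₂ := kernel.ι (S.g ≫ π)
  τ₃ := kernel.ι π
  comm₁₂ := by
    change 𝟙 _ ≫ S.f = fK π ≫ kernel.ι (S.g ≫ π)
    rw [fK_ι, Category.id_comp]
  comm₂₃ := by
    change kernel.ι (S.g ≫ π) ≫ S.g = gK π ≫ kernel.ι π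
    rw [gK_ι]

end SK


section PO

variable {S : ShortComplex C} (hS : S.ShortExact) {Q P : C} (π : S.X₃ ⟶ P)
  (ρ : kernel (S.g ≫ π) ⟶ Q)

/-- `B → P`. -/
noncomputable def gB : pushout (kernel.ι (S.g ≫ π)) ρ ⟶ P :=
  pushout.desc (S.g ≫ π) 0 (by rw [kernel.condition, comp_zero])

@[reassoc (attr := simp)]
theorem inl_gB : pushout.inl (kernel.ι (S.g ≫ π)) ρ ≫ gB π ρ = S.g ≫ π := pushout.inl_desc _ _ _

@[reassoc (attr := simp)]
theorem inr_gB : pushout.inr (kernel.ι (S.g ≫ π)) ρ ≫ gB π ρ = 0 := pushout.inr_desc _ _ _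

include hS in
theorem SB_shortExact [Epi π] :
    (ShortComplex.mk (pushout.inr (kernel.ι (S.g ≫ π)) ρ) (gB π ρ) (inr_gB π ρ)).ShortExact := by
  have := hS.epi_g
  have hmono : Mono (pushout.inr (kernel.ι (S.g ≫ π)) ρ) := inferInstance
  have hepi : Epi (gB π ρ) := by
    have : Epi (pushout.inl (kernel.ι (S.g ≫ π)) ρ ≫ gB π ρ) := by
      rw [inl_gB]; infer_instance
    exact epi_of_epi (pushout.inl (kernel.ι (S.g ≫ π)) ρ) _
  have hepi2 : Epi (BiproductToPushoutIsCokernel.biproductToPushout (kernel.ι (S.g ≫ π)) ρ) :=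
    epi_of_isColimit_cofork
      (BiproductToPushoutIsCokernel.isColimitBiproductToPushout (kernel.ι (S.g ≫ π)) ρ)
  refine ShortComplex.ShortExact.mk' ?_ hmono hepi
  rw [ShortComplex.exact_iff_exact_up_to_refinements]
  intro Z z hz
  change z ≫ gB π ρ = 0 at hz
  obtain ⟨Z₁, p₁, hp₁, y, hy⟩ := surjective_up_to_refinements_of_epi
    (BiproductToPushoutIsCokernel.biproductToPushout (kernel.ι (S.g ≫ π)) ρ) z
  -- y = (a, x)
  have hy' : p₁ ≫ z = (y ≫ biprod.fst) ≫ pushout.inl _ _ + (y ≫ biprod.snd) ≫ pushout.inr _ _ := by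
    rw [hy]
    conv_lhs => rw [← Category.comp_id y, ← biprod.total]
    simp only [Preadditive.comp_add, Preadditive.add_comp, Category.assoc, biprod.inl_desc,
      biprod.inr_desc]
  have ha0 : (y ≫ biprod.fst) ≫ S.g ≫ π = 0 := by
    have h1 := congrArg (· ≫ gB π ρ) hy'
    simp only [Category.assoc, Preadditive.add_comp, inl_gB, inr_gB, comp_zero, add_zero, hz] at h1
    rw [Category.assoc]
    exact h1.symm
  refine ⟨Z₁, p₁, hp₁, kernel.lift _ (y ≫ biprod.fst) ha0 ≫ ρ + y ≫ biprod.snd, ?_⟩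
  change p₁ ≫ z = (kernel.lift _ (y ≫ biprod.fst) ha0 ≫ ρ + y ≫ biprod.snd) ≫ pushout.inr _ _
  rw [hy', Preadditive.add_comp]
  congr 1
  rw [Category.assoc (kernel.lift _ _ _), ← pushout.condition, kernel.lift_ι_assoc]

end PO

section Backward

variable [HasExt.{w} C]

theorem backward {S : ShortComplex C} (hS : S.ShortExact) {Q P : C} (φ : S.X₁ ⟶ Q) (π : S.X₃ ⟶ P)
    [Epi π]
    (h0 : (Ext.mk₀ (kernel.ι π)).comp (hS.extClass.comp (Ext.mk₀ φ) (add_zero 1)) (zero_add 1) = 0) :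
    ∃ (B : C) (f : Q ⟶ B) (g : B ⟶ P) (h : S.X₂ ⟶ B) (w : f ≫ g = 0),
        (ShortComplex.mk f g w).ShortExact ∧ S.f ≫ h = φ ≫ f ∧ h ≫ g = S.g ≫ π := by
  have hSK := SK_shortExact hS π
  have hnat := ShortComplex.ShortExact.extClass_naturality hSK hS (SKhom π)
  change hSK.extClass.comp (Ext.mk₀ (𝟙 _)) (add_zero 1) =
    (Ext.mk₀ (kernel.ι π)).comp hS.extClass (zero_add 1) at hnat
  rw [Ext.comp_mk₀_id] at hnat
  have h1 : hSK.extClass.comp (Ext.mk₀ φ) (add_zero 1) = 0 := by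
    rw [hnat, Ext.comp_assoc_of_third_deg_zero]
    exact h0
  obtain ⟨x₂, hx₂⟩ := Ext.contravariant_sequence_exact₁ hSK Q (Ext.mk₀ φ) (add_zero 1) h1
  obtain ⟨ρ, rfl⟩ := (Ext.mk₀_bijective _ _).2 x₂
  change (Ext.mk₀ (fK π)).comp (Ext.mk₀ ρ) (zero_add 0) = Ext.mk₀ φ at hx₂
  rw [Ext.mk₀_comp_mk₀] at hx₂
  have hρ : fK π ≫ ρ = φ := (Ext.mk₀_bijective _ _).1 hx₂
  refine ⟨pushout (kernel.ι (S.g ≫ π)) ρ, pushout.inr _ _, gB π ρ, pushout.inl _ _, inr_gB π ρ,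
    SB_shortExact hS π ρ, ?_, inl_gB π ρ⟩
  rw [← hρ, Category.assoc, ← pushout.condition, fK_ι_assoc]

end Backward

end Groth.Agent.H6.ExtCrit
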