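import Mathlib
import Groth.Agent.Lib.Helper6.Ext1
import Groth.Agent.Lib.Helper5.SM.SM1
import Groth.Agent.Lib.Helper9.Misc.RAM1

set_option autoImplicit false
universe u
open CategoryTheory CategoryTheory.Limits AlgebraicGeometry

namespace Groth.Agent.H6.ExtDed

lemma le_one_of_not_two_le (d : WithBot ℕ∞) (h : ¬ (2 : WithBot ℕ∞) ≤ d) : d ≤ 1 := by
  rw [not_le] at h
  induction d using WithBot.recBotCoe with
  | bot => exact bot_le
  | coe n =>
    have h3 : ((n : ℕ∞) : WithBot ℕ∞) < ((2 : ℕ∞) : WithBot ℕ∞) := h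
    have h' : n < 2 := WithBot.coe_lt_coe.mp h3
    have h2 : n ≤ 1 := by
      have : n < 1 + 1 := by rwa [one_add_one_eq_two]
      exact (ENat.lt_add_one_iff (by simp)).mp this
    have h4 : ((n : ℕ∞) : WithBot ℕ∞) ≤ ((1 : ℕ∞) : WithBot ℕ∞) := WithBot.coe_le_coe.mpr h2
    exact h4

/-- **S11107**: a rational map from a smooth scheme over a Dedekind domain to a proper one is
defined off a closed subset of codimension at least two. -/
theorem s11107 {R : Type u} [CommRing R] [IsDedekindDomain R]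
    {X Y : Scheme.{u}} (pX : X ⟶ Spec (CommRingCat.of R)) (pY : Y ⟶ Spec (CommRingCat.of R))
    [Smooth pX] [IsProper pY] (U : X.Opens) (hU : Dense (U : Set X))
    (f : (U : Scheme.{u}) ⟶ Y) (hf : f ≫ pY = U.ι ≫ pX) :
    ∃ (V : X.Opens) (hUV : U ≤ V) (g : (V : Scheme.{u}) ⟶ Y),
      g ≫ pY = V.ι ≫ pX ∧ X.homOfLE hUV ≫ g = f ∧
      ∀ x : X, x ∉ V → (2 : WithBot ℕ∞) ≤ ringKrullDim (X.presheaf.stalk x) := by
  haveI : IsLocallyNoetherian X := LocallyOfFiniteType.isLocallyNoetherian pX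
  have hreg : ∀ x : X, IsRegularLocalRing (X.presheaf.stalk x) := by
    intro x
    have h := (H5.SM.stalk_package pX x ⟨⊤, trivial, inferInstance⟩).2
    exact h.mpr (Groth.Agent.H9.RAM.isRegularLocalRing_stalk_Spec R _)
  haveI : IsReduced X := by
    haveI : ∀ x : X, _root_.IsReduced (X.presheaf.stalk x) := fun x => by
      haveI := hreg x
      haveI := Groth.Agent.H7.Reg.isDomain (X.presheaf.stalk x)
      infer_instance
    exact isReduced_of_isReduced_stalk X
  obtain ⟨V, hUV, g, hg, hgf, hV⟩ :=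
    Groth.Agent.H6.Ext.extend_codim_one pY pX (fun y _ => hreg y) U hU f hf
  refine ⟨V, hUV, g, hg, hgf, fun x hx => ?_⟩
  by_contra hlt
  exact hx (hV x (le_one_of_not_two_le _ hlt))

end Groth.Agent.H6.ExtDed
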