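import Mathlib

set_option autoImplicit false
universe w v u t

open CategoryTheory CategoryTheory.Limits CategoryTheory.Abelian

namespace Groth.Agent.H6.ExtNode

section abstract
variable {k : Type t} [Field k] {C : Type u} [Category.{v} C] [Abelian C] [Linear k C]
  [HasExt.{w} C]

theorem finrank_ext_one {S : ShortComplex C} (hS : S.ShortExact) [Projective S.X₂] (Y : C)
    (g₀ : S.X₁ ⟶ Y)
    (ha : ∀ g : S.X₁ ⟶ Y, ∃ (c : k) (φ : S.X₂ ⟶ Y), g = c • g₀ + S.f ≫ φ)
    (hb : ∀ φ : S.X₂ ⟶ Y, g₀ ≠ S.f ≫ φ) :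
    Module.finrank k (Ext.{w} S.X₃ Y 1) = 1 := by
  set v : Ext.{w} S.X₃ Y 1 := hS.extClass.comp (Ext.mk₀ g₀) (add_zero 1) with hv
  have hv0 : v ≠ 0 := by
    intro h0
    obtain ⟨x₂, hx₂⟩ := Ext.contravariant_sequence_exact₁ hS Y (Ext.mk₀ g₀) (n₁ := 1) rfl h0
    obtain ⟨φ, rfl⟩ := (Ext.mk₀_bijective _ _).2 x₂
    rw [Ext.mk₀_comp_mk₀] at hx₂
    exact hb φ ((Ext.mk₀_bijective _ _).1 hx₂).symm
  rw [finrank_eq_one_iff_of_nonzero' v hv0]
  intro w
  have hw0 : (Ext.mk₀ S.g).comp w (zero_add 1) = 0 := Ext.eq_zero_of_projective _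
  obtain ⟨x₁, hx₁⟩ := Ext.contravariant_sequence_exact₃ hS Y w hw0 (n₀ := 0) rfl
  obtain ⟨g, rfl⟩ := (Ext.mk₀_bijective _ _).2 x₁
  obtain ⟨c, φ, hg⟩ := ha g
  refine ⟨c, ?_⟩
  rw [← hx₁, hg, Ext.mk₀_add, Ext.comp_add, Ext.mk₀_smul, Ext.comp_smul, ← Ext.mk₀_comp_mk₀,
    ← Ext.comp_assoc_of_third_deg_zero, hS.extClass_comp, Ext.zero_comp, add_zero]


end abstract

section concrete
variable (k : Type u) [Field k]

abbrev R := MvPowerSeries (Fin 2) k
noncomputable abbrev I : Ideal (R k) := Ideal.span {(MvPowerSeries.X (0 : Fin 2) : R k) * MvPowerSeries.X (1 : Fin 2)}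
abbrev A := R k ⧸ I k
noncomputable abbrev xb : A k := Ideal.Quotient.mk (I k) (MvPowerSeries.X (0 : Fin 2))
noncomputable abbrev yb : A k := Ideal.Quotient.mk (I k) (MvPowerSeries.X (1 : Fin 2))

theorem xb_mul_yb : xb k * yb k = 0 := by
  rw [← map_mul, Ideal.Quotient.eq_zero_iff_mem]
  exact Ideal.mem_span_singleton_self _

/-- the augmentation A → k -/
noncomputable def eps : A k →+* k :=
  Ideal.Quotient.lift (I k) (MvPowerSeries.constantCoeff (σ := Fin 2) (R := k)) (by
    intro a ha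
    rw [Ideal.mem_span_singleton'] at ha
    obtain ⟨b, rfl⟩ := ha
    simp)

@[simp] theorem eps_mk (r : R k) : eps k (Ideal.Quotient.mk (I k) r) = MvPowerSeries.constantCoeff r := rfl

theorem decomp (r : R k) : ∃ s t : R k,
    r = MvPowerSeries.C (MvPowerSeries.constantCoeff r) + MvPowerSeries.X 0 * s + MvPowerSeries.X 1 * t := by
  classical
  set r₀ := r - MvPowerSeries.C (MvPowerSeries.constantCoeff r) with hr₀
  let r' : R k := fun m => if m 0 = 0 then MvPowerSeries.coeff m r₀ else 0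
  have h1 : (MvPowerSeries.X 1 : R k) ∣ r' := by
    rw [MvPowerSeries.X_dvd_iff]
    intro m hm
    change (if m 0 = 0 then MvPowerSeries.coeff m r₀ else 0) = 0
    split_ifs with h0
    · have : m = 0 := by
        ext i; fin_cases i
        · exact h0
        · exact hm
      subst this
      simp [hr₀]
    · rfl
  have h0 : (MvPowerSeries.X 0 : R k) ∣ r₀ - r' := by
    rw [MvPowerSeries.X_dvd_iff]
    intro m hm
    rw [map_sub]
    change MvPowerSeries.coeff m r₀ - (if m 0 = 0 then MvPowerSeries.coeff m r₀ else 0) = 0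
    rw [if_pos hm, sub_self]
  obtain ⟨s, hs⟩ := h0
  obtain ⟨t, ht⟩ := h1
  refine ⟨s, t, ?_⟩
  rw [← hs, ← ht, hr₀]
  ring


/-- multiplication by ȳ : A/(x̄) → A -/
noncomputable def fmap : (A k ⧸ Ideal.span {xb k}) →ₗ[A k] A k :=
  Submodule.liftQ (Ideal.span {xb k}) (LinearMap.mulLeft (A k) (yb k)) (by
    intro a ha
    rw [Ideal.mem_span_singleton'] at ha
    obtain ⟨b, rfl⟩ := ha
    rw [LinearMap.mem_ker, LinearMap.mulLeft_apply, mul_comm b, ← mul_assoc, mul_comm (yb k),
      xb_mul_yb, zero_mul])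

@[simp] theorem fmap_mk (a : A k) : fmap k (Submodule.Quotient.mk a) = yb k * a := rfl

theorem fmap_injective : Function.Injective (fmap k) := by
  rw [← LinearMap.ker_eq_bot, LinearMap.ker_eq_bot']
  intro m hm
  obtain ⟨a, rfl⟩ := Submodule.Quotient.mk_surjective _ m
  obtain ⟨r, rfl⟩ := Ideal.Quotient.mk_surjective a
  rw [fmap_mk, ← map_mul, Ideal.Quotient.eq_zero_iff_mem, Ideal.mem_span_singleton'] at hm
  obtain ⟨s, hs⟩ := hm
  have : r = s * MvPowerSeries.X 0 := by
    have hX : (MvPowerSeries.X 1 : R k) ≠ 0 := by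
      intro h0
      have := MvPowerSeries.coeff_index_single_self_X (R := k) (1 : Fin 2)
      rw [h0, map_zero] at this
      exact zero_ne_one this
    apply mul_left_cancel₀ hX
    rw [← hs]; ring
  rw [Submodule.Quotient.mk_eq_zero, this, map_mul]
  exact Ideal.mul_mem_left _ _ (Ideal.mem_span_singleton_self _)

noncomputable def gmap : A k →ₗ[A k] (A k ⧸ Ideal.span {yb k}) := Submodule.mkQ _

theorem fg_exact : Function.Exact (fmap k) (gmap k) := by
  intro b
  rw [gmap, Submodule.mkQ_apply, Submodule.Quotient.mk_eq_zero, Ideal.mem_span_singleton']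
  constructor
  · rintro ⟨a, rfl⟩
    exact ⟨Submodule.Quotient.mk a, by rw [fmap_mk, mul_comm]⟩
  · rintro ⟨m, rfl⟩
    obtain ⟨a, rfl⟩ := Submodule.Quotient.mk_surjective _ m
    exact ⟨a, by rw [fmap_mk, mul_comm]⟩

noncomputable def S : ShortComplex (ModuleCat.{u} (A k)) :=
  ModuleCat.shortComplexOfCompEqZero (fmap k) (gmap k) (fg_exact k).linearMap_comp_eq_zero

theorem S_shortExact : (S k).ShortExact :=
  ModuleCat.shortComplex_shortExact _ (fg_exact k) (fmap_injective k)
    (Submodule.mkQ_surjective _)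


instance : Projective (S k).X₂ := by
  change Projective (ModuleCat.of (A k) (A k))
  infer_instance

theorem main [HasExt.{w} (ModuleCat.{u} (A k))] :
    Module.finrank k (Abelian.Ext.{w} (ModuleCat.of (A k) (A k ⧸ Ideal.span {yb k}))
    (ModuleCat.of (A k) (A k ⧸ Ideal.span {xb k})) 1) = 1 := by
  refine finrank_ext_one (k := k) (S_shortExact k) (ModuleCat.of (A k) (A k ⧸ Ideal.span {xb k}))
    (𝟙 _) ?_ ?_
  · intro g
    obtain ⟨a, ha⟩ := Submodule.Quotient.mk_surjective _ (g.hom (Submodule.Quotient.mk 1))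
    obtain ⟨r, rfl⟩ := Ideal.Quotient.mk_surjective a
    obtain ⟨s, t, hst⟩ := decomp k r
    generalize MvPowerSeries.constantCoeff r = c at hst
    refine ⟨c, ModuleCat.ofHom
      (LinearMap.toSpanSingleton (A k) (A k ⧸ Ideal.span {xb k})
        (Submodule.Quotient.mk (Ideal.Quotient.mk (I k) t))), ?_⟩
    apply ModuleCat.hom_ext
    apply Submodule.linearMap_qext
    apply LinearMap.ext_ring
    change g.hom (Submodule.Quotient.mk 1) = _
    rw [← ha]
    change _ = algebraMap k (A k) c •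
        (Submodule.Quotient.mk (1 : A k) : A k ⧸ Ideal.span {xb k}) +
      (yb k * 1) • (Submodule.Quotient.mk (Ideal.Quotient.mk (I k) t) : A k ⧸ Ideal.span {xb k})
    rw [← Submodule.Quotient.mk_smul, ← Submodule.Quotient.mk_smul, ← Submodule.Quotient.mk_add,
      eq_comm, ← sub_eq_zero, ← Submodule.Quotient.mk_sub, Submodule.Quotient.mk_eq_zero]
    have : (algebraMap k (A k) c • (1 : A k) +
        (yb k * 1) • (Ideal.Quotient.mk (I k)) t) - (Ideal.Quotient.mk (I k)) r =
        - (Ideal.Quotient.mk (I k) s) * xb k := by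
      conv_lhs => rw [hst]
      simp only [smul_eq_mul, mul_one, map_add, map_mul]
      have : algebraMap k (A k) c =
          Ideal.Quotient.mk (I k) (MvPowerSeries.C c) := rfl
      rw [this]
      ring
    rw [this]
    exact Ideal.mul_mem_left _ _ (Ideal.mem_span_singleton_self _)
  · intro φ h
    have h1 := congrArg (fun ψ => ψ.hom (Submodule.Quotient.mk (1 : A k))) h
    obtain ⟨a, ha⟩ := Submodule.Quotient.mk_surjective _ (φ.hom (1 : A k))
    change (Submodule.Quotient.mk (1 : A k) : A k ⧸ Ideal.span {xb k}) =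
      φ.hom (yb k • (1 : A k)) at h1
    have h2 : φ.hom (yb k • (1 : A k)) = yb k • φ.hom (1 : A k) := map_smul _ _ _
    rw [h2, ← ha, ← Submodule.Quotient.mk_smul, ← sub_eq_zero, ← Submodule.Quotient.mk_sub,
      Submodule.Quotient.mk_eq_zero, Ideal.mem_span_singleton'] at h1
    obtain ⟨b, hb⟩ := h1
    have h3 := congrArg (eps k) hb
    simp [xb, yb] at h3

end concrete

end Groth.Agent.H6.ExtNode
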