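import Mathlib
import Groth.Agent.Lib.Helper6.LCLib
import Groth.Agent.Lib.Helper6.LCExtVanish

/-! `Ext^n(-, G)` is represented by `H^n_J(G)` on finite modules supported in `V(J)` when
`Ext^{n-1}` vanishes there. -/

set_option autoImplicit false
universe u
open CategoryTheory CategoryTheory.Limits Opposite CategoryTheory.Abelian

namespace Groth.Agent.H6

namespace ExtRep

variable {A : Type u} [CommRing A]

/-- pull back an Ext class along a morphism. -/
noncomputable abbrev pull {G : ModuleCat.{u} A} {n : ℕ} {X Y : ModuleCat.{u} A} (f : X ⟶ Y)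
    (x : Ext Y G n) : Ext X G n :=
  (Ext.mk₀ f).comp x (zero_add n)

section pull
variable {G : ModuleCat.{u} A} {n : ℕ} {X Y Z : ModuleCat.{u} A}

lemma pull_comp (f : X ⟶ Y) (g : Y ⟶ Z) (x : Ext Z G n) : pull (f ≫ g) x = pull f (pull g x) := by
  unfold pull
  rw [Ext.mk₀_comp_mk₀_assoc]

lemma pull_add_left (f g : X ⟶ Y) (x : Ext Y G n) : pull (f + g) x = pull f x + pull g x := by
  unfold pull
  rw [Ext.mk₀_add, Ext.add_comp]

lemma pull_smul_left (a : A) (f : X ⟶ Y) (x : Ext Y G n) : pull (a • f) x = a • pull f x := by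
  unfold pull
  rw [Ext.mk₀_smul, Ext.smul_comp]

lemma pull_zero_left (x : Ext Y G n) : pull (0 : X ⟶ Y) x = 0 := by
  unfold pull
  rw [Ext.mk₀_zero, Ext.zero_comp]

lemma pull_id (x : Ext Y G n) : pull (𝟙 Y) x = x := Ext.mk₀_id_comp x

lemma pull_add (f : X ⟶ Y) (x y : Ext Y G n) : pull f (x + y) = pull f x + pull f y :=
  Ext.comp_add _ _ _ _

lemma pull_smul (f : X ⟶ Y) (a : A) (x : Ext Y G n) : pull f (a • x) = a • pull f x :=
  Ext.comp_smul _ _ _ _

lemma pull_zero (f : X ⟶ Y) : pull f (0 : Ext Y G n) = 0 := Ext.comp_zero _ _ _ _ _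

lemma pull_sum_left {ι : Type*} (s : Finset ι) (f : ι → (X ⟶ Y)) (x : Ext Y G n) :
    pull (∑ i ∈ s, f i) x = ∑ i ∈ s, pull (f i) x := by
  classical
  induction s using Finset.induction_on with
  | empty => simp [pull_zero_left]
  | insert a s ha ih => rw [Finset.sum_insert ha, Finset.sum_insert ha, pull_add_left, ih]

lemma pull_sum {ι : Type*} (s : Finset ι) (f : X ⟶ Y) (x : ι → Ext Y G n) :
    pull f (∑ i ∈ s, x i) = ∑ i ∈ s, pull f (x i) := by
  classical
  induction s using Finset.induction_on with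
  | empty => simp [pull_zero]
  | insert a s ha ih => rw [Finset.sum_insert ha, Finset.sum_insert ha, pull_add, ih]

end pull


variable [IsNoetherianRing A] (J : Ideal A) (G : ModuleCat.{u} A) (n : ℕ)

/-- `X` is killed by `J^k`. -/
def Killed (k : ℕ) (X : Type u) [AddCommGroup X] [Module A X] : Prop :=
  ∀ a ∈ J ^ k, ∀ x : X, a • x = 0

/-- the vanishing hypothesis. -/
def Van : Prop :=
  ∀ (F' : Type u) [AddCommGroup F'] [Module A F'], Module.Finite A F' → (∃ k, Killed J k F') →
    ∀ i : ℕ, i + 1 = n → Subsingleton (Ext (ModuleCat.of A F') G i)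

variable {J G n}

/-- (I1) pulling back along a surjection is injective. -/
theorem pull_injective_of_surjective (hV : Van J G n) {X Y : Type u} [AddCommGroup X] [Module A X]
    [AddCommGroup Y] [Module A Y] [Module.Finite A X] {k : ℕ} (hX : Killed J k X)
    (p : X →ₗ[A] Y) (hp : Function.Surjective p) (x : Ext (ModuleCat.of A Y) G n)
    (hx : pull (ModuleCat.ofHom p) x = 0) : x = 0 := by
  cases n with
  | zero =>
    obtain ⟨g, rfl⟩ := (Ext.mk₀_bijective _ _).2 x
    unfold pull at hx
    rw [Ext.mk₀_comp_mk₀] at hx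
    have h1 : ModuleCat.ofHom p ≫ g = 0 := (Ext.mk₀_bijective _ _).1 (hx.trans (Ext.mk₀_zero (X := _) (Y := _)).symm)
    haveI : Epi (ModuleCat.ofHom p) := (ModuleCat.epi_iff_surjective _).2 hp
    have h2 : g = 0 := by
      rw [← cancel_epi (ModuleCat.ofHom p), h1, comp_zero]
    rw [h2, Ext.mk₀_zero]
  | succ i =>
    have hS : (ShortComplex.mk (ModuleCat.ofHom (LinearMap.ker p).subtype) (ModuleCat.ofHom p)
        (by ext z; exact z.2)).ShortExact := by
      refine ModuleCat.shortComplex_shortExact _ ?_ (Submodule.injective_subtype _) hp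
      intro r
      change p r = 0 ↔ r ∈ Set.range (LinearMap.ker p).subtype
      constructor
      · intro h; exact ⟨⟨r, h⟩, rfl⟩
      · rintro ⟨z, rfl⟩; exact z.2
    obtain ⟨x₁, hx₁⟩ := Ext.contravariant_sequence_exact₃ hS G x hx (n₀ := i) (by omega)
    have hsub : Subsingleton (Ext (ModuleCat.of A (LinearMap.ker p)) G i) :=
      hV (LinearMap.ker p) inferInstance ⟨k, fun a ha z => Subtype.ext (hX a ha z.1)⟩ i rfl
    rw [← hx₁, Subsingleton.elim x₁ 0, Ext.comp_zero]

/-- the map `A/J^k → X`, `1 ↦ x`, for `X` killed by `J^k`. -/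
noncomputable def phi {k : ℕ} {X : Type u} [AddCommGroup X] [Module A X] (hX : Killed J k X)
    (x : X) : (A ⧸ J ^ k) →ₗ[A] X :=
  Submodule.liftQ (J ^ k) (LinearMap.toSpanSingleton A X x) (fun a ha => by
    rw [LinearMap.mem_ker, LinearMap.toSpanSingleton_apply]
    exact hX a ha x)

lemma phi_mk {k : ℕ} {X : Type u} [AddCommGroup X] [Module A X] (hX : Killed J k X) (x : X)
    (a : A) : phi hX x (Submodule.Quotient.mk a) = a • x := rfl

lemma phi_one {k : ℕ} {X : Type u} [AddCommGroup X] [Module A X] (hX : Killed J k X) (x : X) :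
    phi hX x (1 : A ⧸ J ^ k) = x := by
  rw [show (1 : A ⧸ J ^ k) = Submodule.Quotient.mk 1 from rfl, phi_mk, one_smul]

lemma phi_ext {k : ℕ} {X : Type u} [AddCommGroup X] [Module A X]
    {f g : (A ⧸ J ^ k) →ₗ[A] X} (h : f 1 = g 1) :
    f = g := by
  apply LinearMap.ext
  intro q
  obtain ⟨a, rfl⟩ := Submodule.Quotient.mk_surjective _ q
  have : (Submodule.Quotient.mk a : A ⧸ J ^ k) = a • (1 : A ⧸ J ^ k) := by
    rw [show (1 : A ⧸ J ^ k) = Submodule.Quotient.mk 1 from rfl,
      ← Submodule.Quotient.mk_smul, smul_eq_mul, mul_one]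
  rw [this, map_smul, map_smul, h]

lemma phi_add {k : ℕ} {X : Type u} [AddCommGroup X] [Module A X] (hX : Killed J k X) (x y : X) :
    phi hX (x + y) = phi hX x + phi hX y := by
  apply phi_ext
  simp [phi_one]

lemma phi_smul {k : ℕ} {X : Type u} [AddCommGroup X] [Module A X] (hX : Killed J k X) (a : A)
    (x : X) : phi hX (a • x) = a • phi hX x := by
  apply phi_ext
  simp [phi_one]

lemma comp_phi {k : ℕ} {X Y : Type u} [AddCommGroup X] [Module A X] [AddCommGroup Y] [Module A Y]
    (hX : Killed J k X) (hY : Killed J k Y) (f : X →ₗ[A] Y) (x : X) :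
    f ∘ₗ phi hX x = phi hY (f x) := by
  apply phi_ext
  simp [phi_one]

lemma killed_quot (k : ℕ) : Killed J k (A ⧸ J ^ k) := by
  intro a ha q
  obtain ⟨b, rfl⟩ := Submodule.Quotient.mk_surjective _ q
  rw [← Submodule.Quotient.mk_smul, Submodule.Quotient.mk_eq_zero, smul_eq_mul]
  exact Ideal.mul_mem_right _ _ ha

lemma killed_pi (k : ℕ) (b : ℕ) : Killed J k (Fin b → A ⧸ J ^ k) := by
  intro a ha v
  funext i
  exact killed_quot k a ha (v i)

lemma killed_mono {k m : ℕ} (h : k ≤ m) {X : Type u} [AddCommGroup X] [Module A X]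
    (hX : Killed J k X) : Killed J m X :=
  fun a ha x => hX a (Ideal.pow_le_pow_right h ha) x

/-- (I4) `lcι` is injective under the vanishing hypothesis. -/
theorem lcι_injective (hV : Van J G n) (k : ℕ) (x : Ext (LC.Q J k) G n)
    (hx : LC.lcι J n G k x = 0) : x = 0 := by
  rw [LC.lcι_eq_zero_iff] at hx
  obtain ⟨m, hkm, h⟩ := hx
  refine pull_injective_of_surjective hV (killed_quot m)
    (Submodule.mapQ _ _ LinearMap.id (Ideal.pow_le_pow_right hkm)) ?_ x h
  intro q
  obtain ⟨a, rfl⟩ := Submodule.Quotient.mk_surjective _ q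
  exact ⟨Submodule.Quotient.mk a, rfl⟩


/-- the free object `(A/J^k)^b`. -/
abbrev Bb (J : Ideal A) (k b : ℕ) : ModuleCat.{u} A := ModuleCat.of A (Fin b → A ⧸ J ^ k)

/-- the `j`-th inclusion. -/
noncomputable abbrev inj (J : Ideal A) (k b : ℕ) (j : Fin b) : LC.Q J k ⟶ Bb J k b :=
  ModuleCat.ofHom (LinearMap.single A (fun _ : Fin b => A ⧸ J ^ k) j)

/-- the `j`-th projection. -/
noncomputable abbrev prj (J : Ideal A) (k b : ℕ) (j : Fin b) : Bb J k b ⟶ LC.Q J k :=
  ModuleCat.ofHom (LinearMap.proj (R := A) (φ := fun _ : Fin b => A ⧸ J ^ k) j)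

omit [IsNoetherianRing A] in
lemma id_eq_sum (k b : ℕ) : 𝟙 (Bb J k b) = ∑ j : Fin b, prj J k b j ≫ inj J k b j := by
  apply ModuleCat.hom_ext
  rw [ModuleCat.hom_sum]
  apply LinearMap.ext
  intro v
  rw [LinearMap.sum_apply]
  change v = ∑ j, Pi.single j (v j)
  exact (Finset.univ_sum_single v).symm

omit [IsNoetherianRing A] in
/-- (I3) joint injectivity of the restrictions to the factors. -/
theorem eq_zero_of_pull_inj (k b : ℕ) (x : Ext (Bb J k b) G n)
    (hx : ∀ j, pull (inj J k b j) x = 0) : x = 0 := by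
  rw [← pull_id x, id_eq_sum, pull_sum_left]
  refine Finset.sum_eq_zero fun j _ => ?_
  rw [pull_comp, hx j, pull_zero]

lemma inj_eq_phi (k b : ℕ) (j : Fin b) :
    (LinearMap.single A (fun _ : Fin b => A ⧸ J ^ k) j) = phi (killed_pi k b) (Pi.single j 1) := by
  apply phi_ext
  rw [phi_one]
  rfl

/-- finite modules killed by `J^k` are quotients of `(A/J^k)^b`. -/
theorem exists_surj {k : ℕ} {X : Type u} [AddCommGroup X] [Module A X] [Module.Finite A X]
    (hX : Killed J k X) : ∃ (b : ℕ) (p : (Fin b → A ⧸ J ^ k) →ₗ[A] X), Function.Surjective p := by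
  obtain ⟨b, g, hg⟩ := Module.Finite.exists_fin (R := A) (M := X)
  refine ⟨b, ∑ j, (phi hX (g j)) ∘ₗ LinearMap.proj j, ?_⟩
  rw [← LinearMap.range_eq_top, eq_top_iff, ← hg, Submodule.span_le]
  rintro _ ⟨j, rfl⟩
  refine ⟨Pi.single j 1, ?_⟩
  rw [LinearMap.sum_apply, Finset.sum_eq_single j]
  · simp [phi_one]
  · intro i _ hij
    simp [Pi.single_eq_of_ne hij]
  · intro h; exact absurd (Finset.mem_univ j) h

/-- (I5) `J^k`-torsion classes come from `Ext^n(A/J^k, G)`. -/
theorem exists_lcι_eq (hV : Van J G n) (k : ℕ) (h : (localCohomology J n).obj G)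
    (hh : ∀ a ∈ J ^ k, a • h = 0) : ∃ x : Ext (LC.Q J k) G n, LC.lcι J n G k x = h := by
  obtain ⟨m0, y0, hy0⟩ := LC.lcι_surj h
  -- move to a stage m ≥ k
  let m := max m0 k
  have hm0 : m0 ≤ m := le_max_left _ _
  have hkm : k ≤ m := le_max_right _ _
  let y : Ext (LC.Q J m) G n := pull (LC.proj J hm0) y0
  have hy : LC.lcι J n G m y = h := by rw [← hy0]; exact LC.lcι_proj hm0 y0
  -- `J^k y = 0`
  have hJy : ∀ a ∈ J ^ k, a • y = 0 := by
    intro a ha
    apply lcι_injective hV m
    rw [map_smul, hy, hh a ha]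
  -- the kernel of the projection
  let π : (A ⧸ J ^ m) →ₗ[A] (A ⧸ J ^ k) :=
    Submodule.mapQ _ _ LinearMap.id (Ideal.pow_le_pow_right hkm)
  have hπ : Function.Surjective π := by
    intro q
    obtain ⟨a, rfl⟩ := Submodule.Quotient.mk_surjective _ q
    exact ⟨Submodule.Quotient.mk a, rfl⟩
  have hS : (ShortComplex.mk (ModuleCat.ofHom (LinearMap.ker π).subtype) (ModuleCat.ofHom π)
      (by ext z; exact z.2)).ShortExact := by
    refine ModuleCat.shortComplex_shortExact _ ?_ (Submodule.injective_subtype _) hπ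
    intro r
    change π r = 0 ↔ r ∈ Set.range (LinearMap.ker π).subtype
    constructor
    · intro h; exact ⟨⟨r, h⟩, rfl⟩
    · rintro ⟨z, rfl⟩; exact z.2
  have hKk : Killed J m (LinearMap.ker π) := fun a ha z => Subtype.ext (killed_quot m a ha z.1)
  obtain ⟨b, s, hs⟩ := exists_surj hKk
  have hres : pull (ModuleCat.ofHom (LinearMap.ker π).subtype) y = 0 := by
    apply pull_injective_of_surjective hV (killed_pi m b) s hs
    apply eq_zero_of_pull_inj
    intro j
    rw [← pull_comp, ← pull_comp]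
    -- the composite `A/J^m → A/J^m` is multiplication by an element of `J^k`
    obtain ⟨c, hc⟩ := Submodule.Quotient.mk_surjective _ ((s (Pi.single j 1)).1)
    have hcJ : c ∈ J ^ k := by
      have h1 : π (s (Pi.single j 1)).1 = 0 := (s (Pi.single j 1)).2
      rw [← hc] at h1
      change (Submodule.Quotient.mk c : A ⧸ J ^ k) = 0 at h1
      rwa [Submodule.Quotient.mk_eq_zero] at h1
    have hcomp : (inj J m b j ≫ ModuleCat.ofHom s) ≫ ModuleCat.ofHom (LinearMap.ker π).subtype =
        c • 𝟙 (LC.Q J m) := by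
      apply ModuleCat.hom_ext
      apply phi_ext
      change ((s (Pi.single j 1)).1 : A ⧸ J ^ m) = c • (1 : A ⧸ J ^ m)
      rw [← hc, show (1 : A ⧸ J ^ m) = Submodule.Quotient.mk 1 from rfl,
        ← Submodule.Quotient.mk_smul, smul_eq_mul, mul_one]
    rw [hcomp, pull_smul_left, pull_id]
    exact hJy c hcJ
  obtain ⟨x, hx⟩ := Ext.contravariant_sequence_exact₂ hS G y hres
  refine ⟨x, ?_⟩
  rw [← hy, ← hx]
  exact (LC.lcι_proj hkm x).symm


omit [IsNoetherianRing A] in
lemma ofHom_smul' {X Y : Type u} [AddCommGroup X] [Module A X] [AddCommGroup Y] [Module A Y]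
    (a : A) (f : X →ₗ[A] Y) : ModuleCat.ofHom (a • f) = a • ModuleCat.ofHom f := rfl

/-- the comparison map `Ext^n(F, G) → Hom(F, H^n_J(G))`. -/
noncomputable def Phi (G : ModuleCat.{u} A) (n : ℕ) {k : ℕ} {F : Type u} [AddCommGroup F]
    [Module A F] (hF : Killed J k F) :
    Ext (ModuleCat.of A F) G n →ₗ[A] (F →ₗ[A] (localCohomology J n).obj G) where
  toFun x :=
    { toFun := fun f => LC.lcι J n G k (pull (ModuleCat.ofHom (phi hF f)) x)
      map_add' := fun f g => by
        rw [phi_add, ModuleCat.ofHom_add, pull_add_left, map_add]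
      map_smul' := fun a f => by
        rw [phi_smul, ofHom_smul', pull_smul_left, map_smul]
        rfl }
  map_add' x y := by
    apply LinearMap.ext
    intro f
    change LC.lcι J n G k (pull _ (x + y)) = LC.lcι J n G k (pull _ x) + LC.lcι J n G k (pull _ y)
    rw [pull_add, map_add]
  map_smul' a x := by
    apply LinearMap.ext
    intro f
    change LC.lcι J n G k (pull _ (a • x)) = a • LC.lcι J n G k (pull _ x)
    rw [pull_smul, map_smul]

lemma Phi_apply {k : ℕ} {F : Type u} [AddCommGroup F] [Module A F] (hF : Killed J k F)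
    (x : Ext (ModuleCat.of A F) G n) (f : F) :
    Phi G n hF x f = LC.lcι J n G k (pull (ModuleCat.ofHom (phi hF f)) x) := rfl

theorem Phi_injective (hV : Van J G n) {k : ℕ} {F : Type u} [AddCommGroup F] [Module A F]
    [Module.Finite A F] (hF : Killed J k F) : Function.Injective (Phi G n hF) := by
  rw [injective_iff_map_eq_zero]
  intro x hx
  have h1 : ∀ f : F, pull (ModuleCat.ofHom (phi hF f)) x = 0 := by
    intro f
    apply lcι_injective hV k
    rw [← Phi_apply, hx]
    rfl
  obtain ⟨b, p, hp⟩ := exists_surj hF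
  apply pull_injective_of_surjective hV (killed_pi k b) p hp
  apply eq_zero_of_pull_inj
  intro j
  rw [← pull_comp]
  have : inj J k b j ≫ ModuleCat.ofHom p = ModuleCat.ofHom (phi hF (p (Pi.single j 1))) := by
    rw [← ModuleCat.ofHom_comp, inj_eq_phi, comp_phi (killed_pi k b) hF]
  rw [this]
  exact h1 _

theorem Phi_surjective (hV : Van J G n) {k : ℕ} {F : Type u} [AddCommGroup F] [Module A F]
    [Module.Finite A F] (hF : Killed J k F) : Function.Surjective (Phi G n hF) := by
  intro u
  obtain ⟨b, p, hp⟩ := exists_surj hF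
  -- classes for the generators
  have hx : ∀ i : Fin b, ∃ x : Ext (LC.Q J k) G n, LC.lcι J n G k x = u (p (Pi.single i 1)) := by
    intro i
    apply exists_lcι_eq hV
    intro a ha
    rw [← map_smul, hF a ha, map_zero]
  choose xs hxs using hx
  let y : Ext (Bb J k b) G n := ∑ i, pull (prj J k b i) (xs i)
  -- the key formula
  have star : ∀ w : Fin b → A ⧸ J ^ k,
      LC.lcι J n G k (pull (ModuleCat.ofHom (phi (killed_pi k b) w)) y) = u (p w) := by
    intro w
    have hc : ∀ i, ∃ c : A, (Submodule.Quotient.mk c : A ⧸ J ^ k) = w i :=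
      fun i => Submodule.Quotient.mk_surjective _ (w i)
    choose c hc using hc
    have h1 : ∀ i, ModuleCat.ofHom (phi (killed_pi k b) w) ≫ prj J k b i =
        c i • 𝟙 (LC.Q J k) := by
      intro i
      apply ModuleCat.hom_ext
      apply phi_ext
      change (phi (killed_pi k b) w 1) i = c i • (1 : A ⧸ J ^ k)
      rw [phi_one, ← hc i, show (1 : A ⧸ J ^ k) = Submodule.Quotient.mk 1 from rfl,
        ← Submodule.Quotient.mk_smul, smul_eq_mul, mul_one]
    have h2 : w = ∑ i, c i • (Pi.single i 1 : Fin b → A ⧸ J ^ k) := by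
      funext i
      rw [Finset.sum_apply, Finset.sum_eq_single i]
      · rw [Pi.smul_apply, Pi.single_eq_same, ← hc i,
          show (1 : A ⧸ J ^ k) = Submodule.Quotient.mk 1 from rfl,
          ← Submodule.Quotient.mk_smul, smul_eq_mul, mul_one]
      · intro j _ hji
        rw [Pi.smul_apply, Pi.single_eq_of_ne (Ne.symm hji), smul_zero]
      · intro h; exact absurd (Finset.mem_univ i) h
    rw [pull_sum, map_sum]
    conv_rhs => rw [h2, map_sum, map_sum]
    refine Finset.sum_congr rfl fun i _ => ?_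
    rw [← pull_comp, h1 i, pull_smul_left, pull_id, map_smul, hxs i, map_smul, map_smul]
  -- `y` comes from `F`
  have hS : (ShortComplex.mk (ModuleCat.ofHom (LinearMap.ker p).subtype) (ModuleCat.ofHom p)
      (by ext z; exact z.2)).ShortExact := by
    refine ModuleCat.shortComplex_shortExact _ ?_ (Submodule.injective_subtype _) hp
    intro r
    change p r = 0 ↔ r ∈ Set.range (LinearMap.ker p).subtype
    constructor
    · intro h; exact ⟨⟨r, h⟩, rfl⟩
    · rintro ⟨z, rfl⟩; exact z.2
  have hKk : Killed J k (LinearMap.ker p) := fun a ha z => Subtype.ext (killed_pi k b a ha z.1)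
  obtain ⟨a', s, hs⟩ := exists_surj hKk
  have hres : pull (ModuleCat.ofHom (LinearMap.ker p).subtype) y = 0 := by
    apply pull_injective_of_surjective hV (killed_pi k a') s hs
    apply eq_zero_of_pull_inj
    intro j
    rw [← pull_comp, ← pull_comp]
    have hcomp : (inj J k a' j ≫ ModuleCat.ofHom s) ≫ ModuleCat.ofHom (LinearMap.ker p).subtype =
        ModuleCat.ofHom (phi (killed_pi k b) ((s (Pi.single j 1)).1)) := by
      apply ModuleCat.hom_ext
      apply phi_ext
      change ((s (Pi.single j 1)).1 : Fin b → A ⧸ J ^ k) = phi (killed_pi k b) _ 1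
      rw [phi_one]
    rw [hcomp]
    apply lcι_injective hV k
    rw [star, (s (Pi.single j 1)).2, map_zero]
  obtain ⟨x, hx⟩ := Ext.contravariant_sequence_exact₂ hS G y hres
  refine ⟨x, ?_⟩
  apply LinearMap.ext
  intro f
  obtain ⟨w, rfl⟩ := hp f
  rw [Phi_apply, ← star w]
  congr 1
  have : ModuleCat.ofHom (phi hF (p w)) = ModuleCat.ofHom (phi (killed_pi k b) w) ≫
      ModuleCat.ofHom p := by
    rw [← ModuleCat.ofHom_comp, comp_phi (killed_pi k b) hF]
  rw [this, pull_comp]
  congr 1

end ExtRep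

end Groth.Agent.H6
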