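import Groth.Agent.Lib.Helper6.FLE1
import Groth.Agent.Lib.Helper6.InjHullLocal

/-! Linear autoequivalences of the category of finite length modules over a Noetherian local ring
are isomorphic to the identity. -/

universe u
set_option linter.style.haveILetI false
set_option autoImplicit false
open CategoryTheory

namespace Groth.Agent.H6

namespace FLE

section Quot

variable {A : Type u} [CommRing A]

/-- the map `A ⧸ I → X` sending `1` to an element killed by `I` -/
def liftI (I : Ideal A) {X : Type*} [AddCommGroup X] [Module A X] (y : X)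
    (hy : ∀ a ∈ I, a • y = 0) : (A ⧸ I) →ₗ[A] X :=
  Submodule.liftQ I (LinearMap.toSpanSingleton A X y) (fun a ha => by
    rw [LinearMap.mem_ker, LinearMap.toSpanSingleton_apply]; exact hy a ha)

theorem liftI_mk (I : Ideal A) {X : Type*} [AddCommGroup X] [Module A X] (y : X)
    (hy : ∀ a ∈ I, a • y = 0) (a : A) : liftI I y hy (Ideal.Quotient.mk I a) = a • y := rfl

theorem smul_mk (I : Ideal A) (a b : A) :
    a • (Ideal.Quotient.mk I b : A ⧸ I) = Ideal.Quotient.mk I (a * b) := rfl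

theorem ext_quot (I : Ideal A) {X : Type*} [AddCommGroup X] [Module A X] (f g : (A ⧸ I) →ₗ[A] X)
    (h : f (Ideal.Quotient.mk I 1) = g (Ideal.Quotient.mk I 1)) : f = g := by
  apply LinearMap.ext
  intro z
  obtain ⟨a, rfl⟩ := Ideal.Quotient.mk_surjective z
  have h1 : Ideal.Quotient.mk I a = a • Ideal.Quotient.mk I 1 := by
    rw [smul_mk, mul_one]
  rw [h1, map_smul, map_smul, h]

theorem smul_quot_eq_zero (I : Ideal A) (a : A) (ha : a ∈ I) (x : A ⧸ I) : a • x = 0 := by
  obtain ⟨b, rfl⟩ := Ideal.Quotient.mk_surjective x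
  rw [smul_mk, Ideal.Quotient.eq_zero_iff_mem]
  exact Ideal.mul_mem_right _ _ ha

end Quot

section Local

variable (A : Type u) [CommRing A] [IsLocalRing A] [IsNoetherianRing A]

theorem powerTorsion_quot (n : ℕ) : LocCoh.IsPowerTorsion (IsLocalRing.maximalIdeal A)
    (A ⧸ (IsLocalRing.maximalIdeal A) ^ (n + 1)) := by
  intro x
  exact ⟨n + 1, fun a ha => smul_quot_eq_zero _ a ha x⟩

/-- `A ⧸ m^(n+1)` as a finite length module -/
noncomputable def Q (n : ℕ) : Dual.FinLen A :=
  ⟨ModuleCat.of A (A ⧸ (IsLocalRing.maximalIdeal A) ^ (n + 1)),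
    IH.isFiniteLength_of_powerTorsion _ (powerTorsion_quot A n)⟩

/-- the class of `1` in `A ⧸ m^(n+1)` -/
noncomputable def one (n : ℕ) : (Q A n).obj :=
  (Ideal.Quotient.mk ((IsLocalRing.maximalIdeal A) ^ (n + 1)) 1 :
    A ⧸ (IsLocalRing.maximalIdeal A) ^ (n + 1))

variable {A}

/-- killed by `m^(n+1)` -/
def Killed (n : ℕ) (X : Dual.FinLen A) : Prop :=
  ∀ a ∈ (IsLocalRing.maximalIdeal A) ^ (n + 1), ∀ x : X.obj, a • x = 0

/-- the map `A ⧸ m^(n+1) → X` with `1 ↦ y` -/
noncomputable def lift (n : ℕ) (X : Dual.FinLen A) (hX : Killed n X) (y : X.obj) :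
    (Q A n).obj →ₗ[A] X.obj :=
  (liftI ((IsLocalRing.maximalIdeal A) ^ (n + 1)) y (fun a ha => hX a ha y) :
    (A ⧸ (IsLocalRing.maximalIdeal A) ^ (n + 1)) →ₗ[A] X.obj)

theorem lift_mk (n : ℕ) (X : Dual.FinLen A) (hX : Killed n X) (y : X.obj) (r : A) :
    lift n X hX y (Ideal.Quotient.mk ((IsLocalRing.maximalIdeal A) ^ (n + 1)) r :
      A ⧸ (IsLocalRing.maximalIdeal A) ^ (n + 1)) = r • y :=
  liftI_mk _ y _ r

theorem lift_one (n : ℕ) (X : Dual.FinLen A) (hX : Killed n X) (y : X.obj) :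
    lift n X hX y (one A n) = y :=
  (lift_mk n X hX y 1).trans (one_smul A y)

theorem ext_Q (n : ℕ) (X : Dual.FinLen A) (f g : (Q A n).obj →ₗ[A] X.obj)
    (h : f (one A n) = g (one A n)) : f = g :=
  ext_quot ((IsLocalRing.maximalIdeal A) ^ (n + 1)) f g h

theorem lift_add (n : ℕ) (X : Dual.FinLen A) (hX : Killed n X) (y y' : X.obj) :
    lift n X hX (y + y') = lift n X hX y + lift n X hX y' := by
  apply ext_Q
  rw [LinearMap.add_apply, lift_one, lift_one, lift_one]

theorem lift_smul (n : ℕ) (X : Dual.FinLen A) (hX : Killed n X) (a : A) (y : X.obj) :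
    lift n X hX (a • y) = a • lift n X hX y := by
  apply ext_Q
  rw [LinearMap.smul_apply, lift_one, lift_one]

theorem comp_lift (n : ℕ) (X Y : Dual.FinLen A) (hX : Killed n X) (hY : Killed n Y)
    (f : X.obj →ₗ[A] Y.obj) (y : X.obj) :
    f.comp (lift n X hX y) = lift n Y hY (f y) := by
  apply ext_Q
  rw [LinearMap.comp_apply, lift_one, lift_one]

theorem lift_apply_one_eq (n : ℕ) (X : Dual.FinLen A) (hX : Killed n X)
    (ψ : (Q A n).obj →ₗ[A] X.obj) : lift n X hX (ψ (one A n)) = ψ := by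
  apply ext_Q
  rw [lift_one]

theorem killed_Q (n : ℕ) : Killed n (Q A n) :=
  fun a ha x => smul_quot_eq_zero ((IsLocalRing.maximalIdeal A) ^ (n + 1)) a ha x

theorem killed_mono {n k : ℕ} (h : n ≤ k) {X : Dual.FinLen A} (hX : Killed n X) : Killed k X :=
  fun a ha x => hX a (Ideal.pow_le_pow_right (Nat.succ_le_succ h) ha) x

theorem killed_succ {n : ℕ} {X : Dual.FinLen A} (hX : Killed n X) : Killed (n + 1) X :=
  killed_mono (Nat.le_succ n) hX

theorem exists_killed (X : Dual.FinLen A) : ∃ n, Killed n X := by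
  have hfl : IsFiniteLength A X.obj := X.property
  rw [isFiniteLength_iff_isNoetherian_isArtinian] at hfl
  obtain ⟨hN, hAr⟩ := hfl
  haveI := hN
  haveI := hAr
  obtain ⟨n, hn⟩ := IsArtinian.monotone_stabilizes
    (⟨fun n => OrderDual.toDual
        ((IsLocalRing.maximalIdeal A) ^ n • (⊤ : Submodule A X.obj)), fun a b hab => by
      change (IsLocalRing.maximalIdeal A) ^ b • (⊤ : Submodule A X.obj) ≤
        (IsLocalRing.maximalIdeal A) ^ a • (⊤ : Submodule A X.obj)
      exact Submodule.smul_mono_left (Ideal.pow_le_pow_right hab)⟩ :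
      ℕ →o (Submodule A X.obj)ᵒᵈ)
  have h1 : (IsLocalRing.maximalIdeal A) ^ n • (⊤ : Submodule A X.obj) =
      (IsLocalRing.maximalIdeal A) ^ (n + 1) • (⊤ : Submodule A X.obj) :=
    congrArg OrderDual.ofDual (hn (n + 1) (Nat.le_succ n))
  have h2 : (IsLocalRing.maximalIdeal A) ^ n • (⊤ : Submodule A X.obj) = ⊥ := by
    refine Submodule.eq_bot_of_le_smul_of_le_jacobson_bot (IsLocalRing.maximalIdeal A) _ ?_ ?_ ?_
    · exact IsNoetherian.noetherian _
    · conv_lhs => rw [h1]
      rw [pow_succ', mul_smul]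
    · exact (IsLocalRing.jacobson_eq_maximalIdeal ⊥ bot_ne_top).ge
  refine ⟨n, fun a ha x => ?_⟩
  have h3 : a • x ∈ (IsLocalRing.maximalIdeal A) ^ n • (⊤ : Submodule A X.obj) :=
    Submodule.smul_mem_smul (Ideal.pow_le_pow_right (Nat.le_succ n) ha) Submodule.mem_top
  rw [h2] at h3
  exact (Submodule.mem_bot A).mp h3

theorem finite_obj (X : Dual.FinLen A) : Module.Finite A X.obj := by
  have hfl : IsFiniteLength A X.obj := X.property
  rw [isFiniteLength_iff_isNoetherian_isArtinian] at hfl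
  haveI := hfl.1
  infer_instance

/-- the projection `A ⧸ m^(n+2) → A ⧸ m^(n+1)` -/
noncomputable def pi (n : ℕ) : (Q A (n + 1)).obj →ₗ[A] (Q A n).obj :=
  lift (n + 1) (Q A n) (killed_succ (killed_Q n)) (one A n)

theorem pi_one (n : ℕ) : pi n (one A (n + 1)) = one A n := lift_one _ _ _ _

theorem lift_succ (n : ℕ) (X : Dual.FinLen A) (hX : Killed n X) (y : X.obj) :
    lift (n + 1) X (killed_succ hX) y = (lift n X hX y).comp (pi n) := by
  apply ext_Q
  rw [LinearMap.comp_apply, pi_one, lift_one, lift_one]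

/-- the projection `A ⧸ m^(n+1) → A ⧸ m` -/
noncomputable def rho (n : ℕ) : (Q A n).obj →ₗ[A] (Q A 0).obj :=
  lift n (Q A 0) (killed_mono (Nat.zero_le n) (killed_Q 0)) (one A 0)

theorem rho_one (n : ℕ) : rho n (one A n) = one A 0 := lift_one _ _ _ _

theorem one_ne_zero' (n : ℕ) : one A n ≠ 0 := by
  intro h
  have h1 : (1 : A) ∈ (IsLocalRing.maximalIdeal A) ^ (n + 1) :=
    Ideal.Quotient.eq_zero_iff_mem.mp h
  exact (Ideal.ne_top_iff_one _).mp (IsLocalRing.maximalIdeal.isMaximal A).ne_top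
    (Ideal.pow_le_self (Nat.succ_ne_zero n) h1)

theorem pow_zero_add_one : (IsLocalRing.maximalIdeal A) ^ (0 + 1) = IsLocalRing.maximalIdeal A := by
  rw [zero_add, pow_one]

theorem rankOne_Q (n : ℕ) (φ ψ : (Q A n).obj →ₗ[A] (Q A 0).obj) (hψ : ψ ≠ 0) :
    ∃ a : A, φ = a • ψ := by
  obtain ⟨u, hu⟩ := Ideal.Quotient.mk_surjective (I := (IsLocalRing.maximalIdeal A) ^ (0 + 1))
    (ψ (one A n))
  obtain ⟨v, hv⟩ := Ideal.Quotient.mk_surjective (I := (IsLocalRing.maximalIdeal A) ^ (0 + 1))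
    (φ (one A n))
  have hu1 : u ∉ IsLocalRing.maximalIdeal A := by
    intro hmem
    apply hψ
    apply ext_Q
    rw [← hu, LinearMap.zero_apply]
    exact Ideal.Quotient.eq_zero_iff_mem.mpr (by rw [pow_zero_add_one]; exact hmem)
  have hunit : IsUnit u := IsLocalRing.notMem_maximalIdeal.mp hu1
  obtain ⟨w, hw⟩ := hunit.exists_left_inv
  refine ⟨v * w, ?_⟩
  apply ext_Q
  rw [LinearMap.smul_apply, ← hu, ← hv]
  have key : (Ideal.Quotient.mk ((IsLocalRing.maximalIdeal A) ^ (0 + 1)) v :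
      A ⧸ (IsLocalRing.maximalIdeal A) ^ (0 + 1)) =
      (v * w) • (Ideal.Quotient.mk ((IsLocalRing.maximalIdeal A) ^ (0 + 1)) u :
      A ⧸ (IsLocalRing.maximalIdeal A) ^ (0 + 1)) := by
    rw [smul_mk, mul_assoc, hw, mul_one]
  exact key

theorem exists_hom_ne_zero (W : Type u) [AddCommGroup W] [Module A W] [Module.Finite A W]
    [Nontrivial W] (K : Type u) [AddCommGroup K] [Module A K] (w : K) (hw : w ≠ 0)
    (hk : ∀ a ∈ IsLocalRing.maximalIdeal A, a • w = 0) : ∃ f : W →ₗ[A] K, f ≠ 0 := by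
  obtain ⟨N, hN⟩ : ∃ N : Submodule A W, IsCoatom N := by
    rcases IsCoatomic.eq_top_or_exists_le_coatom (⊥ : Submodule A W) with h | ⟨N, hN, -⟩
    · exact absurd h bot_ne_top
    · exact ⟨N, hN⟩
  have hs : IsSimpleModule A (W ⧸ N) := isSimpleModule_iff_isCoatom.mpr hN
  obtain ⟨I, hI, ⟨e⟩⟩ := isSimpleModule_iff_quot_maximal.mp hs
  have hIm : I = IsLocalRing.maximalIdeal A := IsLocalRing.eq_maximalIdeal hI
  have hk' : ∀ a ∈ I, a • w = 0 := fun a ha => hk a (hIm ▸ ha)
  refine ⟨(liftI I w hk').comp (e.toLinearMap.comp N.mkQ), ?_⟩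
  intro h0
  obtain ⟨z, hz⟩ := N.mkQ_surjective (e.symm (Ideal.Quotient.mk I 1))
  have h1 := LinearMap.congr_fun h0 z
  rw [LinearMap.comp_apply, LinearMap.comp_apply, hz, LinearEquiv.coe_coe, e.apply_symm_apply,
    liftI_mk, one_smul, LinearMap.zero_apply] at h1
  exact hw h1

variable (F : Dual.FinLen A ⥤ Dual.FinLen A) [F.Additive] [F.Linear A] [F.Full] [F.Faithful]

theorem killed_F {n : ℕ} {X : Dual.FinLen A} (hX : Killed n X) : Killed n (F.obj X) := by
  intro a ha x
  have h1 : a • (LinearMap.id : X.obj →ₗ[A] X.obj) = 0 := by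
    apply LinearMap.ext
    intro z
    rw [LinearMap.smul_apply, LinearMap.id_apply, LinearMap.zero_apply]
    exact hX a ha z
  have h2 : a • (LinearMap.id : (F.obj X).obj →ₗ[A] (F.obj X).obj) = 0 := by
    rw [← Fm_id F X, ← Fm_smul, h1, Fm_zero]
  have h3 := LinearMap.congr_fun h2 x
  rwa [LinearMap.smul_apply, LinearMap.id_apply, LinearMap.zero_apply] at h3

theorem exists_ne_zero_F (X : Dual.FinLen A) (x : X.obj) (hx : x ≠ 0) :
    ∃ w : (F.obj X).obj, w ≠ 0 := by
  by_contra h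
  push Not at h
  have h1 : Fm F (LinearMap.id : X.obj →ₗ[A] X.obj) = Fm F 0 := by
    apply LinearMap.ext
    intro z
    exact (h _).trans (h _).symm
  have h2 := (Fm_bijective F).1 h1
  have h3 := LinearMap.congr_fun h2 x
  rw [LinearMap.id_apply, LinearMap.zero_apply] at h3
  exact hx h3

theorem rankOne_P (n : ℕ) (φ ψ : (F.obj (Q A n)).obj →ₗ[A] (F.obj (Q A 0)).obj) (hψ : ψ ≠ 0) :
    ∃ a : A, φ = a • ψ := by
  obtain ⟨φ0, rfl⟩ := (Fm_bijective F).2 φ
  obtain ⟨ψ0, rfl⟩ := (Fm_bijective F).2 ψ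
  have h0 : ψ0 ≠ 0 := fun h => hψ (by rw [h, Fm_zero])
  obtain ⟨a, ha⟩ := rankOne_Q n φ0 ψ0 h0
  exact ⟨a, by rw [ha, Fm_smul]⟩

theorem killed_K (a : A) (ha : a ∈ IsLocalRing.maximalIdeal A) (z : (F.obj (Q A 0)).obj) :
    a • z = 0 :=
  killed_F F (killed_Q 0) a (by rw [pow_zero_add_one]; exact ha) z

theorem cyclic_P (n : ℕ) : ∃ x : (F.obj (Q A n)).obj, Submodule.span A {x} = ⊤ := by
  obtain ⟨w, hw⟩ := exists_ne_zero_F F (Q A 0) (one A 0) (one_ne_zero' 0)
  have hwk : ∀ a ∈ IsLocalRing.maximalIdeal A, a • w = 0 := fun a ha => killed_K F a ha w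
  obtain ⟨p, hp⟩ := exists_ne_zero_F F (Q A n) (one A n) (one_ne_zero' n)
  haveI : Module.Finite A (F.obj (Q A n)).obj := finite_obj _
  haveI : Nontrivial (F.obj (Q A n)).obj := ⟨⟨p, 0, hp⟩⟩
  obtain ⟨ψ0, hψ0⟩ := exists_hom_ne_zero (F.obj (Q A n)).obj (F.obj (Q A 0)).obj w hw hwk
  obtain ⟨x, hx⟩ : ∃ x, ψ0 x ≠ 0 := by
    by_contra h
    push Not at h
    exact hψ0 (LinearMap.ext h)
  refine ⟨x, ?_⟩
  by_contra hne
  haveI : Nontrivial ((F.obj (Q A n)).obj ⧸ Submodule.span A {x}) :=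
    Submodule.Quotient.nontrivial_iff.mpr hne
  obtain ⟨g, hg⟩ := exists_hom_ne_zero ((F.obj (Q A n)).obj ⧸ Submodule.span A {x})
    (F.obj (Q A 0)).obj w hw hwk
  obtain ⟨a, ha⟩ := rankOne_P F n (g.comp (Submodule.span A {x}).mkQ) ψ0 hψ0
  have hφx : (g.comp (Submodule.span A {x}).mkQ) x = 0 := by
    rw [LinearMap.comp_apply, Submodule.mkQ_apply,
      (Submodule.Quotient.mk_eq_zero _).mpr (Submodule.mem_span_singleton_self x), map_zero]
  by_cases hau : a ∈ IsLocalRing.maximalIdeal A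
  · apply hg
    have h0 : g.comp (Submodule.span A {x}).mkQ = 0 := by
      rw [ha]
      apply LinearMap.ext
      intro z
      rw [LinearMap.smul_apply, LinearMap.zero_apply]
      exact killed_K F a hau _
    apply LinearMap.ext
    intro z
    obtain ⟨z', rfl⟩ := (Submodule.span A {x}).mkQ_surjective z
    exact LinearMap.congr_fun h0 z'
  · have hunit : IsUnit a := IsLocalRing.notMem_maximalIdeal.mp hau
    obtain ⟨b, hb⟩ := hunit.exists_left_inv
    rw [ha, LinearMap.smul_apply] at hφx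
    apply hx
    calc ψ0 x = (b * a) • ψ0 x := by rw [hb, one_smul]
      _ = b • (a • ψ0 x) := mul_smul _ _ _
      _ = 0 := by rw [hφx, smul_zero]

theorem mem_of_smul_eq_zero (n : ℕ) (x : (F.obj (Q A n)).obj)
    (hx : Submodule.span A {x} = ⊤) (r : A) (hr : r • x = 0) :
    r ∈ (IsLocalRing.maximalIdeal A) ^ (n + 1) := by
  have h1 : r • (LinearMap.id : (F.obj (Q A n)).obj →ₗ[A] (F.obj (Q A n)).obj) = 0 := by
    apply LinearMap.ext_on hx
    intro z hz
    rw [Set.mem_singleton_iff] at hz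
    rw [hz, LinearMap.smul_apply, LinearMap.id_apply, LinearMap.zero_apply, hr]
  have h2 : Fm F (r • (LinearMap.id : (Q A n).obj →ₗ[A] (Q A n).obj)) = Fm F 0 := by
    rw [Fm_smul, Fm_id, h1, Fm_zero]
  have h3 := (Fm_bijective F).1 h2
  have h4 := LinearMap.congr_fun h3 (one A n)
  rw [LinearMap.smul_apply, LinearMap.id_apply, LinearMap.zero_apply] at h4
  have h5 : r • (Ideal.Quotient.mk ((IsLocalRing.maximalIdeal A) ^ (n + 1)) 1 :
      A ⧸ (IsLocalRing.maximalIdeal A) ^ (n + 1)) =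
      Ideal.Quotient.mk ((IsLocalRing.maximalIdeal A) ^ (n + 1)) r := by
    rw [smul_mk, mul_one]
  exact Ideal.Quotient.eq_zero_iff_mem.mp (h5.symm.trans h4)

theorem lift_gen_bijective (n : ℕ) (x : (F.obj (Q A n)).obj)
    (hx : Submodule.span A {x} = ⊤) :
    Function.Bijective (lift n (F.obj (Q A n)) (killed_F F (killed_Q n)) x) := by
  constructor
  · refine (injective_iff_map_eq_zero _).mpr (fun z hz => ?_)
    obtain ⟨r, hr⟩ := Ideal.Quotient.mk_surjective (I := (IsLocalRing.maximalIdeal A) ^ (n + 1)) z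
    rw [← hr] at hz ⊢
    have h1 : r • x = 0 := (lift_mk n _ _ x r).symm.trans hz
    exact Ideal.Quotient.eq_zero_iff_mem.mpr (mem_of_smul_eq_zero F n x hx r h1)
  · intro z
    have hz : z ∈ Submodule.span A {x} := by rw [hx]; exact Submodule.mem_top
    obtain ⟨c, hc⟩ := Submodule.mem_span_singleton.mp hz
    exact ⟨(Ideal.Quotient.mk ((IsLocalRing.maximalIdeal A) ^ (n + 1)) c :
      A ⧸ (IsLocalRing.maximalIdeal A) ^ (n + 1)), (lift_mk n _ _ x c).trans hc⟩

theorem ev_bijective (n : ℕ) (x : (F.obj (Q A n)).obj) (hx : Submodule.span A {x} = ⊤)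
    (Y : Dual.FinLen A) (hY : Killed n Y) :
    Function.Bijective (fun φ : (F.obj (Q A n)).obj →ₗ[A] Y.obj => φ x) := by
  constructor
  · intro φ ψ h
    apply LinearMap.ext_on hx
    intro z hz
    rw [Set.mem_singleton_iff] at hz
    rw [hz]
    exact h
  · intro y
    let e := LinearEquiv.ofBijective _ (lift_gen_bijective F n x hx)
    have h1 : e (one A n) = x := lift_one n (F.obj (Q A n)) (killed_F F (killed_Q n)) x
    have h2 : e.symm x = one A n := by rw [← h1, e.symm_apply_apply]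
    refine ⟨(lift n Y hY y).comp e.symm.toLinearMap, ?_⟩
    show lift n Y hY y (e.symm x) = y
    rw [h2, lift_one]

theorem exists_next (n : ℕ) (x : (F.obj (Q A n)).obj) (hx : Submodule.span A {x} = ⊤) :
    ∃ y : (F.obj (Q A (n + 1))).obj, Submodule.span A {y} = ⊤ ∧ Fm F (pi n) y = x := by
  obtain ⟨y, hy⟩ := cyclic_P F (n + 1)
  have hmem : Fm F (pi n) y ∈ Submodule.span A {x} := by rw [hx]; exact Submodule.mem_top
  obtain ⟨c, hc⟩ := Submodule.mem_span_singleton.mp hmem
  have hcu : IsUnit c := by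
    by_contra hnu
    have hcm : c ∈ IsLocalRing.maximalIdeal A := by
      by_contra h
      exact hnu (IsLocalRing.notMem_maximalIdeal.mp h)
    have h0 : Fm F ((rho n).comp (pi n)) = Fm F 0 := by
      rw [Fm_zero, Fm_comp]
      apply LinearMap.ext_on hy
      intro z hz
      rw [Set.mem_singleton_iff] at hz
      rw [hz, LinearMap.comp_apply, ← hc, map_smul, LinearMap.zero_apply]
      exact killed_K F c hcm _
    have h1 := (Fm_bijective F).1 h0
    have h2 := LinearMap.congr_fun h1 (one A (n + 1))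
    rw [LinearMap.comp_apply, pi_one, rho_one, LinearMap.zero_apply] at h2
    exact one_ne_zero' 0 h2
  obtain ⟨d, hd⟩ := hcu.exists_left_inv
  refine ⟨d • y, ?_, ?_⟩
  · rw [eq_top_iff, ← hy, Submodule.span_singleton_le_iff_mem]
    refine Submodule.mem_span_singleton.mpr ⟨c, ?_⟩
    rw [smul_smul, mul_comm, hd, one_smul]
  · rw [map_smul, ← hc, smul_smul, hd, one_smul]

/-- compatible generators of `F (A ⧸ m^(n+1))` -/
noncomputable def gen : ∀ n : ℕ, {x : (F.obj (Q A n)).obj // Submodule.span A {x} = ⊤}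
  | 0 => ⟨(cyclic_P F 0).choose, (cyclic_P F 0).choose_spec⟩
  | n + 1 => ⟨(exists_next F n (gen n).1 (gen n).2).choose,
      (exists_next F n (gen n).1 (gen n).2).choose_spec.1⟩

theorem gen_succ (n : ℕ) : Fm F (pi n) (gen F (n + 1)).1 = (gen F n).1 :=
  (exists_next F n (gen F n).1 (gen F n).2).choose_spec.2

/-- the comparison map `X → F X` -/
noncomputable def theta (X : Dual.FinLen A) (n : ℕ) (hX : Killed n X) :
    X.obj →ₗ[A] (F.obj X).obj where
  toFun y := Fm F (lift n X hX y) (gen F n).1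
  map_add' y y' := by rw [lift_add, Fm_add, LinearMap.add_apply]
  map_smul' a y := by rw [lift_smul, Fm_smul, LinearMap.smul_apply, RingHom.id_apply]

theorem theta_apply (X : Dual.FinLen A) (n : ℕ) (hX : Killed n X) (y : X.obj) :
    theta F X n hX y = Fm F (lift n X hX y) (gen F n).1 := rfl

theorem theta_succ (X : Dual.FinLen A) (n : ℕ) (hX : Killed n X) :
    theta F X (n + 1) (killed_succ hX) = theta F X n hX := by
  apply LinearMap.ext
  intro y
  rw [theta_apply, theta_apply, lift_succ, Fm_comp, LinearMap.comp_apply, gen_succ]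

theorem theta_mono (X : Dual.FinLen A) {n k : ℕ} (h : n ≤ k) (hX : Killed n X) :
    theta F X k (killed_mono h hX) = theta F X n hX := by
  induction k, h using Nat.le_induction with
  | base => rfl
  | succ k hk ih => exact (theta_succ F X k (killed_mono hk hX)).trans ih

theorem theta_natural {X Y : Dual.FinLen A} (f : X.obj →ₗ[A] Y.obj) (n : ℕ) (hX : Killed n X)
    (hY : Killed n Y) : (Fm F f).comp (theta F X n hX) = (theta F Y n hY).comp f := by
  apply LinearMap.ext
  intro y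
  show Fm F f (Fm F (lift n X hX y) (gen F n).1) = Fm F (lift n Y hY (f y)) (gen F n).1
  rw [← comp_lift n X Y hX hY f y, Fm_comp]
  rfl

theorem theta_bijective (X : Dual.FinLen A) (n : ℕ) (hX : Killed n X) :
    Function.Bijective (theta F X n hX) := by
  have h1 : Function.Bijective (fun y : X.obj => lift n X hX y) := by
    constructor
    · intro y y' h
      have h' : lift n X hX y = lift n X hX y' := h
      have h'' := LinearMap.congr_fun h' (one A n)
      rwa [lift_one, lift_one] at h''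
    · intro ψ
      exact ⟨ψ (one A n), lift_apply_one_eq n X hX ψ⟩
  have h2 := Fm_bijective F (X := Q A n) (Y := X)
  have h3 := ev_bijective F n (gen F n).1 (gen F n).2 (F.obj X) (killed_F F hX)
  exact h3.comp (h2.comp h1)

/-- a uniform exponent -/
noncomputable def nX (X : Dual.FinLen A) : ℕ := (exists_killed X).choose

theorem hnX (X : Dual.FinLen A) : Killed (nX X) X := (exists_killed X).choose_spec

/-- the comparison equivalence -/
noncomputable def thetaEquiv (X : Dual.FinLen A) : X.obj ≃ₗ[A] (F.obj X).obj :=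
  LinearEquiv.ofBijective (theta F X (nX X) (hnX X)) (theta_bijective F X _ _)

/-- the comparison isomorphism -/
noncomputable def isoX (X : Dual.FinLen A) : X ≅ F.obj X where
  hom := ofLin (thetaEquiv F X).toLinearMap
  inv := ofLin (thetaEquiv F X).symm.toLinearMap
  hom_inv_id := toLin_injective (LinearMap.ext fun y => (thetaEquiv F X).symm_apply_apply y)
  inv_hom_id := toLin_injective (LinearMap.ext fun y => (thetaEquiv F X).apply_symm_apply y)

theorem main : Nonempty (F ≅ 𝟭 (Dual.FinLen A)) := by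
  refine ⟨(NatIso.ofComponents (fun X => isoX F X) ?_).symm⟩
  intro X Y f
  apply toLin_injective
  show (theta F Y (nX Y) (hnX Y)).comp (toLin f) =
    (Fm F (toLin f)).comp (theta F X (nX X) (hnX X))
  rw [← theta_mono F Y (le_max_right (nX X) (nX Y)) (hnX Y),
    ← theta_mono F X (le_max_left (nX X) (nX Y)) (hnX X)]
  exact (theta_natural F (toLin f) _ _ _).symm

end Local

end FLE

end Groth.Agent.H6
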