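import Groth.Agent.Lib.Helper6.Ischebeck
import Groth.Agent.Lib.Helper6.CanReg
import Groth.Agent.Lib.Helper6.FLE2
import Groth.Agent.Lib.Helper6.Bass2
import Groth.Agent.Lib.Helper1.AusBuchReg

/-! `Ext^p(M, A) = Hom(M, Ext^p(A/J, A))` for modules killed by an ideal `J` of codimension `≥ p`
in a regular local ring. -/

universe u
set_option linter.style.haveILetI false
set_option autoImplicit false
open CategoryTheory CategoryTheory.Abelian

namespace Groth.Agent.H6

namespace ExtTop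

section PB

variable {A : Type u} [CommRing A]
variable {N'' N' N Y : Type u} [AddCommGroup N''] [Module A N''] [AddCommGroup N'] [Module A N']
  [AddCommGroup N] [Module A N] [AddCommGroup Y] [Module A Y] {p : ℕ}

/-- pullback of an Ext class along a linear map -/
noncomputable def pb (u : N' →ₗ[A] N) (ξ : Ext (ModuleCat.of A N) (ModuleCat.of A Y) p) :
    Ext (ModuleCat.of A N') (ModuleCat.of A Y) p :=
  (Ext.mk₀ (ModuleCat.ofHom u)).comp ξ (zero_add p)

theorem pb_eq (u : N' →ₗ[A] N) (ξ : Ext (ModuleCat.of A N) (ModuleCat.of A Y) p) :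
    pb u ξ = (Ext.mk₀ (ModuleCat.ofHom u)).precomp (ModuleCat.of A Y) (zero_add p) ξ := rfl

theorem pb_comp (u : N' →ₗ[A] N) (v : N'' →ₗ[A] N')
    (ξ : Ext (ModuleCat.of A N) (ModuleCat.of A Y) p) : pb (u.comp v) ξ = pb v (pb u ξ) :=
  (Ext.mk₀_comp_mk₀_assoc (ModuleCat.ofHom v) (ModuleCat.ofHom u) ξ).symm

theorem pb_id (ξ : Ext (ModuleCat.of A N) (ModuleCat.of A Y) p) :
    pb (LinearMap.id : N →ₗ[A] N) ξ = ξ :=
  Ext.mk₀_id_comp ξ

theorem pb_add_map (u u' : N' →ₗ[A] N) (ξ : Ext (ModuleCat.of A N) (ModuleCat.of A Y) p) :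
    pb (u + u') ξ = pb u ξ + pb u' ξ := by
  unfold pb
  rw [ModuleCat.ofHom_add, Ext.mk₀_add, Ext.add_comp]

theorem pb_zero_map (ξ : Ext (ModuleCat.of A N) (ModuleCat.of A Y) p) :
    pb (0 : N' →ₗ[A] N) ξ = 0 := by
  show (Ext.mk₀ (0 : ModuleCat.of A N' ⟶ ModuleCat.of A N)).comp ξ (zero_add p) = 0
  rw [Ext.mk₀_zero, Ext.zero_comp]

theorem pb_smul_map (c : A) (u : N' →ₗ[A] N) (ξ : Ext (ModuleCat.of A N) (ModuleCat.of A Y) p) :
    pb (c • u) ξ = c • pb u ξ := by
  show (Ext.mk₀ (c • ModuleCat.ofHom u)).comp ξ (zero_add p) = _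
  rw [Ext.mk₀_smul, Ext.smul_comp]
  rfl

theorem pb_sum_map {ι : Type*} (s : Finset ι) (u : ι → N' →ₗ[A] N)
    (ξ : Ext (ModuleCat.of A N) (ModuleCat.of A Y) p) :
    pb (∑ i ∈ s, u i) ξ = ∑ i ∈ s, pb (u i) ξ := by
  classical
  induction s using Finset.induction_on with
  | empty => simp [pb_zero_map]
  | insert a s ha ih => rw [Finset.sum_insert ha, Finset.sum_insert ha, pb_add_map, ih]

theorem pb_map_zero (u : N' →ₗ[A] N) :
    pb u (0 : Ext (ModuleCat.of A N) (ModuleCat.of A Y) p) = 0 := by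
  rw [pb_eq, map_zero]

theorem pb_map_sub (u : N' →ₗ[A] N) (ξ ξ' : Ext (ModuleCat.of A N) (ModuleCat.of A Y) p) :
    pb u (ξ - ξ') = pb u ξ - pb u ξ' := by
  rw [pb_eq, map_sub]
  rfl

theorem pb_map_sum {ι : Type*} (s : Finset ι) (u : N' →ₗ[A] N)
    (ξ : ι → Ext (ModuleCat.of A N) (ModuleCat.of A Y) p) :
    pb u (∑ i ∈ s, ξ i) = ∑ i ∈ s, pb u (ξ i) := by
  rw [pb_eq, map_sum]
  rfl

/-- the short exact sequence of a surjection -/
theorem ses (π : N' →ₗ[A] N) (hπ : Function.Surjective π) :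
    (ShortComplex.mk (ModuleCat.ofHom (LinearMap.ker π).subtype) (ModuleCat.ofHom π)
      (by ext x; exact LinearMap.mem_ker.mp x.2)).ShortExact := by
  refine ModuleCat.shortComplex_shortExact _ ?_ (Submodule.injective_subtype _) hπ
  intro r
  change π r = 0 ↔ r ∈ Set.range (LinearMap.ker π).subtype
  exact ⟨fun h => ⟨⟨r, h⟩, rfl⟩, fun ⟨x, hx⟩ => hx ▸ x.2⟩

variable (J : Ideal A)

theorem killed_pi (b : ℕ) (a : A) (ha : a ∈ J) (x : Fin b → A ⧸ J) : a • x = 0 := by
  funext i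
  exact FLE.smul_quot_eq_zero J a ha (x i)

theorem sum_single_proj (b : ℕ) :
    ∑ i : Fin b, (LinearMap.single A (fun _ : Fin b => A ⧸ J) i).comp (LinearMap.proj i) =
      LinearMap.id := by
  apply LinearMap.ext
  intro z
  rw [LinearMap.sum_apply, LinearMap.id_apply]
  simp only [LinearMap.comp_apply, LinearMap.proj_apply, LinearMap.coe_single]
  exact Finset.univ_sum_single z

theorem exists_presentation (N : Type u) [AddCommGroup N] [Module A N] [Module.Finite A N]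
    (hN : ∀ a ∈ J, ∀ x : N, a • x = 0) :
    ∃ (b : ℕ) (π : (Fin b → A ⧸ J) →ₗ[A] N), Function.Surjective π := by
  obtain ⟨b, m, hm⟩ := Module.Finite.exists_fin (R := A) (M := N)
  refine ⟨b, ∑ i : Fin b, (FLE.liftI J (m i) (fun a ha => hN a ha (m i))).comp (LinearMap.proj i), ?_⟩
  intro y
  have hy : y ∈ Submodule.span A (Set.range m) := by rw [hm]; exact Submodule.mem_top
  obtain ⟨c, hc⟩ := (Submodule.mem_span_range_iff_exists_fun A).mp hy
  refine ⟨fun i => Ideal.Quotient.mk J (c i), ?_⟩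
  rw [LinearMap.sum_apply, ← hc]
  refine Finset.sum_congr rfl (fun i _ => ?_)
  rw [LinearMap.comp_apply, LinearMap.proj_apply, FLE.liftI_mk]

theorem end_quot (φ : (A ⧸ J) →ₗ[A] (A ⧸ J)) : ∃ a : A, φ = a • LinearMap.id := by
  obtain ⟨a, ha⟩ := Ideal.Quotient.mk_surjective (φ (Ideal.Quotient.mk J 1))
  refine ⟨a, FLE.ext_quot J _ _ ?_⟩
  rw [← ha, LinearMap.smul_apply, LinearMap.id_apply, FLE.smul_mk, mul_one]

theorem g_pb {M : Type u} [AddCommGroup M] [Module A M]
    (g : ((A ⧸ J) →ₗ[A] M) →ₗ[A] Ext (ModuleCat.of A (A ⧸ J)) (ModuleCat.of A Y) p)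
    (φ : (A ⧸ J) →ₗ[A] (A ⧸ J)) (u : (A ⧸ J) →ₗ[A] M) : pb φ (g u) = g (u.comp φ) := by
  obtain ⟨a, rfl⟩ := end_quot J φ
  rw [pb_smul_map, pb_id, LinearMap.comp_smul, LinearMap.comp_id, map_smul]

end PB

section Main

variable {A : Type u} [CommRing A] [IsRegularLocalRing A] (p : ℕ) (J : Ideal A)

theorem ext_vanish (hJ : ringKrullDim (A ⧸ J) + p ≤ ringKrullDim A) (N : Type u) [AddCommGroup N]
    [Module A N] [Module.Finite A N] (hN : ∀ a ∈ J, ∀ x : N, a • x = 0) (i : ℕ) (hi : i < p) :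
    Subsingleton (Ext (ModuleCat.of A N) (ModuleCat.of A A) i) := by
  rcases subsingleton_or_nontrivial N with hs | hnt
  · exact Isch.ext_subsingleton_of_subsingleton (ModuleCat.of A N) (ModuleCat.of A A) i
  obtain ⟨n, hn⟩ := Bass.exists_ringKrullDim_eq (A := A)
  have hdepth : LocCoh.depth A A = n := Groth.Agent.H1.AB.depth_eq_of_isRegularLocalRing n hn
  have hs1 : Module.supportDim A N ≤ ringKrullDim (A ⧸ J) := CanReg.supportDim_le_of_kill J N hN
  have hne : Module.supportDim A N ≠ ⊥ := Module.supportDim_ne_bot_of_nontrivial A N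
  have hle : Module.supportDim A N + (p : WithBot ℕ∞) ≤ (n : WithBot ℕ∞) := by
    rw [← hn]
    exact le_trans (add_le_add_left hs1 _) hJ
  obtain ⟨r, hr, hrp⟩ : ∃ r : ℕ, Module.supportDim A N ≤ (r : WithBot ℕ∞) ∧ r + p ≤ n := by
    generalize Module.supportDim A N = s at hne hle
    induction s using WithBot.recBotCoe with
    | bot => exact absurd rfl hne
    | coe s' =>
      induction s' using ENat.recTopCoe with
      | top =>
        exfalso
        have h1 : (((⊤ : ℕ∞) + (p : ℕ∞) : ℕ∞) : WithBot ℕ∞) ≤ ((n : ℕ∞) : WithBot ℕ∞) := by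
          exact_mod_cast hle
        rw [WithBot.coe_le_coe, top_add] at h1
        exact ENat.natCast_ne_top n (top_le_iff.mp h1)
      | coe s'' =>
        refine ⟨s'', le_rfl, ?_⟩
        exact_mod_cast hle
  exact Isch.ischebeck A n hdepth r N hr i (by omega)

theorem eq_zero_of_forall (hJ : ringKrullDim (A ⧸ J) + p ≤ ringKrullDim A) (N : Type u)
    [AddCommGroup N] [Module A N] [Module.Finite A N] (hN : ∀ a ∈ J, ∀ x : N, a • x = 0)
    (ξ : Ext (ModuleCat.of A N) (ModuleCat.of A A) p)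
    (h : ∀ u : (A ⧸ J) →ₗ[A] N, pb u ξ = 0) : ξ = 0 := by
  obtain ⟨b, π, hπ⟩ := exists_presentation J N hN
  have hη : pb π ξ = 0 := by
    have h1 : pb π ξ = pb LinearMap.id (pb π ξ) := (pb_id _).symm
    rw [h1, ← sum_single_proj J b, pb_sum_map]
    refine Finset.sum_eq_zero (fun i _ => ?_)
    rw [pb_comp, ← pb_comp π, h, pb_map_zero]
  have hS := ses π hπ
  haveI : Module.Finite A (LinearMap.ker π) := inferInstance
  have hK : ∀ a ∈ J, ∀ x : LinearMap.ker π, a • x = 0 := fun a ha x =>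
    Subtype.ext (killed_pi J b a ha x.1)
  rcases Nat.eq_zero_or_pos p with hp | hp
  · subst hp
    haveI : Epi (ModuleCat.ofHom π) := (ModuleCat.epi_iff_surjective _).mpr hπ
    have hinj := Ext.precomp_mk₀_injective_of_epi (ModuleCat.of A A) (ModuleCat.ofHom π)
    exact hinj (hη.trans (map_zero _).symm)
  · obtain ⟨p', rfl⟩ : ∃ p', p = p' + 1 := ⟨p - 1, by omega⟩
    obtain ⟨x₁, hx₁⟩ := Ext.contravariant_sequence_exact₃ hS (ModuleCat.of A A) ξ hη
      (add_comm 1 p')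
    haveI := ext_vanish (p' + 1) J hJ (LinearMap.ker π) hK p' (Nat.lt_succ_self p')
    rw [← hx₁, Subsingleton.elim x₁ 0, Ext.comp_zero]

theorem exists_of_linear (hJ : ringKrullDim (A ⧸ J) + p ≤ ringKrullDim A) (M : Type u)
    [AddCommGroup M] [Module A M] [Module.Finite A M] (hM : ∀ a ∈ J, ∀ x : M, a • x = 0)
    (g : ((A ⧸ J) →ₗ[A] M) →ₗ[A] Ext (ModuleCat.of A (A ⧸ J)) (ModuleCat.of A A) p) :
    ∃ ξ : Ext (ModuleCat.of A M) (ModuleCat.of A A) p,
      ∀ u : (A ⧸ J) →ₗ[A] M, g u = pb u ξ := by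
  obtain ⟨b, π, hπ⟩ := exists_presentation J M hM
  obtain ⟨η, hη⟩ : ∃ η : Ext (ModuleCat.of A (Fin b → A ⧸ J)) (ModuleCat.of A A) p,
      η = ∑ i : Fin b, pb (LinearMap.proj i)
        (g (π.comp (LinearMap.single A (fun _ : Fin b => A ⧸ J) i))) := ⟨_, rfl⟩
  have claim1 : ∀ w : (A ⧸ J) →ₗ[A] (Fin b → A ⧸ J), pb w η = g (π.comp w) := by
    intro w
    rw [hη, pb_map_sum]
    have h1 : ∀ i : Fin b, pb w (pb (LinearMap.proj i)
        (g (π.comp (LinearMap.single A (fun _ : Fin b => A ⧸ J) i)))) =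
        g ((π.comp (LinearMap.single A (fun _ : Fin b => A ⧸ J) i)).comp
          ((LinearMap.proj i).comp w)) := by
      intro i
      rw [← pb_comp, g_pb]
    rw [Finset.sum_congr rfl (fun i _ => h1 i), ← map_sum]
    congr 1
    apply LinearMap.ext
    intro z
    rw [LinearMap.sum_apply]
    simp only [LinearMap.comp_apply, LinearMap.proj_apply, LinearMap.coe_single]
    rw [← map_sum, Finset.univ_sum_single]
  have hS := ses π hπ
  haveI : Module.Finite A (LinearMap.ker π) := inferInstance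
  have hK : ∀ a ∈ J, ∀ x : LinearMap.ker π, a • x = 0 := fun a ha x =>
    Subtype.ext (killed_pi J b a ha x.1)
  have claim2 : pb (LinearMap.ker π).subtype η = 0 := by
    refine eq_zero_of_forall p J hJ (LinearMap.ker π) hK _ (fun v => ?_)
    rw [← pb_comp, claim1]
    have h0 : π.comp ((LinearMap.ker π).subtype.comp v) = 0 := by
      apply LinearMap.ext
      intro z
      exact LinearMap.mem_ker.mp (v z).2
    rw [h0, map_zero]
  obtain ⟨ξ, hξ⟩ := Ext.contravariant_sequence_exact₂ hS (ModuleCat.of A A) η claim2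
  refine ⟨ξ, fun u => ?_⟩
  obtain ⟨z, hz⟩ := hπ (u (Ideal.Quotient.mk J 1))
  have hu : π.comp (FLE.liftI J z (fun a ha => killed_pi J b a ha z)) = u := by
    apply FLE.ext_quot
    rw [LinearMap.comp_apply, FLE.liftI_mk, one_smul, hz]
  have hξ' : pb π ξ = η := hξ
  rw [← hu, pb_comp, hξ', claim1]

theorem main (hJ : ringKrullDim (A ⧸ J) + p ≤ ringKrullDim A) (M : Type u) [AddCommGroup M]
    [Module A M] [Module.Finite A M] (hJM : J • (⊤ : Submodule A M) = ⊥) :
    Function.Injective (fun ξ : Ext (ModuleCat.of A M) (ModuleCat.of A A) p =>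
      fun u : (A ⧸ J) →ₗ[A] M => (Ext.mk₀ (ModuleCat.ofHom u)).comp ξ (zero_add p)) ∧
    ∀ g : ((A ⧸ J) →ₗ[A] M) →ₗ[A] Ext (ModuleCat.of A (A ⧸ J)) (ModuleCat.of A A) p,
      ∃ ξ : Ext (ModuleCat.of A M) (ModuleCat.of A A) p, ∀ u : (A ⧸ J) →ₗ[A] M,
        g u = (Ext.mk₀ (ModuleCat.ofHom u)).comp ξ (zero_add p) := by
  have hM : ∀ a ∈ J, ∀ x : M, a • x = 0 := by
    intro a ha x
    have h1 : a • x ∈ J • (⊤ : Submodule A M) := Submodule.smul_mem_smul ha Submodule.mem_top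
    rw [hJM] at h1
    exact (Submodule.mem_bot A).mp h1
  constructor
  · intro ξ ξ' h
    have h1 : ξ - ξ' = 0 := by
      refine eq_zero_of_forall p J hJ M hM _ (fun u => ?_)
      rw [pb_map_sub, sub_eq_zero]
      exact congrFun h u
    exact sub_eq_zero.mp h1
  · intro g
    exact exists_of_linear p J hJ M hM g

end Main

end ExtTop

end Groth.Agent.H6
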