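import Mathlib
import Groth.Prelude.Def_FEt
import Groth.Agent.Lib.Helper6.FEtDeg1
import Groth.Agent.Lib.Helper6.FinSigma
import Groth.Agent.S0294

/-!
# Free actions of finite groups on finite étale covers (helper6)
-/

universe u

open CategoryTheory CategoryTheory.Limits AlgebraicGeometry Opposite

namespace Groth.Agent.H6.FEtDeg

/-- A morphism from a one-point scheme to a coproduct factors through a component. -/
theorem exists_factor_sigma {ι : Type u} (W : ι → Scheme.{u}) {T : Scheme.{u}} [Subsingleton T]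
    [Nonempty T] (η : T ⟶ ∐ W) : ∃ (i : ι) (y : T ⟶ W i), y ≫ Sigma.ι W i = η := by
  obtain ⟨pt⟩ := ‹Nonempty T›
  obtain ⟨⟨i, w⟩, hw⟩ := (sigmaMk W).surjective (η pt)
  rw [sigmaMk_mk] at hw
  have hsub : Set.range η ⊆ Set.range (Sigma.ι W i) := by
    rintro _ ⟨t, rfl⟩
    rw [Subsingleton.elim t pt]
    exact ⟨w, hw⟩
  exact ⟨i, IsOpenImmersion.lift (Sigma.ι W i) η hsub, IsOpenImmersion.lift_fac _ _ _⟩

instance subsingleton_spec_field (Ω : Type u) [Field Ω] :
    Subsingleton ↥(Spec (CommRingCat.of Ω)) :=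
  inferInstanceAs (Subsingleton (PrimeSpectrum Ω))

section Free

variable {X : Scheme.{u}} (Y : FEt.Cat X) (G : Type u) [Group G] (ρ : G →* Aut Y)

theorem rho_mul_left (a b : G) :
    (ρ (a * b)).hom.left = (ρ b).hom.left ≫ (ρ a).hom.left := by
  rw [map_mul]
  rfl

theorem rho_one_left : (ρ 1).hom.left = 𝟙 Y.left := by
  rw [map_one]
  rfl

variable {Y G ρ}

theorem act_injective
    (hfree : ∀ g : G, g ≠ 1 → ∀ (K : Type u) [Field K] (y : Spec (CommRingCat.of K) ⟶ Y.left),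
      y ≫ (ρ g).hom.left ≠ y)
    {K : Type u} [Field K] (ζ : Spec (CommRingCat.of K) ⟶ Y.left) {g h : G}
    (hgh : ζ ≫ (ρ g).hom.left = ζ ≫ (ρ h).hom.left) : g = h := by
  by_contra hne
  have hk : h⁻¹ * g ≠ 1 := by
    intro h1
    apply hne
    have := congrArg (fun t => h * t) h1
    simpa using this
  apply hfree _ hk K ζ
  rw [rho_mul_left, ← Category.assoc, hgh, Category.assoc, ← rho_mul_left, inv_mul_cancel,
    rho_one_left, Category.comp_id]

theorem comp_lift_eq {T : Scheme.{u}} (y : T ⟶ Y.left) (g : G) (ζ : T ⟶ pullback Y.hom Y.hom)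
    (h : y ≫ pullback.lift (𝟙 Y.left) (ρ g).hom.left
      ((Category.id_comp Y.hom).trans (Over.w (ρ g).hom.hom).symm) = ζ) :
    y = ζ ≫ pullback.fst Y.hom Y.hom ∧ y ≫ (ρ g).hom.left = ζ ≫ pullback.snd Y.hom Y.hom := by
  subst h
  constructor
  · rw [Category.assoc, pullback.lift_fst, Category.comp_id]
  · rw [Category.assoc, pullback.lift_snd]

end Free

/-- **S14460.** -/
theorem card_le_and_eq_iff_isIso {X : Scheme.{u}} (Y : FEt.Cat X)
    [Nonempty ↥Y.left] (n : ℕ)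
    (hn : ∀ (Ω : Type u) [Field Ω] [IsSepClosed Ω] (ξ : Spec (CommRingCat.of Ω) ⟶ X),
      Nat.card (FEt.fiberObj ξ Y) = n)
    (G : Type u) [Group G] [Finite G] (ρ : G →* Aut Y)
    (hfree : ∀ g : G, g ≠ 1 → ∀ (K : Type u) [Field K] (y : Spec (CommRingCat.of K) ⟶ Y.left),
      y ≫ (ρ g).hom.left ≠ y) :
    Nat.card G ≤ n ∧
      (Nat.card G = n ↔ IsIso (Limits.Sigma.desc fun g : G =>
        pullback.lift (𝟙 Y.left) (ρ g).hom.left
          ((Category.id_comp Y.hom).trans (Over.w (ρ g).hom.hom).symm) :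
            (∐ fun _ : G => Y.left) ⟶ pullback Y.hom Y.hom)) := by
  -- the orbit map at a geometric point
  have horb : ∀ (Ω : Type u) [Field Ω] [IsAlgClosed Ω] (ζ : Spec (CommRingCat.of Ω) ⟶ Y.left),
      Function.Injective (fun g : G => (⟨ζ ≫ (ρ g).hom.left, by
        rw [Category.assoc]
        exact congrArg (fun m => ζ ≫ m) (Over.w (ρ g).hom.hom)⟩ :
          FEt.fiberObj (ζ ≫ Y.hom) Y)) := by
    intro Ω _ _ ζ g h hgh
    exact act_injective hfree ζ (congrArg Subtype.val hgh)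
  set Φ : (∐ fun _ : G => Y.left) ⟶ pullback Y.hom Y.hom := Limits.Sigma.desc fun g : G =>
        pullback.lift (𝟙 Y.left) (ρ g).hom.left
          ((Category.id_comp Y.hom).trans (Over.w (ρ g).hom.hom).symm) with hΦ
  have hιΦ : ∀ g : G, Sigma.ι (fun _ : G => Y.left) g ≫ Φ =
      pullback.lift (𝟙 Y.left) (ρ g).hom.left
          ((Category.id_comp Y.hom).trans (Over.w (ρ g).hom.hom).symm) := fun g => by
    rw [hΦ, Sigma.ι_desc]
  have hΦfst : Φ ≫ pullback.fst Y.hom Y.hom = Sigma.desc (fun _ : G => 𝟙 Y.left) := by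
    apply Sigma.hom_ext
    intro g
    rw [← Category.assoc, hιΦ, pullback.lift_fst, Sigma.ι_desc]
  haveI : IsFinite Y.hom := Y.prop.1
  haveI : Etale Y.hom := Y.prop.2
  haveI : IsFinite (pullback.fst Y.hom Y.hom) :=
    MorphismProperty.pullback_fst (P := @IsFinite) _ _ inferInstance
  haveI : Etale (pullback.fst Y.hom Y.hom) :=
    MorphismProperty.pullback_fst (P := @Etale) _ _ inferInstance
  haveI : IsFinite (Sigma.desc (fun _ : G => 𝟙 Y.left)) :=
    Groth.Agent.H6.FinSigma.isFinite_sigmaDesc _ _ (fun _ => inferInstance)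
  haveI : Etale (Sigma.desc (fun _ : G => 𝟙 Y.left)) :=
    IsZariskiLocalAtSource.sigmaDesc (P := @Etale) (fun _ => inferInstance)
  haveI : IsFinite (Φ ≫ pullback.fst Y.hom Y.hom) := by rw [hΦfst]; infer_instance
  haveI : Etale (Φ ≫ pullback.fst Y.hom Y.hom) := by rw [hΦfst]; infer_instance
  haveI : IsFinite Φ := IsFinite.of_comp Φ (pullback.fst Y.hom Y.hom)
  haveI : Etale Φ := MorphismProperty.of_postcomp (W := @Etale) (W' := @Etale) Φ
    (pullback.fst Y.hom Y.hom) inferInstance inferInstance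
  -- a geometric point of Y
  obtain ⟨y₀⟩ := ‹Nonempty ↥Y.left›
  let Ω₀ := AlgebraicClosure (Y.left.residueField y₀)
  let ζ₀ : Spec (CommRingCat.of Ω₀) ⟶ Y.left :=
    Spec.map (CommRingCat.ofHom (algebraMap (Y.left.residueField y₀) Ω₀)) ≫
      Y.left.fromSpecResidueField y₀
  haveI hfin₀ : Finite (FEt.fiberObj (ζ₀ ≫ Y.hom) Y) := Groth.Agent.S0294.result _ _
  have hle : Nat.card G ≤ n := by
    rw [← hn Ω₀ (ζ₀ ≫ Y.hom)]
    exact Nat.card_le_card_of_injective _ (horb Ω₀ ζ₀)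
  refine ⟨hle, ?_, ?_⟩
  · -- card G = n ⇒ iso
    intro hcard
    rw [Scheme.Hom.isIso_iff_finrank_eq]
    ext q
    let Ω := AlgebraicClosure ((pullback Y.hom Y.hom).residueField q)
    let ζ : Spec (CommRingCat.of Ω) ⟶ pullback Y.hom Y.hom :=
      Spec.map (CommRingCat.ofHom (algebraMap ((pullback Y.hom Y.hom).residueField q) Ω)) ≫
        (pullback Y.hom Y.hom).fromSpecResidueField q
    obtain ⟨pt⟩ : Nonempty (Spec (CommRingCat.of Ω)) := inferInstance
    have hpt : ζ pt = q := by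
      change ((pullback Y.hom Y.hom).fromSpecResidueField q) _ = q
      exact Scheme.fromSpecResidueField_apply _ _
    rw [← hpt, finrank_eq_card_lifts Ω Φ ζ pt, Pi.one_apply, Nat.card_eq_one_iff_unique]
    let ζ₁ : Spec (CommRingCat.of Ω) ⟶ Y.left := ζ ≫ pullback.fst Y.hom Y.hom
    let ζ₂ : Spec (CommRingCat.of Ω) ⟶ Y.left := ζ ≫ pullback.snd Y.hom Y.hom
    have h12 : ζ₂ ≫ Y.hom = ζ₁ ≫ Y.hom := by
      change (ζ ≫ pullback.snd Y.hom Y.hom) ≫ Y.hom = (ζ ≫ pullback.fst Y.hom Y.hom) ≫ Y.hom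
      calc (ζ ≫ pullback.snd Y.hom Y.hom) ≫ Y.hom = ζ ≫ (pullback.snd Y.hom Y.hom ≫ Y.hom) :=
            Category.assoc _ _ _
        _ = ζ ≫ (pullback.fst Y.hom Y.hom ≫ Y.hom) := by rw [pullback.condition]
        _ = (ζ ≫ pullback.fst Y.hom Y.hom) ≫ Y.hom := (Category.assoc _ _ _).symm
    haveI hfin : Finite (FEt.fiberObj (ζ₁ ≫ Y.hom) Y) := Groth.Agent.S0294.result _ _
    haveI hfin' : Finite {s : Spec (CommRingCat.of Ω) ⟶ Y.left // s ≫ Y.hom = ζ₁ ≫ Y.hom} := hfin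
    have hbij : Function.Bijective (fun g : G => (⟨ζ₁ ≫ (ρ g).hom.left, by
        rw [Category.assoc]
        exact congrArg (fun m => ζ₁ ≫ m) (Over.w (ρ g).hom.hom)⟩ :
          FEt.fiberObj (ζ₁ ≫ Y.hom) Y)) := by
      apply (horb Ω ζ₁).bijective_of_nat_card_le
      have h3 : Nat.card {s : Spec (CommRingCat.of Ω) ⟶ Y.left // s ≫ Y.hom = ζ₁ ≫ Y.hom} = n :=
        hn Ω (ζ₁ ≫ Y.hom)
      rw [h3, hcard]
    obtain ⟨g, hg⟩ := hbij.2 ⟨ζ₂, h12⟩
    have hg' : ζ₁ ≫ (ρ g).hom.left = ζ₂ := congrArg Subtype.val hg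
    constructor
    · constructor
      rintro ⟨η, hη⟩ ⟨η', hη'⟩
      apply Subtype.ext
      change η = η'
      obtain ⟨a, y, rfl⟩ := exists_factor_sigma (fun _ : G => Y.left) η
      obtain ⟨a', y', rfl⟩ := exists_factor_sigma (fun _ : G => Y.left) η'
      rw [Category.assoc, hιΦ] at hη hη'
      obtain ⟨hy, hya⟩ := comp_lift_eq y a ζ hη
      obtain ⟨hy', hya'⟩ := comp_lift_eq y' a' ζ hη'
      change y = ζ₁ at hy
      change y' = ζ₁ at hy'
      change y ≫ (ρ a).hom.left = ζ₂ at hya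
      change y' ≫ (ρ a').hom.left = ζ₂ at hya'
      subst hy
      subst hy'
      have : a = a' := act_injective hfree _ (hya.trans hya'.symm)
      subst this
      rfl
    · refine ⟨⟨ζ₁ ≫ Sigma.ι (fun _ : G => Y.left) g, ?_⟩⟩
      rw [Category.assoc, hιΦ]
      apply pullback.hom_ext
      · rw [Category.assoc, pullback.lift_fst, Category.comp_id]
      · rw [Category.assoc, pullback.lift_snd, hg']
  · -- iso ⇒ card G = n
    intro hiso
    rw [← hn Ω₀ (ζ₀ ≫ Y.hom)]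
    refine Nat.card_congr (Equiv.ofBijective _ ⟨horb Ω₀ ζ₀, ?_⟩)
    rintro ⟨t, ht⟩
    let ζ : Spec (CommRingCat.of Ω₀) ⟶ pullback Y.hom Y.hom := pullback.lift ζ₀ t ht.symm
    obtain ⟨g, y, hy⟩ := exists_factor_sigma (fun _ : G => Y.left) (ζ ≫ inv Φ)
    have h1 : y ≫ pullback.lift (𝟙 Y.left) (ρ g).hom.left
          ((Category.id_comp Y.hom).trans (Over.w (ρ g).hom.hom).symm) = ζ := by
      rw [← hιΦ, ← Category.assoc, hy, Category.assoc, IsIso.inv_hom_id, Category.comp_id]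
    obtain ⟨hy0', hyt'⟩ := comp_lift_eq y g ζ h1
    have hy0 : y = ζ₀ := hy0'.trans (pullback.lift_fst _ _ _)
    have hyt : y ≫ (ρ g).hom.left = t := hyt'.trans (pullback.lift_snd _ _ _)
    refine ⟨g, Subtype.ext ?_⟩
    change ζ₀ ≫ (ρ g).hom.left = t
    rw [← hy0]
    exact hyt

end Groth.Agent.H6.FEtDeg
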