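import Mathlib

universe u
open CategoryTheory CategoryTheory.Limits AlgebraicGeometry TopologicalSpace Opposite

set_option linter.unusedSectionVars false
set_option linter.unusedSimpArgs false
set_option linter.style.haveILetI false
namespace Groth.Agent.H6.FEtDesc

variable (k : Type u) [Field k] (p : ℕ) [Fact p.Prime] [CharP k p]

theorem ringHom_ext_perfectClosure {K : Type u} [Field K] (ψ₁ ψ₂ : PerfectClosure k p →+* K)
    (h : ψ₁.comp (PerfectClosure.of k p) = ψ₂.comp (PerfectClosure.of k p)) : ψ₁ = ψ₂ := by
  haveI : CharP K p :=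
    charP_of_injective_ringHom (ψ₁.comp (PerfectClosure.of k p)).injective p
  ext y
  induction y using PerfectClosure.induction_on with
  | _ x =>
    obtain ⟨n, x⟩ := x
    have h1 : (PerfectClosure.mk k p (n, x)) ^ p ^ n = PerfectClosure.of k p x := by
      rw [← iterate_frobenius]
      exact PerfectClosure.iterate_frobenius_mk k p n x
    have h2 : ψ₁ (PerfectClosure.mk k p (n, x)) ^ p ^ n =
        ψ₂ (PerfectClosure.mk k p (n, x)) ^ p ^ n := by
      rw [← map_pow, ← map_pow, h1]
      exact RingHom.congr_fun h x
    apply iterateFrobenius_inj K p n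
    rw [iterateFrobenius_def, iterateFrobenius_def]
    exact h2

theorem surjective_specMap_of : Surjective (Spec.map (CommRingCat.ofHom (PerfectClosure.of k p))) := by
  constructor
  intro y
  obtain ⟨x⟩ : Nonempty (Spec (CommRingCat.of (PerfectClosure k p))) := inferInstance
  exact ⟨x, Subsingleton.elim (α := PrimeSpectrum k) _ _⟩

theorem flat_specMap_of : Flat (Spec.map (CommRingCat.ofHom (PerfectClosure.of k p))) := by
  rw [HasRingHomProperty.Spec_iff (P := @Flat)]
  letI := (PerfectClosure.of k p).toAlgebra
  change Module.Flat k (PerfectClosure k p)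
  infer_instance

theorem universallyInjective_specMap_of :
    UniversallyInjective (Spec.map (CommRingCat.ofHom (PerfectClosure.of k p))) := by
  refine ((tfae_universallyInjective _).out 0 1).mpr ?_
  intro K _ g₁ g₂ hg
  obtain ⟨ψ₁, rfl⟩ := Spec.map_surjective g₁
  obtain ⟨ψ₂, rfl⟩ := Spec.map_surjective g₂
  dsimp only at hg
  rw [← Spec.map_comp, ← Spec.map_comp] at hg
  have h := Spec.map_injective hg
  have h' : ψ₁.hom.comp (PerfectClosure.of k p) = ψ₂.hom.comp (PerfectClosure.of k p) := by
    have := congrArg CommRingCat.Hom.hom h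
    exact this
  have := ringHom_ext_perfectClosure k p ψ₁.hom ψ₂.hom h'
  congr 1
  exact CommRingCat.hom_ext this

end Groth.Agent.H6.FEtDesc
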