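import Mathlib
import Groth.Prelude
import Groth.Agent.Lib.Helper6.FEtDesc2
import Groth.Agent.Lib.Helper6.FEtDesc3

universe u
open CategoryTheory CategoryTheory.Limits AlgebraicGeometry TopologicalSpace Opposite

set_option linter.unusedSectionVars false
set_option linter.unusedSimpArgs false
set_option linter.style.haveILetI false
namespace Groth.Agent.H6.FEtDesc

theorem s0286 (k : Type u) [Field k] (p : ℕ) [Fact p.Prime] [CharP k p] {X : Scheme.{u}}
    (f : X ⟶ Spec (CommRingCat.of k)) :
    (FEt.restrict (pullback.fst f
      (Spec.map (CommRingCat.ofHom (PerfectClosure.of k p))))).IsEquivalence := by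
  haveI := surjective_specMap_of k p
  haveI := flat_specMap_of k p
  haveI := universallyInjective_specMap_of k p
  haveI : UniversallyInjective (pullback.fst f
      (Spec.map (CommRingCat.ofHom (PerfectClosure.of k p)))) :=
    MorphismProperty.pullback_fst _ _ inferInstance
  exact isEquivalence_of_fpqc _

end Groth.Agent.H6.FEtDesc
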