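import Mathlib
import Groth.Prelude

universe u
open CategoryTheory CategoryTheory.Limits AlgebraicGeometry TopologicalSpace

set_option linter.unusedSectionVars false
set_option linter.unusedSimpArgs false
set_option linter.style.haveILetI false
namespace Groth.Agent.H6.FEtDim1

section Top

/-- in a T0 space of dimension `≤ 1` there are no chains of specializations of length two. -/
theorem eq_or_eq_of_specializes {Y : Type*} [TopologicalSpace Y] [T0Space Y]
    (h : topologicalKrullDim Y ≤ 1) (x₀ x₁ x₂ : Y) (h01 : x₀ ⤳ x₁) (h12 : x₁ ⤳ x₂) :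
    x₀ = x₁ ∨ x₁ = x₂ := by
  let c : Y → IrreducibleCloseds Y := fun x =>
    ⟨closure {x}, isIrreducible_singleton.closure, isClosed_closure⟩
  have hle : ∀ a b : Y, a ⤳ b → c b ≤ c a := fun a b hab => by
    show closure {b} ⊆ closure {a}
    exact specializes_iff_closure_subset.mp hab
  have hsp : ∀ a b : Y, c b ≤ c a → a ⤳ b := fun a b hab => by
    have h1 : closure {b} ⊆ closure {a} := hab
    exact specializes_iff_closure_subset.mpr h1
  rcases (Order.krullDim_le_one_iff.mp h) (c x₁) with hmin | hmax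
  · right
    exact (h12.antisymm (hsp x₂ x₁ (hmin (hle x₁ x₂ h12)))).eq
  · left
    exact (h01.antisymm (hsp x₁ x₀ (hmax (hle x₀ x₁ h01)))).eq

/-- in a Noetherian quasi-sober space, a point of the closure of an open set is a specialization
of a point of that open set. -/
theorem exists_specializes_of_mem_closure {X : Type*} [TopologicalSpace X] [NoetherianSpace X]
    [QuasiSober X] {O : Set X} (hO : IsOpen O) {z : X} (hz : z ∈ closure O) :
    ∃ η ∈ O, η ⤳ z := by
  obtain ⟨𝒮, h𝒮fin, h𝒮irr, h𝒮⟩ :=
    NoetherianSpace.exists_finite_set_closeds_irreducible (⟨closure O, isClosed_closure⟩ : Closeds X)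
  have hcl : closure O = ⋃ T ∈ 𝒮, (T : Set X) := by
    have h1 := congrArg (fun s : Closeds X => (s : Set X)) h𝒮
    have h2 : IsClosed (⋃ T ∈ 𝒮, (T : Set X)) := h𝒮fin.isClosed_biUnion (fun T _ => T.isClosed)
    simp only [Closeds.coe_mk, Closeds.coe_sSup] at h1
    rw [h1, Set.sUnion_image, h2.closure_eq]
  let 𝒮' : Set (Closeds X) := {T ∈ 𝒮 | ((T : Set X) ∩ O).Nonempty}
  have h𝒮'fin : 𝒮'.Finite := h𝒮fin.subset (fun T hT => hT.1)
  have hsub : O ⊆ ⋃ T ∈ 𝒮', (T : Set X) := by
    intro x hx
    have hx' : x ∈ closure O := subset_closure hx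
    rw [hcl] at hx'
    simp only [Set.mem_iUnion] at hx'
    obtain ⟨T, hT, hxT⟩ := hx'
    simp only [Set.mem_iUnion]
    exact ⟨T, ⟨hT, ⟨x, hxT, hx⟩⟩, hxT⟩
  have hclosed : IsClosed (⋃ T ∈ 𝒮', (T : Set X)) :=
    h𝒮'fin.isClosed_biUnion (fun T _ => T.isClosed)
  have hz' : z ∈ ⋃ T ∈ 𝒮', (T : Set X) := closure_minimal hsub hclosed hz
  simp only [Set.mem_iUnion] at hz'
  obtain ⟨T, ⟨hT, hTO⟩, hzT⟩ := hz'
  obtain ⟨η, hη⟩ := QuasiSober.sober (h𝒮irr T hT) T.isClosed
  refine ⟨η, (hη.mem_open_set_iff hO).mpr hTO, hη.specializes hzT⟩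

end Top

section Sch

variable {Z : Scheme.{u}}

theorem noetherianSpace_of_affine [IsLocallyNoetherian Z] {V : Z.Opens} (hV : IsAffineOpen V) :
    NoetherianSpace ↥(V : Set Z) := by
  haveI : IsNoetherianRing Γ(Z, V) := IsLocallyNoetherian.component_noetherian ⟨V, hV⟩
  exact noetherianSpace_of_isAffineOpen V hV

/-- in a locally Noetherian scheme, a point of the closure of an open set is a specialization of
a point of that open set. -/
theorem exists_specializes_of_mem_closure_scheme [IsLocallyNoetherian Z] {O : Set Z}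
    (hO : IsOpen O) {z : Z} (hz : z ∈ closure O) : ∃ η ∈ O, η ⤳ z := by
  obtain ⟨V, hV, hzV, -⟩ := exists_isAffineOpen_mem_and_subset (x := z) (U := ⊤) trivial
  haveI := noetherianSpace_of_affine hV
  haveI : QuasiSober ↥(V : Set Z) := V.isOpen.isOpenEmbedding_subtypeVal.quasiSober
  let O' : Set ↥(V : Set Z) := Subtype.val ⁻¹' O
  have hO' : IsOpen O' := hO.preimage continuous_subtype_val
  have hz' : (⟨z, hzV⟩ : ↥(V : Set Z)) ∈ closure O' := by
    rw [closure_subtype]
    have h1 : z ∈ closure ((V : Set Z) ∩ O) := V.isOpen.inter_closure ⟨hzV, hz⟩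
    have h2 : (Subtype.val '' O' : Set Z) = (V : Set Z) ∩ O := by
      ext x
      constructor
      · rintro ⟨y, hy, rfl⟩
        exact ⟨y.2, hy⟩
      · rintro ⟨hxV, hxO⟩
        exact ⟨⟨x, hxV⟩, hxO, rfl⟩
    rw [h2]
    exact h1
  obtain ⟨η, hηO, hη⟩ := exists_specializes_of_mem_closure hO' hz'
  exact ⟨η.1, hηO, hη.map continuous_subtype_val⟩

/-- in a locally Noetherian scheme of dimension `≤ 1`, the points of the boundary of a closed set
are closed points. -/
theorem isClosed_singleton_of_mem_closure_compl [IsLocallyNoetherian Z]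
    (hdim : topologicalKrullDim Z ≤ 1) {F : Set Z} {z : Z} (hzF : z ∈ F)
    (hz : z ∈ closure Fᶜ) (hF : IsClosed F) : IsClosed ({z} : Set Z) := by
  obtain ⟨η, hηF, hη⟩ := exists_specializes_of_mem_closure_scheme hF.isOpen_compl hz
  rw [← closure_eq_iff_isClosed]
  refine Set.Subset.antisymm ?_ subset_closure
  intro z' hz'
  have h12 : z ⤳ z' := specializes_iff_mem_closure.mpr hz'
  rcases eq_or_eq_of_specializes hdim η z z' hη h12 with h | h
  · exact absurd (h ▸ hzF) hηF
  · exact h.symm

/-- a locally Noetherian scheme all of whose points are closed is discrete. -/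
theorem discreteTopology_of_isClosed_singleton [IsLocallyNoetherian Z]
    (h : ∀ z : Z, IsClosed ({z} : Set Z)) : DiscreteTopology Z := by
  rw [discreteTopology_iff_isOpen_singleton]
  intro z
  obtain ⟨V, hV, hzV, -⟩ := exists_isAffineOpen_mem_and_subset (x := z) (U := ⊤) trivial
  haveI := noetherianSpace_of_affine hV
  haveI : QuasiSober ↥(V : Set Z) := V.isOpen.isOpenEmbedding_subtypeVal.quasiSober
  haveI : T1Space ↥(V : Set Z) := ⟨fun v => by
    have : ({v} : Set ↥(V : Set Z)) = Subtype.val ⁻¹' ({v.1} : Set Z) := by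
      ext w
      rw [Set.mem_preimage, Set.mem_singleton_iff, Set.mem_singleton_iff, Subtype.ext_iff]
    rw [this]
    exact (h v.1).preimage continuous_subtype_val⟩
  -- `V` is finite
  have hfin : (Set.univ : Set ↥(V : Set Z)).Finite := by
    have h1 : (Set.univ : Set ↥(V : Set Z)) = ⋃₀ irreducibleComponents ↥(V : Set Z) :=
      (sUnion_irreducibleComponents).symm
    rw [h1]
    refine Set.Finite.sUnion NoetherianSpace.finite_irreducibleComponents ?_
    intro T hT
    have hTirr : IsIrreducible T := hT.1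
    have hTcl : IsClosed T := isClosed_of_mem_irreducibleComponents T hT
    obtain ⟨η, hη⟩ := QuasiSober.sober hTirr hTcl
    have : T = {η} := by
      rw [← hη.def, closure_singleton]
    rw [this]
    exact Set.finite_singleton η
  haveI : Finite ↥(V : Set Z) := Set.finite_univ_iff.mp hfin
  have hopen : IsOpen ({⟨z, hzV⟩} : Set ↥(V : Set Z)) := isOpen_discrete _
  have := V.isOpen.isOpenMap_subtype_val _ hopen
  rwa [Set.image_singleton] at this

end Sch

end Groth.Agent.H6.FEtDim1
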