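import Mathlib
import Groth.Prelude
import Groth.Agent.H4.MilnorAlg2
import Groth.Agent.S2021
import Groth.Agent.Lib.Helper9.Misc.PIN4

universe u
open CategoryTheory CategoryTheory.Limits TensorProduct

set_option linter.unusedSectionVars false
set_option linter.unusedSimpArgs false
set_option linter.style.haveILetI false
namespace Groth.Agent.H6.MilCube

open Groth.Agent.H9.PIN

section Cube

variable {R A' B A D DX DY DZ : CommRingCat.{u}}
  (α : R ⟶ A') (β : R ⟶ B) (p : A' ⟶ A) (q : B ⟶ A)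
  (α' : D ⟶ DX) (β' : D ⟶ DY) (p' : DX ⟶ DZ) (q' : DY ⟶ DZ)
  (r : R ⟶ D) (x : A' ⟶ DX) (y : B ⟶ DY) (z : A ⟶ DZ)

/-- the Milnor cube: conclusions on the glued algebra -/
theorem cube (hbase : RingPinch α.hom β.hom p.hom q.hom)
    (htop : RingPinch α'.hom β'.hom p'.hom q'.hom)
    (c1 : α ≫ x = r ≫ α') (c2 : β ≫ y = r ≫ β') (c3 : p ≫ z = x ≫ p') (c4 : q ≫ z = y ≫ q')
    (hX : IsPushout p x z p') (hY : IsPushout q y z q') :
    IsPushout α r x α' ∧ IsPushout β r y β' ∧
    (x.hom.Finite → y.hom.Finite → r.hom.Finite) ∧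
    (x.hom.Etale → y.hom.Etale → r.hom.Etale) ∧
    (x.hom.Flat → y.hom.Flat → r.hom.Flat) ∧
    (x.hom.FiniteType → y.hom.FiniteType → r.hom.FiniteType) ∧
    (x.hom.Flat → x.hom.FinitePresentation → y.hom.Flat → y.hom.FinitePresentation →
      r.hom.FinitePresentation) ∧
    (x.hom.Smooth → y.hom.Smooth → r.hom.Smooth) := by
  -- algebra structures
  letI iRB : Algebra R B := β.hom.toAlgebra
  letI iRA' : Algebra R A' := α.hom.toAlgebra
  letI iBA : Algebra B A := q.hom.toAlgebra
  letI iA'A : Algebra A' A := p.hom.toAlgebra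
  letI iRA : Algebra R A := (α ≫ p).hom.toAlgebra
  haveI t1 : IsScalarTower R B A := IsScalarTower.of_algebraMap_eq fun s => by
    change p.hom (α.hom s) = q.hom (β.hom s)
    exact hbase.comm s
  haveI t2 : IsScalarTower R A' A := IsScalarTower.of_algebraMap_eq fun s => rfl
  letI iDDY : Algebra D DY := β'.hom.toAlgebra
  letI iDDX : Algebra D DX := α'.hom.toAlgebra
  letI iDYDZ : Algebra DY DZ := q'.hom.toAlgebra
  letI iDXDZ : Algebra DX DZ := p'.hom.toAlgebra
  letI iDDZ : Algebra D DZ := (α' ≫ p').hom.toAlgebra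
  haveI t3 : IsScalarTower D DY DZ := IsScalarTower.of_algebraMap_eq fun s => by
    change p'.hom (α'.hom s) = q'.hom (β'.hom s)
    exact htop.comm s
  haveI t4 : IsScalarTower D DX DZ := IsScalarTower.of_algebraMap_eq fun s => rfl
  letI iRD : Algebra R D := r.hom.toAlgebra
  letI iBDY : Algebra B DY := y.hom.toAlgebra
  letI iA'DX : Algebra A' DX := x.hom.toAlgebra
  letI iADZ : Algebra A DZ := z.hom.toAlgebra
  letI iRDY : Algebra R DY := (r ≫ β').hom.toAlgebra
  haveI t5 : IsScalarTower R B DY := IsScalarTower.of_algebraMap_eq fun s => by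
    change (r ≫ β').hom s = (β ≫ y).hom s
    rw [c2]
  haveI t6 : IsScalarTower R D DY := IsScalarTower.of_algebraMap_eq fun s => rfl
  letI iRDX : Algebra R DX := (r ≫ α').hom.toAlgebra
  haveI t7 : IsScalarTower R A' DX := IsScalarTower.of_algebraMap_eq fun s => by
    change (r ≫ α').hom s = (α ≫ x).hom s
    rw [c1]
  haveI t8 : IsScalarTower R D DX := IsScalarTower.of_algebraMap_eq fun s => rfl
  letI iBDZ : Algebra B DZ := (q ≫ z).hom.toAlgebra
  haveI t9 : IsScalarTower B A DZ := IsScalarTower.of_algebraMap_eq fun s => rfl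
  haveI t10 : IsScalarTower B DY DZ := IsScalarTower.of_algebraMap_eq fun s => by
    change (q ≫ z).hom s = (y ≫ q').hom s
    rw [c4]
  letI iA'DZ : Algebra A' DZ := (p ≫ z).hom.toAlgebra
  haveI t11 : IsScalarTower A' A DZ := IsScalarTower.of_algebraMap_eq fun s => rfl
  haveI t12 : IsScalarTower A' DX DZ := IsScalarTower.of_algebraMap_eq fun s => by
    change (p ≫ z).hom s = (x ≫ p').hom s
    rw [c3]
  haveI P1 : Algebra.IsPushout B DY A DZ := by
    refine CommRingCat.isPushout_iff_isPushout.mp ?_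
    exact hY.flip
  haveI P2 : Algebra.IsPushout A' DX A DZ := by
    refine CommRingCat.isPushout_iff_isPushout.mp ?_
    exact hX.flip
  have hsq : EtMil.IsFibreSquare R B A' A := by
    refine ⟨hbase.surj, fun b a' hba => ?_⟩
    obtain ⟨s, hs1, hs2⟩ := hbase.glue a' b hba.symm
    exact ⟨s, ⟨hs2, hs1⟩, fun s' hs' => hbase.ext _ _ (hs'.2.trans hs1.symm) (hs'.1.trans hs2.symm)⟩
  have hsq' : EtMil.IsFibreSquare D DY DX DZ := by
    refine ⟨htop.surj, fun b a' hba => ?_⟩
    obtain ⟨s, hs1, hs2⟩ := htop.glue a' b hba.symm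
    exact ⟨s, ⟨hs2, hs1⟩, fun s' hs' => htop.ext _ _ (hs'.2.trans hs1.symm) (hs'.1.trans hs2.symm)⟩
  have Q1 : Algebra.IsPushout R B D DY := Groth.Agent.H4.MilnorAlg1.pushout1 hsq hsq'
  have Q2 : Algebra.IsPushout R A' D DX := Groth.Agent.H4.MilnorAlg1.pushout2 hsq hsq'
  obtain ⟨m1, m2, m3, m4, m5⟩ := Groth.Agent.H4.MilnorAlg2.main hsq hsq'
  refine ⟨?_, ?_, ?_, ?_, ?_, ?_, ?_, ?_⟩
  · exact CommRingCat.isPushout_iff_isPushout.mpr Q2
  · exact CommRingCat.isPushout_iff_isPushout.mpr Q1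
  · intro hx hy
    haveI : Module.Finite A' DX := hx
    haveI : Module.Finite B DY := hy
    let φ := Groth.Agent.H4.MilnorAlg1.phi B A' A DY DX DZ
    have hfin : Module.Finite R ↥(EtMil.glue R φ) :=
      (Groth.Agent.S2021.result R B A' A hsq DY DX φ).1 inferInstance inferInstance
    let ψe : D ≃ₗ[R] EtMil.glue R φ :=
      LinearEquiv.ofBijective _ (Groth.Agent.H4.MilnorAlg1.psiLin_bijective hsq')
    change Module.Finite R D
    exact Module.Finite.equiv ψe.symm
  · intro hx hy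
    have h1 : Algebra.Etale A' DX := RingHom.etale_algebraMap.mp hx
    have h2 : Algebra.Etale B DY := RingHom.etale_algebraMap.mp hy
    exact RingHom.etale_algebraMap.mpr (m5.mpr ⟨h2, h1⟩)
  · intro hx hy
    have h1 : Module.Flat A' DX := hx
    have h2 : Module.Flat B DY := hy
    change Module.Flat R D
    exact m2.mpr ⟨h2, h1⟩
  · intro hx hy
    have h1 : Algebra.FiniteType A' DX := hx
    have h2 : Algebra.FiniteType B DY := hy
    change Algebra.FiniteType R D
    exact m1.mpr ⟨h2, h1⟩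
  · intro hx hx' hy hy'
    have h1 : Module.Flat A' DX := hx
    have h2 : Module.Flat B DY := hy
    have h1' : Algebra.FinitePresentation A' DX := hx'
    have h2' : Algebra.FinitePresentation B DY := hy'
    change Algebra.FinitePresentation R D
    exact (m3.mpr ⟨⟨h2, h2'⟩, ⟨h1, h1'⟩⟩).2
  · intro hx hy
    have h1 : Algebra.Smooth A' DX := RingHom.smooth_algebraMap.mp hx
    have h2 : Algebra.Smooth B DY := RingHom.smooth_algebraMap.mp hy
    exact RingHom.smooth_algebraMap.mpr (m4.mpr ⟨h2, h1⟩)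

end Cube

end Groth.Agent.H6.MilCube
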