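import Mathlib
import Groth.Prelude
import Groth.Agent.Lib.Helper6.MilCube1
import Groth.Agent.Lib.Helper9.Misc.PIN30

universe u
open CategoryTheory CategoryTheory.Limits AlgebraicGeometry TopologicalSpace

set_option linter.unusedSectionVars false
set_option linter.unusedSimpArgs false
set_option linter.style.haveILetI false
namespace Groth.Agent.H6.MilCube

open Groth.Agent.H9.PIN

section Chart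

variable {Z X Y P Z' X' Y' P' : Scheme.{u}} {i : Z ⟶ X} {j : Z ⟶ Y} {a : X ⟶ P} {b : Y ⟶ P}
  {i' : Z' ⟶ X'} {j' : Z' ⟶ Y'} {a' : X' ⟶ P'} {b' : Y' ⟶ P'}
  {f : X' ⟶ X} {g : Y' ⟶ Y} {c : Z' ⟶ Z} {h : P' ⟶ P}

/-- an affine chart of a pinching: affine with affine preimages. -/
structure Good (a : X ⟶ P) (b : Y ⟶ P) (W : P.Opens) : Prop where
  hW : IsAffineOpen W
  ha : IsAffineOpen (a ⁻¹ᵁ W)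
  hb : IsAffineOpen (b ⁻¹ᵁ W)

theorem le_f (ha : a' ≫ h = f ≫ a) {W : P.Opens} {W' : P'.Opens} (hle : W' ≤ h ⁻¹ᵁ W) :
    a' ⁻¹ᵁ W' ≤ f ⁻¹ᵁ a ⁻¹ᵁ W := by
  rw [← Scheme.Hom.comp_preimage, ← ha, Scheme.Hom.comp_preimage]
  exact a'.preimage_mono hle

theorem le_c (hw : i' ≫ f = c ≫ i) (ha : a' ≫ h = f ≫ a) {W : P.Opens} {W' : P'.Opens}
    (hle : W' ≤ h ⁻¹ᵁ W) : i' ⁻¹ᵁ a' ⁻¹ᵁ W' ≤ c ⁻¹ᵁ i ⁻¹ᵁ a ⁻¹ᵁ W := by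
  rw [← Scheme.Hom.comp_preimage c i, ← hw, Scheme.Hom.comp_preimage]
  exact i'.preimage_mono (le_f ha hle)

/-- the chart cube of a morphism of pinchings -/
theorem chart_cube (hp : IsPinch i j a b) [IsClosedImmersion i] (hp' : IsPinch i' j' a' b')
    [IsClosedImmersion i'] (hX : IsPullback i' c f i) (hY : IsPullback j' c g j)
    (ha : a' ≫ h = f ≫ a) (hb : b' ≫ h = g ≫ b)
    {W : P.Opens} {W' : P'.Opens} (hW : Good a b W) (hW' : Good a' b' W') (hle : W' ≤ h ⁻¹ᵁ W) :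
    IsPushout (a.app W) (h.appLE W W' hle) (f.appLE (a ⁻¹ᵁ W) (a' ⁻¹ᵁ W') (le_f ha hle))
      (a'.app W') ∧
    IsPushout (b.app W) (h.appLE W W' hle) (g.appLE (b ⁻¹ᵁ W) (b' ⁻¹ᵁ W') (le_f hb hle))
      (b'.app W') ∧
    ((f.appLE (a ⁻¹ᵁ W) (a' ⁻¹ᵁ W') (le_f ha hle)).hom.Finite →
      (g.appLE (b ⁻¹ᵁ W) (b' ⁻¹ᵁ W') (le_f hb hle)).hom.Finite → (h.appLE W W' hle).hom.Finite) ∧
    ((f.appLE (a ⁻¹ᵁ W) (a' ⁻¹ᵁ W') (le_f ha hle)).hom.Etale →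
      (g.appLE (b ⁻¹ᵁ W) (b' ⁻¹ᵁ W') (le_f hb hle)).hom.Etale → (h.appLE W W' hle).hom.Etale) ∧
    ((f.appLE (a ⁻¹ᵁ W) (a' ⁻¹ᵁ W') (le_f ha hle)).hom.Flat →
      (g.appLE (b ⁻¹ᵁ W) (b' ⁻¹ᵁ W') (le_f hb hle)).hom.Flat → (h.appLE W W' hle).hom.Flat) ∧
    ((f.appLE (a ⁻¹ᵁ W) (a' ⁻¹ᵁ W') (le_f ha hle)).hom.FiniteType →
      (g.appLE (b ⁻¹ᵁ W) (b' ⁻¹ᵁ W') (le_f hb hle)).hom.FiniteType →
      (h.appLE W W' hle).hom.FiniteType) ∧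
    ((f.appLE (a ⁻¹ᵁ W) (a' ⁻¹ᵁ W') (le_f ha hle)).hom.Flat →
      (f.appLE (a ⁻¹ᵁ W) (a' ⁻¹ᵁ W') (le_f ha hle)).hom.FinitePresentation →
      (g.appLE (b ⁻¹ᵁ W) (b' ⁻¹ᵁ W') (le_f hb hle)).hom.Flat →
      (g.appLE (b ⁻¹ᵁ W) (b' ⁻¹ᵁ W') (le_f hb hle)).hom.FinitePresentation →
      (h.appLE W W' hle).hom.FinitePresentation) ∧
    ((f.appLE (a ⁻¹ᵁ W) (a' ⁻¹ᵁ W') (le_f ha hle)).hom.Smooth →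
      (g.appLE (b ⁻¹ᵁ W) (b' ⁻¹ᵁ W') (le_f hb hle)).hom.Smooth → (h.appLE W W' hle).hom.Smooth) := by
  have hN : IsAffineOpen (i ⁻¹ᵁ a ⁻¹ᵁ W) := hW.ha.preimage i
  have hN' : IsAffineOpen (i' ⁻¹ᵁ a' ⁻¹ᵁ W') := hW'.ha.preimage i'
  have hbase := (hp.pinchAt W).ringPinch hp.w (hp.preimage_le W) (i.app_surjective _ hW.ha)
  have htop := (hp'.pinchAt W').ringPinch hp'.w (hp'.preimage_le W') (i'.app_surjective _ hW'.ha)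
  have lec := le_c hX.w ha hle
  have c1 : a.app W ≫ f.appLE (a ⁻¹ᵁ W) (a' ⁻¹ᵁ W') (le_f ha hle) =
      h.appLE W W' hle ≫ a'.app W' := by
    rw [Scheme.Hom.app_eq_appLE, Scheme.Hom.app_eq_appLE, Scheme.Hom.appLE_comp_appLE,
      Scheme.Hom.appLE_comp_appLE]
    exact appLE_congr_hom ha.symm _ _ _ _
  have c2 : b.app W ≫ g.appLE (b ⁻¹ᵁ W) (b' ⁻¹ᵁ W') (le_f hb hle) =
      h.appLE W W' hle ≫ b'.app W' := by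
    rw [Scheme.Hom.app_eq_appLE, Scheme.Hom.app_eq_appLE, Scheme.Hom.appLE_comp_appLE,
      Scheme.Hom.appLE_comp_appLE]
    exact appLE_congr_hom hb.symm _ _ _ _
  have c3 : i.app (a ⁻¹ᵁ W) ≫ c.appLE (i ⁻¹ᵁ a ⁻¹ᵁ W) (i' ⁻¹ᵁ a' ⁻¹ᵁ W') lec =
      f.appLE (a ⁻¹ᵁ W) (a' ⁻¹ᵁ W') (le_f ha hle) ≫ i'.app (a' ⁻¹ᵁ W') := by
    rw [Scheme.Hom.app_eq_appLE, Scheme.Hom.app_eq_appLE, Scheme.Hom.appLE_comp_appLE,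
      Scheme.Hom.appLE_comp_appLE]
    exact appLE_congr_hom hX.w.symm _ _ _ _
  have c4 : j.appLE (b ⁻¹ᵁ W) (i ⁻¹ᵁ a ⁻¹ᵁ W) (hp.preimage_le W) ≫
      c.appLE (i ⁻¹ᵁ a ⁻¹ᵁ W) (i' ⁻¹ᵁ a' ⁻¹ᵁ W') lec =
      g.appLE (b ⁻¹ᵁ W) (b' ⁻¹ᵁ W') (le_f hb hle) ≫
        j'.appLE (b' ⁻¹ᵁ W') (i' ⁻¹ᵁ a' ⁻¹ᵁ W') (hp'.preimage_le W') := by
    rw [Scheme.Hom.appLE_comp_appLE, Scheme.Hom.appLE_comp_appLE]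
    exact appLE_congr_hom hY.w.symm _ _ _ _
  have hXpo : IsPushout (i.app (a ⁻¹ᵁ W)) (f.appLE (a ⁻¹ᵁ W) (a' ⁻¹ᵁ W') (le_f ha hle))
      (c.appLE (i ⁻¹ᵁ a ⁻¹ᵁ W) (i' ⁻¹ᵁ a' ⁻¹ᵁ W') lec) (i'.app (a' ⁻¹ᵁ W')) := by
    rw [Scheme.Hom.app_eq_appLE, Scheme.Hom.app_eq_appLE]
    refine isPushout_appLE_of_isPullback' hX hW.ha hN hW'.ha le_rfl (le_f ha hle) ?_ lec le_rfl
    exact (inf_eq_left.mpr lec).symm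
  have hYpo : IsPushout (j.appLE (b ⁻¹ᵁ W) (i ⁻¹ᵁ a ⁻¹ᵁ W) (hp.preimage_le W))
      (g.appLE (b ⁻¹ᵁ W) (b' ⁻¹ᵁ W') (le_f hb hle))
      (c.appLE (i ⁻¹ᵁ a ⁻¹ᵁ W) (i' ⁻¹ᵁ a' ⁻¹ᵁ W') lec)
      (j'.appLE (b' ⁻¹ᵁ W') (i' ⁻¹ᵁ a' ⁻¹ᵁ W') (hp'.preimage_le W')) := by
    refine isPushout_appLE_of_isPullback' hY hW.hb hN hW'.hb (hp.preimage_le W) (le_f hb hle) ?_
      lec (hp'.preimage_le W')
    have heq : i' ⁻¹ᵁ a' ⁻¹ᵁ W' = j' ⁻¹ᵁ b' ⁻¹ᵁ W' := by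
      rw [← Scheme.Hom.comp_preimage, ← Scheme.Hom.comp_preimage, hp'.w]
    rw [← heq]
    exact (inf_eq_left.mpr lec).symm
  exact cube _ _ _ _ _ _ _ _ _ _ _ _ hbase htop c1 c2 c3 c4 hXpo hYpo

end Chart

end Groth.Agent.H6.MilCube
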