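import Mathlib
import Groth.Prelude
import Groth.Agent.Lib.Helper6.MilCube2

universe u
open CategoryTheory CategoryTheory.Limits AlgebraicGeometry TopologicalSpace

set_option linter.unusedSectionVars false
set_option linter.unusedSimpArgs false
set_option linter.style.haveILetI false
namespace Groth.Agent.H6.MilCube

open Groth.Agent.H9.PIN

section IsoCover

variable {X Y : Scheme.{u}}

theorem isIso_of_cover (f : X ⟶ Y) {ι : Type*} (U : ι → Y.Opens)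
    (hU : ∀ y : Y, ∃ k, y ∈ U k)
    (h : ∀ k, IsAffineOpen (U k) ∧ IsAffineOpen (f ⁻¹ᵁ U k) ∧ Function.Bijective (f.app (U k))) :
    IsIso f := by
  have hsup : ⨆ k, ((⟨U k, (h k).1⟩ : Y.affineOpens) : Y.Opens) = ⊤ := by
    rw [eq_top_iff]
    intro y _
    obtain ⟨k, hk⟩ := hU y
    exact Opens.mem_iSup.mpr ⟨k, hk⟩
  refine HasAffineProperty.of_iSup_eq_top (P := MorphismProperty.isomorphisms Scheme)
    (fun k => (⟨U k, (h k).1⟩ : Y.affineOpens)) hsup (fun k => ?_)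
  refine ⟨(h k).2.1, ?_⟩
  have h1 : IsIso (f.app (U k)) := (ConcreteCategory.isIso_iff_bijective _).mpr (h k).2.2
  change IsIso (f ∣_ U k).appTop
  rw [morphismRestrict_appTop]
  haveI h2 : IsIso (f.app ((U k).ι ''ᵁ ⊤)) := by
    rw [Scheme.Opens.ι_image_top]
    exact h1
  haveI h3 : IsIso (X.presheaf.map
      (eqToHom (image_morphismRestrict_preimage f (U k) ⊤)).op) := inferInstance
  exact @IsIso.comp_isIso _ _ _ _ _ _ _ h2 h3

theorem isIso_of_cover' (f : X ⟶ Y) {ι : Type*} (U : ι → Y.Opens) (V : ι → X.Opens)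
    (hV : ∀ k, V k = f ⁻¹ᵁ U k) (hU : ∀ y : Y, ∃ k, y ∈ U k)
    (h : ∀ k, IsAffineOpen (U k) ∧ IsAffineOpen (V k) ∧
      Function.Bijective (f.appLE (U k) (V k) (hV k).le)) :
    IsIso f := by
  refine isIso_of_cover f U hU (fun k => ⟨(h k).1, by rw [← hV k]; exact (h k).2.1, ?_⟩)
  obtain ⟨φ, hφ⟩ := appLE_eq_app_of_eq f (U k) (V k) (hV k) (hV k).le
  have hb := (h k).2.2
  rw [hφ] at hb
  have hφb : Function.Bijective φ.hom := ConcreteCategory.bijective_of_isIso φ.hom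
  have : (f.app (U k) ≫ φ.hom : _ → _) = φ.hom ∘ f.app (U k) := by
    ext x; rfl
  rw [this] at hb
  exact (Function.Bijective.of_comp_iff' hφb _).mp hb

end IsoCover

section Aux

theorem finite_appLE_of_isFinite {X Y : Scheme.{u}} (f : X ⟶ Y) [IsFinite f] {U : Y.Opens}
    (hU : IsAffineOpen U) {V : X.Opens} (hV : V = f ⁻¹ᵁ U) (e : V ≤ f ⁻¹ᵁ U) :
    (f.appLE U V e).hom.Finite := by
  obtain ⟨φ, hφ⟩ := appLE_eq_app_of_eq f U V hV e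
  rw [hφ, CommRingCat.hom_comp]
  exact RingHom.Finite.comp
    (RingHom.Finite.of_surjective _ (ConcreteCategory.bijective_of_isIso φ.hom).2)
    (f.finite_app _ hU)

theorem etale_holdsForLocalizationAway : RingHom.HoldsForLocalizationAway RingHom.Etale :=
  fun R S _ _ _ r _ => RingHom.etale_algebraMap.mpr (Algebra.Etale.of_isLocalizationAway r)

end Aux

section Global

variable {Z X Y P Z' X' Y' P' : Scheme.{u}} {i : Z ⟶ X} {j : Z ⟶ Y} {a : X ⟶ P} {b : Y ⟶ P}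
  {i' : Z' ⟶ X'} {j' : Z' ⟶ Y'} {a' : X' ⟶ P'} {b' : Y' ⟶ P'}
  {f : X' ⟶ X} {g : Y' ⟶ Y} {c : Z' ⟶ Z} {h : P' ⟶ P}

variable (hp : IsPinch i j a b) [IsClosedImmersion i] (hp' : IsPinch i' j' a' b')
  [IsClosedImmersion i'] (hX : IsPullback i' c f i) (hY : IsPullback j' c g j)
  (ha : a' ≫ h = f ≫ a) (hb : b' ≫ h = g ≫ b)
  {ι : Type*} (𝒲 : ι → P.Opens) (hcov : ∀ p : P, ∃ k, p ∈ 𝒲 k)
  (h𝒲 : ∀ k, Good a b (𝒲 k)) (h𝒲' : ∀ k, Good a' b' (h ⁻¹ᵁ 𝒲 k))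

include hp hp' hX hY ha hb hcov h𝒲 h𝒲'

theorem preimage_eq_f (k : ι) : a' ⁻¹ᵁ h ⁻¹ᵁ 𝒲 k = f ⁻¹ᵁ a ⁻¹ᵁ 𝒲 k := by
  rw [← Scheme.Hom.comp_preimage, ← Scheme.Hom.comp_preimage, ha]

theorem preimage_eq_g (k : ι) : b' ⁻¹ᵁ h ⁻¹ᵁ 𝒲 k = g ⁻¹ᵁ b ⁻¹ᵁ 𝒲 k := by
  rw [← Scheme.Hom.comp_preimage, ← Scheme.Hom.comp_preimage, hb]

/-- finiteness of the map of pinchings -/
theorem isFinite_of_charts [IsFinite f] [IsFinite g] : IsFinite h := by
  refine isFinite_of_cover h 𝒲 hcov (fun k => ⟨(h𝒲 k).hW, (h𝒲' k).hW, ?_⟩)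
  obtain ⟨-, -, hfin, -⟩ := chart_cube hp hp' hX hY ha hb (h𝒲 k) (h𝒲' k) le_rfl
  rw [Scheme.Hom.app_eq_appLE]
  refine hfin ?_ ?_
  · exact finite_appLE_of_isFinite f (h𝒲 k).ha
      (preimage_eq_f hp hp' hX hY ha hb 𝒲 hcov h𝒲 h𝒲' k) _
  · exact finite_appLE_of_isFinite g (h𝒲 k).hb
      (preimage_eq_g hp hp' hX hY ha hb 𝒲 hcov h𝒲 h𝒲' k) _

/-- étaleness of the map of pinchings -/
theorem etale_of_charts [Etale f] [Etale g] : Etale h := by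
  rw [HasRingHomProperty.iff_exists_appLE (P := @Etale)
    (RingHom.Etale.stableUnderComposition.stableUnderCompositionWithLocalizationAway
      etale_holdsForLocalizationAway).1]
  intro w
  obtain ⟨k, hk⟩ := hcov (h w)
  refine ⟨⟨𝒲 k, (h𝒲 k).hW⟩, ⟨h ⁻¹ᵁ 𝒲 k, (h𝒲' k).hW⟩, hk, le_rfl, ?_⟩
  obtain ⟨-, -, -, het, -⟩ := chart_cube hp hp' hX hY ha hb (h𝒲 k) (h𝒲' k) le_rfl
  refine het ?_ ?_
  · exact HasRingHomProperty.appLE (P := @Etale) _ inferInstance ⟨_, (h𝒲 k).ha⟩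
      ⟨_, (h𝒲' k).ha⟩ _
  · exact HasRingHomProperty.appLE (P := @Etale) _ inferInstance ⟨_, (h𝒲 k).hb⟩
      ⟨_, (h𝒲' k).hb⟩ _

end Global

end Groth.Agent.H6.MilCube
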