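import Mathlib
import Groth.Prelude
import Groth.Agent.Lib.Helper6.MilCube3

universe u
open CategoryTheory CategoryTheory.Limits AlgebraicGeometry TopologicalSpace

set_option linter.unusedSectionVars false
set_option linter.unusedSimpArgs false
set_option linter.style.haveILetI false
namespace Groth.Agent.H6.MilCube

open Groth.Agent.H9.PIN

section PbOfPo

variable {X P X' P' : Scheme.{u}} {a : X ⟶ P} {a' : X' ⟶ P'} {f : X' ⟶ X} {h : P' ⟶ P}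

theorem le_f' (ha : a' ≫ h = f ≫ a) (W : P.Opens) : a' ⁻¹ᵁ h ⁻¹ᵁ W ≤ f ⁻¹ᵁ a ⁻¹ᵁ W := by
  rw [← Scheme.Hom.comp_preimage, ← Scheme.Hom.comp_preimage, ha]

/-- a commutative square of schemes which is, chartwise over an affine cover of the base, a pushout
square of rings, is cartesian. -/
theorem isPullback_of_isPushout_charts (ha : a' ≫ h = f ≫ a) {ι : Type*} (𝒲 : ι → P.Opens)
    (hcov : ∀ p : P, ∃ k, p ∈ 𝒲 k)
    (h1 : ∀ k, IsAffineOpen (𝒲 k)) (h2 : ∀ k, IsAffineOpen (a ⁻¹ᵁ 𝒲 k))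
    (h3 : ∀ k, IsAffineOpen (h ⁻¹ᵁ 𝒲 k)) (h4 : ∀ k, IsAffineOpen (a' ⁻¹ᵁ h ⁻¹ᵁ 𝒲 k))
    (hpo : ∀ k, IsPushout (a.app (𝒲 k)) (h.appLE (𝒲 k) (h ⁻¹ᵁ 𝒲 k) le_rfl)
      (f.appLE (a ⁻¹ᵁ 𝒲 k) (a' ⁻¹ᵁ h ⁻¹ᵁ 𝒲 k) (le_f' ha (𝒲 k))) (a'.app (h ⁻¹ᵁ 𝒲 k))) :
    IsPullback a' f h a := by
  let m : X' ⟶ pullback h a := pullback.lift a' f ha
  have hm1 : m ≫ pullback.fst h a = a' := pullback.lift_fst _ _ _
  have hm2 : m ≫ pullback.snd h a = f := pullback.lift_snd _ _ _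
  let U : ι → (pullback h a).Opens := fun k =>
    pullback.snd h a ⁻¹ᵁ a ⁻¹ᵁ 𝒲 k ⊓ pullback.fst h a ⁻¹ᵁ h ⁻¹ᵁ 𝒲 k
  let V : ι → X'.Opens := fun k => a' ⁻¹ᵁ h ⁻¹ᵁ 𝒲 k
  have hpb : IsPullback (pullback.snd h a) (pullback.fst h a) a h :=
    (IsPullback.of_hasPullback h a).flip
  have hV : ∀ k, V k = m ⁻¹ᵁ U k := by
    intro k
    change a' ⁻¹ᵁ h ⁻¹ᵁ 𝒲 k = m ⁻¹ᵁ (pullback.snd h a ⁻¹ᵁ a ⁻¹ᵁ 𝒲 k ⊓
      pullback.fst h a ⁻¹ᵁ h ⁻¹ᵁ 𝒲 k)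
    rw [Scheme.Hom.preimage_inf, ← Scheme.Hom.comp_preimage m, ← Scheme.Hom.comp_preimage m,
      hm1, hm2]
    have : f ⁻¹ᵁ a ⁻¹ᵁ 𝒲 k = a' ⁻¹ᵁ h ⁻¹ᵁ 𝒲 k := by
      rw [← Scheme.Hom.comp_preimage, ← Scheme.Hom.comp_preimage, ha]
    rw [this, inf_idem]
  haveI : IsIso m := by
    refine isIso_of_cover' m U V hV ?_ (fun k => ⟨?_, h4 k, ?_⟩)
    · intro q
      obtain ⟨k, hk⟩ := hcov (h (pullback.fst h a q))
      refine ⟨k, ?_, hk⟩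
      change a (pullback.snd h a q) ∈ 𝒲 k
      have : a (pullback.snd h a q) = h (pullback.fst h a q) := by
        rw [← Scheme.Hom.comp_apply, ← Scheme.Hom.comp_apply, pullback.condition]
      rw [this]
      exact hk
    · exact isAffineOpen_of_isPullback hpb (h1 k) (h3 k) (h2 k) le_rfl le_rfl
    · have e₁ : U k ≤ pullback.fst h a ⁻¹ᵁ h ⁻¹ᵁ 𝒲 k := inf_le_right
      have e₂ : U k ≤ pullback.snd h a ⁻¹ᵁ a ⁻¹ᵁ 𝒲 k := inf_le_left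
      have po₁ := isPushout_appLE_of_isPullback' hpb (h1 k) (h3 k) (h2 k) le_rfl le_rfl
        (U' := U k) rfl e₁ e₂
      have po₂ := (hpo k).flip
      rw [Scheme.Hom.app_eq_appLE (f := a)] at po₂
      let e := po₁.isoIsPushout _ _ po₂
      have he1 : (pullback.fst h a).appLE (h ⁻¹ᵁ 𝒲 k) (U k) e₁ ≫ e.hom =
          a'.app (h ⁻¹ᵁ 𝒲 k) := po₁.inl_isoIsPushout_hom _ _ po₂
      have he2 : (pullback.snd h a).appLE (a ⁻¹ᵁ 𝒲 k) (U k) e₂ ≫ e.hom =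
          f.appLE (a ⁻¹ᵁ 𝒲 k) (a' ⁻¹ᵁ h ⁻¹ᵁ 𝒲 k) (le_f' ha (𝒲 k)) :=
        po₁.inr_isoIsPushout_hom _ _ po₂
      have hme : m.appLE (U k) (V k) (hV k).le = e.hom := by
        refine po₁.hom_ext ?_ ?_
        · rw [he1, Scheme.Hom.appLE_comp_appLE, Scheme.Hom.app_eq_appLE]
          exact appLE_congr_hom hm1 _ _ _ _
        · rw [he2, Scheme.Hom.appLE_comp_appLE]
          exact appLE_congr_hom hm2 _ _ _ _
      rw [hme]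
      exact ConcreteCategory.bijective_of_isIso e.hom
  exact IsPullback.of_iso_pullback ⟨ha⟩ (asIso m) hm1 hm2

end PbOfPo

section Global2

variable {Z X Y P Z' X' Y' P' : Scheme.{u}} {i : Z ⟶ X} {j : Z ⟶ Y} {a : X ⟶ P} {b : Y ⟶ P}
  {i' : Z' ⟶ X'} {j' : Z' ⟶ Y'} {a' : X' ⟶ P'} {b' : Y' ⟶ P'}
  {f : X' ⟶ X} {g : Y' ⟶ Y} {c : Z' ⟶ Z} {h : P' ⟶ P}

variable (hp : IsPinch i j a b) [IsClosedImmersion i] (hp' : IsPinch i' j' a' b')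
  [IsClosedImmersion i'] (hX : IsPullback i' c f i) (hY : IsPullback j' c g j)
  (ha : a' ≫ h = f ≫ a) (hb : b' ≫ h = g ≫ b)
  {ι : Type*} (𝒲 : ι → P.Opens) (hcov : ∀ p : P, ∃ k, p ∈ 𝒲 k)
  (h𝒲 : ∀ k, Good a b (𝒲 k)) (h𝒲' : ∀ k, Good a' b' (h ⁻¹ᵁ 𝒲 k))

include hp hp' hX hY ha hb hcov h𝒲 h𝒲'

/-- the map of pinchings restricts to the given maps on the two branches -/
theorem isPullback_of_charts : IsPullback a' f h a ∧ IsPullback b' g h b := by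
  constructor
  · refine isPullback_of_isPushout_charts ha 𝒲 hcov (fun k => (h𝒲 k).hW) (fun k => (h𝒲 k).ha)
      (fun k => (h𝒲' k).hW) (fun k => (h𝒲' k).ha) (fun k => ?_)
    exact (chart_cube hp hp' hX hY ha hb (h𝒲 k) (h𝒲' k) le_rfl).1
  · refine isPullback_of_isPushout_charts hb 𝒲 hcov (fun k => (h𝒲 k).hW) (fun k => (h𝒲 k).hb)
      (fun k => (h𝒲' k).hW) (fun k => (h𝒲' k).hb) (fun k => ?_)
    exact (chart_cube hp hp' hX hY ha hb (h𝒲 k) (h𝒲' k) le_rfl).2.1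

end Global2

end Groth.Agent.H6.MilCube
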