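import Mathlib
import Groth.Prelude
import Groth.Agent.Lib.Helper6.MilCube4
import Groth.Agent.Lib.Helper9.Misc.AVD4

universe u
open CategoryTheory CategoryTheory.Limits AlgebraicGeometry TopologicalSpace

set_option linter.unusedSectionVars false
set_option linter.unusedSimpArgs false
set_option linter.style.haveILetI false
namespace Groth.Agent.H6.MilCube

open Groth.Agent.H9.PIN Groth.Agent.H9.AVD

theorem IsPinch.opens_ext {Z X Y P : Scheme.{u}} {i : Z ⟶ X} {j : Z ⟶ Y} {a : X ⟶ P} {b : Y ⟶ P}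
    (hp : IsPinch i j a b) (O₁ O₂ : P.Opens) (ha : a ⁻¹ᵁ O₁ = a ⁻¹ᵁ O₂)
    (hb : b ⁻¹ᵁ O₁ = b ⁻¹ᵁ O₂) : O₁ = O₂ := by
  ext p
  rcases hp.surj p with ⟨x, rfl⟩ | ⟨y, rfl⟩
  · change x ∈ a ⁻¹ᵁ O₁ ↔ x ∈ a ⁻¹ᵁ O₂
    rw [ha]
  · change y ∈ b ⁻¹ᵁ O₁ ↔ y ∈ b ⁻¹ᵁ O₂
    rw [hb]

section Glue

variable {Z X Y P : Scheme.{u}} (i : Z ⟶ X) [IsClosedImmersion i] (j : Z ⟶ Y) [IsIntegralHom j]
  (haff : ∀ y : Y, ∃ U : X.Opens, IsAffineOpen U ∧ j ⁻¹' {y} ⊆ (i ⁻¹ᵁ U : Set ↑Z))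
  (a : X ⟶ P) (b : Y ⟶ P) (hpo : IsPushout i j a b)

include haff hpo

/-- **Milnor patching for finite étale covers over a pinching** (scheme form). -/
theorem exists_glue {X' Y' Z' : Scheme.{u}} (f : X' ⟶ X) (g : Y' ⟶ Y) [IsFinite f] [Etale f]
    [IsFinite g] [Etale g] (i' : Z' ⟶ X') (j' : Z' ⟶ Y') (c : Z' ⟶ Z)
    (hX : IsPullback i' c f i) (hY : IsPullback j' c g j) :
    ∃ (P' : Scheme.{u}) (h : P' ⟶ P) (a' : X' ⟶ P') (b' : Y' ⟶ P'),
      IsFinite h ∧ Etale h ∧ IsPullback a' f h a ∧ IsPullback b' g h b := by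
  obtain ⟨hp, W, hW, hcov⟩ := isPinch_of_isPushout (exists_cpair_of_integral i j haff) hpo
  haveI : IsClosedImmersion i' :=
    MorphismProperty.of_isPullback (P := @IsClosedImmersion) hX.flip inferInstance
  haveI : IsIntegralHom j' :=
    MorphismProperty.of_isPullback (P := @IsIntegralHom) hY.flip inferInstance
  -- compatible pairs upstairs
  have haff' : ∀ y' : Y', ∃ U' : X'.Opens, IsAffineOpen U' ∧
      j' ⁻¹' {y'} ⊆ (i' ⁻¹ᵁ U' : Set ↑Z') := by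
    intro y'
    obtain ⟨U₀, hU₀, hsub⟩ := haff (g y')
    refine ⟨f ⁻¹ᵁ U₀, hU₀.preimage f, ?_⟩
    intro z' hz'
    have hz'' : j' z' = y' := hz'
    have h1 : j (c z') = g y' := by
      rw [← hz'', ← Scheme.Hom.comp_apply, ← Scheme.Hom.comp_apply, hY.w]
    have h2 : c z' ∈ (i ⁻¹ᵁ U₀ : Set ↑Z) := hsub h1
    change f (i' z') ∈ U₀
    rw [← Scheme.Hom.comp_apply, hX.w, Scheme.Hom.comp_apply]
    exact h2
  obtain ⟨P', a', b', hp', W', hW', hcov'⟩ :=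
    exists_isPinch (exists_cpair_of_integral i' j' haff')
  -- the map of pinchings
  have hcomm : i' ≫ f ≫ a = j' ≫ g ≫ b := by
    rw [← Category.assoc, hX.w, ← Category.assoc j', hY.w, Category.assoc, Category.assoc, hpo.w]
  let h : P' ⟶ P := hp'.isPushout.desc (f ≫ a) (g ≫ b) hcomm
  have ha : a' ≫ h = f ≫ a := hp'.isPushout.inl_desc _ _ _
  have hb : b' ≫ h = g ≫ b := hp'.isPushout.inr_desc _ _ _
  -- charts
  have h𝒲 : ∀ k, Good a b (W k) := fun k => ⟨(hW k).1, (hW k).2.1, (hW k).2.2⟩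
  have h𝒲' : ∀ k, Good a' b' (h ⁻¹ᵁ W k) := by
    intro k
    let κ : CPair i' j' :=
      { U := f ⁻¹ᵁ a ⁻¹ᵁ W k
        V := g ⁻¹ᵁ b ⁻¹ᵁ W k
        hU := (hW k).2.1.preimage f
        hV := (hW k).2.2.preimage g
        h := by
          rw [← Scheme.Hom.comp_preimage, ← Scheme.Hom.comp_preimage, ← Scheme.Hom.comp_preimage,
            ← Scheme.Hom.comp_preimage, Category.assoc, Category.assoc, hcomm] }
    have e1 : a' ⁻¹ᵁ h ⁻¹ᵁ W k = f ⁻¹ᵁ a ⁻¹ᵁ W k := by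
      rw [← Scheme.Hom.comp_preimage, ← Scheme.Hom.comp_preimage, ha]
    have e2 : b' ⁻¹ᵁ h ⁻¹ᵁ W k = g ⁻¹ᵁ b ⁻¹ᵁ W k := by
      rw [← Scheme.Hom.comp_preimage, ← Scheme.Hom.comp_preimage, hb]
    have heq : h ⁻¹ᵁ W k = W' κ :=
      IsPinch.opens_ext hp' _ _ (e1.trans (hW' κ).2.1.symm) (e2.trans (hW' κ).2.2.symm)
    refine ⟨?_, ?_, ?_⟩
    · rw [heq]; exact (hW' κ).1
    · rw [e1]; exact κ.hU
    · rw [e2]; exact κ.hV
  refine ⟨P', h, a', b', ?_, ?_, ?_⟩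
  · exact isFinite_of_charts hp hp' hX hY ha hb W hcov h𝒲 h𝒲'
  · exact etale_of_charts hp hp' hX hY ha hb W hcov h𝒲 h𝒲'
  · exact isPullback_of_charts hp hp' hX hY ha hb W hcov h𝒲 h𝒲'

theorem s1186 (U : FEt.Cat X) (V : FEt.Cat Y)
    (e : (FEt.restrict i).obj U ≅ (FEt.restrict j).obj V) :
    ∃ T : FEt.Cat P, Nonempty ((FEt.restrict a).obj T ≅ U) ∧
      Nonempty ((FEt.restrict b).obj T ≅ V) := by
  haveI : IsFinite U.hom := U.prop.1
  haveI : Etale U.hom := U.prop.2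
  haveI : IsFinite V.hom := V.prop.1
  haveI : Etale V.hom := V.prop.2
  let eL : pullback U.hom i ≅ pullback V.hom j :=
    (MorphismProperty.Over.forget _ _ _ ⋙ Over.forget _).mapIso e
  have heL : eL.hom ≫ pullback.snd V.hom j = pullback.snd U.hom i := Over.w e.hom.hom
  have hX : IsPullback (pullback.fst U.hom i) (pullback.snd U.hom i) U.hom i :=
    IsPullback.of_hasPullback _ _
  have hY : IsPullback (eL.hom ≫ pullback.fst V.hom j) (pullback.snd U.hom i) V.hom j := by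
    refine IsPullback.of_iso_pullback ⟨?_⟩ eL rfl heL
    rw [Category.assoc, pullback.condition, ← Category.assoc, heL]
  obtain ⟨P', h, a', b', hfin, het, hpa, hpb⟩ :=
    exists_glue i j haff a b hpo U.hom V.hom _ _ _ hX hY
  let T : FEt.Cat P := MorphismProperty.Over.mk ⊤ h ⟨hfin, het⟩
  refine ⟨T, ⟨MorphismProperty.Over.isoMk hpa.isoPullback.symm ?_⟩,
    ⟨MorphismProperty.Over.isoMk hpb.isoPullback.symm ?_⟩⟩
  · exact hpa.isoPullback_inv_snd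
  · exact hpb.isoPullback_inv_snd

end Glue

end Groth.Agent.H6.MilCube
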