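import Mathlib
import Groth.Prelude
import Groth.Agent.Lib.Helper6.FEtDim1A
import Groth.Agent.Lib.Helper6.FEtDim1C
import Groth.Agent.Lib.Helper6.MilCube5

universe u
open CategoryTheory CategoryTheory.Limits AlgebraicGeometry TopologicalSpace

set_option linter.unusedSectionVars false
set_option linter.unusedSimpArgs false
set_option linter.style.haveILetI false
namespace Groth.Agent.H6.FEtDim1

open Groth.Agent.H6.FEtThick Groth.Agent.H6.MilCube Groth.Agent.H9.PIN

section Core

variable (k : Type u) [Field k] [IsSepClosed k]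

instance isFinite_specMap_pi (n : ℕ) :
    IsFinite (Spec.map (CommRingCat.ofHom (algebraMap k (Fin n → k)))) := by
  rw [IsFinite.SpecMap_iff]
  exact RingHom.finite_algebraMap.mpr inferInstance

instance etale_specMap_pi (n : ℕ) :
    Etale (Spec.map (CommRingCat.ofHom (algebraMap k (Fin n → k)))) := by
  rw [HasRingHomProperty.Spec_iff (P := @Etale)]
  exact RingHom.etale_algebraMap.mpr inferInstance

/-- gluing a finite étale cover of `X` with a trivial cover of `Z'` along a discrete
intersection. -/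
theorem lifts_of_isPushout {Dd X Z' P : Scheme.{u}} (iD : Dd ⟶ X) [IsClosedImmersion iD]
    (jD : Dd ⟶ Z') [IsClosedImmersion jD] (a : X ⟶ P) (b : Z' ⟶ P) (hpo : IsPushout iD jD a b)
    [DiscreteTopology Dd] (aD : Dd ⟶ Spec (CommRingCat.of k)) [LocallyOfFiniteType aD]
    (c' : Z' ⟶ Spec (CommRingCat.of k)) [ConnectedSpace X] : Lifts a := by
  intro W π hfin het
  have hlc := Scheme.Hom.isLocallyConstant_finrank π
  obtain ⟨x₀⟩ : Nonempty X := inferInstance
  obtain ⟨n, hn⟩ : ∃ n, ∀ x, π.finrank x = n :=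
    ⟨π.finrank x₀, fun x => hlc.apply_eq_of_preconnectedSpace x x₀⟩
  let g : pullback (Spec.map (CommRingCat.ofHom (algebraMap k (Fin n → k)))) c' ⟶ Z' :=
    pullback.snd _ _
  have hg : ∀ y, g.finrank y = n := by
    intro y
    rw [Scheme.Hom.finrank_pullback_snd, finrank_specMap_pi]
  let p₁ : pullback π iD ⟶ Dd := pullback.snd π iD
  let p₂ : pullback g jD ⟶ Dd := pullback.snd g jD
  obtain ⟨e, he⟩ := exists_iso_of_finrank_eq k aD p₁ p₂ (fun d => by
    rw [Scheme.Hom.finrank_pullback_snd, Scheme.Hom.finrank_pullback_snd, hn, hg])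
  have hX : IsPullback (pullback.fst π iD) p₁ π iD := IsPullback.of_hasPullback _ _
  have hY : IsPullback (e.hom ≫ pullback.fst g jD) p₁ g jD := by
    refine IsPullback.of_iso_pullback ⟨?_⟩ e rfl he
    rw [Category.assoc, pullback.condition, ← Category.assoc, he]
  have haff : ∀ y : Z', ∃ U : X.Opens, IsAffineOpen U ∧
      jD ⁻¹' {y} ⊆ (iD ⁻¹ᵁ U : Set ↑Dd) := by
    intro y
    by_cases hy : ∃ z, jD z = y
    · obtain ⟨z, hz⟩ := hy
      obtain ⟨U, hU, hzU, -⟩ := exists_isAffineOpen_mem_and_subset (x := iD z) (U := ⊤) trivial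
      refine ⟨U, hU, ?_⟩
      intro z' hz'
      have : z' = z := jD.isClosedEmbedding.injective ((show jD z' = y from hz').trans hz.symm)
      rw [this]
      exact hzU
    · refine ⟨⊥, isAffineOpen_bot X, ?_⟩
      intro z' hz'
      exact absurd ⟨z', hz'⟩ hy
  obtain ⟨P', h, a', b', hfin', het', hpa, -⟩ :=
    exists_glue iD jD haff a b hpo π g (pullback.fst π iD) (e.hom ≫ pullback.fst g jD) p₁ hX hY
  exact ⟨P', h, a', hfin', het', hpa⟩

end Core

section Main

variable (k : Type u) [Field k] [IsSepClosed k]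

theorem lifts_comp {X Y Z : Scheme.{u}} (f : X ⟶ Y) (g : Y ⟶ Z) (hf : Lifts f) (hg : Lifts g) :
    Lifts (f ≫ g) := by
  intro W π hfin het
  obtain ⟨T₁, p₁, q₁, hfin₁, het₁, hpb₁⟩ := hf W π hfin het
  obtain ⟨T₂, p₂, q₂, hfin₂, het₂, hpb₂⟩ := hg T₁ p₁ hfin₁ het₁
  exact ⟨T₂, p₂, q₁ ≫ q₂, hfin₂, het₂, hpb₁.paste_horiz hpb₂⟩

/-- **S3500**, for the closed subscheme defined by an ideal sheaf. -/
theorem lifts_subschemeι {Z : Scheme.{u}} (a : Z ⟶ Spec (CommRingCat.of k))
    [LocallyOfFiniteType a] (hdim : topologicalKrullDim Z ≤ 1) (I : Z.IdealSheafData)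
    [ConnectedSpace I.subscheme] : Lifts I.subschemeι := by
  haveI : IsLocallyNoetherian Z := LocallyOfFiniteType.isLocallyNoetherian a
  let C : Closeds Z := ⟨closure ((I.support : Set Z)ᶜ), isClosed_closure⟩
  let J : Z.IdealSheafData := Scheme.IdealSheafData.vanishingIdeal C
  have hJ : (J.support : Set Z) = closure ((I.support : Set Z)ᶜ) :=
    Scheme.IdealSheafData.coe_support_vanishingIdeal C
  -- the intersection is discrete
  let ιD := (I ⊔ J).subschemeι
  have hD : ∀ d : (I ⊔ J).subscheme, ιD d ∈ (I.support : Set Z) ∧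
      ιD d ∈ closure ((I.support : Set Z)ᶜ) := by
    intro d
    have h1 : ιD d ∈ ((I ⊔ J).support : Set Z) := by
      rw [← Scheme.IdealSheafData.range_subschemeι]; exact ⟨d, rfl⟩
    rw [Scheme.IdealSheafData.support_sup] at h1
    exact ⟨h1.1, hJ ▸ h1.2⟩
  haveI : LocallyOfFiniteType (ιD ≫ a) := inferInstance
  haveI : IsLocallyNoetherian (I ⊔ J).subscheme :=
    LocallyOfFiniteType.isLocallyNoetherian (ιD ≫ a)
  haveI : DiscreteTopology (I ⊔ J).subscheme := by
    refine discreteTopology_of_isClosed_singleton (fun d => ?_)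
    have h1 : IsClosed ({ιD d} : Set Z) :=
      isClosed_singleton_of_mem_closure_compl hdim (hD d).1 (hD d).2 I.support.isClosed
    have h2 : ({d} : Set (I ⊔ J).subscheme) = ιD ⁻¹' {ιD d} := by
      ext d'
      simp only [Set.mem_singleton_iff, Set.mem_preimage]
      exact ⟨fun h => by rw [h], fun h => ιD.isClosedEmbedding.injective h⟩
    rw [h2]
    exact h1.preimage ιD.continuous
  -- the pushout square
  have hpo := S9383_main Z I J
  have hcore : Lifts (Scheme.IdealSheafData.inclusion (inf_le_left : I ⊓ J ≤ I)) :=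
    lifts_of_isPushout k _ _ _ _ hpo (ιD ≫ a) (J.subschemeι ≫ a)
  -- the union is everything
  haveI : Surjective (I ⊓ J).subschemeι := by
    refine ⟨fun z => ?_⟩
    have hz : z ∈ ((I ⊓ J).support : Set Z) := by
      by_cases hzI : z ∈ (I.support : Set Z)
      · exact Scheme.IdealSheafData.support_antitone (inf_le_left : I ⊓ J ≤ I) hzI
      · have : z ∈ (J.support : Set Z) := by
          rw [hJ]; exact subset_closure hzI
        exact Scheme.IdealSheafData.support_antitone (inf_le_right : I ⊓ J ≤ J) this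
    rw [← Scheme.IdealSheafData.range_subschemeι] at hz
    exact hz
  have hthick : Lifts (I ⊓ J).subschemeι := lifts_thickening _
  have := lifts_comp _ _ hcore hthick
  rwa [Scheme.IdealSheafData.inclusion_subschemeι] at this

/-- **S3500**. -/
theorem s3500 {Z X : Scheme.{u}} (a : Z ⟶ Spec (CommRingCat.of k)) [LocallyOfFiniteType a]
    (hdim : topologicalKrullDim Z ≤ 1) (i : X ⟶ Z) [IsClosedImmersion i] [ConnectedSpace X] :
    (FEt.restrict i).EssSurj := by
  refine essSurj_of_lifts i ?_
  haveI : ConnectedSpace i.ker.subscheme :=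
    (Scheme.homeoOfIso (asIso i.toImage)).surjective.connectedSpace
      (Scheme.homeoOfIso (asIso i.toImage)).continuous
  refine lifts_of_arrow_iso i i.ker.subschemeι (asIso i.toImage) (Iso.refl Z) ?_
    (lifts_subschemeι k a hdim i.ker)
  rw [Iso.refl_hom, Category.comp_id, asIso_hom]
  exact i.toImage_imageι.symm

end Main

end Groth.Agent.H6.FEtDim1
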