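import Mathlib
import Groth.Prelude
import Groth.Agent.Lib.Helper6.FEtFF2

universe u
open CategoryTheory CategoryTheory.Limits AlgebraicGeometry TopologicalSpace Opposite

set_option linter.unusedSectionVars false
set_option linter.unusedSimpArgs false
set_option linter.style.haveILetI false
namespace Groth.Agent.H6.FEtFF

lemma isOpen_connectedComponent_of_noetherian' {α : Type*} [TopologicalSpace α] [NoetherianSpace α]
    (x : α) : IsOpen (connectedComponent x) := by
  have hfin := NoetherianSpace.finite_irreducibleComponents (α := α)
  have hc : (connectedComponent x)ᶜ =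
      ⋃ Z ∈ {Z ∈ irreducibleComponents α | ¬ Z ⊆ connectedComponent x}, Z := by
    ext y
    simp only [Set.mem_compl_iff, Set.mem_iUnion, Set.mem_ofPred_eq, exists_prop]
    constructor
    · intro hy
      exact ⟨irreducibleComponent y, ⟨irreducibleComponent_mem_irreducibleComponents y,
        fun h => hy (h mem_irreducibleComponent)⟩, mem_irreducibleComponent⟩
    · rintro ⟨Z, ⟨hZ, hZx⟩, hyZ⟩ hy
      apply hZx
      have hpre : IsPreconnected Z := hZ.1.2.isPreconnected
      have h1 : Z ⊆ connectedComponent y := hpre.subset_connectedComponent hyZ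
      rwa [← connectedComponent_eq hy] at h1
  rw [← isClosed_compl_iff, hc]
  exact (hfin.subset (fun Z hZ => hZ.1)).isClosed_biUnion
    (fun Z hZ => isClosed_of_mem_irreducibleComponents Z hZ.1)

/-- if `π₀(φ)` is surjective, a clopen subset containing the range of `φ` is everything. -/
lemma eq_univ_of_connectedComponentsMap_surjective {α β : Type*} [TopologicalSpace α]
    [TopologicalSpace β] {φ : α → β} (hφ : Continuous φ)
    (hs : Function.Surjective hφ.connectedComponentsMap) (Z : Set β) (hZ : IsClopen Z)
    (hr : Set.range φ ⊆ Z) : Z = Set.univ := by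
  rw [Set.eq_univ_iff_forall]
  intro b
  obtain ⟨a', ha'⟩ := hs (b : ConnectedComponents β)
  obtain ⟨a, rfl⟩ := ConnectedComponents.surjective_coe a'
  have h1 : ((φ a : β) : ConnectedComponents β) = (b : ConnectedComponents β) := ha'
  rw [ConnectedComponents.coe_eq_coe'] at h1
  have h2 : connectedComponent (φ a) ⊆ Z :=
    hZ.connectedComponent_subset (hr ⟨a, rfl⟩)
  have h3 : b ∈ connectedComponent (φ a) := by
    rw [← connectedComponent_eq h1]
    exact mem_connectedComponent
  exact h2 h3

/-- if `π₀(φ)` is injective and the connected components of the target are open, every clopen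
subset of the source is the preimage of a clopen subset. -/
lemma exists_clopen_preimage_of_connectedComponentsMap_injective {α β : Type*}
    [TopologicalSpace α] [TopologicalSpace β] {φ : α → β} (hφ : Continuous φ)
    (hopen : ∀ b : β, IsOpen (connectedComponent b))
    (hi : Function.Injective hφ.connectedComponentsMap) (Z' : Set α) (hZ' : IsClopen Z') :
    ∃ Z : Set β, IsClopen Z ∧ φ ⁻¹' Z = Z' := by
  let Z : Set β := ⋃ a ∈ Z', connectedComponent (φ a)
  have hZo : IsOpen Z := isOpen_biUnion fun a _ => hopen (φ a)
  have hZc : Zᶜ = ⋃ b ∈ Zᶜ, connectedComponent b := by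
    ext y
    simp only [Set.mem_compl_iff, Set.mem_iUnion, exists_prop]
    constructor
    · intro hy
      exact ⟨y, hy, mem_connectedComponent⟩
    · rintro ⟨b, hb, hyb⟩ hy
      apply hb
      obtain ⟨a, haZ, hya⟩ : ∃ a ∈ Z', y ∈ connectedComponent (φ a) := by
        simpa [Z] using hy
      have h1 : connectedComponent y = connectedComponent (φ a) := (connectedComponent_eq hya).symm
      have h2 : connectedComponent y = connectedComponent b := (connectedComponent_eq hyb).symm
      have : b ∈ connectedComponent (φ a) := by
        rw [← h1, h2]; exact mem_connectedComponent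
      simp only [Z, Set.mem_iUnion, exists_prop]
      exact ⟨a, haZ, this⟩
  have hZcl : IsClosed Z := by
    rw [← isOpen_compl_iff, hZc]
    exact isOpen_biUnion fun b _ => hopen b
  refine ⟨Z, ⟨hZcl, hZo⟩, ?_⟩
  ext a₁
  simp only [Set.mem_preimage, Z, Set.mem_iUnion, exists_prop]
  constructor
  · rintro ⟨a, haZ, h1⟩
    have h2 : ((φ a₁ : β) : ConnectedComponents β) = ((φ a : β) : ConnectedComponents β) := by
      rw [ConnectedComponents.coe_eq_coe']
      exact h1
    have h3 : hφ.connectedComponentsMap (a₁ : ConnectedComponents α) =
        hφ.connectedComponentsMap (a : ConnectedComponents α) := h2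
    have h4 := hi h3
    rw [ConnectedComponents.coe_eq_coe'] at h4
    exact hZ'.connectedComponent_subset haZ h4
  · intro ha₁
    exact ⟨a₁, ha₁, mem_connectedComponent⟩

theorem s14461 {X X₀ : Scheme.{u}} [IsNoetherian X]
    (i : X₀ ⟶ X) [IsClosedImmersion i]
    (h : ∀ Y : FEt.Cat X,
      Function.Bijective (pullback.fst Y.hom i).continuous.connectedComponentsMap) :
    (FEt.restrict i).Full ∧ (FEt.restrict i).Faithful := by
  refine full_faithful_of_clopen i ?_ ?_
  · intro Y Z hZ hr
    exact eq_univ_of_connectedComponentsMap_surjective _ (h Y).2 Z hZ hr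
  · intro Y Z' hZ'
    let π : Y.left ⟶ X := Y.hom
    haveI : IsFinite π := Y.prop.1
    haveI : IsLocallyNoetherian Y.left := LocallyOfFiniteType.isLocallyNoetherian π
    haveI : CompactSpace Y.left := QuasiCompact.compactSpace_of_compactSpace π
    haveI : IsNoetherian Y.left := {}
    haveI : NoetherianSpace Y.left := inferInstance
    exact exists_clopen_preimage_of_connectedComponentsMap_injective _
      (fun b => isOpen_connectedComponent_of_noetherian' (α := Y.left) b) (h Y).1 Z' hZ'

end Groth.Agent.H6.FEtFF
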