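import Mathlib
import Groth.Prelude
import Groth.Agent.Lib.Helper6.FEtFF2

universe u
open CategoryTheory CategoryTheory.Limits AlgebraicGeometry TopologicalSpace Opposite

set_option linter.unusedSectionVars false
set_option linter.unusedSimpArgs false
set_option linter.style.haveILetI false
namespace Groth.Agent.H6.FEtFF

/-- a scheme finite over a field has the discrete topology. -/
theorem discreteTopology_of_finite_over_field (k : Type u) [Field k] {Y : Scheme.{u}}
    (π : Y ⟶ Spec (CommRingCat.of k)) [IsFinite π] : DiscreteTopology Y := by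
  haveI : IsAffine Y := isAffine_of_isAffineHom π
  have hfin : (π.app ⊤).hom.Finite := IsFinite.finite_app (f := π) ⊤ (isAffineOpen_top _)
  haveI hart0 : IsArtinianRing Γ(Spec (CommRingCat.of k), ⊤) :=
    (Scheme.ΓSpecIso (CommRingCat.of k)).commRingCatIsoToRingEquiv.symm.isArtinianRing
  letI := (π.app ⊤).hom.toAlgebra
  haveI : Module.Finite Γ(Spec (CommRingCat.of k), ⊤) Γ(Y, π ⁻¹ᵁ ⊤) := hfin
  haveI hart : IsArtinianRing Γ(Y, π ⁻¹ᵁ ⊤) :=
    IsArtinianRing.of_finite Γ(Spec (CommRingCat.of k), ⊤) _
  have hart' : IsArtinianRing Γ(Y, ⊤) := hart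
  haveI : IsArtinianScheme (Spec Γ(Y, ⊤)) := inferInstance
  haveI : DiscreteTopology (Spec Γ(Y, ⊤)) := inferInstance
  exact (TopCat.homeoOfIso (Scheme.forgetToTop.mapIso Y.isoSpec)).isEmbedding.discreteTopology


/-- every point of a scheme finite over a field `k` is the image of a `k̄`-point. -/
theorem exists_geometric_point (k : Type u) [Field k] {Y : Scheme.{u}}
    (π : Y ⟶ Spec (CommRingCat.of k)) [IsFinite π] (y : Y) :
    ∃ ybar : Spec (CommRingCat.of (AlgebraicClosure k)) ⟶ Y, Set.range ybar.base = {y} ∧
      ybar ≫ π = Spec.map (CommRingCat.ofHom (algebraMap k (AlgebraicClosure k))) := by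
  haveI := discreteTopology_of_finite_over_field k π
  have hcl : IsClosed ({y} : Set Y) := isClosed_discrete _
  haveI : IsClosedImmersion (Y.fromSpecResidueField y) :=
    isClosed_singleton_iff_isClosedImmersion.mp hcl
  let ψ : CommRingCat.of k ⟶ Y.residueField y := Spec.preimage (Y.fromSpecResidueField y ≫ π)
  have hψ : Spec.map ψ = Y.fromSpecResidueField y ≫ π := Spec.map_preimage _
  have hfin : ψ.hom.Finite := by
    rw [← IsFinite.SpecMap_iff, hψ]
    infer_instance
  letI : Algebra k (Y.residueField y) := ψ.hom.toAlgebra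
  haveI : Module.Finite k (Y.residueField y) := hfin
  let ι : Y.residueField y →ₐ[k] AlgebraicClosure k := IsAlgClosed.lift
  refine ⟨Spec.map (CommRingCat.ofHom ι.toRingHom) ≫ Y.fromSpecResidueField y, ?_, ?_⟩
  · have hsurj : Function.Surjective (Spec.map (CommRingCat.ofHom ι.toRingHom)).base := by
      intro b
      haveI : Subsingleton (Spec (Y.residueField y)) :=
        inferInstanceAs (Subsingleton (PrimeSpectrum (Y.residueField y)))
      exact ⟨IsLocalRing.closedPoint (AlgebraicClosure k), Subsingleton.elim _ _⟩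
    rw [Scheme.Hom.comp_base, TopCat.coe_comp, Set.range_comp, hsurj.range_eq, Set.image_univ]
    exact Scheme.range_fromSpecResidueField y
  · rw [Category.assoc, ← hψ, ← Spec.map_comp]
    congr 1
    ext a
    exact ι.commutes a


theorem connectedSpace_of_iso {A B : Scheme.{u}} (e : A ≅ B) [ConnectedSpace A] :
    ConnectedSpace B := by
  have h := (TopCat.homeoOfIso (Scheme.forgetToTop.mapIso e))
  exact h.surjective.connectedSpace h.continuous

theorem isConnected_fibre (k : Type u) [Field k] {X : Scheme.{u}}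
    (f : X ⟶ Spec (CommRingCat.of k))
    [ConnectedSpace ↥(pullback f
      (Spec.map (CommRingCat.ofHom (algebraMap k (AlgebraicClosure k)))))]
    {Y : Scheme.{u}} (π : Y ⟶ Spec (CommRingCat.of k)) [IsFinite π] (y : Y) :
    _root_.IsConnected ((pullback.fst π f).base ⁻¹' {y}) := by
  obtain ⟨ybar, hr, hc⟩ := exists_geometric_point k π y
  have h1 : Set.range (pullback.snd ybar (pullback.fst π f)).base =
      (pullback.fst π f).base ⁻¹' {y} := by
    rw [← hr]
    exact Scheme.Pullback.range_snd ybar (pullback.fst π f)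
  let e : pullback f (Spec.map (CommRingCat.ofHom (algebraMap k (AlgebraicClosure k)))) ≅
      pullback ybar (pullback.fst π f) :=
    pullbackSymmetry _ _ ≪≫ pullback.congrHom hc.symm rfl ≪≫
      (pullbackRightPullbackFstIso π f ybar).symm
  haveI : ConnectedSpace ↥(pullback ybar (pullback.fst π f)) := connectedSpace_of_iso e
  rw [← h1]
  exact isConnected_range (pullback.snd ybar (pullback.fst π f)).continuous

theorem clopenInj_of_geomConnected (k : Type u) [Field k] {X : Scheme.{u}}
    (f : X ⟶ Spec (CommRingCat.of k))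
    [ConnectedSpace ↥(pullback f
      (Spec.map (CommRingCat.ofHom (algebraMap k (AlgebraicClosure k)))))]
    {Y : Scheme.{u}} (π : Y ⟶ Spec (CommRingCat.of k)) [IsFinite π] :
    ClopenInj (pullback.fst π f) := by
  intro Z _ hr
  rw [Set.eq_univ_iff_forall]
  intro y
  obtain ⟨x, hx⟩ := (isConnected_fibre k f π y).nonempty
  have hx' : (pullback.fst π f).base x = y := hx
  rw [← hx']
  exact hr ⟨x, rfl⟩

theorem clopenSurj_of_geomConnected (k : Type u) [Field k] {X : Scheme.{u}}
    (f : X ⟶ Spec (CommRingCat.of k))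
    [ConnectedSpace ↥(pullback f
      (Spec.map (CommRingCat.ofHom (algebraMap k (AlgebraicClosure k)))))]
    {Y : Scheme.{u}} (π : Y ⟶ Spec (CommRingCat.of k)) [IsFinite π] :
    ClopenSurj (pullback.fst π f) := by
  intro Z' hZ'
  haveI := discreteTopology_of_finite_over_field k π
  refine ⟨{y | (pullback.fst π f).base ⁻¹' {y} ⊆ Z'}, isClopen_discrete _, ?_⟩
  ext x
  simp only [Set.mem_preimage, Set.mem_ofPred_eq]
  constructor
  · intro h
    exact h rfl
  · intro hx
    have hconn := isConnected_fibre k f π ((pullback.fst π f).base x)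
    exact hconn.isPreconnected.subset_isClopen hZ' ⟨x, rfl, hx⟩

theorem s0268 (k : Type u) [Field k] {X : Scheme.{u}} (f : X ⟶ Spec (CommRingCat.of k))
    [ConnectedSpace ↥(pullback f
      (Spec.map (CommRingCat.ofHom (algebraMap k (AlgebraicClosure k)))))] :
    (FEt.restrict f).Full ∧ (FEt.restrict f).Faithful := by
  refine full_faithful_of_clopen f ?_ ?_
  · intro Y
    let π : Y.left ⟶ Spec (CommRingCat.of k) := Y.hom
    haveI : IsFinite π := Y.prop.1
    exact clopenInj_of_geomConnected k f π
  · intro Y
    let π : Y.left ⟶ Spec (CommRingCat.of k) := Y.hom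
    haveI : IsFinite π := Y.prop.1
    exact clopenSurj_of_geomConnected k f π

end Groth.Agent.H6.FEtFF
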