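import Mathlib
import Groth.Prelude
import Groth.Agent.Lib.Helper6.FEtFF2
import Groth.Agent.Lib.Helper6.BCS3

universe u
open CategoryTheory CategoryTheory.Limits AlgebraicGeometry TopologicalSpace Opposite

set_option linter.unusedSectionVars false
set_option linter.unusedSimpArgs false
set_option linter.style.haveILetI false
namespace Groth.Agent.H6.FEtFF

theorem clopenInj_of_app_top_injective {P Y : Scheme.{u}} (q : P ⟶ Y)
    (h : Function.Injective (q.app ⊤).hom) : ClopenInj q := by
  intro Z hZ hr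
  let Zo : Y.Opens := ⟨Z, hZ.isOpen⟩
  obtain ⟨e, he, heZ⟩ := ClopIdem.exists_idempotent_of_isClopen Y Zo hZ.isClosed
  have he' : IsIdempotentElem ((q.app ⊤).hom e) := by
    change (q.app ⊤).hom e * (q.app ⊤).hom e = (q.app ⊤).hom e
    rw [← map_mul, he.eq]
  have hb : P.basicOpen ((q.app ⊤).hom e) = ⊤ := by
    rw [← Scheme.preimage_basicOpen, heZ]
    ext x
    simp only [Opens.coe_top, Set.mem_univ, iff_true]
    exact hr ⟨x, rfl⟩
  have h1 : (q.app ⊤).hom e = 1 :=
    ClopIdem.eq_one_of_idempotent_of_basicOpen_eq_top P _ he' hb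
  have h2 : e = 1 := h (h1.trans (map_one _).symm)
  have h3 : Zo = ⊤ := by
    rw [← heZ, h2]
    exact Y.basicOpen_of_isUnit isUnit_one
  exact congrArg (fun O : Y.Opens => (O : Set Y)) h3

theorem clopenSurj_of_app_top_bijective {P Y : Scheme.{u}} (q : P ⟶ Y)
    (h : Function.Bijective (q.app ⊤).hom) : ClopenSurj q := by
  intro Z' hZ'
  let Zo' : P.Opens := ⟨Z', hZ'.isOpen⟩
  obtain ⟨e', he', heZ'⟩ := ClopIdem.exists_idempotent_of_isClopen P Zo' hZ'.isClosed
  obtain ⟨e, rfl⟩ := h.2 e'
  have he : IsIdempotentElem e := by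
    apply h.1
    rw [map_mul]
    exact he'.eq
  refine ⟨(Y.basicOpen e : Set Y),
    ⟨ClopIdem.isClosed_basicOpen_of_idempotent Y e he, (Y.basicOpen e).isOpen⟩, ?_⟩
  have h1 : q ⁻¹ᵁ Y.basicOpen e = P.basicOpen ((q.app ⊤).hom e) := Scheme.preimage_basicOpen q e
  exact congrArg (fun O : P.Opens => (O : Set P)) (h1.trans heZ')

theorem s7757 {X S : Scheme.{u}} (f : X ⟶ S)
    (hf : ∀ U : S.Opens, Function.Bijective (f.app U)) :
    (FEt.restrict f).Full ∧ (FEt.restrict f).Faithful := by
  have key : ∀ Y : FEt.Cat S, Function.Bijective ((pullback.fst Y.hom f).app ⊤).hom := by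
    intro Y
    let π : Y.left ⟶ S := Y.hom
    haveI : IsFinite π := Y.prop.1
    haveI : Etale π := Y.prop.2
    exact BCS.bijective_app_top_of_isPullback (IsPullback.of_hasPullback π f) hf
  refine full_faithful_of_clopen f ?_ ?_
  · intro Y
    exact clopenInj_of_app_top_injective _ (key Y).1
  · intro Y
    exact clopenSurj_of_app_top_bijective _ (key Y)

end Groth.Agent.H6.FEtFF
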