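import Mathlib
import Groth.Prelude
import Groth.Agent.Lib.Helper6.FEtFF2
import Groth.Agent.Lib.Helper6.HC1

universe u
open CategoryTheory CategoryTheory.Limits AlgebraicGeometry TopologicalSpace Opposite

set_option linter.unusedSectionVars false
set_option linter.unusedSimpArgs false
set_option linter.style.haveILetI false
namespace Groth.Agent.H6.FEtFF

/-- a closed map with connected fibres induces a bijection on clopen subsets. -/
theorem clopen_of_closed_connected_fibres {P T : Scheme.{u}} (q : P ⟶ T)
    (hcl : IsClosedMap q.base) (hfib : ∀ t : T, _root_.IsConnected (q.base ⁻¹' {t})) :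
    ClopenInj q ∧ ClopenSurj q := by
  have hsurj : Function.Surjective q.base := by
    intro t
    obtain ⟨x, hx⟩ := (hfib t).nonempty
    exact ⟨x, hx⟩
  constructor
  · intro Z _ hr
    rw [Set.eq_univ_iff_forall]
    intro t
    obtain ⟨x, rfl⟩ := hsurj t
    exact hr ⟨x, rfl⟩
  · intro Z' hZ'
    exact ⟨q.base '' Z', HC.isClopen_image hcl hsurj (fun t => (hfib t).isPreconnected) hZ',
      HC.clopen_saturated (fun t => (hfib t).isPreconnected) hZ'⟩

theorem connectedSpace_of_iso' {A B : Scheme.{u}} (e : A ≅ B) [ConnectedSpace A] :
    ConnectedSpace B := by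
  have h := (TopCat.homeoOfIso (Scheme.forgetToTop.mapIso e))
  exact h.surjective.connectedSpace h.continuous

/-- the fibre of `q` over a point `t` is connected as soon as the base change of `q` to a
geometric point over `t` is connected. -/
theorem isConnected_fibre_of_geometric {P T : Scheme.{u}} (q : P ⟶ T) (t : T)
    {Ω : Type u} [Field Ω] (tbar : Spec (CommRingCat.of Ω) ⟶ T)
    (ht : Set.range tbar.base = {t}) [ConnectedSpace ↥(pullback tbar q)] :
    _root_.IsConnected (q.base ⁻¹' {t}) := by
  have h1 : Set.range (pullback.snd tbar q).base = q.base ⁻¹' {t} := by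
    rw [← ht]
    exact Scheme.Pullback.range_snd tbar q
  rw [← h1]
  exact isConnected_range (pullback.snd tbar q).continuous

/-- a geometric point over a given point. -/
theorem exists_geometric_point' {T : Scheme.{u}} (t : T) :
    ∃ tbar : Spec (CommRingCat.of (AlgebraicClosure (T.residueField t))) ⟶ T,
      Set.range tbar.base = {t} := by
  refine ⟨Spec.map (CommRingCat.ofHom (algebraMap (T.residueField t)
    (AlgebraicClosure (T.residueField t)))) ≫ T.fromSpecResidueField t, ?_⟩
  have hsurj : Function.Surjective (Spec.map (CommRingCat.ofHom (algebraMap (T.residueField t)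
      (AlgebraicClosure (T.residueField t))))).base := by
    intro b
    haveI : Subsingleton (Spec (T.residueField t)) :=
      inferInstanceAs (Subsingleton (PrimeSpectrum (T.residueField t)))
    exact ⟨IsLocalRing.closedPoint (AlgebraicClosure (T.residueField t)), Subsingleton.elim _ _⟩
  rw [Scheme.Hom.comp_base, TopCat.coe_comp, Set.range_comp, hsurj.range_eq, Set.image_univ]
  exact Scheme.range_fromSpecResidueField t

theorem s0264 {X S : Scheme.{u}} (f : X ⟶ S) [IsProper f]
    (hfib : ∀ (Ω : Type u) [Field Ω] [IsAlgClosed Ω] (s : Spec (CommRingCat.of Ω) ⟶ S),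
      ConnectedSpace ↥(pullback f s)) :
    (FEt.restrict f).Full ∧ (FEt.restrict f).Faithful := by
  have key : ∀ Y : FEt.Cat S, ClopenInj (pullback.fst Y.hom f) ∧
      ClopenSurj (pullback.fst Y.hom f) := by
    intro Y
    let π : Y.left ⟶ S := Y.hom
    haveI : IsProper (pullback.fst π f) := MorphismProperty.pullback_fst _ _ inferInstance
    refine clopen_of_closed_connected_fibres (pullback.fst π f) (pullback.fst π f).isClosedMap ?_
    intro y
    obtain ⟨ybar, hy⟩ := exists_geometric_point' (T := Y.left) y
    haveI := hfib _ (ybar ≫ π)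
    let e : pullback f (ybar ≫ π) ≅ pullback ybar (pullback.fst π f) :=
      pullbackSymmetry _ _ ≪≫ (pullbackRightPullbackFstIso π f ybar).symm
    haveI : ConnectedSpace ↥(pullback ybar (pullback.fst π f)) := connectedSpace_of_iso' e
    exact isConnected_fibre_of_geometric (pullback.fst π f) y ybar hy
  exact full_faithful_of_clopen f (fun Y => (key Y).1) (fun Y => (key Y).2)

end Groth.Agent.H6.FEtFF
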