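import Mathlib
import Groth.Prelude
import Groth.Agent.Lib.Helper6.FEtFF4
import Groth.Agent.Lib.Helper6.FEtFF6
import Groth.Agent.Lib.Helper6.HC2

universe u
open CategoryTheory CategoryTheory.Limits AlgebraicGeometry TopologicalSpace Opposite

set_option linter.unusedSectionVars false
set_option linter.unusedSimpArgs false
set_option linter.style.haveILetI false
namespace Groth.Agent.H6.FEtFF

/-- Over a Noetherian henselian pair `(A, I)`: for a proper `q : P ⟶ T` with `T` proper over `A`,
the clopen bijection property can be checked after base change to `Spec (A/I)`. -/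
theorem clopen_of_couple (A : Type u) [CommRing A] [IsNoetherianRing A] (I : Ideal A)
    [HenselianRing A I] {P T : Scheme.{u}} (q : P ⟶ T) [IsProper q]
    (hT : T ⟶ Spec (CommRingCat.of A)) [IsProper hT]
    (h : ClopenInj (pullback.snd q
        (pullback.fst hT (Spec.map (CommRingCat.ofHom (Ideal.Quotient.mk I))))) ∧
      ClopenSurj (pullback.snd q
        (pullback.fst hT (Spec.map (CommRingCat.ofHom (Ideal.Quotient.mk I)))))) :
    ClopenInj q ∧ ClopenSurj q := by
  have hcl : IsClosedImmersion (Spec.map (CommRingCat.ofHom (Ideal.Quotient.mk I))) :=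
    IsClosedImmersion.spec_of_surjective _ Ideal.Quotient.mk_surjective
  let π := Spec.map (CommRingCat.ofHom (Ideal.Quotient.mk I))
  let jT := pullback.fst hT π
  let jP := pullback.fst q jT
  let q₀ := pullback.snd q jT
  have hcond : jP ≫ q = q₀ ≫ jT := pullback.condition
  have hcond' : ∀ x, q.base (jP.base x) = jT.base (q₀.base x) := by
    intro x
    have := congrArg (fun φ => φ.base x) hcond
    simpa using this
  have hrT : Set.range jT.base = hT.base ⁻¹' Set.range π.base := Scheme.Pullback.range_fst hT π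
  have hrP : Set.range jP.base = (q ≫ hT).base ⁻¹' Set.range π.base := by
    rw [show Set.range jP.base = q.base ⁻¹' Set.range jT.base from
      Scheme.Pullback.range_fst q jT, hrT, ← Set.preimage_comp]
    rfl
  haveI : IsClosedImmersion jT := MorphismProperty.pullback_fst _ _ hcl
  haveI : IsClosedImmersion jP := MorphismProperty.pullback_fst _ _ inferInstance
  have cT := HC.couple_of_proper A I hT jT hrT
  have cP := HC.couple_of_proper A I (q ≫ hT) jP hrP
  obtain ⟨hinj, hsurj⟩ := h
  constructor
  · intro Z hZ hr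
    have h0 : jT.base ⁻¹' Z = Set.univ := by
      refine hinj _ (hZ.preimage jT.continuous) ?_
      rintro _ ⟨x, rfl⟩
      change jT.base (q₀.base x) ∈ Z
      rw [← hcond']
      exact hr ⟨_, rfl⟩
    obtain ⟨U, -, hU⟩ := cT Set.univ isClopen_univ
    rw [hU Z ⟨hZ, h0⟩, ← hU Set.univ ⟨isClopen_univ, rfl⟩]
  · intro Z' hZ'
    obtain ⟨W₀, hW₀, hW₀'⟩ := hsurj (jP.base ⁻¹' Z') (hZ'.preimage jP.continuous)
    obtain ⟨W, ⟨hW, hWW₀⟩, -⟩ := cT W₀ hW₀
    refine ⟨W, hW, ?_⟩
    obtain ⟨U, -, hU⟩ := cP (jP.base ⁻¹' Z') (hZ'.preimage jP.continuous)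
    rw [hU (q.base ⁻¹' W) ⟨hW.preimage q.continuous, ?_⟩, ← hU Z' ⟨hZ', rfl⟩]
    rw [← hW₀', ← hWW₀]
    ext x
    simp only [Set.mem_preimage]
    rw [hcond']

end Groth.Agent.H6.FEtFF
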