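import Mathlib
import Groth.Prelude
import Groth.Agent.Lib.Helper6.FEtFF7

universe u
open CategoryTheory CategoryTheory.Limits AlgebraicGeometry TopologicalSpace Opposite

set_option linter.unusedSectionVars false
set_option linter.unusedSimpArgs false
set_option linter.style.haveILetI false
namespace Groth.Agent.H6.FEtFF

theorem s5129 (A : Type u) [CommRing A]
    [IsNoetherianRing A] [IsLocalRing A] [IsAdicComplete (IsLocalRing.maximalIdeal A) A]
    {X : Scheme.{u}} (f : X ⟶ Spec (CommRingCat.of A)) [IsProper f]
    (ξ : Spec (CommRingCat.of (AlgebraicClosure (IsLocalRing.ResidueField A))) ⟶ Spec (CommRingCat.of A))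
    (hξ : ξ = Spec.map (CommRingCat.ofHom ((algebraMap (IsLocalRing.ResidueField A)
      (AlgebraicClosure (IsLocalRing.ResidueField A))).comp (IsLocalRing.residue A))))
    [ConnectedSpace ↥(pullback f ξ)] :
    (FEt.restrict f).Full ∧ (FEt.restrict f).Faithful := by
  have key : ∀ Y : FEt.Cat (Spec (CommRingCat.of A)), ClopenInj (pullback.fst Y.hom f) ∧
      ClopenSurj (pullback.fst Y.hom f) := by
    intro Y
    let hT : Y.left ⟶ Spec (CommRingCat.of A) := Y.hom
    haveI : IsFinite hT := Y.prop.1
    let q := pullback.fst hT f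
    haveI : IsProper q := MorphismProperty.pullback_fst _ _ inferInstance
    refine clopen_of_couple A (IsLocalRing.maximalIdeal A) q hT ?_
    let π : Spec (CommRingCat.of (IsLocalRing.ResidueField A)) ⟶ Spec (CommRingCat.of A) :=
      Spec.map (CommRingCat.ofHom (IsLocalRing.residue A))
    let jT := pullback.fst hT π
    let π₀ : pullback hT π ⟶ Spec (CommRingCat.of (IsLocalRing.ResidueField A)) :=
      pullback.snd hT π
    haveI : IsFinite π₀ := MorphismProperty.pullback_snd _ _ inferInstance
    let q₀ := pullback.snd q jT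
    haveI : IsProper q₀ := MorphismProperty.pullback_snd _ _ inferInstance
    change ClopenInj q₀ ∧ ClopenSurj q₀
    refine clopen_of_closed_connected_fibres q₀ q₀.isClosedMap ?_
    intro t
    obtain ⟨tbar, hr, hc⟩ := exists_geometric_point (IsLocalRing.ResidueField A) π₀ t
    have hξ' : ξ = (tbar ≫ jT) ≫ hT := by
      rw [hξ, Category.assoc, show jT ≫ hT = π₀ ≫ π from pullback.condition, ← Category.assoc, hc,
        ← Spec.map_comp]
      rfl
    subst hξ'
    let e : pullback f ((tbar ≫ jT) ≫ hT) ≅ pullback tbar q₀ :=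
      pullbackSymmetry _ _ ≪≫ (pullbackRightPullbackFstIso hT f (tbar ≫ jT)).symm ≪≫
        pullbackSymmetry _ _ ≪≫ (pullbackLeftPullbackSndIso q jT tbar).symm ≪≫
        pullbackSymmetry _ _
    haveI : ConnectedSpace ↥(pullback tbar q₀) := connectedSpace_of_iso' e
    exact isConnected_fibre_of_geometric q₀ t tbar hr
  exact full_faithful_of_clopen f (fun Y => (key Y).1) (fun Y => (key Y).2)

end Groth.Agent.H6.FEtFF
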