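import Mathlib

open TopologicalSpace Set

set_option linter.unusedSectionVars false
set_option linter.unusedSimpArgs false
set_option linter.style.haveILetI false
namespace Groth.Agent.H6.TopQC

variable {A : Type*} [TopologicalSpace A]

/-- in a prespectral space, a compact set inside an open set is contained in a compact open subset
of that open set. -/
theorem exists_compact_open_between [PrespectralSpace A] {K O : Set A} (hK : IsCompact K)
    (hO : IsOpen O) (hKO : K ⊆ O) : ∃ U : Set A, IsOpen U ∧ IsCompact U ∧ K ⊆ U ∧ U ⊆ O := by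
  have hb := PrespectralSpace.isTopologicalBasis (X := A)
  choose! W hW using fun (x : A) (hx : x ∈ K) =>
    hb.exists_subset_of_mem_open (hKO hx) hO
  obtain ⟨t, ht, htfin, hcov⟩ := hK.elim_finite_subcover_image (b := K) (c := W)
    (fun x hx => (hW x hx).1.1) (fun x hx => mem_iUnion₂.mpr ⟨x, hx, (hW x hx).2.1⟩)
  refine ⟨⋃ i ∈ t, W i, isOpen_biUnion fun i hi => (hW i (ht hi)).1.1,
    htfin.isCompact_biUnion fun i hi => (hW i (ht hi)).1.2, hcov, ?_⟩
  exact iUnion₂_subset fun i hi => (hW i (ht hi)).2.2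

/-- Stacks 04PL: in a quasi-compact quasi-separated space with a basis of quasi-compact opens,
the connected component of a point is the intersection of the clopen subsets containing it. -/
theorem connectedComponent_eq_iInter_isClopen [CompactSpace A] [QuasiSeparatedSpace A]
    [PrespectralSpace A] (x : A) :
    connectedComponent x = ⋂ Z : { Z : Set A // IsClopen Z ∧ x ∈ Z }, (Z : Set A) := by
  apply Subset.antisymm connectedComponent_subset_iInter_isClopen
  set T : Set A := ⋂ Z : { Z : Set A // IsClopen Z ∧ x ∈ Z }, (Z : Set A) with hT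
  have hxT : x ∈ T := mem_iInter.mpr fun Z => Z.2.2
  have hTcl : IsClosed T := isClosed_iInter fun Z => Z.2.1.isClosed
  refine IsPreconnected.subset_connectedComponent ?_ hxT
  rw [isPreconnected_iff_subset_of_fully_disjoint_closed hTcl]
  intro u v hu hv hTuv huv
  -- finite intersections
  have hfin : ∀ (K : Set A), IsCompact K → K ∩ T = ∅ →
      ∃ Z : Set A, IsClopen Z ∧ x ∈ Z ∧ K ∩ Z = ∅ := by
    intro K hK hKT
    obtain ⟨s, hs⟩ := hK.elim_finite_subfamily_closed
      (fun Z : { Z : Set A // IsClopen Z ∧ x ∈ Z } => (Z : Set A)) (fun Z => Z.2.1.isClosed) hKT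
    refine ⟨⋂ i ∈ s, (i : Set A), isClopen_biInter_finset fun i _ => i.2.1,
      mem_iInter₂.mpr fun i _ => i.2.2, hs⟩
  have hTu : IsCompact (T ∩ u) := (hTcl.inter hu).isCompact
  have hTv : IsCompact (T ∩ v) := (hTcl.inter hv).isCompact
  obtain ⟨U, hUo, hUc, hTU, hUv⟩ := exists_compact_open_between hTu hv.isOpen_compl
    (fun a ha => fun hav => (disjoint_left.mp huv) ha.2 hav)
  obtain ⟨V, hVo, hVc, hTV, hVu⟩ := exists_compact_open_between hTv hu.isOpen_compl
    (fun a ha => fun hau => (disjoint_left.mp huv) hau ha.2)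
  have hUVc : IsCompact (U ∩ V) := hUc.inter_of_isOpen hVc hUo hVo
  have h1 : (U ∩ V) ∩ T = ∅ := by
    rw [eq_empty_iff_forall_notMem]
    rintro a ⟨⟨haU, haV⟩, haT⟩
    rcases hTuv haT with h | h
    · exact hVu haV h
    · exact hUv haU h
  have h2 : (U ∪ V)ᶜ ∩ T = ∅ := by
    rw [eq_empty_iff_forall_notMem]
    rintro a ⟨haUV, haT⟩
    apply haUV
    rcases hTuv haT with h | h
    · exact Or.inl (hTU ⟨haT, h⟩)
    · exact Or.inr (hTV ⟨haT, h⟩)
  obtain ⟨Z₁, hZ₁, hxZ₁, hZ₁e⟩ := hfin _ hUVc h1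
  obtain ⟨Z₂, hZ₂, hxZ₂, hZ₂e⟩ := hfin _ (hUo.union hVo).isClosed_compl.isCompact h2
  set Z := Z₁ ∩ Z₂ with hZ
  have hZcl : IsClopen Z := hZ₁.inter hZ₂
  have hZUV : Z ⊆ U ∪ V := by
    intro a ha
    by_contra hne
    have : a ∈ (U ∪ V)ᶜ ∩ Z₂ := ⟨hne, ha.2⟩
    rw [hZ₂e] at this
    exact this
  have hZUVe : ∀ a, a ∈ Z → a ∈ U → a ∈ V → False := by
    intro a ha haU haV
    have : a ∈ (U ∩ V) ∩ Z₁ := ⟨⟨haU, haV⟩, ha.1⟩
    rw [hZ₁e] at this
    exact this
  have hZU : IsClopen (Z ∩ U) := by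
    refine ⟨?_, hZcl.isOpen.inter hUo⟩
    have : Z ∩ U = Z ∩ Vᶜ := by
      ext a
      constructor
      · rintro ⟨ha, haU⟩
        exact ⟨ha, fun haV => hZUVe a ha haU haV⟩
      · rintro ⟨ha, haV⟩
        rcases hZUV ha with h | h
        · exact ⟨ha, h⟩
        · exact absurd h haV
    rw [this]
    exact hZcl.isClosed.inter hVo.isClosed_compl
  have hZV : IsClopen (Z ∩ V) := by
    refine ⟨?_, hZcl.isOpen.inter hVo⟩
    have : Z ∩ V = Z ∩ Uᶜ := by
      ext a
      constructor
      · rintro ⟨ha, haV⟩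
        exact ⟨ha, fun haU => hZUVe a ha haU haV⟩
      · rintro ⟨ha, haU⟩
        rcases hZUV ha with h | h
        · exact absurd h haU
        · exact ⟨ha, h⟩
    rw [this]
    exact hZcl.isClosed.inter hUo.isClosed_compl
  have hxZ : x ∈ Z := ⟨hxZ₁, hxZ₂⟩
  rcases hTuv hxT with hxu | hxv
  · left
    have hxU : x ∈ Z ∩ U := ⟨hxZ, hTU ⟨hxT, hxu⟩⟩
    have hTZU : T ⊆ Z ∩ U :=
      iInter_subset (fun Z : { Z : Set A // IsClopen Z ∧ x ∈ Z } => (Z : Set A)) ⟨Z ∩ U, hZU, hxU⟩
    intro a ha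
    rcases hTuv ha with h | h
    · exact h
    · exact absurd h (hUv (hTZU ha).2)
  · right
    have hxV : x ∈ Z ∩ V := ⟨hxZ, hTV ⟨hxT, hxv⟩⟩
    have hTZV : T ⊆ Z ∩ V :=
      iInter_subset (fun Z : { Z : Set A // IsClopen Z ∧ x ∈ Z } => (Z : Set A)) ⟨Z ∩ V, hZV, hxV⟩
    intro a ha
    rcases hTuv ha with h | h
    · exact absurd h (hVu (hTZV ha).2)
    · exact h


/-- separation of points in different connected components by clopen subsets. -/
theorem exists_isClopen_of_not_mem_connectedComponent [CompactSpace A] [QuasiSeparatedSpace A]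
    [PrespectralSpace A] {x y : A} (h : y ∉ connectedComponent x) :
    ∃ Z : Set A, IsClopen Z ∧ x ∈ Z ∧ y ∉ Z := by
  rw [connectedComponent_eq_iInter_isClopen x] at h
  simp only [mem_iInter, not_forall] at h
  obtain ⟨Z, hZ⟩ := h
  exact ⟨Z, Z.2.1, Z.2.2, hZ⟩

theorem t2Space_connectedComponents [CompactSpace A] [QuasiSeparatedSpace A]
    [PrespectralSpace A] : T2Space (ConnectedComponents A) := by
  constructor
  intro c₁ c₂ hne
  obtain ⟨x, rfl⟩ := ConnectedComponents.surjective_coe c₁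
  obtain ⟨y, rfl⟩ := ConnectedComponents.surjective_coe c₂
  have hy : y ∉ connectedComponent x := by
    intro hy
    apply hne
    exact (ConnectedComponents.coe_eq_coe'.mpr hy).symm
  obtain ⟨Z, hZ, hxZ, hyZ⟩ := exists_isClopen_of_not_mem_connectedComponent hy
  have hpre : ∀ W : Set A, IsClopen W →
      (ConnectedComponents.mk ⁻¹' (ConnectedComponents.mk '' W) : Set A) = W := by
    intro W hW
    rw [connectedComponents_preimage_image, hW.biUnion_connectedComponent_eq]
  have hopen : ∀ W : Set A, IsClopen W → IsOpen (ConnectedComponents.mk '' W) := by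
    intro W hW
    rw [← ConnectedComponents.isQuotientMap_coe.isOpen_preimage, hpre W hW]
    exact hW.isOpen
  refine ⟨ConnectedComponents.mk '' Z, ConnectedComponents.mk '' Zᶜ, hopen Z hZ,
    hopen Zᶜ hZ.compl, ⟨x, hxZ, rfl⟩, ⟨y, hyZ, rfl⟩, ?_⟩
  rw [Set.disjoint_left]
  rintro c ⟨a, haZ, rfl⟩ ⟨b, hbZ, hab⟩
  have : a ∈ (ConnectedComponents.mk ⁻¹' (ConnectedComponents.mk '' Zᶜ) : Set A) :=
    ⟨b, hbZ, hab⟩
  rw [hpre _ hZ.compl] at this
  exact this haZ

/-- a continuous map between quasi-compact quasi-separated prespectral spaces which induces a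
bijection on clopen subsets induces a homeomorphism on connected components. -/
theorem isHomeomorph_connectedComponentsMap {B : Type*} [TopologicalSpace B] [CompactSpace A]
    [QuasiSeparatedSpace A] [PrespectralSpace A] [CompactSpace B] [QuasiSeparatedSpace B]
    [PrespectralSpace B] {φ : A → B} (hφ : Continuous φ)
    (hinj : ∀ Z : Set B, IsClopen Z → Set.range φ ⊆ Z → Z = univ)
    (hsurj : ∀ Z' : Set A, IsClopen Z' → ∃ Z : Set B, IsClopen Z ∧ φ ⁻¹' Z = Z') :
    IsHomeomorph hφ.connectedComponentsMap := by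
  haveI := t2Space_connectedComponents (A := B)
  rw [isHomeomorph_iff_continuous_bijective]
  refine ⟨hφ.connectedComponentsMap_continuous, ?_, ?_⟩
  · intro c₁ c₂ h
    obtain ⟨a₁, rfl⟩ := ConnectedComponents.surjective_coe c₁
    obtain ⟨a₂, rfl⟩ := ConnectedComponents.surjective_coe c₂
    have h' : ((φ a₁ : B) : ConnectedComponents B) = (φ a₂ : B) := h
    rw [ConnectedComponents.coe_eq_coe'] at h'
    rw [ConnectedComponents.coe_eq_coe']
    by_contra hne
    obtain ⟨Z', hZ', ha₂, ha₁⟩ := exists_isClopen_of_not_mem_connectedComponent hne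
    obtain ⟨Z, hZ, rfl⟩ := hsurj Z' hZ'
    exact ha₁ (hZ.connectedComponent_subset ha₂ h')
  · intro c
    obtain ⟨b, rfl⟩ := ConnectedComponents.surjective_coe c
    -- the family of closed sets `φ⁻¹ Z` for `Z` clopen containing `b`
    have hne : (univ ∩ ⋂ Z : { Z : Set B // IsClopen Z ∧ b ∈ Z }, φ ⁻¹' (Z : Set B)).Nonempty := by
      by_contra hemp
      rw [Set.not_nonempty_iff_eq_empty] at hemp
      obtain ⟨s, hs⟩ := isCompact_univ.elim_finite_subfamily_closed
        (fun Z : { Z : Set B // IsClopen Z ∧ b ∈ Z } => φ ⁻¹' (Z : Set B))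
        (fun Z => Z.2.1.isClosed.preimage hφ) hemp
      have hW : IsClopen (⋂ i ∈ s, (i : Set B)) := isClopen_biInter_finset fun i _ => i.2.1
      have hbW : b ∈ ⋂ i ∈ s, (i : Set B) := mem_iInter₂.mpr fun i _ => i.2.2
      have h1 : (⋂ i ∈ s, (i : Set B))ᶜ = univ := by
        refine hinj _ hW.compl ?_
        rintro _ ⟨a, rfl⟩ haW
        have : a ∈ univ ∩ ⋂ i ∈ s, φ ⁻¹' (i : Set B) := by
          refine ⟨trivial, ?_⟩
          simp only [mem_iInter, mem_preimage] at haW ⊢
          exact haW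
        rw [hs] at this
        exact this
      have : b ∈ (⋂ i ∈ s, (i : Set B))ᶜ := by rw [h1]; trivial
      exact this hbW
    obtain ⟨a, -, ha⟩ := hne
    refine ⟨(a : ConnectedComponents A), ?_⟩
    change ((φ a : B) : ConnectedComponents B) = b
    rw [ConnectedComponents.coe_eq_coe', connectedComponent_eq_iInter_isClopen b]
    simp only [mem_iInter, mem_preimage] at ha ⊢
    exact ha

end Groth.Agent.H6.TopQC
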