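import Mathlib
import Groth.Prelude
import Groth.Agent.Lib.Helper6.FEtFF1
import Groth.Agent.Lib.Helper6.TopQC

universe u
open CategoryTheory CategoryTheory.Limits AlgebraicGeometry TopologicalSpace Opposite

set_option linter.unusedSectionVars false
set_option linter.unusedSimpArgs false
set_option linter.style.haveILetI false
namespace Groth.Agent.H6.FEtFF

/-- the finite étale cover given by a clopen subset. -/
noncomputable def clopenObj {Y : Scheme.{u}} (Z : Y.Opens) (hZ : IsClosed (Z : Set Y)) :
    FEt.Cat Y :=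
  haveI := isClosedImmersion_ι_of_isClosed Z hZ
  MorphismProperty.Over.mk ⊤ Z.ι ⟨inferInstance, inferInstance⟩

/-- the terminal finite étale cover. -/
noncomputable def topObj (Y : Scheme.{u}) : FEt.Cat Y :=
  MorphismProperty.Over.mk ⊤ (𝟙 Y) ⟨inferInstance, inferInstance⟩

theorem isIso_of_isIso_left {Y : Scheme.{u}} {A B : FEt.Cat Y} (φ : A ⟶ B) [IsIso φ.left] :
    IsIso φ := by
  have : φ = (MorphismProperty.Over.isoMk (asIso φ.left) (Over.w φ.hom)).hom := by
    apply MorphismProperty.Over.Hom.ext
    rfl
  rw [this]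
  infer_instance

variable {X Y : Scheme.{u}} (f : X ⟶ Y)

theorem clopenInj_of_faithful_full [(FEt.restrict f).Full] [(FEt.restrict f).Faithful] :
    ClopenInj f := by
  intro Z hZ hr
  let Zo : Y.Opens := ⟨Z, hZ.isOpen⟩
  let m : clopenObj Zo hZ.isClosed ⟶ topObj Y :=
    MorphismProperty.Over.homMk Zo.ι (Category.comp_id _)
  -- the underlying map of `F.map m`
  let ml : pullback Zo.ι f ⟶ pullback (𝟙 Y) f := ((FEt.restrict f).map m).left
  have hml : ml ≫ pullback.snd (𝟙 Y) f = pullback.snd Zo.ι f := pullback.lift_snd _ _ _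
  haveI h1 : IsIso (pullback.snd Zo.ι f) := by
    have hsurj : Function.Surjective (pullback.snd Zo.ι f).base := by
      rw [← Set.range_eq_univ, Scheme.Pullback.range_snd, Scheme.Opens.range_ι]
      rw [Set.eq_univ_iff_forall]
      intro x
      exact hr ⟨x, rfl⟩
    have hepi : Epi (pullback.snd Zo.ι f).base := (TopCat.epi_iff_surjective _).mpr hsurj
    exact (isIso_iff_isOpenImmersion_and_epi_base _).mpr ⟨inferInstance, hepi⟩
  haveI h2 : IsIso ml := by
    have : ml = pullback.snd Zo.ι f ≫ inv (pullback.snd (𝟙 Y) f) := by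
      rw [IsIso.eq_comp_inv, hml]
    rw [this]
    infer_instance
  haveI h3 : IsIso ((FEt.restrict f).map m).left := h2
  haveI h4 : IsIso ((FEt.restrict f).map m) := isIso_of_isIso_left _
  haveI h5 : IsIso m := isIso_of_fully_faithful (FEt.restrict f) m
  have h6 : IsIso m.left :=
    inferInstanceAs (IsIso ((MorphismProperty.Over.forget _ _ _ ⋙ Over.forget _).map m))
  have h7 : IsIso Zo.ι := h6
  have hs : Function.Surjective Zo.ι.base := by
    intro y
    exact ⟨(inv Zo.ι).base y, by
      have := congr($(IsIso.inv_hom_id Zo.ι).base y)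
      exact this⟩
  have h8 : Set.range Zo.ι.base = Z := Scheme.Opens.range_ι Zo
  rw [← h8]
  exact Set.range_eq_univ.mpr hs


theorem clopenSurj_of_faithful_essSurj [(FEt.restrict f).Faithful] [(FEt.restrict f).EssSurj] :
    ClopenSurj f := by
  intro Z' hZ'
  let Zo' : X.Opens := ⟨Z', hZ'.isOpen⟩
  obtain ⟨W, ⟨θ⟩⟩ := Functor.EssSurj.mem_essImage (F := FEt.restrict f)
    (clopenObj Zo' hZ'.isClosed)
  let π : W.left ⟶ Y := W.hom
  haveI : IsFinite π := W.prop.1
  haveI : Etale π := W.prop.2
  -- the iso of underlying schemes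
  let θl : pullback π f ≅ (Zo' : Scheme.{u}) :=
    (MorphismProperty.Over.forget _ _ _ ⋙ Over.forget _).mapIso θ
  have hθ : θl.hom ≫ Zo'.ι = pullback.snd π f := Over.w θ.hom.hom
  -- `W × W` as an object
  let p₁ : pullback π π ⟶ W.left := pullback.fst π π
  let p₂ : pullback π π ⟶ W.left := pullback.snd π π
  haveI : IsFinite p₁ := MorphismProperty.pullback_fst _ _ inferInstance
  haveI : Etale p₁ := MorphismProperty.pullback_fst _ _ inferInstance
  let WW : FEt.Cat Y := MorphismProperty.Over.mk ⊤ (p₁ ≫ π) ⟨inferInstance, inferInstance⟩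
  let a : WW ⟶ W := MorphismProperty.Over.homMk p₁ rfl
  let b : WW ⟶ W := MorphismProperty.Over.homMk p₂ pullback.condition.symm
  have hab : (FEt.restrict f).map a = (FEt.restrict f).map b := by
    apply MorphismProperty.Over.Hom.ext
    let al : pullback (p₁ ≫ π) f ⟶ pullback π f := ((FEt.restrict f).map a).left
    let bl : pullback (p₁ ≫ π) f ⟶ pullback π f := ((FEt.restrict f).map b).left
    haveI : Mono (pullback.snd π f) := by
      rw [← hθ]
      infer_instance
    have hal : al ≫ pullback.snd π f = pullback.snd (p₁ ≫ π) f := pullback.lift_snd _ _ _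
    have hbl : bl ≫ pullback.snd π f = pullback.snd (p₁ ≫ π) f := pullback.lift_snd _ _ _
    have : al = bl := by
      rw [← cancel_mono (pullback.snd π f), hal, hbl]
    exact this
  have hab' : a = b := (FEt.restrict f).map_injective hab
  have h12 : p₁ = p₂ := congrArg (fun c => c.left) hab'
  haveI hmono : Mono π := by
    constructor
    intro V c d hcd
    have h1 : pullback.lift c d hcd ≫ p₁ = c := pullback.lift_fst _ _ _
    have h2 : pullback.lift c d hcd ≫ p₂ = d := pullback.lift_snd _ _ _
    calc c = pullback.lift c d hcd ≫ p₁ := h1.symm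
      _ = pullback.lift c d hcd ≫ p₂ := by rw [h12]
      _ = d := h2
  haveI : IsOpenImmersion π := IsOpenImmersion.of_flat_of_mono π
  refine ⟨Set.range π.base, ⟨π.isClosedMap.isClosed_range, π.isOpenEmbedding.isOpen_range⟩, ?_⟩
  have h3 := Scheme.Pullback.range_snd π f
  have h4 : Set.range (pullback.snd π f).base = Z' := by
    rw [← hθ, Scheme.Hom.comp_base, TopCat.coe_comp, Set.range_comp]
    have hs : Function.Surjective θl.hom.base := by
      intro z
      exact ⟨θl.inv.base z, by
        have := congr($(θl.inv_hom_id).base z)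
        exact this⟩
    rw [hs.range_eq, Set.image_univ]
    exact Scheme.Opens.range_ι Zo'
  rw [← h4]
  exact h3.symm

theorem s0252 {X Y : Scheme.{u}} [CompactSpace X] [QuasiSeparatedSpace X] [CompactSpace Y]
    [QuasiSeparatedSpace Y] (f : X ⟶ Y) (h : (FEt.restrict f).IsEquivalence) :
    IsHomeomorph f.continuous.connectedComponentsMap := by
  have h1 := clopenInj_of_faithful_full f
  have h2 := clopenSurj_of_faithful_essSurj f
  exact TopQC.isHomeomorph_connectedComponentsMap f.continuous h1 h2

end Groth.Agent.H6.FEtFF
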