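import Mathlib

universe u
open CategoryTheory CategoryTheory.Limits AlgebraicGeometry

namespace Groth.Agent.H6.FF

open scoped nonZeroDivisors

/-- localisation at the zero ideals of an injective integral map of domains. -/
theorem isLoc_bot {R S : Type u} [CommRing R] [CommRing S] [IsDomain S] (φ : R →+* S)
    (hφ : Function.Injective φ) (hint : φ.IsIntegral)
    (I : Ideal R) [I.IsPrime] (J : Ideal S) [J.IsPrime] (hI : I = ⊥) (hJ : J = ⊥) :
    letI := φ.toAlgebra
    IsLocalization (Algebra.algebraMapSubmonoid S I.primeCompl)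
      (Localization.AtPrime J) := by
  let _ := φ.toAlgebra
  have hR : IsDomain R := hφ.isDomain
  subst hI hJ
  have hle : Algebra.algebraMapSubmonoid S (⊥ : Ideal R).primeCompl ≤ (⊥ : Ideal S).primeCompl := by
    rintro _ ⟨r, hr, rfl⟩
    intro h0
    apply hr
    have h1 : algebraMap R S r = 0 := by simpa using h0
    have : r = 0 := hφ (by rw [map_zero]; exact h1)
    simp [this]
  refine (IsLocalization.iff_of_le_of_exists_dvd _ _ hle ?_).mpr inferInstance
  intro n hn
  have hn0 : n ≠ 0 := fun h => hn (by simp [h])
  have hint' : IsIntegral R n := hint n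
  have halg : IsAlgebraic R n := hint'.isAlgebraic
  obtain ⟨r, hr0, hdvd⟩ := halg.exists_nonzero_dvd (mem_nonZeroDivisors_of_ne_zero hn0)
  refine ⟨algebraMap R S r, ⟨r, ?_, rfl⟩, hdvd⟩
  intro h
  exact hr0 (by simpa using h)

theorem core {R S : Type u} [CommRing R] [CommRing S] [IsDomain S] (φ : R →+* S)
    (hφ : Function.Injective φ)
    (I : Ideal R) [I.IsPrime] (J : Ideal S) [J.IsPrime] (hJ : J = ⊥) (hIJ : I = J.comap φ) :
    (φ.IsIntegral → (Localization.localRingHom I J φ hIJ).IsIntegral) ∧
    (φ.Finite → (Localization.localRingHom I J φ hIJ).Finite) := by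
  have hI : I = ⊥ := by
    rw [hIJ, hJ]
    ext x
    simp only [Ideal.mem_comap, Ideal.mem_bot]
    exact ⟨fun h => hφ (by rw [map_zero]; exact h), fun h => by simp [h]⟩
  constructor
  · intro hint
    let _ := φ.toAlgebra
    have := isLoc_bot φ hφ hint I J hI hJ
    have : Algebra.IsIntegral R S := ⟨hint⟩
    exact isIntegral_localization (M := I.primeCompl) (Rₘ := Localization.AtPrime I)
      (Sₘ := Localization.AtPrime J) (R := R) (S := S)
  · intro hfin
    have hint : φ.IsIntegral := hfin.to_isIntegral
    have h1 := isLoc_bot φ hφ hint I J hI hJ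
    have : IsLocalization (Submonoid.map φ I.primeCompl) (Localization.AtPrime J) := h1
    exact RingHom.finite_localizationPreserves φ I.primeCompl (Localization.AtPrime I)
      (Localization.AtPrime J) hfin

end Groth.Agent.H6.FF
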