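import Mathlib
import Groth.Agent.Lib.Helper6.FF1

universe u
open CategoryTheory CategoryTheory.Limits AlgebraicGeometry

namespace Groth.Agent.H6.FF

theorem stalkMap_generic {X S : Scheme.{u}} [IsIntegral X] [IsIntegral S]
    (f : X ⟶ S) [IsDominant f] [IsAffineHom f] :
    ((∀ (U : S.Opens), IsAffineOpen U → (f.app U).hom.IsIntegral) →
        (f.stalkMap (genericPoint X)).hom.IsIntegral) ∧
      ((∀ (U : S.Opens), IsAffineOpen U → (f.app U).hom.Finite) →
        (f.stalkMap (genericPoint X)).hom.Finite) := by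
  obtain ⟨_, ⟨U, hU, rfl⟩, hfx, -⟩ := S.isBasis_affineOpens.exists_subset_of_mem_open
    (Set.mem_univ (f.base (genericPoint X))) isOpen_univ
  have hV : IsAffineOpen (f ⁻¹ᵁ U) := hU.preimage f
  have hx : genericPoint X ∈ f ⁻¹ᵁ U := hfx
  have hne : Nonempty (f ⁻¹ᵁ U : X.Opens) := ⟨⟨_, hx⟩⟩
  have e := IsAffineOpen.arrowStalkMapIso f U hU (f ⁻¹ᵁ U) hV le_rfl hx
  have hsd : IsSchemeTheoreticallyDominant f := .of_isDominant f
  have hinj : Function.Injective (f.appLE U (f ⁻¹ᵁ U) le_rfl).hom := by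
    rw [← Scheme.Hom.app_eq_appLE]
    exact f.app_injective U
  have hJ : (hV.primeIdealOf ⟨genericPoint X, hx⟩).asIdeal = ⊥ := by
    rw [hV.primeIdealOf_genericPoint, genericPoint_eq_bot_of_affine]
    rfl
  have key := core (f.appLE U (f ⁻¹ᵁ U) le_rfl).hom hinj
    (hU.primeIdealOf ⟨f.base (genericPoint X), hfx⟩).asIdeal
    (hV.primeIdealOf ⟨genericPoint X, hx⟩).asIdeal hJ
    congr($(IsAffineOpen.comap_primeIdealOf_appLE U hU (f ⁻¹ᵁ U) hV le_rfl hx).1).symm
  constructor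
  · intro h
    rw [RingHom.isIntegral_respectsIso.arrow_mk_iso_iff e]
    apply key.1
    rw [← Scheme.Hom.app_eq_appLE]
    exact h U hU
  · intro h
    rw [RingHom.finite_respectsIso.arrow_mk_iso_iff e]
    apply key.2
    rw [← Scheme.Hom.app_eq_appLE]
    exact h U hU

end Groth.Agent.H6.FF
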