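import Mathlib
import Groth.Prelude.Def_Wider

/-! Linear autoequivalences of the category of finite length modules: basic dictionary. -/

universe u
set_option linter.style.haveILetI false
set_option autoImplicit false
open CategoryTheory

namespace Groth.Agent.H6

namespace FLE

variable {A : Type u} [CommRing A]

/-- the linear map underlying a morphism of `FinLen A` -/
def toLin {X Y : Dual.FinLen A} (f : X ⟶ Y) : X.obj →ₗ[A] Y.obj := f.hom.hom

/-- the morphism of `FinLen A` of a linear map -/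
def ofLin {X Y : Dual.FinLen A} (g : X.obj →ₗ[A] Y.obj) : X ⟶ Y :=
  ObjectProperty.homMk (ModuleCat.ofHom g)

@[simp] theorem toLin_ofLin {X Y : Dual.FinLen A} (g : X.obj →ₗ[A] Y.obj) :
    toLin (ofLin g) = g := rfl

@[simp] theorem ofLin_toLin {X Y : Dual.FinLen A} (f : X ⟶ Y) : ofLin (toLin f) = f := rfl

theorem toLin_injective {X Y : Dual.FinLen A} : Function.Injective (toLin (X := X) (Y := Y)) :=
  fun f g h => by rw [← ofLin_toLin f, h, ofLin_toLin]

theorem toLin_comp {X Y Z : Dual.FinLen A} (f : X ⟶ Y) (g : Y ⟶ Z) :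
    toLin (f ≫ g) = (toLin g).comp (toLin f) := rfl

theorem toLin_id (X : Dual.FinLen A) : toLin (𝟙 X) = LinearMap.id := rfl

theorem ofLin_comp {X Y Z : Dual.FinLen A} (f : X.obj →ₗ[A] Y.obj) (g : Y.obj →ₗ[A] Z.obj) :
    ofLin (g.comp f) = ofLin f ≫ ofLin g := rfl

theorem ofLin_id (X : Dual.FinLen A) : ofLin (LinearMap.id : X.obj →ₗ[A] X.obj) = 𝟙 X := rfl

theorem ofLin_add {X Y : Dual.FinLen A} (f g : X.obj →ₗ[A] Y.obj) :
    ofLin (f + g) = ofLin f + ofLin g := rfl

theorem ofLin_smul {X Y : Dual.FinLen A} (a : A) (f : X.obj →ₗ[A] Y.obj) :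
    ofLin (a • f) = a • ofLin f := rfl

theorem toLin_add {X Y : Dual.FinLen A} (f g : X ⟶ Y) : toLin (f + g) = toLin f + toLin g := rfl

theorem toLin_smul {X Y : Dual.FinLen A} (a : A) (f : X ⟶ Y) : toLin (a • f) = a • toLin f := rfl

variable (F : Dual.FinLen A ⥤ Dual.FinLen A)

/-- the action of `F` on linear maps -/
def Fm {X Y : Dual.FinLen A} (g : X.obj →ₗ[A] Y.obj) : (F.obj X).obj →ₗ[A] (F.obj Y).obj :=
  toLin (F.map (ofLin g))

theorem Fm_id (X : Dual.FinLen A) : Fm F (LinearMap.id : X.obj →ₗ[A] X.obj) = LinearMap.id := by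
  unfold Fm
  rw [ofLin_id, F.map_id, toLin_id]

theorem Fm_comp {X Y Z : Dual.FinLen A} (f : X.obj →ₗ[A] Y.obj) (g : Y.obj →ₗ[A] Z.obj) :
    Fm F (g.comp f) = (Fm F g).comp (Fm F f) := by
  unfold Fm
  rw [ofLin_comp, F.map_comp, toLin_comp]

theorem Fm_add [F.Additive] {X Y : Dual.FinLen A} (f g : X.obj →ₗ[A] Y.obj) :
    Fm F (f + g) = Fm F f + Fm F g := by
  unfold Fm
  rw [ofLin_add, F.map_add, toLin_add]

theorem Fm_smul [F.Additive] [F.Linear A] {X Y : Dual.FinLen A} (a : A) (f : X.obj →ₗ[A] Y.obj) :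
    Fm F (a • f) = a • Fm F f := by
  unfold Fm
  rw [ofLin_smul, F.map_smul, toLin_smul]

theorem Fm_zero [F.Additive] {X Y : Dual.FinLen A} :
    Fm F (0 : X.obj →ₗ[A] Y.obj) = 0 := by
  have h := Fm_add F (0 : X.obj →ₗ[A] Y.obj) 0
  rw [add_zero] at h
  exact left_eq_add.mp h

theorem Fm_bijective [F.Full] [F.Faithful] {X Y : Dual.FinLen A} :
    Function.Bijective (Fm F (X := X) (Y := Y)) := by
  constructor
  · intro f g h
    have h1 : F.map (ofLin f) = F.map (ofLin g) := toLin_injective h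
    have h2 := F.map_injective h1
    rw [← toLin_ofLin f, h2, toLin_ofLin]
  · intro g
    obtain ⟨f, hf⟩ := F.map_surjective (ofLin g)
    refine ⟨toLin f, ?_⟩
    unfold Fm
    rw [ofLin_toLin, hf, toLin_ofLin]

end FLE

end Groth.Agent.H6
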