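import Mathlib
import Groth.Agent.Lib.Helper1.LocalCriterion4

/-!
# Valuative criterion of flatness, part 1 (helper6)

* `flat_of_sep`: the infinitesimal local criterion of flatness for a module satisfying an abstract
  separation hypothesis.
* `flat_baseChange_iff`: flatness of `E ⊗[C] Z` over `E` in terms of ideals of `E`.
* `flat_baseChange_of_isLocalizedModule`: flatness of base changes passes to localizations with
  respect to another ring acting on the module.
-/

set_option autoImplicit false
universe u
open TensorProduct Function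

namespace Groth.Agent.H6.ValFlat

section LCsep

variable {A : Type*} [CommRing A] {M : Type*} [AddCommGroup M] [Module A M]

theorem tmul_mem_pow_smul_top (I : Ideal A) (n : ℕ) (J : Ideal A) (m : M) (j : J)
    (hj : j ∈ I ^ n • (⊤ : Submodule A J)) :
    m ⊗ₜ[A] j ∈ I ^ n • (⊤ : Submodule A (M ⊗[A] J)) := by
  refine Submodule.smul_induction_on hj ?_ ?_
  · intro a ha j' _
    rw [TensorProduct.tmul_smul]
    exact Submodule.smul_mem_smul ha Submodule.mem_top
  · intro j₁ j₂ h₁ h₂
    rw [TensorProduct.tmul_add]
    exact Submodule.add_mem _ h₁ h₂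

/-- Infinitesimal local criterion of flatness, with an abstract separation hypothesis. -/
theorem flat_of_sep [IsNoetherianRing A] (I : Ideal A)
    (hsep : ∀ (J : Ideal A) (x : M ⊗[A] J),
      (∀ n : ℕ, x ∈ I ^ n • (⊤ : Submodule A (M ⊗[A] J))) → x = 0)
    (h : ∀ n : ℕ, 0 < n → Module.Flat (A ⧸ I ^ n) ((A ⧸ I ^ n) ⊗[A] M)) : Module.Flat A M := by
  rw [Module.Flat.iff_lTensor_injective']
  intro J
  rw [injective_iff_map_eq_zero]
  intro x hx
  apply hsep J x
  intro n
  obtain ⟨k, hk⟩ := Ideal.exists_pow_inf_eq_pow_smul I (M := A) J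
  have hAR : Submodule.comap J.subtype (I ^ (n + k)) ≤ I ^ n • (⊤ : Submodule A J) := by
    intro j hj
    have h1 : (j : A) ∈ I ^ (n + k) • (⊤ : Submodule A A) ⊓ J := by
      refine ⟨?_, j.2⟩
      rw [smul_eq_mul, Ideal.mul_top]
      exact hj
    rw [hk (n + k) (Nat.le_add_left _ _), Nat.add_sub_cancel] at h1
    have h2 : (j : A) ∈ I ^ n • J := Submodule.smul_mono le_rfl inf_le_right h1
    have h3 : I ^ n • J = Submodule.map J.subtype (I ^ n • (⊤ : Submodule A J)) := by
      rw [Submodule.map_smul'', Submodule.map_subtype_top]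
    rw [h3] at h2
    obtain ⟨j', hj', hjj'⟩ := h2
    have : j' = j := Subtype.ext hjj'
    rwa [← this]
  have h0 : ((Submodule.comap J.subtype (I ^ (n + k))).mkQ.lTensor M) x = 0 := by
    rcases Nat.eq_zero_or_pos (n + k) with h0 | hpos
    · have : Subsingleton (A ⧸ I ^ (n + k)) := by
        rw [h0, pow_zero, Ideal.one_eq_top]
        exact Ideal.Quotient.subsingleton_iff.mpr rfl
      have := Groth.Agent.H1.flat_of_subsingleton_ring (R := A ⧸ I ^ (n + k))
        ((A ⧸ I ^ (n + k)) ⊗[A] M)
      exact Groth.Agent.H1.mkQ_lTensor_eq_zero_of_flat_quotient J (I ^ (n + k)) x hx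
    · have := h (n + k) hpos
      exact Groth.Agent.H1.mkQ_lTensor_eq_zero_of_flat_quotient J (I ^ (n + k)) x hx
  have hex := lTensor_exact M (LinearMap.exact_subtype_mkQ (Submodule.comap J.subtype (I ^ (n + k))))
    (Submodule.mkQ_surjective _)
  obtain ⟨y, rfl⟩ := (hex x).mp h0
  clear h0 hx
  induction y using TensorProduct.induction_on with
  | zero => simp
  | add y₁ y₂ h₁ h₂ => rw [map_add]; exact Submodule.add_mem _ h₁ h₂
  | tmul m j =>
    rw [LinearMap.lTensor_tmul]
    exact tmul_mem_pow_smul_top I n J m _ (hAR j.2)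

end LCsep

section FlatBC

variable (C E Z : Type*) [CommRing C] [CommRing E] [Algebra C E] [AddCommGroup Z] [Module C Z]

theorem cancel_square (𝔢 : Ideal E) (x : 𝔢 ⊗[E] (E ⊗[C] Z)) :
    AlgebraTensorModule.cancelBaseChange C E E E Z ((𝔢.subtype.rTensor (E ⊗[C] Z)) x) =
      ((𝔢.subtype.restrictScalars C).rTensor Z)
        (AlgebraTensorModule.cancelBaseChange C E E 𝔢 Z x) := by
  induction x using TensorProduct.induction_on with
  | zero => simp
  | add x y hx hy => simp only [map_add, hx, hy]
  | tmul a w =>
    induction w using TensorProduct.induction_on with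
    | zero => simp
    | add x y hx hy => simp only [TensorProduct.tmul_add, map_add, hx, hy]
    | tmul e z =>
      simp [AlgebraTensorModule.cancelBaseChange_tmul]

/-- flatness of a base change in terms of ideals of the new base -/
theorem flat_baseChange_iff :
    Module.Flat E (E ⊗[C] Z) ↔
      ∀ 𝔢 : Ideal E, Injective ((𝔢.subtype.restrictScalars C).lTensor Z) := by
  rw [Module.Flat.iff_rTensor_injective']
  refine forall_congr' fun 𝔢 => ?_
  rw [LinearMap.lTensor_inj_iff_rTensor_inj]
  constructor
  · intro h
    rw [injective_iff_map_eq_zero]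
    intro y hy
    obtain ⟨x, rfl⟩ := (AlgebraTensorModule.cancelBaseChange C E E 𝔢 Z).surjective y
    rw [← cancel_square] at hy
    have h1 := (AlgebraTensorModule.cancelBaseChange C E E E Z).injective
      (hy.trans (map_zero _).symm)
    have h2 := h (h1.trans (map_zero _).symm)
    rw [h2, map_zero]
  · intro h
    rw [injective_iff_map_eq_zero]
    intro x hx
    have h1 := cancel_square C E Z 𝔢 x
    rw [hx, map_zero] at h1
    have h2 := h (h1.symm.trans (map_zero _).symm)
    exact (AlgebraTensorModule.cancelBaseChange C E E 𝔢 Z).injective (h2.trans (map_zero _).symm)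

end FlatBC

section Transfer

variable {C B : Type*} [CommRing C] [CommRing B] [Algebra C B] (T : Submonoid B)
  {Y Z : Type*} [AddCommGroup Y] [Module B Y] [Module C Y] [IsScalarTower C B Y]
  [AddCommGroup Z] [Module B Z] [Module C Z] [IsScalarTower C B Z]
  (g : Y →ₗ[B] Z) [IsLocalizedModule T g]

include T g in
/-- flatness of base changes passes to a localization with respect to another ring acting. -/
theorem flat_baseChange_of_isLocalizedModule (E : Type*) [CommRing E] [Algebra C E]
    [Module.Flat E (E ⊗[C] Y)] : Module.Flat E (E ⊗[C] Z) := by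
  rw [flat_baseChange_iff]
  intro 𝔢
  have hY := (flat_baseChange_iff C E Y).mp inferInstance 𝔢
  rw [injective_iff_map_eq_zero] at hY ⊢
  intro x' hx'
  have := Groth.Agent.H1.lTensor_eq_zero_of_isLocalizedModule T g
    (𝔢.subtype.restrictScalars C) (LinearMap.id : 𝔢 →ₗ[C] 𝔢)
    (fun x hx => by rw [LinearMap.lTensor_id, LinearMap.id_apply]; exact hY x hx) x' hx'
  simpa using this

end Transfer

end Groth.Agent.H6.ValFlat
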