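import Mathlib
import Groth.Agent.H4.FlatFinDesc
import Groth.Agent.Lib.Helper9.ChevMod
import Groth.Agent.Lib.Helper6.CRD3
import Groth.Agent.Lib.Helper6.VF1

/-!
# Valuative criterion of flatness, part 2 (helper6): the complete local core
-/

set_option autoImplicit false
universe u
open TensorProduct Function IsLocalRing

namespace Groth.Agent.H6.ValFlat

/-- all base changes to discrete valuation rings are flat -/
def DVRFlat (C : Type u) [CommRing C] (Z : Type u) [AddCommGroup Z] [Module C Z] : Prop :=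
  ∀ (R : Type u) [CommRing R] [IsDomain R] [IsDiscreteValuationRing R] [Algebra C R],
    Module.Flat R (R ⊗[C] Z)

/-- modules over quotients of a field are flat -/
theorem flat_quotient_of_isField (K : Type u) [CommRing K] (hK : IsField K) (I : Ideal K)
    (X : Type u) [AddCommGroup X] [Module (K ⧸ I) X] : Module.Flat (K ⧸ I) X := by
  letI := hK.toField
  rcases Ideal.eq_bot_or_top I with rfl | rfl
  · have hF : IsField (K ⧸ (⊥ : Ideal K)) :=
      (Ideal.Quotient.maximal_ideal_iff_isField_quotient ⊥).mp Ideal.bot_isMaximal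
    letI := hF.toField
    infer_instance
  · have : Subsingleton (K ⧸ (⊤ : Ideal K)) := Ideal.Quotient.subsingleton_iff.mpr rfl
    exact Groth.Agent.H1.flat_of_subsingleton_ring X

/-- complete reduced case at the Artinian level -/
theorem flat_quotient_pow_of_dvrFlat (C₀ : Type u) [CommRing C₀] [IsNoetherianRing C₀]
    [IsLocalRing C₀] [IsReduced C₀] [IsAdicComplete (maximalIdeal C₀) C₀]
    (X : Type u) [AddCommGroup X] [Module C₀ X] (hX : DVRFlat C₀ X) (n : ℕ) :
    Module.Flat (C₀ ⧸ maximalIdeal C₀ ^ n) ((C₀ ⧸ maximalIdeal C₀ ^ n) ⊗[C₀] X) := by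
  classical
  by_cases hF : IsField C₀
  · exact flat_quotient_of_isField C₀ hF _ _
  · obtain ⟨k, V, iV, iD, iDVR, φ, hφ, hker⟩ := Groth.Agent.H6.CRD.main C₀ hF n
    let J : Fin k → Ideal C₀ := fun i => RingHom.ker (φ i)
    have hJ : ∀ i, Module.Flat (C₀ ⧸ J i) ((C₀ ⧸ J i) ⊗[C₀] X) := by
      intro i
      letI : Algebra C₀ (V i) := (φ i).toAlgebra
      letI : Algebra (C₀ ⧸ J i) (V i) := (RingHom.kerLift (φ i)).toAlgebra
      haveI : IsScalarTower C₀ (C₀ ⧸ J i) (V i) := IsScalarTower.of_algebraMap_eq (fun a => rfl)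
      haveI : Module.Finite C₀ (V i) := (hφ i).2
      haveI : Module.Finite (C₀ ⧸ J i) (V i) := Module.Finite.of_restrictScalars_finite C₀ _ _
      have hinj : Injective (algebraMap (C₀ ⧸ J i) (V i)) := RingHom.kerLift_injective (φ i)
      haveI : Module.Flat (V i) (V i ⊗[C₀] X) := hX (V i)
      haveI : Module.Flat (V i) (V i ⊗[C₀ ⧸ J i] ((C₀ ⧸ J i) ⊗[C₀] X)) :=
        Module.Flat.of_linearEquiv
          (AlgebraTensorModule.cancelBaseChange C₀ (C₀ ⧸ J i) (V i) (V i) X)
      exact Groth.Agent.H4.FlatFinDesc.flat_of_flat_baseChange_finite_injective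
        (C₀ ⧸ J i) (V i) hinj _
    have h2 := Groth.Agent.H4.FlatFinDesc.flat_quotient_finset_inf X J hJ Finset.univ
    have hle : Finset.univ.inf J ≤ maximalIdeal C₀ ^ n := by
      rw [Finset.inf_univ_eq_iInf]
      exact hker
    exact Groth.Agent.H4.FlatFinDesc.flat_section (R' := C₀) (S' := C₀ ⧸ Finset.univ.inf J)
      (C₀ ⧸ maximalIdeal C₀ ^ n) (Ideal.Quotient.factorₐ C₀ hle) X

section Sep

variable (C : Type u) [CommRing C] [IsNoetherianRing C] (N 𝔪 : Ideal C)
  (B₁ : Type u) [CommRing B₁] [IsNoetherianRing B₁] [Algebra C B₁]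
  (hrad : 𝔪.map (algebraMap C B₁) ≤ Ideal.jacobson ⊥)
  (Z : Type u) [AddCommGroup Z] [Module C Z] [Module B₁ Z] [IsScalarTower C B₁ Z]
  [Module.Finite B₁ Z]

include hrad in
theorem sep_quotient (J : Ideal (C ⧸ N)) (x : ((C ⧸ N) ⊗[C] Z) ⊗[C ⧸ N] J)
    (hx : ∀ n : ℕ, x ∈ (𝔪.map (Ideal.Quotient.mk N)) ^ n •
      (⊤ : Submodule (C ⧸ N) (((C ⧸ N) ⊗[C] Z) ⊗[C ⧸ N] J))) : x = 0 := by
  let e1 := TensorProduct.comm (C ⧸ N) ((C ⧸ N) ⊗[C] Z) J
  let e2 := AlgebraTensorModule.cancelBaseChange C (C ⧸ N) (C ⧸ N) J Z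
  let e3 := TensorProduct.comm C J Z
  let e : ((C ⧸ N) ⊗[C] Z) ⊗[C ⧸ N] J → Z ⊗[C] J := fun w => e3 (e2 (e1 w))
  have he_add : ∀ a b, e (a + b) = e a + e b := fun a b => by simp only [e, map_add]
  have he_zero : e 0 = 0 := by simp only [e, map_zero]
  have he_smul : ∀ (a : C) (w), e (Ideal.Quotient.mk N a • w) = a • e w := by
    intro a w
    simp only [e]
    rw [map_smul, map_smul]
    have : (Ideal.Quotient.mk N a) • e2 (e1 w) = a • e2 (e1 w) := by
      rw [← Ideal.Quotient.algebraMap_eq, algebraMap_smul]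
    rw [this, map_smul]
  have he_inj : Injective e := by
    intro a b hab
    exact e1.injective (e2.injective (e3.injective hab))
  haveI : Module.Finite C (C ⧸ N) := inferInstance
  haveI : Module.Finite C J := Module.Finite.trans (C ⧸ N) J
  haveI : Module.Finite B₁ (Z ⊗[C] J) := Groth.Agent.H1.finite_tensor_of_finite J
  have hkrull := Ideal.iInf_pow_smul_eq_bot_of_le_jacobson (M := Z ⊗[C] J) _ hrad
  have hmem : e x ∈ (⨅ i : ℕ, (𝔪.map (algebraMap C B₁)) ^ i • ⊤ : Submodule B₁ (Z ⊗[C] J)) := by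
    rw [Submodule.mem_iInf]
    intro n
    refine Submodule.smul_induction_on (hx n) ?_ ?_
    · intro a ha w _
      rw [← Ideal.map_pow] at ha
      obtain ⟨a', ha', rfl⟩ :=
        (Ideal.mem_map_iff_of_surjective _ Ideal.Quotient.mk_surjective).mp ha
      rw [he_smul, ← algebraMap_smul B₁ a' (e w), ← Ideal.map_pow]
      exact Submodule.smul_mem_smul (Ideal.mem_map_of_mem _ ha') Submodule.mem_top
    · intro a b ha hb
      rw [he_add]
      exact Submodule.add_mem _ ha hb
  rw [hkrull] at hmem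
  exact he_inj (hmem.trans he_zero.symm)

end Sep

/-- **Core**: over a complete Noetherian local ring `C`, a module `Z` finite over a Noetherian
`C`-algebra `B₁` with `𝔪_C B₁ ⊆ rad B₁`, all of whose base changes to discrete valuation rings are
flat and whose base change to some ring `E ⊇ C` is flat, is flat. -/
theorem core (C : Type u) [CommRing C] [IsNoetherianRing C] [IsLocalRing C]
    [IsAdicComplete (maximalIdeal C) C]
    (B₁ : Type u) [CommRing B₁] [IsNoetherianRing B₁] [Algebra C B₁]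
    (hrad : (maximalIdeal C).map (algebraMap C B₁) ≤ Ideal.jacobson ⊥)
    (Z : Type u) [AddCommGroup Z] [Module C Z] [Module B₁ Z] [IsScalarTower C B₁ Z]
    [Module.Finite B₁ Z] (hdvr : DVRFlat C Z)
    (E : Type u) [CommRing E] [Algebra C E] (hE : Injective (algebraMap C E))
    [Module.Flat E (E ⊗[C] Z)] : Module.Flat C Z := by
  set N := nilradical C with hN
  obtain ⟨r, hr⟩ := IsNoetherianRing.isNilpotent_nilradical C
  have hNtop : N ≠ ⊤ := by
    intro h
    have : (1 : C) ∈ nilradical C := by rw [← hN, h]; trivial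
    obtain ⟨k, hk⟩ := mem_nilradical.mp this
    rw [one_pow] at hk
    exact one_ne_zero hk
  have hmk : Surjective (Ideal.Quotient.mk N) := Ideal.Quotient.mk_surjective
  haveI : Nontrivial (C ⧸ N) := Ideal.Quotient.nontrivial_iff.mpr hNtop
  haveI : IsLocalRing (C ⧸ N) := IsLocalRing.of_surjective' (Ideal.Quotient.mk N) hmk
  have hmax : (maximalIdeal C).map (Ideal.Quotient.mk N) = maximalIdeal (C ⧸ N) :=
    IsLocalRing.map_maximalIdeal_of_surjective (Ideal.Quotient.mk N) hmk
  haveI : IsReduced (C ⧸ N) :=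
    (Ideal.isRadical_iff_quotient_reduced N).mp (Ideal.radical_isRadical ⊥)
  haveI : IsAdicComplete (maximalIdeal C) (C ⧸ N) :=
    Groth.Agent.H9.ChevMod.isAdicComplete_of_finite C _ (C ⧸ N)
  haveI : IsAdicComplete (maximalIdeal (C ⧸ N)) (C ⧸ N) := by
    rw [← hmax]
    exact (IsAdicComplete.map_algebraMap_iff (R := C) (S := C ⧸ N) (M := C ⧸ N)
      (I := maximalIdeal C)).mpr inferInstance
  have hdvr₀ : DVRFlat (C ⧸ N) ((C ⧸ N) ⊗[C] Z) := by
    intro R _ _ _ _
    letI : Algebra C R := ((algebraMap (C ⧸ N) R).comp (Ideal.Quotient.mk N)).toAlgebra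
    haveI : IsScalarTower C (C ⧸ N) R := IsScalarTower.of_algebraMap_eq (fun a => rfl)
    haveI := hdvr R
    exact Module.Flat.of_linearEquiv
      (AlgebraTensorModule.cancelBaseChange C (C ⧸ N) R R Z)
  haveI : Module.Flat (C ⧸ N) ((C ⧸ N) ⊗[C] Z) := by
    refine flat_of_sep (maximalIdeal (C ⧸ N)) ?_ ?_
    · intro J x hx
      refine sep_quotient C N (maximalIdeal C) B₁ hrad Z J x ?_
      rw [hmax]
      exact hx
    · intro n _
      exact flat_quotient_pow_of_dvrFlat (C ⧸ N) _ hdvr₀ n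
  exact Groth.Agent.H4.FlatNil.flat_of_nilpotent_of_injective C E hE N r hr Z

end Groth.Agent.H6.ValFlat
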