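import Mathlib
import Groth.Agent.Lib.Helper6.VF2

/-!
# The flattening ideal over a complete local ring (helper6), part 1: existence
-/

set_option autoImplicit false
universe u
open TensorProduct Function IsLocalRing

namespace Groth.Agent.H6.FlatId

variable (R S : Type u) [CommRing R] [IsLocalRing R] [IsNoetherianRing R]
  [CommRing S] [Algebra R S]
  (M : Type u) [AddCommGroup M] [Module S M] [Module R M] [IsScalarTower R S M]

/-- the flattening property of an ideal `J` of `R` -/
def Prop' (J : Ideal R) : Prop :=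
  ∀ (q : Ideal S) [q.IsPrime], q.comap (algebraMap R S) = maximalIdeal R →
    Module.Flat (R ⧸ J) ((R ⧸ J) ⊗[R] LocalizedModule q.primeCompl M)

theorem prop_maximalIdeal : Prop' R S M (maximalIdeal R) := by
  intro q _ _
  letI : Field (R ⧸ maximalIdeal R) := Ideal.Quotient.field _
  infer_instance

theorem prop_top : Prop' R S M ⊤ := by
  intro q _ _
  haveI : Subsingleton (R ⧸ (⊤ : Ideal R)) := Ideal.Quotient.subsingleton_iff.mpr rfl
  exact Groth.Agent.H1.flat_of_subsingleton_ring _

variable [IsAdicComplete (maximalIdeal R) R] [IsNoetherianRing S] [Module.Finite S M]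

/-- the intersection of all ideals with the flattening property has it -/
theorem prop_iInf : Prop' R S M (⨅ i : {J : Ideal R // J ≤ maximalIdeal R ∧ Prop' R S M J}, i.1) := by
  classical
  set ι := {J : Ideal R // J ≤ maximalIdeal R ∧ Prop' R S M J} with hι
  let a : ι → Ideal R := fun i => i.1
  set I : Ideal R := ⨅ i : ι, a i with hI
  have hIm : I ≤ maximalIdeal R :=
    iInf_le_of_le ⟨maximalIdeal R, le_rfl, prop_maximalIdeal R S M⟩ le_rfl
  have hIa : ∀ i, I ≤ a i := fun i => iInf_le _ i
  intro q _ hq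
  set Z := LocalizedModule q.primeCompl M with hZ
  -- the quotient ring
  have hItop : I ≠ ⊤ := fun h => (Ideal.IsPrime.ne_top inferInstance :
    maximalIdeal R ≠ ⊤) (top_le_iff.mp (h ▸ hIm))
  have hmk : Surjective (Ideal.Quotient.mk I) := Ideal.Quotient.mk_surjective
  haveI : Nontrivial (R ⧸ I) := Ideal.Quotient.nontrivial_iff.mpr hItop
  haveI : IsLocalRing (R ⧸ I) := IsLocalRing.of_surjective' (Ideal.Quotient.mk I) hmk
  have hmax : (maximalIdeal R).map (Ideal.Quotient.mk I) = maximalIdeal (R ⧸ I) :=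
    IsLocalRing.map_maximalIdeal_of_surjective (Ideal.Quotient.mk I) hmk
  haveI : IsAdicComplete (maximalIdeal R) (R ⧸ I) :=
    Groth.Agent.H9.ChevMod.isAdicComplete_of_finite R _ (R ⧸ I)
  haveI : IsAdicComplete (maximalIdeal (R ⧸ I)) (R ⧸ I) := by
    rw [← hmax]
    exact (IsAdicComplete.map_algebraMap_iff (R := R) (S := R ⧸ I) (M := R ⧸ I)
      (I := maximalIdeal R)).mpr inferInstance
  -- the localization
  haveI : IsNoetherianRing (Localization q.primeCompl) :=
    IsLocalization.isNoetherianRing q.primeCompl _ inferInstance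
  haveI : Module.Finite (Localization q.primeCompl) Z :=
    Module.Finite.of_isLocalizedModule q.primeCompl (LocalizedModule.mkLinearMap q.primeCompl M)
  have hrad : (maximalIdeal R).map (algebraMap R (Localization q.primeCompl)) ≤
      Ideal.jacobson ⊥ := by
    refine le_trans ?_ (IsLocalRing.maximalIdeal_le_jacobson ⊥)
    rw [IsScalarTower.algebraMap_eq R S (Localization q.primeCompl), ← Ideal.map_map,
      ← Localization.AtPrime.map_eq_maximalIdeal]
    exact Ideal.map_mono (Ideal.map_le_iff_le_comap.mpr hq.ge)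
  -- the family in the quotient
  let b : ι → Ideal (R ⧸ I) := fun i => (a i).map (Ideal.Quotient.mk I)
  have hb : ⨅ i, b i = ⊥ := by
    rw [eq_bot_iff]
    intro x hx
    obtain ⟨r, rfl⟩ := hmk x
    rw [Ideal.mem_bot, Ideal.Quotient.eq_zero_iff_mem, hI, Ideal.mem_iInf]
    intro i
    have h1 : Ideal.Quotient.mk I r ∈ b i := (Ideal.mem_iInf.mp hx) i
    obtain ⟨y, hy, hyr⟩ := (Ideal.mem_map_iff_of_surjective _ hmk).mp h1
    have h2 : y - r ∈ I := by
      rw [← Ideal.Quotient.eq_zero_iff_mem, map_sub, hyr, sub_self]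
    have h3 : r = y - (y - r) := by ring
    rw [h3]
    exact Ideal.sub_mem _ hy (hIa i h2)
  refine Groth.Agent.H6.ValFlat.flat_of_sep (maximalIdeal (R ⧸ I)) ?_ ?_
  · intro J x hx
    refine Groth.Agent.H6.ValFlat.sep_quotient R I (maximalIdeal R) (Localization q.primeCompl)
      hrad Z J x ?_
    rw [hmax]
    exact hx
  · intro n _
    obtain ⟨s, hs⟩ := Groth.Agent.H6.CRD.chevalley_family (R ⧸ I) b hb n
    have hJ₀ : Module.Flat (R ⧸ s.inf a) ((R ⧸ s.inf a) ⊗[R] Z) :=
      Groth.Agent.H4.FlatFinDesc.flat_quotient_finset_inf Z a (fun i => i.2.2 q hq) s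
    have hle : (s.inf a).map (Ideal.Quotient.mk I) ≤ maximalIdeal (R ⧸ I) ^ n := by
      refine le_trans ?_ hs
      refine Finset.le_inf fun i hi => ?_
      exact Ideal.map_mono (Finset.inf_le hi)
    set T := (R ⧸ I) ⧸ maximalIdeal (R ⧸ I) ^ n with hT
    have hker : ∀ r ∈ s.inf a, (Algebra.ofId R T) r = 0 := by
      intro r hr
      change algebraMap R T r = 0
      rw [IsScalarTower.algebraMap_apply R (R ⧸ I) T, Ideal.Quotient.algebraMap_eq,
        Ideal.Quotient.algebraMap_eq, Ideal.Quotient.eq_zero_iff_mem]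
      exact hle (Ideal.mem_map_of_mem _ hr)
    let Φ : (R ⧸ s.inf a) →ₐ[R] T := Ideal.Quotient.liftₐ (s.inf a) (Algebra.ofId R T) hker
    haveI := hJ₀
    haveI hT' : Module.Flat T (T ⊗[R] Z) :=
      Groth.Agent.H4.FlatFinDesc.flat_section (R' := R) (S' := R ⧸ s.inf a) T Φ Z
    exact Module.Flat.of_linearEquiv (AlgebraTensorModule.cancelBaseChange R (R ⧸ I) T T Z)

/-- **Existence of the flattening ideal** over a complete Noetherian local ring. -/
theorem exists_smallest : ∃ I : Ideal R, I ≤ maximalIdeal R ∧ Prop' R S M I ∧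
    ∀ J : Ideal R, Prop' R S M J → I ≤ J := by
  refine ⟨⨅ i : {J : Ideal R // J ≤ maximalIdeal R ∧ Prop' R S M J}, i.1, ?_, prop_iInf R S M, ?_⟩
  · exact iInf_le_of_le ⟨maximalIdeal R, le_rfl, prop_maximalIdeal R S M⟩ le_rfl
  · intro J hJ
    by_cases hJtop : J = ⊤
    · rw [hJtop]; exact le_top
    · exact iInf_le_of_le ⟨J, IsLocalRing.le_maximalIdeal hJtop, hJ⟩ le_rfl

end Groth.Agent.H6.FlatId
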