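import Mathlib
import Groth.Agent.Lib.Helper8.FlatCA.BaseChangeAt
import Groth.Agent.Lib.Helper6.FLI1

/-!
# The flattening ideal over a complete local ring (helper6), part 2: base change plumbing
-/

set_option autoImplicit false
universe u
open TensorProduct Function IsLocalRing

namespace Groth.Agent.H6.FlatId

section BC

variable {R S R' S' : Type u} [CommRing R] [CommRing S] [CommRing R'] [CommRing S']
  [Algebra R S] [Algebra R R'] [Algebra S S'] [Algebra R' S'] [Algebra R S'] [IsScalarTower R S S']
  [IsScalarTower R R' S'] [Algebra.IsPushout R S R' S']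
  {M M' : Type u} [AddCommGroup M] [Module S M] [Module R M] [IsScalarTower R S M]
  [AddCommGroup M'] [Module S' M'] [Module R' M'] [IsScalarTower R' S' M'] [Module S M']
  [IsScalarTower S S' M']
  (q : Ideal S) [q.IsPrime]

local notation "S₁" => Algebra.algebraMapSubmonoid S' (Ideal.primeCompl q)
local notation "T₁" => Localization (Algebra.algebraMapSubmonoid S' (Ideal.primeCompl q))
local notation "Sq" => Localization.AtPrime q
local notation "Z" => LocalizedModule (Algebra.algebraMapSubmonoid S' (Ideal.primeCompl q)) M'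
local notation "Mq" => LocalizedModule (Ideal.primeCompl q) M

/-- the localization of `M'` at the image of `S ∖ q` is the base change of `M_q` -/
theorem nonempty_equiv (f : M →ₗ[S] M') (hf : IsBaseChange S' f) :
    Nonempty (Z ≃ₗ[R'] R' ⊗[R] Mq) := by
  classical
  haveI twRqT : IsScalarTower R Sq T₁ :=
    IsScalarTower.of_algebraMap_eq (fun r => by
      rw [IsScalarTower.algebraMap_apply R S Sq, ← IsScalarTower.algebraMap_apply S Sq T₁,
        ← IsScalarTower.algebraMap_apply R S T₁])
  haveI po1 : Algebra.IsPushout S S' Sq T₁ :=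
    Algebra.isPushout_of_isLocalization q.primeCompl Sq S' T₁
  haveI po2 : Algebra.IsPushout S Sq S' T₁ := po1.symm
  haveI po3 : Algebra.IsPushout R Sq R' T₁ :=
    (Algebra.IsPushout.comp_iff R S R' S' (T := Sq) (T' := T₁)).mpr po2
  haveI po4 : Algebra.IsPushout R R' Sq T₁ := po3.symm
  letI modq : Module Sq Z := Module.compHom Z (algebraMap Sq T₁)
  haveI tw2 : IsScalarTower Sq T₁ Z := IsScalarTower.of_algebraMap_smul (fun _ _ => rfl)
  haveI tw4 : IsScalarTower S Sq Z := IsScalarTower.of_algebraMap_smul (fun s x => by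
    show algebraMap Sq T₁ (algebraMap S Sq s) • x = s • x
    rw [← IsScalarTower.algebraMap_apply S Sq T₁, algebraMap_smul])
  have hP : IsBaseChange Sq (LocalizedModule.mkLinearMap q.primeCompl M) :=
    IsLocalizedModule.isBaseChange q.primeCompl Sq _
  have hZ : IsBaseChange T₁ (LocalizedModule.mkLinearMap S₁ M') :=
    IsLocalizedModule.isBaseChange S₁ T₁ _
  have hcomp : IsBaseChange T₁ (((LocalizedModule.mkLinearMap S₁ M').restrictScalars S).comp f) :=
    IsBaseChange.comp hf hZ
  let h₁ : Mq →ₗ[Sq] Z :=
    hP.lift (((LocalizedModule.mkLinearMap S₁ M').restrictScalars S).comp f)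
  have h₁bc : IsBaseChange T₁ h₁ := by
    refine IsBaseChange.of_comp hP ?_
    have e : (h₁.restrictScalars S).comp (LocalizedModule.mkLinearMap q.primeCompl M) =
        ((LocalizedModule.mkLinearMap S₁ M').restrictScalars S).comp f := hP.lift_comp _
    rw [e]
    exact hcomp
  exact ⟨(h₁bc.equiv.symm.restrictScalars R') ≪≫ₗ
      (Algebra.IsPushout.cancelBaseChange R R' Sq T₁ Mq)⟩

/-- flatness at a prime after base change, from flatness of the base change of the localization -/
theorem flat_atPrime_of_flat_baseChange (q' : Ideal S') [q'.IsPrime]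
    (f : M →ₗ[S] M') (hf : IsBaseChange S' f)
    (hq : q = q'.comap (algebraMap S S'))
    [hfl : Module.Flat R' (R' ⊗[R] LocalizedModule q.primeCompl M)] :
    Module.Flat R' (LocalizedModule q'.primeCompl M') := by
  obtain ⟨e⟩ := nonempty_equiv (R := R) (R' := R') q f hf
  haveI flZ : Module.Flat R' Z := Module.Flat.of_linearEquiv e
  refine Groth.Agent.H8.FlatCA.flat_atPrime_of_flat_localizedModule (R := R') S₁ M' q' ?_
  rw [Set.disjoint_left]
  rintro _ ⟨s, hs, rfl⟩ hmem
  apply hs
  rw [hq]
  exact hmem

end BC

end Groth.Agent.H6.FlatId
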