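import Mathlib
import Groth.Agent.Lib.Helper8.FlatCA.BaseChangeAt
import Groth.Agent.Lib.Helper6.FLI1

/-!
# The flattening ideal over a complete local ring (helper6), part 3: local-to-global lemmas
-/

set_option autoImplicit false
universe u
open TensorProduct Function IsLocalRing

namespace Groth.Agent.H6.FlatId

section LG

variable {C : Type*} [CommRing C] (E : Type*) [CommRing E] [Algebra C E]
  (T : Type*) [CommRing T] [Algebra C T]
  (Z : Type*) [AddCommGroup Z] [Module C Z] [Module T Z] [IsScalarTower C T Z]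

/-- flatness of a base change can be checked on the localizations at the maximal ideals of a
ring acting on the module -/
theorem flat_baseChange_of_forall_maximal
    (H : ∀ (P : Ideal T) [P.IsMaximal], Module.Flat E (E ⊗[C] LocalizedModule P.primeCompl Z)) :
    Module.Flat E (E ⊗[C] Z) := by
  rw [Groth.Agent.H6.ValFlat.flat_baseChange_iff]
  intro 𝔢
  have hH := fun (P : Ideal T) [P.IsMaximal] =>
    (Groth.Agent.H6.ValFlat.flat_baseChange_iff C E (LocalizedModule P.primeCompl Z)).mp (H P) 𝔢
  rw [← AlgebraTensorModule.coe_lTensor (A := T)]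
  refine injective_of_isLocalized_maximal _
    (fun P _ ↦ AlgebraTensorModule.rTensor C _ (LocalizedModule.mkLinearMap P.primeCompl Z)) _
    (fun P _ ↦ AlgebraTensorModule.rTensor C _ (LocalizedModule.mkLinearMap P.primeCompl Z)) _
    fun P hP ↦ ?_
  simpa [IsLocalizedModule.map_lTensor] using hH P

end LG

section Sub

variable {R' : Type*} [CommRing R'] (𝔞 : Ideal R') (T : Type*) [CommRing T] [Algebra R' T]
  (𝔫 : Ideal T) [𝔫.IsPrime]
  (Z : Type*) [AddCommGroup Z] [Module R' Z] [Module T Z] [IsScalarTower R' T Z]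

/-- if some element of `𝔞` acts invertibly, the reduction modulo `𝔞 ^ n` vanishes -/
theorem subsingleton_quotient_tensor_localized (n : ℕ) (a : R') (ha : a ∈ 𝔞)
    (han : algebraMap R' T a ∉ 𝔫) :
    Subsingleton ((R' ⧸ 𝔞 ^ n) ⊗[R'] LocalizedModule 𝔫.primeCompl Z) := by
  have hs : algebraMap R' T (a ^ n) ∈ 𝔫.primeCompl := by
    rw [map_pow]
    exact fun h => han (Ideal.IsPrime.mem_of_pow_mem inferInstance n h)
  have hunit := IsLocalizedModule.map_units (LocalizedModule.mkLinearMap 𝔫.primeCompl Z)
    ⟨_, hs⟩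
  have hsurj := ((Module.End.isUnit_iff _).mp hunit).surjective
  refine ⟨fun x y => ?_⟩
  suffices h : ∀ x : (R' ⧸ 𝔞 ^ n) ⊗[R'] LocalizedModule 𝔫.primeCompl Z, x = 0 by
    rw [h x, h y]
  intro x
  induction x using TensorProduct.induction_on with
  | zero => rfl
  | add x y hx hy => rw [hx, hy, add_zero]
  | tmul e z =>
    obtain ⟨z', hz'⟩ := hsurj z
    have hz'' : (a ^ n) • z' = z := by
      rw [← hz', Module.algebraMap_end_apply, algebraMap_smul]
    rw [← hz'', TensorProduct.tmul_smul, TensorProduct.smul_tmul']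
    have : (a ^ n) • e = 0 := by
      rw [Algebra.smul_def, Ideal.Quotient.algebraMap_eq,
        Ideal.Quotient.eq_zero_iff_mem.mpr (Ideal.pow_mem_pow ha n), zero_mul]
    rw [this, TensorProduct.zero_tmul]

end Sub

end Groth.Agent.H6.FlatId
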