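import Mathlib
import Groth.Agent.Lib.Helper8.FlatCA.BaseChangeAt
import Groth.Agent.Lib.Helper6.FLI1
import Groth.Agent.Lib.Helper6.FLI2
import Groth.Agent.Lib.Helper6.FLI3

/-!
# The flattening ideal over a complete local ring (helper6), part 4: universal property
-/

set_option autoImplicit false
universe u
open TensorProduct Function IsLocalRing

namespace Groth.Agent.H6.FlatId

section Univ

variable {R S R' S' : Type u} [CommRing R] [IsLocalRing R] [IsNoetherianRing R]
  [CommRing S] [CommRing R'] [IsLocalRing R'] [CommRing S']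
  [Algebra R S] [Algebra R R'] [IsLocalHom (algebraMap R R')] [Algebra S S'] [Algebra R' S']
  [Algebra R S'] [IsScalarTower R S S'] [IsScalarTower R R' S'] [Algebra.IsPushout R S R' S']
  {M M' : Type u} [AddCommGroup M] [Module S M] [Module R M] [IsScalarTower R S M]
  [AddCommGroup M'] [Module S' M'] [Module R' M'] [IsScalarTower R' S' M'] [Module S M']
  [IsScalarTower S S' M']
  (f : M →ₗ[S] M') (hf : IsBaseChange S' f)

include hf in
/-- if the flattening ideal dies in `R'`, the base change is flat over `R'` at primes over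
the maximal ideal -/
theorem flatAt_of_le_ker (I : Ideal R) (hI : Prop' R S M I)
    (hker : I ≤ RingHom.ker (algebraMap R R')) (q' : Ideal S') [q'.IsPrime]
    (hq' : q'.comap (algebraMap R' S') = maximalIdeal R') :
    Module.Flat R' (LocalizedModule q'.primeCompl M') := by
  set q := q'.comap (algebraMap S S') with hqdef
  have hq : q.comap (algebraMap R S) = maximalIdeal R := by
    rw [hqdef, Ideal.comap_comap, ← IsScalarTower.algebraMap_eq,
      IsScalarTower.algebraMap_eq R R' S', ← Ideal.comap_comap, hq']
    have h04 := (IsLocalRing.local_hom_TFAE (algebraMap R R')).out 0 4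
    exact h04.mp ‹_›
  haveI := hI q hq
  letI : Algebra (R ⧸ I) R' :=
    (Ideal.Quotient.lift I (algebraMap R R') (fun a ha => RingHom.mem_ker.mp (hker ha))).toAlgebra
  haveI : IsScalarTower R (R ⧸ I) R' := IsScalarTower.of_algebraMap_eq (fun a => rfl)
  haveI : Module.Flat R' (R' ⊗[R] LocalizedModule q.primeCompl M) :=
    Module.Flat.of_linearEquiv (AlgebraTensorModule.cancelBaseChange R (R ⧸ I) R' R' _).symm
  exact flat_atPrime_of_flat_baseChange (R := R) q q' f hf rfl

include hf in
/-- flatness of the reduction modulo `𝔪'^n` of the base change of `M_q` -/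
theorem flat_quotient_pow_tensor
    (H : ∀ (q' : Ideal S') [q'.IsPrime], q'.comap (algebraMap R' S') = maximalIdeal R' →
      Module.Flat R' (LocalizedModule q'.primeCompl M'))
    (n : ℕ) (q : Ideal S) [q.IsPrime] :
    Module.Flat (R' ⧸ maximalIdeal R' ^ n)
      ((R' ⧸ maximalIdeal R' ^ n) ⊗[R] LocalizedModule q.primeCompl M) := by
  obtain ⟨e⟩ := nonempty_equiv (R := R) (R' := R') q f hf
  set E := R' ⧸ maximalIdeal R' ^ n
  set S₁ := Algebra.algebraMapSubmonoid S' q.primeCompl
  set Z := LocalizedModule S₁ M'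
  haveI : Module.Flat E (E ⊗[R'] Z) := by
    refine flat_baseChange_of_forall_maximal E (Localization S₁) Z (fun 𝔫 _ => ?_)
    set r := 𝔫.comap (algebraMap S' (Localization S₁)) with hr
    by_cases hm : (maximalIdeal R').map (algebraMap R' (Localization S₁)) ≤ 𝔫
    · have hr' : r.comap (algebraMap R' S') = maximalIdeal R' := by
        have h1 : maximalIdeal R' ≤ r.comap (algebraMap R' S') := by
          rw [hr, Ideal.comap_comap, ← IsScalarTower.algebraMap_eq]
          exact Ideal.map_le_iff_le_comap.mp hm
        exact ((IsLocalRing.maximalIdeal.isMaximal R').eq_of_le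
          (Ideal.IsPrime.ne_top inferInstance) h1).symm
      haveI : Module.Flat R' (LocalizedModule r.primeCompl M') := H r hr'
      haveI : Module.Flat R' (LocalizedModule 𝔫.primeCompl Z) :=
        (Groth.Agent.H8.FlatCA.flat_double_iff (R := R') S₁ M' 𝔫 r rfl).mp inferInstance
      infer_instance
    · obtain ⟨a, ha, han⟩ : ∃ a ∈ maximalIdeal R', algebraMap R' (Localization S₁) a ∉ 𝔫 := by
        by_contra hcon
        push Not at hcon
        exact hm (Ideal.map_le_iff_le_comap.mpr fun a ha => hcon a ha)
      haveI := subsingleton_quotient_tensor_localized (maximalIdeal R') (Localization S₁) 𝔫 Z n a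
        ha han
      infer_instance
  exact Module.Flat.of_linearEquiv
    ((AlgebraTensorModule.cancelBaseChange R R' E E (LocalizedModule q.primeCompl M)).symm ≪≫ₗ
      (AlgebraTensorModule.congr (LinearEquiv.refl E E) e.symm))

include hf in
/-- the preimage of `𝔪'^n` has the flattening property -/
theorem prop_comap_pow
    (H : ∀ (q' : Ideal S') [q'.IsPrime], q'.comap (algebraMap R' S') = maximalIdeal R' →
      Module.Flat R' (LocalizedModule q'.primeCompl M'))
    (n : ℕ) : Prop' R S M ((maximalIdeal R' ^ n).comap (algebraMap R R')) := by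
  intro q _ hq
  set φ := algebraMap R R' with hφ
  set J := (maximalIdeal R' ^ n).comap φ with hJ
  set E := R' ⧸ maximalIdeal R' ^ n with hE
  set Mq := LocalizedModule q.primeCompl M
  letI algJE : Algebra (R ⧸ J) E := (Ideal.quotientMap (maximalIdeal R' ^ n) φ le_rfl).toAlgebra
  have hinj : Injective (algebraMap (R ⧸ J) E) := Ideal.quotientMap_injective
  haveI : IsScalarTower R (R ⧸ J) E := IsScalarTower.of_algebraMap_eq (fun a => rfl)
  set F := (maximalIdeal R).map (Ideal.Quotient.mk J) with hFdef
  have hF : F ^ n = ⊥ := by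
    rw [hFdef, ← Ideal.map_pow, Ideal.map_eq_bot_iff_le_ker, Ideal.mk_ker]
    intro a ha
    rw [hJ, Ideal.mem_comap]
    have h02 := (IsLocalRing.local_hom_TFAE φ).out 0 2
    have h1 : (maximalIdeal R).map φ ≤ maximalIdeal R' := h02.mp ‹_›
    have h2 : φ a ∈ ((maximalIdeal R) ^ n).map φ := Ideal.mem_map_of_mem _ ha
    rw [Ideal.map_pow] at h2
    exact Ideal.pow_right_mono h1 n h2
  haveI h1 : Module.Flat ((R ⧸ J) ⧸ F) (((R ⧸ J) ⧸ F) ⊗[R ⧸ J] ((R ⧸ J) ⊗[R] Mq)) := by
    rcases Ideal.map_eq_top_or_isMaximal_of_surjective (Ideal.Quotient.mk J)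
      Ideal.Quotient.mk_surjective (inferInstance : (maximalIdeal R).IsMaximal) with h | h
    · haveI : Subsingleton ((R ⧸ J) ⧸ F) := Ideal.Quotient.subsingleton_iff.mpr h
      exact Groth.Agent.H1.flat_of_subsingleton_ring _
    · haveI : F.IsMaximal := h
      letI : Field ((R ⧸ J) ⧸ F) := Ideal.Quotient.field F
      infer_instance
  haveI h2 : Module.Flat E (E ⊗[R ⧸ J] ((R ⧸ J) ⊗[R] Mq)) := by
    haveI : Module.Flat E (E ⊗[R] Mq) := flat_quotient_pow_tensor f hf H n q
    exact Module.Flat.of_linearEquiv (AlgebraTensorModule.cancelBaseChange R (R ⧸ J) E E Mq)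
  exact Groth.Agent.H4.FlatNil.flat_of_nilpotent_of_injective (R ⧸ J) E hinj F n hF _

include hf in
/-- if the base change is flat over the Noetherian local ring `R'` at all primes over the maximal
ideal, the flattening ideal dies in `R'` -/
theorem le_ker_of_flatAt [IsNoetherianRing R'] (I : Ideal R)
    (hmin : ∀ J : Ideal R, Prop' R S M J → I ≤ J)
    (H : ∀ (q' : Ideal S') [q'.IsPrime], q'.comap (algebraMap R' S') = maximalIdeal R' →
      Module.Flat R' (LocalizedModule q'.primeCompl M')) :
    I ≤ RingHom.ker (algebraMap R R') := by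
  have hkrull : (⨅ n, maximalIdeal R' ^ n) = ⊥ :=
    Ideal.iInf_pow_eq_bot_of_isLocalRing _ (Ideal.IsPrime.ne_top inferInstance)
  intro x hx
  rw [RingHom.mem_ker, ← Ideal.mem_bot, ← hkrull, Ideal.mem_iInf]
  intro n
  exact hmin _ (prop_comap_pow f hf H n) hx

include hf in
/-- **Universal property of the flattening ideal** for Noetherian local test rings. -/
theorem universal [IsNoetherianRing R'] (I : Ideal R) (hI : Prop' R S M I)
    (hmin : ∀ J : Ideal R, Prop' R S M J → I ≤ J) :
    (∀ (q' : Ideal S') [q'.IsPrime], q'.comap (algebraMap R' S') = maximalIdeal R' →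
      Module.Flat R' (LocalizedModule q'.primeCompl M')) ↔
    I ≤ RingHom.ker (algebraMap R R') :=
  ⟨fun H => le_ker_of_flatAt f hf I hmin H,
   fun hker q' _ hq' => flatAt_of_le_ker f hf I hI hker q' hq'⟩

end Univ

end Groth.Agent.H6.FlatId
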