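import Mathlib
import Groth.Agent.Lib.Helper1.QFRefine2

/-!
# Finite locally free refinement of fppf covers, étale locally (helper6)

An fppf cover `S₁ ⟶ S` is refined, étale locally around any point of `S`, by a finite flat finitely
presented surjection: quasi-finite flat refinement (helper1) + étale localisation of quasi-finite
algebras (Mathlib, Stacks 00UJ).
-/

set_option autoImplicit false
set_option linter.style.haveILetI false
open CategoryTheory AlgebraicGeometry CategoryTheory.Limits TensorProduct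

namespace Groth.Agent.H6.FLoc

universe u



/-- Étale localisation of a flat, finitely presented algebra at a quasi-finite prime: there are an
étale `R`-algebra `R'` and an `R'`-algebra `A`, finite, flat and finitely presented over `R'`,
receiving `B` compatibly, with a prime of `A` over `q`. -/
theorem exists_etale_finite_flat {R B : Type u} [CommRing R] [CommRing B] [Algebra R B]
    [Module.Flat R B] [Algebra.FinitePresentation R B] (q : Ideal B) [q.IsPrime]
    [Algebra.QuasiFiniteAt R q] :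
    ∃ (R' : Type u) (_ : CommRing R') (_ : Algebra R R') (_ : Algebra.Etale R R')
      (A : Type u) (_ : CommRing A) (_ : Algebra R' A) (ψ : B →+* A),
      ψ.comp (algebraMap R B) = (algebraMap R' A).comp (algebraMap R R') ∧
      Module.Finite R' A ∧ Module.Flat R' A ∧ Algebra.FinitePresentation R' A ∧
      ∃ P' : Ideal A, P'.IsPrime ∧ P'.comap ψ = q := by
  set p : Ideal R := q.under R with hp
  haveI : q.LiesOver p := ⟨rfl⟩
  obtain ⟨R', _, _, _, P, _, _, e, he, P', _, _, hP'q, heP', -, hfin, -⟩ :=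
    Algebra.exists_etale_isIdempotentElem_forall_liesOver_eq p q
  let A := Localization.Away e
  haveI : Module.Flat R' (R' ⊗[R] B) := inferInstance
  haveI : Module.Flat (R' ⊗[R] B) A := IsLocalization.flat A (Submonoid.powers e)
  haveI : Module.Flat R' A := Module.Flat.trans R' (R' ⊗[R] B) A
  haveI : Algebra.FinitePresentation R' (R' ⊗[R] B) := inferInstance
  haveI : Algebra.FinitePresentation (R' ⊗[R] B) A :=
    IsLocalization.Away.finitePresentation e
  haveI : Algebra.FinitePresentation R' A := Algebra.FinitePresentation.trans R' (R' ⊗[R] B) A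
  let ψ : B →+* A := (algebraMap (R' ⊗[R] B) A).comp
    (Algebra.TensorProduct.includeRight (R := R) (A := R') (B := B)).toRingHom
  refine ⟨R', inferInstance, inferInstance, inferInstance, A, inferInstance, inferInstance, ψ,
    ?_, hfin, inferInstance, inferInstance, ?_⟩
  · ext r
    simp only [RingHom.comp_apply, ψ, AlgHom.toRingHom_eq_coe, RingHom.coe_coe,
      Algebra.TensorProduct.includeRight_apply]
    rw [IsScalarTower.algebraMap_apply R' (R' ⊗[R] B) A]
    congr 1
    rw [Algebra.TensorProduct.algebraMap_apply]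
    show (1 : R') ⊗ₜ[R] (algebraMap R B r) = (algebraMap R R' r) ⊗ₜ[R] (1 : B)
    rw [Algebra.algebraMap_eq_smul_one, Algebra.algebraMap_eq_smul_one (A := R'),
      TensorProduct.smul_tmul]
  · have hdisj : Disjoint (Submonoid.powers e : Set (R' ⊗[R] B)) (P' : Set (R' ⊗[R] B)) := by
      rw [Ideal.disjoint_powers_iff_notMem_of_isPrime]
      exact heP'
    refine ⟨P'.map (algebraMap (R' ⊗[R] B) A),
      IsLocalization.isPrime_of_isPrime_disjoint (Submonoid.powers e) A P' inferInstance hdisj, ?_⟩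
    have h1 : (P'.map (algebraMap (R' ⊗[R] B) A)).comap (algebraMap (R' ⊗[R] B) A) = P' :=
      IsLocalization.comap_map_of_isPrime_disjoint (Submonoid.powers e) A inferInstance hdisj
    rw [← Ideal.comap_comap, h1]
    exact hP'q




set_option backward.isDefEq.respectTransparency false in
theorem s1379 {S₁ S : Scheme.{u}} (g : S₁ ⟶ S) [Flat g] [LocallyOfFinitePresentation g]
    [Surjective g] (s : S) :
    ∃ (S' V : Scheme.{u}) (e : S' ⟶ S) (π : V ⟶ S'), Etale e ∧ s ∈ Set.range ⇑e ∧
      Surjective π ∧ IsFinite π ∧ Flat π ∧ LocallyOfFinitePresentation π ∧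
      ∀ v : ↑V, ∃ (W : V.Opens) (r : ↑W ⟶ S₁), v ∈ W ∧ r ≫ g = W.ι ≫ π ≫ e := by
  obtain ⟨T, h, hfl, hfp, hqf, hsurj, hloc⟩ := Groth.Agent.H1.QFRefine.s1375 g
  obtain ⟨t, ht⟩ := h.surjective s
  obtain ⟨V₀, r₀, htV₀, hr₀⟩ := hloc t
  obtain ⟨_, ⟨W, hW, rfl⟩, hsW, -⟩ :=
    S.isBasis_affineOpens.exists_subset_of_mem_open (Set.mem_univ s) isOpen_univ
  obtain ⟨_, ⟨U, hU, rfl⟩, htU, hUsub⟩ := T.isBasis_affineOpens.exists_subset_of_mem_open
    (show t ∈ ((V₀ ⊓ h ⁻¹ᵁ W : T.Opens) : Set T) from ⟨htV₀, by rw [← ht] at hsW; exact hsW⟩)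
    (V₀ ⊓ h ⁻¹ᵁ W).isOpen
  have eUW : U ≤ h ⁻¹ᵁ W := fun x hx => (hUsub hx).2
  have eUV : U ≤ V₀ := fun x hx => (hUsub hx).1
  set φ := h.appLE W U eUW with hφ
  letI algRB : Algebra Γ(S, W) Γ(T, U) := φ.hom.toAlgebra
  haveI : Algebra.FinitePresentation Γ(S, W) Γ(T, U) := h.finitePresentation_appLE hW hU eUW
  haveI : Module.Flat Γ(S, W) Γ(T, U) := h.flat_appLE hW hU eUW
  set y : PrimeSpectrum Γ(T, U) := hU.primeIdealOf ⟨t, htU⟩ with hy
  have hyt : hU.fromSpec y = t := hU.fromSpec_primeIdealOf ⟨t, htU⟩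
  haveI : Algebra.QuasiFiniteAt Γ(S, W) y.asIdeal :=
    (h.quasiFiniteAt t).quasiFiniteAt hU hW eUW htU
  obtain ⟨R', _, _, _, A, _, _, ψ, hψ, hfin, hflat, hfp', P', hP', hP'q⟩ :=
    exists_etale_finite_flat (R := Γ(S, W)) (B := Γ(T, U)) y.asIdeal
  have hnat : Spec.map φ ≫ hW.fromSpec = hU.fromSpec ≫ h :=
    IsAffineOpen.SpecMap_appLE_fromSpec h hW hU eUW
  -- the schemes
  let α : CommRingCat.of R' ⟶ CommRingCat.of A := CommRingCat.ofHom (algebraMap R' A)
  let β : Γ(S, W) ⟶ CommRingCat.of R' := CommRingCat.ofHom (algebraMap Γ(S, W) R')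
  let Ψ : Γ(T, U) ⟶ CommRingCat.of A := CommRingCat.ofHom ψ
  have hring : φ ≫ Ψ = β ≫ α := by
    ext x
    exact RingHom.congr_fun hψ x
  let a : Spec (CommRingCat.of A) ⟶ Spec (CommRingCat.of R') := Spec.map α
  let b : Spec (CommRingCat.of R') ⟶ S := Spec.map β ≫ hW.fromSpec
  let c : Spec (CommRingCat.of A) ⟶ T := Spec.map Ψ ≫ hU.fromSpec
  have hcab : c ≫ h = a ≫ b := by
    simp only [a, b, c, Category.assoc]
    rw [← hnat, ← Spec.map_comp_assoc, ← Spec.map_comp_assoc, hring]
  haveI hafin : IsFinite a := by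
    rw [IsFinite.SpecMap_iff]
    exact RingHom.finite_algebraMap.mpr hfin
  haveI haflat : Flat a := by
    rw [HasRingHomProperty.Spec_iff (P := @Flat)]
    exact RingHom.flat_algebraMap_iff.mpr hflat
  haveI halfp : LocallyOfFinitePresentation a := by
    rw [HasRingHomProperty.Spec_iff (P := @LocallyOfFinitePresentation)]
    exact RingHom.finitePresentation_algebraMap.mpr hfp'
  haveI hbet : Etale b := by
    haveI : Etale (Spec.map β) := by
      rw [HasRingHomProperty.Spec_iff (P := @Etale)]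
      exact RingHom.etale_algebraMap.mpr inferInstance
    infer_instance
  have hopen : IsOpen (Set.range a) := a.isOpenMap.isOpen_range
  let S'' : (Spec (CommRingCat.of R')).Opens := ⟨Set.range a, hopen⟩
  have hra : Set.range a ⊆ Set.range S''.ι := by
    rw [Scheme.Opens.range_ι]; exact subset_rfl
  let π : Spec (CommRingCat.of A) ⟶ S'' := IsOpenImmersion.lift S''.ι a hra
  have hπ : π ≫ S''.ι = a := IsOpenImmersion.lift_fac _ _ _
  refine ⟨S'', Spec (CommRingCat.of A), S''.ι ≫ b, π, inferInstance, ?_, ?_, ?_, ?_, ?_, ?_⟩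
  · -- s in range
    let z' : Spec (CommRingCat.of A) := ⟨P', hP'⟩
    have hz' : Spec.map Ψ z' = y := PrimeSpectrum.ext hP'q
    refine ⟨π z', ?_⟩
    rw [← Scheme.Hom.comp_apply, ← Category.assoc, hπ, ← hcab, Scheme.Hom.comp_apply]
    simp only [c, Scheme.Hom.comp_apply]
    rw [hz', hyt, ht]
  · -- surjective
    refine ⟨fun x => ?_⟩
    obtain ⟨w, hw⟩ : S''.ι x ∈ Set.range a := by
      have h1 : S''.ι x ∈ Set.range S''.ι := ⟨x, rfl⟩
      rw [Scheme.Opens.range_ι] at h1
      exact h1
    refine ⟨w, ?_⟩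
    apply S''.ι.isOpenEmbedding.injective
    rw [← Scheme.Hom.comp_apply, hπ, hw]
  · have : IsFinite (π ≫ S''.ι) := by rw [hπ]; exact hafin
    exact MorphismProperty.of_postcomp (W := @IsFinite) (W' := @IsSeparated) π S''.ι
      inferInstance this
  · have : Flat (π ≫ S''.ι) := by rw [hπ]; exact haflat
    exact MorphismProperty.of_postcomp (W := @Flat) (W' := @IsOpenImmersion) π S''.ι
      inferInstance this
  · have : LocallyOfFinitePresentation (π ≫ S''.ι) := by rw [hπ]; exact halfp
    exact MorphismProperty.of_postcomp (W := @LocallyOfFinitePresentation)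
      (W' := @IsOpenImmersion) π S''.ι inferInstance this
  · intro v
    have hrc : Set.range c ⊆ Set.range V₀.ι := by
      rintro _ ⟨w, rfl⟩
      rw [Scheme.Opens.range_ι]
      simp only [c, Scheme.Hom.comp_apply]
      apply eUV
      have h2 : hU.fromSpec (Spec.map Ψ w) ∈ Set.range hU.fromSpec := ⟨_, rfl⟩
      rw [hU.range_fromSpec] at h2
      exact h2
    let c' : Spec (CommRingCat.of A) ⟶ V₀ := IsOpenImmersion.lift V₀.ι c hrc
    have hc' : c' ≫ V₀.ι = c := IsOpenImmersion.lift_fac _ _ _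
    refine ⟨⊤, (⊤ : (Spec (CommRingCat.of A)).Opens).ι ≫ c' ≫ r₀, trivial, ?_⟩
    simp only [Category.assoc]
    rw [hr₀, ← Category.assoc c', hc', hcab, ← hπ, Category.assoc]

end Groth.Agent.H6.FLoc
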