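import Mathlib
import Groth.Prelude.Def_Mor2
import Groth.Agent.Lib.Helper6.FLoc2
import Groth.Agent.Lib.Helper6.EtDom

set_option autoImplicit false
set_option linter.style.haveILetI false
open CategoryTheory AlgebraicGeometry CategoryTheory.Limits

namespace Groth.Agent.H6.FRef

universe u

set_option backward.isDefEq.respectTransparency false in
/-- Refinement of a single flat lfp morphism around a point of its image. -/
theorem refine_one {S X₀ : Scheme.{u}} (g : X₀ ⟶ S) [Flat g] [LocallyOfFinitePresentation g]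
    (s : S) (hs : s ∈ Set.range g) :
    ∃ (U : S.Opens) (W : Scheme.{u}) (π : W ⟶ U.toScheme), s ∈ U ∧ Mor2.IsFinLocFree π ∧
      Surjective π ∧
      ∀ w : W, ∃ (W' : W.Opens) (T : Scheme.{u}) (ρ : T ⟶ W'.toScheme) (r : T ⟶ X₀),
        w ∈ W' ∧ Mor2.IsFinLocFree ρ ∧ Surjective ρ ∧ r ≫ g = ρ ≫ W'.ι ≫ π ≫ U.ι := by
  -- the open image
  have hopen : IsOpen (Set.range g) := g.isOpenMap.isOpen_range
  let U₀ : S.Opens := ⟨Set.range g, hopen⟩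
  have hrg : Set.range g ⊆ Set.range U₀.ι := by rw [Scheme.Opens.range_ι]; exact subset_rfl
  let g₀ : X₀ ⟶ U₀ := IsOpenImmersion.lift U₀.ι g hrg
  have hg₀ : g₀ ≫ U₀.ι = g := IsOpenImmersion.lift_fac _ _ _
  haveI : Flat g₀ := by
    have : Flat (g₀ ≫ U₀.ι) := by rw [hg₀]; infer_instance
    exact MorphismProperty.of_postcomp (W := @Flat) (W' := @IsOpenImmersion) g₀ U₀.ι
      inferInstance this
  haveI : LocallyOfFinitePresentation g₀ := by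
    have : LocallyOfFinitePresentation (g₀ ≫ U₀.ι) := by rw [hg₀]; infer_instance
    exact MorphismProperty.of_postcomp (W := @LocallyOfFinitePresentation)
      (W' := @IsOpenImmersion) g₀ U₀.ι inferInstance this
  haveI : Surjective g₀ := by
    refine ⟨fun x => ?_⟩
    obtain ⟨w, hw⟩ : U₀.ι x ∈ Set.range g := by
      have h1 : U₀.ι x ∈ Set.range U₀.ι := ⟨x, rfl⟩
      rw [Scheme.Opens.range_ι] at h1
      exact h1
    refine ⟨w, ?_⟩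
    apply U₀.ι.isOpenEmbedding.injective
    rw [← Scheme.Hom.comp_apply, hg₀, hw]
  let s₀ : U₀ := ⟨s, hs⟩
  obtain ⟨S', V, e, πV, he, ⟨s', hs'⟩, hπVsurj, hπVfin, hπVflat, hπVfp, rV, hrV⟩ :=
    Groth.Agent.H6.FLoc.s1379_strong g₀ s₀
  haveI := he
  obtain ⟨V₁, T₁, π₁, hs₀V₁, hV₁, hπ₁surj, hπ₁fin, hπ₁flat, hπ₁fp, hloc⟩ :=
    Groth.Agent.H6.EtDom.s1390 e s' s₀ hs'
  choose Wt ht htW hcomm hpt using hloc
  -- the open W₀ ⊆ T₁ containing the fibre over s₀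
  let W₀ : T₁.Opens := ⨆ (t : {t : T₁ // V₁.ι (π₁ t) = s₀}), Wt t.1 t.2
  have hclosed : IsClosed (π₁ '' ((W₀ : Set T₁)ᶜ)) :=
    π₁.isClosedMap _ W₀.isOpen.isClosed_compl
  let V₂ : (V₁ : Scheme.{u}).Opens := ⟨(π₁ '' ((W₀ : Set T₁)ᶜ))ᶜ, hclosed.isOpen_compl⟩
  let s₁ : (V₁ : Scheme.{u}) := ⟨s₀, hs₀V₁⟩
  have hs₁V₂ : s₁ ∈ V₂ := by
    rintro ⟨t, htW₀, htπ⟩
    apply htW₀
    have h1 : V₁.ι (π₁ t) = s₀ := by rw [htπ]; rfl
    exact TopologicalSpace.Opens.mem_iSup.mpr ⟨⟨t, h1⟩, htW t h1⟩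
  have hpre : ∀ t : T₁, π₁ t ∈ V₂ → t ∈ W₀ := by
    intro t htV₂
    by_contra hcon
    exact htV₂ ⟨t, hcon, rfl⟩
  -- the open U of S and the morphism π
  let j : (V₂ : Scheme.{u}) ⟶ S := V₂.ι ≫ V₁.ι ≫ U₀.ι
  let U : S.Opens := j.opensRange
  let π : ((π₁ ⁻¹ᵁ V₂ : T₁.Opens) : Scheme.{u}) ⟶ U := (π₁ ∣_ V₂) ≫ j.isoOpensRange.hom
  have hπU : π ≫ U.ι = (π₁ ⁻¹ᵁ V₂).ι ≫ π₁ ≫ V₁.ι ≫ U₀.ι := by
    simp only [π, Category.assoc]
    rw [j.isoOpensRange_hom_ι]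
    simp only [j]
    rw [← Category.assoc, morphismRestrict_ι, Category.assoc]
  haveI : Surjective (π₁ ∣_ V₂) := IsZariskiLocalAtTarget.restrict hπ₁surj V₂
  refine ⟨U, ((π₁ ⁻¹ᵁ V₂ : T₁.Opens) : Scheme.{u}), π, ?_, ⟨inferInstance, inferInstance, inferInstance⟩,
    inferInstance, ?_⟩
  · exact ⟨⟨s₁, hs₁V₂⟩, rfl⟩
  intro w
  let ιW := (π₁ ⁻¹ᵁ V₂ : T₁.Opens).ι
  have hw₀ : ιW w ∈ W₀ := by
    apply hpre
    have h1 : ιW w ∈ Set.range ιW := ⟨w, rfl⟩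
    rw [Scheme.Opens.range_ι] at h1
    exact h1
  obtain ⟨⟨t, htF⟩, hwt⟩ := TopologicalSpace.Opens.mem_iSup.mp hw₀
  let Wt' : T₁.Opens := Wt t htF
  let W' : ((π₁ ⁻¹ᵁ V₂ : T₁.Opens) : Scheme.{u}).Opens := ιW ⁻¹ᵁ Wt'
  let a : (W' : Scheme.{u}) ⟶ Wt' := ιW ∣_ Wt'
  have ha : a ≫ Wt'.ι = W'.ι ≫ ιW := morphismRestrict_ι ιW Wt'
  let b : (W' : Scheme.{u}) ⟶ S' := a ≫ ht t htF
  haveI := hπVsurj
  haveI := hπVfin
  haveI := hπVflat
  haveI := hπVfp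
  refine ⟨W', pullback b πV, pullback.fst b πV, pullback.snd b πV ≫ rV, hwt,
    ⟨inferInstance, inferInstance, inferInstance⟩, inferInstance, ?_⟩
  rw [← hg₀]
  simp only [Category.assoc]
  rw [← Category.assoc rV, hrV, Category.assoc, ← Category.assoc (pullback.snd b πV),
    ← pullback.condition, Category.assoc]
  congr 1
  simp only [b, Category.assoc]
  rw [← Category.assoc (ht t htF), hcomm t htF, hπU]
  simp only [Category.assoc]
  rw [← Category.assoc a, ha, Category.assoc]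

end Groth.Agent.H6.FRef
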