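import Mathlib

universe u
open MvPowerSeries IsLocalRing

namespace Groth.Agent.H6.FSm

section decomp

variable {σ : Type*} [Finite σ] {k : Type*} [CommRing k]

/-- the ideal of variables in the power series ring -/
noncomputable abbrev JJ (σ : Type*) (k : Type*) [CommRing k] : Ideal (MvPowerSeries σ k) :=
  Ideal.span (Set.range MvPowerSeries.X)

theorem map_JJ :
    Ideal.map (toAdicCompletionAlgEquiv σ k).toRingEquiv (JJ σ k) =
      (MvPolynomial.idealOfVars σ k).map (algebraMap _ _) := by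
  simp_rw [JJ, Ideal.map_span, ← Set.range_comp]
  congr 2; ext1
  simp [AdicCompletion.algebraMap_apply, ← MvPolynomial.coe_X, toAdicCompletion_coe]

theorem mem_JJ_pow_iff (g : MvPowerSeries σ k) (N : ℕ) :
    g ∈ JJ σ k ^ N ↔ (toAdicCompletion σ k g).val N = 0 := by
  have h1 : g ∈ JJ σ k ^ N ↔
      (toAdicCompletionAlgEquiv σ k).toRingEquiv g ∈
        Ideal.map (toAdicCompletionAlgEquiv σ k).toRingEquiv (JJ σ k ^ N) := by
    rw [Ideal.mem_map_of_equiv]
    constructor
    · intro h; exact ⟨g, h, rfl⟩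
    · rintro ⟨x, hx, hxg⟩
      rwa [← (toAdicCompletionAlgEquiv σ k).toRingEquiv.injective hxg]
  rw [h1, Ideal.map_pow, map_JJ, ← Ideal.map_pow]
  have h2 := AdicCompletion.pow_smul_top_eq_ker_eval (M := MvPolynomial σ k) (n := N)
    (MvPolynomial.idealOfVars_fg σ k)
  have h3 := Ideal.smul_top_eq_map (R := MvPolynomial σ k)
    (S := AdicCompletion (MvPolynomial.idealOfVars σ k) (MvPolynomial σ k))
    (MvPolynomial.idealOfVars σ k ^ N)
  rw [h2] at h3
  have h4 : ∀ x : AdicCompletion (MvPolynomial.idealOfVars σ k) (MvPolynomial σ k),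
      x ∈ Ideal.map (algebraMap _ _) (MvPolynomial.idealOfVars σ k ^ N) ↔ x.val N = 0 := by
    intro x
    have : x ∈ (Ideal.map (algebraMap (MvPolynomial σ k) _)
        (MvPolynomial.idealOfVars σ k ^ N)).restrictScalars (MvPolynomial σ k) ↔ x.val N = 0 := by
      rw [← h3, LinearMap.mem_ker]
      rfl
    simpa using this
  exact h4 _

theorem sub_truncTotal_mem_pow (g : MvPowerSeries σ k) (N : ℕ) :
    g - ((MvPowerSeries.truncTotal N g : MvPolynomial σ k) : MvPowerSeries σ k) ∈ JJ σ k ^ N := by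
  rw [mem_JJ_pow_iff, map_sub, toAdicCompletion_coe]
  change (toAdicCompletion σ k g).val N -
    (AdicCompletion.of (MvPolynomial.idealOfVars σ k) (MvPolynomial σ k) (truncTotal N g)).val N = 0
  rw [toAdicCompletion_apply_eq_mk_truncTotal, sub_eq_zero]
  rfl

end decomp

section ext

variable {σ : Type*} [Finite σ] {k : Type*} [CommRing k] {S : Type*} [CommRing S] [Algebra k S]

theorem algHom_coe (ψ : MvPowerSeries σ k →ₐ[k] S) (p : MvPolynomial σ k) :
    ψ (p : MvPowerSeries σ k) = MvPolynomial.aeval (fun i => ψ (X i)) p := by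
  have : ψ.comp (MvPolynomial.coeToMvPowerSeries.algHom k) =
      MvPolynomial.aeval (fun i => ψ (X i)) := by
    apply MvPolynomial.algHom_ext
    intro i
    simp
  have h2 := congrArg (fun F => F p) this
  simpa using h2

theorem algHom_ext_of_pow (ψ₁ ψ₂ : MvPowerSeries σ k →ₐ[k] S) (N : ℕ)
    (h1 : ∀ g ∈ JJ σ k ^ N, ψ₁ g = 0) (h2 : ∀ g ∈ JJ σ k ^ N, ψ₂ g = 0)
    (hX : ∀ i, ψ₁ (X i) = ψ₂ (X i)) : ψ₁ = ψ₂ := by
  apply AlgHom.ext
  intro g
  have hg := sub_truncTotal_mem_pow g N
  have e1 := h1 _ hg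
  have e2 := h2 _ hg
  rw [map_sub, sub_eq_zero] at e1 e2
  rw [e1, e2, algHom_coe, algHom_coe]
  simp only [hX]

theorem exists_pow_of_nilpotent (ψ : MvPowerSeries σ k →ₐ[k] S)
    (hn : ∀ i, IsNilpotent (ψ (X i))) : ∃ N, ∀ g ∈ JJ σ k ^ N, ψ g = 0 := by
  have hfg : (Ideal.map ψ (JJ σ k)).FG := by
    rw [JJ, Ideal.map_span]
    exact ⟨((Set.finite_range (X : σ → MvPowerSeries σ k)).image ψ).toFinset, by simp⟩
  have hle : Ideal.map ψ (JJ σ k) ≤ nilradical S := by
    rw [JJ, Ideal.map_span, Ideal.span_le]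
    rintro _ ⟨_, ⟨i, rfl⟩, rfl⟩
    exact hn i
  obtain ⟨N, hN⟩ := hfg.isNilpotent_iff_le_nilradical.mpr hle
  refine ⟨N, fun g hg => ?_⟩
  have : ψ g ∈ Ideal.map ψ (JJ σ k ^ N) := Ideal.mem_map_of_mem _ hg
  rw [Ideal.map_pow, hN] at this
  simpa using this

theorem algHom_ext_of_nilpotent (ψ₁ ψ₂ : MvPowerSeries σ k →ₐ[k] S)
    (hn : ∀ i, IsNilpotent (ψ₁ (X i))) (hX : ∀ i, ψ₁ (X i) = ψ₂ (X i)) : ψ₁ = ψ₂ := by
  obtain ⟨N₁, h1⟩ := exists_pow_of_nilpotent ψ₁ hn
  obtain ⟨N₂, h2⟩ := exists_pow_of_nilpotent ψ₂ (fun i => hX i ▸ hn i)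
  refine algHom_ext_of_pow ψ₁ ψ₂ (N₁ + N₂) (fun g hg => h1 g ?_) (fun g hg => h2 g ?_) hX
  · exact Ideal.pow_le_pow_right (Nat.le_add_right _ _) hg
  · exact Ideal.pow_le_pow_right (Nat.le_add_left _ _) hg

end ext

section deriv

variable {σ : Type*} [Fintype σ] {k : Type*} [CommRing k] {A : Type*} [CommRing A] [Algebra k A]
  {M : Type*} [AddCommGroup M] [Module A M] [Module Aᵐᵒᵖ M] [IsCentralScalar A M] [Module k M]
  [IsScalarTower k A M] [IsScalarTower k Aᵐᵒᵖ M]

/-- the algebra map into a trivial square-zero extension attached to a hom `q` and a family of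
"values of the derivation on the variables". -/
noncomputable def derivHom (q : MvPowerSeries σ k →ₐ[k] A) (v : σ → M) :
    MvPowerSeries σ k →ₐ[k] TrivSqZeroExt A M where
  toFun g := TrivSqZeroExt.inl (q g) + TrivSqZeroExt.inr (∑ i, q (pderiv k i g) • v i)
  map_one' := by
    ext <;> simp
  map_mul' g h := by
    ext
    · simp
    · simp only [TrivSqZeroExt.snd_add, TrivSqZeroExt.snd_inl, TrivSqZeroExt.snd_inr, zero_add,
        TrivSqZeroExt.snd_mul, TrivSqZeroExt.fst_add, TrivSqZeroExt.fst_inl,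
        TrivSqZeroExt.fst_inr, add_zero, op_smul_eq_smul, Derivation.leibniz, map_add,
        smul_eq_mul, map_mul, add_smul, mul_smul, Finset.sum_add_distrib, Finset.smul_sum]
  map_zero' := by
    ext <;> simp
  map_add' g h := by
    ext
    · simp
    · simp [add_smul, Finset.sum_add_distrib]
  commutes' c := by
    ext
    · simp [TrivSqZeroExt.algebraMap_eq_inl']
    · simp [TrivSqZeroExt.algebraMap_eq_inl', MvPowerSeries.algebraMap_apply]

@[simp] theorem derivHom_fst (q : MvPowerSeries σ k →ₐ[k] A) (v : σ → M) (g : MvPowerSeries σ k) :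
    (derivHom q v g).fst = q g := by
  simp [derivHom]

@[simp] theorem derivHom_snd (q : MvPowerSeries σ k →ₐ[k] A) (v : σ → M) (g : MvPowerSeries σ k) :
    (derivHom q v g).snd = ∑ i, q (pderiv k i g) • v i := by
  simp [derivHom]


theorem isNilpotent_of_fst (x : TrivSqZeroExt A M) (h : IsNilpotent x.fst) : IsNilpotent x := by
  obtain ⟨N, hN⟩ := h
  refine ⟨N + 1, ?_⟩
  ext
  · simp [pow_succ, hN]
  · simp [hN]

theorem eq_derivHom (φ : MvPowerSeries σ k →ₐ[k] TrivSqZeroExt A M)
    (hn : ∀ i, IsNilpotent (φ (X i)).fst) :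
    φ = derivHom ((TrivSqZeroExt.fstHom k A M).comp φ) (fun i => (φ (X i)).snd) := by
  classical
  apply algHom_ext_of_nilpotent φ _ (fun i => isNilpotent_of_fst _ (hn i))
  intro j
  ext
  · simp
  · simp only [derivHom_snd, pderiv_X, AlgHom.coe_comp, Function.comp_apply]
    rw [Finset.sum_eq_single j]
    · simp
    · intro i _ hij
      simp [Pi.single_eq_of_ne' hij]
    · simp

end deriv

section nil

variable {σ : Type*} {k : Type*} [Field k] {A : Type*} [CommRing A] [Algebra k A]
  [IsLocalRing A] [IsArtinianRing A]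

theorem isNilpotent_of_not_isUnit (x : A) (hx : ¬ IsUnit x) : IsNilpotent x := by
  have h1 : x ∈ IsLocalRing.maximalIdeal A := hx
  have h2 := IsArtinianRing.isNilpotent_jacobson_bot (R := A)
  rw [IsLocalRing.jacobson_eq_maximalIdeal _ bot_ne_top] at h2
  obtain ⟨N, hN⟩ := h2
  refine ⟨N, ?_⟩
  have : x ^ N ∈ IsLocalRing.maximalIdeal A ^ N := Ideal.pow_mem_pow h1 N
  rw [hN] at this
  simpa using this

theorem isNilpotent_map_X (res : A →ₐ[k] k) (q : MvPowerSeries σ k →ₐ[k] A) (i : σ) :
    IsNilpotent (q (X i)) := by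
  apply isNilpotent_of_not_isUnit
  intro hu
  set c := res (q (X i)) with hc
  have hc0 : c ≠ 0 := (hu.map res).ne_zero
  have hunit : IsUnit (X i - C c : MvPowerSeries σ k) := by
    rw [MvPowerSeries.isUnit_iff_constantCoeff]
    simp [hc0]
  have h2 : IsUnit (res (q (X i - C c))) := (hunit.map q).map res
  have h3 : res (q (X i - C c)) = 0 := by
    have : (C c : MvPowerSeries σ k) = algebraMap k _ c := rfl
    rw [map_sub, map_sub, this, AlgHom.commutes, AlgHom.commutes]
    simp [hc]
  rw [h3] at h2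
  exact not_isUnit_zero h2

end nil


section fwd

theorem lifting_of_equiv {k : Type*} [Field k] {σ : Type*} [Fintype σ] {R : Type*} [CommRing R]
    [Algebra k R] (e : R ≃ₐ[k] MvPowerSeries σ k)
    {A : Type*} [CommRing A] [Algebra k A] [IsLocalRing A] [IsArtinianRing A] (res : A →ₐ[k] k)
    {M M' : Type*} [AddCommGroup M] [Module A M] [Module Aᵐᵒᵖ M] [IsCentralScalar A M]
    [Module k M] [IsScalarTower k A M] [IsScalarTower k Aᵐᵒᵖ M]
    [AddCommGroup M'] [Module A M'] [Module Aᵐᵒᵖ M'] [IsCentralScalar A M'] [Module k M']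
    [IsScalarTower k A M'] [IsScalarTower k Aᵐᵒᵖ M'] (f : M' →ₗ[A] M)
    (hf : Function.Surjective f) (φ : R →ₐ[k] TrivSqZeroExt A M) :
    ∃ ψ : R →ₐ[k] TrivSqZeroExt A M',
      ∀ r : R, (ψ r).fst = (φ r).fst ∧ f (ψ r).snd = (φ r).snd := by
  set φ' : MvPowerSeries σ k →ₐ[k] TrivSqZeroExt A M := φ.comp e.symm.toAlgHom with hφ'def
  set q : MvPowerSeries σ k →ₐ[k] A := (TrivSqZeroExt.fstHom k A M).comp φ' with hq
  have hn : ∀ i, IsNilpotent (φ' (X i)).fst := fun i => isNilpotent_map_X res q i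
  have hφ' := eq_derivHom φ' hn
  choose v' hv' using fun i => hf (φ' (X i)).snd
  refine ⟨(derivHom q v').comp e.toAlgHom, fun r => ⟨?_, ?_⟩⟩
  · simp [hq, hφ'def]
  · have h1 := congrArg (fun F => (F (e r)).snd) hφ'
    simp only [derivHom_snd] at h1
    have h2 : φ' (e r) = φ r := by simp [hφ'def]
    rw [h2] at h1
    rw [h1]
    simp [map_sum, hv', hq]

end fwd

section surj

variable {k : Type*} [Field k] {R : Type*} [CommRing R] [Algebra k R] [IsLocalRing R]
  {σ : Type*} [Fintype σ] (t : σ → R) (ht : ∀ i, t i ∈ maximalIdeal R)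

include ht in
theorem vars_le (N : ℕ) : MvPolynomial.idealOfVars σ k ^ N ≤
    Ideal.comap (MvPolynomial.aeval t : MvPolynomial σ k →ₐ[k] R) (maximalIdeal R ^ N) := by
  refine le_trans (Ideal.pow_right_mono ?_ N) (Ideal.le_comap_pow _ N)
  rw [MvPolynomial.idealOfVars, Ideal.span_le]
  rintro _ ⟨i, rfl⟩
  simpa using ht i

/-- the stage-`N` map `k[[x]] → R/m^N` -/
noncomputable def stage (N : ℕ) : MvPowerSeries σ k →ₐ[k] R ⧸ (maximalIdeal R) ^ N :=
  (Ideal.quotientMapₐ ((maximalIdeal R) ^ N) (MvPolynomial.aeval t : MvPolynomial σ k →ₐ[k] R)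
    (vars_le t ht N)).comp ((truncTotalAlgHom σ k N).restrictScalars k)

theorem stage_apply (N : ℕ) (g : MvPowerSeries σ k) :
    stage t ht N g = Ideal.Quotient.mk _ (MvPolynomial.aeval t (truncTotal N g)) := by
  rfl

theorem stage_compat {m n : ℕ} (hle : m ≤ n) :
    (Ideal.Quotient.factorₐ k (Ideal.pow_le_pow_right hle)).comp (stage (k := k) t ht n) =
      stage t ht m := by
  apply AlgHom.ext
  intro g
  simp only [AlgHom.comp_apply, stage_apply]
  change Ideal.Quotient.mk _ _ = Ideal.Quotient.mk _ _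
  rw [Ideal.Quotient.eq, ← map_sub]
  exact vars_le t ht m (truncTotal_sub_truncTotal_mem_pow_idealOfVars hle le_rfl g)

variable [hc : IsAdicComplete (maximalIdeal R) R]

/-- the map `k[[x]] → R` with `x_i ↦ t_i` -/
noncomputable def piHom' (f : (n : ℕ) → MvPowerSeries σ k →ₐ[k] R ⧸ (maximalIdeal R) ^ n)
    (hf : ∀ {m n : ℕ} (hle : m ≤ n),
      (Ideal.Quotient.factorₐ k (Ideal.pow_le_pow_right hle)).comp (f n) = f m) :
    MvPowerSeries σ k →ₐ[k] R :=
  IsAdicComplete.liftAlgHom (maximalIdeal R) f hf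

theorem mk_piHom' (f : (n : ℕ) → MvPowerSeries σ k →ₐ[k] R ⧸ (maximalIdeal R) ^ n)
    (hf : ∀ {m n : ℕ} (hle : m ≤ n),
      (Ideal.Quotient.factorₐ k (Ideal.pow_le_pow_right hle)).comp (f n) = f m)
    (N : ℕ) (g : MvPowerSeries σ k) :
    Ideal.Quotient.mk (maximalIdeal R ^ N) (piHom' f hf g) = f N g :=
  IsAdicComplete.mk_liftAlgHom (maximalIdeal R) f _ N g

noncomputable def piHom : MvPowerSeries σ k →ₐ[k] R :=
  piHom' (stage t ht) (stage_compat t ht)

theorem mk_piHom (N : ℕ) (g : MvPowerSeries σ k) :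
    Ideal.Quotient.mk (maximalIdeal R ^ N) (piHom t ht g) = stage t ht N g :=
  mk_piHom' (stage t ht) (stage_compat t ht) N g


theorem eq_of_forall_mk_eq (x y : R)
    (h : ∀ N, Ideal.Quotient.mk (maximalIdeal R ^ N) x = Ideal.Quotient.mk _ y) : x = y := by
  have : IsHausdorff (maximalIdeal R) R := hc.toIsHausdorff
  refine sub_eq_zero.mp (IsHausdorff.haus this _ (fun n => ?_))
  rw [SModEq.zero, smul_eq_mul, Ideal.mul_top]
  exact Ideal.Quotient.eq.mp (h n)

theorem piHom_coe (p : MvPolynomial σ k) :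
    piHom t ht (p : MvPowerSeries σ k) = MvPolynomial.aeval t p := by
  apply eq_of_forall_mk_eq
  intro N
  rw [mk_piHom, stage_apply, Ideal.Quotient.eq, ← map_sub]
  apply vars_le t ht N
  have h1 := (truncTotalAlgHom σ k N).commutes p
  have h2 : Ideal.Quotient.mk (MvPolynomial.idealOfVars σ k ^ N)
      (truncTotal N (p : MvPowerSeries σ k)) = Ideal.Quotient.mk _ p := h1
  exact Ideal.Quotient.eq.mp h2

theorem piHom_X (i : σ) : piHom t ht (X i : MvPowerSeries σ k) = t i := by
  have := piHom_coe t ht (MvPolynomial.X i : MvPolynomial σ k)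
  simpa using this

theorem piHom_C (c : k) : piHom t ht (C c : MvPowerSeries σ k) = algebraMap k R c := by
  have : (C c : MvPowerSeries σ k) = algebraMap k _ c := rfl
  rw [this, AlgHom.commutes]

theorem map_JJ_piHom (hspan : Ideal.span (Set.range t) = maximalIdeal R) :
    Ideal.map (piHom (k := k) t ht) (JJ σ k) = maximalIdeal R := by
  rw [JJ, Ideal.map_span, ← Set.range_comp, ← hspan]
  congr 2
  ext i
  simp [piHom_X]

theorem piHom_surjective (res : R →ₐ[k] k) (hspan : Ideal.span (Set.range t) = maximalIdeal R) :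
    Function.Surjective (piHom (k := k) t ht) := by
  have hH : IsHausdorff (Ideal.map (piHom (k := k) t ht).toRingHom (JJ σ k)) R := by
    have := map_JJ_piHom (k := k) t ht hspan
    change IsHausdorff (Ideal.map (piHom (k := k) t ht) (JJ σ k)) R
    rw [this]
    exact hc.toIsHausdorff
  apply surjective_of_mk_map_comp_surjective (I := JJ σ k) (piHom (k := k) t ht).toRingHom
  intro y
  obtain ⟨r, rfl⟩ := Ideal.Quotient.mk_surjective y
  refine ⟨C (res r), ?_⟩
  change Ideal.Quotient.mk (Ideal.map (piHom (k := k) t ht).toRingHom (JJ σ k))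
    (piHom t ht (C (res r))) = Ideal.Quotient.mk _ r
  rw [Ideal.Quotient.eq, piHom_C]
  change _ ∈ Ideal.map (piHom (k := k) t ht) (JJ σ k)
  rw [map_JJ_piHom (k := k) t ht hspan]
  by_contra hnot
  have hu : IsUnit (algebraMap k R (res r) - r) := by
    by_contra h
    exact hnot h
  have h2 : IsUnit (res (algebraMap k R (res r) - r)) := hu.map res
  rw [map_sub, AlgHom.commutes] at h2
  simp at h2

end surj


section lin

variable {k : Type*} [Field k] {R : Type*} [CommRing R] [Algebra k R] [IsLocalRing R]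
  {σ : Type*} [Fintype σ] (t : σ → R) (ht : ∀ i, t i ∈ maximalIdeal R)
  [hc : IsAdicComplete (maximalIdeal R) R]

/-- constant coefficient as an algebra map -/
noncomputable def c0Hom (σ : Type*) (k : Type*) [Field k] : MvPowerSeries σ k →ₐ[k] k :=
  { (constantCoeff : MvPowerSeries σ k →+* k) with
    commutes' := fun c => by simp [MvPowerSeries.algebraMap_apply] }

@[simp] theorem c0Hom_apply (g : MvPowerSeries σ k) : c0Hom σ k g = constantCoeff g := rfl

include ht in
theorem mk_t_mul (i j : σ) :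
    (Ideal.Quotient.mk (maximalIdeal R ^ 2) (t i)) * (Ideal.Quotient.mk _ (t j)) = 0 := by
  rw [← map_mul, Ideal.Quotient.eq_zero_iff_mem, pow_two]
  exact Ideal.mul_mem_mul (ht i) (ht j)

/-- the linear-part map `k ⊕ k^σ → R/m²` -/
noncomputable def linLift : TrivSqZeroExt k (σ → k) →ₐ[k] R ⧸ (maximalIdeal R) ^ 2 :=
  TrivSqZeroExt.lift (Algebra.ofId k _)
    (Fintype.linearCombination k (fun i => Ideal.Quotient.mk (maximalIdeal R ^ 2) (t i)))
    (by
      intro x y
      simp only [Fintype.linearCombination_apply, Finset.sum_mul, Finset.mul_sum]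
      apply Finset.sum_eq_zero
      intro i _
      apply Finset.sum_eq_zero
      intro j _
      rw [smul_mul_smul_comm, mk_t_mul t ht, smul_zero])
    (by
      intro r x
      simp only [Fintype.linearCombination_apply, Algebra.ofId_apply, Pi.smul_apply, smul_eq_mul,
        Finset.mul_sum]
      apply Finset.sum_congr rfl
      intro i _
      rw [Algebra.smul_def, Algebra.smul_def, map_mul, mul_assoc])
    (by
      intro r x
      simp only [Fintype.linearCombination_apply, Algebra.ofId_apply, Pi.smul_apply,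
        MulOpposite.smul_eq_mul_unop, MulOpposite.unop_op, Finset.sum_mul]
      apply Finset.sum_congr rfl
      intro i _
      rw [Algebra.smul_def, Algebra.smul_def, map_mul]
      ring)

theorem mk_piHom_eq_linLift [DecidableEq σ] (g : MvPowerSeries σ k) :
    Ideal.Quotient.mk (maximalIdeal R ^ 2) (piHom t ht g) =
      linLift t ht (derivHom (c0Hom σ k) (fun i => (Pi.single i 1 : σ → k)) g) := by
  have key : (Ideal.Quotient.mkₐ k (maximalIdeal R ^ 2)).comp (piHom (k := k) t ht) =
      (linLift t ht).comp (derivHom (c0Hom σ k) (fun i => (Pi.single i 1 : σ → k))) := by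
    apply algHom_ext_of_nilpotent
    · intro j
      refine ⟨2, ?_⟩
      simp only [AlgHom.comp_apply, piHom_X, Ideal.Quotient.mkₐ_eq_mk, pow_two]
      exact mk_t_mul t ht j j
    · intro j
      simp only [AlgHom.comp_apply, piHom_X, Ideal.Quotient.mkₐ_eq_mk, linLift,
        TrivSqZeroExt.lift_def, derivHom_fst, derivHom_snd, c0Hom_apply, pderiv_X]
      rw [Finset.sum_eq_single j]
      · simp [Fintype.linearCombination_apply, Pi.single_apply]
      · intro i _ hij
        simp [Pi.single_eq_of_ne' hij]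
      · simp
  exact congrArg (fun F => F g) key

theorem mem_sq_of_ker [DecidableEq σ] (g : MvPowerSeries σ k) (hg : piHom t ht g = 0) :
    algebraMap k R (constantCoeff g) +
      ∑ i, algebraMap k R (constantCoeff (pderiv k i g)) * t i ∈ maximalIdeal R ^ 2 := by
  have h := mk_piHom_eq_linLift t ht g
  rw [hg, map_zero] at h
  rw [← Ideal.Quotient.eq_zero_iff_mem, h]
  simp only [linLift, TrivSqZeroExt.lift_def, derivHom_fst, derivHom_snd, c0Hom_apply,
    Algebra.ofId_apply, Fintype.linearCombination_apply, map_add, map_sum, map_mul]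
  congr 1
  apply Finset.sum_congr rfl
  intro i _
  rw [Finset.sum_eq_single i]
  · simp [Algebra.smul_def]
  · intro j _ hji
    simp [Pi.single_eq_of_ne hji]
  · simp

theorem const_zero_of_ker [DecidableEq σ]
    (hli : LinearIndependent (ResidueField R)
      (fun i => (maximalIdeal R).toCotangent ⟨t i, ht i⟩))
    (g : MvPowerSeries σ k) (hg : piHom t ht g = 0) :
    constantCoeff g = 0 ∧ ∀ i, constantCoeff (pderiv k i g) = 0 := by
  have h := mem_sq_of_ker t ht g hg
  have hsum : ∑ i, algebraMap k R (constantCoeff (pderiv k i g)) * t i ∈ maximalIdeal R :=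
    Ideal.sum_mem _ (fun i _ => Ideal.mul_mem_left _ _ (ht i))
  have hc0 : constantCoeff g = 0 := by
    by_contra hne
    have hu : IsUnit (algebraMap k R (constantCoeff g)) := (IsUnit.mk0 _ hne).map _
    have hmem : algebraMap k R (constantCoeff g) ∈ maximalIdeal R := by
      have h2 : algebraMap k R (constantCoeff g) +
          ∑ i, algebraMap k R (constantCoeff (pderiv k i g)) * t i ∈ maximalIdeal R :=
        Ideal.pow_le_self two_ne_zero h
      exact (Ideal.add_mem_iff_left _ hsum).mp h2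
    exact hmem hu
  refine ⟨hc0, ?_⟩
  rw [hc0, map_zero, zero_add] at h
  have h3 : (maximalIdeal R).toCotangent
      ⟨∑ i, algebraMap k R (constantCoeff (pderiv k i g)) * t i, hsum⟩ = 0 := by
    rw [Ideal.toCotangent_eq_zero]
    exact h
  have h4 : (⟨∑ i, algebraMap k R (constantCoeff (pderiv k i g)) * t i, hsum⟩ : maximalIdeal R) =
      ∑ i, algebraMap k R (constantCoeff (pderiv k i g)) • (⟨t i, ht i⟩ : maximalIdeal R) := by
    apply Subtype.ext
    simp [Algebra.smul_def]
  rw [h4, map_sum] at h3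
  simp only [map_smul] at h3
  have h5 : ∑ i, (algebraMap R (ResidueField R) (algebraMap k R (constantCoeff (pderiv k i g)))) •
      (maximalIdeal R).toCotangent ⟨t i, ht i⟩ = 0 := by
    rw [← h3]
    apply Finset.sum_congr rfl
    intro i _
    rw [algebraMap_smul]
  have h6 := Fintype.linearIndependent_iff.mp hli _ h5
  intro i
  by_contra hne
  have hu : IsUnit (algebraMap k R (constantCoeff (pderiv k i g))) := (IsUnit.mk0 _ hne).map _
  have := h6 i
  rw [IsLocalRing.ResidueField.algebraMap_eq, IsLocalRing.residue_eq_zero_iff] at this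
  exact this hu

end lin

section quot

variable {R : Type*} [CommRing R] [IsLocalRing R]

theorem pow_succ_ne_top (N : ℕ) : maximalIdeal R ^ (N + 1) ≠ ⊤ := by
  intro h
  have : maximalIdeal R ^ (N + 1) ≤ maximalIdeal R := Ideal.pow_le_self (Nat.succ_ne_zero N)
  rw [h, top_le_iff] at this
  exact (maximalIdeal.isMaximal R).ne_top this

instance nontrivial_quot (N : ℕ) : Nontrivial (R ⧸ maximalIdeal R ^ (N + 1)) :=
  Ideal.Quotient.nontrivial_iff.mpr (pow_succ_ne_top N)

instance isLocalRing_quot (N : ℕ) : IsLocalRing (R ⧸ maximalIdeal R ^ (N + 1)) :=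
  IsLocalRing.of_surjective' (Ideal.Quotient.mk _) Ideal.Quotient.mk_surjective

theorem maximalIdeal_quot (N : ℕ) :
    maximalIdeal (R ⧸ maximalIdeal R ^ (N + 1)) =
      (maximalIdeal R).map (Ideal.Quotient.mk (maximalIdeal R ^ (N + 1))) := by
  have := IsLocalHom.of_surjective (Ideal.Quotient.mk (maximalIdeal R ^ (N + 1)))
    Ideal.Quotient.mk_surjective
  ext x
  obtain ⟨x, rfl⟩ := Ideal.Quotient.mk_surjective x
  simp [sup_eq_left.mpr (le_maximalIdeal (pow_succ_ne_top (R := R) N))]

instance isArtinianRing_quot [IsNoetherianRing R] (N : ℕ) :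
    IsArtinianRing (R ⧸ maximalIdeal R ^ (N + 1)) := by
  rw [isArtinianRing_iff_isNilpotent_maximalIdeal]
  refine ⟨N + 1, ?_⟩
  rw [maximalIdeal_quot, ← Ideal.map_pow, Ideal.zero_eq_bot, Ideal.map_eq_bot_iff_le_ker,
    Ideal.mk_ker]

end quot

section mat

theorem matrix_trick {A : Type*} [CommRing A] [IsLocalRing A] {σ : Type*} [Fintype σ]
    [DecidableEq σ] (w : σ → σ → A)
    (hw : ∀ j l, w j l - (Pi.single j 1 : σ → A) l ∈ maximalIdeal A)
    (a : σ → A) (ha : ∑ j, a j • w j = 0) : a = 0 := by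
  let T : Matrix σ σ A := Matrix.of w
  have hres : (residue A).mapMatrix T = 1 := by
    ext j l
    have h1 := hw j l
    rw [← Ideal.Quotient.eq_zero_iff_mem] at h1
    have h2 : residue A (w j l) = residue A ((Pi.single j 1 : σ → A) l) := by
      have : residue A (w j l - (Pi.single j 1 : σ → A) l) = 0 := h1
      rwa [map_sub, sub_eq_zero] at this
    simp only [RingHom.mapMatrix_apply, Matrix.map_apply, T, Matrix.of_apply, h2]
    by_cases hjl : j = l
    · subst hjl; simp
    · simp [Pi.single_eq_of_ne' hjl, Matrix.one_apply_ne hjl]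
  have hdet : IsUnit T.det := by
    have h1 : residue A T.det = 1 := by
      rw [RingHom.map_det, hres, Matrix.det_one]
    by_contra hnu
    have : residue A T.det = 0 := (residue_eq_zero_iff _).mpr hnu
    rw [h1] at this
    exact one_ne_zero this
  have hv : Matrix.vecMul a T = 0 := by
    ext l
    have := congrFun ha l
    simpa [Matrix.vecMul, dotProduct, T, Finset.sum_apply] using this
  have : a = Matrix.vecMul (Matrix.vecMul a T) T⁻¹ := by
    rw [Matrix.vecMul_vecMul, Matrix.mul_nonsing_inv _ hdet, Matrix.vecMul_one]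
  rw [this, hv, Matrix.zero_vecMul]

end mat


section main

variable {k : Type u} [Field k] {R : Type u} [CommRing R] [Algebra k R] [IsLocalRing R]
  [IsNoetherianRing R]
  {σ : Type} [Fintype σ] [DecidableEq σ] (t : σ → R) (ht : ∀ i, t i ∈ maximalIdeal R)
  [hc : IsAdicComplete (maximalIdeal R) R]

/-- the lifting hypothesis, in unbundled form -/
def LiftProp (k : Type u) [Field k] (R : Type u) [CommRing R] [Algebra k R] : Prop :=
  ∀ (A : Type u) [CommRing A] [Algebra k A] [IsLocalRing A] [IsArtinianRing A] (_ : A →ₐ[k] k)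
    (M M' : Type u) [AddCommGroup M] [Module A M] [Module Aᵐᵒᵖ M] [IsCentralScalar A M]
    [Module k M] [IsScalarTower k A M] [IsScalarTower k Aᵐᵒᵖ M]
    [AddCommGroup M'] [Module A M'] [Module Aᵐᵒᵖ M'] [IsCentralScalar A M'] [Module k M']
    [IsScalarTower k A M'] [IsScalarTower k Aᵐᵒᵖ M'] (f : M' →ₗ[A] M),
    Function.Surjective f →
      ∀ φ : R →ₐ[k] TrivSqZeroExt A M,
        ∃ ψ : R →ₐ[k] TrivSqZeroExt A M',
          ∀ r : R, (ψ r).fst = (φ r).fst ∧ f (ψ r).snd = (φ r).snd

theorem ker_res (res : R →ₐ[k] k) : RingHom.ker res.toRingHom = maximalIdeal R := by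
  have hs : Function.Surjective res.toRingHom := fun c => ⟨algebraMap k R c, by simp⟩
  have := RingHom.ker_isMaximal_of_surjective res.toRingHom hs
  exact IsLocalRing.eq_maximalIdeal this

/-- the residue map of the quotient -/
noncomputable def resQ (res : R →ₐ[k] k) (N : ℕ) : (R ⧸ maximalIdeal R ^ (N + 1)) →ₐ[k] k :=
  Ideal.Quotient.liftₐ _ res (by
    intro a ha
    have h1 : a ∈ maximalIdeal R := Ideal.pow_le_self (Nat.succ_ne_zero N) ha
    rw [← ker_res res] at h1
    exact h1)

theorem piHom_mem_of_const_zero (res : R →ₐ[k] k) (h : MvPowerSeries σ k)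
    (h0 : constantCoeff h = 0) : piHom t ht h ∈ maximalIdeal R := by
  by_contra hnot
  have hu : IsUnit (piHom t ht h) := by
    by_contra h'
    exact hnot h'
  set c := res (piHom t ht h) with hc'
  have hc0 : c ≠ 0 := (hu.map res).ne_zero
  have hunit : IsUnit (h - C c : MvPowerSeries σ k) := by
    rw [MvPowerSeries.isUnit_iff_constantCoeff]
    simp [h0, hc0]
  have h2 : IsUnit (res (piHom t ht (h - C c))) := (hunit.map _).map res
  have h3 : res (piHom t ht (h - C c)) = 0 := by
    rw [map_sub, map_sub, piHom_C, AlgHom.commutes]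
    simp [hc']
  rw [h3] at h2
  exact not_isUnit_zero h2

theorem pderiv_mem_ker (H : LiftProp k R) (res : R →ₐ[k] k)
    (hspan : Ideal.span (Set.range t) = maximalIdeal R)
    (hli : LinearIndependent (ResidueField R)
      (fun i => (maximalIdeal R).toCotangent ⟨t i, ht i⟩))
    (g : MvPowerSeries σ k) (hg : piHom t ht g = 0) (i : σ) :
    piHom t ht (pderiv k i g) = 0 := by
  apply eq_of_forall_mk_eq
  intro N₀
  suffices h : Ideal.Quotient.mk (maximalIdeal R ^ (N₀ + 1)) (piHom t ht (pderiv k i g)) = 0 by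
    rw [map_zero]
    rw [Ideal.Quotient.eq_zero_iff_mem] at h ⊢
    exact Ideal.pow_le_pow_right (Nat.le_succ _) h
  let q₀ : MvPowerSeries σ k →ₐ[k] (R ⧸ maximalIdeal R ^ (N₀ + 1)) :=
    (Ideal.Quotient.mkₐ k _).comp (piHom t ht)
  let L : Submodule (R ⧸ maximalIdeal R ^ (N₀ + 1)) (σ → (R ⧸ maximalIdeal R ^ (N₀ + 1))) :=
    Submodule.span _ {w | ∃ g', piHom t ht g' = 0 ∧ w = fun j => q₀ (pderiv k j g')}
  let v : σ → ((σ → (R ⧸ maximalIdeal R ^ (N₀ + 1))) ⧸ L) := fun j => L.mkQ (Pi.single j 1)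
  let φP : MvPowerSeries σ k →ₐ[k]
      TrivSqZeroExt (R ⧸ maximalIdeal R ^ (N₀ + 1)) ((σ → (R ⧸ maximalIdeal R ^ (N₀ + 1))) ⧸ L) :=
    derivHom q₀ v
  have hker : RingHom.ker (piHom (k := k) t ht).toRingHom ≤ RingHom.ker φP.toRingHom := by
    intro g' hg'
    have hg'0 : piHom t ht g' = 0 := hg'
    change φP g' = 0
    ext
    · simp [φP, q₀, hg'0]
    · simp only [φP, derivHom_snd, v, TrivSqZeroExt.snd_zero]
      have e1 : (fun j => q₀ (pderiv k j g')) =
          ∑ i, q₀ (pderiv k i g') • (Pi.single i 1 : σ → (R ⧸ maximalIdeal R ^ (N₀ + 1))) := by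
        ext j
        simp [Finset.sum_apply, Pi.single_apply]
      have e2 : L.mkQ (fun j => q₀ (pderiv k j g')) = 0 := by
        rw [Submodule.mkQ_apply, Submodule.Quotient.mk_eq_zero]
        exact Submodule.subset_span ⟨g', hg'0, rfl⟩
      rw [e1, map_sum] at e2
      simpa only [map_smul] using e2
  let φ : R →ₐ[k]
      TrivSqZeroExt (R ⧸ maximalIdeal R ^ (N₀ + 1)) ((σ → (R ⧸ maximalIdeal R ^ (N₀ + 1))) ⧸ L) :=
    AlgHom.liftOfSurjective (piHom t ht) (piHom_surjective t ht res hspan) φP hker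
  have hφ : ∀ h, φ (piHom t ht h) = φP h := fun h =>
    AlgHom.liftOfSurjective_apply _ _ _ _ h
  obtain ⟨ψ, hψ⟩ := H (R ⧸ maximalIdeal R ^ (N₀ + 1)) (resQ res N₀)
    ((σ → (R ⧸ maximalIdeal R ^ (N₀ + 1))) ⧸ L) (σ → (R ⧸ maximalIdeal R ^ (N₀ + 1)))
    L.mkQ (Submodule.mkQ_surjective L) φ
  let ψP : MvPowerSeries σ k →ₐ[k]
      TrivSqZeroExt (R ⧸ maximalIdeal R ^ (N₀ + 1)) (σ → (R ⧸ maximalIdeal R ^ (N₀ + 1))) :=
    ψ.comp (piHom t ht)
  have hfst : ∀ h, (ψP h).fst = q₀ h := by
    intro h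
    have := (hψ (piHom t ht h)).1
    rw [hφ] at this
    simpa [ψP, φP] using this
  have hn : ∀ j, IsNilpotent (ψP (X j)).fst := fun j =>
    isNilpotent_map_X (resQ res N₀) ((TrivSqZeroExt.fstHom k _ _).comp ψP) j
  have hchain := eq_derivHom ψP hn
  have h0 : (ψP g).snd = 0 := by simp [ψP, hg]
  have h1 := congrArg (fun F => (F g).snd) hchain
  simp only [derivHom_snd] at h1
  rw [h0] at h1
  have hL : L ≤ Submodule.pi Set.univ (fun _ => maximalIdeal (R ⧸ maximalIdeal R ^ (N₀ + 1))) := by
    rw [Submodule.span_le]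
    rintro w ⟨g', hg', rfl⟩ j -
    have h2 := (const_zero_of_ker t ht hli g' hg').2 j
    have h3 := piHom_mem_of_const_zero t ht res _ h2
    rw [maximalIdeal_quot]
    exact Ideal.mem_map_of_mem _ h3
  have hw : ∀ j l, (ψP (X j)).snd l - (Pi.single j 1 : σ → (R ⧸ maximalIdeal R ^ (N₀ + 1))) l ∈
      maximalIdeal (R ⧸ maximalIdeal R ^ (N₀ + 1)) := by
    intro j l
    have h2 := (hψ (piHom t ht (X j : MvPowerSeries σ k))).2
    rw [hφ] at h2
    have h3 : (φP (X j)).snd = L.mkQ (Pi.single j 1) := by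
      simp only [φP, derivHom_snd, pderiv_X, v]
      rw [Finset.sum_eq_single j]
      · simp
      · intro i' _ hij
        simp [Pi.single_eq_of_ne' hij]
      · simp
    rw [h3] at h2
    have h4 : (ψP (X j)).snd - Pi.single j 1 ∈ L := by
      rw [← Submodule.Quotient.eq]
      exact h2
    exact hL h4 l (Set.mem_univ l)
  have ha := matrix_trick (fun j => (ψP (X j)).snd) hw (fun j => q₀ (pderiv k j g)) (by
    rw [h1]
    apply Finset.sum_congr rfl
    intro j _
    congr 1
    exact (hfst _).symm)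
  exact congrFun ha i

theorem piHom_injective [CharZero k] (H : LiftProp k R) (res : R →ₐ[k] k)
    (hspan : Ideal.span (Set.range t) = maximalIdeal R)
    (hli : LinearIndependent (ResidueField R)
      (fun i => (maximalIdeal R).toCotangent ⟨t i, ht i⟩)) :
    Function.Injective (piHom (k := k) t ht) := by
  rw [injective_iff_map_eq_zero]
  by_contra hcon
  push Not at hcon
  obtain ⟨g₀, hg₀, hne⟩ := hcon
  have hex : ∃ d : ℕ, ∃ g : MvPowerSeries σ k, piHom t ht g = 0 ∧
      ∃ α : σ →₀ ℕ, α.degree = d ∧ coeff α g ≠ 0 := by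
    have : ∃ α, coeff α g₀ ≠ 0 := by
      by_contra h
      push Not at h
      exact hne (MvPowerSeries.ext h)
    obtain ⟨α, hα⟩ := this
    exact ⟨α.degree, g₀, hg₀, α, rfl, hα⟩
  classical
  obtain ⟨g, hg, α, hαd, hαc⟩ := Nat.find_spec hex
  have hmin := fun m (hm : m < Nat.find hex) => Nat.find_min hex hm
  have hα0 : α ≠ 0 := by
    rintro rfl
    apply hαc
    have := (const_zero_of_ker t ht hli g hg).1
    simpa using this
  obtain ⟨i, hi⟩ : ∃ i, α i ≠ 0 := by
    by_contra h
    push Not at h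
    exact hα0 (Finsupp.ext h)
  set β := α - Finsupp.single i 1 with hβ
  have hβα : β + Finsupp.single i 1 = α := Finsupp.sub_add_single_one_cancel hi
  have hdeg : β.degree + 1 = Nat.find hex := by
    rw [← hαd, ← hβα, map_add, Finsupp.degree_single]
  have hlt : β.degree < Nat.find hex := by omega
  apply hmin _ hlt
  refine ⟨pderiv k i g, pderiv_mem_ker t ht H res hspan hli g hg i, β, rfl, ?_⟩
  rw [coeff_pderiv, hβα]
  refine mul_ne_zero hαc ?_
  have := Nat.cast_add_one_ne_zero (R := k) (β i)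
  exact this

/-- the final equivalence -/
theorem nonempty_equiv [CharZero k] (H : LiftProp k R) (res : R →ₐ[k] k)
    (hspan : Ideal.span (Set.range t) = maximalIdeal R)
    (hli : LinearIndependent (ResidueField R)
      (fun i => (maximalIdeal R).toCotangent ⟨t i, ht i⟩)) :
    Nonempty (R ≃ₐ[k] MvPowerSeries σ k) :=
  ⟨(AlgEquiv.ofBijective (piHom (k := k) t ht)
    ⟨piHom_injective t ht H res hspan hli, piHom_surjective t ht res hspan⟩).symm⟩

theorem nonempty_equiv' [CharZero k] (H : LiftProp k R) (res : R →ₐ[k] k) :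
    Nonempty (R ≃ₐ[k] MvPowerSeries
      (Fin (Module.finrank (ResidueField R) (CotangentSpace R))) k) := by
  let b := Module.finBasis (ResidueField R) (CotangentSpace R)
  choose t' ht' using fun i => (maximalIdeal R).toCotangent_surjective (b i)
  have hli : LinearIndependent (ResidueField R)
      (fun i => (maximalIdeal R).toCotangent ⟨(t' i : R), (t' i).2⟩) := by
    have : (fun i => (maximalIdeal R).toCotangent ⟨(t' i : R), (t' i).2⟩) = b := by
      ext i
      exact ht' i
    rw [this]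
    exact b.linearIndependent
  have hspan : Ideal.span (Set.range (fun i => (t' i : R))) = maximalIdeal R := by
    have h1 : Submodule.span (ResidueField R) ((maximalIdeal R).toCotangent '' Set.range t') = ⊤ := by
      rw [← Set.range_comp]
      have : ((maximalIdeal R).toCotangent ∘ t') = b := by
        ext i
        exact ht' i
      rw [this]
      exact b.span_eq
    rw [CotangentSpace.span_image_eq_top_iff] at h1
    have h2 := congrArg (Submodule.map (maximalIdeal R).subtype) h1
    rw [Submodule.map_span, Submodule.map_top, Submodule.range_subtype, ← Set.range_comp] at h2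
    exact h2
  exact nonempty_equiv (fun i => (t' i : R)) (fun i => (t' i).2) H res hspan hli

end main

end Groth.Agent.H6.FSm
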