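import Mathlib
import Groth.Agent.Lib.Helper6.FZ5

/-!
# Extension of finite surjective morphisms from a quasi-compact open (helper6)
-/

set_option autoImplicit false
set_option linter.style.haveILetI false
open CategoryTheory AlgebraicGeometry CategoryTheory.Limits TopologicalSpace Opposite

noncomputable section

namespace Groth.Agent.H6.FZ

universe u

/-- Zariski's main theorem, finite form, with dense image. -/
theorem zmt_dominant {X S : Scheme.{u}} (f : X ⟶ S) [CompactSpace S] [QuasiSeparatedSpace S]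
    [LocallyQuasiFinite f] [LocallyOfFiniteType f] [QuasiCompact f] [IsSeparated f] :
    ∃ (T : Scheme.{u}) (j : X ⟶ T) (π : T ⟶ S),
      IsOpenImmersion j ∧ QuasiCompact j ∧ IsDominant j ∧ IsFinite π ∧ j ≫ π = f := by
  obtain ⟨T, j, π, hj, hjq, hπ, hcomp⟩ := s0385 f
  refine ⟨j.image, j.toImage, j.imageι ≫ π, inferInstance, inferInstance, inferInstance,
    inferInstance, ?_⟩
  rw [Scheme.Hom.toImage_imageι_assoc, hcomp]

/-- An open immersion onto the preimage of an open is a base change. -/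
theorem isPullback_of_range_eq {V V' S : Scheme.{u}} (π : V' ⟶ S) (U : S.Opens) (i : V ⟶ V')
    [IsOpenImmersion i] (v : V ⟶ (U : Scheme.{u})) (hcomm : i ≫ π = v ≫ U.ι)
    (hrange : Set.range i = (π ⁻¹ᵁ U : Set V')) : IsPullback i v π U.ι := by
  have h0 := (isPullback_morphismRestrict π U).flip
  let e : V ≅ ((π ⁻¹ᵁ U : V'.Opens) : Scheme.{u}) :=
    IsOpenImmersion.isoOfRangeEq i (π ⁻¹ᵁ U).ι (by rw [hrange, Scheme.Opens.range_ι])
  have h1 : e.hom ≫ (π ⁻¹ᵁ U).ι = i := IsOpenImmersion.isoOfRangeEq_hom_fac _ _ _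
  have h2 : e.hom ≫ (π ∣_ U) = v := by
    rw [← cancel_mono U.ι, Category.assoc, morphismRestrict_ι, ← Category.assoc, h1, hcomm]
  exact IsPullback.of_iso h0 e.symm (Iso.refl _) (Iso.refl _) (Iso.refl _)
    (by simp [← h1]) (by simp [← h2]) (by simp) (by simp)

/-- a quasi-compact open of a quasi-separated scheme has quasi-compact inclusion. -/
theorem quasiCompact_ι_of_isCompact {S : Scheme.{u}} [QuasiSeparatedSpace S] (U : S.Opens)
    (hU : IsCompact (U : Set S)) : QuasiCompact U.ι := by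
  rw [quasiCompact_iff_forall_isAffineOpen]
  intro A hA
  have h1 : IsCompact ((U ⊓ A : S.Opens) : Set S) :=
    QuasiSeparatedSpace.inter_isCompact _ _ U.isOpen hU A.isOpen hA.isCompact
  have h2 : ((U.ι ⁻¹ᵁ A : (U : Scheme.{u}).Opens) : Set U) = U.ι ⁻¹' ((U ⊓ A : S.Opens) : Set S) := by
    ext x
    simp only [Scheme.Hom.coe_preimage, Set.mem_preimage, SetLike.mem_coe, Opens.coe_inf,
      Set.mem_inter_iff]
    constructor
    · intro h; exact ⟨x.2, h⟩
    · intro h; exact h.2
  rw [h2]
  exact U.ι.isOpenEmbedding.isInducing.isCompact_preimage' h1 (by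
    rw [Scheme.Opens.range_ι]; exact Set.inter_subset_left)

theorem s1376 {S V : Scheme.{u}} [CompactSpace ↑S] [QuasiSeparatedSpace ↑S] (U : S.Opens)
    (hU : IsCompact (U : Set ↑S)) (v : V ⟶ (U : Scheme.{u})) [IsFinite v] [Surjective v] :
    ∃ (V' : Scheme.{u}) (π : V' ⟶ S) (i : V ⟶ V'),
      Surjective π ∧ IsFinite π ∧ IsPullback i v π U.ι := by
  haveI : QuasiCompact U.ι := quasiCompact_ι_of_isCompact U hU
  obtain ⟨T, j, π, hj, hjq, hjd, hπ, hcomp⟩ := zmt_dominant (v ≫ U.ι)
  -- the image of `j` is the preimage of `U`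
  have hrange : Set.range j = (π ⁻¹ᵁ U : Set T) := by
    apply Set.Subset.antisymm
    · rintro _ ⟨x, rfl⟩
      show π (j x) ∈ U
      rw [← Scheme.Hom.comp_apply, hcomp, Scheme.Hom.comp_apply]
      exact (v x).2
    · intro y hy
      by_contra hcon
      -- factor `j` through the open `W = π⁻¹ U`
      let W : T.Opens := π ⁻¹ᵁ U
      have hjW : Set.range j ⊆ Set.range W.ι := by
        rw [Scheme.Opens.range_ι]
        rintro _ ⟨x, rfl⟩
        show π (j x) ∈ U
        rw [← Scheme.Hom.comp_apply, hcomp, Scheme.Hom.comp_apply]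
        exact (v x).2
      let j' : V ⟶ (W : Scheme.{u}) := IsOpenImmersion.lift W.ι j hjW
      have hj' : j' ≫ W.ι = j := IsOpenImmersion.lift_fac _ _ _
      have hj'v : j' ≫ (π ∣_ U) = v := by
        rw [← cancel_mono U.ι, Category.assoc, morphismRestrict_ι, ← Category.assoc, hj', hcomp]
      haveI : IsFinite (j' ≫ (π ∣_ U)) := by rw [hj'v]; infer_instance
      haveI : IsFinite j' := IsFinite.of_comp j' (π ∣_ U)
      have hclosed : IsClosed (Set.range j') := j'.isClosedMap.isClosed_range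
      -- the complement is a nonempty open of `T` missing the dense image of `j`
      let O : Set T := W.ι '' (Set.range j')ᶜ
      have hO : IsOpen O := W.ι.isOpenEmbedding.isOpenMap _ hclosed.isOpen_compl
      have hyO : y ∈ O := by
        refine ⟨⟨y, hy⟩, ?_, rfl⟩
        rintro ⟨x, hx⟩
        apply hcon
        refine ⟨x, ?_⟩
        rw [← hj', Scheme.Hom.comp_apply, hx]
        rfl
      obtain ⟨_, hzO, ⟨x, rfl⟩⟩ := hjd.denseRange.inter_open_nonempty O hO ⟨y, hyO⟩
      obtain ⟨w, hw, hwx⟩ := hzO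
      apply hw
      refine ⟨x, ?_⟩
      apply W.ι.isOpenEmbedding.injective
      rw [← Scheme.Hom.comp_apply, hj', hwx]
  -- the closed complement with its reduced structure
  let Zc : Closeds S := ⟨(U : Set S)ᶜ, U.isOpen.isClosed_compl⟩
  let Z : Scheme.{u} := (Scheme.IdealSheafData.vanishingIdeal Zc).subscheme
  let z : Z ⟶ S := (Scheme.IdealSheafData.vanishingIdeal Zc).subschemeι
  have hz : Set.range z = (U : Set S)ᶜ := by
    rw [Scheme.IdealSheafData.range_subschemeι, Scheme.IdealSheafData.coe_support_vanishingIdeal]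
    rfl
  refine ⟨T ⨿ Z, coprod.desc π z, j ≫ coprod.inl, ⟨fun y => ?_⟩, inferInstance, ?_⟩
  · by_cases hy : y ∈ U
    · obtain ⟨x, hx⟩ := v.surjective ⟨y, hy⟩
      refine ⟨(coprod.inl : T ⟶ T ⨿ Z) (j x), ?_⟩
      rw [← Scheme.Hom.comp_apply, coprod.inl_desc, ← Scheme.Hom.comp_apply, hcomp,
        Scheme.Hom.comp_apply, hx]
      rfl
    · obtain ⟨w, hw⟩ : y ∈ Set.range z := by rw [hz]; exact hy
      refine ⟨(coprod.inr : Z ⟶ T ⨿ Z) w, ?_⟩
      rw [← Scheme.Hom.comp_apply, coprod.inr_desc, hw]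
  · apply isPullback_of_range_eq
    · rw [Category.assoc, coprod.inl_desc, hcomp]
    · apply Set.Subset.antisymm
      · rintro _ ⟨x, rfl⟩
        show (coprod.desc π z) ((j ≫ coprod.inl) x) ∈ U
        rw [← Scheme.Hom.comp_apply, Category.assoc, coprod.inl_desc, hcomp,
          Scheme.Hom.comp_apply]
        exact (v x).2
      · intro y' hy'
        have hy'' : (coprod.desc π z) y' ∈ U := hy'
        have hcov := (isCompl_range_inl_inr T Z).sup_eq_top
        have : y' ∈ Set.range (coprod.inl : T ⟶ T ⨿ Z) ∪ Set.range (coprod.inr : Z ⟶ T ⨿ Z) := by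
          have h3 : Set.range (coprod.inl : T ⟶ T ⨿ Z) ∪ Set.range (coprod.inr : Z ⟶ T ⨿ Z) =
              Set.univ := hcov
          rw [h3]; trivial
        rcases this with ⟨t, rfl⟩ | ⟨w, rfl⟩
        · rw [← Scheme.Hom.comp_apply, coprod.inl_desc] at hy''
          have : t ∈ Set.range j := by rw [hrange]; exact hy''
          obtain ⟨x, rfl⟩ := this
          exact ⟨x, by rw [Scheme.Hom.comp_apply]⟩
        · rw [← Scheme.Hom.comp_apply, coprod.inr_desc] at hy''
          have : z w ∈ (U : Set S)ᶜ := by rw [← hz]; exact ⟨w, rfl⟩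
          exact absurd hy'' this

end Groth.Agent.H6.FZ
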