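import Mathlib
import Groth.Agent.Lib.Helper6.FibCard1

universe u
open CategoryTheory CategoryTheory.Limits AlgebraicGeometry TopologicalSpace Opposite

namespace Groth.Agent.H6.FibCard

/-- the number of points in the fibre of a finite étale morphism over a point with separably closed
residue field is the rank. -/
theorem card_fiber_eq_finrank {X Y : Scheme.{u}} (π : Y ⟶ X) [IsFinite π] [Etale π] (p : X)
    [IsSepClosed (X.residueField p)] :
    Nat.card {q : Y // π.base q = p} = π.finrank p := by
  have h1 : Nat.card {q : Y // π.base q = p} = Nat.card (π.fiber p) := by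
    refine (Nat.card_congr ((π.fiberHomeo p).toEquiv.trans ?_)).symm
    exact Equiv.subtypeEquivRight (fun q => by simp)
  let c : π.fiber p ⟶ Spec (CommRingCat.of (X.residueField p)) := π.fiberToSpecResidueField p
  haveI : IsFinite c := MorphismProperty.pullback_snd (P := @IsFinite) _ _ inferInstance
  haveI : Etale c := MorphismProperty.pullback_snd (P := @Etale) _ _ inferInstance
  obtain ⟨x⟩ : Nonempty (Spec (CommRingCat.of (X.residueField p))) := inferInstance
  rw [h1, card_eq_finrank_of_sepClosed (X.residueField p) c x]
  have h2 : c.finrank x = π.finrank ((X.fromSpecResidueField p) x) :=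
    Scheme.Hom.finrank_pullback_snd π (X.fromSpecResidueField p) x
  rw [h2, Scheme.fromSpecResidueField_apply]

end Groth.Agent.H6.FibCard
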