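import Mathlib
import Groth.Agent.Lib.Helper6.FibCard2
import Groth.Agent.Lib.Helper6.Cov1
import Groth.Prelude.Def_ModelsG

universe u
open CategoryTheory CategoryTheory.Limits AlgebraicGeometry TopologicalSpace Opposite

namespace Groth.Agent.H6.FibCard

/-- the rank of a finite flat dominant morphism of integral schemes at the generic point is the
degree of the extension of function fields. -/
theorem finrank_genericPoint {X Y : Scheme.{u}} [IsIntegral X] [IsIntegral Y] (π : Y ⟶ X)
    [IsFinite π] [Flat π] (e : π.base (genericPoint Y) = genericPoint X) :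
    π.finrank (genericPoint X) =
      Models.homDegree (X.presheaf.stalkSpecializes (specializes_of_eq e) ≫
        π.stalkMap (genericPoint Y)).hom := by
  obtain ⟨U, hU, hxU, -⟩ := exists_isAffineOpen_mem_and_subset (x := genericPoint X)
    (U := (⊤ : X.Opens)) trivial
  haveI : Nonempty U := ⟨⟨genericPoint X, hxU⟩⟩
  let V : Y.Opens := π ⁻¹ᵁ U
  have hV : IsAffineOpen V := hU.preimage π
  have hyV : genericPoint Y ∈ V := by
    change π.base (genericPoint Y) ∈ U
    rw [e]; exact hxU
  haveI : Nonempty V := ⟨⟨genericPoint Y, hyV⟩⟩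
  let ψ : X.functionField →+* Y.functionField :=
    (X.presheaf.stalkSpecializes (specializes_of_eq e) ≫ π.stalkMap (genericPoint Y)).hom
  change _ = Models.homDegree ψ
  letI algAB : Algebra Γ(X, U) Γ(Y, V) := (π.app U).hom.toAlgebra
  have hfin : (π.app U).hom.Finite := π.finite_app U hU
  have hflat : (π.app U).hom.Flat := by
    have := HasRingHomProperty.appLE (P := @Flat) π inferInstance ⟨U, hU⟩
      ⟨π ⁻¹ᵁ U, hU.preimage π⟩ le_rfl
    rwa [← Scheme.Hom.app_eq_appLE] at this
  haveI : Module.Finite Γ(X, U) Γ(Y, V) := hfin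
  haveI : Module.Flat Γ(X, U) Γ(Y, V) := hflat
  -- the rank at the generic point
  have h1 : π.finrank (genericPoint X) = Module.finrank Γ(X, U) Γ(Y, V) := by
    obtain ⟨z, hz⟩ : genericPoint X ∈ Set.range hU.fromSpec.base := by
      rw [hU.range_fromSpec]; exact hxU
    have hpb := Groth.Agent.H6.Cov.isPullback_affine π U hU
    have h2 := Scheme.Hom.finrank_of_isPullback _ _ _ _ hpb z
    rw [← hz, ← h2, Scheme.Hom.finrank_SpecMap_eq_finrank hfin hflat]
    change Module.rankAtStalk Γ(Y, V) z = _
    haveI := z.isPrime
    exact (Ideal.finrank_fiber_eq_rankAtStalk (M := Γ(Y, V)) z.asIdeal).symm.trans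
      (Ideal.finrank_fiber_eq_finrank z.asIdeal)
  rw [h1]
  -- compare with the function fields
  letI algKL : Algebra X.functionField Y.functionField := ψ.toAlgebra
  letI algAL : Algebra Γ(X, U) Y.functionField :=
    ((algebraMap Γ(Y, V) Y.functionField).comp (algebraMap Γ(X, U) Γ(Y, V))).toAlgebra
  haveI : IsScalarTower Γ(X, U) Γ(Y, V) Y.functionField :=
    IsScalarTower.of_algebraMap_eq (fun _ => rfl)
  haveI : IsScalarTower Γ(X, U) X.functionField Y.functionField := by
    refine IsScalarTower.of_algebraMap_eq (fun a => ?_)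
    change (Y.germToFunctionField V).hom ((π.app U).hom a) =
      ψ ((X.germToFunctionField U).hom a)
    have h3 : X.germToFunctionField U ≫ (X.presheaf.stalkSpecializes (specializes_of_eq e) ≫
        π.stalkMap (genericPoint Y)) = π.app U ≫ Y.germToFunctionField V := by
      unfold Scheme.germToFunctionField
      rw [← Category.assoc, TopCat.Presheaf.germ_stalkSpecializes]
      exact Scheme.Hom.germ_stalkMap π U (genericPoint Y) _
    exact (congrArg (fun m => m.hom a) h3).symm
  haveI := functionField_isFractionRing_of_isAffineOpen X U hU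
  haveI := functionField_isFractionRing_of_isAffineOpen Y V hV
  unfold Models.homDegree
  exact (IsFractionRing.finrank_eq Γ(X, U) X.functionField Γ(Y, V) Y.functionField).symm

end Groth.Agent.H6.FibCard
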