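import Mathlib
import Groth.Agent.Lib.Helper6.FibCard3
import Groth.Agent.Lib.Helper1.RegNormal
import Groth.Agent.Lib.Helper5.CA.GeomUnibranch
import Groth.Agent.Lib.Helper8.UnramGlobal

universe u
open CategoryTheory CategoryTheory.Limits AlgebraicGeometry TopologicalSpace Opposite

namespace Groth.Agent.H6.FibCard

/-- **S15003**. -/
theorem s15003 (k : Type u) [Field k] [IsAlgClosed k]
    (X Y : Scheme.{u}) [X.Over (Spec (CommRingCat.of k))]
    [IsIntegral X] [IsIntegral Y]
    [LocallyOfFiniteType (X ↘ (Spec (CommRingCat.of k)))]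
    (hregX : ∀ x : X, IsRegularLocalRing (X.presheaf.stalk x))
    (π : Y ⟶ X) [IsFinite π] [FormallyUnramified π]
    (e : π.base (genericPoint Y) = genericPoint X) (p : X) (hp : IsClosed ({p} : Set X)) :
    Nat.card {q : Y // π.base q = p} =
      Models.homDegree (X.presheaf.stalkSpecializes (specializes_of_eq e) ≫
        π.stalkMap (genericPoint Y)).hom := by
  have hGU : ∀ x : X, CAlg2.IsGeomUnibranch (X.presheaf.stalk x) := fun x => by
    haveI := hregX x
    haveI : IsIntegrallyClosed (X.presheaf.stalk x) := Groth.Agent.H1.Reg.isIntegrallyClosed _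
    exact Groth.Agent.H5.CA.isGeomUnibranch_of_isIntegrallyClosed _
  haveI : Etale π := Groth.Agent.H8.EtComp.etale_of_unramified_of_connected π hGU
    ⟨genericPoint Y, e⟩
  haveI : IsAlgClosed (X.residueField p) :=
    IsAlgClosed.of_ringEquiv k _
      (residueFieldIsoBase (X ↘ (Spec (CommRingCat.of k))) p hp).commRingCatIsoToRingEquiv.symm
  rw [card_fiber_eq_finrank π p, ← finrank_genericPoint π e]
  exact (Scheme.Hom.isLocallyConstant_finrank π).apply_eq_of_preconnectedSpace _ _

end Groth.Agent.H6.FibCard
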