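import Mathlib

set_option autoImplicit false
universe u
open CategoryTheory CategoryTheory.Limits AlgebraicGeometry TopologicalSpace Opposite

namespace Groth.Agent.H6.FibCount

theorem range_subset_basicOpen {X : Scheme.{u}} (Ω : Type u) [Field Ω]
    (ξ : Spec (CommRingCat.of Ω) ⟶ X) (W : X.Opens) (hξW : ⊤ ≤ ξ ⁻¹ᵁ W) (f : Γ(X, W))
    (hf : (ξ.appLE W ⊤ hξW ≫ (Scheme.ΓSpecIso (CommRingCat.of Ω)).hom).hom f ≠ 0) :
    Set.range ξ.base ⊆ (X.basicOpen f : Set X) := by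
  rintro _ ⟨z, rfl⟩
  change z ∈ ξ ⁻¹ᵁ X.basicOpen f
  rw [Scheme.preimage_basicOpen]
  have hu : IsUnit ((ξ.appLE W ⊤ hξW).hom f) := by
    have h1 : IsUnit ((Scheme.ΓSpecIso (CommRingCat.of Ω)).hom.hom ((ξ.appLE W ⊤ hξW).hom f)) :=
      IsUnit.mk0 _ hf
    have h2 := h1.map (Scheme.ΓSpecIso (CommRingCat.of Ω)).inv.hom
    have h3 : (Scheme.ΓSpecIso (CommRingCat.of Ω)).inv.hom
        ((Scheme.ΓSpecIso (CommRingCat.of Ω)).hom.hom ((ξ.appLE W ⊤ hξW).hom f)) =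
        (ξ.appLE W ⊤ hξW).hom f := by
      rw [← CommRingCat.comp_apply, Iso.hom_inv_id]
      rfl
    rwa [h3] at h2
  have h4 := Scheme.basicOpen_of_isUnit _ hu
  rw [Scheme.Hom.appLE, CommRingCat.comp_apply, Scheme.basicOpen_res] at h4
  have h5 : z ∈ (⊤ : (Spec (CommRingCat.of Ω)).Opens) := trivial
  rw [← h4] at h5
  exact h5.2

end Groth.Agent.H6.FibCount
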