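import Mathlib

set_option autoImplicit false
universe u

namespace Groth.Agent.H6.FibCount

/-- Transport of `IsIntegralClosure` along isomorphisms of both the closure and the big ring. -/
theorem isIntegralClosure_of_equivs {A B L L₀ : Type*} [CommRing A] [CommRing B] [CommRing L]
    [CommRing L₀] [Algebra A L] [Algebra B L] [Algebra A L₀]
    (e : B → integralClosure A L₀) (he : Function.Bijective e) (σ : L₀ ≃ₐ[A] L)
    (h : ∀ b, algebraMap B L b = σ (e b : L₀)) : IsIntegralClosure B A L where
  algebraMap_injective := by
    intro b₁ b₂ hb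
    rw [h, h] at hb
    exact he.1 (Subtype.ext (σ.injective hb))
  isIntegral_iff := by
    intro x
    constructor
    · intro hx
      have h1 : IsIntegral A (σ.symm x) := (isIntegral_algEquiv σ.symm).mpr hx
      obtain ⟨b, hb⟩ := he.2 ⟨σ.symm x, h1⟩
      refine ⟨b, ?_⟩
      rw [h, hb]
      simp
    · rintro ⟨b, rfl⟩
      rw [h]
      exact (isIntegral_algEquiv σ).mpr (e b).2

end Groth.Agent.H6.FibCount
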