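import Mathlib
import Groth.Agent.Lib.Helper6.NZ3
import Groth.Agent.Lib.Helper6.FibCount11

set_option autoImplicit false
universe u
open CategoryTheory CategoryTheory.Limits AlgebraicGeometry TopologicalSpace Opposite

namespace Groth.Agent.H6.FibCount

section

variable {X : Scheme.{u}} [IsIntegral X] (L : Type u) [Field L] [Algebra X.functionField L]

theorem isIntegralClosure_sections (g : Spec (CommRingCat.of L) ⟶ X)
    (hg : g = Spec.map (CommRingCat.ofHom (algebraMap X.functionField L)) ≫
      X.fromSpecStalk (genericPoint X))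
    [QuasiCompact g] [QuasiSeparated g] (W : X.Opens) (hW : IsAffineOpen W)
    (hξ : genericPoint X ∈ W) :
    ∃ τ : Γ(g.normalization, g.fromNormalization ⁻¹ᵁ W) →+* L,
      τ.comp (g.fromNormalization.app W).hom =
        (algebraMap X.functionField L).comp (X.presheaf.germ W (genericPoint X) hξ).hom ∧
      @IsIntegralClosure Γ(g.normalization, g.fromNormalization ⁻¹ᵁ W) Γ(X, W) L _ _ _
        ((algebraMap X.functionField L).comp
          (X.presheaf.germ W (genericPoint X) hξ).hom).toAlgebra τ.toAlgebra := by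
  let ψ : X.presheaf.stalk (genericPoint X) ⟶ CommRingCat.of L :=
    CommRingCat.ofHom (algebraMap X.functionField L)
  let σ := NZ.secIso ψ g hg W hξ
  have hσ := NZ.app_secIso ψ g hg W hξ
  letI algAL'' : Algebra Γ(X, W) Γ(Spec (CommRingCat.of L), g ⁻¹ᵁ W) := (g.app W).hom.toAlgebra
  let θ := g.normalizationObjIso hW
  have hθ := g.fromNormalization_app hW
  let τ : Γ(g.normalization, g.fromNormalization ⁻¹ᵁ W) →+* L :=
    σ.hom.hom.comp ((Subalgebra.val _).toRingHom.comp θ.hom.hom)
  have hτ : τ.comp (g.fromNormalization.app W).hom =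
      (algebraMap X.functionField L).comp (X.presheaf.germ W (genericPoint X) hξ).hom := by
    ext a
    have h1 : θ.hom.hom ((g.fromNormalization.app W).hom a) =
        algebraMap Γ(X, W) (integralClosure Γ(X, W) Γ(Spec (CommRingCat.of L), g ⁻¹ᵁ W)) a := by
      rw [hθ]
      change (θ.inv ≫ θ.hom).hom _ = _
      rw [Iso.inv_hom_id]
      rfl
    have h2 := congrArg (fun q => q.hom a) hσ
    change σ.hom.hom ((θ.hom.hom ((g.fromNormalization.app W).hom a) :
      integralClosure Γ(X, W) Γ(Spec (CommRingCat.of L), g ⁻¹ᵁ W)) :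
        Γ(Spec (CommRingCat.of L), g ⁻¹ᵁ W)) = _
    rw [h1]
    exact h2
  refine ⟨τ, hτ, ?_⟩
  letI algAL : Algebra Γ(X, W) L := ((algebraMap X.functionField L).comp
          (X.presheaf.germ W (genericPoint X) hξ).hom).toAlgebra
  letI algBL : Algebra Γ(g.normalization, g.fromNormalization ⁻¹ᵁ W) L := τ.toAlgebra
  let σ' : Γ(Spec (CommRingCat.of L), g ⁻¹ᵁ W) ≃ₐ[Γ(X, W)] L :=
    { σ.commRingCatIsoToRingEquiv with
      commutes' := fun a => congrArg (fun q => q.hom a) hσ }
  exact isIntegralClosure_of_equivs (A := Γ(X, W)) (e := θ.hom.hom)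
    (ConcreteCategory.bijective_of_isIso θ.hom) σ' (fun b => rfl)

end

end Groth.Agent.H6.FibCount
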