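import Mathlib

/-!
# Spreading out pointwise étaleness of an integral algebra (helper6)
-/

set_option autoImplicit false
universe u

namespace Groth.Agent.H6.FibCount

/-- The principal localization at (the image of) `g` of a localization `B'` of `B` away from
`x` is étale over `A` when `B[1/g]` is. -/
theorem etale_away_of_etale_away {A B B' : Type u} [CommRing A] [CommRing B] [CommRing B']
    [Algebra A B] [Algebra A B'] [Algebra B B'] [IsScalarTower A B B'] (x g : B)
    [IsLocalization.Away x B'] (hg : Algebra.Etale A (Localization.Away g)) :
    Algebra.Etale A (Localization.Away (algebraMap B B' g)) := by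
  let E := Localization.Away g
  let T := Localization.Away (algebraMap B B' g)
  have hunit : IsUnit (((algebraMap B' T).comp (algebraMap B B')) g) :=
    IsLocalization.Away.algebraMap_isUnit (algebraMap B B' g)
  let u : E →+* T := IsLocalization.Away.lift g hunit
  letI : Algebra E T := u.toAlgebra
  have hu : ∀ b : B, u (algebraMap B E b) = algebraMap B' T (algebraMap B B' b) :=
    fun b => IsLocalization.Away.lift_eq g hunit b
  haveI : IsScalarTower B E T := IsScalarTower.of_algebraMap_eq (fun b => by
    rw [IsScalarTower.algebraMap_apply B B' T]
    exact (hu b).symm)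
  haveI : IsLocalization.Away (algebraMap B E x) T :=
    IsLocalization.Away.commutes (R := B) E B' T g x
  haveI : Algebra.Etale E T := Algebra.Etale.of_isLocalizationAway (algebraMap B E x)
  haveI : IsScalarTower A E T := IsScalarTower.of_algebraMap_eq (fun a => by
    rw [IsScalarTower.algebraMap_apply A B E]
    change _ = u _
    rw [hu, ← IsScalarTower.algebraMap_apply A B B', ← IsScalarTower.algebraMap_apply A B' T])
  exact Algebra.Etale.comp A E T

/-- If an integral `A`-algebra `B` is étale over `A` at all primes over `p` (in the sense that
a principal localization is étale), then `B` is finite étale over a principal neighbourhood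
of `p`. -/
theorem exists_away_finite_etale {A B : Type u} [CommRing A] [CommRing B] [Algebra A B]
    [Algebra.IsIntegral A B] (p : Ideal A) [p.IsPrime]
    (h : ∀ Q : Ideal B, Q.IsPrime → Q.comap (algebraMap A B) = p →
      ∃ g : B, g ∉ Q ∧ Algebra.Etale A (Localization.Away g)) :
    ∃ f : A, f ∉ p ∧ ∀ (A' B' : Type u) [CommRing A'] [CommRing B'] [Algebra A A'] [Algebra A B']
      [Algebra A' B'] [Algebra B B'] [IsScalarTower A A' B'] [IsScalarTower A B B']
      [IsLocalization.Away f A'] [IsLocalization.Away (algebraMap A B f) B'],
      Module.Finite A' B' ∧ Algebra.Etale A' B' := by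
  let S : Set B := {g | Algebra.Etale A (Localization.Away g)}
  have hJ : ¬ (Ideal.span S).comap (algebraMap A B) ≤ p := by
    intro hle
    obtain ⟨Q, hJQ, hQ, hQp⟩ := Ideal.exists_ideal_over_prime_of_isIntegral p (Ideal.span S) hle
    obtain ⟨g, hgQ, hg⟩ := h Q hQ hQp
    exact hgQ (hJQ (Ideal.subset_span hg))
  obtain ⟨f, hfJ, hfp⟩ := SetLike.not_le_iff_exists.mp hJ
  refine ⟨f, hfp, ?_⟩
  intro A' B' _ _ _ _ _ _ _ _ _ _
  haveI hAA' : Algebra.Etale A A' := Algebra.Etale.of_isLocalizationAway f
  have het : Algebra.Etale A' B' := by
    rw [← RingHom.etale_algebraMap]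
    apply RingHom.Etale.ofLocalizationSpanTarget (algebraMap A' B') (algebraMap B B' '' S)
    · rw [← Ideal.map_span]
      have hunit : IsUnit (algebraMap B B' (algebraMap A B f)) :=
        IsLocalization.Away.algebraMap_isUnit _
      exact Ideal.eq_top_of_isUnit_mem _ (Ideal.mem_map_of_mem _ hfJ) hunit
    · rintro ⟨r, g, hg, rfl⟩
      haveI : Algebra.Etale A (Localization.Away (algebraMap B B' g)) :=
        etale_away_of_etale_away (algebraMap A B f) g hg
      haveI : IsScalarTower A A' (Localization.Away (algebraMap B B' g)) :=
        IsScalarTower.of_algebraMap_eq (fun a => by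
          rw [IsScalarTower.algebraMap_apply A B' (Localization.Away (algebraMap B B' g)),
            IsScalarTower.algebraMap_apply A A' B',
            ← IsScalarTower.algebraMap_apply A' B' (Localization.Away (algebraMap B B' g))])
      have h1 : Algebra.Etale A' (Localization.Away (algebraMap B B' g)) :=
        Algebra.Etale.of_restrictScalars A A' _
      rw [← RingHom.etale_algebraMap] at h1
      convert h1 using 1
      exact (IsScalarTower.algebraMap_eq A' B' _).symm
  refine ⟨?_, het⟩
  haveI : Algebra.IsIntegral A' B' := by
    haveI : IsLocalization (Algebra.algebraMapSubmonoid B (Submonoid.powers f)) B' := by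
      have : Algebra.algebraMapSubmonoid B (Submonoid.powers f) =
          Submonoid.powers (algebraMap A B f) := Submonoid.map_powers _ _
      rw [this]
      infer_instance
    have h1 := isIntegral_localization (R := A) (S := B) (Rₘ := A') (Sₘ := B')
      (M := Submonoid.powers f)
    have h2 : IsLocalization.map B' (algebraMap A B)
        (show Submonoid.powers f ≤ (Algebra.algebraMapSubmonoid B (Submonoid.powers f)).comap _
          from (Submonoid.powers f).le_comap_map) = algebraMap A' B' := by
      apply IsLocalization.ringHom_ext (Submonoid.powers f)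
      ext a
      simp only [RingHom.coe_comp, Function.comp_apply, IsLocalization.map_eq]
      rw [← IsScalarTower.algebraMap_apply, ← IsScalarTower.algebraMap_apply]
    rw [h2] at h1
    exact ⟨h1⟩
  exact Algebra.IsIntegral.finite

end Groth.Agent.H6.FibCount
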