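import Mathlib
import Groth.Agent.Lib.Helper6.FibCount1
import Groth.Agent.Lib.Helper6.FibCount2

/-!
# The criterion by the cardinality of the geometric fibre for rings of invariants (helper6)
-/

set_option autoImplicit false
universe u w

namespace Groth.Agent.H6.FibCount

open Pointwise

variable {A C : Type u} {G : Type w} {Ω : Type*} [CommRing A] [CommRing C]
  [Algebra A C] [Group G] [Finite G] [MulSemiringAction G C] [SMulCommClass G A C]
  [Algebra.IsInvariant A C G] [Field Ω] [IsAlgClosed Ω]

theorem card_homOver_fixedPoints_le (hinj : Function.Injective (algebraMap A C))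
    (φ₀ : A →+* Ω) (H : Subgroup G) :
    Finite (HomOver A (FixedPoints.subalgebra A C H) φ₀) ∧
      Nat.card (HomOver A (FixedPoints.subalgebra A C H) φ₀) ≤ H.index := by
  haveI : Algebra.IsIntegral A C := Algebra.IsInvariant.isIntegral A C G
  obtain ⟨ψ₀, hψ₀⟩ := HomExt.exists_ringHom_extension hinj φ₀
  exact ⟨finite_homOver φ₀ ψ₀ hψ₀ H, card_homOver_le φ₀ ψ₀ hψ₀ H⟩

theorem exists_away_finite_etale_fixedPoints (hinj : Function.Injective (algebraMap A C))
    (φ₀ : A →+* Ω) (H : Subgroup G)
    (hcard : H.index ≤ Nat.card (HomOver A (FixedPoints.subalgebra A C H) φ₀)) :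
    ∃ f : A, φ₀ f ≠ 0 ∧ ∀ (A' B' : Type u) [CommRing A'] [CommRing B'] [Algebra A A']
      [Algebra A B'] [Algebra A' B'] [Algebra (FixedPoints.subalgebra A C H) B']
      [IsScalarTower A A' B'] [IsScalarTower A (FixedPoints.subalgebra A C H) B']
      [IsLocalization.Away f A']
      [IsLocalization.Away (algebraMap A (FixedPoints.subalgebra A C H) f) B'],
      Module.Finite A' B' ∧ Algebra.Etale A' B' := by
  haveI : Algebra.IsIntegral A C := Algebra.IsInvariant.isIntegral A C G
  obtain ⟨ψ₀, hψ₀⟩ := HomExt.exists_ringHom_extension hinj φ₀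
  haveI : (RingHom.ker φ₀).IsPrime := RingHom.ker_isPrime φ₀
  haveI : Algebra.IsIntegral A (FixedPoints.subalgebra A C H) := by
    refine ⟨fun b => ?_⟩
    have h1 : IsIntegral A (b : C) := Algebra.IsIntegral.isIntegral _
    exact (isIntegral_algHom_iff (FixedPoints.subalgebra A C H).val Subtype.val_injective).mp h1
  haveI : Algebra.IsIntegral (FixedPoints.subalgebra A C H) C :=
    Algebra.IsIntegral.tower_top (R := A)
  obtain ⟨f, hf, key⟩ := exists_away_finite_etale (A := A) (B := FixedPoints.subalgebra A C H)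
    (RingHom.ker φ₀) (by
      intro Q hQ hQp
      haveI := hQ
      obtain ⟨Q', -, hQ', hQ'Q⟩ := Ideal.exists_ideal_over_prime_of_isIntegral Q (⊥ : Ideal C) (by
        rw [Ideal.comap_bot_of_injective _ Subtype.val_injective]; exact bot_le)
      haveI := hQ'
      have hQ'p : Q'.under A = RingHom.ker φ₀ := by
        rw [← hQp, ← hQ'Q, Ideal.comap_comap]
        rfl
      have hI := inertia_le_of_index_le φ₀ ψ₀ hψ₀ H hcard Q' hQ'p
      obtain ⟨g, hg, hE⟩ := InertiaH.exists_etale_fixedPoints A hinj Q' H hI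
      refine ⟨g, fun hgQ => hg ?_, hE⟩
      rw [← hQ'Q] at hgQ
      exact hgQ)
  exact ⟨f, hf, key⟩

end Groth.Agent.H6.FibCount
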