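import Mathlib

/-!
# Lifting inertia elements through closed normal subgroups (helper6)
-/

set_option autoImplicit false
universe u v w

namespace Groth.Agent.H6.Inertia

open Pointwise

section

variable {A : Type v} {B : Type w} [CommRing A] [CommRing B] [Algebra A B]
variable {G : Type u} [Group G] [MulSemiringAction G B] [SMulCommClass G A B]

/-- `N` acts on `B` commuting with `B^N`. -/
instance smulCommClass_fixedPoints (N : Subgroup G) :
    SMulCommClass N (FixedPoints.subalgebra A B N) B where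
  smul_comm n r b := by
    change n • ((r : B) * b) = (r : B) * (n • b)
    rw [smul_mul', r.2 n]

instance isInvariant_fixedPoints_subgroup (N : Subgroup G) :
    Algebra.IsInvariant (FixedPoints.subalgebra A B N) B N :=
  ⟨fun b hb => ⟨⟨b, hb⟩, rfl⟩⟩

variable [TopologicalSpace G] [CompactSpace G] [TotallyDisconnectedSpace G]
variable [IsTopologicalGroup G] [TopologicalSpace B] [DiscreteTopology B] [ContinuousSMul G B]

/-- If `γ` acts trivially on `B^N` modulo `Q`, then `γ ∈ N · I` with `I` the inertia group of `Q`. -/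
theorem exists_inertia_lift (N : Subgroup G) [N.Normal] (hN : IsClosed (N : Set G))
    (Q : Ideal B) [Q.IsPrime] (γ : G)
    (hγ : ∀ r : FixedPoints.subalgebra A B N, γ • (r : B) - r ∈ Q) :
    ∃ i ∈ Q.inertia G, ∃ n ∈ N, γ = n * i := by
  haveI : CompactSpace N := isCompact_iff_compactSpace.mp hN.isCompact
  let R := FixedPoints.subalgebra A B N
  -- `R` is stable under `G`
  have hstab : ∀ (g : G) (r : R), g • (r : B) ∈ R := by
    intro g r n
    have h1 : (g⁻¹ * (n : G) * g) ∈ N := by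
      have := ‹N.Normal›.conj_mem (n : G) n.2 g⁻¹
      simpa using this
    have h2 := r.2 ⟨_, h1⟩
    change (g⁻¹ * (n : G) * g) • (r : B) = r at h2
    change (n : G) • g • (r : B) = g • (r : B)
    calc (n : G) • g • (r : B) = g • ((g⁻¹ * (n : G) * g) • (r : B)) := by
          simp only [← mul_smul]; congr 1; group
      _ = g • (r : B) := by rw [h2]
  -- Step 1: `γ • Q` and `Q` have the same contraction to `R`
  have h1 : (γ • Q).under R = Q.under R := by
    ext r
    simp only [Ideal.under_def, Ideal.mem_comap]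
    change (r : B) ∈ γ • Q ↔ (r : B) ∈ Q
    rw [Ideal.mem_pointwise_smul_iff_inv_smul_mem]
    have h2 := hγ ⟨γ⁻¹ • (r : B), hstab γ⁻¹ r⟩
    simp only [smul_inv_smul] at h2
    constructor
    · intro h
      have := Q.add_mem h2 h
      simpa using this
    · intro h
      have := Q.sub_mem h h2
      simpa using this
  haveI : (γ • Q).IsPrime := Ideal.IsPrime.smul γ
  obtain ⟨ν, hν⟩ := Algebra.IsInvariant.exists_smul_of_under_eq_of_profinite (A := R) (G := N)
    (γ • Q) Q h1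
  set γ₁ : G := (ν : G) * γ with hγ₁
  have hγ₁Q : γ₁ • Q = Q := by
    rw [hγ₁, mul_smul]; exact hν.symm
  have hγ₁R : ∀ r : R, γ₁ • (r : B) - r ∈ Q := by
    intro r
    have : γ₁ • (r : B) = γ • (r : B) := by
      rw [hγ₁, mul_smul]
      exact (⟨γ • (r : B), hstab γ r⟩ : R).2 ν
    rw [this]; exact hγ r
  -- Step 3: the automorphism of `B ⧸ Q` over `R ⧸ Q.under R` induced by `γ₁`
  let P := Q.under A
  haveI : Q.LiesOver P := ⟨rfl⟩
  let σ₀ : (B ⧸ Q) ≃ₐ[A ⧸ P] (B ⧸ Q) := Ideal.Quotient.stabilizerHom Q P G ⟨γ₁, hγ₁Q⟩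
  have hσ₀ : ∀ b : B, σ₀ (Ideal.Quotient.mk Q b) = Ideal.Quotient.mk Q (γ₁ • b) := fun b => rfl
  let PR := Q.under R
  haveI : Q.LiesOver PR := ⟨rfl⟩
  let σ : (B ⧸ Q) ≃ₐ[R ⧸ PR] (B ⧸ Q) := AlgEquiv.ofRingEquiv (f := σ₀.toRingEquiv) (by
    intro x
    obtain ⟨r, rfl⟩ := Ideal.Quotient.mk_surjective x
    change σ₀ (Ideal.Quotient.mk Q (r : B)) = Ideal.Quotient.mk Q (r : B)
    rw [hσ₀]
    exact Ideal.Quotient.eq.mpr (hγ₁R r))
  obtain ⟨ν', hν'⟩ := Ideal.Quotient.stabilizerHom_surjective_of_profinite (A := R) (G := N) PR Q σ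
  refine ⟨((ν' : N) : G)⁻¹ * γ₁, ?_, (ν : G)⁻¹ * ((ν' : N) : G), N.mul_mem (N.inv_mem ν.2) (ν' : N).2, ?_⟩
  · intro b
    have h3 : σ (Ideal.Quotient.mk Q b) = Ideal.Quotient.mk Q (γ₁ • b) := hσ₀ b
    have h4 : Ideal.Quotient.stabilizerHom Q PR N ν' (Ideal.Quotient.mk Q (((ν' : N) : G)⁻¹ • γ₁ • b)) =
        Ideal.Quotient.mk Q (γ₁ • b) := by
      change Ideal.Quotient.mk Q (((ν' : N) : G) • ((ν' : N) : G)⁻¹ • γ₁ • b) = _
      rw [smul_inv_smul]
    rw [hν', ← h3] at h4
    have h5 := σ.injective h4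
    rw [mul_smul]
    exact Ideal.Quotient.eq.mp h5
  · rw [hγ₁]; group

end

end Groth.Agent.H6.Inertia
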