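import Mathlib
import Groth.Prelude.Def_PBC
import Groth.Agent.H4.IndEtCrit
import Groth.Agent.Lib.Helper6.Inertia5
import Groth.Agent.Lib.Helper6.Inertia6
import Groth.Agent.Lib.Helper6.Inertia7

/-!
# Inertia invariants of a profinite group action are ind-étale (helper6)
-/

set_option autoImplicit false
universe u

namespace Groth.Agent.H6.Inertia

open Pointwise Groth.Agent.H4.IndEtCrit

section CritOfU

variable {A T : Type u} [CommRing A] [CommRing T] [Algebra A T]

/-- If every finite subset of `T` lies in the image of an injective map from an étale `A`-algebra,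
then `T` satisfies the elementwise criterion for being ind-étale. -/
theorem crit_of_forall_finset
    (hU : ∀ S : Finset T, ∃ (E : Type u) (_ : CommRing E) (_ : Algebra A E)
      (_ : Algebra.Etale A E) (ι : E →ₐ[A] T), Function.Injective ι ∧ ∀ t ∈ S, t ∈ ι.range) :
    Crit A T := by
  classical
  constructor
  · intro b
    obtain ⟨E, _, _, _, ι, -, h⟩ := hU {b}
    obtain ⟨e, he⟩ := h b (Finset.mem_singleton_self b)
    exact ⟨E, inferInstance, inferInstance, inferInstance, ι, e, he⟩
  · intro C _ _ _ g c hc
    obtain ⟨s, hs⟩ := (Algebra.FiniteType.out : (⊤ : Subalgebra A C).FG)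
    obtain ⟨E, _, _, _, ι, hinj, h⟩ := hU (s.image g)
    have hle : g.range ≤ ι.range := by
      rw [← Algebra.map_top, ← hs, AlgHom.map_adjoin]
      apply Algebra.adjoin_le
      rintro _ ⟨x, hx, rfl⟩
      exact h _ (Finset.mem_image_of_mem g hx)
    let e := AlgEquiv.ofInjective ι hinj
    let g' : C →ₐ[A] ι.range := g.codRestrict ι.range (fun x => hle ⟨x, rfl⟩)
    let hh : C →ₐ[A] E := (e.symm : ι.range →ₐ[A] E).comp g'
    have key : ∀ x, ι (hh x) = g x := by
      intro x
      have h1 : (e (e.symm (g' x)) : T) = ι (e.symm (g' x)) := rfl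
      change ι (e.symm (g' x)) = g x
      rw [← h1, AlgEquiv.apply_symm_apply]
      rfl
    refine ⟨E, inferInstance, inferInstance, inferInstance, hh, ι, ?_, ?_⟩
    · ext x; exact key x
    · apply hinj
      rw [key, hc, map_zero]

end CritOfU


section Profinite

variable {A B G : Type u} [CommRing A] [CommRing B] [Algebra A B]
  [Group G] [MulSemiringAction G B] [SMulCommClass G A B]

lemma coe_mk_smul (N : Subgroup G) [N.Normal] (γ : G) (r : FixedPoints.subalgebra A B N) :
    (((γ : G ⧸ N) • r : FixedPoints.subalgebra A B N) : B) = γ • (r : B) := rfl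

lemma mk_mem_inertia (N : Subgroup G) [N.Normal] (Q : Ideal B) {i : G} (hi : i ∈ Q.inertia G) :
    (i : G ⧸ N) ∈ (Q.comap (FixedPoints.subalgebra A B N).val).inertia (G ⧸ N) := by
  intro r
  change (i : G ⧸ N) • r - r ∈ Q.comap (FixedPoints.subalgebra A B N).val
  rw [Ideal.mem_comap, map_sub]
  exact hi (r : B)

variable [TopologicalSpace G] [CompactSpace G] [TotallyDisconnectedSpace G]
variable [IsTopologicalGroup G] [TopologicalSpace B] [DiscreteTopology B] [ContinuousSMul G B]

lemma smul_eq_of_mem_inertia_quotient (N : Subgroup G) [N.Normal] (hN : IsOpen (N : Set G))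
    (Q : Ideal B) [Q.IsPrime] (c : FixedPoints.subalgebra A B N)
    (hc : ∀ i ∈ Q.inertia G, i • (c : B) = c)
    (σ : G ⧸ N) (hσ : σ ∈ (Q.comap (FixedPoints.subalgebra A B N).val).inertia (G ⧸ N)) :
    σ • c = c := by
  obtain ⟨γ, rfl⟩ := QuotientGroup.mk_surjective σ
  have hγ : ∀ r : FixedPoints.subalgebra A B N, γ • (r : B) - r ∈ Q := by
    intro r
    have h1 : (γ : G ⧸ N) • r - r ∈ Q.comap (FixedPoints.subalgebra A B N).val := hσ r
    rwa [Ideal.mem_comap, map_sub] at h1
  obtain ⟨i, hi, n, hn, rfl⟩ := exists_inertia_lift N (Subgroup.isClosed_of_isOpen N hN) Q γ hγ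
  apply Subtype.ext
  rw [coe_mk_smul, mul_smul, hc i hi]
  exact c.2 ⟨n, hn⟩


/-- Finitely many elements of `B` are fixed by a common open normal subgroup. -/
lemma exists_open_normal_fixing (S : Finset B) :
    ∃ N : Subgroup G, N.Normal ∧ IsOpen (N : Set G) ∧ ∀ b ∈ S, ∀ n ∈ N, n • b = b := by
  classical
  have hopen : IsOpen (⋂ b ∈ S, (MulAction.stabilizer G b : Set G)) :=
    isOpen_biInter_finset (fun b _ => stabilizer_isOpen G b)
  have h1 : (1 : G) ∈ ⋂ b ∈ S, (MulAction.stabilizer G b : Set G) := by
    simp only [Set.mem_iInter]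
    intro b _
    exact one_mem _
  obtain ⟨N, hN⟩ := ProfiniteGrp.exist_openNormalSubgroup_sub_open_nhds_of_one hopen h1
  refine ⟨N.1.1, inferInstance, N.1.isOpen', fun b hb n hn => ?_⟩
  have := hN hn
  simp only [Set.mem_iInter] at this
  exact this b hb

variable [IsDomain B] [Algebra.IsInvariant A B G]

variable (A G) in
/-- The inertia invariants. -/
abbrev Cinv (Q : Ideal B) : Subalgebra A B := FixedPoints.subalgebra A B (Q.inertia G)

variable (A G) in
/-- The prime of the inertia invariants below `Q`. -/
abbrev QCinv (Q : Ideal B) : Ideal (Cinv A G Q) := Q.comap (Cinv A G Q).val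

variable (A G) in
/-- The local ring of the inertia invariants at `Q`. -/
abbrev Tinv (Q : Ideal B) [Q.IsPrime] : Type u := Localization.AtPrime (QCinv A G Q)

/-- The key finiteness statement. -/
theorem exists_etale_of_finset (hinj : Function.Injective (algebraMap A B))
    (Q : Ideal B) [Q.IsPrime] (S : Finset (Tinv A G Q)) :
    ∃ (E : Type u) (_ : CommRing E) (_ : Algebra A E) (_ : Algebra.Etale A E)
      (ι : E →ₐ[A] Tinv A G Q),
      Function.Injective ι ∧ ∀ t ∈ S, t ∈ ι.range := by
  classical
  let C := Cinv A G Q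
  let QC := QCinv A G Q
  let T := Tinv A G Q
  have hQC : QC = Q.comap C.val := rfl
  -- common denominator
  obtain ⟨s, hs⟩ := IsLocalization.exist_integer_multiples_of_finset QC.primeCompl S
  choose! cf hcf using hs
  -- an open normal subgroup fixing everything
  obtain ⟨N, hNn, hNo, hNfix⟩ := exists_open_normal_fixing (G := G)
    (insert ((s : C) : B) (S.image (fun t => ((cf t : C) : B))))
  haveI := hNn
  haveI : Finite (G ⧸ N) := Subgroup.quotient_finite_of_isOpen N hNo
  set R := FixedPoints.subalgebra A B N with hR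
  set QN := Q.comap R.val with hQN
  have hinjR : Function.Injective (algebraMap A R) := fun a b h => hinj (congrArg Subtype.val h)
  obtain ⟨θ, hθa, hθb⟩ := exists_theta (G := G ⧸ N) QN
  have hstab : MulAction.stabilizer (G ⧸ N) θ = QN.inertia (G ⧸ N) := by
    ext σ
    constructor
    · intro hσ
      by_contra hσI
      apply hθb σ hσI
      rw [MulAction.mem_stabilizer_iff.mp hσ, sub_self]
      exact QN.zero_mem
    · intro hσ
      exact MulAction.mem_stabilizer_iff.mpr (hθa σ hσ)
  set SH := InertiaG.SH (G := G ⧸ N) A θ with hSH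
  set gθ := InertiaG.gH (G := G ⧸ N) A θ with hgθ
  haveI hEt : Algebra.Etale A (Localization.Away gθ) := InertiaG.etale_away_gH A θ hinjR
  have hgQ : (((gθ : SH) : R) : B) ∉ Q := by
    have := InertiaG.gH_not_mem (G := G ⧸ N) A θ QN (fun σ hσ => hθb σ (by rwa [hstab] at hσ))
    rwa [hQN, Ideal.mem_comap] at this
  -- the inclusion `SH → C`
  have hjmem : ∀ x : SH, (((x : R) : B)) ∈ C := by
    intro x i
    have h1 : ((i : G) : G ⧸ N) ∈ MulAction.stabilizer (G ⧸ N) θ := by
      rw [hstab]; exact mk_mem_inertia N Q i.2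
    have h2 := x.2 ⟨_, h1⟩
    change (((i : G) : G ⧸ N) • (x : R)) = (x : R) at h2
    have h3 := congrArg (fun r : R => (r : B)) h2
    exact h3
  let j : SH →ₐ[A] C := AlgHom.codRestrict (R.val.comp SH.val) C hjmem
  have hjinj : Function.Injective j := by
    intro x y hxy
    apply Subtype.ext
    apply Subtype.ext
    exact congrArg (fun c : C => (c : B)) hxy
  -- elements of `C` fixed by `N` come from `SH`
  have hjsurj : ∀ c : C, (∀ n ∈ N, n • (c : B) = c) → ∃ x : SH, j x = c := by
    intro c hc
    refine ⟨⟨⟨(c : B), fun n => hc n n.2⟩, ?_⟩, Subtype.ext rfl⟩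
    intro σ
    refine smul_eq_of_mem_inertia_quotient N hNo Q ⟨(c : B), fun n => hc n n.2⟩
      (fun i hi => c.2 ⟨i, hi⟩) σ ?_
    rw [← hstab]; exact σ.2
  haveI : IsDomain C := inferInstance
  have hCT : Function.Injective (algebraMap C T) :=
    IsLocalization.injective T (M := QC.primeCompl) (by
      intro x hx
      exact mem_nonZeroDivisors_of_ne_zero (fun h => hx (h ▸ QC.zero_mem)))
  let f : SH →ₐ[A] T := (IsScalarTower.toAlgHom A C T).comp j
  have hfinj : Function.Injective f := hCT.comp hjinj
  have hfg : IsUnit (f gθ) := by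
    refine IsLocalization.map_units T (⟨j gθ, ?_⟩ : QC.primeCompl)
    change j gθ ∉ QC
    rw [hQC, Ideal.mem_comap]
    exact hgQ
  let ι₁ : Localization.Away gθ →ₐ[A] T :=
    IsLocalization.liftAlgHom (M := Submonoid.powers gθ) (f := f) (by
      rintro ⟨_, n, rfl⟩
      rw [map_pow]; exact hfg.pow n)
  have hι₁ : ∀ x : SH, ι₁ (algebraMap SH (Localization.Away gθ) x) = f x := fun x =>
    IsLocalization.lift_eq _ x
  have hι₁inj : Function.Injective ι₁ := by
    change Function.Injective (IsLocalization.lift _)
    rw [IsLocalization.lift_injective_iff]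
    intro x y
    constructor
    · intro h
      have := congrArg ι₁ h
      rwa [hι₁, hι₁] at this
    · intro h
      rw [hfinj h]
  -- the denominator
  obtain ⟨s', hs'⟩ := hjsurj (s : C) (hNfix _ (Finset.mem_insert_self _ _))
  have hfs' : f s' = algebraMap C T s := by
    change algebraMap C T (j s') = _
    rw [hs']
  have hsunit : IsUnit (algebraMap C T (s : C)) := IsLocalization.map_units T s
  set σs := algebraMap SH (Localization.Away gθ) s' with hσs
  have hι₁σ : ι₁ σs = algebraMap C T (s : C) := by rw [hσs, hι₁, hfs']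
  have hι₁s : IsUnit (ι₁ σs) := by rw [hι₁σ]; exact hsunit
  let ι : Localization.Away σs →ₐ[A] T :=
    IsLocalization.liftAlgHom (M := Submonoid.powers σs) (f := ι₁) (by
      rintro ⟨_, n, rfl⟩
      rw [map_pow]; exact hι₁s.pow n)
  have hι : ∀ x : Localization.Away gθ, ι (algebraMap _ (Localization.Away σs) x) = ι₁ x :=
    fun x => IsLocalization.lift_eq _ x
  have hιinj : Function.Injective ι := by
    change Function.Injective (IsLocalization.lift _)
    rw [IsLocalization.lift_injective_iff]
    intro x y
    constructor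
    · intro h
      have := congrArg ι h
      rwa [hι, hι] at this
    · intro h
      rw [hι₁inj h]
  haveI : Algebra.Etale A (Localization.Away σs) :=
    Algebra.Etale.comp A (Localization.Away gθ) (Localization.Away σs)
  refine ⟨Localization.Away σs, inferInstance, inferInstance, inferInstance, ι, hιinj, ?_⟩
  intro t ht
  obtain ⟨xt, hxt⟩ := hjsurj (cf t) (hNfix _ (Finset.mem_insert_of_mem
    (Finset.mem_image_of_mem (fun t => ((cf t : C) : B)) ht)))
  have h1 : algebraMap C T (cf t) = algebraMap C T (s : C) * t := by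
    rw [hcf t ht, Algebra.smul_def]
  let e : Localization.Away σs := IsLocalization.mk' (Localization.Away σs)
    (algebraMap SH (Localization.Away gθ) xt) (⟨σs, Submonoid.mem_powers σs⟩ : Submonoid.powers σs)
  refine ⟨e, ?_⟩
  have h2 : e * algebraMap _ (Localization.Away σs) σs =
      algebraMap _ (Localization.Away σs) (algebraMap SH (Localization.Away gθ) xt) :=
    IsLocalization.mk'_spec _ _ _
  have h3 := congrArg ι h2
  rw [map_mul, hι, hι, hι₁, hι₁, hfs'] at h3
  have h4 : f xt = algebraMap C T (cf t) := by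
    change algebraMap C T (j xt) = _
    rw [hxt]
  rw [h4, h1, mul_comm] at h3
  change ι e = t
  exact hsunit.mul_left_cancel h3

end Profinite

end Groth.Agent.H6.Inertia
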