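import Mathlib
import Groth.Prelude.Def_PBC
import Groth.Agent.Lib.Helper6.Inertia8

/-!
# S9494: inertia invariants of the integral closure in a Galois extension are ind-étale (helper6)
-/

set_option autoImplicit false
universe u

namespace Groth.Agent.H6.Inertia

open Pointwise Groth.Agent.H4.IndEtCrit

section Galois

variable (A K L : Type u) [CommRing A] [IsDomain A] [IsIntegrallyClosed A]
    [Field K] [Field L] [Algebra A K] [IsFractionRing A K] [Algebra K L] [Algebra A L]
    [IsScalarTower A K L] [IsGalois K L]

instance isInvariant_integralClosure :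
    Algebra.IsInvariant A (integralClosure A L) (L ≃ₐ[K] L) := by
  refine ⟨fun b hb => ?_⟩
  have h1 : ∀ f : L ≃ₐ[K] L, f (b : L) = b := fun f => congrArg Subtype.val (hb f)
  obtain ⟨k, hk⟩ := (InfiniteGalois.mem_range_algebraMap_iff_fixed (b : L)).mpr h1
  have hint : IsIntegral A k := by
    have := b.2
    rw [← hk] at this
    exact (isIntegral_algebraMap_iff (FaithfulSMul.algebraMap_injective K L)).mp this
  obtain ⟨a, rfl⟩ := IsIntegrallyClosed.algebraMap_eq_of_integral hint
  refine ⟨a, Subtype.ext ?_⟩
  rw [← hk, ← IsScalarTower.algebraMap_apply]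
  rfl

theorem isIndEtale_galois (q : Ideal (integralClosure A L)) [q.IsPrime]
    (I : Subgroup (L ≃ₐ[K] L))
    (hI : ∀ σ : L ≃ₐ[K] L, σ ∈ I ↔ ∀ b : integralClosure A L, ∃ c ∈ q, (c : L) = σ b - b) :
    EtPBC.IsIndEtale A (Localization.AtPrime
      (q.comap (Subalgebra.inclusion
        (inf_le_left : integralClosure A L ⊓
          (IntermediateField.fixedField I).toSubalgebra.restrictScalars A ≤
          integralClosure A L)))) := by
  classical
  obtain rfl : I = q.inertia (L ≃ₐ[K] L) := by
    ext σ
    rw [hI]
    constructor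
    · intro h b
      obtain ⟨c, hc, hcb⟩ := h b
      have : c = σ • b - b := Subtype.ext hcb
      rw [← this]; exact hc
    · intro h b
      exact ⟨σ • b - b, h b, rfl⟩
  letI : TopologicalSpace (integralClosure A L) := ⊥
  haveI : DiscreteTopology (integralClosure A L) := ⟨rfl⟩
  haveI : ContinuousSMul (L ≃ₐ[K] L) (integralClosure A L) := by
    rw [continuousSMul_iff_stabilizer_isOpen]
    intro b
    convert stabilizer_isOpen_of_isIntegral (K := K) (b : L) using 1
    ext σ
    simp only [SetLike.mem_coe, MulAction.mem_stabilizer_iff]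
    exact ⟨fun h => congrArg Subtype.val h, fun h => Subtype.ext h⟩
  have hinj : Function.Injective (algebraMap A (integralClosure A L)) := by
    intro a b h
    have h1 : algebraMap A L a = algebraMap A L b :=
      congrArg (fun x : integralClosure A L => (x : L)) h
    rw [IsScalarTower.algebraMap_apply A K L, IsScalarTower.algebraMap_apply A K L] at h1
    exact IsFractionRing.injective A K ((algebraMap K L).injective h1)
  -- the identification of the two rings of invariants
  let e : Cinv A (L ≃ₐ[K] L) q ≃ₐ[A] ↥(integralClosure A L ⊓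
      (IntermediateField.fixedField (q.inertia (L ≃ₐ[K] L))).toSubalgebra.restrictScalars A) :=
    { toFun := fun x => ⟨((x : integralClosure A L) : L),
        ⟨(x : integralClosure A L).2, fun i => congrArg Subtype.val (x.2 i)⟩⟩
      invFun := fun y => ⟨⟨(y : L), y.2.1⟩, fun i => Subtype.ext (y.2.2 i)⟩
      left_inv := fun x => rfl
      right_inv := fun y => rfl
      map_mul' := fun x y => rfl
      map_add' := fun x y => rfl
      commutes' := fun a => rfl }
  have hprime : (QCinv A (L ≃ₐ[K] L) q).primeCompl.map e.toRingEquiv.toMonoidHom =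
      (q.comap (Subalgebra.inclusion (inf_le_left : integralClosure A L ⊓
        (IntermediateField.fixedField (q.inertia (L ≃ₐ[K] L))).toSubalgebra.restrictScalars A ≤
          integralClosure A L))).primeCompl := by
    ext y
    constructor
    · rintro ⟨x, hx, rfl⟩
      exact hx
    · intro hy
      exact ⟨e.symm y, hy, e.apply_symm_apply y⟩
  let eT := IsLocalization.ringEquivOfRingEquiv (Tinv A (L ≃ₐ[K] L) q) (Localization.AtPrime
      (q.comap (Subalgebra.inclusion (inf_le_left : integralClosure A L ⊓
        (IntermediateField.fixedField (q.inertia (L ≃ₐ[K] L))).toSubalgebra.restrictScalars A ≤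
          integralClosure A L))))
      e.toRingEquiv hprime
  let eA : Tinv A (L ≃ₐ[K] L) q ≃ₐ[A] Localization.AtPrime
      (q.comap (Subalgebra.inclusion (inf_le_left : integralClosure A L ⊓
        (IntermediateField.fixedField (q.inertia (L ≃ₐ[K] L))).toSubalgebra.restrictScalars A ≤
          integralClosure A L))) :=
    AlgEquiv.ofRingEquiv (f := eT) (by
      intro a
      rw [IsScalarTower.algebraMap_apply A (Cinv A (L ≃ₐ[K] L) q) (Tinv A (L ≃ₐ[K] L) q),
        IsScalarTower.algebraMap_apply A ↥(integralClosure A L ⊓
          (IntermediateField.fixedField (q.inertia (L ≃ₐ[K] L))).toSubalgebra.restrictScalars A)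
          (Localization.AtPrime _)]
      exact IsLocalization.ringEquivOfRingEquiv_eq _ _)
  apply isIndEtale_of_crit
  apply crit_of_forall_finset
  intro S'
  obtain ⟨E, _, _, _, ι, hιinj, hι⟩ := exists_etale_of_finset (A := A) (G := (L ≃ₐ[K] L)) hinj q
    (S'.image eA.symm)
  refine ⟨E, inferInstance, inferInstance, inferInstance, eA.toAlgHom.comp ι,
    fun x y hxy => hιinj (eA.injective hxy), fun t ht => ?_⟩
  obtain ⟨x, hx⟩ := hι _ (Finset.mem_image_of_mem eA.symm ht)
  refine ⟨x, ?_⟩
  change eA (ι x) = t
  have : ι x = eA.symm t := hx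
  rw [this, AlgEquiv.apply_symm_apply]

end Galois

end Groth.Agent.H6.Inertia
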