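import Mathlib
import Groth.Agent.Lib.Helper6.Inertia9

/-!
# Integral closures in separable extensions as rings of invariants (helper6)
-/

set_option autoImplicit false
universe u

namespace Groth.Agent.H6.FibCount

open IntermediateField

theorem exists_galois_closure (K L : Type u) [Field K] [Field L] [Algebra K L]
    [FiniteDimensional K L] [Algebra.IsSeparable K L] :
    ∃ (N : Type u) (_ : Field N) (_ : Algebra K N) (_ : Algebra L N) (_ : IsScalarTower K L N),
      FiniteDimensional K N ∧ IsGalois K N := by
  refine ⟨normalClosure K L (AlgebraicClosure L), inferInstance, inferInstance, inferInstance,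
    inferInstance, inferInstance, ?_⟩
  rw [isGalois_iff]
  refine ⟨?_, inferInstance⟩
  rw [normalClosure_def]
  have h : ∀ f : L →ₐ[K] AlgebraicClosure L, Algebra.IsSeparable K f.fieldRange :=
    fun f => AlgEquiv.Algebra.isSeparable (AlgEquiv.ofInjectiveField f)
  exact IntermediateField.isSeparable_iSup K (AlgebraicClosure L)

/-- The integral closure of a normal domain in a finite separable extension of its fraction
field is the ring of invariants of a subgroup of index `[L : K]` of a finite group acting on a
ring `C` with `C^G = A`. -/
theorem exists_invariant_data (A K L B : Type u) [CommRing A] [IsDomain A] [IsIntegrallyClosed A]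
    [Field K] [Field L] [Algebra A K] [IsFractionRing A K] [Algebra K L] [Algebra A L]
    [IsScalarTower A K L] [FiniteDimensional K L] [Algebra.IsSeparable K L]
    [CommRing B] [Algebra A B] [Algebra B L] [IsScalarTower A B L] [IsIntegralClosure B A L] :
    ∃ (C G : Type u) (_ : CommRing C) (_ : Algebra A C) (_ : Group G) (_ : Finite G)
      (_ : MulSemiringAction G C) (_ : SMulCommClass G A C) (_ : Algebra.IsInvariant A C G)
      (H : Subgroup G), Function.Injective (algebraMap A C) ∧ H.index = Module.finrank K L ∧
      Nonempty (B ≃ₐ[A] FixedPoints.subalgebra A C H) := by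
  obtain ⟨N, _, _, _, _, hfd, hgal⟩ := exists_galois_closure K L
  letI : Algebra A N := ((algebraMap K N).comp (algebraMap A K)).toAlgebra
  haveI : IsScalarTower A K N := IsScalarTower.of_algebraMap_eq (fun _ => rfl)
  haveI : IsScalarTower A L N := IsScalarTower.of_algebraMap_eq (fun a => by
    rw [IsScalarTower.algebraMap_apply A K N, IsScalarTower.algebraMap_apply K L N,
      ← IsScalarTower.algebraMap_apply A K L])
  let ι : L →ₐ[K] N := IsScalarTower.toAlgHom K L N
  let E : IntermediateField K N := ι.fieldRange
  let H : Subgroup (N ≃ₐ[K] N) := E.fixingSubgroup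
  have hinj : Function.Injective (algebraMap A (integralClosure A N)) := by
    intro a b h
    have h1 : algebraMap A N a = algebraMap A N b :=
      congrArg (fun x : integralClosure A N => (x : N)) h
    rw [IsScalarTower.algebraMap_apply A K N, IsScalarTower.algebraMap_apply A K N] at h1
    exact IsFractionRing.injective A K ((algebraMap K N).injective h1)
  have hidx : H.index = Module.finrank K L := by
    rw [← IntermediateField.finrank_eq_fixingSubgroup_index]
    exact (AlgEquiv.ofInjectiveField ι).toLinearEquiv.finrank_eq.symm
  have hfix : ∀ x : N, (∀ h : H, (h : N ≃ₐ[K] N) x = x) → ∃ l : L, algebraMap L N l = x := by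
    intro x hx
    have h1 : x ∈ IntermediateField.fixedField H := by
      rw [IntermediateField.mem_fixedField_iff]
      intro σ hσ
      exact hx ⟨σ, hσ⟩
    rw [IsGalois.fixedField_fixingSubgroup] at h1
    obtain ⟨l, hl⟩ := h1
    exact ⟨l, hl⟩
  have hBN : ∀ b : B, IsIntegral A (algebraMap L N (algebraMap B L b)) := fun b =>
    ((IsIntegralClosure.isIntegral A L b).map (IsScalarTower.toAlgHom A B L)).map
      (IsScalarTower.toAlgHom A L N)
  have hBH : ∀ (b : B) (h : H),
      h • (⟨algebraMap L N (algebraMap B L b), hBN b⟩ : integralClosure A N) =
        ⟨algebraMap L N (algebraMap B L b), hBN b⟩ := by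
    intro b h
    apply Subtype.ext
    exact h.2 ⟨_, ⟨algebraMap B L b, rfl⟩⟩
  let e₀ : B →ₐ[A] FixedPoints.subalgebra A (integralClosure A N) H :=
    { toFun := fun b => ⟨⟨algebraMap L N (algebraMap B L b), hBN b⟩, hBH b⟩
      map_one' := by
        apply Subtype.ext; apply Subtype.ext
        simp
      map_mul' := fun x y => by
        apply Subtype.ext; apply Subtype.ext
        simp
      map_zero' := by
        apply Subtype.ext; apply Subtype.ext
        simp
      map_add' := fun x y => by
        apply Subtype.ext; apply Subtype.ext
        simp
      commutes' := fun a => by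
        apply Subtype.ext; apply Subtype.ext
        change algebraMap L N (algebraMap B L (algebraMap A B a)) = algebraMap A N a
        rw [← IsScalarTower.algebraMap_apply A B L, ← IsScalarTower.algebraMap_apply A L N] }
  have he₀ : Function.Bijective e₀ := by
    constructor
    · intro x y hxy
      have h1 : algebraMap L N (algebraMap B L x) = algebraMap L N (algebraMap B L y) :=
        congrArg (fun z : FixedPoints.subalgebra A (integralClosure A N) H =>
          ((z : integralClosure A N) : N)) hxy
      exact IsIntegralClosure.algebraMap_injective B A L ((algebraMap L N).injective h1)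
    · intro c
      obtain ⟨l, hl⟩ := hfix ((c : integralClosure A N) : N)
        (fun h => congrArg Subtype.val (c.2 h))
      have hint : IsIntegral A l := by
        have h1 : IsIntegral A (algebraMap L N l) := by rw [hl]; exact (c : integralClosure A N).2
        exact (isIntegral_algHom_iff (IsScalarTower.toAlgHom A L N)
          (algebraMap L N).injective).mp h1
      obtain ⟨b, hb⟩ := (IsIntegralClosure.isIntegral_iff (A := B)).mp hint
      refine ⟨b, ?_⟩
      apply Subtype.ext; apply Subtype.ext
      change algebraMap L N (algebraMap B L b) = _
      rw [hb, hl]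
  exact ⟨integralClosure A N, N ≃ₐ[K] N, inferInstance, inferInstance, inferInstance,
    inferInstance, inferInstance, inferInstance, inferInstance, H, hinj, hidx,
    ⟨AlgEquiv.ofBijective e₀ he₀⟩⟩

end Groth.Agent.H6.FibCount
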