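import Mathlib
import Groth.Agent.Lib.Helper6.FibCount3
import Groth.Agent.Lib.Helper6.FibCount4

/-!
# The criterion by the cardinality of the geometric fibre: separable case (helper6)
-/

set_option autoImplicit false
universe u

namespace Groth.Agent.H6.FibCount

/-- Transport of the fibre along an isomorphism of algebras. -/
def homOverCongr {A B B₀ Ω : Type*} [CommRing A] [CommRing B] [CommRing B₀] [Algebra A B]
    [Algebra A B₀] [CommRing Ω] (e : B ≃ₐ[A] B₀) (φ₀ : A →+* Ω) :
    HomOver A B φ₀ ≃ HomOver A B₀ φ₀ where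
  toFun φ := ⟨φ.1.comp e.symm.toAlgHom.toRingHom, by
    have h := φ.2
    ext a
    have := congrArg (fun g : A →+* Ω => g a) h
    simpa using this⟩
  invFun φ := ⟨φ.1.comp e.toAlgHom.toRingHom, by
    have h := φ.2
    ext a
    have := congrArg (fun g : A →+* Ω => g a) h
    simpa using this⟩
  left_inv φ := by
    apply Subtype.ext
    ext b
    simp
  right_inv φ := by
    apply Subtype.ext
    ext b
    simp

section

variable (A K L B : Type u) [CommRing A] [IsDomain A] [IsIntegrallyClosed A]
    [Field K] [Field L] [Algebra A K] [IsFractionRing A K] [Algebra K L] [Algebra A L]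
    [IsScalarTower A K L] [FiniteDimensional K L] [Algebra.IsSeparable K L]
    [CommRing B] [Algebra A B] [Algebra B L] [IsScalarTower A B L] [IsIntegralClosure B A L]
    {Ω : Type*} [Field Ω] [IsAlgClosed Ω] (φ₀ : A →+* Ω)

theorem card_homOver_le_finrank_of_isSeparable :
    Finite (HomOver A B φ₀) ∧ Nat.card (HomOver A B φ₀) ≤ Module.finrank K L := by
  obtain ⟨C, G, _, _, _, _, _, _, _, H, hinj, hidx, ⟨e⟩⟩ := exists_invariant_data A K L B
  obtain ⟨h1, h2⟩ := card_homOver_fixedPoints_le (G := G) hinj φ₀ H
  refine ⟨Finite.of_equiv _ (homOverCongr e φ₀).symm, ?_⟩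
  rw [Nat.card_congr (homOverCongr e φ₀), ← hidx]
  exact h2

theorem exists_away_of_finrank_le_of_isSeparable
    (hcard : Module.finrank K L ≤ Nat.card (HomOver A B φ₀)) :
    ∃ f : A, φ₀ f ≠ 0 ∧ ∀ (A' B' : Type u) [CommRing A'] [CommRing B'] [Algebra A A']
      [Algebra A B'] [Algebra A' B'] [Algebra B B'] [IsScalarTower A A' B'] [IsScalarTower A B B']
      [IsLocalization.Away f A'] [IsLocalization.Away (algebraMap A B f) B'],
      Module.Finite A' B' ∧ Algebra.Etale A' B' := by
  obtain ⟨C, G, _, _, _, _, _, _, _, H, hinj, hidx, ⟨e⟩⟩ := exists_invariant_data A K L B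
  rw [Nat.card_congr (homOverCongr e φ₀), ← hidx] at hcard
  obtain ⟨f, hf, key⟩ := exists_away_finite_etale_fixedPoints (G := G) hinj φ₀ H hcard
  refine ⟨f, hf, ?_⟩
  intro A' B' _ _ _ _ _ _ _ _ _ _
  letI : Algebra (FixedPoints.subalgebra A C H) B' :=
    ((algebraMap B B').comp e.symm.toAlgHom.toRingHom).toAlgebra
  have halg : ∀ x : FixedPoints.subalgebra A C H,
      algebraMap (FixedPoints.subalgebra A C H) B' x = algebraMap B B' (e.symm x) := fun x => rfl
  haveI : IsScalarTower A (FixedPoints.subalgebra A C H) B' :=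
    IsScalarTower.of_algebraMap_eq (fun a => by
      rw [halg, AlgEquiv.commutes, ← IsScalarTower.algebraMap_apply])
  haveI : IsLocalization.Away (algebraMap A (FixedPoints.subalgebra A C H) f) B' := by
    have h1 : IsLocalization ((Submonoid.powers (algebraMap A B f)).map
        e.toRingEquiv.toMonoidHom) B' :=
      IsLocalization.isLocalization_of_base_ringEquiv (Submonoid.powers (algebraMap A B f)) B'
        e.toRingEquiv
    have h2 : (Submonoid.powers (algebraMap A B f)).map e.toRingEquiv.toMonoidHom =
        Submonoid.powers (algebraMap A (FixedPoints.subalgebra A C H) f) := by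
      rw [Submonoid.map_powers]
      congr 1
      exact e.commutes f
    rw [h2] at h1
    convert h1 using 1
  exact key A' B'

end

end Groth.Agent.H6.FibCount
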