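import Mathlib
import Groth.Agent.Lib.Helper6.FibCount5

/-!
# The criterion by the cardinality of the geometric fibre: general case (helper6)
-/

set_option autoImplicit false
universe u

namespace Groth.Agent.H6.FibCount

section

variable (A K L B : Type u) [CommRing A] [IsDomain A] [IsIntegrallyClosed A]
    [Field K] [Field L] [Algebra A K] [IsFractionRing A K] [Algebra K L] [Algebra A L]
    [IsScalarTower A K L] [FiniteDimensional K L]
    [CommRing B] [Algebra A B] [Algebra B L] [IsScalarTower A B L] [IsIntegralClosure B A L]
    {Ω : Type*} [Field Ω] [IsAlgClosed Ω] (φ₀ : A →+* Ω)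

/-- Two points of the fibre agreeing on the integral closure in a subextension over which `L`
is purely inseparable agree. -/
theorem eq_of_comp_lift_eq
    (Ls Bs : Type u) [Field Ls] [Algebra K Ls] [Algebra Ls L] [IsScalarTower K Ls L]
    [Algebra A Ls] [IsScalarTower A Ls L] [IsPurelyInseparable Ls L]
    [CommRing Bs] [Algebra A Bs] [Algebra Bs Ls] [IsScalarTower A Bs Ls] [IsIntegralClosure Bs A Ls]
    [Algebra Bs L] [IsScalarTower Bs Ls L] [IsScalarTower A Bs L] [Algebra.IsIntegral A Bs]
    (φ ψ : HomOver A B φ₀)
    (h : ∀ y : Bs, φ.1 (IsIntegralClosure.lift A B L y) = ψ.1 (IsIntegralClosure.lift A B L y)) :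
    φ = ψ := by
  apply Subtype.ext
  ext b
  obtain ⟨q, hq⟩ := ExpChar.exists K
  haveI : ExpChar Ls q := expChar_of_injective_algebraMap (algebraMap K Ls).injective q
  obtain ⟨n, y, hy⟩ := IsPurelyInseparable.pow_mem Ls q (algebraMap B L b)
  have hbint : IsIntegral A (algebraMap B L b) :=
    (IsIntegralClosure.isIntegral_iff (A := B)).mpr ⟨b, rfl⟩
  have hyint : IsIntegral A y := by
    have h1 : IsIntegral A (algebraMap Ls L y) := by
      rw [hy]; exact hbint.pow _
    exact (isIntegral_algebraMap_iff (algebraMap Ls L).injective).mp h1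
  obtain ⟨y', hy'⟩ := (IsIntegralClosure.isIntegral_iff (A := Bs)).mp hyint
  have hlift : IsIntegralClosure.lift A B L y' = b ^ q ^ n := by
    apply IsIntegralClosure.algebraMap_injective B A L
    rw [IsIntegralClosure.algebraMap_lift, map_pow, ← hy, ← hy',
      ← IsScalarTower.algebraMap_apply]
  have hpow : (φ.1 b) ^ q ^ n = (ψ.1 b) ^ q ^ n := by
    rw [← map_pow, ← map_pow, ← hlift]
    exact h _
  cases hq with
  | zero => simpa using hpow
  | prime hprime =>
    haveI : CharP Ω q := by
      rw [CharP.charP_iff_prime_eq_zero hprime]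
      have h0 : algebraMap A K (q : A) = 0 := by
        rw [map_natCast]; exact CharP.cast_eq_zero K q
      have h1 : (q : A) = 0 := by
        apply IsFractionRing.injective A K
        rw [map_zero]; exact h0
      have := congrArg φ₀ h1
      simpa using this
    haveI : ExpChar Ω q := ExpChar.prime hprime
    exact iterateFrobenius_inj Ω q n (by simpa [iterateFrobenius_def] using hpow)

end

end Groth.Agent.H6.FibCount
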