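import Mathlib
import Groth.Agent.Lib.Helper6.FibCount6

set_option autoImplicit false
universe u

namespace Groth.Agent.H6.FibCount

section

variable (A K L B : Type u) [CommRing A] [IsDomain A] [IsIntegrallyClosed A]
    [Field K] [Field L] [Algebra A K] [IsFractionRing A K] [Algebra K L] [Algebra A L]
    [IsScalarTower A K L] [FiniteDimensional K L]
    [CommRing B] [Algebra A B] [Algebra B L] [IsScalarTower A B L] [IsIntegralClosure B A L]
    {Ω : Type*} [Field Ω] [IsAlgClosed Ω] (φ₀ : A →+* Ω)

theorem exists_injective_homOver_sep :
    ∃ r : HomOver A B φ₀ → HomOver A (integralClosure A (separableClosure K L)) φ₀,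
      Function.Injective r := by
  haveI : IsScalarTower A (separableClosure K L) L := IsScalarTower.of_algebraMap_eq (fun a => rfl)
  haveI : IsScalarTower A (integralClosure A (separableClosure K L)) L :=
    IsScalarTower.of_algebraMap_eq (fun a => rfl)
  haveI : IsScalarTower (integralClosure A (separableClosure K L)) (separableClosure K L) L :=
    IsScalarTower.of_algebraMap_eq (fun a => rfl)
  refine ⟨fun φ => ⟨φ.1.comp (IsIntegralClosure.lift A B L
    (S := integralClosure A (separableClosure K L))).toRingHom, ?_⟩, ?_⟩
  · have h := φ.2
    ext a
    have := congrArg (fun g : A →+* Ω => g a) h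
    simpa using this
  · intro φ ψ hφψ
    apply eq_of_comp_lift_eq A K L B φ₀ (separableClosure K L)
      (integralClosure A (separableClosure K L)) φ ψ
    intro y
    have := congrArg (fun g : HomOver A (integralClosure A (separableClosure K L)) φ₀ => g.1 y) hφψ
    simpa using this

theorem card_homOver_le_finrank :
    Finite (HomOver A B φ₀) ∧ Nat.card (HomOver A B φ₀) ≤ Module.finrank K L := by
  obtain ⟨r, hr⟩ := exists_injective_homOver_sep A K L B φ₀
  haveI : IsScalarTower A K (separableClosure K L) := IsScalarTower.of_algebraMap_eq (fun a => by
    apply (algebraMap (separableClosure K L) L).injective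
    rw [← IsScalarTower.algebraMap_apply K (separableClosure K L) L,
      ← IsScalarTower.algebraMap_apply A K L]
    rfl)
  obtain ⟨h1, h2⟩ := card_homOver_le_finrank_of_isSeparable A K (separableClosure K L)
    (integralClosure A (separableClosure K L)) φ₀
  refine ⟨Finite.of_injective r hr, ?_⟩
  have h3 := Nat.card_le_card_of_injective r hr
  have h4 := Module.finrank_mul_finrank K (separableClosure K L) L
  have h5 : 0 < Module.finrank (separableClosure K L) L := Module.finrank_pos
  nlinarith

theorem exists_away_of_finrank_le
    (hcard : Module.finrank K L ≤ Nat.card (HomOver A B φ₀)) :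
    ∃ f : A, φ₀ f ≠ 0 ∧ ∀ (A' B' : Type u) [CommRing A'] [CommRing B'] [Algebra A A']
      [Algebra A B'] [Algebra A' B'] [Algebra B B'] [IsScalarTower A A' B'] [IsScalarTower A B B']
      [IsLocalization.Away f A'] [IsLocalization.Away (algebraMap A B f) B'],
      Module.Finite A' B' ∧ Algebra.Etale A' B' := by
  obtain ⟨r, hr⟩ := exists_injective_homOver_sep A K L B φ₀
  haveI : IsScalarTower A K (separableClosure K L) := IsScalarTower.of_algebraMap_eq (fun a => by
    apply (algebraMap (separableClosure K L) L).injective
    rw [← IsScalarTower.algebraMap_apply K (separableClosure K L) L,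
      ← IsScalarTower.algebraMap_apply A K L]
    rfl)
  obtain ⟨h1, h2⟩ := card_homOver_le_finrank_of_isSeparable A K (separableClosure K L)
    (integralClosure A (separableClosure K L)) φ₀
  have h3 := Nat.card_le_card_of_injective r hr
  have hle : Module.finrank K (⊤ : IntermediateField K L) ≤
      Module.finrank K (separableClosure K L) := by
    rw [IntermediateField.finrank_top']
    omega
  have htop : separableClosure K L = ⊤ := IntermediateField.eq_of_le_of_finrank_le le_top hle
  haveI : Algebra.IsSeparable K L := (separableClosure.eq_top_iff K L).mp htop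
  exact exists_away_of_finrank_le_of_isSeparable A K L B φ₀ hcard

end

end Groth.Agent.H6.FibCount
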