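import Mathlib

/-!
# Finite étale restriction over an affine open from the ring map (helper6)
-/

set_option autoImplicit false
universe u
open CategoryTheory CategoryTheory.Limits AlgebraicGeometry TopologicalSpace Opposite

namespace Groth.Agent.H6.FibCount

theorem etale_isFinite_snd_of_app {X Y : Scheme.{u}} (ν : Y ⟶ X) [IsAffineHom ν] (U : X.Opens)
    (hU : IsAffineOpen U) (h1 : (ν.app U).hom.Finite) (h2 : (ν.app U).hom.Etale) :
    Etale (pullback.snd ν U.ι) ∧ IsFinite (pullback.snd ν U.ι) := by
  haveI : IsAffine U.toScheme := hU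
  haveI : IsAffine (ν ⁻¹ᵁ U).toScheme := hU.preimage ν
  have hiso := arrowResLEAppIso ν U (ν ⁻¹ᵁ U) le_rfl
  rw [Scheme.Hom.resLE_eq_morphismRestrict] at hiso
  haveI : (RingHom.toMorphismProperty RingHom.Etale).RespectsIso :=
    RingHom.toMorphismProperty_respectsIso_iff.mp RingHom.Etale.respectsIso
  haveI : (RingHom.toMorphismProperty RingHom.Finite).RespectsIso :=
    RingHom.toMorphismProperty_respectsIso_iff.mp RingHom.finite_respectsIso
  have hE : Etale (ν ∣_ U) := by
    rw [HasRingHomProperty.iff_of_isAffine (P := @Etale)]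
    have := (MorphismProperty.arrow_mk_iso_iff (RingHom.toMorphismProperty RingHom.Etale)
      hiso).mpr (by
        rw [← Scheme.Hom.app_eq_appLE]
        exact h2)
    exact this
  have hF : IsFinite (ν ∣_ U) := by
    rw [HasAffineProperty.iff_of_isAffine (P := @IsFinite)]
    refine ⟨inferInstance, ?_⟩
    have := (MorphismProperty.arrow_mk_iso_iff (RingHom.toMorphismProperty RingHom.Finite)
      hiso).mpr (by
        rw [← Scheme.Hom.app_eq_appLE]
        exact h1)
    exact this
  rw [← pullbackRestrictIsoRestrict_hom_morphismRestrict ν U]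
  exact ⟨inferInstance, inferInstance⟩

end Groth.Agent.H6.FibCount
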