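import Mathlib
import Groth.Agent.Lib.Helper6.FibCount1

/-!
# Geometric points over an affine open as ring homomorphisms (helper6)
-/

set_option autoImplicit false
universe u
open CategoryTheory CategoryTheory.Limits AlgebraicGeometry TopologicalSpace Opposite

namespace Groth.Agent.H6.FibCount

theorem appLE_eq_of_eq {Z X : Scheme.{u}} (ζ ξ : Z ⟶ X) (h : ζ = ξ) (W : X.Opens) (V : Z.Opens)
    (e : V ≤ ζ ⁻¹ᵁ W) (e' : V ≤ ξ ⁻¹ᵁ W) : ζ.appLE W V e = ξ.appLE W V e' := by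
  subst h; rfl

theorem exists_injective_points {X Y : Scheme.{u}} (ν : Y ⟶ X) (Ω : Type u) [Field Ω]
    (ξ : Spec (CommRingCat.of Ω) ⟶ X) (W : X.Opens) (hV : IsAffineOpen (ν ⁻¹ᵁ W))
    (hξW : ⊤ ≤ ξ ⁻¹ᵁ W) :
    letI := (ν.app W).hom.toAlgebra
    ∃ r : {η : Spec (CommRingCat.of Ω) ⟶ Y // η ≫ ν = ξ} →
        HomOver Γ(X, W) Γ(Y, ν ⁻¹ᵁ W)
          (ξ.appLE W ⊤ hξW ≫ (Scheme.ΓSpecIso (CommRingCat.of Ω)).hom).hom,
      Function.Injective r := by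
  letI := (ν.app W).hom.toAlgebra
  have he : ∀ η : {η : Spec (CommRingCat.of Ω) ⟶ Y // η ≫ ν = ξ},
      (⊤ : (Spec (CommRingCat.of Ω)).Opens) ≤ η.1 ⁻¹ᵁ (ν ⁻¹ᵁ W) := by
    intro η
    rw [← Scheme.Hom.comp_preimage, η.2]
    exact hξW
  refine ⟨fun η => ⟨(η.1.appLE (ν ⁻¹ᵁ W) ⊤ (he η) ≫
    (Scheme.ΓSpecIso (CommRingCat.of Ω)).hom).hom, ?_⟩, ?_⟩
  · have h1 : (η.1 ≫ ν).appLE W ⊤ (by rw [Scheme.Hom.comp_preimage]; exact he η) =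
        ξ.appLE W ⊤ hξW := appLE_eq_of_eq _ _ η.2 _ _ _ _
    rw [Scheme.Hom.comp_appLE] at h1
    rw [← h1]
    rfl
  · intro η₁ η₂ h
    have h2 : η₁.1.appLE (ν ⁻¹ᵁ W) ⊤ (he η₁) = η₂.1.appLE (ν ⁻¹ᵁ W) ⊤ (he η₂) := by
      have h3 := congrArg Subtype.val h
      have h4 : η₁.1.appLE (ν ⁻¹ᵁ W) ⊤ (he η₁) ≫ (Scheme.ΓSpecIso (CommRingCat.of Ω)).hom =
          η₂.1.appLE (ν ⁻¹ᵁ W) ⊤ (he η₂) ≫ (Scheme.ΓSpecIso (CommRingCat.of Ω)).hom :=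
        CommRingCat.hom_ext h3
      exact (cancel_mono _).mp h4
    have h5 := IsAffineOpen.SpecMap_appLE_fromSpec η₁.1 hV
      (isAffineOpen_top (Spec (CommRingCat.of Ω))) (he η₁)
    have h6 := IsAffineOpen.SpecMap_appLE_fromSpec η₂.1 hV
      (isAffineOpen_top (Spec (CommRingCat.of Ω))) (he η₂)
    rw [h2, h6] at h5
    haveI : IsIso (isAffineOpen_top (Spec (CommRingCat.of Ω))).fromSpec := by
      rw [IsAffineOpen.fromSpec_top]; infer_instance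
    apply Subtype.ext
    exact ((cancel_epi _).mp h5).symm

end Groth.Agent.H6.FibCount
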