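import Mathlib
import Groth.Prelude
import Groth.Agent.Lib.Helper5.AG.NormalAffine
import Groth.Agent.Lib.Helper6.FibCount7
import Groth.Agent.Lib.Helper6.FibCount8
import Groth.Agent.Lib.Helper6.FibCount9
import Groth.Agent.Lib.Helper6.FibCount10
import Groth.Agent.Lib.Helper6.FibCount12

set_option autoImplicit false
universe u
open CategoryTheory CategoryTheory.Limits AlgebraicGeometry TopologicalSpace Opposite

namespace Groth.Agent.H6.FibCount

section

variable {X : Scheme.{u}} [IsIntegral X] (L : Type u) [Field L] [Algebra X.functionField L]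
  [FiniteDimensional X.functionField L]

theorem main_S9488 (hX : Pi1.IsNormalScheme X) (g : Spec (CommRingCat.of L) ⟶ X)
    (hg : g = Spec.map (CommRingCat.ofHom (algebraMap X.functionField L)) ≫
      X.fromSpecStalk (genericPoint X))
    [QuasiCompact g] [QuasiSeparated g]
    (Ω : Type u) [Field Ω] [IsAlgClosed Ω] (ξ : Spec (CommRingCat.of Ω) ⟶ X)
    (hcard : Nonempty (Fin (Module.finrank X.functionField L) ↪
      {η : Spec (CommRingCat.of Ω) ⟶ g.normalization // η ≫ g.fromNormalization = ξ})) :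
    ∃ U : X.Opens, Set.range ξ.base ⊆ (U : Set X) ∧
      Etale (pullback.snd g.fromNormalization U.ι) ∧
      IsFinite (pullback.snd g.fromNormalization U.ι) := by
  -- an affine neighbourhood of the image
  let z : Spec (CommRingCat.of Ω) := IsLocalRing.closedPoint Ω
  obtain ⟨_, ⟨W, hW, rfl⟩, hxW, -⟩ := X.isBasis_affineOpens.exists_subset_of_mem_open
    (Set.mem_univ (ξ.base z)) isOpen_univ
  have hξ : genericPoint X ∈ W :=
    ((genericPoint_spec X).mem_open_set_iff W.isOpen).mpr ⟨_, trivial, hxW⟩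
  haveI hne : Nonempty W := ⟨⟨_, hξ⟩⟩
  have hξW : (⊤ : (Spec (CommRingCat.of Ω)).Opens) ≤ ξ ⁻¹ᵁ W := by
    intro z' _
    have : z' = z := Subsingleton.elim _ _
    rw [this]
    exact hxW
  have hic : IsIntegrallyClosed Γ(X, W) :=
    (Groth.Agent.H5.AG.isNormalScheme_iff_affine X).1 hX W hW
  haveI := functionField_isFractionRing_of_isAffineOpen X W hW
  have hV : IsAffineOpen (g.fromNormalization ⁻¹ᵁ W) := hW.preimage g.fromNormalization
  obtain ⟨τ, hτ, hτic⟩ := isIntegralClosure_sections L g hg W hW hξ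
  letI algAL : Algebra Γ(X, W) L := ((algebraMap X.functionField L).comp
          (X.presheaf.germ W (genericPoint X) hξ).hom).toAlgebra
  letI algAB : Algebra Γ(X, W) Γ(g.normalization, g.fromNormalization ⁻¹ᵁ W) :=
    (g.fromNormalization.app W).hom.toAlgebra
  letI algBL : Algebra Γ(g.normalization, g.fromNormalization ⁻¹ᵁ W) L := τ.toAlgebra
  haveI : IsScalarTower Γ(X, W) X.functionField L := IsScalarTower.of_algebraMap_eq (fun a => rfl)
  haveI : IsScalarTower Γ(X, W) Γ(g.normalization, g.fromNormalization ⁻¹ᵁ W) L :=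
    IsScalarTower.of_algebraMap_eq (fun a => (congrArg (fun q => q a) hτ).symm)
  haveI := hτic
  -- counting
  obtain ⟨r, hr⟩ := exists_injective_points g.fromNormalization Ω ξ W hV hξW
  obtain ⟨ι⟩ := hcard
  obtain ⟨hfin, hle⟩ := card_homOver_le_finrank Γ(X, W) X.functionField L
    Γ(g.normalization, g.fromNormalization ⁻¹ᵁ W)
    (ξ.appLE W ⊤ hξW ≫ (Scheme.ΓSpecIso (CommRingCat.of Ω)).hom).hom
  have hcard' : Module.finrank X.functionField L ≤ Nat.card (HomOver Γ(X, W)
      Γ(g.normalization, g.fromNormalization ⁻¹ᵁ W)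
      (ξ.appLE W ⊤ hξW ≫ (Scheme.ΓSpecIso (CommRingCat.of Ω)).hom).hom) := by
    have := Nat.card_le_card_of_injective (r ∘ ι) (hr.comp ι.injective)
    simpa using this
  obtain ⟨f, hf, key⟩ := exists_away_of_finrank_le Γ(X, W) X.functionField L
    Γ(g.normalization, g.fromNormalization ⁻¹ᵁ W)
    (ξ.appLE W ⊤ hξW ≫ (Scheme.ΓSpecIso (CommRingCat.of Ω)).hom).hom hcard'
  refine ⟨X.basicOpen f, range_subset_basicOpen Ω ξ W hξW f hf, ?_⟩
  -- the localizations
  have hUW : X.basicOpen f ≤ W := X.basicOpen_le f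
  have hVU : g.fromNormalization ⁻¹ᵁ X.basicOpen f ≤ g.fromNormalization ⁻¹ᵁ W :=
    g.fromNormalization.preimage_mono hUW
  letI algAA' : Algebra Γ(X, W) Γ(X, X.basicOpen f) :=
    (X.presheaf.map (homOfLE hUW).op).hom.toAlgebra
  letI algA'B' : Algebra Γ(X, X.basicOpen f)
      Γ(g.normalization, g.fromNormalization ⁻¹ᵁ X.basicOpen f) :=
    (g.fromNormalization.app (X.basicOpen f)).hom.toAlgebra
  letI algBB' : Algebra Γ(g.normalization, g.fromNormalization ⁻¹ᵁ W)
      Γ(g.normalization, g.fromNormalization ⁻¹ᵁ X.basicOpen f) :=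
    (g.normalization.presheaf.map (homOfLE hVU).op).hom.toAlgebra
  letI algAB' : Algebra Γ(X, W) Γ(g.normalization, g.fromNormalization ⁻¹ᵁ X.basicOpen f) :=
    ((g.fromNormalization.app (X.basicOpen f)).hom.comp
      (X.presheaf.map (homOfLE hUW).op).hom).toAlgebra
  haveI : IsScalarTower Γ(X, W) Γ(X, X.basicOpen f)
      Γ(g.normalization, g.fromNormalization ⁻¹ᵁ X.basicOpen f) :=
    IsScalarTower.of_algebraMap_eq (fun a => rfl)
  haveI : IsScalarTower Γ(X, W) Γ(g.normalization, g.fromNormalization ⁻¹ᵁ W)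
      Γ(g.normalization, g.fromNormalization ⁻¹ᵁ X.basicOpen f) :=
    IsScalarTower.of_algebraMap_eq (fun a => by
      have := g.fromNormalization.naturality (homOfLE hUW).op
      exact congrArg (fun q => q.hom a) this)
  haveI : IsLocalization.Away f Γ(X, X.basicOpen f) :=
    hW.isLocalization_of_eq_basicOpen f (homOfLE hUW) rfl
  haveI : IsLocalization.Away (algebraMap Γ(X, W)
      Γ(g.normalization, g.fromNormalization ⁻¹ᵁ W) f)
      Γ(g.normalization, g.fromNormalization ⁻¹ᵁ X.basicOpen f) :=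
    hV.isLocalization_of_eq_basicOpen _ (homOfLE hVU)
      (Scheme.preimage_basicOpen g.fromNormalization f)
  obtain ⟨h1, h2⟩ := key Γ(X, X.basicOpen f)
    Γ(g.normalization, g.fromNormalization ⁻¹ᵁ X.basicOpen f)
  exact etale_isFinite_snd_of_app g.fromNormalization (X.basicOpen f) (hW.basicOpen f)
    (RingHom.finite_algebraMap.mpr h1) (RingHom.etale_algebraMap.mpr h2)

end

end Groth.Agent.H6.FibCount
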