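import Mathlib
import Groth.Agent.Lib.Helper6.GenFin
import Groth.Agent.Lib.Lead.MirFlat
import Groth.Agent.Lib.Helper7.QFin21
import Groth.Agent.Lib.Helper1.EquiDim
import Groth.Agent.Lib.Helper1.ClosureDim
import Groth.Agent.Lib.Helper1.CMFlat

/-!
# The rank of a finite fibre is at most the generic degree (S14042)

`X`, `Y` integral of finite type over a field, of the same dimension, with regular local rings,
`f : X ⟶ Y` dominant and separated.  If the fibre `X_y` is finite over `κ(y)` its rank is at most
`[K(X) : K(Y)]`.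

The quasi-finite locus `Q` of `f` contains the fibre; `Q ⟶ Y` is flat by miracle flatness; étale
locally around `y` the morphism `Q ⟶ Y` contains a finite flat piece containing the whole fibre
(helper7's `exists_split_whole_fibre`), whose rank is locally constant, and over the generic open of
`S14041` the rank of the full fibre is the generic degree.
-/

set_option autoImplicit false
set_option linter.style.haveILetI false
universe u
open CategoryTheory CategoryTheory.Limits AlgebraicGeometry TopologicalSpace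

namespace Groth.Agent.H6.FibRk

/-- the rank of the fibre of `g` over `y` (meaningful when the fibre is finite over `κ(y)`). -/
noncomputable def fibRank {W Y : Scheme.{u}} (g : W ⟶ Y) (y : Y) : ℕ :=
  (pullback.snd g (Y.fromSpecResidueField y)).finrank (IsLocalRing.closedPoint (Y.residueField y))

theorem fibRank_eq_finrank {W Y : Scheme.{u}} (g : W ⟶ Y) (y : Y)
    [IsFinite (pullback.snd g (Y.fromSpecResidueField y))] :
    fibRank g y =
      (letI := ((Scheme.ΓSpecIso (CommRingCat.of (Y.residueField y))).inv ≫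
            (pullback.snd g (Y.fromSpecResidueField y)).appTop).hom.toAlgebra;
          Module.finrank (Y.residueField y) ↑(Γ(pullback g (Y.fromSpecResidueField y), ⊤))) :=
  Groth.Agent.H6.GenFin.finrank_over_field (Y.residueField y)
    (pullback.snd g (Y.fromSpecResidueField y)) _

theorem flat_to_field {Z : Scheme.{u}} (K : Type u) [Field K]
    (p : Z ⟶ Spec (CommRingCat.of K)) : Flat p := by
  haveI : Subsingleton ↥(Spec (CommRingCat.of K)) :=
    inferInstanceAs (Subsingleton (PrimeSpectrum K))
  infer_instance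

/-- the fibre rank of a finite flat morphism is its rank. -/
theorem fibRank_of_finite_flat {A V : Scheme.{u}} (a : A ⟶ V) [IsFinite a] [Flat a] (v : V) :
    fibRank a v = a.finrank v := by
  unfold fibRank
  rw [Scheme.Hom.finrank_pullback_snd, Scheme.fromSpecResidueField_apply]

/-- the fibre rank is invariant under base change. -/
theorem fibRank_of_isPullback {P W V' Y : Scheme.{u}} {π : P ⟶ W} {s : P ⟶ V'} {g : W ⟶ Y}
    {J : V' ⟶ Y} (hP : IsPullback π s g J) (v : V') (y : Y) (hv : J v = y)
    [hfg : IsFinite (pullback.snd g (Y.fromSpecResidueField y))] :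
    IsFinite (pullback.snd s (V'.fromSpecResidueField v)) ∧ fibRank s v = fibRank g y := by
  subst hv
  obtain ⟨m, sq⟩ : ∃ m, IsPullback m (pullback.snd s (V'.fromSpecResidueField v))
      (pullback.snd g (Y.fromSpecResidueField (J v))) (Spec.map (J.residueFieldMap v)) :=
    ⟨_, isPullback_fiberToSpecResidueField_of_isPullback hP v⟩
  haveI : Flat (pullback.snd g (Y.fromSpecResidueField (J v))) :=
    flat_to_field (Y.residueField (J v)) _
  haveI hfin : IsFinite (pullback.snd s (V'.fromSpecResidueField v)) :=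
    MorphismProperty.of_isPullback (P := @IsFinite) sq inferInstance
  refine ⟨hfin, ?_⟩
  have key := Scheme.Hom.finrank_of_isPullback _ _ _ _ sq
    (IsLocalRing.closedPoint (V'.residueField v))
  have e : (Spec.map (J.residueFieldMap v)) (IsLocalRing.closedPoint (V'.residueField v)) =
      IsLocalRing.closedPoint (Y.residueField (J v)) :=
    Subsingleton.elim (α := PrimeSpectrum _) _ _
  rw [e] at key
  exact key

/-- a surjection of finite `K`-algebras decreases the rank. -/
theorem finrank_le_of_surjective (K : Type u) [Field K] {B C : CommRingCat.{u}}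
    (ψB : CommRingCat.of K ⟶ B) (ψC : CommRingCat.of K ⟶ C) (φ : B ⟶ C) (h : ψB ≫ φ = ψC)
    (hφ : Function.Surjective φ.hom) (hfin : ψB.hom.Finite) :
    (letI := ψC.hom.toAlgebra; Module.finrank K C) ≤
      (letI := ψB.hom.toAlgebra; Module.finrank K B) := by
  letI := ψB.hom.toAlgebra
  letI := ψC.hom.toAlgebra
  haveI : Module.Finite K B := hfin
  let φ' : B →ₐ[K] C :=
    { φ.hom with
      commutes' := fun r => by
        have := congrArg (fun t => t.hom r) h
        simpa [RingHom.algebraMap_toAlgebra] using this }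
  exact LinearMap.finrank_le_finrank_of_surjective (f := φ'.toLinearMap) hφ

section OpenSub

variable {A P S : Scheme.{u}} (i : A ⟶ P) [IsOpenImmersion i] (p : P ⟶ S) (s : S)

/-- the comparison map of fibres. -/
noncomputable def fibMap :
    pullback (i ≫ p) (S.fromSpecResidueField s) ⟶ pullback p (S.fromSpecResidueField s) :=
  pullback.map (i ≫ p) (S.fromSpecResidueField s) p (S.fromSpecResidueField s) i (𝟙 _) (𝟙 _)
    (by simp) (by simp)

instance : IsOpenImmersion (fibMap i p s) := by
  unfold fibMap
  infer_instance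

theorem fibMap_snd :
    fibMap i p s ≫ pullback.snd p (S.fromSpecResidueField s) =
      pullback.snd (i ≫ p) (S.fromSpecResidueField s) := by
  unfold fibMap
  exact (pullback.lift_snd _ _ _).trans (Category.comp_id _)

theorem fibMap_fst :
    fibMap i p s ≫ pullback.fst p (S.fromSpecResidueField s) =
      pullback.fst (i ≫ p) (S.fromSpecResidueField s) ≫ i := by
  unfold fibMap
  exact pullback.lift_fst _ _ _

/-- the part of a finite fibre lying in an open subscheme is finite, of smaller rank. -/
theorem fibRank_comp_le [IsFinite (pullback.snd p (S.fromSpecResidueField s))] :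
    IsFinite (pullback.snd (i ≫ p) (S.fromSpecResidueField s)) ∧
      fibRank (i ≫ p) s ≤ fibRank p s := by
  haveI : IsLocallyArtinian (Spec (S.residueField s)) :=
    Scheme.isLocallyArtinianScheme_Spec.mpr inferInstance
  haveI : IsLocallyArtinian (pullback p (S.fromSpecResidueField s)) :=
    IsLocallyArtinian.of_locallyQuasiFinite (pullback.snd p (S.fromSpecResidueField s))
  haveI : IsClosedImmersion (fibMap i p s) := .of_isPreimmersion _ (isClosed_discrete _)
  haveI hfin : IsFinite (pullback.snd (i ≫ p) (S.fromSpecResidueField s)) := by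
    rw [← fibMap_snd i p s]
    infer_instance
  refine ⟨hfin, ?_⟩
  haveI : IsAffine (pullback p (S.fromSpecResidueField s)) :=
    isAffine_of_isAffineHom (pullback.snd p (S.fromSpecResidueField s))
  obtain ⟨ψB, hψB⟩ : ∃ ψB : CommRingCat.of (S.residueField s) ⟶
      Γ(pullback p (S.fromSpecResidueField s), ⊤),
      ψB = (Scheme.ΓSpecIso (CommRingCat.of (S.residueField s))).inv ≫
        (pullback.snd p (S.fromSpecResidueField s)).appTop := ⟨_, rfl⟩
  obtain ⟨ψC, hψC⟩ : ∃ ψC : CommRingCat.of (S.residueField s) ⟶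
      Γ(pullback (i ≫ p) (S.fromSpecResidueField s), ⊤),
      ψC = (Scheme.ΓSpecIso (CommRingCat.of (S.residueField s))).inv ≫
        (pullback.snd (i ≫ p) (S.fromSpecResidueField s)).appTop := ⟨_, rfl⟩
  have hcomp : ψB ≫ (fibMap i p s).appTop = ψC := by
    rw [hψB, hψC, Category.assoc, ← Scheme.Hom.comp_appTop, fibMap_snd]
  have hsurj : Function.Surjective (fibMap i p s).appTop.hom :=
    (IsClosedImmersion.isAffine_surjective_of_isAffine (fibMap i p s)).2
  have hfinB : ψB.hom.Finite := by
    rw [hψB, CommRingCat.hom_comp]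
    exact (Scheme.Hom.finite_appTop (pullback.snd p (S.fromSpecResidueField s))).comp
      (RingHom.Finite.of_surjective _ (ConcreteCategory.bijective_of_isIso _).2)
  rw [fibRank_eq_finrank, fibRank_eq_finrank, ← hψB, ← hψC]
  exact finrank_le_of_surjective _ ψB ψC _ hcomp hsurj hfinB

/-- if the open subscheme contains the whole (finite) fibre, the ranks agree. -/
theorem fibRank_comp_eq (hall : ∀ w : P, p w = s → w ∈ Set.range i)
    [IsFinite (pullback.snd p (S.fromSpecResidueField s))] :
    fibRank (i ≫ p) s = fibRank p s := by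
  haveI : Surjective (fibMap i p s) := by
    refine ⟨fun z => ?_⟩
    have hz : p (pullback.fst p (S.fromSpecResidueField s) z) = s := by
      rw [← Scheme.Hom.comp_apply, pullback.condition, Scheme.Hom.comp_apply,
        Scheme.fromSpecResidueField_apply]
    obtain ⟨a, ha⟩ := hall _ hz
    obtain ⟨t, ht1, -⟩ := Scheme.Pullback.exists_preimage_pullback (f := i ≫ p)
      (g := S.fromSpecResidueField s) a (pullback.snd p (S.fromSpecResidueField s) z)
      (by rw [Scheme.Hom.comp_apply, ha, hz, Scheme.fromSpecResidueField_apply])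
    refine ⟨t, ?_⟩
    apply (p.fiberι s).isEmbedding.injective
    show pullback.fst p (S.fromSpecResidueField s) (fibMap i p s t) =
      pullback.fst p (S.fromSpecResidueField s) z
    rw [← Scheme.Hom.comp_apply, fibMap_fst, Scheme.Hom.comp_apply, ht1, ha]
  haveI : IsIso (fibMap i p s) :=
    (isIso_iff_isOpenImmersion_and_surjective _).mpr ⟨inferInstance, inferInstance⟩
  haveI : Flat (pullback.snd p (S.fromSpecResidueField s)) :=
    flat_to_field (S.residueField s) _
  have key := Scheme.Hom.finrank_comp_left_of_isIso (fibMap i p s)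
    (pullback.snd p (S.fromSpecResidueField s))
  rw [fibMap_snd] at key
  unfold fibRank
  rw [key]

end OpenSub

/-- a point of a finite fibre is a point of quasi-finiteness. -/
theorem quasiFiniteAt_of_isFinite_fibre {X Y : Scheme.{u}} (f : X ⟶ Y) [LocallyOfFiniteType f]
    (x : X) (y : Y) (hxy : f x = y) [IsFinite (pullback.snd f (Y.fromSpecResidueField y))] :
    f.QuasiFiniteAt x := by
  subst hxy
  haveI : IsLocallyArtinian (Spec (Y.residueField (f x))) :=
    Scheme.isLocallyArtinianScheme_Spec.mpr inferInstance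
  haveI : IsLocallyArtinian (pullback f (Y.fromSpecResidueField (f x))) :=
    IsLocallyArtinian.of_locallyQuasiFinite (pullback.snd f (Y.fromSpecResidueField (f x)))
  have key : ∀ t : ↥(pullback f (Y.fromSpecResidueField (f x))), IsOpen {t} :=
    fun t => isOpen_discrete _
  exact Scheme.Hom.quasiFiniteAt_iff_isOpen_singleton_asFiber.mpr (key _)

theorem dim_nonneg (T : Type*) [TopologicalSpace T] [Nonempty T] :
    0 ≤ topologicalKrullDim T := by
  obtain ⟨t⟩ := ‹Nonempty T›
  have : Nonempty (IrreducibleCloseds T) :=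
    ⟨⟨closure {t}, isIrreducible_singleton.closure, isClosed_closure⟩⟩
  exact Order.krullDim_nonneg

/-- **S14042**. -/
theorem s14042 (k : Type u) [Field k] {X Y : Scheme.{u}}
    (qX : X ⟶ Spec (CommRingCat.of k)) (qY : Y ⟶ Spec (CommRingCat.of k))
    [LocallyOfFiniteType qX] [QuasiCompact qX] [LocallyOfFiniteType qY]
    [IsIntegral X] [IsIntegral Y] (f : X ⟶ Y) [IsDominant f] (hf : f ≫ qY = qX)
    (hdim : topologicalKrullDim ↥X = topologicalKrullDim ↥Y)
    [IsSeparated f] (hX : ∀ x : X, IsRegularLocalRing (X.presheaf.stalk x))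
    (hY : ∀ y : Y, IsRegularLocalRing (Y.presheaf.stalk y)) (y : Y)
    (hy : IsFinite (pullback.snd f (Y.fromSpecResidueField y))) :
    fibRank f y ≤
      (letI := (f.residueFieldMap (genericPoint ↥X)).hom.toAlgebra;
          Module.finrank (Y.residueField (f.base (genericPoint ↥X)))
            (X.residueField (genericPoint ↥X))) := by
  have hgen : f (genericPoint X) = genericPoint Y :=
    Groth.Agent.H6.GenFin.map_genericPoint_of_isDominant f
  haveI : LocallyOfFiniteType (f ≫ qY) := by rw [hf]; infer_instance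
  haveI hlft : LocallyOfFiniteType f := locallyOfFiniteType_of_comp f qY
  haveI : IsLocallyNoetherian X := LocallyOfFiniteType.isLocallyNoetherian qX
  haveI : IsLocallyNoetherian Y := LocallyOfFiniteType.isLocallyNoetherian qY
  haveI : CompactSpace X := QuasiCompact.compactSpace_of_compactSpace qX
  haveI : IsNoetherian X := {}
  haveI : QuasiCompact f := inferInstance
  obtain ⟨-, U, hUne, hU⟩ := Groth.Agent.H6.GenFin.s14041 k qX qY f hf hdim
  -- the quasi-finite locus
  obtain ⟨Q, hQ⟩ : ∃ Q : X.Opens, Q = f.quasiFiniteLocus := ⟨_, rfl⟩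
  have hmemQ : ∀ (x : X) (y' : Y), f x = y' →
      IsFinite (pullback.snd f (Y.fromSpecResidueField y')) → x ∈ Q := by
    intro x y' hxy hfin
    rw [hQ]
    exact quasiFiniteAt_of_isFinite_fibre f x y' hxy
  have hηU : genericPoint Y ∈ U := by
    obtain ⟨⟨u, hu⟩⟩ := hUne
    exact ((genericPoint_spec Y).mem_open_set_iff U.isOpen).mpr ⟨u, trivial, hu⟩
  have hηQ : genericPoint X ∈ Q := hmemQ _ _ hgen (hU _ hηU).1
  haveI : Nonempty ↥(Q : Scheme.{u}) := ⟨⟨genericPoint X, hηQ⟩⟩
  haveI : IsIntegral (Q : Scheme.{u}) := isIntegral_of_isOpenImmersion Q.ι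
  obtain ⟨g, hg⟩ : ∃ g : (Q : Scheme.{u}) ⟶ Y, g = Q.ι ≫ f := ⟨_, rfl⟩
  haveI : LocallyQuasiFinite g := by rw [hg, hQ]; infer_instance
  haveI : IsSeparated g := by rw [hg]; infer_instance
  haveI : LocallyOfFiniteType g := by rw [hg]; infer_instance
  haveI : QuasiCompact g := by rw [hg]; infer_instance
  haveI : LocallyOfFiniteType (g ≫ qY) := inferInstance
  -- dimensions
  obtain ⟨e, -, he⟩ := Groth.Agent.H1.ClosureDim.exists_trdeg_eq_dim_closure qX (genericPoint X)
  rw [Groth.Agent.H6.GenFin.dim_closure_genericPoint X] at he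
  -- flatness of `g`
  haveI : Flat g := by
    refine Groth.Agent.LD.MirFlat.flat_of_equidim k qY g hY ?_ e e le_rfl ?_ ?_ ?_
    · intro x
      haveI := hX (Q.ι x)
      haveI : IsRegularLocalRing ((Q : Scheme.{u}).presheaf.stalk x) :=
        IsRegularLocalRing.of_ringEquiv (asIso (Q.ι.stalkMap x)).commRingCatIsoToRingEquiv
      exact Groth.Agent.H1.CMFlat.isCohenMacaulayLocalRing_of_isRegularLocalRing _
    · intro Z hZ
      rw [irreducibleComponents_eq_singleton, Set.mem_singleton_iff] at hZ
      rw [hZ, IsHomeomorph.topologicalKrullDim_eq _ (Homeomorph.Set.univ _).isHomeomorph]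
      exact (Groth.Agent.H1.EquiDim.dim_opens_eq_dim qX Q ⟨_, hηQ⟩).trans he
    · intro Z hZ
      rw [irreducibleComponents_eq_singleton, Set.mem_singleton_iff] at hZ
      rw [hZ, IsHomeomorph.topologicalKrullDim_eq _ (Homeomorph.Set.univ _).isHomeomorph, ← hdim]
      exact he
    · intro y' Z hZ
      haveI : DiscreteTopology ↥(g.base ⁻¹' {y'}) :=
        isDiscrete_iff_discreteTopology.mp (g.isDiscrete_preimage_singleton y')
      haveI : Nonempty ↥Z := hZ.1.nonempty.to_subtype
      rw [Nat.sub_self, Nat.cast_zero]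
      exact le_antisymm (topologicalKrullDim_zero_of_discreteTopology _) (dim_nonneg _)
  -- an affine neighbourhood of `y`
  obtain ⟨V, hV, hyV⟩ : ∃ V : Y.Opens, IsAffineOpen V ∧ y ∈ V := by
    obtain ⟨_, ⟨V, hV, rfl⟩, hz, -⟩ :=
      Y.isBasis_affineOpens.exists_subset_of_mem_open (Set.mem_univ y) isOpen_univ
    exact ⟨V, hV, hz⟩
  haveI : IsAffine (V : Scheme.{u}) := hV
  obtain ⟨h, hh⟩ : ∃ h : pullback g V.ι ⟶ (V : Scheme.{u}), h = pullback.snd g V.ι := ⟨_, rfl⟩
  haveI : IsSeparated h := by rw [hh]; infer_instance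
  haveI : LocallyOfFiniteType h := by rw [hh]; infer_instance
  haveI : QuasiCompact h := by rw [hh]; infer_instance
  haveI : LocallyQuasiFinite h := by rw [hh]; infer_instance
  haveI : Flat h := by rw [hh]; infer_instance
  haveI : IsLocallyNoetherian (V : Scheme.{u}) := inferInstance
  haveI : LocallyOfFinitePresentation h := inferInstance
  haveI : LocallyQuasiFinite ((⊤ : (pullback g V.ι).Opens).ι ≫ h) := inferInstance
  obtain ⟨V', j, v₁, hjet, hjv, A, hAfin, hA⟩ :=
    Groth.Agent.H7.QFin.exists_split_whole_fibre h ⟨y, hyV⟩ ⊤ (fun _ _ => trivial)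
  haveI := hjet
  have hP : IsPullback (pullback.fst h j ≫ pullback.fst g V.ι) (pullback.snd h j) g
      (j ≫ V.ι) := by
    have h1 : IsPullback (pullback.snd h j) (pullback.fst h j) j h :=
      (IsPullback.of_hasPullback h j).flip
    have h2 : IsPullback h (pullback.fst g V.ι) V.ι g := by
      rw [hh]
      exact (IsPullback.of_hasPullback g V.ι).flip
    exact (h1.paste_vert h2).flip
  obtain ⟨s, hs⟩ : ∃ s : pullback h j ⟶ V', s = pullback.snd h j := ⟨_, rfl⟩
  obtain ⟨J, hJ⟩ : ∃ J : V' ⟶ Y, J = j ≫ V.ι := ⟨_, rfl⟩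
  rw [← hs, ← hJ] at hP
  rw [← hs] at hA hAfin
  haveI : Flat s := by rw [hs]; infer_instance
  haveI : LocallyOfFinitePresentation s := by rw [hs]; infer_instance
  haveI : Flat J := by rw [hJ]; infer_instance
  haveI : LocallyOfFinitePresentation J := by rw [hJ]; infer_instance
  obtain ⟨a, ha⟩ : ∃ a : (A : Scheme.{u}) ⟶ V', a = A.ι ≫ s := ⟨_, rfl⟩
  haveI : IsFinite a := by rw [ha]; exact hAfin
  haveI : Flat a := by rw [ha]; infer_instance
  haveI : LocallyOfFinitePresentation a := by rw [ha]; infer_instance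
  have hJv₁ : J v₁ = y := by
    rw [hJ, Scheme.Hom.comp_apply, hjv]
    rfl
  -- comparison of fibre ranks
  have hg_y : ∀ y' : Y, IsFinite (pullback.snd f (Y.fromSpecResidueField y')) →
      IsFinite (pullback.snd g (Y.fromSpecResidueField y')) ∧ fibRank g y' = fibRank f y' := by
    intro y' hfin
    haveI := hfin
    rw [hg]
    refine ⟨(fibRank_comp_le Q.ι f y').1, fibRank_comp_eq Q.ι f y' (fun w hw => ?_)⟩
    rw [Scheme.Opens.range_ι]
    exact hmemQ w y' hw hfin
  have hs_v : ∀ (v : V') (y' : Y), J v = y' →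
      IsFinite (pullback.snd f (Y.fromSpecResidueField y')) →
      IsFinite (pullback.snd s (V'.fromSpecResidueField v)) ∧ fibRank s v = fibRank f y' := by
    intro v y' hv hfin
    obtain ⟨h1, h2⟩ := hg_y y' hfin
    haveI := h1
    obtain ⟨h3, h4⟩ := fibRank_of_isPullback hP v y' hv
    exact ⟨h3, h4.trans h2⟩
  -- at `v₁`
  obtain ⟨hs1, hs1'⟩ := hs_v v₁ y hJv₁ hy
  have e1 : fibRank a v₁ = fibRank s v₁ := by
    haveI := hs1
    rw [ha]
    refine fibRank_comp_eq A.ι s v₁ (fun w hw => ?_)
    rw [Scheme.Opens.range_ι]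
    exact hA w hw
  -- a nearby point over the generic open
  obtain ⟨N, hNo, hv₁N, hN⟩ := (IsLocallyConstant.iff_exists_open _).mp
    (Scheme.Hom.isLocallyConstant_finrank a) v₁
  have hJN : IsOpen (J '' N) := J.isOpenMap N hNo
  obtain ⟨u, ⟨v₂, hv₂N, rfl⟩, hu⟩ :=
    nonempty_preirreducible_inter hJN U.isOpen ⟨_, v₁, hv₁N, rfl⟩ ⟨_, hηU⟩
  obtain ⟨hfu, hru⟩ := hU (J v₂) hu
  obtain ⟨hs2, hs2'⟩ := hs_v v₂ (J v₂) rfl hfu
  have e2 : fibRank a v₂ ≤ fibRank s v₂ := by
    haveI := hs2
    rw [ha]
    exact (fibRank_comp_le A.ι s v₂).2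
  haveI := hfu
  calc fibRank f y = fibRank s v₁ := hs1'.symm
    _ = fibRank a v₁ := e1.symm
    _ = a.finrank v₁ := fibRank_of_finite_flat a v₁
    _ = a.finrank v₂ := (hN v₂ hv₂N).symm
    _ = fibRank a v₂ := (fibRank_of_finite_flat a v₂).symm
    _ ≤ fibRank s v₂ := e2
    _ = fibRank f (J v₂) := hs2'
    _ = _ := (fibRank_eq_finrank f (J v₂)).trans hru

end Groth.Agent.H6.FibRk
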