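import Mathlib.AlgebraicGeometry.Morphisms.Proper
import Mathlib.AlgebraicGeometry.Properties

/-!
# Fibrations `O_Y ≅ f_* O_X` (helper6)
-/

universe u

open CategoryTheory AlgebraicGeometry

namespace Groth.Agent.H6.Fib

/-- A closed map of schemes with `O_Y → f_* O_X` injective on the complement of the image
is surjective. -/
theorem surjective_of_isIso_app {X Y : Scheme.{u}} (f : X ⟶ Y) (hcl : IsClosed (Set.range f))
    (hfib : ∀ V : Y.Opens, IsIso (f.app V)) : Function.Surjective f := by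
  let V : Y.Opens := ⟨(Set.range f)ᶜ, hcl.isOpen_compl⟩
  have hpre : f ⁻¹ᵁ V = ⊥ := by
    ext x
    simp [V]
  have hiso := hfib V
  have h1 : Subsingleton Γ(X, f ⁻¹ᵁ V) := by rw [hpre]; infer_instance
  have h2 : Subsingleton Γ(Y, V) :=
    (asIso (f.app V)).commRingCatIsoToRingEquiv.toEquiv.subsingleton
  intro y
  by_contra hy
  have : Nonempty V := ⟨⟨y, hy⟩⟩
  exact not_subsingleton Γ(Y, V) h2

theorem isIntegral_of_isIso_app {X Y : Scheme.{u}} (f : X ⟶ Y) (hs : Function.Surjective f)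
    (hfib : ∀ V : Y.Opens, IsIso (f.app V)) [IsIntegral X] : IsIntegral Y := by
  refine ⟨⟨f (Nonempty.some inferInstance)⟩, fun V hV => ?_⟩
  have hiso := hfib V
  obtain ⟨⟨y, hy⟩⟩ := hV
  obtain ⟨x, rfl⟩ := hs y
  haveI : Nonempty (f ⁻¹ᵁ V) := ⟨⟨x, hy⟩⟩
  exact (asIso (f.app V)).commRingCatIsoToRingEquiv.toMulEquiv.isDomain

end Groth.Agent.H6.Fib
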