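import Mathlib

/-! Modules that are finite over some Artinian algebra: closure properties. -/

set_option autoImplicit false
universe u
set_option linter.style.haveILetI false

namespace Groth.Agent.H6.FiltArt

/-- `N` is a finite module over some Artinian `A`-algebra. -/
def P (A : Type u) [CommRing A] (N : Type u) [AddCommGroup N] [Module A N] : Prop :=
  ∃ (B : Type u) (_ : CommRing B) (_ : Algebra A B) (_ : IsArtinianRing B)
    (_ : Module B N) (_ : IsScalarTower A B N), Module.Finite B N

variable {A : Type u} [CommRing A]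

theorem P_of_equiv {N N' : Type u} [AddCommGroup N] [Module A N] [AddCommGroup N'] [Module A N']
    (e : N ≃ₗ[A] N') (h : P A N') : P A N := by
  obtain ⟨B, i1, i2, i3, i4, i5, hfin⟩ := h
  letI : Module B N := e.toAddEquiv.module B
  have hsmul : ∀ (b : B) (x : N), b • x = e.symm (b • e x) := fun b x => rfl
  refine ⟨B, i1, i2, i3, inferInstance, ⟨fun a b x => ?_⟩, ?_⟩
  · rw [hsmul, hsmul, smul_assoc, map_smul]
  · exact Module.Finite.equiv (e.toAddEquiv.linearEquiv B).symm

theorem P_of_subsingleton (N : Type u) [AddCommGroup N] [Module A N] [Subsingleton N] :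
    P A N := by
  letI : Module PUnit.{u+1} N :=
    { smul := fun _ x => x
      one_smul := fun _ => rfl
      mul_smul := fun _ _ _ => rfl
      smul_zero := fun _ => rfl
      smul_add := fun _ _ _ => rfl
      add_smul := fun _ _ _ => Subsingleton.elim _ _
      zero_smul := fun _ => Subsingleton.elim _ _ }
  refine ⟨PUnit.{u+1}, inferInstance, inferInstance, inferInstance, inferInstance,
    ⟨fun a b x => Subsingleton.elim _ _⟩, ?_⟩
  exact Module.Finite.of_surjective (0 : PUnit.{u+1} →ₗ[PUnit.{u+1}] N)
    (fun x => ⟨0, Subsingleton.elim _ _⟩)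

theorem P_prod {N1 N2 : Type u} [AddCommGroup N1] [Module A N1] [AddCommGroup N2] [Module A N2]
    (h1 : P A N1) (h2 : P A N2) : P A (N1 × N2) := by
  obtain ⟨B1, _, _, _, _, _, hfin1⟩ := h1
  obtain ⟨B2, _, _, _, _, _, hfin2⟩ := h2
  letI m1 : Module (B1 × B2) N1 := Module.compHom N1 (RingHom.fst B1 B2)
  letI m2 : Module (B1 × B2) N2 := Module.compHom N2 (RingHom.snd B1 B2)
  have hs1 : ∀ (b : B1 × B2) (x : N1), b • x = b.1 • x := fun b x => rfl
  have hs2 : ∀ (b : B1 × B2) (x : N2), b • x = b.2 • x := fun b x => rfl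
  haveI t1 : IsScalarTower A (B1 × B2) N1 := ⟨fun a b x => by
    rw [hs1, hs1, Prod.smul_fst, smul_assoc]⟩
  haveI t2 : IsScalarTower A (B1 × B2) N2 := ⟨fun a b x => by
    rw [hs2, hs2, Prod.smul_snd, smul_assoc]⟩
  haveI f1 : Module.Finite (B1 × B2) N1 := by
    letI := (RingHom.fst B1 B2).toAlgebra
    haveI : IsScalarTower (B1 × B2) B1 N1 := ⟨fun b c x => by
      rw [hs1, Algebra.smul_def, mul_smul]; rfl⟩
    haveI : Module.Finite (B1 × B2) B1 :=
      Module.Finite.of_surjective (Algebra.linearMap (B1 × B2) B1) Prod.fst_surjective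
    exact Module.Finite.trans B1 N1
  haveI f2 : Module.Finite (B1 × B2) N2 := by
    letI := (RingHom.snd B1 B2).toAlgebra
    haveI : IsScalarTower (B1 × B2) B2 N2 := ⟨fun b c x => by
      rw [hs2, Algebra.smul_def, mul_smul]; rfl⟩
    haveI : Module.Finite (B1 × B2) B2 :=
      Module.Finite.of_surjective (Algebra.linearMap (B1 × B2) B2) Prod.snd_surjective
    exact Module.Finite.trans B2 N2
  exact ⟨B1 × B2, inferInstance, inferInstance, inferInstance, inferInstance, inferInstance,
    inferInstance⟩

/-- sup of two disjoint submodules is their product -/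
noncomputable def supEquivProd {M : Type u} [AddCommGroup M] [Module A M] (p q : Submodule A M)
    (h : Disjoint p q) : (p × q) ≃ₗ[A] ↥(p ⊔ q) :=
  (LinearEquiv.ofInjective (LinearMap.coprod p.subtype q.subtype) (by
    rw [← LinearMap.ker_eq_bot, LinearMap.ker_coprod_of_disjoint_range]
    · rw [Submodule.ker_subtype, Submodule.ker_subtype]
      exact Submodule.prod_bot
    · rwa [Submodule.range_subtype, Submodule.range_subtype])).trans
  (LinearEquiv.ofEq _ _ (by
    rw [LinearMap.range_coprod, Submodule.range_subtype, Submodule.range_subtype]))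

theorem P_sup {M : Type u} [AddCommGroup M] [Module A M] (p q : Submodule A M)
    (h : Disjoint p q) (hp : P A p) (hq : P A q) : P A ↥(p ⊔ q) :=
  P_of_equiv (supEquivProd p q h).symm (P_prod hp hq)

/-- finite independent sups -/
theorem P_biSup {M : Type u} [AddCommGroup M] [Module A M] {κ : Type u} (T : κ → Submodule A M)
    (hind : iSupIndep T) (hT : ∀ k, P A (T k)) (F : Finset κ) : P A ↥(⨆ k ∈ F, T k) := by
  classical
  induction F using Finset.induction_on with
  | empty =>
    have : (⨆ k ∈ (∅ : Finset κ), T k) = ⊥ := by simp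
    rw [this]
    exact P_of_subsingleton _
  | insert a F ha ih =>
    rw [Finset.iSup_insert]
    refine P_sup _ _ ?_ (hT a) ih
    refine (hind a).mono_right ?_
    refine iSup₂_le fun k hk => ?_
    exact le_iSup₂_of_le k (fun h => ha (h ▸ hk)) le_rfl

end Groth.Agent.H6.FiltArt
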