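import Mathlib
import Groth.Agent.Lib.Helper6.FiltArt1
import Groth.Agent.Lib.Helper6.BCInj2

/-! The torsion pieces `E(A/p)[p^(m+1)]` are finite over an Artinian `A`-algebra. -/

set_option autoImplicit false
universe u
set_option linter.style.haveILetI false
open IsLocalRing InjHull

namespace Groth.Agent.H6.FiltArt

section Base

variable {A : Type u} [CommRing A] [IsNoetherianRing A] (p : Ideal A) [hp : p.IsPrime]
  {E : Type u} [AddCommGroup E] [Module A E] {f : (A ⧸ p) →ₗ[A] E}

include hp in
theorem P_torsion (hf : IsInjectiveHull f) (m : ℕ) :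
    P A (Submodule.torsionBySet A E ((p ^ (m + 1) : Ideal A) : Set A)) := by
  set b : Ideal A := p ^ (m + 1) with hb
  have hbp : b ≤ p := Ideal.pow_le_self (Nat.succ_ne_zero m)
  -- `A ⧸ p` as a module over `A ⧸ b`
  have htors : Module.IsTorsionBySet A (A ⧸ p) (b : Set A) := by
    intro x a
    obtain ⟨r, rfl⟩ := Ideal.Quotient.mk_surjective x
    change (a : A) • Ideal.Quotient.mk p r = 0
    rw [Algebra.smul_def]
    change Ideal.Quotient.mk p (a : A) * _ = 0
    rw [Ideal.Quotient.eq_zero_iff_mem.mpr (hbp a.2), zero_mul]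
  letI : Module (A ⧸ b) (A ⧸ p) := htors.module
  haveI : IsScalarTower A (A ⧸ b) (A ⧸ p) := htors.isScalarTower
  obtain ⟨g, hg, -⟩ := IH.exists_hull_torsionBySet b hf
  -- the prime `p̄`
  set pbar : Ideal (A ⧸ b) := p.map (Ideal.Quotient.mk b) with hpbar
  have hpow : pbar ^ (m + 1) = ⊥ := by
    rw [hpbar, ← Ideal.map_pow, ← hb, Ideal.map_quotient_self]
  haveI hpb : pbar.IsPrime := by
    apply Ideal.map_isPrime_of_surjective Ideal.Quotient.mk_surjective
    rw [Ideal.mk_ker]
    exact hbp
  -- `(A/b)/p̄ ≃ A/p`, linearly over `A/b`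
  let e0 := DoubleQuot.quotQuotEquivQuotOfLE hbp
  let e : ((A ⧸ b) ⧸ pbar) ≃ₗ[A ⧸ b] (A ⧸ p) :=
    { e0.toAddEquiv with
      map_smul' := by
        intro c x
        obtain ⟨r, rfl⟩ := Ideal.Quotient.mk_surjective c
        change e0 (Ideal.Quotient.mk b r • x) = Ideal.Quotient.mk b r • e0 x
        have h1 : Ideal.Quotient.mk b r • x =
            Ideal.Quotient.mk pbar (Ideal.Quotient.mk b r) * x := by
          rw [Algebra.smul_def]; rfl
        have h2 : Ideal.Quotient.mk b r • e0 x = Ideal.Quotient.mk p r * e0 x := by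
          rw [IH.mk_smul_eq b r (e0 x), Algebra.smul_def]; rfl
        rw [h1, h2, map_mul]
        rfl }
  have hg2 := IH.hull_comp_equiv hg e
  -- localize at `p̄`
  obtain ⟨g3, hg3⟩ := IH.exists_hull_localized pbar.primeCompl pbar hg2
  obtain ⟨g4, hg4⟩ := BCInj.hull_cast _ _ (Localization.AtPrime.map_eq_maximalIdeal (I := pbar))
    g3 hg3
  have hbij := IH.mkLinearMap_bijective_of_hull pbar.primeCompl pbar hg2
    (Set.disjoint_left.mpr fun x hx hx' => hx' hx)
  haveI hart : IsArtinian (Localization.AtPrime pbar)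
      (LocalizedModule pbar.primeCompl (Submodule.torsionBySet A E (b : Set A))) :=
    IH.isArtinian_of_hull (maximalIdeal (Localization.AtPrime pbar)) hg4
  haveI hartR : IsArtinianRing (Localization.AtPrime pbar) := by
    rw [isArtinianRing_iff_isNilpotent_maximalIdeal]
    refine ⟨m + 1, ?_⟩
    rw [← Localization.AtPrime.map_eq_maximalIdeal (I := pbar), ← Ideal.map_pow, hpow,
      Ideal.map_bot, Ideal.zero_eq_bot]
  haveI hfin : Module.Finite (Localization.AtPrime pbar)
      (LocalizedModule pbar.primeCompl (Submodule.torsionBySet A E (b : Set A))) :=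
    ((IsArtinianRing.tfae (R := Localization.AtPrime pbar)
      (M := LocalizedModule pbar.primeCompl (Submodule.torsionBySet A E (b : Set A)))).out 0 2).mpr
      hart
  let eT : (Submodule.torsionBySet A E (b : Set A)) ≃ₗ[A]
      LocalizedModule pbar.primeCompl (Submodule.torsionBySet A E (b : Set A)) :=
    LinearEquiv.ofBijective
      ((LocalizedModule.mkLinearMap pbar.primeCompl
        (Submodule.torsionBySet A E (b : Set A))).restrictScalars A) hbij
  exact P_of_equiv eT ⟨Localization.AtPrime pbar, inferInstance, inferInstance, hartR,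
    inferInstance, inferInstance, hfin⟩

end Base

end Groth.Agent.H6.FiltArt
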