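import Mathlib

/-! A directed union of submodules is a filtered colimit in `ModuleCat`. -/

set_option autoImplicit false
universe u
set_option linter.style.haveILetI false
open CategoryTheory CategoryTheory.Limits

namespace Groth.Agent.H6.FiltArt

variable {A : Type u} [CommRing A] {J : Type u} [AddCommGroup J] [Module A J]
  {ι : Type u} [SemilatticeSup ι] [Nonempty ι] (N : ι → Submodule A J) (hmono : Monotone N)

/-- the diagram of submodules -/
noncomputable def diag : ι ⥤ ModuleCat.{u} A where
  obj i := ModuleCat.of A (N i)
  map {i j} h := ModuleCat.ofHom (Submodule.inclusion (hmono (leOfHom h)))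
  map_id i := by
    ext x
    rfl
  map_comp f g := by
    ext x
    rfl

/-- the cocone of inclusions -/
noncomputable def cocone : Cocone (diag N hmono) where
  pt := ModuleCat.of A J
  ι :=
    { app := fun i => ModuleCat.ofHom (N i).subtype
      naturality := by
        intro i j h
        ext x
        rfl }

noncomputable def isColimit (hcover : ∀ x : J, ∃ i, x ∈ N i) : IsColimit (cocone N hmono) := by
  apply isColimitOfReflects (forget (ModuleCat.{u} A))
  apply Types.FilteredColimit.isColimitOf
  · intro x
    obtain ⟨i, hi⟩ := hcover x
    exact ⟨i, (⟨x, hi⟩ : N i), rfl⟩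
  · intro i j xi xj h
    refine ⟨i ⊔ j, homOfLE le_sup_left, homOfLE le_sup_right, ?_⟩
    exact Subtype.ext h

end Groth.Agent.H6.FiltArt
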