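import Mathlib
import Groth.Agent.Lib.Helper6.FiltArt2
import Groth.Agent.Lib.Helper6.FiltArt3

/-! Injective modules over a Noetherian ring are filtered colimits of modules finite over Artinian
algebras. -/

set_option autoImplicit false
universe u
set_option linter.style.haveILetI false
open CategoryTheory CategoryTheory.Limits IsLocalRing InjHull

namespace Groth.Agent.H6.FiltArt

section Tors

variable {A : Type u} [CommRing A] [IsNoetherianRing A] (p : Ideal A) [hp : p.IsPrime]
  {E : Type u} [AddCommGroup E] [Module A E] {f : (A ⧸ p) →ₗ[A] E}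

include hp in
theorem exists_mem_torsion (hf : IsInjectiveHull f) (y : E) :
    ∃ n : ℕ, y ∈ Submodule.torsionBySet A E ((p ^ (n + 1) : Ideal A) : Set A) := by
  let ann : Ideal A := LinearMap.ker (LinearMap.toSpanSingleton A E y)
  have hle : p ≤ ann.radical := by
    intro a ha
    obtain ⟨k, hk⟩ := BCInj.exists_pow_smul_eq_zero p hf ha y
    exact ⟨k, hk⟩
  obtain ⟨n, hn⟩ := Ideal.exists_pow_le_of_le_radical_of_fg hle (IsNoetherian.noetherian p)
  refine ⟨n, ?_⟩
  rw [Submodule.mem_torsionBySet_iff]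
  rintro ⟨a, ha⟩
  have h1 : a ∈ ann := hn (Ideal.pow_le_pow_right (Nat.le_succ n) ha)
  exact h1

end Tors

theorem main (A : Type u) [CommRing A] [IsNoetherianRing A]
    (J : Type u) [AddCommGroup J] [Module A J] [Module.Injective A J] :
    ∃ (ι : Type u) (_ : SmallCategory ι) (_ : IsFiltered ι) (D : ι ⥤ ModuleCat.{u} A)
      (c : Cocone D) (_ : IsColimit c), Nonempty (c.pt ≅ ModuleCat.of A J) ∧
      ∀ i : ι, ∃ (B : Type u) (_ : CommRing B) (_ : Algebra A B) (_ : IsArtinianRing B)
        (_ : Module B (D.obj i)) (_ : IsScalarTower A B (D.obj i)), Module.Finite B (D.obj i) := by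
  classical
  obtain ⟨κ, E, hint, hE⟩ := IH.exists_internal_decomposition (R := A) (I := J)
  have hch : ∀ k, ∃ (p : Ideal A) (_ : p.IsPrime) (f : (A ⧸ p) →ₗ[A] E k), IsInjectiveHull f := by
    intro k
    haveI := (hE k).2
    exact IH.exists_hull_quot_of_indecomposable (hE k).1
  choose p hp f hf using hch
  let T : ℕ → κ → Submodule A J := fun n k =>
    (Submodule.torsionBySet A (E k) ((p k ^ (n + 1) : Ideal A) : Set A)).map (E k).subtype
  have hTP : ∀ n k, P A (T n k) := fun n k =>
    P_of_equiv (Submodule.equivMapOfInjective (E k).subtype (Submodule.injective_subtype _) _).symm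
      (@P_torsion A _ _ (p k) (hp k) _ _ _ _ (hf k) n)
  have hTle : ∀ n k, T n k ≤ E k := fun n k => Submodule.map_subtype_le _ _
  have hind : ∀ n, iSupIndep (T n) := fun n => hint.submodule_iSupIndep.mono (hTle n)
  have hTmono : ∀ k {n n' : ℕ}, n ≤ n' → T n k ≤ T n' k := by
    intro k n n' hnn
    apply Submodule.map_mono
    apply Submodule.torsionBySet_le_torsionBySet_of_subset
    intro a ha
    exact Ideal.pow_le_pow_right (Nat.succ_le_succ hnn) ha
  let N : Finset κ × ℕ → Submodule A J := fun i => ⨆ k ∈ i.1, T i.2 k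
  have hmono : Monotone N := by
    rintro ⟨F, n⟩ ⟨F', n'⟩ ⟨hF, hn⟩
    refine iSup₂_le fun k hk => ?_
    exact le_iSup₂_of_le k (hF hk) (hTmono k hn)
  have hcover : ∀ x : J, ∃ i, x ∈ N i := by
    intro x
    obtain ⟨d, rfl⟩ := hint.2 x
    have hex : ∀ k, ∃ n : ℕ, (d k : E k) ∈
        Submodule.torsionBySet A (E k) ((p k ^ (n + 1) : Ideal A) : Set A) := fun k =>
      @exists_mem_torsion A _ _ (p k) (hp k) _ _ _ _ (hf k) (d k)
    choose nf hnf using hex
    refine ⟨(d.support, d.support.sup nf), ?_⟩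
    rw [DirectSum.coeAddMonoidHom_eq_dfinsuppSum]
    apply Submodule.sum_mem
    intro k hk
    refine Submodule.mem_iSup_of_mem k (Submodule.mem_iSup_of_mem hk ?_)
    apply hTmono k (Finset.le_sup hk)
    exact ⟨d k, hnf k, rfl⟩
  haveI : Nonempty (Finset κ × ℕ) := ⟨(∅, 0)⟩
  refine ⟨Finset κ × ℕ, Preorder.smallCategory _, isFiltered_of_semilatticeSup_nonempty _,
    diag N hmono, cocone N hmono,
    isColimit N hmono hcover, ⟨Iso.refl _⟩, fun i => ?_⟩
  exact P_biSup (T i.2) (hind i.2) (hTP i.2) i.1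

end Groth.Agent.H6.FiltArt
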