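import Groth.Agent.Lib.Helper6.KI2

/-! # Finite cohomological dimension: vanishing of `Hom(ℤ_U[0], K)` for `K` in `D^{≤ b}`, `b ≪ 0` -/

universe w u
open CategoryTheory Limits Opposite Abelian

namespace Groth.Agent.H6.FinCd

section Abs

variable {𝒜 : Type*} [Category 𝒜] [Abelian 𝒜] [HasExt.{w} 𝒜] (G : 𝒜) (K : CochainComplex 𝒜 ℤ)

/-- the short complex `0 → Zⁱ → Kⁱ → Zⁱ⁺¹ → 0` -/
noncomputable def cyclesSC (i : ℤ) : ShortComplex 𝒜 :=
  ShortComplex.mk (K.iCycles i) (K.toCycles i (i + 1)) (by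
    rw [← cancel_mono (K.iCycles (i + 1)), Category.assoc, K.toCycles_i, K.iCycles_d, zero_comp])

theorem cyclesSC_shortExact (i : ℤ) (hex : K.ExactAt (i + 1)) : (cyclesSC K i).ShortExact where
  exact := ShortComplex.exact_of_f_is_kernel _
    (isKernelOfComp (K.iCycles (i + 1)) (K.d i (i + 1)) (K.cyclesIsKernel i (i + 1) (by simp)) _
      (K.toCycles_i i (i + 1)))
  mono_f := inferInstanceAs (Mono (K.iCycles i))
  epi_g := Preadditive.epi_of_isZero_cokernel' _ (K.homologyIsCokernel i (i + 1) (by simp))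
    ((HomologicalComplex.exactAt_iff_isZero_homology _ _).1 hex)

/-- dimension shifting along the cycles of a complex of injectives -/
lemma ext_cycles_eq_zero (hinj : ∀ n, Injective (K.X n)) (b : ℤ)
    (hex : ∀ n, b < n → K.ExactAt n) (d : ℕ)
    (hG : ∀ (F : 𝒜) (p : ℕ), d < p → ∀ x : Ext G F p, x = 0) :
    ∀ (j : ℕ) (n : ℤ) (k : ℕ), b < n - j → 1 ≤ k → d < k + j →
      ∀ x : Ext G (K.cycles n) k, x = 0 := by
  intro j
  induction j with
  | zero =>
    intro n k _ _ hd x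
    exact hG _ k (by omega) x
  | succ j ih =>
    intro n k hn hk hd x
    have hS : (cyclesSC K (n - 1)).ShortExact :=
      cyclesSC_shortExact K (n - 1) (hex _ (by push_cast at hn; omega))
    have e : n - 1 + 1 = n := by omega
    -- transport along the equality of degrees
    obtain ⟨x', rfl⟩ : ∃ x' : Ext G (K.cycles (n - 1 + 1)) k,
        x = e ▸ x' := ⟨e.symm ▸ x, by
      clear hS hn
      generalize n - 1 + 1 = m at e
      subst e
      rfl⟩
    suffices x' = 0 by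
      rw [this]
      clear hS hn this
      generalize n - 1 + 1 = m at e
      subst e
      rfl
    have h0 : x'.comp hS.extClass rfl = 0 :=
      ih (n - 1) (k + 1) (by push_cast at hn ⊢; omega) (by omega) (by omega) _
    obtain ⟨x₂, hx₂⟩ := Ext.covariant_sequence_exact₃ G hS x' rfl h0
    haveI : Injective (cyclesSC K (n - 1)).X₂ := hinj (n - 1)
    obtain ⟨k', rfl⟩ := Nat.exists_eq_succ_of_ne_zero (by omega : k ≠ 0)
    have : x₂ = 0 := Ext.eq_zero_of_injective x₂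
    rw [← hx₂, this, Ext.zero_comp]
    rfl

lemma exists_lift (hinj : ∀ n, Injective (K.X n)) (b : ℤ)
    (hex : ∀ n, b < n → K.ExactAt n) (d : ℕ)
    (hG : ∀ (F : 𝒜) (p : ℕ), d < p → ∀ x : Ext G F p, x = 0)
    (n m : ℤ) (hnm : n + 1 = m) (hn : b < n - d)
    (φ₀ : G ⟶ K.X m) (hφ₀ : ∀ l, φ₀ ≫ K.d m l = 0) :
    ∃ ψ : G ⟶ K.X n, ψ ≫ K.d n m = φ₀ := by
  subst hnm
  have hS : (cyclesSC K n).ShortExact :=
    cyclesSC_shortExact K n (hex _ (by have : (0 : ℤ) ≤ d := Int.natCast_nonneg d; omega))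
  let φ : G ⟶ K.cycles (n + 1) := K.liftCycles φ₀ (n + 1 + 1) (by simp) (hφ₀ _)
  have h0 : (Ext.mk₀ φ).comp hS.extClass (zero_add 1) = 0 :=
    ext_cycles_eq_zero G K hinj b hex d hG d n 1 hn le_rfl (by omega) _
  obtain ⟨x₂, hx₂⟩ := Ext.covariant_sequence_exact₃ G hS (Ext.mk₀ φ) (zero_add 1) h0
  have hx₂' : ∃ ψ : G ⟶ K.X n, Ext.mk₀ (ψ ≫ K.toCycles n (n + 1)) = Ext.mk₀ φ := by
    obtain ⟨ψ, rfl⟩ := (Ext.mk₀_bijective G (cyclesSC K n).X₂).2 x₂
    rw [Ext.mk₀_comp_mk₀] at hx₂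
    exact ⟨ψ, hx₂⟩
  obtain ⟨ψ, hψ⟩ := hx₂'
  refine ⟨ψ, ?_⟩
  have h1 : ψ ≫ K.toCycles n (n + 1) = φ := (Ext.mk₀_bijective _ _).1 hψ
  have h2 : (ψ ≫ K.toCycles n (n + 1)) ≫ K.iCycles (n + 1) = φ₀ := by
    rw [h1]
    exact K.liftCycles_i _ _ _ _
  rw [Category.assoc, K.toCycles_i n (n + 1)] at h2
  exact h2

end Abs

end Groth.Agent.H6.FinCd
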