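import Groth.Agent.Lib.Helper6.Cpt4

/-! # Splitting a family of complexes along a family of epimorphisms, compatibly with coproducts -/

universe w' w v u
open CategoryTheory Limits Pretriangulated DerivedCategory

namespace Groth.Agent.H6.FinCd

open Groth.Agent.H6.Cpt

variable {A : Type u} [Category.{v} A] [Abelian A]

section Family

variable {I : Type w} {K T : I → CochainComplex A ℤ} (p : ∀ i, K i ⟶ T i) [∀ i, Epi (p i)]

noncomputable def gNat : Discrete.functor K ⟶ Discrete.functor T :=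
  Discrete.natTrans (fun ⟨i⟩ => p i)

instance epi_gNat : Epi (gNat p) := by
  haveI : ∀ j, Epi ((gNat p).app j) := fun ⟨i⟩ => by
    dsimp [gNat]
    infer_instance
  exact NatTrans.epi_of_epi_app _

noncomputable def gses₀ : ShortComplex (Discrete I ⥤ CochainComplex A ℤ) :=
  ShortComplex.mk (kernel.ι (gNat p)) (gNat p) (kernel.condition _)

lemma gses₀_shortExact : (gses₀ p).ShortExact :=
  { exact := ShortComplex.exact_kernel _
    mono_f := by dsimp [gses₀]; infer_instance
    epi_g := by dsimp [gses₀]; infer_instance }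

noncomputable def gsesAt (i : I) : ShortComplex (CochainComplex A ℤ) :=
  (gses₀ p).map ((evaluation (Discrete I) (CochainComplex A ℤ)).obj ⟨i⟩)

lemma gsesAt_shortExact (i : I) : (gsesAt p i).ShortExact :=
  (gses₀_shortExact p).map_of_exact _

lemma isZero_gsesAt_X₁ (i : I) (m : ℤ) (hm : Mono ((p i).f m)) :
    IsZero ((gsesAt p i).X₁.X m) := by
  have h := (gsesAt_shortExact p i).map_of_exact
    (HomologicalComplex.eval A (ComplexShape.up ℤ) m)
  have hmono : Mono ((gsesAt p i).f.f m) := h.mono_f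
  apply IsZero.of_mono_eq_zero ((gsesAt p i).f.f m)
  have hz : (gsesAt p i).f.f m ≫ (gsesAt p i).g.f m = 0 := by
    rw [← HomologicalComplex.comp_f, (gsesAt p i).zero]
    rfl
  haveI : Mono ((gsesAt p i).g.f m) := hm
  rw [← cancel_mono ((gsesAt p i).g.f m), hz, zero_comp]

variable [HasColimitsOfShape (Discrete I) A] [HasExactColimitsOfShape (Discrete I) A]

noncomputable def gsesColim : ShortComplex (CochainComplex A ℤ) := (gses₀ p).map colim

lemma gsesColim_shortExact : (gsesColim p).ShortExact :=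
  (gses₀_shortExact p).map_of_exact _

noncomputable def gsesι (i : I) : gsesAt p i ⟶ gsesColim p where
  τ₁ := colimit.ι (gses₀ p).X₁ (Discrete.mk i)
  τ₂ := colimit.ι (gses₀ p).X₂ (Discrete.mk i)
  τ₃ := colimit.ι (gses₀ p).X₃ (Discrete.mk i)
  comm₁₂ := ι_colimMap (gses₀ p).f (Discrete.mk i)
  comm₂₃ := ι_colimMap (gses₀ p).g (Discrete.mk i)

end Family

section Step

variable [HasDerivedCategory.{w'} A] {I : Type w} [HasColimitsOfShape (Discrete I) A]
  [HasExactColimitsOfShape (Discrete I) A]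

theorem surjF_gstep (Z : DerivedCategory A) {K T : I → CochainComplex A ℤ}
    (p : ∀ i, K i ⟶ T i) [∀ i, Epi (p i)]
    (hS : ∀ (c : Cofan (fun i => (gsesAt p i).X₁)), IsColimit c → SurjF Z (Qc c))
    (hT : ∀ (c : Cofan T), IsColimit c → SurjF Z (Qc c))
    (c : Cofan K) (hc : IsColimit c) : SurjF Z (Qc c) := by
  have hc₂ : IsColimit (colimCofan (gses₀ p).X₂) := isColimitColimCofan _
  refine surjF_Qc_of_isColimit Z hc₂ hc ?_
  have h₁ := hS (colimCofan (gses₀ p).X₁) (isColimitColimCofan _)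
  have h₃ := hT (colimCofan (gses₀ p).X₃) (isColimitColimCofan _)
  have hD₁ : IsColimit (Qc (colimCofan (gses₀ p).X₁)) :=
    Groth.Agent.H2.DCoprod.isColimitMapCofan (isColimitColimCofan _)
  obtain ⟨r, hr, hr'⟩ := exists_retractions hD₁
  have h₁' : InjF Z (Cofan.mk ((Qc (colimCofan (gses₀ p).X₁)).pt⟦(1 : ℤ)⟧)
      (fun i => ((Qc (colimCofan (gses₀ p).X₁)).inj i)⟦(1 : ℤ)⟧')) := by
    refine injF_of_retractions Z _ (fun j => (r j)⟦(1 : ℤ)⟧') ?_ ?_
    · intro j
      change ((Qc (colimCofan (gses₀ p).X₁)).inj j)⟦(1 : ℤ)⟧' ≫ (r j)⟦(1 : ℤ)⟧' = 𝟙 _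
      rw [← Functor.map_comp, hr, CategoryTheory.Functor.map_id]
    · intro i j hij
      change ((Qc (colimCofan (gses₀ p).X₁)).inj i)⟦(1 : ℤ)⟧' ≫ (r j)⟦(1 : ℤ)⟧' = 0
      rw [← Functor.map_comp, hr' i j hij, Functor.map_zero]
  exact surjF_of_triangles Z (Qc (colimCofan (gses₀ p).X₁))
    (Qc (colimCofan (gses₀ p).X₂)) (Qc (colimCofan (gses₀ p).X₃))
    (fun i => Q.map (gsesAt p i).f) (fun i => Q.map (gsesAt p i).g)
    (fun i => triangleOfSESδ (gsesAt_shortExact p i))
    (fun i => triangleOfSES_distinguished (gsesAt_shortExact p i))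
    (Q.map (gsesColim p).f) (Q.map (gsesColim p).g)
    (triangleOfSESδ (gsesColim_shortExact p))
    (triangleOfSES_distinguished (gsesColim_shortExact p))
    (fun i => by
      change Q.map (gsesι p i).τ₁ ≫ Q.map (gsesColim p).f =
        Q.map (gsesAt p i).f ≫ Q.map (gsesι p i).τ₂
      rw [← Q.map_comp, ← Q.map_comp, (gsesι p i).comm₁₂])
    (fun i => by
      change Q.map (gsesι p i).τ₂ ≫ Q.map (gsesColim p).g =
        Q.map (gsesAt p i).g ≫ Q.map (gsesι p i).τ₃
      rw [← Q.map_comp, ← Q.map_comp, (gsesι p i).comm₂₃])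
    (fun i => (triangleOfSESδ_naturality (gsesAt_shortExact p i)
      (gsesColim_shortExact p) (gsesι p i)).symm)
    h₁ h₃ h₁'

end Step

end Groth.Agent.H6.FinCd
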