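import Groth.Agent.Lib.Helper6.KI4
import Groth.Agent.Lib.Helper6.KInjG6
import Groth.Agent.Lib.Helper6.BrownG1
import Groth.Agent.Lib.Helper7.KInj
import Groth.Prelude.Def_CohPull

universe u
open CategoryTheory Limits Opposite TopologicalSpace

namespace Groth.Agent.H6.NegVan

open Groth.Agent.H6.KI DerivedCategory

section Site

variable {C : Type u} [SmallCategory C] {J : GrothendieckTopology C}

theorem isSheaf_homology_zero (M : CochainComplex (Sheaf J AddCommGrpCat.{u}) ℤ)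
    [M.IsStrictlyGE 0] : Presheaf.IsSheaf J ((psh M).homology 0) := by
  have hd : (psh M).d (-1) 0 = 0 := by
    have h1 : IsZero (M.X (-1)) := M.isZero_of_isStrictlyGE 0 (-1) (by omega)
    have h0 : M.d (-1) 0 = 0 := h1.eq_of_src _ _
    change (sheafToPresheaf J _).map (M.d (-1) 0) = 0
    rw [h0]
    simp
  let e1 : (psh M).cycles 0 ≅ (psh M).homology 0 := (psh M).isoHomologyπ (-1) 0 (by simp) hd
  let c : KernelFork (M.d 0 1) := KernelFork.ofι (kernel.ι (M.d 0 1)) (kernel.condition _)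
  have hc : IsLimit c := kernelIsKernel _
  have hc' := KernelFork.mapIsLimit c hc (sheafToPresheaf J AddCommGrpCat.{u})
  have hk := (psh M).cyclesIsKernel 0 1 (by simp)
  let e2 : (psh M).cycles 0 ≅ (sheafToPresheaf J _).obj (kernel (M.d 0 1)) :=
    IsLimit.conePointUniqueUpToIso hk hc'
  exact (Presheaf.isSheaf_of_iso_iff (e2.symm ≪≫ e1)).mp (kernel (M.d 0 1)).property

theorem subsingleton_homology_neg (M : CochainComplex (Sheaf J AddCommGrpCat.{u}) ℤ)
    [M.IsStrictlyGE 0] (p : ℤ) (hp : p < 0) (U : C) :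
    Subsingleton (((psh M).homology p).obj (op U)) := by
  have h1 : IsZero (M.X p) := M.isZero_of_isStrictlyGE 0 p hp
  have h2 : IsZero ((psh M).X p) := (sheafToPresheaf J AddCommGrpCat.{u}).map_isZero h1
  have h3 : IsZero ((psh M).homology p) :=
    ((psh M).exactAt_iff_isZero_homology p).mp (ShortComplex.exact_of_isZero_X₂ _ h2)
  have h4 : IsZero (((psh M).homology p).obj (op U)) :=
    ((evaluation Cᵒᵖ AddCommGrpCat.{u}).obj (op U)).map_isZero h3
  exact AddCommGrpCat.subsingleton_of_isZero h4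

end Site

section Top

variable {Y : TopCat.{u}}

theorem eq_zero_of_basis (B : Set (Opens Y)) (hB : Opens.IsBasis B)
    (P : (Opens Y)ᵒᵖ ⥤ AddCommGrpCat.{u}) (hP : ∀ V ∈ B, Subsingleton (P.obj (op V)))
    (G : CohTop.Ab Y) (φ : P ⟶ G.obj) : φ = 0 := by
  ext ⟨V⟩ s
  change (φ.app (op V)).hom s = 0
  let ι := {W : Opens Y // W ∈ B ∧ W ≤ V}
  refine TopCat.Sheaf.eq_of_locally_eq' (F := G) (fun i : ι => i.1) V (fun i => homOfLE i.2.2) ?_ _ _ ?_
  · intro x hx
    obtain ⟨U', hU'B, hxU', hU'U⟩ := Opens.isBasis_iff_nbhd.mp hB hx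
    exact Opens.mem_iSup.mpr ⟨⟨U', hU'B, hU'U⟩, hxU'⟩
  · intro i
    have h1 := congrArg (fun t => t.hom s) (φ.naturality (homOfLE i.2.2).op)
    haveI := hP i.1 i.2.1
    have h2 : P.map (homOfLE i.2.2).op s = 0 := Subsingleton.elim _ _
    simp only [AddCommGrpCat.hom_comp, AddMonoidHom.coe_comp, Function.comp_apply] at h1
    rw [h2, map_zero] at h1
    rw [map_zero]
    exact h1.symm

theorem isZero_sheafify_of_basis (B : Set (Opens Y)) (hB : Opens.IsBasis B)
    (P : (Opens Y)ᵒᵖ ⥤ AddCommGrpCat.{u}) (hP : ∀ V ∈ B, Subsingleton (P.obj (op V))) :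
    IsZero ((presheafToSheaf (Opens.grothendieckTopology Y) AddCommGrpCat.{u}).obj P) := by
  rw [IsZero.iff_id_eq_zero]
  apply ((sheafificationAdjunction (Opens.grothendieckTopology Y) AddCommGrpCat.{u}).homEquiv P _).injective
  rw [eq_zero_of_basis B hB P hP _ ((sheafificationAdjunction (Opens.grothendieckTopology Y) AddCommGrpCat.{u}).homEquiv P _ (𝟙 _))]
  exact (eq_zero_of_basis B hB P hP _ _).symm

end Top

section Main

variable {X Y : TopCat.{u}} (f : X ⟶ Y)

theorem exists_kinj [HasDerivedCategory.{u} (CohTop.Ab X)] (K : DerivedCategory (CohTop.Ab X)) :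
    ∃ I : CochainComplex (CohTop.Ab X) ℤ, I.IsKInjective ∧ Nonempty (K ≅ Q.obj I) := by
  obtain ⟨I, g, hI, hg, -, -⟩ := KInjG.main (Q.objPreimage K)
  haveI := hg
  exact ⟨I, hI, ⟨(Q.objObjPreimageIso K).symm ≪≫ asIso (Q.map g)⟩⟩

theorem main [HasDerivedCategory.{u} (CohTop.Ab X)] (B : Set (Opens Y)) (hB : Opens.IsBasis B)
    (K : DerivedCategory (CohTop.Ab X))
    (h : ∀ V ∈ B, ∀ i : ℤ, i < 0 → Subsingleton (CohCx.HDU K i ((Opens.map f).obj V))) :
    (∀ (V : Opens Y) (i : ℤ), i < 0 → Subsingleton (CohCx.HDU K i ((Opens.map f).obj V))) ∧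
    Presheaf.IsSheaf (Opens.grothendieckTopology Y) ((Opens.map f).op ⋙ CohCx.HDUPresheaf K 0) := by
  letI : HasDerivedCategory.{u} (CohTop.Ab Y) := BrownG.hasDerivedCategorySmall _
  obtain ⟨I, hI, ⟨eK⟩⟩ := exists_kinj K
  haveI := hI
  let L : CochainComplex (CohTop.Ab Y) ℤ :=
    ((CohTop.push f).mapHomologicalComplex (ComplexShape.up ℤ)).obj I
  haveI : PreservesFiniteLimits (CohPull.inv f) := CohPull.inv_preservesFiniteLimits f
  haveI : (CohPull.inv f).Additive := CohPull.inv_additive f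
  haveI hL : CochainComplex.IsKInjective L := H7.KInj.isKInjective_map (CohPull.invPushAdj f) I
  have key : ∀ p : ℤ, Nonempty ((Opens.map f).op ⋙ CohCx.HDUPresheaf K p ≅
      CohCx.HDUPresheaf (Q.obj L) p) := by
    intro p
    obtain ⟨e2⟩ := nonempty_iso_shift I p
    obtain ⟨e3⟩ := nonempty_homology_push_iso f I p
    obtain ⟨e4⟩ := nonempty_iso_shift L p
    exact ⟨Functor.isoWhiskerLeft _ (hduIso eK p ≪≫ e2.symm) ≪≫ e3.symm ≪≫ e4⟩
  haveI hGE : (Q.obj L).IsGE 0 := by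
    rw [isGE_Q_obj_iff, CochainComplex.isGE_iff]
    intro i hi
    rw [HomologicalComplex.exactAt_iff_isZero_homology]
    obtain ⟨e5⟩ := nonempty_homology_iso_sheafify L i
    obtain ⟨e6⟩ := key i
    obtain ⟨e4⟩ := nonempty_iso_shift L i
    refine IsZero.of_iso ?_ (e5 ≪≫ (presheafToSheaf _ _).mapIso (e4 ≪≫ e6.symm))
    apply isZero_sheafify_of_basis B hB
    intro V hV
    exact h V hV i hi
  obtain ⟨L'', hL'', ⟨e''⟩⟩ := exists_iso_Q_obj_of_isGE (Q.obj L) 0
  obtain ⟨Jc, s, hs, hinj, hJ⟩ :=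
    CochainComplex.Plus.modelCategoryQuillen.exists_quasiIso_injective L'' 0
  haveI := hs
  haveI := hinj
  haveI := hJ
  haveI : Jc.IsKInjective := CochainComplex.isKInjective_of_injective Jc 0
  have key2 : ∀ p : ℤ, Nonempty ((Opens.map f).op ⋙ CohCx.HDUPresheaf K p ≅
      (psh Jc).homology p) := by
    intro p
    obtain ⟨e6⟩ := key p
    obtain ⟨e7⟩ := nonempty_iso_shift Jc p
    exact ⟨e6 ≪≫ hduIso (e'' ≪≫ asIso (Q.map s)) p ≪≫ e7.symm⟩
  constructor
  · intro V i hi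
    obtain ⟨e⟩ := key2 i
    haveI := subsingleton_homology_neg Jc i hi V
    exact (e.app (op V)).addCommGroupIsoToAddEquiv.toEquiv.subsingleton
  · obtain ⟨e⟩ := key2 0
    exact (Presheaf.isSheaf_of_iso_iff e).mpr (isSheaf_homology_zero Jc)

end Main

end Groth.Agent.H6.NegVan
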