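import Groth.Agent.Lib.Helper6.FinCd1
import Groth.Agent.Lib.Helper6.FinCd2
import Groth.Agent.Lib.Helper6.NegVan1

/-! # Finite cohomological dimension: `ℤ_U[0]` is compact -/

universe u
open CategoryTheory Limits Opposite Abelian DerivedCategory

namespace Groth.Agent.H6.FinCd

open Groth.Agent.LD.SC Groth.Agent.LD.HDSh Groth.Agent.H6.KI Groth.Agent.H6.Cpt

variable {C : Type u} [SmallCategory C] {J : GrothendieckTopology C}
  [HasDerivedCategory.{u} (Sheaf J AddCommGrpCat.{u})]

/-- vanishing of `Hom(ℤ_U[0], I)` for a K-injective complex of injectives which is exact above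
`b < -1 - d`. -/
theorem eq_zero_of_kinj (U : C) (d : ℕ)
    (hG : ∀ (F : Sheaf J AddCommGrpCat.{u}) (p : ℕ), d < p → ∀ x : Ext.{u} (ZU J U) F p, x = 0)
    (I : CochainComplex (Sheaf J AddCommGrpCat.{u}) ℤ) [I.IsKInjective]
    (hinj : ∀ n, Injective (I.X n)) (b : ℤ) (hb : b < -1 - d)
    (hex : ∀ n, b < n → I.ExactAt n)
    (φ : Q.obj (S₀ (ZU J U)) ⟶ Q.obj I) : φ = 0 := by
  obtain ⟨h, rfl⟩ := gam_app_surjective I U φ
  obtain ⟨z, rfl⟩ := homologyπ_surjective (psh I) (op U) 0 h
  rw [gam_π_apply, cU_apply]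
  have hφ₀ : ∀ l, zet I 0 U (cycSec I U z) ≫ I.d 0 l = 0 := by
    intro l
    by_cases hl : (0 : ℤ) + 1 = l
    · subst hl
      exact zet_comp_d_eq_zero I U _ (d_cycSec I U z)
    · rw [I.shape 0 l hl, comp_zero]
  obtain ⟨ψ, hψ⟩ := exists_lift (ZU J U) I hinj b hex d hG (-1) 0 (by omega) (by omega)
    (zet I 0 U (cycSec I U z)) hφ₀
  rw [fromMap_congr hψ.symm _ (by rw [Category.assoc, I.d_comp_d, comp_zero])]
  exact Q_map_fromMap_boundary _ _

/-- vanishing of `Hom(ℤ_U[0], L)` for a complex vanishing above `a < -1 - d`. -/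
theorem subsingleton_of_le (U : C) (d : ℕ)
    (hG : ∀ (F : Sheaf J AddCommGrpCat.{u}) (p : ℕ), d < p → ∀ x : Ext.{u} (ZU J U) F p, x = 0)
    (L : CochainComplex (Sheaf J AddCommGrpCat.{u}) ℤ) (a : ℤ) (ha : a < -1 - d)
    (hL : ∀ m, a < m → IsZero (L.X m)) :
    Subsingleton (Q.obj (S₀ (ZU J U)) ⟶ Q.obj L) := by
  obtain ⟨I, f, hI, hf, -, hinj⟩ := Groth.Agent.H6.KInjG.main L
  haveI := hI
  haveI := hf
  haveI : IsIso (Q.map f) := by
    rw [isIso_Q_map_iff_quasiIso]
    exact hf
  have hex : ∀ n, a < n → I.ExactAt n := by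
    intro n hn
    have h1 : L.ExactAt n := ShortComplex.exact_of_isZero_X₂ _ (hL n hn)
    exact (quasiIsoAt_iff_exactAt f n h1).1 (hf.quasiIsoAt n)
  have h0 : ∀ ψ : Q.obj (S₀ (ZU J U)) ⟶ Q.obj L, ψ = 0 := fun ψ => by
    have := eq_zero_of_kinj U d hG I hinj a ha hex (ψ ≫ Q.map f)
    rw [← cancel_mono (Q.map f), this, zero_comp]
  constructor
  intro φ φ'
  rw [h0 φ, h0 φ']

set_option backward.isDefEq.respectTransparency false in
lemma isIso_πTruncGE_f {A : Type*} [Category A] [Abelian A] (K : CochainComplex A ℤ) (a m : ℤ)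
    (hm : a < m) : IsIso ((K.πTruncGE a).f m) := by
  have hk : (ComplexShape.embeddingUpIntGE a).f (m - a).toNat = m := by
    change a + ((m - a).toNat : ℤ) = m
    omega
  have hk0 : (m - a).toNat ≠ 0 := by omega
  generalize (m - a).toNat = k at hk hk0
  dsimp [CochainComplex.πTruncGE, HomologicalComplex.πTruncGE]
  rw [(ComplexShape.embeddingUpIntGE a).isIso_liftExtend_f_iff _ _ hk]
  exact K.isIso_restrictionToTruncGE' _ k (by
    rw [ComplexShape.boundaryGE_embeddingUpIntGE_iff]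
    exact hk0)

theorem main (U : C) (d : ℕ)
    (h1 : ∀ (F : Sheaf J AddCommGrpCat.{u}) (p : ℕ), d < p → Subsingleton (CohSite.HU F p U))
    (h2 : ∀ (p : ℕ) (ι : Type u), PreservesColimitsOfShape (Discrete ι)
      ((Sheaf.cohomologyPresheafFunctor J p).flip.obj (op U)))
    {I : Type u} (M : I → DerivedCategory (Sheaf J AddCommGrpCat.{u})) [HasCoproduct M] :
    Function.Bijective (CohDer.homSumToHomCoprod
      ((DerivedCategory.singleFunctor (Sheaf J AddCommGrpCat.{u}) 0).obj (CohCx.freeSheaf J U))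
      M) := by
  apply bijective_homSumToHomCoprod
  have hG : ∀ (F : Sheaf J AddCommGrpCat.{u}) (p : ℕ), d < p →
      ∀ x : Ext.{u} (ZU J U) F p, x = 0 := fun F p hp x => by
    haveI : Subsingleton (Ext.{u} (ZU J U) F p) := h1 F p hp
    exact Subsingleton.elim _ _
  let K : I → CochainComplex (Sheaf J AddCommGrpCat.{u}) ℤ := fun i => Q.objPreimage (M i)
  let e' : ∀ i, M i ≅ Q.obj (K i) := fun i => (Q.objObjPreimageIso (M i)).symm
  have h' : ∀ (p : ℕ) (I : Type u),
      PreservesColimitsOfShape (Discrete I) (extFunctorObj.{u} (ZU J U) p) := fun p I => h2 p I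
  have hc := coproductIsCoproduct K
  let a : ℤ := -2 - d
  have hS : SurjF ((singleFunctor (Sheaf J AddCommGrpCat.{u}) 0).obj (ZU J U))
      (Qc (Cofan.mk (∐ K) (Sigma.ι K))) := by
    haveI : ∀ i, Epi ((K i).πTruncGE a) := fun i => by
      dsimp [CochainComplex.πTruncGE]
      infer_instance
    refine surjF_gstep _ (fun i => (K i).πTruncGE a) ?_ ?_ _ hc
    · intro c hc'
      apply surjF_of_subsingleton
      refine subsingleton_of_le U d hG c.pt a (by omega) (fun m hm => ?_)
      refine isZero_X_of_isColimit hc' m (fun i => ?_)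
      haveI := isIso_πTruncGE_f (K i) a m hm
      exact isZero_gsesAt_X₁ _ i m inferInstance
    · intro c hc'
      refine surjF_of_bound U h' (1 - a).toNat _ (fun i m hm => ?_) c hc'
      exact ((K i).truncGE a).isZero_of_isStrictlyGE a m (by omega)
  have hD : IsColimit (Qc (Cofan.mk (∐ K) (Sigma.ι K))) :=
    Groth.Agent.H2.DCoprod.isColimitMapCofan hc
  let w : Discrete.functor (fun i => Q.obj (K i)) ≅ Discrete.functor M :=
    Discrete.natIso (fun i => (e' i.as).symm)
  refine surjF_of_iso _ (fun i => (e' i).symm)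
    (IsColimit.coconePointsIsoOfNatIso hD (coproductIsCoproduct M) w) (fun i => ?_) hS
  exact IsColimit.comp_coconePointsIsoOfNatIso_hom hD (coproductIsCoproduct M) w ⟨i⟩

end Groth.Agent.H6.FinCd
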