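import Mathlib
import Groth.Agent.Lib.Helper6.LDLoc8
import Groth.Agent.Lib.Helper6.LDLoc6
import Groth.Agent.Lib.Helper6.LCMaxLoc
import Groth.Agent.Lib.Helper6.DepthKit
import Groth.Agent.Lib.Helper6.DepthInf

universe u
set_option linter.style.haveILetI false
open CategoryTheory CategoryTheory.Abelian InjHull TensorProduct IsLocalRing

namespace Groth.Agent.H6.GCM

section NVS

variable {S : Type u} [CommRing S] [hG : LocCoh.IsGorensteinLocalRing S]
  (N : Type u) [AddCommGroup N] [Module S N] [Module.Finite S N]

/-- non-vanishing goes up along a specialization, over a Gorenstein local ring -/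
theorem nv_up_S (d : ℕ) (hd : ringKrullDim S = d) (Q P : Ideal S) [hQ : Q.IsPrime] [hP : P.IsPrime]
    (hQP : Q ≤ P) (eQ eP : ℕ) (heQ : ringKrullDim (S ⧸ Q) = eQ) (heP : ringKrullDim (S ⧸ P) = eP)
    (j : ℕ)
    (hne : ¬ Subsingleton (LocCoh.H (maximalIdeal (Localization.AtPrime Q)) j
      (LocalizedModule Q.primeCompl N))) :
    eP ≤ eQ ∧ ¬ Subsingleton (LocCoh.H (maximalIdeal (Localization.AtPrime P)) (j + eQ - eP)
      (LocalizedModule P.primeCompl N)) := by
  obtain ⟨hQh, eQ', hhQ, heQ', hsumQ⟩ := LDL.ht_add_dim d hd Q
  obtain ⟨hPh, eP', hhP, heP', hsumP⟩ := LDL.ht_add_dim d hd P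
  have e1 : eQ' = eQ := by
    have := heQ'.symm.trans heQ
    exact_mod_cast this
  have e2 : eP' = eP := by
    have := heP'.symm.trans heP
    exact_mod_cast this
  subst e1 e2
  have hle : hQh ≤ hPh := by
    have := Ideal.height_mono hQP
    rw [hhQ, hhP] at this
    exact_mod_cast this
  haveI gQ : LocCoh.IsGorensteinLocalRing (Localization.AtPrime Q) := LDL.gor_localization Q
  haveI gP : LocCoh.IsGorensteinLocalRing (Localization.AtPrime P) := LDL.gor_localization P
  refine ⟨by omega, ?_⟩
  by_cases hj : j ≤ hQh
  · obtain ⟨k, hk⟩ : ∃ k, k + j = hQh := ⟨hQh - j, by omega⟩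
    rw [LDL.KL N Q hQh hhQ k j hk, not_subsingleton_iff_nontrivial] at hne
    rw [LDL.KL N P hPh hhP k (j + eQ' - eP') (by omega), not_subsingleton_iff_nontrivial]
    have h1 : (⟨Q, hQ⟩ : PrimeSpectrum S) ∈
        Module.support S (Ext (ModuleCat.of S N) (ModuleCat.of S S) k) := hne
    exact Module.mem_support_mono (show (⟨Q, hQ⟩ : PrimeSpectrum S) ≤ ⟨P, hP⟩ from hQP) h1
  · rw [not_le] at hj
    exact absurd (LDL.lc_loc_vanish N Q hQh hhQ j hj) hne

end NVS

section NVA

variable {S A : Type u} [CommRing S] [CommRing A] [Algebra S A]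
  [hG : LocCoh.IsGorensteinLocalRing S] [IsLocalRing A] [IsNoetherianRing A]
  (hπ : Function.Surjective (algebraMap S A))
  (M : Type u) [AddCommGroup M] [Module A M] [Module S M] [IsScalarTower S A M]
  [Module.Finite A M]

/-- non-vanishing of the `j`-th local cohomology of the stalk at `p` -/
def NV (p : Ideal A) [p.IsPrime] (j : ℕ) : Prop :=
  ¬ Subsingleton (LocCoh.H (maximalIdeal (Localization.AtPrime p)) j
    (LocalizedModule p.primeCompl M))

include hπ in
theorem nv_up (q p : Ideal A) [hq : q.IsPrime] [hp : p.IsPrime]
    (hqp : q ≤ p) (eq ep : ℕ) (heq : ringKrullDim (A ⧸ q) = eq) (hep : ringKrullDim (A ⧸ p) = ep)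
    (j : ℕ) (hne : NV M q j) :
    ep ≤ eq ∧ NV M p (j + eq - ep) := by
  haveI : Module.Finite S A := Module.Finite.of_surjective (Algebra.linearMap S A) hπ
  haveI : Module.Finite S M := Module.Finite.trans A M
  obtain ⟨d, hd⟩ := Bass.exists_ringKrullDim_eq (A := S)
  unfold NV at hne ⊢
  rw [LDL.transfer hπ M q j] at hne
  rw [LDL.transfer hπ M p (j + eq - ep)]
  exact nv_up_S M d hd (q.under S) (p.under S) (Ideal.comap_mono hqp) eq ep
    ((LDL.ringKrullDim_quotient_under hπ q).trans heq)
    ((LDL.ringKrullDim_quotient_under hπ p).trans hep) j hne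

end NVA

section Facts

variable {A : Type u} [CommRing A] [IsLocalRing A] [IsNoetherianRing A]
  (M : Type u) [AddCommGroup M] [Module A M] [Module.Finite A M]

omit [IsLocalRing A] in
theorem nontrivial_of_nv (p : Ideal A) [p.IsPrime] (j : ℕ) (hne : NV M p j) :
    Nontrivial (LocalizedModule p.primeCompl M) := by
  by_contra hcon
  rw [not_nontrivial_iff_subsingleton] at hcon
  exact hne (LC.subsingleton_of_subsingleton _ j _)

omit [IsLocalRing A] in
theorem nv_le_supportDim (p : Ideal A) [p.IsPrime] (j : ℕ) (hne : NV M p j) :
    (j : WithBot ℕ∞) ≤ Module.supportDim (Localization.AtPrime p)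
      (LocalizedModule p.primeCompl M) := by
  haveI : IsNoetherianRing (Localization.AtPrime p) :=
    IsLocalization.isNoetherianRing p.primeCompl _ inferInstance
  haveI : Module.Finite (Localization.AtPrime p) (LocalizedModule p.primeCompl M) :=
    Module.Finite.of_isLocalizedModule p.primeCompl (LocalizedModule.mkLinearMap p.primeCompl M)
  by_contra hcon
  rw [not_le] at hcon
  exact hne (LC.subsingleton_of_supportDim_lt _ _ j hcon)

omit [IsLocalRing A] in
theorem nontrivial_of_le (p : Ideal A) [hp : p.IsPrime] (hle : Module.annihilator A M ≤ p) :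
    Nontrivial (LocalizedModule p.primeCompl M) := by
  have h1 : (⟨p, hp⟩ : PrimeSpectrum A) ∈ Module.support A M := by
    rw [Module.mem_support_iff_of_finite]
    exact hle
  exact h1

omit [IsLocalRing A] in
theorem exists_nv_top (p : Ideal A) [hp : p.IsPrime] (hle : Module.annihilator A M ≤ p) :
    ∃ δ : ℕ, Module.supportDim (Localization.AtPrime p) (LocalizedModule p.primeCompl M) = δ ∧
      NV M p δ := by
  haveI : IsNoetherianRing (Localization.AtPrime p) :=
    IsLocalization.isNoetherianRing p.primeCompl _ inferInstance
  haveI : Module.Finite (Localization.AtPrime p) (LocalizedModule p.primeCompl M) :=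
    Module.Finite.of_isLocalizedModule p.primeCompl (LocalizedModule.mkLinearMap p.primeCompl M)
  haveI := nontrivial_of_le M p hle
  obtain ⟨δ, hδ⟩ := LC.exists_supportDim_eq (R := Localization.AtPrime p)
    (LocalizedModule p.primeCompl M)
  refine ⟨δ, hδ, ?_⟩
  have := LC.nontrivial_H_of_supportDim_eq δ (LocalizedModule p.primeCompl M) hδ
  unfold NV
  rw [not_subsingleton_iff_nontrivial]
  exact this

theorem nv_max_le (n : ℕ) (hn : Module.supportDim A M = n) (j : ℕ)
    (hne : NV M (maximalIdeal A) j) : j ≤ n := by
  unfold NV at hne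
  rw [← MaxLoc.subsingleton_iff] at hne
  by_contra hcon
  rw [not_le] at hcon
  apply hne
  apply LC.subsingleton_of_supportDim_lt
  rw [hn]
  exact_mod_cast hcon

omit [IsLocalRing A] in
theorem nv_zero_of_minimal (q : Ideal A) [hq : q.IsPrime]
    (hmin : q ∈ (Module.annihilator A M).minimalPrimes) : NV M q 0 := by
  haveI : IsNoetherianRing (Localization.AtPrime q) :=
    IsLocalization.isNoetherianRing q.primeCompl _ inferInstance
  haveI : Module.Finite (Localization.AtPrime q) (LocalizedModule q.primeCompl M) :=
    Module.Finite.of_isLocalizedModule q.primeCompl (LocalizedModule.mkLinearMap q.primeCompl M)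
  have hass := Module.associatedPrimes.minimalPrimes_annihilator_subset_associatedPrimes A M hmin
  intro hsub
  apply Depth.not_mem_associatedPrimes_of_locDepthGE M q _ hass
  rw [Depth.locDepthGE_iff]
  unfold LocCoh.depth
  rw [Depth.le_idealDepth_iff]
  intro i hi
  have : i = 0 := by omega
  subst this
  exact hsub

/-- a non-maximal prime in the support forces positive dimension -/
theorem one_le_of_prime (n : ℕ) (hn : Module.supportDim A M = n) (p : Ideal A) [hp : p.IsPrime]
    (hle : Module.annihilator A M ≤ p) (hpm : p ≠ maximalIdeal A) : 1 ≤ n := by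
  have h1 : (⟨p, hp⟩ : PrimeSpectrum A) ∈ Module.support A M := by
    rw [Module.mem_support_iff_of_finite]
    exact hle
  have h2 : (IsLocalRing.closedPoint A) ∈ Module.support A M := by
    rw [Module.mem_support_iff_of_finite]
    exact le_trans hle (IsLocalRing.le_maximalIdeal hp.ne_top)
  have hlt : (⟨⟨p, hp⟩, h1⟩ : Module.support A M) < ⟨IsLocalRing.closedPoint A, h2⟩ := by
    refine lt_of_le_of_ne ?_ ?_
    · exact IsLocalRing.le_maximalIdeal hp.ne_top
    · intro heq
      apply hpm
      have := congrArg (fun x : Module.support A M => x.1.asIdeal) heq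
      exact this
  have h3 : (1 : WithBot ℕ∞) ≤ Module.supportDim A M := by
    unfold Module.supportDim
    exact Order.one_le_krullDim_iff.mpr ⟨_, _, hlt⟩
  rw [hn] at h3
  exact_mod_cast h3

end Facts

section Main

variable {S A : Type u} [CommRing S] [CommRing A] [Algebra S A]
  [hG : LocCoh.IsGorensteinLocalRing S] [IsLocalRing A] [IsNoetherianRing A]
  (hπ : Function.Surjective (algebraMap S A))
  (M : Type u) [AddCommGroup M] [Module A M] [Module S M] [IsScalarTower S A M]
  [Module.Finite A M]

omit [IsNoetherianRing A] in
theorem dim_quot_max : ringKrullDim (A ⧸ maximalIdeal A) = ((0 : ℕ) : WithBot ℕ∞) := by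
  letI : Field (A ⧸ maximalIdeal A) := Ideal.Quotient.field _
  rw [Nat.cast_zero]
  exact ringKrullDim_eq_zero_of_field _

theorem exists_e (p : Ideal A) [p.IsPrime] : ∃ e : ℕ, ringKrullDim (A ⧸ p) = e := by
  haveI : IsLocalRing (A ⧸ p) :=
    IsLocalRing.of_surjective' (Ideal.Quotient.mk p) Ideal.Quotient.mk_surjective
  exact Bass.exists_ringKrullDim_eq (A := A ⧸ p)

include hπ in
theorem nv_add_le (n : ℕ) (hn : Module.supportDim A M = n) (q : Ideal A) [hq : q.IsPrime] (eq : ℕ)
    (heq : ringKrullDim (A ⧸ q) = eq) (j : ℕ) (hne : NV M q j) : j + eq ≤ n := by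
  obtain ⟨-, h1⟩ := nv_up hπ M q (maximalIdeal A) (le_maximalIdeal hq.ne_top) eq 0 heq
    dim_quot_max j hne
  exact nv_max_le M n hn _ h1

include hπ in
theorem main (n : ℕ) (hn : Module.supportDim A M = n) :
    (∀ i : ℕ, i < n → IsFiniteLength A (LocCoh.H (maximalIdeal A) i M)) ↔
      ((∀ p ∈ (Module.annihilator A M).minimalPrimes, ringKrullDim (A ⧸ p) = n) ∧
        ∀ (p : Ideal A) [p.IsPrime], p ≠ maximalIdeal A → Module.annihilator A M ≤ p →
          LocCoh.IsCohenMacaulayModule (Localization.AtPrime p)
            (LocalizedModule p.primeCompl M)) := by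
  rcases n with _ | n
  · constructor
    · intro _
      constructor
      · intro p hp
        haveI := hp.1.1
        by_cases hpm : p = maximalIdeal A
        · rw [hpm]; exact dim_quot_max
        · have := one_le_of_prime M 0 hn p hp.1.2 hpm
          omega
      · intro p _ hpm hle
        have := one_le_of_prime M 0 hn p hle hpm
        omega
    · intro _ i hi
      omega
  · have hiff : (∀ i : ℕ, i < n + 1 → IsFiniteLength A (LocCoh.H (maximalIdeal A) i M)) ↔
        ∀ i : ℕ, i ≤ n → IsFiniteLength A (LocCoh.H (maximalIdeal A) i M) :=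
      ⟨fun h i hi => h i (by omega), fun h i hi => h i (by omega)⟩
    rw [hiff, LDL.fl_le_iff_A hπ M n]
    constructor
    · intro h
      constructor
      · intro q hq
        haveI := hq.1.1
        obtain ⟨eq, heq⟩ := exists_e q
        have hnv := nv_zero_of_minimal M q hq
        have hle := nv_add_le hπ M (n + 1) hn q eq heq 0 hnv
        haveI : IsNoetherianRing (Localization.AtPrime q) :=
          IsLocalization.isNoetherianRing q.primeCompl _ inferInstance
        haveI : Module.Finite (Localization.AtPrime q) (LocalizedModule q.primeCompl M) :=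
          Module.Finite.of_isLocalizedModule q.primeCompl
            (LocalizedModule.mkLinearMap q.primeCompl M)
        by_cases hqm : q = maximalIdeal A
        · exfalso
          have h3 : (1 : WithBot ℕ∞) ≤ Module.supportDim A M := by
            rw [hn]
            exact_mod_cast Nat.le_add_left 1 n
          unfold Module.supportDim at h3
          obtain ⟨x, y, hxy⟩ := Order.one_le_krullDim_iff.mp h3
          have hx : Module.annihilator A M ≤ x.1.asIdeal := by
            have := x.2
            rw [Module.mem_support_iff_of_finite] at this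
            exact this
          have hxy' : x.1.asIdeal < y.1.asIdeal := hxy
          have hym : y.1.asIdeal ≤ maximalIdeal A := le_maximalIdeal y.1.2.ne_top
          have hxm : x.1.asIdeal ≤ q := by rw [hqm]; exact le_trans hxy'.le hym
          have := hq.2 ⟨x.1.2, hx⟩ hxm
          rw [hqm] at this
          exact absurd (le_trans hym this) (not_le_of_gt hxy')
        · have h1 := h q hqm eq heq
          rw [LDL.lt_depth_add_iff] at h1
          have h2 : ¬ (0 + eq ≤ n) := fun hcon => hnv (h1 0 hcon)
          rw [heq]
          have : eq = n + 1 := by omega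
          rw [this]
      · intro p _ hpm hle
        haveI : IsNoetherianRing (Localization.AtPrime p) :=
          IsLocalization.isNoetherianRing p.primeCompl _ inferInstance
        haveI : Module.Finite (Localization.AtPrime p) (LocalizedModule p.primeCompl M) :=
          Module.Finite.of_isLocalizedModule p.primeCompl
            (LocalizedModule.mkLinearMap p.primeCompl M)
        haveI := nontrivial_of_le M p hle
        obtain ⟨ep, hep⟩ := exists_e p
        obtain ⟨δ, hδ, hnv⟩ := exists_nv_top M p hle
        have h1 := nv_add_le hπ M (n + 1) hn p ep hep δ hnv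
        obtain ⟨D, hD, hDle⟩ := Depth.exists_depth_eq (R := Localization.AtPrime p)
          (LocalizedModule p.primeCompl M)
        have h2 := h p hpm ep hep
        rw [hD] at h2
        rw [hδ] at hDle
        have h3 : D ≤ δ := by exact_mod_cast hDle
        have h4 : n < D + ep := by exact_mod_cast h2
        unfold LocCoh.IsCohenMacaulayModule
        rw [hδ, hD]
        have : δ = D := by omega
        rw [this]
        rfl
    · rintro ⟨hequi, hcm⟩ p _ hpm e he
      haveI : IsNoetherianRing (Localization.AtPrime p) :=
        IsLocalization.isNoetherianRing p.primeCompl _ inferInstance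
      haveI : Module.Finite (Localization.AtPrime p) (LocalizedModule p.primeCompl M) :=
        Module.Finite.of_isLocalizedModule p.primeCompl
          (LocalizedModule.mkLinearMap p.primeCompl M)
      by_cases hle : Module.annihilator A M ≤ p
      · obtain ⟨q, hq, hqp⟩ := Ideal.exists_minimalPrimes_le hle
        haveI := hq.1.1
        have heq := hequi q hq
        have hnv := nv_zero_of_minimal M q hq
        obtain ⟨h1, h2⟩ := nv_up hπ M q p hqp (n + 1) e heq he 0 hnv
        have h3 := nv_le_supportDim M p _ h2
        have h4 := hcm p hpm hle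
        unfold LocCoh.IsCohenMacaulayModule at h4
        rw [h4] at h3
        have h5 : ((0 + (n + 1) - e : ℕ) : ℕ∞) ≤
            LocCoh.depth (Localization.AtPrime p) (LocalizedModule p.primeCompl M) := by
          have h3' : (((0 + (n + 1) - e : ℕ) : ℕ∞) : WithBot ℕ∞) ≤
              ((LocCoh.depth (Localization.AtPrime p) (LocalizedModule p.primeCompl M) : ℕ∞) :
                WithBot ℕ∞) := h3
          exact WithBot.coe_le_coe.mp h3'
        generalize LocCoh.depth (Localization.AtPrime p) (LocalizedModule p.primeCompl M) = D at h5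
        induction D using ENat.recTopCoe with
        | top => simp
        | coe D =>
          have h6 : 0 + (n + 1) - e ≤ D := by exact_mod_cast h5
          have : n < D + e := by omega
          exact_mod_cast this
      · have hsub : Subsingleton (LocalizedModule p.primeCompl M) := by
          by_contra hcon
          rw [not_subsingleton_iff_nontrivial] at hcon
          apply hle
          have h1 : (⟨p, inferInstance⟩ : PrimeSpectrum A) ∈ Module.support A M := hcon
          rw [Module.mem_support_iff_of_finite] at h1
          exact h1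
        have : LocCoh.depth (Localization.AtPrime p) (LocalizedModule p.primeCompl M) = ⊤ := by
          unfold LocCoh.depth LocCoh.idealDepth
          rw [if_pos (Subsingleton.elim _ _)]
        rw [this]
        simp

end Main

end Groth.Agent.H6.GCM
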