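import Mathlib
import Groth.Agent.Lib.Helper6.FinThm
import Groth.Agent.Lib.Helper6.GenCM

/-! The finiteness theorem for modules that are Cohen–Macaulay off `V(I)`. -/

universe u
set_option linter.style.haveILetI false
open CategoryTheory CategoryTheory.Limits Opposite CategoryTheory.Abelian
open Pointwise

namespace Groth.Agent.H6.FinThm

open IsLocalRing LC

section Chains

variable {R A : Type u} [CommRing R] [CommRing A] [Algebra R A] [IsRegularRing R]
  [IsNoetherianRing A] (hπ : Function.Surjective (algebraMap R A))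

include hπ in
/-- heights in the regular ring grow by one along coverings in `Spec A` -/
theorem sat_chain_height {p : PrimeSpectrum A} (s : LTSeries (Set.Ici p))
    (hcov : ∀ i : Fin s.length, s i.castSucc ⋖ s i.succ) :
    ∀ (k : ℕ) (hk : k < s.length + 1),
      ((s ⟨k, hk⟩).1.asIdeal.under R).height = ((s.head).1.asIdeal.under R).height + k := by
  intro k
  induction k with
  | zero =>
    intro hk
    simp only [Nat.cast_zero, add_zero]
    rfl
  | succ k ih =>
    intro hk
    have h1 := ih (by omega)
    have h2 := LDL.covBy_of_covBy_Ici (hcov ⟨k, by omega⟩)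
    have h3 := LDL.covBy_under hπ h2
    haveI : LocCoh.IsGorensteinLocalRing (Localization.AtPrime
        ((s (Fin.succ ⟨k, by omega⟩)).1.asIdeal.under R)) := Groth.Agent.S0342.result _
    have h4 := LDL.height_covBy h3 LDL.gor_cm
    change ((s (Fin.succ ⟨k, by omega⟩)).1.asIdeal.under R).height =
      ((s (Fin.castSucc ⟨k, by omega⟩)).1.asIdeal.under R).height + 1 at h4
    change ((s (Fin.succ ⟨k, by omega⟩)).1.asIdeal.under R).height = _
    rw [h4]
    change ((s ⟨k, by omega⟩).1.asIdeal.under R).height + 1 = _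
    rw [h1]
    push_cast
    rw [add_assoc]

include hπ in
/-- the height above `p` is the difference of the heights in the regular ring -/
theorem height_under_eq_add (p q : PrimeSpectrum A) (hpq : p ≤ q) :
    (q.asIdeal.under R).height =
      (p.asIdeal.under R).height + Order.height (⟨q, hpq⟩ : Set.Ici p) := by
  have hfin : Order.height (⟨q, hpq⟩ : Set.Ici p) ≠ ⊤ := by
    rw [← height_map_eq_height_Ici p q hpq]
    have hker : RingHom.ker (Ideal.Quotient.mk p.asIdeal) ≤ q.asIdeal := by
      rw [Ideal.mk_ker]; exact hpq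
    haveI : (q.asIdeal.map (Ideal.Quotient.mk p.asIdeal)).IsPrime :=
      Ideal.map_isPrime_of_surjective Ideal.Quotient.mk_surjective hker
    exact Ideal.height_ne_top_of_isPrime
  obtain ⟨L, hL⟩ := ENat.ne_top_iff_exists.mp hfin
  obtain ⟨s, hlast, hlen, hmin, hcov⟩ :=
    Cat.exists_saturated_height (⟨q, hpq⟩ : Set.Ici p) hL.symm
  have hhead : (s.head).1 = p := by
    have h2 : s.head ≤ ⟨p, le_refl p⟩ :=
      hmin (show (⟨p, le_refl p⟩ : Set.Ici p) ≤ s.head from s.head.2)
    exact le_antisymm h2 s.head.2
  have h1 := sat_chain_height hπ s hcov s.length (Nat.lt_succ_self _)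
  have hl : s ⟨s.length, Nat.lt_succ_self _⟩ = s.last := rfl
  rw [hl, hlast, hhead, hlen] at h1
  rw [← hL]
  exact h1

include hπ in
theorem height_Ici_add (p₀ p q : PrimeSpectrum A) (h1 : p₀ ≤ p) (h2 : p ≤ q) :
    Order.height (⟨q, h1.trans h2⟩ : Set.Ici p₀) =
      Order.height (⟨p, h1⟩ : Set.Ici p₀) + Order.height (⟨q, h2⟩ : Set.Ici p) := by
  have e1 := height_under_eq_add hπ p₀ q (h1.trans h2)
  have e2 := height_under_eq_add hπ p₀ p h1
  have e3 := height_under_eq_add hπ p q h2
  rw [e2, add_assoc] at e3
  rw [e1] at e3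
  have hfin : (p₀.asIdeal.under R).height ≠ ⊤ := Ideal.height_ne_top_of_isPrime
  exact ENat.add_right_injective_of_ne_top hfin e3

end Chains

section Ann

variable {A : Type u} [CommRing A]

theorem annihilator_localized_le (M : Type u) [AddCommGroup M] [Module A M] [Module.Finite A M]
    (p₀ p : Ideal A) [hp : p.IsPrime] (h0 : Module.annihilator A M ≤ p₀) :
    Module.annihilator (Localization.AtPrime p) (LocalizedModule p.primeCompl M) ≤
      p₀.map (algebraMap A (Localization.AtPrime p)) := by
  intro ξ hξ
  obtain ⟨x, s, rfl⟩ := IsLocalization.exists_mk'_eq p.primeCompl ξ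
  rw [IsLocalization.mk'_mem_map_algebraMap_iff]
  have hx : algebraMap A (Localization.AtPrime p) x ∈
      Module.annihilator (Localization.AtPrime p) (LocalizedModule p.primeCompl M) := by
    have : algebraMap A (Localization.AtPrime p) x =
        algebraMap A (Localization.AtPrime p) s * IsLocalization.mk' _ x s := by
      rw [IsLocalization.mul_mk'_eq_mk'_of_mul, IsLocalization.mk'_mul_cancel_left]
    rw [this]
    exact Ideal.mul_mem_left _ _ hξ
  have hloc : ∀ m : M, ∃ u ∈ p.primeCompl, u • x • m = 0 := by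
    intro m
    have h1 := Module.mem_annihilator.mp hx (LocalizedModule.mkLinearMap p.primeCompl M m)
    rw [algebraMap_smul, ← map_smul,
      IsLocalizedModule.eq_zero_iff p.primeCompl (LocalizedModule.mkLinearMap p.primeCompl M)] at h1
    obtain ⟨u, hu⟩ := h1
    exact ⟨u.1, u.2, hu⟩
  -- the module xM
  set N : Submodule A M := LinearMap.range (LinearMap.lsmul A M x) with hN
  have hnot : ¬ Module.annihilator A N ≤ p := by
    intro hJ
    have hsupp : (⟨p, hp⟩ : PrimeSpectrum A) ∈ Module.support A N :=
      Module.mem_support_iff_of_finite.mpr hJ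
    obtain ⟨m', hm'⟩ := Module.mem_support_iff_exists_annihilator.mp hsupp
    obtain ⟨m, hm⟩ := m'.2
    obtain ⟨u, hu, hum⟩ := hloc m
    apply hu
    apply hm'
    rw [Submodule.mem_annihilator_span_singleton]
    apply Subtype.ext
    rw [Submodule.coe_smul, ← hm]
    exact hum
  obtain ⟨u, huJ, hup⟩ := SetLike.not_le_iff_exists.mp hnot
  refine ⟨u, hup, h0 ?_⟩
  rw [Module.mem_annihilator]
  intro m
  have := Module.mem_annihilator.mp huJ ⟨x • m, ⟨m, rfl⟩⟩
  rw [mul_smul]
  exact congrArg Subtype.val this

variable [IsNoetherianRing A]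

theorem height_Ici_le_supportDim (M : Type u) [AddCommGroup M] [Module A M] [Module.Finite A M]
    (p₀ p : PrimeSpectrum A) (h0 : Module.annihilator A M ≤ p₀.asIdeal) (hle : p₀ ≤ p) :
    ((Order.height (⟨p, hle⟩ : Set.Ici p₀) : ℕ∞) : WithBot ℕ∞) ≤
      Module.supportDim (Localization.AtPrime p.asIdeal)
        (LocalizedModule p.asIdeal.primeCompl M) := by
  haveI : IsNoetherianRing (Localization.AtPrime p.asIdeal) :=
    IsLocalization.isNoetherianRing p.asIdeal.primeCompl _ inferInstance
  haveI : Module.Finite (Localization.AtPrime p.asIdeal)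
      (LocalizedModule p.asIdeal.primeCompl M) :=
    Module.Finite.of_isLocalizedModule p.asIdeal.primeCompl
      (LocalizedModule.mkLinearMap p.asIdeal.primeCompl M)
  rw [← height_map_eq_height_Ici p₀ p hle,
    ← AdjD.ringKrullDim_localization_quotient p₀.asIdeal p.asIdeal hle]
  exact CM.ringKrullDim_quotient_le_supportDim _ _
    (annihilator_localized_le M p₀.asIdeal p.asIdeal h0)

end Ann

section Main2

variable (R : Type u) [CommRing R] [IsRegularRing R] (A : Type u) [CommRing A]
  [IsNoetherianRing A] (π : R →+* A) (hπ : Function.Surjective π)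

include hπ in
/-- **S2931** -/
theorem finite_iff_of_cm_off (I : Ideal A) (M : Type u) [AddCommGroup M] [Module A M]
    [Module.Finite A M]
    (hCM : ∀ p : PrimeSpectrum A, ¬ I ≤ p.asIdeal →
      Subsingleton (LocalizedModule p.asIdeal.primeCompl M) ∨
        LocCoh.IsCohenMacaulayModule (Localization.AtPrime p.asIdeal)
          (LocalizedModule p.asIdeal.primeCompl M)) (n : ℕ) :
    (∀ i : ℕ, i ≤ n → Module.Finite A (LocCoh.H I i M)) ↔
      ∀ p : PrimeSpectrum A, ¬ I ≤ p.asIdeal →
        p.asIdeal ∈ (Module.annihilator A M).minimalPrimes → (n : ℕ∞) < SGA2.relCodim I p := by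
  rw [finite_iff_adj R A π hπ]
  constructor
  · intro h p hp hmin
    have h1 := h p hp
    have hass := Module.associatedPrimes.minimalPrimes_annihilator_subset_associatedPrimes A M hmin
    have h2 : ¬ Depth.LocDepthGE M p.asIdeal 1 := fun h =>
      Depth.not_mem_associatedPrimes_of_locDepthGE M p.asIdeal h hass
    rw [Depth.locDepthGE_iff] at h2
    have h3 : LocCoh.depth (Localization.AtPrime p.asIdeal)
        (LocalizedModule p.asIdeal.primeCompl M) = 0 := by
      rw [← Order.lt_one_iff]
      exact not_le.mp h2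
    rw [h3, zero_add] at h1
    exact h1
  · intro h p hp
    by_cases hc : SGA2.relCodim I p = ⊤
    · rw [hc, add_top]
      exact ENat.natCast_lt_top n
    rcases hCM p hp with hsub | hcm
    · have : LocCoh.depth (Localization.AtPrime p.asIdeal)
          (LocalizedModule p.asIdeal.primeCompl M) = ⊤ := by
        unfold LocCoh.depth LocCoh.idealDepth
        rw [if_pos (Subsingleton.elim _ _)]
      rw [this, top_add]
      exact ENat.natCast_lt_top n
    · haveI := CM.nontrivial_of_cm hcm
      have hsupp : p ∈ Module.support A M := by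
        rw [Module.mem_support_iff]
        infer_instance
      have hann : Module.annihilator A M ≤ p.asIdeal := Module.annihilator_le_of_mem_support hsupp
      obtain ⟨P₀, hP₀min, hP₀le⟩ := Ideal.exists_minimalPrimes_le hann
      haveI hP₀ : P₀.IsPrime := hP₀min.1.1
      set p₀ : PrimeSpectrum A := ⟨P₀, hP₀⟩ with hp₀
      have hle : p₀ ≤ p := hP₀le
      have hIp₀ : ¬ I ≤ p₀.asIdeal := fun hI => hp (hI.trans hP₀le)
      have hn := h p₀ hIp₀ hP₀min
      -- choose q attaining c(p)
      unfold SGA2.relCodim at hc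
      haveI : Nonempty {q : PrimeSpectrum A // p ≤ q ∧ I ≤ q.asIdeal} := by
        by_contra hemp
        rw [not_nonempty_iff] at hemp
        exact hc (iInf_of_empty _)
      obtain ⟨q, hq⟩ := ENat.exists_eq_iInf
        (fun q : {q : PrimeSpectrum A // p ≤ q ∧ I ≤ q.asIdeal} =>
          Order.height (⟨q.1, q.2.1⟩ : Set.Ici p))
      have hcp : SGA2.relCodim I p = Order.height (⟨q.1, q.2.1⟩ : Set.Ici p) := hq.symm
      have hcp₀ : SGA2.relCodim I p₀ ≤ Order.height (⟨q.1, hle.trans q.2.1⟩ : Set.Ici p₀) :=
        iInf_le (fun q : {q : PrimeSpectrum A // p₀ ≤ q ∧ I ≤ q.asIdeal} =>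
          Order.height (⟨q.1, q.2.1⟩ : Set.Ici p₀)) ⟨q.1, hle.trans q.2.1, q.2.2⟩
      letI : Algebra R A := π.toAlgebra
      have hπ' : Function.Surjective (algebraMap R A) := hπ
      have hadd := height_Ici_add hπ' p₀ p q.1 hle q.2.1
      have hdim := height_Ici_le_supportDim M p₀ p hP₀min.1.2 hle
      unfold LocCoh.IsCohenMacaulayModule at hcm
      rw [hcm] at hdim
      have hdim' : Order.height (⟨p, hle⟩ : Set.Ici p₀) ≤
          LocCoh.depth (Localization.AtPrime p.asIdeal)
            (LocalizedModule p.asIdeal.primeCompl M) := by exact_mod_cast hdim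
      rw [hcp]
      calc (n : ℕ∞) < SGA2.relCodim I p₀ := hn
        _ ≤ _ := hcp₀
        _ = _ := hadd
        _ ≤ _ := add_le_add_left hdim' _

end Main2

end Groth.Agent.H6.FinThm
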