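import Groth.Prelude.Def_W4c2azumayainvolQEt
import Mathlib.RingTheory.Flat.Basic
import Mathlib.RingTheory.TensorProduct.Basic

/-!
# Base change of fixed rings of involutions (helper6)
-/

universe u v w

open scoped TensorProduct

namespace Groth.Agent.H6.FR

variable (S : Type u) (R : Type v) (S' : Type w)
    [CommRing S] [CommRing R] [Algebra S R] [CommRing S'] [Algebra S S']

/-- The criterion: if there are `S`-linear `ι : S → R` (the structure map) and the kernel of
`lTensor S' (λ - 1)` is the range of `lTensor S' ι`, with `lTensor S' ι` injective,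
then `S'` is the fixed ring of `1 ⊗ λ`. -/
theorem isFixedRing_of_lTensor (lam : R ≃ₐ[S] R)
    (hinj : Function.Injective (LinearMap.lTensor S' (Algebra.linearMap S R)))
    (hker : ∀ x : S' ⊗[S] R,
      LinearMap.lTensor S' (lam.toLinearMap - LinearMap.id) x = 0 →
        x ∈ LinearMap.range (LinearMap.lTensor S' (Algebra.linearMap S R))) :
    RInv.IsFixedRing S' (S' ⊗[S] R)
      (Algebra.TensorProduct.congr (AlgEquiv.refl : S' ≃ₐ[S] S') lam).toRingEquiv := by
  have halg : ∀ a : S', algebraMap S' (S' ⊗[S] R) a =
      LinearMap.lTensor S' (Algebra.linearMap S R) (a ⊗ₜ[S] (1 : S)) := by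
    intro a
    rw [LinearMap.lTensor_tmul, Algebra.linearMap_apply, map_one]
    rfl
  have hΛ : ∀ x : S' ⊗[S] R,
      (Algebra.TensorProduct.congr (AlgEquiv.refl : S' ≃ₐ[S] S') lam) x - x =
        LinearMap.lTensor S' (lam.toLinearMap - LinearMap.id) x := by
    intro x
    induction x using TensorProduct.induction_on with
    | zero => simp
    | add x y hx hy => rw [map_add, map_add, ← hx, ← hy]; abel
    | tmul a r => simp [TensorProduct.tmul_sub]
  have hrange : ∀ y : S' ⊗[S] S, ∃ a : S', y = a ⊗ₜ[S] (1 : S) := by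
    intro y
    refine ⟨TensorProduct.rid S S' y, ?_⟩
    have := (TensorProduct.rid S S').symm_apply_apply y
    rw [TensorProduct.rid_symm_apply] at this
    exact this.symm
  refine ⟨?_, fun x => ⟨fun hx => ?_, ?_⟩⟩
  · intro a b hab
    rw [halg, halg] at hab
    have h := hinj hab
    have h2 := congrArg (TensorProduct.rid S S') h
    simpa using h2
  · have h0 : LinearMap.lTensor S' (lam.toLinearMap - LinearMap.id) x = 0 := by
      rw [← hΛ x]
      exact sub_eq_zero.mpr hx
    obtain ⟨y, hy⟩ := hker x h0
    obtain ⟨a, rfl⟩ := hrange y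
    exact ⟨a, by rw [halg, hy]⟩
  · rintro ⟨a, rfl⟩
    change (Algebra.TensorProduct.congr (AlgEquiv.refl : S' ≃ₐ[S] S') lam) _ = _
    rw [Algebra.TensorProduct.algebraMap_apply]
    simp

theorem isFixedRing_baseChange_of_flat (lam : R ≃ₐ[S] R)
    (hS : RInv.IsFixedRing S R lam.toRingEquiv) [Module.Flat S S'] :
    RInv.IsFixedRing S' (S' ⊗[S] R)
      (Algebra.TensorProduct.congr (AlgEquiv.refl : S' ≃ₐ[S] S') lam).toRingEquiv := by
  have hex : Function.Exact (Algebra.linearMap S R)
      (lam.toLinearMap - (LinearMap.id : R →ₗ[S] R)) := by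
    intro r
    rw [LinearMap.sub_apply, sub_eq_zero]
    exact hS.2 r
  have hex' : Function.Exact (LinearMap.lTensor S' (Algebra.linearMap S R))
      (LinearMap.lTensor S' (lam.toLinearMap - LinearMap.id)) :=
    Module.Flat.lTensor_exact S' hex
  apply isFixedRing_of_lTensor
  · exact Module.Flat.lTensor_preserves_injective_linearMap _ hS.1
  · intro x hx
    exact (hex' x).mp hx

theorem isFixedRing_baseChange_of_isUnit_two (lam : R ≃ₐ[S] R) (hlam : Function.Involutive lam)
    (hS : RInv.IsFixedRing S R lam.toRingEquiv) (h2 : IsUnit (2 : S)) :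
    RInv.IsFixedRing S' (S' ⊗[S] R)
      (Algebra.TensorProduct.congr (AlgEquiv.refl : S' ≃ₐ[S] S') lam).toRingEquiv := by
  obtain ⟨u, hu⟩ := h2
  -- the averaging retraction
  have hfix : ∀ r : R, ∃ s : S, algebraMap S R s = r + lam r := by
    intro r
    have : lam (r + lam r) = r + lam r := by rw [map_add, hlam r, add_comm]
    exact (hS.2 _).mp this
  choose σ hσ using hfix
  let ρ : R →ₗ[S] S :=
    { toFun := fun r => (↑u⁻¹ : S) * σ r
      map_add' := fun a b => by
        rw [← mul_add]; congr 1
        apply hS.1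
        rw [map_add, hσ, hσ, hσ, map_add]; abel
      map_smul' := fun c a => by
        rw [RingHom.id_apply, smul_eq_mul, mul_left_comm]; congr 1
        apply hS.1
        rw [map_mul, hσ, hσ, map_smul, Algebra.smul_def, Algebra.smul_def, mul_add] }
  have hρ : ∀ r : R, algebraMap S R ((2 : S) * ρ r) = r + lam r := by
    intro r
    change algebraMap S R ((2 : S) * ((↑u⁻¹ : S) * σ r)) = _
    rw [← mul_assoc, ← hu, Units.mul_inv, one_mul, hσ]
  have hρι : ∀ s : S, ρ (algebraMap S R s) = s := by
    intro s
    apply hS.1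
    have h1 := hρ (algebraMap S R s)
    have h2 : lam (algebraMap S R s) = algebraMap S R s := lam.commutes s
    rw [h2, map_mul] at h1
    have h3 : algebraMap S R 2 * algebraMap S R (ρ (algebraMap S R s)) =
        algebraMap S R 2 * algebraMap S R s := by
      rw [h1, map_ofNat, two_mul]
    have hu2 : IsUnit (algebraMap S R 2) := (hu ▸ u.isUnit).map _
    exact hu2.mul_left_cancel h3
  apply isFixedRing_of_lTensor
  · apply Function.LeftInverse.injective (g := LinearMap.lTensor S' ρ)
    intro y
    rw [← LinearMap.comp_apply, ← LinearMap.lTensor_comp]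
    have : ρ ∘ₗ Algebra.linearMap S R = LinearMap.id := by
      apply LinearMap.ext; intro s; exact hρι s
    rw [this, LinearMap.lTensor_id, LinearMap.id_apply]
  · intro x hx
    refine ⟨LinearMap.lTensor S' ρ x, ?_⟩
    rw [← LinearMap.comp_apply, ← LinearMap.lTensor_comp]
    -- 2 • (ι ∘ ρ) = λ + id
    have hcomp : (2 : S) • (Algebra.linearMap S R ∘ₗ ρ) = lam.toLinearMap + LinearMap.id := by
      apply LinearMap.ext; intro r
      simp only [LinearMap.smul_apply, LinearMap.comp_apply, Algebra.linearMap_apply,
        LinearMap.add_apply, AlgEquiv.toLinearMap_apply, LinearMap.id_apply]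
      rw [Algebra.smul_def, ← map_mul, hρ, add_comm]
    have h1 : (2 : S) • LinearMap.lTensor S' (Algebra.linearMap S R ∘ₗ ρ) x = (2 : S) • x := by
      rw [← LinearMap.smul_apply, ← LinearMap.lTensor_smul, hcomp]
      have : lam.toLinearMap + LinearMap.id = (lam.toLinearMap - LinearMap.id) + (2 : S) • LinearMap.id := by
        rw [two_smul]; abel
      rw [this, LinearMap.lTensor_add, LinearMap.add_apply, hx, zero_add, LinearMap.lTensor_smul,
        LinearMap.lTensor_id, LinearMap.smul_apply, LinearMap.id_apply]
    have h2 := congrArg (fun z => (↑u⁻¹ : S) • z) h1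
    simp only [smul_smul] at h2
    rwa [← hu, Units.inv_mul, one_smul, one_smul] at h2

end Groth.Agent.H6.FR
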