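import Mathlib

/-! # Strong deformation retract data along a sequence of complexes and its colimit -/

set_option autoImplicit false
universe v u
open CategoryTheory Limits HomologicalComplex

namespace Groth.Agent.H6.FlRes

variable {B : Type u} [Category.{v} B] [Preadditive B]

/-- strong deformation retract data for a morphism of cochain complexes -/
structure SDR {K L : CochainComplex B ℤ} (i : K ⟶ L) where
  r : L ⟶ K
  ir : i ≫ r = 𝟙 K
  h : Homotopy (r ≫ i) (𝟙 L)
  ih : ∀ p q, i.f p ≫ h.hom p q = 0

section Seq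

variable (N : ℕ → CochainComplex B ℤ) (i : ∀ j, N j ⟶ N (j + 1))

/-- the composite `N 0 ⟶ N j` -/
noncomputable def incl : ∀ j, N 0 ⟶ N j
  | 0 => 𝟙 _
  | (j + 1) => incl j ≫ i j

lemma incl_succ (j : ℕ) : incl N i (j + 1) = incl N i j ≫ i j := rfl

/-- the data at stage `j` -/
structure Stage (j : ℕ) where
  R : N j ⟶ N 0
  ιR : incl N i j ≫ R = 𝟙 _
  H : Homotopy (R ≫ incl N i j) (𝟙 (N j))

variable {N i}

/-- the initial stage -/
noncomputable def Stage.zero : Stage N i 0 where
  R := 𝟙 _
  ιR := by simp [incl]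
  H := Homotopy.ofEq (by simp [incl])

/-- the next stage -/
noncomputable def Stage.next {j : ℕ} (st : Stage N i j) (s : SDR (i j)) : Stage N i (j + 1) where
  R := s.r ≫ st.R
  ιR := by
    rw [incl_succ, Category.assoc, ← Category.assoc (i j), s.ir, Category.id_comp, st.ιR]
  H := (Homotopy.ofEq (by simp [incl_succ])).trans
    ((((st.H.compLeft s.r).compRight (i j))).trans
      ((Homotopy.ofEq (by simp)).trans s.h))

lemma Stage.next_R {j : ℕ} (st : Stage N i j) (s : SDR (i j)) :
    i j ≫ (st.next s).R = st.R := by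
  change i j ≫ s.r ≫ st.R = _
  rw [← Category.assoc, s.ir, Category.id_comp]

lemma Stage.next_H {j : ℕ} (st : Stage N i j) (s : SDR (i j)) (p q : ℤ) :
    (i j).f p ≫ (st.next s).H.hom p q = st.H.hom p q ≫ (i j).f q := by
  have h1 : (st.next s).H.hom p q = s.r.f p ≫ st.H.hom p q ≫ (i j).f q + s.h.hom p q := by
    simp [Stage.next, Homotopy.trans, Homotopy.ofEq, Homotopy.compLeft, Homotopy.compRight]
  rw [h1, Preadditive.comp_add, s.ih, add_zero, ← Category.assoc, ← HomologicalComplex.comp_f,
    s.ir, HomologicalComplex.id_f, Category.id_comp]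

variable (s : ∀ j, SDR (i j))

/-- all stages -/
noncomputable def stage : ∀ j, Stage N i j
  | 0 => Stage.zero
  | (j + 1) => (stage j).next (s j)

lemma stage_succ (j : ℕ) : stage s (j + 1) = (stage s j).next (s j) := rfl

lemma incl_comp_ψ {L : CochainComplex B ℤ} (ψ : ∀ j, N j ⟶ L) (hψ : ∀ j, i j ≫ ψ (j + 1) = ψ j)
    (j : ℕ) : incl N i j ≫ ψ j = ψ 0 := by
  induction j with
  | zero => simp [incl]
  | succ j ih => rw [incl_succ, Category.assoc, hψ, ih]

lemma stage_R_succ (j : ℕ) : i j ≫ (stage s (j + 1)).R = (stage s j).R := by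
  rw [stage_succ, Stage.next_R]

lemma stage_H_succ (j : ℕ) (p q : ℤ) :
    (i j).f p ≫ (stage s (j + 1)).H.hom p q = (stage s j).H.hom p q ≫ (i j).f q := by
  rw [stage_succ, Stage.next_H]

include s in
/-- elementary form: `L` with legs `ψ` is a colimit of the sequence, degreewise as well -/
theorem exists_homotopyEquiv_aux {L : CochainComplex B ℤ} (ψ : ∀ j, N j ⟶ L)
    (hψ : ∀ j, i j ≫ ψ (j + 1) = ψ j)
    (desc : ∀ (Z : CochainComplex B ℤ) (g : ∀ j, N j ⟶ Z), (∀ j, i j ≫ g (j + 1) = g j) →
      ∃ ρ : L ⟶ Z, ∀ j, ψ j ≫ ρ = g j)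
    (desck : ∀ (p : ℤ) (Z : B) (g : ∀ j, (N j).X p ⟶ Z), (∀ j, (i j).f p ≫ g (j + 1) = g j) →
      ∃ ρ : L.X p ⟶ Z, ∀ j, (ψ j).f p ≫ ρ = g j)
    (extk : ∀ (p : ℤ) (Z : B) (a b : L.X p ⟶ Z),
      (∀ j, (ψ j).f p ≫ a = (ψ j).f p ≫ b) → a = b) :
    ∃ e : HomotopyEquiv (N 0) L, e.hom = ψ 0 := by
  obtain ⟨ρ, hρ⟩ := desc (N 0) (fun j => (stage s j).R) (stage_R_succ s)
  have hex : ∀ p q : ℤ, ∃ a : L.X p ⟶ L.X q, ∀ j, (ψ j).f p ≫ a =
      (stage s j).H.hom p q ≫ (ψ j).f q := fun p q =>
    desck p (L.X q) (fun j => (stage s j).H.hom p q ≫ (ψ j).f q) (fun j => by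
      rw [← Category.assoc, stage_H_succ, Category.assoc, ← HomologicalComplex.comp_f, hψ])
  choose hom hhom using hex
  have h0 : ψ 0 ≫ ρ = 𝟙 _ := by rw [hρ]; rfl
  refine ⟨{ hom := ψ 0
            inv := ρ
            homotopyHomInvId := Homotopy.ofEq h0
            homotopyInvHomId :=
              { hom := hom
                zero := fun p q hpq => by
                  refine extk p _ _ _ (fun j => ?_)
                  rw [hhom, (stage s j).H.zero p q hpq, zero_comp, comp_zero]
                comm := fun p => by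
                  refine extk p _ _ _ (fun j => ?_)
                  have h1 := hhom (p + 1) p j
                  have h2 := hhom p (p - 1) j
                  have h3 := (stage s j).H.comm p
                  rw [dNext_eq _ (show (ComplexShape.up ℤ).Rel p (p + 1) from rfl),
                    prevD_eq _ (show (ComplexShape.up ℤ).Rel (p - 1) p by simp)] at h3 ⊢
                  have h4 : ((stage s j).R ≫ incl N i j).f p ≫ (ψ j).f p =
                      (N j).d p (p + 1) ≫ (stage s j).H.hom (p + 1) p ≫ (ψ j).f p +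
                      (stage s j).H.hom p (p - 1) ≫ (N j).d (p - 1) p ≫ (ψ j).f p +
                      (ψ j).f p := by
                    rw [h3]
                    simp only [Preadditive.add_comp, Category.assoc, HomologicalComplex.id_f,
                      Category.id_comp]
                  have e1 : (ψ j).f p ≫ (ρ ≫ ψ 0).f p = ((stage s j).R ≫ incl N i j).f p ≫ (ψ j).f p := by
                    rw [← HomologicalComplex.comp_f, ← HomologicalComplex.comp_f, ← Category.assoc, hρ,
                      Category.assoc, incl_comp_ψ ψ hψ j]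
                  have e2 : (ψ j).f p ≫ L.d p (p + 1) ≫ hom (p + 1) p =
                      (N j).d p (p + 1) ≫ (stage s j).H.hom (p + 1) p ≫ (ψ j).f p := by
                    rw [(ψ j).comm_assoc, h1]
                  have e3 : (ψ j).f p ≫ hom p (p - 1) ≫ L.d (p - 1) p =
                      (stage s j).H.hom p (p - 1) ≫ (N j).d (p - 1) p ≫ (ψ j).f p := by
                    rw [← Category.assoc, h2, Category.assoc, (ψ j).comm]
                  rw [Preadditive.comp_add, Preadditive.comp_add, e1, e2, e3, HomologicalComplex.id_f,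
                    Category.comp_id]
                  exact h4 } }, rfl⟩

include s in
theorem exists_homotopyEquiv (c : Cocone (Functor.ofSequence i)) (hc : IsColimit c)
    (hck : ∀ k : ℤ, IsColimit ((eval B (ComplexShape.up ℤ) k).mapCocone c)) :
    ∃ e : HomotopyEquiv (N 0) c.pt, e.hom = c.ι.app 0 := by
  have hw : ∀ j, i j ≫ c.ι.app (j + 1) = c.ι.app j := fun j => by
    have := c.w (homOfLE (Nat.le_add_right j 1))
    rwa [Functor.ofSequence_map_homOfLE_succ] at this
  refine exists_homotopyEquiv_aux s (fun j => c.ι.app j) hw ?_ ?_ ?_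
  · intro Z g hg
    let c' : Cocone (Functor.ofSequence i) :=
      { pt := Z
        ι := NatTrans.ofSequence g (fun j => by
          rw [Functor.ofSequence_map_homOfLE_succ]
          exact (hg j).trans (Category.comp_id _).symm) }
    exact ⟨hc.desc c', fun j => hc.fac c' j⟩
  · intro p Z g hg
    let c' : Cocone (Functor.ofSequence i ⋙ eval B (ComplexShape.up ℤ) p) :=
      { pt := Z
        ι := NatTrans.ofSequence g (fun j => by
          change ((Functor.ofSequence i).map (homOfLE (Nat.le_add_right j 1))).f p ≫ g (j + 1) =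
            g j ≫ 𝟙 _
          rw [Functor.ofSequence_map_homOfLE_succ]
          exact (hg j).trans (Category.comp_id _).symm) }
    exact ⟨(hck p).desc c', fun j => (hck p).fac c' j⟩
  · intro p Z a b hab
    exact (hck p).hom_ext hab

end Seq

end Groth.Agent.H6.FlRes
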