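import Mathlib
import Groth.Agent.Lib.Helper6.DimZ2
import Groth.Agent.Lib.Helper6.FlRes1

/-! # One step: pushout along a split map of disks is a strong deformation retract -/

set_option autoImplicit false
universe v u
open CategoryTheory Limits HomologicalComplex

namespace Groth.Agent.H6.FlRes

open Groth.Agent.H6.DimZ

variable {B : Type u} [Category.{v} B] [Abelian B]

lemma disk_hom_ext (m : ℤ) {Z : B} {K : CochainComplex B ℤ} {φ φ' : disk m Z ⟶ K}
    (h₀ : φ.f m = φ'.f m) (h₁ : φ.f (m + 1) = φ'.f (m + 1)) : φ = φ' :=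
  from_double_hom_ext h₀ h₁

lemma diskMap_fromDisk (m : ℤ) {Z Z' : B} (g : Z ⟶ Z') {K : CochainComplex B ℤ}
    (a : Z' ⟶ K.X m) : diskMap m g ≫ fromDisk m a = fromDisk m (g ≫ a) := by
  apply disk_hom_ext
  · rw [HomologicalComplex.comp_f, diskMap_f₀, fromDisk_f₀, fromDisk_f₀]
    simp
  · rw [HomologicalComplex.comp_f, diskMap_f₁, fromDisk_f₁, fromDisk_f₁]
    simp

/-- a family of maps concentrated in bidegree `(m+1, m)` -/
noncomputable def bump (E : CochainComplex B ℤ) (m : ℤ) (g : E.X (m + 1) ⟶ E.X m) :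
    ∀ p q : ℤ, E.X p ⟶ E.X q := fun p q =>
  if h : p = m + 1 ∧ q = m then eqToHom (by rw [h.1]) ≫ g ≫ eqToHom (by rw [h.2]) else 0

lemma bump_self (E : CochainComplex B ℤ) (m : ℤ) (g : E.X (m + 1) ⟶ E.X m) :
    bump E m g (m + 1) m = g := by
  simp [bump]

lemma bump_ne (E : CochainComplex B ℤ) (m : ℤ) (g : E.X (m + 1) ⟶ E.X m) (p q : ℤ)
    (h : ¬ (p = m + 1 ∧ q = m)) : bump E m g p q = 0 := dif_neg h

section Step

variable {N : CochainComplex B ℤ} {m : ℤ} {Y : B} {ι : N.X m ⟶ Y} {ρ : Y ⟶ N.X m}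
  {E : CochainComplex B ℤ} {inl : disk m Y ⟶ E} {inr : N ⟶ E}

lemma sqk (sq : IsPushout (diskMap m ι) (fromDisk m (𝟙 (N.X m))) inl inr) (k : ℤ) :
    IsPushout ((diskMap m ι).f k) ((fromDisk m (𝟙 (N.X m))).f k) (inl.f k) (inr.f k) :=
  sq.map (eval B (ComplexShape.up ℤ) k)

/-- the retraction -/
noncomputable def retr (hρ : ι ≫ ρ = 𝟙 _)
    (sq : IsPushout (diskMap m ι) (fromDisk m (𝟙 (N.X m))) inl inr) : E ⟶ N :=
  sq.desc (fromDisk m ρ) (𝟙 N) (by rw [diskMap_fromDisk, hρ, Category.comp_id])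

lemma inr_retr (hρ : ι ≫ ρ = 𝟙 _)
    (sq : IsPushout (diskMap m ι) (fromDisk m (𝟙 (N.X m))) inl inr) :
    inr ≫ retr hρ sq = 𝟙 N := sq.inr_desc _ _ _

lemma inl_retr (hρ : ι ≫ ρ = 𝟙 _)
    (sq : IsPushout (diskMap m ι) (fromDisk m (𝟙 (N.X m))) inl inr) :
    inl ≫ retr hρ sq = fromDisk m ρ := sq.inl_desc _ _ _

/-- the auxiliary map `Y ⟶ E.X m` -/
noncomputable def auxA (ι : N.X m ⟶ Y) (ρ : Y ⟶ N.X m) (inl : disk m Y ⟶ E) :
    (disk m Y).X (m + 1) ⟶ E.X m :=
  (diskIso₁ m Y).hom ≫ (𝟙 Y - ρ ≫ ι) ≫ (diskIso₀ m Y).inv ≫ inl.f m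

lemma auxA_comp (hρ : ι ≫ ρ = 𝟙 _) : (diskMap m ι).f (m + 1) ≫ auxA ι ρ inl =
    (fromDisk m (𝟙 (N.X m))).f (m + 1) ≫ 0 := by
  rw [comp_zero, diskMap_f₁, auxA]
  simp only [Category.assoc, Iso.inv_hom_id_assoc]
  rw [← Category.assoc ι, Preadditive.comp_sub, Category.comp_id, ← Category.assoc ι ρ, hρ,
    Category.id_comp, sub_self, zero_comp, comp_zero]

/-- the homotopy in bidegree `(m+1, m)` -/
noncomputable def h₀ (hρ : ι ≫ ρ = 𝟙 _)
    (sq : IsPushout (diskMap m ι) (fromDisk m (𝟙 (N.X m))) inl inr) : E.X (m + 1) ⟶ E.X m :=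
  (sqk sq (m + 1)).desc (auxA ι ρ inl) 0 (auxA_comp hρ)

lemma inl_h₀ (hρ : ι ≫ ρ = 𝟙 _)
    (sq : IsPushout (diskMap m ι) (fromDisk m (𝟙 (N.X m))) inl inr) :
    inl.f (m + 1) ≫ h₀ hρ sq = auxA ι ρ inl := (sqk sq (m + 1)).inl_desc _ _ _

lemma inr_h₀ (hρ : ι ≫ ρ = 𝟙 _)
    (sq : IsPushout (diskMap m ι) (fromDisk m (𝟙 (N.X m))) inl inr) :
    inr.f (m + 1) ≫ h₀ hρ sq = 0 := (sqk sq (m + 1)).inr_desc _ _ _

lemma sq_m (sq : IsPushout (diskMap m ι) (fromDisk m (𝟙 (N.X m))) inl inr) :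
    ι ≫ (diskIso₀ m Y).inv ≫ inl.f m = inr.f m := by
  have := (sqk sq m).w
  rw [diskMap_f₀, fromDisk_f₀] at this
  rw [← cancel_epi (diskIso₀ m (N.X m)).hom]
  simpa using this

lemma sq_m1 (sq : IsPushout (diskMap m ι) (fromDisk m (𝟙 (N.X m))) inl inr) :
    ι ≫ (diskIso₁ m Y).inv ≫ inl.f (m + 1) = N.d m (m + 1) ≫ inr.f (m + 1) := by
  have := (sqk sq (m + 1)).w
  rw [diskMap_f₁, fromDisk_f₁] at this
  rw [← cancel_epi (diskIso₁ m (N.X m)).hom]
  simpa using this

lemma comm_m (hρ : ι ≫ ρ = 𝟙 _)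
    (sq : IsPushout (diskMap m ι) (fromDisk m (𝟙 (N.X m))) inl inr) :
    (retr hρ sq).f m ≫ inr.f m = E.d m (m + 1) ≫ (-h₀ hρ sq) + 𝟙 _ := by
  apply (sqk sq m).hom_ext
  · have h1 : inl.f m ≫ (retr hρ sq).f m = (fromDisk m ρ).f m := by
      rw [← HomologicalComplex.comp_f, inl_retr]
    rw [← Category.assoc, h1, fromDisk_f₀, Preadditive.comp_add, Preadditive.comp_neg,
      Preadditive.comp_neg, inl.comm_assoc, inl_h₀, auxA, disk_d, Category.comp_id]
    simp only [Category.assoc, Iso.inv_hom_id_assoc, Preadditive.sub_comp, Preadditive.comp_sub,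
      Category.id_comp, Iso.hom_inv_id_assoc, neg_sub]
    rw [sq_m sq]
    abel
  · have h1 : inr.f m ≫ (retr hρ sq).f m = 𝟙 _ := by
      rw [← HomologicalComplex.comp_f, inr_retr, HomologicalComplex.id_f]
    rw [← Category.assoc, h1, Category.id_comp, Preadditive.comp_add, Preadditive.comp_neg,
      Preadditive.comp_neg, inr.comm_assoc, inr_h₀, comp_zero, neg_zero, zero_add,
      Category.comp_id]

lemma comm_m1 (hρ : ι ≫ ρ = 𝟙 _)
    (sq : IsPushout (diskMap m ι) (fromDisk m (𝟙 (N.X m))) inl inr) :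
    (retr hρ sq).f (m + 1) ≫ inr.f (m + 1) = (-h₀ hρ sq) ≫ E.d m (m + 1) + 𝟙 _ := by
  apply (sqk sq (m + 1)).hom_ext
  · have h1 : inl.f (m + 1) ≫ (retr hρ sq).f (m + 1) = (fromDisk m ρ).f (m + 1) := by
      rw [← HomologicalComplex.comp_f, inl_retr]
    rw [← Category.assoc, h1, fromDisk_f₁, Preadditive.comp_add, Preadditive.neg_comp,
      Preadditive.comp_neg, ← Category.assoc (inl.f (m + 1)), inl_h₀, auxA, Category.comp_id]
    simp only [Category.assoc]
    rw [inl.comm, disk_d]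
    simp only [Category.assoc, Iso.inv_hom_id_assoc, Preadditive.sub_comp, Preadditive.comp_sub,
      Category.id_comp, Iso.hom_inv_id_assoc, neg_sub]
    rw [sq_m1 sq]
    abel
  · have h1 : inr.f (m + 1) ≫ (retr hρ sq).f (m + 1) = 𝟙 _ := by
      rw [← HomologicalComplex.comp_f, inr_retr, HomologicalComplex.id_f]
    rw [← Category.assoc, h1, Category.id_comp, Preadditive.comp_add, Preadditive.neg_comp,
      Preadditive.comp_neg, ← Category.assoc (inr.f (m + 1)), inr_h₀, zero_comp, neg_zero,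
      zero_add, Category.comp_id]

lemma comm_other (hρ : ι ≫ ρ = 𝟙 _)
    (sq : IsPushout (diskMap m ι) (fromDisk m (𝟙 (N.X m))) inl inr) (p : ℤ) (h₀ : p ≠ m)
    (h₁ : p ≠ m + 1) : (retr hρ sq).f p ≫ inr.f p = 𝟙 _ := by
  haveI : IsIso ((diskMap m ι).f p) :=
    ⟨⟨0, (isZero_disk_X m _ p h₀ h₁).eq_of_src _ _, (isZero_disk_X m _ p h₀ h₁).eq_of_src _ _⟩⟩
  haveI : IsIso (inr.f p) := (sqk sq p).isIso_inr_of_isIso
  have h1 : inr.f p ≫ (retr hρ sq).f p = 𝟙 _ := by
    rw [← HomologicalComplex.comp_f, inr_retr, HomologicalComplex.id_f]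
  rw [← cancel_epi (inr.f p), ← Category.assoc, h1, Category.id_comp, Category.comp_id]

/-- the strong deformation retract data of one step -/
noncomputable def sdr (hρ : ι ≫ ρ = 𝟙 _)
    (sq : IsPushout (diskMap m ι) (fromDisk m (𝟙 (N.X m))) inl inr) : SDR inr where
  r := retr hρ sq
  ir := inr_retr hρ sq
  h :=
    { hom := bump E m (-h₀ hρ sq)
      zero := fun p q hpq => by
        apply bump_ne
        rintro ⟨rfl, rfl⟩
        exact hpq rfl
      comm := fun p => by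
        by_cases hp₀ : p = m
        · subst hp₀
          rw [dNext_eq _ (show (ComplexShape.up ℤ).Rel p (p + 1) from rfl),
            prevD_eq _ (show (ComplexShape.up ℤ).Rel (p - 1) p by simp), bump_self,
            bump_ne _ _ _ p (p - 1) (by omega), zero_comp, add_zero, HomologicalComplex.comp_f,
            HomologicalComplex.id_f]
          exact comm_m hρ sq
        · by_cases hp₁ : p = m + 1
          · subst hp₁
            rw [dNext_eq _ (show (ComplexShape.up ℤ).Rel (m + 1) (m + 1 + 1) from rfl),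
              prevD_eq _ (show (ComplexShape.up ℤ).Rel m (m + 1) from rfl), bump_self,
              bump_ne _ _ _ (m + 1 + 1) (m + 1) (by omega), comp_zero, zero_add,
              HomologicalComplex.comp_f, HomologicalComplex.id_f]
            exact comm_m1 hρ sq
          · rw [dNext_eq _ (show (ComplexShape.up ℤ).Rel p (p + 1) from rfl),
              prevD_eq _ (show (ComplexShape.up ℤ).Rel (p - 1) p by simp),
              bump_ne _ _ _ (p + 1) p (by omega), bump_ne _ _ _ p (p - 1) (by omega),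
              comp_zero, zero_comp, add_zero, zero_add, HomologicalComplex.comp_f,
              HomologicalComplex.id_f]
            exact comm_other hρ sq p hp₀ hp₁ }
  ih := fun p q => by
    by_cases h : p = m + 1 ∧ q = m
    · obtain ⟨rfl, rfl⟩ := h
      change inr.f (q + 1) ≫ bump E q (-h₀ hρ sq) (q + 1) q = 0
      rw [bump_self, Preadditive.comp_neg, inr_h₀, neg_zero]
    · change inr.f p ≫ bump E m (-h₀ hρ sq) p q = 0
      rw [bump_ne _ _ _ _ _ h, comp_zero]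

end Step

end Groth.Agent.H6.FlRes
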