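import Mathlib
import Groth.Agent.Lib.Helper6.DimZ2
import Groth.Agent.Lib.Helper6.FlRes2

/-! # Image of an elementary modification under an additive right exact functor -/

set_option autoImplicit false
universe v v' u u'
open CategoryTheory Limits HomologicalComplex

namespace Groth.Agent.H6.FlRes

open Groth.Agent.H6.DimZ

variable {A : Type u} [Category.{v} A] [Abelian A] {B : Type u'} [Category.{v'} B] [Abelian B]

lemma fromDisk_comp (m : ℤ) {Z : A} {K K' : CochainComplex A ℤ} (a : Z ⟶ K.X m) (f : K ⟶ K') :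
    fromDisk m a ≫ f = fromDisk m (a ≫ f.f m) := by
  apply disk_hom_ext
  · rw [HomologicalComplex.comp_f, fromDisk_f₀, fromDisk_f₀, Category.assoc]
  · rw [HomologicalComplex.comp_f, fromDisk_f₁, fromDisk_f₁]
    simp

variable (G : A ⥤ B) [G.Additive]

/-- the comparison `disk m (G Z) ⟶ G_* (disk m Z)` -/
noncomputable def θinv (m : ℤ) (Z : A) :
    disk m (G.obj Z) ⟶ (G.mapHomologicalComplex (ComplexShape.up ℤ)).obj (disk m Z) :=
  fromDisk m (G.map (diskIso₀ m Z).inv)

instance (m : ℤ) (Z : A) : IsIso (θinv G m Z) := by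
  haveI : ∀ k, IsIso ((θinv G m Z).f k) := by
    intro k
    by_cases h₀ : k = m
    · subst h₀
      rw [θinv, fromDisk_f₀]
      exact (inferInstance : IsIso ((diskIso₀ k (G.obj Z) ≪≫ G.mapIso (diskIso₀ k Z).symm).hom))
    · by_cases h₁ : k = m + 1
      · subst h₁
        rw [θinv, fromDisk_f₁]
        haveI h1 : IsIso (G.map ((disk m Z).d m (m + 1))) := inferInstance
        exact (inferInstance : IsIso ((diskIso₁ m (G.obj Z) ≪≫ G.mapIso (diskIso₀ m Z).symm ≪≫
          asIso (G.map ((disk m Z).d m (m + 1)))).hom))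
      · have hz : IsZero (((G.mapHomologicalComplex (ComplexShape.up ℤ)).obj (disk m Z)).X k) :=
          G.map_isZero (isZero_disk_X m Z k h₀ h₁)
        exact ⟨⟨0, (isZero_disk_X m _ k h₀ h₁).eq_of_src _ _, hz.eq_of_src _ _⟩⟩
  exact HomologicalComplex.Hom.isIso_of_components _

lemma θinv_map_diskMap (m : ℤ) {Z Z' : A} (g : Z ⟶ Z') :
    θinv G m Z ≫ (G.mapHomologicalComplex (ComplexShape.up ℤ)).map (diskMap m g) =
      diskMap m (G.map g) ≫ θinv G m Z' := by
  rw [θinv, θinv, fromDisk_comp, diskMap_fromDisk]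
  congr 1
  have : G.map (diskIso₀ m Z).inv ≫ G.map ((diskMap m g).f m) =
      G.map g ≫ G.map (diskIso₀ m Z').inv := by
    rw [diskMap_f₀, ← G.map_comp, ← G.map_comp]
    congr 1
    simp
  exact this

lemma θinv_map_fromDisk (m : ℤ) {Z : A} {K : CochainComplex A ℤ} (a : Z ⟶ K.X m) :
    θinv G m Z ≫ (G.mapHomologicalComplex (ComplexShape.up ℤ)).map (fromDisk m a) =
      fromDisk m (G.map a) := by
  rw [θinv, fromDisk_comp]
  congr 1
  have : G.map (diskIso₀ m Z).inv ≫ G.map ((fromDisk m a).f m) = G.map a := by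
    rw [fromDisk_f₀, ← G.map_comp]
    congr 1
    simp
  exact this

variable [PreservesFiniteColimits G]

/-- the image of the elementary modification square is again such a square -/
lemma isPushout_map_elem (M : CochainComplex A ℤ) (m : ℤ) {Y : A} (ι : M.X m ⟶ Y) :
    IsPushout
      (diskMap m (G.map ι : ((G.mapHomologicalComplex (ComplexShape.up ℤ)).obj M).X m ⟶ G.obj Y))
      (fromDisk m (𝟙 (((G.mapHomologicalComplex (ComplexShape.up ℤ)).obj M).X m)))
      (θinv G m Y ≫ (G.mapHomologicalComplex (ComplexShape.up ℤ)).map (elemInl M m ι))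
      ((G.mapHomologicalComplex (ComplexShape.up ℤ)).map (elemMap M m ι)) := by
  have sq := (isPushout_elem M m ι).map (G.mapHomologicalComplex (ComplexShape.up ℤ))
  refine IsPushout.of_iso sq (asIso (θinv G m (M.X m))).symm (asIso (θinv G m Y)).symm
    (Iso.refl _) (Iso.refl _) ?_ ?_ ?_ ?_
  · dsimp
    rw [← cancel_epi (θinv G m (M.X m)), ← Category.assoc, θinv_map_diskMap]
    simp
  · dsimp
    rw [← cancel_epi (θinv G m (M.X m)), ← Category.assoc, θinv_map_fromDisk]
    simp
    rfl
  · simp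
  · simp

/-- strong deformation retract data for the image of an elementary modification -/
noncomputable def sdrMapElem (M : CochainComplex A ℤ) (m : ℤ) {Y : A} (ι : M.X m ⟶ Y)
    (ρ : G.obj Y ⟶ G.obj (M.X m)) (hρ : G.map ι ≫ ρ = 𝟙 _) :
    SDR ((G.mapHomologicalComplex (ComplexShape.up ℤ)).map (elemMap M m ι)) :=
  sdr (N := (G.mapHomologicalComplex (ComplexShape.up ℤ)).obj M) (ι := G.map ι) (ρ := ρ) hρ
    (isPushout_map_elem G M m ι)

end Groth.Agent.H6.FlRes
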