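import Mathlib
import Groth.Prelude.Def_CohCx
import Groth.Prelude.Def_CohTop
import Groth.Agent.Lib.Lead.Top.Godement

/-! # The stalk functor on abelian sheaves and the stalkwise retraction of the Godement embedding -/

set_option autoImplicit false
universe u
open CategoryTheory Limits TopologicalSpace Opposite

namespace Groth.Agent.H6.FlRes

open Groth.Agent.LD.Godement

variable {X : TopCat.{u}} (x : X)

/-- the stalk functor on abelian sheaves -/
noncomputable abbrev G₀ : CohTop.Ab X ⥤ AddCommGrpCat.{u} :=
  sheafToPresheaf (Opens.grothendieckTopology X) AddCommGrpCat.{u} ⋙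
      TopCat.Presheaf.stalkFunctor AddCommGrpCat.{u} x

open Classical in
/-- the stalk functor is a left adjoint -/
noncomputable def adjG₀ : G₀ x ⊣ skyscraperSheafFunctor x := stalkSkyscraperSheafAdjunction x

noncomputable instance : PreservesColimitsOfSize.{u, u} (G₀ x) :=
  (adjG₀ x).leftAdjoint_preservesColimits

noncomputable instance : PreservesColimitsOfSize.{0, 0} (G₀ x) :=
  preservesColimitsOfSize_shrink.{0, u, 0, u} _

instance : PreservesFiniteColimits (G₀ x) := PreservesColimitsOfSize.preservesFiniteColimits _

instance : PreservesColimitsOfShape ℕ (G₀ x) := inferInstance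

instance : (G₀ x).Additive := by
  haveI := preservesBinaryBiproducts_of_preservesBinaryCoproducts (G₀ x)
  exact Functor.additive_of_preservesBinaryBiproducts _

variable (F : CohTop.Ab X)

/-- the target of the Godement embedding -/
noncomputable abbrev gode : CohTop.Ab X := (CohTop.push (fd X)).obj (piSheaf (Xd X) (stalks F))

lemma isFlasque_gode : TopCat.Sheaf.IsFlasque (gode F) := by
  haveI := isFlasque_of_discrete (piSheaf (Xd X) (stalks F))
  exact TopCat.Sheaf.IsFlasque.pushforward_isFlasque _ _

/-- the cocone defining the retraction on stalks -/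
noncomputable def retrCoconeStalk :
    Cocone ((OpenNhds.inclusion x).op ⋙ (gode F).obj) where
  pt := TopCat.Presheaf.stalk F.obj x
  ι :=
    { app := fun U => AddCommGrpCat.ofHom
        { toFun := fun s => (s : ∀ y : ((Opens.map (fd X)).obj U.unop.1 : Opens (Xd X)),
            stalks F y.1) ⟨x, U.unop.2⟩
          map_zero' := rfl
          map_add' := fun _ _ => rfl }
      naturality := fun U V i => by
        ext s
        rfl }

/-- the retraction of the Godement embedding on stalks -/
noncomputable def retrStalk' : TopCat.Presheaf.stalk (gode F).obj x ⟶ TopCat.Presheaf.stalk F.obj x :=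
  colimit.desc ((OpenNhds.inclusion x).op ⋙ (gode F).obj) (retrCoconeStalk x F)

lemma germ_retrStalk' (U : Opens X) (hxU : x ∈ U) :
    TopCat.Presheaf.germ (gode F).obj U x hxU ≫ retrStalk' x F =
      (retrCoconeStalk x F).ι.app (op ⟨U, hxU⟩) :=
  colimit.ι_desc _ _

lemma toPi_retrStalk' :
    (TopCat.Presheaf.stalkFunctor AddCommGrpCat.{u} x).map (toPi F).hom ≫ retrStalk' x F =
      𝟙 (TopCat.Presheaf.stalk F.obj x) := by
  refine TopCat.Presheaf.stalk_hom_ext _ (fun U hxU => ?_)
  have h1 := TopCat.Presheaf.stalkFunctor_map_germ U x hxU (toPi F).hom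
  have h2 := germ_retrStalk' x F U hxU
  have h3 : (toPi F).hom.app (op U) ≫ (retrCoconeStalk x F).ι.app (op ⟨U, hxU⟩) =
      TopCat.Presheaf.germ F.obj U x hxU := by
    ext s
    rfl
  refine Eq.trans (Category.assoc _ _ _).symm ?_
  refine Eq.trans (congrArg (fun t => t ≫ retrStalk' x F) h1) ?_
  refine Eq.trans (Category.assoc _ _ _) ?_
  refine Eq.trans (congrArg (fun t => (toPi F).hom.app (op U) ≫ t) h2) ?_
  exact h3.trans (Category.comp_id _).symm

/-- the retraction of the Godement embedding on stalks -/
noncomputable def retrStalk : (G₀ x).obj (gode F) ⟶ (G₀ x).obj F := retrStalk' x F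

lemma toPi_retrStalk : (G₀ x).map (toPi F) ≫ retrStalk x F = 𝟙 _ := toPi_retrStalk' x F

end Groth.Agent.H6.FlRes
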