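import Mathlib
import Groth.Prelude.Def_CohCx
import Groth.Prelude.Def_CohTop
import Groth.Agent.Lib.Helper6.DimZ1
import Groth.Agent.Lib.Helper6.DimZ2
import Groth.Agent.Lib.Helper6.FlRes3
import Groth.Agent.Lib.Helper6.FlRes4

/-! # Flasque resolutions of bounded below complexes, stalkwise homotopy equivalences -/

set_option autoImplicit false
universe v v' u u' w
open CategoryTheory Limits HomologicalComplex TopologicalSpace Opposite

namespace Groth.Agent.H6.FlRes

open Groth.Agent.H6.DimZ Groth.Agent.LD.Godement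

section General

variable {A : Type u} [Category.{v} A] [Abelian A] [HasColimitsOfShape ℕ A]
variable (M : ℕ → CochainComplex A ℤ) (φ : ∀ j, M j ⟶ M (j + 1))

lemma colimit_w (j : ℕ) : φ j ≫ colimit.ι (Functor.ofSequence φ) (j + 1) =
    colimit.ι (Functor.ofSequence φ) j := by
  have := colimit.w (Functor.ofSequence φ) (homOfLE (Nat.le_add_right j 1))
  rwa [Functor.ofSequence_map_homOfLE_succ] at this

theorem colimit_props (hφ : ∀ j, QuasiIso (φ j))
    (hc : ∀ i : ℤ, ∃ J : ℕ, ∀ j, J ≤ j → IsIso ((φ j).f i)) :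
    (∀ j, QuasiIso (colimit.ι (Functor.ofSequence φ) j)) ∧
      ∀ (i : ℤ) (J : ℕ), (∀ j, J ≤ j → IsIso ((φ j).f i)) →
        IsIso ((colimit.ι (Functor.ofSequence φ) J).f i) := by
  let F := Functor.ofSequence φ
  have hiso : ∀ (i : ℤ) (J : ℕ), (∀ j, J ≤ j → IsIso ((φ j).f i)) →
      IsIso ((colimit.ι F J).f i) := by
    intro i J h
    exact (isEventuallyConstantFrom M φ i J h).isIso_ι_of_isColimit
      (isColimitOfPreserves (eval A (ComplexShape.up ℤ) i) (colimit.isColimit F))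
  have hw : ∀ (a b : ℕ) (hab : a ≤ b), F.map (homOfLE hab) ≫ colimit.ι F b = colimit.ι F a :=
    fun a b hab => colimit.w F (homOfLE hab)
  refine ⟨?_, hiso⟩
  intro j
  rw [quasiIso_iff]
  intro q
  obtain ⟨J₀, h₀⟩ := hc (q - 1)
  obtain ⟨J₁, h₁⟩ := hc q
  obtain ⟨J₂, h₂⟩ := hc (q + 1)
  let J := max j (max J₀ (max J₁ J₂))
  have hjJ : j ≤ J := le_max_left _ _
  have hJ₀ : J₀ ≤ J := (le_max_left _ _).trans (le_max_right _ _)
  have hJ₁ : J₁ ≤ J := ((le_max_left _ _).trans (le_max_right _ _)).trans (le_max_right _ _)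
  have hJ₂ : J₂ ≤ J := ((le_max_right _ _).trans (le_max_right _ _)).trans (le_max_right _ _)
  have i₀ := hiso (q - 1) J (fun j' hj' => h₀ j' (hJ₀.trans hj'))
  have i₁ := hiso q J (fun j' hj' => h₁ j' (hJ₁.trans hj'))
  have i₂ := hiso (q + 1) J (fun j' hj' => h₂ j' (hJ₂.trans hj'))
  haveI : QuasiIsoAt (colimit.ι F J) q := by
    rw [quasiIsoAt_iff' _ (q - 1) q (q + 1) (by simp) (by simp)]
    let θ := (shortComplexFunctor' A (ComplexShape.up ℤ) (q - 1) q (q + 1)).map (colimit.ι F J)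
    haveI : IsIso θ.τ₁ := i₀
    haveI : IsIso θ.τ₂ := i₁
    haveI : IsIso θ.τ₃ := i₂
    exact ShortComplex.quasiIso_of_epi_of_isIso_of_mono θ
  haveI : QuasiIso (F.map (homOfLE hjJ)) := quasiIso_map M φ hφ j J hjJ
  change QuasiIsoAt (colimit.ι F j) q
  rw [← hw j J hjJ]
  infer_instance

variable {D : Type u'} [Category.{v'} D] (Ψ : CochainComplex A ℤ ⥤ D)

lemma desc_of_isColimit {c : Cocone (Functor.ofSequence φ)} (h : IsColimit (Ψ.mapCocone c))
    (Z : D) (g : ∀ j, Ψ.obj (M j) ⟶ Z) (hg : ∀ j, Ψ.map (φ j) ≫ g (j + 1) = g j) :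
    ∃ ρ : Ψ.obj c.pt ⟶ Z, ∀ j, Ψ.map (c.ι.app j) ≫ ρ = g j := by
  let c' : Cocone (Functor.ofSequence φ ⋙ Ψ) :=
    { pt := Z
      ι := NatTrans.ofSequence g (fun j => by
        change Ψ.map ((Functor.ofSequence φ).map (homOfLE (Nat.le_add_right j 1))) ≫ g (j + 1) =
          g j ≫ 𝟙 _
        rw [Functor.ofSequence_map_homOfLE_succ]
        exact (hg j).trans (Category.comp_id _).symm) }
  exact ⟨h.desc c', fun j => h.fac c' j⟩

lemma ext_of_isColimit {c : Cocone (Functor.ofSequence φ)} (h : IsColimit (Ψ.mapCocone c))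
    (Z : D) (a b : Ψ.obj c.pt ⟶ Z)
    (hab : ∀ j, Ψ.map (c.ι.app j) ≫ a = Ψ.map (c.ι.app j) ≫ b) : a = b :=
  h.hom_ext hab

end General

section Flasque

variable {X : TopCat.{u}}

lemma isFlasque_of_iso {F F' : CohTop.Ab X} (e : F ≅ F') (h : TopCat.Sheaf.IsFlasque F) :
    TopCat.Sheaf.IsFlasque F' := by
  constructor
  intro U V i
  have h1 : F'.obj.map i = e.inv.hom.app U ≫ F.obj.map i ≫ e.hom.hom.app V := by
    rw [← e.inv.hom.naturality_assoc]
    have : e.inv.hom.app V ≫ e.hom.hom.app V = 𝟙 _ := by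
      have h2 := congrArg (fun t => t.hom.app V) e.inv_hom_id
      exact h2
    rw [this, Category.comp_id]
  haveI : IsIso (e.inv.hom.app U) :=
    (inferInstance : IsIso (((sheafToPresheaf _ _ ⋙ (evaluation _ _).obj U).mapIso e.symm).hom))
  haveI : IsIso (e.hom.hom.app V) :=
    (inferInstance : IsIso (((sheafToPresheaf _ _ ⋙ (evaluation _ _).obj V).mapIso e).hom))
  haveI := h.epi i
  rw [h1]
  infer_instance

lemma isFlasque_of_isZero {F : CohTop.Ab X} (h : IsZero F) : TopCat.Sheaf.IsFlasque F := by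
  constructor
  intro U V i
  have hz : IsZero (F.obj.obj V) :=
    (sheafToPresheaf (Opens.grothendieckTopology X) AddCommGrpCat.{u} ⋙
      (evaluation _ _).obj V).map_isZero h
  exact ⟨fun _ _ _ => hz.eq_of_src _ _⟩

end Flasque

section Main

variable {X : TopCat.{u}} (F : CochainComplex (CohTop.Ab X) ℤ) (a : ℤ)

/-- the sequence of complexes -/
noncomputable def seqM : ℕ → CochainComplex (CohTop.Ab X) ℤ
  | 0 => F
  | (j + 1) => elem (seqM j) (a + j) (toPi ((seqM j).X (a + j)))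

/-- the transition maps -/
noncomputable def seqφ (j : ℕ) : seqM F a j ⟶ seqM F a (j + 1) :=
  elemMap (A := CohTop.Ab X) (seqM F a j) (a + j) (toPi ((seqM F a j).X (a + j)))

instance (j : ℕ) : QuasiIso (seqφ F a j) := by
  exact quasiIso_elemMap (A := CohTop.Ab X) (seqM F a j) (a + j) (toPi ((seqM F a j).X (a + j)))

lemma isIso_seqφ_f (j : ℕ) (k : ℤ) (hk : k < a + j) : IsIso ((seqφ F a j).f k) :=
  isIso_elemMap_f (A := CohTop.Ab X) (seqM F a j) (a + j) (toPi ((seqM F a j).X (a + j))) k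
    (by omega) (by omega)

lemma isFlasque_seqM (hF : F.IsStrictlyGE a) :
    ∀ (j : ℕ) (k : ℤ), k < a + j → TopCat.Sheaf.IsFlasque ((seqM F a j).X k) := by
  intro j
  induction j with
  | zero =>
    intro k hk
    exact isFlasque_of_isZero (F.isZero_of_isStrictlyGE a k (by simpa using hk))
  | succ j ih =>
    intro k hk
    by_cases h : k = a + j
    · subst h
      exact isFlasque_of_iso (elemIso₀ (A := CohTop.Ab X) (seqM F a j) (a + j)
        (toPi ((seqM F a j).X (a + j)))).symm (isFlasque_gode _)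
    · have hk' : k < a + j := by push_cast at hk; omega
      haveI := isIso_seqφ_f F a j k hk'
      exact isFlasque_of_iso (asIso ((seqφ F a j).f k)) (ih k hk')

lemma stab (k : ℤ) : ∀ j, (k - a + 1).toNat ≤ j → IsIso ((seqφ F a j).f k) := by
  intro j hj
  apply isIso_seqφ_f
  have : k - a + 1 ≤ (j : ℤ) := by
    have := Int.self_le_toNat (k - a + 1)
    have h2 : ((k - a + 1).toNat : ℤ) ≤ (j : ℤ) := by exact_mod_cast hj
    omega
  omega

theorem main (hF : F.IsStrictlyGE a) :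
    ∃ (G : CochainComplex (CohTop.Ab X) ℤ) (φ : F ⟶ G), G.IsStrictlyGE a ∧ QuasiIso φ ∧
      (∀ n : ℤ, TopCat.Sheaf.IsFlasque (G.X n)) ∧
      ∀ x : X, ∃ e : HomotopyEquiv ((CohCx.stalkCx x).obj F) ((CohCx.stalkCx x).obj G),
        e.hom = (CohCx.stalkCx x).map φ := by
  let Fs := Functor.ofSequence (seqφ F a)
  let G := colimit Fs
  let ψ : ∀ j, seqM F a j ⟶ G := fun j => colimit.ι Fs j
  obtain ⟨hq, hiso⟩ := colimit_props (A := CohTop.Ab X) (seqM F a) (seqφ F a) inferInstance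
    (fun k => ⟨_, stab F a k⟩)
  have hisoJ : ∀ k : ℤ, IsIso ((ψ (k - a + 1).toNat).f k) := fun k => hiso k _ (stab F a k)
  have hJ : ∀ k : ℤ, k < a + ((k - a + 1).toNat : ℕ) := fun k => by
    have := Int.self_le_toNat (k - a + 1)
    omega
  refine ⟨G, ψ 0, ?_, hq 0, ?_, ?_⟩
  · rw [CochainComplex.isStrictlyGE_iff]
    intro k hk
    have h0 : (k - a + 1).toNat = 0 := by
      rw [Int.toNat_eq_zero]
      omega
    have h := hisoJ k
    rw [h0] at h
    exact (F.isZero_of_isStrictlyGE a k hk).of_iso (asIso ((ψ 0).f k)).symm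
  · intro n
    haveI := hisoJ n
    exact isFlasque_of_iso (asIso ((ψ (n - a + 1).toNat).f n))
      (isFlasque_seqM F a hF _ n (hJ n))
  · intro x
    let Φ := CohCx.stalkCx x
    have hcΦ : IsColimit (Φ.mapCocone (colimit.cocone Fs)) :=
      isColimitOfPreserves Φ (colimit.isColimit Fs)
    have hcΦk : ∀ p : ℤ, IsColimit ((Φ ⋙ eval _ (ComplexShape.up ℤ) p).mapCocone
        (colimit.cocone Fs)) := fun p =>
      isColimitOfPreserves (Φ ⋙ eval _ (ComplexShape.up ℤ) p) (colimit.isColimit Fs)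
    refine exists_homotopyEquiv_aux (N := fun j => Φ.obj (seqM F a j))
      (i := fun j => Φ.map (seqφ F a j))
      (fun j => sdrMapElem (G₀ x) (seqM F a j) (a + j) (toPi ((seqM F a j).X (a + j)))
        (retrStalk x _) (toPi_retrStalk x _))
      (fun j => Φ.map (ψ j)) ?_ ?_ ?_ ?_
    · intro j
      rw [← Φ.map_comp]
      congr 1
      exact colimit_w (A := CohTop.Ab X) (seqM F a) (seqφ F a) j
    · intro Z g hg
      exact desc_of_isColimit (A := CohTop.Ab X) (seqM F a) (seqφ F a) Φ hcΦ Z g hg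
    · intro p Z g hg
      exact desc_of_isColimit (A := CohTop.Ab X) (seqM F a) (seqφ F a) (Φ ⋙ eval _ (ComplexShape.up ℤ) p)
        (hcΦk p) Z g hg
    · intro p Z f g hfg
      exact ext_of_isColimit (A := CohTop.Ab X) (seqM F a) (seqφ F a) (Φ ⋙ eval _ (ComplexShape.up ℤ) p)
        (hcΦk p) Z f g hfg

end Main

end Groth.Agent.H6.FlRes
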