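import Mathlib
import Groth.Agent.Lib.Helper6.InjHullLocal
import Groth.Agent.Lib.Helper6.MatlisComplete

/-! Flat base change of the injective hull of the residue field (Foxby): torsion submodules. -/

universe u
open TensorProduct

namespace Groth.Agent.H6

namespace FlatHull

section Torsion

variable {A : Type u} [CommRing A] (B : Type u) [CommRing B] [Algebra A B] [Module.Flat A B]
variable (E : Type u) [AddCommGroup E] [Module A E]

/-- the map `x ↦ (a • x)_{a ∈ s}` -/
noncomputable def smulPi (s : Finset A) : E →ₗ[A] (s → E) :=
  LinearMap.pi fun a => (a : A) • LinearMap.id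

theorem ker_smulPi (s : Finset A) :
    LinearMap.ker (smulPi E s) = Submodule.torsionBySet A E ((Ideal.span (s : Set A) : Ideal A) : Set A) := by
  rw [← Submodule.torsionBySet_eq_torsionBySet_span]
  ext x
  rw [LinearMap.mem_ker, Submodule.mem_torsionBySet_iff]
  constructor
  · intro h a
    exact congrFun h ⟨a.1, a.2⟩
  · intro h
    funext a
    exact h ⟨a.1, a.2⟩

theorem lTensor_smulPi_eq_zero_iff (s : Finset A) (y : B ⊗[A] E) :
    (smulPi E s).lTensor B y = 0 ↔ ∀ a ∈ s, (algebraMap A B a) • y = 0 := by
  classical
  have key : ∀ (a : s) (y : B ⊗[A] E),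
      TensorProduct.piRight A A B (fun _ : s => E) ((smulPi E s).lTensor B y) a =
        (algebraMap A B a) • y := by
    intro a y
    induction y using TensorProduct.induction_on with
    | zero => rw [map_zero, map_zero, smul_zero]; rfl
    | tmul b x =>
      rw [LinearMap.lTensor_tmul, TensorProduct.piRight_apply, TensorProduct.piRightHom_tmul,
        TensorProduct.smul_tmul', smul_eq_mul, ← Algebra.smul_def,
        TensorProduct.smul_tmul]
      rfl
    | add y y' hy hy' => rw [map_add, map_add, smul_add, ← hy, ← hy']; rfl
  constructor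
  · intro h a ha
    rw [← key ⟨a, ha⟩ y, h, map_zero]
    rfl
  · intro h
    apply (TensorProduct.piRight A A B (fun _ : s => E)).injective
    rw [map_zero]
    funext a
    rw [key a y]
    exact h a a.2

/-- **flat base change of torsion** -/
theorem torsion_baseChange (I : Ideal A) (hI : I.FG) :
    Submodule.torsionBySet B (B ⊗[A] E) ((I.map (algebraMap A B) : Ideal B) : Set B) =
      (Submodule.torsionBySet A E (I : Set A)).baseChange B := by
  obtain ⟨s, rfl⟩ := hI
  rw [← ker_smulPi E s]
  have hex : Function.Exact (LinearMap.ker (smulPi E s)).subtype (smulPi E s) :=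
    LinearMap.exact_subtype_ker_map _
  have hex' := Module.Flat.lTensor_exact B hex
  ext y
  have h1 : y ∈ (LinearMap.ker (smulPi E s)).baseChange B ↔
      y ∈ Set.range ((LinearMap.ker (smulPi E s)).subtype.lTensor B) := by
    rw [Submodule.baseChange, LinearMap.mem_range, Set.mem_range]
    rfl
  rw [h1, ← hex' y, lTensor_smulPi_eq_zero_iff, Ideal.map_span,
    ← Submodule.torsionBySet_eq_torsionBySet_span, Submodule.mem_torsionBySet_iff]
  constructor
  · intro h a ha
    exact h ⟨_, a, ha, rfl⟩
  · rintro h ⟨_, a, ha, rfl⟩
    exact h a ha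

end Torsion

end FlatHull

end Groth.Agent.H6
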