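import Groth.Agent.Lib.Helper6.FlatHull1

/-! Flat base change of the injective hull of the residue field (Foxby): the core theorem. -/

universe u
set_option linter.unusedSectionVars false
open TensorProduct IsLocalRing InjHull

namespace Groth.Agent.H6

namespace FlatHull

section Core

variable {A : Type u} [CommRing A] [IsLocalRing A] [IsNoetherianRing A]
  {B : Type u} [CommRing B] [IsLocalRing B] [IsNoetherianRing B] [Algebra A B] [Module.Flat A B]
variable {E : Type u} [AddCommGroup E] [Module A E]

/-- elements `b ⊗ x` with `I x = 0` are killed by `I B` -/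
theorem smul_tmul_eq_zero (I : Ideal A) {x : E} (hx : ∀ a ∈ I, a • x = 0) (b : B)
    {c : B} (hc : c ∈ I.map (algebraMap A B)) : c • (b ⊗ₜ[A] x) = 0 := by
  rw [Ideal.map] at hc
  induction hc using Submodule.span_induction with
  | mem c hc =>
    obtain ⟨a, ha, rfl⟩ := hc
    rw [TensorProduct.smul_tmul', smul_eq_mul, ← Algebra.smul_def, TensorProduct.smul_tmul,
      hx a ha, tmul_zero]
  | zero => rw [zero_smul]
  | add c c' _ _ h h' => rw [add_smul, h, h', add_zero]
  | smul r c _ h => rw [smul_eq_mul, mul_smul, h, smul_zero]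

theorem powerTorsion_tensor (hE : LocCoh.IsPowerTorsion (maximalIdeal A) E) (s : ℕ)
    (hs : maximalIdeal B ^ s ≤ (maximalIdeal A).map (algebraMap A B)) :
    LocCoh.IsPowerTorsion (maximalIdeal B) (B ⊗[A] E) := by
  intro y
  induction y using TensorProduct.induction_on with
  | zero => exact ⟨0, fun a _ => smul_zero a⟩
  | tmul b x =>
    obtain ⟨n, hn⟩ := hE x
    refine ⟨s * n, fun c hc => ?_⟩
    have h1 : c ∈ ((maximalIdeal A) ^ n).map (algebraMap A B) := by
      rw [Ideal.map_pow]
      rw [pow_mul] at hc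
      exact Ideal.pow_right_mono hs n hc
    exact smul_tmul_eq_zero _ hn b h1
  | add y y' hy hy' =>
    obtain ⟨n, hn⟩ := hy
    obtain ⟨n', hn'⟩ := hy'
    refine ⟨max n n', fun c hc => ?_⟩
    rw [smul_add, hn c (Ideal.pow_le_pow_right (le_max_left n n') hc),
      hn' c (Ideal.pow_le_pow_right (le_max_right n n') hc), add_zero]

variable (B) in
/-- the map `B/𝔪B → B ⊗ E`, `b ↦ b ⊗ f(1)` -/
noncomputable def theta (f : (A ⧸ maximalIdeal A) →ₗ[A] E) :
    (B ⧸ (maximalIdeal A).map (algebraMap A B)) →ₗ[B] B ⊗[A] E :=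
  (f.baseChange B) ∘ₗ
    (Algebra.TensorProduct.quotIdealMapEquivTensorQuot B (maximalIdeal A)).toLinearEquiv.toLinearMap

theorem theta_injective {f : (A ⧸ maximalIdeal A) →ₗ[A] E} (hf : Function.Injective f) :
    Function.Injective (theta B f) := by
  have h1 : Function.Injective (f.baseChange B) := by
    rw [LinearMap.baseChange_eq_ltensor]
    exact Module.Flat.lTensor_preserves_injective_linearMap f hf
  exact h1.comp (Algebra.TensorProduct.quotIdealMapEquivTensorQuot B (maximalIdeal A)).injective

theorem torsion_le_range_theta {f : (A ⧸ maximalIdeal A) →ₗ[A] E} (hf : IsInjectiveHull f) :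
    Submodule.torsionBySet B (B ⊗[A] E)
      (((maximalIdeal A).map (algebraMap A B) : Ideal B) : Set B) ≤ LinearMap.range (theta B f) := by
  rw [torsion_baseChange B E (maximalIdeal A) (IsNoetherian.noetherian _),
    IH.torsionBySet_eq_range (maximalIdeal A) hf.toIsEssentialInj]
  rintro _ ⟨z, rfl⟩
  induction z using TensorProduct.induction_on with
  | zero => rw [map_zero]; exact zero_mem _
  | tmul b x =>
    obtain ⟨x, c, rfl⟩ := x
    refine ⟨(Algebra.TensorProduct.quotIdealMapEquivTensorQuot B (maximalIdeal A)).symm (b ⊗ₜ c), ?_⟩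
    change (f.baseChange B) ((Algebra.TensorProduct.quotIdealMapEquivTensorQuot B (maximalIdeal A))
      ((Algebra.TensorProduct.quotIdealMapEquivTensorQuot B (maximalIdeal A)).symm (b ⊗ₜ c))) = _
    rw [AlgEquiv.apply_symm_apply]
    rfl
  | add z z' hz hz' => rw [map_add]; exact add_mem hz hz'

/-- the socle of `B ⊗ E` is generated by the image of a generator of the socle of `B/𝔪B` -/
theorem socle_tensor {f : (A ⧸ maximalIdeal A) →ₗ[A] E} (hf : IsInjectiveHull f)
    (hJ : (maximalIdeal A).map (algebraMap A B) ≤ maximalIdeal B)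
    (x₀ : B ⧸ (maximalIdeal A).map (algebraMap A B))
    (hx₀ : ∀ y : B ⧸ (maximalIdeal A).map (algebraMap A B),
      (∀ b ∈ maximalIdeal B, b • y = 0) → ∃ b : B, y = b • x₀)
    (y : B ⊗[A] E) (hy : ∀ b ∈ maximalIdeal B, b • y = 0) : ∃ b : B, y = b • theta B f x₀ := by
  have h1 : y ∈ Submodule.torsionBySet B (B ⊗[A] E)
      (((maximalIdeal A).map (algebraMap A B) : Ideal B) : Set B) := by
    rw [Submodule.mem_torsionBySet_iff]
    rintro ⟨b, hb⟩
    exact hy b (hJ hb)
  obtain ⟨c, rfl⟩ := torsion_le_range_theta hf h1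
  obtain ⟨b, rfl⟩ := hx₀ c (fun b hb => by
    apply theta_injective hf.injective
    rw [map_smul, map_zero]
    exact hy b hb)
  exact ⟨b, map_smul _ _ _⟩

end Core


section Main

variable {A : Type u} [CommRing A] [IsLocalRing A] [IsNoetherianRing A]
  {B : Type u} [CommRing B] [IsLocalRing B] [IsNoetherianRing B] [Algebra A B] [Module.Flat A B]
variable {E : Type u} [AddCommGroup E] [Module A E]

/-- Matlis duality: the length of `E[𝔪^n]` -/
theorem length_torsion_pow {f : (A ⧸ maximalIdeal A) →ₗ[A] E} (hf : IsInjectiveHull f) (n : ℕ) :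
    Module.length A (Submodule.torsionBySet A E ((maximalIdeal A ^ n : Ideal A) : Set A)) =
      Module.length A (A ⧸ maximalIdeal A ^ n) := by
  rw [← (IH.homQuotEquiv (maximalIdeal A ^ n) E).length_eq]
  exact IH.length_hom_eq hf _ (IH.isFiniteLength_quot_pow n)

/-- the length of `B / 𝔪^n B` -/
theorem length_quot_map_pow [IsLocalHom (algebraMap A B)] (n : ℕ) :
    Module.length B (B ⧸ (maximalIdeal A ^ n).map (algebraMap A B)) =
      Module.length A (A ⧸ maximalIdeal A ^ n) *
        Module.length B (B ⧸ (maximalIdeal A).map (algebraMap A B)) := by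
  rw [(Algebra.TensorProduct.quotIdealMapEquivTensorQuot B
    (maximalIdeal A ^ n)).toLinearEquiv.length_eq]
  exact IsLocalRing.length_baseChange A B _

/-- **Foxby**: for a flat local homomorphism `A → B` of Noetherian local rings whose closed fibre
`B/𝔪B` has finite length and a cyclic socle, `B ⊗ E_A(k_A)` is an injective hull of `k_B`. -/
theorem exists_hull_tensor {f : (A ⧸ maximalIdeal A) →ₗ[A] E} (hf : IsInjectiveHull f)
    (hJ : (maximalIdeal A).map (algebraMap A B) ≤ maximalIdeal B)
    (s : ℕ) (hs : maximalIdeal B ^ s ≤ (maximalIdeal A).map (algebraMap A B))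
    (hfl : Module.length B (B ⧸ (maximalIdeal A).map (algebraMap A B)) ≠ ⊤)
    (x₀ : B ⧸ (maximalIdeal A).map (algebraMap A B)) (hx₀0 : x₀ ≠ 0)
    (hx₀m : ∀ b ∈ maximalIdeal B, b • x₀ = 0)
    (hx₀ : ∀ y : B ⧸ (maximalIdeal A).map (algebraMap A B),
      (∀ b ∈ maximalIdeal B, b • y = 0) → ∃ b : B, y = b • x₀) :
    ∃ g : (B ⧸ maximalIdeal B) →ₗ[B] B ⊗[A] E, IsInjectiveHull g := by
  haveI : IsLocalHom (algebraMap A B) :=
    ((IsLocalRing.local_hom_TFAE (algebraMap A B)).out 2 0).mp hJ
  -- the element generating the socle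
  set w : B ⊗[A] E := theta B f x₀ with hw
  have hw0 : w ≠ 0 := fun h => hx₀0 (theta_injective hf.injective (h.trans (map_zero _).symm))
  have hwm : ∀ b ∈ maximalIdeal B, b • w = 0 := fun b hb => by
    rw [hw, ← map_smul, hx₀m b hb, map_zero]
  have hpt : LocCoh.IsPowerTorsion (maximalIdeal B) (B ⊗[A] E) :=
    powerTorsion_tensor (IH.powerTorsion_of_hull (maximalIdeal A) hf) s hs
  -- the map `f₀`
  let f₀ : (B ⧸ maximalIdeal B) →ₗ[B] B ⊗[A] E :=
    Submodule.liftQ (maximalIdeal B) (LinearMap.toSpanSingleton B (B ⊗[A] E) w) (by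
      intro b hb
      rw [LinearMap.mem_ker, LinearMap.toSpanSingleton_apply]
      exact hwm b hb)
  have hf₀1 : ∀ b : B, f₀ (Ideal.Quotient.mk _ b) = b • w := fun b => rfl
  have hf₀inj : Function.Injective f₀ := by
    rw [← LinearMap.ker_eq_bot]
    haveI := IH.isSimpleModule_residue (R := B)
    rcases eq_bot_or_eq_top (LinearMap.ker f₀) with h | h
    · exact h
    · exfalso
      have h1 : Ideal.Quotient.mk (maximalIdeal B) 1 ∈ LinearMap.ker f₀ := by rw [h]; trivial
      rw [LinearMap.mem_ker, hf₀1, one_smul] at h1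
      exact hw0 h1
  have hess : IsEssentialInj f₀ := by
    rw [IH.isEssentialInj_iff]
    refine ⟨hf₀inj, fun y hy => ?_⟩
    obtain ⟨r, hr0, hr⟩ := IH.exists_smul_mem_torsionBySet (maximalIdeal B) hy (hpt y)
    refine ⟨r, hr0, ?_⟩
    obtain ⟨b, hb⟩ := socle_tensor hf hJ x₀ hx₀ (r • y)
      (fun b hb => (Submodule.mem_torsionBySet_iff _ _).mp hr ⟨b, hb⟩)
    exact ⟨Ideal.Quotient.mk _ b, by rw [hf₀1, hb]⟩
  -- an injective hull of the residue field of `B`
  obtain ⟨EB, _, _, g, hg⟩ := IH.exists_injectiveHull (R := B) (B ⧸ maximalIdeal B)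
  haveI := hg.isInjective
  obtain ⟨α, hα⟩ := Module.Injective.extension_property B EB _ _ f₀ hf₀inj g
  have hαinj : Function.Injective α :=
    IH.injective_of_comp_injective hess α (by rw [hα]; exact hg.injective)
  -- surjectivity by lengths
  have hαsurj : Function.Surjective α := by
    intro z
    obtain ⟨n, hn⟩ := IH.powerTorsion_of_hull (maximalIdeal B) hg z
    let I : Ideal B := (maximalIdeal A ^ n).map (algebraMap A B)
    let T := Submodule.torsionBySet A E ((maximalIdeal A ^ n : Ideal A) : Set A)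
    let Y : Submodule B (B ⊗[A] E) := T.baseChange B
    let Z : Submodule B EB := Submodule.torsionBySet B EB (I : Set B)
    have hYZ : ∀ y ∈ Y, α y ∈ Z := by
      intro y hy
      rw [Submodule.mem_torsionBySet_iff]
      rintro ⟨c, hc⟩
      change c • α y = 0
      rw [← map_smul]
      have h1 : y ∈ Submodule.torsionBySet B (B ⊗[A] E) (I : Set B) := by
        rw [torsion_baseChange B E _ (IsNoetherian.noetherian _)]
        exact hy
      rw [(Submodule.mem_torsionBySet_iff _ _).mp h1 ⟨c, hc⟩, map_zero]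
    let αn : Y →ₗ[B] Z := α.restrict hYZ
    have hαn : Function.Injective αn := fun a b h =>
      Subtype.ext (hαinj (congrArg Subtype.val h))
    have hlenY : Module.length B Y = Module.length A (A ⧸ maximalIdeal A ^ n) *
        Module.length B (B ⧸ (maximalIdeal A).map (algebraMap A B)) := by
      rw [← (Submodule.toBaseChange.toLinearEquiv B T).length_eq,
        IsLocalRing.length_baseChange A B T, length_torsion_pow hf n]
    have hlenI : Module.length B (B ⧸ I) = Module.length A (A ⧸ maximalIdeal A ^ n) *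
        Module.length B (B ⧸ (maximalIdeal A).map (algebraMap A B)) := length_quot_map_pow n
    have hfinI : Module.length B (B ⧸ I) ≠ ⊤ := by
      rw [hlenI]
      exact WithTop.mul_ne_top (Module.length_ne_top_iff.mpr (IH.isFiniteLength_quot_pow n)) hfl
    have hlenZ : Module.length B Z = Module.length B (B ⧸ I) := by
      rw [← (IH.homQuotEquiv I EB).length_eq]
      exact IH.length_hom_eq hg _ (Module.length_ne_top_iff.mp hfinI)
    have hsurj : Function.Surjective αn :=
      IH.surjective_of_injective_of_length_le αn hαn (by rw [hlenZ]; exact hfinI)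
        (hlenZ.trans (hlenI.trans hlenY.symm)).le
    have hz : z ∈ Z := by
      rw [Submodule.mem_torsionBySet_iff]
      rintro ⟨c, hc⟩
      apply hn
      have hle : I ≤ maximalIdeal B ^ n := by
        change (maximalIdeal A ^ n).map (algebraMap A B) ≤ _
        rw [Ideal.map_pow]
        exact Ideal.pow_right_mono hJ n
      exact hle hc
    obtain ⟨y, hy⟩ := hsurj ⟨z, hz⟩
    exact ⟨y, congrArg Subtype.val hy⟩
  let e : (B ⊗[A] E) ≃ₗ[B] EB := LinearEquiv.ofBijective α ⟨hαinj, hαsurj⟩
  exact ⟨f₀, hess, IH.injective_of_equiv e.symm⟩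

end Main

end FlatHull

end Groth.Agent.H6
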