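import Mathlib
import Groth.Prelude.Def_Wider
import Groth.Agent.Lib.Helper6.InjHullLocal

set_option autoImplicit false
universe u
open InjHull TensorProduct

namespace Groth.Agent.H6.FlatHullRes

/-- injective over a flat extension implies injective over the base -/
theorem injective_of_flat (R S : Type u) [CommRing R] [CommRing S] [Algebra R S] [Module.Flat R S]
    (E : Type u) [AddCommGroup E] [Module S E] [Module R E] [IsScalarTower R S E]
    [hE : Module.Injective S E] : Module.Injective R E := by
  apply Module.Baer.injective
  intro I g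
  let j : S ⊗[R] I →ₗ[S] S :=
    (TensorProduct.AlgebraTensorModule.rid R S S).toLinearMap ∘ₗ (LinearMap.baseChange S I.subtype)
  have hj : Function.Injective j := by
    refine (TensorProduct.AlgebraTensorModule.rid R S S).injective.comp ?_
    exact Module.Flat.lTensor_preserves_injective_linearMap (M := S) I.subtype
      Subtype.val_injective
  let G : S ⊗[R] I →ₗ[S] E := LinearMap.liftBaseChange S g
  obtain ⟨h, hh⟩ := hE.out j hj G
  refine ⟨(h.restrictScalars R) ∘ₗ (Algebra.linearMap R S), fun x hx => ?_⟩
  have h1 : j (1 ⊗ₜ[R] (⟨x, hx⟩ : I)) = algebraMap R S x := by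
    simp [j, Algebra.smul_def]
  have h2 := hh (1 ⊗ₜ[R] (⟨x, hx⟩ : I))
  rw [h1] at h2
  simp only [LinearMap.coe_comp, LinearMap.coe_restrictScalars, Function.comp_apply,
    Algebra.linearMap_apply]
  rw [h2]
  simp [G]

end Groth.Agent.H6.FlatHullRes
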