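import Mathlib
import Groth.Prelude
import Groth.Agent.Lib.Helper6.HC1

universe u
open CategoryTheory CategoryTheory.Limits AlgebraicGeometry TopologicalSpace Opposite

set_option linter.unusedSectionVars false
set_option linter.unusedSimpArgs false
set_option linter.style.haveILetI false
namespace Groth.Agent.H6.FlatIrr

/-- Let `ζ : Z ⟶ X` be finite flat with `X` irreducible. A subset of `Z` stable under
generalization and specialization is closed. -/
theorem isClosed_of_stable {X Z : Scheme.{u}} [IrreducibleSpace X] (ζ : Z ⟶ X) [IsFinite ζ] [Flat ζ]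
    (S : Set Z) (hgen : ∀ z ∈ S, ∀ z', z' ⤳ z → z' ∈ S) (hspec : ∀ z ∈ S, ∀ z', z ⤳ z' → z' ∈ S) :
    IsClosed S := by
  let ξ : X := genericPoint X
  let F : Set Z := ζ.base ⁻¹' {ξ}
  have hF : F.Finite := ζ.finite_preimage_singleton ξ
  have hg : GeneralizingMap ζ.base := Flat.generalizingMap ζ
  have hcov : ∀ z : Z, ∃ η ∈ F, η ⤳ z := by
    intro z
    have h1 : ξ ⤳ ζ.base z := genericPoint_specializes _
    obtain ⟨η, hη, hηξ⟩ := hg h1
    exact ⟨η, hηξ, hη⟩
  have hS : S = ⋃ η ∈ F ∩ S, closure {η} := by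
    ext z
    simp only [Set.mem_iUnion]
    constructor
    · intro hz
      obtain ⟨η, hη, hηz⟩ := hcov z
      exact ⟨η, ⟨hη, hgen z hz η hηz⟩, specializes_iff_mem_closure.mp hηz⟩
    · rintro ⟨η, ⟨-, hηS⟩, hz⟩
      exact hspec η hηS z (specializes_iff_mem_closure.mpr hz)
  rw [hS]
  exact (hF.subset Set.inter_subset_left).isClosed_biUnion fun _ _ => isClosed_closure

theorem s18402 {X W : Scheme.{u}}
    [IrreducibleSpace X] (π : W ⟶ X) [Flat π] [GeometricallyIrreducible π]
    (Z : FEt.Cat X) [ConnectedSpace Z.left] :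
    ConnectedSpace ↥(pullback Z.hom π) := by
  let ζ : Z.left ⟶ X := Z.hom
  haveI : IsFinite ζ := Z.prop.1
  haveI : Etale ζ := Z.prop.2
  change ConnectedSpace ↥(pullback ζ π)
  let p := pullback.fst ζ π
  haveI : Flat p := inferInstance
  haveI : GeometricallyIrreducible p := inferInstance
  have hsurj : Function.Surjective p.base := p.surjective
  have hg : GeneralizingMap p.base := Flat.generalizingMap p
  have hfib : ∀ z, _root_.IsPreconnected (p.base ⁻¹' {z}) := by
    intro z
    have h1 : IsIrreducible (p.base ⁻¹' {z}) := by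
      rw [← p.range_fiberι, ← Set.image_univ]
      exact (IrreducibleSpace.isIrreducible_univ _).image _ (p.fiberι _).continuous.continuousOn
    exact h1.isPreirreducible.isPreconnected
  have hgenC : ∀ C : Set ↥(pullback ζ π), IsOpen C → ∀ z ∈ p.base '' C, ∀ z', z' ⤳ z →
      z' ∈ p.base '' C := by
    rintro C hC _ ⟨c, hc, rfl⟩ z' hz'
    obtain ⟨c', hc', hc'z⟩ := hg hz'
    exact ⟨c', hc'.mem_open hC hc, hc'z⟩
  have hcompl : ∀ C : Set ↥(pullback ζ π), IsClopen C → (p.base '' C)ᶜ = p.base '' Cᶜ := by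
    intro C hC
    ext z
    constructor
    · intro hz
      obtain ⟨y, rfl⟩ := hsurj z
      exact ⟨y, fun hy => hz ⟨y, hy, rfl⟩, rfl⟩
    · rintro ⟨y, hy, rfl⟩ hz
      have : y ∈ p.base ⁻¹' (p.base '' C) := hz
      rw [Groth.Agent.H6.HC.clopen_saturated hfib hC] at this
      exact hy this
  have hclosed : ∀ C : Set ↥(pullback ζ π), IsClopen C → IsClosed (p.base '' C) := by
    intro C hC
    refine isClosed_of_stable ζ _ (hgenC C hC.isOpen) ?_
    intro z hz z' hzz'
    by_contra hz'
    have h1 : z' ∈ p.base '' Cᶜ := by rw [← hcompl C hC]; exact hz'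
    have h2 := hgenC Cᶜ hC.compl.isOpen z' h1 z hzz'
    rw [← hcompl C hC] at h2
    exact h2 hz
  rw [connectedSpace_iff_clopen]
  constructor
  · obtain ⟨z⟩ := (inferInstance : Nonempty Z.left)
    obtain ⟨c, -⟩ := hsurj z
    exact ⟨c⟩
  · intro C hC
    have hZ1 : IsClopen (p.base '' C) := by
      refine ⟨hclosed C hC, ?_⟩
      rw [← isClosed_compl_iff, hcompl C hC]
      exact hclosed Cᶜ hC.compl
    rcases isClopen_iff.mp hZ1 with h | h
    · left
      rw [Set.image_eq_empty] at h
      exact h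
    · right
      rw [← Groth.Agent.H6.HC.clopen_saturated hfib hC, h, Set.preimage_univ]

end Groth.Agent.H6.FlatIrr
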