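import Mathlib

set_option autoImplicit false

namespace Groth.Agent.H6

open scoped TensorProduct

/-- If `M` is flat over `R`, `s * r = 0` and `ann(s) = (r)` in `R`, then `ann_M(s) = r M`. -/
theorem exists_eq_smul_of_flat {R M : Type*} [CommRing R] [AddCommGroup M] [Module R M]
    [Module.Flat R M] (r s : R) (hsr : s * r = 0) (hex : ∀ x : R, s * x = 0 → ∃ y, x = r * y)
    (m : M) (hm : s • m = 0) : ∃ m' : M, m = r • m' := by
  let μ₁ : R →ₗ[R] R := r • LinearMap.id
  let μ₂ : R →ₗ[R] R := s • LinearMap.id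
  have hexact : Function.Exact μ₁ μ₂ := by
    intro x
    constructor
    · intro hx
      obtain ⟨y, hy⟩ := hex x hx
      exact ⟨y, hy.symm⟩
    · rintro ⟨y, rfl⟩
      show s * (r * y) = 0
      rw [← mul_assoc, hsr, zero_mul]
  have hex2 := Module.Flat.lTensor_exact M hexact
  have hμ₁ : μ₁.lTensor M = r • LinearMap.id := by
    simp only [μ₁, LinearMap.lTensor_smul, LinearMap.lTensor_id]
  have hμ₂ : μ₂.lTensor M = s • LinearMap.id := by
    simp only [μ₂, LinearMap.lTensor_smul, LinearMap.lTensor_id]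
  rw [hμ₁, hμ₂] at hex2
  have hb' : (s • LinearMap.id : M ⊗[R] R →ₗ[R] M ⊗[R] R) ((TensorProduct.rid R M).symm m) = 0 := by
    rw [LinearMap.smul_apply, LinearMap.id_apply, ← map_smul, hm, map_zero]
  obtain ⟨w, hw⟩ := (hex2 _).1 hb'
  have := congrArg (TensorProduct.rid R M) hw
  rw [LinearEquiv.apply_symm_apply, LinearMap.smul_apply, LinearMap.id_apply, map_smul] at this
  exact ⟨_, this.symm⟩

end Groth.Agent.H6
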