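import Mathlib
import Groth.Agent.Lib.Helper6.FlatSmul

set_option autoImplicit false

namespace Groth.Agent.H6

open scoped TensorProduct

/-- Over a "DVR-like" Bezout domain with uniformizer `π`, a `π`-adically separated algebra whose
reductions mod `π^n` are flat is flat. -/
theorem flat_of_flat_mod_pow {W A : Type*} [CommRing W] [IsDomain W] [IsBezout W] (π : W) (hp0 : π ≠ 0)
    (hfac : ∀ r : W, r ≠ 0 → ∃ (j : ℕ) (u : Wˣ), r = π ^ j * u) [CommRing A] [Algebra W A]
    [IsHausdorff (Ideal.span {π}) A]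
    (h : ∀ n : ℕ, 1 ≤ n → Module.Flat (W ⧸ (Ideal.span {π} ^ n)) ((W ⧸ (Ideal.span {π} ^ n)) ⊗[W] A)) :
    Module.Flat W A := by
  set I : Ideal W := Ideal.span {π} with hI
  rw [Module.Flat.flat_iff_torsion_eq_bot_of_isBezout, eq_bot_iff]
  -- p-torsion-free
  have hptf : ∀ a : A, π • a = 0 → a = 0 := by
    intro a ha
    apply IsHausdorff.haus (inferInstance : IsHausdorff I A)
    intro m
    rw [SModEq.zero]
    -- use flatness at level n = m + 1
    set n := m + 1 with hn
    have hflat := h n (by omega)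
    set Wn := W ⧸ I ^ n with hWn
    set πn : Wn := Ideal.Quotient.mk (I ^ n) π with hπn
    have hpn : ((πn : Wn)) ^ n = 0 := by
      have : (πn : Wn) = Ideal.Quotient.mk (I ^ n) π := rfl
      rw [this, ← map_pow, Ideal.Quotient.eq_zero_iff_mem]
      exact Ideal.pow_mem_pow (Ideal.mem_span_singleton_self _) n
    have hexW : ∀ x : Wn, (πn : Wn) * x = 0 → ∃ y, x = (πn : Wn) ^ m * y := by
      intro x hx
      obtain ⟨w, rfl⟩ := Ideal.Quotient.mk_surjective x
      have : (πn : Wn) = Ideal.Quotient.mk (I ^ n) π := rfl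
      rw [this, ← map_mul, Ideal.Quotient.eq_zero_iff_mem, hI, Ideal.span_singleton_pow,
        Ideal.mem_span_singleton'] at hx
      obtain ⟨c, hc⟩ := hx
      have hw : w = π ^ m * c := by
        apply mul_left_cancel₀ hp0
        rw [← hc, hn, pow_succ]
        ring
      exact ⟨Ideal.Quotient.mk _ c, by rw [this, hw, map_mul, map_pow]⟩
    have hz : (πn : Wn) • ((1 : Wn) ⊗ₜ[W] a : Wn ⊗[W] A) = 0 := by
      rw [TensorProduct.smul_tmul', smul_eq_mul, mul_one]
      have : (πn : Wn) = π • (1 : Wn) := by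
        rw [Algebra.smul_def, mul_one]; rfl
      rw [this, TensorProduct.smul_tmul, ha, TensorProduct.tmul_zero]
    obtain ⟨z, hz'⟩ := Groth.Agent.H6.exists_eq_smul_of_flat (R := Wn) (M := Wn ⊗[W] A) ((πn : Wn) ^ m) (πn : Wn)
      (by rw [← pow_succ', ← hn, hpn]) hexW _ hz
    have hform1 : ∀ t : Wn ⊗[W] A, ∃ b : A, t = (1 : Wn) ⊗ₜ[W] b := by
      intro t
      induction t using TensorProduct.induction_on with
      | zero => exact ⟨0, (TensorProduct.tmul_zero _ _).symm⟩
      | tmul w b =>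
        obtain ⟨w, rfl⟩ := Ideal.Quotient.mk_surjective w
        refine ⟨w • b, ?_⟩
        rw [← TensorProduct.smul_tmul]
        congr 1
        rw [Algebra.smul_def, mul_one]; rfl
      | add x y hx hy =>
        obtain ⟨b, rfl⟩ := hx
        obtain ⟨b', rfl⟩ := hy
        exact ⟨b + b', (TensorProduct.tmul_add _ _ _).symm⟩
    obtain ⟨a', rfl⟩ := hform1 z
    have h5 : ((πn : Wn) ^ m) • ((1 : Wn) ⊗ₜ[W] a' : Wn ⊗[W] A) = (1 : Wn) ⊗ₜ[W] ((π ^ m) • a') := by
      rw [TensorProduct.smul_tmul', smul_eq_mul, mul_one, ← TensorProduct.smul_tmul]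
      congr 1
      rw [Algebra.smul_def, mul_one, map_pow]; rfl
    rw [h5] at hz'
    have h6 : ((1 : Wn) ⊗ₜ[W] (a - (π ^ m) • a') : Wn ⊗[W] A) = 0 := by
      rw [TensorProduct.tmul_sub, hz', sub_self]
    have h7 := congrArg (TensorProduct.quotTensorEquivQuotSMul A (I ^ n)) h6
    rw [map_zero] at h7
    have h8 : a - (π ^ m) • a' ∈ (I ^ n • ⊤ : Submodule W A) := by
      have : TensorProduct.quotTensorEquivQuotSMul A (I ^ n) ((1 : Wn) ⊗ₜ[W] (a - (π ^ m) • a'))
          = Submodule.Quotient.mk (a - (π ^ m) • a') := by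
        have := TensorProduct.quotTensorEquivQuotSMul_mk_tmul (M := A) (I ^ n) (1 : W) (a - (π ^ m) • a')
        rw [one_smul] at this
        exact this
      rw [this, Submodule.Quotient.mk_eq_zero] at h7
      exact h7
    have h9 : a - (π ^ m) • a' ∈ (I ^ m • ⊤ : Submodule W A) :=
      Submodule.smul_mono_left (Ideal.pow_le_pow_right (Nat.le_succ m)) h8
    have h10 : (π ^ m) • a' ∈ (I ^ m • ⊤ : Submodule W A) :=
      Submodule.smul_mem_smul (Ideal.pow_mem_pow (Ideal.mem_span_singleton_self _) m) Submodule.mem_top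
    have := (I ^ m • ⊤ : Submodule W A).add_mem h9 h10
    rwa [sub_add_cancel] at this
  have hptf' : ∀ (j : ℕ) (a : A), (π ^ j) • a = 0 → a = 0 := by
    intro j
    induction j with
    | zero => intro a ha; simpa using ha
    | succ j ih =>
      intro a ha
      rw [pow_succ, mul_smul] at ha
      exact hptf a (ih _ ha)
  rintro a ⟨⟨r, hr⟩, hra⟩
  have hr0 : r ≠ 0 := nonZeroDivisors.ne_zero hr
  obtain ⟨j, u, rfl⟩ := hfac r hr0
  have hra' : (π ^ j * (u : W)) • a = 0 := hra
  rw [mul_smul] at hra'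
  have := hptf' j _ hra'
  rw [Submodule.mem_bot]
  have h2 := congrArg (fun t => ((u⁻¹ : Wˣ) : W) • t) this
  simpa [smul_smul] using h2


end Groth.Agent.H6
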