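import Mathlib
import Groth.Prelude.Def_FrobAlg

set_option autoImplicit false
open scoped TensorProduct

/-!
# Relative Frobenius of an adic completion of an F-finite Noetherian ring (helper6)
-/

namespace Groth.Agent.H6.FrobCompl

universe u

open FrobAlg

variable (p : ℕ) [Fact p.Prime] (A : Type u) [CommRing A] [CharP A p] (I : Ideal A)

/-- the identity `Twist p A → A`, semilinear for the Frobenius of `A` -/
def σ : Twist p A →ₛₗ[frobenius A p] A where
  toFun := (toTwist p A).symm
  map_add' := map_add _
  map_smul' a m := by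
    rw [Algebra.smul_def, map_mul, algebraMap_twist, RingEquiv.symm_apply_apply, smul_eq_mul,
      frobenius_def]

theorem σ_toTwist (a : A) : σ p A (toTwist p A a) = a := rfl

theorem toTwist_σ (m : Twist p A) : toTwist p A (σ p A m) = m := rfl

theorem smul_top_eq (J : Ideal A) : (J • ⊤ : Submodule A A) = J := by
  show (J • (⊤ : Ideal A)) = J
  rw [smul_eq_mul, Ideal.mul_top]

theorem σ_mem (n : ℕ) :
    (I ^ n • ⊤ : Submodule A (Twist p A)) ≤ (I ^ n • ⊤ : Submodule A A).comap (σ p A) := by
  intro x hx
  refine Submodule.smul_induction_on hx (fun r hr m _ => ?_) (fun x y hx hy => ?_)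
  · rw [Submodule.mem_comap, LinearMap.map_smulₛₗ]
    exact Submodule.smul_mem_smul (by
      rw [frobenius_def]; exact Ideal.pow_mem_of_mem _ hr p (Fact.out : p.Prime).pos)
      Submodule.mem_top
  · exact Submodule.add_mem _ hx hy

/-- level-wise comparison map -/
def q (n : ℕ) : (Twist p A ⧸ (I ^ n • ⊤ : Submodule A (Twist p A))) →ₛₗ[frobenius A p]
    (A ⧸ (I ^ n • ⊤ : Submodule A A)) :=
  Submodule.mapQ _ _ (σ p A) (σ_mem p A I n)

theorem q_mk (n : ℕ) (x : Twist p A) :
    q p A I n (Submodule.Quotient.mk x) = Submodule.Quotient.mk (σ p A x) := rfl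

/-- the comparison map from the completion of the Frobenius twist to the completion -/
def ι (x : AdicCompletion I (Twist p A)) : AdicCompletion I A :=
  ⟨fun n => q p A I n (x.val n), by
    intro m n hmn
    show AdicCompletion.transitionMap I A hmn (q p A I n (x.val n)) = q p A I m (x.val m)
    have h := x.property hmn
    obtain ⟨u, hu⟩ := Submodule.Quotient.mk_surjective _ (x.val n)
    rw [← hu] at h
    rw [← hu, ← h]
    rfl⟩

theorem ι_val (x : AdicCompletion I (Twist p A)) (n : ℕ) :
    (ι p A I x).val n = q p A I n (x.val n) := rfl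

theorem ι_zero : ι p A I 0 = 0 := by
  apply AdicCompletion.ext
  intro n
  rw [ι_val, AdicCompletion.val_zero_apply, AdicCompletion.val_zero_apply, map_zero]

theorem ι_add (x y : AdicCompletion I (Twist p A)) : ι p A I (x + y) = ι p A I x + ι p A I y := by
  apply AdicCompletion.ext
  intro n
  rw [ι_val, AdicCompletion.val_add_apply, AdicCompletion.val_add_apply, map_add, ι_val, ι_val]

theorem ι_mk (f : AdicCompletion.AdicCauchySequence I (Twist p A)) (n : ℕ) :
    (ι p A I (AdicCompletion.mk I (Twist p A) f)).val n = Submodule.Quotient.mk (σ p A (f n)) :=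
  rfl

theorem relFrob_tmul (B : Type*) [CommRing B] [Algebra A B] [CharP B p] (b : B) (m : Twist p A) :
    relFrob p A B (b ⊗ₜ[A] m) = b ^ p * algebraMap A B (σ p A m) := by
  show (toTarget p A B).symm ((Algebra.TensorProduct.lift (frobHom p A B) (inclHom p A B)
    (fun _ _ => Commute.all _ _)) (b ⊗ₜ[A] m)) = _
  rw [Algebra.TensorProduct.lift_tmul]
  rfl

theorem relFrob_eq [CharP (AdicCompletion I A) p] (t : AdicCompletion I A ⊗[A] Twist p A) :
    relFrob p A (AdicCompletion I A) t
      = ι p A I (AdicCompletion.ofTensorProduct I (Twist p A) t) := by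
  induction t using TensorProduct.induction_on with
  | zero => rw [map_zero, map_zero, ι_zero]
  | tmul b m =>
    rw [AdicCompletion.ofTensorProduct_tmul, relFrob_tmul]
    apply AdicCompletion.ext
    intro n
    obtain ⟨a, ha⟩ := Submodule.Quotient.mk_surjective _ (b.val n)
    have hL : (b ^ p * algebraMap A (AdicCompletion I A) (σ p A m)).val n
        = (b.val n) ^ p * Ideal.Quotient.mk (I ^ n • ⊤ : Ideal A) (σ p A m) := rfl
    have hR : (ι p A I (b • AdicCompletion.of I (Twist p A) m)).val n
        = q p A I n (b.val n • Submodule.Quotient.mk m) := rfl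
    rw [hL, hR, ← ha]
    have e1 : (Submodule.Quotient.mk a : A ⧸ (I ^ n • ⊤ : Submodule A A))
        = Ideal.Quotient.mk (I ^ n • ⊤ : Ideal A) a := rfl
    have e2 : (Submodule.Quotient.mk a : A ⧸ (I ^ n • ⊤ : Submodule A A)) •
        (Submodule.Quotient.mk m : Twist p A ⧸ (I ^ n • ⊤ : Submodule A (Twist p A)))
        = Submodule.Quotient.mk (a • m) := rfl
    rw [e2, q_mk, LinearMap.map_smulₛₗ, e1, ← map_pow, ← map_mul, frobenius_def, smul_eq_mul]
    rfl
  | add x y hx hy => rw [map_add, map_add, ι_add, hx, hy]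

theorem exists_cofinal [IsNoetherianRing A] : ∃ k : ℕ, 0 < k ∧ ∀ n : ℕ, ∀ a ∈ I ^ (k * n),
    toTwist p A a ∈ (I ^ n • ⊤ : Submodule A (Twist p A)) := by
  set IM : Ideal (Twist p A) := I.map (toTwist p A : A →+* Twist p A) with hIM
  set JM : Ideal (Twist p A) := I.map (algebraMap A (Twist p A)) with hJM
  have hrad : IM ≤ JM.radical := by
    rw [hIM, Ideal.map_le_iff_le_comap]
    intro a ha
    rw [Ideal.mem_comap]
    refine ⟨p, ?_⟩
    have e : ((toTwist p A : A →+* Twist p A) a) ^ p = algebraMap A (Twist p A) a := by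
      rw [algebraMap_twist, map_pow]; rfl
    rw [e]
    exact Ideal.mem_map_of_mem _ ha
  have hfg : IM.FG := Ideal.FG.map (IsNoetherian.noetherian I) _
  obtain ⟨k, hk⟩ := Ideal.exists_pow_le_of_le_radical_of_fg hrad hfg
  refine ⟨k + 1, Nat.succ_pos k, fun n a ha => ?_⟩
  have h1 : (toTwist p A : A →+* Twist p A) a ∈ IM ^ ((k + 1) * n) := by
    rw [hIM, ← Ideal.map_pow]; exact Ideal.mem_map_of_mem _ ha
  have h2 : IM ^ ((k + 1) * n) ≤ JM ^ n := by
    rw [pow_mul]
    exact Ideal.pow_right_mono ((Ideal.pow_le_pow_right (Nat.le_succ k)).trans hk) n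
  have h3 := h2 h1
  rw [hJM, ← Ideal.map_pow] at h3
  rw [Ideal.smul_top_eq_map]
  exact h3

theorem ι_injective [IsNoetherianRing A] : Function.Injective (ι p A I) := by
  obtain ⟨k, hk0, hk⟩ := exists_cofinal p A I
  have key : ∀ x, ι p A I x = 0 → x = 0 := by
    intro x hx
    obtain ⟨f, rfl⟩ := AdicCompletion.mk_surjective I (Twist p A) x
    have h1 : ∀ n, σ p A (f n) ∈ I ^ n := by
      intro n
      have := congrArg (fun z => z.val n) hx
      simp only [ι_mk, AdicCompletion.val_zero_apply] at this
      rw [Submodule.Quotient.mk_eq_zero, smul_top_eq] at this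
      exact this
    apply AdicCompletion.ext
    intro n
    show Submodule.Quotient.mk (f n) = 0
    rw [Submodule.Quotient.mk_eq_zero]
    have h2 : f n - f (k * n) ∈ (I ^ n • ⊤ : Submodule A (Twist p A)) :=
      SModEq.sub_mem.mp (f.property (Nat.le_mul_of_pos_left n hk0))
    have h3 : f (k * n) ∈ (I ^ n • ⊤ : Submodule A (Twist p A)) := by
      have := hk n _ (h1 (k * n))
      rwa [toTwist_σ] at this
    have := Submodule.add_mem _ h2 h3
    rwa [sub_add_cancel] at this
  intro x y hxy
  have : ι p A I (x - y) = 0 := by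
    have h := ι_add p A I (x - y) y
    rw [sub_add_cancel, hxy] at h
    exact (add_eq_right.mp h.symm)
  exact sub_eq_zero.mp (key _ this)

theorem ι_surjective [IsNoetherianRing A] : Function.Surjective (ι p A I) := by
  obtain ⟨k, hk0, hk⟩ := exists_cofinal p A I
  intro y
  obtain ⟨g, rfl⟩ := AdicCompletion.mk_surjective I A y
  have hc : AdicCompletion.IsAdicCauchy I (Twist p A) (fun n => toTwist p A (g (k * n))) := by
    intro m n hmn
    rw [SModEq.sub_mem]
    have h1 : g (k * m) - g (k * n) ∈ I ^ (k * m) := by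
      have := SModEq.sub_mem.mp (g.property (Nat.mul_le_mul_left k hmn))
      rwa [smul_top_eq] at this
    have := hk m _ h1
    rwa [map_sub] at this
  refine ⟨AdicCompletion.mk I (Twist p A) ⟨_, hc⟩, ?_⟩
  apply AdicCompletion.ext
  intro n
  rw [ι_mk]
  show Submodule.Quotient.mk (g (k * n)) = Submodule.Quotient.mk (g n)
  rw [Submodule.Quotient.eq]
  have := SModEq.sub_mem.mp (g.property (Nat.le_mul_of_pos_left n hk0))
  rw [← neg_sub]
  exact Submodule.neg_mem _ this

/-- **Main theorem.** -/
theorem main (A : Type u) [CommRing A] [IsRegularLocalRing A] [CharP A p]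
    (hF : (frobenius A p).Finite) (I : Ideal A) [CharP (AdicCompletion I A) p] :
    Function.Bijective (relFrob p A (AdicCompletion I A)) := by
  haveI : Module.Finite A (Twist p A) := hF
  have he := AdicCompletion.ofTensorProduct_bijective_of_finite_of_isNoetherian I (Twist p A)
  have hι : Function.Bijective (ι p A I) := ⟨ι_injective p A I, ι_surjective p A I⟩
  have e : ⇑(relFrob p A (AdicCompletion I A))
      = ι p A I ∘ AdicCompletion.ofTensorProduct I (Twist p A) := funext (relFrob_eq p A I)
  rw [e]
  exact hι.comp he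

end Groth.Agent.H6.FrobCompl
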