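import Mathlib

universe u
open TensorProduct

namespace Groth.Agent.H6.FrobGR

/-- uniform nilpotency exponent in a noetherian ring -/
theorem exists_pow_eq_zero (T : Type*) [CommRing T] [IsNoetherianRing T] :
    ∃ e : ℕ, ∀ w : T, IsNilpotent w → w ^ e = 0 := by
  obtain ⟨e, he⟩ := IsNoetherianRing.isNilpotent_nilradical T
  refine ⟨e, fun w hw => ?_⟩
  have h1 : w ^ e ∈ (nilradical T) ^ e := Ideal.pow_mem_pow ((mem_nilradical).2 hw) e
  rw [he] at h1
  simpa using h1

theorem main (k : Type u) [Field k] (p : ℕ) [hp : Fact p.Prime] [CharP k p]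
    (R : Type u) [CommRing R] [Algebra k R] [Algebra.FiniteType k R] :
    ∃ n : ℕ, Algebra.IsGeometricallyReduced k
      ↥(Algebra.adjoin k (Set.range (fun x : R => x ^ (p ^ n)))) := by
  classical
  by_cases hR : Subsingleton R
  · refine ⟨0, ?_⟩
    rw [Algebra.isGeometricallyReduced_field_iff]
    have hz : ∀ z : AlgebraicClosure k ⊗[k]
        ↥(Algebra.adjoin k (Set.range (fun x : R => x ^ (p ^ 0)))), z = 0 := by
      intro z
      induction z using TensorProduct.induction_on with
      | zero => rfl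
      | tmul x a =>
        have : a = 0 := Subtype.ext (Subsingleton.elim _ _)
        rw [this, TensorProduct.tmul_zero]
      | add x y hx hy => rw [hx, hy, add_zero]
    exact ⟨fun z _ => hz z⟩
  haveI : Nontrivial R := not_subsingleton_iff_nontrivial.mp hR
  let K := AlgebraicClosure k
  let T := K ⊗[k] R
  haveI : Nontrivial T :=
    (Algebra.TensorProduct.includeRight_injective (R := k) (A := K) (B := R)
      (RingHom.injective _)).nontrivial
  haveI : CharP T p := charP_of_injective_algebraMap (algebraMap k T).injective p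
  haveI : Algebra.FiniteType K T := inferInstance
  haveI : IsNoetherianRing T := Algebra.FiniteType.isNoetherianRing K T
  obtain ⟨e, he⟩ := exists_pow_eq_zero T
  have hpe : e ≤ p ^ e := (Nat.lt_pow_self hp.out.one_lt).le
  have hpos : 0 < p ^ e := pow_pos hp.out.pos e
  refine ⟨e, ?_⟩
  set A := Algebra.adjoin k (Set.range (fun x : R => x ^ (p ^ e))) with hA
  let ι : K ⊗[k] A →ₐ[k] T := Algebra.TensorProduct.map 1 A.val
  have hι : Function.Injective ι :=
    Module.Flat.lTensor_preserves_injective_linearMap _ Subtype.val_injective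
  have hP : ∀ a : R, a ∈ A → ∀ l : K, ∃ w : T, l ⊗ₜ[k] a = w ^ (p ^ e) := by
    intro a ha
    induction ha using Algebra.adjoin_induction with
    | mem x hx =>
      obtain ⟨y, rfl⟩ := hx
      intro l
      obtain ⟨μ, hμ⟩ := IsAlgClosed.exists_pow_nat_eq l hpos
      exact ⟨μ ⊗ₜ[k] y, by rw [Algebra.TensorProduct.tmul_pow, hμ]⟩
    | algebraMap r =>
      intro l
      obtain ⟨μ, hμ⟩ := IsAlgClosed.exists_pow_nat_eq (r • l) hpos
      refine ⟨μ ⊗ₜ[k] (1 : R), ?_⟩
      rw [Algebra.TensorProduct.tmul_pow, hμ, one_pow, Algebra.algebraMap_eq_smul_one,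
        TensorProduct.tmul_smul, TensorProduct.smul_tmul']
    | add x y hx hy ihx ihy =>
      intro l
      obtain ⟨w1, h1⟩ := ihx l
      obtain ⟨w2, h2⟩ := ihy l
      exact ⟨w1 + w2, by rw [TensorProduct.tmul_add, h1, h2, add_pow_char_pow]⟩
    | mul x y hx hy ihx ihy =>
      intro l
      obtain ⟨w1, h1⟩ := ihx l
      obtain ⟨w2, h2⟩ := ihy 1
      exact ⟨w1 * w2, by
        rw [mul_pow, ← h1, ← h2, Algebra.TensorProduct.tmul_mul_tmul, mul_one]⟩
  have hQ : ∀ z : K ⊗[k] A, ∃ w : T, ι z = w ^ (p ^ e) := by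
    intro z
    induction z using TensorProduct.induction_on with
    | zero => exact ⟨0, by rw [map_zero, zero_pow hpos.ne']⟩
    | tmul l a =>
      obtain ⟨w, hw⟩ := hP a.1 a.2 l
      exact ⟨w, by rw [← hw]; rfl⟩
    | add x y hx hy =>
      obtain ⟨w1, h1⟩ := hx
      obtain ⟨w2, h2⟩ := hy
      exact ⟨w1 + w2, by rw [map_add, h1, h2, add_pow_char_pow]⟩
  rw [Algebra.isGeometricallyReduced_field_iff]
  refine ⟨fun z hz => ?_⟩
  obtain ⟨w, hw⟩ := hQ z
  have h1 : IsNilpotent (ι z) := hz.map ι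
  rw [hw] at h1
  have h3 : w ^ (p ^ e) = 0 := pow_eq_zero_of_le hpe (he w h1.of_pow)
  apply hι
  rw [hw, h3, map_zero]

end Groth.Agent.H6.FrobGR
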