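import Mathlib
import Groth.Agent.Lib.Helper2.NoethTop

set_option autoImplicit false
universe u v
open PrimeSpectrum

namespace Groth.Agent.H6.GalComp

variable (A : Type u) (R : Type v) [CommRing A] [CommRing R] [Algebra A R]
  (G : Type u) [Group G] [MulSemiringAction G R]

/-- the homeomorphism of `Spec R` induced by `g`, equal to `comap (toRingHom g)`. -/
noncomputable def φ (g : G) : PrimeSpectrum R ≃ₜ PrimeSpectrum R :=
  homeomorphOfRingEquiv (MulSemiringAction.toRingEquiv G R g).symm

theorem φ_apply (g : G) (p : PrimeSpectrum R) :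
    φ R G g p = comap (MulSemiringAction.toRingHom G R g) p := rfl

theorem φ_mul (g h : G) (p : PrimeSpectrum R) : φ R G h (φ R G g p) = φ R G (g * h) p := by
  rw [φ_apply, φ_apply, φ_apply, ← comap_comp_apply]
  congr 1
  ext r
  simp [mul_smul]

theorem φ_one (p : PrimeSpectrum R) : φ R G 1 p = p := by
  rw [φ_apply]
  have : MulSemiringAction.toRingHom G R 1 = RingHom.id R := by ext r; simp
  rw [this, comap_id]

theorem image_cc {X Y : Type*} [TopologicalSpace X] [TopologicalSpace Y] (h : X ≃ₜ Y) (x : X) :
    h '' connectedComponent x = connectedComponent (h x) := by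
  apply Set.Subset.antisymm (h.continuous.image_connectedComponent_subset x)
  have := h.symm.continuous.image_connectedComponent_subset (h x)
  rw [h.symm_apply_apply] at this
  intro y hy
  exact ⟨h.symm y, this ⟨y, hy, rfl⟩, h.apply_symm_apply y⟩

theorem main [IsNoetherianRing R] [Finite G] [SMulCommClass G A R]
    [Algebra.IsInvariant A R G] [FaithfulSMul A R]
    [ConnectedSpace (PrimeSpectrum A)] (x y : PrimeSpectrum R) :
    ∃ g : G, PrimeSpectrum.comap (MulSemiringAction.toRingHom G R g) '' connectedComponent x =
      connectedComponent y := by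
  classical
  set C := connectedComponent x with hC
  have hCopen : IsOpen C := Groth.Agent.H2.isOpen_connectedComponent_of_noetherianSpace x
  have hCclopen : IsClopen C := ⟨isClosed_connectedComponent, hCopen⟩
  set U : Set (PrimeSpectrum R) := ⋃ g : G, φ R G g '' C with hU
  have hUclopen : IsClopen U := by
    have := Fintype.ofFinite G
    refine isClopen_iUnion_of_finite fun g => ?_
    exact ⟨(φ R G g).isClosedMap _ hCclopen.1, (φ R G g).isOpenMap _ hCclopen.2⟩
  have hxU : x ∈ U := by
    refine Set.mem_iUnion.mpr ⟨1, x, mem_connectedComponent, φ_one R G x⟩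
  -- stability
  have hstab : ∀ h : G, φ R G h ⁻¹' U = U := by
    intro h
    ext p
    simp only [hU, Set.mem_preimage, Set.mem_iUnion, Set.mem_image]
    constructor
    · rintro ⟨g, c, hc, hcp⟩
      refine ⟨g * h⁻¹, c, hc, ?_⟩
      rw [← φ_mul, hcp, φ_mul, mul_inv_cancel, φ_one]
    · rintro ⟨g, c, hc, hcp⟩
      exact ⟨g * h, c, hc, by rw [← φ_mul, hcp]⟩
  obtain ⟨e, he, hUe⟩ := PrimeSpectrum.isClopen_iff.mp hUclopen
  -- e is invariant
  have hinv : ∀ h : G, h • e = e := by
    intro h
    have h1 : (basicOpen (h • e) : Set (PrimeSpectrum R)) = basicOpen e := by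
      rw [← hUe, ← hstab h, hUe]
      ext p
      rw [Set.mem_preimage, φ_apply]
      simp only [SetLike.mem_coe, mem_basicOpen, comap_asIdeal, Ideal.mem_comap]
      rfl
    have hhe : IsIdempotentElem (h • e) := by
      rw [IsIdempotentElem, ← smul_mul', he.eq]
    exact basicOpen_injOn_isIdempotentElem hhe he (SetLike.ext' h1)
  obtain ⟨a, ha⟩ := Algebra.IsInvariant.isInvariant (A := A) (G := G) e hinv
  have hainj := FaithfulSMul.algebraMap_injective A R
  have haid : IsIdempotentElem a := by
    apply hainj
    rw [map_mul, ha, he.eq]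
  have hcl : IsClopen (basicOpen a : Set (PrimeSpectrum A)) := PrimeSpectrum.isClopen_iff.mpr ⟨a, haid, rfl⟩
  have hUuniv : U = Set.univ := by
    rcases _root_.isClopen_iff.mp hcl with h0 | h1
    · exfalso
      have ha0 : a = 0 := by
        apply basicOpen_injOn_isIdempotentElem haid (IsIdempotentElem.zero)
        apply SetLike.ext'
        rw [h0]; simp
      rw [ha0, map_zero] at ha
      rw [← ha] at hUe
      rw [hUe] at hxU
      simp at hxU
    · have ha1 : a = 1 := by
        apply basicOpen_injOn_isIdempotentElem haid (IsIdempotentElem.one)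
        apply SetLike.ext'
        rw [h1]; simp
      rw [ha1, map_one] at ha
      rw [hUe, ← ha]; simp
  have hyU : y ∈ U := hUuniv ▸ Set.mem_univ y
  obtain ⟨g, hg⟩ := Set.mem_iUnion.mp hyU
  refine ⟨g, ?_⟩
  have himg : φ R G g '' C = connectedComponent (φ R G g x) := image_cc (φ R G g) x
  change φ R G g '' C = _
  rw [himg]
  rw [himg] at hg
  exact connectedComponent_eq hg

end Groth.Agent.H6.GalComp
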