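import Mathlib
import Groth.Prelude.Def_FEt
import Groth.Prelude.Def_SGA1t
import Groth.Agent.Lib.Helper6.GalRing3

/-!
# The torsor map of a principal cover of `Spec A` is bijective, group in `Type u` (helper6)
-/

universe u

open CategoryTheory CategoryTheory.Limits AlgebraicGeometry TensorProduct

namespace Groth.Agent.H6.GalRing

attribute [local instance] algGamma

variable {A : Type u} [CommRing A] (P : FEt.Cat (Spec (CommRingCat.of A)))
variable {G : Type u} [CommGroup G] [Fintype G] (ρ : G →* Aut P)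

theorem theta_bijective' (hP : SGA1t.IsPrincipal G P ρ) :
    Function.Bijective (theta (sigma P ρ)) := by
  let Θ : (Γ(P.left, ⊤) ⊗[A] Γ(P.left, ⊤)) →+* (G → Γ(P.left, ⊤)) :=
    (theta (sigma P ρ) : Γ(P.left, ⊤) ⊗[A] Γ(P.left, ⊤) →ₐ[A] (G → Γ(P.left, ⊤)))
  have hΘ : ∀ z, Θ z = theta (sigma P ρ) z := fun _ => rfl
  have hcomp : Θ.comp (algebraMap Γ(P.left, ⊤) (Γ(P.left, ⊤) ⊗[A] Γ(P.left, ⊤))) =
      algebraMap Γ(P.left, ⊤) (G → Γ(P.left, ⊤)) := by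
    ext x g
    rw [RingHom.comp_apply, hΘ, Algebra.TensorProduct.algebraMap_apply, theta_tmul, map_one,
      mul_one]
    rfl
  haveI h1 : IsFinite (Spec.map (CommRingCat.ofHom
      (algebraMap Γ(P.left, ⊤) (G → Γ(P.left, ⊤))))) := by
    rw [IsFinite.SpecMap_iff]
    exact RingHom.finite_algebraMap.mpr inferInstance
  haveI h2 : Etale (Spec.map (CommRingCat.ofHom
      (algebraMap Γ(P.left, ⊤) (G → Γ(P.left, ⊤))))) := by
    rw [HasRingHomProperty.Spec_iff (P := @Etale)]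
    exact RingHom.etale_algebraMap.mpr inferInstance
  haveI h3 : IsFinite (Spec.map (CommRingCat.ofHom
      (algebraMap Γ(P.left, ⊤) (Γ(P.left, ⊤) ⊗[A] Γ(P.left, ⊤))))) := by
    rw [IsFinite.SpecMap_iff]
    exact RingHom.finite_algebraMap.mpr inferInstance
  haveI h4 : Etale (Spec.map (CommRingCat.ofHom
      (algebraMap Γ(P.left, ⊤) (Γ(P.left, ⊤) ⊗[A] Γ(P.left, ⊤))))) := by
    rw [HasRingHomProperty.Spec_iff (P := @Etale)]
    exact RingHom.etale_algebraMap.mpr inferInstance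
  have hfac : Spec.map (CommRingCat.ofHom Θ) ≫ Spec.map (CommRingCat.ofHom
      (algebraMap Γ(P.left, ⊤) (Γ(P.left, ⊤) ⊗[A] Γ(P.left, ⊤)))) =
      Spec.map (CommRingCat.ofHom (algebraMap Γ(P.left, ⊤) (G → Γ(P.left, ⊤)))) := by
    rw [← Spec.map_comp, ← CommRingCat.ofHom_comp, hcomp]
  haveI : IsFinite (Spec.map (CommRingCat.ofHom Θ) ≫ Spec.map (CommRingCat.ofHom
      (algebraMap Γ(P.left, ⊤) (Γ(P.left, ⊤) ⊗[A] Γ(P.left, ⊤))))) := by
    rw [hfac]; infer_instance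
  haveI : IsFinite (Spec.map (CommRingCat.ofHom Θ)) :=
    IsFinite.of_comp _ (Spec.map (CommRingCat.ofHom
      (algebraMap Γ(P.left, ⊤) (Γ(P.left, ⊤) ⊗[A] Γ(P.left, ⊤)))))
  haveI : Etale (Spec.map (CommRingCat.ofHom Θ)) :=
    MorphismProperty.of_postcomp (W := @Etale) (W' := @Etale) _ (Spec.map (CommRingCat.ofHom
      (algebraMap Γ(P.left, ⊤) (Γ(P.left, ⊤) ⊗[A] Γ(P.left, ⊤))))) inferInstance
      (by rw [hfac]; infer_instance)
  apply bijective_of_unique_lift Θ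
  intro Ω _ _ χ
  let ψ₁ : Γ(P.left, ⊤) →+* Ω :=
    χ.comp (algebraMap Γ(P.left, ⊤) (Γ(P.left, ⊤) ⊗[A] Γ(P.left, ⊤)))
  let ψ₂ : Γ(P.left, ⊤) →+* Ω :=
    χ.comp ((Algebra.TensorProduct.includeRight :
      Γ(P.left, ⊤) →ₐ[A] Γ(P.left, ⊤) ⊗[A] Γ(P.left, ⊤)) : Γ(P.left, ⊤) →+* _)
  have hψ₁ : ∀ x, ψ₁ x = χ (x ⊗ₜ[A] 1) := fun x => rfl
  have hψ₂ : ∀ y, ψ₂ y = χ (1 ⊗ₜ[A] y) := fun y => rfl
  have h12 : ψ₁.comp (algebraMap A Γ(P.left, ⊤)) = ψ₂.comp (algebraMap A Γ(P.left, ⊤)) := by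
    ext a
    change χ ((algebraMap A Γ(P.left, ⊤) a) ⊗ₜ[A] 1) = χ (1 ⊗ₜ[A] (algebraMap A Γ(P.left, ⊤) a))
    congr 1
    rw [Algebra.algebraMap_eq_smul_one, TensorProduct.smul_tmul]
  obtain ⟨g, hg, huniq⟩ := existsUnique_of_isPrincipal P ρ hP ψ₁ ψ₂ h12
  have hχ : ∀ x y, χ (x ⊗ₜ[A] y) = ψ₁ x * ψ₂ y := by
    intro x y
    rw [hψ₁, hψ₂, ← map_mul, Algebra.TensorProduct.tmul_mul_tmul, mul_one, one_mul]
  refine ⟨ψ₁.comp (Pi.evalRingHom (fun _ : G => Γ(P.left, ⊤)) g), ?_, ?_⟩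
  · apply RingHom.ext
    intro z
    induction z using TensorProduct.induction_on with
    | zero => simp
    | tmul x y =>
      rw [RingHom.comp_apply, RingHom.comp_apply, hΘ, Pi.evalRingHom_apply, theta_tmul, map_mul,
        hχ, ← hg]
      rfl
    | add z z' hz hz' => rw [map_add, map_add, hz, hz']
  · intro ω' hω'
    obtain ⟨g', hg'⟩ := exists_eval_of_ringHom_pi ω'
    have hψ' : ω'.comp (algebraMap Γ(P.left, ⊤) (G → Γ(P.left, ⊤))) = ψ₁ := by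
      rw [← hcomp, ← RingHom.comp_assoc, hω']
    have hω'eq : ω' = ψ₁.comp (Pi.evalRingHom (fun _ : G => Γ(P.left, ⊤)) g') := by
      ext f
      rw [hg' f, RingHom.comp_apply, Pi.evalRingHom_apply, ← hψ']
      rfl
    have h5 : ψ₁.comp (sigma P ρ g' : Γ(P.left, ⊤) →+* Γ(P.left, ⊤)) = ψ₂ := by
      ext y
      have h6 := congrArg (fun m : (Γ(P.left, ⊤) ⊗[A] Γ(P.left, ⊤)) →+* Ω => m (1 ⊗ₜ[A] y)) hω'
      simp only [RingHom.comp_apply] at h6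
      rw [hΘ, hω'eq, RingHom.comp_apply, Pi.evalRingHom_apply, theta_tmul, one_mul] at h6
      rw [hψ₂, ← h6]
      rfl
    have h7 := huniq g' h5
    rw [hω'eq, h7]

end Groth.Agent.H6.GalRing
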