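import Mathlib

set_option autoImplicit false
universe u

namespace Groth.Agent.H6.GalT

open scoped TensorProduct Pointwise

section
variable (K F L : Type u) [Field K] [Field F] [Algebra K F] [Field L] [Algebra K L]

theorem congr_tmul (g : L ≃ₐ[K] L) (f : F) (l : L) :
    (Algebra.TensorProduct.congr (AlgEquiv.refl : F ≃ₐ[F] F) g) (f ⊗ₜ[K] l) = f ⊗ₜ[K] g l := by
  simp

/-- the action of `Gal(L/K)` on `F ⊗ L` through the second factor -/
noncomputable def rho : (L ≃ₐ[K] L) →* ((F ⊗[K] L) ≃ₐ[F] (F ⊗[K] L)) where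
  toFun g := Algebra.TensorProduct.congr AlgEquiv.refl g
  map_one' := by
    ext x
    induction x using TensorProduct.induction_on with
    | zero => simp
    | tmul f l => rw [congr_tmul]; rfl
    | add x y hx hy => rw [map_add, hx, hy]; rfl
  map_mul' g h := by
    ext x
    induction x using TensorProduct.induction_on with
    | zero => simp
    | tmul f l => rw [AlgEquiv.mul_apply, congr_tmul, congr_tmul, congr_tmul]; rfl
    | add x y hx hy => rw [map_add, hx, hy, map_add]

@[simp] theorem rho_tmul (g : L ≃ₐ[K] L) (f : F) (l : L) :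
    rho K F L g (f ⊗ₜ[K] l) = f ⊗ₜ[K] g l := congr_tmul K F L g f l

theorem rho_apply (g : L ≃ₐ[K] L) (x : F ⊗[K] L) :
    rho K F L g x = Algebra.TensorProduct.map (AlgHom.id K F) (g : L →ₐ[K] L) x := by
  induction x using TensorProduct.induction_on with
  | zero => simp
  | tmul f l => simp
  | add x y hx hy => simp [hx, hy]

noncomputable instance act : MulSemiringAction (L ≃ₐ[K] L) (F ⊗[K] L) :=
  MulSemiringAction.compHom (F ⊗[K] L) (rho K F L)

theorem smul_def (g : L ≃ₐ[K] L) (x : F ⊗[K] L) : g • x = rho K F L g x := rfl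

instance : SMulCommClass (L ≃ₐ[K] L) F (F ⊗[K] L) where
  smul_comm g a x := by
    rw [smul_def, smul_def, map_smul]

end
section
variable (K F L : Type u) [Field K] [Field F] [Algebra K F] [Field L] [Algebra K L]

theorem stabilizer_isOpen [Algebra.IsIntegral K L] (x : F ⊗[K] L) :
    IsOpen (MulAction.stabilizer (L ≃ₐ[K] L) x : Set (L ≃ₐ[K] L)) := by
  induction x using TensorProduct.induction_on with
  | zero =>
    have : MulAction.stabilizer (L ≃ₐ[K] L) (0 : F ⊗[K] L) = ⊤ := by
      ext g; simp
    rw [this]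
    exact isOpen_univ
  | tmul f l =>
    refine Subgroup.isOpen_mono (H₁ := MulAction.stabilizer (L ≃ₐ[K] L) l) ?_
      (stabilizer_isOpen_of_isIntegral l)
    intro g hg
    rw [MulAction.mem_stabilizer_iff] at hg ⊢
    rw [smul_def, rho_tmul]
    congr 1
  | add x y hx hy =>
    refine Subgroup.isOpen_mono (H₁ := MulAction.stabilizer (L ≃ₐ[K] L) x ⊓
      MulAction.stabilizer (L ≃ₐ[K] L) y) ?_ (hx.inter hy)
    intro g hg
    rw [Subgroup.mem_inf, MulAction.mem_stabilizer_iff, MulAction.mem_stabilizer_iff] at hg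
    rw [MulAction.mem_stabilizer_iff, smul_add, hg.1, hg.2]

theorem isInvariant [IsGalois K L] : Algebra.IsInvariant F (F ⊗[K] L) (L ≃ₐ[K] L) := by
  classical
  constructor
  intro c hc
  let b := Module.Basis.ofVectorSpace K F
  let e := TensorProduct.equivFinsuppOfBasisLeft (N := L) b
  have key : ∀ (g : L ≃ₐ[K] L) (x : F ⊗[K] L) i, e (g • x) i = g (e x i) := by
    intro g x i
    induction x using TensorProduct.induction_on with
    | zero => simp
    | tmul f l =>
      rw [smul_def, rho_tmul]
      simp only [e, TensorProduct.equivFinsuppOfBasisLeft_apply_tmul_apply]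
      rw [map_smul]
    | add x y hx hy => rw [smul_add, map_add, map_add, Finsupp.add_apply, Finsupp.add_apply, hx, hy,
        map_add]
  have hfix : ∀ i, ∃ k : K, algebraMap K L k = e c i := by
    intro i
    have : e c i ∈ Set.range (algebraMap K L) := by
      rw [InfiniteGalois.mem_range_algebraMap_iff_fixed]
      intro g
      rw [← key, hc]
    exact this
  choose k hk using hfix
  let κ : (Module.Basis.ofVectorSpaceIndex K F) →₀ K := Finsupp.onFinset (e c).support k (by
    intro i hi
    rw [Finsupp.mem_support_iff]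
    intro h0
    apply hi
    have := hk i
    rw [h0] at this
    exact (map_eq_zero_iff _ (algebraMap K L).injective).mp this)
  refine ⟨b.repr.symm κ, ?_⟩
  apply e.injective
  ext i
  rw [Algebra.TensorProduct.algebraMap_apply, Algebra.algebraMap_self, RingHom.id_apply]
  simp only [e, TensorProduct.equivFinsuppOfBasisLeft_apply_tmul_apply]
  rw [← hk i, LinearEquiv.apply_symm_apply, Algebra.smul_def, mul_one]
  rfl

end

section
variable (K F L : Type u) [Field K] [Field F] [Algebra K F] [Field L] [Algebra K L]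

theorem transitive [IsGalois K L] (P Q : Ideal (F ⊗[K] L)) [P.IsPrime] [Q.IsPrime] :
    ∃ γ : L ≃ₐ[K] L,
      Q = P.comap (Algebra.TensorProduct.map (AlgHom.id K F) (γ : L →ₐ[K] L)) := by
  let _ : TopologicalSpace (F ⊗[K] L) := ⊥
  have : DiscreteTopology (F ⊗[K] L) := ⟨rfl⟩
  have : ContinuousSMul (L ≃ₐ[K] L) (F ⊗[K] L) :=
    continuousSMul_iff_stabilizer_isOpen.mpr (stabilizer_isOpen K F L)
  have := isInvariant K F L
  have h : P.under F = Q.under F := by
    rw [Ideal.eq_bot_of_prime (P.under F), Ideal.eq_bot_of_prime (Q.under F)]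
  obtain ⟨g, hg⟩ := Algebra.IsInvariant.exists_smul_of_under_eq_of_profinite
    (A := F) (G := L ≃ₐ[K] L) P Q h
  refine ⟨g⁻¹, ?_⟩
  rw [hg]
  ext x
  rw [Ideal.pointwise_smul_eq_comap, Ideal.mem_comap, Ideal.mem_comap, ← rho_apply]
  rfl

end

section
variable (K B L : Type u) [Field K] [CommRing B] [IsDomain B] [Algebra K B]
  [Field L] [Algebra K L]

theorem finite_primeSpectrum [Algebra.FiniteType K B] [Algebra.IsIntegral K L] :
    Finite (PrimeSpectrum (FractionRing B ⊗[K] L)) := by
  -- Noetherianity of `B ⊗ L`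
  have hN : IsNoetherianRing (B ⊗[K] L) := by
    have h1 : Algebra.FiniteType L (L ⊗[K] B) := inferInstance
    have h2 : IsNoetherianRing (L ⊗[K] B) := Algebra.FiniteType.isNoetherianRing L _
    exact isNoetherianRing_of_ringEquiv _ (Algebra.TensorProduct.comm K L B).toRingEquiv
  let ι : (B ⊗[K] L) →ₐ[K] (FractionRing B ⊗[K] L) :=
    Algebra.TensorProduct.map (IsScalarTower.toAlgHom K B (FractionRing B)) (AlgHom.id K L)
  let _ : Algebra (B ⊗[K] L) (FractionRing B ⊗[K] L) := ι.toRingHom.toAlgebra
  have htower : IsScalarTower B (B ⊗[K] L) (FractionRing B ⊗[K] L) := by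
    apply IsScalarTower.of_algebraMap_eq
    intro b
    show _ = ι (algebraMap B (B ⊗[K] L) b)
    rw [Algebra.TensorProduct.algebraMap_apply, Algebra.TensorProduct.algebraMap_apply]
    simp [ι]
  have hloc : IsLocalization (Algebra.algebraMapSubmonoid (B ⊗[K] L) (nonZeroDivisors B))
      (FractionRing B ⊗[K] L) := by
    apply IsLocalization.tensorProduct_tensorProduct K L (nonZeroDivisors B) (FractionRing B)
    ext l
    show ι ((1 : B) ⊗ₜ[K] l) = (1 : FractionRing B) ⊗ₜ[K] l
    simp [ι]
  have hmax : ∀ P : Ideal (FractionRing B ⊗[K] L), P.IsPrime → P.IsMaximal := by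
    intro P hP
    apply Ideal.isMaximal_of_isIntegral_of_isMaximal_comap (R := FractionRing B) P
    have : (P.comap (algebraMap (FractionRing B) (FractionRing B ⊗[K] L))) = ⊥ :=
      Ideal.eq_bot_of_prime _
    rw [this]; exact Ideal.bot_isMaximal
  have hmin : ∀ P : PrimeSpectrum (FractionRing B ⊗[K] L),
      P.asIdeal.under (B ⊗[K] L) ∈ minimalPrimes (B ⊗[K] L) := by
    intro P
    have hP := (IsLocalization.isPrime_iff_isPrime_disjoint
      (Algebra.algebraMapSubmonoid (B ⊗[K] L) (nonZeroDivisors B)) _ P.asIdeal).mp P.2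
    refine ⟨⟨hP.1, bot_le⟩, ?_⟩
    rintro q ⟨hq, -⟩ hle
    have hdisj : Disjoint ((Algebra.algebraMapSubmonoid (B ⊗[K] L) (nonZeroDivisors B) :
        Submonoid (B ⊗[K] L)) : Set (B ⊗[K] L)) q := hP.2.mono_right hle
    have hq' := IsLocalization.isPrime_of_isPrime_disjoint
      (Algebra.algebraMapSubmonoid (B ⊗[K] L) (nonZeroDivisors B)) (FractionRing B ⊗[K] L) q hq hdisj
    have h1 : q.map (algebraMap _ (FractionRing B ⊗[K] L)) ≤ P.asIdeal :=
      (Ideal.map_mono hle).trans Ideal.map_comap_le
    have h2 : q.map (algebraMap _ (FractionRing B ⊗[K] L)) = P.asIdeal :=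
      (hmax _ hq').eq_of_le P.2.ne_top h1
    rw [← h2, IsLocalization.under_map_of_isPrime_disjoint
      (Algebra.algebraMapSubmonoid (B ⊗[K] L) (nonZeroDivisors B)) _ hq hdisj]
  have hfin : Finite (minimalPrimes (B ⊗[K] L)) :=
    (minimalPrimes.finite_of_isNoetherianRing _).to_subtype
  refine Finite.of_injective (fun P : PrimeSpectrum (FractionRing B ⊗[K] L) =>
    (⟨_, hmin P⟩ : minimalPrimes (B ⊗[K] L))) ?_
  intro P Q h
  have := congrArg Subtype.val h
  exact PrimeSpectrum.ext ((IsLocalization.orderEmbedding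
    (Algebra.algebraMapSubmonoid (B ⊗[K] L) (nonZeroDivisors B)) _).injective this)

end

end Groth.Agent.H6.GalT
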