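import Groth.Agent.Lib.Helper6.GrProd

/-! The horseshoe construction for *injective resolutions and the long exact sequence of graded
local cohomology for the resulting resolution. -/

universe u
open DirectSum
set_option linter.unusedSectionVars false

namespace Groth.Agent.H6

namespace Gr

variable {ι : Type} [AddCommGroup ι] [DecidableEq ι]
variable {R : Type u} [CommRing R] {𝒜 : ι → AddSubgroup R} [GradedRing 𝒜]

variable {M' : Type u} [AddCommGroup M'] [Module R M'] {ℳ' : ι → AddSubgroup M'}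
  [DirectSum.Decomposition ℳ'] [SetLike.GradedSMul 𝒜 ℳ']
variable {M : Type u} [AddCommGroup M] [Module R M] {ℳ : ι → AddSubgroup M}
  [DirectSum.Decomposition ℳ] [SetLike.GradedSMul 𝒜 ℳ]
variable {M'' : Type u} [AddCommGroup M''] [Module R M''] {ℳ'' : ι → AddSubgroup M''}
  [DirectSum.Decomposition ℳ''] [SetLike.GradedSMul 𝒜 ℳ'']

/-- a short exact sequence of graded modules -/
structure GrSES (ℳ' : ι → AddSubgroup M') (ℳ : ι → AddSubgroup M) (ℳ'' : ι → AddSubgroup M'')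
    (i : M' →ₗ[R] M) (p : M →ₗ[R] M'') : Prop where
  hi : GrLC.IsGrHom ℳ' ℳ i
  hp : GrLC.IsGrHom ℳ ℳ'' p
  inj : Function.Injective i
  surj : Function.Surjective p
  exact : ∀ m, p m = 0 ↔ ∃ m', i m' = m

namespace Horseshoe

variable {i : M' →ₗ[R] M} {p : M →ₗ[R] M''} (S : GrSES ℳ' ℳ ℳ'' i p)
  (E' : GrLC.StarInjRes 𝒜 ℳ') (E'' : GrLC.StarInjRes 𝒜 ℳ'')

include S in
theorem p_i (m' : M') : p (i m') = 0 := (S.exact _).mpr ⟨m', rfl⟩

include S in
/-- the lift `σ : M → E'⁰` of the augmentation of `E'` -/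
theorem exists_σ : ∃ σ : M →ₗ[R] (E'.X 0).carrier, GrLC.IsGrHom ℳ (E'.X 0).gr σ ∧
    ∀ m', σ (i m') = E'.ε m' := by
  obtain ⟨w, hw, hwu⟩ := starInj_factor 𝒜 (E'.X 0) (E'.starInj 0) (GrLC.GMod.of 𝒜 M' ℳ')
    (GrLC.GMod.of 𝒜 M ℳ) i S.hi E'.ε E'.ε_grHom
    (fun (x : M') hx => by
      have h0 : i x = 0 := hx
      have : x = 0 := S.inj (h0.trans (map_zero i).symm)
      change E'.ε x = 0
      rw [this, map_zero])
  exact ⟨w, hw, fun m' => hwu m'⟩

/-- the data `σ` -/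
noncomputable def σ : M →ₗ[R] (E'.X 0).carrier := (exists_σ S E').choose

theorem σ_grHom : GrLC.IsGrHom ℳ (E'.X 0).gr (σ S E') := (exists_σ S E').choose_spec.1

theorem σ_i (m' : M') : σ S E' (i m') = E'.ε m' := (exists_σ S E').choose_spec.2 m'

/-- the twisting maps at a given stage -/
def ThetaAt (n : ℕ) : Type u :=
  {θ : (E''.X n).carrier →ₗ[R] (E'.X (n + 1)).carrier //
    GrLC.IsGrHom (E''.X n).gr (E'.X (n + 1)).gr θ ∧ ∀ x, E''.d n x = 0 → E'.d (n + 1) (θ x) = 0}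

theorem exists_thetaAt_zero : ∃ θ : ThetaAt E' E'' 0,
    ∀ m, θ.1 (E''.ε (p m)) = - E'.d 0 (σ S E' m) := by
  obtain ⟨w, hw, hwu⟩ := starInj_factor 𝒜 (E'.X 1) (E'.starInj 1) (GrLC.GMod.of 𝒜 M ℳ) (E''.X 0)
    (E''.ε ∘ₗ p) (fun g m hm => E''.ε_grHom g _ (S.hp g m hm)) (-(E'.d 0 ∘ₗ σ S E'))
    (fun g m hm => neg_mem (E'.d_grHom 0 g _ (σ_grHom S E' g m hm)))
    (fun (x : M) hx => by
      have h0 : E''.ε (p x) = 0 := hx
      have h1 : p x = 0 := E''.ε_injective (h0.trans (map_zero E''.ε).symm)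
      obtain ⟨m', rfl⟩ := (S.exact x).mp h1
      change -(E'.d 0 (σ S E' (i m'))) = 0
      rw [σ_i, d_ε, neg_zero])
  refine ⟨⟨w, hw, fun x hx => ?_⟩, fun m => hwu m⟩
  obtain ⟨m'', rfl⟩ := exists_of_d_zero_eq_zero E'' hx
  obtain ⟨m, rfl⟩ := S.surj m''
  rw [show w (E''.ε (p m)) = -(E'.d 0 (σ S E' m)) from hwu m, map_neg, d_d, neg_zero]

theorem exists_thetaAt_succ (n : ℕ) (θ : ThetaAt E' E'' n) : ∃ θ' : ThetaAt E' E'' (n + 1),
    ∀ x, θ'.1 (E''.d n x) = - E'.d (n + 1) (θ.1 x) := by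
  obtain ⟨w, hw, hwu⟩ := starInj_factor 𝒜 (E'.X (n + 2)) (E'.starInj (n + 2)) (E''.X n)
    (E''.X (n + 1)) (E''.d n) (E''.d_grHom n) (-(E'.d (n + 1) ∘ₗ θ.1))
    (fun g m hm => neg_mem (E'.d_grHom (n + 1) g _ (θ.2.1 g m hm)))
    (fun x hx => by
      change -(E'.d (n + 1) (θ.1 x)) = 0
      rw [θ.2.2 x hx, neg_zero])
  refine ⟨⟨w, hw, fun x hx => ?_⟩, fun x => hwu x⟩
  obtain ⟨y, rfl⟩ := exists_of_d_succ_eq_zero E'' hx
  rw [show w (E''.d n y) = -(E'.d (n + 1) (θ.1 y)) from hwu y, map_neg, d_d, neg_zero]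

/-- a chosen sequence of twisting maps -/
noncomputable def thetaSeq : ∀ n, ThetaAt E' E'' n
  | 0 => (exists_thetaAt_zero S E' E'').choose
  | n + 1 => (exists_thetaAt_succ E' E'' n (thetaSeq n)).choose

/-- the twisting maps -/
noncomputable def θ (n : ℕ) : (E''.X n).carrier →ₗ[R] (E'.X (n + 1)).carrier :=
  (thetaSeq S E' E'' n).1

theorem θ_grHom (n : ℕ) : GrLC.IsGrHom (E''.X n).gr (E'.X (n + 1)).gr (θ S E' E'' n) :=
  (thetaSeq S E' E'' n).2.1

theorem θ_ε (m : M) : θ S E' E'' 0 (E''.ε (p m)) = - E'.d 0 (σ S E' m) :=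
  (exists_thetaAt_zero S E' E'').choose_spec m

theorem θ_d (n : ℕ) (x : (E''.X n).carrier) :
    θ S E' E'' (n + 1) (E''.d n x) = - E'.d (n + 1) (θ S E' E'' n x) :=
  (exists_thetaAt_succ E' E'' n (thetaSeq S E' E'' n)).choose_spec x

/-- the differential of the horseshoe resolution -/
noncomputable def dH (n : ℕ) : ((E'.X n).carrier × (E''.X n).carrier) →ₗ[R]
    ((E'.X (n + 1)).carrier × (E''.X (n + 1)).carrier) :=
  LinearMap.prod
    (E'.d n ∘ₗ LinearMap.fst R _ _ + θ S E' E'' n ∘ₗ LinearMap.snd R _ _)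
    (E''.d n ∘ₗ LinearMap.snd R _ _)

theorem dH_apply (n : ℕ) (z : (E'.X n).carrier × (E''.X n).carrier) :
    dH S E' E'' n z = (E'.d n z.1 + θ S E' E'' n z.2, E''.d n z.2) := rfl

/-- the augmentation of the horseshoe resolution -/
noncomputable def εH : M →ₗ[R] ((E'.X 0).carrier × (E''.X 0).carrier) :=
  LinearMap.prod (σ S E') (E''.ε ∘ₗ p)

theorem εH_apply (m : M) : εH S E' E'' m = (σ S E' m, E''.ε (p m)) := rfl

theorem εH_injective : Function.Injective (εH S E' E'') := by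
  rw [injective_iff_map_eq_zero]
  intro m hm
  rw [εH_apply, Prod.mk_eq_zero] at hm
  have h1 : p m = 0 := E''.ε_injective (hm.2.trans (map_zero E''.ε).symm)
  obtain ⟨m', rfl⟩ := (S.exact m).mp h1
  have h2 := hm.1
  rw [σ_i] at h2
  have : m' = 0 := E'.ε_injective (h2.trans (map_zero E'.ε).symm)
  rw [this, map_zero]

theorem ker_dH_zero : LinearMap.ker (dH S E' E'' 0) = LinearMap.range (εH S E' E'') := by
  apply le_antisymm
  · rintro ⟨x', x''⟩ hx
    rw [LinearMap.mem_ker, dH_apply, Prod.mk_eq_zero] at hx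
    obtain ⟨m'', rfl⟩ := exists_of_d_zero_eq_zero E'' hx.2
    obtain ⟨m, rfl⟩ := S.surj m''
    have h1 := hx.1
    rw [θ_ε, ← sub_eq_add_neg, ← map_sub] at h1
    obtain ⟨m', hm'⟩ := exists_of_d_zero_eq_zero E' h1
    refine ⟨m + i m', ?_⟩
    rw [εH_apply, map_add, map_add, σ_i, hm', p_i S, add_zero]
    simp
  · rintro _ ⟨m, rfl⟩
    rw [LinearMap.mem_ker, εH_apply, dH_apply, θ_ε, d_ε]
    simp

theorem ker_dH_succ (n : ℕ) :
    LinearMap.ker (dH S E' E'' (n + 1)) = LinearMap.range (dH S E' E'' n) := by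
  apply le_antisymm
  · rintro ⟨x', x''⟩ hx
    rw [LinearMap.mem_ker, dH_apply, Prod.mk_eq_zero] at hx
    obtain ⟨y'', rfl⟩ := exists_of_d_succ_eq_zero E'' hx.2
    have h1 := hx.1
    rw [θ_d, ← sub_eq_add_neg, ← map_sub] at h1
    obtain ⟨y', hy'⟩ := exists_of_d_succ_eq_zero E' h1
    refine ⟨(y', y''), ?_⟩
    rw [dH_apply, hy']
    simp
  · rintro _ ⟨⟨y', y''⟩, rfl⟩
    rw [LinearMap.mem_ker, dH_apply, dH_apply]
    simp only [map_add, d_d, θ_d, zero_add]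
    rw [add_neg_cancel]
    rfl

/-- the horseshoe resolution -/
noncomputable def res : GrLC.StarInjRes 𝒜 ℳ where
  X n := GMod.prod 𝒜 (E'.X n) (E''.X n)
  d n := dH S E' E'' n
  ε := εH S E' E''
  d_grHom n := by
    rintro g ⟨x, y⟩ ⟨hx, hy⟩
    exact ⟨add_mem (E'.d_grHom n g x hx) (θ_grHom S E' E'' n g y hy), E''.d_grHom n g y hy⟩
  ε_grHom := fun g m hm => ⟨σ_grHom S E' g m hm, E''.ε_grHom g _ (S.hp g m hm)⟩
  ε_injective := εH_injective S E' E''
  exact_zero := ker_dH_zero S E' E''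
  exact_succ n := ker_dH_succ S E' E'' n
  starInj n := prod_starInj 𝒜 (E'.X n) (E''.X n) (E'.starInj n) (E''.starInj n)

/-- the inclusion of `E'` -/
noncomputable def inlLift : ChainLift 𝒜 ℳ' ℳ E' (res S E' E'') i where
  φ n := LinearMap.inl R _ _
  grHom n := inl_isGrHom 𝒜 (E'.X n) (E''.X n)
  comm_ε m' := by
    change ((E'.ε m', 0) : (E'.X 0).carrier × (E''.X 0).carrier) = εH S E' E'' (i m')
    rw [εH_apply, σ_i, p_i S, map_zero]
  comm_d n x := by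
    change ((E'.d n x, 0) : (E'.X (n + 1)).carrier × (E''.X (n + 1)).carrier) = dH S E' E'' n (x, 0)
    rw [dH_apply]
    simp

/-- the projection to `E''` -/
noncomputable def sndLift : ChainLift 𝒜 ℳ ℳ'' (res S E' E'') E'' p where
  φ _ := LinearMap.snd R _ _
  grHom n := snd_isGrHom 𝒜 (E'.X n) (E''.X n)
  comm_ε _ := rfl
  comm_d _ _ := rfl

end Horseshoe

end Gr

end Groth.Agent.H6
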