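import Groth.Agent.Lib.Helper6.GrShift
import Groth.Agent.Lib.Helper6.GrGamma
import Groth.Agent.Lib.Helper6.GrSubQuot
import Groth.Agent.Lib.Helper6.GrHorseshoe

/-! Division by a homogeneous element modulo its torsion in a *injective module, and the resulting
filtration of `E / Γ_a(E)`. -/

universe u
open DirectSum
set_option linter.unusedSectionVars false

namespace Groth.Agent.H6

namespace Gr

section Gam

variable {R : Type u} [CommRing R] {M : Type u} [AddCommGroup M] [Module R M]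

theorem gam_mono {a b : Ideal R} (h : a ≤ b) : GrLC.gam b M ≤ GrLC.gam a M := by
  rintro x ⟨n, hn⟩
  exact ⟨n, fun r hr => hn r (Ideal.pow_right_mono h n hr)⟩

theorem gam_sup (a b : Ideal R) : GrLC.gam (a ⊔ b) M = GrLC.gam a M ⊓ GrLC.gam b M := by
  apply le_antisymm
  · exact le_inf (gam_mono le_sup_left) (gam_mono le_sup_right)
  · rintro x ⟨⟨n, hn⟩, ⟨m, hm⟩⟩
    refine ⟨n + m, fun r hr => ?_⟩
    have h1 := Ideal.sup_pow_add_le_pow_sup_pow (I := a) (J := b) (n := n) (m := m) hr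
    obtain ⟨s, hs, t, ht, rfl⟩ := Submodule.mem_sup.mp h1
    rw [add_smul, hn s hs, hm t ht, add_zero]

theorem mem_gam_span_singleton {x : R} {e : M} :
    e ∈ GrLC.gam (Ideal.span {x}) M ↔ ∃ n : ℕ, x ^ n • e = 0 := by
  constructor
  · rintro ⟨n, hn⟩
    refine ⟨n, hn _ ?_⟩
    rw [Ideal.span_singleton_pow]
    exact Ideal.mem_span_singleton_self _
  · rintro ⟨n, hn⟩
    refine ⟨n, fun r hr => ?_⟩
    rw [Ideal.span_singleton_pow, Ideal.mem_span_singleton'] at hr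
    obtain ⟨s, rfl⟩ := hr
    rw [mul_smul, hn, smul_zero]

end Gam

variable {ι : Type} [AddCommGroup ι] [DecidableEq ι]
variable {R : Type u} [CommRing R] (𝒜 : ι → AddSubgroup R) [GradedRing 𝒜]

section

variable {L : Type u} [AddCommGroup L] [Module R L] (𝓛 : ι → AddSubgroup L)
  [DirectSum.Decomposition 𝓛] [SetLike.GradedSMul 𝒜 𝓛]

/-- components of a multiple of a homogeneous element -/
theorem proj_smul_of_homogeneous {c : ι} {z : L} (hz : z ∈ 𝓛 c) (r : R) (g : ι) :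
    proj 𝓛 g (r • z) = proj 𝒜 (g - c) r • z := by
  induction r using induction_on 𝒜 with
  | zero => simp
  | homogeneous k r hr =>
    have hrz : r • z ∈ 𝓛 (k + c) := SetLike.GradedSMul.smul_mem (A := 𝒜) (B := 𝓛) hr hz
    by_cases hkg : k + c = g
    · subst hkg
      rw [proj_of_mem 𝓛 hrz, add_sub_cancel_right, proj_of_mem 𝒜 hr]
    · have hne : k ≠ g - c := fun h => hkg (by rw [h, sub_add_cancel])
      rw [proj_of_mem_ne 𝓛 hrz hkg, proj_of_mem_ne 𝒜 hr hne, zero_smul]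
  | add r r' h1 h2 => rw [add_smul, map_add, map_add, add_smul, h1, h2]

end

section Div

variable {E : Type u} [AddCommGroup E] [Module R E] (ℰ : ι → AddSubgroup E)
  [DirectSum.Decomposition ℰ] [SetLike.GradedSMul 𝒜 ℰ]

/-- division by a homogeneous element modulo torsion, for a homogeneous element of a *injective
module -/
theorem exists_div_homogeneous [IsNoetherianRing R] (hE : GrLC.IsStarInj 𝒜 ℰ) {d : ι} {x : R}
    (hx : x ∈ 𝒜 d) {c : ι} {e : E} (he : e ∈ ℰ c) :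
    ∃ (h : E →ₗ[R] E) (n : ℕ), x ^ n • (x • h e - e) = 0 := by
  -- the chain of annihilators
  let J : ℕ →o Ideal R :=
    ⟨fun n => LinearMap.ker (LinearMap.toSpanSingleton R E (x ^ n • e)), by
      intro n m hnm r hr
      rw [LinearMap.mem_ker, LinearMap.toSpanSingleton_apply] at hr ⊢
      obtain ⟨l, rfl⟩ := Nat.exists_eq_add_of_le hnm
      rw [pow_add, mul_comm, mul_smul, smul_comm, hr, smul_zero]⟩
  obtain ⟨n, hn⟩ := monotone_stabilizes_iff_noetherian.mpr (inferInstance : IsNoetherian R R) J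
  have hJ : J (n + 1) = J n := (hn (n + 1) (Nat.le_succ n)).symm
  let y : E := x ^ (n + 1) • e
  have hxn : ∀ m : ℕ, x ^ m ∈ 𝒜 (m • d) := fun m => SetLike.pow_mem_graded m hx
  have hy : y ∈ ℰ ((n + 1) • d + c) :=
    SetLike.GradedSMul.smul_mem (A := 𝒜) (B := ℰ) (hxn (n + 1)) he
  have hy' : x ^ n • e ∈ ℰ (n • d + c) :=
    SetLike.GradedSMul.smul_mem (A := 𝒜) (B := ℰ) (hxn n) he
  let α : R →ₗ[R] E := LinearMap.toSpanSingleton R E y
  let β : R →ₗ[R] E := LinearMap.toSpanSingleton R E (x ^ n • e)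
  have hker : LinearMap.ker α = LinearMap.ker β := hJ
  have hA : (LinearMap.range α).IsHomogeneous ℰ := by
    have : LinearMap.range α = Submodule.span R {y} := (LinearMap.span_singleton_eq_range R E y).symm
    rw [this]
    exact span_singleton_isHomogeneous ℰ 𝒜 hy
  let φ : ↥(LinearMap.range α) →ₗ[R] E :=
    ((LinearMap.ker α).liftQ β hker.le) ∘ₗ (α.quotKerEquivRange).symm.toLinearMap
  have hφ : ∀ (r : R) (h : α r ∈ LinearMap.range α), φ ⟨α r, h⟩ = β r := by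
    intro r h
    change (LinearMap.ker α).liftQ β hker.le ((α.quotKerEquivRange).symm ⟨α r, h⟩) = β r
    have : (α.quotKerEquivRange).symm ⟨α r, h⟩ = (LinearMap.ker α).mkQ r := by
      rw [LinearEquiv.symm_apply_eq]
      exact Subtype.ext rfl
    rw [this, Submodule.mkQ_apply, Submodule.liftQ_apply]
  have hφdeg : GrLC.IsGrHomDeg (subGr ℰ (LinearMap.range α)) ℰ φ (-d) := by
    intro g a' hag
    change (a' : E) ∈ ℰ g at hag
    obtain ⟨r, hr⟩ := a'.2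
    have h1 : α (proj 𝒜 (g - ((n + 1) • d + c)) r) = (a' : E) := by
      rw [← hr]
      change proj 𝒜 (g - ((n + 1) • d + c)) r • y = r • y
      rw [← proj_smul_of_homogeneous 𝒜 ℰ hy r g]
      have : r • y = (a' : E) := hr
      rw [this]
      exact proj_of_mem ℰ hag
    have h2 : a' = ⟨α (proj 𝒜 (g - ((n + 1) • d + c)) r), LinearMap.mem_range_self α _⟩ :=
      Subtype.ext h1.symm
    rw [h2, hφ]
    change proj 𝒜 (g - ((n + 1) • d + c)) r • (x ^ n • e) ∈ ℰ (g + -d)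
    have h3 := SetLike.GradedSMul.smul_mem (A := 𝒜) (B := ℰ)
      (proj_mem 𝒜 (g - ((n + 1) • d + c)) r) hy'
    rw [vadd_eq_add] at h3
    have h4 : g - ((n + 1) • d + c) + (n • d + c) = g + (-d) := by
      rw [succ_nsmul]
      abel
    rwa [h4] at h3
  obtain ⟨h0, -, hh⟩ := starInj_extend_deg 𝒜 ℰ hE (GMod.ofSub 𝒜 ℰ hA) (GrLC.GMod.of 𝒜 E ℰ)
    (LinearMap.range α).subtype (fun g z hz => hz) Subtype.val_injective (-d) φ hφdeg
  let h : E →ₗ[R] E := h0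
  refine ⟨h, n, ?_⟩
  have h5 : h (x ^ (n + 1) • e) = x ^ n • e := by
    have h6 : x ^ (n + 1) • e = α 1 := by
      change y = (1 : R) • y
      rw [one_smul]
    have h7 : h (α 1) = φ ⟨α 1, LinearMap.mem_range_self α 1⟩ :=
      LinearMap.congr_fun hh (⟨α 1, LinearMap.mem_range_self α 1⟩ : ↥(LinearMap.range α))
    rw [h6, h7, hφ]
    change (1 : R) • (x ^ n • e) = _
    rw [one_smul]
  rw [smul_sub, ← mul_smul, ← pow_succ, ← map_smul, h5, sub_self]

/-- division by a homogeneous element modulo torsion in the `a`-torsion of a *injective module -/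
theorem exists_div_mod_torsion [IsNoetherianRing R] (hE : GrLC.IsStarInj 𝒜 ℰ) {d : ι} {x : R}
    (hx : x ∈ 𝒜 d) (a : HomogeneousIdeal 𝒜) {e : E} (he : e ∈ GrLC.gam a.toIdeal E) :
    ∃ e' ∈ GrLC.gam a.toIdeal E, ∃ n : ℕ, x ^ n • (x • e' - e) = 0 := by
  obtain ⟨s, hs⟩ := exists_finset_sum_proj ℰ e
  rw [← hs]
  refine Finset.sum_induction _
    (fun e => ∃ e' ∈ GrLC.gam a.toIdeal E, ∃ n : ℕ, x ^ n • (x • e' - e) = 0) ?_ ?_ ?_
  · rintro e₁ e₂ ⟨e₁', h₁, n₁, hn₁⟩ ⟨e₂', h₂, n₂, hn₂⟩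
    refine ⟨e₁' + e₂', add_mem h₁ h₂, n₁ + n₂, ?_⟩
    have : x • (e₁' + e₂') - (e₁ + e₂) = (x • e₁' - e₁) + (x • e₂' - e₂) := by
      rw [smul_add]; abel
    have hA : x ^ (n₁ + n₂) • (x • e₁' - e₁) = 0 := by
      rw [pow_add, mul_comm, mul_smul, hn₁, smul_zero]
    have hB : x ^ (n₁ + n₂) • (x • e₂' - e₂) = 0 := by
      rw [pow_add, mul_smul, hn₂, smul_zero]
    rw [this, smul_add, hA, hB, add_zero]
  · exact ⟨0, zero_mem _, 0, by simp⟩
  · intro g _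
    obtain ⟨h, n, hn⟩ := exists_div_homogeneous 𝒜 ℰ hE hx (proj_mem ℰ g e)
    refine ⟨h (proj ℰ g e), ?_, n, hn⟩
    obtain ⟨m, hm⟩ : proj ℰ g e ∈ GrLC.gam a.toIdeal E := gam_isHomogeneous 𝒜 ℰ a g he
    exact ⟨m, fun r hr => by rw [← map_smul, hm r hr, map_zero]⟩

end Div

section Good

variable {R : Type u} [CommRing R] (𝒜 : ℤ → AddSubgroup R) [GradedRing 𝒜]

/-- graded modules built by extensions from modules on which a homogeneous element of positive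
degree acts bijectively -/
inductive Good : GrLC.GMod.{u} 𝒜 → Prop
  | bij (U : GrLC.GMod.{u} 𝒜) (d : ℤ) (hd : 0 < d) (x : R) (hx : x ∈ 𝒜 d)
      (hb : Function.Bijective (fun u : U.carrier => x • u)) : Good U
  | ses (U' U U'' : GrLC.GMod.{u} 𝒜) (i : U'.carrier →ₗ[R] U.carrier)
      (p : U.carrier →ₗ[R] U''.carrier) (S : GrSES U'.gr U.gr U''.gr i p)
      (h' : Good U') (h'' : Good U'') : Good U

variable {E : Type u} [AddCommGroup E] [Module R E] (ℰ : ℤ → AddSubgroup E)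
  [DirectSum.Decomposition ℰ] [SetLike.GradedSMul 𝒜 ℰ]

theorem ker_mkQ_gam_isHomogeneous (a : HomogeneousIdeal 𝒜) :
    (LinearMap.ker (GrLC.gam a.toIdeal E).mkQ).IsHomogeneous ℰ := by
  rw [Submodule.ker_mkQ]
  exact gam_isHomogeneous 𝒜 ℰ a

/-- the quotient `E / Γ_a(E)` as a graded module -/
noncomputable def gamQuot (a : HomogeneousIdeal 𝒜) : GrLC.GMod.{u} 𝒜 :=
  GMod.ofQuot 𝒜 ℰ (Submodule.mkQ_surjective (GrLC.gam a.toIdeal E))
    (ker_mkQ_gam_isHomogeneous 𝒜 ℰ a)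

/-- the quotient map -/
noncomputable def gamQuotMk (a : HomogeneousIdeal 𝒜) : E →ₗ[R] (gamQuot 𝒜 ℰ a).carrier :=
  (GrLC.gam a.toIdeal E).mkQ

theorem gamQuotMk_surjective (a : HomogeneousIdeal 𝒜) :
    Function.Surjective (gamQuotMk 𝒜 ℰ a) := Submodule.mkQ_surjective _

theorem ker_gamQuotMk (a : HomogeneousIdeal 𝒜) :
    LinearMap.ker (gamQuotMk 𝒜 ℰ a) = GrLC.gam a.toIdeal E := Submodule.ker_mkQ _

theorem gamQuotMk_isGrHom (a : HomogeneousIdeal 𝒜) :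
    GrLC.IsGrHom ℰ (gamQuot 𝒜 ℰ a).gr (gamQuotMk 𝒜 ℰ a) := fun g m hm => ⟨m, hm, rfl⟩

theorem gamQuotMk_eq_zero (a : HomogeneousIdeal 𝒜) (e : E) :
    gamQuotMk 𝒜 ℰ a e = 0 ↔ e ∈ GrLC.gam a.toIdeal E := by
  rw [← LinearMap.mem_ker, ker_gamQuotMk]

theorem mem_gamQuot_gr (a : HomogeneousIdeal 𝒜) {g : ℤ} {u : (gamQuot 𝒜 ℰ a).carrier}
    (hu : u ∈ (gamQuot 𝒜 ℰ a).gr g) : ∃ m ∈ ℰ g, gamQuotMk 𝒜 ℰ a m = u := hu

/-- one step of the filtration -/
theorem good_step [IsNoetherianRing R] (hE : GrLC.IsStarInj 𝒜 ℰ) (a a' : HomogeneousIdeal 𝒜)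
    {d : ℤ} (hd : 0 < d) {x : R} (hx : x ∈ 𝒜 d) (ha' : a'.toIdeal = a.toIdeal ⊔ Ideal.span {x})
    (h : Good 𝒜 (gamQuot 𝒜 ℰ a)) : Good 𝒜 (gamQuot 𝒜 ℰ a') := by
  have hgam : GrLC.gam a'.toIdeal E = GrLC.gam a.toIdeal E ⊓ GrLC.gam (Ideal.span {x}) E := by
    rw [ha', gam_sup]
  have hle : GrLC.gam a'.toIdeal E ≤ GrLC.gam a.toIdeal E := by rw [hgam]; exact inf_le_left
  -- the projection
  let p : (gamQuot 𝒜 ℰ a').carrier →ₗ[R] (gamQuot 𝒜 ℰ a).carrier :=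
    (GrLC.gam a'.toIdeal E).mapQ (GrLC.gam a.toIdeal E) LinearMap.id (by
      rw [Submodule.comap_id]; exact hle)
  have hpmk : ∀ e : E, p (gamQuotMk 𝒜 ℰ a' e) = gamQuotMk 𝒜 ℰ a e := fun e => rfl
  have hp : GrLC.IsGrHom (gamQuot 𝒜 ℰ a').gr (gamQuot 𝒜 ℰ a).gr p := by
    intro g u hu
    obtain ⟨m, hm, rfl⟩ := mem_gamQuot_gr 𝒜 ℰ a' hu
    rw [hpmk]
    exact gamQuotMk_isGrHom 𝒜 ℰ a g m hm
  have hK : (LinearMap.ker p).IsHomogeneous (gamQuot 𝒜 ℰ a').gr :=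
    ker_isHomogeneous (gamQuot 𝒜 ℰ a').gr (gamQuot 𝒜 ℰ a).gr hp
  let U₀ : GrLC.GMod.{u} 𝒜 := GMod.ofSub 𝒜 (gamQuot 𝒜 ℰ a').gr hK
  let i : U₀.carrier →ₗ[R] (gamQuot 𝒜 ℰ a').carrier := (LinearMap.ker p).subtype
  have hS : GrSES U₀.gr (gamQuot 𝒜 ℰ a').gr (gamQuot 𝒜 ℰ a).gr i p :=
    { hi := fun g z hz => hz
      hp := hp
      inj := Subtype.val_injective
      surj := by
        intro u
        obtain ⟨e, rfl⟩ := gamQuotMk_surjective 𝒜 ℰ a u
        exact ⟨gamQuotMk 𝒜 ℰ a' e, hpmk e⟩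
      exact := by
        intro m
        constructor
        · intro hm
          exact ⟨⟨m, hm⟩, rfl⟩
        · rintro ⟨m', rfl⟩
          exact m'.2 }
  refine Good.ses U₀ _ _ i p hS ?_ h
  refine Good.bij U₀ d hd x hx ⟨?_, ?_⟩
  · -- injective
    intro u v huv
    have h0 : x • (u - v) = 0 := by
      rw [smul_sub]
      exact sub_eq_zero.mpr huv
    have hw : ∀ w : U₀.carrier, x • w = 0 → w = 0 := by
      intro w hw
      obtain ⟨e, he⟩ := gamQuotMk_surjective 𝒜 ℰ a' (i w)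
      have h1 : e ∈ GrLC.gam a.toIdeal E := by
        rw [← gamQuotMk_eq_zero 𝒜 ℰ a, ← hpmk, he]
        exact w.2
      have h2 : x • e ∈ GrLC.gam a'.toIdeal E := by
        rw [← gamQuotMk_eq_zero 𝒜 ℰ a', map_smul, he, ← map_smul, hw, map_zero]
      rw [hgam] at h2
      obtain ⟨n, hn⟩ := mem_gam_span_singleton.mp h2.2
      have h3 : e ∈ GrLC.gam a'.toIdeal E := by
        rw [hgam]
        refine ⟨h1, mem_gam_span_singleton.mpr ⟨n + 1, ?_⟩⟩
        rw [pow_succ, mul_smul]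
        exact hn
      apply Subtype.val_injective
      change i w = 0
      rw [← he]
      exact (gamQuotMk_eq_zero 𝒜 ℰ a' e).mpr h3
    exact sub_eq_zero.mp (hw _ h0)
  · -- surjective
    intro u
    obtain ⟨e, he⟩ := gamQuotMk_surjective 𝒜 ℰ a' (i u)
    have h1 : e ∈ GrLC.gam a.toIdeal E := by
      rw [← gamQuotMk_eq_zero 𝒜 ℰ a, ← hpmk, he]
      exact u.2
    obtain ⟨e', he', n, hn⟩ := exists_div_mod_torsion 𝒜 ℰ hE hx a h1
    have h2 : x • e' - e ∈ GrLC.gam a'.toIdeal E := by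
      rw [hgam]
      exact ⟨sub_mem (Submodule.smul_mem _ _ he') h1, mem_gam_span_singleton.mpr ⟨n, hn⟩⟩
    have h3 : gamQuotMk 𝒜 ℰ a' e' ∈ LinearMap.ker p := by
      rw [LinearMap.mem_ker, hpmk]
      exact (gamQuotMk_eq_zero 𝒜 ℰ a e').mpr he'
    refine ⟨⟨gamQuotMk 𝒜 ℰ a' e', h3⟩, ?_⟩
    apply Subtype.val_injective
    change x • gamQuotMk 𝒜 ℰ a' e' = i u
    rw [← he, ← map_smul, ← sub_eq_zero, ← map_sub]
    exact (gamQuotMk_eq_zero 𝒜 ℰ a' _).mpr h2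

/-- `E / Γ_a(E)` is good when `a` is generated by finitely many homogeneous elements of positive
degree -/
theorem good_of_span [IsNoetherianRing R] (hE : GrLC.IsStarInj 𝒜 ℰ) (s : Finset R)
    (hs : ∀ x ∈ s, ∃ d : ℤ, 0 < d ∧ x ∈ 𝒜 d) :
    ∀ a : HomogeneousIdeal 𝒜, a.toIdeal = Ideal.span (s : Set R) → Good 𝒜 (gamQuot 𝒜 ℰ a) := by
  classical
  induction s using Finset.induction_on with
  | empty =>
    intro a ha
    have htop : GrLC.gam a.toIdeal E = ⊤ := by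
      rw [eq_top_iff]
      intro e _
      refine ⟨1, fun r hr => ?_⟩
      rw [pow_one, ha, Finset.coe_empty, Ideal.span_empty, Ideal.mem_bot] at hr
      rw [hr, zero_smul]
    refine Good.bij _ 1 one_pos 0 (zero_mem _) ?_
    have hsub : ∀ u : (gamQuot 𝒜 ℰ a).carrier, u = 0 := by
      intro u
      obtain ⟨e, rfl⟩ := gamQuotMk_surjective 𝒜 ℰ a u
      rw [gamQuotMk_eq_zero, htop]
      trivial
    exact ⟨fun u v _ => by rw [hsub u, hsub v], fun u => ⟨0, (hsub _).trans (hsub u).symm⟩⟩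
  | insert x s hx ih =>
    intro a' ha'
    obtain ⟨d, hd, hxd⟩ := hs x (Finset.mem_insert_self x s)
    have hs' : ∀ y ∈ s, ∃ d : ℤ, 0 < d ∧ y ∈ 𝒜 d := fun y hy => hs y (Finset.mem_insert_of_mem hy)
    let a : HomogeneousIdeal 𝒜 := ⟨Ideal.span (s : Set R), Ideal.homogeneous_span 𝒜 _ (by
      intro y hy
      obtain ⟨e, -, hye⟩ := hs' y hy
      exact ⟨e, hye⟩)⟩
    have h1 : a'.toIdeal = a.toIdeal ⊔ Ideal.span {x} := by
      rw [ha', Finset.coe_insert, Ideal.span_insert, sup_comm]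
    exact good_step 𝒜 ℰ hE a a' hd hxd h1 (ih hs' a rfl)

/-- `E / Γ_m(E)` is good for the irrelevant ideal `m` -/
theorem good_irrelevant [IsNoetherianRing R] (hE : GrLC.IsStarInj 𝒜 ℰ) (a : HomogeneousIdeal 𝒜)
    (ha : a.toIdeal = Ideal.span (⋃ n ∈ Set.Ioi (0 : ℤ), (𝒜 n : Set R))) :
    Good 𝒜 (gamQuot 𝒜 ℰ a) := by
  have hfg : (Ideal.span (⋃ n ∈ Set.Ioi (0 : ℤ), (𝒜 n : Set R))).FG :=
    IsNoetherian.noetherian _
  obtain ⟨s, hsub, hspan⟩ := (Submodule.fg_span_iff_fg_span_finset_subset _).mp hfg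
  refine good_of_span 𝒜 ℰ hE s (fun x hx => ?_) a (ha.trans hspan)
  have h1 := hsub hx
  simp only [Set.mem_iUnion, Set.mem_Ioi, SetLike.mem_coe, exists_prop] at h1
  exact h1

end Good

end Gr

end Groth.Agent.H6
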