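import Mathlib
import Groth.Agent.Lib.Helper6.NZ5
import Groth.Agent.Lib.Helper2.AssSch1

universe u
open CategoryTheory CategoryTheory.Limits AlgebraicGeometry TopologicalSpace Opposite IsLocalRing

set_option linter.unusedSectionVars false
set_option linter.unusedSimpArgs false
set_option linter.style.haveILetI false
namespace Groth.Agent.H6.NZ

/-- a dominant morphism of irreducible schemes maps the generic point to the generic point. -/
theorem map_genericPoint_of_isDominant {X Y : Scheme.{u}} [IrreducibleSpace X] [IrreducibleSpace Y]
    (f : X ⟶ Y) [IsDominant f] : f.base (genericPoint X) = genericPoint Y := by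
  have h1 := (genericPoint_spec X).image f.continuous
  rw [Set.image_univ, f.denseRange.closure_range] at h1
  exact ((genericPoint_spec Y).eq h1).symm

section

variable {X : Scheme.{u}} [IsIntegral X] {R : CommRingCat.{u}} [IsLocalRing R]
  (ψ : X.presheaf.stalk (genericPoint X) ⟶ R) (g : Spec R ⟶ X)
  (hg : g = Spec.map ψ ≫ X.fromSpecStalk (genericPoint X))

include hg in
theorem fibre_genericPoint (hR : IsField R) [QuasiCompact g] [QuasiSeparated g]
    [IsIntegral g.normalization] :
    g.fromNormalization.base ⁻¹' {genericPoint X} = {genericPoint g.normalization} := by
  have hdom := isDominant_fromNormalization ψ g hg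
  have h0 : g.fromNormalization.base (genericPoint g.normalization) = genericPoint X :=
    map_genericPoint_of_isDominant g.fromNormalization
  ext x'
  simp only [Set.mem_preimage, Set.mem_singleton_iff]
  constructor
  · intro hx'
    exact Groth.Agent.H2.AssSch.eq_of_specializes_of_isIntegralHom g.fromNormalization x'
      (genericPoint g.normalization) ((genericPoint_spec g.normalization).specializes trivial)
      (hx'.trans h0.symm)
  · rintro rfl
    exact h0

theorem subsingleton_spec (hR : IsField R) : Subsingleton (Spec R) := by
  letI := hR.toField
  change Subsingleton (PrimeSpectrum R)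
  infer_instance

include hg in
theorem toNormalization_closedPoint (hR : IsField R) [QuasiCompact g] [QuasiSeparated g]
    [IsIntegral g.normalization] :
    g.toNormalization.base (closedPoint R) = genericPoint g.normalization := by
  have hsub := subsingleton_spec (R := R) hR
  have hdense : DenseRange g.toNormalization.base := g.toNormalization.denseRange
  have hrange : Set.range g.toNormalization.base = {g.toNormalization.base (closedPoint R)} := by
    ext y
    constructor
    · rintro ⟨x, rfl⟩
      rw [Subsingleton.elim x (closedPoint R)]
      rfl
    · rintro rfl
      exact ⟨_, rfl⟩
  have h1 : IsGenericPoint (g.toNormalization.base (closedPoint R)) (Set.univ) := by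
    rw [isGenericPoint_def, ← hrange]
    exact hdense.closure_range
  exact ((genericPoint_spec g.normalization).eq h1).symm

end

end Groth.Agent.H6.NZ
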