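import Mathlib
import Groth.Agent.Lib.Helper6.NZ6

universe u
open CategoryTheory CategoryTheory.Limits AlgebraicGeometry TopologicalSpace Opposite IsLocalRing

set_option linter.unusedSectionVars false
set_option linter.unusedSimpArgs false
set_option linter.style.haveILetI false
namespace Groth.Agent.H6.NZ

section

variable {X : Scheme.{u}} [IsIntegral X] {R : CommRingCat.{u}} [IsLocalRing R]
  (ψ : X.presheaf.stalk (genericPoint X) ⟶ R) (g : Spec R ⟶ X)
  (hg : g = Spec.map ψ ≫ X.fromSpecStalk (genericPoint X))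

include hg in
theorem closedPoint_mem [QuasiCompact g] [QuasiSeparated g] (U : X.Opens)
    (hξ : genericPoint X ∈ U) :
    g.toNormalization.base (closedPoint R) ∈ g.fromNormalization ⁻¹ᵁ U := by
  let c : ↥(Spec R) := closedPoint R
  change g.fromNormalization.base (g.toNormalization.base c) ∈ U
  have h1 : g.fromNormalization.base (g.toNormalization.base c) =
      (g.toNormalization ≫ g.fromNormalization).base c := rfl
  have h2 : (g.toNormalization ≫ g.fromNormalization).base c = g.base c := by
    rw [Scheme.Hom.toNormalization_fromNormalization]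
  rw [h1, h2, g_apply ψ g hg c]
  exact hξ

include hg in
/-- the germ at the image of the closed point followed by `stalkClosedPointTo`, in terms of the
integral closure. -/
theorem germ_stalkClosedPointTo_eq [QuasiCompact g] [QuasiSeparated g] (U : X.Opens)
    (hU : IsAffineOpen U) (hξ : genericPoint X ∈ U) :
    letI := (g.app U).hom.toAlgebra
    g.normalization.presheaf.germ (g.fromNormalization ⁻¹ᵁ U)
        (g.toNormalization.base (closedPoint R)) (closedPoint_mem ψ g hg U hξ) ≫
      Scheme.stalkClosedPointTo g.toNormalization =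
    (g.normalizationObjIso hU).hom ≫ CommRingCat.ofHom (Subalgebra.val _).toRingHom ≫
      (secIso ψ g hg U hξ).hom := by
  letI := (g.app U).hom.toAlgebra
  rw [Scheme.germ_stalkClosedPointTo g.toNormalization (g.fromNormalization ⁻¹ᵁ U)
    (closedPoint_mem ψ g hg U hξ)]
  rw [← Category.assoc, g.normalizationObjIso_hom_val hU]
  rw [Scheme.Hom.appLE, Category.assoc]
  congr 1

end

end Groth.Agent.H6.NZ

namespace Groth.Agent.H6.NZ

section

variable {X : Scheme.{u}} [IsIntegral X] {R : CommRingCat.{u}} [IsLocalRing R]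
  (ψ : X.presheaf.stalk (genericPoint X) ⟶ R) (g : Spec R ⟶ X)
  (hg : g = Spec.map ψ ≫ X.fromSpecStalk (genericPoint X))

include hg in
theorem app_germ_stalkClosedPointTo [QuasiCompact g] [QuasiSeparated g] (U : X.Opens)
    (hU : IsAffineOpen U) (hξ : genericPoint X ∈ U) :
    g.fromNormalization.app U ≫
      g.normalization.presheaf.germ (g.fromNormalization ⁻¹ᵁ U)
        (g.toNormalization.base (closedPoint R)) (closedPoint_mem ψ g hg U hξ) ≫
      Scheme.stalkClosedPointTo g.toNormalization =
    X.presheaf.germ U (genericPoint X) hξ ≫ ψ := by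
  letI := (g.app U).hom.toAlgebra
  rw [germ_stalkClosedPointTo_eq ψ g hg U hU hξ, g.fromNormalization_app hU]
  simp only [Category.assoc, Iso.inv_hom_id_assoc]
  rw [← app_secIso ψ g hg U hξ, ← Category.assoc]
  rfl

include hg in
theorem range_germ_stalkClosedPointTo [QuasiCompact g] [QuasiSeparated g] (U : X.Opens)
    (hU : IsAffineOpen U) (hξ : genericPoint X ∈ U) :
    Set.range (g.normalization.presheaf.germ (g.fromNormalization ⁻¹ᵁ U)
        (g.toNormalization.base (closedPoint R)) (closedPoint_mem ψ g hg U hξ) ≫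
      Scheme.stalkClosedPointTo g.toNormalization).hom =
    {y : R | (X.presheaf.germ U (genericPoint X) hξ ≫ ψ).hom.IsIntegralElem y} := by
  letI := (g.app U).hom.toAlgebra
  rw [germ_stalkClosedPointTo_eq ψ g hg U hU hξ]
  have hρ : (X.presheaf.germ U (genericPoint X) hξ ≫ ψ).hom =
      (secIso ψ g hg U hξ).hom.hom.comp (g.app U).hom := by
    rw [← app_secIso ψ g hg U hξ]; rfl
  ext y
  simp only [Set.mem_range, Set.mem_ofPred_eq]
  constructor
  · rintro ⟨a, rfl⟩
    obtain ⟨p, hpm, hp⟩ := ((g.normalizationObjIso hU).hom.hom a).2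
    refine ⟨p, hpm, ?_⟩
    rw [hρ]
    have h2 := Polynomial.hom_eval₂ p (g.app U).hom (secIso ψ g hg U hξ).hom.hom
      (((g.normalizationObjIso hU).hom.hom a : integralClosure Γ(X, U) Γ(Spec R, g ⁻¹ᵁ U)) :
        Γ(Spec R, g ⁻¹ᵁ U))
    refine h2.symm.trans ?_
    have hp' : Polynomial.eval₂ (g.app U).hom
        (((g.normalizationObjIso hU).hom.hom a : integralClosure Γ(X, U) Γ(Spec R, g ⁻¹ᵁ U)) :
          Γ(Spec R, g ⁻¹ᵁ U)) p = 0 := hp
    rw [hp', map_zero]
  · rintro ⟨p, hpm, hp⟩
    rw [hρ] at hp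
    let l : Γ(Spec R, g ⁻¹ᵁ U) := (secIso ψ g hg U hξ).inv.hom y
    have hl : (secIso ψ g hg U hξ).hom.hom l = y := by
      change ((secIso ψ g hg U hξ).inv ≫ (secIso ψ g hg U hξ).hom).hom y = y
      rw [Iso.inv_hom_id]; rfl
    have hlint : IsIntegral Γ(X, U) l := by
      refine ⟨p, hpm, ?_⟩
      have hinj : Function.Injective (secIso ψ g hg U hξ).hom.hom :=
        (ConcreteCategory.bijective_of_isIso (secIso ψ g hg U hξ).hom).1
      apply hinj
      rw [map_zero]
      have h2 := Polynomial.hom_eval₂ p (g.app U).hom (secIso ψ g hg U hξ).hom.hom l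
      refine h2.trans ?_
      rw [hl]
      exact hp
    refine ⟨(g.normalizationObjIso hU).inv.hom ⟨l, hlint⟩, ?_⟩
    have h3 : (g.normalizationObjIso hU).hom.hom ((g.normalizationObjIso hU).inv.hom ⟨l, hlint⟩) =
        ⟨l, hlint⟩ := by
      change ((g.normalizationObjIso hU).inv ≫ (g.normalizationObjIso hU).hom).hom ⟨l, hlint⟩ = _
      rw [Iso.inv_hom_id]; rfl
    change (secIso ψ g hg U hξ).hom.hom
      (((g.normalizationObjIso hU).hom.hom ((g.normalizationObjIso hU).inv.hom ⟨l, hlint⟩) :
        integralClosure Γ(X, U) Γ(Spec R, g ⁻¹ᵁ U)) : Γ(Spec R, g ⁻¹ᵁ U)) = y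
    rw [h3]
    exact hl

end

end Groth.Agent.H6.NZ
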