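import Mathlib

universe u

set_option linter.unusedSectionVars false
set_option linter.unusedSimpArgs false
set_option linter.style.haveILetI false
namespace Groth.Agent.H6.NZ

/-- the range of a map of fields `σ : S → L`, where `S` is the fraction field of `A'` and the image
of `A'` is the integral closure of `A` in `L`, is the algebraic closure of `Frac A` in `L`. -/
theorem range_eq_of_fraction {A A' S F L : Type u} [CommRing A] [IsDomain A] [CommRing A']
    [CommRing S] [Field F] [CommRing L] [Algebra A F] [IsFractionRing A F]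
    (hS : IsField S) (hL : IsField L)
    (σ : S →+* L) (ι' : A' →+* S) (ψ : F →+* L) (ν : A →+* A')
    (hfrac : ∀ s : S, ∃ a b : A', ι' b ≠ 0 ∧ s * ι' b = ι' a)
    (hcomp : (σ.comp ι').comp ν = ψ.comp (algebraMap A F))
    (hrange : Set.range (σ.comp ι') = {y : L | (ψ.comp (algebraMap A F)).IsIntegralElem y}) :
    Set.range σ = {y : L | ψ.IsIntegralElem y} := by
  letI : Field S := hS.toField
  letI : Field L := hL.toField
  letI algFL : Algebra F L := ψ.toAlgebra
  letI algAL : Algebra A L := (ψ.comp (algebraMap A F)).toAlgebra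
  have tower : IsScalarTower A F L := IsScalarTower.of_algebraMap_eq (fun r => rfl)
  have hσinj : Function.Injective σ := σ.injective
  have hint_of : ∀ y : L, (ψ.comp (algebraMap A F)).IsIntegralElem y → IsIntegral F y := by
    intro y hy
    have h1 : IsIntegral A y := hy
    exact h1.tower_top
  ext y
  simp only [Set.mem_range, Set.mem_ofPred_eq]
  constructor
  · rintro ⟨s, rfl⟩
    obtain ⟨a, b, hb, hab⟩ := hfrac s
    have h1 : σ s * σ (ι' b) = σ (ι' a) := by rw [← map_mul, hab]
    have hb' : σ (ι' b) ≠ 0 := fun h => hb (hσinj (by rw [h, map_zero]))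
    have ha_int : IsIntegral F (σ (ι' a)) := hint_of _ (by
      have : σ (ι' a) ∈ Set.range (σ.comp ι') := ⟨a, rfl⟩
      rw [hrange] at this
      exact this)
    have hb_int : IsIntegral F (σ (ι' b)) := hint_of _ (by
      have : σ (ι' b) ∈ Set.range (σ.comp ι') := ⟨b, rfl⟩
      rw [hrange] at this
      exact this)
    have h2 : σ s = σ (ι' a) * (σ (ι' b))⁻¹ := by
      rw [← h1, mul_assoc, mul_inv_cancel₀ hb', mul_one]
    have h3 : IsIntegral F (σ s) := by
      rw [h2]
      exact ha_int.mul hb_int.inv
    exact h3
  · intro hy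
    have hy' : IsIntegral F y := hy
    have halg : IsAlgebraic A y :=
      (IsFractionRing.isAlgebraic_iff A F L).mpr hy'.isAlgebraic
    obtain ⟨d, hd0, hdy⟩ := halg.exists_integral_multiple
    rw [Algebra.smul_def] at hdy
    have hmem : algebraMap A L d * y ∈ Set.range (σ.comp ι') := by
      rw [hrange]
      exact hdy
    obtain ⟨a', ha'⟩ := hmem
    have hνd : σ (ι' (ν d)) = algebraMap A L d := by
      have := congrArg (fun q => q d) hcomp
      exact this
    have hd_ne : algebraMap A L d ≠ 0 := by
      have h1 : algebraMap A F d ≠ 0 := by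
        rw [Ne, map_eq_zero_iff _ (IsFractionRing.injective A F)]
        exact hd0
      change ψ (algebraMap A F d) ≠ 0
      rw [Ne, map_eq_zero]
      exact h1
    refine ⟨ι' a' * (ι' (ν d))⁻¹, ?_⟩
    rw [map_mul, map_inv₀, hνd]
    change (σ.comp ι') a' * _ = y
    rw [ha', mul_comm, ← mul_assoc, inv_mul_cancel₀ hd_ne, one_mul]

end Groth.Agent.H6.NZ
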