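import Mathlib
import Groth.Agent.Lib.Helper6.NZ7
import Groth.Agent.Lib.Helper6.NZ8

universe u
open CategoryTheory CategoryTheory.Limits AlgebraicGeometry TopologicalSpace Opposite IsLocalRing

set_option linter.unusedSectionVars false
set_option linter.unusedSimpArgs false
set_option linter.style.haveILetI false
namespace Groth.Agent.H6.NZ

section

variable {X : Scheme.{u}} [IsIntegral X] {R : CommRingCat.{u}} [IsLocalRing R]
  (ψ : X.presheaf.stalk (genericPoint X) ⟶ R) (g : Spec R ⟶ X)
  (hg : g = Spec.map ψ ≫ X.fromSpecStalk (genericPoint X))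

include hg in
theorem stalkClosedPointTo_toNormalization (hR : IsField R) [QuasiCompact g] [QuasiSeparated g]
    [IsIntegral g.normalization] :
    Function.Injective (Scheme.stalkClosedPointTo g.toNormalization).hom ∧
    Set.range (Scheme.stalkClosedPointTo g.toNormalization).hom =
      {y : R | ψ.hom.IsIntegralElem y} := by
  have hx₀ := toNormalization_closedPoint ψ g hg hR
  have hS : IsField (g.normalization.presheaf.stalk (g.toNormalization.base (closedPoint R))) := by
    rw [hx₀]
    exact Field.toIsField g.normalization.functionField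
  have hnt : Nontrivial R := inferInstance
  refine ⟨?_, ?_⟩
  · letI := hS.toField
    exact RingHom.injective _
  · obtain ⟨_, ⟨U, hU, rfl⟩, hξ, -⟩ := X.isBasis_affineOpens.exists_subset_of_mem_open
      (Set.mem_univ (genericPoint X)) isOpen_univ
    have hne : Nonempty U := ⟨⟨_, hξ⟩⟩
    have hfracX : IsFractionRing Γ(X, U) X.functionField :=
      functionField_isFractionRing_of_isAffineOpen X U hU
    have hV : IsAffineOpen (g.fromNormalization ⁻¹ᵁ U) := hU.preimage g.fromNormalization
    have hx₀V := closedPoint_mem ψ g hg U hξ
    refine range_eq_of_fraction (A := Γ(X, U)) (A' := Γ(g.normalization, g.fromNormalization ⁻¹ᵁ U))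
      (F := X.functionField) hS hR
      (Scheme.stalkClosedPointTo g.toNormalization).hom
      (g.normalization.presheaf.germ (g.fromNormalization ⁻¹ᵁ U)
        (g.toNormalization.base (closedPoint R)) hx₀V).hom ψ.hom
      (g.fromNormalization.app U).hom ?_ ?_ ?_
    · intro s
      let _ := TopCat.Presheaf.algebra_section_stalk g.normalization.presheaf
        (⟨_, hx₀V⟩ : (g.fromNormalization ⁻¹ᵁ U : g.normalization.Opens))
      have hloc := hV.isLocalization_stalk ⟨_, hx₀V⟩
      obtain ⟨⟨a, b⟩, hab⟩ := IsLocalization.surj
        (hV.primeIdealOf ⟨_, hx₀V⟩).asIdeal.primeCompl s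
      refine ⟨a, b.1, ?_, hab⟩
      have hunit : IsUnit (algebraMap Γ(g.normalization, g.fromNormalization ⁻¹ᵁ U)
          (g.normalization.presheaf.stalk (g.toNormalization.base (closedPoint R))) b.1) :=
        IsLocalization.map_units _ b
      exact hunit.ne_zero
    · have h1 := app_germ_stalkClosedPointTo ψ g hg U hU hξ
      have h2 := congrArg CommRingCat.Hom.hom h1
      exact h2
    · exact range_germ_stalkClosedPointTo ψ g hg U hU hξ

end

end Groth.Agent.H6.NZ
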