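import Mathlib
import Groth.Prelude
import Groth.Agent.Lib.Helper6.NZ9
import Groth.Agent.Lib.Helper6.NZ10
import Groth.Agent.Lib.Helper1.BCStalk

universe u
open CategoryTheory CategoryTheory.Limits AlgebraicGeometry TopologicalSpace Opposite IsLocalRing

set_option linter.unusedSectionVars false
set_option linter.unusedSimpArgs false
set_option linter.style.haveILetI false
namespace Groth.Agent.H6.GenEss

/-- a morphism between one-point schemes which is bijective on stalks is an isomorphism. -/
theorem isIso_of_subsingleton {P Q : Scheme.{u}} (s : P ⟶ Q) [Subsingleton P] [Nonempty P]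
    [Subsingleton Q] (h : ∀ x, Function.Bijective (s.stalkMap x).hom) : IsIso s := by
  have hne : Nonempty Q := ⟨s.base (Classical.arbitrary P)⟩
  have : Unique P := uniqueOfSubsingleton (Classical.arbitrary P)
  have : Unique Q := uniqueOfSubsingleton (Classical.arbitrary Q)
  have hs : s.base = (Homeomorph.homeomorphOfUnique P Q : P → Q) := by
    funext x
    exact Subsingleton.elim _ _
  have hopen : Topology.IsOpenEmbedding s.base := by
    rw [hs]
    exact (Homeomorph.homeomorphOfUnique P Q).isOpenEmbedding
  have hiso : ∀ x, IsIso (s.stalkMap x) := by
    intro x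
    have := h x
    exact (ConcreteCategory.isIso_iff_bijective (s.stalkMap x)).mpr this
  have hoi : IsOpenImmersion s := IsOpenImmersion.of_isIso_stalkMap s hopen
  have hsurj : Function.Surjective s.base := by
    rw [hs]
    exact (Homeomorph.homeomorphOfUnique P Q).surjective
  have hepi : Epi s.base := (TopCat.epi_iff_surjective _).mpr hsurj
  exact (isIso_iff_isOpenImmersion_and_epi_base s).mpr ⟨hoi, hepi⟩


section

variable {X : Scheme.{u}} [IsIntegral X]
  (L : Type u) [Field L] [Algebra X.functionField L] [FiniteDimensional X.functionField L]
  (g : Spec (CommRingCat.of L) ⟶ X)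
  (hg : g = Spec.map (CommRingCat.ofHom (algebraMap X.functionField L)) ≫
    X.fromSpecStalk (genericPoint X))
  [QuasiCompact g] [QuasiSeparated g]

include hg in
theorem bijective_stalkMap_toNormalization [IsIntegral g.normalization]
    (x : Spec (CommRingCat.of L)) :
    Function.Bijective (g.toNormalization.stalkMap x).hom := by
  let ψ : X.presheaf.stalk (genericPoint X) ⟶ CommRingCat.of L :=
    CommRingCat.ofHom (algebraMap X.functionField L)
  have hR : IsField (CommRingCat.of L) := Field.toIsField L
  have hsub := NZ.subsingleton_spec (R := CommRingCat.of L) hR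
  obtain rfl : x = closedPoint (CommRingCat.of L) := Subsingleton.elim _ _
  obtain ⟨h1, h2⟩ := NZ.stalkClosedPointTo_toNormalization ψ g hg hR
  have hall : ∀ y : L, ψ.hom.IsIntegralElem y := by
    intro y
    have : IsIntegral X.functionField y := Algebra.IsIntegral.isIntegral y
    exact this
  have hbij : Function.Bijective (Scheme.stalkClosedPointTo g.toNormalization).hom := by
    refine ⟨h1, ?_⟩
    intro y
    have : y ∈ Set.range (Scheme.stalkClosedPointTo g.toNormalization).hom := by
      rw [h2]
      exact hall y
    exact this
  have hdef : (Scheme.stalkClosedPointTo g.toNormalization).hom =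
      (stalkClosedPointIso (CommRingCat.of L)).hom.hom.comp
        (g.toNormalization.stalkMap (closedPoint (CommRingCat.of L))).hom := rfl
  have hiso : Function.Bijective (stalkClosedPointIso (CommRingCat.of L)).hom.hom :=
    (ConcreteCategory.isIso_iff_bijective (stalkClosedPointIso (CommRingCat.of L)).hom).mp
      inferInstance
  rw [hdef, RingHom.coe_comp] at hbij
  exact (Function.Bijective.of_comp_iff' hiso _).mp hbij


include hg in
theorem subsingleton_pullback [IsIntegral g.normalization] :
    Subsingleton ↥(pullback (X.fromSpecStalk (genericPoint X)) g.fromNormalization) := by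
  let ψ : X.presheaf.stalk (genericPoint X) ⟶ CommRingCat.of L :=
    CommRingCat.ofHom (algebraMap X.functionField L)
  have hR : IsField (CommRingCat.of L) := Field.toIsField L
  have hfib := NZ.fibre_genericPoint ψ g hg hR
  haveI : IsPreimmersion (pullback.snd (X.fromSpecStalk (genericPoint X)) g.fromNormalization) :=
    MorphismProperty.pullback_snd _ _ inferInstance
  have hinj : Function.Injective
      (pullback.snd (X.fromSpecStalk (genericPoint X)) g.fromNormalization).base :=
    (pullback.snd (X.fromSpecStalk (genericPoint X)) g.fromNormalization).isEmbedding.injective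
  have hK : Subsingleton (Spec X.functionField) :=
    NZ.subsingleton_spec (R := X.functionField) (Field.toIsField _)
  have key : ∀ p : ↥(pullback (X.fromSpecStalk (genericPoint X)) g.fromNormalization),
      (pullback.snd (X.fromSpecStalk (genericPoint X)) g.fromNormalization).base p =
        genericPoint g.normalization := by
    intro p
    have h1 : g.fromNormalization.base
        ((pullback.snd (X.fromSpecStalk (genericPoint X)) g.fromNormalization).base p) =
        genericPoint X := by
      have hc := congr($(pullback.condition (f := X.fromSpecStalk (genericPoint X))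
        (g := g.fromNormalization)).base p)
      simp only [Scheme.Hom.comp_base, TopCat.comp_app] at hc
      rw [← hc]
      have : (pullback.fst (X.fromSpecStalk (genericPoint X)) g.fromNormalization).base p =
          closedPoint X.functionField := Subsingleton.elim _ _
      rw [this]
      exact Scheme.fromSpecStalk_closedPoint
    have h2 : (pullback.snd (X.fromSpecStalk (genericPoint X)) g.fromNormalization).base p ∈
        g.fromNormalization.base ⁻¹' {genericPoint X} := h1
    rw [hfib] at h2
    exact h2
  exact ⟨fun p q => hinj ((key p).trans (key q).symm)⟩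

include hg in
theorem isIso_lift [IsIntegral g.normalization] :
    IsIso (pullback.lift (Spec.map (CommRingCat.ofHom (algebraMap X.functionField L)))
      g.toNormalization (by rw [g.toNormalization_fromNormalization]; exact hg.symm) :
      Spec (CommRingCat.of L) ⟶
        pullback (X.fromSpecStalk (genericPoint X)) g.fromNormalization) := by
  set s' : Spec (CommRingCat.of L) ⟶
        pullback (X.fromSpecStalk (genericPoint X)) g.fromNormalization :=
    pullback.lift (Spec.map (CommRingCat.ofHom (algebraMap X.functionField L)))
      g.toNormalization (by rw [g.toNormalization_fromNormalization]; exact hg.symm) with hs'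
  have hR : IsField (CommRingCat.of L) := Field.toIsField L
  haveI hsub := NZ.subsingleton_spec (R := CommRingCat.of L) hR
  haveI : Nonempty (Spec (CommRingCat.of L)) := ⟨closedPoint (CommRingCat.of L)⟩
  haveI := subsingleton_pullback L g hg
  refine isIso_of_subsingleton s' ?_
  intro x
  have hcomp : s' ≫ pullback.snd (X.fromSpecStalk (genericPoint X)) g.fromNormalization =
      g.toNormalization := pullback.lift_snd _ _ _
  have h1 := bijective_stalkMap_toNormalization L g hg x
  have h2 := Scheme.Hom.stalkMap_comp s'
    (pullback.snd (X.fromSpecStalk (genericPoint X)) g.fromNormalization) x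
  have h3 := Scheme.Hom.stalkMap_congr_hom _ _ hcomp x
  have h4 := Groth.Agent.H1.BCStalk.bijective_stalkMap_snd (genericPoint X)
    g.fromNormalization (s'.base x)
  have hiso : Function.Bijective ((g.normalization.presheaf.stalkCongr
      (.of_eq (hcomp ▸ rfl : (s' ≫ pullback.snd (X.fromSpecStalk (genericPoint X))
        g.fromNormalization).base x = g.toNormalization.base x))).hom).hom :=
    (ConcreteCategory.isIso_iff_bijective _).mp inferInstance
  have h5 : Function.Bijective ((s' ≫ pullback.snd (X.fromSpecStalk (genericPoint X))
      g.fromNormalization).stalkMap x).hom := by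
    rw [h3, CommRingCat.hom_comp, RingHom.coe_comp]
    exact h1.comp hiso
  rw [h2] at h5
  exact (Function.Bijective.of_comp_iff (s'.stalkMap x).hom h4).mp h5


include hg in
theorem essImage_of_finite_etale (Y₀ : FEt.Cat (Spec X.functionField))
    (e : Y₀.left ≅ Spec (CommRingCat.of L))
    (he : e.hom ≫ Spec.map (CommRingCat.ofHom (algebraMap X.functionField L)) = Y₀.hom)
    (het : Etale g.fromNormalization) (hfin : IsFinite g.fromNormalization) :
    (FEt.restrict (X.fromSpecStalk (genericPoint X))).essImage Y₀ := by
  let ψ : X.presheaf.stalk (genericPoint X) ⟶ CommRingCat.of L :=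
    CommRingCat.ofHom (algebraMap X.functionField L)
  have hR : IsField (CommRingCat.of L) := Field.toIsField L
  obtain ⟨hint, -⟩ := NZ.isNormalScheme_normalization ψ g hg hR
  let Y' : FEt.Cat X := MorphismProperty.Over.mk ⊤ g.fromNormalization ⟨hfin, het⟩
  haveI hiso := isIso_lift L g hg
  set s' : Spec (CommRingCat.of L) ⟶
        pullback (X.fromSpecStalk (genericPoint X)) g.fromNormalization :=
    pullback.lift (Spec.map (CommRingCat.ofHom (algebraMap X.functionField L)))
      g.toNormalization (by rw [g.toNormalization_fromNormalization]; exact hg.symm) with hs'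
  have hfst : s' ≫ pullback.fst (X.fromSpecStalk (genericPoint X)) g.fromNormalization =
      Spec.map (CommRingCat.ofHom (algebraMap X.functionField L)) := pullback.lift_fst _ _ _
  refine ⟨Y', ⟨MorphismProperty.Over.isoMk
    (pullbackSymmetry g.fromNormalization (X.fromSpecStalk (genericPoint X)) ≪≫
      (asIso s').symm ≪≫ e.symm) ?_⟩⟩
  change (pullbackSymmetry g.fromNormalization (X.fromSpecStalk (genericPoint X)) ≪≫
      (asIso s').symm ≪≫ e.symm).hom ≫ Y₀.hom =
    pullback.snd g.fromNormalization (X.fromSpecStalk (genericPoint X))
  simp only [Iso.trans_hom, Iso.symm_hom, asIso_inv, Category.assoc]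
  rw [← he, Iso.inv_hom_id_assoc, ← hfst, IsIso.inv_hom_id_assoc, pullbackSymmetry_hom_comp_fst]

end

end Groth.Agent.H6.GenEss
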