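import Mathlib
import Groth.Prelude
import Groth.Agent.Lib.Helper6.NZ9
import Groth.Agent.Lib.Helper6.NZ10
import Groth.Agent.Lib.Helper1.BCStalk
import Groth.Agent.Lib.Helper8.FinEtIC

universe u
open CategoryTheory CategoryTheory.Limits AlgebraicGeometry TopologicalSpace Opposite IsLocalRing

set_option linter.unusedSectionVars false
set_option linter.unusedSimpArgs false
set_option linter.style.haveILetI false
namespace Groth.Agent.H6.GenEss

/-- the base change of `Spec 𝒪_{X,x} ⟶ X` along any morphism is bijective on stalks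
(pullback-square form). -/
theorem bijective_stalkMap_of_isPullback {P Y X : Scheme.{u}} (x : X) (h : Y ⟶ X)
    (a : P ⟶ Spec (X.presheaf.stalk x)) (b : P ⟶ Y)
    (hpb : IsPullback a b (X.fromSpecStalk x) h) (p : P) :
    Function.Bijective (b.stalkMap p).hom := by
  have hcomp : hpb.isoPullback.hom ≫ pullback.snd (X.fromSpecStalk x) h = b :=
    hpb.isoPullback_hom_snd
  have h2 := Scheme.Hom.stalkMap_comp hpb.isoPullback.hom
    (pullback.snd (X.fromSpecStalk x) h) p
  have h3 := Scheme.Hom.stalkMap_congr_hom _ _ hcomp p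
  have h4 := Groth.Agent.H1.BCStalk.bijective_stalkMap_snd x h (hpb.isoPullback.hom.base p)
  have h5 : Function.Bijective (hpb.isoPullback.hom.stalkMap p).hom :=
    (ConcreteCategory.isIso_iff_bijective _).mp inferInstance
  have hpt : (hpb.isoPullback.hom ≫ pullback.snd (X.fromSpecStalk x) h).base p = b.base p := by
    rw [hcomp]
  have hiso : Function.Bijective ((Y.presheaf.stalkCongr (.of_eq hpt)).hom).hom :=
    (ConcreteCategory.isIso_iff_bijective _).mp inferInstance
  have h6 : Function.Bijective ((hpb.isoPullback.hom ≫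
      pullback.snd (X.fromSpecStalk x) h).stalkMap p).hom := by
    rw [h2]
    exact h5.comp h4
  rw [h3] at h6
  exact (Function.Bijective.of_comp_iff (b.stalkMap p).hom hiso).mp h6

theorem exists_fraction_app (L : Type u) [Field L] {Y : Scheme.{u}}
    (t : Spec (CommRingCat.of L) ⟶ Y) (V : Y.Opens) (hV : IsAffineOpen V)
    (hy : t.base (closedPoint (CommRingCat.of L)) ∈ V)
    (hsurj : Function.Surjective (Scheme.stalkClosedPointTo t).hom)
    (z : Γ(Spec (CommRingCat.of L), t ⁻¹ᵁ V)) :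
    ∃ a b : Γ(Y, V), (t.app V).hom b ≠ 0 ∧ z * (t.app V).hom b = (t.app V).hom a := by
  let σ : Γ(Spec (CommRingCat.of L), t ⁻¹ᵁ V) ≅ CommRingCat.of L :=
    (Spec (CommRingCat.of L)).presheaf.mapIso
      (eqToIso (Scheme.preimage_eq_top_of_closedPoint_mem t hy).symm).op ≪≫
      Scheme.ΓSpecIso (CommRingCat.of L)
  have hσ : Function.Injective σ.hom.hom := (ConcreteCategory.bijective_of_isIso σ.hom).1
  have hgerm : ∀ r : Γ(Y, V), (Scheme.stalkClosedPointTo t).hom
      ((Y.presheaf.germ V _ hy).hom r) = σ.hom.hom ((t.app V).hom r) := by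
    intro r
    have := congrArg (fun q => q.hom r) (Scheme.germ_stalkClosedPointTo t V hy)
    exact this
  obtain ⟨s, hs⟩ := hsurj (σ.hom.hom z)
  let _ := TopCat.Presheaf.algebra_section_stalk Y.presheaf
    (⟨_, hy⟩ : (V : Y.Opens))
  have hloc := hV.isLocalization_stalk ⟨_, hy⟩
  obtain ⟨⟨a, b⟩, hab⟩ := IsLocalization.surj (hV.primeIdealOf ⟨_, hy⟩).asIdeal.primeCompl s
  have hunit : IsUnit (algebraMap Γ(Y, V)
      (Y.presheaf.stalk (t.base (closedPoint (CommRingCat.of L)))) b.1) :=
    IsLocalization.map_units _ b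
  have hab' : s * (Y.presheaf.germ V _ hy).hom b.1 = (Y.presheaf.germ V _ hy).hom a := hab
  have hunit' : IsUnit ((Y.presheaf.germ V _ hy).hom b.1) := hunit
  refine ⟨a, b.1, ?_, ?_⟩
  · intro h0
    have h1 : IsUnit ((Scheme.stalkClosedPointTo t).hom ((Y.presheaf.germ V _ hy).hom b.1)) :=
      hunit'.map _
    rw [hgerm, h0, map_zero] at h1
    exact not_isUnit_zero h1
  · apply hσ
    rw [map_mul, ← hgerm, ← hgerm, ← hs, ← map_mul, hab']


section

variable {X : Scheme.{u}} [IsIntegral X]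
  (L : Type u) [Field L] [Algebra X.functionField L]

theorem finite_etale_app (hX : Pi1.IsNormalScheme X) {Y' : Scheme.{u}} (π : Y' ⟶ X)
    [IsFinite π] [Etale π] (t : Spec (CommRingCat.of L) ⟶ Y')
    (hpb : IsPullback t (Spec.map (CommRingCat.ofHom (algebraMap X.functionField L))) π
      (X.fromSpecStalk (genericPoint X)))
    [QuasiCompact (t ≫ π)] [QuasiSeparated (t ≫ π)]
    (W : X.Opens) (hW : IsAffineOpen W) (hξ : genericPoint X ∈ W) :
    ((t ≫ π).fromNormalization.app W).hom.Finite ∧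
      ((t ≫ π).fromNormalization.app W).hom.Etale := by
  let ψ : X.presheaf.stalk (genericPoint X) ⟶ CommRingCat.of L :=
    CommRingCat.ofHom (algebraMap X.functionField L)
  have hR : IsField (CommRingCat.of L) := Field.toIsField L
  have hg : t ≫ π = Spec.map ψ ≫ X.fromSpecStalk (genericPoint X) := hpb.w
  have hne : Nonempty W := ⟨⟨_, hξ⟩⟩
  have hic : IsIntegrallyClosed Γ(X, W) :=
    (Groth.Agent.H5.AG.isNormalScheme_iff_affine X).1 hX W hW
  -- the stalk map of `t` is bijective
  have hbij : Function.Bijective (Scheme.stalkClosedPointTo t).hom := by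
    have h1 := bijective_stalkMap_of_isPullback (genericPoint X) π _ t hpb.flip
      (closedPoint (CommRingCat.of L))
    have hiso : Function.Bijective (stalkClosedPointIso (CommRingCat.of L)).hom.hom :=
      (ConcreteCategory.isIso_iff_bijective (stalkClosedPointIso (CommRingCat.of L)).hom).mp
        inferInstance
    exact hiso.comp h1
  have hy : t.base (closedPoint (CommRingCat.of L)) ∈ π ⁻¹ᵁ W := by
    change (t ≫ π).base (closedPoint (CommRingCat.of L)) ∈ W
    rw [NZ.g_apply ψ (t ≫ π) hg]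
    exact hξ
  have hV : IsAffineOpen (π ⁻¹ᵁ W) := hW.preimage π
  have hfrac := exists_fraction_app L t (π ⁻¹ᵁ W) hV hy hbij.2
  letI algAS : Algebra Γ(X, W) Γ(Y', π ⁻¹ᵁ W) := (π.app W).hom.toAlgebra
  letI algAK : Algebra Γ(X, W) Γ(Spec (CommRingCat.of L), (t ≫ π) ⁻¹ᵁ W) :=
    ((t ≫ π).app W).hom.toAlgebra
  haveI hfinS : Module.Finite Γ(X, W) Γ(Y', π ⁻¹ᵁ W) := IsFinite.finite_app (f := π) W hW
  haveI hetS : Algebra.Etale Γ(X, W) Γ(Y', π ⁻¹ᵁ W) := by
    have := Etale.etale_appLE π hW hV le_rfl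
    rw [← Scheme.Hom.app_eq_appLE] at this
    exact this
  letI : Field Γ(Spec (CommRingCat.of L), (t ≫ π) ⁻¹ᵁ W) :=
    (NZ.isField_sections ψ (t ≫ π) hg hR W hξ).toField
  have hinj : Function.Injective (algebraMap Γ(X, W)
      Γ(Spec (CommRingCat.of L), (t ≫ π) ⁻¹ᵁ W)) := by
    have h1 := NZ.app_secIso ψ (t ≫ π) hg W hξ
    have h2 : Function.Injective (X.presheaf.germ W (genericPoint X) hξ ≫ ψ).hom := by
      rw [CommRingCat.hom_comp, RingHom.coe_comp]
      exact (RingHom.injective _).comp (germ_injective_of_isIntegral X (genericPoint X) hξ)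
    rw [← h1, CommRingCat.hom_comp, RingHom.coe_comp] at h2
    exact h2.of_comp
  let μ : Γ(Y', π ⁻¹ᵁ W) →ₐ[Γ(X, W)] Γ(Spec (CommRingCat.of L), (t ≫ π) ⁻¹ᵁ W) :=
    { (t.app (π ⁻¹ᵁ W)).hom with
      commutes' := fun r => rfl }
  have hgen : Subfield.closure (μ.range : Set Γ(Spec (CommRingCat.of L), (t ≫ π) ⁻¹ᵁ W)) = ⊤ := by
    rw [eq_top_iff]
    intro z _
    obtain ⟨a, b, hb, hab⟩ := hfrac z
    have h1 : z = μ a / μ b := by
      rw [eq_div_iff hb]
      exact hab
    rw [h1]
    exact Subfield.div_mem _ (Subfield.subset_closure ⟨a, rfl⟩) (Subfield.subset_closure ⟨b, rfl⟩)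
  obtain ⟨h1, h2⟩ := Groth.Agent.H8.FEIC.main Γ(X, W) Γ(Y', π ⁻¹ᵁ W)
    Γ(Spec (CommRingCat.of L), (t ≫ π) ⁻¹ᵁ W) hinj μ hgen
  have hfinr : Module.Finite Γ(X, W) μ.range :=
    Module.Finite.of_surjective μ.rangeRestrict.toLinearMap μ.rangeRestrict_surjective
  let e : integralClosure Γ(X, W) Γ(Spec (CommRingCat.of L), (t ≫ π) ⁻¹ᵁ W) ≃ₐ[Γ(X, W)]
      μ.range := Subalgebra.equivOfEq _ _ h1
  haveI : Module.Finite Γ(X, W)
      (integralClosure Γ(X, W) Γ(Spec (CommRingCat.of L), (t ≫ π) ⁻¹ᵁ W)) :=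
    Module.Finite.equiv e.symm.toLinearEquiv
  haveI : Algebra.Etale Γ(X, W)
      (integralClosure Γ(X, W) Γ(Spec (CommRingCat.of L), (t ≫ π) ⁻¹ᵁ W)) :=
    Algebra.Etale.of_equiv e.symm
  rw [(t ≫ π).fromNormalization_app hW]
  have h1' : (algebraMap Γ(X, W)
      (integralClosure Γ(X, W) Γ(Spec (CommRingCat.of L), (t ≫ π) ⁻¹ᵁ W))).Finite :=
    RingHom.finite_algebraMap.mpr inferInstance
  have h2' : (algebraMap Γ(X, W)
      (integralClosure Γ(X, W) Γ(Spec (CommRingCat.of L), (t ≫ π) ⁻¹ᵁ W))).Etale :=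
    RingHom.etale_algebraMap.mpr inferInstance
  have hb : Function.Bijective ((t ≫ π).normalizationObjIso hW).inv.hom :=
    ConcreteCategory.bijective_of_isIso _
  simp only [CommRingCat.hom_comp, CommRingCat.hom_ofHom]
  exact ⟨RingHom.Finite.comp (RingHom.Finite.of_surjective _ hb.2) h1',
    RingHom.Etale.stableUnderComposition _ _ h2' (RingHom.Etale.of_bijective hb)⟩


theorem finite_etale_app_of_not_mem (g : Spec (CommRingCat.of L) ⟶ X)
    [QuasiCompact g] [QuasiSeparated g]
    (W : X.Opens) (hξ : genericPoint X ∉ W) :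
    (g.fromNormalization.app W).hom.Finite ∧ (g.fromNormalization.app W).hom.Etale := by
  have hW0 : W = ⊥ := by
    by_contra hne
    have hne' : (W : Set X).Nonempty := by
      rw [Set.nonempty_iff_ne_empty]
      intro h
      exact hne (TopologicalSpace.Opens.ext h)
    have := ((genericPoint_spec X).mem_open_set_iff W.2).mpr (by simpa using hne')
    exact hξ this
  subst hW0
  have hsub : Subsingleton Γ(X, (⊥ : X.Opens)) := inferInstance
  have hsub' : Subsingleton Γ(g.normalization, g.fromNormalization ⁻¹ᵁ ⊥) :=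
    (g.fromNormalization.app ⊥).hom.codomain_trivial
  have hb : Function.Bijective (g.fromNormalization.app ⊥).hom :=
    ⟨fun a b _ => Subsingleton.elim a b, fun b => ⟨0, Subsingleton.elim _ _⟩⟩
  exact ⟨RingHom.Finite.of_surjective _ hb.2, RingHom.Etale.of_bijective hb⟩

theorem etale_of_app' {X Y : Scheme.{u}} (π : Y ⟶ X) [IsAffineHom π]
    (h : ∀ W : X.Opens, IsAffineOpen W → (π.app W).hom.Etale) : Etale π := by
  refine ⟨fun {W} hW {V} hV e => ?_⟩
  have h1 : (Y.presheaf.map (homOfLE e).op).hom.Etale := by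
    have := Etale.etale_appLE (𝟙 Y) (hW.preimage π) hV e
    exact this
  rw [Scheme.Hom.appLE, CommRingCat.hom_comp]
  exact RingHom.Etale.stableUnderComposition _ _ (h W hW) h1

theorem finite_etale_of_isPullback (hX : Pi1.IsNormalScheme X) {Y' : Scheme.{u}} (π : Y' ⟶ X)
    [IsFinite π] [Etale π] (t : Spec (CommRingCat.of L) ⟶ Y')
    (hpb : IsPullback t (Spec.map (CommRingCat.ofHom (algebraMap X.functionField L))) π
      (X.fromSpecStalk (genericPoint X)))
    [QuasiCompact (t ≫ π)] [QuasiSeparated (t ≫ π)] :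
    Etale (t ≫ π).fromNormalization ∧ IsFinite (t ≫ π).fromNormalization := by
  have key : ∀ W : X.Opens, IsAffineOpen W →
      ((t ≫ π).fromNormalization.app W).hom.Finite ∧
      ((t ≫ π).fromNormalization.app W).hom.Etale := by
    intro W hW
    by_cases hξ : genericPoint X ∈ W
    · exact finite_etale_app L hX π t hpb W hW hξ
    · exact finite_etale_app_of_not_mem L (t ≫ π) W hξ
  haveI hfin : IsFinite (t ≫ π).fromNormalization := ⟨fun O' hO' => (key O' hO').1⟩
  exact ⟨etale_of_app' _ (fun O' hO' => (key O' hO').2), hfin⟩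

theorem finite_etale_of_essImage (hX : Pi1.IsNormalScheme X)
    (g : Spec (CommRingCat.of L) ⟶ X)
    (hg : g = Spec.map (CommRingCat.ofHom (algebraMap X.functionField L)) ≫
      X.fromSpecStalk (genericPoint X))
    [QuasiCompact g] [QuasiSeparated g]
    (Y₀ : FEt.Cat (Spec X.functionField))
    (e : Y₀.left ≅ Spec (CommRingCat.of L))
    (he : e.hom ≫ Spec.map (CommRingCat.ofHom (algebraMap X.functionField L)) = Y₀.hom)
    (h : (FEt.restrict (X.fromSpecStalk (genericPoint X))).essImage Y₀) :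
    Etale g.fromNormalization ∧ IsFinite g.fromNormalization := by
  obtain ⟨Y', ⟨θ⟩⟩ := h
  have hfin : IsFinite Y'.hom := Y'.prop.1
  have het : Etale Y'.hom := Y'.prop.2
  let i : Spec (CommRingCat.of L) ≅ pullback Y'.hom (X.fromSpecStalk (genericPoint X)) :=
    e.symm ≪≫ ((MorphismProperty.Over.forget _ _ _ ⋙ Over.forget _).mapIso θ).symm
  have hw : θ.inv.left ≫ pullback.snd Y'.hom (X.fromSpecStalk (genericPoint X)) = Y₀.hom :=
    Over.w θ.inv.hom
  have hi2 : i.hom ≫ pullback.snd Y'.hom (X.fromSpecStalk (genericPoint X)) =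
      Spec.map (CommRingCat.ofHom (algebraMap X.functionField L)) := by
    change (e.inv ≫ θ.inv.left) ≫ _ = _
    rw [Category.assoc, hw, ← he, Iso.inv_hom_id_assoc]
  have hpb : IsPullback (i.hom ≫ pullback.fst Y'.hom (X.fromSpecStalk (genericPoint X)))
      (Spec.map (CommRingCat.ofHom (algebraMap X.functionField L))) Y'.hom
      (X.fromSpecStalk (genericPoint X)) := by
    refine IsPullback.of_iso_pullback ⟨?_⟩ i rfl hi2
    rw [Category.assoc, pullback.condition, ← Category.assoc, hi2]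
  have hgt : g = (i.hom ≫ pullback.fst Y'.hom (X.fromSpecStalk (genericPoint X))) ≫ Y'.hom := by
    rw [hg]; exact hpb.w.symm
  subst hgt
  exact finite_etale_of_isPullback L hX Y'.hom _ hpb

end

end Groth.Agent.H6.GenEss
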