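import Mathlib
import Groth.Agent.Lib.Helper5.KosCot.A

universe u
set_option linter.style.haveILetI false

namespace Groth.Agent.H6.GenSm

section A
variable {Q : Type u} [CommRing Q]

/-- Lemma A: in a ring `Q` with ideal `J` generated by a Koszul-regular family, if the annihilator
of the class of `y ∈ J` in `J/J²` is a prime `𝔪`, then `𝔪` is the annihilator of a nonzero
element of `Q/J`. -/
theorem exists_colon_eq {c : ℕ} (lf : Fin c → Q)
    (hl : LCI.IsKoszulRegularSeq Q (List.ofFn lf)) (J : Ideal Q)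
    (hJ : J = Ideal.span (Set.range lf)) (𝔪 : Ideal Q) [h𝔪p : 𝔪.IsPrime] (y : Q) (hy : y ∈ J)
    (h𝔪 : ∀ a : Q, a * y ∈ J ^ 2 ↔ a ∈ 𝔪) :
    ∃ b : Q, b ∉ J ∧ ∀ a : Q, a * b ∈ J ↔ a ∈ 𝔪 := by
  classical
  have hlfJ : ∀ i, lf i ∈ J := fun i => by rw [hJ]; exact Ideal.subset_span ⟨i, rfl⟩
  have hy' : y ∈ Submodule.span Q (Set.range lf) := by rw [hJ] at hy; exact hy
  obtain ⟨b, hb⟩ := (Submodule.mem_span_range_iff_exists_fun Q).1 hy'
  -- key equivalence
  have key : ∀ a : Q, a * y ∈ J ^ 2 ↔ ∀ i, a * b i ∈ J := by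
    intro a
    constructor
    · intro h
      have h3 : J ^ 2 = J • Submodule.span Q (Set.range lf) := by
        rw [pow_two, smul_eq_mul]
        conv_lhs => rw [hJ]
        rw [← hJ]
        congr 1
      rw [h3, Submodule.mem_ideal_smul_span_iff_exists_sum] at h
      obtain ⟨d, hd, hsum⟩ := h
      rw [Finsupp.sum_fintype _ _ (fun i => by rw [zero_smul])] at hsum
      have h4 : ∑ i, (a * b i - d i) * lf i = 0 := by
        simp only [sub_mul, Finset.sum_sub_distrib]
        rw [sub_eq_zero]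
        have : ∑ i, d i * lf i = a * y := hsum
        rw [this, ← hb, Finset.mul_sum]
        refine Finset.sum_congr rfl fun i _ => ?_
        rw [smul_eq_mul, mul_assoc]
      intro i
      have h5 := Groth.Agent.Lib.Helper5.KosCot.coeff_mem_of_koszulRegular lf hl J hlfJ _ h4 i
      have := J.add_mem h5 (hd i)
      simpa using this
    · intro h
      rw [← hb, Finset.mul_sum]
      refine Ideal.sum_mem _ fun i _ => ?_
      rw [smul_eq_mul, ← mul_assoc, pow_two]
      exact Ideal.mul_mem_mul (h i) (hlfJ i)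
  -- some i works
  have h1 : ∃ i, ∀ a, a * b i ∈ J → a ∈ 𝔪 := by
    by_contra hcon
    push_neg at hcon
    choose a ha1 ha2 using hcon
    have h2 : (∏ i, a i) ∉ 𝔪 := by
      intro h
      obtain ⟨i, -, hi⟩ := (h𝔪p.prod_mem_iff).1 h
      exact ha2 i hi
    apply h2
    rw [← h𝔪, key]
    intro i
    rw [← Finset.mul_prod_erase Finset.univ a (Finset.mem_univ i)]
    rw [mul_comm (a i), mul_assoc]
    exact J.mul_mem_left _ (ha1 i)
  obtain ⟨i, hi⟩ := h1
  refine ⟨b i, ?_, fun a => ⟨hi a, fun ha => ?_⟩⟩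
  · intro hbi
    apply h𝔪p.ne_top
    rw [Ideal.eq_top_iff_one]
    apply hi
    rw [one_mul]; exact hbi
  · exact (key a).1 ((h𝔪 a).2 ha) i

end A

end Groth.Agent.H6.GenSm
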