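import Mathlib
import Groth.Agent.Lib.Helper5.KosCot.A
import Groth.Agent.H4.GL1
import Groth.Agent.Lib.Helper6.GenSm1

universe u
set_option linter.style.haveILetI false

namespace Groth.Agent.H6.GenSm

section B
variable {P A : Type u} [CommRing P] [CommRing A] (f : P →+* A) (hf : Function.Surjective f)
  (𝔭 : Ideal A) [𝔭.IsPrime]

include hf in
theorem exists_ann_eq_maximalIdeal (hI : LCI.IsKoszulRegularIdeal (RingHom.ker f))
    (x : P) (hx : x ∈ RingHom.ker f)
    (hann : ∀ a : P, a * x ∈ (RingHom.ker f) ^ 2 ↔ f a ∈ 𝔭) :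
    ∃ w : Localization.AtPrime 𝔭, w ≠ 0 ∧
      ∀ a : Localization.AtPrime 𝔭, a * w = 0 ↔ a ∈ IsLocalRing.maximalIdeal _ := by
  classical
  set I := RingHom.ker f with hIdef
  set 𝔮 := 𝔭.comap f with h𝔮
  have hI𝔮 : I ≤ 𝔮 := fun a ha => by
    rw [h𝔮, Ideal.mem_comap, (RingHom.mem_ker).1 ha]; exact 𝔭.zero_mem
  obtain ⟨l, hl, hspan⟩ := Groth.Agent.H4.GL1.exists_koszulRegularSeq_atPrime I hI 𝔮 hI𝔮
  let Q := Localization.AtPrime 𝔮
  set J := I.map (algebraMap P Q) with hJ
  have hl' : LCI.IsKoszulRegularSeq Q (List.ofFn l.get) := by rw [List.ofFn_get]; exact hl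
  have hJ' : J = Ideal.span (Set.range l.get) := by
    rw [hspan]; congr 1; ext y; simp [List.mem_iff_get]
  have hy : algebraMap P Q x ∈ J := Ideal.mem_map_of_mem _ hx
  have h𝔪 : ∀ a : Q, a * algebraMap P Q x ∈ J ^ 2 ↔ a ∈ IsLocalRing.maximalIdeal Q := by
    intro a
    obtain ⟨a0, s, rfl⟩ := IsLocalization.exists_mk'_eq 𝔮.primeCompl a
    have hu : IsUnit (algebraMap P Q s) := IsLocalization.map_units Q s
    have e1 : IsLocalization.mk' Q a0 s * algebraMap P Q x ∈ J ^ 2 ↔
        algebraMap P Q (a0 * x) ∈ J ^ 2 := by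
      have : algebraMap P Q (a0 * x) = algebraMap P Q s * (IsLocalization.mk' Q a0 s * algebraMap P Q x) := by
        rw [← mul_assoc, IsLocalization.mk'_spec', map_mul]
      rw [this]
      constructor
      · intro h; exact Ideal.mul_mem_left _ _ h
      · intro h
        obtain ⟨u, hu'⟩ := hu
        have := Ideal.mul_mem_left _ (↑u⁻¹ : Q) h
        rwa [← mul_assoc, ← hu', Units.inv_mul, one_mul] at this
    rw [e1, hJ, ← Ideal.map_pow, IsLocalization.algebraMap_mem_map_algebraMap_iff 𝔮.primeCompl,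
      IsLocalization.AtPrime.mk'_mem_maximal_iff Q 𝔮]
    constructor
    · rintro ⟨t, ht, h⟩
      rw [← mul_assoc, hann, map_mul] at h
      rcases (inferInstance : 𝔭.IsPrime).mem_or_mem h with h | h
      · exact absurd h ht
      · exact h
    · intro h
      exact ⟨1, 𝔮.primeCompl.one_mem, by rw [one_mul, hann]; exact h⟩
  obtain ⟨b, hbJ, hb⟩ := exists_colon_eq l.get hl' J hJ' (IsLocalRing.maximalIdeal Q)
    (algebraMap P Q x) hy h𝔪
  let φ := Groth.Agent.H4.GL1.locMap f 𝔭
  haveI : IsLocalHom φ := Localization.isLocalHom_localRingHom _ _ f rfl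
  have hφs : Function.Surjective φ := Groth.Agent.H4.GL1.locMap_surjective f hf 𝔭
  have hφk : RingHom.ker φ = J := Groth.Agent.H4.GL1.ker_locMap f hf 𝔭
  refine ⟨φ b, ?_, fun a => ?_⟩
  · intro h
    apply hbJ
    rw [← hφk]; exact h
  · obtain ⟨a', rfl⟩ := hφs a
    rw [← map_mul, ← RingHom.mem_ker, hφk, hb]
    constructor
    · intro h
      exact map_nonunit φ a' h
    · intro h
      by_contra hcon
      have : IsUnit a' := by
        by_contra h2
        exact hcon ((IsLocalRing.mem_maximalIdeal _).2 h2)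
      exact ((IsLocalRing.mem_maximalIdeal _).1 h) (this.map φ)

end B

end Groth.Agent.H6.GenSm
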