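import Mathlib
import Groth.Agent.Lib.Helper6.GenSm2
import Groth.Agent.Lib.Helper6.Liai1
import Groth.Agent.Lib.Helper6.LDLoc4
import Groth.Agent.S1827
import Groth.Agent.H4.KF2

universe u
set_option linter.style.haveILetI false

namespace Groth.Agent.H6.GenSm

section C
variable {A : Type u} [CommRing A]

theorem mem_minimalPrimes_of_ann [hA : LocCoh.IsCohenMacaulayRing A] (p : Ideal A) [hpp : p.IsPrime]
    (w : Localization.AtPrime p) (hw : w ≠ 0)
    (hann : ∀ a : Localization.AtPrime p, a * w = 0 ↔ a ∈ IsLocalRing.maximalIdeal _) :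
    p ∈ minimalPrimes A := by
  haveI hcm := hA.isCohenMacaulayLocalRing_localization p
  let B := Localization.AtPrime p
  have h1 : IsLocalRing.maximalIdeal B ∈ associatedPrimes B B := by
    rw [AssociatedPrimes.mem_iff, isAssociatedPrime_iff]
    refine ⟨inferInstance, w, ?_⟩
    ext a
    rw [Submodule.mem_colon_singleton, Submodule.mem_bot, smul_eq_mul, hann]
  have h2 := CM.ringKrullDim_quotient_eq_of_cm B hcm.supportDim_eq_depth _ h1
  rw [Module.supportDim_self_eq_ringKrullDim,
    IsLocalization.AtPrime.ringKrullDim_eq_height p B] at h2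
  have h3 : ringKrullDim (B ⧸ IsLocalRing.maximalIdeal B) = 0 := by
    letI := Ideal.Quotient.field (IsLocalRing.maximalIdeal B)
    exact ringKrullDim_eq_zero_of_field _
  rw [h3] at h2
  rw [← Ideal.height_eq_zero_iff]
  exact_mod_cast h2.symm

theorem isCohenMacaulayRing_of_isGorensteinRing (hG : LocCoh.IsGorensteinRing A) :
    LocCoh.IsCohenMacaulayRing A :=
  @LocCoh.IsCohenMacaulayRing.mk A _ hG.1 (fun p _ => by
      haveI := hG.isGorensteinLocalRing_localization p
      exact { supportDim_eq_depth := Groth.Agent.H6.LDL.gor_cm })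

end C

theorem main (k : Type u) [Field k]
    (A : Type u) [CommRing A] [Algebra k A] (hlci : LCI.IsLCI k A)
    (hgs : ∀ (p : Ideal A) [p.IsPrime], p ∈ minimalPrimes A →
      Algebra.FormallySmooth k (Localization.AtPrime p)) :
    Subsingleton (Algebra.H1Cotangent k A) := by
  have hG := Groth.Agent.S1827.result k A (Groth.Agent.H4.KF2.isGorensteinRing_of_field k) hlci
  haveI hCM := isCohenMacaulayRing_of_isGorensteinRing hG
  obtain ⟨hft, n, f, hf, hI⟩ := hlci
  by_contra hne
  rw [not_subsingleton_iff_nontrivial] at hne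
  obtain ⟨𝔭, h𝔭⟩ := associatedPrimes.nonempty A (Algebra.H1Cotangent k A)
  obtain ⟨h𝔭p, z, hz⟩ := (isAssociatedPrime_iff).1 h𝔭
  have hmin : 𝔭 ∈ minimalPrimes A := by
    let E := Algebra.Extension.ofSurjective f hf
    haveI : Algebra.FormallySmooth k E.Ring :=
      inferInstanceAs (Algebra.FormallySmooth k (MvPolynomial (Fin n) k))
    let e := E.equivH1CotangentOfFormallySmooth
    obtain ⟨x, hx⟩ := Algebra.Extension.Cotangent.mk_surjective (e.symm z).1
    have hann : ∀ a : E.Ring, a * x.1 ∈ (RingHom.ker f.toRingHom) ^ 2 ↔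
        f.toRingHom a ∈ 𝔭 := by
      intro a
      have h1 : a * x.1 ∈ (RingHom.ker f.toRingHom) ^ 2 ↔
          Algebra.Extension.Cotangent.mk (P := E) (a • x) = 0 := by
        rw [Algebra.Extension.Cotangent.mk_eq_zero_iff]
        rfl
      rw [h1, map_smul, hx, hz, Submodule.mem_colon_singleton, Submodule.mem_bot]
      have h2 : (a • (e.symm z).1 : E.Cotangent) =
          (f.toRingHom (a : MvPolynomial (Fin n) k) • e.symm z : E.H1Cotangent).1 :=
        (algebraMap_smul (R := E.Ring) A a (e.symm z).1).symm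
      rw [h2]
      constructor
      · intro h
        have h3 : f.toRingHom (a : MvPolynomial (Fin n) k) • e.symm z = 0 := Subtype.ext h
        rw [← map_smul] at h3
        exact e.symm.injective (by rw [h3, map_zero])
      · intro h
        have h3 : f.toRingHom (a : MvPolynomial (Fin n) k) • e.symm z = 0 := by
          rw [← map_smul, h, map_zero]
        rw [h3]; rfl
    obtain ⟨w, hw, hw2⟩ := exists_ann_eq_maximalIdeal f.toRingHom hf 𝔭 hI x.1 x.2 hann
    exact mem_minimalPrimes_of_ann 𝔭 w hw hw2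
  haveI := hgs 𝔭 hmin
  have h0 : Algebra.H1Cotangent.map k k A (Localization.AtPrime 𝔭) z = 0 := Subsingleton.elim _ _
  obtain ⟨s, hs⟩ := (IsLocalizedModule.eq_zero_iff 𝔭.primeCompl _).1 h0
  have h5 : (s : A) ∈ (⊥ : Submodule A (Algebra.H1Cotangent k A)).colon {z} := by
    rw [Submodule.mem_colon_singleton]; exact hs
  rw [← hz] at h5
  exact s.2 h5

end Groth.Agent.H6.GenSm
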