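import Mathlib

/-!
# Generic retraction of a submodule of a finite module over a domain (helper6)

For an injective linear map `j : K → F` with `F` finite over a domain `A` there are `f ≠ 0` and a linear
`θ : F → K` with `θ ∘ j = f • id`.  (Generic freeness of `F / K` in elementary form.)
-/

namespace Groth.Agent.H6.GenericRetract

open Submodule

lemma exists_generic_retraction {A : Type*} [CommRing A] [IsDomain A] {K F : Type*}
    [AddCommGroup K] [Module A K] [AddCommGroup F] [Module A F] [Module.Finite A F]
    (j : K →ₗ[A] F) (hj : Function.Injective j) :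
    ∃ (f : A) (θ : F →ₗ[A] K), f ≠ 0 ∧ ∀ x, θ (j x) = f • x := by
  classical
  obtain ⟨n, g, hg⟩ := Module.Finite.exists_fin (R := A) (M := F ⧸ LinearMap.range j)
  obtain ⟨s, hs, hmax⟩ := exists_maximal_linearIndepOn A g
  have hex : ∀ i, ∃ a : A, a ≠ 0 ∧ a • g i ∈ span A (g '' s) := fun i => by
    by_cases hi : i ∈ s
    · exact ⟨1, one_ne_zero, by rw [one_smul]; exact subset_span ⟨i, hi, rfl⟩⟩
    · exact hmax i hi
  choose a ha0 ha using hex
  let f : A := ∏ i, a i
  have hf0 : f ≠ 0 := Finset.prod_ne_zero_iff.2 (fun i _ => ha0 i)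
  let v : s → (F ⧸ LinearMap.range j) := fun i => g i
  have hv : LinearIndependent A v := hs
  have hrange : Set.range v = g '' s := by
    ext q; constructor
    · rintro ⟨i, rfl⟩; exact ⟨i.1, i.2, rfl⟩
    · rintro ⟨i, hi, rfl⟩; exact ⟨⟨i, hi⟩, rfl⟩
  have hfL : ∀ q : F ⧸ LinearMap.range j, f • q ∈ span A (Set.range v) := by
    intro q
    have hq : q ∈ span A (Set.range g) := by rw [hg]; trivial
    induction hq using Submodule.span_induction with
    | mem x hx =>
      obtain ⟨i, rfl⟩ := hx
      have : f = (∏ i' ∈ Finset.univ.erase i, a i') * a i :=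
        (Finset.prod_erase_mul _ _ (Finset.mem_univ i)).symm
      rw [this, mul_smul, hrange]
      exact Submodule.smul_mem _ _ (ha i)
    | zero => rw [smul_zero]; exact zero_mem _
    | add x y _ _ hx hy => rw [smul_add]; exact add_mem hx hy
    | smul c x _ hx => rw [smul_comm]; exact Submodule.smul_mem _ _ hx
  -- lifts of the independent family
  have hlift : ∀ i : s, ∃ y : F, (LinearMap.range j).mkQ y = v i := fun i =>
    Submodule.mkQ_surjective _ _
  choose qt hqt using hlift
  let α : (F ⧸ LinearMap.range j) →ₗ[A] span A (Set.range v) :=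
    LinearMap.codRestrict _ (f • LinearMap.id) hfL
  let β : span A (Set.range v) →ₗ[A] F := (Finsupp.linearCombination A qt) ∘ₗ hv.repr
  have hβ : ∀ y : span A (Set.range v), (LinearMap.range j).mkQ (β y) = y := by
    intro y
    change (LinearMap.range j).mkQ (Finsupp.linearCombination A qt (hv.repr y)) = y
    rw [Finsupp.apply_linearCombination]
    have : ((LinearMap.range j).mkQ ∘ qt) = v := funext hqt
    rw [this]
    exact hv.linearCombination_repr y
  let θ₀ : F →ₗ[A] F := f • LinearMap.id - β ∘ₗ α ∘ₗ (LinearMap.range j).mkQ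
  have hθ₀ : ∀ y, θ₀ y ∈ LinearMap.range j := by
    intro y
    rw [← Submodule.ker_mkQ (LinearMap.range j), LinearMap.mem_ker]
    change (LinearMap.range j).mkQ (f • y - β (α ((LinearMap.range j).mkQ y))) = 0
    rw [map_sub, hβ, map_smul]
    exact sub_self _
  let θ : F →ₗ[A] K :=
    (LinearEquiv.ofInjective j hj).symm.toLinearMap ∘ₗ LinearMap.codRestrict _ θ₀ hθ₀
  refine ⟨f, θ, hf0, fun x => ?_⟩
  apply hj
  have h1 : ∀ z : LinearMap.range j, j ((LinearEquiv.ofInjective j hj).symm z) = z := by
    intro z
    have := (LinearEquiv.ofInjective j hj).apply_symm_apply z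
    exact congrArg Subtype.val this
  change j ((LinearEquiv.ofInjective j hj).symm ⟨θ₀ (j x), hθ₀ _⟩) = _
  rw [h1]
  change f • j x - β (α ((LinearMap.range j).mkQ (j x))) = _
  have h2 : (LinearMap.range j).mkQ (j x) = 0 := by
    rw [← LinearMap.mem_ker, Submodule.ker_mkQ]; exact ⟨x, rfl⟩
  rw [h2, map_zero, map_zero, sub_zero, map_smul]

end Groth.Agent.H6.GenericRetract
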