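import Mathlib
import Groth.Prelude
import Groth.Agent.Lib.Helper1.GeomConnSch

universe u
open CategoryTheory CategoryTheory.Limits AlgebraicGeometry TopologicalSpace Opposite

set_option linter.unusedSectionVars false
set_option linter.style.haveILetI false
namespace Groth.Agent.H6.GeoConnSC

instance subsingleton_spec_field (k : Type u) [Field k] : Subsingleton ↥(Spec (CommRingCat.of k)) :=
  inferInstanceAs (Subsingleton (PrimeSpectrum k))

/-- a connected scheme over a separably closed field is geometrically connected. -/
theorem geometricallyConnected_of_sepClosed (k : Type u) [Field k] [IsSepClosed k] {X : Scheme.{u}}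
    (p : X ⟶ Spec (CommRingCat.of k)) [ConnectedSpace X] : GeometricallyConnected p := by
  refine ⟨fun K _ y Z fst snd hpb => ?_⟩
  letI : Algebra k K := (Spec.preimage y).hom.toAlgebra
  have hy : y = Spec.map (CommRingCat.ofHom (algebraMap k K)) := (Spec.map_preimage y).symm
  haveI : GeometricallyConnected y := by
    rw [hy]; exact Groth.Agent.H1.GeomConnSch.geometricallyConnected_specMap k K
  haveI : ConnectedSpace ↥(pullback p y) := inferInstance
  have e : Z ≅ pullback p y := hpb.isoPullback
  exact (e.hom.homeomorph.connectedSpace_iff).mpr inferInstance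

theorem s3682 (k : Type u) [Field k] [IsSepClosed k] {X' Y' : Scheme.{u}}
    (p : X' ⟶ Spec (CommRingCat.of k)) (q : Y' ⟶ Spec (CommRingCat.of k))
    [ConnectedSpace X'] [ConnectedSpace Y'] : ConnectedSpace ↥(pullback p q) := by
  haveI := geometricallyConnected_of_sepClosed k p
  infer_instance

end Groth.Agent.H6.GeoConnSC
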