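import Mathlib
import Groth.Agent.Lib.Helper6.FinSigma
import Groth.Agent.Lib.Helper6.SplitDeg1

/-!
# Geometrically transitive actions of finite groups (helper6)
-/

universe u

open CategoryTheory CategoryTheory.Limits AlgebraicGeometry Opposite

namespace Groth.Agent.H6.GeomTrans

open Groth.Agent.H6.SplitDeg

/-- the morphism `∐_G Y ⟶ Y ×_S X` with components `(id, r ≫ σ)` is finite and
surjective when `G` acts transitively on geometric fibres of the finite morphism `q : X ⟶ S`. -/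
theorem finite_surjective_sigmaDesc {X S Y : Scheme.{u}} (q : X ⟶ S) [IsFinite q] {G : Type u}
    [Finite G] (ρ : G → (X ⟶ X))
    (htrans : ∀ (Ω : Type u) [Field Ω] [IsAlgClosed Ω] (τ₁ τ₂ : Spec (CommRingCat.of Ω) ⟶ X),
      τ₁ ≫ q = τ₂ ≫ q → ∃ g : G, τ₁ ≫ ρ g = τ₂)
    (p : Y ⟶ S) (r : Y ⟶ X) (hr : r ≫ q = p) (c : G → (Y ⟶ pullback p q))
    (hc1 : ∀ σ, c σ ≫ pullback.fst p q = 𝟙 Y)
    (hc2 : ∀ σ, c σ ≫ pullback.snd p q = r ≫ ρ σ) :
    IsFinite (Sigma.desc c) ∧ Surjective (Sigma.desc c) := by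
  haveI : IsFinite (pullback.fst p q) :=
    MorphismProperty.pullback_fst (P := @IsFinite) _ _ inferInstance
  have hcfin : ∀ σ, IsFinite (c σ) := fun σ => by
    haveI : IsClosedImmersion (c σ ≫ pullback.fst p q) := by rw [hc1]; infer_instance
    haveI : IsClosedImmersion (c σ) := IsClosedImmersion.of_comp (c σ) (pullback.fst p q)
    infer_instance
  refine ⟨Groth.Agent.H6.FinSigma.isFinite_sigmaDesc (fun _ : G => Y) c hcfin, ?_⟩
  constructor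
  intro z
  obtain ⟨Ω, _, _, ζ, x, hx⟩ := exists_geometric_point_at (pullback p q) z
  let y : Spec (CommRingCat.of Ω) ⟶ Y := ζ ≫ pullback.fst p q
  let t : Spec (CommRingCat.of Ω) ⟶ X := ζ ≫ pullback.snd p q
  have hyt : (y ≫ r) ≫ q = t ≫ q := by
    simp only [y, t, Category.assoc]
    rw [hr, pullback.condition]
  obtain ⟨g, hg⟩ := htrans Ω (y ≫ r) t hyt
  have hζ : ζ = y ≫ c g := by
    apply pullback.hom_ext
    · rw [Category.assoc, hc1, Category.comp_id]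
    · rw [Category.assoc, hc2, ← Category.assoc, hg]
  refine ⟨(Sigma.ι (fun _ : G => Y) g) (y x), ?_⟩
  have h1 : (y ≫ c g) x = ζ x :=
    congrArg (fun m : Spec (CommRingCat.of Ω) ⟶ pullback p q => m x) hζ.symm
  rw [← Scheme.Hom.comp_apply, Sigma.ι_desc]
  exact h1.trans hx

/-- **S13739**. -/
theorem s13739 {X S Y : Scheme.{u}} (q : X ⟶ S) [IsFinite q] {G : Type u} [Group G] [Finite G]
    (ρ : G →* Aut X)
    (htrans : ∀ (Ω : Type u) [Field Ω] [IsAlgClosed Ω] (τ₁ τ₂ : Spec (CommRingCat.of Ω) ⟶ X),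
      τ₁ ≫ q = τ₂ ≫ q → ∃ g : G, τ₁ ≫ (ρ g).hom = τ₂)
    (r : Y ⟶ X) (υ : (∐ fun _ : G => Y) ⟶ pullback (r ≫ q) q)
    (hυ₁ : ∀ σ : G, Sigma.ι (fun _ : G => Y) σ ≫ υ ≫ pullback.fst (r ≫ q) q = 𝟙 Y)
    (hυ₂ : ∀ σ : G, Sigma.ι (fun _ : G => Y) σ ≫ υ ≫ pullback.snd (r ≫ q) q = r ≫ (ρ σ).hom) :
    IsFinite υ ∧ Surjective υ := by
  let c : G → (Y ⟶ pullback (r ≫ q) q) := fun σ => Sigma.ι (fun _ : G => Y) σ ≫ υ
  have hc1 : ∀ σ, c σ ≫ pullback.fst (r ≫ q) q = 𝟙 Y := fun σ => by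
    rw [Category.assoc]; exact hυ₁ σ
  have hc2 : ∀ σ, c σ ≫ pullback.snd (r ≫ q) q = r ≫ (ρ σ).hom := fun σ => by
    rw [Category.assoc]; exact hυ₂ σ
  have hυ : υ = Sigma.desc c := by
    apply Sigma.hom_ext
    intro σ
    rw [Sigma.ι_desc]
  rw [hυ]
  exact finite_surjective_sigmaDesc q (fun g => (ρ g).hom) htrans (r ≫ q) r rfl c hc1 hc2

end Groth.Agent.H6.GeomTrans
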