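import Mathlib
import Groth.Agent.Lib.Helper6.GeomTrans1

universe u

open CategoryTheory CategoryTheory.Limits AlgebraicGeometry Opposite

namespace Groth.Agent.H6.GeomTrans

/-- a field-valued point factors through the residue field of its image point. -/
theorem exists_factor_residueField {X : Scheme.{u}} {Ω : Type u} [Field Ω]
    (τ : Spec (CommRingCat.of Ω) ⟶ X) (x : X) (hx : τ (IsLocalRing.closedPoint Ω) = x) :
    ∃ φ : X.residueField x ⟶ CommRingCat.of Ω, τ = Spec.map φ ≫ X.fromSpecResidueField x := by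
  subst hx
  exact ⟨_, (Scheme.descResidueField_stalkClosedPointTo_fromSpecResidueField Ω X τ).symm⟩

/-- conjugacy of two geometric points at the same point `x`, when `κ(x)/κ(q x)` is normal and its
automorphisms are induced by the group. -/
theorem exists_conj_at {X S : Scheme.{u}} (q : X ⟶ S) {G : Type u} [Group G] (ρ : G →* Aut X)
    (x : X)
    (h2 : @Normal (S.residueField (q x)) (X.residueField x) _ _
      (q.residueFieldMap x).hom.toAlgebra)
    (h3 : ∀ (σ : X.residueField x ≅ X.residueField x),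
      q.residueFieldMap x ≫ σ.hom = q.residueFieldMap x →
      ∃ g : G, X.fromSpecResidueField x ≫ (ρ g).hom = Spec.map σ.hom ≫ X.fromSpecResidueField x)
    {Ω : Type u} [Field Ω] (φ₁ φ₂ : X.residueField x ⟶ CommRingCat.of Ω)
    (h : (Spec.map φ₁ ≫ X.fromSpecResidueField x) ≫ q =
      (Spec.map φ₂ ≫ X.fromSpecResidueField x) ≫ q) :
    ∃ g : G, (Spec.map φ₁ ≫ X.fromSpecResidueField x) ≫ (ρ g).hom =
      Spec.map φ₂ ≫ X.fromSpecResidueField x := by
  have hcompat : q.residueFieldMap x ≫ φ₁ = q.residueFieldMap x ≫ φ₂ := by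
    apply Spec.map_injective
    rw [← cancel_mono (S.fromSpecResidueField (q x))]
    simp only [Spec.map_comp, Category.assoc]
    rw [Scheme.Hom.SpecMap_residueFieldMap_fromSpecResidueField]
    simpa only [Category.assoc] using h
  letI algKL : Algebra (S.residueField (q x)) (X.residueField x) :=
    (q.residueFieldMap x).hom.toAlgebra
  letI algLΩ : Algebra (X.residueField x) Ω := φ₁.hom.toAlgebra
  letI algKΩ : Algebra (S.residueField (q x)) Ω := (q.residueFieldMap x ≫ φ₁).hom.toAlgebra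
  haveI : IsScalarTower (S.residueField (q x)) (X.residueField x) Ω :=
    IsScalarTower.of_algebraMap_eq (fun _ => rfl)
  haveI : Normal (S.residueField (q x)) (X.residueField x) := h2
  let ϕ : X.residueField x →ₐ[S.residueField (q x)] Ω :=
    { φ₂.hom with
      commutes' := fun k => by
        have := congrArg (fun m => m.hom k) hcompat
        exact this.symm }
  let σ : X.residueField x ≃ₐ[S.residueField (q x)] X.residueField x := ϕ.restrictNormal' _
  have hσ : ∀ l, φ₁.hom (σ l) = φ₂.hom l := fun l =>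
    AlgHom.restrictNormal_commutes ϕ (X.residueField x) l
  let σi : X.residueField x ≅ X.residueField x := σ.toRingEquiv.toCommRingCatIso
  have hσi : q.residueFieldMap x ≫ σi.hom = q.residueFieldMap x := by
    ext k
    exact σ.commutes k
  obtain ⟨g, hg⟩ := h3 σi hσi
  refine ⟨g, ?_⟩
  have h5 : σi.hom ≫ φ₁ = φ₂ := by
    ext l
    exact hσ l
  rw [Category.assoc, hg, ← Category.assoc, ← Spec.map_comp, h5]

/-- **S13741**. -/
theorem s13741 {X S : Scheme.{u}} (q : X ⟶ S) {G : Type u} [Group G] (ρ : G →* Aut X)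
    (hρ : ∀ g : G, (ρ g).hom ≫ q = q)
    (h1 : ∀ x y : X, q x = q y → ∃ g : G, (ρ g).hom x = y)
    (h2 : ∀ x : X, @Normal (S.residueField (q x)) (X.residueField x) _ _
      (q.residueFieldMap x).hom.toAlgebra)
    (h3 : ∀ (x : X) (σ : X.residueField x ≅ X.residueField x),
      q.residueFieldMap x ≫ σ.hom = q.residueFieldMap x →
      ∃ g : G, X.fromSpecResidueField x ≫ (ρ g).hom = Spec.map σ.hom ≫ X.fromSpecResidueField x)
    (Ω : Type u) [Field Ω] (τ₁ τ₂ : Spec (CommRingCat.of Ω) ⟶ X) (hτ : τ₁ ≫ q = τ₂ ≫ q) :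
    ∃ g : G, τ₁ ≫ (ρ g).hom = τ₂ := by
  let pt := IsLocalRing.closedPoint Ω
  have hpt : q (τ₁ pt) = q (τ₂ pt) :=
    congrArg (fun m : Spec (CommRingCat.of Ω) ⟶ S => m pt) hτ
  obtain ⟨g₀, hg₀⟩ := h1 _ _ hpt
  let x := τ₂ pt
  obtain ⟨φ₁, hφ₁⟩ := exists_factor_residueField (τ₁ ≫ (ρ g₀).hom) x hg₀
  obtain ⟨φ₂, hφ₂⟩ := exists_factor_residueField τ₂ x rfl
  have h : (Spec.map φ₁ ≫ X.fromSpecResidueField x) ≫ q =
      (Spec.map φ₂ ≫ X.fromSpecResidueField x) ≫ q := by
    rw [← hφ₁, ← hφ₂, Category.assoc, hρ, hτ]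
  obtain ⟨g, hg⟩ := exists_conj_at q ρ x (h2 x) (h3 x) φ₁ φ₂ h
  refine ⟨g * g₀, ?_⟩
  rw [← hφ₁, ← hφ₂] at hg
  rw [map_mul]
  have h6 : (ρ g * ρ g₀).hom = (ρ g₀).hom ≫ (ρ g).hom := rfl
  rw [h6]
  simpa only [Category.assoc] using hg

end Groth.Agent.H6.GeomTrans
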