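import Mathlib
import Groth.Agent.Lib.Helper6.GeomTrans2

universe u

open CategoryTheory CategoryTheory.Limits AlgebraicGeometry Opposite

namespace Groth.Agent.H6.GeomTrans

open Groth.Agent.H6.SplitDeg

/-- the image of an irreducible component under a homeomorphism is an irreducible component. -/
theorem image_mem_irreducibleComponents {X : Type*} [TopologicalSpace X] (h : X ≃ₜ X) (T : Set X)
    (hT : T ∈ irreducibleComponents X) : h '' T ∈ irreducibleComponents X := by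
  refine ⟨hT.1.image h h.continuous.continuousOn, ?_⟩
  intro T' hT' hle
  have h1 : T ≤ h.symm '' T' := by
    intro x hx
    exact ⟨h x, hle ⟨x, hx, rfl⟩, h.symm_apply_apply x⟩
  have h2 := hT.2 (hT'.image h.symm h.symm.continuous.continuousOn) h1
  intro y hy
  have hx : h.symm y ∈ T := h2 ⟨y, hy, rfl⟩
  exact ⟨h.symm y, hx, h.apply_symm_apply y⟩

/-- geometric transitivity implies transitivity on the points of each fibre. -/
theorem exists_apply_eq_of_geomTrans {X S : Scheme.{u}} (q : X ⟶ S) {G : Type u} [Group G]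
    (ρ : G →* Aut X)
    (htrans : ∀ (Ω : Type u) [Field Ω] [IsAlgClosed Ω] (τ₁ τ₂ : Spec (CommRingCat.of Ω) ⟶ X),
      τ₁ ≫ q = τ₂ ≫ q → ∃ g : G, τ₁ ≫ (ρ g).hom = τ₂)
    (x y : X) (hxy : q x = q y) : ∃ g : G, (ρ g).hom x = y := by
  obtain ⟨z, hz1, hz2⟩ := Scheme.Pullback.exists_preimage_pullback x y hxy
  obtain ⟨Ω, _, _, ζ, pt, hpt⟩ := exists_geometric_point_at (pullback q q) z
  obtain ⟨g, hg⟩ := htrans Ω (ζ ≫ pullback.fst q q) (ζ ≫ pullback.snd q q) (by
    rw [Category.assoc, Category.assoc, pullback.condition])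
  refine ⟨g, ?_⟩
  have h1 := congrArg (fun m : Spec (CommRingCat.of Ω) ⟶ X => m pt) hg
  have h2 : (ρ g).hom ((pullback.fst q q) (ζ pt)) = (pullback.snd q q) (ζ pt) := h1
  rw [hpt, hz1, hz2] at h2
  exact h2

/-- **S13738**. -/
theorem s13738 {X S : Scheme.{u}} [IrreducibleSpace ↥S] (q : X ⟶ S) [IsFinite q] [Surjective q]
    {G : Type u} [Group G] (ρ : G →* Aut X) (hρ : ∀ g : G, (ρ g).hom ≫ q = q)
    (htrans : ∀ (Ω : Type u) [Field Ω] [IsAlgClosed Ω] (τ₁ τ₂ : Spec (CommRingCat.of Ω) ⟶ X),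
      τ₁ ≫ q = τ₂ ≫ q → ∃ g : G, τ₁ ≫ (ρ g).hom = τ₂) :
    (∀ T ∈ irreducibleComponents ↥X, Set.image (fun x => q x) T = Set.univ) ∧
      ∀ T₁ ∈ irreducibleComponents ↥X, ∀ T₂ ∈ irreducibleComponents ↥X,
        ∃ g : G, Set.image (fun x => (ρ g).hom x) T₁ = T₂ := by
  have hpt := exists_apply_eq_of_geomTrans q ρ htrans
  have hq : ∀ (g : G) (x : X), q ((ρ g).hom x) = q x := fun g x =>
    congrArg (fun m : X ⟶ S => m x) (hρ g)
  -- the homeomorphism of `X` given by `g`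
  let hom : G → (↥X ≃ₜ ↥X) := fun g => Scheme.homeoOfIso (ρ g)
  have hhom : ∀ g x, hom g x = (ρ g).hom x := fun g x => rfl
  have hcomp : ∀ (g : G) (T : Set X), T ∈ irreducibleComponents ↥X →
      Set.image (fun x => (ρ g).hom x) T ∈ irreducibleComponents ↥X := fun g T hT =>
    image_mem_irreducibleComponents (hom g) T hT
  -- the base component
  obtain ⟨x₀, hx₀⟩ := q.surjective (genericPoint S)
  let T₀ : Set X := irreducibleComponent x₀
  have hT₀ : T₀ ∈ irreducibleComponents ↥X := irreducibleComponent_mem_irreducibleComponents x₀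
  have hqT₀ : Set.image (fun x => q x) T₀ = Set.univ := by
    have hcl : IsClosed (Set.image (fun x => q x) T₀) :=
      q.isClosedMap _ isClosed_irreducibleComponent
    have hmem : genericPoint S ∈ Set.image (fun x => q x) T₀ :=
      ⟨x₀, mem_irreducibleComponent, hx₀⟩
    rw [Set.eq_univ_iff_forall]
    intro s
    have h1 : closure {genericPoint S} ⊆ Set.image (fun x => q x) T₀ :=
      hcl.closure_subset_iff.mpr (Set.singleton_subset_iff.mpr hmem)
    apply h1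
    rw [(genericPoint_spec S).def]
    trivial
  -- every component is a translate of the base component
  have hall : ∀ T ∈ irreducibleComponents ↥X, ∃ g : G, Set.image (fun x => (ρ g).hom x) T₀ = T := by
    intro T hT
    have hTcl : IsClosed T := isClosed_of_mem_irreducibleComponents T hT
    obtain ⟨ξ, hξ⟩ := QuasiSober.sober hT.1 hTcl
    obtain ⟨x, hxT₀, hx⟩ : q ξ ∈ Set.image (fun x => q x) T₀ := by rw [hqT₀]; trivial
    obtain ⟨g, hg⟩ := hpt x ξ hx
    refine ⟨g, ?_⟩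
    have hT' := hcomp g T₀ hT₀
    have hξT' : ξ ∈ Set.image (fun x => (ρ g).hom x) T₀ := ⟨x, hxT₀, hg⟩
    have hle : T ≤ Set.image (fun x => (ρ g).hom x) T₀ := by
      rw [← hξ.def]
      exact (isClosed_of_mem_irreducibleComponents _ hT').closure_subset_iff.mpr
        (Set.singleton_subset_iff.mpr hξT')
    exact le_antisymm (hT.2 hT'.1 hle) hle
  refine ⟨?_, ?_⟩
  · intro T hT
    obtain ⟨g, rfl⟩ := hall T hT
    rw [← hqT₀]
    ext s
    constructor
    · rintro ⟨_, ⟨x, hx, rfl⟩, rfl⟩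
      exact ⟨x, hx, (hq g x).symm⟩
    · rintro ⟨x, hx, rfl⟩
      exact ⟨(ρ g).hom x, ⟨x, hx, rfl⟩, hq g x⟩
  · intro T₁ hT₁ T₂ hT₂
    obtain ⟨g₁, rfl⟩ := hall T₁ hT₁
    obtain ⟨g₂, rfl⟩ := hall T₂ hT₂
    refine ⟨g₂ * g₁⁻¹, ?_⟩
    have hmul : ∀ x : X, (ρ (g₂ * g₁⁻¹)).hom ((ρ g₁).hom x) = (ρ g₂).hom x := by
      intro x
      have h1 : (ρ g₁).hom ≫ (ρ (g₂ * g₁⁻¹)).hom = (ρ g₂).hom := by
        have h2 : (ρ (g₂ * g₁⁻¹ * g₁)).hom = (ρ g₁).hom ≫ (ρ (g₂ * g₁⁻¹)).hom := by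
          rw [map_mul]; rfl
        rw [← h2, inv_mul_cancel_right]
      exact congrArg (fun m : X ⟶ X => m x) h1
    ext y
    constructor
    · rintro ⟨_, ⟨x, hx, rfl⟩, rfl⟩
      exact ⟨x, hx, (hmul x).symm⟩
    · rintro ⟨x, hx, rfl⟩
      exact ⟨(ρ g₁).hom x, ⟨x, hx, rfl⟩, hmul x⟩

end Groth.Agent.H6.GeomTrans
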