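import Mathlib
import Groth.Agent.Lib.Helper6.GeomTrans3
import Groth.Prelude.Def_SGA1

universe w u

open CategoryTheory CategoryTheory.Limits AlgebraicGeometry Opposite

namespace Groth.Agent.H6.GeomTrans

/-- a finite surjective morphism is universally submersive. -/
theorem univSubmersive_of_finite_surjective {X Y : Scheme.{u}} (f : X ⟶ Y) [IsFinite f]
    [Surjective f] : SGA1.UnivSubmersive f := by
  intro X' Y' i₁ i₂ f' h
  haveI : IsFinite f' := MorphismProperty.of_isPullback (P := @IsFinite) h.flip inferInstance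
  haveI : Surjective f' := MorphismProperty.of_isPullback (P := @Surjective) h.flip inferInstance
  exact IsClosedMap.isQuotientMap f'.isClosedMap f'.continuous f'.surjective

/-- **S13740**. -/
theorem s13740 {X S : Scheme.{u}} (q : X ⟶ S) [IsFinite q] [Surjective q] {G : Type u} [Group G]
    [Finite G] (ρ : G →* Aut X) (hρ : ∀ g : G, (ρ g).hom ≫ q = q)
    (htrans : ∀ (Ω : Type u) [Field Ω] [IsAlgClosed Ω] (τ₁ τ₂ : Spec (CommRingCat.of Ω) ⟶ X),
      τ₁ ≫ q = τ₂ ≫ q → ∃ g : G, τ₁ ≫ (ρ g).hom = τ₂)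
    (F : Scheme.{u}ᵒᵖ ⥤ Type w)
    (hF : ∀ ⦃T : Scheme.{u}⦄ (E : PreZeroHypercover.{u} T), Finite E.I₀ →
      (∀ i, LocallyOfFiniteType (E.f i)) → (∀ i, QuasiCompact (E.f i)) →
      (∀ i, LocallyQuasiFinite (E.f i)) → SGA1.UnivSubmersive (Limits.Sigma.desc E.f) →
      Presieve.IsSheafFor F E.presieve₀) :
    Function.Injective (F.map q.op) ∧
      Set.range (F.map q.op) = {f : F.obj (Opposite.op X) | ∀ g : G, F.map (ρ g).hom.op f = f} := by
  -- the cover `{q}` of `S`
  let E₁ : PreZeroHypercover.{u} S := ⟨PUnit.{u+1}, fun _ => X, fun _ => q⟩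
  have hE₁fin : IsFinite (Limits.Sigma.desc E₁.f) :=
    Groth.Agent.H6.FinSigma.isFinite_sigmaDesc _ _ (fun _ => inferInstanceAs (IsFinite q))
  have hE₁surj : Surjective (Limits.Sigma.desc E₁.f) := by
    constructor
    intro s
    obtain ⟨x, hx⟩ := q.surjective s
    refine ⟨(Limits.Sigma.ι E₁.X PUnit.unit) x, ?_⟩
    rw [← Scheme.Hom.comp_apply, Limits.Sigma.ι_desc]
    exact hx
  have hS₁ : Presieve.IsSheafFor F E₁.presieve₀ :=
    hF E₁ (inferInstanceAs (Finite PUnit)) (fun _ => inferInstanceAs (LocallyOfFiniteType q))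
      (fun _ => inferInstanceAs (QuasiCompact q)) (fun _ => inferInstanceAs (LocallyQuasiFinite q))
      (univSubmersive_of_finite_surjective _)
  -- the cover `{(id, σ)}` of `X ×_S X`
  let c : G → (X ⟶ pullback q q) := fun σ =>
    pullback.lift (𝟙 X) (ρ σ).hom (by rw [Category.id_comp, hρ])
  have hc1 : ∀ σ, c σ ≫ pullback.fst q q = 𝟙 X := fun σ => pullback.lift_fst _ _ _
  have hc2 : ∀ σ, c σ ≫ pullback.snd q q = (ρ σ).hom := fun σ => pullback.lift_snd _ _ _
  haveI : IsFinite (pullback.fst q q) :=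
    MorphismProperty.pullback_fst (P := @IsFinite) _ _ inferInstance
  have hcfin : ∀ σ, IsFinite (c σ) := fun σ => by
    haveI : IsClosedImmersion (c σ ≫ pullback.fst q q) := by rw [hc1]; infer_instance
    haveI : IsClosedImmersion (c σ) := IsClosedImmersion.of_comp (c σ) (pullback.fst q q)
    infer_instance
  let E₂ : PreZeroHypercover.{u} (pullback q q) := ⟨G, fun _ => X, c⟩
  obtain ⟨hE₂fin, hE₂surj⟩ := finite_surjective_sigmaDesc q (fun g => (ρ g).hom) htrans q (𝟙 X)
    (Category.id_comp q) c hc1 (fun σ => by rw [hc2, Category.id_comp])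
  have hS₂ : Presieve.IsSheafFor F E₂.presieve₀ :=
    hF E₂ (inferInstanceAs (Finite G)) (fun σ => by haveI := hcfin σ; exact inferInstanceAs (LocallyOfFiniteType (c σ)))
      (fun σ => by haveI := hcfin σ; exact inferInstanceAs (QuasiCompact (c σ)))
      (fun σ => by haveI := hcfin σ; exact inferInstanceAs (LocallyQuasiFinite (c σ)))
      (by haveI := hE₂fin; haveI := hE₂surj; exact univSubmersive_of_finite_surjective _)
  have hS₁' := (Presieve.isSheafFor_arrows_iff F (fun _ : PUnit.{u+1} => q)).mp hS₁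
  refine ⟨?_, ?_⟩
  · intro s s' hss'
    exact hS₁.isSeparatedFor.ext (by
      rintro Y f ⟨i⟩
      exact hss')
  · ext f
    constructor
    · rintro ⟨s, rfl⟩ g
      change F.map (ρ g).hom.op (F.map q.op s) = F.map q.op s
      rw [← Functor.map_comp_apply, ← op_comp, hρ]
    · intro hf
      have hf' : ∀ g : G, F.map (ρ g).hom.op f = f := hf
      have hab : F.map (pullback.fst q q).op f = F.map (pullback.snd q q).op f := by
        refine hS₂.isSeparatedFor.ext ?_
        rintro Y _ ⟨σ⟩
        change F.map (c σ).op (F.map (pullback.fst q q).op f) =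
          F.map (c σ).op (F.map (pullback.snd q q).op f)
        rw [← Functor.map_comp_apply, ← Functor.map_comp_apply, ← op_comp, ← op_comp,
          hc1, hc2, hf' σ, op_id, Functor.map_id_apply]
      obtain ⟨s, hs, -⟩ := hS₁' (fun _ => f) (by
        intro i j Z g₁ g₂ h12
        let l : Z ⟶ pullback q q := pullback.lift g₁ g₂ h12
        have h1 : g₁ = l ≫ pullback.fst q q := (pullback.lift_fst _ _ _).symm
        have h2 : g₂ = l ≫ pullback.snd q q := (pullback.lift_snd _ _ _).symm
        change F.map g₁.op f = F.map g₂.op f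
        rw [h1, h2, op_comp, op_comp, Functor.map_comp_apply,
          Functor.map_comp_apply, hab])
      exact ⟨s, hs PUnit.unit⟩

end Groth.Agent.H6.GeomTrans
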