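import Mathlib
import Groth.Prelude.Def_Dual3
import Groth.Agent.Lib.Helper7.GorFib
import Groth.Agent.H4.GL2

/-! # Gorenstein schemes: flat morphisms from a Gorenstein source, and lci morphisms over a
Gorenstein base (S3624, S3623). -/

set_option autoImplicit false
set_option linter.style.haveILetI false
universe u
open CategoryTheory CategoryTheory.Limits AlgebraicGeometry

namespace Groth.Agent.H6.GorSch

/-- S3624 -/
theorem main3624 (X Y : Scheme.{u}) [IsLocallyNoetherian Y] (f : X ⟶ Y) [Flat f]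
    (hX : Dual3.IsGorenstein X) :
    Dual3.IsGorensteinMor f ∧
      ∀ x : X, LocCoh.IsGorensteinLocalRing (Y.presheaf.stalk (f x)) := by
  haveI : IsLocallyNoetherian X := hX.1
  have key : ∀ x : X, Dual3.IsGorensteinAt f x ∧
      LocCoh.IsGorensteinLocalRing (Y.presheaf.stalk (f x)) := by
    intro x
    have k := (Groth.Agent.H7.GorFib.gor_iff_of_flat_local (f.stalkMap x).hom
      (Flat.stalkMap f x) (Groth.Agent.H1.FibreStalk.fiberStalkEquiv f x)).mp (hX.2 x)
    exact ⟨⟨Flat.stalkMap f x, k.2⟩, k.1⟩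
  exact ⟨fun x => (key x).1, fun x => (key x).2⟩

/-- the ring of sections of a Gorenstein scheme over an affine open is a Gorenstein ring -/
theorem isGorensteinRing_sections (X : Scheme.{u}) (hX : Dual3.IsGorenstein X)
    (V : X.affineOpens) : LocCoh.IsGorensteinRing Γ(X, V.1) := by
  haveI : IsLocallyNoetherian X := hX.1
  haveI : IsNoetherianRing Γ(X, V.1) := IsLocallyNoetherian.component_noetherian V
  refine { toIsNoetherian := inferInstance, isGorensteinLocalRing_localization := fun p _ => ?_ }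
  have hV : IsAffineOpen V.1 := V.2
  let y : PrimeSpectrum Γ(X, V.1) := ⟨p, inferInstance⟩
  have hx : hV.fromSpec y ∈ V.1 := by
    have h1 : hV.fromSpec y ∈ Set.range hV.fromSpec := ⟨y, rfl⟩
    rw [hV.range_fromSpec] at h1
    exact h1
  letI := TopCat.Presheaf.algebra_section_stalk X.presheaf ⟨hV.fromSpec y, hx⟩
  haveI : IsLocalization.AtPrime (X.presheaf.stalk (hV.fromSpec y)) p :=
    hV.isLocalization_stalk' y hx
  have e : Localization.AtPrime p ≃+* X.presheaf.stalk (hV.fromSpec y) :=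
    (IsLocalization.algEquiv p.primeCompl (Localization.AtPrime p)
      (X.presheaf.stalk (hV.fromSpec y))).toRingEquiv
  exact Groth.Agent.H4.GL2.isGorensteinLocalRing_of_ringEquiv e.symm (hX.2 _)

/-- the stalks of a scheme at the points of an affine open with Gorenstein ring of sections are
Gorenstein -/
theorem isGorensteinLocalRing_stalk (Y : Scheme.{u}) (U : Y.affineOpens)
    (hU : LocCoh.IsGorensteinRing Γ(Y, U.1)) (y : Y) (hy : y ∈ U.1) :
    LocCoh.IsGorensteinLocalRing (Y.presheaf.stalk y) := by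
  have hU' : IsAffineOpen U.1 := U.2
  letI : Algebra Γ(Y, U.1) (Y.presheaf.stalk y) :=
    TopCat.Presheaf.algebra_section_stalk Y.presheaf (⟨y, hy⟩ : U.1)
  haveI : IsLocalization.AtPrime (Y.presheaf.stalk y) (hU'.primeIdealOf ⟨y, hy⟩).asIdeal :=
    hU'.isLocalization_stalk ⟨y, hy⟩
  have e : Localization.AtPrime (hU'.primeIdealOf ⟨y, hy⟩).asIdeal ≃+* Y.presheaf.stalk y :=
    (IsLocalization.algEquiv (hU'.primeIdealOf ⟨y, hy⟩).asIdeal.primeCompl
      (Localization.AtPrime (hU'.primeIdealOf ⟨y, hy⟩).asIdeal) (Y.presheaf.stalk y)).toRingEquiv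
  exact Groth.Agent.H4.GL2.isGorensteinLocalRing_of_ringEquiv e
    (hU.isGorensteinLocalRing_localization _)

/-- S3623 -/
theorem main3623 (Y X : Scheme.{u}) (f : Y ⟶ X) (hf : Dual3.IsLCIMor f)
    (hX : Dual3.IsGorenstein X) : Dual3.IsGorenstein Y := by
  have key : ∀ y : Y, ∃ U : Y.affineOpens, y ∈ U.1 ∧ LocCoh.IsGorensteinRing Γ(Y, U.1) := by
    intro y
    obtain ⟨U, V, e, hyU, hlci⟩ := hf y
    refine ⟨U, hyU, ?_⟩
    letI := (f.appLE V.1 U.1 e).hom.toAlgebra
    exact Groth.Agent.H4.GL2.isGorensteinRing_of_isLCI Γ(X, V.1) Γ(Y, U.1)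
      (isGorensteinRing_sections X hX V) hlci
  choose U hyU hU using key
  refine ⟨?_, fun y => isGorensteinLocalRing_stalk Y (U y) (hU y) y (hyU y)⟩
  refine isLocallyNoetherian_of_affine_cover (S := U) ?_ (fun y => (hU y).toIsNoetherian)
  rw [eq_top_iff]
  intro y _
  exact TopologicalSpace.Opens.mem_iSup.mpr ⟨y, hyU y⟩

end Groth.Agent.H6.GorSch
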