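import Groth.Agent.Lib.Helper6.GrAInv2
import Groth.Agent.Lib.Helper6.EWCompare

/-! the top graded local cohomology of a standard graded ring is nonzero in every degree below
the a-invariant -/

set_option autoImplicit false
universe u
open GrLC Groth.Agent.H6 Groth.Agent.H6.Gr CategoryTheory TensorProduct

namespace Groth.Agent.H6.MaxLoc

variable {R : Type u} [CommRing R]

/-- top local cohomology with support in a maximal ideal is `m`-divisible (in positive degree) -/
theorem smul_top_eq_top [IsNoetherianRing R] (m : Ideal R) [hm : m.IsMaximal] (r : ℕ) (h1 : 1 ≤ r)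
    (hdim : ringKrullDim R ≤ (r : WithBot ℕ∞)) :
    m • (⊤ : Submodule R (LocCoh.H m r R)) = ⊤ := by
  have hF := EW.lc_rightExactFin m r hdim
  have hbij := EW.nu_bijective (F := localCohomology m r) hF (R ⧸ m)
  have hvan : Subsingleton (LocCoh.H m r (R ⧸ m)) := by
    apply LC.subsingleton_of_supportDim_lt
    rw [Module.supportDim_quotient_eq_ringKrullDim]
    letI := Ideal.Quotient.field m
    rw [ringKrullDim_eq_zero_of_field]
    exact_mod_cast h1
  have h2 : Subsingleton ((R ⧸ m) ⊗[R] LocCoh.H m r R) :=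
    (Equiv.ofBijective _ hbij).subsingleton
  have h3 : Subsingleton (LocCoh.H m r R ⧸ m • (⊤ : Submodule R (LocCoh.H m r R))) :=
    (TensorProduct.quotTensorEquivQuotSMul (LocCoh.H m r R) m).symm.toEquiv.subsingleton
  exact Submodule.Quotient.subsingleton_iff.mp h3

end Groth.Agent.H6.MaxLoc

namespace Groth.Agent.H6.AInv

variable {R : Type u} [CommRing R] [IsNoetherianRing R] {𝒜 : ℤ → AddSubgroup R} [GradedRing 𝒜]
  (hpos : ∀ n : ℤ, n < 0 → 𝒜 n = ⊥) (m : HomogeneousIdeal 𝒜) (hm : IsCoatom m)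

include hpos hm in
theorem graded_smul_top_eq_top (r : ℕ) (h1 : 1 ≤ r) (hdim : ringKrullDim R ≤ (r : WithBot ℕ∞))
    (I : GrLC.StarInjRes 𝒜 𝒜) : m.toIdeal • (⊤ : Submodule R (I.H m r)) = ⊤ := by
  haveI hmax : m.toIdeal.IsMaximal := isMaximal_of_isCoatom hpos m hm
  obtain ⟨e⟩ := nonempty_H_equiv 𝒜 𝒜 I m r
  have h := MaxLoc.smul_top_eq_top m.toIdeal r h1 hdim
  have h2 := congrArg (Submodule.map e.symm.toLinearMap) h
  rw [Submodule.map_smul'', Submodule.map_top, LinearMap.range_eq_top.mpr e.symm.surjective] at h2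
  exact h2

omit [IsNoetherianRing R] in
/-- if `m` is generated in degree one and `H = mH`, the vanishing of a piece propagates upwards -/
theorem piece_succ_eq_bot (hgen : m.toIdeal = Ideal.span ((𝒜 1 : AddSubgroup R) : Set R)) (r : ℕ)
    (I : GrLC.StarInjRes 𝒜 𝒜) (hdiv : m.toIdeal • (⊤ : Submodule R (I.H m r)) = ⊤) (n : ℤ)
    (hn : I.Hgr m r n = ⊥) : I.Hgr m r (n + 1) = ⊥ := by
  letI : DirectSum.Decomposition (I.Hgr m r) := (isInternal_Hgr 𝒜 𝒜 I m r).chooseDecomposition
  letI : SetLike.GradedSMul 𝒜 (I.Hgr m r) := Hgr_gradedSMul I m r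
  -- multiplication by elements of degree one
  have hA : ∀ x ∈ 𝒜 1, ∀ h : I.H m r, proj (I.Hgr m r) (n + 1) (x • h) = 0 := by
    intro x hx h
    have hdeg : GrLC.IsGrHomDeg (I.Hgr m r) (I.Hgr m r) (LinearMap.lsmul R (I.H m r) x) 1 := by
      intro g y hy
      have := smul_mem_Hgr I m r hx hy
      rwa [add_comm] at this
    have h1 := isGrHomDeg_proj (I.Hgr m r) (I.Hgr m r) hdeg n h
    have h2 : proj (I.Hgr m r) n h = 0 := by
      have := proj_mem (I.Hgr m r) n h
      rw [hn, AddSubgroup.mem_bot] at this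
      exact this
    rw [h2, map_zero] at h1
    exact h1.symm
  have hB : ∀ c ∈ m.toIdeal, ∀ h : I.H m r, proj (I.Hgr m r) (n + 1) (c • h) = 0 := by
    intro c hc
    rw [hgen] at hc
    induction hc using Submodule.span_induction with
    | mem x hx => exact hA x hx
    | zero => intro h; rw [zero_smul, map_zero]
    | add x y _ _ hx hy => intro h; rw [add_smul, map_add, hx, hy, add_zero]
    | smul a x _ hx => intro h; rw [smul_eq_mul, mul_comm, mul_smul]; exact hx (a • h)
  have hC : ∀ y ∈ m.toIdeal • (⊤ : Submodule R (I.H m r)), proj (I.Hgr m r) (n + 1) y = 0 := by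
    intro y hy
    induction hy using Submodule.smul_induction_on' with
    | smul c hc h _ => exact hB c hc h
    | add x _ y _ hx hy => rw [map_add, hx, hy, add_zero]
  rw [AddSubgroup.eq_bot_iff_forall]
  intro y hy
  have := hC y (by rw [hdiv]; trivial)
  rwa [proj_of_mem (I.Hgr m r) hy] at this

include hpos hm in
/-- **S18656** in general form -/
theorem pieces_ne_bot (hgen : m.toIdeal = Ideal.span ((𝒜 1 : AddSubgroup R) : Set R)) (r : ℕ)
    (hr : ringKrullDim R = r) (h1 : 1 ≤ r) (I : GrLC.StarInjRes 𝒜 𝒜) (a : ℤ)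
    (ha : GrLC.endDeg (I.Hgr m r) = ((a : WithTop ℤ) : WithBot (WithTop ℤ))) (n : ℤ) (hn : n ≤ a) :
    I.Hcomp m r n ≠ ⊥ := by
  intro hbot
  have hdiv := graded_smul_top_eq_top hpos m hm r h1 (le_of_eq hr) I
  have h0 : I.Hgr m r n = ⊥ := by
    change (I.Hcomp m r n).toAddSubgroup = ⊥
    rw [hbot]
    rfl
  have hall : ∀ j : ℕ, I.Hgr m r (n + j) = ⊥ := by
    intro j
    induction j with
    | zero => simpa using h0
    | succ j ih =>
      have := piece_succ_eq_bot m hgen r I hdiv (n + j) ih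
      rw [add_assoc] at this
      exact_mod_cast this
  have hle : GrLC.endDeg (I.Hgr m r) ≤ (((n - 1 : ℤ) : WithTop ℤ) : WithBot (WithTop ℤ)) := by
    unfold GrLC.endDeg
    refine iSup₂_le fun k hk => ?_
    have hkn : k < n := by
      by_contra hge
      push Not at hge
      apply hk
      have := hall (k - n).toNat
      rw [Int.toNat_of_nonneg (by omega)] at this
      rwa [add_sub_cancel] at this
    have : k ≤ n - 1 := by omega
    exact_mod_cast this
  rw [ha] at hle
  have : a ≤ n - 1 := by exact_mod_cast hle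
  omega

end Groth.Agent.H6.AInv
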