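import Groth.Agent.Lib.Helper6.GrLES
import Groth.Agent.Lib.Helper6.GrRes
import Groth.Agent.Lib.Helper6.GrSubQuot

/-! The graded acyclic resolution theorem: graded local cohomology (computed from *injective
resolutions) can be computed, with its grading, from a resolution by graded modules acyclic for the
graded derived functors of `Γ_a`. -/

universe u
open DirectSum
set_option linter.unusedSectionVars false

namespace Groth.Agent.H6

namespace Gr

variable {ι : Type} [AddCommGroup ι] [DecidableEq ι]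
variable {R : Type u} [CommRing R] {𝒜 : ι → AddSubgroup R} [GradedRing 𝒜]

section Gamma0

variable {M : Type u} [AddCommGroup M] [Module R M] {ℳ : ι → AddSubgroup M}
  [DirectSum.Decomposition ℳ] [SetLike.GradedSMul 𝒜 ℳ]
variable {N : Type u} [AddCommGroup N] [Module R N] {𝒩 : ι → AddSubgroup N}
  [DirectSum.Decomposition 𝒩] [SetLike.GradedSMul 𝒜 𝒩]

omit [DecidableEq ι] in
theorem mem_gam_of_map_mem {X Y : Type u} [AddCommGroup X] [Module R X] [AddCommGroup Y] [Module R Y]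
    (f : X →ₗ[R] Y) (hf : Function.Injective f) (a : Ideal R) {x : X}
    (hx : f x ∈ GrLC.gam a Y) : x ∈ GrLC.gam a X := by
  obtain ⟨n, hn⟩ := hx
  refine ⟨n, fun r hr => hf ?_⟩
  rw [map_smul, hn r hr, map_zero]

theorem mem_of_map_mem_of_injective {f : M →ₗ[R] N} (hf : GrLC.IsGrHom ℳ 𝒩 f)
    (hinj : Function.Injective f) {g : ι} {m : M} (hm : f m ∈ 𝒩 g) : m ∈ ℳ g := by
  have h1 : f (proj ℳ g m) = f m := by
    rw [isGrHom_proj ℳ 𝒩 hf, proj_of_mem 𝒩 hm]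
  rw [← hinj h1]
  exact proj_mem ℳ g m

variable (E : GrLC.StarInjRes 𝒜 ℳ) (F : GrLC.StarInjRes 𝒜 𝒩) (a : HomogeneousIdeal 𝒜)

/-- the canonical map `Γ_a(M) → H^0` -/
noncomputable def γ : GrLC.gam a.toIdeal M →ₗ[R] E.H a 0 :=
  E.toH a 0 ∘ₗ ((E.ε ∘ₗ (GrLC.gam a.toIdeal M).subtype).codRestrict (E.cocyc a 0)
    (fun m => ⟨map_mem_gam E.ε a.toIdeal m.2, d_ε E m.1⟩))

theorem γ_apply (m : GrLC.gam a.toIdeal M) :
    γ E a m = E.toH a 0 ⟨E.ε m.1, ⟨map_mem_gam E.ε a.toIdeal m.2, d_ε E m.1⟩⟩ := rfl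

theorem γ_injective : Function.Injective (γ E a) := by
  rw [injective_iff_map_eq_zero]
  intro m hm
  rw [γ_apply, toH_eq_zero_iff] at hm
  have h0 : E.ε m.1 = 0 := hm
  apply Subtype.ext
  exact E.ε_injective (h0.trans (map_zero _).symm)

theorem exists_γ_eq {g : ι} {x : E.H a 0} (hx : x ∈ E.Hgr a 0 g) :
    ∃ m : GrLC.gam a.toIdeal M, m.1 ∈ ℳ g ∧ γ E a m = x := by
  obtain ⟨z, hz, rfl⟩ := hx
  obtain ⟨m, hm⟩ := exists_of_d_zero_eq_zero E (show E.d 0 z.1 = 0 from z.2.2)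
  have hmg : m ∈ GrLC.gam a.toIdeal M := by
    apply mem_gam_of_map_mem E.ε E.ε_injective
    rw [hm]
    exact z.2.1
  refine ⟨⟨m, hmg⟩, ?_, ?_⟩
  · apply mem_of_map_mem_of_injective E.ε_grHom E.ε_injective
    rw [hm]
    exact hz
  · rw [γ_apply]
    congr 1
    exact Subtype.ext hm

theorem γ_surjective : Function.Surjective (γ E a) := by
  intro x
  obtain ⟨z, rfl⟩ := toH_surjective E a 0 x
  obtain ⟨m, hm⟩ := exists_of_d_zero_eq_zero E (show E.d 0 z.1 = 0 from z.2.2)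
  have hmg : m ∈ GrLC.gam a.toIdeal M := by
    apply mem_gam_of_map_mem E.ε E.ε_injective
    rw [hm]
    exact z.2.1
  refine ⟨⟨m, hmg⟩, ?_⟩
  rw [γ_apply]
  congr 1
  exact Subtype.ext hm

theorem γ_mem {g : ι} (m : GrLC.gam a.toIdeal M) (hm : m.1 ∈ ℳ g) : γ E a m ∈ E.Hgr a 0 g :=
  ⟨⟨E.ε m.1, ⟨map_mem_gam E.ε a.toIdeal m.2, d_ε E m.1⟩⟩, E.ε_grHom g _ hm, rfl⟩

theorem Hmap_γ {f : M →ₗ[R] N} (hf : GrLC.IsGrHom ℳ 𝒩 f) (m : GrLC.gam a.toIdeal M) :
    Hmap E F a f hf 0 (γ E a m) = γ F a ⟨f m.1, map_mem_gam f a.toIdeal m.2⟩ := by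
  obtain ⟨c⟩ := exists_chainLift E F f hf
  rw [Hmap_eq_chainLift a hf c, γ_apply, ChainLift.Hmap_toH, γ_apply]
  congr 1
  apply Subtype.ext
  exact c.comm_ε m.1

end Gamma0

variable {M : Type u} [AddCommGroup M] [Module R M] (ℳ : ι → AddSubgroup M)
  [DirectSum.Decomposition ℳ] [SetLike.GradedSMul 𝒜 ℳ]

variable (𝒜) in
/-- a resolution of a graded module by graded modules acyclic for the graded derived functors of
`Γ_a` -/
structure GrAcycRes (a : HomogeneousIdeal 𝒜) where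
  X : ℕ → GrLC.GMod.{u} 𝒜
  d : ∀ n : ℕ, (X n).carrier →ₗ[R] (X (n + 1)).carrier
  ε : M →ₗ[R] (X 0).carrier
  d_grHom : ∀ n : ℕ, GrLC.IsGrHom (X n).gr (X (n + 1)).gr (d n)
  ε_grHom : GrLC.IsGrHom ℳ (X 0).gr ε
  ε_injective : Function.Injective ε
  exact_zero : LinearMap.ker (d 0) = LinearMap.range ε
  exact_succ : ∀ n : ℕ, LinearMap.ker (d (n + 1)) = LinearMap.range (d n)
  acyclic : ∀ (n : ℕ) (G : GrLC.StarInjRes 𝒜 (X n).gr) (p : ℕ), Subsingleton (G.H a (p + 1))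

namespace GrAcycRes

variable {ℳ} {a : HomogeneousIdeal 𝒜} (A : GrAcycRes 𝒜 ℳ a)

/-- cocycles of `Γ_a(X^•)` -/
def cocyc (i : ℕ) : Submodule R (A.X i).carrier :=
  GrLC.gam a.toIdeal (A.X i).carrier ⊓ LinearMap.ker (A.d i)

/-- coboundaries of `Γ_a(X^•)` -/
def cobdy : (i : ℕ) → Submodule R (A.X i).carrier
  | 0 => ⊥
  | n + 1 => (GrLC.gam a.toIdeal (A.X n).carrier).map (A.d n)

theorem d_ε (m : M) : A.d 0 (A.ε m) = 0 := by
  have : A.ε m ∈ LinearMap.ker (A.d 0) := by rw [A.exact_zero]; exact ⟨m, rfl⟩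
  exact this

theorem d_d (n : ℕ) (x : (A.X n).carrier) : A.d (n + 1) (A.d n x) = 0 := by
  have : A.d n x ∈ LinearMap.ker (A.d (n + 1)) := by rw [A.exact_succ]; exact ⟨x, rfl⟩
  exact this

theorem ker_d1_isHomogeneous : (LinearMap.ker (A.d 1)).IsHomogeneous (A.X 1).gr :=
  ker_isHomogeneous (A.X 1).gr (A.X 2).gr (A.d_grHom 1)

/-- the graded module `ker (d 1)` -/
noncomputable def Z : GrLC.GMod.{u} 𝒜 := GMod.ofSub 𝒜 (A.X 1).gr A.ker_d1_isHomogeneous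

/-- `d 0` corestricted to `ker (d 1)` -/
noncomputable def d0' : (A.X 0).carrier →ₗ[R] A.Z.carrier :=
  (A.d 0).codRestrict (LinearMap.ker (A.d 1)) (fun x => A.d_d 0 x)

theorem d0'_apply (x : (A.X 0).carrier) :
    ((show LinearMap.ker (A.d 1) from A.d0' x) : (A.X 1).carrier) = A.d 0 x := rfl

theorem d0'_grHom : GrLC.IsGrHom (A.X 0).gr A.Z.gr A.d0' := fun g x hx => A.d_grHom 0 g x hx

theorem ses : GrSES ℳ (A.X 0).gr A.Z.gr A.ε A.d0' where
  hi := A.ε_grHom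
  hp := A.d0'_grHom
  inj := A.ε_injective
  surj := by
    intro z
    have hz : ((show LinearMap.ker (A.d 1) from z) : (A.X 1).carrier) ∈ LinearMap.range (A.d 0) := by
      rw [← A.exact_succ 0]
      exact (show LinearMap.ker (A.d 1) from z).2
    obtain ⟨y, hy⟩ := hz
    exact ⟨y, Subtype.ext hy⟩
  exact := by
    intro y
    have h1 : A.d0' y = 0 ↔ y ∈ LinearMap.ker (A.d 0) := by
      rw [LinearMap.mem_ker]
      constructor
      · intro h
        have := congrArg (fun z : LinearMap.ker (A.d 1) => (z : (A.X 1).carrier)) h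
        exact this
      · intro h
        exact Subtype.ext h
    rw [h1, A.exact_zero]
    rfl

/-- the shifted resolution, of `ker (d 1)` -/
noncomputable def shift : GrAcycRes 𝒜 A.Z.gr a where
  X n := A.X (n + 1)
  d n := A.d (n + 1)
  ε := (LinearMap.ker (A.d 1)).subtype
  d_grHom n := A.d_grHom (n + 1)
  ε_grHom := fun g x hx => hx
  ε_injective := Subtype.val_injective
  exact_zero := (Submodule.range_subtype _).symm
  exact_succ n := A.exact_succ (n + 1)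
  acyclic n := A.acyclic (n + 1)

/-- the comparison statement in degree `i` -/
def HasComparison (E : GrLC.StarInjRes 𝒜 ℳ) (i : ℕ) : Prop :=
  ∃ Φ : ↥(A.cocyc i) →ₗ[R] E.H a i,
    Function.Surjective Φ ∧ LinearMap.ker Φ = (A.cobdy i).comap (A.cocyc i).subtype ∧
    (∀ (g : ι) (z : A.cocyc i), (z : (A.X i).carrier) ∈ (A.X i).gr g → Φ z ∈ E.Hgr a i g) ∧
    (∀ (g : ι) (x : E.H a i), x ∈ E.Hgr a i g →
      ∃ z : A.cocyc i, (z : (A.X i).carrier) ∈ (A.X i).gr g ∧ Φ z = x)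

/-- the map `Z^0(Γ_a(X)) → Γ_a(M)` -/
noncomputable def ρ0 : A.cocyc 0 →ₗ[R] GrLC.gam a.toIdeal M :=
  (((LinearEquiv.ofInjective A.ε A.ε_injective).symm.toLinearMap ∘ₗ
    Submodule.inclusion (show A.cocyc 0 ≤ LinearMap.range A.ε from fun z hz => by
      rw [← A.exact_zero]; exact hz.2))).codRestrict (GrLC.gam a.toIdeal M) (fun z => by
      apply mem_gam_of_map_mem A.ε A.ε_injective
      rw [LinearMap.comp_apply, LinearEquiv.coe_coe]
      have := LinearEquiv.apply_symm_apply (LinearEquiv.ofInjective A.ε A.ε_injective)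
        (Submodule.inclusion (show A.cocyc 0 ≤ LinearMap.range A.ε from fun z hz => by
          rw [← A.exact_zero]; exact hz.2) z)
      have h2 := congrArg Subtype.val this
      rw [LinearEquiv.ofInjective_apply] at h2
      rw [h2]
      exact z.2.1)

theorem ε_ρ0 (z : A.cocyc 0) : A.ε (A.ρ0 z).1 = z.1 := by
  have := LinearEquiv.apply_symm_apply (LinearEquiv.ofInjective A.ε A.ε_injective)
    (Submodule.inclusion (show A.cocyc 0 ≤ LinearMap.range A.ε from fun z hz => by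
      rw [← A.exact_zero]; exact hz.2) z)
  have h2 := congrArg Subtype.val this
  rw [LinearEquiv.ofInjective_apply] at h2
  exact h2

theorem hasComparison_zero (E : GrLC.StarInjRes 𝒜 ℳ) : A.HasComparison E 0 := by
  refine ⟨γ E a ∘ₗ A.ρ0, ?_, ?_, ?_, ?_⟩
  · intro x
    obtain ⟨m, rfl⟩ := γ_surjective E a x
    have hz : A.ε m.1 ∈ A.cocyc 0 := ⟨map_mem_gam A.ε a.toIdeal m.2, A.d_ε m.1⟩
    refine ⟨⟨A.ε m.1, hz⟩, ?_⟩
    rw [LinearMap.comp_apply]
    congr 1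
    apply Subtype.ext
    apply A.ε_injective
    rw [A.ε_ρ0]
  · ext z
    rw [LinearMap.mem_ker, LinearMap.comp_apply, Submodule.mem_comap]
    change _ ↔ (z : (A.X 0).carrier) = 0
    constructor
    · intro h
      have h1 : A.ρ0 z = 0 := γ_injective E a (h.trans (map_zero _).symm)
      rw [← A.ε_ρ0 z, h1]
      exact map_zero _
    · intro h
      have h1 : z = 0 := Subtype.ext h
      rw [h1, map_zero, map_zero]
  · intro g z hz
    rw [LinearMap.comp_apply]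
    apply γ_mem
    apply mem_of_map_mem_of_injective A.ε_grHom A.ε_injective
    rw [A.ε_ρ0]
    exact hz
  · intro g x hx
    obtain ⟨m, hm, rfl⟩ := exists_γ_eq E a hx
    have hz : A.ε m.1 ∈ A.cocyc 0 := ⟨map_mem_gam A.ε a.toIdeal m.2, A.d_ε m.1⟩
    refine ⟨⟨A.ε m.1, hz⟩, A.ε_grHom g _ hm, ?_⟩
    rw [LinearMap.comp_apply]
    congr 1
    apply Subtype.ext
    apply A.ε_injective
    rw [A.ε_ρ0]

/-- the inverse of `ρ0` -/
noncomputable def ι0 (m : GrLC.gam a.toIdeal M) : A.cocyc 0 :=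
  ⟨A.ε m.1, ⟨map_mem_gam A.ε a.toIdeal m.2, A.d_ε m.1⟩⟩

theorem ρ0_ι0 (m : GrLC.gam a.toIdeal M) : A.ρ0 (A.ι0 m) = m := by
  apply Subtype.ext
  apply A.ε_injective
  rw [A.ε_ρ0]
  rfl

theorem ρ0_mem {g : ι} (z : A.cocyc 0) (hz : (z : (A.X 0).carrier) ∈ (A.X 0).gr g) :
    (A.ρ0 z).1 ∈ ℳ g := by
  apply mem_of_map_mem_of_injective A.ε_grHom A.ε_injective
  rw [A.ε_ρ0]
  exact hz

theorem hasComparison_one (E : GrLC.StarInjRes 𝒜 ℳ) : A.HasComparison E 1 := by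
  let G0 : GrLC.StarInjRes 𝒜 (A.X 0).gr := starInjRes 𝒜 (A.X 0).gr
  let EZ : GrLC.StarInjRes 𝒜 A.Z.gr := starInjRes 𝒜 A.Z.gr
  obtain ⟨δ, hδgr, -, -, hex2, hex3⟩ := exists_les A.ses E G0 EZ a
  have hδsurj : Function.Surjective (δ 0) := by
    intro x
    haveI := A.acyclic 0 G0 0
    exact (hex3 0 x).mp (Subsingleton.elim _ _)
  let ρ : ↥(A.cocyc 1) →ₗ[R] GrLC.gam a.toIdeal A.Z.carrier := A.shift.ρ0
  have hερ : ∀ z : A.cocyc 1, A.shift.ε (ρ z).1 = z.1 := fun z => A.shift.ε_ρ0 z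
  let ι1 : GrLC.gam a.toIdeal A.Z.carrier → ↥(A.cocyc 1) := fun m => A.shift.ι0 m
  have hρι : ∀ m, ρ (ι1 m) = m := fun m => A.shift.ρ0_ι0 m
  have hρmem : ∀ (g : ι) (z : A.cocyc 1), z.1 ∈ (A.X 1).gr g → (ρ z).1 ∈ A.Z.gr g :=
    fun g z hz => A.shift.ρ0_mem z hz
  have hι1mem : ∀ (g : ι) (m : GrLC.gam a.toIdeal A.Z.carrier), m.1 ∈ A.Z.gr g →
      (ι1 m).1 ∈ (A.X 1).gr g := fun g m hm => hm
  refine ⟨δ 0 ∘ₗ γ EZ a ∘ₗ ρ, ?_, ?_, ?_, ?_⟩
  · intro x
    obtain ⟨w, rfl⟩ := hδsurj x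
    obtain ⟨m, rfl⟩ := γ_surjective EZ a w
    exact ⟨ι1 m, by rw [LinearMap.comp_apply, LinearMap.comp_apply, hρι]⟩
  · ext z
    rw [LinearMap.mem_ker, LinearMap.comp_apply, LinearMap.comp_apply, Submodule.mem_comap]
    change _ ↔ (z : (A.X 1).carrier) ∈ (GrLC.gam a.toIdeal (A.X 0).carrier).map (A.d 0)
    constructor
    · intro h
      obtain ⟨w, hw⟩ := (hex2 0 _).mp h
      obtain ⟨y, rfl⟩ := γ_surjective G0 a w
      rw [Hmap_γ G0 EZ a A.d0'_grHom y] at hw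
      have h1 := γ_injective EZ a hw
      refine ⟨y.1, y.2, ?_⟩
      rw [← hερ z, ← h1]
      rfl
    · rintro ⟨y, hy, hyz⟩
      apply (hex2 0 _).mpr
      refine ⟨γ G0 a ⟨y, hy⟩, ?_⟩
      rw [Hmap_γ G0 EZ a A.d0'_grHom ⟨y, hy⟩]
      congr 1
      apply Subtype.ext
      apply A.shift.ε_injective
      rw [hερ z, ← hyz]
      rfl
  · intro g z hz
    rw [LinearMap.comp_apply, LinearMap.comp_apply]
    apply hδgr 0 g
    apply γ_mem
    exact hρmem g z hz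
  · intro g x hx
    obtain ⟨w, hw, rfl⟩ := exists_mem_of_isGrHom (EZ.Hgr a 0) (E.Hgr a 1)
      (isInternal_Hgr 𝒜 A.Z.gr EZ a 0) (isInternal_Hgr 𝒜 ℳ E a 1) (hδgr 0) hx (hδsurj x)
    obtain ⟨m, hm, rfl⟩ := exists_γ_eq EZ a hw
    refine ⟨ι1 m, hι1mem g m hm, ?_⟩
    rw [LinearMap.comp_apply, LinearMap.comp_apply, hρι]

theorem hasComparison_succ_succ (E : GrLC.StarInjRes 𝒜 ℳ) (i : ℕ)
    (h : ∀ EZ : GrLC.StarInjRes 𝒜 A.Z.gr, A.shift.HasComparison EZ (i + 1)) :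
    A.HasComparison E (i + 2) := by
  let G0 : GrLC.StarInjRes 𝒜 (A.X 0).gr := starInjRes 𝒜 (A.X 0).gr
  let EZ : GrLC.StarInjRes 𝒜 A.Z.gr := starInjRes 𝒜 A.Z.gr
  obtain ⟨δ, hδgr, -, -, hex2, hex3⟩ := exists_les A.ses E G0 EZ a
  obtain ⟨Φ', hsurj, hker, hgr, hgrs⟩ : ∃ Φ' : ↥(A.cocyc (i + 2)) →ₗ[R] EZ.H a (i + 1),
      Function.Surjective Φ' ∧
      LinearMap.ker Φ' = (A.cobdy (i + 2)).comap (A.cocyc (i + 2)).subtype ∧
      (∀ (g : ι) (z : A.cocyc (i + 2)), (z : (A.X (i + 2)).carrier) ∈ (A.X (i + 2)).gr g →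
        Φ' z ∈ EZ.Hgr a (i + 1) g) ∧
      (∀ (g : ι) (x : EZ.H a (i + 1)), x ∈ EZ.Hgr a (i + 1) g →
        ∃ z : A.cocyc (i + 2), (z : (A.X (i + 2)).carrier) ∈ (A.X (i + 2)).gr g ∧ Φ' z = x) :=
    h EZ
  have hδsurj : Function.Surjective (δ (i + 1)) := by
    intro x
    haveI := A.acyclic 0 G0 (i + 1)
    exact (hex3 (i + 1) x).mp (Subsingleton.elim _ _)
  have hδinj : Function.Injective (δ (i + 1)) := by
    rw [injective_iff_map_eq_zero]
    intro w hw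
    haveI := A.acyclic 0 G0 i
    obtain ⟨y, hy⟩ := (hex2 (i + 1) w).mp hw
    rw [← hy, Subsingleton.elim y 0, map_zero]
  refine ⟨δ (i + 1) ∘ₗ Φ', hδsurj.comp hsurj, ?_, ?_, ?_⟩
  · rw [← hker]
    ext z
    rw [LinearMap.mem_ker, LinearMap.mem_ker, LinearMap.comp_apply]
    constructor
    · intro h
      exact hδinj (by rw [h, map_zero])
    · intro h
      rw [h, map_zero]
  · intro g z hz
    rw [LinearMap.comp_apply]
    exact hδgr (i + 1) g _ (hgr g z hz)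
  · intro g x hx
    obtain ⟨w, hw, rfl⟩ := exists_mem_of_isGrHom (EZ.Hgr a (i + 1)) (E.Hgr a (i + 2))
      (isInternal_Hgr 𝒜 A.Z.gr EZ a (i + 1)) (isInternal_Hgr 𝒜 ℳ E a (i + 2)) (hδgr (i + 1)) hx
      (hδsurj x)
    obtain ⟨z, hz, rfl⟩ := hgrs g w hw
    exact ⟨z, hz, rfl⟩

end GrAcycRes

/-- the comparison in all positive degrees -/
theorem GrAcycRes.hasComparison_succ (i : ℕ) : ∀ (M : Type u) [AddCommGroup M] [Module R M]
    (ℳ : ι → AddSubgroup M) [DirectSum.Decomposition ℳ] [SetLike.GradedSMul 𝒜 ℳ]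
    (a : HomogeneousIdeal 𝒜) (A : GrAcycRes 𝒜 ℳ a) (E : GrLC.StarInjRes 𝒜 ℳ),
    A.HasComparison E (i + 1) := by
  induction i with
  | zero => intro M _ _ ℳ _ _ a A E; exact A.hasComparison_one E
  | succ i ih =>
    intro M _ _ ℳ _ _ a A E
    exact A.hasComparison_succ_succ E i (fun EZ => ih _ _ a A.shift EZ)

/-- **the graded acyclic resolution theorem** -/
theorem GrAcycRes.hasComparison {ℳ : ι → AddSubgroup M} [DirectSum.Decomposition ℳ]
    [SetLike.GradedSMul 𝒜 ℳ] {a : HomogeneousIdeal 𝒜} (A : GrAcycRes 𝒜 ℳ a)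
    (E : GrLC.StarInjRes 𝒜 ℳ) (i : ℕ) : A.HasComparison E i := by
  cases i with
  | zero => exact A.hasComparison_zero E
  | succ i => exact GrAcycRes.hasComparison_succ i M ℳ a A E

end Gr

end Groth.Agent.H6
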