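import Mathlib

/-! Base change of a "quasi-basis" along a flat algebra inverting the torsion. -/

universe u
open scoped TensorProduct

namespace Groth.Agent.H6

namespace QFree

variable {R : Type u} [CommRing R] (q : Ideal R)
variable {E : Type u} [AddCommGroup E] [Module R E]
variable (S : Type u) [CommRing S] [Algebra R S] [Module.Flat R S]
variable {B : Type u} (φ : (B →₀ R ⧸ q) →ₗ[R] E)

theorem baseChange_bijective (hinj : Function.Injective φ)
    (hsurj : ∀ x : E, ∃ s : R, IsUnit (algebraMap R S s) ∧ s • x ∈ LinearMap.range φ) :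
    Function.Bijective (LinearMap.baseChange S φ) := by
  constructor
  · have h := Module.Flat.lTensor_preserves_injective_linearMap (M := S) φ hinj
    intro x y hxy
    apply h
    rw [← LinearMap.baseChange_eq_ltensor]
    exact hxy
  · rw [← LinearMap.range_eq_top, eq_top_iff]
    intro z hz
    clear hz
    induction z using TensorProduct.induction_on with
    | zero => exact zero_mem _
    | add x y hx hy => exact add_mem hx hy
    | tmul t x =>
      obtain ⟨s, hs, y, hy⟩ := hsurj x
      obtain ⟨u, hu⟩ := hs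
      have h1 : t ⊗ₜ[R] x = (t * ↑u⁻¹) • ((1 : S) ⊗ₜ[R] (s • x)) := by
        rw [← TensorProduct.smul_tmul, TensorProduct.smul_tmul', smul_eq_mul,
          Algebra.smul_def, mul_one, ← hu, mul_assoc, Units.inv_mul, mul_one]
      rw [h1]
      refine Submodule.smul_mem _ _ ⟨(1 : S) ⊗ₜ[R] y, ?_⟩
      rw [LinearMap.baseChange_tmul, hy]

theorem nonempty_equiv [DecidableEq B] (hinj : Function.Injective φ)
    (hsurj : ∀ x : E, ∃ s : R, IsUnit (algebraMap R S s) ∧ s • x ∈ LinearMap.range φ) :
    Nonempty (S ⊗[R] E ≃ₗ[S] (B →₀ S ⊗[R] (R ⧸ q))) :=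
  ⟨(LinearEquiv.ofBijective (LinearMap.baseChange S φ)
      (baseChange_bijective q S φ hinj hsurj)).symm.trans
    (TensorProduct.finsuppRight R S S (R ⧸ q) B)⟩

end QFree

end Groth.Agent.H6
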