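import Mathlib

/-! Length of the cokernel of a scalar on a module of the form `B →₀ 𝔎`. -/

universe u v

namespace Groth.Agent.H6

namespace QFree

variable {A : Type u} [CommRing A] {𝔎 κ : Type v} [AddCommGroup 𝔎] [Module A 𝔎]
  [AddCommGroup κ] [Module A κ] (α : A) (g : 𝔎 →ₗ[A] κ) {B : Type v}

theorem smul_injective_finsupp (hα : Function.Injective fun z : 𝔎 => α • z) :
    Function.Injective fun y : B →₀ 𝔎 => α • y := by
  intro y y' h
  ext b
  apply hα
  have := DFunLike.congr_fun h b
  simpa using this

theorem exact_finsupp (hα : Function.Injective fun z : 𝔎 => α • z)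
    (hex : Function.Exact (fun z : 𝔎 => α • z) g) :
    Function.Exact (fun y : B →₀ 𝔎 => α • y) (Finsupp.mapRange.linearMap (α := B) g) := by
  intro y
  constructor
  · intro hy
    have h1 : ∀ b, y b ∈ Set.range fun z : 𝔎 => α • z := by
      intro b
      rw [← hex (y b)]
      have := DFunLike.congr_fun hy b
      simpa using this
    refine ⟨y.mapRange (Function.invFun fun z : 𝔎 => α • z) ?_, ?_⟩
    · have : (fun z : 𝔎 => α • z) 0 = 0 := smul_zero α
      conv_lhs => rw [← this]
      exact Function.leftInverse_invFun hα 0
    · ext b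
      change α • (Function.invFun (fun z : 𝔎 => α • z) (y b)) = y b
      exact Function.invFun_eq (h1 b)
  · rintro ⟨y', rfl⟩
    ext b
    change g (α • y' b) = 0
    exact (hex _).mpr ⟨y' b, rfl⟩

theorem surjective_finsupp (hg : Function.Surjective g) :
    Function.Surjective (Finsupp.mapRange.linearMap (α := B) g) := by
  classical
  intro y
  let c : κ → 𝔎 := fun k => if k = 0 then 0 else Function.surjInv hg k
  have hc0 : c 0 = 0 := if_pos rfl
  have hc : ∀ k, g (c k) = k := by
    intro k
    by_cases hk : k = 0
    · subst hk; rw [hc0, map_zero]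
    · change g (if k = 0 then 0 else Function.surjInv hg k) = k
      rw [if_neg hk]
      exact Function.surjInv_eq hg k
  refine ⟨y.mapRange c hc0, ?_⟩
  ext b
  change g (c (y b)) = y b
  exact hc (y b)

/-- the main length computation -/
theorem length_of_exact [IsSimpleModule A κ] (hα : Function.Injective fun z : 𝔎 => α • z)
    (hex : Function.Exact (fun z : 𝔎 => α • z) g) (hg : Function.Surjective g)
    {X T : Type v} [AddCommGroup X] [Module A X] [AddCommGroup T] [Module A T]
    (e : X ≃ₗ[A] (B →₀ 𝔎)) (δ : X →ₗ[A] T) (hδ : Function.Surjective δ)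
    (hexδ : Function.Exact (fun x : X => α • x) δ) :
    Module.length A T = ENat.card B := by
  let G : X →ₗ[A] (B →₀ κ) := (Finsupp.mapRange.linearMap (α := B) g) ∘ₗ e.toLinearMap
  have hG : Function.Surjective G := (surjective_finsupp g hg).comp e.surjective
  have hker : LinearMap.ker G = LinearMap.ker δ := by
    ext x
    rw [LinearMap.mem_ker, LinearMap.mem_ker]
    change Finsupp.mapRange.linearMap g (e x) = 0 ↔ _
    rw [exact_finsupp α g hα hex (e x), hexδ x]
    constructor
    · rintro ⟨y, hy⟩
      refine ⟨e.symm y, ?_⟩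
      apply e.injective
      change e (α • e.symm y) = e x
      rw [map_smul, LinearEquiv.apply_symm_apply]
      exact hy
    · rintro ⟨x', rfl⟩
      exact ⟨e x', (map_smul e α x').symm⟩
  have e1 : T ≃ₗ[A] (B →₀ κ) :=
    (LinearMap.quotKerEquivOfSurjective δ hδ).symm.trans
      ((Submodule.quotEquivOfEq _ _ hker.symm).trans (LinearMap.quotKerEquivOfSurjective G hG))
  rw [e1.length_eq, Module.length_finsupp, Module.length_eq_one, mul_one]

theorem smul_injective_of_equiv (hα : Function.Injective fun z : 𝔎 => α • z)
    {X : Type v} [AddCommGroup X] [Module A X] (e : X ≃ₗ[A] (B →₀ 𝔎)) :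
    Function.Injective fun x : X => α • x := by
  intro x x' h
  apply e.injective
  apply smul_injective_finsupp α hα
  change α • e x = α • e x'
  rw [← map_smul, ← map_smul]
  exact congrArg e h

end QFree

end Groth.Agent.H6
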