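import Mathlib

/-! The module `𝔎 = R_P ⊗ R/q` and the sequence `𝔎 →a 𝔎 → k(P) → 0`. -/

universe u
open scoped TensorProduct

namespace Groth.Agent.H6

namespace QFree

variable {R : Type u} [CommRing R] (q P : Ideal R) [hP : P.IsPrime] (hqP : q ≤ P)

local notation "A" => Localization.AtPrime P
local notation "𝔎" => (Localization.AtPrime P) ⊗[R] (R ⧸ q)

include hqP in
theorem le_ker_residue :
    q ≤ LinearMap.ker (Algebra.linearMap R (IsLocalRing.ResidueField (Localization.AtPrime P))) := by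
  intro r hr
  rw [LinearMap.mem_ker, Algebra.linearMap_apply,
    IsScalarTower.algebraMap_apply R (Localization.AtPrime P) (IsLocalRing.ResidueField A)]
  exact (IsLocalRing.residue_eq_zero_iff _).mpr
    ((IsLocalization.AtPrime.to_map_mem_maximal_iff A P r).mpr (hqP hr))

/-- `R/q → k(P)` -/
noncomputable def ψ : (R ⧸ q) →ₗ[R] IsLocalRing.ResidueField (Localization.AtPrime P) :=
  Submodule.liftQ q (Algebra.linearMap R (IsLocalRing.ResidueField A)) (le_ker_residue q P hqP)

/-- `R_P ⊗ R/q → k(P)` -/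
noncomputable def g : 𝔎 →ₗ[A] IsLocalRing.ResidueField (Localization.AtPrime P) :=
  LinearMap.liftBaseChange A (ψ q P hqP)

theorem g_tmul_one (t : A) : g q P hqP (t ⊗ₜ[R] (1 : R ⧸ q)) = IsLocalRing.residue A t := by
  rw [g, LinearMap.liftBaseChange_tmul]
  have : ψ q P hqP (1 : R ⧸ q) = 1 := by
    change Submodule.liftQ q _ _ (Submodule.Quotient.mk 1) = 1
    rw [Submodule.liftQ_apply, Algebra.linearMap_apply, map_one]
  rw [this, Algebra.smul_def, mul_one]
  rfl

theorem g_surjective : Function.Surjective (g q P hqP) := by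
  intro y
  obtain ⟨t, rfl⟩ := IsLocalRing.residue_surjective y
  exact ⟨t ⊗ₜ[R] 1, g_tmul_one q P hqP t⟩

theorem exists_tmul_one (z : 𝔎) : ∃ t : A, z = t ⊗ₜ[R] (1 : R ⧸ q) := by
  induction z using TensorProduct.induction_on with
  | zero => exact ⟨0, (TensorProduct.zero_tmul _ _).symm⟩
  | add x y hx hy =>
    obtain ⟨t1, rfl⟩ := hx
    obtain ⟨t2, rfl⟩ := hy
    exact ⟨t1 + t2, (TensorProduct.add_tmul _ _ _).symm⟩
  | tmul t r =>
    obtain ⟨r, rfl⟩ := Ideal.Quotient.mk_surjective r
    refine ⟨r • t, ?_⟩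
    rw [TensorProduct.smul_tmul]
    congr 1
    change _ = Ideal.Quotient.mk q (r * 1)
    rw [mul_one]

variable (a : R)

/-- multiplication by `a` on `𝔎` -/
noncomputable def f : 𝔎 →ₗ[A] 𝔎 := (algebraMap R A a) • LinearMap.id

theorem f_apply (z : 𝔎) : f q P a z = (algebraMap R A a) • z := rfl

theorem f_tmul (t : A) (r : R ⧸ q) : f q P a (t ⊗ₜ[R] r) = t ⊗ₜ[R] (a • r) := by
  rw [f_apply, TensorProduct.smul_tmul', smul_eq_mul, ← Algebra.smul_def, TensorProduct.smul_tmul]

theorem f_injective [hq : q.IsPrime] (ha : a ∉ q) : Function.Injective (f q P a) := by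
  haveI : Module.Flat R A := IsLocalization.flat A P.primeCompl
  have h1 : Function.Injective (LinearMap.lsmul R (R ⧸ q) a) := by
    intro x y hxy
    obtain ⟨x, rfl⟩ := Ideal.Quotient.mk_surjective x
    obtain ⟨y, rfl⟩ := Ideal.Quotient.mk_surjective y
    have h2 : Ideal.Quotient.mk q (a * x) = Ideal.Quotient.mk q (a * y) := hxy
    rw [Ideal.Quotient.eq, ← mul_sub] at h2
    rw [Ideal.Quotient.eq]
    exact (hq.mem_or_mem h2).resolve_left ha
  have h3 := Module.Flat.lTensor_preserves_injective_linearMap (M := A) _ h1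
  have h4 : ⇑(f q P a) = ⇑((LinearMap.lsmul R (R ⧸ q) a).lTensor A) := by
    ext z
    induction z using TensorProduct.induction_on with
    | zero => simp
    | add x y hx hy => rw [map_add, map_add, hx, hy]
    | tmul t r => rw [f_tmul, LinearMap.lTensor_tmul]; rfl
  rw [h4]
  exact h3

include hqP in
theorem exact_f_g (ha : a ∈ P)
    (h5 : ∀ x ∈ P, ∃ s, s ∉ P ∧ ∃ y, s * x - y * a ∈ q) :
    Function.Exact (f q P a) (g q P hqP) := by
  intro z
  constructor
  · intro hz
    obtain ⟨t, rfl⟩ := exists_tmul_one q P z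
    rw [g_tmul_one, IsLocalRing.residue_eq_zero_iff] at hz
    obtain ⟨x, u, rfl⟩ := IsLocalization.exists_mk'_eq P.primeCompl t
    rw [IsLocalization.AtPrime.mk'_mem_maximal_iff A P] at hz
    obtain ⟨s, hs, y, hy⟩ := h5 x hz
    -- the unit `s * u`
    let v : P.primeCompl := ⟨s, hs⟩ * u
    have hv : IsUnit (algebraMap R A (v : R)) := IsLocalization.map_units A v
    obtain ⟨c, hc⟩ := hv
    have h1 : IsLocalization.mk' A x u = ↑c⁻¹ * algebraMap R A (s * x) := by
      rw [Units.eq_inv_mul_iff_mul_eq, hc]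
      change algebraMap R A (s * (u : R)) * _ = _
      rw [map_mul, map_mul, mul_assoc, IsLocalization.mk'_spec'_mk]
    have h2 : s * x = a * y + (s * x - y * a) := by ring
    refine ⟨(↑c⁻¹ : A) ⊗ₜ[R] (Ideal.Quotient.mk q y), ?_⟩
    rw [f_tmul, h1, mul_comm, ← Algebra.smul_def, TensorProduct.smul_tmul]
    congr 1
    change Ideal.Quotient.mk q (a * y) = Ideal.Quotient.mk q (s * x * 1)
    rw [mul_one, Ideal.Quotient.eq]
    have : a * y - s * x = -(s * x - y * a) := by ring
    rw [this]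
    exact neg_mem hy
  · rintro ⟨w, rfl⟩
    rw [f_apply, map_smul]
    change IsLocalRing.residue A (algebraMap R A a) * _ = 0
    rw [(IsLocalRing.residue_eq_zero_iff _).mpr
      ((IsLocalization.AtPrime.to_map_mem_maximal_iff A P a).mpr ha), zero_mul]

end QFree

end Groth.Agent.H6
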