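import Groth.Agent.Lib.Helper6.GrExtGr
import Groth.Agent.Lib.Helper6.GrQFree
import Groth.Agent.Lib.Helper6.GrQFreeLoc
import Groth.Agent.Lib.Helper6.QFreeLocal
import Groth.Agent.Lib.Helper6.QFreeLen
import Groth.Agent.Lib.Helper6.GrWidth
import Groth.Agent.Lib.Helper6.Bass1
import Groth.Agent.Lib.Helper6.ExtCollapse
import Groth.Agent.Lib.Helper6.InjHullLocal
import Groth.Prelude.Def_GrLC2

/-! Bass numbers at a non-homogeneous prime `p` versus at its homogeneous core `p*`. -/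

universe u
open DirectSum CategoryTheory CategoryTheory.Abelian
open scoped TensorProduct
set_option linter.unusedSectionVars false

namespace Groth.Agent.H6

namespace BassStar

variable {R : Type u} [CommRing R] [IsNoetherianRing R] (𝒜 : ℤ → AddSubgroup R) [GradedRing 𝒜]
variable {M : Type u} [AddCommGroup M] [Module R M] (ℳ : ℤ → AddSubgroup M)
  [DirectSum.Decomposition ℳ] [SetLike.GradedSMul 𝒜 ℳ]
variable (q : Ideal R) [hqp : q.IsPrime] (hq : q.IsHomogeneous 𝒜)

include ℳ hq in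
/-- the localisations of `Ext^i_R(R/q, M)` at primes `P` with `P* = q` are free over `R_P/qR_P`,
on a set of generators independent of `P` -/
theorem exists_basis_ext (i : ℕ) : ∃ B : Type u, ∀ (P : Ideal R) [P.IsPrime],
    (∀ s : R, (∃ d, s ∈ 𝒜 d) → s ∉ q → s ∉ P) →
    Nonempty (Ext.{u} (ModuleCat.of (Localization.AtPrime P) ((Localization.AtPrime P) ⊗[R] (R ⧸ q)))
      (ModuleCat.of (Localization.AtPrime P) ((Localization.AtPrime P) ⊗[R] M)) i
        ≃ₗ[Localization.AtPrime P] (B →₀ (Localization.AtPrime P) ⊗[R] (R ⧸ q))) := by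
  classical
  -- `R ⧸ q` as a graded module
  obtain ⟨Qm, π, hπsurj, hπker, -⟩ := Gr.exists_gmod_quot 𝒜 𝒜 (q : Submodule R R) hq
  haveI : Module.Finite R Qm.carrier := Module.Finite.of_surjective π hπsurj
  have eQ : Qm.carrier ≃ₗ[R] (R ⧸ q) :=
    (LinearMap.quotKerEquivOfSurjective π hπsurj).symm.trans (Submodule.quotEquivOfEq _ _ hπker)
  -- the grading on `Ext`
  obtain ⟨G, ⟨eG⟩⟩ := Gr.exists_gr_ext 𝒜 (GrLC.GMod.of 𝒜 M ℳ) i Qm
  have eX : G.carrier ≃ₗ[R] Ext.{u} (ModuleCat.of R (R ⧸ q)) (ModuleCat.of R M) i :=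
    eG.trans (ExtLin.precompEquiv eQ.toModuleIso (ModuleCat.of R M) i).symm
  have hkill : ∀ r ∈ q, ∀ x : G.carrier, r • x = 0 := by
    intro r hr x
    apply eX.injective
    rw [map_smul, map_zero]
    apply Bass.smul_ext_eq_zero
    intro n
    obtain ⟨n, rfl⟩ := Ideal.Quotient.mk_surjective (I := q) n
    change Ideal.Quotient.mk q (r * n) = 0
    exact Ideal.Quotient.eq_zero_iff_mem.mpr (q.mul_mem_right _ hr)
  obtain ⟨B, φ, hφinj, hφ⟩ := Gr.exists_quasi_basis 𝒜 G.gr q hkill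
  refine ⟨B, fun P _ hP => ?_⟩
  haveI : Module.Flat R (Localization.AtPrime P) := IsLocalization.flat _ P.primeCompl
  have hsurj : ∀ x : G.carrier, ∃ s : R, IsUnit (algebraMap R (Localization.AtPrime P) s) ∧
      s • x ∈ LinearMap.range φ := by
    intro x
    obtain ⟨s, hs, hsq, hsx⟩ := hφ x
    exact ⟨s, IsLocalization.map_units (Localization.AtPrime P) (⟨s, hP s hs hsq⟩ : P.primeCompl), hsx⟩
  obtain ⟨e1⟩ := QFree.nonempty_equiv q (Localization.AtPrime P) φ hφinj hsurj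
  obtain ⟨e2⟩ := ExtBC.nonempty_equiv (A := R) (B := Localization.AtPrime P) (R ⧸ q) M i
  have e3 : (Localization.AtPrime P) ⊗[R] G.carrier ≃ₗ[Localization.AtPrime P]
      (Localization.AtPrime P) ⊗[R] Ext.{u} (ModuleCat.of R (R ⧸ q)) (ModuleCat.of R M) i :=
    TensorProduct.AlgebraTensorModule.congr (LinearEquiv.refl _ _) eX
  exact ⟨e2.symm.trans (e3.symm.trans e1)⟩

section LES

variable {A : Type u} [CommRing A] {𝔎 κ : Type u} [AddCommGroup 𝔎] [Module A 𝔎]
  [AddCommGroup κ] [Module A κ] (α : A) (g : 𝔎 →ₗ[A] κ)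
  (hα : Function.Injective fun z : 𝔎 => α • z)
  (hex : Function.Exact (fun z : 𝔎 => α • z) g) (hg : Function.Surjective g)
  (Y : ModuleCat.{u} A)

include hα hg in
/-- the short exact sequence `0 → 𝔎 →α 𝔎 → κ → 0` -/
theorem ses_shortExact :
    (ShortComplex.mk (ModuleCat.ofHom (α • (LinearMap.id : 𝔎 →ₗ[A] 𝔎))) (ModuleCat.ofHom g) (by
      ext y; exact hex.apply_apply_eq_zero y)).ShortExact :=
  ModuleCat.shortComplex_shortExact _ hex hα hg

include hα hex hg in
theorem subsingleton_ext_zero {B : Type u}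
    (e0 : Ext.{u} (ModuleCat.of A 𝔎) Y 0 ≃ₗ[A] (B →₀ 𝔎)) :
    Subsingleton (Ext.{u} (ModuleCat.of A κ) Y 0) := by
  have hS := ses_shortExact α g hα hex hg
  refine subsingleton_of_forall_eq 0 fun x₃ => ?_
  haveI : Epi (ModuleCat.ofHom g) := (ModuleCat.epi_iff_surjective _).mpr hg
  apply Ext.precomp_mk₀_injective_of_epi Y (ModuleCat.ofHom g)
  change (Ext.mk₀ (ModuleCat.ofHom g)).comp x₃ (zero_add 0) = (Ext.mk₀ (ModuleCat.ofHom g)).comp 0 (zero_add 0)
  rw [Ext.comp_zero]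
  apply QFree.smul_injective_of_equiv α hα e0
  change α • _ = α • (0 : Ext.{u} (ModuleCat.of A 𝔎) Y 0)
  rw [smul_zero, ← Bass.mk₀_smul_id_comp, ← Ext.comp_assoc_of_second_deg_zero, Ext.mk₀_comp_mk₀]
  have : (α • 𝟙 (ModuleCat.of A 𝔎)) ≫ ModuleCat.ofHom g = 0 := by
    ext y
    exact hex.apply_apply_eq_zero y
  rw [this, Ext.mk₀_zero, Ext.zero_comp]

include hα hex hg in
theorem length_ext_succ [IsSimpleModule A κ] {B B' : Type u} (i : ℕ)
    (e : Ext.{u} (ModuleCat.of A 𝔎) Y i ≃ₗ[A] (B →₀ 𝔎))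
    (e' : Ext.{u} (ModuleCat.of A 𝔎) Y (i + 1) ≃ₗ[A] (B' →₀ 𝔎)) :
    Module.length A (Ext.{u} (ModuleCat.of A κ) Y (i + 1)) = ENat.card B := by
  have hS := ses_shortExact α g hα hex hg
  have hfg : (α • 𝟙 (ModuleCat.of A 𝔎)) ≫ ModuleCat.ofHom g = 0 := by
    ext y
    exact hex.apply_apply_eq_zero y
  let δ : Ext.{u} (ModuleCat.of A 𝔎) Y i →ₗ[A] Ext.{u} (ModuleCat.of A κ) Y (i + 1) :=
    hS.extClass.precompOfLinear A Y (add_comm 1 i)
  have hδsurj : Function.Surjective δ := by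
    intro x₃
    have h1 : (Ext.mk₀ (ModuleCat.ofHom g)).comp x₃ (zero_add (i + 1)) = 0 := by
      apply QFree.smul_injective_of_equiv α hα e'
      change α • _ = α • (0 : Ext.{u} (ModuleCat.of A 𝔎) Y (i + 1))
      rw [smul_zero, ← Bass.mk₀_smul_id_comp, ← Ext.comp_assoc_of_second_deg_zero,
        Ext.mk₀_comp_mk₀, hfg, Ext.mk₀_zero, Ext.zero_comp]
    exact Ext.contravariant_sequence_exact₃ hS Y x₃ h1 (add_comm 1 i)
  have hδex : Function.Exact (fun x : Ext.{u} (ModuleCat.of A 𝔎) Y i => α • x) δ := by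
    intro x
    constructor
    · intro hx
      obtain ⟨x₂, hx₂⟩ := Ext.contravariant_sequence_exact₁ hS Y x (add_comm 1 i) hx
      refine ⟨x₂, ?_⟩
      rw [← hx₂]
      exact (Bass.mk₀_smul_id_comp _ _ α i x₂).symm
    · rintro ⟨x', rfl⟩
      change hS.extClass.comp (α • x') (add_comm 1 i) = 0
      rw [← Bass.mk₀_smul_id_comp]
      exact hS.extClass_comp_assoc _
  exact QFree.length_of_exact α g hα hex hg e δ hδsurj hδex

end LES

section Main

variable (p : Ideal R) [hp : p.IsPrime] (hqle : q ≤ p)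
  (hhom : ∀ s : R, (∃ d, s ∈ 𝒜 d) → s ∈ p → s ∈ q)

/-- `R_q ⊗ R/q` is the residue field of `R_q` -/
theorem nonempty_residue_equiv :
    Nonempty (((Localization.AtPrime q) ⊗[R] (R ⧸ q)) ≃ₗ[Localization.AtPrime q]
      IsLocalRing.ResidueField (Localization.AtPrime q)) := by
  have h5 : ∀ x ∈ q, ∃ s, s ∉ q ∧ ∃ y, s * x - y * (0 : R) ∈ q := by
    intro x hx
    refine ⟨1, fun h => hqp.ne_top ((Ideal.eq_top_iff_one q).mpr h), 0, ?_⟩
    rw [one_mul, zero_mul, sub_zero]
    exact hx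
  have hex := QFree.exact_f_g q q le_rfl 0 (zero_mem q) h5
  refine ⟨LinearEquiv.ofBijective (QFree.g q q le_rfl) ⟨?_, QFree.g_surjective q q le_rfl⟩⟩
  rw [← LinearMap.ker_eq_bot, LinearMap.ker_eq_bot']
  intro z hz
  obtain ⟨w, hw⟩ := (hex z).mp hz
  rw [← hw, QFree.f_apply, map_zero, zero_smul]

include ℳ hq in
/-- the Bass numbers at `q` count the basis -/
theorem bassNum_core (i : ℕ) {B : Type u}
    (e : Ext.{u} (ModuleCat.of (Localization.AtPrime q) ((Localization.AtPrime q) ⊗[R] (R ⧸ q)))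
      (ModuleCat.of (Localization.AtPrime q) ((Localization.AtPrime q) ⊗[R] M)) i
        ≃ₗ[Localization.AtPrime q] (B →₀ (Localization.AtPrime q) ⊗[R] (R ⧸ q))) :
    GrLC.bassNum q M i = ENat.card B := by
  obtain ⟨eK⟩ := nonempty_residue_equiv q
  have e1 := ExtLin.postcompEquiv (LocalizedModule.equivTensorProduct q.primeCompl M).toModuleIso
    (ModuleCat.of (Localization.AtPrime q) (IsLocalRing.ResidueField (Localization.AtPrime q))) i
  have e2 := ExtLin.precompEquiv eK.toModuleIso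
    (ModuleCat.of (Localization.AtPrime q) ((Localization.AtPrime q) ⊗[R] M)) i
  haveI : IsSimpleModule (Localization.AtPrime q)
      (IsLocalRing.ResidueField (Localization.AtPrime q)) := IH.isSimpleModule_residue
  have h1 : GrLC.bassNum q M i = Module.length (Localization.AtPrime q)
      (B →₀ (Localization.AtPrime q) ⊗[R] (R ⧸ q)) := (e1.trans (e2.trans e)).length_eq
  have h2 : Module.length (Localization.AtPrime q)
      (B →₀ (Localization.AtPrime q) ⊗[R] (R ⧸ q)) = ENat.card B := by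
    rw [Module.length_finsupp, eK.length_eq, Module.length_eq_one, mul_one]
  exact h1.trans h2

include ℳ hq hqle hhom in
theorem bassNum_succ (hne : ∃ x ∈ p, x ∉ q) (i : ℕ) :
    GrLC.bassNum p M (i + 1) = GrLC.bassNum q M i := by
  obtain ⟨a, hap, haq, h5⟩ := Gr.exists_generator 𝒜 p hq hqle hhom hne
  have h5' : ∀ x ∈ p, ∃ s, s ∉ p ∧ ∃ y, s * x - y * a ∈ q := by
    intro x hx
    obtain ⟨s, hs, hsq, y, hy⟩ := h5 x hx
    exact ⟨s, fun h => hsq (hhom s hs h), y, hy⟩
  obtain ⟨B, hB⟩ := exists_basis_ext 𝒜 ℳ q hq i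
  obtain ⟨B', hB'⟩ := exists_basis_ext 𝒜 ℳ q hq (i + 1)
  have hP : ∀ s : R, (∃ d, s ∈ 𝒜 d) → s ∉ q → s ∉ p := fun s hs hsq h => hsq (hhom s hs h)
  obtain ⟨e⟩ := hB p hP
  obtain ⟨e'⟩ := hB' p hP
  obtain ⟨eq⟩ := hB q (fun s _ h => h)
  rw [bassNum_core 𝒜 ℳ q hq i eq]
  haveI : IsSimpleModule (Localization.AtPrime p)
      (IsLocalRing.ResidueField (Localization.AtPrime p)) := IH.isSimpleModule_residue
  have hlen := length_ext_succ (algebraMap R (Localization.AtPrime p) a) (QFree.g q p hqle)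
    (QFree.f_injective q p a haq) (QFree.exact_f_g q p hqle a hap h5') (QFree.g_surjective q p hqle)
    (ModuleCat.of (Localization.AtPrime p) ((Localization.AtPrime p) ⊗[R] M)) i e e'
  rw [← hlen]
  exact (ExtLin.postcompEquiv (LocalizedModule.equivTensorProduct p.primeCompl M).toModuleIso
    (ModuleCat.of (Localization.AtPrime p) (IsLocalRing.ResidueField (Localization.AtPrime p)))
    (i + 1)).length_eq

include ℳ hq hqle hhom in
theorem bassNum_zero (hne : ∃ x ∈ p, x ∉ q) : GrLC.bassNum p M 0 = 0 := by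
  obtain ⟨a, hap, haq, h5⟩ := Gr.exists_generator 𝒜 p hq hqle hhom hne
  have h5' : ∀ x ∈ p, ∃ s, s ∉ p ∧ ∃ y, s * x - y * a ∈ q := by
    intro x hx
    obtain ⟨s, hs, hsq, y, hy⟩ := h5 x hx
    exact ⟨s, fun h => hsq (hhom s hs h), y, hy⟩
  obtain ⟨B, hB⟩ := exists_basis_ext 𝒜 ℳ q hq 0
  have hP : ∀ s : R, (∃ d, s ∈ 𝒜 d) → s ∉ q → s ∉ p := fun s hs hsq h => hsq (hhom s hs h)
  obtain ⟨e⟩ := hB p hP
  have hsub := subsingleton_ext_zero (algebraMap R (Localization.AtPrime p) a) (QFree.g q p hqle)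
    (QFree.f_injective q p a haq) (QFree.exact_f_g q p hqle a hap h5') (QFree.g_surjective q p hqle)
    (ModuleCat.of (Localization.AtPrime p) ((Localization.AtPrime p) ⊗[R] M)) e
  have e1 := ExtLin.postcompEquiv (LocalizedModule.equivTensorProduct p.primeCompl M).toModuleIso
    (ModuleCat.of (Localization.AtPrime p) (IsLocalRing.ResidueField (Localization.AtPrime p))) 0
  have h1 : GrLC.bassNum p M 0 = Module.length (Localization.AtPrime p) (Ext.{u}
      (ModuleCat.of (Localization.AtPrime p) (IsLocalRing.ResidueField (Localization.AtPrime p)))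
      (ModuleCat.of (Localization.AtPrime p) ((Localization.AtPrime p) ⊗[R] M)) 0) := e1.length_eq
  rw [h1, Module.length_eq_zero_iff]
  exact hsub

end Main

end BassStar

end Groth.Agent.H6
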