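import Groth.Agent.Lib.Helper6.DepthLoc
import Groth.Agent.Lib.Helper6.DimCore
import Groth.Agent.Lib.Helper6.DepthBass
import Groth.Agent.Lib.Helper6.GrDim

/-! Cohen–Macaulayness generizes; graded modules over a positively graded ring are
Cohen–Macaulay as soon as they are so at the irrelevant ideal. -/

universe u
set_option linter.unusedSectionVars false

namespace Groth.Agent.H6

namespace GrCM

open RelHt

section Gen

variable {R : Type u} [CommRing R] [IsNoetherianRing R]

/-- Cohen–Macaulayness of a localization passes to further localizations -/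
theorem cm_generization (M : Type u) [AddCommGroup M] [Module R M] [Module.Finite R M]
    (q p : Ideal R) [hq : q.IsPrime] [hp : p.IsPrime] (hqp : q ≤ p)
    (hMq : Nontrivial (LocalizedModule q.primeCompl M))
    (hcm : LocCoh.IsCohenMacaulayModule (Localization.AtPrime p)
      (LocalizedModule p.primeCompl M)) :
    LocCoh.IsCohenMacaulayModule (Localization.AtPrime q) (LocalizedModule q.primeCompl M) := by
  haveI : IsNoetherianRing (Localization.AtPrime q) :=
    IsLocalization.isNoetherianRing q.primeCompl _ inferInstance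
  haveI : IsNoetherianRing (Localization.AtPrime p) :=
    IsLocalization.isNoetherianRing p.primeCompl _ inferInstance
  haveI : Module.Finite (Localization.AtPrime q) (LocalizedModule q.primeCompl M) :=
    Module.Finite.of_isLocalizedModule q.primeCompl (LocalizedModule.mkLinearMap q.primeCompl M)
  have haq : Module.annihilator R M ≤ q := DimCore.annihilator_le_of_nontrivial q hMq
  have hap : Module.annihilator R M ≤ p := haq.trans hqp
  have hdq := supportDim_localized_eq_relHt M q haq
  have hdp := supportDim_localized_eq_relHt M p hap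
  have hadd := relHt_add_le (Module.annihilator R M) q p haq hqp
  have hdep := Depth.depth_localization_le M q p hqp
  rw [← relHt_eq_height q p hqp] at hdep
  obtain ⟨n, hn⟩ := ENat.ne_top_iff_exists.mp (relHt_lt_top (Module.annihilator R M) q haq).ne
  obtain ⟨k, hk⟩ := ENat.ne_top_iff_exists.mp (relHt_lt_top q p hqp).ne
  obtain ⟨N, hN⟩ := ENat.ne_top_iff_exists.mp (relHt_lt_top (Module.annihilator R M) p hap).ne
  obtain ⟨D, hD, hDle⟩ := Depth.exists_depth_eq (R := Localization.AtPrime q)
    (LocalizedModule q.primeCompl M)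
  unfold LocCoh.IsCohenMacaulayModule at hcm ⊢
  rw [hdp, ← hN] at hcm
  have hdepp : LocCoh.depth (Localization.AtPrime p) (LocalizedModule p.primeCompl M) = N := by
    have h1 : ((N : ℕ∞) : WithBot ℕ∞) = ((LocCoh.depth (Localization.AtPrime p)
      (LocalizedModule p.primeCompl M) : ℕ∞) : WithBot ℕ∞) := hcm
    exact (WithBot.coe_injective h1).symm
  rw [hdepp, hD, ← hk] at hdep
  rw [← hn, ← hk, ← hN] at hadd
  rw [hdq, ← hn] at hDle
  have h1 : n + k ≤ N := by exact_mod_cast hadd
  have h2 : N ≤ D + k := by exact_mod_cast hdep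
  have h3 : D ≤ n := by exact_mod_cast hDle
  have h4 : D = n := by omega
  rw [hdq, ← hn, hD, h4]

end Gen

section Graded

variable {R : Type u} [CommRing R] [IsNoetherianRing R] (𝒜 : ℤ → AddSubgroup R) [GradedRing 𝒜]
variable {M : Type u} [AddCommGroup M] [Module R M] (ℳ : ℤ → AddSubgroup M)
  [DirectSum.Decomposition ℳ] [SetLike.GradedSMul 𝒜 ℳ] [Module.Finite R M]

include ℳ in
/-- a finitely generated graded module over a positively graded ring with degree-zero part a field
is Cohen–Macaulay at every prime of its support as soon as it is so at the irrelevant ideal -/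
theorem cm_of_cm_irrelevant (hpos : ∀ n : ℤ, n < 0 → 𝒜 n = ⊥) (h0 : IsField (GrLC.deg0 𝒜))
    (m : Ideal R) [hm : m.IsPrime]
    (hmsp : m = Ideal.span (⋃ n ∈ Set.Ioi (0 : ℤ), (𝒜 n : Set R)))
    (hcm : LocCoh.IsCohenMacaulayModule (Localization.AtPrime m)
      (LocalizedModule m.primeCompl M))
    (p : Ideal R) [hp : p.IsPrime] (hMp : Nontrivial (LocalizedModule p.primeCompl M)) :
    LocCoh.IsCohenMacaulayModule (Localization.AtPrime p) (LocalizedModule p.primeCompl M) := by
  haveI hc : (Ideal.homogeneousCore 𝒜 p).toIdeal.IsPrime := Ideal.IsPrime.homogeneousCore hp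
  set c : Ideal R := (Ideal.homogeneousCore 𝒜 p).toIdeal with hcdef
  have hcp : c ≤ p := Ideal.toIdeal_homogeneousCore_le 𝒜 p
  have hap : Module.annihilator R M ≤ p := DimCore.annihilator_le_of_nontrivial p hMp
  have hac : Module.annihilator R M ≤ c :=
    Gr.le_core_of_isHomogeneous 𝒜 (DimCore.annihilator_isHomogeneous 𝒜 ℳ) hap
  have hcm' : c ≤ m :=
    Gr.le_irrelevant 𝒜 hpos h0 m hmsp c (Ideal.homogeneousCore 𝒜 p).isHomogeneous hc.ne_top
  have hMc : Nontrivial (LocalizedModule c.primeCompl M) := by
    have h1 : (⟨c, hc⟩ : PrimeSpectrum R) ∈ Module.support R M := by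
      rw [Module.support_eq_zeroLocus, PrimeSpectrum.mem_zeroLocus]
      exact hac
    exact Module.mem_support_iff.mp h1
  have hcmc := cm_generization M c m hcm' hMc hcm
  obtain ⟨d, hd⟩ := ENat.ne_top_iff_exists.mp (relHt_lt_top c p hcp).ne
  rw [relHt_eq_height c p hcp] at hd
  have h1 := DepthBass.depth_core 𝒜 p d hd.symm M ℳ
  have h2 := DimCore.supportDim_core 𝒜 ℳ p d hd.symm hMp
  unfold LocCoh.IsCohenMacaulayModule at hcmc ⊢
  rw [h2, h1, hcmc]
  push_cast
  rfl

end Graded

end GrCM

end Groth.Agent.H6
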