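import Groth.Agent.Lib.Helper6.GrDualCan
import Groth.Agent.Lib.Helper6.GrArtinian

/-! Existence of the canonical module of a graded ring defined over a field: the graded Matlis
dual of an Artinian graded module with finite pieces is finitely generated. -/

universe u
open DirectSum
set_option linter.unusedSectionVars false

namespace Groth.Agent.H6

namespace CanEx

open Gr GDual

section LA

variable {F : Type*} [CommRing F] (hF : IsField F)
variable {V : Type*} [AddCommGroup V] [Module F V]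

theorem mem_of_vanish_field {K V : Type*} [Field K] [AddCommGroup V] [Module K V]
    [FiniteDimensional K V] (W : Submodule K (Module.Dual K V)) (φ : Module.Dual K V)
    (h : ∀ v : V, (∀ w ∈ W, w v = 0) → φ v = 0) : φ ∈ W := by
  rw [← Subspace.dualCoannihilator_dualAnnihilator_eq (W := W), Submodule.mem_dualAnnihilator]
  intro v hv
  exact h v (fun w hw => (Submodule.mem_dualCoannihilator v).mp hv w hw)

include hF in
/-- a functional vanishing on the common kernel of a space of functionals belongs to it -/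
theorem mem_of_vanish [Module.Finite F V] (W : Submodule F (V →ₗ[F] F)) (φ : V →ₗ[F] F)
    (h : ∀ v : V, (∀ w ∈ W, w v = 0) → φ v = 0) : φ ∈ W := by
  letI := hF.toField
  exact mem_of_vanish_field W φ h

end LA

section GHom

variable {R : Type u} [CommRing R] (𝒜 : ℤ → AddSubgroup R) [GradedRing 𝒜]
variable {H : Type u} [AddCommGroup H] [Module R H] (ℋ : ℤ → AddSubgroup H)
  [DirectSum.Decomposition ℋ] [SetLike.GradedSMul 𝒜 ℋ]
variable {E' : Type u} [AddCommGroup E'] [Module R E'] (𝓔 : ℤ → AddSubgroup E')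
  [DirectSum.Decomposition 𝓔] [SetLike.GradedSMul 𝒜 𝓔]

theorem smul_isGrHomDeg {a d : ℤ} {r : R} (hr : r ∈ 𝒜 a) {f : H →ₗ[R] E'}
    (hf : GrLC.IsGrHomDeg ℋ 𝓔 f d) : GrLC.IsGrHomDeg ℋ 𝓔 (r • f) (d + a) := by
  intro i h hh
  rw [LinearMap.smul_apply]
  have := SetLike.GradedSMul.smul_mem (A := 𝒜) (B := 𝓔) hr (hf i h hh)
  rw [vadd_eq_add] at this
  have e : a + (i + d) = i + (d + a) := by ring
  rwa [e] at this

/-- the additive group of finite sums of homogeneous maps -/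
def gHomAdd : AddSubgroup (H →ₗ[R] E') := ⨆ d, (GrLC.homDeg 𝒜 ℋ 𝓔 d).toAddSubgroup

/-- the graded Hom module: the finite sums of homogeneous maps -/
def gHom : Submodule R (H →ₗ[R] E') where
  carrier := gHomAdd 𝒜 ℋ 𝓔
  add_mem' := add_mem
  zero_mem' := zero_mem _
  smul_mem' := by
    intro r f hf
    change r • f ∈ gHomAdd 𝒜 ℋ 𝓔
    induction r using induction_on 𝒜 with
    | zero => rw [zero_smul]; exact zero_mem _
    | homogeneous a r hr =>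
      refine AddSubgroup.iSup_induction (C := fun f => r • f ∈ gHomAdd 𝒜 ℋ 𝓔) _ hf ?_ ?_ ?_
      · intro d f hf
        exact AddSubgroup.mem_iSup_of_mem (d + a) (smul_isGrHomDeg 𝒜 ℋ 𝓔 hr hf)
      · rw [smul_zero]; exact zero_mem _
      · intro f g hf hg; rw [smul_add]; exact add_mem hf hg
    | add r r' h1 h2 => rw [add_smul]; exact add_mem h1 h2

/-- the graded Hom module, as a type -/
abbrev GK : Type u := ↥(gHom 𝒜 ℋ 𝓔)

/-- the pieces of the graded Hom module -/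
def gK (d : ℤ) : AddSubgroup (GK 𝒜 ℋ 𝓔) :=
  (GrLC.homDeg 𝒜 ℋ 𝓔 d).toAddSubgroup.comap (gHom 𝒜 ℋ 𝓔).subtype.toAddMonoidHom

theorem mem_gK {d : ℤ} {f : GK 𝒜 ℋ 𝓔} : f ∈ gK 𝒜 ℋ 𝓔 d ↔ GrLC.IsGrHomDeg ℋ 𝓔 f.1 d := Iff.rfl

theorem homComp_add (f g : H →ₗ[R] E') (d : ℤ) :
    GDual.homComp 𝒜 ℋ 𝓔 (f + g) d = GDual.homComp 𝒜 ℋ 𝓔 f d + GDual.homComp 𝒜 ℋ 𝓔 g d := by
  apply LinearMap.ext
  intro c
  induction c using induction_on ℋ with
  | zero => simp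
  | homogeneous i c hc =>
    rw [LinearMap.add_apply, GDual.homComp_of_mem 𝒜 ℋ 𝓔 _ d hc, GDual.homComp_of_mem 𝒜 ℋ 𝓔 _ d hc,
      GDual.homComp_of_mem 𝒜 ℋ 𝓔 _ d hc, LinearMap.add_apply, map_add]
  | add c c' h1 h2 => rw [map_add, map_add, h1, h2]

theorem homComp_zero (d : ℤ) : GDual.homComp 𝒜 ℋ 𝓔 (0 : H →ₗ[R] E') d = 0 := by
  have := homComp_add 𝒜 ℋ 𝓔 (0 : H →ₗ[R] E') 0 d
  rw [add_zero] at this
  exact left_eq_add.mp this

/-- the projections of the graded Hom module -/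
noncomputable def gπ (d : ℤ) : GK 𝒜 ℋ 𝓔 →+ GK 𝒜 ℋ 𝓔 where
  toFun f := ⟨GDual.homComp 𝒜 ℋ 𝓔 f.1 d,
    AddSubgroup.mem_iSup_of_mem d (GDual.homComp_isGrHomDeg 𝒜 ℋ 𝓔 f.1 d)⟩
  map_zero' := Subtype.ext (homComp_zero 𝒜 ℋ 𝓔 d)
  map_add' f g := Subtype.ext (homComp_add 𝒜 ℋ 𝓔 f.1 g.1 d)

theorem mem_iSup_gK (f : GK 𝒜 ℋ 𝓔) : f ∈ ⨆ d, gK 𝒜 ℋ 𝓔 d := by
  have key : ∀ (g : H →ₗ[R] E') (hg : g ∈ gHomAdd 𝒜 ℋ 𝓔),
      (⟨g, hg⟩ : GK 𝒜 ℋ 𝓔) ∈ ⨆ d, gK 𝒜 ℋ 𝓔 d := by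
    intro g hg
    induction hg using AddSubgroup.iSup_induction' with
    | hp d g hg => exact AddSubgroup.mem_iSup_of_mem d hg
    | h1 => exact zero_mem _
    | hadd g g' hg hg' h1 h2 =>
      have : (⟨g + g', add_mem hg hg'⟩ : GK 𝒜 ℋ 𝓔) = ⟨g, hg⟩ + ⟨g', hg'⟩ := rfl
      rw [this]
      exact add_mem h1 h2
  exact key f.1 f.2

theorem gK_isInternal : DirectSum.IsInternal (gK 𝒜 ℋ 𝓔) := by
  refine isInternal_of_proj (gK 𝒜 ℋ 𝓔) (gπ 𝒜 ℋ 𝓔) ?_ ?_ (mem_iSup_gK 𝒜 ℋ 𝓔)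
  · intro d f hf
    apply Subtype.ext
    change GDual.homComp 𝒜 ℋ 𝓔 f.1 d = f.1
    have hf' : GrLC.IsGrHomDeg ℋ 𝓔 f.1 d := hf
    rw [GDual.homComp_of_isGrHomDeg 𝒜 ℋ 𝓔 hf' d, if_pos rfl]
  · intro g h f hf hne
    apply Subtype.ext
    change GDual.homComp 𝒜 ℋ 𝓔 f.1 h = 0
    have hf' : GrLC.IsGrHomDeg ℋ 𝓔 f.1 g := hf
    rw [GDual.homComp_of_isGrHomDeg 𝒜 ℋ 𝓔 hf' h, if_neg (Ne.symm hne)]

/-- the decomposition of the graded Hom module -/
@[instance_reducible]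
noncomputable def gKDecomposition : DirectSum.Decomposition (gK 𝒜 ℋ 𝓔) :=
  (gK_isInternal 𝒜 ℋ 𝓔).chooseDecomposition

theorem gK_gradedSMul : SetLike.GradedSMul 𝒜 (gK 𝒜 ℋ 𝓔) where
  smul_mem := by
    intro a d r f hr hf
    change GrLC.IsGrHomDeg ℋ 𝓔 (r • f.1) (a + d)
    rw [add_comm]
    exact smul_isGrHomDeg 𝒜 ℋ 𝓔 hr hf

end GHom

section Pair

variable {R : Type u} [CommRing R] {𝒜 : ℤ → AddSubgroup R} [GradedRing 𝒜]
variable {m : HomogeneousIdeal 𝒜}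
variable {E' : Type u} [AddCommGroup E'] [Module R E'] {𝓔 : ℤ → AddSubgroup E'}
  [DirectSum.Decomposition 𝓔] [SetLike.GradedSMul 𝒜 𝓔]
  {e : (R ⧸ m.toIdeal) →ₗ[R] E'} (S : Setting 𝒜 m 𝓔 e)
variable {H : Type u} [AddCommGroup H] [Module R H] (ℋ : ℤ → AddSubgroup H)
  [DirectSum.Decomposition ℋ] [SetLike.GradedSMul 𝒜 ℋ]

include S in
/-- the graded Hom module into the *injective envelope of the residue field is the graded dual -/
theorem perfPair_gK : PerfPair 𝒜 (gK 𝒜 ℋ 𝓔) ℋ (fun f h => S.tr (f.1 h)) where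
  mem0 := fun f h => S.tr_mem _
  add_left := fun f f' h => by
    change S.tr ((f + f').1 h) = _
    rw [Submodule.coe_add, LinearMap.add_apply, S.tr_add]
  add_right := fun f h h' => by
    change S.tr (f.1 (h + h')) = _
    rw [map_add, S.tr_add]
  bal := fun r f h => by
    change S.tr ((r • f).1 h) = S.tr (f.1 (r • h))
    rw [Submodule.coe_smul, LinearMap.smul_apply, map_smul]
  smul0 := fun c hc f h => by
    change S.tr ((c • f).1 h) = c * S.tr (f.1 h)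
    rw [Submodule.coe_smul, LinearMap.smul_apply, S.tr_smul hc]
  nondeg := fun j f hf h => Subtype.ext (hom_eq_zero_of_tr S ℋ hf (fun x hx => h x hx))
  repr := fun j l hl0 hls => by
    obtain ⟨f, hf, hfl⟩ := exists_hom_of_functional S ℋ j l hl0 hls
    exact ⟨⟨f, AddSubgroup.mem_iSup_of_mem j hf⟩, hf, hfl⟩

end Pair

section Fin

variable {R : Type u} [CommRing R] {𝒜 : ℤ → AddSubgroup R} [GradedRing 𝒜]
variable {m : HomogeneousIdeal 𝒜}
variable {E' : Type u} [AddCommGroup E'] [Module R E'] {𝓔 : ℤ → AddSubgroup E'}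
  [DirectSum.Decomposition 𝓔] [SetLike.GradedSMul 𝒜 𝓔]
  {e : (R ⧸ m.toIdeal) →ₗ[R] E'} (S : Setting 𝒜 m 𝓔 e)
variable {H : Type u} [AddCommGroup H] [Module R H] (ℋ : ℤ → AddSubgroup H)
  [DirectSum.Decomposition ℋ] [SetLike.GradedSMul 𝒜 ℋ]

/-- the functional on a piece defined by an element of the graded dual -/
noncomputable def trFun (d : ℤ) (g : GK 𝒜 ℋ 𝓔) :
    ↥(GrLC.comp 𝒜 ℋ (-d)) →ₗ[GrLC.deg0 𝒜] GrLC.deg0 𝒜 where
  toFun h := ⟨S.tr (g.1 h.1), S.tr_mem _⟩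
  map_add' h h' := Subtype.ext (by
    change S.tr (g.1 (h.1 + h'.1)) = S.tr (g.1 h.1) + S.tr (g.1 h'.1)
    rw [map_add, S.tr_add])
  map_smul' c h := Subtype.ext (by
    change S.tr (g.1 ((c : R) • h.1)) = (c : R) * S.tr (g.1 h.1)
    rw [map_smul, S.tr_smul c.2])

theorem trFun_apply (d : ℤ) (g : GK 𝒜 ℋ 𝓔) (h : ↥(GrLC.comp 𝒜 ℋ (-d))) :
    ((trFun S ℋ d g h : GrLC.deg0 𝒜) : R) = S.tr (g.1 h.1) := rfl

include S in
/-- **the graded Matlis dual of an Artinian graded module with finite pieces is finitely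
generated** -/
theorem finite_GK [IsArtinian R H]
    (hfin : ∀ j, Module.Finite (GrLC.deg0 𝒜) ↥(GrLC.comp 𝒜 ℋ j)) :
    Module.Finite R (GK 𝒜 ℋ 𝓔) := by
  classical
  let N : Finset (GK 𝒜 ℋ 𝓔) → Submodule R H := fun s => ⨅ f ∈ s, LinearMap.ker f.1
  let 𝒮 : Set (Submodule R H) :=
    {M | ∃ s : Finset (GK 𝒜 ℋ 𝓔), (∀ f ∈ s, ∃ d, f ∈ gK 𝒜 ℋ 𝓔 d) ∧ M = N s}
  have hne : 𝒮.Nonempty := ⟨N ∅, ∅, fun f hf => absurd hf (Finset.notMem_empty f), rfl⟩
  obtain ⟨N₀, ⟨s₀, hs₀, rfl⟩, hmin⟩ := IsArtinian.set_has_minimal 𝒮 hne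
  refine ⟨⟨s₀, ?_⟩⟩
  by_contra hne_top
  obtain ⟨d, f, hfd, hfL⟩ : ∃ d, ∃ f ∈ gK 𝒜 ℋ 𝓔 d,
      f ∉ Submodule.span R (s₀ : Set (GK 𝒜 ℋ 𝓔)) := by
    by_contra hcon
    push Not at hcon
    apply hne_top
    rw [eq_top_iff]
    intro f _
    exact AddSubgroup.iSup_induction
      (C := fun f => f ∈ Submodule.span R (s₀ : Set (GK 𝒜 ℋ 𝓔))) _ (mem_iSup_gK 𝒜 ℋ 𝓔 f)
      (fun d f hf => hcon d f hf) (zero_mem _) (fun _ _ h1 h2 => add_mem h1 h2)
  -- minimality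
  have hle : N s₀ ≤ LinearMap.ker f.1 := by
    have h1 : N (insert f s₀) ∈ 𝒮 := ⟨insert f s₀, fun g hg => by
      rcases Finset.mem_insert.mp hg with rfl | hg
      · exact ⟨d, hfd⟩
      · exact hs₀ g hg, rfl⟩
    have h2 : N (insert f s₀) ≤ N s₀ :=
      le_iInf₂ fun g hg => iInf₂_le g (Finset.mem_insert_of_mem hg)
    have h3 : N (insert f s₀) = N s₀ := by
      by_contra hne'
      exact hmin _ h1 (lt_of_le_of_ne h2 hne')
    rw [← h3]
    exact iInf₂_le f (Finset.mem_insert_self f s₀)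
  -- the space of functionals
  let W : Submodule (GrLC.deg0 𝒜) (↥(GrLC.comp 𝒜 ℋ (-d)) →ₗ[GrLC.deg0 𝒜] GrLC.deg0 𝒜) :=
    { carrier := {ψ | ∃ g ∈ Submodule.span R (s₀ : Set (GK 𝒜 ℋ 𝓔)), g ∈ gK 𝒜 ℋ 𝓔 d ∧
        ψ = trFun S ℋ d g}
      add_mem' := by
        rintro _ _ ⟨g, hg, hgd, rfl⟩ ⟨g', hg', hgd', rfl⟩
        refine ⟨g + g', add_mem hg hg', add_mem hgd hgd', ?_⟩
        apply LinearMap.ext
        intro h
        apply Subtype.ext
        change S.tr (g.1 h.1) + S.tr (g'.1 h.1) = S.tr ((g + g').1 h.1)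
        rw [Submodule.coe_add, LinearMap.add_apply, S.tr_add]
      zero_mem' := by
        refine ⟨0, zero_mem _, zero_mem _, ?_⟩
        apply LinearMap.ext
        intro h
        apply Subtype.ext
        change (0 : R) = S.tr ((0 : GK 𝒜 ℋ 𝓔).1 h.1)
        rw [Submodule.coe_zero, LinearMap.zero_apply, S.tr_zero]
      smul_mem' := by
        rintro c _ ⟨g, hg, hgd, rfl⟩
        refine ⟨(c : R) • g, Submodule.smul_mem _ _ hg, ?_, ?_⟩
        · have := (gK_gradedSMul 𝒜 ℋ 𝓔).smul_mem c.2 hgd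
          rwa [vadd_eq_add, zero_add] at this
        · apply LinearMap.ext
          intro h
          apply Subtype.ext
          change (c : R) * S.tr (g.1 h.1) = S.tr (((c : R) • g).1 h.1)
          rw [Submodule.coe_smul, LinearMap.smul_apply, S.tr_smul c.2] }
  haveI := hfin (-d)
  have hfW : trFun S ℋ d f ∈ W := by
    refine mem_of_vanish S.h0 W _ (fun h hh => ?_)
    have hN : h.1 ∈ N s₀ := by
      simp only [N, Submodule.mem_iInf]
      intro g₀ hg₀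
      obtain ⟨d', hd'⟩ := hs₀ g₀ hg₀
      rw [LinearMap.mem_ker]
      have hmem : g₀.1 h.1 ∈ 𝓔 (-d + d') := hd' (-d) h.1 h.2
      refine (perfPair_self S).nondeg (-d + d') _ hmem (fun y hy => ?_)
      have h1 : y • g₀ ∈ Submodule.span R (s₀ : Set (GK 𝒜 ℋ 𝓔)) :=
        Submodule.smul_mem _ _ (Submodule.subset_span hg₀)
      have h2 : y • g₀ ∈ gK 𝒜 ℋ 𝓔 d := by
        have := (gK_gradedSMul 𝒜 ℋ 𝓔).smul_mem hy hd'
        have e1 : -(-d + d') + d' = d := by ring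
        rwa [vadd_eq_add, e1] at this
      have h3 := hh (trFun S ℋ d (y • g₀)) ⟨y • g₀, h1, h2, rfl⟩
      have h4 := congrArg Subtype.val h3
      exact h4
    have h5 : f.1 h.1 = 0 := hle hN
    apply Subtype.ext
    change S.tr (f.1 h.1) = 0
    rw [h5, S.tr_zero]
  obtain ⟨g, hgL, hgd, hfg⟩ := hfW
  apply hfL
  have h6 : f - g = 0 := by
    refine (perfPair_gK S ℋ).nondeg d (f - g) (sub_mem hfd hgd) (fun y hy => ?_)
    rw [(perfPair_gK S ℋ).sub_left]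
    have h7 := congrArg Subtype.val (LinearMap.congr_fun hfg ⟨y, hy⟩)
    change S.tr (f.1 y) = S.tr (g.1 y) at h7
    change S.tr (f.1 y) - S.tr (g.1 y) = 0
    rw [h7, sub_self]
  rw [sub_eq_zero.mp h6]
  exact hgL

end Fin

section Exists

variable {R : Type u} [CommRing R] [IsNoetherianRing R] {𝒜 : ℤ → AddSubgroup R} [GradedRing 𝒜]
variable {m : HomogeneousIdeal 𝒜}
variable {E' : Type u} [AddCommGroup E'] [Module R E'] {𝓔 : ℤ → AddSubgroup E'}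
  [DirectSum.Decomposition 𝓔] [SetLike.GradedSMul 𝒜 𝓔]
  {e : (R ⧸ m.toIdeal) →ₗ[R] E'} (S : Setting 𝒜 m 𝓔 e)

include S in
/-- **a graded ring defined over a field has a canonical module**: the graded Matlis dual of
the top (or any) local cohomology module -/
theorem exists_canonical (hm : IsCoatom m) (n : ℕ) (I : GrLC.StarInjRes 𝒜 𝒜) :
    ∃ C : GrLC.GMod.{u} 𝒜, GrLC.IsStarCanonical 𝒜 C.gr 𝓔 m n I := by
  letI : DirectSum.Decomposition (I.Hgr m n) := (isInternal_Hgr 𝒜 𝒜 I m n).chooseDecomposition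
  haveI : SetLike.GradedSMul 𝒜 (I.Hgr m n) := Hgr_gradedSMul I m n
  haveI : IsArtinian R (I.H m n) := isArtinian_H_of_isCoatom S.hpos I m hm n
  have hfin : ∀ j, Module.Finite (GrLC.deg0 𝒜) ↥(GrLC.comp 𝒜 (I.Hgr m n) j) := by
    intro j
    have h1 := (Gr.finVan S.hpos m S.hmsp n R 𝒜 I).1 j
    exact Module.Finite.iff_fg.mpr h1
  letI := gKDecomposition 𝒜 (I.Hgr m n) 𝓔
  haveI := gK_gradedSMul 𝒜 (I.Hgr m n) 𝓔
  haveI hf := finite_GK S (I.Hgr m n) hfin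
  obtain ⟨φ, hφ⟩ := canonical_of_perfPair S (gK 𝒜 (I.Hgr m n) 𝓔) (I.Hgr m n)
    (perfPair_gK S (I.Hgr m n)) hfin
  exact ⟨GrLC.GMod.of 𝒜 (GK 𝒜 (I.Hgr m n) 𝓔) (gK 𝒜 (I.Hgr m n) 𝓔), hf, φ, hφ⟩

end Exists

end CanEx

end Groth.Agent.H6
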