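import Groth.Agent.Lib.Helper6.GrDual3

/-! Graded Matlis duality: the reverse direction of a perfect pairing (finite pieces). -/

universe u
open DirectSum
set_option linter.unusedSectionVars false

namespace Groth.Agent.H6

namespace GDual

open Gr Ver

section TrHom

variable {R : Type u} [CommRing R] {𝒜 : ℤ → AddSubgroup R} [GradedRing 𝒜]
variable {m : HomogeneousIdeal 𝒜}
variable {E' : Type u} [AddCommGroup E'] [Module R E'] {𝓔 : ℤ → AddSubgroup E'}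
  [DirectSum.Decomposition 𝓔] [SetLike.GradedSMul 𝒜 𝓔]
  {e : (R ⧸ m.toIdeal) →ₗ[R] E'} (S : Setting 𝒜 m 𝓔 e)

/-- the trace as an additive map -/
noncomputable def Setting.trHom : E' →+ R := AddMonoidHom.mk' S.tr S.tr_add

theorem Setting.trHom_apply (x : E') : S.trHom x = S.tr x := rfl

include S in
theorem Setting.tr_proj_zero (x : E') : S.tr (proj 𝓔 0 x) = S.tr x := by
  apply S.tr_eq (S.tr_mem x)
  rw [proj_proj_same]
  exact S.tr_spec x

include S in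
/-- the trace of a multiple of a homogeneous element only sees one component of the scalar -/
theorem Setting.tr_smul_of_mem {d : ℤ} {y : E'} (hy : y ∈ 𝓔 d) (a : R) :
    S.tr (a • y) = S.tr (proj 𝒜 (-d) a • y) := by
  rw [← S.tr_proj_zero (a • y), proj_smul_of_mem_right 𝒜 𝓔 hy 0 a, zero_sub]

include S in
theorem Setting.tr_neg (x : E') : S.tr (-x) = -S.tr x := by
  have := S.tr_add x (-x)
  rw [add_neg_cancel, S.tr_zero] at this
  exact eq_neg_of_add_eq_zero_right this.symm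

end TrHom

section Flip

variable {R : Type u} [CommRing R] {𝒜 : ℤ → AddSubgroup R} [GradedRing 𝒜]
variable {X : Type u} [AddCommGroup X] [Module R X] {𝒳 : ℤ → AddSubgroup X}
  [SetLike.GradedSMul 𝒜 𝒳]
variable {N : Type u} [AddCommGroup N] [Module R N] {𝒩 : ℤ → AddSubgroup N}
  [DirectSum.Decomposition 𝒩] [SetLike.GradedSMul 𝒜 𝒩]
variable {τ : X → N → R} (hτ : PerfPair 𝒜 𝒳 𝒩 τ) (h0 : IsField (GrLC.deg0 𝒜))

include hτ in
theorem PerfPair.smul0_right (c : R) (hc : c ∈ 𝒜 0) (x : X) (y : N) : τ x (c • y) = c * τ x y := by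
  rw [← hτ.bal, hτ.smul0 c hc]

include hτ in
/-- every functional on a piece of `N` is represented by an element of `X` -/
theorem PerfPair.repr_lin (j : ℤ)
    (l : ↥(GrLC.comp 𝒜 𝒩 (-j)) →ₗ[GrLC.deg0 𝒜] GrLC.deg0 𝒜) :
    ∃ x ∈ 𝒳 j, ∀ (y : N) (hy : y ∈ 𝒩 (-j)), τ x y = (l ⟨y, hy⟩ : R) := by
  let l₁ : N →+ R := AddMonoidHom.mk'
    (fun x => (l ⟨proj 𝒩 (-j) x, proj_mem 𝒩 (-j) x⟩ : R)) (fun x y => by
      have : (⟨proj 𝒩 (-j) (x + y), proj_mem 𝒩 (-j) (x + y)⟩ : ↥(GrLC.comp 𝒜 𝒩 (-j))) =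
          ⟨proj 𝒩 (-j) x, proj_mem 𝒩 (-j) x⟩ + ⟨proj 𝒩 (-j) y, proj_mem 𝒩 (-j) y⟩ := by
        apply Subtype.ext
        exact map_add _ _ _
      rw [this, map_add]
      rfl)
  have hl₁ : ∀ (x : N) (hx : x ∈ 𝒩 (-j)), l₁ x = (l ⟨x, hx⟩ : R) := by
    intro x hx
    change (l ⟨proj 𝒩 (-j) x, proj_mem 𝒩 (-j) x⟩ : R) = _
    congr 2
    exact Subtype.ext (proj_of_mem 𝒩 hx)
  have h1 : ∀ x ∈ 𝒩 (-j), l₁ x ∈ 𝒜 0 := fun x _ => (l _).2
  have h2 : ∀ c ∈ 𝒜 0, ∀ x ∈ 𝒩 (-j), l₁ (c • x) = c * l₁ x := by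
    intro c hc x hx
    have hcx : c • x ∈ 𝒩 (-j) := by
      have := SetLike.GradedSMul.smul_mem (A := 𝒜) (B := 𝒩) hc hx
      rwa [vadd_eq_add, zero_add] at this
    rw [hl₁ _ hcx, hl₁ _ hx]
    have : (⟨c • x, hcx⟩ : ↥(GrLC.comp 𝒜 𝒩 (-j))) = (⟨c, hc⟩ : GrLC.deg0 𝒜) • ⟨x, hx⟩ := rfl
    rw [this, map_smul]
    rfl
  obtain ⟨x, hx, hxl⟩ := hτ.repr j l₁ h1 h2
  exact ⟨x, hx, fun y hy => by rw [hxl y hy, hl₁ y hy]⟩

include hτ h0 in
/-- nondegeneracy in the second variable -/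
theorem PerfPair.nondeg_right (j : ℤ) (y : N) (hy : y ∈ 𝒩 (-j)) (h : ∀ x ∈ 𝒳 j, τ x y = 0) :
    y = 0 := by
  by_contra hy0
  have hv : (⟨y, hy⟩ : ↥(GrLC.comp 𝒜 𝒩 (-j))) ≠ 0 := fun h => hy0 (congrArg Subtype.val h)
  obtain ⟨l, hl⟩ := exists_functional_ne_zero h0 hv
  obtain ⟨x, hx, hxl⟩ := hτ.repr_lin j l
  apply hl
  apply Subtype.ext
  rw [← hxl y hy, h x hx]
  rfl

include hτ h0 in
/-- every functional on a piece of `X` is represented by an element of `N`, when the pieces of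
`N` are finite over the field `R_0` -/
theorem PerfPair.repr_right (j : ℤ) [Module.Finite (GrLC.deg0 𝒜) ↥(GrLC.comp 𝒜 𝒩 (-j))]
    (l : X →+ R) (hl0 : ∀ x ∈ 𝒳 j, l x ∈ 𝒜 0)
    (hls : ∀ c ∈ 𝒜 0, ∀ x ∈ 𝒳 j, l (c • x) = c * l x) :
    ∃ y ∈ 𝒩 (-j), ∀ x ∈ 𝒳 j, τ x y = l x := by
  let β : ↥(GrLC.comp 𝒜 𝒩 (-j)) →ₗ[GrLC.deg0 𝒜] ↥(GrLC.comp 𝒜 𝒳 j) →ₗ[GrLC.deg0 𝒜]
      GrLC.deg0 𝒜 :=
    LinearMap.mk₂ (GrLC.deg0 𝒜) (fun v w => ⟨τ (w : X) (v : N), hτ.mem0 _ _⟩)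
      (fun v v' w => by
        apply Subtype.ext
        change τ (w : X) ((v : N) + (v' : N)) = _
        rw [hτ.add_right]
        rfl)
      (fun c v w => by
        apply Subtype.ext
        change τ (w : X) ((c : R) • (v : N)) = (c : R) * τ _ _
        rw [hτ.smul0_right c c.2])
      (fun v w w' => by
        apply Subtype.ext
        change τ ((w : X) + (w' : X)) (v : N) = _
        rw [hτ.add_left]
        rfl)
      (fun c v w => by
        apply Subtype.ext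
        change τ ((c : R) • (w : X)) (v : N) = (c : R) * τ _ _
        rw [hτ.smul0 c c.2])
  have hβ : ∀ v w, (β v w : R) = τ (w : X) (v : N) := fun v w => rfl
  have h1 : ∀ l' : ↥(GrLC.comp 𝒜 𝒩 (-j)) →ₗ[GrLC.deg0 𝒜] GrLC.deg0 𝒜,
      ∃ w, ∀ v, β v w = l' v := by
    intro l'
    obtain ⟨x, hx, hxl⟩ := hτ.repr_lin j l'
    refine ⟨⟨x, hx⟩, fun v => ?_⟩
    apply Subtype.ext
    rw [hβ]
    exact hxl v.1 v.2
  have h2 : ∀ w, (∀ v, β v w = 0) → w = 0 := by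
    intro w hw
    apply Subtype.ext
    apply hτ.nondeg j w.1 w.2
    intro y hy
    have := congrArg Subtype.val (hw ⟨y, hy⟩)
    rw [hβ] at this
    exact this
  let μ : ↥(GrLC.comp 𝒜 𝒳 j) →ₗ[GrLC.deg0 𝒜] GrLC.deg0 𝒜 :=
    { toFun := fun w => ⟨l (w : X), hl0 _ w.2⟩
      map_add' := fun w w' => by
        apply Subtype.ext
        change l ((w : X) + (w' : X)) = _
        rw [map_add]
        rfl
      map_smul' := fun c w => by
        apply Subtype.ext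
        change l ((c : R) • (w : X)) = (c : R) * l (w : X)
        exact hls c c.2 w w.2 }
  obtain ⟨v, hv⟩ := exists_repr_of_perfect h0 β h1 h2 μ
  refine ⟨v.1, v.2, fun x hx => ?_⟩
  have := congrArg Subtype.val (hv ⟨x, hx⟩)
  rw [hβ] at this
  exact this

end Flip

end GDual

end Groth.Agent.H6
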