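import Groth.Agent.Lib.Helper6.GrDual3

/-! Dimensions of the pieces under a perfect pairing. -/

universe u
open DirectSum
set_option linter.unusedSectionVars false

namespace Groth.Agent.H6

namespace GDual

open Gr

section Fin

variable {R : Type u} [CommRing R] {𝒜 : ℤ → AddSubgroup R} [GradedRing 𝒜]
  {X : Type u} [AddCommGroup X] [Module R X] {𝒳 : ℤ → AddSubgroup X} [SetLike.GradedSMul 𝒜 𝒳]
  {N : Type u} [AddCommGroup N] [Module R N] {𝒩 : ℤ → AddSubgroup N}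
  [DirectSum.Decomposition 𝒩] [SetLike.GradedSMul 𝒜 𝒩] {τ : X → N → R}

theorem PerfPair.finrank_eq (h : PerfPair 𝒜 𝒳 𝒩 τ) (hk : IsField (GrLC.deg0 𝒜)) (j : ℤ) :
    Module.finrank (GrLC.deg0 𝒜) ↥(GrLC.comp 𝒜 𝒳 j) =
      Module.finrank (GrLC.deg0 𝒜) ↥(GrLC.comp 𝒜 𝒩 (-j)) := by
  letI := hk.toField
  let Φ : ↥(GrLC.comp 𝒜 𝒳 j) →ₗ[GrLC.deg0 𝒜]
      Module.Dual (GrLC.deg0 𝒜) ↥(GrLC.comp 𝒜 𝒩 (-j)) :=
    { toFun := fun x =>
        { toFun := fun y => ⟨τ x.1 y.1, h.mem0 _ _⟩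
          map_add' := fun y y' => Subtype.ext (h.add_right x.1 y.1 y'.1)
          map_smul' := fun c y => by
            apply Subtype.ext
            change τ x.1 ((c : R) • y.1) = (c : R) * τ x.1 y.1
            rw [← h.bal, h.smul0 c.1 c.2] }
      map_add' := fun x x' => by
        apply LinearMap.ext
        intro y
        exact Subtype.ext (h.add_left x.1 x'.1 y.1)
      map_smul' := fun c x => by
        apply LinearMap.ext
        intro y
        apply Subtype.ext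
        change τ ((c : R) • x.1) y.1 = (c : R) * τ x.1 y.1
        rw [h.smul0 c.1 c.2] }
  have hΦ : ∀ x y, ((Φ x y : GrLC.deg0 𝒜) : R) = τ x.1 y.1 := fun x y => rfl
  have hinj : Function.Injective Φ := by
    rw [← LinearMap.ker_eq_bot, LinearMap.ker_eq_bot']
    intro x hx
    apply Subtype.ext
    apply h.nondeg j x.1 x.2
    intro y hy
    have := LinearMap.congr_fun hx ⟨y, hy⟩
    exact congrArg Subtype.val this
  have hsurj : Function.Surjective Φ := by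
    intro f
    let l : N →+ R :=
      { toFun := fun y => (f ⟨proj 𝒩 (-j) y, proj_mem 𝒩 (-j) y⟩ : GrLC.deg0 𝒜)
        map_zero' := by
          have : (⟨proj 𝒩 (-j) 0, proj_mem 𝒩 (-j) 0⟩ : ↥(GrLC.comp 𝒜 𝒩 (-j))) = 0 :=
            Subtype.ext (map_zero _)
          rw [this, map_zero]
          rfl
        map_add' := fun y y' => by
          have : (⟨proj 𝒩 (-j) (y + y'), proj_mem 𝒩 (-j) (y + y')⟩ : ↥(GrLC.comp 𝒜 𝒩 (-j))) =
              ⟨proj 𝒩 (-j) y, proj_mem 𝒩 (-j) y⟩ + ⟨proj 𝒩 (-j) y', proj_mem 𝒩 (-j) y'⟩ :=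
            Subtype.ext (map_add _ _ _)
          rw [this, map_add]
          rfl }
    have hl : ∀ y (hy : y ∈ 𝒩 (-j)), l y = (f ⟨y, hy⟩ : GrLC.deg0 𝒜) := by
      intro y hy
      change ((f ⟨proj 𝒩 (-j) y, proj_mem 𝒩 (-j) y⟩ : GrLC.deg0 𝒜) : R) = _
      congr 2
      exact Subtype.ext (proj_of_mem 𝒩 hy)
    obtain ⟨x, hx, hxl⟩ := h.repr j l (fun y hy => by rw [hl y hy]; exact (f ⟨y, hy⟩).2)
      (fun c hc y hy => by
        have hcy : c • y ∈ 𝒩 (-j) := (GrLC.comp 𝒜 𝒩 (-j)).smul_mem ⟨c, hc⟩ hy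
        rw [hl y hy, hl (c • y) hcy]
        have : (⟨c • y, hcy⟩ : ↥(GrLC.comp 𝒜 𝒩 (-j))) = (⟨c, hc⟩ : GrLC.deg0 𝒜) • ⟨y, hy⟩ := rfl
        rw [this, map_smul]
        rfl)
    refine ⟨⟨x, hx⟩, LinearMap.ext fun y => Subtype.ext ?_⟩
    rw [hΦ]
    change τ x y.1 = _
    rw [hxl y.1 y.2, hl y.1 y.2]
  rw [(LinearEquiv.ofBijective Φ ⟨hinj, hsurj⟩).finrank_eq, Subspace.dual_finrank_eq]

end Fin

end GDual

end Groth.Agent.H6
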