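import Groth.Agent.Lib.Helper6.GrCycDim
import Groth.Agent.Lib.Helper6.GrDualFlip
import Groth.Agent.Lib.Helper6.SegCan1
import Groth.Agent.Lib.Helper6.HartConn
import Groth.Agent.Lib.Helper6.GrDim

/-! The Hilbert function of the canonical module of a standard graded Cohen–Macaulay ring of
dimension at least two is at least two above its initial degree. -/

universe u
open DirectSum
set_option linter.unusedSectionVars false

namespace Groth.Agent.H6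

namespace CanHilb

open Gr GDual

section Sep

variable {R : Type u} [CommRing R] {𝒜 : ℤ → AddSubgroup R} [GradedRing 𝒜]
variable {m : HomogeneousIdeal 𝒜}
variable {E' : Type u} [AddCommGroup E'] [Module R E'] {𝓔 : ℤ → AddSubgroup E'}
  [DirectSum.Decomposition 𝓔] [SetLike.GradedSMul 𝒜 𝓔]
  {e : (R ⧸ m.toIdeal) →ₗ[R] E'} (S : Setting 𝒜 m 𝓔 e)
variable {C : Type u} [AddCommGroup C] [Module R C] (𝒞 : ℤ → AddSubgroup C)
  [DirectSum.Decomposition 𝒞] [SetLike.GradedSMul 𝒜 𝒞]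

include S 𝒞 in
/-- maps into the *injective envelope of the residue field separate the points of a graded
module -/
theorem exists_hom_apply_ne_zero {w : C} (hw : w ≠ 0) : ∃ g : C →ₗ[R] E', g w ≠ 0 := by
  have hex : ∃ j, proj 𝒞 j w ≠ 0 := by
    by_contra hcon
    push Not at hcon
    exact hw (eq_zero_of_proj_eq_zero 𝒞 hcon)
  obtain ⟨j, hj⟩ := hex
  have hv : (⟨proj 𝒞 j w, proj_mem 𝒞 j w⟩ : ↥(GrLC.comp 𝒜 𝒞 j)) ≠ 0 :=
    fun h' => hj (congrArg Subtype.val h')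
  obtain ⟨l, hl⟩ := exists_functional_ne_zero S.h0 hv
  obtain ⟨g, hg, hgl⟩ := exists_hom_of_dual S 𝒞 j l
  refine ⟨g, fun h0 => hl ?_⟩
  apply Subtype.ext
  rw [← hgl _ (proj_mem 𝒞 j w)]
  have h1 := isGrHomDeg_proj' 𝒞 𝓔 hg 0 w
  rw [h0, map_zero] at h1
  have e1 : (0 : ℤ) - -j = j := by ring
  rw [e1] at h1
  rw [← h1, S.tr_zero]
  rfl

variable {H : Type u} [AddCommGroup H] [Module R H]

include S 𝒞 in
/-- if the dual `H` of `C` is divisible by an ideal `𝔟`, no nonzero element of `C` is killed by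
`𝔟` -/
theorem eq_zero_of_smul_top_eq_top (ψ : (C →ₗ[R] E') ≃ₗ[R] H) (𝔟 : Ideal R)
    (h : 𝔟 • (⊤ : Submodule R H) = ⊤) (w : C) (hw : ∀ r ∈ 𝔟, r • w = 0) : w = 0 := by
  by_contra hne
  obtain ⟨g, hg⟩ := exists_hom_apply_ne_zero S 𝒞 hne
  apply hg
  have hmem : ψ g ∈ 𝔟 • (⊤ : Submodule R H) := by rw [h]; trivial
  have key : ∀ y ∈ 𝔟 • (⊤ : Submodule R H), ψ.symm y w = 0 := by
    intro y hy
    refine Submodule.smul_induction_on hy ?_ ?_
    · intro r hr y' _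
      rw [map_smul, LinearMap.smul_apply, ← map_smul, hw r hr, map_zero]
    · intro y₁ y₂ h₁ h₂
      rw [map_add, LinearMap.add_apply, h₁, h₂, add_zero]
  have := key _ hmem
  rwa [ψ.symm_apply_apply] at this

end Sep

section Main

variable {R : Type u} [CommRing R] {𝒜 : ℤ → AddSubgroup R} [GradedRing 𝒜]

theorem exists_smul_eq_of_finrank_le_one {K V : Type*} [CommRing K] (hK : IsField K)
    [AddCommGroup V] [Module K V] [Module.Finite K V] (h : Module.finrank K V ≤ 1) {x : V}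
    (hx : x ≠ 0) (y : V) : ∃ c : K, c • x = y := by
  letI := hK.toField
  have h1 : Module.finrank K V = 1 := by
    apply le_antisymm h
    rw [Nat.one_le_iff_ne_zero]
    intro h0
    haveI := Module.finrank_zero_iff.mp h0
    exact hx (Subsingleton.elim _ _)
  exact exists_smul_eq_of_finrank_eq_one h1 hx y

set_option maxHeartbeats 1600000 in
/-- **the pieces of the canonical module of a standard graded Cohen–Macaulay ring of dimension at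
least two above the initial degree have dimension at least two** -/
theorem two_le_finrank_canonical [hCM : LocCoh.IsCohenMacaulayRing R]
    (hpos : ∀ n : ℤ, n < 0 → 𝒜 n = ⊥) (h0 : IsField (GrLC.deg0 𝒜)) (m : HomogeneousIdeal 𝒜)
    (hm : GrLC.IsStarLocal 𝒜 m)
    (hmsp : m.toIdeal = Ideal.span (⋃ n ∈ Set.Ioi (0 : ℤ), (𝒜 n : Set R)))
    (hstd : Ideal.span (⋃ n ∈ Set.Ioi (0 : ℤ), (𝒜 n : Set R)) =
      Ideal.span ((𝒜 1 : AddSubgroup R) : Set R))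
    (n : ℕ) (hn : ringKrullDim R = n) (h2 : 2 ≤ n) (I : GrLC.StarInjRes 𝒜 𝒜) (a : ℤ)
    (ha : GrLC.endDeg (I.Hgr m n) = ((a : WithTop ℤ) : WithBot (WithTop ℤ)))
    {E' : Type u} [AddCommGroup E'] [Module R E'] (𝓔 : ℤ → AddSubgroup E')
    [DirectSum.Decomposition 𝓔] [SetLike.GradedSMul 𝒜 𝓔] (e : (R ⧸ m.toIdeal) →ₗ[R] E')
    (he : GrLC.IsStarInjHull 𝒜 (GrLC.quotGr 𝒜 m) 𝓔 e)
    {C : Type u} [AddCommGroup C] [Module R C] (𝒞 : ℤ → AddSubgroup C)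
    [DirectSum.Decomposition 𝒞] [SetLike.GradedSMul 𝒜 𝒞]
    (hC : GrLC.IsStarCanonical 𝒜 𝒞 𝓔 m n I) (j : ℤ) (hj : -a < j) :
    2 ≤ Module.finrank (GrLC.deg0 𝒜) ↥(GrLC.comp 𝒜 𝒞 j) := by
  have S : Setting 𝒜 m 𝓔 e := ⟨hpos, h0, hmsp, he⟩
  obtain ⟨hfin, ψ, hψ⟩ := hC
  haveI := hfin
  haveI hmax : m.toIdeal.IsMaximal := isMaximal_of_isCoatom hpos m hm.1
  letI : DirectSum.Decomposition (I.Hgr m n) := (isInternal_Hgr 𝒜 𝒜 I m n).chooseDecomposition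
  letI : SetLike.GradedSMul 𝒜 (I.Hgr m n) := Hgr_gradedSMul I m n
  have pp := perfPair_canonical S 𝒞 (I.Hgr m n) ψ hψ
  -- finiteness of the pieces
  obtain ⟨P⟩ := exists_posGens 𝒜 m.toIdeal hmsp
  have hmem : ∀ n : ℤ, 0 < n → ∀ y ∈ 𝒜 n, y ∈ m.toIdeal := by
    intro n hn y hy
    rw [hmsp]
    apply Ideal.subset_span
    simp only [Set.mem_iUnion, Set.mem_Ioi, SetLike.mem_coe]
    exact ⟨n, hn, hy⟩
  haveI hfinC : ∀ s : ℤ, Module.Finite (GrLC.deg0 𝒜) ↥(GrLC.comp 𝒜 𝒞 s) :=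
    fun s => Module.Finite.iff_fg.mpr (P.comp_module_fg 𝒞 hpos hmem s)
  -- a nonzero element of lowest degree
  have hHa : I.Hgr m n a ≠ ⊥ := PolyCan.ne_bot_of_endDeg_eq _ a ha
  obtain ⟨h₀, hh₀, hh₀0⟩ := (AInv.ne_bot_iff_exists _ a).mp hHa
  obtain ⟨f, hf, hf0⟩ : ∃ f ∈ 𝒞 (-a), f ≠ 0 := by
    have hh₀' : h₀ ∈ I.Hgr m n (- -a) := by rwa [neg_neg]
    have hv : (⟨h₀, hh₀'⟩ : ↥(GrLC.comp 𝒜 (I.Hgr m n) (- -a))) ≠ 0 :=
      fun h' => hh₀0 (congrArg Subtype.val h')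
    obtain ⟨l, hl⟩ := exists_functional_ne_zero h0 hv
    obtain ⟨x, hx, hxl⟩ := pp.repr_lin (-a) l
    refine ⟨x, hx, fun hx0 => hl ?_⟩
    apply Subtype.ext
    rw [← hxl h₀ hh₀', hx0, pp.zero_left]
    rfl
  -- the annihilator of `f`
  let 𝔞 : Ideal R := LinearMap.ker (LinearMap.toSpanSingleton R C f)
  have h𝔞 : ∀ r : R, r ∈ 𝔞 ↔ r • f = 0 := by
    intro r
    change LinearMap.toSpanSingleton R C f r = 0 ↔ _
    rw [LinearMap.toSpanSingleton_apply]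
  -- divisibility
  have hdiv := AInv.graded_smul_top_eq_top hpos m hm.1 n (by omega) (le_of_eq hn) I
  have hh : m.toIdeal.height = n := height_irrelevant 𝒜 hpos h0 m.toIdeal hmsp n hn
  have hvanLC : ∀ i, i ≠ n → Subsingleton (LocCoh.H m.toIdeal i R) :=
    fun i hi => MaxLoc.cm_vanish m.toIdeal n hh i hi
  -- `Γ_m(C) = 0`
  have hpow : ∀ k : ℕ, (m.toIdeal ^ k) • (⊤ : Submodule R (I.H m n)) = ⊤ := by
    intro k
    induction k with
    | zero => rw [pow_zero, Ideal.one_eq_top, Submodule.top_smul]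
    | succ k ih => rw [pow_succ, Submodule.mul_smul, hdiv, ih]
  have hgamC : GrLC.gam (Ideal.span (⋃ n ∈ Set.Ioi (0 : ℤ), (𝒜 n : Set R))) C = ⊥ := by
    rw [eq_bot_iff]
    rintro w ⟨k, hk⟩
    rw [Submodule.mem_bot]
    rw [← hmsp] at hk
    exact eq_zero_of_smul_top_eq_top S 𝒞 ψ (m.toIdeal ^ k) (hpow k) w hk
  obtain ⟨n₀, z₀, hn₀, hz₀, -, hz₀reg⟩ := exists_homogeneous_regular 𝒜 (N := C)
    (⋃ n ∈ Set.Ioi (0 : ℤ), (𝒜 n : Set R)) (by
      intro x hx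
      simp only [Set.mem_iUnion, Set.mem_Ioi, SetLike.mem_coe] at hx
      obtain ⟨i, hi, hxi⟩ := hx
      exact ⟨i, hi, hxi⟩) hgamC
  have hreg𝔞 : ∀ r : R, z₀ * r ∈ 𝔞 → r ∈ 𝔞 := by
    intro r hr
    rw [h𝔞, mul_smul] at hr
    rw [h𝔞]
    exact hz₀reg _ hr
  by_contra hlt
  push Not at hlt
  have hle : Module.finrank (GrLC.deg0 𝒜) ↥(GrLC.comp 𝒜 𝒞 j) ≤ 1 := by omega
  -- the piece of degree `j + a` is cyclic modulo `𝔞`
  have hcyc : IsCycMod 𝒜 𝔞 (j + a) := by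
    have hsm : ∀ r ∈ 𝒜 (j + a), r • f ∈ 𝒞 j := by
      intro r hr
      have := SetLike.GradedSMul.smul_mem (A := 𝒜) (B := 𝒞) hr hf
      rwa [vadd_eq_add, add_neg_cancel_right] at this
    by_cases hex : ∃ z ∈ 𝒜 (j + a), z • f ≠ 0
    · obtain ⟨z, hz, hzf⟩ := hex
      refine ⟨z, hz, fun r hr => ?_⟩
      have hv : (⟨z • f, hsm z hz⟩ : ↥(GrLC.comp 𝒜 𝒞 j)) ≠ 0 :=
        fun h' => hzf (congrArg Subtype.val h')
      obtain ⟨c, hc⟩ := exists_smul_eq_of_finrank_le_one h0 hle hv ⟨r • f, hsm r hr⟩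
      refine ⟨c.1, c.2, ?_⟩
      rw [h𝔞, sub_smul, mul_smul]
      have := congrArg Subtype.val hc
      change (c : R) • z • f = r • f at this
      rw [this, sub_self]
    · push Not at hex
      refine ⟨0, zero_mem _, fun r hr => ⟨0, zero_mem _, ?_⟩⟩
      rw [mul_zero, sub_zero, h𝔞]
      exact hex r hr
  have hcyc1 := isCycMod_one 𝒜 𝔞 hstd h0 hn₀ hz₀ hreg𝔞 (j + a) (by omega) hcyc
  obtain ⟨u, hu, hu1⟩ := hcyc1
  have hdim𝔞 := ringKrullDim_quot_le_one 𝒜 𝔞 hstd h0 hpos hu hu1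
  have hdiv𝔞 := AInv.graded_smul_top_eq_top_of_dim_lt m n (le_of_eq hn) I 𝔞
    (lt_of_le_of_lt hdim𝔞 (by exact_mod_cast (by omega : 1 < n)))
  exact hf0 (eq_zero_of_smul_top_eq_top S 𝒞 ψ 𝔞 hdiv𝔞 f (fun r hr => (h𝔞 r).mp hr))

end Main

end CanHilb

end Groth.Agent.H6
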