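import Groth.Agent.Lib.Helper6.GrShift
import Groth.Agent.Lib.Helper6.GrEssUngr
import Groth.Agent.Lib.Helper6.InjHullLocal

/-! *injective hulls of `R ⧸ p` for homogeneous primes `p`. -/

universe u
open DirectSum
set_option linter.unusedSectionVars false

namespace Groth.Agent.H6

namespace Gr

variable {ι : Type} [AddCommGroup ι] [DecidableEq ι]
variable {R : Type u} [CommRing R] (𝒜 : ι → AddSubgroup R) [GradedRing 𝒜]

section QuotMap

variable (q : HomogeneousIdeal 𝒜) {E : Type u} [AddCommGroup E] [Module R E]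
  (𝓔 : ι → AddSubgroup E) [DirectSum.Decomposition 𝓔] [SetLike.GradedSMul 𝒜 𝓔]
  (e : (R ⧸ q.toIdeal) →ₗ[R] E)

theorem map_mk_eq_smul (r : R) : e (Ideal.Quotient.mk q.toIdeal r) = r • e 1 := by
  rw [← map_smul]
  congr 1
  change _ = Ideal.Quotient.mk q.toIdeal (r * 1)
  rw [mul_one]

theorem mk_mem_quotGr {g : ι} {r : R} (hr : r ∈ 𝒜 g) :
    Ideal.Quotient.mk q.toIdeal r ∈ GrLC.quotGr 𝒜 q g := ⟨r, hr, rfl⟩

theorem range_eq_span : LinearMap.range e = Submodule.span R {e 1} := by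
  apply le_antisymm
  · rintro _ ⟨x, rfl⟩
    obtain ⟨r, rfl⟩ := Ideal.Quotient.mk_surjective x
    rw [map_mk_eq_smul]
    exact Submodule.smul_mem _ _ (Submodule.mem_span_singleton_self _)
  · rw [Submodule.span_singleton_le_iff_mem]
    exact ⟨1, rfl⟩

variable {e}

/-- a map out of `R ⧸ q` homogeneous of degree `d` has homogeneous range -/
theorem range_isHomogeneous_of_quot {d : ι} (he : GrLC.IsGrHomDeg (GrLC.quotGr 𝒜 q) 𝓔 e d) :
    (LinearMap.range e).IsHomogeneous 𝓔 := by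
  rw [range_eq_span]
  have h1 : e 1 ∈ 𝓔 (0 + d) := he 0 1 (mk_mem_quotGr 𝒜 q SetLike.GradedOne.one_mem)
  exact span_singleton_isHomogeneous 𝓔 𝒜 h1

theorem isGrHomDeg_zero_iff {M N : Type u} [AddCommGroup M] [Module R M] [AddCommGroup N]
    [Module R N] {τ : Type u} [SetLike τ M] [AddSubgroupClass τ M] (ℳ : ι → τ)
    (𝒩 : ι → AddSubgroup N) (f : M →ₗ[R] N) :
    GrLC.IsGrHomDeg ℳ 𝒩 f 0 ↔ GrLC.IsGrHom ℳ 𝒩 f := by
  constructor
  · intro h g m hm
    have := h g m hm
    rwa [add_zero] at this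
  · intro h g m hm
    rw [add_zero]
    exact h g m hm

end QuotMap

section Prime

variable (p : HomogeneousIdeal 𝒜) [hp : p.toIdeal.IsPrime]
variable {E : Type u} [AddCommGroup E] [Module R E]
  (𝓔 : ι → AddSubgroup E) [DirectSum.Decomposition 𝓔] [SetLike.GradedSMul 𝒜 𝓔]
  {e : (R ⧸ p.toIdeal) →ₗ[R] E}

theorem range_isHomogeneous_of_starEss (he : GrLC.IsStarEss (GrLC.quotGr 𝒜 p) 𝓔 e) :
    (LinearMap.range e).IsHomogeneous 𝓔 :=
  range_isHomogeneous_of_quot 𝒜 p 𝓔 ((isGrHomDeg_zero_iff _ _ _).mpr he.grHom)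

/-- every nonzero homogeneous submodule contains `e (mk a)` for some `a ∉ p` -/
theorem exists_mk_mem_of_starEss (he : GrLC.IsStarEss (GrLC.quotGr 𝒜 p) 𝓔 e)
    {P : Submodule R E} (hP : P.IsHomogeneous 𝓔) (hP0 : P ≠ ⊥) :
    ∃ a : R, a ∉ p.toIdeal ∧ e (Ideal.Quotient.mk p.toIdeal a) ∈ P := by
  obtain ⟨y, ⟨hy1, hy2⟩, hy0⟩ := Submodule.exists_mem_ne_zero_of_ne_bot (he.essential P hP hP0)
  obtain ⟨x, rfl⟩ := hy2
  obtain ⟨a, rfl⟩ := Ideal.Quotient.mk_surjective x
  refine ⟨a, ?_, hy1⟩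
  intro ha
  apply hy0
  rw [Ideal.Quotient.eq_zero_iff_mem.mpr ha, map_zero]

include hp in
/-- a *essential extension of `R ⧸ p` is *indecomposable -/
theorem starIndec_of_starEss (he : GrLC.IsStarEss (GrLC.quotGr 𝒜 p) 𝓔 e) :
    GrLC.IsStarIndec R 𝓔 := by
  refine ⟨?_, ?_⟩
  · have : Nontrivial (R ⧸ p.toIdeal) := Ideal.Quotient.nontrivial_iff.mpr hp.ne_top
    exact he.injective.nontrivial
  · intro P Q hP hQ hPQ
    by_contra hcon
    push Not at hcon
    obtain ⟨a, ha, haP⟩ := exists_mk_mem_of_starEss 𝒜 p 𝓔 he hP hcon.1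
    obtain ⟨b, hb, hbQ⟩ := exists_mk_mem_of_starEss 𝒜 p 𝓔 he hQ hcon.2
    have h1 : e (Ideal.Quotient.mk p.toIdeal (b * a)) ∈ P := by
      have : Ideal.Quotient.mk p.toIdeal (b * a) = b • Ideal.Quotient.mk p.toIdeal a := rfl
      rw [this, map_smul]
      exact P.smul_mem b haP
    have h2 : e (Ideal.Quotient.mk p.toIdeal (b * a)) ∈ Q := by
      have : Ideal.Quotient.mk p.toIdeal (b * a) = a • Ideal.Quotient.mk p.toIdeal b := by
        rw [mul_comm]; rfl
      rw [this, map_smul]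
      exact Q.smul_mem a hbQ
    have h3 : e (Ideal.Quotient.mk p.toIdeal (b * a)) ∈ P ⊓ Q := ⟨h1, h2⟩
    rw [hPQ.inf_eq_bot, Submodule.mem_bot] at h3
    have h4 : Ideal.Quotient.mk p.toIdeal (b * a) = 0 := he.injective (by rw [h3, map_zero])
    rw [Ideal.Quotient.eq_zero_iff_mem] at h4
    rcases hp.mem_or_mem h4 with h | h
    · exact hb h
    · exact ha h

theorem lsmul_isGrHomDeg {g : ι} {r : R} (hr : r ∈ 𝒜 g) :
    GrLC.IsGrHomDeg 𝓔 𝓔 (LinearMap.lsmul R E r) g := by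
  intro k x hx
  rw [add_comm]
  exact SetLike.GradedSMul.smul_mem (A := 𝒜) (B := 𝓔) hr hx

include hp in
theorem smul_injective_of_starEss (he : GrLC.IsStarEss (GrLC.quotGr 𝒜 p) 𝓔 e) {g : ι} {r : R}
    (hr : r ∈ 𝒜 g) (hrp : r ∉ p.toIdeal) : Function.Injective (fun x : E => r • x) := by
  have hμ := lsmul_isGrHomDeg 𝒜 𝓔 hr
  have hker := ker_isHomogeneous_deg 𝓔 𝓔 hμ
  have h0 : LinearMap.ker (LinearMap.lsmul R E r) = ⊥ := by
    by_contra hne
    obtain ⟨a, ha, hamem⟩ := exists_mk_mem_of_starEss 𝒜 p 𝓔 he hker hne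
    rw [LinearMap.mem_ker, LinearMap.lsmul_apply, ← map_smul] at hamem
    have h1 : r • Ideal.Quotient.mk p.toIdeal a = 0 := he.injective (by rw [hamem, map_zero])
    change Ideal.Quotient.mk p.toIdeal (r * a) = 0 at h1
    rw [Ideal.Quotient.eq_zero_iff_mem] at h1
    rcases hp.mem_or_mem h1 with h | h
    · exact hrp h
    · exact ha h
  exact LinearMap.ker_eq_bot.mp h0

include hp in
/-- multiplication by a homogeneous element outside `p` is bijective on `*E(R/p)` -/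
theorem smul_bijective_of_starInjHull (he : GrLC.IsStarInjHull 𝒜 (GrLC.quotGr 𝒜 p) 𝓔 e) {g : ι}
    {r : R} (hr : r ∈ 𝒜 g) (hrp : r ∉ p.toIdeal) : Function.Bijective (fun x : E => r • x) := by
  have hinj := smul_injective_of_starEss 𝒜 p 𝓔 he.toIsStarEss hr hrp
  refine ⟨hinj, ?_⟩
  have hμ := lsmul_isGrHomDeg 𝒜 𝓔 hr
  obtain ⟨A, eA, hA⟩ := exists_gmod_shift 𝒜 𝓔 g
  let f : A.carrier →ₗ[R] (GrLC.GMod.of 𝒜 E 𝓔).carrier :=
    (LinearMap.lsmul R E r) ∘ₗ eA.symm.toLinearMap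
  have hf : GrLC.IsGrHom A.gr (GrLC.GMod.of 𝒜 E 𝓔).gr f := by
    intro k x hx
    have h1 : eA.symm x ∈ 𝓔 (k - g) := by
      rw [← hA, LinearEquiv.apply_symm_apply]
      exact hx
    have h2 := hμ (k - g) _ h1
    rw [sub_add_cancel] at h2
    exact h2
  have hfinj : Function.Injective f := fun x y hxy => eA.symm.injective (hinj hxy)
  have hγ : GrLC.IsGrHomDeg A.gr 𝓔 eA.symm.toLinearMap (-g) := by
    intro k x hx
    rw [← sub_eq_add_neg]
    change eA.symm x ∈ 𝓔 (k - g)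
    rw [← hA, LinearEquiv.apply_symm_apply]
    exact hx
  obtain ⟨h0, hh0, hh0f⟩ := starInj_extend_deg 𝒜 𝓔 he.starInj A (GrLC.GMod.of 𝒜 E 𝓔) f hf hfinj
    (-g) eA.symm.toLinearMap hγ
  let h : E →ₗ[R] E := h0
  have hh : GrLC.IsGrHomDeg 𝓔 𝓔 h (-g) := hh0
  have hhr : ∀ x : E, h (r • x) = x := by
    intro x
    have := LinearMap.congr_fun hh0f (eA x)
    change h0 (r • eA.symm (eA x)) = eA.symm (eA x) at this
    rw [LinearEquiv.symm_apply_apply] at this
    exact this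
  have hP := range_isHomogeneous_deg 𝓔 𝓔 hμ
  have hQ := ker_isHomogeneous_deg 𝓔 𝓔 hh
  have hcompl : IsCompl (LinearMap.range (LinearMap.lsmul R E r)) (LinearMap.ker h) := by
    constructor
    · rw [disjoint_iff, eq_bot_iff]
      rintro y ⟨⟨x, rfl⟩, hy2⟩
      rw [SetLike.mem_coe, LinearMap.mem_ker, LinearMap.lsmul_apply, hhr] at hy2
      rw [hy2, map_zero]
      exact zero_mem _
    · rw [codisjoint_iff, eq_top_iff]
      intro y _
      have : y = r • h y + (y - r • h y) := by abel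
      rw [this]
      refine Submodule.add_mem_sup ⟨h y, rfl⟩ ?_
      rw [LinearMap.mem_ker, map_sub, hhr, sub_self]
  have hindec := starIndec_of_starEss 𝒜 p 𝓔 he.toIsStarEss
  rcases hindec.2 _ _ hP hQ hcompl with h1 | h1
  · exfalso
    have h2 : r • e 1 ∈ LinearMap.range (LinearMap.lsmul R E r) := ⟨e 1, rfl⟩
    rw [h1, Submodule.mem_bot, ← map_mk_eq_smul] at h2
    have h3 : Ideal.Quotient.mk p.toIdeal r = 0 := he.injective (by rw [h2, map_zero])
    exact hrp (Ideal.Quotient.eq_zero_iff_mem.mp h3)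
  · intro y
    refine ⟨h y, ?_⟩
    have hhinj : Function.Injective h := LinearMap.ker_eq_bot.mp h1
    exact hhinj (hhr (h y))

end Prime

section Ungraded

open InjHull

variable {R : Type u} [CommRing R]

/-- composition of essential injections -/
theorem isEssentialInj_comp {M E E' : Type u} [AddCommGroup M] [Module R M] [AddCommGroup E]
    [Module R E] [AddCommGroup E'] [Module R E'] {f : M →ₗ[R] E} {g : E →ₗ[R] E'}
    (hf : IsEssentialInj f) (hg : IsEssentialInj g) : IsEssentialInj (g ∘ₗ f) := by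
  rw [IH.isEssentialInj_iff] at hf hg ⊢
  refine ⟨hg.1.comp hf.1, ?_⟩
  intro z hz
  obtain ⟨r, hrz, y, hy⟩ := hg.2 z hz
  have hy0 : y ≠ 0 := by
    intro h
    apply hrz
    rw [← hy, h, map_zero]
  obtain ⟨s, hsy, x, hx⟩ := hf.2 y hy0
  refine ⟨s * r, ?_, x, ?_⟩
  · rw [mul_smul, ← hy, ← map_smul]
    intro h
    exact hsy (hg.1 (by rw [h, map_zero]))
  · rw [LinearMap.comp_apply, hx, map_smul, hy, mul_smul]

/-- an essential extension of `R ⧸ I` over a Noetherian ring is `I`-power torsion -/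
theorem powerTorsion_of_essential_quot [IsNoetherianRing R] (I : Ideal R) {E : Type u}
    [AddCommGroup E] [Module R E] {f : (R ⧸ I) →ₗ[R] E} (hf : IsEssentialInj f) (y : E) :
    ∃ n : ℕ, ∀ a ∈ I ^ n, a • y = 0 := by
  obtain ⟨E', _, _, g, hg⟩ := IH.exists_injectiveHull (R := R) E
  haveI := hg.isInjective
  haveI : Module.Injective R (DRing.torsionSub I E') := LC.torsionSub_injective I E'
  obtain ⟨N, hN⟩ := IH.exists_isCompl_of_injective (DRing.torsionSub I E')
  have hgf := isEssentialInj_comp hf hg.toIsEssentialInj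
  have hle : LinearMap.range (g ∘ₗ f) ≤ DRing.torsionSub I E' := by
    rintro _ ⟨c, rfl⟩
    refine ⟨1, fun a ha => ?_⟩
    rw [pow_one] at ha
    rw [← map_smul]
    obtain ⟨c', rfl⟩ := Ideal.Quotient.mk_surjective c
    have : a • (Ideal.Quotient.mk I c') = 0 := by
      change Ideal.Quotient.mk I (a * c') = 0
      exact Ideal.Quotient.eq_zero_iff_mem.mpr (I.mul_mem_right _ ha)
    rw [this, map_zero]
  have hN0 : N = ⊥ := by
    by_contra hne
    refine hgf.essential N hne ?_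
    rw [eq_bot_iff]
    calc N ⊓ LinearMap.range (g ∘ₗ f) ≤ N ⊓ DRing.torsionSub I E' := inf_le_inf_left _ hle
      _ = ⊥ := by rw [inf_comm]; exact hN.inf_eq_bot
  have htop : DRing.torsionSub I E' = ⊤ := by
    have := hN.sup_eq_top
    rwa [hN0, sup_bot_eq] at this
  have : g y ∈ DRing.torsionSub I E' := by rw [htop]; exact Submodule.mem_top
  obtain ⟨n, hn⟩ := this
  refine ⟨n, fun a ha => ?_⟩
  apply hg.injective
  rw [map_smul, hn a ha, map_zero]

/-- in an essential extension of `R ⧸ p` (`p` prime), a prime which is the annihilator of an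
element equals `p` -/
theorem eq_of_annihilator_eq_of_essential_quot (p : Ideal R) [hp : p.IsPrime] {E : Type u}
    [AddCommGroup E] [Module R E] {f : (R ⧸ p) →ₗ[R] E} (hf : IsEssentialInj f)
    (q : Ideal R) [hq : q.IsPrime] (x : E) (hx : ∀ r : R, r • x = 0 ↔ r ∈ q) : q = p := by
  have hx0 : x ≠ 0 := by
    intro h
    apply hq.ne_top
    rw [Ideal.eq_top_iff_one, ← hx, h, smul_zero]
  obtain ⟨r, hrx, c, hc⟩ := ((IH.isEssentialInj_iff f).mp hf).2 x hx0
  obtain ⟨c', rfl⟩ := Ideal.Quotient.mk_surjective c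
  have hc' : c' ∉ p := by
    intro h
    apply hrx
    rw [← hc, Ideal.Quotient.eq_zero_iff_mem.mpr h, map_zero]
  have hr : r ∉ q := fun h => hrx ((hx r).mpr h)
  ext s
  constructor
  · intro hs
    -- s • (r • x) = 0, so s • f (mk c') = 0, so s * c' ∈ p
    have h1 : s • f (Ideal.Quotient.mk p c') = 0 := by
      rw [hc, smul_smul, mul_comm, mul_smul, (hx s).mpr hs, smul_zero]
    rw [← map_smul] at h1
    have h2 : s • Ideal.Quotient.mk p c' = 0 := hf.injective (by rw [h1, map_zero])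
    change Ideal.Quotient.mk p (s * c') = 0 at h2
    rw [Ideal.Quotient.eq_zero_iff_mem] at h2
    rcases hp.mem_or_mem h2 with h | h
    · exact h
    · exact absurd h hc'
  · intro hs
    have h1 : s • f (Ideal.Quotient.mk p c') = 0 := by
      rw [← map_smul]
      have : s • Ideal.Quotient.mk p c' = 0 := by
        change Ideal.Quotient.mk p (s * c') = 0
        exact Ideal.Quotient.eq_zero_iff_mem.mpr (p.mul_mem_right _ hs)
      rw [this, map_zero]
    rw [hc, smul_smul] at h1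
    have h2 := (hx (s * r)).mp h1
    rcases hq.mem_or_mem h2 with h | h
    · exact h
    · exact absurd h hr

end Ungraded

section Prime2

variable (p : HomogeneousIdeal 𝒜)
variable {E : Type u} [AddCommGroup E] [Module R E]
  (𝓔 : ι → AddSubgroup E) [DirectSum.Decomposition 𝓔] [SetLike.GradedSMul 𝒜 𝓔]
  {e : (R ⧸ p.toIdeal) →ₗ[R] E}

theorem isEssentialInj_of_starEss_quot (he : GrLC.IsStarEss (GrLC.quotGr 𝒜 p) 𝓔 e) :
    InjHull.IsEssentialInj e :=
  isEssentialInj_of_isStarEss' 𝒜 𝓔 (GrLC.quotGr 𝒜 p) he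
    (range_isHomogeneous_of_quot 𝒜 p 𝓔 ((isGrHomDeg_zero_iff _ _ _).mpr he.grHom))

/-- a *essential extension of `R ⧸ p` is `p`-torsion -/
theorem gam_eq_top_of_starEss_quot [IsNoetherianRing R]
    (he : GrLC.IsStarEss (GrLC.quotGr 𝒜 p) 𝓔 e) : GrLC.gam p.toIdeal E = ⊤ := by
  rw [eq_top_iff]
  intro y _
  exact powerTorsion_of_essential_quot p.toIdeal (isEssentialInj_of_starEss_quot 𝒜 p 𝓔 he) y

/-- `e 1` has annihilator `p` -/
theorem smul_map_one_eq_zero_iff (he : Function.Injective e) (r : R) :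
    r • e 1 = 0 ↔ r ∈ p.toIdeal := by
  rw [← map_mk_eq_smul, ← Ideal.Quotient.eq_zero_iff_mem]
  constructor
  · intro h
    exact he (by rw [h, map_zero])
  · intro h
    rw [h, map_zero]

end Prime2

end Gr

end Groth.Agent.H6
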