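import Groth.Agent.Lib.Helper6.GrSubQuot

/-! Coarsening a grading along a homomorphism of grading groups. -/

universe u
open DirectSum
set_option linter.unusedSectionVars false

namespace Groth.Agent.H6

namespace Gr

variable {ι κ : Type} [AddCommGroup ι] [DecidableEq ι] [AddCommGroup κ] [DecidableEq κ]
  (φ : ι →+ κ)

section Module

variable {M : Type*} [AddCommGroup M] (ℳ : ι → AddSubgroup M)

/-- the coarsened pieces -/
def coarse (h : κ) : AddSubgroup M := ⨆ g ∈ φ ⁻¹' {h}, ℳ g

theorem le_coarse (g : ι) : ℳ g ≤ coarse φ ℳ (φ g) :=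
  le_iSup₂_of_le g (by simp) le_rfl

theorem mem_coarse_of_mem {g : ι} {m : M} (hm : m ∈ ℳ g) {h : κ} (hg : φ g = h) :
    m ∈ coarse φ ℳ h := hg ▸ le_coarse φ ℳ g hm

/-- induction principle for elements of a coarsened piece -/
theorem coarse_induction {h : κ} {motive : M → Prop} (zero : motive 0)
    (mem : ∀ g, φ g = h → ∀ m ∈ ℳ g, motive m)
    (add : ∀ m m', motive m → motive m' → motive (m + m')) {x : M} (hx : x ∈ coarse φ ℳ h) :
    motive x := by
  unfold coarse at hx
  induction hx using AddSubgroup.iSup_induction' with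
  | hp g x hx =>
    induction hx using AddSubgroup.iSup_induction' with
    | hp hg x hx => exact mem g hg x hx
    | h1 => exact zero
    | hadd x y _ _ hx hy => exact add x y hx hy
  | h1 => exact zero
  | hadd x y _ _ hx hy => exact add x y hx hy

variable [DirectSum.Decomposition ℳ]

/-- the projection onto a coarsened piece -/
noncomputable def cproj (h : κ) : M →+ M :=
  (DFinsupp.sumAddHom (fun g => if φ g = h then (ℳ g).subtype else 0)).comp
    (DirectSum.decomposeAddEquiv ℳ).toAddMonoidHom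

theorem cproj_of_mem {g : ι} {m : M} (hm : m ∈ ℳ g) (h : κ) :
    cproj φ ℳ h m = if φ g = h then m else 0 := by
  unfold cproj
  rw [AddMonoidHom.comp_apply]
  have h1 : (DirectSum.decomposeAddEquiv ℳ).toAddMonoidHom m =
      DirectSum.of (fun i => ℳ i) g ⟨m, hm⟩ := DirectSum.decompose_of_mem ℳ hm
  rw [h1]
  have h2 : DFinsupp.sumAddHom (fun g => if φ g = h then (ℳ g).subtype else 0)
      (DirectSum.of (fun i => ℳ i) g ⟨m, hm⟩) =
        (if φ g = h then (ℳ g).subtype else 0) ⟨m, hm⟩ := DFinsupp.sumAddHom_single _ _ _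
  rw [h2]
  split_ifs <;> rfl

theorem cproj_mem (h : κ) (m : M) : cproj φ ℳ h m ∈ coarse φ ℳ h := by
  induction m using induction_on ℳ with
  | zero => rw [map_zero]; exact zero_mem _
  | homogeneous g m hm =>
    rw [cproj_of_mem φ ℳ hm]
    split_ifs with hg
    · exact mem_coarse_of_mem φ ℳ hm hg
    · exact zero_mem _
  | add m m' h1 h2 => rw [map_add]; exact add_mem h1 h2

theorem cproj_same {h : κ} {x : M} (hx : x ∈ coarse φ ℳ h) : cproj φ ℳ h x = x := by
  refine coarse_induction φ ℳ (motive := fun x => cproj φ ℳ h x = x) ?_ ?_ ?_ hx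
  · rw [map_zero]
  · intro g hg m hm
    rw [cproj_of_mem φ ℳ hm, if_pos hg]
  · intro m m' h1 h2
    rw [map_add, h1, h2]

theorem cproj_ne {h h' : κ} {x : M} (hx : x ∈ coarse φ ℳ h) (hne : h ≠ h') :
    cproj φ ℳ h' x = 0 := by
  refine coarse_induction φ ℳ (motive := fun x => cproj φ ℳ h' x = 0) ?_ ?_ ?_ hx
  · rw [map_zero]
  · intro g hg m hm
    rw [cproj_of_mem φ ℳ hm, if_neg (hg ▸ hne)]
  · intro m m' h1 h2
    rw [map_add, h1, h2, add_zero]

theorem coarse_isInternal : DirectSum.IsInternal (coarse φ ℳ) := by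
  refine isInternal_of_proj (coarse φ ℳ) (cproj φ ℳ) (fun h x hx => cproj_same φ ℳ hx)
    (fun h h' x hx hne => cproj_ne φ ℳ hx hne) ?_
  intro x
  induction x using induction_on ℳ with
  | zero => exact zero_mem _
  | homogeneous g m hm =>
    exact AddSubgroup.mem_iSup_of_mem (φ g) (le_coarse φ ℳ g hm)
  | add m m' h1 h2 => exact add_mem h1 h2

/-- the decomposition of the coarsened grading -/
@[instance_reducible]
noncomputable def coarseDecomposition : DirectSum.Decomposition (coarse φ ℳ) :=
  (coarse_isInternal φ ℳ).chooseDecomposition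

/-- for any decomposition instance on the coarsened grading, the components are the `cproj` -/
theorem proj_coarse [DirectSum.Decomposition (coarse φ ℳ)] (h : κ) (x : M) :
    proj (coarse φ ℳ) h x = cproj φ ℳ h x :=
  proj_eq_of_proj (coarse φ ℳ) (cproj φ ℳ) (fun h x hx => cproj_same φ ℳ hx)
    (fun h h' x hx hne => cproj_ne φ ℳ hx hne) h x

/-- `cproj` preserves the fine pieces -/
theorem cproj_mem_of_mem {g : ι} {m : M} (hm : m ∈ ℳ g) (h : κ) : cproj φ ℳ h m ∈ ℳ g := by
  rw [cproj_of_mem φ ℳ hm]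
  split_ifs
  · exact hm
  · exact zero_mem _

end Module

section Ring

variable {R : Type u} [CommRing R] (𝒜 : ι → AddSubgroup R) [GradedRing 𝒜]

theorem coarse_gradedMonoid : SetLike.GradedMonoid (coarse φ 𝒜) where
  one_mem := mem_coarse_of_mem φ 𝒜 (SetLike.GradedOne.one_mem (A := 𝒜)) (map_zero φ)
  mul_mem := by
    intro h h' x y hx hy
    refine coarse_induction φ 𝒜 (motive := fun x => x * y ∈ coarse φ 𝒜 (h + h')) ?_ ?_ ?_ hx
    · rw [zero_mul]; exact zero_mem _
    · intro g hg x hx
      refine coarse_induction φ 𝒜 (motive := fun y => x * y ∈ coarse φ 𝒜 (h + h')) ?_ ?_ ?_ hy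
      · rw [mul_zero]; exact zero_mem _
      · intro g' hg' y hy
        exact mem_coarse_of_mem φ 𝒜 (SetLike.GradedMul.mul_mem (A := 𝒜) hx hy)
          (by rw [map_add, hg, hg'])
      · intro y y' h1 h2
        rw [mul_add]; exact add_mem h1 h2
    · intro x x' h1 h2
      rw [add_mul]; exact add_mem h1 h2

/-- the coarsened graded ring -/
@[instance_reducible]
noncomputable def coarseGradedRing : GradedRing (coarse φ 𝒜) :=
  { coarse_gradedMonoid φ 𝒜, coarseDecomposition φ 𝒜 with }

variable {M : Type u} [AddCommGroup M] [Module R M] (ℳ : ι → AddSubgroup M)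
  [SetLike.GradedSMul 𝒜 ℳ]

theorem coarse_gradedSMul : SetLike.GradedSMul (coarse φ 𝒜) (coarse φ ℳ) where
  smul_mem := by
    intro h h' r m hr hm
    refine coarse_induction φ 𝒜 (motive := fun r => r • m ∈ coarse φ ℳ (h +ᵥ h')) ?_ ?_ ?_ hr
    · rw [zero_smul]; exact zero_mem _
    · intro g hg r hr
      refine coarse_induction φ ℳ (motive := fun m => r • m ∈ coarse φ ℳ (h +ᵥ h')) ?_ ?_ ?_ hm
      · rw [smul_zero]; exact zero_mem _
      · intro g' hg' m hm
        exact mem_coarse_of_mem φ ℳ (SetLike.GradedSMul.smul_mem (A := 𝒜) (B := ℳ) hr hm)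
          (by rw [vadd_eq_add, vadd_eq_add, map_add, hg, hg'])
      · intro m m' h1 h2
        rw [smul_add]; exact add_mem h1 h2
    · intro r r' h1 h2
      rw [add_smul]; exact add_mem h1 h2

end Ring

end Gr

end Groth.Agent.H6
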