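import Groth.Agent.Lib.Helper6.GrCoarse

/-! Coarsening: homogeneous ideals and cores. -/

universe u
open DirectSum
set_option linter.unusedSectionVars false

namespace Groth.Agent.H6

namespace Gr

variable {ι κ κ' : Type} [AddCommGroup ι] [DecidableEq ι] [AddCommGroup κ] [DecidableEq κ]
  [AddCommGroup κ'] [DecidableEq κ'] (φ : ι →+ κ) (ψ : ι →+ κ')

section Module

variable {R : Type u} [CommRing R] {M : Type u} [AddCommGroup M] [Module R M]
  (ℳ : ι → AddSubgroup M) [DirectSum.Decomposition ℳ]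

theorem cproj_mem_of_isHomogeneous {P : Submodule R M} (hP : P.IsHomogeneous ℳ) {x : M}
    (hx : x ∈ P) (h : κ) : cproj φ ℳ h x ∈ P := by
  obtain ⟨s, hs⟩ := exists_finset_sum_proj ℳ x
  rw [← hs, map_sum]
  refine P.sum_mem fun g _ => ?_
  rw [cproj_of_mem φ ℳ (proj_mem ℳ g x)]
  split_ifs
  · exact hP g hx
  · exact P.zero_mem

theorem isHomogeneous_coarse [DirectSum.Decomposition (coarse φ ℳ)] {P : Submodule R M}
    (hP : P.IsHomogeneous ℳ) : P.IsHomogeneous (coarse φ ℳ) := by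
  intro h x hx
  change proj (coarse φ ℳ) h x ∈ P
  rw [proj_coarse]
  exact cproj_mem_of_isHomogeneous φ ℳ hP hx h

/-- `cproj` along `φ` preserves the pieces coarsened along `ψ` -/
theorem cproj_mem_coarse {h' : κ'} {x : M} (hx : x ∈ coarse ψ ℳ h') (h : κ) :
    cproj φ ℳ h x ∈ coarse ψ ℳ h' := by
  refine coarse_induction ψ ℳ (motive := fun x => cproj φ ℳ h x ∈ coarse ψ ℳ h') ?_ ?_ ?_ hx
  · rw [map_zero]; exact zero_mem _
  · intro g hg m hm
    exact mem_coarse_of_mem ψ ℳ (cproj_mem_of_mem φ ℳ hm h) hg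
  · intro m m' h1 h2
    rw [map_add]; exact add_mem h1 h2

variable (hinj : ∀ g g' : ι, φ g = φ g' → ψ g = ψ g' → g = g')

include hinj in
theorem proj_eq_cproj_cproj (g : ι) (x : M) :
    proj ℳ g x = cproj ψ ℳ (ψ g) (cproj φ ℳ (φ g) x) := by
  induction x using induction_on ℳ with
  | zero => simp
  | homogeneous g' m hm =>
    rw [cproj_of_mem φ ℳ hm]
    by_cases hgg : g' = g
    · subst hgg
      rw [if_pos rfl, cproj_of_mem ψ ℳ hm, if_pos rfl, proj_of_mem ℳ hm]
    · rw [proj_of_mem_ne ℳ hm hgg]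
      split_ifs with h1
      · rw [cproj_of_mem ψ ℳ hm, if_neg]
        intro h2
        exact hgg (hinj g' g h1 h2)
      · rw [map_zero]
  | add m m' h1 h2 => rw [map_add, map_add, map_add, h1, h2]

include hinj in
theorem isHomogeneous_of_coarse_both [DirectSum.Decomposition (coarse φ ℳ)]
    [DirectSum.Decomposition (coarse ψ ℳ)] {P : Submodule R M}
    (h1 : P.IsHomogeneous (coarse φ ℳ)) (h2 : P.IsHomogeneous (coarse ψ ℳ)) :
    P.IsHomogeneous ℳ := by
  intro g x hx
  change proj ℳ g x ∈ P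
  rw [proj_eq_cproj_cproj φ ψ ℳ hinj, ← proj_coarse, ← proj_coarse]
  exact h2 _ (h1 _ hx)

end Module

section Core

variable {R : Type u} [CommRing R] (𝒜 : ι → AddSubgroup R) [GradedRing 𝒜]

omit [AddCommGroup κ] [DecidableEq κ] [AddCommGroup κ'] [DecidableEq κ'] in
theorem le_core_of_isHomogeneous {I J : Ideal R} (hJ : J.IsHomogeneous 𝒜) (hJI : J ≤ I) :
    J ≤ Ideal.homogeneousCore' 𝒜 I := by
  have h1 : (Ideal.homogeneousCore 𝒜 J).toIdeal = J := hJ.toIdeal_homogeneousCore_eq_self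
  rw [← h1]
  exact Ideal.homogeneousCore'_mono 𝒜 hJI

omit [AddCommGroup κ] [DecidableEq κ] [AddCommGroup κ'] [DecidableEq κ'] in
theorem core_isHomogeneous (I : Ideal R) : (Ideal.homogeneousCore' 𝒜 I).IsHomogeneous 𝒜 :=
  (Ideal.homogeneousCore 𝒜 I).isHomogeneous

variable [GradedRing (coarse φ 𝒜)] [GradedRing (coarse ψ 𝒜)]

/-- the core along `ψ` of an ideal homogeneous along `φ` is homogeneous along `φ` -/
theorem core_coarse_isHomogeneous {q : Ideal R} (hq : q.IsHomogeneous (coarse φ 𝒜)) :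
    (Ideal.homogeneousCore' (coarse ψ 𝒜) q).IsHomogeneous (coarse φ 𝒜) := by
  have hspan : Ideal.homogeneousCore' (coarse ψ 𝒜) q =
      Ideal.span {x | x ∈ q ∧ SetLike.IsHomogeneousElem (coarse ψ 𝒜) x ∧
        SetLike.IsHomogeneousElem (coarse φ 𝒜) x} := by
    apply le_antisymm
    · unfold Ideal.homogeneousCore'
      rw [Ideal.span_le]
      rintro _ ⟨⟨x, h', hx'⟩, hxq, rfl⟩
      change x ∈ Ideal.span _
      have hxq' : x ∈ q := hxq
      obtain ⟨s, hs⟩ := exists_finset_sum_proj (coarse φ 𝒜) x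
      rw [← hs]
      refine Ideal.sum_mem _ fun h _ => Ideal.subset_span ⟨hq h hxq', ⟨h', ?_⟩, ⟨h, proj_mem _ h x⟩⟩
      rw [proj_coarse]
      exact cproj_mem_coarse φ ψ 𝒜 hx' h
    · rw [Ideal.span_le]
      rintro x ⟨hxq, hx', -⟩
      exact Ideal.subset_span ⟨⟨x, hx'⟩, hxq, rfl⟩
  rw [hspan]
  exact Ideal.homogeneous_span (coarse φ 𝒜) _ (fun x hx => hx.2.2)

variable (hinj : ∀ g g' : ι, φ g = φ g' → ψ g = ψ g' → g = g')

include hinj in
/-- the core can be computed in two steps -/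
theorem core_coarse_core (p : Ideal R) :
    Ideal.homogeneousCore' (coarse ψ 𝒜) (Ideal.homogeneousCore' (coarse φ 𝒜) p) =
      Ideal.homogeneousCore' 𝒜 p := by
  apply le_antisymm
  · apply le_core_of_isHomogeneous 𝒜
    · exact isHomogeneous_of_coarse_both φ ψ 𝒜 hinj
        (core_coarse_isHomogeneous φ ψ 𝒜 (core_isHomogeneous (coarse φ 𝒜) p))
        (core_isHomogeneous (coarse ψ 𝒜) _)
    · exact (Ideal.homogeneousCore'_le _ _).trans (Ideal.homogeneousCore'_le _ _)
  · apply le_core_of_isHomogeneous (coarse ψ 𝒜)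
    · exact isHomogeneous_coarse ψ 𝒜 (core_isHomogeneous 𝒜 p)
    · apply le_core_of_isHomogeneous (coarse φ 𝒜)
      · exact isHomogeneous_coarse φ 𝒜 (core_isHomogeneous 𝒜 p)
      · exact Ideal.homogeneousCore'_le _ _

end Core

end Gr

end Groth.Agent.H6
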