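import Groth.Agent.Lib.Helper6.GrHull
import Groth.Agent.Lib.Helper6.InjHull

/-! The cofree graded module `Cof 𝒜 I = ⊕_g I` on an `R`-module `I` (right adjoint of the
forgetful functor from graded modules to modules); enough *injectives. -/

universe u
open DirectSum
set_option linter.unusedSectionVars false

namespace Groth.Agent.H6

namespace Gr

variable {ι : Type} [AddCommGroup ι] [DecidableEq ι]
variable {R : Type u} [CommRing R] (𝒜 : ι → AddSubgroup R) [GradedRing 𝒜]
variable (I : Type u) [AddCommGroup I] [Module R I]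

/-- the cofree graded module on `I`: the carrier -/
def Cof (_𝒜 : ι → AddSubgroup R) (I : Type u) [AddCommGroup I] : Type u := ι →₀ I

namespace Cof

noncomputable instance : AddCommGroup (Cof 𝒜 I) := inferInstanceAs (AddCommGroup (ι →₀ I))

/-- the action of a homogeneous element of degree `h` -/
noncomputable def actHom (h : ι) : 𝒜 h →+ AddMonoid.End (ι →₀ I) where
  toFun r := (Finsupp.mapDomain.addMonoidHom (fun g => h + g)).comp
      (DistribSMul.toAddMonoidHom (ι →₀ I) (r : R))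
  map_zero' := by
    ext x : 1
    change Finsupp.mapDomain (fun g => h + g) ((0 : R) • x) = 0
    rw [zero_smul, Finsupp.mapDomain_zero]
  map_add' r s := by
    ext x : 1
    change Finsupp.mapDomain (fun g => h + g) (((r : R) + (s : R)) • x) =
      Finsupp.mapDomain (fun g => h + g) ((r : R) • x) +
        Finsupp.mapDomain (fun g => h + g) ((s : R) • x)
    rw [add_smul, Finsupp.mapDomain_add]

theorem actHom_apply (h : ι) (r : 𝒜 h) (x : ι →₀ I) :
    actHom 𝒜 I h r x = Finsupp.mapDomain (fun g => h + g) ((r : R) • x) := rfl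

theorem actHom_one : actHom 𝒜 I 0 (GradedMonoid.GOne.one (A := fun i => 𝒜 i)) = 1 := by
  ext x : 1
  rw [actHom_apply, SetLike.coe_gOne, one_smul]
  have : (fun g : ι => 0 + g) = id := funext fun g => zero_add g
  rw [this, Finsupp.mapDomain_id]
  rfl

theorem actHom_mul {i j : ι} (a : 𝒜 i) (b : 𝒜 j) :
    actHom 𝒜 I (i + j) (GradedMonoid.GMul.mul (A := fun i => 𝒜 i) a b) = actHom 𝒜 I i a * actHom 𝒜 I j b := by
  ext x : 1
  rw [actHom_apply, SetLike.coe_gMul]
  change _ = actHom 𝒜 I i a (actHom 𝒜 I j b x)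
  rw [actHom_apply, actHom_apply]
  simp only [Finsupp.mapDomain_smul]
  rw [← Finsupp.mapDomain_comp, mul_smul]
  congr 3
  funext g
  exact add_assoc i j g

/-- the action of `R` -/
noncomputable def act : R →+* AddMonoid.End (ι →₀ I) :=
  (DirectSum.toSemiring (actHom 𝒜 I) (actHom_one 𝒜 I) (fun a b => actHom_mul 𝒜 I a b)).comp
    (DirectSum.decomposeRingEquiv 𝒜).toRingHom

noncomputable instance : Module R (Cof 𝒜 I) := Module.compHom (ι →₀ I) (act 𝒜 I)

/-- the inclusion of the copy of `I` in degree `g` -/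
noncomputable def single (g : ι) : I →+ Cof 𝒜 I := Finsupp.singleAddHom g

/-- the coordinate of degree `g` -/
noncomputable def eval (g : ι) : Cof 𝒜 I →+ I := Finsupp.applyAddHom g

variable {𝒜 I}

theorem eval_single_same (g : ι) (v : I) : eval 𝒜 I g (single 𝒜 I g v) = v :=
  Finsupp.single_eq_same

theorem eval_single_ne {g h : ι} (hne : g ≠ h) (v : I) : eval 𝒜 I h (single 𝒜 I g v) = 0 :=
  Finsupp.single_eq_of_ne' hne

theorem ext_eval {x y : Cof 𝒜 I} (h : ∀ g, eval 𝒜 I g x = eval 𝒜 I g y) : x = y :=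
  Finsupp.ext h

theorem induction_single {p : Cof 𝒜 I → Prop} (x : Cof 𝒜 I) (zero : p 0)
    (add : ∀ x y, p x → p y → p (x + y)) (sing : ∀ g v, p (single 𝒜 I g v)) : p x :=
  Finsupp.induction_linear x zero add sing

theorem smul_single {h : ι} {r : R} (hr : r ∈ 𝒜 h) (g : ι) (v : I) :
    r • single 𝒜 I g v = single 𝒜 I (h + g) (r • v) := by
  change act 𝒜 I r (Finsupp.single g v) = Finsupp.single (h + g) (r • v)
  unfold act
  rw [RingHom.comp_apply]
  have : (DirectSum.decomposeRingEquiv 𝒜).toRingHom r = DirectSum.of (fun i => 𝒜 i) h ⟨r, hr⟩ :=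
    DirectSum.decompose_of_mem 𝒜 hr
  rw [this, DirectSum.toSemiring_of, actHom_apply, Finsupp.smul_single, Finsupp.mapDomain_single]

variable (𝒜 I)

/-- the pieces -/
noncomputable def gr (g : ι) : AddSubgroup (Cof 𝒜 I) := (single 𝒜 I g).range

variable {𝒜 I}

theorem mem_gr {g : ι} {x : Cof 𝒜 I} : x ∈ gr 𝒜 I g ↔ ∃ v, single 𝒜 I g v = x := Iff.rfl

theorem single_mem_gr (g : ι) (v : I) : single 𝒜 I g v ∈ gr 𝒜 I g := ⟨v, rfl⟩

theorem eq_single_eval_of_mem {g : ι} {x : Cof 𝒜 I} (hx : x ∈ gr 𝒜 I g) :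
    x = single 𝒜 I g (eval 𝒜 I g x) := by
  obtain ⟨v, rfl⟩ := hx
  rw [eval_single_same]

variable (𝒜 I)

/-- the projections -/
noncomputable def pr (g : ι) : Cof 𝒜 I →+ Cof 𝒜 I := (single 𝒜 I g).comp (eval 𝒜 I g)

theorem isInternal : DirectSum.IsInternal (gr 𝒜 I) := by
  refine isInternal_of_proj (gr 𝒜 I) (pr 𝒜 I) ?_ ?_ ?_
  · rintro g _ ⟨v, rfl⟩
    change single 𝒜 I g (eval 𝒜 I g (single 𝒜 I g v)) = _
    rw [eval_single_same]
  · rintro g h _ ⟨v, rfl⟩ hne
    change single 𝒜 I h (eval 𝒜 I h (single 𝒜 I g v)) = _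
    rw [eval_single_ne hne, map_zero]
  · intro x
    induction x using induction_single with
    | zero => exact zero_mem _
    | add x y hx hy => exact add_mem hx hy
    | sing g v => exact AddSubgroup.mem_iSup_of_mem g (single_mem_gr g v)

noncomputable instance : DirectSum.Decomposition (gr 𝒜 I) := (isInternal 𝒜 I).chooseDecomposition

instance : SetLike.GradedSMul 𝒜 (gr 𝒜 I) where
  smul_mem := by
    rintro h g r _ hr ⟨v, rfl⟩
    rw [smul_single hr]
    exact single_mem_gr _ _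

/-- the cofree graded module, bundled -/
noncomputable def gmod : GrLC.GMod.{u} 𝒜 :=
  { carrier := Cof 𝒜 I, gr := gr 𝒜 I }

/-- the counit `Cof 𝒜 I → I`, the sum of the coordinates -/
noncomputable def εAdd : Cof 𝒜 I →+ I := Finsupp.liftAddHom (fun _ => AddMonoidHom.id I)

variable {𝒜 I}

theorem εAdd_single (g : ι) (v : I) : εAdd 𝒜 I (single 𝒜 I g v) = v := by
  change Finsupp.liftAddHom (fun _ => AddMonoidHom.id I) (Finsupp.single g v) = v
  rw [Finsupp.liftAddHom_apply_single]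
  rfl

theorem εAdd_smul (r : R) (x : Cof 𝒜 I) : εAdd 𝒜 I (r • x) = r • εAdd 𝒜 I x := by
  induction x using induction_single with
  | zero => rw [smul_zero, map_zero, smul_zero]
  | add x y hx hy => rw [smul_add, map_add, map_add, smul_add, hx, hy]
  | sing g v =>
    induction r using DirectSum.Decomposition.inductionOn 𝒜 with
    | zero => rw [zero_smul, zero_smul, map_zero]
    | homogeneous r => rw [smul_single r.2, εAdd_single, εAdd_single]
    | add r r' h1 h2 => rw [add_smul, add_smul, map_add, h1, h2]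

variable (𝒜 I)

/-- the counit as a linear map -/
noncomputable def ε : Cof 𝒜 I →ₗ[R] I where
  toFun := εAdd 𝒜 I
  map_add' := map_add _
  map_smul' := εAdd_smul

variable {𝒜 I}

theorem ε_single (g : ι) (v : I) : ε 𝒜 I (single 𝒜 I g v) = v := εAdd_single g v

section Lift

variable {N : Type u} [AddCommGroup N] [Module R N] (𝒩 : ι → AddSubgroup N)
  [DirectSum.Decomposition 𝒩] [SetLike.GradedSMul 𝒜 𝒩]

/-- the graded lift of a linear map `N → I`, as an additive map -/
noncomputable def liftAdd (ψ : N →ₗ[R] I) : N →+ Cof 𝒜 I :=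
  (DirectSum.toAddMonoid
    (fun g => (single 𝒜 I g).comp (ψ.toAddMonoidHom.comp (𝒩 g).subtype))).comp
    (DirectSum.decomposeAddEquiv 𝒩).toAddMonoidHom

theorem liftAdd_of_mem (ψ : N →ₗ[R] I) {g : ι} {n : N} (hn : n ∈ 𝒩 g) :
    liftAdd 𝒩 ψ n = single 𝒜 I g (ψ n) := by
  change DirectSum.toAddMonoid _ (DirectSum.decompose 𝒩 n) = _
  rw [DirectSum.decompose_of_mem 𝒩 hn, DirectSum.toAddMonoid_of]
  rfl

theorem liftAdd_smul (ψ : N →ₗ[R] I) (r : R) (n : N) :
    liftAdd (𝒜 := 𝒜) 𝒩 ψ (r • n) = r • liftAdd (𝒜 := 𝒜) 𝒩 ψ n := by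
  induction n using induction_on 𝒩 with
  | zero => rw [smul_zero, map_zero, smul_zero]
  | add n n' h1 h2 => rw [smul_add, map_add, map_add, smul_add, h1, h2]
  | homogeneous g n hn =>
    induction r using DirectSum.Decomposition.inductionOn 𝒜 with
    | zero => rw [zero_smul, zero_smul, map_zero]
    | add r r' h1 h2 => rw [add_smul, add_smul, map_add, h1, h2]
    | homogeneous r =>
      rename_i h
      have hrn : (r : R) • n ∈ 𝒩 (h + g) :=
        SetLike.GradedSMul.smul_mem (A := 𝒜) (B := 𝒩) r.2 hn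
      rw [liftAdd_of_mem 𝒩 ψ hrn, liftAdd_of_mem 𝒩 ψ hn, smul_single r.2, map_smul]

/-- the graded lift of a linear map `N → I` -/
noncomputable def lift (ψ : N →ₗ[R] I) : N →ₗ[R] Cof 𝒜 I where
  toFun := liftAdd 𝒩 ψ
  map_add' := map_add _
  map_smul' := liftAdd_smul 𝒩 ψ

theorem lift_of_mem (ψ : N →ₗ[R] I) {g : ι} {n : N} (hn : n ∈ 𝒩 g) :
    lift 𝒩 ψ n = single 𝒜 I g (ψ n) := liftAdd_of_mem 𝒩 ψ hn

theorem lift_isGrHom (ψ : N →ₗ[R] I) : GrLC.IsGrHom 𝒩 (gr 𝒜 I) (lift 𝒩 ψ) := by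
  intro g n hn
  rw [lift_of_mem 𝒩 ψ hn]
  exact single_mem_gr _ _

theorem ε_lift (ψ : N →ₗ[R] I) (n : N) : ε 𝒜 I (lift 𝒩 ψ n) = ψ n := by
  induction n using induction_on 𝒩 with
  | zero => rw [map_zero, map_zero, map_zero]
  | add n n' h1 h2 => rw [map_add, map_add, map_add, h1, h2]
  | homogeneous g n hn => rw [lift_of_mem 𝒩 ψ hn, ε_single]

theorem eval_lift (ψ : N →ₗ[R] I) (g : ι) (n : N) :
    eval 𝒜 I g (lift 𝒩 ψ n) = ψ (proj 𝒩 g n) := by
  induction n using induction_on 𝒩 with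
  | zero => rw [map_zero, map_zero, map_zero, map_zero]
  | add n n' h1 h2 => rw [map_add, map_add, map_add, map_add, h1, h2]
  | homogeneous k n hn =>
    rw [lift_of_mem 𝒩 ψ hn]
    by_cases hkg : k = g
    · subst hkg
      rw [eval_single_same, proj_of_mem 𝒩 hn]
    · rw [eval_single_ne hkg, proj_of_mem_ne 𝒩 hn hkg, map_zero]

theorem lift_injective {ψ : N →ₗ[R] I} (hψ : Function.Injective ψ) :
    Function.Injective (lift (𝒜 := 𝒜) 𝒩 ψ) := by
  rw [injective_iff_map_eq_zero]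
  intro n hn
  apply eq_zero_of_proj_eq_zero 𝒩
  intro g
  apply hψ
  rw [← eval_lift (𝒜 := 𝒜) 𝒩 ψ g n, hn, map_zero, map_zero]

/-- a graded map to `Cof 𝒜 I` is determined by its composite with the counit -/
theorem eq_lift_of_isGrHom {φ : N →ₗ[R] Cof 𝒜 I} (hφ : GrLC.IsGrHom 𝒩 (gr 𝒜 I) φ) :
    φ = lift 𝒩 (ε 𝒜 I ∘ₗ φ) := by
  ext n
  induction n using induction_on 𝒩 with
  | zero => rw [map_zero, map_zero]
  | add n n' h1 h2 => rw [map_add, map_add, h1, h2]
  | homogeneous g n hn =>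
    rw [lift_of_mem 𝒩 _ hn, LinearMap.comp_apply]
    have h1 := eq_single_eval_of_mem (hφ g n hn)
    conv_rhs => rw [h1, ε_single]
    exact h1

end Lift

/-- the cofree graded module on an injective module is *injective -/
theorem starInj [Module.Injective R I] : GrLC.IsStarInj 𝒜 (gr 𝒜 I) := by
  intro A B f hf hfinj g hg
  obtain ⟨ψ, hψ⟩ := Module.Injective.out (R := R) (Q := I) f hfinj (ε 𝒜 I ∘ₗ g)
  refine ⟨lift B.gr ψ, lift_isGrHom B.gr ψ, ?_⟩
  have h1 : GrLC.IsGrHom A.gr (gr 𝒜 I) (lift B.gr ψ ∘ₗ f) :=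
    isGrHom_comp A.gr B.gr (gr 𝒜 I) hf (lift_isGrHom B.gr ψ)
  rw [eq_lift_of_isGrHom A.gr h1, eq_lift_of_isGrHom A.gr hg]
  congr 1
  ext a
  rw [LinearMap.comp_apply, LinearMap.comp_apply, ε_lift, hψ]

end Cof

/-- enough *injectives: every graded module embeds homogeneously in a *injective one -/
theorem exists_starInj_embedding {M : Type u} [AddCommGroup M] [Module R M]
    (ℳ : ι → AddSubgroup M) [DirectSum.Decomposition ℳ] [SetLike.GradedSMul 𝒜 ℳ] :
    ∃ (J : GrLC.GMod.{u} 𝒜) (i : M →ₗ[R] J.carrier), GrLC.IsStarInj 𝒜 J.gr ∧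
      Function.Injective i ∧ GrLC.IsGrHom ℳ J.gr i := by
  obtain ⟨E, _, _, f, hf⟩ := IH.exists_injectiveHull (R := R) M
  have : Module.Injective R E := hf.isInjective
  exact ⟨Cof.gmod 𝒜 E, Cof.lift ℳ f, Cof.starInj, Cof.lift_injective ℳ hf.injective,
    Cof.lift_isGrHom ℳ f⟩

end Gr

end Groth.Agent.H6
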