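import Groth.Agent.Lib.Helper6.GrHilbMod
import Groth.Agent.Lib.Helper6.GrAInv3

/-! A standard graded ring over a field whose degree-one piece is spanned by one element modulo
an ideal `𝔞` has `dim R/𝔞 ≤ 1`; divisibility of top local cohomology by ideals of small
codimension. -/

universe u
open DirectSum TensorProduct
set_option linter.unusedSectionVars false

namespace Groth.Agent.H6

namespace Gr

section Dim

variable {R : Type u} [CommRing R] (𝒜 : ℤ → AddSubgroup R) [GradedRing 𝒜] (𝔞 : Ideal R)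
variable (hstd : Ideal.span (⋃ n ∈ Set.Ioi (0 : ℤ), (𝒜 n : Set R)) =
  Ideal.span ((𝒜 1 : AddSubgroup R) : Set R))
variable (h0 : IsField (GrLC.deg0 𝒜)) (hpos : ∀ n : ℤ, n < 0 → 𝒜 n = ⊥)

include hstd h0 hpos in
theorem ringKrullDim_quot_le_one {u : R} (hu : u ∈ 𝒜 1)
    (h : ∀ r ∈ 𝒜 1, ∃ c ∈ 𝒜 0, r - c * u ∈ 𝔞) : ringKrullDim (R ⧸ 𝔞) ≤ 1 := by
  have hpow := isCycMod_pow 𝒜 𝔞 hstd hu h
  let π : Polynomial (GrLC.deg0 𝒜) →ₐ[GrLC.deg0 𝒜] (R ⧸ 𝔞) :=
    Polynomial.aeval (Ideal.Quotient.mk 𝔞 u)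
  have hsurj : Function.Surjective π := by
    intro y
    obtain ⟨r, rfl⟩ := Ideal.Quotient.mk_surjective y
    induction r using induction_on 𝒜 with
    | zero => exact ⟨0, by rw [map_zero, map_zero]⟩
    | add x x' h1 h2 =>
      obtain ⟨p, hp⟩ := h1
      obtain ⟨p', hp'⟩ := h2
      exact ⟨p + p', by rw [map_add, hp, hp', map_add]⟩
    | homogeneous t r hr =>
      rcases lt_or_ge t 0 with ht | ht
      · have : r = 0 := by
          rw [hpos t ht] at hr
          exact hr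
        exact ⟨0, by rw [this, map_zero, map_zero]⟩
      · obtain ⟨t', rfl⟩ := Int.eq_ofNat_of_zero_le ht
        obtain ⟨c, hc, hcr⟩ := hpow t' r hr
        refine ⟨Polynomial.C (⟨c, hc⟩ : GrLC.deg0 𝒜) * Polynomial.X ^ t', ?_⟩
        change Polynomial.aeval (Ideal.Quotient.mk 𝔞 u)
          (Polynomial.C (⟨c, hc⟩ : GrLC.deg0 𝒜) * Polynomial.X ^ t') = _
        rw [map_mul, Polynomial.aeval_C, map_pow, Polynomial.aeval_X]
        change Ideal.Quotient.mk 𝔞 c * (Ideal.Quotient.mk 𝔞 u) ^ t' = _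
        rw [← map_pow, ← map_mul]
        symm
        rw [Ideal.Quotient.eq]
        exact hcr
  have h1 := ringKrullDim_le_of_surjective π.toRingHom hsurj
  have h2 := Polynomial.ringKrullDim_le (R := GrLC.deg0 𝒜)
  rw [ringKrullDim_eq_zero_of_isField h0] at h2
  refine le_trans h1 (le_trans h2 ?_)
  norm_num

end Dim

end Gr

namespace MaxLoc

variable {R : Type u} [CommRing R]

/-- `𝔞 T = T` for the top local cohomology `T = H^r_m(R)` when `dim R/𝔞 < r` -/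
theorem smul_top_eq_top_of_dim_lt [IsNoetherianRing R] (m : Ideal R) (r : ℕ)
    (hdim : ringKrullDim R ≤ (r : WithBot ℕ∞)) (𝔞 : Ideal R)
    (h𝔞 : ringKrullDim (R ⧸ 𝔞) < (r : WithBot ℕ∞)) :
    𝔞 • (⊤ : Submodule R (LocCoh.H m r R)) = ⊤ := by
  have hF := EW.lc_rightExactFin m r hdim
  have hbij := EW.nu_bijective (F := localCohomology m r) hF (R ⧸ 𝔞)
  have hvan : Subsingleton (LocCoh.H m r (R ⧸ 𝔞)) := by
    apply LC.subsingleton_of_supportDim_lt
    rw [Module.supportDim_quotient_eq_ringKrullDim]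
    exact h𝔞
  have h2 : Subsingleton ((R ⧸ 𝔞) ⊗[R] LocCoh.H m r R) :=
    (Equiv.ofBijective _ hbij).subsingleton
  have h3 : Subsingleton (LocCoh.H m r R ⧸ 𝔞 • (⊤ : Submodule R (LocCoh.H m r R))) :=
    (TensorProduct.quotTensorEquivQuotSMul (LocCoh.H m r R) 𝔞).symm.toEquiv.subsingleton
  exact Submodule.Quotient.subsingleton_iff.mp h3

end MaxLoc

namespace AInv

variable {R : Type u} [CommRing R] [IsNoetherianRing R] {𝒜 : ℤ → AddSubgroup R} [GradedRing 𝒜]
  (m : HomogeneousIdeal 𝒜)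

theorem graded_smul_top_eq_top_of_dim_lt (r : ℕ) (hdim : ringKrullDim R ≤ (r : WithBot ℕ∞))
    (I : GrLC.StarInjRes 𝒜 𝒜) (𝔞 : Ideal R) (h𝔞 : ringKrullDim (R ⧸ 𝔞) < (r : WithBot ℕ∞)) :
    𝔞 • (⊤ : Submodule R (I.H m r)) = ⊤ := by
  obtain ⟨e⟩ := Gr.nonempty_H_equiv 𝒜 𝒜 I m r
  have h := MaxLoc.smul_top_eq_top_of_dim_lt m.toIdeal r hdim 𝔞 h𝔞
  have h2 := congrArg (Submodule.map e.symm.toLinearMap) h
  rw [Submodule.map_smul'', Submodule.map_top, LinearMap.range_eq_top.mpr e.symm.surjective] at h2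
  exact h2

end AInv

end Groth.Agent.H6
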