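import Groth.Agent.Lib.Helper6.GrVer1
import Groth.Agent.Lib.Helper6.GrLCCompare
import Groth.Agent.S11614

/-! Veronese subrings: existence of Veronese modules, Noetherianity, acyclicity of Veronese
modules of *injective modules. -/

universe u
open DirectSum CategoryTheory
set_option linter.unusedSectionVars false

namespace Groth.Agent.H6

namespace Ver

open Gr

variable {R : Type u} [CommRing R] {R' : Type u} [CommRing R']

/-- `φ` exhibits `(R', 𝒜')` as the `q`-th Veronese subring of `(R, 𝒜)` -/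
structure IsVerRing (q : ℕ) (𝒜' : ℤ → AddSubgroup R') (𝒜 : ℤ → AddSubgroup R) (φ : R' →+* R) :
    Prop where
  pos : 0 < q
  inj : Function.Injective φ
  map_mem : ∀ (j : ℤ) (r : R'), r ∈ 𝒜' j → φ r ∈ 𝒜 (j * q)
  exists_mem : ∀ (j : ℤ) (s : R), s ∈ 𝒜 (j * q) → ∃ r ∈ 𝒜' j, φ r = s

variable {q : ℕ} {𝒜' : ℤ → AddSubgroup R'} [GradedRing 𝒜'] {𝒜 : ℤ → AddSubgroup R} [GradedRing 𝒜]
  {φ : R' →+* R}

theorem IsVerRing.toMod (hR : IsVerRing q 𝒜' 𝒜 φ) : IsVerMod q 𝒜' 𝒜 φ.toSemilinearMap where
  pos := hR.pos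
  inj := hR.inj
  map_mem := hR.map_mem
  exists_mem := hR.exists_mem

section

variable {M : Type u} [AddCommGroup M] [Module R M] (ℳ : ℤ → AddSubgroup M)
  [DirectSum.Decomposition ℳ] [SetLike.GradedSMul 𝒜 ℳ]

theorem P0_smul_map (hR : IsVerRing q 𝒜' 𝒜 φ) (r : R') (m : M) :
    P0 ℳ q (φ r • m) = φ r • P0 ℳ q m := by
  induction r using induction_on 𝒜' with
  | zero => simp
  | homogeneous k r hr => exact P0_smul ℳ 𝒜 q (hR.map_mem k r hr) m
  | add r r' h1 h2 => rw [map_add, add_smul, map_add, add_smul, h1, h2]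

end

/-- the retraction of `φ` -/
theorem exists_retraction (hR : IsVerRing q 𝒜' 𝒜 φ) :
    ∃ π : R →+ R', (∀ r, π (φ r) = r) ∧ ∀ r s, π (φ r * s) = r * π s := by
  have hex : ∀ s : R, ∃ r : R', φ r = P0 𝒜 q s := fun s => hR.toMod.exists_of_P0 s
  choose F hF using hex
  have hadd : ∀ s t, F (s + t) = F s + F t := by
    intro s t
    apply hR.inj
    rw [map_add, hF, hF, hF, map_add]
  refine ⟨AddMonoidHom.mk' F hadd, ?_, ?_⟩
  · intro r
    apply hR.inj
    change φ (F (φ r)) = φ r
    rw [hF]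
    exact hR.toMod.P0_map r
  · intro r s
    apply hR.inj
    change φ (F (φ r * s)) = φ (r * F s)
    rw [hF, φ.map_mul r (F s), hF]
    exact P0_smul_map 𝒜 hR r s

theorem comap_map_eq (hR : IsVerRing q 𝒜' 𝒜 φ) (I : Ideal R') : (I.map φ).comap φ = I := by
  obtain ⟨π, hπ1, hπ2⟩ := exists_retraction hR
  apply le_antisymm
  · intro x hx
    have hx' : φ x ∈ Submodule.span R (φ '' (I : Set R')) := hx
    have key : ∀ s ∈ Submodule.span R (φ '' (I : Set R')), ∀ t : R, π (t * s) ∈ I := by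
      intro s hs
      induction hs using Submodule.span_induction with
      | mem s hs =>
        obtain ⟨y, hy, rfl⟩ := hs
        intro t
        rw [mul_comm, hπ2]
        exact I.mul_mem_right _ hy
      | zero => intro t; rw [mul_zero, map_zero]; exact zero_mem _
      | add s s' _ _ h1 h2 => intro t; rw [mul_add, map_add]; exact add_mem (h1 t) (h2 t)
      | smul u s _ h1 => intro t; rw [smul_eq_mul, ← mul_assoc]; exact h1 (t * u)
    have := key _ hx' 1
    rw [one_mul, hπ1] at this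
    exact this
  · exact Ideal.le_comap_map

theorem isNoetherianRing (hR : IsVerRing q 𝒜' 𝒜 φ) [IsNoetherianRing R] : IsNoetherianRing R' := by
  have hinj : Function.Injective (Ideal.map φ : Ideal R' → Ideal R) := by
    intro I J hIJ
    rw [← comap_map_eq hR I, ← comap_map_eq hR J, hIJ]
  have hmono : StrictMono (Ideal.map φ : Ideal R' → Ideal R) :=
    Monotone.strictMono_of_injective (fun _ _ h => Ideal.map_mono h) hinj
  exact isNoetherian_mk hmono.wellFoundedGT

theorem map_isHomogeneous (hR : IsVerRing q 𝒜' 𝒜 φ) (a' : HomogeneousIdeal 𝒜') :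
    (a'.toIdeal.map φ).IsHomogeneous 𝒜 := by
  obtain ⟨S, hS⟩ := (Ideal.IsHomogeneous.iff_exists 𝒜' a'.toIdeal).mp a'.isHomogeneous
  rw [hS, Ideal.map_span]
  apply Ideal.homogeneous_span
  rintro _ ⟨_, ⟨x, -, rfl⟩, rfl⟩
  obtain ⟨j, hj⟩ := x.2
  exact ⟨j * q, hR.map_mem j _ hj⟩

/-- Veronese modules exist -/
theorem exists_ver (hR : IsVerRing q 𝒜' 𝒜 φ) (X : GrLC.GMod.{u} 𝒜) :
    ∃ (X' : GrLC.GMod.{u} 𝒜') (g : X'.carrier →ₛₗ[φ] X.carrier), IsVerMod q X'.gr X.gr g := by
  have hq0 : (q : ℤ) ≠ 0 := by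
    have := hR.pos
    omega
  letI : Module R' X.carrier := Module.compHom X.carrier φ
  let S : Submodule R' X.carrier :=
    { carrier := {x | P0 X.gr q x = x}
      add_mem' := fun {x y} hx hy => by
        have hx' : P0 X.gr q x = x := hx
        have hy' : P0 X.gr q y = y := hy
        change P0 X.gr q (x + y) = x + y
        rw [map_add, hx', hy']
      zero_mem' := map_zero _
      smul_mem' := fun r x hx => by
        have hx' : P0 X.gr q x = x := hx
        change P0 X.gr q (φ r • x) = φ r • x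
        rw [P0_smul_map X.gr hR, hx'] }
  let gr : ℤ → AddSubgroup S := fun j => (X.gr (j * q)).comap S.subtype.toAddMonoidHom
  have hpS : ∀ (j : ℤ) (x : X.carrier), proj X.gr (j * q) x ∈ S := fun j x =>
    P0_of_dvd X.gr q (proj_mem X.gr _ x) (dvd_mul_left _ _)
  let π : ℤ → S →+ S := fun j =>
    AddMonoidHom.codRestrict ((proj X.gr (j * q)).comp S.subtype.toAddMonoidHom) S.toAddSubgroup
      (fun x => hpS j x.1)
  have hπ : ∀ (j : ℤ) (x : S), ((π j x : S) : X.carrier) = proj X.gr (j * q) x.1 := fun j x => rfl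
  have hint : DirectSum.IsInternal gr := by
    refine isInternal_of_proj gr π ?_ ?_ ?_
    · intro j x hx
      apply Subtype.ext
      rw [hπ]
      exact proj_of_mem X.gr hx
    · intro j j' x hx hne
      apply Subtype.ext
      rw [hπ]
      exact proj_of_mem_ne X.gr hx (fun h => hne (mul_right_cancel₀ hq0 h))
    · intro x
      have hx0 : P0 X.gr q x.1 = x.1 := x.2
      have hproj : ∀ i : ℤ, ¬ (q : ℤ) ∣ i → proj X.gr i x.1 = 0 := by
        intro i hi
        rw [← hx0, proj_P0, if_neg hi]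
      have hproj_mem : ∀ i : ℤ, proj X.gr i x.1 ∈ S := by
        intro i
        by_cases hi : (q : ℤ) ∣ i
        · exact P0_of_dvd X.gr q (proj_mem X.gr _ _) hi
        · rw [hproj i hi]
          exact zero_mem _
      obtain ⟨s, hs⟩ := exists_finset_sum_proj X.gr x.1
      have hx : x = ∑ i ∈ s, (⟨proj X.gr i x.1, hproj_mem i⟩ : S) := by
        apply Subtype.ext
        rw [Submodule.coe_sum]
        exact hs.symm
      rw [hx]
      refine sum_mem fun i _ => ?_
      by_cases hi : (q : ℤ) ∣ i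
      · obtain ⟨j, rfl⟩ := hi
        refine AddSubgroup.mem_iSup_of_mem j ?_
        change proj X.gr (q * j) x.1 ∈ X.gr (j * q)
        rw [mul_comm j]
        exact proj_mem X.gr _ _
      · have h0 : (⟨proj X.gr i x.1, hproj_mem i⟩ : S) = 0 := Subtype.ext (hproj i hi)
        rw [h0]
        exact zero_mem _
  letI dec : DirectSum.Decomposition gr := hint.chooseDecomposition
  have gsm : SetLike.GradedSMul 𝒜' gr := ⟨fun {k j r x} hr hx => by
    change φ r • (x : X.carrier) ∈ X.gr ((k +ᵥ j) * q)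
    rw [vadd_eq_add, add_mul]
    exact SetLike.GradedSMul.smul_mem (A := 𝒜) (B := X.gr) (hR.map_mem k r hr) hx⟩
  let X' : GrLC.GMod.{u} 𝒜' := @GrLC.GMod.mk ℤ _ _ R' _ _ _ _ 𝒜' _ S _ _ gr dec gsm
  let g : X'.carrier →ₛₗ[φ] X.carrier :=
    { toFun := fun x => (show S from x).1
      map_add' := fun _ _ => rfl
      map_smul' := fun _ _ => rfl }
  exact ⟨X', g, hR.pos, Subtype.val_injective, fun j y hy => hy, fun j x hx =>
    ⟨⟨x, P0_of_dvd X.gr q hx (dvd_mul_left _ _)⟩, hx, rfl⟩⟩

/-- the Veronese module of a *injective module is acyclic -/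
theorem lc_subsingleton_of_ver [IsNoetherianRing R] [IsNoetherianRing R']
    (hR : IsVerRing q 𝒜' 𝒜 φ) (X : GrLC.GMod.{u} 𝒜) (hX : GrLC.IsStarInj 𝒜 X.gr)
    (X' : GrLC.GMod.{u} 𝒜') (g : X'.carrier →ₛₗ[φ] X.carrier) (hV : IsVerMod q X'.gr X.gr g)
    (a' : HomogeneousIdeal 𝒜') (p : ℕ) :
    Subsingleton (LocCoh.H a'.toIdeal (p + 1) X'.carrier) := by
  let b : HomogeneousIdeal 𝒜 := ⟨a'.toIdeal.map φ, map_isHomogeneous hR a'⟩
  have h1 : Subsingleton (LocCoh.H (a'.toIdeal.map φ) (p + 1) X.carrier) :=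
    lc_subsingleton_of_starInj 𝒜 X.gr hX b p
  letI : Algebra R' R := φ.toAlgebra
  letI : Module R' X.carrier := Module.compHom X.carrier φ
  haveI : IsScalarTower R' R X.carrier := ⟨fun r s x => by
    change (φ r * s) • x = φ r • (s • x)
    rw [mul_smul]⟩
  obtain ⟨e, -⟩ := Groth.Agent.S11614.result R' R a'.toIdeal X.carrier (p + 1)
  have h2 : Subsingleton (LocCoh.H a'.toIdeal (p + 1) X.carrier) := by
    haveI : Subsingleton (LocCoh.H (Ideal.map (algebraMap R' R) a'.toIdeal) (p + 1) X.carrier) := h1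
    exact e.symm.toEquiv.subsingleton
  let gl : X'.carrier →ₗ[R'] X.carrier :=
    { toFun := g
      map_add' := map_add g
      map_smul' := fun r x => map_smulₛₗ g r x }
  have hex : ∀ x : X.carrier, ∃ y : X'.carrier, g y = P0 X.gr q x := hV.exists_of_P0
  choose F hF using hex
  let π : X.carrier →ₗ[R'] X'.carrier :=
    { toFun := F
      map_add' := fun x y => by
        apply hV.inj
        rw [hF, map_add, map_add, hF, hF]
      map_smul' := fun r x => by
        apply hV.inj
        rw [RingHom.id_apply, hF, map_smulₛₗ g r (F x), hF]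
        exact P0_smul_map X.gr hR r x }
  have hπg : π ∘ₗ gl = LinearMap.id := by
    ext y
    apply hV.inj
    change g (F (g y)) = g y
    rw [hF, hV.P0_map]
  let Fn := localCohomology a'.toIdeal (p + 1)
  have hcomp : Fn.map (ModuleCat.ofHom gl) ≫ Fn.map (ModuleCat.ofHom π) = 𝟙 _ := by
    rw [← Fn.map_comp, ← ModuleCat.ofHom_comp, hπg]
    exact Fn.map_id _
  have hz : ∀ z : Fn.obj (ModuleCat.of R' X'.carrier), z = 0 := by
    intro z
    have h3 : (Fn.map (ModuleCat.ofHom π)).hom ((Fn.map (ModuleCat.ofHom gl)).hom z) = z := by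
      have := congrArg (fun f => f.hom z) hcomp
      exact this
    have h4 : (Fn.map (ModuleCat.ofHom gl)).hom z = 0 := Subsingleton.elim _ _
    rw [← h3, h4, map_zero]
  exact ⟨fun z w => (hz z).trans (hz w).symm⟩

end Ver

end Groth.Agent.H6
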