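import Groth.Agent.Lib.Helper6.GrDual1
import Groth.Agent.Lib.Helper6.GrVer2

/-! Graded Matlis duality and Veronese modules. -/

universe u
open DirectSum
set_option linter.unusedSectionVars false

namespace Groth.Agent.H6

namespace GDual

open Gr Ver

section Assembly

variable {R : Type u} [CommRing R] {R' : Type u} [CommRing R'] {φ : R' →+* R} {q : ℕ}
variable {𝒜' : ℤ → AddSubgroup R'} [GradedRing 𝒜'] {𝒜 : ℤ → AddSubgroup R} [GradedRing 𝒜]
variable {X' : Type u} [AddCommGroup X'] [Module R' X'] (𝒳' : ℤ → AddSubgroup X')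
  [DirectSum.Decomposition 𝒳'] [SetLike.GradedSMul 𝒜' 𝒳']
variable {X : Type u} [AddCommGroup X] [Module R X] (𝒳 : ℤ → AddSubgroup X)
  [DirectSum.Decomposition 𝒳] [SetLike.GradedSMul 𝒜 𝒳]

/-- a Veronese map assembled from a piecewise bijective, additive, scalar-compatible relation -/
theorem exists_ver_of_rel (hR : IsVerRing q 𝒜' 𝒜 φ) (Rel : ℤ → X' → X → Prop)
    (hex : ∀ j, ∀ y ∈ 𝒳' j, ∃ x ∈ 𝒳 (j * q), Rel j y x)
    (hex' : ∀ j, ∀ x ∈ 𝒳 (j * q), ∃ y ∈ 𝒳' j, Rel j y x)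
    (huniq : ∀ j y x x', y ∈ 𝒳' j → x ∈ 𝒳 (j * q) → x' ∈ 𝒳 (j * q) → Rel j y x → Rel j y x' →
      x = x')
    (huniq' : ∀ j y y' x, y ∈ 𝒳' j → y' ∈ 𝒳' j → x ∈ 𝒳 (j * q) → Rel j y x → Rel j y' x → y = y')
    (hadd : ∀ j y y' x x', y ∈ 𝒳' j → y' ∈ 𝒳' j → x ∈ 𝒳 (j * q) → x' ∈ 𝒳 (j * q) →
      Rel j y x → Rel j y' x' → Rel j (y + y') (x + x'))
    (hsmul : ∀ e j r' y x, r' ∈ 𝒜' e → y ∈ 𝒳' j → x ∈ 𝒳 (j * q) → Rel j y x →
      Rel (e + j) (r' • y) (φ r' • x)) :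
    ∃ g : X' →ₛₗ[φ] X, IsVerMod q 𝒳' 𝒳 g ∧ ∀ j, ∀ y ∈ 𝒳' j, Rel j y (g y) := by
  have hq : 0 < q := hR.pos
  have hq0 : (q : ℤ) ≠ 0 := by omega
  choose c hcmem hcrel using hex
  -- the piecewise maps
  let γ : ∀ j : ℤ, 𝒳' j →+ X := fun j =>
    AddMonoidHom.mk' (fun y => c j y.1 y.2) (fun y y' => by
      apply huniq j (y.1 + y'.1) _ _ (add_mem y.2 y'.2) (hcmem j _ _)
        (add_mem (hcmem j _ y.2) (hcmem j _ y'.2)) (hcrel j _ _)
      exact hadd j y.1 y'.1 _ _ y.2 y'.2 (hcmem j _ y.2) (hcmem j _ y'.2) (hcrel j _ y.2)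
        (hcrel j _ y'.2))
  let g₀ : X' →+ X := (DirectSum.toAddMonoid γ).comp (DirectSum.decomposeAddEquiv 𝒳').toAddMonoidHom
  have hg₀ : ∀ j (y : X') (hy : y ∈ 𝒳' j), g₀ y = c j y hy := by
    intro j y hy
    change DirectSum.toAddMonoid γ (DirectSum.decompose 𝒳' y) = _
    rw [DirectSum.decompose_of_mem 𝒳' hy, DirectSum.toAddMonoid_of]
    rfl
  have hg₀mem : ∀ j (y : X'), y ∈ 𝒳' j → g₀ y ∈ 𝒳 (j * q) := by
    intro j y hy
    rw [hg₀ j y hy]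
    exact hcmem j y hy
  have hg₀rel : ∀ j (y : X') (hy : y ∈ 𝒳' j), Rel j y (g₀ y) := by
    intro j y hy
    rw [hg₀ j y hy]
    exact hcrel j y hy
  have hsl : ∀ (r' : R') (y : X'), g₀ (r' • y) = φ r' • g₀ y := by
    intro r' y
    induction r' using induction_on 𝒜' with
    | zero => simp
    | homogeneous e r' hr' =>
      induction y using induction_on 𝒳' with
      | zero => simp
      | homogeneous j y hy =>
        have h1 : r' • y ∈ 𝒳' (e + j) := SetLike.GradedSMul.smul_mem (A := 𝒜') (B := 𝒳') hr' hy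
        have h2 := hsmul e j r' y (g₀ y) hr' hy (hg₀mem j y hy) (hg₀rel j y hy)
        have h3 : φ r' • g₀ y ∈ 𝒳 ((e + j) * q) := by
          have := SetLike.GradedSMul.smul_mem (A := 𝒜) (B := 𝒳) (hR.map_mem e r' hr')
            (hg₀mem j y hy)
          rw [vadd_eq_add] at this
          rwa [add_mul]
        exact huniq (e + j) (r' • y) _ _ h1 (hg₀mem _ _ h1) h3 (hg₀rel _ _ h1) h2
      | add y y' h1 h2 => rw [smul_add, map_add, map_add, smul_add, h1, h2]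
    | add r r' h1 h2 => rw [add_smul, map_add, map_add, add_smul, h1, h2]
  have hproj : ∀ (j : ℤ) (y : X'), proj 𝒳 (j * q) (g₀ y) = g₀ (proj 𝒳' j y) := by
    intro j y
    induction y using induction_on 𝒳' with
    | zero => simp
    | homogeneous i y hy =>
      by_cases hij : i = j
      · subst hij
        rw [proj_of_mem 𝒳' hy, proj_of_mem 𝒳 (hg₀mem i y hy)]
      · have hne : i * (q : ℤ) ≠ j * q := fun h => hij (mul_right_cancel₀ hq0 h)
        rw [proj_of_mem_ne 𝒳' hy hij, proj_of_mem_ne 𝒳 (hg₀mem i y hy) hne, map_zero]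
    | add y y' h1 h2 => rw [map_add, map_add, map_add, map_add, h1, h2]
  have hinj0 : ∀ j (y : X'), y ∈ 𝒳' j → g₀ y = 0 → y = 0 := by
    intro j y hy h0
    have h1 := hg₀rel j y hy
    have h2 := hg₀rel j 0 (zero_mem _)
    rw [h0] at h1
    rw [map_zero] at h2
    exact huniq' j y 0 0 hy (zero_mem _) (zero_mem _) h1 h2
  let g : X' →ₛₗ[φ] X := { toFun := g₀, map_add' := g₀.map_add, map_smul' := hsl }
  have hgg : ∀ y, g y = g₀ y := fun y => rfl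
  refine ⟨g, ⟨hq, ?_, ?_, ?_⟩, ?_⟩
  · intro y y' hyy
    have h0 : g₀ (y - y') = 0 := by rw [map_sub, ← hgg, ← hgg, hyy, sub_self]
    have : y - y' = 0 := by
      apply eq_zero_of_proj_eq_zero 𝒳'
      intro j
      apply hinj0 j _ (proj_mem 𝒳' j _)
      rw [← hproj, h0, map_zero]
    exact sub_eq_zero.mp this
  · intro j y hy
    exact hg₀mem j y hy
  · intro j x hx
    obtain ⟨y, hy, hyx⟩ := hex' j x hx
    exact ⟨y, hy, huniq j y _ _ hy (hg₀mem j y hy) hx (hg₀rel j y hy) hyx⟩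
  · intro j y hy
    exact hg₀rel j y hy

end Assembly

section Retr

variable {R : Type u} [CommRing R] {R' : Type u} [CommRing R'] {φ : R' →+* R} {q : ℕ}
variable {M' : Type u} [AddCommGroup M'] [Module R' M'] {ℳ' : ℤ → AddSubgroup M'}
  [DirectSum.Decomposition ℳ']
variable {M : Type u} [AddCommGroup M] [Module R M] {ℳ : ℤ → AddSubgroup M}
  [DirectSum.Decomposition ℳ]
variable {g : M' →ₛₗ[φ] M}

/-- an additive retraction of a Veronese map -/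
theorem exists_retraction_mod (hV : IsVerMod q ℳ' ℳ g) : ∃ ρ : M →+ M', ∀ y, ρ (g y) = y := by
  have hex : ∀ x : M, ∃ y : M', g y = P0 ℳ q x := fun x => hV.exists_of_P0 x
  choose F hF using hex
  have hadd : ∀ s t, F (s + t) = F s + F t := by
    intro s t
    apply hV.inj
    rw [map_add, hF, hF, hF, map_add]
  refine ⟨AddMonoidHom.mk' F hadd, fun y => ?_⟩
  apply hV.inj
  change g (F (g y)) = g y
  rw [hF]
  exact hV.P0_map y

end Retr

section Pair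

/-- a perfect pairing (with values in the degree-zero part) between two graded modules -/
structure PerfPair {R : Type u} [CommRing R] (𝒜 : ℤ → AddSubgroup R)
    {X : Type u} [AddCommGroup X] [Module R X] (𝒳 : ℤ → AddSubgroup X)
    {N : Type u} [AddCommGroup N] [Module R N] (𝒩 : ℤ → AddSubgroup N) (τ : X → N → R) : Prop where
  mem0 : ∀ x y, τ x y ∈ 𝒜 0
  add_left : ∀ x x' y, τ (x + x') y = τ x y + τ x' y
  add_right : ∀ x y y', τ x (y + y') = τ x y + τ x y'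
  bal : ∀ (r : R) x y, τ (r • x) y = τ x (r • y)
  smul0 : ∀ c ∈ 𝒜 0, ∀ x y, τ (c • x) y = c * τ x y
  nondeg : ∀ j, ∀ x ∈ 𝒳 j, (∀ y ∈ 𝒩 (-j), τ x y = 0) → x = 0
  repr : ∀ j (l : N →+ R), (∀ y ∈ 𝒩 (-j), l y ∈ 𝒜 0) →
    (∀ c ∈ 𝒜 0, ∀ y ∈ 𝒩 (-j), l (c • y) = c * l y) → ∃ x ∈ 𝒳 j, ∀ y ∈ 𝒩 (-j), τ x y = l y

namespace PerfPair

variable {R : Type u} [CommRing R] {𝒜 : ℤ → AddSubgroup R}
  {X : Type u} [AddCommGroup X] [Module R X] {𝒳 : ℤ → AddSubgroup X}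
  {N : Type u} [AddCommGroup N] [Module R N] {𝒩 : ℤ → AddSubgroup N} {τ : X → N → R}
  (h : PerfPair 𝒜 𝒳 𝒩 τ)

include h

theorem zero_left (y : N) : τ 0 y = 0 := by
  have := h.add_left 0 0 y
  rw [add_zero] at this
  exact left_eq_add.mp this

theorem zero_right (x : X) : τ x 0 = 0 := by
  have := h.add_right x 0 0
  rw [add_zero] at this
  exact left_eq_add.mp this

theorem sub_left (x x' : X) (y : N) : τ (x - x') y = τ x y - τ x' y := by
  have := h.add_left (x - x') x' y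
  rw [sub_add_cancel] at this
  rw [this, add_sub_cancel_right]

end PerfPair

variable {R : Type u} [CommRing R] {R' : Type u} [CommRing R'] {φ : R' →+* R} {q : ℕ}
variable {𝒜' : ℤ → AddSubgroup R'} [GradedRing 𝒜'] {𝒜 : ℤ → AddSubgroup R} [GradedRing 𝒜]
variable {X' : Type u} [AddCommGroup X'] [Module R' X'] {𝒳' : ℤ → AddSubgroup X'}
  [DirectSum.Decomposition 𝒳'] [SetLike.GradedSMul 𝒜' 𝒳']
variable {X : Type u} [AddCommGroup X] [Module R X] {𝒳 : ℤ → AddSubgroup X}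
  [DirectSum.Decomposition 𝒳] [SetLike.GradedSMul 𝒜 𝒳]
variable {N' : Type u} [AddCommGroup N'] [Module R' N'] {𝒩' : ℤ → AddSubgroup N'}
  [DirectSum.Decomposition 𝒩'] [SetLike.GradedSMul 𝒜' 𝒩']
variable {N : Type u} [AddCommGroup N] [Module R N] {𝒩 : ℤ → AddSubgroup N}
  [DirectSum.Decomposition 𝒩] [SetLike.GradedSMul 𝒜 𝒩]
variable {ν : N' →ₛₗ[φ] N} {τ : X → N → R} {τ' : X' → N' → R'}

/-- **duals of Veronese modules are Veronese modules of duals** -/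
theorem exists_ver_of_perfPair (hR : IsVerRing q 𝒜' 𝒜 φ) (hν : IsVerMod q 𝒩' 𝒩 ν)
    (hτ : PerfPair 𝒜 𝒳 𝒩 τ) (hτ' : PerfPair 𝒜' 𝒳' 𝒩' τ') :
    ∃ g : X' →ₛₗ[φ] X, IsVerMod q 𝒳' 𝒳 g ∧
      ∀ j, ∀ x' ∈ 𝒳' j, ∀ y' ∈ 𝒩' (-j), τ (g x') (ν y') = φ (τ' x' y') := by
  obtain ⟨ρ, hρ⟩ := exists_retraction_mod hν
  obtain ⟨π, hπ, hπm⟩ := exists_retraction hR
  have h0 : ∀ c ∈ 𝒜 0, ∃ c' ∈ 𝒜' 0, φ c' = c := by
    intro c hc
    apply hR.exists_mem 0 c
    rwa [zero_mul]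
  have h0' : ∀ c' ∈ 𝒜' 0, φ c' ∈ 𝒜 0 := by
    intro c' hc'
    have := hR.map_mem 0 c' hc'
    rwa [zero_mul] at this
  have hneg : ∀ j : ℤ, -(j * (q : ℤ)) = (-j) * q := fun j => by ring
  apply exists_ver_of_rel 𝒳' 𝒳 hR
    (fun j x' x => ∀ y' ∈ 𝒩' (-j), τ x (ν y') = φ (τ' x' y'))
  · -- hex
    intro j x' hx'
    let l : N →+ R := AddMonoidHom.mk' (fun y => φ (τ' x' (ρ y))) (fun y y' => by
      rw [map_add, hτ'.add_right, map_add])
    have hl0 : ∀ y ∈ 𝒩 (-(j * (q : ℤ))), l y ∈ 𝒜 0 := by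
      intro y _
      exact h0' _ (hτ'.mem0 _ _)
    have hls : ∀ c ∈ 𝒜 0, ∀ y ∈ 𝒩 (-(j * (q : ℤ))), l (c • y) = c * l y := by
      intro c hc y hy
      obtain ⟨c', hc', rfl⟩ := h0 c hc
      rw [hneg] at hy
      obtain ⟨y', hy', rfl⟩ := hν.exists_mem (-j) y hy
      change φ (τ' x' (ρ (φ c' • ν y'))) = φ c' * φ (τ' x' (ρ (ν y')))
      rw [← map_smulₛₗ ν c' y', hρ, hρ, ← hτ'.bal, hτ'.smul0 c' hc', map_mul]
    obtain ⟨x, hx, hxl⟩ := hτ.repr (j * q) l hl0 hls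
    refine ⟨x, hx, fun y' hy' => ?_⟩
    have : ν y' ∈ 𝒩 (-(j * (q : ℤ))) := by
      rw [hneg]
      exact hν.map_mem (-j) y' hy'
    rw [hxl _ this]
    change φ (τ' x' (ρ (ν y'))) = _
    rw [hρ]
  · -- hex'
    intro j x hx
    let l' : N' →+ R' := AddMonoidHom.mk' (fun y' => π (τ x (ν y'))) (fun y y' => by
      rw [map_add, hτ.add_right, map_add])
    have hπ0 : ∀ s ∈ 𝒜 0, π s ∈ 𝒜' 0 ∧ φ (π s) = s := by
      intro s hs
      obtain ⟨c', hc', rfl⟩ := h0 s hs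
      rw [hπ]
      exact ⟨hc', rfl⟩
    have hl0 : ∀ y' ∈ 𝒩' (-j), l' y' ∈ 𝒜' 0 := by
      intro y' _
      exact (hπ0 _ (hτ.mem0 _ _)).1
    have hls : ∀ c' ∈ 𝒜' 0, ∀ y' ∈ 𝒩' (-j), l' (c' • y') = c' * l' y' := by
      intro c' hc' y' hy'
      change π (τ x (ν (c' • y'))) = c' * π (τ x (ν y'))
      rw [map_smulₛₗ ν c' y', ← hτ.bal, hτ.smul0 _ (h0' c' hc'), hπm]
    obtain ⟨x', hx', hxl⟩ := hτ'.repr j l' hl0 hls
    refine ⟨x', hx', fun y' hy' => ?_⟩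
    rw [hxl y' hy']
    exact ((hπ0 _ (hτ.mem0 _ _)).2).symm
  · -- huniq
    intro j x' x x₂ hx' hx hx₂ h1 h2
    have : x - x₂ = 0 := by
      apply hτ.nondeg (j * q) _ (sub_mem hx hx₂)
      intro y hy
      rw [hneg] at hy
      obtain ⟨y', hy', rfl⟩ := hν.exists_mem (-j) y hy
      rw [hτ.sub_left, h1 y' hy', h2 y' hy', sub_self]
    exact sub_eq_zero.mp this
  · -- huniq'
    intro j x' x₂' x hx' hx₂' hx h1 h2
    have : x' - x₂' = 0 := by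
      apply hτ'.nondeg j _ (sub_mem hx' hx₂')
      intro y' hy'
      apply hR.inj
      rw [hτ'.sub_left, map_sub, ← h1 y' hy', ← h2 y' hy', sub_self, map_zero]
    exact sub_eq_zero.mp this
  · -- hadd
    intro j x' x₂' x x₂ _ _ _ _ h1 h2 y' hy'
    rw [hτ.add_left, hτ'.add_left, map_add, h1 y' hy', h2 y' hy']
  · -- hsmul
    intro e j r' x' x hr' hx' hx h1 y' hy'
    have hry : r' • y' ∈ 𝒩' (-j) := by
      have := SetLike.GradedSMul.smul_mem (A := 𝒜') (B := 𝒩') hr' hy'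
      rw [vadd_eq_add] at this
      have e1 : e + -(e + j) = -j := by ring
      rwa [e1] at this
    rw [hτ.bal, ← map_smulₛₗ ν r' y', h1 _ hry, hτ'.bal]

end Pair

end GDual

end Groth.Agent.H6
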