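import Groth.Agent.Lib.Helper6.GrDual2

/-! Graded Matlis duality: perfect pairings. -/

universe u
open DirectSum
set_option linter.unusedSectionVars false

namespace Groth.Agent.H6

namespace GDual

open Gr Ver

section LA

variable {k : Type*} [CommRing k] (hk : IsField k)
variable {V : Type*} [AddCommGroup V] [Module k V] {W : Type*} [AddCommGroup W] [Module k W]

include hk in
theorem exists_functional_ne_zero {x : V} (hx : x ≠ 0) : ∃ f : V →ₗ[k] k, f x ≠ 0 := by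
  letI := hk.toField
  exact Module.Projective.exists_dual_ne_zero k hx

include hk in
theorem exists_repr_of_perfect [Module.Finite k V] (β : V →ₗ[k] W →ₗ[k] k)
    (h1 : ∀ l : V →ₗ[k] k, ∃ w, ∀ v, β v w = l v) (h2 : ∀ w, (∀ v, β v w = 0) → w = 0)
    (μ : W →ₗ[k] k) : ∃ v, ∀ w, β v w = μ w := by
  letI := hk.toField
  have hbij : Function.Bijective β.flip := by
    constructor
    · rw [← LinearMap.ker_eq_bot, LinearMap.ker_eq_bot']
      intro w hw
      apply h2 w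
      intro v
      have := LinearMap.congr_fun hw v
      exact this
    · intro l
      obtain ⟨w, hw⟩ := h1 l
      exact ⟨w, LinearMap.ext hw⟩
  let Ψ : W ≃ₗ[k] Module.Dual k V := LinearEquiv.ofBijective β.flip hbij
  obtain ⟨v, hv⟩ := (Module.evalEquiv k V).surjective (μ ∘ₗ Ψ.symm.toLinearMap)
  refine ⟨v, fun w => ?_⟩
  have := LinearMap.congr_fun hv (Ψ w)
  simp only [Module.evalEquiv_apply, Module.Dual.eval_apply, LinearMap.coe_comp,
    LinearEquiv.coe_coe, Function.comp_apply, LinearEquiv.symm_apply_apply] at this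
  exact this

end LA

section Self

variable {R : Type u} [CommRing R] {𝒜 : ℤ → AddSubgroup R} [GradedRing 𝒜]
variable {m : HomogeneousIdeal 𝒜}
variable {E' : Type u} [AddCommGroup E'] [Module R E'] {𝓔 : ℤ → AddSubgroup E'}
  [DirectSum.Decomposition 𝓔] [SetLike.GradedSMul 𝒜 𝓔]
  {e : (R ⧸ m.toIdeal) →ₗ[R] E'} (S : Setting 𝒜 m 𝓔 e)

include S in
/-- the *injective envelope of the residue field is the graded dual of the ring -/
theorem perfPair_self : PerfPair 𝒜 𝓔 𝒜 (fun x r => S.tr (r • x)) where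
  mem0 := fun x r => S.tr_mem _
  add_left := fun x x' r => by
    change S.tr (r • (x + x')) = _
    rw [smul_add, S.tr_add]
  add_right := fun x r r' => by
    change S.tr ((r + r') • x) = _
    rw [add_smul, S.tr_add]
  bal := fun r x y => by
    change S.tr (y • r • x) = S.tr ((r • y) • x)
    rw [smul_eq_mul, mul_smul, smul_comm]
  smul0 := fun c hc x y => by
    change S.tr (y • c • x) = c * S.tr (y • x)
    rw [smul_comm, S.tr_smul hc]
  nondeg := fun j x hx h => by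
    have hf : GrLC.IsGrHomDeg 𝒜 𝓔 (LinearMap.toSpanSingleton R E' x) j := by
      intro i r hr
      have := SetLike.GradedSMul.smul_mem (A := 𝒜) (B := 𝓔) hr hx
      rw [vadd_eq_add] at this
      exact this
    have := hom_eq_zero_of_tr S 𝒜 hf (fun r hr => h r hr)
    have h1 := LinearMap.congr_fun this 1
    rw [LinearMap.toSpanSingleton_apply, one_smul] at h1
    exact h1
  repr := fun j l hl0 hls => by
    obtain ⟨f, hf, hfl⟩ := exists_hom_of_functional S 𝒜 j l hl0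
      (fun c hc x hx => by rw [← hls c hc x hx])
    refine ⟨f 1, ?_, fun r hr => ?_⟩
    · have := hf 0 1 (SetLike.GradedOne.one_mem)
      rwa [zero_add] at this
    · change S.tr (r • f 1) = l r
      rw [← map_smul, smul_eq_mul, mul_one]
      exact hfl r hr

end Self

section HomDecomp

variable {R : Type u} [CommRing R] (𝒜 : ℤ → AddSubgroup R) [GradedRing 𝒜]
variable {C : Type u} [AddCommGroup C] [Module R C] (𝒞 : ℤ → AddSubgroup C)
  [DirectSum.Decomposition 𝒞] [SetLike.GradedSMul 𝒜 𝒞]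
variable {E' : Type u} [AddCommGroup E'] [Module R E'] (𝓔 : ℤ → AddSubgroup E')
  [DirectSum.Decomposition 𝓔] [SetLike.GradedSMul 𝒜 𝓔]

/-- the component of degree `d` of a linear map between graded modules, as an additive map -/
noncomputable def homComp0 (f : C →ₗ[R] E') (d : ℤ) : C →+ E' :=
  (DirectSum.toAddMonoid
    (fun i => ((proj 𝓔 (i + d)).comp f.toAddMonoidHom).comp (𝒞 i).subtype)).comp
    (DirectSum.decomposeAddEquiv 𝒞).toAddMonoidHom

theorem homComp0_of_mem (f : C →ₗ[R] E') (d : ℤ) {i : ℤ} {c : C} (hc : c ∈ 𝒞 i) :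
    homComp0 𝒞 𝓔 f d c = proj 𝓔 (i + d) (f c) := by
  change DirectSum.toAddMonoid _ (DirectSum.decompose 𝒞 c) = _
  rw [DirectSum.decompose_of_mem 𝒞 hc, DirectSum.toAddMonoid_of]
  rfl

include 𝒜 in
theorem homComp0_smul (f : C →ₗ[R] E') (d : ℤ) (r : R) (c : C) :
    homComp0 𝒞 𝓔 f d (r • c) = r • homComp0 𝒞 𝓔 f d c := by
  induction r using induction_on 𝒜 with
  | zero => simp
  | homogeneous a r hr =>
    induction c using induction_on 𝒞 with
    | zero => simp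
    | homogeneous i c hc =>
      have h1 : r • c ∈ 𝒞 (a + i) := SetLike.GradedSMul.smul_mem (A := 𝒜) (B := 𝒞) hr hc
      rw [homComp0_of_mem 𝒞 𝓔 f d h1, homComp0_of_mem 𝒞 𝓔 f d hc, map_smul, add_assoc,
        proj_smul_of_mem 𝒜 𝓔 hr]
    | add c c' h1 h2 => rw [smul_add, map_add, map_add, smul_add, h1, h2]
  | add r r' h1 h2 => rw [add_smul, map_add, add_smul, h1, h2]

/-- the component of degree `d` of a linear map between graded modules -/
noncomputable def homComp (f : C →ₗ[R] E') (d : ℤ) : C →ₗ[R] E' where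
  toFun := homComp0 𝒞 𝓔 f d
  map_add' := map_add _
  map_smul' := homComp0_smul 𝒜 𝒞 𝓔 f d

theorem homComp_of_mem (f : C →ₗ[R] E') (d : ℤ) {i : ℤ} {c : C} (hc : c ∈ 𝒞 i) :
    homComp 𝒜 𝒞 𝓔 f d c = proj 𝓔 (i + d) (f c) := homComp0_of_mem 𝒞 𝓔 f d hc

theorem homComp_isGrHomDeg (f : C →ₗ[R] E') (d : ℤ) :
    GrLC.IsGrHomDeg 𝒞 𝓔 (homComp 𝒜 𝒞 𝓔 f d) d := by
  intro i c hc
  rw [homComp_of_mem 𝒜 𝒞 𝓔 f d hc]
  exact proj_mem 𝓔 _ _

theorem homComp_of_isGrHomDeg {f : C →ₗ[R] E'} {e : ℤ} (hf : GrLC.IsGrHomDeg 𝒞 𝓔 f e) (d : ℤ) :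
    homComp 𝒜 𝒞 𝓔 f d = if d = e then f else 0 := by
  apply LinearMap.ext
  intro c
  induction c using induction_on 𝒞 with
  | zero => simp
  | homogeneous i c hc =>
    rw [homComp_of_mem 𝒜 𝒞 𝓔 f d hc]
    by_cases hde : d = e
    · subst hde
      rw [if_pos rfl, proj_of_mem 𝓔 (hf i c hc)]
    · rw [if_neg hde, LinearMap.zero_apply]
      exact proj_of_mem_ne 𝓔 (hf i c hc) (fun h => hde (add_left_cancel h).symm)
  | add c c' h1 h2 => rw [map_add, map_add, h1, h2]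

/-- a linear map out of a finitely generated graded module is the finite sum of its homogeneous
components -/
theorem exists_sum_homComp [Module.Finite R C] (f : C →ₗ[R] E') :
    ∃ s : Finset ℤ, (∀ d, d ∉ s → homComp 𝒜 𝒞 𝓔 f d = 0) ∧ f = ∑ d ∈ s, homComp 𝒜 𝒞 𝓔 f d := by
  classical
  obtain ⟨κ, _, x, e, hx, hspan⟩ := exists_homogeneous_generators (R := R) 𝒞
  let s : Finset ℤ := Finset.univ.biUnion fun j : κ =>
    (DirectSum.decompose 𝓔 (f (x j))).support.image fun g => g - e j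
  have hs : ∀ (j : κ) (d : ℤ), d ∉ s → proj 𝓔 (e j + d) (f (x j)) = 0 := by
    intro j d hd
    apply proj_eq_zero_of_notMem_support
    intro hmem
    apply hd
    apply Finset.mem_biUnion.mpr
    refine ⟨j, Finset.mem_univ j, Finset.mem_image.mpr ⟨e j + d, hmem, by ring⟩⟩
  have hext : ∀ g₁ g₂ : C →ₗ[R] E', (∀ j, g₁ (x j) = g₂ (x j)) → g₁ = g₂ := by
    intro g₁ g₂ h
    apply LinearMap.ext_on_range hspan
    exact h
  refine ⟨s, fun d hd => ?_, ?_⟩
  · apply hext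
    intro j
    rw [homComp_of_mem 𝒜 𝒞 𝓔 f d (hx j), LinearMap.zero_apply]
    exact hs j d hd
  · apply hext
    intro j
    rw [LinearMap.sum_apply]
    have h1 : ∀ d ∈ s, homComp 𝒜 𝒞 𝓔 f d (x j) = proj 𝓔 (e j + d) (f (x j)) :=
      fun d _ => homComp_of_mem 𝒜 𝒞 𝓔 f d (hx j)
    rw [Finset.sum_congr rfl h1]
    have h2 : ∑ d ∈ s, proj 𝓔 (e j + d) (f (x j)) =
        ∑ g ∈ s.image (fun d => e j + d), proj 𝓔 g (f (x j)) := by
      rw [Finset.sum_image]
      intro a _ b _ hab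
      exact add_left_cancel hab
    rw [h2]
    have h3 : (DirectSum.decompose 𝓔 (f (x j))).support ⊆ s.image (fun d => e j + d) := by
      intro g hg
      apply Finset.mem_image.mpr
      refine ⟨g - e j, ?_, by ring⟩
      apply Finset.mem_biUnion.mpr
      exact ⟨j, Finset.mem_univ j, Finset.mem_image.mpr ⟨g, hg, rfl⟩⟩
    rw [← Finset.sum_subset h3 (fun g _ hg => proj_eq_zero_of_notMem_support 𝓔 hg)]
    exact (sum_proj 𝓔 (f (x j))).symm

variable {H : Type u} [AddCommGroup H] [Module R H] (ℋ : ℤ → AddSubgroup H)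
  [DirectSum.Decomposition ℋ]

/-- a homogeneous bijection from `Hom(C, E')` (with `C` finitely generated) has a homogeneous
inverse -/
theorem symm_mem_homDeg [Module.Finite R C] (ψ : (C →ₗ[R] E') ≃ₗ[R] H)
    (hψ : GrLC.IsGrHom (fun d => (GrLC.homDeg 𝒜 𝒞 𝓔 d).toAddSubgroup) ℋ ψ.toLinearMap)
    {d : ℤ} {h : H} (hh : h ∈ ℋ d) : GrLC.IsGrHomDeg 𝒞 𝓔 (ψ.symm h) d := by
  classical
  obtain ⟨s, hs0, hs⟩ := exists_sum_homComp 𝒜 𝒞 𝓔 (ψ.symm h)
  have hmem : ∀ e, ψ (homComp 𝒜 𝒞 𝓔 (ψ.symm h) e) ∈ ℋ e := fun e =>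
    hψ e _ (homComp_isGrHomDeg 𝒜 𝒞 𝓔 (ψ.symm h) e)
  have hz : ∀ e, e ≠ d → homComp 𝒜 𝒞 𝓔 (ψ.symm h) e = 0 := by
    intro e hed
    by_cases hes : e ∈ s
    · apply ψ.injective
      rw [map_zero]
      have h1 : proj ℋ e h = ψ (homComp 𝒜 𝒞 𝓔 (ψ.symm h) e) := by
        have h2 : h = ∑ e' ∈ s, ψ (homComp 𝒜 𝒞 𝓔 (ψ.symm h) e') := by
          rw [← map_sum, ← hs, LinearEquiv.apply_symm_apply]
        conv_lhs => rw [h2]
        rw [map_sum, Finset.sum_eq_single e]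
        · exact proj_of_mem ℋ (hmem e)
        · intro e' _ hne
          exact proj_of_mem_ne ℋ (hmem e') hne
        · intro hne
          exact absurd hes hne
      rw [← h1]
      exact proj_of_mem_ne ℋ hh (Ne.symm hed)
    · exact hs0 e hes
  have hfin : ψ.symm h = homComp 𝒜 𝒞 𝓔 (ψ.symm h) d := by
    conv_lhs => rw [hs]
    by_cases hds : d ∈ s
    · rw [Finset.sum_eq_single d]
      · intro e _ hed
        exact hz e hed
      · intro hne
        exact absurd hds hne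
    · rw [hs0 d hds]
      exact Finset.sum_eq_zero fun e he => hz e (fun hed => hds (hed ▸ he))
  rw [hfin]
  exact homComp_isGrHomDeg 𝒜 𝒞 𝓔 _ d

end HomDecomp

section Canonical

variable {R : Type u} [CommRing R] {𝒜 : ℤ → AddSubgroup R} [GradedRing 𝒜]
variable {m : HomogeneousIdeal 𝒜}
variable {E' : Type u} [AddCommGroup E'] [Module R E'] {𝓔 : ℤ → AddSubgroup E'}
  [DirectSum.Decomposition 𝓔] [SetLike.GradedSMul 𝒜 𝓔]
  {e : (R ⧸ m.toIdeal) →ₗ[R] E'} (S : Setting 𝒜 m 𝓔 e)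
variable {C : Type u} [AddCommGroup C] [Module R C] (𝒞 : ℤ → AddSubgroup C)
  [DirectSum.Decomposition 𝒞] [SetLike.GradedSMul 𝒜 𝒞]

include S in
theorem hom_eq_zero_of_tr' {j : ℤ} {f : C →ₗ[R] E'} (hf : GrLC.IsGrHomDeg 𝒞 𝓔 f (-j))
    (h : ∀ x ∈ 𝒞 j, S.tr (f x) = 0) : f = 0 := by
  apply hom_eq_zero_of_tr S 𝒞 hf
  rw [neg_neg]
  exact h

include S in
theorem exists_hom_of_dual (j : ℤ)
    (l : ↥(GrLC.comp 𝒜 𝒞 j) →ₗ[GrLC.deg0 𝒜] GrLC.deg0 𝒜) :
    ∃ f : C →ₗ[R] E', GrLC.IsGrHomDeg 𝒞 𝓔 f (-j) ∧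
      ∀ (x : C) (hx : x ∈ 𝒞 j), S.tr (f x) = (l ⟨x, hx⟩ : R) := by
  let l₁ : C →+ R := AddMonoidHom.mk'
    (fun x => (l ⟨proj 𝒞 j x, proj_mem 𝒞 j x⟩ : R)) (fun x y => by
      have : (⟨proj 𝒞 j (x + y), proj_mem 𝒞 j (x + y)⟩ : ↥(GrLC.comp 𝒜 𝒞 j)) =
          ⟨proj 𝒞 j x, proj_mem 𝒞 j x⟩ + ⟨proj 𝒞 j y, proj_mem 𝒞 j y⟩ := by
        apply Subtype.ext
        exact map_add _ _ _
      rw [this, map_add]
      rfl)
  have hl₁ : ∀ (x : C) (hx : x ∈ 𝒞 j), l₁ x = (l ⟨x, hx⟩ : R) := by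
    intro x hx
    change (l ⟨proj 𝒞 j x, proj_mem 𝒞 j x⟩ : R) = _
    congr 2
    exact Subtype.ext (proj_of_mem 𝒞 hx)
  have h1 : ∀ x ∈ 𝒞 (- -j), l₁ x ∈ 𝒜 0 := fun x _ => (l _).2
  have h2 : ∀ c ∈ 𝒜 0, ∀ x ∈ 𝒞 (- -j), l₁ (c • x) = c * l₁ x := by
    intro c hc x hx
    rw [neg_neg] at hx
    have hcx : c • x ∈ 𝒞 j := by
      have := SetLike.GradedSMul.smul_mem (A := 𝒜) (B := 𝒞) hc hx
      rwa [vadd_eq_add, zero_add] at this
    rw [hl₁ _ hcx, hl₁ _ hx]
    have : (⟨c • x, hcx⟩ : ↥(GrLC.comp 𝒜 𝒞 j)) = (⟨c, hc⟩ : GrLC.deg0 𝒜) • ⟨x, hx⟩ := rfl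
    rw [this, map_smul]
    rfl
  obtain ⟨f, hf, hfl⟩ := exists_hom_of_functional S 𝒞 (-j) l₁ h1 h2
  refine ⟨f, hf, fun x hx => ?_⟩
  rw [← hl₁ x hx]
  apply hfl
  rwa [neg_neg]

variable [IsNoetherianRing R] [Module.Finite R C]
variable {H : Type u} [AddCommGroup H] [Module R H] (ℋ : ℤ → AddSubgroup H)
  [DirectSum.Decomposition ℋ] [SetLike.GradedSMul 𝒜 ℋ]

include S in
/-- a finitely generated graded module is the graded Matlis dual of its graded Matlis dual -/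
theorem perfPair_canonical (ψ : (C →ₗ[R] E') ≃ₗ[R] H)
    (hψ : GrLC.IsGrHom (fun d => (GrLC.homDeg 𝒜 𝒞 𝓔 d).toAddSubgroup) ℋ ψ.toLinearMap) :
    PerfPair 𝒜 𝒞 ℋ (fun c h => S.tr (ψ.symm h c)) where
  mem0 := fun c h => S.tr_mem _
  add_left := fun c c' h => by
    change S.tr (ψ.symm h (c + c')) = _
    rw [map_add, S.tr_add]
  add_right := fun c h h' => by
    change S.tr (ψ.symm (h + h') c) = _
    rw [map_add, LinearMap.add_apply, S.tr_add]
  bal := fun r c h => by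
    change S.tr (ψ.symm h (r • c)) = S.tr (ψ.symm (r • h) c)
    rw [map_smul, map_smul, LinearMap.smul_apply]
  smul0 := fun c hc x h => by
    change S.tr (ψ.symm h (c • x)) = c * S.tr (ψ.symm h x)
    rw [map_smul, S.tr_smul hc]
  nondeg := fun j c hc hz => by
    by_contra hc0
    have hv : (⟨c, hc⟩ : ↥(GrLC.comp 𝒜 𝒞 j)) ≠ 0 := fun h => hc0 (congrArg Subtype.val h)
    obtain ⟨l, hl⟩ := exists_functional_ne_zero S.h0 hv
    obtain ⟨f, hf, hfl⟩ := exists_hom_of_dual S 𝒞 j l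
    have h1 := hz (ψ f) (hψ (-j) f hf)
    change S.tr (ψ.symm (ψ f) c) = 0 at h1
    rw [LinearEquiv.symm_apply_apply, hfl c hc] at h1
    exact hl (Subtype.ext h1)
  repr := fun j l hl0 hls => by
    obtain ⟨G⟩ := exists_posGens 𝒜 m.toIdeal S.hmsp
    have ha : ∀ n : ℤ, 0 < n → ∀ y ∈ 𝒜 n, y ∈ m.toIdeal := by
      intro n hn y hy
      rw [S.hmsp]
      apply Ideal.subset_span
      simp only [Set.mem_iUnion, Set.mem_Ioi, SetLike.mem_coe]
      exact ⟨n, hn, hy⟩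
    haveI : Module.Finite (GrLC.deg0 𝒜) ↥(GrLC.comp 𝒜 𝒞 j) :=
      Module.Finite.iff_fg.mpr (G.comp_module_fg 𝒞 S.hpos ha j)
    let β : ↥(GrLC.comp 𝒜 𝒞 j) →ₗ[GrLC.deg0 𝒜] ↥(GrLC.comp 𝒜 ℋ (-j)) →ₗ[GrLC.deg0 𝒜]
        GrLC.deg0 𝒜 :=
      LinearMap.mk₂ (GrLC.deg0 𝒜) (fun v w => ⟨S.tr (ψ.symm (w : H) (v : C)), S.tr_mem _⟩)
        (fun v v' w => by
          apply Subtype.ext
          change S.tr (ψ.symm (w : H) ((v : C) + (v' : C))) = _
          rw [map_add, S.tr_add]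
          rfl)
        (fun c v w => by
          apply Subtype.ext
          change S.tr (ψ.symm (w : H) ((c : R) • (v : C))) = (c : R) * S.tr _
          rw [map_smul, S.tr_smul c.2])
        (fun v w w' => by
          apply Subtype.ext
          change S.tr (ψ.symm ((w : H) + (w' : H)) (v : C)) = _
          rw [map_add, LinearMap.add_apply, S.tr_add]
          rfl)
        (fun c v w => by
          apply Subtype.ext
          change S.tr (ψ.symm ((c : R) • (w : H)) (v : C)) = (c : R) * S.tr _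
          rw [map_smul, LinearMap.smul_apply, S.tr_smul c.2])
    have hβ : ∀ v w, (β v w : R) = S.tr (ψ.symm (w : H) (v : C)) := fun v w => rfl
    have h1 : ∀ l' : ↥(GrLC.comp 𝒜 𝒞 j) →ₗ[GrLC.deg0 𝒜] GrLC.deg0 𝒜,
        ∃ w, ∀ v, β v w = l' v := by
      intro l'
      obtain ⟨f, hf, hfl⟩ := exists_hom_of_dual S 𝒞 j l'
      refine ⟨⟨ψ f, hψ (-j) f hf⟩, fun v => ?_⟩
      apply Subtype.ext
      rw [hβ]
      change S.tr (ψ.symm (ψ f) (v : C)) = _
      rw [LinearEquiv.symm_apply_apply]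
      exact hfl v.1 v.2
    have h2 : ∀ w, (∀ v, β v w = 0) → w = 0 := by
      intro w hw
      have hf : GrLC.IsGrHomDeg 𝒞 𝓔 (ψ.symm (w : H)) (-j) :=
        symm_mem_homDeg 𝒜 𝒞 𝓔 ℋ ψ hψ w.2
      have hz := hom_eq_zero_of_tr' S 𝒞 hf (fun x hx => by
        have := hw ⟨x, hx⟩
        have h3 := congrArg Subtype.val this
        rw [hβ] at h3
        exact h3)
      apply Subtype.ext
      have : (w : H) = ψ (ψ.symm (w : H)) := (LinearEquiv.apply_symm_apply ψ _).symm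
      rw [this, hz, map_zero]
      rfl
    let μ : ↥(GrLC.comp 𝒜 ℋ (-j)) →ₗ[GrLC.deg0 𝒜] GrLC.deg0 𝒜 :=
      { toFun := fun w => ⟨l (w : H), hl0 _ w.2⟩
        map_add' := fun w w' => by
          apply Subtype.ext
          change l ((w : H) + (w' : H)) = _
          rw [map_add]
          rfl
        map_smul' := fun c w => by
          apply Subtype.ext
          change l ((c : R) • (w : H)) = (c : R) * l (w : H)
          exact hls c c.2 w w.2 }
    obtain ⟨v, hv⟩ := exists_repr_of_perfect S.h0 β h1 h2 μ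
    refine ⟨v.1, v.2, fun h hh => ?_⟩
    have := congrArg Subtype.val (hv ⟨h, hh⟩)
    rw [hβ] at this
    exact this

end Canonical

end GDual

end Groth.Agent.H6
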