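import Groth.Agent.Lib.Helper6.GrDualFlip

/-! Graded Matlis duality, converse direction: a finitely generated graded module in perfect
duality with a graded module `H` satisfies `Hom(C, *E) ≅ H`. -/

universe u
open DirectSum
set_option linter.unusedSectionVars false

namespace Groth.Agent.H6

namespace GDual

open Gr Ver

section Assemble

variable {R : Type u} [CommRing R] (𝒜 : ℤ → AddSubgroup R) [GradedRing 𝒜]
variable {H : Type u} [AddCommGroup H] [Module R H] (ℋ : ℤ → AddSubgroup H)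
  [DirectSum.Decomposition ℋ]
variable {G : Type u} [AddCommGroup G] [Module R G]

/-- a linear map assembled from a degreewise functional relation -/
theorem exists_assemble_lin
    (Rel : ℤ → H → G → Prop)
    (hex : ∀ δ, ∀ h ∈ ℋ δ, ∃ g, Rel δ h g)
    (huniq : ∀ δ h g g', Rel δ h g → Rel δ h g' → g = g')
    (hadd : ∀ δ h h' g g', Rel δ h g → Rel δ h' g' → Rel δ (h + h') (g + g'))
    (hmem : ∀ δ h g, Rel δ h g → h ∈ ℋ δ)
    (hsmul : ∀ e δ t h g, t ∈ 𝒜 e → Rel δ h g → Rel (e + δ) (t • h) (t • g)) :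
    ∃ Ξ : H →ₗ[R] G, ∀ δ, ∀ h ∈ ℋ δ, Rel δ h (Ξ h) := by
  choose c hc using hex
  let γ : ∀ δ : ℤ, ℋ δ →+ G := fun δ =>
    AddMonoidHom.mk' (fun h => c δ h.1 h.2) (fun h h' =>
      huniq δ (h.1 + h'.1) _ _ (hc δ _ (add_mem h.2 h'.2)) (hadd δ _ _ _ _ (hc δ _ h.2) (hc δ _ h'.2)))
  let Ξ : H →+ G := (DirectSum.toAddMonoid γ).comp (DirectSum.decomposeAddEquiv ℋ).toAddMonoidHom
  have hΞ : ∀ δ (h : H) (hh : h ∈ ℋ δ), Ξ h = c δ h hh := by
    intro δ h hh
    change DirectSum.toAddMonoid γ (DirectSum.decompose ℋ h) = _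
    rw [DirectSum.decompose_of_mem ℋ hh, DirectSum.toAddMonoid_of]
    rfl
  have hrel : ∀ δ (h : H), h ∈ ℋ δ → Rel δ h (Ξ h) := by
    intro δ h hh
    rw [hΞ δ h hh]
    exact hc δ h hh
  have hlin : ∀ (t : R) (h : H), Ξ (t • h) = t • Ξ h := by
    intro t h
    induction t using DirectSum.Decomposition.inductionOn 𝒜 with
    | zero => rw [zero_smul, map_zero, zero_smul]
    | homogeneous t =>
      rename_i e
      induction h using DirectSum.Decomposition.inductionOn ℋ with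
      | zero => rw [smul_zero, map_zero, smul_zero]
      | homogeneous h =>
        rename_i δ
        have h1 := hsmul e δ t.1 h.1 _ t.2 (hrel δ h.1 h.2)
        have h2 := hrel (e + δ) (t.1 • h.1) (hmem _ _ _ h1)
        exact huniq _ _ _ _ h2 h1
      | add h h' ih ih' => rw [smul_add, map_add, map_add, smul_add, ih, ih']
    | add t t' ih ih' => rw [add_smul, map_add, add_smul, ih, ih']
  exact ⟨{ toFun := Ξ, map_add' := map_add Ξ, map_smul' := hlin }, hrel⟩

end Assemble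

section Canonical

variable {R : Type u} [CommRing R] {𝒜 : ℤ → AddSubgroup R} [GradedRing 𝒜]
variable {m : HomogeneousIdeal 𝒜}
variable {E' : Type u} [AddCommGroup E'] [Module R E'] {𝓔 : ℤ → AddSubgroup E'}
  [DirectSum.Decomposition 𝓔] [SetLike.GradedSMul 𝒜 𝓔]
  {e : (R ⧸ m.toIdeal) →ₗ[R] E'} (S : Setting 𝒜 m 𝓔 e)
variable {C : Type u} [AddCommGroup C] [Module R C] (𝒞 : ℤ → AddSubgroup C)
  [DirectSum.Decomposition 𝒞] [SetLike.GradedSMul 𝒜 𝒞]
variable [Module.Finite R C]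
variable {H : Type u} [AddCommGroup H] [Module R H] (ℋ : ℤ → AddSubgroup H)
  [DirectSum.Decomposition ℋ] [SetLike.GradedSMul 𝒜 ℋ]

include S in
/-- **graded Matlis duality, converse**: a perfect pairing between a finitely generated graded
module `C` and a graded module `H` with finite pieces gives a homogeneous isomorphism
`Hom(C, *E(R/m)) ≅ H` -/
theorem canonical_of_perfPair {τ : C → H → R} (hτ : PerfPair 𝒜 𝒞 ℋ τ)
    (hfin : ∀ j, Module.Finite (GrLC.deg0 𝒜) ↥(GrLC.comp 𝒜 ℋ j)) :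
    ∃ φ : (C →ₗ[R] E') ≃ₗ[R] H,
      GrLC.IsGrHom (fun d => (GrLC.homDeg 𝒜 𝒞 𝓔 d).toAddSubgroup) ℋ φ.toLinearMap := by
  -- the relation
  let Rel : ℤ → H → (C →ₗ[R] E') → Prop := fun d h f =>
    h ∈ ℋ d ∧ GrLC.IsGrHomDeg 𝒞 𝓔 f d ∧ ∀ c ∈ 𝒞 (-d), S.tr (f c) = τ c h
  have huniq : ∀ d h f f', Rel d h f → Rel d h f' → f = f' := by
    rintro d h f f' ⟨-, hf, hft⟩ ⟨-, hf', hft'⟩
    have h1 : GrLC.IsGrHomDeg 𝒞 𝓔 (f - f') d := fun g c hc =>
      sub_mem (hf g c hc) (hf' g c hc)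
    have h2 := hom_eq_zero_of_tr S 𝒞 h1 (fun x hx => by
      rw [LinearMap.sub_apply, sub_eq_add_neg, S.tr_add, S.tr_neg, hft x hx, hft' x hx,
        add_neg_cancel])
    exact sub_eq_zero.mp h2
  obtain ⟨θ, hθ⟩ := exists_assemble_lin 𝒜 ℋ Rel
    (by
      intro d h hh
      obtain ⟨f, hf, hfl⟩ := exists_hom_of_functional S 𝒞 d
        (AddMonoidHom.mk' (fun c => τ c h) (fun c c' => hτ.add_left c c' h))
        (fun x _ => hτ.mem0 x h) (fun a ha x _ => hτ.smul0 a ha x h)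
      exact ⟨f, hh, hf, hfl⟩)
    huniq
    (by
      rintro d h h' f f' ⟨hh, hf, hft⟩ ⟨hh', hf', hft'⟩
      refine ⟨add_mem hh hh', fun g c hc => add_mem (hf g c hc) (hf' g c hc), fun c hc => ?_⟩
      rw [LinearMap.add_apply, S.tr_add, hft c hc, hft' c hc, hτ.add_right])
    (fun d h f hr => hr.1)
    (by
      rintro e' d r h f hr ⟨hh, hf, hft⟩
      refine ⟨SetLike.GradedSMul.smul_mem (A := 𝒜) (B := ℋ) hr hh, fun g c hc => ?_, fun c hc => ?_⟩
      · rw [LinearMap.smul_apply]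
        have := SetLike.GradedSMul.smul_mem (A := 𝒜) (B := 𝓔) hr (hf g c hc)
        rw [vadd_eq_add] at this
        have e1 : e' + (g + d) = g + (e' + d) := by ring
        rwa [e1] at this
      · rw [LinearMap.smul_apply, ← map_smul]
        have hrc : r • c ∈ 𝒞 (-d) := by
          have := SetLike.GradedSMul.smul_mem (A := 𝒜) (B := 𝒞) hr hc
          rw [vadd_eq_add] at this
          have e1 : e' + -(e' + d) = -d := by ring
          rwa [e1] at this
        rw [hft _ hrc, hτ.bal])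
  -- the key formula
  have key : ∀ (d : ℤ) (c : C), c ∈ 𝒞 (-d) → ∀ h : H, S.tr (θ h c) = τ c (proj ℋ d h) := by
    intro d c hc h
    induction h using DirectSum.Decomposition.inductionOn ℋ with
    | zero => rw [map_zero, map_zero, LinearMap.zero_apply, S.tr_zero, hτ.zero_right]
    | homogeneous h =>
      rename_i d'
      obtain ⟨-, hf, hft⟩ := hθ d' h.1 h.2
      by_cases hdd : d' = d
      · subst hdd
        rw [proj_of_mem ℋ h.2]
        exact hft c hc
      · rw [proj_of_mem_ne ℋ h.2 hdd, hτ.zero_right]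
        have h1 := hf (-d) c hc
        exact S.tr_of_mem_ne h1 (by omega)
    | add h h' ih ih' =>
      rw [map_add, map_add, LinearMap.add_apply, S.tr_add, ih, ih', hτ.add_right]
  have hinj : Function.Injective θ := by
    rw [injective_iff_map_eq_zero]
    intro h hh0
    apply eq_zero_of_proj_eq_zero ℋ
    intro d
    apply hτ.nondeg_right S.h0 (-d) _ (by rw [neg_neg]; exact proj_mem ℋ d h)
    intro x hx
    rw [← key d x hx h, hh0, LinearMap.zero_apply, S.tr_zero]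
  have hsurj : Function.Surjective θ := by
    intro f
    obtain ⟨s, -, hs⟩ := exists_sum_homComp 𝒜 𝒞 𝓔 f
    have hcomp : ∀ d, ∃ y, θ y = homComp 𝒜 𝒞 𝓔 f d := by
      intro d
      haveI : Module.Finite (GrLC.deg0 𝒜) ↥(GrLC.comp 𝒜 ℋ (- -d)) := hfin _
      obtain ⟨y, hy, hyl⟩ := hτ.repr_right S.h0 (-d)
        (S.trHom.comp (homComp 𝒜 𝒞 𝓔 f d).toAddMonoidHom)
        (fun x _ => S.tr_mem _)
        (fun a ha x _ => by
          change S.tr (homComp 𝒜 𝒞 𝓔 f d (a • x)) = a * S.tr (homComp 𝒜 𝒞 𝓔 f d x)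
          rw [map_smul, S.tr_smul ha])
      rw [neg_neg] at hy
      refine ⟨y, ?_⟩
      obtain ⟨-, hf, hft⟩ := hθ d y hy
      exact huniq d y _ _ ⟨hy, hf, hft⟩
        ⟨hy, homComp_isGrHomDeg 𝒜 𝒞 𝓔 f d, fun c hc => (hyl c hc).symm⟩
    choose y hy using hcomp
    refine ⟨∑ d ∈ s, y d, ?_⟩
    rw [map_sum]
    conv_rhs => rw [hs]
    exact Finset.sum_congr rfl fun d _ => hy d
  let Θ : H ≃ₗ[R] (C →ₗ[R] E') := LinearEquiv.ofBijective θ ⟨hinj, hsurj⟩
  refine ⟨Θ.symm, ?_⟩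
  intro d f hf
  have hf' : GrLC.IsGrHomDeg 𝒞 𝓔 f d := hf
  change Θ.symm f ∈ ℋ d
  set h := Θ.symm f with hh
  have hθh : θ h = f := Θ.apply_symm_apply f
  have hz : ∀ d', d' ≠ d → proj ℋ d' h = 0 := by
    intro d' hne
    apply hτ.nondeg_right S.h0 (-d') _ (by rw [neg_neg]; exact proj_mem ℋ d' h)
    intro x hx
    rw [← key d' x hx h, hθh]
    exact S.tr_of_mem_ne (hf' (-d') x hx) (by omega)
  have h1 : h - proj ℋ d h = 0 := by
    apply eq_zero_of_proj_eq_zero ℋ
    intro d'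
    rw [map_sub]
    by_cases hdd : d' = d
    · subst hdd
      rw [proj_proj_same, sub_self]
    · rw [hz d' hdd, proj_proj_ne ℋ (Ne.symm hdd), sub_zero]
  rw [sub_eq_zero.mp h1]
  exact proj_mem ℋ d h

end Canonical

end GDual

end Groth.Agent.H6
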