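import Groth.Agent.Lib.Helper6.GrShiftRes

/-! Additivity of the maps induced on graded local cohomology, and the maps induced by
homomorphisms homogeneous of a given degree. -/

universe u
open DirectSum
set_option linter.unusedSectionVars false

namespace Groth.Agent.H6

namespace Gr

variable {ι : Type} [AddCommGroup ι] [DecidableEq ι]
variable {R : Type u} [CommRing R] {𝒜 : ι → AddSubgroup R} [GradedRing 𝒜]
variable {M : Type u} [AddCommGroup M] [Module R M] {ℳ : ι → AddSubgroup M}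
  [DirectSum.Decomposition ℳ] [SetLike.GradedSMul 𝒜 ℳ]
variable {N : Type u} [AddCommGroup N] [Module R N] {𝒩 : ι → AddSubgroup N}
  [DirectSum.Decomposition 𝒩] [SetLike.GradedSMul 𝒜 𝒩]
variable {L : Type u} [AddCommGroup L] [Module R L] {𝓛 : ι → AddSubgroup L}
  [DirectSum.Decomposition 𝓛] [SetLike.GradedSMul 𝒜 𝓛]

section Add

variable {E : GrLC.StarInjRes 𝒜 ℳ} {F : GrLC.StarInjRes 𝒜 𝒩} (a : HomogeneousIdeal 𝒜)

/-- the sum of two lifts -/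
def ChainLift.add {f g : M →ₗ[R] N} (c : ChainLift 𝒜 ℳ 𝒩 E F f) (c' : ChainLift 𝒜 ℳ 𝒩 E F g) :
    ChainLift 𝒜 ℳ 𝒩 E F (f + g) where
  φ n := c.φ n + c'.φ n
  grHom n := fun k x hx => add_mem (c.grHom n k x hx) (c'.grHom n k x hx)
  comm_ε m := by
    rw [LinearMap.add_apply, c.comm_ε, c'.comm_ε, LinearMap.add_apply, map_add]
  comm_d n x := by
    rw [LinearMap.add_apply, c.comm_d, c'.comm_d, LinearMap.add_apply, map_add]

theorem ChainLift.add_Hmap {f g : M →ₗ[R] N} (c : ChainLift 𝒜 ℳ 𝒩 E F f)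
    (c' : ChainLift 𝒜 ℳ 𝒩 E F g) (i : ℕ) :
    (c.add c').Hmap a i = c.Hmap a i + c'.Hmap a i := by
  apply LinearMap.ext
  intro x
  obtain ⟨z, rfl⟩ := Submodule.mkQ_surjective _ x
  change (c.add c').Hmap a i (E.toH a i z) = c.Hmap a i (E.toH a i z) + c'.Hmap a i (E.toH a i z)
  rw [ChainLift.Hmap_toH, ChainLift.Hmap_toH, ChainLift.Hmap_toH, ← map_add]
  rfl

/-- the zero lift -/
def ChainLift.zero : ChainLift 𝒜 ℳ 𝒩 E F 0 where
  φ n := 0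
  grHom n := fun k x _ => zero_mem _
  comm_ε m := by rw [LinearMap.zero_apply, LinearMap.zero_apply, map_zero]
  comm_d n x := by rw [LinearMap.zero_apply, LinearMap.zero_apply, map_zero]

theorem ChainLift.zero_Hmap (i : ℕ) :
    (ChainLift.zero (E := E) (F := F)).Hmap a i = 0 := by
  apply LinearMap.ext
  intro x
  obtain ⟨z, rfl⟩ := Submodule.mkQ_surjective _ x
  change (ChainLift.zero (E := E) (F := F)).Hmap a i (E.toH a i z) = 0
  rw [ChainLift.Hmap_toH]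
  have : (ChainLift.zero (E := E) (F := F)).cocycMap a i z = 0 := Subtype.ext rfl
  rw [this, map_zero]

theorem isGrHom_add {f g : M →ₗ[R] N} (hf : GrLC.IsGrHom ℳ 𝒩 f) (hg : GrLC.IsGrHom ℳ 𝒩 g) :
    GrLC.IsGrHom ℳ 𝒩 (f + g) := fun k x hx => add_mem (hf k x hx) (hg k x hx)

theorem isGrHom_zero : GrLC.IsGrHom ℳ 𝒩 (0 : M →ₗ[R] N) := fun _ _ _ => zero_mem _

theorem Hmap_add {f g : M →ₗ[R] N} (hf : GrLC.IsGrHom ℳ 𝒩 f) (hg : GrLC.IsGrHom ℳ 𝒩 g) (i : ℕ) :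
    Hmap E F a (f + g) (isGrHom_add hf hg) i = Hmap E F a f hf i + Hmap E F a g hg i := by
  obtain ⟨c⟩ := exists_chainLift E F f hf
  obtain ⟨c'⟩ := exists_chainLift E F g hg
  rw [Hmap_eq_chainLift a _ (c.add c'), Hmap_eq_chainLift a hf c, Hmap_eq_chainLift a hg c',
    ChainLift.add_Hmap]

theorem Hmap_zero (i : ℕ) : Hmap E F a (0 : M →ₗ[R] N) isGrHom_zero i = 0 := by
  rw [Hmap_eq_chainLift a _ ChainLift.zero, ChainLift.zero_Hmap]

theorem Hmap_congr' {f f' : M →ₗ[R] N} (h : f = f') (hf : GrLC.IsGrHom ℳ 𝒩 f)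
    (hf' : GrLC.IsGrHom ℳ 𝒩 f') (i : ℕ) : Hmap E F a f hf i = Hmap E F a f' hf' i := by
  subst h
  rfl

theorem isGrHom_sum {κ : Type*} (s : Finset κ) (f : κ → M →ₗ[R] N)
    (hf : ∀ j, GrLC.IsGrHom ℳ 𝒩 (f j)) : GrLC.IsGrHom ℳ 𝒩 (∑ j ∈ s, f j) := by
  intro k x hx
  rw [LinearMap.sum_apply]
  exact sum_mem fun j _ => hf j k x hx

theorem Hmap_sum {κ : Type*} (s : Finset κ) (f : κ → M →ₗ[R] N)
    (hf : ∀ j, GrLC.IsGrHom ℳ 𝒩 (f j)) (i : ℕ) :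
    Hmap E F a (∑ j ∈ s, f j) (isGrHom_sum s f hf) i = ∑ j ∈ s, Hmap E F a (f j) (hf j) i := by
  classical
  induction s using Finset.induction_on with
  | empty =>
    exact ((Hmap_congr' a Finset.sum_empty _ isGrHom_zero i).trans (Hmap_zero a i)).trans
      Finset.sum_empty.symm
  | insert j s hj ih =>
    refine ((Hmap_congr' a (Finset.sum_insert hj) _
      (isGrHom_add (hf j) (isGrHom_sum s f hf)) i).trans
      (Hmap_add a (hf j) (isGrHom_sum s f hf) i)).trans ?_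
    rw [ih, Finset.sum_insert hj]

end Add

section Deg

variable (E : GrLC.StarInjRes 𝒜 ℳ) (F : GrLC.StarInjRes 𝒜 𝒩) (G : GrLC.StarInjRes 𝒜 𝓛)
  (a : HomogeneousIdeal 𝒜)

theorem isGrHom_shift_of_deg {f : M →ₗ[R] N} {e : ι} (hf : GrLC.IsGrHomDeg ℳ 𝒩 f e) :
    GrLC.IsGrHom (Msh (𝒜 := 𝒜) ℳ e).gr 𝒩 f := by
  intro k (x : M) (hx : x ∈ ℳ (k - e))
  have := hf (k - e) x hx
  rwa [sub_add_cancel] at this

/-- the map induced on graded local cohomology by a homomorphism homogeneous of degree `e` -/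
noncomputable def HmapDeg (f : M →ₗ[R] N) (e : ι) (hf : GrLC.IsGrHomDeg ℳ 𝒩 f e) (n : ℕ) :
    E.H a n →ₗ[R] F.H a n :=
  Hmap (shiftRes E e) F a f (isGrHom_shift_of_deg (𝒜 := 𝒜) (ℳ := ℳ) (𝒩 := 𝒩) hf) n ∘ₗ (shiftH E a e n).symm.toLinearMap

variable {E F G}

theorem HmapDeg_mem {f : M →ₗ[R] N} {e : ι} (hf : GrLC.IsGrHomDeg ℳ 𝒩 f e) (n : ℕ) {k : ι}
    {y : E.H a n} (hy : y ∈ E.Hgr a n k) : HmapDeg E F a f e hf n y ∈ F.Hgr a n (k + e) := by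
  have h1 : (shiftH E a e n).symm y ∈ (shiftRes E e).Hgr a n (k + e) := by
    rw [shiftH_mem, LinearEquiv.apply_symm_apply, add_sub_cancel_right]
    exact hy
  exact Hmap_isGrHom (E := shiftRes E e) (F := F) a
    (isGrHom_shift_of_deg (𝒜 := 𝒜) (ℳ := ℳ) (𝒩 := 𝒩) hf) n (k + e) _ h1

theorem HmapDeg_congr {f f' : M →ₗ[R] N} {e e' : ι} (h : f = f') (he : e = e')
    (hf : GrLC.IsGrHomDeg ℳ 𝒩 f e) (hf' : GrLC.IsGrHomDeg ℳ 𝒩 f' e') (n : ℕ) :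
    HmapDeg E F a f e hf n = HmapDeg E F a f' e' hf' n := by
  subst h
  subst he
  rfl

theorem isGrHomDeg_add {f g : M →ₗ[R] N} {e : ι} (hf : GrLC.IsGrHomDeg ℳ 𝒩 f e)
    (hg : GrLC.IsGrHomDeg ℳ 𝒩 g e) : GrLC.IsGrHomDeg ℳ 𝒩 (f + g) e :=
  fun k x hx => add_mem (hf k x hx) (hg k x hx)

theorem HmapDeg_add {f g : M →ₗ[R] N} {e : ι} (hf : GrLC.IsGrHomDeg ℳ 𝒩 f e)
    (hg : GrLC.IsGrHomDeg ℳ 𝒩 g e) (n : ℕ) :
    HmapDeg E F a (f + g) e (isGrHomDeg_add hf hg) n =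
      HmapDeg E F a f e hf n + HmapDeg E F a g e hg n := by
  unfold HmapDeg
  rw [← LinearMap.add_comp]
  congr 1
  exact Hmap_add (E := shiftRes E e) (F := F) a
    (isGrHom_shift_of_deg (𝒜 := 𝒜) (ℳ := ℳ) (𝒩 := 𝒩) hf)
    (isGrHom_shift_of_deg (𝒜 := 𝒜) (ℳ := ℳ) (𝒩 := 𝒩) hg) n

theorem isGrHomDeg_smul {f : M →ₗ[R] N} {e c : ι} {t : R} (ht : t ∈ 𝒜 c)
    (hf : GrLC.IsGrHomDeg ℳ 𝒩 f e) : GrLC.IsGrHomDeg ℳ 𝒩 (t • f) (c + e) := by
  intro k x hx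
  have h1 := SetLike.GradedSMul.smul_mem (A := 𝒜) (B := 𝒩) ht (hf k x hx)
  rw [vadd_eq_add] at h1
  rw [LinearMap.smul_apply, add_comm c e, ← add_assoc, add_comm _ c]
  exact h1

/-- the lift of `t • f` from a lift of `f` -/
noncomputable def ChainLift.smulShift {f : M →ₗ[R] N} {e c : ι} {t : R} (ht : t ∈ 𝒜 c)
    (c₀ : ChainLift 𝒜 (Msh (𝒜 := 𝒜) ℳ e).gr 𝒩 (shiftRes E e) F f) :
    ChainLift 𝒜 (Msh (𝒜 := 𝒜) ℳ (c + e)).gr 𝒩 (shiftRes E (c + e)) F (t • f) where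
  φ n := t • c₀.φ n
  grHom n := fun k (x : (E.X n).carrier) (hx : x ∈ (E.X n).gr (k - (c + e))) => by
    have hx' : x ∈ (E.X n).gr (k - c - e) := by rwa [sub_sub]
    have h1 := c₀.grHom n (k - c) x hx'
    have h2 := SetLike.GradedSMul.smul_mem (A := 𝒜) (B := (F.X n).gr) ht h1
    rw [vadd_eq_add, add_sub_cancel] at h2
    exact h2
  comm_ε := fun (m : M) => by
    change t • c₀.φ 0 (E.ε m) = F.ε (t • f m)
    rw [map_smul]
    congr 1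
    exact c₀.comm_ε m
  comm_d := fun n (x : (E.X n).carrier) => by
    change t • c₀.φ (n + 1) (E.d n x) = F.d n (t • c₀.φ n x)
    rw [map_smul]
    congr 1
    exact c₀.comm_d n x

theorem HmapDeg_smul {f : M →ₗ[R] N} {e c : ι} {t : R} (ht : t ∈ 𝒜 c)
    (hf : GrLC.IsGrHomDeg ℳ 𝒩 f e) (n : ℕ) :
    HmapDeg E F a (t • f) (c + e) (isGrHomDeg_smul ht hf) n = t • HmapDeg E F a f e hf n := by
  obtain ⟨c₀⟩ := exists_chainLift (shiftRes E e) F f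
    (isGrHom_shift_of_deg (𝒜 := 𝒜) (ℳ := ℳ) (𝒩 := 𝒩) hf)
  have h3 := Hmap_eq_chainLift (E := shiftRes E (c + e)) (F := F) a
    (isGrHom_shift_of_deg (𝒜 := 𝒜) (ℳ := ℳ) (𝒩 := 𝒩) (isGrHomDeg_smul ht hf))
    (ChainLift.smulShift ht c₀) n
  have h4 := Hmap_eq_chainLift (E := shiftRes E e) (F := F) a
    (isGrHom_shift_of_deg (𝒜 := 𝒜) (ℳ := ℳ) (𝒩 := 𝒩) hf) c₀ n
  apply LinearMap.ext
  intro y
  obtain ⟨z, rfl⟩ := toH_surjective E a n y
  have h5 : HmapDeg E F a (t • f) (c + e) (isGrHomDeg_smul ht hf) n (E.toH a n z) =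
      (ChainLift.smulShift ht c₀).Hmap a n ((shiftRes E (c + e)).toH a n z) :=
    LinearMap.congr_fun h3 _
  have h6 : HmapDeg E F a f e hf n (E.toH a n z) = c₀.Hmap a n ((shiftRes E e).toH a n z) :=
    LinearMap.congr_fun h4 _
  rw [LinearMap.smul_apply, h5, h6]
  have h1 := (ChainLift.smulShift ht c₀).Hmap_toH a n z
  have h2 := c₀.Hmap_toH a n z
  refine h1.trans ?_
  refine Eq.trans ?_ (congrArg (fun w => t • w) h2.symm)
  exact (map_smul (F.toH a n) t (c₀.cocycMap a n z))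

theorem Hmap_comp_HmapDeg {f : M →ₗ[R] N} {e : ι} (hf : GrLC.IsGrHomDeg ℳ 𝒩 f e)
    {g : N →ₗ[R] L} (hg : GrLC.IsGrHom 𝒩 𝓛 g) (n : ℕ) :
    Hmap F G a g hg n ∘ₗ HmapDeg E F a f e hf n =
      HmapDeg E G a (g ∘ₗ f) e (fun k x hx => hg _ _ (hf k x hx)) n := by
  unfold HmapDeg
  rw [← LinearMap.comp_assoc]
  congr 1
  exact (Hmap_comp (E := shiftRes E e) (F := F) (G := G) a (isGrHom_shift_of_deg (𝒜 := 𝒜) (ℳ := ℳ) (𝒩 := 𝒩) hf) hg n).symm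

theorem HmapDeg_id_shift (c : ι) (n : ℕ) :
    HmapDeg E (shiftRes E c) a (LinearMap.id : M →ₗ[R] M) c
      (fun k (x : M) (hx : x ∈ ℳ k) => by
        change x ∈ ℳ (k + c - c)
        rwa [add_sub_cancel_right]) n =
      (shiftH E a c n).symm.toLinearMap := by
  unfold HmapDeg
  have h1 := Hmap_id (E := shiftRes E c) a n
  have h2 : Hmap (shiftRes E c) (shiftRes E c) a (LinearMap.id : M →ₗ[R] M) _ n =
      Hmap (shiftRes E c) (shiftRes E c) a LinearMap.id (fun _ _ h => h) n := rfl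
  rw [h2, h1, LinearMap.id_comp]

end Deg

end Gr

end Groth.Agent.H6
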