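import Groth.Agent.Lib.Helper6.GrEW1
import Groth.Agent.Lib.Helper6.GrDualCan

/-! The natural map `N ⊗ H^n_a(R) → H^n_a(N)` for graded modules `N`. -/

universe u
open DirectSum TensorProduct
set_option linter.unusedSectionVars false

namespace Groth.Agent.H6

namespace GrEW

open Gr

variable {R : Type u} [CommRing R] {𝒜 : ℤ → AddSubgroup R} [GradedRing 𝒜]
variable (I : GrLC.StarInjRes 𝒜 𝒜) (a : HomogeneousIdeal 𝒜) (n : ℕ)
variable {N : Type u} [AddCommGroup N] [Module R N] {𝒩 : ℤ → AddSubgroup N}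
  [DirectSum.Decomposition 𝒩] [SetLike.GradedSMul 𝒜 𝒩] (EN : GrLC.StarInjRes 𝒜 𝒩)
variable {L : Type u} [AddCommGroup L] [Module R L] {𝓛 : ℤ → AddSubgroup L}
  [DirectSum.Decomposition 𝓛] [SetLike.GradedSMul 𝒜 𝓛] (EL : GrLC.StarInjRes 𝒜 𝓛)

theorem toSpanSingleton_isGrHomDeg {e : ℤ} {x : N} (hx : x ∈ 𝒩 e) :
    GrLC.IsGrHomDeg 𝒜 𝒩 (LinearMap.toSpanSingleton R N x) e := by
  intro k r hr
  have h := SetLike.GradedSMul.smul_mem (A := 𝒜) (B := 𝒩) hr hx
  rw [vadd_eq_add] at h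
  rw [LinearMap.toSpanSingleton_apply]
  exact h

/-- the relation defining `μ` on homogeneous elements -/
def MuRel (e : ℤ) (x : N) (g : I.H a n →ₗ[R] EN.H a n) : Prop :=
  ∃ hx : x ∈ 𝒩 e, g = HmapDeg I EN a (LinearMap.toSpanSingleton R N x) e
    (toSpanSingleton_isGrHomDeg hx) n

theorem exists_mu : ∃ μ : N →ₗ[R] (I.H a n →ₗ[R] EN.H a n), ∀ e x, x ∈ 𝒩 e → MuRel I a n EN e x (μ x) := by
  refine GDual.exists_assemble_lin 𝒜 𝒩 (MuRel I a n EN) ?_ ?_ ?_ ?_ ?_
  · intro e x hx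
    exact ⟨_, hx, rfl⟩
  · rintro e x g g' ⟨hx, rfl⟩ ⟨hx', rfl⟩
    rfl
  · rintro e x x' g g' ⟨hx, rfl⟩ ⟨hx', rfl⟩
    refine ⟨add_mem hx hx', ?_⟩
    rw [← HmapDeg_add a (toSpanSingleton_isGrHomDeg hx) (toSpanSingleton_isGrHomDeg hx') n]
    refine HmapDeg_congr a ?_ rfl _ _ n
    apply LinearMap.ext
    intro r
    simp [LinearMap.toSpanSingleton_apply]
  · rintro e x g ⟨hx, -⟩
    exact hx
  · rintro c e t x g ht ⟨hx, rfl⟩
    have hx' : t • x ∈ 𝒩 (c + e) := by
      have h := SetLike.GradedSMul.smul_mem (A := 𝒜) (B := 𝒩) ht hx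
      rwa [vadd_eq_add] at h
    refine ⟨hx', ?_⟩
    rw [← HmapDeg_smul a ht (toSpanSingleton_isGrHomDeg hx) n]
    refine HmapDeg_congr a ?_ rfl _ _ n
    apply LinearMap.ext
    intro r
    rw [LinearMap.toSpanSingleton_apply, LinearMap.smul_apply, LinearMap.toSpanSingleton_apply,
      smul_comm]

/-- the bilinear map `N × H^n_a(R) → H^n_a(N)` -/
noncomputable def mu : N →ₗ[R] (I.H a n →ₗ[R] EN.H a n) := (exists_mu I a n EN).choose

theorem mu_of_mem {e : ℤ} {x : N} (hx : x ∈ 𝒩 e) :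
    mu I a n EN x = HmapDeg I EN a (LinearMap.toSpanSingleton R N x) e
      (toSpanSingleton_isGrHomDeg hx) n := by
  obtain ⟨_, h⟩ := (exists_mu I a n EN).choose_spec e x hx
  exact h

/-- the natural map `N ⊗ H^n_a(R) → H^n_a(N)` -/
noncomputable def nu : N ⊗[R] I.H a n →ₗ[R] EN.H a n := TensorProduct.lift (mu I a n EN)

theorem nu_tmul (x : N) (h : I.H a n) : nu I a n EN (x ⊗ₜ h) = mu I a n EN x h := rfl

theorem mu_mem {e j : ℤ} {x : N} (hx : x ∈ 𝒩 e) {h : I.H a n} (hh : h ∈ I.Hgr a n j) :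
    mu I a n EN x h ∈ EN.Hgr a n (j + e) := by
  rw [mu_of_mem I a n EN hx]
  exact HmapDeg_mem a _ n hh

variable {EN EL}

theorem Hmap_mu {g : N →ₗ[R] L} (hg : GrLC.IsGrHom 𝒩 𝓛 g) (x : N) (h : I.H a n) :
    Hmap EN EL a g hg n (mu I a n EN x h) = mu I a n EL (g x) h := by
  induction x using DirectSum.Decomposition.inductionOn 𝒩 with
  | zero => simp
  | homogeneous x =>
    rename_i e
    rw [mu_of_mem I a n EN x.2, mu_of_mem I a n EL (hg e _ x.2)]
    have h1 := Hmap_comp_HmapDeg (E := I) (F := EN) (G := EL) a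
      (toSpanSingleton_isGrHomDeg (𝒜 := 𝒜) x.2) hg n
    have h2 := LinearMap.congr_fun h1 h
    rw [LinearMap.comp_apply] at h2
    rw [h2]
    refine LinearMap.congr_fun (HmapDeg_congr a ?_ rfl _ _ n) h
    apply LinearMap.ext
    intro r
    simp [LinearMap.toSpanSingleton_apply]
  | add x y hx hy =>
    rw [map_add, LinearMap.add_apply, map_add, hx, hy, map_add, map_add, LinearMap.add_apply]

theorem Hmap_nu {g : N →ₗ[R] L} (hg : GrLC.IsGrHom 𝒩 𝓛 g) (y : N ⊗[R] I.H a n) :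
    Hmap EN EL a g hg n (nu I a n EN y) = nu I a n EL (g.rTensor (I.H a n) y) := by
  induction y using TensorProduct.induction_on with
  | zero => simp
  | tmul x h =>
    rw [nu_tmul, LinearMap.rTensor_tmul, nu_tmul, Hmap_mu]
  | add y y' hy hy' => rw [map_add, map_add, hy, hy', map_add, map_add]

section ShiftR

variable (c : ℤ)

theorem id_isGrHomDeg_shift :
    GrLC.IsGrHomDeg 𝒜 (Msh (𝒜 := 𝒜) 𝒜 c).gr (LinearMap.id : R →ₗ[R] R) c := by
  intro k (x : R) (hx : x ∈ 𝒜 k)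
  change x ∈ 𝒜 (k + c - c)
  rwa [add_sub_cancel_right]

/-- for the shifted ring, `μ` is multiplication -/
theorem mu_shift (r : R) (h : I.H a n) :
    mu I a n (shiftRes I c) (show (Msh (𝒜 := 𝒜) 𝒜 c).carrier from r) h =
      r • (shiftH I a c n).symm h := by
  induction r using DirectSum.Decomposition.inductionOn 𝒜 with
  | zero =>
    have : mu I a n (shiftRes I c) (show (Msh (𝒜 := 𝒜) 𝒜 c).carrier from (0 : R)) = 0 :=
      map_zero _
    rw [this, LinearMap.zero_apply, zero_smul]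
  | homogeneous r =>
    rename_i i
    have hr : (show (Msh (𝒜 := 𝒜) 𝒜 c).carrier from r.1) ∈ (Msh (𝒜 := 𝒜) 𝒜 c).gr (i + c) := by
      change r.1 ∈ 𝒜 (i + c - c)
      rw [add_sub_cancel_right]
      exact r.2
    rw [mu_of_mem I a n (shiftRes I c) hr]
    have h1 := HmapDeg_smul (E := I) (F := shiftRes I c) a r.2 (id_isGrHomDeg_shift (𝒜 := 𝒜) c) n
    have h2 := HmapDeg_id_shift (E := I) a c n
    have h3 : HmapDeg I (shiftRes I c) a (LinearMap.id : R →ₗ[R] R) c
        (id_isGrHomDeg_shift (𝒜 := 𝒜) c) n = (shiftH I a c n).symm.toLinearMap := h2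
    rw [h3] at h1
    have h4 := LinearMap.congr_fun h1 h
    rw [LinearMap.smul_apply] at h4
    refine Eq.trans ?_ h4
    refine LinearMap.congr_fun (HmapDeg_congr a ?_ rfl _ _ n) h
    apply LinearMap.ext
    intro s
    change s • r.1 = r.1 • s
    rw [smul_eq_mul, smul_eq_mul, mul_comm]
  | add r r' hr hr' =>
    have : mu I a n (shiftRes I c) (show (Msh (𝒜 := 𝒜) 𝒜 c).carrier from r + r') =
        mu I a n (shiftRes I c) (show (Msh (𝒜 := 𝒜) 𝒜 c).carrier from r) +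
        mu I a n (shiftRes I c) (show (Msh (𝒜 := 𝒜) 𝒜 c).carrier from r') := map_add _ _ _
    have e1 := LinearMap.congr_fun this h
    rw [LinearMap.add_apply] at e1
    exact e1.trans ((congrArg₂ (· + ·) hr hr').trans (add_smul _ _ _).symm)

set_option maxHeartbeats 1600000 in
theorem nu_shift_bijective : Function.Bijective (nu I a n (shiftRes I c)) := by
  have h : nu I a n (shiftRes I c) =
      (shiftH I a c n).symm.toLinearMap ∘ₗ (TensorProduct.lid R (I.H a n)).toLinearMap := by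
    apply TensorProduct.ext'
    intro (r : R) h
    exact (mu_shift I a n c r h).trans (map_smul _ r h).symm
  rw [h]
  exact (shiftH I a c n).symm.bijective.comp (TensorProduct.lid R (I.H a n)).bijective

end ShiftR

end GrEW

end Groth.Agent.H6
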