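import Groth.Agent.Lib.Helper6.GrEW2
import Groth.Agent.Lib.Helper6.GrFree

/-! The natural map `N ⊗ H^n_a(R) → H^n_a(N)` is bijective for finitely generated graded
modules when `H^{n+1}_a` vanishes on them (graded Eilenberg–Watts). -/

universe u
open DirectSum TensorProduct
set_option linter.unusedSectionVars false

namespace Groth.Agent.H6

namespace GrEW

open Gr

variable {R : Type u} [CommRing R] {𝒜 : ℤ → AddSubgroup R} [GradedRing 𝒜]
variable (I : GrLC.StarInjRes 𝒜 𝒜) (a : HomogeneousIdeal 𝒜) (n : ℕ)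

section Sum

variable {P : Type u} [AddCommGroup P] [Module R P] {𝓟 : ℤ → AddSubgroup P}
  [DirectSum.Decomposition 𝓟] [SetLike.GradedSMul 𝒜 𝓟] (EP : GrLC.StarInjRes 𝒜 𝓟)
variable {κ : Type u} [Fintype κ] (A : κ → GrLC.GMod.{u} 𝒜)
  (EA : ∀ j, GrLC.StarInjRes 𝒜 (A j).gr)
  (inc : ∀ j, (A j).carrier →ₗ[R] P) (hinc : ∀ j, GrLC.IsGrHom (A j).gr 𝓟 (inc j))
  (pr : ∀ j, P →ₗ[R] (A j).carrier) (hpr : ∀ j, GrLC.IsGrHom 𝓟 (A j).gr (pr j))
  (hsum : ∑ j, inc j ∘ₗ pr j = LinearMap.id)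

include hinc hpr hsum in
theorem sum_Hmap (z : EP.H a n) :
    ∑ j, Hmap (EA j) EP a (inc j) (hinc j) n (Hmap EP (EA j) a (pr j) (hpr j) n z) = z := by
  have h1 := Hmap_sum (E := EP) (F := EP) a Finset.univ (fun j => inc j ∘ₗ pr j)
    (fun j k x hx => hinc j k _ (hpr j k x hx)) n
  have h2 : Hmap EP EP a (∑ j, inc j ∘ₗ pr j) (isGrHom_sum Finset.univ _
      (fun j k x hx => hinc j k _ (hpr j k x hx))) n = LinearMap.id :=
    (Hmap_congr' a hsum _ (fun _ _ h => h) n).trans (Hmap_id a n)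
  rw [h2] at h1
  have h3 := LinearMap.congr_fun h1 z
  rw [LinearMap.id_apply, LinearMap.sum_apply] at h3
  refine Eq.trans ?_ h3.symm
  refine Finset.sum_congr rfl fun j _ => ?_
  have h4 := Hmap_comp (E := EP) (F := EA j) (G := EP) a (hpr j) (hinc j) n
  exact (LinearMap.congr_fun h4 z).symm

include hsum in
theorem sum_rTensor (X : Type u) [AddCommGroup X] [Module R X] (y : P ⊗[R] X) :
    ∑ j, (inc j).rTensor X ((pr j).rTensor X y) = y := by
  have h1 : (∑ j, inc j ∘ₗ pr j).rTensor X = ∑ j, (inc j ∘ₗ pr j).rTensor X :=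
    map_sum (LinearMap.rTensorHom X) _ _
  rw [hsum, LinearMap.rTensor_id] at h1
  have h2 := LinearMap.congr_fun h1 y
  rw [LinearMap.id_apply, LinearMap.sum_apply] at h2
  refine Eq.trans ?_ h2.symm
  refine Finset.sum_congr rfl fun j _ => ?_
  rw [LinearMap.rTensor_comp, LinearMap.comp_apply]

include hinc hpr hsum in
theorem nu_bijective_of_sum (hbij : ∀ j, Function.Bijective (nu I a n (EA j))) :
    Function.Bijective (nu I a n EP) := by
  constructor
  · rw [injective_iff_map_eq_zero]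
    intro y hy
    have h1 : ∀ j, (pr j).rTensor (I.H a n) y = 0 := by
      intro j
      apply (hbij j).1
      rw [← Hmap_nu I a n (hpr j), hy, map_zero, map_zero]
    rw [← sum_rTensor A inc pr hsum (I.H a n) y]
    refine Finset.sum_eq_zero fun j _ => ?_
    rw [h1 j, map_zero]
  · intro z
    choose w hw using fun j => (hbij j).2 (Hmap EP (EA j) a (pr j) (hpr j) n z)
    refine ⟨∑ j, (inc j).rTensor (I.H a n) (w j), ?_⟩
    rw [map_sum]
    conv_rhs => rw [← sum_Hmap a n EP A EA inc hinc pr hpr hsum z]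
    refine Finset.sum_congr rfl fun j _ => ?_
    rw [← Hmap_nu I a n (hinc j), hw j]

end Sum

section Free

variable {κ : Type u} [Fintype κ] [DecidableEq κ] (d : κ → ℤ)

theorem nu_free_bijective (EP : GrLC.StarInjRes 𝒜 (GMod.free 𝒜 d).gr) :
    Function.Bijective (nu I a n EP) := by
  let inc : ∀ j, (Msh (𝒜 := 𝒜) 𝒜 (d j)).carrier →ₗ[R] (GMod.free 𝒜 d).carrier :=
    fun j => LinearMap.single R (fun _ : κ => R) j
  let pr : ∀ j, (GMod.free 𝒜 d).carrier →ₗ[R] (Msh (𝒜 := 𝒜) 𝒜 (d j)).carrier :=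
    fun j => LinearMap.proj j
  have hsum : ∑ j, inc j ∘ₗ pr j = LinearMap.id := by
    have h1 : ∑ j, (LinearMap.single R (fun _ : κ => R) j ∘ₗ LinearMap.proj j :
        (κ → R) →ₗ[R] (κ → R)) = LinearMap.id := by
      apply LinearMap.ext
      intro v
      rw [LinearMap.sum_apply, LinearMap.id_apply]
      exact Finset.univ_sum_single v
    exact h1
  refine nu_bijective_of_sum I a n EP (fun j => Msh (𝒜 := 𝒜) 𝒜 (d j)) (fun j => shiftRes I (d j))
    inc ?_ pr ?_ hsum (fun j => nu_shift_bijective I a n (d j))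
  · intro j k (r : R) (hr : r ∈ 𝒜 (k - d j))
    have := single_mem_freeGr 𝒜 d j hr
    rw [sub_add_cancel] at this
    exact this
  · intro j k (v : κ → R) (hv : v ∈ freeGr 𝒜 d k)
    exact hv j

end Free

section Five

variable [IsNoetherianRing R]
variable {M : Type u} [AddCommGroup M] [Module R M] (ℳ : ℤ → AddSubgroup M)
  [DirectSum.Decomposition ℳ] [SetLike.GradedSMul 𝒜 ℳ]

/-- a graded presentation by a graded free module of finite rank -/
theorem exists_presentation [Module.Finite R M] :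
    ∃ (κ : Type u) (_ : Fintype κ) (_ : DecidableEq κ) (d : κ → ℤ)
      (π : (GMod.free 𝒜 d).carrier →ₗ[R] M) (K : GrLC.GMod.{u} 𝒜)
      (j : K.carrier →ₗ[R] (GMod.free 𝒜 d).carrier),
      Module.Finite R K.carrier ∧ GrSES K.gr (GMod.free 𝒜 d).gr ℳ j π := by
  classical
  obtain ⟨κ, hκ, x, d, hx, hspan⟩ := exists_homogeneous_generators (R := R) ℳ
  let π : (GMod.free 𝒜 d).carrier →ₗ[R] M := Fintype.linearCombination R x
  have hπ : GrLC.IsGrHom (GMod.free 𝒜 d).gr ℳ π := linearCombination_isGrHom 𝒜 d ℳ hx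
  have hπs : Function.Surjective π := by
    have : LinearMap.range (Fintype.linearCombination R x) = ⊤ := by
      rw [Fintype.range_linearCombination, hspan]
    exact LinearMap.range_eq_top.mp this
  obtain ⟨K, j, hjinj, hjrange, hjgr⟩ := exists_gmod_sub 𝒜 (GMod.free 𝒜 d).gr (LinearMap.ker π)
    (ker_isHomogeneous (GMod.free 𝒜 d).gr ℳ hπ)
  haveI : IsNoetherian R (GMod.free 𝒜 d).carrier :=
    (show IsNoetherian R (κ → R) from isNoetherian_of_isNoetherianRing_of_finite R (κ → R))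
  refine ⟨κ, hκ, inferInstance, d, π, K, j, Module.Finite.of_injective j hjinj,
    ⟨hjgr, hπ, hjinj, hπs, fun m => ?_⟩⟩
  rw [← LinearMap.mem_ker, ← hjrange]
  rfl

variable (hvan : ∀ (K : GrLC.GMod.{u} 𝒜) [Module.Finite R K.carrier]
  (EK : GrLC.StarInjRes 𝒜 K.gr), Subsingleton (EK.H a (n + 1)))

include hvan in
theorem nu_surjective [Module.Finite R M] (EM : GrLC.StarInjRes 𝒜 ℳ) :
    Function.Surjective (nu I a n EM) := by
  obtain ⟨κ, _, _, d, π, K, j, hKfin, S⟩ := exists_presentation (𝒜 := 𝒜) ℳ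
  let EP := starInjRes 𝒜 (GMod.free 𝒜 d).gr
  let EK := starInjRes 𝒜 K.gr
  obtain ⟨δ, -, -, -, hex2, -⟩ := exists_les S EK EP EM a
  haveI := hvan K EK
  intro z
  obtain ⟨w, rfl⟩ := (hex2 n z).mp (Subsingleton.elim _ _)
  obtain ⟨y, rfl⟩ := (nu_free_bijective I a n d EP).2 w
  exact ⟨π.rTensor _ y, (Hmap_nu I a n S.hp y).symm⟩

include hvan in
/-- **graded Eilenberg–Watts** -/
theorem nu_bijective [Module.Finite R M] (EM : GrLC.StarInjRes 𝒜 ℳ) :
    Function.Bijective (nu I a n EM) := by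
  refine ⟨?_, nu_surjective I a n ℳ hvan EM⟩
  obtain ⟨κ, _, _, d, π, K, j, hKfin, S⟩ := exists_presentation (𝒜 := 𝒜) ℳ
  let EP := starInjRes 𝒜 (GMod.free 𝒜 d).gr
  let EK := starInjRes 𝒜 K.gr
  obtain ⟨δ, -, -, hex1, -, -⟩ := exists_les S EK EP EM a
  rw [injective_iff_map_eq_zero]
  intro y hy
  obtain ⟨w, rfl⟩ := LinearMap.rTensor_surjective (I.H a n) S.surj y
  have h1 : Hmap EP EM a π S.hp n (nu I a n EP w) = 0 := by
    rw [Hmap_nu I a n S.hp w]
    exact hy
  obtain ⟨u, hu⟩ := (hex1 n _).mp h1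
  obtain ⟨v, rfl⟩ := nu_surjective I a n K.gr hvan EK u
  rw [Hmap_nu I a n S.hi v] at hu
  have h2 := (nu_free_bijective I a n d EP).1 hu
  rw [← h2, ← LinearMap.comp_apply, ← LinearMap.rTensor_comp]
  have h3 : π ∘ₗ j = 0 := by
    apply LinearMap.ext
    intro m
    exact (S.exact _).mpr ⟨m, rfl⟩
  rw [h3, LinearMap.rTensor_zero, LinearMap.zero_apply]

end Five

end GrEW

end Groth.Agent.H6
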