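import Groth.Agent.Lib.Helper6.GrDualCan
import Groth.Agent.Lib.Helper6.GrHomDecomp
import Groth.Agent.Lib.Helper9.GrDual.Basic

/-! Graded duals and `Hom`: if `H_M = M ⊗ H` then `(H_M)^* = Hom(M, H^*)`, as graded modules. -/

universe u
open DirectSum TensorProduct
set_option linter.unusedSectionVars false

namespace Groth.Agent.H6

namespace GrEW

open Gr ToAdd Groth.Agent.H9.GrDual

section DualHom

variable {k : Type u} [Field k] {R : Type u} [CommRing R] [Algebra k R]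
  (𝒜 : ℤ → Submodule k R) [GradedAlgebra 𝒜] [GradedRing (toAdd 𝒜)]
variable {H : Type u} [AddCommGroup H] [Module R H] [Module k H] [IsScalarTower k R H]
  (ℋ : ℤ → AddSubgroup H) [DirectSum.Decomposition ℋ] [SetLike.GradedSMul 𝒜 ℋ]
variable {K : Type u} [AddCommGroup K] [Module R K] [Module k K] [IsScalarTower k R K]
  (𝒦 : ℤ → AddSubgroup K) [DirectSum.Decomposition 𝒦] [SetLike.GradedSMul 𝒜 𝒦]
  (βK : K →ₗ[k] H →ₗ[k] k) (hK : GrSeg.IsGDual R ℋ 𝒦 βK)
variable {M : Type u} [AddCommGroup M] [Module R M] [Module k M] [IsScalarTower k R M]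
  (ℳ : ℤ → AddSubgroup M) [DirectSum.Decomposition ℳ] [SetLike.GradedSMul 𝒜 ℳ]
variable {HM : Type u} [AddCommGroup HM] [Module R HM] [Module k HM] [IsScalarTower k R HM]
  (ℋM : ℤ → AddSubgroup HM) [DirectSum.Decomposition ℋM] [SetLike.GradedSMul 𝒜 ℋM]
variable {D : Type u} [AddCommGroup D] [Module R D] [Module k D] [IsScalarTower k R D]
  (𝒟 : ℤ → AddSubgroup D) [DirectSum.Decomposition 𝒟] [SetLike.GradedSMul 𝒜 𝒟]
  (βD : D →ₗ[k] HM →ₗ[k] k) (hD : GrSeg.IsGDual R ℋM 𝒟 βD)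
variable (μ : M →ₗ[R] H →ₗ[R] HM)
  (hμ : ∀ (e j : ℤ) (x : M) (h : H), x ∈ ℳ e → h ∈ ℋ j → μ x h ∈ ℋM (j + e))

include 𝒜 hK hD hμ in
/-- the functional `h ↦ β_D(δ, μ(x, h))` is represented by an element of `K` -/
theorem exists_rep_piece {d e : ℤ} {δ : D} (hδ : δ ∈ 𝒟 d) {x : M} (hx : x ∈ ℳ e) :
    ∃ κ ∈ 𝒦 (e + d), ∀ h, βK κ h = βD δ (μ x h) := by
  let g : H →ₗ[k] k := (βD δ) ∘ₗ ((μ x).restrictScalars k)
  obtain ⟨κ, hκ, hκg⟩ := hK.exists_eq (e + d) g
  refine ⟨κ, hκ, fun h => ?_⟩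
  induction h using DirectSum.Decomposition.inductionOn ℋ with
  | zero => rw [map_zero, map_zero, map_zero]
  | homogeneous h =>
    rename_i j
    by_cases hj : j = -(e + d)
    · subst hj
      exact hκg h.1 h.2
    · rw [hK.vanish (e + d) κ hκ j hj h.1 h.2]
      have h1 := hμ e j x h.1 hx h.2
      rw [hD.vanish d δ hδ (j + e) (by omega) _ h1]
  | add h h' ih ih' => rw [map_add, map_add, map_add, ih, ih']

include 𝒜 hK hD hμ in
/-- for homogeneous `δ`, the map `x ↦ (the element representing h ↦ β_D(δ, μ(x, h)))` -/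
theorem exists_hom_piece {d : ℤ} {δ : D} (hδ : δ ∈ 𝒟 d) :
    ∃ φ : M →ₗ[R] K, GrLC.IsGrHomDeg ℳ 𝒦 φ d ∧ ∀ x h, βK (φ x) h = βD δ (μ x h) := by
  haveI := gradedSMul_to 𝒜 ℳ
  let Rel : ℤ → M → K → Prop := fun e x κ =>
    x ∈ ℳ e ∧ κ ∈ 𝒦 (e + d) ∧ ∀ h, βK κ h = βD δ (μ x h)
  obtain ⟨φ, hφ⟩ := GDual.exists_assemble_lin (toAdd 𝒜) ℳ Rel
    (by
      intro e x hx
      obtain ⟨κ, hκ, hκh⟩ := exists_rep_piece 𝒜 ℋ 𝒦 βK hK ℳ ℋM 𝒟 βD hD μ hμ hδ hx
      exact ⟨κ, hx, hκ, hκh⟩)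
    (by
      rintro e x κ κ' ⟨-, -, h1⟩ ⟨-, -, h2⟩
      exact ext_D ℋ 𝒦 βK hK fun h => by rw [h1, h2])
    (by
      rintro e x x' κ κ' ⟨hx, hκ, h1⟩ ⟨hx', hκ', h2⟩
      refine ⟨add_mem hx hx', add_mem hκ hκ', fun h => ?_⟩
      rw [map_add, LinearMap.add_apply, h1, h2, map_add, LinearMap.add_apply, map_add])
    (fun e x κ hr => hr.1)
    (by
      rintro c e t x κ ht ⟨hx, hκ, h1⟩
      refine ⟨?_, ?_, fun h => ?_⟩
      · have := SetLike.GradedSMul.smul_mem (A := 𝒜) (B := ℳ) ht hx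
        rwa [vadd_eq_add] at this
      · have := SetLike.GradedSMul.smul_mem (A := 𝒜) (B := 𝒦) ht hκ
        rwa [vadd_eq_add, ← add_assoc] at this
      · rw [hK.map_smul, h1]
        congr 1
        rw [map_smul (μ x), map_smul μ, LinearMap.smul_apply])
  refine ⟨φ, fun e x hx => (hφ e x hx).2.1, fun x h => ?_⟩
  induction x using DirectSum.Decomposition.inductionOn ℳ with
  | zero => rw [map_zero, map_zero, LinearMap.zero_apply, map_zero, LinearMap.zero_apply, map_zero]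
  | homogeneous x =>
    rename_i e
    exact (hφ e x.1 x.2).2.2 h
  | add x x' ih ih' =>
    rw [map_add, map_add, LinearMap.add_apply, ih, ih', map_add, LinearMap.add_apply, map_add]

include 𝒜 hK hD hμ in
/-- the map `(H_M)^* → Hom(M, H^*)` -/
theorem exists_eps : ∃ ε : D →ₗ[R] (M →ₗ[R] K),
    (∀ d δ, δ ∈ 𝒟 d → GrLC.IsGrHomDeg ℳ 𝒦 (ε δ) d) ∧ ∀ δ x h, βK (ε δ x) h = βD δ (μ x h) := by
  haveI := gradedSMul_to 𝒜 𝒟
  let Rel : ℤ → D → (M →ₗ[R] K) → Prop := fun d δ φ =>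
    δ ∈ 𝒟 d ∧ GrLC.IsGrHomDeg ℳ 𝒦 φ d ∧ ∀ x h, βK (φ x) h = βD δ (μ x h)
  obtain ⟨ε, hε⟩ := GDual.exists_assemble_lin (toAdd 𝒜) 𝒟 Rel
    (by
      intro d δ hδ
      obtain ⟨φ, hφ, hφf⟩ := exists_hom_piece 𝒜 ℋ 𝒦 βK hK ℳ ℋM 𝒟 βD hD μ hμ hδ
      exact ⟨φ, hδ, hφ, hφf⟩)
    (by
      rintro d δ φ φ' ⟨-, -, h1⟩ ⟨-, -, h2⟩
      exact LinearMap.ext fun x => ext_D ℋ 𝒦 βK hK fun h => by rw [h1, h2])
    (by
      rintro d δ δ' φ φ' ⟨hδ, hφ, h1⟩ ⟨hδ', hφ', h2⟩
      refine ⟨add_mem hδ hδ', fun e x hx => add_mem (hφ e x hx) (hφ' e x hx), fun x h => ?_⟩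
      rw [LinearMap.add_apply, map_add, LinearMap.add_apply, h1, h2, map_add, LinearMap.add_apply])
    (fun d δ φ hr => hr.1)
    (by
      rintro c d t δ φ ht ⟨hδ, hφ, h1⟩
      refine ⟨?_, fun e x hx => ?_, fun x h => ?_⟩
      · have := SetLike.GradedSMul.smul_mem (A := 𝒜) (B := 𝒟) ht hδ
        rwa [vadd_eq_add] at this
      · have := SetLike.GradedSMul.smul_mem (A := 𝒜) (B := 𝒦) ht (hφ e x hx)
        rw [vadd_eq_add, add_left_comm] at this
        exact this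
      · rw [LinearMap.smul_apply, hK.map_smul, h1, map_smul (μ x), hD.map_smul])
  refine ⟨ε, fun d δ hδ => (hε d δ hδ).2.1, fun δ x h => ?_⟩
  induction δ using DirectSum.Decomposition.inductionOn 𝒟 with
  | zero =>
    rw [map_zero, LinearMap.zero_apply, map_zero, LinearMap.zero_apply, map_zero,
      LinearMap.zero_apply]
  | homogeneous δ =>
    rename_i d
    exact (hε d δ.1 δ.2).2.2 x h
  | add δ δ' ih ih' =>
    rw [map_add, LinearMap.add_apply, map_add, LinearMap.add_apply, ih, ih', map_add,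
      LinearMap.add_apply]

include hD in
theorem eps_injective (hsurj : Function.Surjective (TensorProduct.lift μ))
    (ε : D →ₗ[R] (M →ₗ[R] K)) (hε : ∀ δ x h, βK (ε δ x) h = βD δ (μ x h)) :
    Function.Injective ε := by
  rw [injective_iff_map_eq_zero]
  intro δ hδ
  apply eq_zero_of_forall ℋM 𝒟 βD hD
  intro y
  obtain ⟨w, rfl⟩ := hsurj y
  induction w using TensorProduct.induction_on with
  | zero => rw [map_zero, map_zero]
  | tmul x h =>
    rw [TensorProduct.lift.tmul, ← hε, hδ, LinearMap.zero_apply, map_zero, LinearMap.zero_apply]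
  | add w w' ih ih' => rw [map_add, map_add, ih, ih', add_zero]

include 𝒜 hK hD hμ in
theorem eps_surjective_piece (hbij : Function.Bijective (TensorProduct.lift μ))
    (ε : D →ₗ[R] (M →ₗ[R] K)) (hε : ∀ δ x h, βK (ε δ x) h = βD δ (μ x h))
    {d : ℤ} {φ : M →ₗ[R] K} (hφ : GrLC.IsGrHomDeg ℳ 𝒦 φ d) : ∃ δ, ε δ = φ := by
  let νe : M ⊗[R] H ≃ₗ[R] HM := LinearEquiv.ofBijective (TensorProduct.lift μ) hbij
  let f : M →+ H →+ k :=
    { toFun := fun x => (βK (φ x)).toAddMonoidHom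
      map_zero' := by
        apply AddMonoidHom.ext
        intro h
        change βK (φ 0) h = 0
        rw [map_zero, map_zero, LinearMap.zero_apply]
      map_add' := fun x x' => by
        apply AddMonoidHom.ext
        intro h
        change βK (φ (x + x')) h = βK (φ x) h + βK (φ x') h
        rw [map_add, map_add, LinearMap.add_apply] }
  have hf : ∀ (r : R) (x : M) (h : H), f (r • x) h = f x (r • h) := by
    intro r x h
    change βK (φ (r • x)) h = βK (φ x) (r • h)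
    rw [map_smul, hK.map_smul]
  let ℓ₀ : M ⊗[R] H →+ k := TensorProduct.liftAddHom f hf
  have hℓ₀ : ∀ (c : k) (w : M ⊗[R] H), ℓ₀ (algebraMap k R c • w) = c * ℓ₀ w := by
    intro c w
    induction w using TensorProduct.induction_on with
    | zero => rw [smul_zero, map_zero, mul_zero]
    | tmul x h =>
      rw [TensorProduct.smul_tmul']
      change βK (φ (algebraMap k R c • x)) h = c * βK (φ x) h
      rw [map_smul, algebraMap_smul, map_smul, LinearMap.smul_apply, smul_eq_mul]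
    | add w w' ih ih' => rw [smul_add, map_add, ih, ih', map_add, mul_add]
  let g : HM →ₗ[k] k :=
    { toFun := fun y => ℓ₀ (νe.symm y)
      map_add' := fun y y' => by rw [map_add, map_add]
      map_smul' := fun c y => by
        rw [← algebraMap_smul R c y, map_smul, hℓ₀, RingHom.id_apply, smul_eq_mul] }
  obtain ⟨δ, hδ, hδg⟩ := hD.exists_eq d g
  refine ⟨δ, ?_⟩
  have key : ∀ x h, βD δ (μ x h) = βK (φ x) h := by
    intro x h
    induction x using DirectSum.Decomposition.inductionOn ℳ with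
    | zero =>
      rw [map_zero, LinearMap.zero_apply, map_zero, map_zero, map_zero, LinearMap.zero_apply]
    | homogeneous x =>
      rename_i e
      induction h using DirectSum.Decomposition.inductionOn ℋ with
      | zero => rw [map_zero, map_zero, map_zero]
      | homogeneous h =>
        rename_i j
        have hy := hμ e j x.1 h.1 x.2 h.2
        by_cases hj : j + e = -d
        · rw [hj] at hy
          rw [hδg _ hy]
          change ℓ₀ (νe.symm (TensorProduct.lift μ (x.1 ⊗ₜ h.1))) = βK (φ x.1) h.1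
          have : νe.symm (TensorProduct.lift μ (x.1 ⊗ₜ h.1)) = x.1 ⊗ₜ h.1 :=
            νe.symm_apply_apply _
          rw [this]
          rfl
        · rw [hD.vanish d δ hδ (j + e) hj _ hy,
            hK.vanish (e + d) (φ x.1) (hφ e x.1 x.2) j (by omega) h.1 h.2]
      | add h h' ih ih' => rw [map_add, map_add, map_add, ih, ih']
    | add x x' ih ih' =>
      rw [map_add, LinearMap.add_apply, map_add, ih, ih', map_add, map_add, LinearMap.add_apply]
  exact LinearMap.ext fun x => ext_D ℋ 𝒦 βK hK fun h => by rw [hε, key]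

include 𝒜 hK hD hμ in
/-- **graded duals and `Hom`** -/
theorem exists_dual_hom_equiv [Module.Finite R M] (hbij : Function.Bijective (TensorProduct.lift μ)) :
    ∃ ε : D ≃ₗ[R] (M →ₗ[R] K),
      GrLC.IsGrHom 𝒟 (fun d : ℤ => (GrLC.homDeg 𝒜 ℳ 𝒦 d).toAddSubgroup) ε.toLinearMap := by
  obtain ⟨ε, hεgr, hε⟩ := exists_eps 𝒜 ℋ 𝒦 βK hK ℳ ℋM 𝒟 βD hD μ hμ
  have hinj := eps_injective (βK := βK) (ℋM := ℋM) (𝒟 := 𝒟) (βD := βD) hD (μ := μ) hbij.2 ε hε
  have hsurj : Function.Surjective ε := by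
    intro φ
    haveI := gradedSMul_to 𝒜 ℳ
    haveI := gradedSMul_to 𝒜 𝒦
    obtain ⟨s, hs⟩ := exists_finset_sum_homComp (toAdd 𝒜) ℳ 𝒦 φ
    choose δ hδ using fun d => eps_surjective_piece 𝒜 ℋ 𝒦 βK hK ℳ ℋM 𝒟 βD hD μ hμ hbij ε hε
      (homComp_isGrHomDeg (toAdd 𝒜) ℳ 𝒦 φ d)
    refine ⟨∑ d ∈ s, δ d, ?_⟩
    rw [map_sum, hs]
    exact Finset.sum_congr rfl fun d _ => hδ d
  refine ⟨LinearEquiv.ofBijective ε ⟨hinj, hsurj⟩, ?_⟩
  intro d δ hδ
  exact hεgr d δ hδ

end DualHom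

end GrEW

end Groth.Agent.H6
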