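import Groth.Agent.Lib.Helper6.SegDim3

/-! The dimension of a Segre product of graded rings of positive dimension. -/

universe u
open DirectSum TensorProduct
set_option linter.unusedSectionVars false

namespace Groth.Agent.H6

namespace Gr

section Nil

variable {R : Type u} [CommRing R] [IsNoetherianRing R] (𝒜 : ℤ → AddSubgroup R) [GradedRing 𝒜]
  (hpos : ∀ n : ℤ, n < 0 → 𝒜 n = ⊥) (h0 : IsField (GrLC.deg0 𝒜))

/-- the irrelevant ideal, as a homogeneous ideal -/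
def irrel : HomogeneousIdeal 𝒜 :=
  ⟨Ideal.span (⋃ n ∈ Set.Ioi (0 : ℤ), (𝒜 n : Set R)), Ideal.homogeneous_span 𝒜 _ (by
    intro x hx
    simp only [Set.mem_iUnion] at hx
    obtain ⟨n, _, hxn⟩ := hx
    exact ⟨n, hxn⟩)⟩

theorem irrel_toIdeal :
    (irrel 𝒜).toIdeal = Ideal.span (⋃ n ∈ Set.Ioi (0 : ℤ), (𝒜 n : Set R)) := rfl

include hpos h0 in
/-- a graded ring of positive dimension has a homogeneous element of positive degree which is
not nilpotent -/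
theorem exists_not_nilpotent (n : ℕ) (hn : ringKrullDim R = n) (h1 : 1 ≤ n) :
    ∃ e : ℤ, 0 < e ∧ ∃ x ∈ 𝒜 e, ¬ IsNilpotent x := by
  by_contra hcon
  push_neg at hcon
  haveI hmax : (irrel 𝒜).toIdeal.IsMaximal :=
    GrCM.isMaximal_irrelevant 𝒜 hpos h0 (irrel 𝒜) (irrel_toIdeal 𝒜)
  have hle : (irrel 𝒜).toIdeal ≤ nilradical R := by
    rw [irrel_toIdeal]
    apply Ideal.span_le.mpr
    intro x hx
    simp only [Set.mem_iUnion] at hx
    obtain ⟨e, he, hxe⟩ := hx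
    exact mem_nilradical.mpr (hcon e he x hxe)
  have hmin : (irrel 𝒜).toIdeal ∈ minimalPrimes R := by
    refine ⟨⟨hmax.isPrime, bot_le⟩, ?_⟩
    rintro q ⟨hq, -⟩ _
    exact hle.trans (nilradical_le_prime q)
  have hh : (irrel 𝒜).toIdeal.height = n :=
    height_irrelevant 𝒜 hpos h0 (irrel 𝒜).toIdeal (irrel_toIdeal 𝒜) n hn
  rw [Ideal.height_eq_zero_iff.mpr hmin] at hh
  have : (n : ℕ∞) = 0 := hh.symm
  have : n = 0 := by exact_mod_cast this
  omega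

include hpos h0 in
/-- a graded ring with a homogeneous element of positive degree which is not nilpotent has
positive dimension -/
theorem one_le_dim_of_not_nilpotent (t : R) (e : ℤ) (he : 0 < e) (ht : t ∈ 𝒜 e)
    (hnil : ¬ IsNilpotent t) (n : ℕ) (hn : ringKrullDim R = n) : 1 ≤ n := by
  haveI hmax : (irrel 𝒜).toIdeal.IsMaximal :=
    GrCM.isMaximal_irrelevant 𝒜 hpos h0 (irrel 𝒜) (irrel_toIdeal 𝒜)
  have hrad : t ∉ (⊥ : Ideal R).radical := by
    intro h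
    obtain ⟨N, hN⟩ := h
    exact hnil ⟨N, (Ideal.mem_bot.mp hN)⟩
  rw [Ideal.IsHomogeneous.radical_eq (Ideal.IsHomogeneous.bot 𝒜), Ideal.mem_sInf] at hrad
  push_neg at hrad
  obtain ⟨J, ⟨hJhom, -, hJprime⟩, htJ⟩ := hrad
  have hJle : J ≤ (irrel 𝒜).toIdeal :=
    le_irrelevant 𝒜 hpos h0 (irrel 𝒜).toIdeal (irrel_toIdeal 𝒜) J hJhom hJprime.ne_top
  have htm : t ∈ (irrel 𝒜).toIdeal := by
    rw [irrel_toIdeal]
    apply Ideal.subset_span
    simp only [Set.mem_iUnion]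
    exact ⟨e, he, ht⟩
  have hlt : J < (irrel 𝒜).toIdeal := lt_of_le_of_ne hJle (fun h => htJ (h ▸ htm))
  have hh : (irrel 𝒜).toIdeal.height = n :=
    height_irrelevant 𝒜 hpos h0 (irrel 𝒜).toIdeal (irrel_toIdeal 𝒜) n hn
  have h2 := Ideal.height_strict_mono_of_isPrime hlt
  rw [hh] at h2
  have h3 : (0 : ℕ∞) < n := lt_of_le_of_lt bot_le h2
  have : 0 < n := by exact_mod_cast h3
  omega

end Nil

end Gr

namespace Seg

open SegLA ToAdd

theorem tmul_ne_zero_of_field {k V W : Type u} [Field k] [AddCommGroup V] [Module k V]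
    [AddCommGroup W] [Module k W] {a : V} {b : W} (ha : a ≠ 0) (hb : b ≠ 0) :
    a ⊗ₜ[k] b ≠ 0 := by
  intro h
  have hinj : Function.Injective (LinearMap.toSpanSingleton k V a) := by
    rw [injective_iff_map_eq_zero]
    intro c hc
    rw [LinearMap.toSpanSingleton_apply] at hc
    exact (smul_eq_zero.mp hc).resolve_right ha
  have h1 := Module.Flat.rTensor_preserves_injective_linearMap (M := W) _ hinj
  have h2 : (LinearMap.toSpanSingleton k V a).rTensor W ((1 : k) ⊗ₜ[k] b) = a ⊗ₜ[k] b := by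
    rw [LinearMap.rTensor_tmul, LinearMap.toSpanSingleton_apply, one_smul]
  rw [h] at h2
  have h3 : (1 : k) ⊗ₜ[k] b = 0 := h1 (by rw [h2, map_zero])
  have h4 := congrArg (TensorProduct.lid k W) h3
  rw [TensorProduct.lid_tmul, one_smul, map_zero] at h4
  exact hb h4

/-- the Segre product of two graded rings of positive dimension has positive dimension -/
theorem one_le_dim_segre (k : Type u) [Field k] (R : Type u) [CommRing R] [Algebra k R]
    (𝒜 : ℤ → Submodule k R) [GradedAlgebra 𝒜] (hposR : ∀ n : ℤ, n < 0 → 𝒜 n = ⊥)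
    (h0R : 𝒜 0 = Submodule.span k {(1 : R)}) [Algebra.FiniteType k R] (S : Type u) [CommRing S]
    [Algebra k S] (ℬ : ℤ → Submodule k S) [GradedAlgebra ℬ]
    (hposS : ∀ n : ℤ, n < 0 → ℬ n = ⊥) (h0S : ℬ 0 = Submodule.span k {(1 : S)})
    [Algebra.FiniteType k S] (T : Type u) [CommRing T] [Algebra k T] (𝒯 : ℤ → Submodule k T)
    [GradedAlgebra 𝒯] (ψ : T →ₐ[k] TensorProduct k R S) (hT : GrSeg.IsSegreRing 𝒜 ℬ 𝒯 ψ)
    (r s : ℕ) (hr : ringKrullDim R = r) (hs : ringKrullDim S = s) (h1r : 1 ≤ r) (h1s : 1 ≤ s)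
    (n : ℕ) (hn : ringKrullDim T = (n : WithBot ℕ∞)) : 1 ≤ n := by
  haveI : Nontrivial R := nontrivial_of_dim r hr
  haveI : Nontrivial S := nontrivial_of_dim s hs
  haveI : IsNoetherianRing R := Algebra.FiniteType.isNoetherianRing k R
  haveI : IsNoetherianRing S := Algebra.FiniteType.isNoetherianRing k S
  haveI : IsNoetherianRing T :=
    Groth.Agent.S18646.result k R 𝒜 hposR h0R S ℬ hposS h0S T 𝒯 ψ hT.1 hT.2
  haveI : Nontrivial T := segre_nontrivial ψ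
  have h0T : 𝒯 0 = Submodule.span k {(1 : T)} := segre_deg_zero hT h0R h0S
  have hposT : ∀ n : ℤ, n < 0 → 𝒯 n = ⊥ := segre_neg_eq_bot hT hposR
  letI := gradedRing_toAdd 𝒜
  letI := gradedRing_toAdd ℬ
  letI := gradedRing_toAdd 𝒯
  obtain ⟨e, he, x, hx, hxn⟩ := Gr.exists_not_nilpotent (toAdd 𝒜) (toAdd_neg_eq_bot 𝒜 hposR)
    (isField_deg0 𝒜 h0R) r hr h1r
  obtain ⟨e', he', y, hy, hyn⟩ := Gr.exists_not_nilpotent (toAdd ℬ) (toAdd_neg_eq_bot ℬ hposS)
    (isField_deg0 ℬ h0S) s hs h1s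
  have hx' : x ∈ 𝒜 e := hx
  have hy' : y ∈ ℬ e' := hy
  have ha : x ^ e'.toNat ∈ 𝒜 (e * e') := by
    have := SetLike.pow_mem_graded e'.toNat hx'
    rwa [nsmul_eq_mul, Int.toNat_of_nonneg he'.le, mul_comm] at this
  have hb : y ^ e.toNat ∈ ℬ (e * e') := by
    have := SetLike.pow_mem_graded e.toNat hy'
    rwa [nsmul_eq_mul, Int.toNat_of_nonneg he.le] at this
  have hab : (x ^ e'.toNat) ⊗ₜ[k] (y ^ e.toNat) ∈ GrSeg.segrePiece k 𝒜 ℬ (e * e') :=
    Submodule.subset_span ⟨_, ha, _, hb, rfl⟩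
  rw [← hT.2 (e * e')] at hab
  obtain ⟨t, ht, htψ⟩ := hab
  have htψ' : ψ t = (x ^ e'.toNat) ⊗ₜ[k] (y ^ e.toNat) := htψ
  have hnil : ¬ IsNilpotent t := by
    rintro ⟨N, hN⟩
    have h1 : ψ (t ^ N) = 0 := by rw [hN, map_zero]
    rw [map_pow, htψ', Algebra.TensorProduct.tmul_pow] at h1
    by_cases h2 : (x ^ e'.toNat) ^ N = 0
    · exact hxn ⟨e'.toNat * N, by rw [pow_mul]; exact h2⟩
    · by_cases h3 : (y ^ e.toNat) ^ N = 0
      · exact hyn ⟨e.toNat * N, by rw [pow_mul]; exact h3⟩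
      · exact tmul_ne_zero_of_field h2 h3 h1
  exact Gr.one_le_dim_of_not_nilpotent (toAdd 𝒯) (toAdd_neg_eq_bot 𝒯 hposT) (isField_deg0 𝒯 h0T)
    t (e * e') (mul_pos he he') ht hnil n hn

/-- **S18647**: the dimension of a Segre product -/
theorem dim_segre (k : Type u) [Field k] (R : Type u) [CommRing R] [Algebra k R]
    (𝒜 : ℤ → Submodule k R) [GradedAlgebra 𝒜] (hposR : ∀ n : ℤ, n < 0 → 𝒜 n = ⊥)
    (h0R : 𝒜 0 = Submodule.span k {(1 : R)}) [Algebra.FiniteType k R] (S : Type u) [CommRing S]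
    [Algebra k S] (ℬ : ℤ → Submodule k S) [GradedAlgebra ℬ]
    (hposS : ∀ n : ℤ, n < 0 → ℬ n = ⊥) (h0S : ℬ 0 = Submodule.span k {(1 : S)})
    [Algebra.FiniteType k S] (T : Type u) [CommRing T] [Algebra k T] (𝒯 : ℤ → Submodule k T)
    [GradedAlgebra 𝒯] (ψ : T →ₐ[k] TensorProduct k R S) (hT : GrSeg.IsSegreRing 𝒜 ℬ 𝒯 ψ)
    (r s : ℕ) (hr : ringKrullDim R = r) (hs : ringKrullDim S = s) (h1r : 1 ≤ r) (h1s : 1 ≤ s) :
    ringKrullDim T = ((r + s - 1 : ℕ) : WithBot ℕ∞) := by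
  haveI : Nontrivial R := nontrivial_of_dim r hr
  haveI : Nontrivial S := nontrivial_of_dim s hs
  haveI : IsNoetherianRing T :=
    Groth.Agent.S18646.result k R 𝒜 hposR h0R S ℬ hposS h0S T 𝒯 ψ hT.1 hT.2
  haveI : Nontrivial T := segre_nontrivial ψ
  have h0T : 𝒯 0 = Submodule.span k {(1 : T)} := segre_deg_zero hT h0R h0S
  have hposT : ∀ n : ℤ, n < 0 → 𝒯 n = ⊥ := segre_neg_eq_bot hT hposR
  obtain ⟨mT, hmT⟩ := exists_irrel 𝒯
  obtain ⟨IT⟩ := nonempty_starInjRes_self 𝒯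
  letI := gradedRing_toAdd 𝒯
  obtain ⟨n, hn⟩ := Gr.exists_ringKrullDim_eq (toAdd 𝒯) (toAdd_neg_eq_bot 𝒯 hposT)
    (isField_deg0 𝒯 h0T)
  have h1 : r + s - 1 ≤ n := by
    by_cases hrs : 3 ≤ r + s
    · exact le_dim_segre' k R 𝒜 hposR h0R S ℬ hposS h0S T 𝒯 ψ hT r s hr hs h1r h1s hrs n
        (le_of_eq hn)
    · have := one_le_dim_segre k R 𝒜 hposR h0R S ℬ hposS h0S T 𝒯 ψ hT r s hr hs h1r h1s n hn
      omega
  obtain ⟨d, hd⟩ := exists_Hcomp_top_ne_bot 𝒯 hposT h0T mT hmT n hn IT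
  have h2 : n < r + s := by
    by_contra hlt
    rw [not_lt] at hlt
    exact hd (Hcomp_segre_eq_bot' k R 𝒜 hposR h0R S ℬ hposS h0S T 𝒯 ψ hT mT hmT IT r s hr hs
      h1r h1s n hlt d)
  rw [hn]
  have : n = r + s - 1 := by omega
  rw [this]

end Seg

end Groth.Agent.H6
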