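import Groth.Agent.Lib.Helper6.GrVerGor
import Groth.Agent.Lib.Helper6.GrDim

/-! The top graded local cohomology and the canonical module of a Gorenstein graded ring defined
over a field. -/

universe u
open DirectSum
set_option linter.unusedSectionVars false

namespace Groth.Agent.H6

namespace GorCan

open Gr GDual

section Top

variable {R : Type u} [CommRing R] {𝒜 : ℤ → AddSubgroup R} [GradedRing 𝒜]
variable {m : HomogeneousIdeal 𝒜}
variable {E' : Type u} [AddCommGroup E'] [Module R E'] {𝓔 : ℤ → AddSubgroup E'}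
  [DirectSum.Decomposition 𝓔] [SetLike.GradedSMul 𝒜 𝓔] {e : (R ⧸ m.toIdeal) →ₗ[R] E'}

/-- the top local cohomology of a Gorenstein graded ring defined over a field is a shift of the
*injective envelope of the residue field, and the shift is the a-invariant -/
theorem exists_top_equiv [hG : LocCoh.IsGorensteinRing R] (S : Setting 𝒜 m 𝓔 e)
    (hm : GrLC.IsStarLocal 𝒜 m) (n : ℕ) (hn : ringKrullDim R = n) (I : GrLC.StarInjRes 𝒜 𝒜) :
    ∃ (g : ℤ) (σ : I.H m n ≃ₗ[R] E'), GrLC.IsGrHomDeg (I.Hgr m n) 𝓔 σ.toLinearMap g ∧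
      GrLC.endDeg (I.Hgr m n) = (((-g : ℤ) : WithTop ℤ) : WithBot (WithTop ℤ)) := by
  haveI hmax : m.toIdeal.IsMaximal := isMaximal_of_isCoatom S.hpos m hm.1
  have hh : m.toIdeal.height = n := height_irrelevant 𝒜 S.hpos S.h0 m.toIdeal S.hmsp n hn
  obtain ⟨g, σ, hσ⟩ := Groth.Agent.S13244.result R 𝒜 m hm n hh I E' 𝓔 e S.he
  letI : DirectSum.Decomposition (I.Hgr m n) := (isInternal_Hgr 𝒜 𝒜 I m n).chooseDecomposition
  refine ⟨g, σ, hσ, ?_⟩
  apply AInv.endDeg_eq_coe
  · -- the class of the socle generator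
    have h3 : σ.symm (e 1) ∈ I.Hgr m n (0 - g) :=
      Ver.symm_mem_of_isGrHomDeg (I.Hgr m n) 𝓔 σ hσ S.ω_mem
    rw [zero_sub] at h3
    intro hbot
    rw [hbot, AddSubgroup.mem_bot] at h3
    have h4 : e 1 = 0 := by
      have := congrArg σ h3
      rwa [σ.apply_symm_apply, map_zero] at this
    have h5 : (1 : R) = 0 := S.coef_unique (SetLike.GradedOne.one_mem) (by rw [one_smul]; exact h4)
    apply hmax.ne_top
    rw [Ideal.eq_top_iff_one, h5]
    exact zero_mem _
  · intro j hj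
    rw [eq_bot_iff]
    intro x hx
    rw [AddSubgroup.mem_bot]
    apply σ.injective
    rw [map_zero]
    exact S.eq_zero_of_pos (by omega : 0 < j + g) (hσ j x hx)

variable {C : Type u} [AddCommGroup C] [Module R C] (𝒞 : ℤ → AddSubgroup C)
  [DirectSum.Decomposition 𝒞] [SetLike.GradedSMul 𝒜 𝒞]

/-- a shift of the ring is a canonical module as soon as the top local cohomology is a shift of
the *injective envelope of the residue field -/
theorem isStarCanonical_of_top_equiv (n : ℕ) (I : GrLC.StarInjRes 𝒜 𝒜) (g : ℤ)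
    (σ : I.H m n ≃ₗ[R] E') (hσ : GrLC.IsGrHomDeg (I.Hgr m n) 𝓔 σ.toLinearMap g)
    (f : R →ₗ[R] C) (hf : Function.Bijective f) (hfg : GrLC.IsGrHomDeg 𝒜 𝒞 f g) :
    GrLC.IsStarCanonical 𝒜 𝒞 𝓔 m n I := by
  letI : DirectSum.Decomposition (I.Hgr m n) := (isInternal_Hgr 𝒜 𝒜 I m n).chooseDecomposition
  refine ⟨Module.Finite.of_surjective f hf.2, ?_⟩
  let ef : R ≃ₗ[R] C := LinearEquiv.ofBijective f hf
  let φ : (C →ₗ[R] E') ≃ₗ[R] I.H m n :=
    ((LinearEquiv.congrLeft E' R ef).symm.trans (LinearMap.ringLmapEquivSelf R R E')).trans σ.symm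
  have hφ : ∀ h : C →ₗ[R] E', φ h = σ.symm (h (f 1)) := fun h => rfl
  refine ⟨φ, fun d h hh => ?_⟩
  change φ h ∈ I.Hgr m n d
  rw [hφ]
  have h1 : f 1 ∈ 𝒞 (0 + g) := hfg 0 1 SetLike.GradedOne.one_mem
  have h2 : h (f 1) ∈ 𝓔 (0 + g + d) := hh _ _ h1
  have h3 := Ver.symm_mem_of_isGrHomDeg (I.Hgr m n) 𝓔 σ hσ h2
  have h4 : 0 + g + d - g = d := by ring
  rwa [h4] at h3

end Top

end GorCan

end Groth.Agent.H6
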