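import Groth.Agent.Lib.Helper6.SegBig6

/-! The Künneth formula without depth hypotheses, and the top local cohomology of a Segre
product. -/

universe u
open DirectSum TensorProduct
set_option linter.unusedSectionVars false

namespace Groth.Agent.H6

namespace Seg

open SegLA ToAdd

section Res

variable {k : Type u} [Field k] {R S T : Type u} [CommRing R] [CommRing S] [CommRing T]
  [Algebra k R] [Algebra k S] [Algebra k T]
  {𝒜 : ℤ → Submodule k R} [GradedAlgebra 𝒜] {ℬ : ℤ → Submodule k S} [GradedAlgebra ℬ]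
  (𝒯 : ℤ → Submodule k T) [GradedAlgebra 𝒯]
  (ψ : T →ₐ[k] R ⊗[k] S) (hT : GrSeg.IsSegreRing 𝒜 ℬ 𝒯 ψ)
  [GradedRing (toAdd 𝒜)] [GradedRing (toAdd ℬ)] [GradedRing (toAdd 𝒯)]
variable {M : Type u} [AddCommGroup M] [Module R M] [Module k M] [IsScalarTower k R M]
  {ℳ : ℤ → AddSubgroup M}
  [DirectSum.Decomposition ℳ] [SetLike.GradedSMul 𝒜 ℳ] {E : GrLC.StarInjRes 𝒜 ℳ}
variable {𝕏 : Type u} [AddCommGroup 𝕏] [Module R 𝕏] [Module k 𝕏] [IsScalarTower k R 𝕏]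
  {𝒳 : ℤ → AddSubgroup 𝕏} [DirectSum.Decomposition 𝒳] [SetLike.GradedSMul 𝒜 𝒳]
  (B : Big 𝒜 E 𝒳)
variable {N : Type u} [AddCommGroup N] [Module S N] [Module k N] [IsScalarTower k S N]
  {𝒩 : ℤ → AddSubgroup N}
  [DirectSum.Decomposition 𝒩] [SetLike.GradedSMul ℬ 𝒩] {E' : GrLC.StarInjRes ℬ 𝒩}
variable {𝕐 : Type u} [AddCommGroup 𝕐] [Module S 𝕐] [Module k 𝕐] [IsScalarTower k S 𝕐]
  {𝒴 : ℤ → AddSubgroup 𝕐} [DirectSum.Decomposition 𝒴] [SetLike.GradedSMul ℬ 𝒴]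
  (B' : Big ℬ E' 𝒴)
variable {P : Type u} [AddCommGroup P] [Module T P] [Module k P] [IsScalarTower k T P]
  {𝒬 : ℤ → AddSubgroup P} [DirectSum.Decomposition 𝒬] [SetLike.GradedSMul 𝒯 𝒬]
  {φ : P →ₗ[k] M ⊗[k] N} (hP : GrSeg.IsSegreMod ψ ℳ 𝒩 𝒬 φ)
variable (mR : HomogeneousIdeal 𝒜)
  (hmR : mR.toIdeal = Ideal.span (⋃ n ∈ Set.Ioi (0 : ℤ), (𝒜 n : Set R)))
  (mS : HomogeneousIdeal ℬ)
  (hmS : mS.toIdeal = Ideal.span (⋃ n ∈ Set.Ioi (0 : ℤ), (ℬ n : Set S)))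
  (mT : HomogeneousIdeal 𝒯)
  (hmT : mT.toIdeal = Ideal.span (⋃ n ∈ Set.Ioi (0 : ℤ), (𝒯 n : Set T)))
variable [IsNoetherianRing R] [IsNoetherianRing S] [IsNoetherianRing T]
  [SetLike.GradedSMul (toAdd 𝒯) 𝒬]
variable (EP : GrLC.StarInjRes 𝒯 𝒬)

include hT hmR hmS hmT hP in
/-- the Künneth formula in degrees at least two, without depth hypotheses -/
theorem finrank_Hcomp_tot_general [Nontrivial T] (h0T : 𝒯 0 = Submodule.span k {(1 : T)})
    (m : ℕ) (d : ℤ)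
    (hfin : ∀ i : Fin (m + 2), Module.Finite k
      ((B.core d).toPCx.Hrel (B.coreK mR.toIdeal d) i ⊗[k]
        (B'.core d).toPCx.Hrel (B'.coreK mS.toIdeal d) (m + 1 - i))) :
    Module.finrank (GrLC.deg0 𝒯) ↥(EP.Hcomp mT (m + 2) d) =
      ∑ i ∈ Finset.range (m + 2),
        Module.finrank k ((B.core d).toPCx.Hrel (B.coreK mR.toIdeal d) i) *
        Module.finrank k ((B'.core d).toPCx.Hrel (B'.coreK mS.toIdeal d) (m + 1 - i)) := by
  rw [← finrank_Hsub_tot 𝒯 ψ hT B B' hP mR hmR mS hmS mT hmT EP h0T d (m + 2)]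
  obtain ⟨e⟩ := nonempty_coreEquiv (B.core d) (B.coreK mR.toIdeal d) (B.coreK_prk mR.toIdeal d)
    (B.coreK_d mR.toIdeal d) (B'.core d) (B'.coreK mS.toIdeal d) (B'.coreK_prk mS.toIdeal d)
    (B'.coreK_d mS.toIdeal d) (B.core_exactAt d) (B'.core_exactAt d) m
  rw [← Fin.sum_univ_eq_sum_range (fun i =>
    Module.finrank k ((B.core d).toPCx.Hrel (B.coreK mR.toIdeal d) i) *
      Module.finrank k ((B'.core d).toPCx.Hrel (B'.coreK mS.toIdeal d) (m + 1 - i))) (m + 2)]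
  rw [show coreKT B B' mR mS d = KT (B.core d) (B.coreK mR.toIdeal d)
    (B.coreK_prk mR.toIdeal d) (B.coreK_d mR.toIdeal d) (B'.core d) (B'.coreK mS.toIdeal d)
    (B'.coreK_prk mS.toIdeal d) (B'.coreK_d mS.toIdeal d) from rfl]
  rw [e.finrank_eq, Module.finrank_pi_fintype]
  exact Finset.sum_congr rfl fun i _ => Module.finrank_tensorProduct

theorem subsingleton_of_finrank_eq_zero {V : Type u} [AddCommGroup V] [Module k V]
    [Module.Finite k V] (h : Module.finrank k V = 0) : Subsingleton V :=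
  Module.finrank_zero_iff.mp h

include B B' hT hmR hmS hmT hP in
/-- the top local cohomology of a Segre product -/
theorem finrank_Hcomp_tot_top [Nontrivial R] [Nontrivial S] [Nontrivial T]
    (h0R : 𝒜 0 = Submodule.span k {(1 : R)}) (h0S : ℬ 0 = Submodule.span k {(1 : S)})
    (h0T : 𝒯 0 = Submodule.span k {(1 : T)}) (r s : ℕ) (h2r : 2 ≤ r) (h2s : 2 ≤ s) (d : ℤ)
    (hvM : ∀ i, r < i → E.Hcomp mR i d = ⊥) (hvN : ∀ i, s < i → E'.Hcomp mS i d = ⊥)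
    (hfMH : ∀ i, Module.Finite (GrLC.deg0 𝒜) ↥(E.Hcomp mR i d))
    (hfNH : ∀ i, Module.Finite (GrLC.deg0 ℬ) ↥(E'.Hcomp mS i d)) :
    Module.finrank (GrLC.deg0 𝒯) ↥(EP.Hcomp mT (r + s - 1) d) =
      Module.finrank (GrLC.deg0 𝒜) ↥(E.Hcomp mR r d) *
        Module.finrank (GrLC.deg0 ℬ) ↥(E'.Hcomp mS s d) := by
  obtain ⟨m, hm⟩ : ∃ m, r + s - 1 = m + 2 := ⟨r + s - 3, by omega⟩
  rw [hm]
  have hfr : ∀ j : ℕ, Module.Finite k ((B.core d).toPCx.Hrel (B.coreK mR.toIdeal d) (j + 1)) :=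
    fun j => B.finite_Hrel_succ mR h0R d j (hfMH (j + 2))
  have hfr' : ∀ j : ℕ,
      Module.Finite k ((B'.core d).toPCx.Hrel (B'.coreK mS.toIdeal d) (j + 1)) :=
    fun j => B'.finite_Hrel_succ mS h0S d j (hfNH (j + 2))
  have hr0 : ∀ j, r < j + 2 →
      Module.finrank k ((B.core d).toPCx.Hrel (B.coreK mR.toIdeal d) (j + 1)) = 0 := by
    intro j hj
    rw [B.finrank_Hrel_succ mR h0R d j, hvM (j + 2) hj]
    exact finrank_bot _ _
  have hr0' : ∀ j, s < j + 2 →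
      Module.finrank k ((B'.core d).toPCx.Hrel (B'.coreK mS.toIdeal d) (j + 1)) = 0 := by
    intro j hj
    rw [B'.finrank_Hrel_succ mS h0S d j, hvN (j + 2) hj]
    exact finrank_bot _ _
  have hfin : ∀ i : Fin (m + 2), Module.Finite k
      ((B.core d).toPCx.Hrel (B.coreK mR.toIdeal d) i ⊗[k]
        (B'.core d).toPCx.Hrel (B'.coreK mS.toIdeal d) (m + 1 - i)) := by
    rintro ⟨i, hi⟩
    change Module.Finite k
      ((B.core d).toPCx.Hrel (B.coreK mR.toIdeal d) i ⊗[k]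
        (B'.core d).toPCx.Hrel (B'.coreK mS.toIdeal d) (m + 1 - i))
    cases i with
    | zero =>
      obtain ⟨j, hj⟩ : ∃ j, m + 1 - 0 = j + 1 := ⟨m, by omega⟩
      rw [hj]
      haveI := hfr' j
      haveI : Subsingleton ((B'.core d).toPCx.Hrel (B'.coreK mS.toIdeal d) (j + 1)) :=
        subsingleton_of_finrank_eq_zero (hr0' j (by omega))
      infer_instance
    | succ i' =>
      haveI := hfr i'
      by_cases hlast : m + 1 - (i' + 1) = 0
      · rw [hlast]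
        haveI : Subsingleton ((B.core d).toPCx.Hrel (B.coreK mR.toIdeal d) (i' + 1)) :=
          subsingleton_of_finrank_eq_zero (hr0 i' (by omega))
        infer_instance
      · obtain ⟨j, hj⟩ : ∃ j, m + 1 - (i' + 1) = j + 1 := ⟨m + 1 - (i' + 1) - 1, by omega⟩
        rw [hj]
        haveI := hfr' j
        infer_instance
  rw [finrank_Hcomp_tot_general 𝒯 ψ hT B B' hP mR hmR mS hmS mT hmT EP h0T m d hfin]
  rw [Finset.sum_eq_single (r - 1)]
  · obtain ⟨j, hj⟩ : ∃ j, r - 1 = j + 1 := ⟨r - 2, by omega⟩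
    obtain ⟨j', hj'⟩ : ∃ j', m + 1 - (r - 1) = j' + 1 := ⟨s - 2, by omega⟩
    rw [hj', hj, B.finrank_Hrel_succ mR h0R d j, B'.finrank_Hrel_succ mS h0S d j']
    have e1 : j + 2 = r := by omega
    have e2 : j' + 2 = s := by omega
    rw [e1, e2]
  · intro i hi hne
    rw [Finset.mem_range] at hi
    cases i with
    | zero =>
      obtain ⟨j, hj⟩ : ∃ j, m + 1 - 0 = j + 1 := ⟨m, by omega⟩
      rw [hj, hr0' j (by omega), mul_zero]
    | succ i' =>
      by_cases hlt : i' + 1 < r - 1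
      · obtain ⟨j, hj⟩ : ∃ j, m + 1 - (i' + 1) = j + 1 := ⟨m + 1 - (i' + 1) - 1, by omega⟩
        rw [hj, hr0' j (by omega), mul_zero]
      · rw [hr0 i' (by omega), zero_mul]
  · intro h
    exfalso
    apply h
    rw [Finset.mem_range]
    omega

end Res

end Seg

end Groth.Agent.H6
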