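import Groth.Agent.Lib.Helper6.SegFinal

/-! The Künneth formula for the graded local cohomology of the Segre product of two rings. -/

universe u
open DirectSum TensorProduct
set_option linter.unusedSectionVars false

namespace Groth.Agent.H6

namespace Seg

open SegLA ToAdd

section Self

variable {k : Type u} [Field k] {R : Type u} [CommRing R] [Algebra k R]
  (𝒜 : ℤ → Submodule k R) [GradedAlgebra 𝒜] [GradedRing (toAdd 𝒜)]

theorem gradedSMul_self : SetLike.GradedSMul 𝒜 (toAdd 𝒜) where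
  smul_mem := fun {_ _} _ _ hr hx => SetLike.GradedMul.mul_mem (A := 𝒜) hr hx

/-- a *injective resolution of the ring, with the ring viewed as a graded module over itself
with additive subgroups as pieces -/
def resSelf [SetLike.GradedSMul 𝒜 (toAdd 𝒜)] (I : GrLC.StarInjRes 𝒜 𝒜) :
    GrLC.StarInjRes 𝒜 (toAdd 𝒜) where
  X := I.X
  d := I.d
  ε := I.ε
  d_grHom := I.d_grHom
  ε_grHom := I.ε_grHom
  ε_injective := I.ε_injective
  exact_zero := I.exact_zero
  exact_succ := I.exact_succ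
  starInj := I.starInj

theorem finrank_comp_self [SetLike.GradedSMul 𝒜 (toAdd 𝒜)] [Nontrivial R]
    (h0 : 𝒜 0 = Submodule.span k {(1 : R)}) (d : ℤ) :
    Module.finrank (GrLC.deg0 𝒜) ↥(GrLC.comp 𝒜 (toAdd 𝒜) d) = Module.finrank k ↥(𝒜 d) := by
  rw [← finrank_pcs_eq 𝒜 (toAdd 𝒜) h0 d]
  have : pcs 𝒜 (toAdd 𝒜) d = 𝒜 d := Submodule.ext fun x => Iff.rfl
  rw [this]

end Self

section Act

variable {k : Type u} [Field k] {R S : Type u} [CommRing R] [CommRing S] [Algebra k R]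
  [Algebra k S]

theorem act_self (x y : R ⊗[k] S) : GrSeg.act k R S R S x y = x * y := by
  induction x using TensorProduct.induction_on with
  | zero => rw [map_zero, LinearMap.zero_apply, zero_mul]
  | tmul r s =>
    induction y using TensorProduct.induction_on with
    | zero => rw [map_zero, mul_zero]
    | tmul a b => rw [GrSeg.act_tmul, Algebra.TensorProduct.tmul_mul_tmul, smul_eq_mul, smul_eq_mul]
    | add y y' hy hy' => rw [map_add, hy, hy', mul_add]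
  | add x x' hx hx' => rw [map_add, LinearMap.add_apply, hx, hx', add_mul]

end Act

/-- **the Künneth formula for the local cohomology of the Segre product of two graded rings**,
degree by degree -/
theorem kunneth_rings (k : Type u) [Field k] (R : Type u) [CommRing R] [Nontrivial R]
    [Algebra k R] (𝒜 : ℤ → Submodule k R) [GradedAlgebra 𝒜] (hposR : ∀ n : ℤ, n < 0 → 𝒜 n = ⊥)
    (h0R : 𝒜 0 = Submodule.span k {(1 : R)}) [Algebra.FiniteType k R] (S : Type u) [CommRing S]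
    [Nontrivial S] [Algebra k S] (ℬ : ℤ → Submodule k S) [GradedAlgebra ℬ]
    (hposS : ∀ n : ℤ, n < 0 → ℬ n = ⊥) (h0S : ℬ 0 = Submodule.span k {(1 : S)})
    [Algebra.FiniteType k S] (T : Type u) [CommRing T] [Algebra k T] (𝒯 : ℤ → Submodule k T)
    [GradedAlgebra 𝒯] (ψ : T →ₐ[k] TensorProduct k R S) (hψ : Function.Injective ψ)
    (hdegT : ∀ n : ℤ, (𝒯 n).map ψ.toLinearMap =
      Submodule.span k {x : TensorProduct k R S | ∃ a ∈ 𝒜 n, ∃ b ∈ ℬ n, x = a ⊗ₜ[k] b})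
    (mR : HomogeneousIdeal 𝒜)
    (hmR : mR.toIdeal = Ideal.span (⋃ n ∈ Set.Ioi (0 : ℤ), (𝒜 n : Set R)))
    (I : GrLC.StarInjRes 𝒜 𝒜) (mS : HomogeneousIdeal ℬ)
    (hmS : mS.toIdeal = Ideal.span (⋃ n ∈ Set.Ioi (0 : ℤ), (ℬ n : Set S)))
    (J : GrLC.StarInjRes ℬ ℬ) (mT : HomogeneousIdeal 𝒯)
    (hmT : mT.toIdeal = Ideal.span (⋃ n ∈ Set.Ioi (0 : ℤ), (𝒯 n : Set T)))
    (IT : GrLC.StarInjRes 𝒯 𝒯)
    (hR : ∀ (q : ℕ) (d : ℤ), q ≤ 1 → I.Hcomp mR q d = ⊥)
    (hS : ∀ (q : ℕ) (d : ℤ), q ≤ 1 → J.Hcomp mS q d = ⊥) (q : ℕ) (d : ℤ) :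
    Module.finrank (GrLC.deg0 𝒯) (IT.Hcomp mT q d) =
      Module.finrank k (𝒜 d) * Module.finrank (GrLC.deg0 ℬ) (J.Hcomp mS q d) +
        Module.finrank (GrLC.deg0 𝒜) (I.Hcomp mR q d) * Module.finrank k (ℬ d) +
        (Finset.range (q + 2)).sum (fun i => Module.finrank (GrLC.deg0 𝒜) (I.Hcomp mR i d) *
          Module.finrank (GrLC.deg0 ℬ) (J.Hcomp mS (q + 1 - i) d)) := by
  letI := gradedRing_toAdd 𝒜
  letI := gradedRing_toAdd ℬ
  letI := gradedRing_toAdd 𝒯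
  haveI := gradedSMul_self 𝒜
  haveI := gradedSMul_self ℬ
  haveI := gradedSMul_self 𝒯
  have hT : GrSeg.IsSegreRing 𝒜 ℬ 𝒯 ψ := ⟨hψ, hdegT⟩
  have hP : GrSeg.IsSegreMod ψ (toAdd 𝒜) (toAdd ℬ) (toAdd 𝒯) ψ.toLinearMap := by
    refine ⟨hψ, ?_, ?_⟩
    · intro n
      have h1 := congrArg (fun W : Submodule k (R ⊗[k] S) => (W : Set (R ⊗[k] S))) (hdegT n)
      exact h1
    · intro t p
      change ψ (t * p) = _
      rw [map_mul, act_self]
      rfl
  have key := kunneth_modules k R 𝒜 hposR h0R S ℬ hposS h0S T 𝒯 ψ hT mR hmR mS hmS mT hmT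
    R (toAdd 𝒜) (resSelf 𝒜 I) S (toAdd ℬ) (resSelf ℬ J) T (toAdd 𝒯) ψ.toLinearMap hP
    (resSelf 𝒯 IT) hR hS q d
  rw [finrank_comp_self 𝒜 h0R d, finrank_comp_self ℬ h0S d] at key
  exact key

end Seg

end Groth.Agent.H6
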