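import Groth.Agent.Lib.Helper6.SegCan1
import Groth.Agent.Lib.Helper6.SegBig7
import Groth.Agent.Lib.Helper6.SegRing
import Groth.Agent.Lib.Helper6.GrArtinian

/-! The canonical module of a Segre product: dimensions of the pieces. -/

universe u
open DirectSum TensorProduct
set_option linter.unusedSectionVars false

namespace Groth.Agent.H6

namespace Seg

open SegLA ToAdd

section Can

variable {k : Type u} [Field k] {R : Type u} [CommRing R] [Nontrivial R] [Algebra k R]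
  (𝒜 : ℤ → Submodule k R) [GradedAlgebra 𝒜]

theorem isField_deg0 (h0 : 𝒜 0 = Submodule.span k {(1 : R)}) : IsField (GrLC.deg0 𝒜) :=
  (RingEquiv.ofBijective (kToDeg0 𝒜) (kToDeg0_bijective 𝒜 h0)).symm.toMulEquiv.isField
    (Field.toIsField k)

theorem toAdd_neg_eq_bot (hpos : ∀ n : ℤ, n < 0 → 𝒜 n = ⊥) (n : ℤ) (hn : n < 0) :
    toAdd 𝒜 n = ⊥ := by
  ext x
  rw [mem_toAdd, hpos n hn]
  rfl

/-- graded Matlis duality for the canonical module, on dimensions of pieces -/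
theorem finrank_canonical [IsNoetherianRing R] (hpos : ∀ n : ℤ, n < 0 → 𝒜 n = ⊥)
    (h0 : 𝒜 0 = Submodule.span k {(1 : R)}) (m : HomogeneousIdeal 𝒜)
    (hm : m.toIdeal = Ideal.span (⋃ n ∈ Set.Ioi (0 : ℤ), (𝒜 n : Set R)))
    {E' : Type u} [AddCommGroup E'] [Module R E'] (𝓔 : ℤ → AddSubgroup E')
    [DirectSum.Decomposition 𝓔] [SetLike.GradedSMul 𝒜 𝓔] (e : (R ⧸ m.toIdeal) →ₗ[R] E')
    (he : GrLC.IsStarInjHull 𝒜 (GrLC.quotGr 𝒜 m) 𝓔 e)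
    {C : Type u} [AddCommGroup C] [Module R C] (𝒞 : ℤ → AddSubgroup C)
    [DirectSum.Decomposition 𝒞] [SetLike.GradedSMul 𝒜 𝒞] (n : ℕ) (I : GrLC.StarInjRes 𝒜 𝒜)
    (hC : GrLC.IsStarCanonical 𝒜 𝒞 𝓔 m n I) (j : ℤ) :
    Module.finrank (GrLC.deg0 𝒜) ↥(GrLC.comp 𝒜 𝒞 j) =
      Module.finrank (GrLC.deg0 𝒜) ↥(I.Hcomp m n (-j)) := by
  letI := gradedRing_toAdd 𝒜
  haveI := gradedSMul_to 𝒜 𝓔
  haveI := gradedSMul_to 𝒜 𝒞
  have S : GDual.Setting (toAdd 𝒜) (idealTo 𝒜 m) 𝓔 e :=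
    ⟨toAdd_neg_eq_bot 𝒜 hpos, isField_deg0 𝒜 h0, hm, isStarInjHull_to 𝒜 m 𝓔 e he⟩
  obtain ⟨hfin, ψ, hψ⟩ := isStarCanonical_to 𝒜 m 𝓔 𝒞 n I hC
  haveI := hfin
  letI : DirectSum.Decomposition ((resTo 𝒜 I).Hgr (idealTo 𝒜 m) n) :=
    (Gr.isInternal_Hgr (toAdd 𝒜) (toAdd 𝒜) (resTo 𝒜 I) (idealTo 𝒜 m) n).chooseDecomposition
  haveI : SetLike.GradedSMul (toAdd 𝒜) ((resTo 𝒜 I).Hgr (idealTo 𝒜 m) n) :=
    Gr.Hgr_gradedSMul (resTo 𝒜 I) (idealTo 𝒜 m) n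
  have pp := GDual.perfPair_canonical S 𝒞 ((resTo 𝒜 I).Hgr (idealTo 𝒜 m) n) ψ hψ
  exact pp.finrank_eq S.h0 j

end Can

section Van

variable {k : Type u} [Field k] {R : Type u} [CommRing R] [Algebra k R]
  (𝒜 : ℤ → Submodule k R) [GradedAlgebra 𝒜] [GradedRing (toAdd 𝒜)]
variable {M : Type u} [AddCommGroup M] [Module R M] (ℳ : ℤ → AddSubgroup M)
  [DirectSum.Decomposition ℳ] [SetLike.GradedSMul 𝒜 ℳ] [SetLike.GradedSMul (toAdd 𝒜) ℳ]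

/-- Grothendieck vanishing for graded local cohomology -/
theorem Hcomp_eq_bot_of_supportDim_lt [IsNoetherianRing R] [Module.Finite R M]
    (E : GrLC.StarInjRes 𝒜 ℳ) (a : HomogeneousIdeal 𝒜) (i : ℕ)
    (hi : Module.supportDim R M < (i : WithBot ℕ∞)) (d : ℤ) : E.Hcomp a i d = ⊥ := by
  obtain ⟨e⟩ := Gr.nonempty_H_equiv (toAdd 𝒜) ℳ (resToM 𝒜 E) (idealTo 𝒜 a) i
  haveI : Subsingleton (LocCoh.H (idealTo 𝒜 a).toIdeal i M) :=
    LC.subsingleton_of_supportDim_lt _ M i hi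
  haveI : Subsingleton ((resToM 𝒜 E).H (idealTo 𝒜 a) i) := e.toEquiv.subsingleton
  rw [eq_bot_iff]
  intro x _
  rw [Submodule.mem_bot]
  exact Subsingleton.elim (α := (resToM 𝒜 E).H (idealTo 𝒜 a) i) x 0

end Van

section Pos

variable {k : Type u} [Field k] {R S T : Type u} [CommRing R] [CommRing S] [CommRing T]
  [Algebra k R] [Algebra k S] [Algebra k T]
  {𝒜 : ℤ → Submodule k R} [GradedAlgebra 𝒜] {ℬ : ℤ → Submodule k S} [GradedAlgebra ℬ]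
  {𝒯 : ℤ → Submodule k T} [GradedAlgebra 𝒯]
  {ψ : T →ₐ[k] R ⊗[k] S}

theorem segre_neg_eq_bot (hT : GrSeg.IsSegreRing 𝒜 ℬ 𝒯 ψ) (hposR : ∀ n : ℤ, n < 0 → 𝒜 n = ⊥)
    (n : ℤ) (hn : n < 0) : 𝒯 n = ⊥ := by
  have h1 : (𝒯 n).map ψ.toLinearMap = ⊥ := by
    rw [hT.2 n, GrSeg.segrePiece, Submodule.span_eq_bot]
    rintro x ⟨a, ha, b, -, rfl⟩
    rw [hposR n hn, Submodule.mem_bot] at ha
    rw [ha, TensorProduct.zero_tmul]
  rw [eq_bot_iff]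
  intro t ht
  rw [Submodule.mem_bot]
  have h2 : ψ.toLinearMap t ∈ (𝒯 n).map ψ.toLinearMap := ⟨t, ht, rfl⟩
  rw [h1, Submodule.mem_bot] at h2
  apply hT.1
  rw [map_zero]
  exact h2

end Pos

/-- the top local cohomology of a Segre product of modules, degree by degree -/
theorem kunneth_top_modules (k : Type u) [Field k] (R : Type u) [CommRing R] [Nontrivial R]
    [Algebra k R] (𝒜 : ℤ → Submodule k R) [GradedAlgebra 𝒜] (hposR : ∀ n : ℤ, n < 0 → 𝒜 n = ⊥)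
    (h0R : 𝒜 0 = Submodule.span k {(1 : R)}) [Algebra.FiniteType k R] (S : Type u) [CommRing S]
    [Nontrivial S] [Algebra k S] (ℬ : ℤ → Submodule k S) [GradedAlgebra ℬ]
    (hposS : ∀ n : ℤ, n < 0 → ℬ n = ⊥) (h0S : ℬ 0 = Submodule.span k {(1 : S)})
    [Algebra.FiniteType k S] (T : Type u) [CommRing T] [Algebra k T] (𝒯 : ℤ → Submodule k T)
    [GradedAlgebra 𝒯] (ψ : T →ₐ[k] TensorProduct k R S) (hT : GrSeg.IsSegreRing 𝒜 ℬ 𝒯 ψ)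
    (mR : HomogeneousIdeal 𝒜)
    (hmR : mR.toIdeal = Ideal.span (⋃ n ∈ Set.Ioi (0 : ℤ), (𝒜 n : Set R)))
    (mS : HomogeneousIdeal ℬ)
    (hmS : mS.toIdeal = Ideal.span (⋃ n ∈ Set.Ioi (0 : ℤ), (ℬ n : Set S)))
    (mT : HomogeneousIdeal 𝒯)
    (hmT : mT.toIdeal = Ideal.span (⋃ n ∈ Set.Ioi (0 : ℤ), (𝒯 n : Set T)))
    (M : Type u) [AddCommGroup M] [Module R M] [Module k M] [IsScalarTower k R M]
    (ℳ : ℤ → AddSubgroup M) [DirectSum.Decomposition ℳ] [SetLike.GradedSMul 𝒜 ℳ]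
    [Module.Finite R M] (EM : GrLC.StarInjRes 𝒜 ℳ)
    (N : Type u) [AddCommGroup N] [Module S N] [Module k N] [IsScalarTower k S N]
    (𝒩 : ℤ → AddSubgroup N) [DirectSum.Decomposition 𝒩] [SetLike.GradedSMul ℬ 𝒩]
    [Module.Finite S N] (EN : GrLC.StarInjRes ℬ 𝒩)
    (P : Type u) [AddCommGroup P] [Module T P] [Module k P] [IsScalarTower k T P]
    (𝒬 : ℤ → AddSubgroup P) [DirectSum.Decomposition 𝒬] [SetLike.GradedSMul 𝒯 𝒬]
    (φ : P →ₗ[k] TensorProduct k M N) (hP : GrSeg.IsSegreMod ψ ℳ 𝒩 𝒬 φ)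
    (EP : GrLC.StarInjRes 𝒯 𝒬) (r s : ℕ) (h2r : 2 ≤ r) (h2s : 2 ≤ s)
    (hdM : Module.supportDim R M ≤ (r : WithBot ℕ∞))
    (hdN : Module.supportDim S N ≤ (s : WithBot ℕ∞)) (d : ℤ) :
    Module.finrank (GrLC.deg0 𝒯) (EP.Hcomp mT (r + s - 1) d) =
      Module.finrank (GrLC.deg0 𝒜) (EM.Hcomp mR r d) *
        Module.finrank (GrLC.deg0 ℬ) (EN.Hcomp mS s d) := by
  haveI : IsNoetherianRing R := Algebra.FiniteType.isNoetherianRing k R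
  haveI : IsNoetherianRing S := Algebra.FiniteType.isNoetherianRing k S
  haveI : IsNoetherianRing T :=
    Groth.Agent.S18646.result k R 𝒜 hposR h0R S ℬ hposS h0S T 𝒯 ψ hT.1 hT.2
  haveI : Nontrivial T := segre_nontrivial ψ
  have h0T : 𝒯 0 = Submodule.span k {(1 : T)} := segre_deg_zero hT h0R h0S
  letI := gradedRing_toAdd 𝒜
  letI := gradedRing_toAdd ℬ
  letI := gradedRing_toAdd 𝒯
  haveI := gradedSMul_to 𝒜 ℳ
  haveI := gradedSMul_to ℬ 𝒩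
  haveI := gradedSMul_to 𝒯 𝒬
  letI : Module k (BigX 𝒜 EM) := Module.compHom _ (algebraMap k R)
  haveI : IsScalarTower k R (BigX 𝒜 EM) := compHom_tower R _
  letI := bigDecomposition 𝒜 EM
  haveI := big_gradedSMul 𝒜 EM
  letI : Module k (BigX ℬ EN) := Module.compHom _ (algebraMap k S)
  haveI : IsScalarTower k S (BigX ℬ EN) := compHom_tower S _
  letI := bigDecomposition ℬ EN
  haveI := big_gradedSMul ℬ EN
  have hvM : ∀ i, r < i → EM.Hcomp mR i d = ⊥ := by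
    intro i hi
    apply Hcomp_eq_bot_of_supportDim_lt 𝒜 ℳ EM mR i
    exact lt_of_le_of_lt hdM (by exact_mod_cast hi)
  have hvN : ∀ i, s < i → EN.Hcomp mS i d = ⊥ := by
    intro i hi
    apply Hcomp_eq_bot_of_supportDim_lt ℬ 𝒩 EN mS i
    exact lt_of_le_of_lt hdN (by exact_mod_cast hi)
  exact finrank_Hcomp_tot_top 𝒯 ψ hT (bigOf 𝒜 EM) (bigOf ℬ EN) hP mR hmR mS hmS mT hmT EP
    h0R h0S h0T r s h2r h2s d hvM hvN
    (fun i => finite_Hcomp_of_pos 𝒜 ℳ hposR mR hmR EM i d)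
    (fun i => finite_Hcomp_of_pos ℬ 𝒩 hposS mS hmS EN i d)

theorem nontrivial_of_dim {R : Type u} [CommRing R] (r : ℕ) (hr : ringKrullDim R = r) :
    Nontrivial R := by
  by_contra h
  rw [not_nontrivial_iff_subsingleton] at h
  rw [ringKrullDim_eq_bot_of_subsingleton] at hr
  exact WithBot.bot_ne_coe hr

/-- the top local cohomology of a Segre product of rings, degree by degree -/
theorem kunneth_top_rings (k : Type u) [Field k] (R : Type u) [CommRing R]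
    [Algebra k R] (𝒜 : ℤ → Submodule k R) [GradedAlgebra 𝒜] (hposR : ∀ n : ℤ, n < 0 → 𝒜 n = ⊥)
    (h0R : 𝒜 0 = Submodule.span k {(1 : R)}) [Algebra.FiniteType k R] (S : Type u) [CommRing S]
    [Algebra k S] (ℬ : ℤ → Submodule k S) [GradedAlgebra ℬ]
    (hposS : ∀ n : ℤ, n < 0 → ℬ n = ⊥) (h0S : ℬ 0 = Submodule.span k {(1 : S)})
    [Algebra.FiniteType k S] (T : Type u) [CommRing T] [Algebra k T] (𝒯 : ℤ → Submodule k T)
    [GradedAlgebra 𝒯] (ψ : T →ₐ[k] TensorProduct k R S) (hT : GrSeg.IsSegreRing 𝒜 ℬ 𝒯 ψ)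
    (mR : HomogeneousIdeal 𝒜)
    (hmR : mR.toIdeal = Ideal.span (⋃ n ∈ Set.Ioi (0 : ℤ), (𝒜 n : Set R)))
    (I : GrLC.StarInjRes 𝒜 𝒜) (mS : HomogeneousIdeal ℬ)
    (hmS : mS.toIdeal = Ideal.span (⋃ n ∈ Set.Ioi (0 : ℤ), (ℬ n : Set S)))
    (J : GrLC.StarInjRes ℬ ℬ) (mT : HomogeneousIdeal 𝒯)
    (hmT : mT.toIdeal = Ideal.span (⋃ n ∈ Set.Ioi (0 : ℤ), (𝒯 n : Set T)))
    (IT : GrLC.StarInjRes 𝒯 𝒯) (r s : ℕ) (hr : ringKrullDim R = r) (hs : ringKrullDim S = s)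
    (h2r : 2 ≤ r) (h2s : 2 ≤ s) (d : ℤ) :
    Module.finrank (GrLC.deg0 𝒯) (IT.Hcomp mT (r + s - 1) d) =
      Module.finrank (GrLC.deg0 𝒜) (I.Hcomp mR r d) *
        Module.finrank (GrLC.deg0 ℬ) (J.Hcomp mS s d) := by
  haveI := nontrivial_of_dim r hr
  haveI := nontrivial_of_dim s hs
  letI := gradedRing_toAdd 𝒜
  letI := gradedRing_toAdd ℬ
  letI := gradedRing_toAdd 𝒯
  haveI := gradedSMul_self 𝒜
  haveI := gradedSMul_self ℬ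
  haveI := gradedSMul_self 𝒯
  have hP : GrSeg.IsSegreMod ψ (toAdd 𝒜) (toAdd ℬ) (toAdd 𝒯) ψ.toLinearMap := by
    refine ⟨hT.1, ?_, ?_⟩
    · intro n
      have h1 := congrArg (fun W : Submodule k (R ⊗[k] S) => (W : Set (R ⊗[k] S))) (hT.2 n)
      exact h1
    · intro t p
      change ψ (t * p) = _
      rw [map_mul, act_self]
      rfl
  exact kunneth_top_modules k R 𝒜 hposR h0R S ℬ hposS h0S T 𝒯 ψ hT mR hmR mS hmS mT hmT
    R (toAdd 𝒜) (resSelf 𝒜 I) S (toAdd ℬ) (resSelf ℬ J) T (toAdd 𝒯) ψ.toLinearMap hP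
    (resSelf 𝒯 IT) r s h2r h2s
    (by rw [Module.supportDim_self_eq_ringKrullDim, hr])
    (by rw [Module.supportDim_self_eq_ringKrullDim, hs]) d

/-- **the canonical module of a Segre product**, degree by degree -/
theorem finrank_canonical_segre (k : Type u) [Field k] (R : Type u) [CommRing R]
    [Algebra k R] (𝒜 : ℤ → Submodule k R) [GradedAlgebra 𝒜] (hposR : ∀ n : ℤ, n < 0 → 𝒜 n = ⊥)
    (h0R : 𝒜 0 = Submodule.span k {(1 : R)}) [Algebra.FiniteType k R] (S : Type u) [CommRing S]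
    [Algebra k S] (ℬ : ℤ → Submodule k S) [GradedAlgebra ℬ]
    (hposS : ∀ n : ℤ, n < 0 → ℬ n = ⊥) (h0S : ℬ 0 = Submodule.span k {(1 : S)})
    [Algebra.FiniteType k S] (T : Type u) [CommRing T] [Algebra k T] (𝒯 : ℤ → Submodule k T)
    [GradedAlgebra 𝒯] (ψ : T →ₐ[k] TensorProduct k R S) (hT : GrSeg.IsSegreRing 𝒜 ℬ 𝒯 ψ)
    (mR : HomogeneousIdeal 𝒜)
    (hmR : mR.toIdeal = Ideal.span (⋃ n ∈ Set.Ioi (0 : ℤ), (𝒜 n : Set R)))
    (I : GrLC.StarInjRes 𝒜 𝒜) (mS : HomogeneousIdeal ℬ)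
    (hmS : mS.toIdeal = Ideal.span (⋃ n ∈ Set.Ioi (0 : ℤ), (ℬ n : Set S)))
    (J : GrLC.StarInjRes ℬ ℬ) (mT : HomogeneousIdeal 𝒯)
    (hmT : mT.toIdeal = Ideal.span (⋃ n ∈ Set.Ioi (0 : ℤ), (𝒯 n : Set T)))
    (IT : GrLC.StarInjRes 𝒯 𝒯) (r s : ℕ) (hr : ringKrullDim R = r) (hs : ringKrullDim S = s)
    (h2r : 2 ≤ r) (h2s : 2 ≤ s)
    (ER : Type u) [AddCommGroup ER] [Module R ER] (𝓔R : ℤ → AddSubgroup ER)
    [DirectSum.Decomposition 𝓔R] [SetLike.GradedSMul 𝒜 𝓔R] (eR : (R ⧸ mR.toIdeal) →ₗ[R] ER)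
    (heR : GrLC.IsStarInjHull 𝒜 (GrLC.quotGr 𝒜 mR) 𝓔R eR)
    (CR : Type u) [AddCommGroup CR] [Module R CR] (𝒞R : ℤ → AddSubgroup CR)
    [DirectSum.Decomposition 𝒞R] [SetLike.GradedSMul 𝒜 𝒞R]
    (hCR : GrLC.IsStarCanonical 𝒜 𝒞R 𝓔R mR r I)
    (ES : Type u) [AddCommGroup ES] [Module S ES] (𝓔S : ℤ → AddSubgroup ES)
    [DirectSum.Decomposition 𝓔S] [SetLike.GradedSMul ℬ 𝓔S] (eS : (S ⧸ mS.toIdeal) →ₗ[S] ES)
    (heS : GrLC.IsStarInjHull ℬ (GrLC.quotGr ℬ mS) 𝓔S eS)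
    (CS : Type u) [AddCommGroup CS] [Module S CS] (𝒞S : ℤ → AddSubgroup CS)
    [DirectSum.Decomposition 𝒞S] [SetLike.GradedSMul ℬ 𝒞S]
    (hCS : GrLC.IsStarCanonical ℬ 𝒞S 𝓔S mS s J)
    (ET : Type u) [AddCommGroup ET] [Module T ET] (𝓔T : ℤ → AddSubgroup ET)
    [DirectSum.Decomposition 𝓔T] [SetLike.GradedSMul 𝒯 𝓔T] (eT : (T ⧸ mT.toIdeal) →ₗ[T] ET)
    (heT : GrLC.IsStarInjHull 𝒯 (GrLC.quotGr 𝒯 mT) 𝓔T eT)
    (CT : Type u) [AddCommGroup CT] [Module T CT] (𝒞T : ℤ → AddSubgroup CT)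
    [DirectSum.Decomposition 𝒞T] [SetLike.GradedSMul 𝒯 𝒞T]
    (hCT : GrLC.IsStarCanonical 𝒯 𝒞T 𝓔T mT (r + s - 1) IT) (n : ℤ) :
    Module.finrank (GrLC.deg0 𝒯) (GrLC.comp 𝒯 𝒞T n) =
      Module.finrank (GrLC.deg0 𝒜) (GrLC.comp 𝒜 𝒞R n) *
        Module.finrank (GrLC.deg0 ℬ) (GrLC.comp ℬ 𝒞S n) := by
  haveI := nontrivial_of_dim r hr
  haveI := nontrivial_of_dim s hs
  haveI : IsNoetherianRing R := Algebra.FiniteType.isNoetherianRing k R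
  haveI : IsNoetherianRing S := Algebra.FiniteType.isNoetherianRing k S
  haveI : IsNoetherianRing T :=
    Groth.Agent.S18646.result k R 𝒜 hposR h0R S ℬ hposS h0S T 𝒯 ψ hT.1 hT.2
  haveI : Nontrivial T := segre_nontrivial ψ
  have h0T : 𝒯 0 = Submodule.span k {(1 : T)} := segre_deg_zero hT h0R h0S
  have hposT : ∀ n : ℤ, n < 0 → 𝒯 n = ⊥ := segre_neg_eq_bot hT hposR
  rw [finrank_canonical 𝒯 hposT h0T mT hmT 𝓔T eT heT 𝒞T (r + s - 1) IT hCT n,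
    finrank_canonical 𝒜 hposR h0R mR hmR 𝓔R eR heR 𝒞R r I hCR n,
    finrank_canonical ℬ hposS h0S mS hmS 𝓔S eS heS 𝒞S s J hCS n]
  exact kunneth_top_rings k R 𝒜 hposR h0R S ℬ hposS h0S T 𝒯 ψ hT mR hmR I mS hmS J mT hmT IT
    r s hr hs h2r h2s (-n)

end Seg

end Groth.Agent.H6
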