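import Groth.Agent.Lib.Helper6.SegKT5
import Groth.Agent.Lib.Helper6.SegCan2
import Groth.Agent.S19747

/-! The canonical module of a Segre product is the Segre product of the canonical modules. -/

universe u
open DirectSum TensorProduct
set_option linter.unusedSectionVars false

namespace Groth.Agent.H6

namespace Seg

open SegLA ToAdd

section Abstract

variable {k : Type u} [Field k] {R S T : Type u} [CommRing R] [CommRing S] [CommRing T]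
  [Nontrivial R] [Nontrivial S] [Nontrivial T]
  [Algebra k R] [Algebra k S] [Algebra k T]
  {𝒜 : ℤ → Submodule k R} [GradedAlgebra 𝒜] {ℬ : ℤ → Submodule k S} [GradedAlgebra ℬ]
  {𝒯 : ℤ → Submodule k T} [GradedAlgebra 𝒯]
  [GradedRing (toAdd 𝒜)] [GradedRing (toAdd ℬ)] [GradedRing (toAdd 𝒯)]
  {ψ : T →ₐ[k] R ⊗[k] S}
variable {CR : Type u} [AddCommGroup CR] [Module R CR] [Module k CR] [IsScalarTower k R CR]
  {𝒞R : ℤ → AddSubgroup CR} [DirectSum.Decomposition 𝒞R] [SetLike.GradedSMul 𝒜 𝒞R]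
  [SetLike.GradedSMul (toAdd 𝒜) 𝒞R]
variable {HR : Type u} [AddCommGroup HR] [Module R HR] [Module k HR] [IsScalarTower k R HR]
  {ℋR : ℤ → AddSubgroup HR} [DirectSum.Decomposition ℋR] [SetLike.GradedSMul 𝒜 ℋR]
  [SetLike.GradedSMul (toAdd 𝒜) ℋR]
variable {CS : Type u} [AddCommGroup CS] [Module S CS] [Module k CS] [IsScalarTower k S CS]
  {𝒞S : ℤ → AddSubgroup CS} [DirectSum.Decomposition 𝒞S] [SetLike.GradedSMul ℬ 𝒞S]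
  [SetLike.GradedSMul (toAdd ℬ) 𝒞S]
variable {HS : Type u} [AddCommGroup HS] [Module S HS] [Module k HS] [IsScalarTower k S HS]
  {ℋS : ℤ → AddSubgroup HS} [DirectSum.Decomposition ℋS] [SetLike.GradedSMul ℬ ℋS]
  [SetLike.GradedSMul (toAdd ℬ) ℋS]
variable {P : Type u} [AddCommGroup P] [Module T P] [Module k P] [IsScalarTower k T P]
  {𝒬 : ℤ → AddSubgroup P} [DirectSum.Decomposition 𝒬] [SetLike.GradedSMul 𝒯 𝒬]
  [SetLike.GradedSMul (toAdd 𝒯) 𝒬]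
variable {HT : Type u} [AddCommGroup HT] [Module T HT] [Module k HT] [IsScalarTower k T HT]
  {ℋT : ℤ → AddSubgroup HT} [DirectSum.Decomposition ℋT] [SetLike.GradedSMul 𝒯 ℋT]
  [SetLike.GradedSMul (toAdd 𝒯) ℋT]
variable {ET : Type u} [AddCommGroup ET] [Module T ET] {𝓔T : ℤ → AddSubgroup ET}
  [DirectSum.Decomposition 𝓔T] [SetLike.GradedSMul (toAdd 𝒯) 𝓔T]
  {mT : HomogeneousIdeal (toAdd 𝒯)} {eT : (T ⧸ mT.toIdeal) →ₗ[T] ET}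

/-- the abstract form: perfect pairings for `R` and `S` and a `T`-linear Künneth map give the
duality isomorphism for `T` -/
theorem exists_canonical_iso_of_kunneth
    (h0R : 𝒜 0 = Submodule.span k {(1 : R)}) (h0S : ℬ 0 = Submodule.span k {(1 : S)})
    (h0T : 𝒯 0 = Submodule.span k {(1 : T)})
    {τR : CR → HR → R} (ppR : GDual.PerfPair (toAdd 𝒜) 𝒞R ℋR τR)
    {τS : CS → HS → S} (ppS : GDual.PerfPair (toAdd ℬ) 𝒞S ℋS τS)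
    {φ : P →ₗ[k] CR ⊗[k] CS} (hP : GrSeg.IsSegreMod ψ 𝒞R 𝒞S 𝒬 φ)
    (Ξ : HT →ₗ[k] HR ⊗[k] HS)
    (hΞ1 : ∀ t h, Ξ (t • h) = GrSeg.act k R S HR HS (ψ t) (Ξ h))
    (hΞ2 : ∀ d h, h ∈ ℋT d → Ξ h ∈ GrSeg.segrePiece k ℋR ℋS d)
    (hΞ3 : ∀ d x y, x ∈ ℋR d → y ∈ ℋS d → ∃ h ∈ ℋT d, Ξ h = x ⊗ₜ[k] y)
    (hΞ4 : ∀ d h, h ∈ ℋT d → Ξ h = 0 → h = 0)
    (hfR : ∀ j, Module.Finite k ↥(pcs 𝒜 ℋR j)) (hfS : ∀ j, Module.Finite k ↥(pcs ℬ ℋS j))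
    (hfT : ∀ j, Module.Finite (GrLC.deg0 (toAdd 𝒯)) ↥(GrLC.comp (toAdd 𝒯) ℋT j))
    (ST : GDual.Setting (toAdd 𝒯) mT 𝓔T eT) [Module.Finite T P] :
    ∃ φ' : (P →ₗ[T] ET) ≃ₗ[T] HT,
      GrLC.IsGrHom (fun d => (GrLC.homDeg (toAdd 𝒯) 𝒬 𝓔T d).toAddSubgroup) ℋT φ'.toLinearMap := by
  obtain ⟨βR, hβR, -⟩ := KPerf.exists_of_perfPair h0R ppR
  obtain ⟨βS, hβS, -⟩ := KPerf.exists_of_perfPair h0S ppS
  have hβT := KPerf.tensor (𝒯 := 𝒯) hβR hβS hP Ξ hΞ1 hΞ2 hΞ3 hΞ4 hfR hfS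
  have ppT := hβT.toPerfPair h0T
  exact GDual.canonical_of_perfPair ST 𝒬 ℋT ppT hfT

end Abstract

set_option maxHeartbeats 3200000 in
/-- **the canonical module of a Segre product**: `K_T ≅ K_R # K_S` -/
theorem isStarCanonical_segre (k : Type u) [Field k] (R : Type u) [CommRing R]
    [Algebra k R] (𝒜 : ℤ → Submodule k R) [GradedAlgebra 𝒜] (hposR : ∀ n : ℤ, n < 0 → 𝒜 n = ⊥)
    (h0R : 𝒜 0 = Submodule.span k {(1 : R)}) [Algebra.FiniteType k R] (S : Type u) [CommRing S]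
    [Algebra k S] (ℬ : ℤ → Submodule k S) [GradedAlgebra ℬ]
    (hposS : ∀ n : ℤ, n < 0 → ℬ n = ⊥) (h0S : ℬ 0 = Submodule.span k {(1 : S)})
    [Algebra.FiniteType k S] (T : Type u) [CommRing T] [Algebra k T] (𝒯 : ℤ → Submodule k T)
    [GradedAlgebra 𝒯] (ψ : T →ₐ[k] TensorProduct k R S) (hT : GrSeg.IsSegreRing 𝒜 ℬ 𝒯 ψ)
    (mR : HomogeneousIdeal 𝒜)
    (hmR : mR.toIdeal = Ideal.span (⋃ n ∈ Set.Ioi (0 : ℤ), (𝒜 n : Set R)))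
    (I : GrLC.StarInjRes 𝒜 𝒜) (mS : HomogeneousIdeal ℬ)
    (hmS : mS.toIdeal = Ideal.span (⋃ n ∈ Set.Ioi (0 : ℤ), (ℬ n : Set S)))
    (J : GrLC.StarInjRes ℬ ℬ) (mT : HomogeneousIdeal 𝒯)
    (hmT : mT.toIdeal = Ideal.span (⋃ n ∈ Set.Ioi (0 : ℤ), (𝒯 n : Set T)))
    (IT : GrLC.StarInjRes 𝒯 𝒯) (a b : ℕ) (hr : ringKrullDim R = ((a + 1 + 1 : ℕ) : WithBot ℕ∞))
    (hs : ringKrullDim S = ((b + 1 + 1 : ℕ) : WithBot ℕ∞))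
    (ER : Type u) [AddCommGroup ER] [Module R ER] (𝓔R : ℤ → AddSubgroup ER)
    [DirectSum.Decomposition 𝓔R] [SetLike.GradedSMul 𝒜 𝓔R] (eR : (R ⧸ mR.toIdeal) →ₗ[R] ER)
    (heR : GrLC.IsStarInjHull 𝒜 (GrLC.quotGr 𝒜 mR) 𝓔R eR)
    (CR : Type u) [AddCommGroup CR] [Module R CR] [Module k CR] [IsScalarTower k R CR]
    (𝒞R : ℤ → AddSubgroup CR)
    [DirectSum.Decomposition 𝒞R] [SetLike.GradedSMul 𝒜 𝒞R]
    (hCR : GrLC.IsStarCanonical 𝒜 𝒞R 𝓔R mR (a + 1 + 1) I)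
    (ES : Type u) [AddCommGroup ES] [Module S ES] (𝓔S : ℤ → AddSubgroup ES)
    [DirectSum.Decomposition 𝓔S] [SetLike.GradedSMul ℬ 𝓔S] (eS : (S ⧸ mS.toIdeal) →ₗ[S] ES)
    (heS : GrLC.IsStarInjHull ℬ (GrLC.quotGr ℬ mS) 𝓔S eS)
    (CS : Type u) [AddCommGroup CS] [Module S CS] [Module k CS] [IsScalarTower k S CS]
    (𝒞S : ℤ → AddSubgroup CS)
    [DirectSum.Decomposition 𝒞S] [SetLike.GradedSMul ℬ 𝒞S]
    (hCS : GrLC.IsStarCanonical ℬ 𝒞S 𝓔S mS (b + 1 + 1) J)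
    (ET : Type u) [AddCommGroup ET] [Module T ET] (𝓔T : ℤ → AddSubgroup ET)
    [DirectSum.Decomposition 𝓔T] [SetLike.GradedSMul 𝒯 𝓔T] (eT : (T ⧸ mT.toIdeal) →ₗ[T] ET)
    (heT : GrLC.IsStarInjHull 𝒯 (GrLC.quotGr 𝒯 mT) 𝓔T eT)
    (P : Type u) [AddCommGroup P] [Module T P] [Module k P] [IsScalarTower k T P]
    (𝒬 : ℤ → AddSubgroup P) [DirectSum.Decomposition 𝒬] [SetLike.GradedSMul 𝒯 𝒬]
    (φ : P →ₗ[k] TensorProduct k CR CS) (hP : GrSeg.IsSegreMod ψ 𝒞R 𝒞S 𝒬 φ) :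
    GrLC.IsStarCanonical 𝒯 𝒬 𝓔T mT (a + 1 + (b + 1) + 1) IT := by
  haveI := nontrivial_of_dim (a + 1 + 1) hr
  haveI := nontrivial_of_dim (b + 1 + 1) hs
  haveI : IsNoetherianRing R := Algebra.FiniteType.isNoetherianRing k R
  haveI : IsNoetherianRing S := Algebra.FiniteType.isNoetherianRing k S
  haveI : IsNoetherianRing T :=
    Groth.Agent.S18646.result k R 𝒜 hposR h0R S ℬ hposS h0S T 𝒯 ψ hT.1 hT.2
  haveI : Nontrivial T := segre_nontrivial ψ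
  have h0T : 𝒯 0 = Submodule.span k {(1 : T)} := segre_deg_zero hT h0R h0S
  have hposT : ∀ n : ℤ, n < 0 → 𝒯 n = ⊥ := segre_neg_eq_bot hT hposR
  letI := gradedRing_toAdd 𝒜
  letI := gradedRing_toAdd ℬ
  letI := gradedRing_toAdd 𝒯
  haveI := gradedSMul_self 𝒜
  haveI := gradedSMul_self ℬ
  haveI := gradedSMul_self 𝒯
  haveI := gradedSMul_to 𝒜 (toAdd 𝒜)
  haveI := gradedSMul_to ℬ (toAdd ℬ)
  haveI := gradedSMul_to 𝒯 (toAdd 𝒯)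
  haveI := gradedSMul_to 𝒜 𝓔R
  haveI := gradedSMul_to 𝒜 𝒞R
  haveI := gradedSMul_to ℬ 𝓔S
  haveI := gradedSMul_to ℬ 𝒞S
  haveI := gradedSMul_to 𝒯 𝓔T
  haveI := gradedSMul_to 𝒯 𝒬
  obtain ⟨hfinR, ψR, hψR⟩ : Module.Finite R CR ∧
      ∃ φ : (CR →ₗ[R] ER) ≃ₗ[R] (resSelf 𝒜 I).H mR (a + 1 + 1),
        GrLC.IsGrHom (fun d => (GrLC.homDeg (toAdd 𝒜) 𝒞R 𝓔R d).toAddSubgroup)
          ((resSelf 𝒜 I).Hgr mR (a + 1 + 1)) φ.toLinearMap :=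
    isStarCanonical_to 𝒜 mR 𝓔R 𝒞R (a + 1 + 1) I hCR
  obtain ⟨hfinS, ψS, hψS⟩ : Module.Finite S CS ∧
      ∃ φ : (CS →ₗ[S] ES) ≃ₗ[S] (resSelf ℬ J).H mS (b + 1 + 1),
        GrLC.IsGrHom (fun d => (GrLC.homDeg (toAdd ℬ) 𝒞S 𝓔S d).toAddSubgroup)
          ((resSelf ℬ J).Hgr mS (b + 1 + 1)) φ.toLinearMap :=
    isStarCanonical_to ℬ mS 𝓔S 𝒞S (b + 1 + 1) J hCS
  haveI := hfinR
  haveI := hfinS
  haveI hfinP : Module.Finite T P := Groth.Agent.S19747.result k R 𝒜 hposR h0R S ℬ hposS h0S T 𝒯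
    ψ hT CR 𝒞R CS 𝒞S P 𝒬 φ hP
  have SR : GDual.Setting (toAdd 𝒜) (idealTo 𝒜 mR) 𝓔R eR :=
    ⟨toAdd_neg_eq_bot 𝒜 hposR, isField_deg0 𝒜 h0R, hmR, isStarInjHull_to 𝒜 mR 𝓔R eR heR⟩
  have SS : GDual.Setting (toAdd ℬ) (idealTo ℬ mS) 𝓔S eS :=
    ⟨toAdd_neg_eq_bot ℬ hposS, isField_deg0 ℬ h0S, hmS, isStarInjHull_to ℬ mS 𝓔S eS heS⟩
  have ST : GDual.Setting (toAdd 𝒯) (idealTo 𝒯 mT) 𝓔T eT :=
    ⟨toAdd_neg_eq_bot 𝒯 hposT, isField_deg0 𝒯 h0T, hmT, isStarInjHull_to 𝒯 mT 𝓔T eT heT⟩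
  -- the graded structures on the three local cohomology modules
  letI : Module k ((resSelf 𝒜 I).H mR (a + 1 + 1)) := Module.compHom _ (algebraMap k R)
  haveI : IsScalarTower k R ((resSelf 𝒜 I).H mR (a + 1 + 1)) := compHom_tower R _
  letI : DirectSum.Decomposition ((resSelf 𝒜 I).Hgr mR (a + 1 + 1)) :=
    (Gr.isInternal_Hgr (toAdd 𝒜) (toAdd 𝒜) (resToM 𝒜 (resSelf 𝒜 I)) (idealTo 𝒜 mR)
      (a + 1 + 1)).chooseDecomposition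
  haveI : SetLike.GradedSMul (toAdd 𝒜) ((resSelf 𝒜 I).Hgr mR (a + 1 + 1)) :=
    Gr.Hgr_gradedSMul (resToM 𝒜 (resSelf 𝒜 I)) (idealTo 𝒜 mR) (a + 1 + 1)
  haveI : SetLike.GradedSMul 𝒜 ((resSelf 𝒜 I).Hgr mR (a + 1 + 1)) := gradedSMul_of 𝒜 _
  letI : Module k ((resSelf ℬ J).H mS (b + 1 + 1)) := Module.compHom _ (algebraMap k S)
  haveI : IsScalarTower k S ((resSelf ℬ J).H mS (b + 1 + 1)) := compHom_tower S _
  letI : DirectSum.Decomposition ((resSelf ℬ J).Hgr mS (b + 1 + 1)) :=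
    (Gr.isInternal_Hgr (toAdd ℬ) (toAdd ℬ) (resToM ℬ (resSelf ℬ J)) (idealTo ℬ mS)
      (b + 1 + 1)).chooseDecomposition
  haveI : SetLike.GradedSMul (toAdd ℬ) ((resSelf ℬ J).Hgr mS (b + 1 + 1)) :=
    Gr.Hgr_gradedSMul (resToM ℬ (resSelf ℬ J)) (idealTo ℬ mS) (b + 1 + 1)
  haveI : SetLike.GradedSMul ℬ ((resSelf ℬ J).Hgr mS (b + 1 + 1)) := gradedSMul_of ℬ _
  letI : Module k ((resSelf 𝒯 IT).H mT (a + 1 + (b + 1) + 1)) :=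
    Module.compHom _ (algebraMap k T)
  haveI : IsScalarTower k T ((resSelf 𝒯 IT).H mT (a + 1 + (b + 1) + 1)) := compHom_tower T _
  letI : DirectSum.Decomposition ((resSelf 𝒯 IT).Hgr mT (a + 1 + (b + 1) + 1)) :=
    (Gr.isInternal_Hgr (toAdd 𝒯) (toAdd 𝒯) (resToM 𝒯 (resSelf 𝒯 IT)) (idealTo 𝒯 mT)
      (a + 1 + (b + 1) + 1)).chooseDecomposition
  haveI : SetLike.GradedSMul (toAdd 𝒯) ((resSelf 𝒯 IT).Hgr mT (a + 1 + (b + 1) + 1)) :=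
    Gr.Hgr_gradedSMul (resToM 𝒯 (resSelf 𝒯 IT)) (idealTo 𝒯 mT) (a + 1 + (b + 1) + 1)
  haveI : SetLike.GradedSMul 𝒯 ((resSelf 𝒯 IT).Hgr mT (a + 1 + (b + 1) + 1)) :=
    gradedSMul_of 𝒯 _
  -- the perfect pairings of `R` and `S`
  have ppR := GDual.perfPair_canonical SR 𝒞R ((resSelf 𝒜 I).Hgr mR (a + 1 + 1)) ψR hψR
  have ppS := GDual.perfPair_canonical SS 𝒞S ((resSelf ℬ J).Hgr mS (b + 1 + 1)) ψS hψS
  -- the Künneth map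
  have hPT : GrSeg.IsSegreMod ψ (toAdd 𝒜) (toAdd ℬ) (toAdd 𝒯) ψ.toLinearMap := by
    refine ⟨hT.1, ?_, ?_⟩
    · intro n
      have h1 := congrArg (fun W : Submodule k (R ⊗[k] S) => (W : Set (R ⊗[k] S))) (hT.2 n)
      exact h1
    · intro t p
      change ψ (t * p) = _
      rw [map_mul, act_self]
      rfl
  letI : Module k (BigX 𝒜 (resSelf 𝒜 I)) := Module.compHom _ (algebraMap k R)
  haveI : IsScalarTower k R (BigX 𝒜 (resSelf 𝒜 I)) := compHom_tower R _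
  letI := bigDecomposition 𝒜 (resSelf 𝒜 I)
  haveI := big_gradedSMul 𝒜 (resSelf 𝒜 I)
  letI : Module k (BigX ℬ (resSelf ℬ J)) := Module.compHom _ (algebraMap k S)
  haveI : IsScalarTower k S (BigX ℬ (resSelf ℬ J)) := compHom_tower S _
  letI := bigDecomposition ℬ (resSelf ℬ J)
  haveI := big_gradedSMul ℬ (resSelf ℬ J)
  have hvM : ∀ d i, a + 1 + 1 < i → (resSelf 𝒜 I).Hcomp mR i d = ⊥ := by
    intro d i hi
    apply Hcomp_eq_bot_of_supportDim_lt 𝒜 (toAdd 𝒜) (resSelf 𝒜 I) mR i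
    rw [Module.supportDim_self_eq_ringKrullDim, hr]
    exact_mod_cast hi
  have hvN : ∀ d i, b + 1 + 1 < i → (resSelf ℬ J).Hcomp mS i d = ⊥ := by
    intro d i hi
    apply Hcomp_eq_bot_of_supportDim_lt ℬ (toAdd ℬ) (resSelf ℬ J) mS i
    rw [Module.supportDim_self_eq_ringKrullDim, hs]
    exact_mod_cast hi
  have hfMH : ∀ d i, Module.Finite (GrLC.deg0 𝒜) ↥((resSelf 𝒜 I).Hcomp mR i d) :=
    fun d i => finite_Hcomp_of_pos 𝒜 (toAdd 𝒜) hposR mR hmR (resSelf 𝒜 I) i d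
  have hfNH : ∀ d i, Module.Finite (GrLC.deg0 ℬ) ↥((resSelf ℬ J).Hcomp mS i d) :=
    fun d i => finite_Hcomp_of_pos ℬ (toAdd ℬ) hposS mS hmS (resSelf ℬ J) i d
  have hfPH : ∀ d i, Module.Finite (GrLC.deg0 𝒯) ↥((resSelf 𝒯 IT).Hcomp mT i d) :=
    fun d i => finite_Hcomp_of_pos 𝒯 (toAdd 𝒯) hposT mT hmT (resSelf 𝒯 IT) i d
  obtain ⟨Ξ, hΞ1, hΞ2, hΞ3, hΞ4⟩ := exists_kunneth_top_map 𝒯 ψ hT (bigOf 𝒜 (resSelf 𝒜 I))
    (bigOf ℬ (resSelf ℬ J)) hPT mR hmR mS hmS mT hmT (resSelf 𝒯 IT) h0R h0S h0T a b hvM hvN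
    hfMH hfNH (fun d => hfPH d _)
  -- finiteness of the pieces
  have hfR : ∀ j, Module.Finite k ↥(pcs 𝒜 ((resSelf 𝒜 I).Hgr mR (a + 1 + 1)) j) := by
    intro j
    rw [finite_pcs_iff 𝒜 _ h0R j]
    exact hfMH j (a + 1 + 1)
  have hfS : ∀ j, Module.Finite k ↥(pcs ℬ ((resSelf ℬ J).Hgr mS (b + 1 + 1)) j) := by
    intro j
    rw [finite_pcs_iff ℬ _ h0S j]
    exact hfNH j (b + 1 + 1)
  have hfT : ∀ j, Module.Finite (GrLC.deg0 (toAdd 𝒯))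
      ↥(GrLC.comp (toAdd 𝒯) ((resSelf 𝒯 IT).Hgr mT (a + 1 + (b + 1) + 1)) j) :=
    fun j => hfPH j (a + 1 + (b + 1) + 1)
  obtain ⟨φ', hφ'⟩ := exists_canonical_iso_of_kunneth (𝒯 := 𝒯)
    (HT := (resSelf 𝒯 IT).H mT (a + 1 + (b + 1) + 1))
    (ℋT := (resSelf 𝒯 IT).Hgr mT (a + 1 + (b + 1) + 1)) h0R h0S h0T ppR ppS hP Ξ hΞ1 hΞ2
    (fun d x y hx hy => hΞ3 d x y hx hy) hΞ4 hfR hfS hfT ST
  exact ⟨hfinP, φ', fun d u hu => hφ' d u hu⟩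

end Seg

end Groth.Agent.H6
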