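import Groth.Agent.Lib.Helper6.SegKT6
import Groth.Agent.Lib.Helper6.SegGor1
import Groth.Agent.Lib.Helper6.SegDim4
import Groth.Agent.S18638
import Groth.Agent.S19757

/-! Segre products of Gorenstein graded rings with equal a-invariants. -/

universe u
open DirectSum TensorProduct
set_option linter.unusedSectionVars false

namespace Groth.Agent.H6

namespace Seg

open SegLA ToAdd

section Of

variable {ι : Type} [AddCommGroup ι] [DecidableEq ι]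
variable {R : Type u} [CommRing R] {σ : Type u} [SetLike σ R] [AddSubgroupClass σ R]
variable (𝒲 : ι → σ) [GradedRing 𝒲] [GradedRing (toAdd 𝒲)]
variable (m : HomogeneousIdeal 𝒲)
variable {E' : Type u} [AddCommGroup E'] [Module R E'] (𝓔 : ι → AddSubgroup E')
  [DirectSum.Decomposition 𝓔] [SetLike.GradedSMul 𝒲 𝓔] [SetLike.GradedSMul (toAdd 𝒲) 𝓔]

theorem isStarInjHull_of (e : (R ⧸ m.toIdeal) →ₗ[R] E')
    (he : GrLC.IsStarInjHull (toAdd 𝒲) (GrLC.quotGr (toAdd 𝒲) (idealTo 𝒲 m)) 𝓔 e) :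
    GrLC.IsStarInjHull 𝒲 (GrLC.quotGr 𝒲 m) 𝓔 e := by
  refine ⟨⟨he.injective, ?_, he.essential⟩, isStarInj_of 𝒲 𝓔 he.starInj⟩
  rintro g _ ⟨r, hr, rfl⟩
  exact he.grHom g _ ⟨r, hr, rfl⟩

variable {C : Type u} [AddCommGroup C] [Module R C] (𝒞 : ι → AddSubgroup C)
  [DirectSum.Decomposition 𝒞] [SetLike.GradedSMul 𝒲 𝒞] [SetLike.GradedSMul (toAdd 𝒲) 𝒞]

theorem isStarCanonical_of (n : ℕ) (I : GrLC.StarInjRes 𝒲 𝒲)
    (hC : GrLC.IsStarCanonical (toAdd 𝒲) 𝒞 𝓔 (idealTo 𝒲 m) n (resTo 𝒲 I)) :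
    GrLC.IsStarCanonical 𝒲 𝒞 𝓔 m n I := by
  obtain ⟨hfin, φ, hφ⟩ := hC
  exact ⟨hfin, φ, fun d u hu => hφ d u hu⟩

end Of

section Loc

variable {k : Type u} [Field k] {R : Type u} [CommRing R] [Nontrivial R] [Algebra k R]
  (𝒜 : ℤ → Submodule k R) [GradedAlgebra 𝒜] [GradedRing (toAdd 𝒜)]

theorem isStarLocal_idealTo_irrel (hpos : ∀ n : ℤ, n < 0 → 𝒜 n = ⊥)
    (h0 : 𝒜 0 = Submodule.span k {(1 : R)}) (m : HomogeneousIdeal 𝒜)
    (hm : m.toIdeal = Ideal.span (⋃ n ∈ Set.Ioi (0 : ℤ), (𝒜 n : Set R))) :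
    GrLC.IsStarLocal (toAdd 𝒜) (idealTo 𝒜 m) := by
  have hirr : idealTo 𝒜 m = Gr.irr (toAdd 𝒜) := HomogeneousIdeal.toIdeal_injective hm
  rw [hirr]
  exact Gr.isStarLocal_irr _ (toAdd_neg_eq_bot 𝒜 hpos) (isField_deg0 𝒜 h0)

end Loc

set_option maxHeartbeats 1600000 in
/-- **the Segre product of Gorenstein graded rings with the same a-invariant is Gorenstein as soon
as it is Cohen–Macaulay** -/
theorem gorenstein_segre (k : Type u) [Field k] (R : Type u) [CommRing R] [Algebra k R]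
    (𝒜 : ℤ → Submodule k R) [GradedAlgebra 𝒜] (hposR : ∀ n : ℤ, n < 0 → 𝒜 n = ⊥)
    (h0R : 𝒜 0 = Submodule.span k {(1 : R)}) [Algebra.FiniteType k R] (S : Type u) [CommRing S]
    [Algebra k S] (ℬ : ℤ → Submodule k S) [GradedAlgebra ℬ]
    (hposS : ∀ n : ℤ, n < 0 → ℬ n = ⊥) (h0S : ℬ 0 = Submodule.span k {(1 : S)})
    [Algebra.FiniteType k S] (T : Type u) [CommRing T] [Algebra k T] (𝒯 : ℤ → Submodule k T)
    [GradedAlgebra 𝒯] (ψ : T →ₐ[k] TensorProduct k R S) (hT : GrSeg.IsSegreRing 𝒜 ℬ 𝒯 ψ)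
    [LocCoh.IsGorensteinRing R] [LocCoh.IsGorensteinRing S] (mR : HomogeneousIdeal 𝒜)
    (hmR : mR.toIdeal = Ideal.span (⋃ n ∈ Set.Ioi (0 : ℤ), (𝒜 n : Set R)))
    (I : GrLC.StarInjRes 𝒜 𝒜) (mS : HomogeneousIdeal ℬ)
    (hmS : mS.toIdeal = Ideal.span (⋃ n ∈ Set.Ioi (0 : ℤ), (ℬ n : Set S)))
    (J : GrLC.StarInjRes ℬ ℬ) (r s : ℕ) (hr : ringKrullDim R = r) (hs : ringKrullDim S = s)
    (h2r : 2 ≤ r) (h2s : 2 ≤ s)
    (haeq : GrLC.endDeg (I.Hgr mR r) = GrLC.endDeg (J.Hgr mS s))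
    [LocCoh.IsCohenMacaulayRing T] : LocCoh.IsGorensteinRing T := by
  haveI := nontrivial_of_dim r hr
  haveI := nontrivial_of_dim s hs
  haveI : Nontrivial T := segre_nontrivial ψ
  have h0T : 𝒯 0 = Submodule.span k {(1 : T)} := segre_deg_zero hT h0R h0S
  have hposT : ∀ n : ℤ, n < 0 → 𝒯 n = ⊥ := segre_neg_eq_bot hT hposR
  obtain ⟨mT, hmT⟩ := exists_irrel 𝒯
  obtain ⟨IT⟩ := nonempty_starInjRes_self 𝒯
  letI := gradedRing_toAdd 𝒜
  letI := gradedRing_toAdd ℬ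
  letI := gradedRing_toAdd 𝒯
  haveI := gradedSMul_self 𝒜
  haveI := gradedSMul_self ℬ
  haveI := gradedSMul_self 𝒯
  -- the *injective envelopes
  obtain ⟨EmR, eR, heR'⟩ := Ver.exists_residue_hull (toAdd 𝒜) (idealTo 𝒜 mR)
  obtain ⟨EmS, eS, heS'⟩ := Ver.exists_residue_hull (toAdd ℬ) (idealTo ℬ mS)
  obtain ⟨EmT, eT, heT'⟩ := Ver.exists_residue_hull (toAdd 𝒯) (idealTo 𝒯 mT)
  haveI := gradedSMul_of 𝒜 EmR.gr
  haveI := gradedSMul_of ℬ EmS.gr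
  haveI := gradedSMul_of 𝒯 EmT.gr
  have heR := isStarInjHull_of 𝒜 mR EmR.gr eR heR'
  have heS := isStarInjHull_of ℬ mS EmS.gr eS heS'
  have heT := isStarInjHull_of 𝒯 mT EmT.gr eT heT'
  have SR : GDual.Setting (toAdd 𝒜) (idealTo 𝒜 mR) EmR.gr eR :=
    ⟨toAdd_neg_eq_bot 𝒜 hposR, isField_deg0 𝒜 h0R, hmR, heR'⟩
  have SS : GDual.Setting (toAdd ℬ) (idealTo ℬ mS) EmS.gr eS :=
    ⟨toAdd_neg_eq_bot ℬ hposS, isField_deg0 ℬ h0S, hmS, heS'⟩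
  have hlocR := isStarLocal_idealTo_irrel 𝒜 hposR h0R mR hmR
  have hlocS := isStarLocal_idealTo_irrel ℬ hposS h0S mS hmS
  have hlocT := isStarLocal_idealTo_irrel 𝒯 hposT h0T mT hmT
  -- the top local cohomology of `R` and of `S`
  obtain ⟨gR, σR, hσR, hendR⟩ := GorCan.exists_top_equiv SR hlocR r hr (resTo 𝒜 I)
  obtain ⟨gS, σS, hσS, hendS⟩ := GorCan.exists_top_equiv SS hlocS s hs (resTo ℬ J)
  have hg : gR = gS := by
    have h1 : GrLC.endDeg (I.Hgr mR r) = (((-gR : ℤ) : WithTop ℤ) : WithBot (WithTop ℤ)) := hendR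
    have h2 : GrLC.endDeg (J.Hgr mS s) = (((-gS : ℤ) : WithTop ℤ) : WithBot (WithTop ℤ)) := hendS
    rw [h1, h2] at haeq
    have h3 : (-gR : ℤ) = -gS := by exact_mod_cast haeq
    omega
  subst hg
  -- the canonical modules of `R` and of `S`
  letI := Gr.shiftDecomposition (toAdd 𝒜) gR
  haveI := Gr.shift_gradedSMul (toAdd 𝒜) (toAdd 𝒜) gR
  haveI := gradedSMul_of 𝒜 (Gr.shiftGr (toAdd 𝒜) gR)
  letI := Gr.shiftDecomposition (toAdd ℬ) gR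
  haveI := Gr.shift_gradedSMul (toAdd ℬ) (toAdd ℬ) gR
  haveI := gradedSMul_of ℬ (Gr.shiftGr (toAdd ℬ) gR)
  letI := Gr.shiftDecomposition (toAdd 𝒯) gR
  haveI := Gr.shift_gradedSMul (toAdd 𝒯) (toAdd 𝒯) gR
  haveI := gradedSMul_of 𝒯 (Gr.shiftGr (toAdd 𝒯) gR)
  have hCR : GrLC.IsStarCanonical 𝒜 (Gr.shiftGr (toAdd 𝒜) gR) EmR.gr mR r I :=
    isStarCanonical_of 𝒜 mR EmR.gr _ r I
      (GorCan.isStarCanonical_of_top_equiv (Gr.shiftGr (toAdd 𝒜) gR) r (resTo 𝒜 I) gR σR hσR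
        LinearMap.id Function.bijective_id (fun i x hx => by
          change x ∈ toAdd 𝒜 (i + gR - gR)
          rwa [add_sub_cancel_right]))
  have hCS : GrLC.IsStarCanonical ℬ (Gr.shiftGr (toAdd ℬ) gR) EmS.gr mS s J :=
    isStarCanonical_of ℬ mS EmS.gr _ s J
      (GorCan.isStarCanonical_of_top_equiv (Gr.shiftGr (toAdd ℬ) gR) s (resTo ℬ J) gR σS hσS
        LinearMap.id Function.bijective_id (fun i x hx => by
          change x ∈ toAdd ℬ (i + gR - gR)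
          rwa [add_sub_cancel_right]))
  -- the Segre product of the canonical modules
  have hP : GrSeg.IsSegreMod ψ (Gr.shiftGr (toAdd 𝒜) gR) (Gr.shiftGr (toAdd ℬ) gR)
      (Gr.shiftGr (toAdd 𝒯) gR) ψ.toLinearMap := by
    refine ⟨hT.1, fun n => ?_, fun t p => ?_⟩
    · have h1 := congrArg (fun W : Submodule k (R ⊗[k] S) => (W : Set (R ⊗[k] S)))
        (hT.2 (n - gR))
      exact h1
    · change ψ (t * p) = _
      rw [map_mul, act_self]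
      rfl
  have hCT := Groth.Agent.S19757.result k R 𝒜 hposR h0R S ℬ hposS h0S T 𝒯 ψ hT mR hmR I mS hmS J
    mT hmT IT r s hr hs h2r h2s EmR.carrier EmR.gr eR heR R (Gr.shiftGr (toAdd 𝒜) gR) hCR
    EmS.carrier EmS.gr eS heS S (Gr.shiftGr (toAdd ℬ) gR) hCS EmT.carrier EmT.gr eT heT
    T (Gr.shiftGr (toAdd 𝒯) gR) ψ.toLinearMap hP
  have hCT' := isStarCanonical_to 𝒯 mT EmT.gr (Gr.shiftGr (toAdd 𝒯) gR) (r + s - 1) IT hCT
  have hdimT := dim_segre k R 𝒜 hposR h0R S ℬ hposS h0S T 𝒯 ψ hT r s hr hs (by omega) (by omega)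
  refine (Groth.Agent.S18638.result T (toAdd 𝒯) (toAdd_neg_eq_bot 𝒯 hposT) (isField_deg0 𝒯 h0T)
    (idealTo 𝒯 mT) hlocT hmT (r + s - 1) hdimT (resTo 𝒯 IT) EmT.carrier EmT.gr eT heT' T
    (Gr.shiftGr (toAdd 𝒯) gR) hCT').mpr ⟨gR, LinearMap.id, Function.bijective_id, fun i x hx => ?_⟩
  change x ∈ toAdd 𝒯 (i + gR - gR)
  rwa [add_sub_cancel_right]

end Seg

end Groth.Agent.H6
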