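import Groth.Agent.Lib.Helper6.GrEW3
import Groth.Agent.Lib.Helper6.GrEW4
import Groth.Agent.Lib.Helper6.SegGor2
import Groth.Agent.Lib.Helper6.GrCMCrit2

/-! `(H^n_m(M))^* ≅ Hom_R(M, K_R)` as graded modules. -/

universe u
open DirectSum TensorProduct
set_option linter.unusedSectionVars false

namespace Groth.Agent.H6

namespace GrEW

open Gr ToAdd Seg

section Van

variable {R : Type u} [CommRing R] [IsNoetherianRing R] (𝒜 : ℤ → AddSubgroup R) [GradedRing 𝒜]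

/-- Grothendieck vanishing above the dimension of the ring, for graded local cohomology at a
maximal homogeneous ideal -/
theorem subsingleton_H_succ_dim (m : HomogeneousIdeal 𝒜) (hmax : m.toIdeal.IsMaximal)
    (n : ℕ) (hn : ringKrullDim R = n)
    (K : GrLC.GMod.{u} 𝒜) [Module.Finite R K.carrier] (EK : GrLC.StarInjRes 𝒜 K.gr) :
    Subsingleton (EK.H m (n + 1)) := by
  obtain ⟨e⟩ := Gr.nonempty_H_equiv 𝒜 K.gr EK m (n + 1)
  haveI := hmax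
  haveI : Subsingleton (LocCoh.H m.toIdeal (n + 1) K.carrier) := by
    apply MaxLoc.subsingleton_of_supportDim_lt
    have h1 := Module.supportDim_le_ringKrullDim (Localization.AtPrime m.toIdeal)
      (LocalizedModule m.toIdeal.primeCompl K.carrier)
    have h2 : ringKrullDim (Localization.AtPrime m.toIdeal) ≤ ringKrullDim R := by
      rw [IsLocalization.AtPrime.ringKrullDim_eq_height m.toIdeal]
      exact Ideal.height_le_ringKrullDim_of_ne_top hmax.ne_top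
    rw [hn] at h2
    refine lt_of_le_of_lt (h1.trans h2) ?_
    exact_mod_cast Nat.lt_succ_self n
  exact e.toEquiv.subsingleton

end Van


set_option maxHeartbeats 1600000 in
/-- **`(H^n_m(M))^* ≅ Hom_R(M, K_R)` as graded modules** -/
theorem dual_top_equiv_hom (k : Type u) [Field k] (R : Type u) [CommRing R] [Algebra k R]
    (𝒜 : ℤ → Submodule k R) [GradedAlgebra 𝒜] (hposR : ∀ n : ℤ, n < 0 → 𝒜 n = ⊥)
    (h0R : 𝒜 0 = Submodule.span k {(1 : R)}) [Algebra.FiniteType k R] (mR : HomogeneousIdeal 𝒜)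
    (hmR : mR.toIdeal = Ideal.span (⋃ n ∈ Set.Ioi (0 : ℤ), (𝒜 n : Set R))) (n : ℕ)
    (hn : ringKrullDim R = n) (I : GrLC.StarInjRes 𝒜 𝒜) [Module k (I.H mR n)]
    [IsScalarTower k R (I.H mR n)] [DirectSum.Decomposition (I.Hgr mR n)] (K : Type u)
    [AddCommGroup K] [Module R K] [Module k K] [IsScalarTower k R K] (𝒦 : ℤ → AddSubgroup K)
    [DirectSum.Decomposition 𝒦] [SetLike.GradedSMul 𝒜 𝒦] (βK : K →ₗ[k] I.H mR n →ₗ[k] k)
    (hK : GrSeg.IsGDual R (I.Hgr mR n) 𝒦 βK) (M : Type u) [AddCommGroup M] [Module R M]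
    [Module k M] [IsScalarTower k R M] (ℳ : ℤ → AddSubgroup M) [DirectSum.Decomposition ℳ]
    [SetLike.GradedSMul 𝒜 ℳ] [Module.Finite R M] (EM : GrLC.StarInjRes 𝒜 ℳ)
    [Module k (EM.H mR n)] [IsScalarTower k R (EM.H mR n)]
    [DirectSum.Decomposition (EM.Hgr mR n)] (D : Type u) [AddCommGroup D] [Module R D]
    [Module k D] [IsScalarTower k R D] (𝒟 : ℤ → AddSubgroup D) [DirectSum.Decomposition 𝒟]
    [SetLike.GradedSMul 𝒜 𝒟] (βD : D →ₗ[k] EM.H mR n →ₗ[k] k)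
    (hD : GrSeg.IsGDual R (EM.Hgr mR n) 𝒟 βD) :
    ∃ ε : D ≃ₗ[R] (M →ₗ[R] K),
      GrLC.IsGrHom 𝒟 (fun d : ℤ => (GrLC.homDeg 𝒜 ℳ 𝒦 d).toAddSubgroup) ε.toLinearMap := by
  haveI : IsNoetherianRing R := Algebra.FiniteType.isNoetherianRing k R
  haveI := nontrivial_of_dim n hn
  letI := gradedRing_toAdd 𝒜
  haveI := gradedSMul_self 𝒜
  haveI := gradedSMul_to 𝒜 ℳ
  have hmax : (idealTo 𝒜 mR).toIdeal.IsMaximal :=
    GrCM.isMaximal_irrelevant (toAdd 𝒜) (toAdd_neg_eq_bot 𝒜 hposR) (isField_deg0 𝒜 h0R)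
      (idealTo 𝒜 mR) hmR
  have hvan : ∀ (K' : GrLC.GMod.{u} (toAdd 𝒜)) [Module.Finite R K'.carrier]
      (EK : GrLC.StarInjRes (toAdd 𝒜) K'.gr), Subsingleton (EK.H (idealTo 𝒜 mR) (n + 1)) :=
    fun K' _ EK => subsingleton_H_succ_dim (toAdd 𝒜) (idealTo 𝒜 mR) hmax n hn K' EK
  have hbij := GrEW.nu_bijective (resTo 𝒜 I) (idealTo 𝒜 mR) n ℳ hvan (resToM 𝒜 EM)
  haveI : SetLike.GradedSMul 𝒜 (I.Hgr mR n) :=
    haveI : SetLike.GradedSMul (toAdd 𝒜) (I.Hgr mR n) :=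
      Gr.Hgr_gradedSMul (resTo 𝒜 I) (idealTo 𝒜 mR) n
    gradedSMul_of 𝒜 _
  haveI : SetLike.GradedSMul 𝒜 (EM.Hgr mR n) :=
    haveI : SetLike.GradedSMul (toAdd 𝒜) (EM.Hgr mR n) :=
      Gr.Hgr_gradedSMul (resToM 𝒜 EM) (idealTo 𝒜 mR) n
    gradedSMul_of 𝒜 _
  exact exists_dual_hom_equiv 𝒜 (I.Hgr mR n) 𝒦 βK hK ℳ (EM.Hgr mR n) 𝒟 βD hD
    (GrEW.mu (resTo 𝒜 I) (idealTo 𝒜 mR) n (resToM 𝒜 EM))
    (fun e j x h hx hh => GrEW.mu_mem (resTo 𝒜 I) (idealTo 𝒜 mR) n (resToM 𝒜 EM) hx hh) hbij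

end GrEW

end Groth.Agent.H6
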