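import Groth.Agent.Lib.Helper6.GrSubQuot

/-! *essential extensions and *injective graded modules: formal properties. -/

universe u
open DirectSum
set_option linter.unusedSectionVars false

namespace Groth.Agent.H6

namespace Gr

variable {ι : Type} [AddCommGroup ι] [DecidableEq ι]
variable {R : Type u} [CommRing R] (𝒜 : ι → AddSubgroup R) [GradedRing 𝒜]

section Maps

variable {M : Type u} [AddCommGroup M] [Module R M] (ℳ : ι → AddSubgroup M)
  [DirectSum.Decomposition ℳ]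
variable {N : Type u} [AddCommGroup N] [Module R N] (𝒩 : ι → AddSubgroup N)
  [DirectSum.Decomposition 𝒩]
variable {L : Type u} [AddCommGroup L] [Module R L] (𝓛 : ι → AddSubgroup L)
  [DirectSum.Decomposition 𝓛]

theorem comap_isHomogeneous {f : M →ₗ[R] N} (hf : GrLC.IsGrHom ℳ 𝒩 f) {P : Submodule R N}
    (hP : P.IsHomogeneous 𝒩) : (P.comap f).IsHomogeneous ℳ := by
  intro g m hm
  change f (proj ℳ g m) ∈ P
  rw [isGrHom_proj ℳ 𝒩 hf]
  exact hP g hm

theorem map_isHomogeneous {f : M →ₗ[R] N} (hf : GrLC.IsGrHom ℳ 𝒩 f) {P : Submodule R M}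
    (hP : P.IsHomogeneous ℳ) : (P.map f).IsHomogeneous 𝒩 := by
  rintro g _ ⟨m, hm, rfl⟩
  exact ⟨proj ℳ g m, hP g hm, isGrHom_proj ℳ 𝒩 hf g m⟩

/-- a homogeneous map out of a *essential extension which is injective on the base is injective -/
theorem injective_of_starEss {f : M →ₗ[R] N} (hf : GrLC.IsStarEss ℳ 𝒩 f) {h : N →ₗ[R] L}
    (hh : GrLC.IsGrHom 𝒩 𝓛 h) (hinj : Function.Injective (h ∘ₗ f)) : Function.Injective h := by
  rw [← LinearMap.ker_eq_bot]
  by_contra hne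
  apply hf.essential _ (ker_isHomogeneous 𝒩 𝓛 hh) hne
  rw [eq_bot_iff]
  rintro x ⟨hx, ⟨m, rfl⟩⟩
  rw [SetLike.mem_coe, LinearMap.mem_ker] at hx
  have : m = 0 := hinj (by rw [LinearMap.comp_apply, hx, map_zero])
  rw [this, map_zero]
  exact zero_mem _

/-- the inverse of a bijective homogeneous map is homogeneous -/
theorem isGrHom_symm (e : M ≃ₗ[R] N) (he : GrLC.IsGrHom ℳ 𝒩 e.toLinearMap) :
    GrLC.IsGrHom 𝒩 ℳ e.symm.toLinearMap := by
  intro g x hx
  have h1 : e (proj ℳ g (e.symm x)) = x := by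
    have := isGrHom_proj ℳ 𝒩 he g (e.symm x)
    simp only [LinearEquiv.coe_coe] at this
    rw [this, LinearEquiv.apply_symm_apply, proj_of_mem 𝒩 hx]
  have h2 : proj ℳ g (e.symm x) = e.symm x := by
    apply e.injective
    rw [h1, LinearEquiv.apply_symm_apply]
  change e.symm x ∈ ℳ g
  rw [← h2]
  exact proj_mem ℳ g _

end Maps

section StarInj

variable {M : Type u} [AddCommGroup M] [Module R M] (ℳ : ι → AddSubgroup M)
  [DirectSum.Decomposition ℳ] [SetLike.GradedSMul 𝒜 ℳ]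

/-- a *injective module has no proper *essential extension -/
theorem surjective_of_starInj_of_starEss (hM : GrLC.IsStarInj 𝒜 ℳ)
    {N : Type u} [AddCommGroup N] [Module R N] (𝒩 : ι → AddSubgroup N)
    [DirectSum.Decomposition 𝒩] [SetLike.GradedSMul 𝒜 𝒩]
    {f : M →ₗ[R] N} (hf : GrLC.IsStarEss ℳ 𝒩 f) : Function.Surjective f := by
  obtain ⟨h0, hh0, hhf0⟩ := hM (GrLC.GMod.of 𝒜 M ℳ) (GrLC.GMod.of 𝒜 N 𝒩) f hf.grHom hf.injective
    LinearMap.id (isGrHom_id ℳ)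
  let h : N →ₗ[R] M := h0
  have hh : GrLC.IsGrHom 𝒩 ℳ h := hh0
  have hhf : ∀ m, h (f m) = m := fun m => LinearMap.congr_fun hhf0 m
  have hinj : Function.Injective h := by
    apply injective_of_starEss ℳ 𝒩 ℳ hf hh
    intro a b hab
    rw [LinearMap.comp_apply, LinearMap.comp_apply, hhf, hhf] at hab
    exact hab
  intro n
  exact ⟨h n, hinj (hhf (h n))⟩

/-- a homogeneous retract of a *injective module is *injective -/
theorem starInj_of_retract {J : Type u} [AddCommGroup J] [Module R J] (𝒥 : ι → AddSubgroup J)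
    [DirectSum.Decomposition 𝒥] [SetLike.GradedSMul 𝒜 𝒥] (hJ : GrLC.IsStarInj 𝒜 𝒥)
    (i : M →ₗ[R] J) (r : J →ₗ[R] M) (hi : GrLC.IsGrHom ℳ 𝒥 i) (hr : GrLC.IsGrHom 𝒥 ℳ r)
    (hri : r ∘ₗ i = LinearMap.id) : GrLC.IsStarInj 𝒜 ℳ := by
  intro A B f hf hfinj g hg
  obtain ⟨h', hh', hh'f⟩ := hJ A B f hf hfinj (i ∘ₗ g) (isGrHom_comp A.gr ℳ 𝒥 hg hi)
  refine ⟨r ∘ₗ h', isGrHom_comp B.gr 𝒥 ℳ hh' hr, ?_⟩
  rw [LinearMap.comp_assoc, hh'f, ← LinearMap.comp_assoc, hri, LinearMap.id_comp]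

end StarInj

section Zorn

variable {J : Type u} [AddCommGroup J] [Module R J] (𝒥 : ι → AddSubgroup J)
  [DirectSum.Decomposition 𝒥] [SetLike.GradedSMul 𝒜 𝒥]

/-- a maximal homogeneous submodule meeting `N` trivially -/
theorem exists_maximal_homogeneous_compl (N : Submodule R J) :
    ∃ K : Submodule R J, K.IsHomogeneous 𝒥 ∧ K ⊓ N = ⊥ ∧
      ∀ K' : Submodule R J, K'.IsHomogeneous 𝒥 → K' ⊓ N = ⊥ → K ≤ K' → K' = K := by
  let S : Set (Submodule R J) := {K | K.IsHomogeneous 𝒥 ∧ K ⊓ N = ⊥}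
  have hz : ∃ K, Maximal (fun x => x ∈ S) K := by
    apply zorn_le₀
    intro c hcS hc
    by_cases hne : c.Nonempty
    · refine ⟨sSup c, ⟨?_, ?_⟩, fun K hK => le_sSup hK⟩
      · exact isHomogeneous_sSup_of_directed 𝒥 hne hc.directedOn fun P hP => (hcS hP).1
      · rw [eq_bot_iff]
        rintro x ⟨hx1, hx2⟩
        rw [SetLike.mem_coe, Submodule.mem_sSup_of_directed hne hc.directedOn] at hx1
        obtain ⟨P, hP, hxP⟩ := hx1
        rw [← (hcS hP).2]
        exact ⟨hxP, hx2⟩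
    · rw [Set.not_nonempty_iff_eq_empty] at hne
      subst hne
      exact ⟨⊥, ⟨isHomogeneous_bot 𝒥, bot_inf_eq _⟩, fun K hK => absurd hK (Set.notMem_empty K)⟩
  obtain ⟨K, hK, hmax⟩ := hz
  exact ⟨K, hK.1, hK.2, fun K' h1 h2 h3 => le_antisymm (hmax ⟨h1, h2⟩ h3) h3⟩

end Zorn

end Gr

end Groth.Agent.H6
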