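import Groth.Agent.Lib.Helper6.GrExt
import Groth.Agent.Lib.Helper6.GrHomDecomp
import Groth.Agent.Lib.Helper6.GrSubQuot
import Groth.Agent.Lib.Helper6.ExtBaseChange

/-! `Ext^i_R(N, M)` of graded modules (`N` finitely generated) carries a compatible grading. -/

universe u
open DirectSum CategoryTheory CategoryTheory.Abelian
set_option linter.unusedSectionVars false

namespace Groth.Agent.H6

namespace Gr

variable {ι : Type} [AddCommGroup ι] [DecidableEq ι]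
variable {R : Type u} [CommRing R] (𝒜 : ι → AddSubgroup R) [GradedRing 𝒜]

section HomGr

variable {K : Type u} [AddCommGroup K] [Module R K] (𝒦 : ι → AddSubgroup K)
  [DirectSum.Decomposition 𝒦] [SetLike.GradedSMul 𝒜 𝒦]
variable {N : Type u} [AddCommGroup N] [Module R N] (𝒩 : ι → AddSubgroup N)
  [DirectSum.Decomposition 𝒩] [SetLike.GradedSMul 𝒜 𝒩]

/-- the pieces of `Hom_R(K, N)` -/
def homGr (d : ι) : AddSubgroup (K →ₗ[R] N) := (GrLC.homDeg 𝒜 𝒦 𝒩 d).toAddSubgroup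

theorem mem_homGr {d : ι} {φ : K →ₗ[R] N} : φ ∈ homGr 𝒜 𝒦 𝒩 d ↔ GrLC.IsGrHomDeg 𝒦 𝒩 φ d :=
  Iff.rfl

theorem homComp_add (φ ψ : K →ₗ[R] N) (d : ι) :
    homComp 𝒜 𝒦 𝒩 (φ + ψ) d = homComp 𝒜 𝒦 𝒩 φ d + homComp 𝒜 𝒦 𝒩 ψ d := by
  ext x
  induction x using induction_on 𝒦 with
  | zero => simp
  | add n n' h1 h2 => rw [map_add, map_add, h1, h2]
  | homogeneous k x hx =>
    rw [LinearMap.add_apply, homComp_of_mem 𝒜 𝒦 𝒩 _ d hx, homComp_of_mem 𝒜 𝒦 𝒩 _ d hx,
      homComp_of_mem 𝒜 𝒦 𝒩 _ d hx, LinearMap.add_apply, map_add]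

theorem homComp_zero (d : ι) : homComp 𝒜 𝒦 𝒩 (0 : K →ₗ[R] N) d = 0 := by
  ext x
  induction x using induction_on 𝒦 with
  | zero => simp
  | add n n' h1 h2 => rw [map_add, map_add, h1, h2]
  | homogeneous k x hx =>
    rw [homComp_of_mem 𝒜 𝒦 𝒩 _ d hx, LinearMap.zero_apply, map_zero]

/-- the projection of `Hom_R(K, N)` onto its piece of degree `d` -/
noncomputable def homProj (d : ι) : (K →ₗ[R] N) →+ (K →ₗ[R] N) where
  toFun φ := homComp 𝒜 𝒦 𝒩 φ d
  map_zero' := homComp_zero 𝒜 𝒦 𝒩 d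
  map_add' φ ψ := homComp_add 𝒜 𝒦 𝒩 φ ψ d

theorem homComp_of_isGrHomDeg {φ : K →ₗ[R] N} {d : ι} (hφ : GrLC.IsGrHomDeg 𝒦 𝒩 φ d) :
    homComp 𝒜 𝒦 𝒩 φ d = φ := by
  ext x
  induction x using induction_on 𝒦 with
  | zero => simp
  | add n n' h1 h2 => rw [map_add, map_add, h1, h2]
  | homogeneous k x hx =>
    rw [homComp_of_mem 𝒜 𝒦 𝒩 _ d hx, proj_of_mem 𝒩 (hφ k x hx)]

theorem homComp_of_isGrHomDeg_ne {φ : K →ₗ[R] N} {d d' : ι} (hφ : GrLC.IsGrHomDeg 𝒦 𝒩 φ d)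
    (hne : d ≠ d') : homComp 𝒜 𝒦 𝒩 φ d' = 0 := by
  ext x
  induction x using induction_on 𝒦 with
  | zero => simp
  | add n n' h1 h2 => rw [map_add, map_add, h1, h2]
  | homogeneous k x hx =>
    rw [homComp_of_mem 𝒜 𝒦 𝒩 _ d' hx, proj_of_mem_ne 𝒩 (hφ k x hx) (fun h => hne (add_left_cancel h)),
      LinearMap.zero_apply]

theorem hom_isInternal [Module.Finite R K] : DirectSum.IsInternal (homGr 𝒜 𝒦 𝒩) := by
  refine isInternal_of_proj (homGr 𝒜 𝒦 𝒩) (homProj 𝒜 𝒦 𝒩) ?_ ?_ ?_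
  · intro d φ hφ
    exact homComp_of_isGrHomDeg 𝒜 𝒦 𝒩 hφ
  · intro d d' φ hφ hne
    exact homComp_of_isGrHomDeg_ne 𝒜 𝒦 𝒩 hφ hne
  · intro φ
    obtain ⟨D, hD⟩ := exists_finset_sum_homComp 𝒜 𝒦 𝒩 φ
    rw [hD]
    refine sum_mem fun d _ => ?_
    exact AddSubgroup.mem_iSup_of_mem d (homComp_isGrHomDeg 𝒜 𝒦 𝒩 φ d)

@[instance_reducible]
noncomputable def homDecomposition [Module.Finite R K] :
    DirectSum.Decomposition (homGr 𝒜 𝒦 𝒩) :=
  (hom_isInternal 𝒜 𝒦 𝒩).chooseDecomposition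

theorem hom_gradedSMul : SetLike.GradedSMul 𝒜 (homGr 𝒜 𝒦 𝒩) where
  smul_mem := by
    intro i j r φ hr hφ k x hx
    have h1 := SetLike.GradedSMul.smul_mem (A := 𝒜) (B := 𝒩) hr (hφ k x hx)
    rw [vadd_eq_add] at h1 ⊢
    rw [LinearMap.smul_apply]
    have : k + (i + j) = i + (k + j) := by abel
    rw [this]
    exact h1

/-- `Hom_R(K, N)` as a bundled graded module, for `K` finitely generated -/
noncomputable def GMod.ofHom [Module.Finite R K] : GrLC.GMod.{u} 𝒜 :=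
  @GrLC.GMod.mk ι _ _ R _ _ _ _ 𝒜 _ (K →ₗ[R] N) _ _ (homGr 𝒜 𝒦 𝒩) (homDecomposition 𝒜 𝒦 𝒩)
    (hom_gradedSMul 𝒜 𝒦 𝒩)

end HomGr

section ExtGr

variable [IsNoetherianRing R]

/-- a graded presentation `0 → Z → F → N → 0` with `F` finite free, as a short exact sequence -/
theorem exists_graded_shortExact (N : GrLC.GMod.{u} 𝒜) [Module.Finite R N.carrier] :
    ∃ (Z F : GrLC.GMod.{u} 𝒜) (j : Z.carrier →ₗ[R] F.carrier) (π : F.carrier →ₗ[R] N.carrier)
      (w : ModuleCat.ofHom j ≫ ModuleCat.ofHom π = 0),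
      Module.Finite R Z.carrier ∧ Module.Finite R F.carrier ∧ Module.Projective R F.carrier ∧
        GrLC.IsGrHom Z.gr F.gr j ∧ (ShortComplex.mk (ModuleCat.ofHom j) (ModuleCat.ofHom π) w).ShortExact := by
  obtain ⟨F, π, hproj, hfin, hsurj, hπgr⟩ := exists_graded_free_cover 𝒜 N.gr
  obtain ⟨Z, j, hjinj, hjrange, hjgr⟩ := exists_gmod_sub 𝒜 F.gr (LinearMap.ker π)
    (ker_isHomogeneous F.gr N.gr hπgr)
  haveI : IsNoetherian R F.carrier := isNoetherian_of_isNoetherianRing_of_finite R F.carrier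
  have hzero : π ∘ₗ j = 0 := by
    ext x
    have : j x ∈ LinearMap.ker π := by rw [← hjrange]; exact ⟨x, rfl⟩
    exact this
  have w : ModuleCat.ofHom j ≫ ModuleCat.ofHom π = 0 := by
    rw [← ModuleCat.ofHom_comp, hzero]; rfl
  refine ⟨Z, F, j, π, w, Module.Finite.of_injective j hjinj, hfin, hproj, hjgr, ?_⟩
  refine ModuleCat.shortComplex_shortExact _ ?_ hjinj hsurj
  intro y
  change π y = 0 ↔ y ∈ Set.range j
  rw [← LinearMap.mem_ker, ← hjrange]
  rfl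

variable (M : GrLC.GMod.{u} 𝒜)

/-- `Ext^{i+1}_R(N, M)` carries a grading compatible with the module structure -/
theorem exists_gr_ext_succ (i : ℕ) : ∀ (N : GrLC.GMod.{u} 𝒜) [Module.Finite R N.carrier],
    ∃ (G : GrLC.GMod.{u} 𝒜), Nonempty (G.carrier ≃ₗ[R]
      Ext.{u} (ModuleCat.of R N.carrier) (ModuleCat.of R M.carrier) (i + 1)) := by
  induction i with
  | zero =>
    intro N _
    obtain ⟨Z, F, j, π, w, hZfin, hFfin, hFproj, hjgr, hS⟩ := exists_graded_shortExact 𝒜 N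
    haveI : Projective (ShortComplex.mk (ModuleCat.ofHom j) (ModuleCat.ofHom π) w).X₂ :=
      (IsProjective.iff_projective (R := R) F.carrier).mp hFproj
    letI := homDecomposition 𝒜 Z.gr M.gr
    letI := homDecomposition 𝒜 F.gr M.gr
    haveI := hom_gradedSMul 𝒜 Z.gr M.gr
    haveI := hom_gradedSMul 𝒜 F.gr M.gr
    let δ : Ext.{u} (ModuleCat.of R Z.carrier) (ModuleCat.of R M.carrier) 0 →ₗ[R]
        Ext.{u} (ModuleCat.of R N.carrier) (ModuleCat.of R M.carrier) (0 + 1) :=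
      hS.extClass.precompOfLinear R (ModuleCat.of R M.carrier) (add_comm 1 0)
    let q : (Z.carrier →ₗ[R] M.carrier) →ₗ[R]
        Ext.{u} (ModuleCat.of R N.carrier) (ModuleCat.of R M.carrier) (0 + 1) :=
      δ ∘ₗ (ExtBC.homEquivExt₀ (ModuleCat.of R Z.carrier) (ModuleCat.of R M.carrier)).toLinearMap
    have hq : Function.Surjective q := by
      intro x₃
      have h1 : (Ext.mk₀ (ModuleCat.ofHom π)).comp x₃ (zero_add (0 + 1)) = 0 :=
        Ext.eq_zero_of_projective _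
      obtain ⟨x₁, hx₁⟩ := Ext.contravariant_sequence_exact₃ hS (ModuleCat.of R M.carrier) x₃ h1
        (n₀ := 0) (by omega)
      refine ⟨(ExtBC.homEquivExt₀ _ _).symm x₁, ?_⟩
      change δ ((ExtBC.homEquivExt₀ _ _) ((ExtBC.homEquivExt₀ _ _).symm x₁)) = x₃
      rw [LinearEquiv.apply_symm_apply]
      exact hx₁
    have hrange : LinearMap.ker q = LinearMap.range (LinearMap.lcomp R M.carrier j) := by
      ext φ
      rw [LinearMap.mem_ker, LinearMap.mem_range]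
      constructor
      · intro h
        have h' : hS.extClass.comp (Ext.mk₀ (ModuleCat.ofHom φ)) (add_comm 1 0) = 0 := h
        obtain ⟨x₂, hx₂⟩ := Ext.contravariant_sequence_exact₁ hS (ModuleCat.of R M.carrier) _ _ h'
        obtain ⟨ψ, rfl⟩ := LC.exists_mk₀ x₂
        refine ⟨ψ.hom, ?_⟩
        rw [Ext.mk₀_comp_mk₀] at hx₂
        have h2 := (Ext.mk₀_bijective _ _).1 hx₂
        have h3 := congrArg ModuleCat.Hom.hom h2
        exact h3
      · rintro ⟨ψ, rfl⟩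
        change hS.extClass.comp (Ext.mk₀ (ModuleCat.ofHom (ψ ∘ₗ j))) (add_comm 1 0) = 0
        have : ModuleCat.ofHom (ψ ∘ₗ j) = ModuleCat.ofHom j ≫ ModuleCat.ofHom ψ := rfl
        rw [this, ← Ext.mk₀_comp_mk₀]
        exact hS.extClass_comp_assoc _
    have hlgr : GrLC.IsGrHom (homGr 𝒜 F.gr M.gr) (homGr 𝒜 Z.gr M.gr)
        (LinearMap.lcomp R M.carrier j) := by
      intro d φ hφ k x hx
      exact hφ k (j x) (hjgr k x hx)
    have hker : (LinearMap.ker q).IsHomogeneous (homGr 𝒜 Z.gr M.gr) := by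
      rw [hrange]
      exact range_isHomogeneous (homGr 𝒜 F.gr M.gr) (homGr 𝒜 Z.gr M.gr) hlgr
    exact ⟨GMod.ofQuot 𝒜 (homGr 𝒜 Z.gr M.gr) hq hker, ⟨LinearEquiv.refl R _⟩⟩
  | succ i ih =>
    intro N _
    obtain ⟨Z, F, j, π, w, hZfin, hFfin, hFproj, hjgr, hS⟩ := exists_graded_shortExact 𝒜 N
    haveI : Projective (ShortComplex.mk (ModuleCat.ofHom j) (ModuleCat.ofHom π) w).X₂ :=
      (IsProjective.iff_projective (R := R) F.carrier).mp hFproj
    obtain ⟨G, ⟨e⟩⟩ := ih Z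
    let δ : Ext.{u} (ModuleCat.of R Z.carrier) (ModuleCat.of R M.carrier) (i + 1) →ₗ[R]
        Ext.{u} (ModuleCat.of R N.carrier) (ModuleCat.of R M.carrier) (i + 1 + 1) :=
      hS.extClass.precompOfLinear R (ModuleCat.of R M.carrier) (add_comm 1 (i + 1))
    have hδ : Function.Bijective δ := by
      constructor
      · rw [← LinearMap.ker_eq_bot, LinearMap.ker_eq_bot']
        intro x₁ hx₁
        obtain ⟨x₂, hx₂⟩ := Ext.contravariant_sequence_exact₁ hS (ModuleCat.of R M.carrier) x₁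
          (add_comm 1 (i + 1)) hx₁
        have h0 : x₂ = 0 := Ext.eq_zero_of_projective _
        rw [← hx₂, h0, Ext.comp_zero]
      · intro x₃
        have h1 : (Ext.mk₀ (ModuleCat.ofHom π)).comp x₃ (zero_add (i + 1 + 1)) = 0 :=
          Ext.eq_zero_of_projective _
        exact Ext.contravariant_sequence_exact₃ hS (ModuleCat.of R M.carrier) x₃ h1 (by omega)
    exact ⟨G, ⟨e.trans (LinearEquiv.ofBijective δ hδ)⟩⟩

/-- `Ext^i_R(N, M)` carries a grading compatible with the module structure -/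
theorem exists_gr_ext (i : ℕ) (N : GrLC.GMod.{u} 𝒜) [Module.Finite R N.carrier] :
    ∃ (G : GrLC.GMod.{u} 𝒜), Nonempty (G.carrier ≃ₗ[R]
      Ext.{u} (ModuleCat.of R N.carrier) (ModuleCat.of R M.carrier) i) := by
  cases i with
  | zero =>
    exact ⟨GMod.ofHom 𝒜 N.gr M.gr,
      ⟨ExtBC.homEquivExt₀ (ModuleCat.of R N.carrier) (ModuleCat.of R M.carrier)⟩⟩
  | succ i => exact exists_gr_ext_succ 𝒜 M i N

end ExtGr

end Gr

end Groth.Agent.H6
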