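import Groth.Agent.Lib.Helper6.GrGorInj

/-! A Noetherian *local ℤ-graded ring whose local cohomology with support in the *maximal ideal is
concentrated in one degree, where it is *injective, is Gorenstein. -/

universe u
open DirectSum CategoryTheory CategoryTheory.Abelian
open scoped TensorProduct
set_option linter.unusedSectionVars false

namespace Groth.Agent.H6

namespace GorInj

lemma residue_torsion' {A : Type u} [CommRing A] [IsLocalRing A] :
    ∃ k : ℕ, ∀ a ∈ IsLocalRing.maximalIdeal A ^ k,
    ∀ x : (ModuleCat.of A (IsLocalRing.ResidueField A)), a • x = 0 := by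
  refine ⟨1, fun a ha x => ?_⟩
  rw [pow_one] at ha
  obtain ⟨y, rfl⟩ := Ideal.Quotient.mk_surjective (I := IsLocalRing.maximalIdeal A) x
  change (Ideal.Quotient.mk (IsLocalRing.maximalIdeal A) (a * y) : A ⧸ IsLocalRing.maximalIdeal A) = 0
  exact Ideal.Quotient.eq_zero_iff_mem.mpr (Ideal.mul_mem_right _ _ ha)

section Main

variable {R : Type u} [CommRing R] [IsNoetherianRing R] (𝒜 : ℤ → AddSubgroup R)
  [GradedRing 𝒜]
variable (m : HomogeneousIdeal 𝒜) (hm : GrLC.IsStarLocal 𝒜 m) (n : ℕ)
variable {X : Type u} [AddCommGroup X] [Module R X] (𝒳 : ℤ → AddSubgroup X)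
  [DirectSum.Decomposition 𝒳] [SetLike.GradedSMul 𝒜 𝒳]

include hm in
theorem gorenstein_of_top_starInj' (hX : GrLC.IsStarInj 𝒜 𝒳)
    (hvanR : ∀ i, i ≠ n → Subsingleton (LocCoh.H m.toIdeal i R))
    (ψ : X ≃ₗ[R] LocCoh.H m.toIdeal n R) : LocCoh.IsGorensteinRing R := by
  haveI hp : m.toIdeal.IsPrime := StarLoc.isPrime_of_isCoatom 𝒜 m hm.1
  -- the top local cohomology of `R_m`
  have e1 : LocalizedModule m.toIdeal.primeCompl X ≃ₗ[Localization.AtPrime m.toIdeal]
      LocalizedModule m.toIdeal.primeCompl (LocCoh.H m.toIdeal n R) :=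
    IsLocalizedModule.mapEquiv m.toIdeal.primeCompl
      (LocalizedModule.mkLinearMap m.toIdeal.primeCompl X)
      (LocalizedModule.mkLinearMap m.toIdeal.primeCompl _) (Localization.AtPrime m.toIdeal) ψ
  have eL : ∀ i : ℕ, Nonempty (LocalizedModule m.toIdeal.primeCompl (LocCoh.H m.toIdeal i R)
      ≃ₗ[Localization.AtPrime m.toIdeal] (localCohomology
      (IsLocalRing.maximalIdeal (Localization.AtPrime m.toIdeal)) i).obj
      (ModuleCat.of (Localization.AtPrime m.toIdeal) (Localization.AtPrime m.toIdeal))) := by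
    intro i
    obtain ⟨e2⟩ := Groth.Agent.S11618.result R m.toIdeal m.toIdeal.primeCompl R i
    have e3 := CanLoc.lcIdealCongr _ _ (Localization.AtPrime.map_eq_maximalIdeal (I := m.toIdeal)) i
      (LocalizedModule m.toIdeal.primeCompl R)
    have e4 := CanQ.lcCongr (IsLocalRing.maximalIdeal (Localization.AtPrime m.toIdeal)) i
      (GorBass.selfEquiv m.toIdeal)
    exact ⟨e2.trans (e3.trans e4)⟩
  obtain ⟨eH0⟩ := eL n
  have eH := e1.trans eH0
  have hvan : ∀ i, i ≠ n → Subsingleton ((localCohomology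
      (IsLocalRing.maximalIdeal (Localization.AtPrime m.toIdeal)) i).obj
      (ModuleCat.of (Localization.AtPrime m.toIdeal) (Localization.AtPrime m.toIdeal))) := by
    intro i hi
    obtain ⟨ei⟩ := eL i
    haveI := hvanR i hi
    haveI : Subsingleton (LocalizedModule m.toIdeal.primeCompl (LocCoh.H m.toIdeal i R)) :=
      LocalizedModule.instSubsingleton _
    exact ei.symm.toEquiv.subsingleton
  have h2 : ∀ j, n + 1 ≤ j → Subsingleton (Ext.{u}
      (ModuleCat.of (Localization.AtPrime m.toIdeal)
        (Localization.AtPrime m.toIdeal ⧸ IsLocalRing.maximalIdeal (Localization.AtPrime m.toIdeal)))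
      (ModuleCat.of (Localization.AtPrime m.toIdeal) (Localization.AtPrime m.toIdeal)) j) := by
    intro j hj
    obtain ⟨j', rfl⟩ : ∃ j', j = n + (j' + 1) := ⟨j - n - 1, by omega⟩
    obtain ⟨c⟩ := ExtLin.collapse (IsLocalRing.maximalIdeal (Localization.AtPrime m.toIdeal))
      (ModuleCat.of (Localization.AtPrime m.toIdeal)
        (IsLocalRing.ResidueField (Localization.AtPrime m.toIdeal)))
      residue_torsion' n
      (ModuleCat.of (Localization.AtPrime m.toIdeal) (Localization.AtPrime m.toIdeal)) hvan (j' + 1)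
    have c2 := ExtLin.postcompEquiv eH.symm.toModuleIso
      (ModuleCat.of (Localization.AtPrime m.toIdeal)
        (IsLocalRing.ResidueField (Localization.AtPrime m.toIdeal))) (j' + 1)
    haveI : Subsingleton (Ext.{u} (ModuleCat.of (Localization.AtPrime m.toIdeal)
        (IsLocalRing.ResidueField (Localization.AtPrime m.toIdeal)))
        (ModuleCat.of (Localization.AtPrime m.toIdeal)
          (LocalizedModule m.toIdeal.primeCompl X)) (j' + 1)) :=
      (BassGlobal.bassNum_eq_zero_iff m.toIdeal X (j' + 1)).mp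
        (Soc.bassNum_succ_eq_zero_of_starInj 𝒜 𝒳 m.toIdeal m.isHomogeneous hX j')
    exact (c.trans c2).toEquiv.subsingleton
  haveI : IsNoetherianRing (Localization.AtPrime m.toIdeal) :=
    IsLocalization.isNoetherianRing m.toIdeal.primeCompl _ inferInstance
  haveI hfinA : Module.Finite (Localization.AtPrime m.toIdeal)
      (ModuleCat.of (Localization.AtPrime m.toIdeal) (Localization.AtPrime m.toIdeal)) :=
    Module.Finite.self _
  have hinjA : HasInjectiveDimensionLT
      (ModuleCat.of (Localization.AtPrime m.toIdeal) (Localization.AtPrime m.toIdeal)) (n + 1) :=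
    Bass.hasInjectiveDimensionLT_of_residue _ n h2
  have hinj : HasInjectiveDimensionLT (ModuleCat.of (Localization.AtPrime m.toIdeal)
      (LocalizedModule m.toIdeal.primeCompl R)) (n + 1) :=
    hasInjectiveDimensionLT_of_iso (GorBass.selfEquiv m.toIdeal).toModuleIso.symm (n + 1)
  have hstar : ∀ P : Ideal R, P.IsHomogeneous 𝒜 → P ≠ ⊤ → P ≤ m.toIdeal :=
    fun P hP hne => le_of_isStarLocal 𝒜 m hm P hP hne
  have hfin := hasInjectiveDimensionLT_of_star' 𝒜 𝒜 m.toIdeal hstar n hinj
  exact (Bass.finite_injdim_self_iff.mp ⟨n + 2, hfin⟩).1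

end Main

end GorInj

end Groth.Agent.H6
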