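import Groth.Agent.Lib.Helper6.GrRes

/-! Existence of minimal *injective resolutions. -/

universe u
open DirectSum
set_option linter.unusedSectionVars false

namespace Groth.Agent.H6

namespace Gr

variable {ι : Type} [AddCommGroup ι] [DecidableEq ι]
variable {R : Type u} [CommRing R] (𝒜 : ι → AddSubgroup R) [GradedRing 𝒜]

/-- one step of the construction of a minimal *injective resolution -/
structure MinStep (Z : GrLC.GMod.{u} 𝒜) extends Step 𝒜 Z where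
  hess : ∀ P : Submodule R J.carrier, P.IsHomogeneous J.gr → P ≠ ⊥ → P ⊓ LinearMap.range i ≠ ⊥

theorem nonempty_minStep (Z : GrLC.GMod.{u} 𝒜) : Nonempty (MinStep 𝒜 Z) := by
  obtain ⟨J, i, hJ⟩ := exists_starInjHull 𝒜 Z.gr
  obtain ⟨Q, q, hq, hker, hqgr⟩ := exists_gmod_quot 𝒜 J.gr (LinearMap.range i)
    (range_isHomogeneous Z.gr J.gr hJ.grHom)
  exact ⟨⟨⟨J, i, Q, q, hJ.starInj, hJ.grHom, hJ.injective, hq, hker, hqgr⟩, hJ.essential⟩⟩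

/-- a chosen step -/
noncomputable def minStep (Z : GrLC.GMod.{u} 𝒜) : MinStep 𝒜 Z :=
  Classical.choice (nonempty_minStep 𝒜 Z)

/-- the differential from one step to the next -/
noncomputable def mdOf (Z : GrLC.GMod.{u} 𝒜) :
    (minStep 𝒜 Z).J.carrier →ₗ[R] (minStep 𝒜 (minStep 𝒜 Z).Q).J.carrier :=
  (minStep 𝒜 (minStep 𝒜 Z).Q).i ∘ₗ (minStep 𝒜 Z).q

theorem ker_mdOf (Z : GrLC.GMod.{u} 𝒜) :
    LinearMap.ker (mdOf 𝒜 Z) = LinearMap.range (minStep 𝒜 Z).i := by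
  unfold mdOf
  rw [LinearMap.ker_comp, LinearMap.ker_eq_bot.mpr (minStep 𝒜 (minStep 𝒜 Z).Q).hinj,
    Submodule.comap_bot, (minStep 𝒜 Z).hker]

theorem range_mdOf (Z : GrLC.GMod.{u} 𝒜) :
    LinearMap.range (mdOf 𝒜 Z) = LinearMap.range (minStep 𝒜 (minStep 𝒜 Z).Q).i := by
  unfold mdOf
  rw [LinearMap.range_comp, LinearMap.range_eq_top.mpr (minStep 𝒜 Z).hq, Submodule.map_top]

theorem mdOf_isGrHom (Z : GrLC.GMod.{u} 𝒜) :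
    GrLC.IsGrHom (minStep 𝒜 Z).J.gr (minStep 𝒜 (minStep 𝒜 Z).Q).J.gr (mdOf 𝒜 Z) :=
  isGrHom_comp _ (minStep 𝒜 Z).Q.gr _ (minStep 𝒜 Z).hqgr (minStep 𝒜 (minStep 𝒜 Z).Q).hi

/-- the successive cokernels -/
noncomputable def mZs (Z₀ : GrLC.GMod.{u} 𝒜) : ℕ → GrLC.GMod.{u} 𝒜 :=
  fun n => Nat.rec Z₀ (fun _ Z => (minStep 𝒜 Z).Q) n

variable {M : Type u} [AddCommGroup M] [Module R M] (ℳ : ι → AddSubgroup M)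
  [DirectSum.Decomposition ℳ] [SetLike.GradedSMul 𝒜 ℳ]

/-- a minimal *injective resolution -/
noncomputable def minRes : GrLC.StarInjRes 𝒜 ℳ where
  X n := (minStep 𝒜 (mZs 𝒜 (GrLC.GMod.of 𝒜 M ℳ) n)).J
  d n := mdOf 𝒜 (mZs 𝒜 (GrLC.GMod.of 𝒜 M ℳ) n)
  ε := (minStep 𝒜 (GrLC.GMod.of 𝒜 M ℳ)).i
  d_grHom n := mdOf_isGrHom 𝒜 (mZs 𝒜 (GrLC.GMod.of 𝒜 M ℳ) n)
  ε_grHom := (minStep 𝒜 (GrLC.GMod.of 𝒜 M ℳ)).hi
  ε_injective := (minStep 𝒜 (GrLC.GMod.of 𝒜 M ℳ)).hinj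
  exact_zero := ker_mdOf 𝒜 (GrLC.GMod.of 𝒜 M ℳ)
  exact_succ n := (ker_mdOf 𝒜 (mZs 𝒜 (GrLC.GMod.of 𝒜 M ℳ) (n + 1))).trans
    (range_mdOf 𝒜 (mZs 𝒜 (GrLC.GMod.of 𝒜 M ℳ) n)).symm
  starInj n := (minStep 𝒜 (mZs 𝒜 (GrLC.GMod.of 𝒜 M ℳ) n)).hJ

theorem minRes_hmin0 (P : Submodule R ((minRes 𝒜 ℳ).X 0).carrier)
    (hP : P.IsHomogeneous ((minRes 𝒜 ℳ).X 0).gr) (hP0 : P ≠ ⊥) :
    P ⊓ LinearMap.range (minRes 𝒜 ℳ).ε ≠ ⊥ :=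
  (minStep 𝒜 (GrLC.GMod.of 𝒜 M ℳ)).hess P hP hP0

theorem minRes_hmin (n : ℕ) (P : Submodule R ((minRes 𝒜 ℳ).X (n + 1)).carrier)
    (hP : P.IsHomogeneous ((minRes 𝒜 ℳ).X (n + 1)).gr) (hP0 : P ≠ ⊥) :
    P ⊓ LinearMap.range ((minRes 𝒜 ℳ).d n) ≠ ⊥ := by
  have h := (minStep 𝒜 (mZs 𝒜 (GrLC.GMod.of 𝒜 M ℳ) (n + 1))).hess P hP hP0
  have h2 : LinearMap.range ((minRes 𝒜 ℳ).d n) =
      LinearMap.range (minStep 𝒜 (mZs 𝒜 (GrLC.GMod.of 𝒜 M ℳ) (n + 1))).i :=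
    range_mdOf 𝒜 (mZs 𝒜 (GrLC.GMod.of 𝒜 M ℳ) n)
  rw [h2]
  exact h

/-- minimal *injective resolutions exist -/
theorem exists_minRes : ∃ E : GrLC.StarInjRes 𝒜 ℳ,
    (∀ P : Submodule R (E.X 0).carrier, P.IsHomogeneous (E.X 0).gr → P ≠ ⊥ →
      P ⊓ LinearMap.range E.ε ≠ ⊥) ∧
    (∀ (n : ℕ) (P : Submodule R (E.X (n + 1)).carrier), P.IsHomogeneous (E.X (n + 1)).gr →
      P ≠ ⊥ → P ⊓ LinearMap.range (E.d n) ≠ ⊥) :=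
  ⟨minRes 𝒜 ℳ, minRes_hmin0 𝒜 ℳ, minRes_hmin 𝒜 ℳ⟩

end Gr

end Groth.Agent.H6
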