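import Groth.Agent.Lib.Helper6.GrStarLocal
import Groth.Agent.Lib.Helper6.GorBass
import Groth.Agent.Lib.Helper6.GrMinRes
import Groth.Agent.Lib.Helper6.BassRes
import Groth.Agent.Lib.Helper6.GrPrime
import Groth.Agent.Lib.Helper6.GrSubQuot

/-! The torsion of a *injective module with one-dimensional socle at the *maximal ideal. -/

universe u
open DirectSum
set_option linter.unusedSectionVars false

namespace Groth.Agent.H6

namespace StarLoc

section Main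

variable {ι : Type} [AddCommGroup ι] [DecidableEq ι]
variable {R : Type u} [CommRing R] [IsNoetherianRing R] (𝒜 : ι → AddSubgroup R) [GradedRing 𝒜]
variable {X : Type u} [AddCommGroup X] [Module R X] (𝒳 : ι → AddSubgroup X)
  [DirectSum.Decomposition 𝒳] [SetLike.GradedSMul 𝒜 𝒳]
variable {E' : Type u} [AddCommGroup E'] [Module R E'] (𝓔 : ι → AddSubgroup E')
  [DirectSum.Decomposition 𝓔] [SetLike.GradedSMul 𝒜 𝓔]
variable (m : HomogeneousIdeal 𝒜) [hp : m.toIdeal.IsPrime] (hm : IsCoatom m)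

include hm in
theorem gam_le_range (hbass : GrLC.bassNum m.toIdeal X 0 = 1)
    (e : (R ⧸ m.toIdeal) →ₗ[R] E') (he : Function.Injective e)
    (ψ : E' →ₗ[R] X) (ρ : X →ₗ[R] E') (d : ι) (hρ : GrLC.IsGrHomDeg 𝒳 𝓔 ρ d)
    (hρψ : ∀ x, ρ (ψ x) = x) :
    GrLC.gam m.toIdeal X ≤ LinearMap.range ψ := by
  intro x hx
  obtain ⟨z, hz⟩ : ∃ z, z = x - ψ (ρ x) := ⟨_, rfl⟩
  have hzρ : z ∈ LinearMap.ker ρ := by rw [LinearMap.mem_ker, hz, map_sub, hρψ, sub_self]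
  have hzg : z ∈ GrLC.gam m.toIdeal X := by
    rw [hz]
    exact Submodule.sub_mem _ hx (Gr.map_mem_gam (ψ ∘ₗ ρ) _ hx)
  obtain ⟨N, hN⟩ : ∃ N, N = LinearMap.ker ρ ⊓ GrLC.gam m.toIdeal X := ⟨_, rfl⟩
  have hNhom : N.IsHomogeneous 𝒳 := by
    rw [hN]
    exact Gr.isHomogeneous_inf 𝒳 (Gr.ker_isHomogeneous_deg 𝒳 𝓔 hρ) (Gr.gam_isHomogeneous 𝒜 𝒳 m)
  by_cases hN0 : N = ⊥
  · have h0 : z = 0 := by
      have : z ∈ N := by rw [hN]; exact ⟨hzρ, hzg⟩
      rw [hN0] at this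
      exact this
    refine ⟨ρ x, ?_⟩
    rw [hz, sub_eq_zero] at h0
    exact h0.symm
  · exfalso
    obtain ⟨g', y', hy', hy'0, hy'N, hmy'⟩ :=
      exists_homogeneous_killed 𝒜 𝒳 m N hNhom hN0 (by rw [hN]; exact inf_le_right)
    have hρy' : ρ y' = 0 := by
      rw [hN] at hy'N
      exact hy'N.1
    obtain ⟨y, hy⟩ : ∃ y, y = ψ (e 1) := ⟨_, rfl⟩
    have hρy : ρ y = e 1 := by rw [hy, hρψ]
    have hsm : ∀ a : R, a • e 1 = e (Ideal.Quotient.mk m.toIdeal a) := by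
      intro a
      rw [← map_smul]
      congr 1
      rw [Algebra.smul_def, mul_one]
      rfl
    have hmy : ∀ a ∈ m.toIdeal, a • y = 0 := by
      intro a ha
      rw [hy, ← map_smul, hsm, Ideal.Quotient.eq_zero_iff_mem.mpr ha, map_zero, map_zero]
    have hkill : ∀ a : R, a • y = 0 → a ∈ m.toIdeal := by
      intro a ha
      have h1 : a • e 1 = 0 := by rw [← hρy, ← map_smul, ha, map_zero]
      rw [hsm] at h1
      have h2 := he (h1.trans (map_zero e).symm)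
      exact Ideal.Quotient.eq_zero_iff_mem.mp h2
    have hlen : Module.length (Localization.AtPrime m.toIdeal) (Soc.soc m.toIdeal X) = 1 := by
      rw [← Soc.bassNum_zero_eq, hbass]
    haveI hsimple : IsSimpleModule (Localization.AtPrime m.toIdeal) (Soc.soc m.toIdeal X) :=
      Module.length_eq_one_iff.mp hlen
    have hv : (⟨_, mk_mem_soc 𝒜 m hmy⟩ : Soc.soc m.toIdeal X) ≠ 0 := by
      intro h
      have h1 := congrArg Subtype.val h
      change LocalizedModule.mk y (1 : m.toIdeal.primeCompl) = 0 at h1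
      rw [← LocalizedModule.zero_mk (1 : m.toIdeal.primeCompl), LocalizedModule.mk_eq] at h1
      obtain ⟨t, ht⟩ := h1
      rw [one_smul, one_smul, smul_zero] at ht
      exact t.2 (hkill _ ht)
    obtain ⟨c, hc⟩ := IsSimpleModule.toSpanSingleton_surjective (Localization.AtPrime m.toIdeal) hv
      ⟨_, mk_mem_soc 𝒜 m hmy'⟩
    rw [LinearMap.toSpanSingleton_apply] at hc
    have h2 : c • LocalizedModule.mk y (1 : m.toIdeal.primeCompl) =
        LocalizedModule.mk y' (1 : m.toIdeal.primeCompl) := congrArg Subtype.val hc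
    obtain ⟨r, s, rfl⟩ := IsLocalization.exists_mk'_eq m.toIdeal.primeCompl c
    rw [← Localization.mk_eq_mk', LocalizedModule.mk_smul_mk, LocalizedModule.mk_eq] at h2
    obtain ⟨u, hu⟩ := h2
    rw [one_smul, mul_one] at hu
    -- apply ρ
    have h3 : ((u : R) * r) • e 1 = 0 := by
      rw [← hρy, ← map_smul, mul_smul]
      have : (u : R) • r • y = (u : R) • (s : R) • y' := hu
      rw [this, map_smul, map_smul, hρy', smul_zero, smul_zero]
    rw [hsm] at h3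
    have h4 : (u : R) * r ∈ m.toIdeal :=
      Ideal.Quotient.eq_zero_iff_mem.mp (he (h3.trans (map_zero e).symm))
    have h5 : r ∈ m.toIdeal := (hp.mem_or_mem h4).resolve_left u.2
    have h6 : (u : R) • (s : R) • y' = 0 := by
      have : (u : R) • r • y = (u : R) • (s : R) • y' := hu
      rw [← this, hmy r h5, smul_zero]
    rw [← mul_smul] at h6
    have h7 := mem_of_smul_eq_zero 𝒜 𝒳 m hm hy' hy'0 hmy' h6
    exact (hp.mem_or_mem h7).elim u.2 s.2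

end Main


section Top

variable {ι : Type} [AddCommGroup ι] [DecidableEq ι] [Module.Free ℤ ι] [Module.Finite ℤ ι]
variable {R : Type u} [CommRing R] [hG : LocCoh.IsGorensteinRing R] (𝒜 : ι → AddSubgroup R)
  [GradedRing 𝒜]
variable (m : HomogeneousIdeal 𝒜) (hm : GrLC.IsStarLocal 𝒜 m) (n : ℕ) (hn : m.toIdeal.height = n)
variable {E' : Type u} [AddCommGroup E'] [Module R E'] (𝓔 : ι → AddSubgroup E')
  [DirectSum.Decomposition 𝓔] [SetLike.GradedSMul 𝒜 𝓔]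
  (e : (R ⧸ m.toIdeal) →ₗ[R] E') (he : GrLC.IsStarInjHull 𝒜 (GrLC.quotGr 𝒜 m) 𝓔 e)
variable (E : GrLC.StarInjRes 𝒜 𝒜)
  (hmin0 : ∀ P : Submodule R (E.X 0).carrier, P.IsHomogeneous (E.X 0).gr → P ≠ ⊥ →
    P ⊓ LinearMap.range E.ε ≠ ⊥)
  (hmin : ∀ (n : ℕ) (P : Submodule R (E.X (n + 1)).carrier), P.IsHomogeneous (E.X (n + 1)).gr →
    P ≠ ⊥ → P ⊓ LinearMap.range (E.d n) ≠ ⊥)

omit [Module.Free ℤ ι] [Module.Finite ℤ ι] hG in
theorem cobdy_eq_bot {M : Type u} [AddCommGroup M] [Module R M] {ℳ : ι → AddSubgroup M}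
    [DirectSum.Decomposition ℳ] [SetLike.GradedSMul 𝒜 ℳ] (E : GrLC.StarInjRes 𝒜 ℳ)
    (a : HomogeneousIdeal 𝒜) (k : ℕ)
    (h : ∀ j, j < k → GrLC.gam a.toIdeal (E.X j).carrier = ⊥) : E.cobdy a k = ⊥ := by
  cases k with
  | zero => rfl
  | succ k =>
    change (GrLC.gam a.toIdeal (E.X k).carrier).map (E.d k) = ⊥
    rw [h k (Nat.lt_succ_self k), Submodule.map_bot]

include hm hn he hmin0 hmin in
theorem exists_H_equiv_of_min :
    ∃ (g : ι) (φ : E.H m n ≃ₗ[R] E'), GrLC.IsGrHomDeg (E.Hgr m n) 𝓔 φ.toLinearMap g := by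
  haveI hp : m.toIdeal.IsPrime := isPrime_of_isCoatom 𝒜 m hm.1
  have hb : ∀ j, GrLC.bassNum m.toIdeal (E.X j).carrier 0 = if j = n then 1 else 0 := by
    intro j
    rw [← Soc.bassNum_res 𝒜 𝒜 m.toIdeal m.isHomogeneous E hmin0 hmin j]
    exact GorBass.bassNum_self m.toIdeal n hn j
  have hgam : ∀ j, j ≠ n → GrLC.gam m.toIdeal (E.X j).carrier = ⊥ := by
    intro j hj
    apply gam_eq_bot_of_bassNum_zero 𝒜 (E.X j).gr m hm.1
    rw [hb j, if_neg hj]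
  have hbn : GrLC.bassNum m.toIdeal (E.X n).carrier 0 = 1 := by rw [hb n, if_pos rfl]
  obtain ⟨g₀, y, hy, hy0, hmy⟩ := exists_homogeneous_of_bassNum_ne_zero 𝒜 (E.X n).gr m
    (by rw [hbn]; exact one_ne_zero)
  -- the map `R ⧸ m → X n`
  let θ : (R ⧸ m.toIdeal) →ₗ[R] (E.X n).carrier :=
    Submodule.liftQ m.toIdeal (LinearMap.toSpanSingleton R (E.X n).carrier y) (by
      intro r hr
      rw [LinearMap.mem_ker, LinearMap.toSpanSingleton_apply]
      exact hmy r hr)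
  have hθ_mk : ∀ r : R, θ (Ideal.Quotient.mk m.toIdeal r) = r • y := by
    intro r
    change Submodule.liftQ m.toIdeal _ _ (Submodule.Quotient.mk r) = _
    rw [Submodule.liftQ_apply, LinearMap.toSpanSingleton_apply]
  have hθinj : Function.Injective θ := by
    rw [injective_iff_map_eq_zero]
    intro x hx
    obtain ⟨r, rfl⟩ := Ideal.Quotient.mk_surjective x
    rw [hθ_mk] at hx
    exact Ideal.Quotient.eq_zero_iff_mem.mpr
      (mem_of_smul_eq_zero 𝒜 (E.X n).gr m hm.1 hy hy0 hmy hx)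
  -- the graded module `R ⧸ m`
  have hker : (LinearMap.ker (Submodule.mkQ m.toIdeal)).IsHomogeneous 𝒜 := by
    rw [Submodule.ker_mkQ]
    exact m.isHomogeneous
  let Qm : GrLC.GMod.{u} 𝒜 := Gr.GMod.ofQuot 𝒜 𝒜 (q := Submodule.mkQ m.toIdeal)
    (Submodule.mkQ_surjective _) hker
  let e₁ : Qm.carrier →ₗ[R] E' := e
  let θ₁ : Qm.carrier →ₗ[R] (E.X n).carrier := θ
  have hQgr : ∀ g (x : Qm.carrier), x ∈ Qm.gr g →
      ∃ r ∈ 𝒜 g, (Ideal.Quotient.mk m.toIdeal r : R ⧸ m.toIdeal) = x := by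
    intro g x hx
    exact hx
  have he₁ : GrLC.IsGrHom Qm.gr 𝓔 e₁ := by
    intro g x hx
    obtain ⟨r, hr, rfl⟩ := hQgr g x hx
    exact he.grHom g _ (Gr.mk_mem_quotGr 𝒜 m hr)
  have hθ₁ : GrLC.IsGrHomDeg Qm.gr (E.X n).gr θ₁ g₀ := by
    intro g x hx
    obtain ⟨r, hr, rfl⟩ := hQgr g x hx
    change θ (Ideal.Quotient.mk m.toIdeal r) ∈ _
    rw [hθ_mk]
    exact SetLike.GradedSMul.smul_mem (A := 𝒜) (B := (E.X n).gr) hr hy
  obtain ⟨ψ₀, hψ₀, hψ₀e⟩ := Gr.starInj_extend_deg 𝒜 (E.X n).gr (E.starInj n) Qm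
    (GrLC.GMod.of 𝒜 E' 𝓔) e₁ he₁ he.injective g₀ θ₁ hθ₁
  let ψ : E' →ₗ[R] (E.X n).carrier := ψ₀
  have hψ : GrLC.IsGrHomDeg 𝓔 (E.X n).gr ψ g₀ := hψ₀
  have hψe : ∀ x, ψ (e x) = θ x := fun x => LinearMap.congr_fun hψ₀e x
  have hψinj : Function.Injective ψ := by
    rw [← LinearMap.ker_eq_bot]
    by_contra hne
    apply he.essential _ (Gr.ker_isHomogeneous_deg 𝓔 (E.X n).gr hψ) hne
    rw [eq_bot_iff]
    rintro x ⟨hx, ⟨w, rfl⟩⟩
    rw [SetLike.mem_coe, LinearMap.mem_ker, hψe] at hx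
    have : w = 0 := hθinj (hx.trans (map_zero θ).symm)
    rw [this, map_zero]
    exact zero_mem _
  -- the retraction
  let A : GrLC.GMod.{u} 𝒜 := Gr.GMod.ofShift 𝒜 𝓔 g₀
  let ψ₁ : A.carrier →ₗ[R] (E.X n).carrier := ψ
  let id₁ : A.carrier →ₗ[R] E' := LinearMap.id
  have hψ₁ : GrLC.IsGrHom A.gr (E.X n).gr ψ₁ := by
    intro k x hx
    have hx' : x ∈ 𝓔 (k - g₀) := hx
    have := hψ (k - g₀) x hx'
    rwa [sub_add_cancel] at this
  have hid₁ : GrLC.IsGrHomDeg A.gr 𝓔 id₁ (-g₀) := by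
    intro k x hx
    have hx' : x ∈ 𝓔 (k - g₀) := hx
    rw [← sub_eq_add_neg]
    exact hx'
  obtain ⟨ρ, hρ, hρψ₀⟩ := Gr.starInj_extend_deg 𝒜 𝓔 he.starInj A (E.X n) ψ₁ hψ₁ hψinj (-g₀)
    id₁ hid₁
  have hρψ : ∀ x, ρ (ψ x) = x := fun x => LinearMap.congr_fun hρψ₀ x
  -- the torsion of `X n`
  have hle : GrLC.gam m.toIdeal (E.X n).carrier ≤ LinearMap.range ψ :=
    gam_le_range 𝒜 (E.X n).gr 𝓔 m hm.1 hbn e he.injective ψ ρ (-g₀) hρ hρψ
  have hge : ∀ x, ψ x ∈ GrLC.gam m.toIdeal (E.X n).carrier := by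
    intro x
    apply Gr.map_mem_gam ψ
    rw [Gr.gam_eq_top_of_starEss_quot 𝒜 m 𝓔 he.toIsStarEss]
    trivial
  -- cocycles and coboundaries
  have hcob : E.cobdy m n = ⊥ := cobdy_eq_bot 𝒜 E m n (fun j hj => hgam j (by omega))
  have hcoc : ∀ x, x ∈ E.cocyc m n ↔ x ∈ GrLC.gam m.toIdeal (E.X n).carrier := by
    intro x
    constructor
    · intro h
      exact h.1
    · intro h
      refine ⟨h, ?_⟩
      have h1 := Gr.map_mem_gam (E.d n) m.toIdeal h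
      rw [hgam (n + 1) (by omega), Submodule.mem_bot] at h1
      exact h1
  let Φ : E' →ₗ[R] E.H m n :=
    (E.toH m n) ∘ₗ (LinearMap.codRestrict (E.cocyc m n) ψ (fun x => (hcoc _).mpr (hge x)))
  have hΦ : ∀ x, Φ x = E.toH m n ⟨ψ x, (hcoc _).mpr (hge x)⟩ := fun x => rfl
  have hΦinj : Function.Injective Φ := by
    rw [injective_iff_map_eq_zero]
    intro x hx
    rw [hΦ, Submodule.mkQ_apply, Submodule.Quotient.mk_eq_zero, Submodule.mem_comap, hcob,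
      Submodule.mem_bot] at hx
    exact hψinj (hx.trans (map_zero ψ).symm)
  have hΦz : ∀ z : E.cocyc m n, ∃ x, ψ x = z.1 ∧ Φ x = E.toH m n z := by
    intro z
    obtain ⟨x, hx⟩ := hle ((hcoc _).mp z.2)
    refine ⟨x, hx, ?_⟩
    rw [hΦ]
    congr 1
    exact Subtype.ext hx
  have hΦsurj : Function.Surjective Φ := by
    intro h
    obtain ⟨z, rfl⟩ := Submodule.mkQ_surjective _ h
    obtain ⟨x, -, hx⟩ := hΦz z
    exact ⟨x, hx⟩
  refine ⟨-g₀, (LinearEquiv.ofBijective Φ ⟨hΦinj, hΦsurj⟩).symm, ?_⟩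
  intro k h hh
  obtain ⟨z, hz, rfl⟩ : ∃ z : E.cocyc m n, (z : (E.X n).carrier) ∈ (E.X n).gr k ∧
    E.toH m n z = h := hh
  obtain ⟨x, hx1, hx2⟩ := hΦz z
  have h3 : (LinearEquiv.ofBijective Φ ⟨hΦinj, hΦsurj⟩).symm (E.toH m n z) = x := by
    rw [← hx2]
    exact (LinearEquiv.ofBijective Φ ⟨hΦinj, hΦsurj⟩).symm_apply_apply x
  change (LinearEquiv.ofBijective Φ ⟨hΦinj, hΦsurj⟩).symm (E.toH m n z) ∈ 𝓔 (k + -g₀)
  rw [h3, ← hρψ x, hx1]
  exact hρ k _ hz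

end Top

end StarLoc

end Groth.Agent.H6
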