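import Groth.Agent.Lib.Helper6.GrAvoid
import Groth.Agent.Lib.Helper6.GrDual1

/-! Hilbert functions of standard graded rings of positive depth over a field: a piece of
dimension at most one forces all pieces of positive degree to have dimension at most one. -/

universe u
open DirectSum
set_option linter.unusedSectionVars false

namespace Groth.Agent.H6

namespace Gr

section Hilb

variable {R : Type u} [CommRing R] (𝒜 : ℤ → AddSubgroup R) [GradedRing 𝒜]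

/-- the piece of degree `t` is spanned over the degree-zero part by one element -/
def IsCyc (t : ℤ) : Prop := ∃ z ∈ 𝒜 t, ∀ r ∈ 𝒜 t, ∃ c ∈ 𝒜 0, r = c * z

variable (hstd : Ideal.span (⋃ n ∈ Set.Ioi (0 : ℤ), (𝒜 n : Set R)) =
  Ideal.span ((𝒜 1 : AddSubgroup R) : Set R))
variable (h0 : IsField (GrLC.deg0 𝒜))

include h0 in
theorem exists_inv_deg0 {c : R} (hc : c ∈ 𝒜 0) (hc0 : c ≠ 0) : ∃ u ∈ 𝒜 0, u * c = 1 := by
  have hne : (⟨c, hc⟩ : GrLC.deg0 𝒜) ≠ 0 := fun h => hc0 (congrArg Subtype.val h)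
  obtain ⟨u, hu⟩ := h0.mul_inv_cancel hne
  refine ⟨u.1, u.2, ?_⟩
  have := congrArg Subtype.val hu
  rw [mul_comm]
  exact this

include h0 in
/-- a nonzero element of a piece spanned by one element spans it -/
theorem isCyc_of_ne_zero {t : ℤ} (h : IsCyc 𝒜 t) {v : R} (hv : v ∈ 𝒜 t) (hv0 : v ≠ 0) :
    ∀ r ∈ 𝒜 t, ∃ c ∈ 𝒜 0, r = c * v := by
  obtain ⟨z, hz, hzr⟩ := h
  obtain ⟨c₀, hc₀, hvz⟩ := hzr v hv
  have hc₀0 : c₀ ≠ 0 := by
    intro h
    apply hv0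
    rw [hvz, h, zero_mul]
  obtain ⟨u, hu, huc⟩ := exists_inv_deg0 𝒜 h0 hc₀ hc₀0
  intro r hr
  obtain ⟨c, hc, rfl⟩ := hzr r hr
  refine ⟨c * u, ?_, ?_⟩
  · have := SetLike.GradedMul.mul_mem hc hu
    rwa [add_zero] at this
  · rw [hvz]
    calc c * z = c * (u * c₀ * z) := by rw [huc, one_mul]
      _ = c * u * (c₀ * z) := by ring

include hstd in
/-- degree-one generation: an additive property holding on products `y * w` with `y ∈ R_1`,
`w ∈ R_{s-1}` holds on `R_s` for `s ≥ 1` -/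
theorem induction_std (s : ℤ) (hs : 1 ≤ s) (P : R → Prop) (hP0 : P 0)
    (hadd : ∀ x y, P x → P y → P (x + y))
    (hmul : ∀ y ∈ 𝒜 1, ∀ w ∈ 𝒜 (s - 1), P (w * y)) : ∀ r ∈ 𝒜 s, P r := by
  intro r hr
  have hrs : r ∈ Ideal.span ((𝒜 1 : AddSubgroup R) : Set R) := by
    rw [← hstd]
    apply Ideal.subset_span
    simp only [Set.mem_iUnion, Set.mem_Ioi, SetLike.mem_coe]
    exact ⟨s, by omega, hr⟩
  have key2 : ∀ x ∈ Submodule.span R ((𝒜 1 : AddSubgroup R) : Set R), ∀ c : R,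
      P (proj 𝒜 s (c * x)) := by
    intro x hx
    induction hx using Submodule.span_induction with
    | mem z hz =>
      intro c
      rw [proj_mul_of_mem_right 𝒜 hz]
      exact hmul z hz _ (proj_mem 𝒜 _ _)
    | zero => intro c; rw [mul_zero, map_zero]; exact hP0
    | add x x' _ _ h1 h2 => intro c; rw [mul_add, map_add]; exact hadd _ _ (h1 c) (h2 c)
    | smul c' x _ h1 =>
      intro c
      rw [smul_eq_mul, ← mul_assoc]
      exact h1 (c * c')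
  have := key2 r hrs 1
  rwa [one_mul, proj_of_mem 𝒜 hr] at this

include hstd h0 in
/-- in a standard graded ring, if `R_t` (`t ≥ 1`) is spanned by one element then so is
`R_{t+1}` -/
theorem isCyc_succ (t : ℤ) (ht : 1 ≤ t) (h : IsCyc 𝒜 t) : IsCyc 𝒜 (t + 1) := by
  by_cases hex : ∃ y ∈ 𝒜 1, ∃ w ∈ 𝒜 (t - 1), w * y ≠ 0
  · obtain ⟨y, hy, w, hw, hyw⟩ := hex
    have hwy : w * y ∈ 𝒜 t := by
      have := SetLike.GradedMul.mul_mem hw hy
      rwa [sub_add_cancel] at this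
    -- `w * y` spans `R_t`
    have hspan : ∀ r ∈ 𝒜 t, ∃ c ∈ 𝒜 0, r = c * (w * y) := isCyc_of_ne_zero 𝒜 h0 h hwy hyw
    refine ⟨w * y * y, ?_, ?_⟩
    · exact SetLike.GradedMul.mul_mem hwy hy
    · apply induction_std 𝒜 hstd (t + 1) (by omega)
      · exact ⟨0, zero_mem _, by rw [zero_mul]⟩
      · rintro x x' ⟨c, hc, rfl⟩ ⟨c', hc', rfl⟩
        exact ⟨c + c', add_mem hc hc', by rw [add_mul]⟩
      · intro x hx r hr
        rw [add_sub_cancel_right] at hr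
        obtain ⟨c, hc, rfl⟩ := hspan r hr
        have hwx : w * x ∈ 𝒜 t := by
          have := SetLike.GradedMul.mul_mem hw hx
          rwa [sub_add_cancel] at this
        obtain ⟨c', hc', hc'e⟩ := hspan _ hwx
        refine ⟨c * c', ?_, ?_⟩
        · have := SetLike.GradedMul.mul_mem hc hc'
          rwa [add_zero] at this
        · calc c * (w * y) * x = c * (w * x) * y := by ring
            _ = c * (c' * (w * y)) * y := by rw [hc'e]
            _ = c * c' * (w * y * y) := by ring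
  · push Not at hex
    have hzero : ∀ r ∈ 𝒜 t, r = 0 := by
      apply induction_std 𝒜 hstd t ht
      · rfl
      · intro x y hx hy; rw [hx, hy, add_zero]
      · intro y hy w hw
        exact hex y hy w hw
    refine ⟨0, zero_mem _, ?_⟩
    apply induction_std 𝒜 hstd (t + 1) (by omega)
    · exact ⟨0, zero_mem _, by rw [zero_mul]⟩
    · rintro x x' ⟨c, hc, hx⟩ ⟨c', hc', hx'⟩
      exact ⟨0, zero_mem _, by rw [hx, hx', mul_zero, mul_zero, add_zero, mul_zero]⟩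
    · intro x hx r hr
      rw [add_sub_cancel_right] at hr
      refine ⟨0, zero_mem _, ?_⟩
      rw [hzero r hr, zero_mul, zero_mul]

include h0 in
/-- multiplication by a regular homogeneous element reflects cyclicity of pieces -/
theorem isCyc_of_regular {e s : ℤ} {f : R} (hf : f ∈ 𝒜 e) (hreg : ∀ r : R, f * r = 0 → r = 0)
    (h : IsCyc 𝒜 (e + s)) : IsCyc 𝒜 s := by
  by_cases hex : ∃ z ∈ 𝒜 s, z ≠ 0
  · obtain ⟨z, hz, hz0⟩ := hex
    have hfz : f * z ∈ 𝒜 (e + s) := SetLike.GradedMul.mul_mem hf hz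
    have hfz0 : f * z ≠ 0 := fun h => hz0 (hreg z h)
    have hspan := isCyc_of_ne_zero 𝒜 h0 h hfz hfz0
    refine ⟨z, hz, fun r hr => ?_⟩
    obtain ⟨c, hc, hcr⟩ := hspan (f * r) (SetLike.GradedMul.mul_mem hf hr)
    refine ⟨c, hc, ?_⟩
    have : f * (r - c * z) = 0 := by
      rw [mul_sub, hcr]
      ring
    exact sub_eq_zero.mp (hreg _ this)
  · push Not at hex
    exact ⟨0, zero_mem _, fun r hr => ⟨0, zero_mem _, by rw [hex r hr, zero_mul]⟩⟩

include hstd h0 in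
theorem isCyc_add (t : ℤ) (ht : 1 ≤ t) (h : IsCyc 𝒜 t) (i : ℕ) : IsCyc 𝒜 (t + i) := by
  induction i with
  | zero => rwa [Nat.cast_zero, add_zero]
  | succ i ih =>
    have := isCyc_succ 𝒜 hstd h0 (t + i) (by omega) ih
    rw [Nat.cast_succ, ← add_assoc]
    exact this

include hstd h0 in
/-- with a homogeneous regular element of positive degree, cyclicity of one piece of positive
degree forces cyclicity of `R_1` -/
theorem isCyc_one {e : ℤ} (he : 0 < e) {f : R} (hf : f ∈ 𝒜 e) (hreg : ∀ r : R, f * r = 0 → r = 0)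
    (t : ℤ) (ht : 1 ≤ t) (h : IsCyc 𝒜 t) : IsCyc 𝒜 1 := by
  have hdesc : ∀ N : ℕ, IsCyc 𝒜 (N * e + 1) → IsCyc 𝒜 1 := by
    intro N
    induction N with
    | zero => intro h; rwa [Nat.cast_zero, zero_mul, zero_add] at h
    | succ N ih =>
      intro h
      apply ih
      apply isCyc_of_regular 𝒜 h0 hf hreg
      have : e + (N * e + 1) = ((N + 1 : ℕ) : ℤ) * e + 1 := by push_cast; ring
      rw [this]
      exact h
  apply hdesc t.toNat
  have h1 : (t.toNat : ℤ) = t := Int.toNat_of_nonneg (by omega)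
  have h2 : 0 ≤ (t.toNat : ℤ) * e + 1 - t := by
    rw [h1]
    nlinarith
  have := isCyc_add 𝒜 hstd h0 t ht h ((t.toNat : ℤ) * e + 1 - t).toNat
  rw [Int.toNat_of_nonneg h2] at this
  have h3 : t + ((t.toNat : ℤ) * e + 1 - t) = (t.toNat : ℤ) * e + 1 := by ring
  rwa [h3] at this

include h0 in
theorem isCyc_of_finrank_le_one (t : ℤ) [Module.Finite (GrLC.deg0 𝒜) ↥(GrLC.comp 𝒜 𝒜 t)]
    (h : Module.finrank (GrLC.deg0 𝒜) ↥(GrLC.comp 𝒜 𝒜 t) ≤ 1) : IsCyc 𝒜 t := by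
  letI := h0.toField
  obtain ⟨v, hv⟩ := finrank_le_one_iff.mp h
  refine ⟨v.1, v.2, fun r hr => ?_⟩
  obtain ⟨c, hc⟩ := hv ⟨r, hr⟩
  exact ⟨c.1, c.2, (congrArg Subtype.val hc).symm⟩

include h0 in
theorem finrank_le_one_of_isCyc (t : ℤ) [Module.Finite (GrLC.deg0 𝒜) ↥(GrLC.comp 𝒜 𝒜 t)]
    (h : IsCyc 𝒜 t) : Module.finrank (GrLC.deg0 𝒜) ↥(GrLC.comp 𝒜 𝒜 t) ≤ 1 := by
  letI := h0.toField
  obtain ⟨z, hz, hzr⟩ := h
  apply finrank_le_one_iff.mpr
  refine ⟨⟨z, hz⟩, fun w => ?_⟩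
  obtain ⟨c, hc, hcw⟩ := hzr w.1 w.2
  exact ⟨⟨c, hc⟩, Subtype.ext hcw.symm⟩

variable [IsNoetherianRing R] (hpos : ∀ n : ℤ, n < 0 → 𝒜 n = ⊥)

include hstd h0 hpos in
/-- **the Hilbert function of a standard graded ring of positive depth over a field with
`dim R_1 ≥ 2` is at least `2` in every positive degree** -/
theorem two_le_finrank
    (hgam : GrLC.gam (Ideal.span (⋃ n ∈ Set.Ioi (0 : ℤ), (𝒜 n : Set R))) R = ⊥)
    (hR1 : 2 ≤ Module.finrank (GrLC.deg0 𝒜) ↥(GrLC.comp 𝒜 𝒜 1)) (t : ℤ) (ht : 1 ≤ t) :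
    2 ≤ Module.finrank (GrLC.deg0 𝒜) ↥(GrLC.comp 𝒜 𝒜 t) := by
  obtain ⟨G0⟩ := exists_posGens 𝒜 (Ideal.span (⋃ n ∈ Set.Ioi (0 : ℤ), (𝒜 n : Set R))) rfl
  have ha' : ∀ n : ℤ, 0 < n → ∀ y ∈ 𝒜 n,
      y ∈ Ideal.span (⋃ n ∈ Set.Ioi (0 : ℤ), (𝒜 n : Set R)) := by
    intro n hn y hy
    apply Ideal.subset_span
    simp only [Set.mem_iUnion, Set.mem_Ioi, SetLike.mem_coe]
    exact ⟨n, hn, hy⟩
  haveI : ∀ s, Module.Finite (GrLC.deg0 𝒜) ↥(GrLC.comp 𝒜 𝒜 s) :=
    fun s => Module.Finite.iff_fg.mpr (G0.comp_fg hpos ha' s)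
  obtain ⟨e, f, he, hf, -, hreg⟩ := exists_homogeneous_regular 𝒜 (N := R)
    (⋃ n ∈ Set.Ioi (0 : ℤ), (𝒜 n : Set R)) (fun x hx => by
      simp only [Set.mem_iUnion, Set.mem_Ioi, SetLike.mem_coe] at hx
      obtain ⟨i, hi, hxi⟩ := hx
      exact ⟨i, hi, hxi⟩) hgam
  by_contra hlt
  push Not at hlt
  have h1 : IsCyc 𝒜 t := isCyc_of_finrank_le_one 𝒜 h0 t (by omega)
  have h2 : IsCyc 𝒜 1 := isCyc_one 𝒜 hstd h0 he hf (fun r hr => hreg r hr) t ht h1
  have h3 := finrank_le_one_of_isCyc 𝒜 h0 1 h2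
  omega

end Hilb

end Gr

end Groth.Agent.H6
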