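import Groth.Agent.Lib.Helper6.GrHilb

/-! Hilbert functions of standard graded rings modulo an ideal: pieces spanned by one element
modulo an ideal. -/

universe u
open DirectSum
set_option linter.unusedSectionVars false

namespace Groth.Agent.H6

namespace Gr

section HilbMod

variable {R : Type u} [CommRing R] (𝒜 : ℤ → AddSubgroup R) [GradedRing 𝒜] (𝔞 : Ideal R)

/-- the piece of degree `t` is spanned modulo `𝔞` over the degree-zero part by one element -/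
def IsCycMod (t : ℤ) : Prop := ∃ z ∈ 𝒜 t, ∀ r ∈ 𝒜 t, ∃ c ∈ 𝒜 0, r - c * z ∈ 𝔞

variable (hstd : Ideal.span (⋃ n ∈ Set.Ioi (0 : ℤ), (𝒜 n : Set R)) =
  Ideal.span ((𝒜 1 : AddSubgroup R) : Set R))
variable (h0 : IsField (GrLC.deg0 𝒜))

include h0 in
/-- an element outside `𝔞` of a piece spanned by one element modulo `𝔞` spans it -/
theorem isCycMod_of_nmem {t : ℤ} (h : IsCycMod 𝒜 𝔞 t) {v : R} (hv : v ∈ 𝒜 t) (hv0 : v ∉ 𝔞) :
    ∀ r ∈ 𝒜 t, ∃ c ∈ 𝒜 0, r - c * v ∈ 𝔞 := by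
  obtain ⟨z, hz, hzr⟩ := h
  obtain ⟨c₀, hc₀, hvz⟩ := hzr v hv
  have hc₀0 : c₀ ≠ 0 := by
    intro h
    apply hv0
    rw [h, zero_mul, sub_zero] at hvz
    exact hvz
  obtain ⟨u, hu, huc⟩ := exists_inv_deg0 𝒜 h0 hc₀ hc₀0
  intro r hr
  obtain ⟨c, hc, hcr⟩ := hzr r hr
  refine ⟨c * u, ?_, ?_⟩
  · have := SetLike.GradedMul.mul_mem hc hu
    rwa [add_zero] at this
  · have e1 : r - c * u * v = (r - c * z) - (c * u) * (v - c₀ * z) := by
      calc r - c * u * v = (r - c * (u * c₀) * z) - (c * u) * (v - c₀ * z) := by ring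
        _ = (r - c * z) - (c * u) * (v - c₀ * z) := by rw [huc, mul_one]
    rw [e1]
    exact 𝔞.sub_mem hcr (𝔞.mul_mem_left _ hvz)

include hstd h0 in
theorem isCycMod_succ (t : ℤ) (ht : 1 ≤ t) (h : IsCycMod 𝒜 𝔞 t) : IsCycMod 𝒜 𝔞 (t + 1) := by
  by_cases hex : ∃ y ∈ 𝒜 1, ∃ w ∈ 𝒜 (t - 1), w * y ∉ 𝔞
  · obtain ⟨y, hy, w, hw, hyw⟩ := hex
    have hwy : w * y ∈ 𝒜 t := by
      have := SetLike.GradedMul.mul_mem hw hy
      rwa [sub_add_cancel] at this
    have hspan := isCycMod_of_nmem 𝒜 𝔞 h0 h hwy hyw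
    refine ⟨w * y * y, ?_, ?_⟩
    · exact SetLike.GradedMul.mul_mem hwy hy
    · apply induction_std 𝒜 hstd (t + 1) (by omega)
      · exact ⟨0, zero_mem _, by rw [zero_mul, sub_zero]; exact 𝔞.zero_mem⟩
      · rintro x x' ⟨c, hc, hx⟩ ⟨c', hc', hx'⟩
        refine ⟨c + c', add_mem hc hc', ?_⟩
        have e1 : x + x' - (c + c') * (w * y * y) =
            (x - c * (w * y * y)) + (x' - c' * (w * y * y)) := by ring
        rw [e1]
        exact 𝔞.add_mem hx hx'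
      · intro x hx r hr
        rw [add_sub_cancel_right] at hr
        obtain ⟨c, hc, hcr⟩ := hspan r hr
        have hwx : w * x ∈ 𝒜 t := by
          have := SetLike.GradedMul.mul_mem hw hx
          rwa [sub_add_cancel] at this
        obtain ⟨c', hc', hc'e⟩ := hspan _ hwx
        refine ⟨c * c', ?_, ?_⟩
        · have := SetLike.GradedMul.mul_mem hc hc'
          rwa [add_zero] at this
        · have e1 : r * x - c * c' * (w * y * y) =
              x * (r - c * (w * y)) + c * y * (w * x - c' * (w * y)) := by ring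
          rw [e1]
          exact 𝔞.add_mem (𝔞.mul_mem_left _ hcr) (𝔞.mul_mem_left _ hc'e)
  · push Not at hex
    have hzero : ∀ r ∈ 𝒜 t, r ∈ 𝔞 := by
      apply induction_std 𝒜 hstd t ht
      · exact 𝔞.zero_mem
      · intro x y hx hy; exact 𝔞.add_mem hx hy
      · intro y hy w hw
        exact hex y hy w hw
    refine ⟨0, zero_mem _, ?_⟩
    apply induction_std 𝒜 hstd (t + 1) (by omega)
    · exact ⟨0, zero_mem _, by rw [zero_mul, sub_zero]; exact 𝔞.zero_mem⟩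
    · rintro x x' ⟨c, hc, hx⟩ ⟨c', hc', hx'⟩
      refine ⟨0, zero_mem _, ?_⟩
      rw [mul_zero, sub_zero] at hx hx' ⊢
      exact 𝔞.add_mem hx hx'
    · intro x hx r hr
      rw [add_sub_cancel_right] at hr
      refine ⟨0, zero_mem _, ?_⟩
      rw [mul_zero, sub_zero]
      exact 𝔞.mul_mem_right _ (hzero r hr)

include h0 in
theorem isCycMod_of_regular {e s : ℤ} {f : R} (hf : f ∈ 𝒜 e)
    (hreg : ∀ r : R, f * r ∈ 𝔞 → r ∈ 𝔞) (h : IsCycMod 𝒜 𝔞 (e + s)) : IsCycMod 𝒜 𝔞 s := by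
  by_cases hex : ∃ z ∈ 𝒜 s, z ∉ 𝔞
  · obtain ⟨z, hz, hz0⟩ := hex
    have hfz : f * z ∈ 𝒜 (e + s) := SetLike.GradedMul.mul_mem hf hz
    have hfz0 : f * z ∉ 𝔞 := fun h => hz0 (hreg z h)
    have hspan := isCycMod_of_nmem 𝒜 𝔞 h0 h hfz hfz0
    refine ⟨z, hz, fun r hr => ?_⟩
    obtain ⟨c, hc, hcr⟩ := hspan (f * r) (SetLike.GradedMul.mul_mem hf hr)
    refine ⟨c, hc, ?_⟩
    apply hreg
    have e1 : f * (r - c * z) = f * r - c * (f * z) := by ring
    rw [e1]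
    exact hcr
  · push Not at hex
    exact ⟨0, zero_mem _, fun r hr => ⟨0, zero_mem _, by
      rw [mul_zero, sub_zero]; exact hex r hr⟩⟩

include hstd h0 in
theorem isCycMod_add (t : ℤ) (ht : 1 ≤ t) (h : IsCycMod 𝒜 𝔞 t) (i : ℕ) :
    IsCycMod 𝒜 𝔞 (t + i) := by
  induction i with
  | zero => rwa [Nat.cast_zero, add_zero]
  | succ i ih =>
    have := isCycMod_succ 𝒜 𝔞 hstd h0 (t + i) (by omega) ih
    rw [Nat.cast_succ, ← add_assoc]
    exact this

include hstd h0 in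
/-- with a homogeneous element of positive degree regular modulo `𝔞`, cyclicity modulo `𝔞` of one
piece of positive degree forces cyclicity modulo `𝔞` of `R_1` -/
theorem isCycMod_one {e : ℤ} (he : 0 < e) {f : R} (hf : f ∈ 𝒜 e)
    (hreg : ∀ r : R, f * r ∈ 𝔞 → r ∈ 𝔞)
    (t : ℤ) (ht : 1 ≤ t) (h : IsCycMod 𝒜 𝔞 t) : IsCycMod 𝒜 𝔞 1 := by
  have hdesc : ∀ N : ℕ, IsCycMod 𝒜 𝔞 (N * e + 1) → IsCycMod 𝒜 𝔞 1 := by
    intro N
    induction N with
    | zero => intro h; rwa [Nat.cast_zero, zero_mul, zero_add] at h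
    | succ N ih =>
      intro h
      apply ih
      apply isCycMod_of_regular 𝒜 𝔞 h0 hf hreg
      have : e + (N * e + 1) = ((N + 1 : ℕ) : ℤ) * e + 1 := by push_cast; ring
      rw [this]
      exact h
  apply hdesc t.toNat
  have h1 : (t.toNat : ℤ) = t := Int.toNat_of_nonneg (by omega)
  have h2 : 0 ≤ (t.toNat : ℤ) * e + 1 - t := by
    rw [h1]
    nlinarith
  have := isCycMod_add 𝒜 𝔞 hstd h0 t ht h ((t.toNat : ℤ) * e + 1 - t).toNat
  rw [Int.toNat_of_nonneg h2] at this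
  have h3 : t + ((t.toNat : ℤ) * e + 1 - t) = (t.toNat : ℤ) * e + 1 := by ring
  rwa [h3] at this

include hstd in
/-- if `R_1` is spanned modulo `𝔞` by `u`, every `R_t` is spanned modulo `𝔞` by `u ^ t` -/
theorem isCycMod_pow {u : R} (hu : u ∈ 𝒜 1) (h : ∀ r ∈ 𝒜 1, ∃ c ∈ 𝒜 0, r - c * u ∈ 𝔞) :
    ∀ (t : ℕ), ∀ r ∈ 𝒜 (t : ℤ), ∃ c ∈ 𝒜 0, r - c * u ^ t ∈ 𝔞 := by
  intro t
  induction t with
  | zero =>
    intro r hr
    rw [Nat.cast_zero] at hr
    exact ⟨r, hr, by rw [pow_zero, mul_one, sub_self]; exact 𝔞.zero_mem⟩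
  | succ t ih =>
    apply induction_std 𝒜 hstd ((t + 1 : ℕ) : ℤ) (by push_cast; omega)
    · exact ⟨0, zero_mem _, by rw [zero_mul, sub_zero]; exact 𝔞.zero_mem⟩
    · rintro x x' ⟨c, hc, hx⟩ ⟨c', hc', hx'⟩
      refine ⟨c + c', add_mem hc hc', ?_⟩
      have e1 : x + x' - (c + c') * u ^ (t + 1) =
          (x - c * u ^ (t + 1)) + (x' - c' * u ^ (t + 1)) := by ring
      rw [e1]
      exact 𝔞.add_mem hx hx'
    · intro y hy w hw
      have hw' : w ∈ 𝒜 (t : ℤ) := by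
        have e1 : ((t + 1 : ℕ) : ℤ) - 1 = t := by push_cast; ring
        rwa [e1] at hw
      obtain ⟨c, hc, hcw⟩ := ih w hw'
      obtain ⟨c', hc', hcy⟩ := h y hy
      refine ⟨c * c', ?_, ?_⟩
      · have := SetLike.GradedMul.mul_mem hc hc'
        rwa [add_zero] at this
      · have e1 : w * y - c * c' * u ^ (t + 1) =
            y * (w - c * u ^ t) + c * u ^ t * (y - c' * u) := by ring
        rw [e1]
        exact 𝔞.add_mem (𝔞.mul_mem_left _ hcw) (𝔞.mul_mem_left _ hcy)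

end HilbMod

end Gr

end Groth.Agent.H6
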