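import Groth.Agent.Lib.Helper6.GrEss

/-! *injective hulls: uniqueness, existence inside a *injective module, and the criterion
"no proper *essential extension ⇒ *injective" (given an embedding into a *injective module). -/

universe u
open DirectSum
set_option linter.unusedSectionVars false

namespace Groth.Agent.H6

namespace Gr

variable {ι : Type} [AddCommGroup ι] [DecidableEq ι]
variable {R : Type u} [CommRing R] (𝒜 : ι → AddSubgroup R) [GradedRing 𝒜]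

section QuotSub

variable {J : Type u} [AddCommGroup J] [Module R J] (𝒥 : ι → AddSubgroup J)
  [DirectSum.Decomposition 𝒥] [SetLike.GradedSMul 𝒜 𝒥]
variable {M : Type u} [AddCommGroup M] [Module R M] (ℳ : ι → AddSubgroup M)
  [DirectSum.Decomposition ℳ] [SetLike.GradedSMul 𝒜 ℳ]
variable {Q : Type u} [AddCommGroup Q] [Module R Q] (𝒬 : ι → AddSubgroup Q)
  [DirectSum.Decomposition 𝒬]

/-- if `K` is maximal among homogeneous submodules meeting `range i` trivially then `M → J/K` is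
*essential -/
theorem starEss_quot_comp {i : M →ₗ[R] J} (hi : GrLC.IsGrHom ℳ 𝒥 i) (hinj : Function.Injective i)
    (K : Submodule R J) (hKi : K ⊓ LinearMap.range i = ⊥)
    (hmax : ∀ K' : Submodule R J, K'.IsHomogeneous 𝒥 → K' ⊓ LinearMap.range i = ⊥ → K ≤ K' →
      K' = K)
    (q : J →ₗ[R] Q) (hq : Function.Surjective q) (hker : LinearMap.ker q = K)
    (hqgr : GrLC.IsGrHom 𝒥 𝒬 q) :
    GrLC.IsStarEss ℳ 𝒬 (q ∘ₗ i) := by
  have hnotK : ∀ x ∈ LinearMap.range i, x ∈ K → x = 0 := by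
    intro x hx hxK
    have : x ∈ K ⊓ LinearMap.range i := ⟨hxK, hx⟩
    rw [hKi] at this
    exact this
  have hqK : ∀ x, q x = 0 ↔ x ∈ K := by
    intro x
    rw [← hker, LinearMap.mem_ker]
  refine ⟨?_, ?_, ?_⟩
  · intro a b hab
    apply hinj
    rw [← sub_eq_zero, ← map_sub]
    apply hnotK _ ⟨a - b, rfl⟩
    rw [← hqK, map_sub, map_sub]
    exact sub_eq_zero.mpr hab
  · exact isGrHom_comp ℳ 𝒥 _ hi hqgr
  · intro P hP hPne
    let P' : Submodule R J := P.comap q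
    have hP' : P'.IsHomogeneous 𝒥 := comap_isHomogeneous 𝒥 𝒬 hqgr hP
    have hKP' : K ≤ P' := by
      intro x hx
      change q x ∈ P
      rw [(hqK x).mpr hx]
      exact zero_mem _
    have hne : P' ⊓ LinearMap.range i ≠ ⊥ := by
      intro h
      have h1 := hmax P' hP' h hKP'
      apply hPne
      rw [eq_bot_iff]
      intro y hy
      obtain ⟨x, rfl⟩ := hq y
      have hx : x ∈ P' := hy
      rw [h1] at hx
      rw [(hqK x).mpr hx]
      exact zero_mem _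
    obtain ⟨x, ⟨hx1, hx2⟩, hx0⟩ := Submodule.exists_mem_ne_zero_of_ne_bot hne
    intro hbot
    have hmem : q x ∈ P ⊓ LinearMap.range (q ∘ₗ i) := by
      refine ⟨hx1, ?_⟩
      obtain ⟨m, rfl⟩ := hx2
      exact ⟨m, rfl⟩
    rw [hbot, Submodule.mem_bot, hqK] at hmem
    exact hx0 (hnotK x hx2 hmem)

/-- a module without proper *essential extensions which embeds in a *injective module is
*injective -/
theorem starInj_of_no_proper_starEss (hJ : GrLC.IsStarInj 𝒜 𝒥)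
    {i : M →ₗ[R] J} (hi : GrLC.IsGrHom ℳ 𝒥 i) (hinj : Function.Injective i)
    (hM : ∀ (N : GrLC.GMod.{u} 𝒜) (f : M →ₗ[R] N.carrier), GrLC.IsStarEss ℳ N.gr f →
      Function.Surjective f) : GrLC.IsStarInj 𝒜 ℳ := by
  obtain ⟨K, hK, hKi, hmax⟩ := exists_maximal_homogeneous_compl 𝒥 (LinearMap.range i)
  obtain ⟨Qm, q, hq, hker, hqgr⟩ := exists_gmod_quot 𝒜 𝒥 K hK
  have hess := starEss_quot_comp 𝒥 ℳ Qm.gr hi hinj K hKi hmax q hq hker hqgr
  have hsurj := hM Qm _ hess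
  let e : M ≃ₗ[R] Qm.carrier := LinearEquiv.ofBijective (q ∘ₗ i) ⟨hess.injective, hsurj⟩
  have he : GrLC.IsGrHom ℳ Qm.gr e.toLinearMap := hess.grHom
  have hesymm := isGrHom_symm ℳ Qm.gr e he
  refine starInj_of_retract 𝒜 ℳ 𝒥 hJ i (e.symm.toLinearMap ∘ₗ q) hi
    (isGrHom_comp 𝒥 Qm.gr ℳ hqgr hesymm) ?_
  ext m
  change e.symm (q (i m)) = m
  rw [LinearEquiv.symm_apply_eq]
  rfl

end QuotSub

section Unique

variable {M : Type u} [AddCommGroup M] [Module R M] (ℳ : ι → AddSubgroup M)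
  [DirectSum.Decomposition ℳ] [SetLike.GradedSMul 𝒜 ℳ]
variable {E₁ : Type u} [AddCommGroup E₁] [Module R E₁] (𝓔₁ : ι → AddSubgroup E₁)
  [DirectSum.Decomposition 𝓔₁] [SetLike.GradedSMul 𝒜 𝓔₁]
variable {E₂ : Type u} [AddCommGroup E₂] [Module R E₂] (𝓔₂ : ι → AddSubgroup E₂)
  [DirectSum.Decomposition 𝓔₂] [SetLike.GradedSMul 𝒜 𝓔₂]

/-- a *essential extension maps isomorphically... : any homogeneous map from a *essential extension
`E₁` of `M` to a *essential extension `E₂` compatible with the embeddings, with `E₁` *injective,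
is an isomorphism -/
theorem bijective_of_starEss_of_starInj {f₁ : M →ₗ[R] E₁} {f₂ : M →ₗ[R] E₂}
    (h₁ : GrLC.IsStarInjHull 𝒜 ℳ 𝓔₁ f₁) (h₂ : GrLC.IsStarEss ℳ 𝓔₂ f₂)
    (b : E₁ →ₗ[R] E₂) (hb : GrLC.IsGrHom 𝓔₁ 𝓔₂ b) (hbf : ∀ m, b (f₁ m) = f₂ m) :
    Function.Bijective b := by
  have hbinj : Function.Injective b := by
    apply injective_of_starEss ℳ 𝓔₁ 𝓔₂ h₁.toIsStarEss hb
    intro x y hxy
    rw [LinearMap.comp_apply, LinearMap.comp_apply, hbf, hbf] at hxy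
    exact h₂.injective hxy
  have hbess : GrLC.IsStarEss 𝓔₁ 𝓔₂ b := by
    refine ⟨hbinj, hb, ?_⟩
    intro P hP hPne hbot
    apply h₂.essential P hP hPne
    rw [eq_bot_iff]
    rintro x ⟨hx1, ⟨m, rfl⟩⟩
    rw [← hbot]
    exact ⟨hx1, ⟨f₁ m, hbf m⟩⟩
  exact ⟨hbinj, surjective_of_starInj_of_starEss 𝒜 𝓔₁ h₁.starInj 𝓔₂ hbess⟩

/-- uniqueness of *injective hulls -/
theorem exists_equiv_of_starInjHulls {f₁ : M →ₗ[R] E₁} {f₂ : M →ₗ[R] E₂}
    (h₁ : GrLC.IsStarInjHull 𝒜 ℳ 𝓔₁ f₁) (h₂ : GrLC.IsStarInjHull 𝒜 ℳ 𝓔₂ f₂) :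
    ∃ β : E₁ ≃ₗ[R] E₂, GrLC.IsGrHom 𝓔₁ 𝓔₂ β.toLinearMap ∧ β.toLinearMap ∘ₗ f₁ = f₂ := by
  obtain ⟨b0, hb0, hb0f⟩ := h₂.starInj (GrLC.GMod.of 𝒜 M ℳ) (GrLC.GMod.of 𝒜 E₁ 𝓔₁) f₁
    h₁.grHom h₁.injective f₂ h₂.grHom
  let b : E₁ →ₗ[R] E₂ := b0
  have hb : GrLC.IsGrHom 𝓔₁ 𝓔₂ b := hb0
  have hbf : ∀ m, b (f₁ m) = f₂ m := fun m => LinearMap.congr_fun hb0f m
  have hbij := bijective_of_starEss_of_starInj 𝒜 ℳ 𝓔₁ 𝓔₂ h₁ h₂.toIsStarEss b hb hbf
  refine ⟨LinearEquiv.ofBijective b hbij, hb, ?_⟩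
  ext m
  exact hbf m

end Unique

end Gr

end Groth.Agent.H6
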