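import Groth.Agent.Lib.Helper6.GrCofree

/-! Existence of *injective hulls. -/

universe u
open DirectSum
set_option linter.unusedSectionVars false

namespace Groth.Agent.H6

namespace Gr

variable {ι : Type} [AddCommGroup ι] [DecidableEq ι]
variable {R : Type u} [CommRing R] (𝒜 : ι → AddSubgroup R) [GradedRing 𝒜]

section Reflect

variable {M : Type u} [AddCommGroup M] [Module R M] (ℳ : ι → AddSubgroup M)
  [DirectSum.Decomposition ℳ]
variable {N : Type u} [AddCommGroup N] [Module R N] (𝒩 : ι → AddSubgroup N)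
  [DirectSum.Decomposition 𝒩]

/-- an injective homogeneous map reflects degrees -/
theorem mem_of_map_mem {j : M →ₗ[R] N} (hj : GrLC.IsGrHom ℳ 𝒩 j) (hinj : Function.Injective j)
    {g : ι} {x : M} (hx : j x ∈ 𝒩 g) : x ∈ ℳ g := by
  have h1 : j (proj ℳ g x) = j x := by
    rw [isGrHom_proj ℳ 𝒩 hj, proj_of_mem 𝒩 hx]
  rw [← hinj h1]
  exact proj_mem ℳ g x

end Reflect

section SEss

variable {J : Type u} [AddCommGroup J] [Module R J] (𝒥 : ι → AddSubgroup J)
  [DirectSum.Decomposition 𝒥] [SetLike.GradedSMul 𝒜 𝒥]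

/-- `E` is *essential over `A` (submodules of a fixed graded module) -/
def SEss (A E : Submodule R J) : Prop :=
  A ≤ E ∧ ∀ P : Submodule R J, P.IsHomogeneous 𝒥 → P ≤ E → P ≠ ⊥ → P ⊓ A ≠ ⊥

theorem sEss_refl (A : Submodule R J) : SEss 𝒥 A A := by
  refine ⟨le_refl A, fun P _ hPA hP => ?_⟩
  rwa [inf_eq_left.mpr hPA]

theorem exists_maximal_sEss (A : Submodule R J) (hA : A.IsHomogeneous 𝒥) :
    ∃ E : Submodule R J, E.IsHomogeneous 𝒥 ∧ SEss 𝒥 A E ∧
      ∀ E' : Submodule R J, E'.IsHomogeneous 𝒥 → SEss 𝒥 A E' → E ≤ E' → E' = E := by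
  let S : Set (Submodule R J) := {E | E.IsHomogeneous 𝒥 ∧ SEss 𝒥 A E}
  have hz : ∃ E, Maximal (fun x => x ∈ S) E := by
    apply zorn_le₀
    intro c hcS hc
    by_cases hne : c.Nonempty
    · refine ⟨sSup c, ⟨?_, ?_, ?_⟩, fun K hK => le_sSup hK⟩
      · exact isHomogeneous_sSup_of_directed 𝒥 hne hc.directedOn fun P hP => (hcS hP).1
      · obtain ⟨E, hE⟩ := hne
        exact le_trans (hcS hE).2.1 (le_sSup hE)
      · intro P hP hPle hP0 hbot
        obtain ⟨x, hxP, hx0⟩ := Submodule.exists_mem_ne_zero_of_ne_bot hP0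
        have hx := hPle hxP
        rw [Submodule.mem_sSup_of_directed hne hc.directedOn] at hx
        obtain ⟨E, hE, hxE⟩ := hx
        have h1 : P ⊓ E ≠ ⊥ := by
          intro h
          apply hx0
          have : x ∈ P ⊓ E := ⟨hxP, hxE⟩
          rw [h] at this
          exact this
        apply (hcS hE).2.2 (P ⊓ E) (isHomogeneous_inf 𝒥 hP (hcS hE).1) inf_le_right h1
        rw [eq_bot_iff, ← hbot]
        exact inf_le_inf_right A inf_le_left
    · rw [Set.not_nonempty_iff_eq_empty] at hne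
      subst hne
      exact ⟨A, ⟨hA, sEss_refl 𝒥 A⟩, fun K hK => absurd hK (Set.notMem_empty K)⟩
  obtain ⟨E, hE, hmax⟩ := hz
  exact ⟨E, hE.1, hE.2, fun E' h1 h2 h3 => le_antisymm (hmax ⟨h1, h2⟩ h3) h3⟩

end SEss

section Hull

variable {J : Type u} [AddCommGroup J] [Module R J] (𝒥 : ι → AddSubgroup J)
  [DirectSum.Decomposition 𝒥] [SetLike.GradedSMul 𝒜 𝒥]
variable {M : Type u} [AddCommGroup M] [Module R M] (ℳ : ι → AddSubgroup M)
  [DirectSum.Decomposition ℳ] [SetLike.GradedSMul 𝒜 ℳ]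

/-- inside a *injective module containing `M` there is a *injective hull of `M` -/
theorem exists_starInjHull_in (hJ : GrLC.IsStarInj 𝒜 𝒥) {i : M →ₗ[R] J}
    (hi : GrLC.IsGrHom ℳ 𝒥 i) (hinj : Function.Injective i) :
    ∃ (Em : GrLC.GMod.{u} 𝒜) (f : M →ₗ[R] Em.carrier) (j : Em.carrier →ₗ[R] J),
      GrLC.IsStarInjHull 𝒜 ℳ Em.gr f ∧ Function.Injective j ∧ GrLC.IsGrHom Em.gr 𝒥 j ∧
        j ∘ₗ f = i := by
  have hA := range_isHomogeneous ℳ 𝒥 hi
  obtain ⟨E, hE, hEss, hmax⟩ := exists_maximal_sEss 𝒥 (LinearMap.range i) hA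
  obtain ⟨Em, j, hjinj, hjrange, hjgr⟩ := exists_gmod_sub 𝒜 𝒥 E hE
  -- the map `f`
  have hmemE : ∀ m, i m ∈ LinearMap.range j := by
    intro m
    rw [hjrange]
    exact hEss.1 ⟨m, rfl⟩
  let e := LinearEquiv.ofInjective j hjinj
  let f : M →ₗ[R] Em.carrier := e.symm.toLinearMap ∘ₗ (i.codRestrict (LinearMap.range j) hmemE)
  have hjf : ∀ m, j (f m) = i m := by
    intro m
    have : e (f m) = ⟨i m, hmemE m⟩ := by
      change e (e.symm _) = _
      rw [LinearEquiv.apply_symm_apply]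
      rfl
    exact congrArg Subtype.val this
  have hfgr : GrLC.IsGrHom ℳ Em.gr f := by
    intro g m hm
    apply mem_of_map_mem Em.gr 𝒥 hjgr hjinj
    rw [hjf]
    exact hi g m hm
  have hfinj : Function.Injective f := by
    intro a b hab
    apply hinj
    rw [← hjf, ← hjf, hab]
  have hfess : GrLC.IsStarEss ℳ Em.gr f := by
    refine ⟨hfinj, hfgr, ?_⟩
    intro P hP hP0 hbot
    have h1 : (P.map j).IsHomogeneous 𝒥 := map_isHomogeneous Em.gr 𝒥 hjgr hP
    have h2 : P.map j ≤ E := by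
      rw [← hjrange]
      rintro _ ⟨x, _, rfl⟩
      exact ⟨x, rfl⟩
    have h3 : P.map j ≠ ⊥ := by
      intro h
      apply hP0
      rw [eq_bot_iff]
      intro x hx
      have : j x ∈ P.map j := ⟨x, hx, rfl⟩
      rw [h, Submodule.mem_bot] at this
      rw [Submodule.mem_bot]
      exact hjinj (by rw [this, map_zero])
    obtain ⟨y, ⟨hy1, hy2⟩, hy0⟩ := Submodule.exists_mem_ne_zero_of_ne_bot (hEss.2 _ h1 h2 h3)
    obtain ⟨x, hxP, rfl⟩ := hy1
    obtain ⟨m, hm⟩ := hy2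
    have hx : x = f m := hjinj (by rw [hjf, hm])
    have : x ∈ P ⊓ LinearMap.range f := ⟨hxP, ⟨m, hx.symm⟩⟩
    rw [hbot, Submodule.mem_bot] at this
    apply hy0
    rw [this, map_zero]
  -- *injectivity
  have hEm : GrLC.IsStarInj 𝒜 Em.gr := by
    apply starInj_of_no_proper_starEss 𝒜 𝒥 Em.gr hJ hjgr hjinj
    intro N φ hφ
    obtain ⟨k0, hk0, hk0φ⟩ := hJ Em N φ hφ.grHom hφ.injective j hjgr
    let k : N.carrier →ₗ[R] J := k0
    have hk : GrLC.IsGrHom N.gr 𝒥 k := hk0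
    have hkφ : ∀ z, k (φ z) = j z := fun z => LinearMap.congr_fun hk0φ z
    have hkinj : Function.Injective k := by
      apply injective_of_starEss Em.gr N.gr 𝒥 hφ hk
      intro a b hab
      rw [LinearMap.comp_apply, LinearMap.comp_apply, hkφ, hkφ] at hab
      exact hjinj hab
    have hE' : (LinearMap.range k).IsHomogeneous 𝒥 := range_isHomogeneous N.gr 𝒥 hk
    have hEE' : E ≤ LinearMap.range k := by
      rw [← hjrange]
      rintro _ ⟨z, rfl⟩
      exact ⟨φ z, hkφ z⟩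
    have hSE' : SEss 𝒥 (LinearMap.range i) (LinearMap.range k) := by
      refine ⟨le_trans hEss.1 hEE', ?_⟩
      intro P hP hPle hP0
      have h1 : (P.comap k).IsHomogeneous N.gr := comap_isHomogeneous N.gr 𝒥 hk hP
      have h2 : P.comap k ≠ ⊥ := by
        intro h
        obtain ⟨x, hxP, hx0⟩ := Submodule.exists_mem_ne_zero_of_ne_bot hP0
        obtain ⟨y, rfl⟩ := hPle hxP
        have : y ∈ P.comap k := hxP
        rw [h, Submodule.mem_bot] at this
        apply hx0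
        rw [this, map_zero]
      obtain ⟨y, ⟨hy1, hy2⟩, hy0⟩ := Submodule.exists_mem_ne_zero_of_ne_bot (hφ.essential _ h1 h2)
      obtain ⟨z, rfl⟩ := hy2
      have hz0 : z ≠ 0 := by
        intro h
        apply hy0
        rw [h, map_zero]
      have h3 : P ⊓ E ≠ ⊥ := by
        intro h
        have : j z ∈ P ⊓ E := by
          refine ⟨?_, ?_⟩
          · rw [← hkφ]
            exact hy1
          · rw [← hjrange]
            exact ⟨z, rfl⟩
        rw [h, Submodule.mem_bot] at this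
        exact hz0 (hjinj (by rw [this, map_zero]))
      intro hbot
      apply hEss.2 (P ⊓ E) (isHomogeneous_inf 𝒥 hP hE) inf_le_right h3
      rw [eq_bot_iff, ← hbot]
      exact inf_le_inf_right _ inf_le_left
    have hEq := hmax _ hE' hSE' hEE'
    intro n
    have : k n ∈ LinearMap.range j := by
      rw [hjrange, ← hEq]
      exact ⟨n, rfl⟩
    obtain ⟨z, hz⟩ := this
    exact ⟨z, hkinj (by rw [hkφ, hz])⟩
  refine ⟨Em, f, j, ⟨hfess, hEm⟩, hjinj, hjgr, ?_⟩
  ext m
  exact hjf m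

/-- *injective hulls exist -/
theorem exists_starInjHull :
    ∃ (Em : GrLC.GMod.{u} 𝒜) (f : M →ₗ[R] Em.carrier), GrLC.IsStarInjHull 𝒜 ℳ Em.gr f := by
  obtain ⟨J, i, hJ, hinj, hi⟩ := exists_starInj_embedding 𝒜 ℳ
  obtain ⟨Em, f, _, hf, _⟩ := exists_starInjHull_in 𝒜 J.gr ℳ hJ hi hinj
  exact ⟨Em, f, hf⟩

end Hull

end Gr

end Groth.Agent.H6
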