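import Groth.Agent.Lib.Helper6.GrDual1

/-! The irrelevant ideal of a graded ring defined over a field is the unique *maximal ideal. -/

universe u
open DirectSum
set_option linter.unusedSectionVars false

namespace Groth.Agent.H6

namespace Gr

variable {R : Type u} [CommRing R] (𝒜 : ℤ → AddSubgroup R) [GradedRing 𝒜]

/-- the irrelevant ideal -/
noncomputable def irr : HomogeneousIdeal 𝒜 :=
  ⟨Ideal.span (⋃ n ∈ Set.Ioi (0 : ℤ), (𝒜 n : Set R)), Ideal.homogeneous_span 𝒜 _ (fun x hx => by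
    simp only [Set.mem_iUnion, Set.mem_Ioi, SetLike.mem_coe] at hx
    obtain ⟨n, -, hxn⟩ := hx
    exact ⟨n, hxn⟩)⟩

theorem irr_toIdeal :
    (irr 𝒜).toIdeal = Ideal.span (⋃ n ∈ Set.Ioi (0 : ℤ), (𝒜 n : Set R)) := rfl

variable (hpos : ∀ n : ℤ, n < 0 → 𝒜 n = ⊥) (h0 : IsField (GrLC.deg0 𝒜))

include hpos in
theorem proj_zero_eq_zero_of_mem_irr {x : R} (hx : x ∈ (irr 𝒜).toIdeal) : proj 𝒜 0 x = 0 := by
  have key : ∀ x ∈ Submodule.span R (⋃ n ∈ Set.Ioi (0 : ℤ), (𝒜 n : Set R)), proj 𝒜 0 x = 0 := by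
    intro x hx'
    induction hx' using Submodule.span_induction with
    | mem y hy =>
      simp only [Set.mem_iUnion, Set.mem_Ioi, SetLike.mem_coe] at hy
      obtain ⟨n, hn, hyn⟩ := hy
      exact proj_of_mem_ne 𝒜 hyn (ne_of_gt hn)
    | zero => exact map_zero _
    | add y y' _ _ h1 h2 => rw [map_add, h1, h2, add_zero]
    | smul r y _ h1 => rw [smul_eq_mul, GDual.proj_zero_mul 𝒜 hpos, h1, mul_zero]
  exact key x hx

include hpos in
theorem mem_irr_of_proj_zero {x : R} (hx : proj 𝒜 0 x = 0) : x ∈ (irr 𝒜).toIdeal := by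
  have := PolyCan.sub_proj_zero_mem 𝒜 hpos (irr 𝒜) (irr_toIdeal 𝒜) x
  rwa [hx, sub_zero] at this

include hpos h0 in
theorem le_irr_of_ne_top (J : Ideal R) (hJ : J.IsHomogeneous 𝒜) (hne : J ≠ ⊤) :
    J ≤ (irr 𝒜).toIdeal := by
  intro x hx
  apply mem_irr_of_proj_zero 𝒜 hpos
  by_contra hc
  have hcJ : proj 𝒜 0 x ∈ J := hJ 0 hx
  have hne0 : (⟨proj 𝒜 0 x, proj_mem 𝒜 0 x⟩ : GrLC.deg0 𝒜) ≠ 0 :=
    fun h => hc (congrArg Subtype.val h)
  obtain ⟨u, hu⟩ := h0.mul_inv_cancel hne0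
  have h1 : proj 𝒜 0 x * (u : R) = 1 := congrArg Subtype.val hu
  apply hne
  rw [Ideal.eq_top_iff_one, ← h1]
  exact Ideal.mul_mem_right _ _ hcJ

include hpos h0 in
theorem irr_ne_top : (irr 𝒜).toIdeal ≠ ⊤ := by
  intro h
  have h1 : (1 : R) ∈ (irr 𝒜).toIdeal := by rw [h]; trivial
  have h2 := proj_zero_eq_zero_of_mem_irr 𝒜 hpos h1
  rw [proj_of_mem 𝒜 (SetLike.GradedOne.one_mem)] at h2
  obtain ⟨x, y, hxy⟩ := h0.exists_pair_ne
  apply hxy
  apply Subtype.ext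
  have hx : (x : R) = x * 1 := (mul_one _).symm
  have hy : (y : R) = y * 1 := (mul_one _).symm
  rw [hx, hy, h2, mul_zero, mul_zero]

include hpos h0 in
/-- the irrelevant ideal is the unique *maximal ideal -/
theorem isStarLocal_irr : GrLC.IsStarLocal 𝒜 (irr 𝒜) := by
  have hne : irr 𝒜 ≠ ⊤ := by
    intro h
    apply irr_ne_top 𝒜 hpos h0
    rw [h]
    rfl
  have hle : ∀ J : HomogeneousIdeal 𝒜, J ≠ ⊤ → J ≤ irr 𝒜 := by
    intro J hJ
    apply le_irr_of_ne_top 𝒜 hpos h0 J.toIdeal J.isHomogeneous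
    intro h
    apply hJ
    apply HomogeneousIdeal.toIdeal_injective
    rw [h]
    rfl
  refine ⟨⟨hne, fun J hJ => ?_⟩, fun n hn => ?_⟩
  · by_contra hJt
    exact absurd (hle J hJt) (not_le_of_gt hJ)
  · rcases (hle n hn.1).eq_or_lt with h | h
    · exact h
    · exact absurd (hn.2 _ h) hne

end Gr

end Groth.Agent.H6
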