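import Groth.Agent.Lib.Helper6.GrExt
import Groth.Agent.Lib.Helper6.GrGamma
import Groth.Agent.Lib.Helper6.LCExact

/-! *injective modules are acyclic for the torsion functor of a homogeneous ideal. -/

universe u
open DirectSum CategoryTheory CategoryTheory.Abelian
set_option linter.unusedSectionVars false

namespace Groth.Agent.H6

namespace Gr

variable {R : Type u} [CommRing R]

theorem ext_subsingleton_of_iso {X X' Y : ModuleCat.{u} R} (e : X ≅ X') (n : ℕ)
    [Subsingleton (Ext.{u} X' Y n)] : Subsingleton (Ext.{u} X Y n) := by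
  have key : ∀ w : Ext.{u} X Y n,
      w = (Ext.mk₀ e.hom).comp ((Ext.mk₀ e.inv).comp w (zero_add n)) (zero_add n) := by
    intro w
    rw [Ext.mk₀_comp_mk₀_assoc, e.hom_inv_id, Ext.mk₀_id_comp]
  refine ⟨fun a b => ?_⟩
  rw [key a, key b, Subsingleton.elim ((Ext.mk₀ e.inv).comp a (zero_add n))
    ((Ext.mk₀ e.inv).comp b (zero_add n))]

variable {ι : Type} [AddCommGroup ι] [DecidableEq ι]
variable (𝒜 : ι → AddSubgroup R) [GradedRing 𝒜]
variable {I : Type u} [AddCommGroup I] [Module R I] (ℐ : ι → AddSubgroup I)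
  [DirectSum.Decomposition ℐ] [SetLike.GradedSMul 𝒜 ℐ]

/-- `Ext^{i+1}(R/b, I) = 0` for a homogeneous ideal `b` and a *injective module `I` -/
theorem ext_quot_subsingleton_of_starInj [IsNoetherianRing R] (hI : GrLC.IsStarInj 𝒜 ℐ)
    {b : Ideal R} (hb : b.IsHomogeneous 𝒜) (i : ℕ) :
    Subsingleton (Ext.{u} (ModuleCat.of R (R ⧸ b)) (ModuleCat.of R I) (i + 1)) := by
  obtain ⟨Qm, q, hq, hker, hqgr⟩ := exists_gmod_quot 𝒜 𝒜 b hb
  haveI : Module.Finite R Qm.carrier := Module.Finite.of_surjective q hq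
  haveI := ext_subsingleton_of_starInj 𝒜 ℐ hI i Qm
  let e1 : (R ⧸ b) ≃ₗ[R] Qm.carrier :=
    (Submodule.quotEquivOfEq _ _ hker).symm.trans (q.quotKerEquivOfSurjective hq)
  exact ext_subsingleton_of_iso e1.toModuleIso (i + 1)

/-- **S13217**: a *injective module is acyclic for the torsion functor of a homogeneous ideal -/
theorem lc_subsingleton_of_starInj [IsNoetherianRing R] (hI : GrLC.IsStarInj 𝒜 ℐ)
    (a : HomogeneousIdeal 𝒜) (i : ℕ) :
    Subsingleton (LocCoh.H a.toIdeal (i + 1) I) := by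
  refine ⟨fun x y => ?_⟩
  have h0 : ∀ z : (localCohomology a.toIdeal (i + 1)).obj (ModuleCat.of R I), z = 0 := by
    intro z
    obtain ⟨n, w, rfl⟩ := LC.lcι_surj z
    haveI := ext_quot_subsingleton_of_starInj 𝒜 ℐ hI (pow_isHomogeneous 𝒜 a n) i
    rw [Subsingleton.elim w 0, map_zero]
  rw [h0 x, h0 y]

end Gr

end Groth.Agent.H6
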