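import Groth.Agent.Lib.Helper6.GrDualFlip
import Groth.Agent.Lib.Helper6.GrDualCan
import Groth.Agent.Lib.Helper6.GrSubQuot
import Groth.Agent.Lib.Helper6.GrAcyc

/-! Graded perfect pairings: orthogonality, transport, uniqueness of the dual, and the pairing
induced between a cokernel and a kernel of adjoint maps. -/

universe u
open DirectSum
set_option linter.unusedSectionVars false

namespace Groth.Agent.H6

namespace GDual

open Gr Ver

section LA

variable {k : Type*} [CommRing k] (hk : IsField k)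
variable {V : Type*} [AddCommGroup V] [Module k V] {W : Type*} [AddCommGroup W] [Module k W]

include hk in
/-- a functional killing the kernel of a linear map factors through it -/
theorem exists_factor_of_ker_le (f : V →ₗ[k] W) (g : V →ₗ[k] k)
    (h : LinearMap.ker f ≤ LinearMap.ker g) : ∃ μ : W →ₗ[k] k, ∀ v, μ (f v) = g v := by
  letI := hk.toField
  let g' : (V ⧸ LinearMap.ker f) →ₗ[k] k := (LinearMap.ker f).liftQ g h
  let f' : ↥(LinearMap.range f) →ₗ[k] k := g' ∘ₗ (LinearMap.quotKerEquivRange f).symm.toLinearMap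
  obtain ⟨μ, hμ⟩ := LinearMap.exists_extend f'
  refine ⟨μ, fun v => ?_⟩
  have h1 := LinearMap.congr_fun hμ ⟨f v, LinearMap.mem_range_self f v⟩
  rw [LinearMap.comp_apply] at h1
  change μ (f v) = _ at h1
  rw [h1]
  change g' ((LinearMap.quotKerEquivRange f).symm ⟨f v, _⟩) = g v
  have h2 : (LinearMap.quotKerEquivRange f).symm ⟨f v, LinearMap.mem_range_self f v⟩ =
      (LinearMap.ker f).mkQ v := by
    rw [LinearEquiv.symm_apply_eq]
    rfl
  rw [h2]
  rfl

end LA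

section Def

/-- a graded perfect pairing: a perfect pairing in which pieces of non-complementary degrees are
orthogonal -/
structure GPair {R : Type u} [CommRing R] (𝒜 : ℤ → AddSubgroup R)
    {X : Type u} [AddCommGroup X] [Module R X] (𝒳 : ℤ → AddSubgroup X)
    {N : Type u} [AddCommGroup N] [Module R N] (𝒩 : ℤ → AddSubgroup N) (τ : X → N → R) : Prop where
  perf : PerfPair 𝒜 𝒳 𝒩 τ
  orth : ∀ i j x y, x ∈ 𝒳 i → y ∈ 𝒩 j → i + j ≠ 0 → τ x y = 0

end Def

section PieceMap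

variable {R : Type u} [CommRing R] (𝒜 : ℤ → AddSubgroup R) [GradedRing 𝒜]
variable {X : Type u} [AddCommGroup X] [Module R X] (𝒳 : ℤ → AddSubgroup X)
  [SetLike.GradedSMul 𝒜 𝒳]
variable {N : Type u} [AddCommGroup N] [Module R N] (𝒩 : ℤ → AddSubgroup N)
  [SetLike.GradedSMul 𝒜 𝒩]

/-- the map induced on pieces by a degree-preserving map -/
def pieceMap (f : X →ₗ[R] N) (hf : GrLC.IsGrHom 𝒳 𝒩 f) (j : ℤ) :
    ↥(GrLC.comp 𝒜 𝒳 j) →ₗ[GrLC.deg0 𝒜] ↥(GrLC.comp 𝒜 𝒩 j) where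
  toFun x := ⟨f x.1, hf j x.1 x.2⟩
  map_add' x y := Subtype.ext (map_add f x.1 y.1)
  map_smul' c x := Subtype.ext (map_smul f (c : R) x.1)

theorem pieceMap_coe (f : X →ₗ[R] N) (hf : GrLC.IsGrHom 𝒳 𝒩 f) (j : ℤ)
    (x : ↥(GrLC.comp 𝒜 𝒳 j)) : (pieceMap 𝒜 𝒳 𝒩 f hf j x : N) = f x.1 := rfl

end PieceMap

section Basic

variable {R : Type u} [CommRing R] {𝒜 : ℤ → AddSubgroup R} [GradedRing 𝒜]
variable {X : Type u} [AddCommGroup X] [Module R X] {𝒳 : ℤ → AddSubgroup X}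
  [DirectSum.Decomposition 𝒳] [SetLike.GradedSMul 𝒜 𝒳]
variable {N : Type u} [AddCommGroup N] [Module R N] {𝒩 : ℤ → AddSubgroup N}
  [DirectSum.Decomposition 𝒩] [SetLike.GradedSMul 𝒜 𝒩]
variable {N' : Type u} [AddCommGroup N'] [Module R N'] {𝒩' : ℤ → AddSubgroup N'}
  [DirectSum.Decomposition 𝒩'] [SetLike.GradedSMul 𝒜 𝒩']
variable {τ : X → N → R}

/-- transport of a graded perfect pairing along a degree-preserving isomorphism in the second
variable -/
theorem GPair.congr_right (hτ : GPair 𝒜 𝒳 𝒩 τ) (β : N' →ₗ[R] N) (hβ : Function.Bijective β)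
    (hβgr : GrLC.IsGrHom 𝒩' 𝒩 β) : GPair 𝒜 𝒳 𝒩' (fun x y => τ x (β y)) := by
  let βe : N' ≃ₗ[R] N := LinearEquiv.ofBijective β hβ
  have hmem : ∀ j y, β y ∈ 𝒩 j → y ∈ 𝒩' j := fun j y hy =>
    mem_of_map_mem_of_injective hβgr hβ.1 hy
  refine ⟨⟨fun x y => hτ.perf.mem0 _ _, fun x x' y => hτ.perf.add_left _ _ _, fun x y y' => ?_,
    fun r x y => ?_, fun c hc x y => hτ.perf.smul0 c hc _ _, fun j x hx h => ?_,
    fun j l hl0 hls => ?_⟩, fun i j x y hx hy hij => hτ.orth i j x (β y) hx (hβgr j y hy) hij⟩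
  · change τ x (β (y + y')) = _
    rw [map_add, hτ.perf.add_right]
  · change τ (r • x) (β y) = τ x (β (r • y))
    rw [map_smul, hτ.perf.bal]
  · apply hτ.perf.nondeg j x hx
    intro y hy
    obtain ⟨y', rfl⟩ := hβ.2 y
    exact h y' (hmem _ _ hy)
  · obtain ⟨x, hx, hxl⟩ := hτ.perf.repr j (l.comp βe.symm.toLinearMap.toAddMonoidHom)
      (fun y hy => by
        apply hl0
        apply hmem
        change β (βe.symm y) ∈ _
        have : β (βe.symm y) = y := βe.apply_symm_apply y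
        rwa [this])
      (fun c hc y hy => by
        change l (βe.symm (c • y)) = c * l (βe.symm y)
        rw [map_smul]
        apply hls c hc
        apply hmem
        have : β (βe.symm y) = y := βe.apply_symm_apply y
        rwa [this])
    refine ⟨x, hx, fun y hy => ?_⟩
    change τ x (β y) = l y
    rw [hxl (β y) (hβgr _ y hy)]
    change l (βe.symm (βe y)) = l y
    rw [βe.symm_apply_apply]

variable {X' : Type u} [AddCommGroup X'] [Module R X'] {𝒳' : ℤ → AddSubgroup X'}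
  [DirectSum.Decomposition 𝒳'] [SetLike.GradedSMul 𝒜 𝒳'] {τ' : X' → N → R}

/-- the map comparing two modules in graded perfect duality with the same module -/
theorem GPair.exists_compare (hτ : GPair 𝒜 𝒳 𝒩 τ) (hτ' : GPair 𝒜 𝒳' 𝒩 τ') :
    ∃ Ξ : X →ₗ[R] X', ∀ d, ∀ x ∈ 𝒳 d, Ξ x ∈ 𝒳' d ∧ ∀ y ∈ 𝒩 (-d), τ x y = τ' (Ξ x) y := by
  let Rel : ℤ → X → X' → Prop := fun d x x' =>
    x ∈ 𝒳 d ∧ x' ∈ 𝒳' d ∧ ∀ y ∈ 𝒩 (-d), τ x y = τ' x' y
  obtain ⟨Ξ, hΞ⟩ := exists_assemble_lin 𝒜 𝒳 Rel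
    (by
      intro d x hx
      let l : N →+ R := AddMonoidHom.mk' (fun y => τ x y) (fun y y' => hτ.perf.add_right x y y')
      obtain ⟨x', hx', hxl⟩ := hτ'.perf.repr d l (fun y _ => hτ.perf.mem0 x y)
        (fun c hc y _ => hτ.perf.smul0_right c hc x y)
      exact ⟨x', hx, hx', fun y hy => (hxl y hy).symm⟩)
    (by
      rintro d x x₁ x₂ ⟨-, h1, h1'⟩ ⟨-, h2, h2'⟩
      rw [← sub_eq_zero]
      apply hτ'.perf.nondeg d _ (sub_mem h1 h2)
      intro y hy
      rw [hτ'.perf.sub_left, ← h1' y hy, ← h2' y hy, sub_self])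
    (by
      rintro d x₁ x₂ x₁' x₂' ⟨h1, h1', h1''⟩ ⟨h2, h2', h2''⟩
      refine ⟨add_mem h1 h2, add_mem h1' h2', fun y hy => ?_⟩
      rw [hτ.perf.add_left, hτ'.perf.add_left, h1'' y hy, h2'' y hy])
    (fun d x x' h => h.1)
    (by
      rintro e d t x x' ht ⟨h1, h1', h1''⟩
      have e1 := SetLike.GradedSMul.smul_mem (A := 𝒜) (B := 𝒳) ht h1
      have e2 := SetLike.GradedSMul.smul_mem (A := 𝒜) (B := 𝒳') ht h1'
      rw [vadd_eq_add] at e1 e2
      refine ⟨e1, e2, fun y hy => ?_⟩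
      rw [hτ.perf.bal, hτ'.perf.bal]
      apply h1''
      have e3 := SetLike.GradedSMul.smul_mem (A := 𝒜) (B := 𝒩) ht hy
      rw [vadd_eq_add] at e3
      have : e + -(e + d) = -d := by ring
      rwa [this] at e3)
  exact ⟨Ξ, fun d x hx => ⟨(hΞ d x hx).2.1, (hΞ d x hx).2.2⟩⟩

/-- **uniqueness of graded duals**: two graded modules in graded perfect duality with the same
graded module are isomorphic (by a degree-preserving isomorphism) -/
theorem GPair.nonempty_equiv (hτ : GPair 𝒜 𝒳 𝒩 τ) (hτ' : GPair 𝒜 𝒳' 𝒩 τ') :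
    ∃ Ξ : X ≃ₗ[R] X', GrLC.IsGrHom 𝒳 𝒳' Ξ.toLinearMap := by
  obtain ⟨Ξ, hΞ⟩ := hτ.exists_compare hτ'
  obtain ⟨Ξ', hΞ'⟩ := hτ'.exists_compare hτ
  have h1 : Ξ' ∘ₗ Ξ = LinearMap.id := by
    apply LinearMap.ext
    intro x
    induction x using DirectSum.Decomposition.inductionOn 𝒳 with
    | zero => simp
    | homogeneous x =>
      rename_i d
      rw [LinearMap.comp_apply, LinearMap.id_apply, ← sub_eq_zero]
      have hx1 := hΞ d x.1 x.2
      have hx2 := hΞ' d _ hx1.1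
      apply hτ.perf.nondeg d _ (sub_mem hx2.1 x.2)
      intro y hy
      rw [hτ.perf.sub_left, ← hx2.2 y hy, ← hx1.2 y hy, sub_self]
    | add x y hx hy => rw [map_add, hx, hy, map_add]
  have h2 : Ξ ∘ₗ Ξ' = LinearMap.id := by
    apply LinearMap.ext
    intro x
    induction x using DirectSum.Decomposition.inductionOn 𝒳' with
    | zero => simp
    | homogeneous x =>
      rename_i d
      rw [LinearMap.comp_apply, LinearMap.id_apply, ← sub_eq_zero]
      have hx1 := hΞ' d x.1 x.2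
      have hx2 := hΞ d _ hx1.1
      apply hτ'.perf.nondeg d _ (sub_mem hx2.1 x.2)
      intro y hy
      rw [hτ'.perf.sub_left, ← hx2.2 y hy, ← hx1.2 y hy, sub_self]
    | add x y hx hy => rw [map_add, hx, hy, map_add]
  exact ⟨LinearEquiv.ofLinearMap Ξ Ξ' h2 h1, fun d x hx => (hΞ d x hx).1⟩

end Basic

section SubQuot

variable {R : Type u} [CommRing R] {𝒜 : ℤ → AddSubgroup R} [GradedRing 𝒜]
  (h0 : IsField (GrLC.deg0 𝒜))
variable {A : Type u} [AddCommGroup A] [Module R A] {𝒶 : ℤ → AddSubgroup A}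
  [DirectSum.Decomposition 𝒶] [SetLike.GradedSMul 𝒜 𝒶]
variable {B : Type u} [AddCommGroup B] [Module R B] {𝒷 : ℤ → AddSubgroup B}
  [DirectSum.Decomposition 𝒷] [SetLike.GradedSMul 𝒜 𝒷]
variable {A' : Type u} [AddCommGroup A'] [Module R A'] {𝒶' : ℤ → AddSubgroup A'}
  [DirectSum.Decomposition 𝒶'] [SetLike.GradedSMul 𝒜 𝒶']
variable {B' : Type u} [AddCommGroup B'] [Module R B'] {𝒷' : ℤ → AddSubgroup B'}
  [DirectSum.Decomposition 𝒷'] [SetLike.GradedSMul 𝒜 𝒷']
variable {K : Type u} [AddCommGroup K] [Module R K] {𝓀 : ℤ → AddSubgroup K}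
  [DirectSum.Decomposition 𝓀] [SetLike.GradedSMul 𝒜 𝓀]
variable {Q : Type u} [AddCommGroup Q] [Module R Q]
variable {τA : A → A' → R} {τB : B → B' → R}

include h0 in
/-- **duality between a cokernel and a kernel**: for adjoint degree-preserving maps `u : A → B`
and `u' : B' → A'` between graded modules in graded perfect duality, the cokernel of `u` and the
kernel of `u'` are in graded perfect duality -/
theorem GPair.coker_ker (hA : GPair 𝒜 𝒶 𝒶' τA) (hB : GPair 𝒜 𝒷 𝒷' τB)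
    (u : A →ₗ[R] B) (hu : GrLC.IsGrHom 𝒶 𝒷 u) (u' : B' →ₗ[R] A') (hu' : GrLC.IsGrHom 𝒷' 𝒶' u')
    (adj : ∀ a y, τB (u a) y = τA a (u' y))
    (q : B →ₗ[R] Q) (hq : Function.Surjective q) (hker : LinearMap.ker q = LinearMap.range u)
    (δ : K →ₗ[R] B') (hδ : Function.Injective δ) (hδgr : GrLC.IsGrHom 𝓀 𝒷' δ)
    (hrange : LinearMap.range δ = LinearMap.ker u') :
    GPair 𝒜 (quotGr 𝒷 q) 𝓀 (fun z k => τB (Function.surjInv hq z) (δ k)) := by
  have hu'δ : ∀ k, u' (δ k) = 0 := by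
    intro k
    have : δ k ∈ LinearMap.ker u' := by rw [← hrange]; exact ⟨k, rfl⟩
    exact this
  have key : ∀ b b', q b = q b' → ∀ k, τB b (δ k) = τB b' (δ k) := by
    intro b b' hbb k
    have h1 : b - b' ∈ LinearMap.ker q := by
      rw [LinearMap.mem_ker, map_sub, hbb, sub_self]
    rw [hker] at h1
    obtain ⟨a, ha⟩ := h1
    have h2 : τB (b - b') (δ k) = 0 := by
      rw [← ha, adj, hu'δ, hA.perf.zero_right]
    rw [hB.perf.sub_left] at h2
    exact sub_eq_zero.mp h2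
  have sq : ∀ b k, τB (Function.surjInv hq (q b)) (δ k) = τB b (δ k) := fun b k =>
    key _ _ (Function.surjInv_eq hq (q b)) k
  have hmemK : ∀ j k, δ k ∈ 𝒷' j → k ∈ 𝓀 j := fun j k hk =>
    mem_of_map_mem_of_injective hδgr hδ hk
  refine ⟨⟨fun z k => hB.perf.mem0 _ _, fun z z' k => ?_, fun z k k' => ?_, fun r z k => ?_,
    fun c hc z k => ?_, fun j z hz h => ?_, fun j l hl0 hls => ?_⟩, fun i j z k hz hk hij => ?_⟩
  · obtain ⟨b, rfl⟩ := hq z
    obtain ⟨b', rfl⟩ := hq z'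
    change τB (Function.surjInv hq (q b + q b')) (δ k) = _
    rw [← map_add, sq, sq, sq, hB.perf.add_left]
  · change τB _ (δ (k + k')) = _
    rw [map_add, hB.perf.add_right]
  · obtain ⟨b, rfl⟩ := hq z
    change τB (Function.surjInv hq (r • q b)) (δ k) = τB (Function.surjInv hq (q b)) (δ (r • k))
    rw [← map_smul, sq, sq, map_smul, hB.perf.bal]
  · obtain ⟨b, rfl⟩ := hq z
    change τB (Function.surjInv hq (c • q b)) (δ k) = c * τB (Function.surjInv hq (q b)) (δ k)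
    rw [← map_smul, sq, sq, hB.perf.smul0 c hc]
  · -- nondegeneracy
    obtain ⟨b, hb, rfl⟩ := hz
    change q b = 0
    let lam : ↥(GrLC.comp 𝒜 𝒷' (-j)) →ₗ[GrLC.deg0 𝒜] GrLC.deg0 𝒜 :=
      { toFun := fun y => ⟨τB b y.1, hB.perf.mem0 _ _⟩
        map_add' := fun y y' => Subtype.ext (hB.perf.add_right b y.1 y'.1)
        map_smul' := fun c y => Subtype.ext (hB.perf.smul0_right c.1 c.2 b y.1) }
    have hle : LinearMap.ker (pieceMap 𝒜 𝒷' 𝒶' u' hu' (-j)) ≤ LinearMap.ker lam := by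
      intro y hy
      have hy0 : u' y.1 = 0 := congrArg Subtype.val hy
      have hy1 : y.1 ∈ LinearMap.range δ := by rw [hrange]; exact hy0
      obtain ⟨k, hk⟩ := hy1
      have hk' : k ∈ 𝓀 (-j) := hmemK _ _ (by rw [hk]; exact y.2)
      apply Subtype.ext
      change τB b y.1 = 0
      rw [← hk, ← sq]
      exact h k hk'
    obtain ⟨μ, hμ⟩ := exists_factor_of_ker_le h0 _ lam hle
    obtain ⟨a, ha, haμ⟩ := hA.perf.repr_lin j μ
    have hua : u a = b := by
      rw [← sub_eq_zero]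
      apply hB.perf.nondeg j _ (sub_mem (hu j a ha) hb)
      · intro y hy
        rw [hB.perf.sub_left, adj, haμ (u' y) (hu' _ y hy)]
        have h1 := hμ ⟨y, hy⟩
        have h2 : (μ (pieceMap 𝒜 𝒷' 𝒶' u' hu' (-j) ⟨y, hy⟩) : R) = τB b y :=
          congrArg Subtype.val h1
        have h3 : (⟨u' y, hu' _ y hy⟩ : ↥(GrLC.comp 𝒜 𝒶' (-j))) =
            pieceMap 𝒜 𝒷' 𝒶' u' hu' (-j) ⟨y, hy⟩ := rfl
        rw [h3, h2, sub_self]
    have : b ∈ LinearMap.ker q := by rw [hker, ← hua]; exact ⟨a, rfl⟩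
    exact this
  · -- representability
    let lj : ↥(GrLC.comp 𝒜 𝓀 (-j)) →ₗ[GrLC.deg0 𝒜] GrLC.deg0 𝒜 :=
      { toFun := fun k => ⟨l k.1, hl0 k.1 k.2⟩
        map_add' := fun k k' => Subtype.ext (map_add l k.1 k'.1)
        map_smul' := fun c k => Subtype.ext (hls c.1 c.2 k.1 k.2) }
    have hle : LinearMap.ker (pieceMap 𝒜 𝓀 𝒷' δ hδgr (-j)) ≤ LinearMap.ker lj := by
      intro k hk
      have hk0 : δ k.1 = 0 := congrArg Subtype.val hk
      have hk1 : k.1 = 0 := hδ (hk0.trans (map_zero δ).symm)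
      have : k = 0 := Subtype.ext hk1
      rw [this]
      exact zero_mem _
    obtain ⟨μ, hμ⟩ := exists_factor_of_ker_le h0 _ lj hle
    obtain ⟨b, hb, hbμ⟩ := hB.perf.repr_lin j μ
    refine ⟨q b, ⟨b, hb, rfl⟩, fun k hk => ?_⟩
    change τB (Function.surjInv hq (q b)) (δ k) = l k
    rw [sq, hbμ (δ k) (hδgr _ k hk)]
    have h1 := hμ ⟨k, hk⟩
    exact congrArg Subtype.val h1
  · obtain ⟨b, hb, rfl⟩ := hz
    change τB (Function.surjInv hq (q b)) (δ k) = 0
    rw [sq]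
    exact hB.orth i j b (δ k) hb (hδgr j k hk) hij

end SubQuot

section OfCanonical

variable {R : Type u} [CommRing R] {𝒜 : ℤ → AddSubgroup R} [GradedRing 𝒜]
variable {m : HomogeneousIdeal 𝒜}
variable {E' : Type u} [AddCommGroup E'] [Module R E'] {𝓔 : ℤ → AddSubgroup E'}
  [DirectSum.Decomposition 𝓔] [SetLike.GradedSMul 𝒜 𝓔]
  {e : (R ⧸ m.toIdeal) →ₗ[R] E'} (S : Setting 𝒜 m 𝓔 e)
variable {C : Type u} [AddCommGroup C] [Module R C] (𝒞 : ℤ → AddSubgroup C)
  [DirectSum.Decomposition 𝒞] [SetLike.GradedSMul 𝒜 𝒞]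
variable [IsNoetherianRing R] [Module.Finite R C]
variable {H : Type u} [AddCommGroup H] [Module R H] (ℋ : ℤ → AddSubgroup H)
  [DirectSum.Decomposition ℋ] [SetLike.GradedSMul 𝒜 ℋ]

include S in
/-- a finitely generated graded module is in graded perfect duality with its graded Matlis
dual -/
theorem GPair.of_canonical (ψ : (C →ₗ[R] E') ≃ₗ[R] H)
    (hψ : GrLC.IsGrHom (fun d => (GrLC.homDeg 𝒜 𝒞 𝓔 d).toAddSubgroup) ℋ ψ.toLinearMap) :
    GPair 𝒜 𝒞 ℋ (fun c h => S.tr (ψ.symm h c)) := by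
  refine ⟨perfPair_canonical S 𝒞 ℋ ψ hψ, fun i j c h hc hh hij => ?_⟩
  have h1 := symm_mem_homDeg 𝒜 𝒞 𝓔 ℋ ψ hψ hh
  exact S.tr_of_mem_ne (h1 i c hc) hij

end OfCanonical

end GDual

end Groth.Agent.H6
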