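import Groth.Agent.Lib.Helper6.GrLD1
import Groth.Agent.Lib.Helper6.GrEW3
import Groth.Agent.Lib.Helper6.GrExtGr

/-! Graded local duality in the top degree, as a graded perfect pairing between `Hom_R(M, K_R)`
and `H^n_m(M)`, natural in `M`. -/

universe u
open DirectSum TensorProduct
set_option linter.unusedSectionVars false

namespace Groth.Agent.H6

namespace GrLD

open Gr GDual

variable {R : Type u} [CommRing R] {𝒜 : ℤ → AddSubgroup R} [GradedRing 𝒜]
variable (I : GrLC.StarInjRes 𝒜 𝒜) (a : HomogeneousIdeal 𝒜) (n : ℕ)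
variable {C : Type u} [AddCommGroup C] [Module R C] {𝒞 : ℤ → AddSubgroup C}
  [DirectSum.Decomposition 𝒞] [SetLike.GradedSMul 𝒜 𝒞]
variable {τ : C → I.H a n → R} (hτ : GPair 𝒜 𝒞 (I.Hgr a n) τ)
variable {M : Type u} [AddCommGroup M] [Module R M] {ℳ : ℤ → AddSubgroup M}
  [DirectSum.Decomposition ℳ] [SetLike.GradedSMul 𝒜 ℳ] (EM : GrLC.StarInjRes 𝒜 ℳ)

section Lam

include hτ in
/-- the additive map `M ⊗ H^n_a(R) → R`, `x ⊗ h ↦ τ(φ x, h)` -/
noncomputable def lam (φ : M →ₗ[R] C) : M ⊗[R] I.H a n →+ R :=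
  TensorProduct.liftAddHom
    (AddMonoidHom.mk' (fun x => AddMonoidHom.mk' (fun h => τ (φ x) h)
      (fun h h' => hτ.perf.add_right (φ x) h h'))
      (fun x x' => by
        apply AddMonoidHom.ext
        intro h
        change τ (φ (x + x')) h = τ (φ x) h + τ (φ x') h
        rw [map_add, hτ.perf.add_left]))
    (fun r x h => by
      change τ (φ (r • x)) h = τ (φ x) (r • h)
      rw [map_smul, hτ.perf.bal])

theorem lam_tmul (φ : M →ₗ[R] C) (x : M) (h : I.H a n) :
    lam I a n hτ φ (x ⊗ₜ h) = τ (φ x) h := rfl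

theorem lam_mem0 (φ : M →ₗ[R] C) (w : M ⊗[R] I.H a n) : lam I a n hτ φ w ∈ 𝒜 0 := by
  induction w using TensorProduct.induction_on with
  | zero => rw [map_zero]; exact zero_mem _
  | tmul x h => exact hτ.perf.mem0 _ _
  | add w w' hw hw' => rw [map_add]; exact add_mem hw hw'

theorem lam_add (φ φ' : M →ₗ[R] C) (w : M ⊗[R] I.H a n) :
    lam I a n hτ (φ + φ') w = lam I a n hτ φ w + lam I a n hτ φ' w := by
  induction w using TensorProduct.induction_on with
  | zero => simp
  | tmul x h => rw [lam_tmul, lam_tmul, lam_tmul, LinearMap.add_apply, hτ.perf.add_left]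
  | add w w' hw hw' => rw [map_add, map_add, map_add, hw, hw']; abel

theorem lam_smul (r : R) (φ : M →ₗ[R] C) (w : M ⊗[R] I.H a n) :
    lam I a n hτ (r • φ) w = lam I a n hτ φ (r • w) := by
  induction w using TensorProduct.induction_on with
  | zero => simp
  | tmul x h =>
    rw [TensorProduct.smul_tmul', lam_tmul, lam_tmul, LinearMap.smul_apply, map_smul]
  | add w w' hw hw' => rw [smul_add, map_add, map_add, hw, hw']

theorem lam_smul0 (c : R) (hc : c ∈ 𝒜 0) (φ : M →ₗ[R] C) (w : M ⊗[R] I.H a n) :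
    lam I a n hτ (c • φ) w = c * lam I a n hτ φ w := by
  induction w using TensorProduct.induction_on with
  | zero => simp
  | tmul x h => rw [lam_tmul, lam_tmul, LinearMap.smul_apply, hτ.perf.smul0 c hc]
  | add w w' hw hw' => rw [map_add, map_add, hw, hw', mul_add]

/-- additive maps on `M ⊗ H` agreeing on tensors of homogeneous elements agree -/
theorem addHom_ext_homogeneous [DirectSum.Decomposition (I.Hgr a n)]
    {F G : M ⊗[R] I.H a n →+ R}
    (h : ∀ e d x y, x ∈ ℳ e → y ∈ I.Hgr a n d → F (x ⊗ₜ y) = G (x ⊗ₜ y)) : F = G := by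
  apply AddMonoidHom.ext
  intro w
  induction w using TensorProduct.induction_on with
  | zero => rw [map_zero, map_zero]
  | tmul x y =>
    induction x using DirectSum.Decomposition.inductionOn ℳ with
    | zero => rw [TensorProduct.zero_tmul, map_zero, map_zero]
    | homogeneous x =>
      rename_i e
      induction y using DirectSum.Decomposition.inductionOn (I.Hgr a n) with
      | zero => rw [TensorProduct.tmul_zero, map_zero, map_zero]
      | homogeneous y =>
        rename_i d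
        exact h e d x.1 y.1 x.2 y.2
      | add y y' hy hy' => rw [TensorProduct.tmul_add, map_add, map_add, hy, hy']
    | add x x' hx hx' => rw [TensorProduct.add_tmul, map_add, map_add, hx, hx']
  | add w w' hw hw' => rw [map_add, map_add, hw, hw']

end Lam

section Top

variable [IsNoetherianRing R] [Module.Finite R M]
variable (hvan : ∀ (K : GrLC.GMod.{u} 𝒜) [Module.Finite R K.carrier]
  (EK : GrLC.StarInjRes 𝒜 K.gr), Subsingleton (EK.H a (n + 1)))

/-- the graded Eilenberg–Watts isomorphism `M ⊗ H^n_a(R) ≅ H^n_a(M)` -/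
noncomputable def nuEquiv : (M ⊗[R] I.H a n) ≃ₗ[R] EM.H a n :=
  LinearEquiv.ofBijective (GrEW.nu I a n EM) (GrEW.nu_bijective I a n ℳ hvan EM)

theorem nuEquiv_apply (w : M ⊗[R] I.H a n) : nuEquiv I a n EM hvan w = GrEW.nu I a n EM w := rfl

/-- the top duality pairing `Hom(M, C) × H^n_a(M) → R_0` -/
noncomputable def topPair (φ : M →ₗ[R] C) (y : EM.H a n) : R :=
  lam I a n hτ φ ((nuEquiv I a n EM hvan).symm y)

theorem topPair_nu (φ : M →ₗ[R] C) (w : M ⊗[R] I.H a n) :
    topPair I a n hτ EM hvan φ (GrEW.nu I a n EM w) = lam I a n hτ φ w := by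
  unfold topPair
  rw [← nuEquiv_apply I a n EM hvan, LinearEquiv.symm_apply_apply]

variable [DirectSum.Decomposition (I.Hgr a n)] [SetLike.GradedSMul 𝒜 (I.Hgr a n)]
  [DirectSum.Decomposition (EM.Hgr a n)] [SetLike.GradedSMul 𝒜 (EM.Hgr a n)]

/-- a homogeneous map pairs to zero with classes of non-complementary degree -/
theorem lam_eq_lam_proj {i : ℤ} {φ : M →ₗ[R] C} (hφ : GrLC.IsGrHomDeg ℳ 𝒞 φ i)
    (w : M ⊗[R] I.H a n) :
    lam I a n hτ φ w = topPair I a n hτ EM hvan φ (proj (EM.Hgr a n) (-i) (GrEW.nu I a n EM w)) := by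
  let G : M ⊗[R] I.H a n →+ R :=
    ((lam I a n hτ φ).comp (nuEquiv I a n EM hvan).symm.toLinearMap.toAddMonoidHom).comp
      ((proj (EM.Hgr a n) (-i)).comp (GrEW.nu I a n EM).toAddMonoidHom)
  have hFG : lam I a n hτ φ = G := by
    apply addHom_ext_homogeneous I a n (ℳ := ℳ)
    intro e d x y hx hy
    have hmem : GrEW.nu I a n EM (x ⊗ₜ y) ∈ EM.Hgr a n (d + e) := by
      rw [GrEW.nu_tmul]
      exact GrEW.mu_mem I a n EM hx hy
    change _ = lam I a n hτ φ ((nuEquiv I a n EM hvan).symm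
      (proj (EM.Hgr a n) (-i) (GrEW.nu I a n EM (x ⊗ₜ y))))
    by_cases hd : d + e = -i
    · rw [hd] at hmem
      rw [proj_of_mem (EM.Hgr a n) hmem, ← nuEquiv_apply I a n EM hvan,
        LinearEquiv.symm_apply_apply]
    · rw [proj_of_mem_ne (EM.Hgr a n) hmem hd, map_zero, map_zero, lam_tmul]
      exact hτ.orth (e + i) d (φ x) y (hφ e x hx) hy (by omega)
  exact DFunLike.congr_fun hFG w

include hτ in
/-- **top graded local duality**: `Hom_R(M, C)` and `H^n_a(M)` are in graded perfect duality -/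
theorem topPair_gpair :
    GPair 𝒜 (homGr 𝒜 ℳ 𝒞) (EM.Hgr a n) (topPair I a n hτ EM hvan) := by
  refine ⟨⟨fun φ y => lam_mem0 I a n hτ φ _, fun φ φ' y => lam_add I a n hτ φ φ' _,
    fun φ y y' => ?_, fun r φ y => ?_, fun c hc φ y => lam_smul0 I a n hτ c hc φ _,
    fun j φ hφ h => ?_, fun j l hl0 hls => ?_⟩, fun i j φ y hφ hy hij => ?_⟩
  · unfold topPair
    rw [map_add, map_add]
  · unfold topPair
    rw [lam_smul, LinearEquiv.map_smul]
  · -- nondegeneracy
    have hφ' : GrLC.IsGrHomDeg ℳ 𝒞 φ j := hφ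
    apply LinearMap.ext
    intro x
    induction x using DirectSum.Decomposition.inductionOn ℳ with
    | zero => simp
    | homogeneous x =>
      rename_i e
      rw [LinearMap.zero_apply]
      apply hτ.perf.nondeg (e + j) _ (hφ' e x.1 x.2)
      intro y hy
      have h1 : GrEW.nu I a n EM (x.1 ⊗ₜ y) ∈ EM.Hgr a n (-j) := by
        rw [GrEW.nu_tmul]
        have := GrEW.mu_mem I a n EM x.2 hy
        have e1 : -(e + j) + e = -j := by ring
        rwa [e1] at this
      have h2 := h _ h1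
      rw [topPair_nu, lam_tmul] at h2
      exact h2
    | add x x' hx hx' => rw [map_add, hx, hx']; simp
  · -- representability
    let Rel : ℤ → M → C → Prop := fun e x c =>
      x ∈ ℳ e ∧ c ∈ 𝒞 (e + j) ∧
        ∀ h ∈ I.Hgr a n (-(e + j)), τ c h = l (GrEW.nu I a n EM (x ⊗ₜ h))
    have hnumem : ∀ e x, x ∈ ℳ e → ∀ h ∈ I.Hgr a n (-(e + j)),
        GrEW.nu I a n EM (x ⊗ₜ h) ∈ EM.Hgr a n (-j) := by
      intro e x hx h hh
      rw [GrEW.nu_tmul]
      have := GrEW.mu_mem I a n EM hx hh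
      have e1 : -(e + j) + e = -j := by ring
      rwa [e1] at this
    obtain ⟨φ, hφ⟩ := exists_assemble_lin 𝒜 ℳ Rel
      (by
        intro e x hx
        let lx : I.H a n →+ R := l.comp
          ((GrEW.nu I a n EM).toAddMonoidHom.comp
            ((TensorProduct.mk R M (I.H a n) x).toAddMonoidHom))
        have hlx : ∀ h, lx h = l (GrEW.nu I a n EM (x ⊗ₜ h)) := fun h => rfl
        obtain ⟨c, hc, hcl⟩ := hτ.perf.repr (e + j) lx
          (fun h hh => by rw [hlx]; exact hl0 _ (hnumem e x hx h hh))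
          (fun t ht h hh => by
            rw [hlx, hlx, TensorProduct.tmul_smul, map_smul]
            exact hls t ht _ (hnumem e x hx h hh))
        exact ⟨c, hx, hc, fun h hh => by rw [hcl h hh, hlx]⟩)
      (by
        rintro e x c c' ⟨-, h1, h1'⟩ ⟨-, h2, h2'⟩
        rw [← sub_eq_zero]
        apply hτ.perf.nondeg (e + j) _ (sub_mem h1 h2)
        intro h hh
        rw [hτ.perf.sub_left, h1' h hh, h2' h hh, sub_self])
      (by
        rintro e x x' c c' ⟨h1, h1', h1''⟩ ⟨h2, h2', h2''⟩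
        refine ⟨add_mem h1 h2, add_mem h1' h2', fun h hh => ?_⟩
        rw [hτ.perf.add_left, h1'' h hh, h2'' h hh, TensorProduct.add_tmul, map_add, map_add])
      (fun e x c h => h.1)
      (by
        rintro e' e t x c ht ⟨h1, h1', h1''⟩
        have m1 := SetLike.GradedSMul.smul_mem (A := 𝒜) (B := ℳ) ht h1
        have m2 := SetLike.GradedSMul.smul_mem (A := 𝒜) (B := 𝒞) ht h1'
        rw [vadd_eq_add] at m1 m2
        have e2 : e' + (e + j) = e' + e + j := by ring
        rw [e2] at m2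
        refine ⟨m1, m2, fun h hh => ?_⟩
        have m3 := SetLike.GradedSMul.smul_mem (A := 𝒜) (B := I.Hgr a n) ht hh
        rw [vadd_eq_add] at m3
        have e3 : e' + -(e' + e + j) = -(e + j) := by ring
        rw [e3] at m3
        rw [hτ.perf.bal, h1'' _ m3, TensorProduct.tmul_smul, TensorProduct.smul_tmul'])
    have hφj : GrLC.IsGrHomDeg ℳ 𝒞 φ j := fun e x hx => (hφ e x hx).2.1
    refine ⟨φ, hφj, fun y hy => ?_⟩
    -- the two additive maps agree
    let G : M ⊗[R] I.H a n →+ R :=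
      l.comp ((proj (EM.Hgr a n) (-j)).comp (GrEW.nu I a n EM).toAddMonoidHom)
    have hFG : lam I a n hτ φ = G := by
      apply addHom_ext_homogeneous I a n (ℳ := ℳ)
      intro e d x h hx hh
      have hmem : GrEW.nu I a n EM (x ⊗ₜ h) ∈ EM.Hgr a n (d + e) := by
        rw [GrEW.nu_tmul]
        exact GrEW.mu_mem I a n EM hx hh
      change _ = l (proj (EM.Hgr a n) (-j) (GrEW.nu I a n EM (x ⊗ₜ h)))
      rw [lam_tmul]
      by_cases hd : d = -(e + j)
      · subst hd
        have e1 : -(e + j) + e = -j := by ring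
        rw [e1] at hmem
        rw [proj_of_mem (EM.Hgr a n) hmem]
        exact (hφ e x hx).2.2 h hh
      · rw [proj_of_mem_ne (EM.Hgr a n) hmem (by omega), map_zero]
        exact hτ.orth (e + j) d (φ x) h (hφj e x hx) hh (by omega)
    unfold topPair
    rw [hFG]
    change l (proj (EM.Hgr a n) (-j) (GrEW.nu I a n EM ((nuEquiv I a n EM hvan).symm y))) = l y
    rw [← nuEquiv_apply I a n EM hvan, LinearEquiv.apply_symm_apply,
      proj_of_mem (EM.Hgr a n) hy]
  · -- orthogonality
    have hφ' : GrLC.IsGrHomDeg ℳ 𝒞 φ i := hφ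
    unfold topPair
    rw [lam_eq_lam_proj I a n hτ EM hvan hφ', ← nuEquiv_apply I a n EM hvan,
      LinearEquiv.apply_symm_apply, proj_of_mem_ne (EM.Hgr a n) hy (by omega)]
    unfold topPair
    rw [map_zero, map_zero]

end Top

section Natural

variable [IsNoetherianRing R] [Module.Finite R M]
variable (hvan : ∀ (K : GrLC.GMod.{u} 𝒜) [Module.Finite R K.carrier]
  (EK : GrLC.StarInjRes 𝒜 K.gr), Subsingleton (EK.H a (n + 1)))
variable {M' : Type u} [AddCommGroup M'] [Module R M'] {ℳ' : ℤ → AddSubgroup M'}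
  [DirectSum.Decomposition ℳ'] [SetLike.GradedSMul 𝒜 ℳ'] (EM' : GrLC.StarInjRes 𝒜 ℳ')
  [Module.Finite R M']

theorem lam_comp (g : M →ₗ[R] M') (φ' : M' →ₗ[R] C) (w : M ⊗[R] I.H a n) :
    lam I a n hτ (φ' ∘ₗ g) w = lam I a n hτ φ' (g.rTensor (I.H a n) w) := by
  induction w using TensorProduct.induction_on with
  | zero => simp
  | tmul x h => rw [LinearMap.rTensor_tmul, lam_tmul, lam_tmul, LinearMap.comp_apply]
  | add w w' hw hw' => rw [map_add, map_add, map_add, hw, hw']

/-- **naturality of the top duality pairing** -/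
theorem topPair_natural (g : M →ₗ[R] M') (hg : GrLC.IsGrHom ℳ ℳ' g) (φ' : M' →ₗ[R] C)
    (y : EM.H a n) :
    topPair I a n hτ EM hvan (φ' ∘ₗ g) y =
      topPair I a n hτ EM' hvan φ' (Hmap EM EM' a g hg n y) := by
  obtain ⟨w, rfl⟩ := (nuEquiv I a n EM hvan).surjective y
  rw [nuEquiv_apply, topPair_nu, GrEW.Hmap_nu I a n hg w, topPair_nu, lam_comp]

end Natural

end GrLD

end Groth.Agent.H6
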