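import Groth.Agent.Lib.Helper6.GrLD3
import Groth.Agent.Lib.Helper6.GrPos
import Groth.Agent.Lib.Helper8.LC.BaseChange

/-! Independence of the base for graded local cohomology, along a finite degree-preserving
homomorphism of positively graded rings. -/

universe u
open DirectSum CategoryTheory
set_option linter.unusedSectionVars false

namespace Groth.Agent.H6

namespace GrBI

open Gr GDual

variable {R : Type u} [CommRing R] {𝒜 : ℤ → AddSubgroup R} [GradedRing 𝒜]
variable {S : Type u} [CommRing S] [Algebra R S] {𝒜' : ℤ → AddSubgroup S} [GradedRing 𝒜']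
variable (hf : ∀ j : ℤ, (𝒜 j).map (algebraMap R S : R →+ S) ≤ 𝒜' j)

section Restrict

include hf in
theorem algebraMap_mem {j : ℤ} {r : R} (hr : r ∈ 𝒜 j) : algebraMap R S r ∈ 𝒜' j :=
  hf j ⟨r, hr, rfl⟩

/-- the `R`-module structure on an `S`-module -/
@[reducible] def resModule (X : Type u) [AddCommGroup X] [Module S X] : Module R X :=
  Module.compHom X (algebraMap R S)

include hf in
theorem res_gradedSMul {X : Type u} [AddCommGroup X] [Module S X] (𝒳 : ℤ → AddSubgroup X)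
    [SetLike.GradedSMul 𝒜' 𝒳] :
    letI := resModule (R := R) (S := S) X
    SetLike.GradedSMul 𝒜 𝒳 := by
  letI := resModule (R := R) (S := S) X
  refine ⟨fun {i j r x} hr hx => ?_⟩
  change algebraMap R S r • x ∈ 𝒳 (i + j)
  exact SetLike.GradedSMul.smul_mem (A := 𝒜') (B := 𝒳) (algebraMap_mem hf hr) hx

/-- the restriction of a graded `S`-module to `R` -/
def resGMod (X : GrLC.GMod.{u} 𝒜') : GrLC.GMod.{u} 𝒜 :=
  @GrLC.GMod.mk ℤ _ _ R _ _ _ _ 𝒜 _ X.carrier _ (resModule (R := R) (S := S) X.carrier) X.gr X.dec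
    (res_gradedSMul hf X.gr)

theorem resGMod_smul (X : GrLC.GMod.{u} 𝒜') (r : R) (x : (resGMod hf X).carrier) :
    r • x = (algebraMap R S r • (show X.carrier from x) : X.carrier) := rfl

end Restrict

section Radical

variable (m : HomogeneousIdeal 𝒜)
  (hmsp : m.toIdeal = Ideal.span (⋃ n ∈ Set.Ioi (0 : ℤ), (𝒜 n : Set R)))
  (m' : HomogeneousIdeal 𝒜')
  (hm'sp : m'.toIdeal = Ideal.span (⋃ j ∈ Set.Ioi (0 : ℤ), (𝒜' j : Set S)))

include hf hmsp hm'sp in
theorem map_irrel_le : m.toIdeal.map (algebraMap R S) ≤ m'.toIdeal := by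
  rw [hmsp, Ideal.map_span, hm'sp]
  apply Ideal.span_mono
  rintro _ ⟨r, hr, rfl⟩
  simp only [Set.mem_iUnion, Set.mem_Ioi, SetLike.mem_coe] at hr ⊢
  obtain ⟨k, hk, hrk⟩ := hr
  exact ⟨k, hk, algebraMap_mem hf hrk⟩

include hf in
theorem self_gradedSMul : SetLike.GradedSMul 𝒜 𝒜' := by
  refine ⟨fun {i j r x} hr hx => ?_⟩
  rw [Algebra.smul_def]
  exact SetLike.GradedMul.mul_mem (algebraMap_mem hf hr) hx

include hf hmsp in
/-- pieces of high degree of a finite graded algebra lie in the extension of the irrelevant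
ideal -/
theorem exists_piece_le_map [Module.Finite R S] :
    ∃ N₀ : ℤ, ∀ k : ℤ, N₀ < k → ∀ s ∈ 𝒜' k, s ∈ m.toIdeal.map (algebraMap R S) := by
  classical
  haveI := self_gradedSMul hf
  obtain ⟨κ, _, x, d, hx, hspan⟩ := exists_homogeneous_generators (R := R) (M := S) 𝒜'
  refine ⟨∑ t, |d t|, fun k hk s hs => ?_⟩
  have hs' : s ∈ Submodule.span R (Set.range x) := by rw [hspan]; trivial
  obtain ⟨c, rfl⟩ := (Submodule.mem_span_range_iff_exists_fun R).mp hs'
  have h1 : proj 𝒜' k (∑ t, c t • x t) = ∑ t, c t • x t := proj_of_mem 𝒜' hs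
  rw [← h1, map_sum]
  refine Ideal.sum_mem _ fun t _ => ?_
  rw [proj_smul_of_mem_right 𝒜 𝒜' (hx t) k (c t), Algebra.smul_def]
  apply Ideal.mul_mem_right
  apply Ideal.mem_map_of_mem
  rw [hmsp]
  apply Ideal.subset_span
  simp only [Set.mem_iUnion, Set.mem_Ioi, SetLike.mem_coe]
  refine ⟨k - d t, ?_, proj_mem 𝒜 _ _⟩
  have h2 : |d t| ≤ ∑ t, |d t| :=
    Finset.single_le_sum (f := fun t => |d t|) (fun i _ => abs_nonneg _) (Finset.mem_univ t)
  have h3 : d t ≤ |d t| := le_abs_self _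
  omega

include hf hmsp hm'sp in
theorem irrel_le_radical [Module.Finite R S] :
    m'.toIdeal ≤ (m.toIdeal.map (algebraMap R S)).radical := by
  obtain ⟨N₀, hN₀⟩ := exists_piece_le_map hf m hmsp
  rw [hm'sp, Ideal.span_le]
  intro s hs
  simp only [Set.mem_iUnion, Set.mem_Ioi, SetLike.mem_coe] at hs
  obtain ⟨k, hk, hsk⟩ := hs
  refine ⟨(max N₀ 0 + 1).toNat, ?_⟩
  have h1 := SetLike.pow_mem_graded (max N₀ 0 + 1).toNat hsk
  apply hN₀ _ _ _ h1
  rw [nsmul_eq_mul]
  have h2 : ((max N₀ 0 + 1).toNat : ℤ) = max N₀ 0 + 1 := Int.toNat_of_nonneg (by positivity)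
  rw [h2]
  have h3 : N₀ ≤ max N₀ 0 := le_max_left _ _
  have h4 : (0 : ℤ) ≤ max N₀ 0 := le_max_right _ _
  nlinarith

include hf hmsp hm'sp in
/-- torsion with respect to the two irrelevant ideals agrees -/
theorem mem_gam_iff [Module.Finite R S] [IsNoetherianRing S] (X : Type u) [AddCommGroup X]
    [Module S X] (x : X) :
    letI := resModule (R := R) (S := S) X
    x ∈ GrLC.gam m.toIdeal X ↔ x ∈ GrLC.gam m'.toIdeal X := by
  letI := resModule (R := R) (S := S) X
  have hsm : ∀ (r : R) (y : X), r • y = algebraMap R S r • y := fun r y => rfl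
  constructor
  · rintro ⟨N, hN⟩
    obtain ⟨c, hc⟩ := Ideal.exists_pow_le_of_le_radical_of_fg
      (irrel_le_radical hf m hmsp m' hm'sp) (IsNoetherian.noetherian _)
    have key : ∀ s ∈ (m.toIdeal ^ N).map (algebraMap R S), s • x = 0 := by
      intro s h1
      rw [Ideal.map] at h1
      induction h1 using Submodule.span_induction with
      | mem s hs =>
        obtain ⟨r, hr, rfl⟩ := hs
        rw [← hsm]
        exact hN r hr
      | zero => exact zero_smul _ _
      | add s s' _ _ h h' => rw [add_smul, h, h', add_zero]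
      | smul a s _ h => rw [smul_eq_mul, mul_smul, h, smul_zero]
    refine ⟨c * N, fun s hs => key s ?_⟩
    rw [Ideal.map_pow]
    rw [pow_mul] at hs
    exact Ideal.pow_right_mono hc N hs
  · rintro ⟨N, hN⟩
    refine ⟨N, fun r hr => ?_⟩
    rw [hsm]
    apply hN
    have h1 : algebraMap R S r ∈ (m.toIdeal ^ N).map (algebraMap R S) :=
      Ideal.mem_map_of_mem _ hr
    rw [Ideal.map_pow] at h1
    exact Ideal.pow_right_mono (map_irrel_le hf m hmsp m' hm'sp) N h1

include hf hmsp hm'sp in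
theorem radical_eq [Module.Finite R S] :
    (m.toIdeal.map (algebraMap R S)).radical = m'.toIdeal.radical := by
  apply le_antisymm
  · exact Ideal.radical_mono (map_irrel_le hf m hmsp m' hm'sp)
  · have := Ideal.radical_mono (irrel_le_radical hf m hmsp m' hm'sp)
    rwa [Ideal.radical_idem] at this

include hf hmsp hm'sp in
/-- a *injective graded `S`-module is acyclic for the graded local cohomology over `R` -/
theorem acyc_res [IsNoetherianRing R] [IsNoetherianRing S] [Module.Finite R S]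
    (X : GrLC.GMod.{u} 𝒜') (hX : GrLC.IsStarInj 𝒜' X.gr)
    (G : GrLC.StarInjRes 𝒜 (resGMod hf X).gr) (p : ℕ) : Subsingleton (G.H m (p + 1)) := by
  obtain ⟨e⟩ := Gr.nonempty_H_equiv 𝒜 (resGMod hf X).gr G m (p + 1)
  suffices h : Subsingleton (LocCoh.H m.toIdeal (p + 1) (resGMod hf X).carrier) from
    e.toEquiv.subsingleton
  have h1 : Subsingleton (LocCoh.H m'.toIdeal (p + 1) X.carrier) :=
    lc_subsingleton_of_starInj 𝒜' X.gr hX m' p
  have i1 := (localCohomology.isoOfSameRadical (radical_eq hf m hmsp m' hm'sp) (p + 1)).app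
    (ModuleCat.of S X.carrier)
  have h2 : Subsingleton ((localCohomology (m.toIdeal.map (algebraMap R S)) (p + 1)).obj
      (ModuleCat.of S X.carrier)) := i1.toLinearEquiv.toEquiv.subsingleton
  have i2 := (Groth.Agent.H8.LC.baseIndepIso S m.toIdeal (p + 1)).app (ModuleCat.of S X.carrier)
  haveI h2' : Subsingleton ↑((localCohomology (m.toIdeal.map (algebraMap R S)) (p + 1) ⋙
      Groth.Agent.H8.LC.resF (R := R) S).obj (ModuleCat.of S X.carrier)) := h2
  have h3 : Subsingleton ((localCohomology m.toIdeal (p + 1)).obj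
      ((Groth.Agent.H8.LC.resF (R := R) S).obj (ModuleCat.of S X.carrier))) :=
    i2.symm.toLinearEquiv.toEquiv.subsingleton
  exact h3

end Radical

section Acyc

variable (m : HomogeneousIdeal 𝒜)
  (hmsp : m.toIdeal = Ideal.span (⋃ n ∈ Set.Ioi (0 : ℤ), (𝒜 n : Set R)))
  (m' : HomogeneousIdeal 𝒜')
  (hm'sp : m'.toIdeal = Ideal.span (⋃ j ∈ Set.Ioi (0 : ℤ), (𝒜' j : Set S)))
variable [IsNoetherianRing R] [IsNoetherianRing S] [Module.Finite R S]
  [SetLike.GradedSMul 𝒜 𝒜']

/-- a *injective resolution of `S` over `S`, viewed over `R`, is a resolution by acyclic graded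
`R`-modules -/
noncomputable def acycRes (I' : GrLC.StarInjRes 𝒜' 𝒜') : GrAcycRes 𝒜 𝒜' m where
  X n := resGMod hf (I'.X n)
  d n :=
    { toFun := I'.d n
      map_add' := map_add (I'.d n)
      map_smul' := fun r (x : (I'.X n).carrier) => map_smul (I'.d n) (algebraMap R S r) x }
  ε :=
    { toFun := I'.ε
      map_add' := map_add I'.ε
      map_smul' := fun r s => by
        change I'.ε (r • s) = algebraMap R S r • I'.ε s
        rw [Algebra.smul_def, ← smul_eq_mul, map_smul] }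
  d_grHom n := I'.d_grHom n
  ε_grHom := I'.ε_grHom
  ε_injective := I'.ε_injective
  exact_zero := by
    ext x
    have h := I'.exact_zero
    constructor
    · intro hx
      have h1 : x ∈ LinearMap.ker (I'.d 0) := hx
      rw [h] at h1
      obtain ⟨s, hs⟩ := h1
      exact ⟨s, hs⟩
    · rintro ⟨s, hs⟩
      have h1 : x ∈ LinearMap.range I'.ε := ⟨s, hs⟩
      rw [← h] at h1
      exact h1
  exact_succ n := by
    ext x
    have h := I'.exact_succ n
    constructor
    · intro hx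
      have h1 : x ∈ LinearMap.ker (I'.d (n + 1)) := hx
      rw [h] at h1
      obtain ⟨s, hs⟩ := h1
      exact ⟨s, hs⟩
    · rintro ⟨s, hs⟩
      have h1 : x ∈ LinearMap.range (I'.d n) := ⟨s, hs⟩
      rw [← h] at h1
      exact h1
  acyclic n G p := acyc_res hf m hmsp m' hm'sp (I'.X n) (I'.starInj n) G p

include hf hmsp hm'sp in
theorem mem_cocyc_iff (I' : GrLC.StarInjRes 𝒜' 𝒜') (i : ℕ) (z : (I'.X i).carrier) :
    z ∈ (acycRes hf m hmsp m' hm'sp I').cocyc i ↔ z ∈ I'.cocyc m' i := by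
  change (z ∈ GrLC.gam m.toIdeal (resGMod hf (I'.X i)).carrier ∧ I'.d i z = 0) ↔
    (z ∈ GrLC.gam m'.toIdeal (I'.X i).carrier ∧ I'.d i z = 0)
  rw [← mem_gam_iff hf m hmsp m' hm'sp (I'.X i).carrier z]
  rfl

include hf hmsp hm'sp in
theorem mem_cobdy_iff (I' : GrLC.StarInjRes 𝒜' 𝒜') (i : ℕ) (z : (I'.X i).carrier) :
    z ∈ (acycRes hf m hmsp m' hm'sp I').cobdy i ↔ z ∈ I'.cobdy m' i := by
  cases i with
  | zero => exact Iff.rfl
  | succ i =>
    change (∃ w, w ∈ GrLC.gam m.toIdeal (resGMod hf (I'.X i)).carrier ∧ I'.d i w = z) ↔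
      (∃ w, w ∈ GrLC.gam m'.toIdeal (I'.X i).carrier ∧ I'.d i w = z)
    constructor
    · rintro ⟨w, hw, rfl⟩
      exact ⟨w, (mem_gam_iff hf m hmsp m' hm'sp (I'.X i).carrier w).mp hw, rfl⟩
    · rintro ⟨w, hw, rfl⟩
      exact ⟨w, (mem_gam_iff hf m hmsp m' hm'sp (I'.X i).carrier w).mpr hw, rfl⟩

include hf hmsp hm'sp in
/-- **independence of the base for graded local cohomology** -/
theorem exists_baseIndep (ES : GrLC.StarInjRes 𝒜 𝒜') (I' : GrLC.StarInjRes 𝒜' 𝒜') (i : ℕ) :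
    ∃ β : ES.H m i → I'.H m' i, Function.Bijective β ∧ (∀ y y', β (y + y') = β y + β y') ∧
      (∀ (r : R) y, β (r • y) = algebraMap R S r • β y) ∧
      ∀ g y, y ∈ ES.Hgr m i g ↔ β y ∈ I'.Hgr m' i g := by
  set A := acycRes hf m hmsp m' hm'sp I' with hA
  obtain ⟨Φ, hΦsurj, hΦker, hΦgr, hΦgr'⟩ := A.hasComparison ES i
  let v : ↥(A.cocyc i) → (I'.X i).carrier := fun z => z.1
  have hcoc : ∀ z : ↥(A.cocyc i), v z ∈ I'.cocyc m' i := fun z =>
    (mem_cocyc_iff hf m hmsp m' hm'sp I' i (v z)).mp z.2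
  let Ψ : ↥(A.cocyc i) → I'.H m' i := fun z => I'.toH m' i ⟨v z, hcoc z⟩
  have hΨadd : ∀ z z', Ψ (z + z') = Ψ z + Ψ z' := by
    intro z z'
    change I'.toH m' i _ = I'.toH m' i _ + I'.toH m' i _
    rw [← map_add]
    rfl
  have hΨsmul : ∀ (r : R) z, Ψ (r • z) = algebraMap R S r • Ψ z := by
    intro r z
    change I'.toH m' i _ = algebraMap R S r • I'.toH m' i _
    rw [← map_smul]
    rfl
  have hΨzero : ∀ z, Ψ z = 0 ↔ Φ z = 0 := by
    intro z
    change I'.toH m' i _ = 0 ↔ _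
    rw [toH_eq_zero_iff, ← LinearMap.mem_ker, hΦker]
    exact (mem_cobdy_iff hf m hmsp m' hm'sp I' i (v z)).symm
  have hΨsub : ∀ z z', Φ z = Φ z' → Ψ z = Ψ z' := by
    intro z z' h
    have h1 : Φ (z - z') = 0 := by rw [map_sub, h, sub_self]
    have h2 := (hΨzero (z - z')).mpr h1
    have h3 : Ψ (z - z' + z') = Ψ (z - z') + Ψ z' := hΨadd _ _
    rw [sub_add_cancel, h2, zero_add] at h3
    exact h3
  let β : ES.H m i → I'.H m' i := fun y => Ψ (Function.surjInv hΦsurj y)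
  have hβΦ : ∀ z, β (Φ z) = Ψ z := fun z => hΨsub _ _ (Function.surjInv_eq hΦsurj (Φ z))
  have hβinj : Function.Injective β := by
    intro y y' h
    obtain ⟨z, rfl⟩ := hΦsurj y
    obtain ⟨z', rfl⟩ := hΦsurj y'
    rw [hβΦ, hβΦ] at h
    have h1 : Ψ (z - z' + z') = Ψ (z - z') + Ψ z' := hΨadd _ _
    rw [sub_add_cancel, h] at h1
    have h2 : Ψ (z - z') = 0 := by
      have := h1
      exact (add_eq_right.mp this.symm)
    have h3 := (hΨzero _).mp h2
    rw [map_sub] at h3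
    exact sub_eq_zero.mp h3
  refine ⟨β, ⟨hβinj, ?_⟩, ?_, ?_, ?_⟩
  · intro x
    obtain ⟨z', rfl⟩ := toH_surjective I' m' i x
    have hz : (z' : (I'.X i).carrier) ∈ A.cocyc i :=
      (mem_cocyc_iff hf m hmsp m' hm'sp I' i z'.1).mpr z'.2
    exact ⟨Φ ⟨z'.1, hz⟩, hβΦ _⟩
  · intro y y'
    obtain ⟨z, rfl⟩ := hΦsurj y
    obtain ⟨z', rfl⟩ := hΦsurj y'
    rw [← map_add, hβΦ, hβΦ, hβΦ, hΨadd]
  · intro r y
    obtain ⟨z, rfl⟩ := hΦsurj y
    rw [← map_smul, hβΦ, hβΦ, hΨsmul]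
  · intro g y
    constructor
    · intro hy
      obtain ⟨z, hz, rfl⟩ := hΦgr' g y hy
      rw [hβΦ]
      exact ⟨⟨v z, hcoc z⟩, hz, rfl⟩
    · rintro ⟨z', hz', hz'β⟩
      have hz : (z' : (I'.X i).carrier) ∈ A.cocyc i :=
        (mem_cocyc_iff hf m hmsp m' hm'sp I' i z'.1).mpr z'.2
      have h1 : β (Φ ⟨z'.1, hz⟩) = β y := by
        rw [hβΦ]
        exact hz'β
      rw [← hβinj h1]
      exact hΦgr g ⟨z'.1, hz⟩ hz'

end Acyc

end GrBI

end Groth.Agent.H6
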