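import Groth.Agent.Lib.Helper6.GrLD4
import Groth.Agent.Lib.Helper6.GrEW5
import Groth.Agent.Lib.Helper6.GrLD3

/-! The canonical module of a finite graded algebra over a Cohen–Macaulay graded ring:
`K_S ≅ Ext^t_R(S, K_R)`. -/

universe u
open DirectSum CategoryTheory CategoryTheory.Abelian
set_option linter.unusedSectionVars false

namespace Groth.Agent.H6

namespace GrBI

open Gr GDual

section Transport

variable {R : Type u} [CommRing R] {𝒜 : ℤ → AddSubgroup R} [GradedRing 𝒜]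
variable {S : Type u} [CommRing S] [Nontrivial S] [Algebra R S] {𝒜' : ℤ → AddSubgroup S}
  [GradedRing 𝒜']
variable (hf : ∀ j : ℤ, (𝒜 j).map (algebraMap R S : R →+ S) ≤ 𝒜' j)
  (hf0 : (𝒜 0).map (algebraMap R S : R →+ S) = 𝒜' 0) (h0 : IsField (GrLC.deg0 𝒜))
variable {X : Type u} [AddCommGroup X] [Module S X] [Module R X] [IsScalarTower R S X]
  {𝒳 : ℤ → AddSubgroup X}
variable {N' : Type u} [AddCommGroup N'] [Module S N'] {𝒩' : ℤ → AddSubgroup N'}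
variable {N : Type u} [AddCommGroup N] [Module R N] {𝒩 : ℤ → AddSubgroup N}

include h0 in
theorem algebraMap_injOn {r : R} (hr : r ∈ 𝒜 0) (h : algebraMap R S r = 0) : r = 0 := by
  by_contra hne
  have hne' : (⟨r, hr⟩ : GrLC.deg0 𝒜) ≠ 0 := fun h' => hne (congrArg Subtype.val h')
  obtain ⟨b, hb⟩ := h0.mul_inv_cancel hne'
  have h1 : r * (b : R) = 1 := congrArg Subtype.val hb
  have h2 := congrArg (algebraMap R S) h1
  rw [map_mul, h, zero_mul, map_one] at h2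
  exact zero_ne_one h2

include hf hf0 h0 in
/-- **restriction of a graded perfect pairing** along a degree-preserving ring homomorphism
which is bijective in degree zero -/
theorem exists_gpair_restrict {τ' : X → N' → S} (hτ' : GPair 𝒜' 𝒳 𝒩' τ')
    (β : N → N') (hβ : Function.Bijective β) (hβadd : ∀ y y', β (y + y') = β y + β y')
    (hβsmul : ∀ (r : R) y, β (r • y) = algebraMap R S r • β y)
    (hβgr : ∀ g y, y ∈ 𝒩 g ↔ β y ∈ 𝒩' g) :
    ∃ τ : X → N → R, GPair 𝒜 𝒳 𝒩 τ := by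
  classical
  have hex : ∀ s ∈ 𝒜' 0, ∃ r ∈ 𝒜 0, algebraMap R S r = s := by
    intro s hs
    rw [← hf0] at hs
    obtain ⟨r, hr, rfl⟩ := hs
    exact ⟨r, hr, rfl⟩
  let ρ : S → R := fun s => if h : ∃ r ∈ 𝒜 0, algebraMap R S r = s then h.choose else 0
  have hρmem : ∀ s, ρ s ∈ 𝒜 0 := by
    intro s
    by_cases h : ∃ r ∈ 𝒜 0, algebraMap R S r = s
    · simp only [ρ, dif_pos h]
      exact h.choose_spec.1
    · simp only [ρ, dif_neg h]
      exact zero_mem _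
  have hρspec : ∀ s ∈ 𝒜' 0, algebraMap R S (ρ s) = s := by
    intro s hs
    have h := hex s hs
    simp only [ρ, dif_pos h]
    exact h.choose_spec.2
  have hinj : ∀ r r', r ∈ 𝒜 0 → r' ∈ 𝒜 0 → algebraMap R S r = algebraMap R S r' → r = r' := by
    intro r r' hr hr' h
    have h1 : algebraMap R S (r - r') = 0 := by rw [map_sub, h, sub_self]
    exact sub_eq_zero.mp (algebraMap_injOn h0 (sub_mem hr hr') h1)
  have hρf : ∀ r ∈ 𝒜 0, ρ (algebraMap R S r) = r := by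
    intro r hr
    exact hinj _ _ (hρmem _) hr (hρspec _ (algebraMap_mem hf hr))
  have hρadd : ∀ s s', s ∈ 𝒜' 0 → s' ∈ 𝒜' 0 → ρ (s + s') = ρ s + ρ s' := by
    intro s s' hs hs'
    apply hinj _ _ (hρmem _) (add_mem (hρmem _) (hρmem _))
    rw [map_add, hρspec s hs, hρspec s' hs', hρspec _ (add_mem hs hs')]
  have hρmul : ∀ c ∈ 𝒜 0, ∀ s ∈ 𝒜' 0, ρ (algebraMap R S c * s) = c * ρ s := by
    intro c hc s hs
    have hcs : algebraMap R S c * s ∈ 𝒜' 0 := by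
      have := SetLike.GradedMul.mul_mem (algebraMap_mem hf hc) hs
      rwa [add_zero] at this
    have hcρ : c * ρ s ∈ 𝒜 0 := by
      have := SetLike.GradedMul.mul_mem hc (hρmem s)
      rwa [add_zero] at this
    apply hinj _ _ (hρmem _) hcρ
    rw [map_mul, hρspec s hs, hρspec _ hcs]
  let βe : N ≃+ N' := AddEquiv.ofBijective (AddMonoidHom.mk' β hβadd) hβ
  have hβe : ∀ y, βe y = β y := fun y => rfl
  refine ⟨fun x y => ρ (τ' x (β y)), ⟨⟨fun x y => hρmem _, fun x x' y => ?_, fun x y y' => ?_,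
    fun r x y => ?_, fun c hc x y => ?_, fun j x hx h => ?_, fun j l hl0 hls => ?_⟩,
    fun i j x y hx hy hij => ?_⟩⟩
  · change ρ (τ' (x + x') (β y)) = _
    rw [hτ'.perf.add_left, hρadd _ _ (hτ'.perf.mem0 _ _) (hτ'.perf.mem0 _ _)]
  · change ρ (τ' x (β (y + y'))) = _
    rw [hβadd, hτ'.perf.add_right, hρadd _ _ (hτ'.perf.mem0 _ _) (hτ'.perf.mem0 _ _)]
  · change ρ (τ' (r • x) (β y)) = ρ (τ' x (β (r • y)))
    rw [hβsmul, ← algebraMap_smul S r x, hτ'.perf.bal]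
  · change ρ (τ' (c • x) (β y)) = c * ρ (τ' x (β y))
    rw [← algebraMap_smul S c x, hτ'.perf.smul0 _ (algebraMap_mem hf hc),
      hρmul c hc _ (hτ'.perf.mem0 _ _)]
  · apply hτ'.perf.nondeg j x hx
    intro y' hy'
    obtain ⟨y, rfl⟩ := hβ.2 y'
    have h1 := h y ((hβgr _ y).mpr hy')
    have h2 : ρ (τ' x (β y)) = 0 := h1
    rw [← hρspec _ (hτ'.perf.mem0 x (β y)), h2, map_zero]
  · let l' : N' →+ S := (algebraMap R S : R →+ S).comp (l.comp βe.symm.toAddMonoidHom)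
    have hl' : ∀ y, l' (β y) = algebraMap R S (l y) := by
      intro y
      change algebraMap R S (l (βe.symm (β y))) = _
      rw [← hβe, βe.symm_apply_apply]
    obtain ⟨x, hx, hxl⟩ := hτ'.perf.repr j l'
      (by
        intro y' hy'
        obtain ⟨y, rfl⟩ := hβ.2 y'
        rw [hl']
        exact algebraMap_mem hf (hl0 y ((hβgr _ y).mpr hy')))
      (by
        intro c' hc' y' hy'
        obtain ⟨y, rfl⟩ := hβ.2 y'
        have hy : y ∈ 𝒩 (-j) := (hβgr _ y).mpr hy'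
        rw [← hρspec c' hc', ← hβsmul, hl', hl', hls _ (hρmem c') y hy, map_mul])
    refine ⟨x, hx, fun y hy => ?_⟩
    change ρ (τ' x (β y)) = l y
    rw [hxl (β y) ((hβgr _ y).mp hy), hl', hρf _ (hl0 y hy)]
  · change ρ (τ' x (β y)) = 0
    rw [hτ'.orth i j x (β y) hx ((hβgr _ y).mp hy) hij]
    have := hρf 0 (zero_mem _)
    rwa [map_zero] at this

end Transport

section Final

open GrLD

theorem ringKrullDim_le_of_finite (R S : Type u) [CommRing R] [CommRing S] [Algebra R S]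
    [Module.Finite R S] : ringKrullDim S ≤ ringKrullDim R := by
  haveI : Algebra.IsIntegral R S := Algebra.IsIntegral.of_finite R S
  apply Order.krullDim_le_of_strictMono (PrimeSpectrum.comap (algebraMap R S))
  intro p q hpq
  exact Ideal.IsIntegral.comap_lt_comap hpq

theorem canonical_finite (R : Type u) [CommRing R] [LocCoh.IsCohenMacaulayRing R] (𝒜 : ℤ → AddSubgroup R) [GradedRing 𝒜] (hpos : ∀ n : ℤ, n < 0 → 𝒜 n = ⊥) (h0 : IsField (GrLC.deg0 𝒜)) (m : HomogeneousIdeal 𝒜) (hmsp : m.toIdeal = Ideal.span (⋃ n ∈ Set.Ioi (0 : ℤ), (𝒜 n : Set R))) (n : ℕ) (hn : ringKrullDim R = n) (I : GrLC.StarInjRes 𝒜 𝒜) (E' : Type u) [AddCommGroup E'] [Module R E'] (𝓔 : ℤ → AddSubgroup E') [DirectSum.Decomposition 𝓔] [SetLike.GradedSMul 𝒜 𝓔] (e : (R ⧸ m.toIdeal) →ₗ[R] E') (he : GrLC.IsStarInjHull 𝒜 (GrLC.quotGr 𝒜 m) 𝓔 e) (C : Type u) [AddCommGroup C] [Module R C] (𝒞 : ℤ → AddSubgroup C) [DirectSum.Decomposition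 𝒞] [SetLike.GradedSMul 𝒜 𝒞] (hC : GrLC.IsStarCanonical 𝒜 𝒞 𝓔 m n I) (S : Type u) [CommRing S] [IsNoetherianRing S] [Algebra R S] [Module.Finite R S] (𝒜' : ℤ → AddSubgroup S) [GradedRing 𝒜'] (hf : ∀ j : ℤ, (𝒜 j).map (algebraMap R S : R →+ S) ≤ 𝒜' j) (hf0 : (𝒜 0).map (algebraMap R S : R →+ S) = 𝒜' 0) (hpos' : ∀ j : ℤ, j < 0 → 𝒜' j = ⊥) (h0' : IsField (GrLC.deg0 𝒜')) (m' : HomogeneousIdeal 𝒜') (hm'sp : m'.toIdeal = Ideal.span (⋃ j ∈ Set.Ioi (0 : ℤ), (𝒜' j : Set S))) (n' : ℕ) (hn' : ringKrullDim S = n') (I' : GrLC.StarInjRes 𝒜' 𝒜') (E'' : Type u) [AddCommGroup E''] [Module S E''] (𝓔'' : ℤ → AddSubgroup E'') [DirectSum.Decomposition 𝓔''] [SetLike.GradedSMul 𝒜' 𝓔''] (e' : (S ⧸ m'.toIdeal) →ₗ[S] E'') (he' : GrLC.IsStarInjHull 𝒜' (GrLC.quotGr 𝒜' m') 𝓔'' e') (C' : Type u) [AddCommGroup C'] [Module S C'] [Module R C'] [IsScalarTower R S C'] (𝒞' : ℤ → AddSubgroup C') [DirectSum.Decomposition 𝒞'] [SetLike.GradedSMul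 𝒜' 𝒞'] (hC' : GrLC.IsStarCanonical 𝒜' 𝒞' 𝓔'' m' n' I') : Nonempty (C' ≃ₗ[R] CategoryTheory.Abelian.Ext.{u} (ModuleCat.of R S) (ModuleCat.of R C) (n - n')) := by
  classical
  haveI : IsNoetherianRing R := inferInstance
  haveI : Nontrivial (GrLC.deg0 𝒜') := h0'.nontrivial
  haveI : Nontrivial S := by
    refine ⟨⟨0, 1, fun h => ?_⟩⟩
    have : (0 : GrLC.deg0 𝒜') = 1 := Subtype.ext h
    exact zero_ne_one this
  have hnn : n' ≤ n := by
    have h1 := ringKrullDim_le_of_finite R S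
    rw [hn, hn'] at h1
    exact_mod_cast h1
  -- the R side
  have S_R : GDual.Setting 𝒜 m 𝓔 e := ⟨hpos, h0, hmsp, he⟩
  letI : DirectSum.Decomposition (I.Hgr m n) := (isInternal_Hgr 𝒜 𝒜 I m n).chooseDecomposition
  haveI : SetLike.GradedSMul 𝒜 (I.Hgr m n) := Hgr_gradedSMul I m n
  obtain ⟨hfin, ψ, hψ⟩ := hC
  haveI := hfin
  have hτ := GPair.of_canonical S_R 𝒞 (I.Hgr m n) ψ hψ
  have hmax := GrCM.isMaximal_irrelevant 𝒜 hpos h0 m hmsp
  have hvan : ∀ (K : GrLC.GMod.{u} 𝒜) [Module.Finite R K.carrier]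
      (EK : GrLC.StarInjRes 𝒜 K.gr), Subsingleton (EK.H m (n + 1)) :=
    fun K _ EK => GrEW.subsingleton_H_succ_dim 𝒜 m hmax n hn K EK
  have hcm := subsingleton_H_of_cm I m hpos h0 hmsp n hn
  haveI : SetLike.GradedSMul 𝒜 𝒜' := self_gradedSMul hf
  let M : GrLC.GMod.{u} 𝒜 := GrLC.GMod.of 𝒜 S 𝒜'
  let ES : GrLC.StarInjRes 𝒜 𝒜' := Gr.starInjRes 𝒜 𝒜'
  haveI : Module.Finite R M.carrier := (inferInstance : Module.Finite R S)
  obtain ⟨G, ε, σ, hσ⟩ := dualAt h0 I m n hτ hvan hcm (n - n') n' (by omega) M ES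
  -- the S side
  have S_S : GDual.Setting 𝒜' m' 𝓔'' e' := ⟨hpos', h0', hm'sp, he'⟩
  letI : DirectSum.Decomposition (I'.Hgr m' n') :=
    (isInternal_Hgr 𝒜' 𝒜' I' m' n').chooseDecomposition
  haveI : SetLike.GradedSMul 𝒜' (I'.Hgr m' n') := Hgr_gradedSMul I' m' n'
  obtain ⟨hfin', ψ', hψ'⟩ := hC'
  haveI := hfin'
  have hτ' := GPair.of_canonical S_S 𝒞' (I'.Hgr m' n') ψ' hψ'
  obtain ⟨β, hβ, hβadd, hβsmul, hβgr⟩ := exists_baseIndep hf m hmsp m' hm'sp ES I' n'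
  obtain ⟨τ'', hτ''⟩ := exists_gpair_restrict hf hf0 h0 hτ' β hβ hβadd hβsmul hβgr
  haveI : SetLike.GradedSMul 𝒜 𝒞' := ⟨fun {i j r x} hr hx => by
    rw [vadd_eq_add, ← algebraMap_smul S r x]
    exact SetLike.GradedSMul.smul_mem (A := 𝒜') (B := 𝒞') (algebraMap_mem hf hr) hx⟩
  letI : DirectSum.Decomposition (ES.Hgr m n') :=
    (isInternal_Hgr 𝒜 𝒜' ES m n').chooseDecomposition
  haveI : SetLike.GradedSMul 𝒜 (ES.Hgr m n') := Hgr_gradedSMul ES m n'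
  obtain ⟨Ξ, -⟩ := GPair.nonempty_equiv hτ'' hσ
  exact ⟨Ξ.trans ε⟩

end Final

end GrBI

end Groth.Agent.H6
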