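import Groth.Agent.Lib.Helper6.GrIrr
import Groth.Agent.Lib.Helper6.GrDual1

/-! The number of generators of a graded module generated in its lowest degree. -/

universe u
open DirectSum TensorProduct
set_option linter.unusedSectionVars false

namespace Groth.Agent.H6

namespace GrNak

open Gr

variable {R : Type u} [CommRing R] (𝒜 : ℤ → AddSubgroup R) [GradedRing 𝒜]
variable (hpos : ∀ n : ℤ, n < 0 → 𝒜 n = ⊥) (m : HomogeneousIdeal 𝒜)
  (hmsp : m.toIdeal = Ideal.span (⋃ n ∈ Set.Ioi (0 : ℤ), (𝒜 n : Set R)))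
variable {P : Type u} [AddCommGroup P] [Module R P] (𝒬 : ℤ → AddSubgroup P)
  [DirectSum.Decomposition 𝒬] [SetLike.GradedSMul 𝒜 𝒬]

include hpos hmsp in
/-- the lowest component of an element of `m P` vanishes -/
theorem proj_low_eq_zero_of_mem_smul (n0 : ℤ) (hlow : ∀ n : ℤ, n < n0 → 𝒬 n = ⊥) {x : P}
    (hx : x ∈ m.toIdeal • (⊤ : Submodule R P)) : proj 𝒬 n0 x = 0 := by
  have S0 : ∀ r ∈ m.toIdeal, proj 𝒜 0 r = 0 := by
    intro r hr
    have hirr : m = irr 𝒜 := HomogeneousIdeal.toIdeal_injective hmsp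
    rw [hirr] at hr
    exact proj_zero_eq_zero_of_mem_irr 𝒜 hpos hr
  refine Submodule.smul_induction_on hx (fun r hr p _ => ?_) (fun x y hx hy => ?_)
  · have h1 : ∀ i : ℤ, i < n0 → proj 𝒬 i p = 0 := by
      intro i hi
      have := proj_mem 𝒬 i p
      rwa [hlow i hi, AddSubgroup.mem_bot] at this
    rw [(GDual.proj_smul_of_low 𝒜 hpos 𝒬 n0 p h1 r).2, S0 r hr, zero_smul]
  · rw [map_add, hx, hy, add_zero]

variable (h0 : IsField (GrLC.deg0 𝒜)) [hmax : m.toIdeal.IsMaximal]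

/-- the residue field as the degree zero part -/
def deg0ToQuot : GrLC.deg0 𝒜 →+* R ⧸ m.toIdeal :=
  (Ideal.Quotient.mk m.toIdeal).comp (GrLC.deg0 𝒜).subtype

include hpos hmsp in
theorem deg0ToQuot_bijective : Function.Bijective (deg0ToQuot 𝒜 m) := by
  constructor
  · rw [injective_iff_map_eq_zero]
    intro c hc
    have h1 : (c : R) ∈ m.toIdeal := Ideal.Quotient.eq_zero_iff_mem.mp hc
    have hirr : m = irr 𝒜 := HomogeneousIdeal.toIdeal_injective hmsp
    rw [hirr] at h1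
    have h2 := proj_zero_eq_zero_of_mem_irr 𝒜 hpos h1
    rw [proj_of_mem 𝒜 c.2] at h2
    exact Subtype.ext h2
  · intro y
    obtain ⟨r, rfl⟩ := Ideal.Quotient.mk_surjective y
    refine ⟨⟨proj 𝒜 0 r, proj_mem 𝒜 0 r⟩, ?_⟩
    change Ideal.Quotient.mk m.toIdeal (proj 𝒜 0 r) = Ideal.Quotient.mk m.toIdeal r
    rw [eq_comm, Ideal.Quotient.mk_eq_mk_iff_sub_mem]
    exact PolyCan.sub_proj_zero_mem 𝒜 hpos m hmsp r

include hpos hmsp in
/-- **graded Nakayama**: the minimal number of generators of a graded module which is generated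
by its lowest piece is the dimension of that piece -/
theorem finrank_tensor_eq (n0 : ℤ) (hlow : ∀ n : ℤ, n < n0 → 𝒬 n = ⊥)
    (hgen : ∀ n : ℤ, n0 < n → ∀ x ∈ 𝒬 n, x ∈ m.toIdeal • (⊤ : Submodule R P)) :
    Module.finrank (R ⧸ m.toIdeal) ((R ⧸ m.toIdeal) ⊗[R] P) =
      Module.finrank (GrLC.deg0 𝒜) ↥(GrLC.comp 𝒜 𝒬 n0) := by
  -- the map
  let j0 : ↥(GrLC.comp 𝒜 𝒬 n0) →+ (R ⧸ m.toIdeal) ⊗[R] P :=
    { toFun := fun x => (1 : R ⧸ m.toIdeal) ⊗ₜ[R] (x : P)
      map_zero' := by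
        change (1 : R ⧸ m.toIdeal) ⊗ₜ[R] (0 : P) = 0
        rw [TensorProduct.tmul_zero]
      map_add' := fun x y => by
        change (1 : R ⧸ m.toIdeal) ⊗ₜ[R] ((x : P) + (y : P)) = _
        rw [TensorProduct.tmul_add] }
  have hj0 : ∀ x, j0 x = (1 : R ⧸ m.toIdeal) ⊗ₜ[R] (x : P) := fun x => rfl
  have hker : ∀ p : P, (1 : R ⧸ m.toIdeal) ⊗ₜ[R] p = 0 ↔ p ∈ m.toIdeal • (⊤ : Submodule R P) := by
    intro p
    rw [← (TensorProduct.quotTensorEquivQuotSMul P m.toIdeal).map_eq_zero_iff,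
      TensorProduct.quotTensorEquivQuotSMul_mk_one_tmul, Submodule.Quotient.mk_eq_zero]
  have hinj : Function.Injective j0 := by
    rw [injective_iff_map_eq_zero]
    intro x hx
    rw [hj0, hker] at hx
    have h1 := proj_low_eq_zero_of_mem_smul 𝒜 hpos m hmsp 𝒬 n0 hlow hx
    rw [proj_of_mem 𝒬 x.2] at h1
    exact Subtype.ext h1
  have hdec : ∀ p : P, ∃ x : ↥(GrLC.comp 𝒜 𝒬 n0), p - (x : P) ∈ m.toIdeal • (⊤ : Submodule R P) := by
    intro p
    induction p using induction_on 𝒬 with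
    | zero => exact ⟨0, by change (0 : P) - (0 : P) ∈ _; rw [sub_self]; exact zero_mem _⟩
    | homogeneous i p hp =>
      rcases lt_trichotomy i n0 with hi | hi | hi
      · rw [hlow i hi, AddSubgroup.mem_bot] at hp
        exact ⟨0, by change p - (0 : P) ∈ _; rw [hp, sub_self]; exact zero_mem _⟩
      · subst hi
        exact ⟨⟨p, hp⟩, by rw [sub_self]; exact zero_mem _⟩
      · refine ⟨0, ?_⟩
        change p - (0 : P) ∈ _
        rw [sub_zero]
        exact hgen i hi p hp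
    | add p q hp hq =>
      obtain ⟨x, hx⟩ := hp
      obtain ⟨y, hy⟩ := hq
      refine ⟨x + y, ?_⟩
      have : p + q - ((x + y : ↥(GrLC.comp 𝒜 𝒬 n0)) : P) = (p - x) + (q - y) := by
        change p + q - ((x : P) + (y : P)) = _
        abel
      rw [this]
      exact add_mem hx hy
  have hsurj : Function.Surjective j0 := by
    intro z
    induction z using TensorProduct.induction_on with
    | zero => exact ⟨0, map_zero _⟩
    | tmul c p =>
      obtain ⟨r, rfl⟩ := Ideal.Quotient.mk_surjective c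
      obtain ⟨x, hx⟩ := hdec (r • p)
      refine ⟨x, ?_⟩
      rw [hj0]
      have h1 : (Ideal.Quotient.mk m.toIdeal r) ⊗ₜ[R] p = (1 : R ⧸ m.toIdeal) ⊗ₜ[R] (r • p) := by
        rw [TensorProduct.tmul_smul, TensorProduct.smul_tmul']
        congr 1
        rw [← Ideal.Quotient.algebraMap_eq, Algebra.smul_def, mul_one]
      rw [h1]
      have h2 := (hker _).mpr hx
      rw [TensorProduct.tmul_sub, sub_eq_zero] at h2
      exact h2.symm
    | add z w hz hw =>
      obtain ⟨x, hx⟩ := hz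
      obtain ⟨y, hy⟩ := hw
      exact ⟨x + y, by rw [map_add, hx, hy]⟩
  have hcomp : ∀ (c : GrLC.deg0 𝒜) (x : ↥(GrLC.comp 𝒜 𝒬 n0)),
      (AddEquiv.ofBijective j0 ⟨hinj, hsurj⟩) (c • x) =
        deg0ToQuot 𝒜 m c • (AddEquiv.ofBijective j0 ⟨hinj, hsurj⟩) x := by
    intro c x
    change (1 : R ⧸ m.toIdeal) ⊗ₜ[R] ((c : R) • (x : P)) =
      (Ideal.Quotient.mk m.toIdeal (c : R)) • ((1 : R ⧸ m.toIdeal) ⊗ₜ[R] (x : P))
    rw [TensorProduct.tmul_smul, TensorProduct.smul_tmul', TensorProduct.smul_tmul']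
    congr 1
  have := rank_eq_of_equiv_equiv (deg0ToQuot 𝒜 m) (AddEquiv.ofBijective j0 ⟨hinj, hsurj⟩)
    (deg0ToQuot_bijective 𝒜 hpos m hmsp) hcomp
  unfold Module.finrank
  rw [this]

end GrNak

end Groth.Agent.H6
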