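import Groth.Agent.Lib.Helper6.GrCMCrit3
import Groth.Agent.Lib.Helper6.GrAInv3
import Groth.Agent.Lib.Helper6.GrHilb
import Groth.Agent.Lib.Helper6.GrFinite

/-! Standard graded rings over a field: non-vanishing of the pieces of the ring and of its top
graded local cohomology. -/

universe u
set_option linter.unusedSectionVars false

namespace Groth.Agent.H6

namespace GrStd

open Gr

section Basic

variable {R : Type u} [CommRing R] (𝒜 : ℤ → AddSubgroup R) [GradedRing 𝒜]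
  (hpos : ∀ n : ℤ, n < 0 → 𝒜 n = ⊥) (h0 : IsField (GrLC.deg0 𝒜)) (m : HomogeneousIdeal 𝒜)
  (hmsp : m.toIdeal = Ideal.span (⋃ n ∈ Set.Ioi (0 : ℤ), (𝒜 n : Set R)))

/-- the ideal generated by the pieces of degree at least `N` -/
def filt (N : ℤ) : Ideal R := Ideal.span (⋃ n ∈ Set.Ici N, (𝒜 n : Set R))

theorem filt_mul_le (a b : ℤ) : filt 𝒜 a * filt 𝒜 b ≤ filt 𝒜 (a + b) := by
  rw [filt, filt, Ideal.span_mul_span]
  apply Ideal.span_le.mpr
  rintro z ⟨x, hx, y, hy, rfl⟩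
  simp only [Set.mem_iUnion, Set.mem_Ici, SetLike.mem_coe] at hx hy
  obtain ⟨n, hn, hxn⟩ := hx
  obtain ⟨n', hn', hyn⟩ := hy
  apply Ideal.subset_span
  simp only [Set.mem_iUnion, Set.mem_Ici, SetLike.mem_coe]
  exact ⟨n + n', by omega, SetLike.GradedMul.mul_mem hxn hyn⟩

include hmsp in
theorem irrelevant_eq_filt : m.toIdeal = filt 𝒜 1 := by
  rw [hmsp, filt]
  congr 1

include hmsp in
theorem pow_irrelevant_le (N : ℕ) (hN : 1 ≤ N) : m.toIdeal ^ N ≤ filt 𝒜 N := by
  induction N, hN using Nat.le_induction with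
  | base => rw [pow_one, irrelevant_eq_filt 𝒜 m hmsp]; rfl
  | succ N hN ih =>
    rw [pow_succ]
    refine (Ideal.mul_mono ih (le_of_eq (irrelevant_eq_filt 𝒜 m hmsp))).trans ?_
    have := filt_mul_le 𝒜 N 1
    exact_mod_cast this

include hpos h0 hmsp in
theorem isCoatom_irrelevant : IsCoatom m := by
  have hmax := GrCM.isMaximal_irrelevant 𝒜 hpos h0 m hmsp
  constructor
  · intro h
    apply hmax.ne_top
    rw [h]
    rfl
  · intro J hJ
    by_contra hne
    have hne' : J.toIdeal ≠ ⊤ := by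
      intro h
      apply hne
      apply HomogeneousIdeal.toIdeal_injective
      rw [h]
      rfl
    have hle := Gr.le_irrelevant 𝒜 hpos h0 m.toIdeal hmsp J.toIdeal J.isHomogeneous hne'
    exact (not_le_of_gt hJ) hle

end Basic

section Std

variable {R : Type u} [CommRing R] [IsNoetherianRing R] (𝒜 : ℤ → AddSubgroup R) [GradedRing 𝒜]
  (hpos : ∀ n : ℤ, n < 0 → 𝒜 n = ⊥) (h0 : IsField (GrLC.deg0 𝒜)) (m : HomogeneousIdeal 𝒜)
  (hmsp : m.toIdeal = Ideal.span (⋃ n ∈ Set.Ioi (0 : ℤ), (𝒜 n : Set R)))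
  (hstd : Ideal.span (⋃ n ∈ Set.Ioi (0 : ℤ), (𝒜 n : Set R)) =
    Ideal.span ((𝒜 1 : AddSubgroup R) : Set R))

include hstd in
theorem piece_succ_eq_bot (d : ℤ) (hd : 0 ≤ d) (h : 𝒜 d = ⊥) : 𝒜 (d + 1) = ⊥ := by
  rw [eq_bot_iff]
  intro r hr
  rw [AddSubgroup.mem_bot]
  refine Gr.induction_std 𝒜 hstd (d + 1) (by omega) (fun r => r = 0) rfl
    (fun x y hx hy => by
      change x + y = 0
      change x = 0 at hx
      change y = 0 at hy
      subst hx
      subst hy
      exact add_zero _) ?_ r hr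
  intro y _ w hw
  rw [add_sub_cancel_right, h, AddSubgroup.mem_bot] at hw
  rw [hw, zero_mul]

include hpos h0 hmsp hstd in
/-- the pieces of nonnegative degree of a standard graded ring of positive dimension are nonzero -/
theorem piece_ne_bot (r : ℕ) (hr : ringKrullDim R = r) (h1 : 1 ≤ r) (d : ℤ) (hd : 0 ≤ d) :
    𝒜 d ≠ ⊥ := by
  intro hbot
  haveI hmax : m.toIdeal.IsMaximal := GrCM.isMaximal_irrelevant 𝒜 hpos h0 m hmsp
  have hall : ∀ j : ℕ, 𝒜 (d + j) = ⊥ := by
    intro j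
    induction j with
    | zero => simpa using hbot
    | succ j ih =>
      have := piece_succ_eq_bot 𝒜 hstd (d + j) (by omega) ih
      rw [add_assoc] at this
      exact_mod_cast this
  obtain ⟨N, hN, hN1⟩ : ∃ N : ℕ, d ≤ N ∧ 1 ≤ N := ⟨d.toNat + 1, by omega, by omega⟩
  have hfilt : filt 𝒜 (N : ℤ) = ⊥ := by
    rw [filt, Ideal.span_eq_bot]
    intro x hx
    simp only [Set.mem_iUnion, Set.mem_Ici, SetLike.mem_coe] at hx
    obtain ⟨n, hn, hxn⟩ := hx
    have := hall (n - d).toNat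
    rw [Int.toNat_of_nonneg (by omega), add_sub_cancel] at this
    rw [this, AddSubgroup.mem_bot] at hxn
    exact hxn
  have hpow : m.toIdeal ^ N = ⊥ := by
    rw [eq_bot_iff]
    exact (pow_irrelevant_le 𝒜 m hmsp N hN1).trans (le_of_eq hfilt)
  have htor : ∀ x : R, x ∈ GrLC.gam m.toIdeal R := by
    intro x
    refine ⟨N, fun t ht => ?_⟩
    rw [hpow, Ideal.mem_bot] at ht
    rw [ht, zero_smul]
  have hh : m.toIdeal.height = r :=
    Gr.height_irrelevant 𝒜 hpos h0 m.toIdeal hmsp r hr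
  have hnt := MaxLoc.nontrivial_top m.toIdeal r hh
  obtain ⟨j, rfl⟩ : ∃ j, r = j + 1 := ⟨r - 1, by omega⟩
  obtain ⟨e⟩ := Gr.nonempty_H_equiv 𝒜 𝒜 (Gr.starInjRes 𝒜 𝒜) m (j + 1)
  obtain ⟨y, hy⟩ := exists_ne (0 : LocCoh.H m.toIdeal (j + 1) R)
  apply hy
  have := Gr.H_eq_zero_of_torsion (Gr.starInjRes 𝒜 𝒜) m htor j (e.symm y)
  rw [← e.apply_symm_apply y, this, map_zero]

include hpos h0 hmsp hstd in
/-- the nonvanishing of the pieces of the top local cohomology of a standard graded ring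
propagates downwards -/
theorem Hcomp_ne_bot_of_le (r : ℕ) (hr : ringKrullDim R = r) (h1 : 1 ≤ r)
    (I : GrLC.StarInjRes 𝒜 𝒜) (n n' : ℤ) (hnn : n' ≤ n) (hn : I.Hcomp m r n ≠ ⊥) :
    I.Hcomp m r n' ≠ ⊥ := by
  intro hbot
  have hm := isCoatom_irrelevant 𝒜 hpos h0 m hmsp
  have hdiv := AInv.graded_smul_top_eq_top hpos m hm r h1 (le_of_eq hr) I
  have h0' : I.Hgr m r n' = ⊥ := by
    change (I.Hcomp m r n').toAddSubgroup = ⊥
    rw [hbot]
    rfl
  have hall : ∀ j : ℕ, I.Hgr m r (n' + j) = ⊥ := by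
    intro j
    induction j with
    | zero => simpa using h0'
    | succ j ih =>
      have := AInv.piece_succ_eq_bot m (hmsp.trans hstd) r I hdiv (n' + j) ih
      rw [add_assoc] at this
      exact_mod_cast this
  apply hn
  have := hall (n - n').toNat
  rw [Int.toNat_of_nonneg (by omega), add_sub_cancel] at this
  rw [Submodule.eq_bot_iff]
  intro x hx
  have hx' : x ∈ I.Hgr m r n := hx
  rw [this, AddSubgroup.mem_bot] at hx'
  exact hx'

end Std

end GrStd

end Groth.Agent.H6
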