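import Groth.Agent.Lib.Helper6.GrAInv
import Groth.Agent.Lib.Helper6.GrHilb
import Groth.Agent.Lib.Helper6.GrRegVanish
import Groth.Agent.Lib.Helper6.GrAcyc
import Groth.Agent.Lib.Helper6.GrLCCompare
import Groth.Agent.Lib.Helper6.GrStd

/-! Standard graded rings of dimension one and depth one over a field: negative a-invariant means
that the ring is generated by one element of degree one. -/

universe u
open DirectSum Pointwise
set_option linter.unusedSectionVars false

namespace Groth.Agent.H6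

namespace GrPoly

open Gr

variable {R : Type u} [CommRing R] (𝒜 : ℤ → AddSubgroup R) [GradedRing 𝒜] [IsNoetherianRing R]
  (hpos : ∀ n : ℤ, n < 0 → 𝒜 n = ⊥) (h0 : IsField (GrLC.deg0 𝒜)) (m : HomogeneousIdeal 𝒜)
  (hm : m.toIdeal = Ideal.span (⋃ n ∈ Set.Ioi (0 : ℤ), (𝒜 n : Set R)))
  (hstd : Ideal.span (⋃ n ∈ Set.Ioi (0 : ℤ), (𝒜 n : Set R)) =
    Ideal.span ((𝒜 1 : AddSubgroup R) : Set R))

/-- the range of multiplication by a homogeneous element is homogeneous -/
theorem range_smul_isHomogeneous {e : ℤ} {y : R} (hy : y ∈ 𝒜 e) :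
    (LinearMap.range (y • (LinearMap.id : R →ₗ[R] R))).IsHomogeneous 𝒜 := by
  intro i r hr
  obtain ⟨s, rfl⟩ := hr
  refine ⟨proj 𝒜 (i - e) s, ?_⟩
  change y • proj 𝒜 (i - e) s = (DirectSum.decompose 𝒜 (y • s) i : R)
  exact (proj_smul_of_mem' 𝒜 𝒜 hy i s).symm

include hpos h0 hm hstd in
/-- if `dim R = 1`, `H^0 = 0` and `H^1` vanishes in nonnegative degrees, then `R_1` is spanned by
one element -/
theorem isCyc_one_of_ainv_neg (I : GrLC.StarInjRes 𝒜 𝒜) (hdim : ringKrullDim R = 1)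
    (hH0 : Subsingleton (I.H m 0)) (hneg : I.Hcomp m 1 0 = ⊥) : IsCyc 𝒜 1 := by
  classical
  -- depth one
  have hgam : GrLC.gam m.toIdeal R = ⊥ := by
    rw [eq_bot_iff]
    intro z hz
    have h1 : γ I m ⟨z, hz⟩ = γ I m 0 := Subsingleton.elim _ _
    have h2 := γ_injective I m h1
    exact congrArg Subtype.val h2
  rw [hm] at hgam
  obtain ⟨e, y, he, hy, -, hreg⟩ := exists_homogeneous_regular 𝒜 (N := R)
    (⋃ n ∈ Set.Ioi (0 : ℤ), (𝒜 n : Set R)) (fun x hx => by
      simp only [Set.mem_iUnion, Set.mem_Ioi, SetLike.mem_coe] at hx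
      obtain ⟨i, hi, hxi⟩ := hx
      exact ⟨i, hi, hxi⟩) hgam
  have hreg' : IsSMulRegular R y := fun a b hab => by
    have : y • (a - b) = 0 := by
      rw [smul_sub]
      exact sub_eq_zero.mpr hab
    exact sub_eq_zero.mp (hreg _ this)
  obtain ⟨Qm, q, hqs, hqk, hqg⟩ := exists_gmod_quot 𝒜 𝒜
    (LinearMap.range (y • (LinearMap.id : R →ₗ[R] R))) (range_smul_isHomogeneous 𝒜 hy)
  letI := Qm.acg
  letI := Qm.mod
  letI := Qm.dec
  letI := Qm.gsmul
  let F : GrLC.StarInjRes 𝒜 Qm.gr := Gr.starInjRes 𝒜 Qm.gr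
  have hles := (AInv.les_facts m I F y e hy hreg' q hqs hqg hqk 0).2 hH0
  -- `H^0(R/yR)` vanishes in degree `e`
  have hF0 : F.Hgr m 0 e = ⊥ := by
    by_contra hne
    obtain ⟨w, hw, hw0, -⟩ := (hles e).mp hne
    rw [sub_self] at hw
    have : w ∈ I.Hcomp m 1 0 := hw
    rw [hneg, Submodule.mem_bot] at this
    exact hw0 this
  -- `R/yR` is torsion
  haveI : Module.Finite R Qm.carrier := Module.Finite.of_surjective q hqs
  have hdimQ : Module.supportDim R Qm.carrier ≤ 0 := by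
    have e1 : (R ⧸ LinearMap.ker q) ≃ₗ[R] Qm.carrier := q.quotKerEquivOfSurjective hqs
    rw [← Module.supportDim_eq_of_equiv e1, hqk]
    have hrange : LinearMap.range (y • (LinearMap.id : R →ₗ[R] R)) =
        y • (⊤ : Submodule R R) := by
      ext z
      rw [Submodule.mem_smul_pointwise_iff_exists]
      constructor
      · rintro ⟨w, rfl⟩; exact ⟨w, trivial, rfl⟩
      · rintro ⟨w, -, rfl⟩; exact ⟨w, rfl⟩
    rw [hrange]
    have h2 := Module.supportDim_quotSMulTop_succ_le_of_notMem_minimalPrimes (R := R) (M := R)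
      (x := y) (fun p hp hyp => by
        rw [Module.annihilator_eq_bot.mpr inferInstance] at hp
        have hd := Ideal.disjoint_nonZeroDivisors_of_mem_minimalPrimes hp
        rw [Set.disjoint_left] at hd
        apply hd hyp
        rw [SetLike.mem_coe, mem_nonZeroDivisors_iff_right]
        intro z hz
        exact hreg z (by rw [smul_eq_mul, mul_comm]; exact hz))
    rw [Module.supportDim_self_eq_ringKrullDim, hdim] at h2
    change Module.supportDim R (QuotSMulTop y R) ≤ 0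
    have h3 : Module.supportDim R (QuotSMulTop y R) + 1 ≤ ((1 : ℕ) : WithBot ℕ∞) := h2
    have h4 := LC.withBot_le_of_add_one_le _ 0 h3
    exact_mod_cast h4
  have hvan : ∀ i : ℕ, 1 ≤ i → Subsingleton (LocCoh.H m.toIdeal i Qm.carrier) := by
    intro i hi
    apply LC.subsingleton_of_supportDim_lt
    refine lt_of_le_of_lt hdimQ ?_
    exact_mod_cast hi
  have htors := RegVan.torsion_of_subsingleton hpos m hm Qm.gr hvan
  -- `R_e = R_0 y`
  have hcyc : IsCyc 𝒜 e := by
    refine ⟨y, hy, fun z hz => ?_⟩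
    have hqz : q z ∈ GrLC.gam m.toIdeal Qm.carrier := by
      change q z ∈ DRing.torsionSub m.toIdeal Qm.carrier
      rw [htors]
      trivial
    have h1 : γ F m ⟨q z, hqz⟩ ∈ F.Hgr m 0 e := γ_mem F m ⟨q z, hqz⟩ (hqg e z hz)
    rw [hF0, AddSubgroup.mem_bot] at h1
    have h2 : (⟨q z, hqz⟩ : GrLC.gam m.toIdeal Qm.carrier) = 0 :=
      γ_injective F m (h1.trans (map_zero _).symm)
    have h3 : q z = 0 := congrArg Subtype.val h2
    have h4 : z ∈ LinearMap.range (y • (LinearMap.id : R →ₗ[R] R)) := by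
      rw [← hqk]
      exact h3
    obtain ⟨s, hs⟩ := h4
    refine ⟨proj 𝒜 0 s, proj_mem 𝒜 0 s, ?_⟩
    have h5 : proj 𝒜 e (y • s) = y • proj 𝒜 (e - e) s := proj_smul_of_mem' 𝒜 𝒜 hy e s
    rw [sub_self] at h5
    have h6 : y • s = z := hs
    rw [h6, proj_of_mem 𝒜 hz] at h5
    rw [h5, smul_eq_mul, mul_comm]
  exact isCyc_one 𝒜 hstd h0 he hy (fun r hr => hreg r hr) e (by omega) hcyc

include hpos h0 hm hstd in
/-- if `R_1` is spanned by one regular element and `H^0 = 0` then `H^1` vanishes in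
nonnegative degrees -/
theorem Hcomp_one_eq_bot_of_isCyc (I : GrLC.StarInjRes 𝒜 𝒜) (hH0 : Subsingleton (I.H m 0))
    (x : R) (hx : x ∈ 𝒜 1) (hxreg : IsSMulRegular R x)
    (hgen : ∀ r ∈ 𝒜 1, ∃ c ∈ 𝒜 0, r = c * x) (n : ℤ) (hn : 0 ≤ n) : I.Hcomp m 1 n = ⊥ := by
  classical
  obtain ⟨Qm, q, hqs, hqk, hqg⟩ := exists_gmod_quot 𝒜 𝒜
    (LinearMap.range (x • (LinearMap.id : R →ₗ[R] R))) (range_smul_isHomogeneous 𝒜 hx)
  letI := Qm.acg
  letI := Qm.mod
  letI := Qm.dec
  letI := Qm.gsmul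
  let F : GrLC.StarInjRes 𝒜 Qm.gr := Gr.starInjRes 𝒜 Qm.gr
  have hles := (AInv.les_facts m I F x 1 hx hxreg q hqs hqg hqk 0).2 hH0
  -- pieces of positive degree die in the quotient
  have hq0 : ∀ s : ℤ, 1 ≤ s → ∀ r ∈ 𝒜 s, q r = 0 := by
    intro s hs
    apply induction_std 𝒜 hstd s hs (fun r => q r = 0) (map_zero q)
    · intro a b ha hb
      change q (a + b) = 0
      rw [map_add, ha, hb, add_zero]
    · intro y hy w _
      obtain ⟨c, -, rfl⟩ := hgen y hy
      change q (w * (c * x)) = 0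
      have : w * (c * x) ∈ LinearMap.ker q := by
        rw [hqk]
        exact ⟨w * c, by simp only [LinearMap.smul_apply, LinearMap.id_coe, id_eq, smul_eq_mul]; ring⟩
      exact this
  have hF0 : ∀ s : ℤ, 1 ≤ s → F.Hgr m 0 s = ⊥ := by
    intro s hs
    rw [AddSubgroup.eq_bot_iff_forall]
    intro u hu
    obtain ⟨g, hg, rfl⟩ := exists_γ_eq F m hu
    obtain ⟨r, hr⟩ := hqs g.1
    have h1 : q (proj 𝒜 s r) = g.1 := by
      rw [isGrHom_proj 𝒜 Qm.gr hqg, hr, proj_of_mem Qm.gr hg]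
    have h2 : g.1 = 0 := by
      rw [← h1]
      exact hq0 s hs _ (proj_mem 𝒜 s r)
    have h3 : g = 0 := Subtype.ext h2
    rw [h3, map_zero]
  have hcoatom := GrStd.isCoatom_irrelevant 𝒜 hpos h0 m hm
  obtain ⟨N, hN⟩ := exists_Hcomp_eq_bot_of_isCoatom hpos I m hcoatom 1
  have key : ∀ j : ℕ, ∀ n : ℤ, 0 ≤ n → N ≤ n + j → I.Hcomp m 1 n = ⊥ := by
    intro j
    induction j with
    | zero =>
      intro n _ hNn
      exact hN n (by simpa using hNn)
    | succ j ih =>
      intro n hn hNn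
      have h1 : I.Hcomp m 1 (n + 1) = ⊥ := ih (n + 1) (by omega) (by push_cast at hNn; omega)
      by_contra hne
      have hne' : I.Hgr m 1 n ≠ ⊥ := by
        intro h
        apply hne
        rw [eq_bot_iff]
        intro w hw
        have : w ∈ I.Hgr m 1 n := hw
        rw [h, AddSubgroup.mem_bot] at this
        rw [Submodule.mem_bot]
        exact this
      obtain ⟨w, hw, hw0⟩ := (AInv.ne_bot_iff_exists (I.Hgr m 1) n).mp hne'
      have hxw : x • w = 0 := by
        have h2 : x • w ∈ I.Hgr m 1 (1 + n) := smul_mem_Hgr I m 1 hx hw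
        rw [add_comm] at h2
        have h3 : x • w ∈ I.Hcomp m 1 (n + 1) := h2
        rw [h1, Submodule.mem_bot] at h3
        exact h3
      have h4 : F.Hgr m 0 (n + 1) ≠ ⊥ := by
        rw [hles (n + 1)]
        refine ⟨w, ?_, hw0, hxw⟩
        rw [add_sub_cancel_right]
        exact hw
      exact h4 (hF0 (n + 1) (by omega))
  exact key (N - n).toNat n hn (by have := Int.self_le_toNat (N - n); omega)

end GrPoly

end Groth.Agent.H6
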