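import Groth.Agent.Lib.Helper6.GrChain

/-! Binary products of graded modules. -/

universe u
open DirectSum
set_option linter.unusedSectionVars false

namespace Groth.Agent.H6

namespace Gr

variable {ι : Type} [AddCommGroup ι] [DecidableEq ι]
variable {R : Type u} [CommRing R] (𝒜 : ι → AddSubgroup R) [GradedRing 𝒜]

section Prod

variable (X Y : GrLC.GMod.{u} 𝒜)

/-- the pieces of the product -/
def prodGr (g : ι) : AddSubgroup (X.carrier × Y.carrier) := (X.gr g).prod (Y.gr g)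

variable {𝒜 X Y} in
theorem mem_prodGr {g : ι} {z : X.carrier × Y.carrier} :
    z ∈ prodGr 𝒜 X Y g ↔ z.1 ∈ X.gr g ∧ z.2 ∈ Y.gr g := Iff.rfl

theorem prod_isInternal : DirectSum.IsInternal (prodGr 𝒜 X Y) := by
  refine isInternal_of_proj (prodGr 𝒜 X Y)
    (fun g => AddMonoidHom.prodMap (proj X.gr g) (proj Y.gr g)) ?_ ?_ ?_
  · rintro g ⟨x, y⟩ ⟨hx, hy⟩
    change (proj X.gr g x, proj Y.gr g y) = (x, y)
    rw [proj_of_mem X.gr hx, proj_of_mem Y.gr hy]
  · rintro g h ⟨x, y⟩ ⟨hx, hy⟩ hne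
    change (proj X.gr h x, proj Y.gr h y) = 0
    rw [proj_of_mem_ne X.gr hx hne, proj_of_mem_ne Y.gr hy hne]
    rfl
  · rintro ⟨x, y⟩
    have h1 : ((x, 0) : X.carrier × Y.carrier) ∈ ⨆ g, prodGr 𝒜 X Y g := by
      obtain ⟨s, hs⟩ := exists_finset_sum_proj X.gr x
      have : ((x, 0) : X.carrier × Y.carrier) = ∑ g ∈ s, (proj X.gr g x, (0 : Y.carrier)) := by
        rw [← hs]
        apply Prod.ext
        · rw [Prod.fst_sum]
          simp only [hs]
        · rw [Prod.snd_sum]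
          simp
      rw [this]
      refine sum_mem fun g _ => ?_
      exact AddSubgroup.mem_iSup_of_mem g ⟨proj_mem X.gr g x, zero_mem _⟩
    have h2 : ((0, y) : X.carrier × Y.carrier) ∈ ⨆ g, prodGr 𝒜 X Y g := by
      obtain ⟨s, hs⟩ := exists_finset_sum_proj Y.gr y
      have : ((0, y) : X.carrier × Y.carrier) = ∑ g ∈ s, ((0 : X.carrier), proj Y.gr g y) := by
        rw [← hs]
        apply Prod.ext
        · rw [Prod.fst_sum]
          simp
        · rw [Prod.snd_sum]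
          simp only [hs]
      rw [this]
      refine sum_mem fun g _ => ?_
      exact AddSubgroup.mem_iSup_of_mem g ⟨zero_mem _, proj_mem Y.gr g y⟩
    have : ((x, y) : X.carrier × Y.carrier) = (x, 0) + (0, y) := by simp
    rw [this]
    exact add_mem h1 h2

@[instance_reducible]
noncomputable def prodDecomposition : DirectSum.Decomposition (prodGr 𝒜 X Y) :=
  (prod_isInternal 𝒜 X Y).chooseDecomposition

theorem prod_gradedSMul : SetLike.GradedSMul 𝒜 (prodGr 𝒜 X Y) where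
  smul_mem := by
    rintro i j r ⟨x, y⟩ hr ⟨hx, hy⟩
    exact ⟨SetLike.GradedSMul.smul_mem (A := 𝒜) (B := X.gr) hr hx,
      SetLike.GradedSMul.smul_mem (A := 𝒜) (B := Y.gr) hr hy⟩

/-- the product of two graded modules -/
noncomputable def GMod.prod : GrLC.GMod.{u} 𝒜 :=
  @GrLC.GMod.mk ι _ _ R _ _ _ _ 𝒜 _ (X.carrier × Y.carrier) _ _ (prodGr 𝒜 X Y)
    (prodDecomposition 𝒜 X Y) (prod_gradedSMul 𝒜 X Y)

theorem inl_isGrHom : GrLC.IsGrHom X.gr (GMod.prod 𝒜 X Y).gr (LinearMap.inl R X.carrier Y.carrier) :=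
  fun _ _ hx => ⟨hx, zero_mem _⟩

theorem inr_isGrHom : GrLC.IsGrHom Y.gr (GMod.prod 𝒜 X Y).gr (LinearMap.inr R X.carrier Y.carrier) :=
  fun _ _ hy => ⟨zero_mem _, hy⟩

theorem fst_isGrHom : GrLC.IsGrHom (GMod.prod 𝒜 X Y).gr X.gr (LinearMap.fst R X.carrier Y.carrier) :=
  fun _ _ hz => hz.1

theorem snd_isGrHom : GrLC.IsGrHom (GMod.prod 𝒜 X Y).gr Y.gr (LinearMap.snd R X.carrier Y.carrier) :=
  fun _ _ hz => hz.2

/-- a product of *injective modules is *injective -/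
theorem prod_starInj (hX : GrLC.IsStarInj 𝒜 X.gr) (hY : GrLC.IsStarInj 𝒜 Y.gr) :
    GrLC.IsStarInj 𝒜 (GMod.prod 𝒜 X Y).gr := by
  intro A B f hf hfinj g hg
  obtain ⟨h1, hh1, hh1f⟩ := hX A B f hf hfinj (LinearMap.fst R X.carrier Y.carrier ∘ₗ g)
    (fun k x hx => (hg k x hx).1)
  obtain ⟨h2, hh2, hh2f⟩ := hY A B f hf hfinj (LinearMap.snd R X.carrier Y.carrier ∘ₗ g)
    (fun k x hx => (hg k x hx).2)
  refine ⟨LinearMap.prod h1 h2, fun k x hx => ⟨hh1 k x hx, hh2 k x hx⟩, ?_⟩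
  apply LinearMap.ext
  intro x
  apply Prod.ext
  · exact LinearMap.congr_fun hh1f x
  · exact LinearMap.congr_fun hh2f x

/-- the torsion of a product -/
theorem mem_gam_prod (a : Ideal R) (z : X.carrier × Y.carrier) :
    z ∈ GrLC.gam a (X.carrier × Y.carrier) ↔ z.1 ∈ GrLC.gam a X.carrier ∧ z.2 ∈ GrLC.gam a Y.carrier := by
  constructor
  · intro hz
    exact ⟨map_mem_gam (LinearMap.fst R X.carrier Y.carrier) a hz,
      map_mem_gam (LinearMap.snd R X.carrier Y.carrier) a hz⟩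
  · rintro ⟨h1, h2⟩
    have : z = LinearMap.inl R X.carrier Y.carrier z.1 + LinearMap.inr R X.carrier Y.carrier z.2 := by
      simp
    rw [this]
    exact add_mem (map_mem_gam (LinearMap.inl R X.carrier Y.carrier) a h1)
      (map_mem_gam (LinearMap.inr R X.carrier Y.carrier) a h2)

end Prod

end Gr

end Groth.Agent.H6
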