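import Groth.Agent.Lib.Helper6.GrFinite
/-! Castelnuovo regularity: basic consequences of the graded long exact sequence. -/

set_option autoImplicit false
universe u
open GrLC Groth.Agent.H6 Groth.Agent.H6.Gr

namespace Groth.Agent.H6.Reg

theorem endDeg_piece_eq_bot {H : Type u} [AddCommGroup H] (𝒢 : ℤ → AddSubgroup H) (i : ℕ) (m : ℤ)
    (h : GrLC.endDeg 𝒢 + (((i : ℤ) : WithTop ℤ) : WithBot (WithTop ℤ)) ≤ (((m + 1 : ℤ) : WithTop ℤ) : WithBot (WithTop ℤ)))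
    (hi : 2 ≤ i) : 𝒢 m = ⊥ := by
  by_contra hne
  have h1 : (((m : ℤ) : WithTop ℤ) : WithBot (WithTop ℤ)) ≤ GrLC.endDeg 𝒢 := by
    unfold GrLC.endDeg
    exact le_iSup₂ (f := fun (n : ℤ) (_ : 𝒢 n ≠ ⊥) => (((n : ℤ) : WithTop ℤ) : WithBot (WithTop ℤ))) m hne
  have h2 : (((m : ℤ) : WithTop ℤ) : WithBot (WithTop ℤ)) + (((i : ℤ) : WithTop ℤ) : WithBot (WithTop ℤ)) ≤
      (((m + 1 : ℤ) : WithTop ℤ) : WithBot (WithTop ℤ)) := le_trans (add_le_add_left h1 _) h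
  have h3 : (((m + (i : ℤ) : ℤ) : WithTop ℤ) : WithBot (WithTop ℤ)) ≤ (((m + 1 : ℤ) : WithTop ℤ) : WithBot (WithTop ℤ)) := by
    rw [WithTop.coe_add, WithBot.coe_add]; exact h2
  rw [WithBot.coe_le_coe, WithTop.coe_le_coe] at h3
  have : (2 : ℤ) ≤ i := by exact_mod_cast hi
  omega

theorem main (R : Type u) [CommRing R] [IsNoetherianRing R] (𝒜 : ℤ → AddSubgroup R) [GradedRing 𝒜] (a : HomogeneousIdeal 𝒜) (M : Type u) [AddCommGroup M] [Module R M] (ℳ : ℤ → AddSubgroup M) [DirectSum.Decomposition ℳ] [SetLike.GradedSMul 𝒜 ℳ] (x : R) (hx : x ∈ 𝒜 1) (hreg : IsSMulRegular M x) (N : Type u) [AddCommGroup N] [Module R N] (𝒩 : ℤ → AddSubgroup N) [DirectSum.Decomposition 𝒩] [SetLike.GradedSMul 𝒜 𝒩] (π : M →ₗ[R] N) (hπ : Function.Surjective π) (hπg : GrLC.IsGrHom ℳ 𝒩 π) (hker : LinearMap.ker π = LinearMap.range (x • (LinearMap.id : M →ₗ[R] M))) (E : GrLC.StarInjRes 𝒜 ℳ)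 (F : GrLC.StarInjRes 𝒜 𝒩) (m : ℤ) (j : ℕ) (hj : 2 ≤ j)
    (hm : GrLC.endDeg (F.Hgr a j) + (((j : ℤ) : WithTop ℤ) : WithBot (WithTop ℤ)) ≤ (((m + 1 : ℤ) : WithTop ℤ) : WithBot (WithTop ℤ))) (y : E.H a j) (hy : y ∈ E.Hcomp a j m) : ∃ z ∈ E.Hcomp a j (m - 1), x • z = y := by
  let mx : (Msh (𝒜 := 𝒜) ℳ 1).carrier →ₗ[R] M := LinearMap.lsmul R M x
  have hxgr : GrLC.IsGrHom (Msh (𝒜 := 𝒜) ℳ 1).gr ℳ mx :=
    lsmul_isGrHom_shift (𝒜 := 𝒜) (ℳ := ℳ) 1 hx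
  have S2 : GrSES (Msh (𝒜 := 𝒜) ℳ 1).gr ℳ 𝒩 mx π :=
    { hi := hxgr
      hp := hπg
      inj := by
        rw [injective_iff_map_eq_zero]
        intro m hm
        exact hreg (show x • (show M from m) = x • (0 : M) from (hm : x • (show M from m) = 0).trans (smul_zero x).symm)
      surj := hπ
      exact := fun m => by
        rw [← LinearMap.mem_ker, hker]
        rfl }
  obtain ⟨δ2, hδ2, -, hex, -, -⟩ := exists_les S2 (shiftRes E 1) E F a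
  have hvan : F.Hgr a j m = ⊥ := endDeg_piece_eq_bot _ j m hm hj
  have hy0 : Hmap E F a π S2.hp j y = 0 := by
    have h1 : Hmap E F a π S2.hp j y ∈ F.Hgr a j m := Hmap_isGrHom (E := E) (F := F) a S2.hp j m y hy
    rw [hvan] at h1
    exact h1
  have hrange := (hex j y).mp hy0
  obtain ⟨w, hw, hwy⟩ := exists_mem_of_isGrHom ((shiftRes E 1).Hgr a j) (E.Hgr a j)
    (isInternal_Hgr 𝒜 _ (shiftRes E 1) a j) (isInternal_Hgr 𝒜 ℳ E a j)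
    (Hmap_isGrHom (E := shiftRes E 1) (F := E) a S2.hi j) (show y ∈ E.Hgr a j m from hy) hrange
  refine ⟨shiftH E a 1 j w, ?_, ?_⟩
  · exact (shiftH_mem E a 1 j m w).mp hw
  · rw [← Hmap_smul E a 1 hx j w]
    exact hwy

end Groth.Agent.H6.Reg
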