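import Groth.Agent.Lib.Helper6.GrHeightZ
import Groth.Agent.Lib.Helper6.GrCoarseCore
import Groth.Agent.Lib.Helper6.GrBassStar

/-! Primes versus their homogeneous cores: the `ℤ`-graded step. -/

universe u
set_option linter.unusedSectionVars false

namespace Groth.Agent.H6

namespace RankInd

open RelHt

section Congr

variable {R : Type u} [CommRing R]

theorem bassNum_congr {q q' : Ideal R} [hq : q.IsPrime] [hq' : q'.IsPrime] (h : q = q')
    (M : Type u) [AddCommGroup M] [Module R M] (i : ℕ) :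
    GrLC.bassNum q M i = GrLC.bassNum q' M i := by
  subst h
  rfl

theorem relHt_congr {a Q Q' : Ideal R} [hQ : Q.IsPrime] [hQ' : Q'.IsPrime] (h : Q = Q')
    (ha : a ≤ Q) : relHt a Q ha = relHt a Q' (h ▸ ha) := by
  subst h
  rfl

end Congr

section StepZ

variable {R : Type u} [CommRing R] [IsNoetherianRing R] (𝒜 : ℤ → AddSubgroup R) [GradedRing 𝒜]

theorem stepZ (p q : Ideal R) [hp : p.IsPrime] [hqp : q.IsPrime]
    (hq : q = Ideal.homogeneousCore' 𝒜 p) :
    ∃ (d₁ : ℕ) (hqle : q ≤ p),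
      (∀ (a : Ideal R), a.IsHomogeneous 𝒜 → ∀ haq : a ≤ q,
        relHt a p (haq.trans hqle) ≤ relHt a q haq + d₁) ∧
      ((d₁ : ℕ∞) ≤ relHt q p hqle) ∧
      (∀ (M : Type u) [AddCommGroup M] [Module R M] (ℳ : ℤ → AddSubgroup M)
        [DirectSum.Decomposition ℳ] [SetLike.GradedSMul 𝒜 ℳ],
        (∀ i < d₁, GrLC.bassNum p M i = 0) ∧
          ∀ i, GrLC.bassNum p M (i + d₁) = GrLC.bassNum q M i) := by
  have hqle : q ≤ p := hq ▸ Ideal.homogeneousCore'_le 𝒜 p
  by_cases hqp' : q = p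
  · subst hqp'
    refine ⟨0, hqle, ?_, ?_, ?_⟩
    · intro a _ haq
      rw [Nat.cast_zero, add_zero]
    · rw [Nat.cast_zero]; exact bot_le
    · intro M _ _ ℳ _ _
      exact ⟨fun i hi => absurd hi (Nat.not_lt_zero i), fun i => rfl⟩
  · have hqh : q.IsHomogeneous 𝒜 := hq ▸ Gr.core_isHomogeneous 𝒜 p
    have hhom : ∀ s : R, (∃ d, s ∈ 𝒜 d) → s ∈ p → s ∈ q := by
      intro s hs hsp
      rw [hq]
      exact mem_coreI_of_homogeneous 𝒜 hs hsp
    have hne : ∃ x ∈ p, x ∉ q := by
      by_contra hcon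
      push Not at hcon
      exact hqp' (le_antisymm hqle hcon)
    refine ⟨1, hqle, ?_, ?_, ?_⟩
    · intro a ha haq
      haveI : (Ideal.homogeneousCore' 𝒜 p).IsPrime := hq ▸ hqp
      have h1 := relHt_le_coreI_add_one 𝒜 a ha p (haq.trans hqle)
      have h2 : relHt a (coreI 𝒜 p) (le_coreI 𝒜 ha (haq.trans hqle)) = relHt a q haq :=
        (relHt_congr hq haq).symm
      rw [h2] at h1
      exact_mod_cast h1
    · have h1 := relHt_add_one_le q le_rfl (lt_of_le_of_ne hqle hqp')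
      rw [relHt_self, zero_add] at h1
      exact_mod_cast h1
    · intro M _ _ ℳ _ _
      refine ⟨fun i hi => ?_, fun i => ?_⟩
      · have : i = 0 := by omega
        subst this
        exact BassStar.bassNum_zero 𝒜 ℳ q hqh p hqle hhom hne
      · exact BassStar.bassNum_succ 𝒜 ℳ q hqh p hqle hhom hne i

end StepZ

end RankInd

end Groth.Agent.H6
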