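import Groth.Agent.Lib.Helper6.GrPrime

/-! Direct summands of *injective modules: `*E(R/q)(-g₀)` through a homogeneous element with
annihilator `q`. -/

universe u
open DirectSum
set_option linter.unusedSectionVars false

namespace Groth.Agent.H6

namespace Gr

variable {ι : Type} [AddCommGroup ι] [DecidableEq ι]
variable {R : Type u} [CommRing R] (𝒜 : ι → AddSubgroup R) [GradedRing 𝒜]

section Compl

variable {I : Type u} [AddCommGroup I] [Module R I] (ℐ : ι → AddSubgroup I)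
  [DirectSum.Decomposition ℐ] [SetLike.GradedSMul 𝒜 ℐ]
variable {X : Type u} [AddCommGroup X] [Module R X] (𝒳 : ι → AddSubgroup X)
  [DirectSum.Decomposition 𝒳] [SetLike.GradedSMul 𝒜 𝒳]

/-- a *injective graded submodule is a direct summand with a homogeneous complement -/
theorem exists_homogeneous_compl_of_starInj (hX : GrLC.IsStarInj 𝒜 𝒳) {ψ : X →ₗ[R] I}
    (hψ : GrLC.IsGrHom 𝒳 ℐ ψ) (hinj : Function.Injective ψ) :
    ∃ Q : Submodule R I, Q.IsHomogeneous ℐ ∧ IsCompl (LinearMap.range ψ) Q := by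
  obtain ⟨ρ0, hρ0, hρ0ψ⟩ := hX (GrLC.GMod.of 𝒜 X 𝒳) (GrLC.GMod.of 𝒜 I ℐ) ψ hψ hinj
    LinearMap.id (isGrHom_id 𝒳)
  let ρ : I →ₗ[R] X := ρ0
  have hρ : GrLC.IsGrHom ℐ 𝒳 ρ := hρ0
  have hρψ : ∀ x, ρ (ψ x) = x := fun x => LinearMap.congr_fun hρ0ψ x
  refine ⟨LinearMap.ker ρ, ker_isHomogeneous ℐ 𝒳 hρ, ?_, ?_⟩
  · rw [disjoint_iff, eq_bot_iff]
    rintro y ⟨⟨x, rfl⟩, hy2⟩
    rw [SetLike.mem_coe, LinearMap.mem_ker, hρψ] at hy2
    rw [hy2, map_zero]
    exact zero_mem _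
  · rw [codisjoint_iff, eq_top_iff]
    intro y _
    have : y = ψ (ρ y) + (y - ψ (ρ y)) := by abel
    rw [this]
    refine Submodule.add_mem_sup ⟨ρ y, rfl⟩ ?_
    rw [LinearMap.mem_ker, map_sub, hρψ, sub_self]

end Compl

section Summand

variable {I : Type u} [AddCommGroup I] [Module R I] (ℐ : ι → AddSubgroup I)
  [DirectSum.Decomposition ℐ] [SetLike.GradedSMul 𝒜 ℐ]

/-- **S13223** -/
theorem exists_summand_hull (hI : GrLC.IsStarInj 𝒜 ℐ) (q : HomogeneousIdeal 𝒜) (g₀ : ι) (m : I)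
    (hm : m ∈ ℐ g₀) (hann : (Submodule.span R {m}).annihilator = q.toIdeal) :
    ∃ (X : GrLC.GMod.{u} 𝒜) (f : (R ⧸ q.toIdeal) →ₗ[R] X.carrier) (ψ : X.carrier →ₗ[R] I)
      (Q : Submodule R I),
      GrLC.IsStarInjHull 𝒜 (fun j : ι => GrLC.quotGr 𝒜 q (j - g₀)) X.gr f ∧
        Function.Injective ψ ∧ GrLC.IsGrHom X.gr ℐ ψ ∧ ψ (f 1) = m ∧ Q.IsHomogeneous ℐ ∧
          IsCompl (LinearMap.range ψ) Q := by
  have hN := span_singleton_isHomogeneous ℐ 𝒜 (R := R) hm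
  obtain ⟨Nm, jN, hjNinj, hjNrange, hjNgr⟩ := exists_gmod_sub 𝒜 ℐ (Submodule.span R {m}) hN
  obtain ⟨X, f0, ψ, hhull, hψinj, hψgr, hψf⟩ :=
    exists_starInjHull_in 𝒜 ℐ Nm.gr hI hjNgr hjNinj
  -- the element `x₀` of `X` over `m`
  have hmrange : m ∈ LinearMap.range jN := by
    rw [hjNrange]
    exact Submodule.mem_span_singleton_self m
  obtain ⟨n₀, hn₀⟩ := hmrange
  obtain ⟨x₀, hx₀⟩ : ∃ x₀ : X.carrier, x₀ = f0 n₀ := ⟨_, rfl⟩
  have hψx₀ : ψ x₀ = m := by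
    rw [hx₀, ← hn₀]
    exact LinearMap.congr_fun hψf n₀
  have hx₀mem : x₀ ∈ X.gr g₀ := by
    apply mem_of_map_mem X.gr ℐ hψgr hψinj
    rw [hψx₀]
    exact hm
  have hsmul : ∀ r : R, r • x₀ = 0 ↔ r ∈ q.toIdeal := by
    intro r
    rw [← hann, Submodule.mem_annihilator_span_singleton, ← hψx₀]
    constructor
    · intro h
      rw [← map_smul, h, map_zero]
    · intro h
      apply hψinj
      rw [map_smul, h, map_zero]
  -- the map `R ⧸ q → X`
  let f : (R ⧸ q.toIdeal) →ₗ[R] X.carrier :=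
    Submodule.liftQ q.toIdeal (LinearMap.toSpanSingleton R X.carrier x₀) (by
      intro r hr
      rw [LinearMap.mem_ker, LinearMap.toSpanSingleton_apply]
      exact (hsmul r).mpr hr)
  have hf_mk : ∀ r : R, f (Ideal.Quotient.mk q.toIdeal r) = r • x₀ := by
    intro r
    change Submodule.liftQ q.toIdeal _ _ (Submodule.Quotient.mk r) = _
    rw [Submodule.liftQ_apply, LinearMap.toSpanSingleton_apply]
  have hf_one : f 1 = x₀ := by
    have := hf_mk 1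
    rwa [one_smul, map_one] at this
  obtain ⟨Q, hQ, hcompl⟩ := exists_homogeneous_compl_of_starInj 𝒜 ℐ X.gr hhull.starInj hψgr hψinj
  refine ⟨X, f, ψ, Q, ⟨⟨?_, ?_, ?_⟩, hhull.starInj⟩, hψinj, hψgr, ?_, hQ, hcompl⟩
  · rw [injective_iff_map_eq_zero]
    intro x hx
    obtain ⟨r, rfl⟩ := Ideal.Quotient.mk_surjective x
    rw [hf_mk, hsmul] at hx
    exact Ideal.Quotient.eq_zero_iff_mem.mpr hx
  · rintro k _ ⟨r, hr, rfl⟩
    change f (Ideal.Quotient.mk q.toIdeal r) ∈ X.gr k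
    rw [hf_mk]
    have := SetLike.GradedSMul.smul_mem (A := 𝒜) (B := X.gr) hr hx₀mem
    rwa [vadd_eq_add, sub_add_cancel] at this
  · intro P hP hP0 hbot
    apply hhull.essential P hP hP0
    rw [eq_bot_iff, ← hbot]
    refine inf_le_inf_left _ ?_
    rintro _ ⟨n, rfl⟩
    -- `jN n = r • m`
    have h1 : jN n ∈ Submodule.span R {m} := by
      rw [← hjNrange]
      exact ⟨n, rfl⟩
    obtain ⟨r, hr⟩ := Submodule.mem_span_singleton.mp h1
    refine ⟨Ideal.Quotient.mk q.toIdeal r, ?_⟩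
    rw [hf_mk]
    apply hψinj
    rw [map_smul, hψx₀, hr]
    exact (LinearMap.congr_fun hψf n).symm
  · rw [hf_one, hψx₀]

end Summand

end Gr

end Groth.Agent.H6
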