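import Groth.Agent.Lib.Helper6.SegLow3
import Groth.Agent.Lib.Helper6.SegCM4
import Groth.Agent.Lib.Helper6.GrModDim
import Groth.Agent.S19747
import Groth.Agent.Lib.Helper9.Segre.Bij

/-! Graded modules over graded rings defined over a field: top local cohomology; Segre products of
Cohen–Macaulay modules. -/

universe u
open DirectSum TensorProduct
set_option linter.unusedSectionVars false

namespace Groth.Agent.H6

namespace Seg

open SegLA ToAdd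

section ModTools

variable {k : Type u} [Field k] {R : Type u} [CommRing R] [Nontrivial R] [Algebra k R]
  (𝒜 : ℤ → Submodule k R) [GradedAlgebra 𝒜] [IsNoetherianRing R]
  (hpos : ∀ n : ℤ, n < 0 → 𝒜 n = ⊥) (h0 : 𝒜 0 = Submodule.span k {(1 : R)})
  (m : HomogeneousIdeal 𝒜)
  (hm : m.toIdeal = Ideal.span (⋃ n ∈ Set.Ioi (0 : ℤ), (𝒜 n : Set R)))
variable {M : Type u} [AddCommGroup M] [Module R M] (ℳ : ℤ → AddSubgroup M)
  [DirectSum.Decomposition ℳ] [SetLike.GradedSMul 𝒜 ℳ] [Module.Finite R M]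

include hpos h0 hm in
/-- non-vanishing of the top graded local cohomology of a finitely generated graded module -/
theorem exists_Hcomp_top_ne_bot_mod (E : GrLC.StarInjRes 𝒜 ℳ) (n : ℕ)
    (hn : Module.supportDim R M = n) : ∃ d : ℤ, E.Hcomp m n d ≠ ⊥ := by
  letI := gradedRing_toAdd 𝒜
  haveI := gradedSMul_to 𝒜 ℳ
  have h0' := isField_deg0 𝒜 h0
  have hpos' := toAdd_neg_eq_bot 𝒜 hpos
  haveI hmax : (idealTo 𝒜 m).toIdeal.IsMaximal :=
    GrCM.isMaximal_irrelevant (toAdd 𝒜) hpos' h0' (idealTo 𝒜 m) hm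
  obtain ⟨d, hd⟩ := GrMD.exists_Hcomp_top_ne_bot (toAdd 𝒜) hpos' h0' (idealTo 𝒜 m) hm ℳ
    (resToM 𝒜 E) n hn
  refine ⟨d, fun h => hd ?_⟩
  rw [Hcomp_to_eq_bot_iff]
  exact h

include hpos h0 hm in
/-- the top graded local cohomology of a finitely generated graded module of positive dimension
is not bounded below -/
theorem exists_Hcomp_top_lt_mod (E : GrLC.StarInjRes 𝒜 ℳ) (n : ℕ) (h1 : 1 ≤ n)
    (hn : Module.supportDim R M = n) (e0 : ℤ) : ∃ d : ℤ, d < e0 ∧ E.Hcomp m n d ≠ ⊥ := by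
  letI := gradedRing_toAdd 𝒜
  haveI := gradedSMul_to 𝒜 ℳ
  have h0' := isField_deg0 𝒜 h0
  have hpos' := toAdd_neg_eq_bot 𝒜 hpos
  haveI hmax : (idealTo 𝒜 m).toIdeal.IsMaximal :=
    GrCM.isMaximal_irrelevant (toAdd 𝒜) hpos' h0' (idealTo 𝒜 m) hm
  obtain ⟨d, hlt, hd⟩ := GrMD.exists_Hcomp_top_lt (toAdd 𝒜) hpos' h0' (idealTo 𝒜 m) hm ℳ
    (resToM 𝒜 E) n h1 hn e0
  refine ⟨d, hlt, fun h => hd ?_⟩
  rw [Hcomp_to_eq_bot_iff]
  exact h

include hpos in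
/-- a finitely generated graded module is bounded below -/
theorem exists_piece_eq_bot : ∃ e0 : ℤ, ∀ d : ℤ, d < e0 → ℳ d = ⊥ := by
  classical
  letI := gradedRing_toAdd 𝒜
  haveI := gradedSMul_to 𝒜 ℳ
  have hpos' := toAdd_neg_eq_bot 𝒜 hpos
  obtain ⟨κ, _, x, e, hx, hspan⟩ := Gr.exists_homogeneous_generators (R := R) ℳ
  obtain ⟨e0, he0⟩ : ∃ e0 : ℤ, ∀ j, e0 ≤ e j := by
    by_cases hκ : Nonempty κ
    · exact ⟨Finset.univ.inf' Finset.univ_nonempty e,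
        fun j => Finset.inf'_le _ (Finset.mem_univ j)⟩
    · exact ⟨0, fun j => absurd ⟨j⟩ hκ⟩
  refine ⟨e0, fun d hd => ?_⟩
  rw [AddSubgroup.eq_bot_iff_forall]
  intro y hy
  obtain ⟨c, hc, rfl⟩ := Gr.exists_decomp_of_generators (𝒜 := toAdd 𝒜) ℳ hx hspan hy
  refine Finset.sum_eq_zero fun j _ => ?_
  have h1 := hc j
  rw [hpos' _ (by linarith [he0 j]), AddSubgroup.mem_bot] at h1
  rw [h1, zero_smul]

include hpos h0 hm in
theorem finrank_comp_eq_zero_iff (d : ℤ) :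
    Module.finrank (GrLC.deg0 𝒜) ↥(GrLC.comp 𝒜 ℳ d) = 0 ↔ ℳ d = ⊥ := by
  letI := gradedRing_toAdd 𝒜
  haveI := gradedSMul_to 𝒜 ℳ
  haveI := finite_comp_of_pos 𝒜 ℳ hpos m hm d
  rw [finrank_eq_zero_iff_of_isField (isField_deg0 𝒜 h0)]
  constructor
  · intro h
    rw [AddSubgroup.eq_bot_iff_forall]
    intro x hx
    have : (⟨x, hx⟩ : ↥(GrLC.comp 𝒜 ℳ d)) = 0 := Subsingleton.elim _ _
    exact congrArg Subtype.val this
  · intro h
    refine ⟨fun x y => ?_⟩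
    have hx : (x : M) ∈ ℳ d := x.2
    have hy : (y : M) ∈ ℳ d := y.2
    rw [h, AddSubgroup.mem_bot] at hx hy
    exact Subtype.ext (hx.trans hy.symm)

include hpos h0 hm in
/-- a Cohen–Macaulay graded module has only its top local cohomology -/
theorem Hcomp_eq_bot_of_cm (E : GrLC.StarInjRes 𝒜 ℳ) (r : ℕ) (hd : Module.supportDim R M = r)
    (hcm : ∀ (q : Ideal R) [q.IsPrime], Subsingleton (LocalizedModule q.primeCompl M) ∨
      LocCoh.IsCohenMacaulayModule (Localization.AtPrime q) (LocalizedModule q.primeCompl M))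
    (q : ℕ) (d : ℤ) (hq : q ≠ r) : E.Hcomp m q d = ⊥ := by
  haveI : Nontrivial M := by
    rw [← Module.supportDim_ne_bot_iff_nontrivial R, hd]
    exact WithBot.coe_ne_bot
  obtain ⟨q0, _, huniq⟩ := (cm_iff_existsUnique 𝒜 hpos h0 m hm ℳ E).mp hcm
  obtain ⟨dr, hdr⟩ := exists_Hcomp_top_ne_bot_mod 𝒜 hpos h0 m hm ℳ E r hd
  by_contra h
  have h1 := huniq q ⟨d, h⟩
  have h2 := huniq r ⟨dr, hdr⟩
  exact hq (h1.trans h2.symm)

end ModTools

section Arith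

theorem cm_segre_arith_ite (a b : ℤ → ℕ) (hR hS F : ℕ → ℤ → ℕ) (r s : ℕ) (h2r : 2 ≤ r)
    (h2s : 2 ≤ s)
    (hF' : ∀ q d, F q d = a d * hS q d + hR q d * b d +
      if q + 1 = r + s then hR r d * hS s d else 0)
    (hRv : ∀ q d, q ≠ r → hR q d = 0) (hSv : ∀ q d, q ≠ s → hS q d = 0)
    (htop : ∃ d, F (r + s - 1) d ≠ 0) :
    (∃! q, ∃ d, F q d ≠ 0) ↔ (∀ d, a d * hS s d = 0) ∧ (∀ d, hR r d * b d = 0) := by
  obtain ⟨d0, hd0⟩ := htop
  constructor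
  · rintro ⟨q, ⟨d, hd⟩, huniq⟩
    have hq : r + s - 1 = q := huniq _ ⟨d0, hd0⟩
    constructor
    · intro d
      by_contra hne
      have : F s d ≠ 0 := by
        rw [hF']
        omega
      have := huniq s ⟨d, this⟩
      omega
    · intro d
      by_contra hne
      have : F r d ≠ 0 := by
        rw [hF']
        omega
      have := huniq r ⟨d, this⟩
      omega
  · rintro ⟨h1, h2⟩
    refine ⟨r + s - 1, ⟨d0, hd0⟩, ?_⟩
    rintro q ⟨d, hd⟩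
    by_contra hq
    apply hd
    rw [hF', if_neg (by omega)]
    have e1 : a d * hS q d = 0 := by
      by_cases hqs : q = s
      · rw [hqs, h1 d]
      · rw [hSv q d hqs, mul_zero]
    have e2 : hR q d * b d = 0 := by
      by_cases hqr : q = r
      · rw [hqr, h2 d]
      · rw [hRv q d hqr, zero_mul]
    rw [e1, e2]

theorem cm_segre_arith1_ite (a b : ℤ → ℕ) (hR hS F : ℕ → ℤ → ℕ) (s : ℕ) (h1s : 1 ≤ s)
    (hF' : ∀ q d, F q d = a d * hS q d + hR q d * b d +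
      if q + 1 = 1 + s then hR 1 d * hS s d else 0)
    (hRv : ∀ q d, q ≠ 1 → hR q d = 0) (hSv : ∀ q d, q ≠ s → hS q d = 0)
    (htop : ∃ d, F (1 + s - 1) d ≠ 0) :
    (2 ≤ s → ((∃! q, ∃ d, F q d ≠ 0) ↔ ∀ d, hR 1 d * b d = 0)) ∧
      (s = 1 → ∃! q, ∃ d, F q d ≠ 0) := by
  obtain ⟨d0, hd0⟩ := htop
  have e1s : 1 + s - 1 = s := by omega
  rw [e1s] at hd0
  constructor
  · intro h2s
    constructor
    · rintro ⟨q, ⟨d, hd⟩, huniq⟩
      have hq : s = q := huniq _ ⟨d0, hd0⟩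
      intro d
      by_contra hne
      have : F 1 d ≠ 0 := by
        rw [hF']
        omega
      have := huniq 1 ⟨d, this⟩
      omega
    · intro h2
      refine ⟨s, ⟨d0, hd0⟩, ?_⟩
      rintro q ⟨d, hd⟩
      by_contra hq
      apply hd
      rw [hF', if_neg (by omega)]
      have e1 : a d * hS q d = 0 := by
        rw [hSv q d hq, mul_zero]
      have e2 : hR q d * b d = 0 := by
        by_cases hqr : q = 1
        · rw [hqr, h2 d]
        · rw [hRv q d hqr, zero_mul]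
      rw [e1, e2]
  · intro hs1
    subst hs1
    refine ⟨1, ⟨d0, hd0⟩, ?_⟩
    rintro q ⟨d, hd⟩
    by_contra hq
    apply hd
    rw [hF', if_neg (by omega), hSv q d hq, hRv q d hq]
    simp

end Arith

section SegreCM

variable (k : Type u) [Field k] (R : Type u) [CommRing R] [Nontrivial R]
    [Algebra k R] (𝒜 : ℤ → Submodule k R) [GradedAlgebra 𝒜] (hposR : ∀ n : ℤ, n < 0 → 𝒜 n = ⊥)
    (h0R : 𝒜 0 = Submodule.span k {(1 : R)}) [Algebra.FiniteType k R] (S : Type u) [CommRing S]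
    [Nontrivial S] [Algebra k S] (ℬ : ℤ → Submodule k S) [GradedAlgebra ℬ]
    (hposS : ∀ n : ℤ, n < 0 → ℬ n = ⊥) (h0S : ℬ 0 = Submodule.span k {(1 : S)})
    [Algebra.FiniteType k S] (T : Type u) [CommRing T] [Algebra k T] (𝒯 : ℤ → Submodule k T)
    [GradedAlgebra 𝒯] (ψ : T →ₐ[k] TensorProduct k R S) (hT : GrSeg.IsSegreRing 𝒜 ℬ 𝒯 ψ)
    (mR : HomogeneousIdeal 𝒜)
    (hmR : mR.toIdeal = Ideal.span (⋃ n ∈ Set.Ioi (0 : ℤ), (𝒜 n : Set R)))
    (mS : HomogeneousIdeal ℬ)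
    (hmS : mS.toIdeal = Ideal.span (⋃ n ∈ Set.Ioi (0 : ℤ), (ℬ n : Set S)))
    (mT : HomogeneousIdeal 𝒯)
    (hmT : mT.toIdeal = Ideal.span (⋃ n ∈ Set.Ioi (0 : ℤ), (𝒯 n : Set T)))
    (M : Type u) [AddCommGroup M] [Module R M] [Module k M] [IsScalarTower k R M]
    (ℳ : ℤ → AddSubgroup M) [DirectSum.Decomposition ℳ] [SetLike.GradedSMul 𝒜 ℳ]
    [Module.Finite R M] (EM : GrLC.StarInjRes 𝒜 ℳ)
    (N : Type u) [AddCommGroup N] [Module S N] [Module k N] [IsScalarTower k S N]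
    (𝒩 : ℤ → AddSubgroup N) [DirectSum.Decomposition 𝒩] [SetLike.GradedSMul ℬ 𝒩]
    [Module.Finite S N] (EN : GrLC.StarInjRes ℬ 𝒩)
    (P : Type u) [AddCommGroup P] [Module T P] [Module k P] [IsScalarTower k T P]
    (𝒬 : ℤ → AddSubgroup P) [DirectSum.Decomposition 𝒬] [SetLike.GradedSMul 𝒯 𝒬]
    (φ : P →ₗ[k] TensorProduct k M N) (hP : GrSeg.IsSegreMod ψ ℳ 𝒩 𝒬 φ)
    (EP : GrLC.StarInjRes 𝒯 𝒬) (r s : ℕ) (h1r : 1 ≤ r) (h1s : 1 ≤ s)
    (hdM : Module.supportDim R M = r) (hdN : Module.supportDim S N = s)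
    (hMcm : ∀ (q : Ideal R) [q.IsPrime], Subsingleton (LocalizedModule q.primeCompl M) ∨
      LocCoh.IsCohenMacaulayModule (Localization.AtPrime q) (LocalizedModule q.primeCompl M))
    (hNcm : ∀ (q : Ideal S) [q.IsPrime], Subsingleton (LocalizedModule q.primeCompl N) ∨
      LocCoh.IsCohenMacaulayModule (Localization.AtPrime q) (LocalizedModule q.primeCompl N))

include hposR h0R hposS h0S hT hmR hmS hmT hP h1r h1s hdM hdN hMcm hNcm in
/-- the Künneth formula for the Segre product of Cohen–Macaulay modules of positive dimension -/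
theorem kunneth_cm_mod (q : ℕ) (d : ℤ) :
    Module.finrank (GrLC.deg0 𝒯) (EP.Hcomp mT q d) =
      Module.finrank (GrLC.deg0 𝒜) (GrLC.comp 𝒜 ℳ d) *
          Module.finrank (GrLC.deg0 ℬ) (EN.Hcomp mS q d) +
        Module.finrank (GrLC.deg0 𝒜) (EM.Hcomp mR q d) *
          Module.finrank (GrLC.deg0 ℬ) (GrLC.comp ℬ 𝒩 d) +
        (if q + 1 = r + s then Module.finrank (GrLC.deg0 𝒜) (EM.Hcomp mR r d) *
          Module.finrank (GrLC.deg0 ℬ) (EN.Hcomp mS s d) else 0) := by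
  haveI : IsNoetherianRing R := Algebra.FiniteType.isNoetherianRing k R
  haveI : IsNoetherianRing S := Algebra.FiniteType.isNoetherianRing k S
  have hMv := Hcomp_eq_bot_of_cm 𝒜 hposR h0R mR hmR ℳ EM r hdM hMcm
  have hNv := Hcomp_eq_bot_of_cm ℬ hposS h0S mS hmS 𝒩 EN s hdN hNcm
  rw [kunneth_modules_depth1 k R 𝒜 hposR h0R S ℬ hposS h0S T 𝒯 ψ hT mR hmR mS hmS mT hmT
    M ℳ EM N 𝒩 EN P 𝒬 φ hP EP d (hMv 0 d (by omega)) (hNv 0 d (by omega)) q]
  congr 1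
  refine sum_eq_ite (fun i => Module.finrank (GrLC.deg0 𝒜) (EM.Hcomp mR i d))
    (fun i => Module.finrank (GrLC.deg0 ℬ) (EN.Hcomp mS i d)) r s h1s ?_ ?_ q
  · intro i hi
    change Module.finrank (GrLC.deg0 𝒜) (EM.Hcomp mR i d) = 0
    rw [hMv i d hi]
    exact finrank_bot _ _
  · intro i hi
    change Module.finrank (GrLC.deg0 ℬ) (EN.Hcomp mS i d) = 0
    rw [hNv i d hi]
    exact finrank_bot _ _

omit [Nontrivial R] [Nontrivial S] in
theorem exists_supportDim_eq_of_le {A : Type u} [CommRing A] (n : ℕ)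
    (h1 : ringKrullDim A ≤ (n : WithBot ℕ∞)) (X : Type u) [AddCommGroup X] [Module A X]
    [Nontrivial X] : ∃ n : ℕ, Module.supportDim A X = (n : WithBot ℕ∞) := by
  have h2 : Module.supportDim A X ≠ ⊥ := Module.supportDim_ne_bot_of_nontrivial A X
  have h3 : Module.supportDim A X ≤ (n : WithBot ℕ∞) :=
    (Module.supportDim_le_ringKrullDim A X).trans h1
  obtain ⟨a, ha⟩ := WithBot.ne_bot_iff_exists.mp h2
  rw [← ha] at h3
  have h4 : a ≤ (n : ℕ∞) := by exact_mod_cast h3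
  obtain ⟨j, rfl⟩ := ENat.ne_top_iff_exists.mp (ne_top_of_le_ne_top (ENat.coe_ne_top n) h4)
  exact ⟨j, ha.symm⟩

include hposR h0R hposS h0S hT hmR hmS hmT hP h1r h1s hdM hdN hMcm hNcm EM EN in
/-- the dimension of the Segre product of Cohen–Macaulay modules of positive dimension, and the
non-vanishing of its top local cohomology -/
theorem dim_segre_cm_mod [Nontrivial P] [Module.Finite T P] :
    Module.supportDim T P = ((r + s - 1 : ℕ) : WithBot ℕ∞) ∧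
      ∃ d : ℤ, EP.Hcomp mT (r + s - 1) d ≠ ⊥ := by
  haveI : IsNoetherianRing R := Algebra.FiniteType.isNoetherianRing k R
  haveI : IsNoetherianRing S := Algebra.FiniteType.isNoetherianRing k S
  haveI : IsNoetherianRing T :=
    Groth.Agent.S18646.result k R 𝒜 hposR h0R S ℬ hposS h0S T 𝒯 ψ hT.1 hT.2
  haveI : Nontrivial T := segre_nontrivial ψ
  have h0T : 𝒯 0 = Submodule.span k {(1 : T)} := segre_deg_zero hT h0R h0S
  have hposT : ∀ n : ℤ, n < 0 → 𝒯 n = ⊥ := segre_neg_eq_bot hT hposR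
  obtain ⟨δ, hδ⟩ : ∃ n : ℕ, Module.supportDim T P = (n : WithBot ℕ∞) := by
    letI := gradedRing_toAdd 𝒯
    obtain ⟨n, hn⟩ := Gr.exists_ringKrullDim_eq (toAdd 𝒯) (toAdd_neg_eq_bot 𝒯 hposT)
      (isField_deg0 𝒯 h0T)
    exact exists_supportDim_eq_of_le n hn.le P
  have hMv := Hcomp_eq_bot_of_cm 𝒜 hposR h0R mR hmR ℳ EM r hdM hMcm
  have hNv := Hcomp_eq_bot_of_cm ℬ hposS h0S mS hmS 𝒩 EN s hdN hNcm
  have hK := kunneth_cm_mod k R 𝒜 hposR h0R S ℬ hposS h0S T 𝒯 ψ hT mR hmR mS hmS mT hmT M ℳ EM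
    N 𝒩 EN P 𝒬 φ hP EP r s h1r h1s hdM hdN hMcm hNcm
  have eT : ∀ (q : ℕ) (d : ℤ), EP.Hcomp mT q d = ⊥ ↔
      Module.finrank (GrLC.deg0 𝒯) ↥(EP.Hcomp mT q d) = 0 := fun q d =>
    Hcomp_eq_bot_iff_finrank 𝒯 𝒬 hposT h0T mT hmT EP q d
  -- `δ` is one of `r`, `s`, `r + s - 1`
  obtain ⟨d1, hd1⟩ := exists_Hcomp_top_ne_bot_mod 𝒯 hposT h0T mT hmT 𝒬 EP δ hδ
  have hδ1 : 1 ≤ δ := by
    by_contra hlt
    have hδ0 : δ = 0 := by omega
    apply hd1
    rw [eT, hK, if_neg (by omega), hδ0, hMv 0 d1 (by omega), hNv 0 d1 (by omega)]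
    simp
  obtain ⟨eM, heM⟩ := exists_piece_eq_bot 𝒜 hposR ℳ
  obtain ⟨eN, heN⟩ := exists_piece_eq_bot ℬ hposS 𝒩
  obtain ⟨d2, hd2lt, hd2⟩ := exists_Hcomp_top_lt_mod 𝒯 hposT h0T mT hmT 𝒬 EP δ hδ1 hδ (min eM eN)
  have hd2' := fun h => hd2 ((eT δ d2).mpr h)
  rw [hK, (finrank_comp_eq_zero_iff 𝒜 hposR h0R mR hmR ℳ d2).mpr
      (heM d2 (lt_of_lt_of_le hd2lt (min_le_left _ _))),
    (finrank_comp_eq_zero_iff ℬ hposS h0S mS hmS 𝒩 d2).mpr
      (heN d2 (lt_of_lt_of_le hd2lt (min_le_right _ _)))] at hd2'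
  have hδeq : δ + 1 = r + s := by
    by_contra hne
    apply hd2'
    rw [if_neg hne]
    simp
  have hδ' : δ = r + s - 1 := by omega
  subst hδ'
  exact ⟨hδ, d2, hd2⟩

end SegreCM

section Final

/-- **S19754** -/
theorem segre_dim_cm (k : Type u) [Field k] (R : Type u) [CommRing R] [Algebra k R]
    (𝒜 : ℤ → Submodule k R) [GradedAlgebra 𝒜] (hposR : ∀ n : ℤ, n < 0 → 𝒜 n = ⊥)
    (h0R : 𝒜 0 = Submodule.span k {(1 : R)}) [Algebra.FiniteType k R] (S : Type u) [CommRing S]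
    [Algebra k S] (ℬ : ℤ → Submodule k S) [GradedAlgebra ℬ]
    (hposS : ∀ n : ℤ, n < 0 → ℬ n = ⊥) (h0S : ℬ 0 = Submodule.span k {(1 : S)})
    [Algebra.FiniteType k S] (T : Type u) [CommRing T] [Algebra k T] (𝒯 : ℤ → Submodule k T)
    [GradedAlgebra 𝒯] (ψ : T →ₐ[k] TensorProduct k R S) (hT : GrSeg.IsSegreRing 𝒜 ℬ 𝒯 ψ)
    (M : Type u) [AddCommGroup M] [Module R M] [Module k M] [IsScalarTower k R M]
    (ℳ : ℤ → AddSubgroup M) [DirectSum.Decomposition ℳ] [SetLike.GradedSMul 𝒜 ℳ]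
    [Module.Finite R M]
    (N : Type u) [AddCommGroup N] [Module S N] [Module k N] [IsScalarTower k S N]
    (𝒩 : ℤ → AddSubgroup N) [DirectSum.Decomposition 𝒩] [SetLike.GradedSMul ℬ 𝒩]
    [Module.Finite S N]
    (P : Type u) [AddCommGroup P] [Module T P] [Module k P] [IsScalarTower k T P]
    (𝒬 : ℤ → AddSubgroup P) [DirectSum.Decomposition 𝒬]
    (φ : P →ₗ[k] TensorProduct k M N) (hP : GrSeg.IsSegreMod ψ ℳ 𝒩 𝒬 φ)
    (r s : ℕ) (h1r : 1 ≤ r) (h1s : 1 ≤ s)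
    (hdM : Module.supportDim R M = r) (hdN : Module.supportDim S N = s)
    (hMcm : ∀ (q : Ideal R) [q.IsPrime], Subsingleton (LocalizedModule q.primeCompl M) ∨
      LocCoh.IsCohenMacaulayModule (Localization.AtPrime q) (LocalizedModule q.primeCompl M))
    (hNcm : ∀ (q : Ideal S) [q.IsPrime], Subsingleton (LocalizedModule q.primeCompl N) ∨
      LocCoh.IsCohenMacaulayModule (Localization.AtPrime q) (LocalizedModule q.primeCompl N)) :
    Module.supportDim T P = ((r + s - 1 : ℕ) : WithBot ℕ∞) ∨ Subsingleton P := by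
  rcases subsingleton_or_nontrivial P with hsub | hnt
  · exact Or.inr hsub
  left
  haveI : Nontrivial M := by
    rw [← Module.supportDim_ne_bot_iff_nontrivial R, hdM]
    exact WithBot.coe_ne_bot
  haveI : Nontrivial N := by
    rw [← Module.supportDim_ne_bot_iff_nontrivial S, hdN]
    exact WithBot.coe_ne_bot
  haveI : Nontrivial R := Module.nontrivial R M
  haveI : Nontrivial S := Module.nontrivial S N
  haveI : Module.Finite T P := Groth.Agent.S19747.result k R 𝒜 hposR h0R S ℬ hposS h0S T 𝒯 ψ hT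
    M ℳ N 𝒩 P 𝒬 φ hP
  haveI : SetLike.GradedSMul 𝒯 𝒬 := Groth.Agent.H9.SegreBij.gradedSMul 𝒜 ℬ 𝒯 ψ ℳ 𝒩 𝒬 φ hT hP
  obtain ⟨mR, hmR⟩ := exists_irrel 𝒜
  obtain ⟨mS, hmS⟩ := exists_irrel ℬ
  obtain ⟨mT, hmT⟩ := exists_irrel 𝒯
  letI := gradedRing_toAdd 𝒜
  letI := gradedRing_toAdd ℬ
  letI := gradedRing_toAdd 𝒯
  haveI := gradedSMul_to 𝒜 ℳ
  haveI := gradedSMul_to ℬ 𝒩
  haveI := gradedSMul_to 𝒯 𝒬
  obtain ⟨EM⟩ := nonempty_starInjRes 𝒜 ℳ
  obtain ⟨EN⟩ := nonempty_starInjRes ℬ 𝒩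
  obtain ⟨EP⟩ := nonempty_starInjRes 𝒯 𝒬
  exact (dim_segre_cm_mod k R 𝒜 hposR h0R S ℬ hposS h0S T 𝒯 ψ hT mR hmR mS hmS mT hmT M ℳ EM
    N 𝒩 EN P 𝒬 φ hP EP r s h1r h1s hdM hdN hMcm hNcm).1

end Final

end Seg

end Groth.Agent.H6
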