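import Groth.Agent.Lib.Helper6.LCTop
import Groth.Agent.Lib.Helper6.LCTorsion
import Groth.Agent.Lib.Helper6.GrAInv3
import Groth.Agent.Lib.Helper6.SegCMMod1

/-! The top local cohomology of a finitely generated module is divisible; over a standard graded
ring, the nonvanishing of its pieces propagates downwards. -/

universe u
open CategoryTheory DirectSum

namespace Groth.Agent.H6

namespace LC

variable {R : Type u} [CommRing R] [IsNoetherianRing R]

theorem supportDim_pi_le (M : Type u) [AddCommGroup M] [Module R M] [Module.Finite R M] (t : ℕ) :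
    Module.supportDim R (Fin t → M) ≤ Module.supportDim R M := by
  rw [Module.supportDim_eq_ringKrullDim_quotient_annihilator,
    Module.supportDim_eq_ringKrullDim_quotient_annihilator]
  have hle : Module.annihilator R M ≤ Module.annihilator R (Fin t → M) := by
    intro a ha
    rw [Module.mem_annihilator] at ha ⊢
    intro x
    ext i
    exact ha (x i)
  exact ringKrullDim_le_of_surjective (Ideal.Quotient.factor hle)
    (Ideal.Quotient.factor_surjective hle)

/-- the top local cohomology `H^n_I(M)`, `n ≥ 1` and `dim M ≤ n`, is `I`-divisible -/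
theorem smul_top_eq_top_of_supportDim_le (I : Ideal R) (M : Type u) [AddCommGroup M] [Module R M]
    [Module.Finite R M] (n : ℕ) (h1 : 1 ≤ n) (hn : Module.supportDim R M ≤ n) :
    I • (⊤ : Submodule R (LocCoh.H I n M)) = ⊤ := by
  haveI : IsNoetherian R M := isNoetherian_of_isNoetherianRing_of_finite R M
  obtain ⟨t, g, hg⟩ := Submodule.fg_iff_exists_fin_generating_family.mp
    (IsNoetherian.noetherian I)
  let σ : (Fin t → M) →ₗ[R] M := ∑ i, g i • LinearMap.proj i
  have hσ : ∀ x : Fin t → M, σ x = ∑ i, g i • x i := by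
    intro x
    simp [σ]
  have hgI : ∀ i, g i ∈ I := fun i => by
    rw [← hg]
    exact Submodule.subset_span ⟨i, rfl⟩
  have hrange : LinearMap.range σ = I • (⊤ : Submodule R M) := by
    apply le_antisymm
    · rintro _ ⟨x, rfl⟩
      rw [hσ]
      exact Submodule.sum_mem _ fun i _ => Submodule.smul_mem_smul (hgI i) trivial
    · rw [Submodule.smul_le]
      intro a ha x _
      rw [← hg] at ha
      obtain ⟨c, rfl⟩ := (Submodule.mem_span_range_iff_exists_fun R).mp ha
      refine ⟨fun i => c i • x, ?_⟩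
      rw [hσ, Finset.sum_smul]
      refine Finset.sum_congr rfl fun i _ => ?_
      rw [smul_eq_mul, mul_smul, smul_comm]
  have hK : Subsingleton (LocCoh.H I (n + 1) (LinearMap.ker σ)) := by
    apply subsingleton_of_supportDim_lt
    refine lt_of_le_of_lt (Module.supportDim_le_of_injective (LinearMap.ker σ).subtype
      (Submodule.injective_subtype _)) (lt_of_le_of_lt ((supportDim_pi_le M t).trans hn) ?_)
    exact_mod_cast Nat.lt_succ_self n
  have hsurj1 := map_rangeRestrict_surjective (I := I) σ n hK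
  have hS2 := subSES_shortExact (LinearMap.range σ)
  have hC : Subsingleton (LocCoh.H I n (M ⧸ LinearMap.range σ)) := by
    obtain ⟨j, rfl⟩ : ∃ j, n = j + 1 := ⟨n - 1, by omega⟩
    apply subsingleton_of_torsion I j (ModuleCat.of R (M ⧸ LinearMap.range σ))
    intro y
    obtain ⟨x, rfl⟩ := Submodule.mkQ_surjective _ y
    refine ⟨1, fun a ha => ?_⟩
    rw [pow_one] at ha
    rw [← map_smul, Submodule.mkQ_apply, Submodule.Quotient.mk_eq_zero, hrange]
    exact Submodule.smul_mem_smul ha trivial
  have hsurj2 := map_f_surjective (I := I) hS2 n hC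
  rw [eq_top_iff]
  intro y _
  obtain ⟨z, rfl⟩ := hsurj2 y
  obtain ⟨w, rfl⟩ := hsurj1 z
  have hcomp : ModuleCat.ofHom σ.rangeRestrict ≫ ModuleCat.ofHom (LinearMap.range σ).subtype =
      ∑ i, g i • ModuleCat.ofHom (LinearMap.proj (R := R) (φ := fun _ : Fin t => M) i) := by
    apply ModuleCat.hom_ext
    apply LinearMap.ext
    intro v
    simp [σ]
  change ((localCohomology I n).map (ModuleCat.ofHom (LinearMap.range σ).subtype)).hom
    (((localCohomology I n).map (ModuleCat.ofHom σ.rangeRestrict)).hom w) ∈ _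
  rw [← map_comp_hom, hcomp, map_sum_hom]
  refine Submodule.sum_mem _ fun i _ => ?_
  rw [map_smul_hom]
  exact Submodule.smul_mem_smul (hgI i) trivial

/-- a finitely generated module of dimension at most zero over a Noetherian ring is Artinian -/
theorem isArtinian_of_supportDim_le_zero' (M : Type u) [AddCommGroup M] [Module R M]
    [Module.Finite R M] (h : Module.supportDim R M ≤ ((0 : ℕ) : WithBot ℕ∞)) : IsArtinian R M := by
  rw [Module.supportDim_eq_ringKrullDim_quotient_annihilator] at h
  haveI : Ring.KrullDimLE 0 (R ⧸ Module.annihilator R M) := Ring.krullDimLE_iff.mpr h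
  haveI : IsArtinianRing (R ⧸ Module.annihilator R M) := isArtinianRing_iff_krullDimLE_zero.mpr this
  letI : Module (R ⧸ Module.annihilator R M) M := Module.quotientAnnihilator
  haveI : IsScalarTower R (R ⧸ Module.annihilator R M) M :=
    IsScalarTower.of_algebraMap_smul fun a x => rfl
  haveI : Module.Finite (R ⧸ Module.annihilator R M) M := Module.Finite.of_restrictScalars_finite R _ M
  haveI : IsArtinian (R ⧸ Module.annihilator R M) M := inferInstance
  exact isArtinian_of_surjective_algebraMap (R := R ⧸ Module.annihilator R M)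
    Ideal.Quotient.mk_surjective

end LC

namespace AInv

variable {R : Type u} [CommRing R] [IsNoetherianRing R] {𝒜 : ℤ → AddSubgroup R} [GradedRing 𝒜]
  (m : HomogeneousIdeal 𝒜)
  {M : Type u} [AddCommGroup M] [Module R M] {ℳ : ℤ → AddSubgroup M}
  [DirectSum.Decomposition ℳ] [SetLike.GradedSMul 𝒜 ℳ]

theorem graded_smul_top_eq_top_mod [Module.Finite R M] (r : ℕ) (h1 : 1 ≤ r)
    (hdim : Module.supportDim R M ≤ (r : WithBot ℕ∞))
    (E : GrLC.StarInjRes 𝒜 ℳ) : m.toIdeal • (⊤ : Submodule R (E.H m r)) = ⊤ := by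
  obtain ⟨e⟩ := Gr.nonempty_H_equiv 𝒜 ℳ E m r
  have h := LC.smul_top_eq_top_of_supportDim_le m.toIdeal M r h1 hdim
  have h2 := congrArg (Submodule.map e.symm.toLinearMap) h
  rw [Submodule.map_smul'', Submodule.map_top, LinearMap.range_eq_top.mpr e.symm.surjective] at h2
  exact h2

omit [IsNoetherianRing R] in
/-- if `m` is generated in degree one and `H = mH`, the vanishing of a piece propagates upwards -/
theorem piece_succ_eq_bot_mod (hgen : m.toIdeal = Ideal.span ((𝒜 1 : AddSubgroup R) : Set R))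
    (r : ℕ) (E : GrLC.StarInjRes 𝒜 ℳ) (hdiv : m.toIdeal • (⊤ : Submodule R (E.H m r)) = ⊤) (n : ℤ)
    (hn : E.Hgr m r n = ⊥) : E.Hgr m r (n + 1) = ⊥ := by
  letI : DirectSum.Decomposition (E.Hgr m r) :=
    (Gr.isInternal_Hgr 𝒜 ℳ E m r).chooseDecomposition
  letI : SetLike.GradedSMul 𝒜 (E.Hgr m r) := Gr.Hgr_gradedSMul E m r
  have hA : ∀ x ∈ 𝒜 1, ∀ h : E.H m r, Gr.proj (E.Hgr m r) (n + 1) (x • h) = 0 := by
    intro x hx h
    have hdeg : GrLC.IsGrHomDeg (E.Hgr m r) (E.Hgr m r) (LinearMap.lsmul R (E.H m r) x) 1 := by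
      intro g y hy
      have := Gr.smul_mem_Hgr E m r hx hy
      rwa [add_comm] at this
    have h1 := Gr.isGrHomDeg_proj (E.Hgr m r) (E.Hgr m r) hdeg n h
    have h2 : Gr.proj (E.Hgr m r) n h = 0 := by
      have := Gr.proj_mem (E.Hgr m r) n h
      rw [hn, AddSubgroup.mem_bot] at this
      exact this
    rw [h2, map_zero] at h1
    exact h1.symm
  have hB : ∀ c ∈ m.toIdeal, ∀ h : E.H m r, Gr.proj (E.Hgr m r) (n + 1) (c • h) = 0 := by
    intro c hc
    rw [hgen] at hc
    induction hc using Submodule.span_induction with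
    | mem x hx => exact hA x hx
    | zero => intro h; rw [zero_smul, map_zero]
    | add x y _ _ hx hy => intro h; rw [add_smul, map_add, hx, hy, add_zero]
    | smul a x _ hx => intro h; rw [smul_eq_mul, mul_comm, mul_smul]; exact hx (a • h)
  have hC : ∀ y ∈ m.toIdeal • (⊤ : Submodule R (E.H m r)),
      Gr.proj (E.Hgr m r) (n + 1) y = 0 := by
    intro y hy
    induction hy using Submodule.smul_induction_on' with
    | smul c hc h _ => exact hB c hc h
    | add x _ y _ hx hy => rw [map_add, hx, hy, add_zero]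
  rw [AddSubgroup.eq_bot_iff_forall]
  intro y hy
  have := hC y (by rw [hdiv]; trivial)
  rwa [Gr.proj_of_mem (E.Hgr m r) hy] at this

end AInv

namespace Seg

open SegLA ToAdd

variable {k : Type u} [Field k] {R : Type u} [CommRing R] [Algebra k R]
  (𝒜 : ℤ → Submodule k R) [GradedAlgebra 𝒜] [IsNoetherianRing R]
  (m : HomogeneousIdeal 𝒜)
  (hm : m.toIdeal = Ideal.span (⋃ n ∈ Set.Ioi (0 : ℤ), (𝒜 n : Set R)))
  (hstd : Ideal.span (⋃ n ∈ Set.Ioi (0 : ℤ), (𝒜 n : Set R)) =
    Ideal.span ((𝒜 1 : Submodule k R) : Set R))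
variable {M : Type u} [AddCommGroup M] [Module R M] (ℳ : ℤ → AddSubgroup M)
  [DirectSum.Decomposition ℳ] [SetLike.GradedSMul 𝒜 ℳ] [Module.Finite R M]

include hm hstd in
/-- the nonvanishing of the pieces of the top local cohomology of a finitely generated graded
module over a standard graded ring propagates downwards -/
theorem Hcomp_top_ne_bot_of_le_mod (E : GrLC.StarInjRes 𝒜 ℳ) (r : ℕ) (h1 : 1 ≤ r)
    (hdim : Module.supportDim R M ≤ (r : WithBot ℕ∞)) (n n' : ℤ) (hnn : n' ≤ n)
    (hn : E.Hcomp m r n ≠ ⊥) : E.Hcomp m r n' ≠ ⊥ := by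
  letI := gradedRing_toAdd 𝒜
  haveI := gradedSMul_to 𝒜 ℳ
  intro h
  apply hn
  have hdiv := AInv.graded_smul_top_eq_top_mod (idealTo 𝒜 m) r h1 hdim (resToM 𝒜 E)
  have hgen : (idealTo 𝒜 m).toIdeal = Ideal.span ((toAdd 𝒜 1 : AddSubgroup R) : Set R) :=
    hm.trans hstd
  have h0 : (resToM 𝒜 E).Hgr (idealTo 𝒜 m) r n' = ⊥ := by
    rw [AddSubgroup.eq_bot_iff_forall]
    intro x hx
    exact (Submodule.eq_bot_iff _).mp h x hx
  have hall : ∀ j : ℕ, (resToM 𝒜 E).Hgr (idealTo 𝒜 m) r (n' + j) = ⊥ := by
    intro j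
    induction j with
    | zero => simpa using h0
    | succ j ih =>
      have := AInv.piece_succ_eq_bot_mod (idealTo 𝒜 m) hgen r (resToM 𝒜 E) hdiv (n' + j) ih
      rw [add_assoc] at this
      exact_mod_cast this
  have := hall (n - n').toNat
  rw [Int.toNat_of_nonneg (by omega), add_sub_cancel] at this
  rw [Submodule.eq_bot_iff]
  intro x hx
  exact (AddSubgroup.eq_bot_iff_forall _).mp this x hx

end Seg

end Groth.Agent.H6
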