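import Groth.Agent.Lib.Helper6.BassAss
import Groth.Agent.Lib.Helper6.CanDual
import Groth.Agent.Lib.Helper6.InjHullLocal
import Groth.Agent.Lib.Helper6.GrEssUngr

universe u
open CategoryTheory CategoryTheory.Abelian
open scoped TensorProduct
set_option linter.unusedSectionVars false

namespace Groth.Agent.H6

namespace Soc

section Basic

variable {R : Type u} [CommRing R] (p : Ideal R) [hp : p.IsPrime]
  (X : Type u) [AddCommGroup X] [Module R X]

/-- the socle of the localisation `X_p` -/
noncomputable def soc : Submodule (Localization.AtPrime p) (LocalizedModule p.primeCompl X) :=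
  Submodule.torsionBySet (Localization.AtPrime p) (LocalizedModule p.primeCompl X)
    (IsLocalRing.maximalIdeal (Localization.AtPrime p) : Set (Localization.AtPrime p))

theorem mem_soc_iff (v : LocalizedModule p.primeCompl X) :
    v ∈ soc p X ↔ ∀ a ∈ p, (algebraMap R (Localization.AtPrime p) a) • v = 0 := by
  unfold soc
  rw [Submodule.mem_torsionBySet_iff]
  constructor
  · intro h a ha
    have hm : algebraMap R (Localization.AtPrime p) a ∈
        IsLocalRing.maximalIdeal (Localization.AtPrime p) := by
      rw [← Localization.AtPrime.map_eq_maximalIdeal]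
      exact Ideal.mem_map_of_mem _ ha
    exact h ⟨_, hm⟩
  · rintro h ⟨c, hc⟩
    change c • v = 0
    have hc' : c ∈ Ideal.map (algebraMap R (Localization.AtPrime p)) p := by
      rw [Localization.AtPrime.map_eq_maximalIdeal]
      exact hc
    clear hc
    unfold Ideal.map at hc'
    induction hc' using Submodule.span_induction with
    | mem c hc =>
      obtain ⟨a, ha, rfl⟩ := hc
      exact h a ha
    | zero => rw [zero_smul]
    | add c c' _ _ h1 h2 => rw [add_smul, h1, h2, add_zero]
    | smul r c _ h1 => rw [smul_eq_mul, mul_smul, h1, smul_zero]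

theorem mk_mem_soc_iff (x : X) (s : p.primeCompl) :
    LocalizedModule.mk x s ∈ soc p X ↔ ∀ a ∈ p, ∃ t : p.primeCompl, t • a • x = 0 := by
  rw [mem_soc_iff]
  constructor
  · intro h a ha
    have h1 := h a ha
    rw [algebraMap_smul, LocalizedModule.smul'_mk] at h1
    rw [← LocalizedModule.zero_mk s, LocalizedModule.mk_eq] at h1
    obtain ⟨t, ht⟩ := h1
    refine ⟨t * s, ?_⟩
    rw [smul_zero, smul_zero] at ht
    rw [mul_smul]
    exact ht
  · intro h a ha
    obtain ⟨t, ht⟩ := h a ha
    rw [algebraMap_smul, LocalizedModule.smul'_mk, ← LocalizedModule.zero_mk s, LocalizedModule.mk_eq]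
    refine ⟨t, ?_⟩
    rw [smul_zero, smul_zero, smul_comm, ht, smul_zero]

variable [IsNoetherianRing R]

theorem bassNum_zero_eq : GrLC.bassNum p X 0 = Module.length (Localization.AtPrime p) (soc p X) := by
  have e1 := Can.cY (ModuleCat.of (Localization.AtPrime p)
    (IsLocalRing.ResidueField (Localization.AtPrime p)))
    (ModuleCat.of (Localization.AtPrime p) (LocalizedModule p.primeCompl X))
  have e2 := IH.homQuotEquiv (IsLocalRing.maximalIdeal (Localization.AtPrime p))
    (LocalizedModule p.primeCompl X)
  exact (e1.trans e2).length_eq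

end Basic

end Soc

end Groth.Agent.H6
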