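import Groth.Agent.Lib.Helper6.GrGorInj2
import Groth.Agent.Lib.Helper6.SocBasic

/-! The type of a ring whose local cohomology is concentrated in one degree: Bass numbers via the
socle of the top local cohomology. -/

universe u
open DirectSum CategoryTheory CategoryTheory.Abelian
open scoped TensorProduct
set_option linter.unusedSectionVars false

namespace Groth.Agent.H6

namespace GrType

section Top

variable {R : Type u} [CommRing R] [IsNoetherianRing R] (p : Ideal R) [hp : p.IsPrime] (n : ℕ)
variable {X : Type u} [AddCommGroup X] [Module R X]

/-- if the local cohomology of `R` with support in `p` is concentrated in degree `n`, then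
`μ_n(p, R) = μ_0(p, H^n_p(R))` -/
theorem bassNum_eq_bassNum_top (hvanR : ∀ i, i ≠ n → Subsingleton (LocCoh.H p i R))
    (ψ : X ≃ₗ[R] LocCoh.H p n R) : GrLC.bassNum p R n = GrLC.bassNum p X 0 := by
  have e1 : LocalizedModule p.primeCompl X ≃ₗ[Localization.AtPrime p]
      LocalizedModule p.primeCompl (LocCoh.H p n R) :=
    IsLocalizedModule.mapEquiv p.primeCompl
      (LocalizedModule.mkLinearMap p.primeCompl X)
      (LocalizedModule.mkLinearMap p.primeCompl _) (Localization.AtPrime p) ψ
  have eL : ∀ i : ℕ, Nonempty (LocalizedModule p.primeCompl (LocCoh.H p i R)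
      ≃ₗ[Localization.AtPrime p] (localCohomology
      (IsLocalRing.maximalIdeal (Localization.AtPrime p)) i).obj
      (ModuleCat.of (Localization.AtPrime p) (Localization.AtPrime p))) := by
    intro i
    obtain ⟨e2⟩ := Groth.Agent.S11618.result R p p.primeCompl R i
    have e3 := CanLoc.lcIdealCongr _ _ (Localization.AtPrime.map_eq_maximalIdeal (I := p)) i
      (LocalizedModule p.primeCompl R)
    have e4 := CanQ.lcCongr (IsLocalRing.maximalIdeal (Localization.AtPrime p)) i
      (GorBass.selfEquiv p)
    exact ⟨e2.trans (e3.trans e4)⟩
  obtain ⟨eH0⟩ := eL n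
  have eH := e1.trans eH0
  have hvan : ∀ i, i ≠ n → Subsingleton ((localCohomology
      (IsLocalRing.maximalIdeal (Localization.AtPrime p)) i).obj
      (ModuleCat.of (Localization.AtPrime p) (Localization.AtPrime p))) := by
    intro i hi
    obtain ⟨ei⟩ := eL i
    haveI := hvanR i hi
    haveI : Subsingleton (LocalizedModule p.primeCompl (LocCoh.H p i R)) :=
      LocalizedModule.instSubsingleton _
    exact ei.symm.toEquiv.subsingleton
  haveI : IsNoetherianRing (Localization.AtPrime p) :=
    IsLocalization.isNoetherianRing p.primeCompl _ inferInstance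
  obtain ⟨c⟩ := ExtLin.collapse (IsLocalRing.maximalIdeal (Localization.AtPrime p))
    (ModuleCat.of (Localization.AtPrime p)
      (IsLocalRing.ResidueField (Localization.AtPrime p)))
    GorInj.residue_torsion' n
    (ModuleCat.of (Localization.AtPrime p) (Localization.AtPrime p)) hvan 0
  have c2 := ExtLin.postcompEquiv eH.symm.toModuleIso
    (ModuleCat.of (Localization.AtPrime p)
      (IsLocalRing.ResidueField (Localization.AtPrime p))) 0
  have c0 := ExtLin.postcompEquiv (GorBass.selfEquiv p).toModuleIso
    (ModuleCat.of (Localization.AtPrime p)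
      (IsLocalRing.ResidueField (Localization.AtPrime p))) n
  unfold GrLC.bassNum GrLC.bassNumLocal
  rw [add_zero] at c
  exact (c0.trans (c.trans c2)).length_eq

end Top

section Socle

variable {R : Type u} [CommRing R] [IsNoetherianRing R] (p : Ideal R) [hp : p.IsPrime]
variable {X : Type u} [AddCommGroup X] [Module R X] {d : ℕ} (v : Fin d → X)

/-- the candidate basis vectors of the socle -/
noncomputable def vec (i : Fin d) : LocalizedModule p.primeCompl X := LocalizedModule.mk (v i) 1

variable (hv : ∀ i, ∀ a ∈ p, a • v i = 0)
  (hspan : ∀ x : X, (∀ a ∈ p, a • x = 0) → ∃ c : Fin d → R, x = ∑ i, c i • v i)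
  (hind : ∀ c : Fin d → R, ∑ i, c i • v i = 0 → ∀ i, c i ∈ p)

include hv in
theorem vec_mem_soc (i : Fin d) : vec p v i ∈ Soc.soc p X := by
  unfold vec
  rw [Soc.mk_mem_soc_iff]
  intro a ha
  exact ⟨1, by rw [hv i a ha, smul_zero]⟩

include hv hind in
theorem linearCombination_eq_zero_iff (c : Fin d →₀ Localization.AtPrime p) :
    Finsupp.linearCombination (Localization.AtPrime p) (vec p v) c = 0 ↔
      ∀ i, c i ∈ IsLocalRing.maximalIdeal (Localization.AtPrime p) := by
  classical
  constructor
  · intro h i
    obtain ⟨b, hb⟩ := IsLocalization.exist_integer_multiples_of_finset p.primeCompl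
      (Finset.univ.image c)
    have hb' : ∀ j, ∃ a : R, algebraMap R (Localization.AtPrime p) a = (b : R) • c j :=
      fun j => hb (c j) (Finset.mem_image_of_mem c (Finset.mem_univ j))
    choose a ha using hb'
    have h1 : LocalizedModule.mkLinearMap p.primeCompl X (∑ j, a j • v j) = 0 := by
      rw [map_sum]
      have h2 : (b : R) • Finsupp.linearCombination (Localization.AtPrime p) (vec p v) c = 0 := by
        rw [h, smul_zero]
      rw [Finsupp.linearCombination_apply,
        Finsupp.sum_fintype c (fun i a => a • vec p v i) (fun j => zero_smul _ _),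
        Finset.smul_sum] at h2
      rw [← h2]
      apply Finset.sum_congr rfl
      intro j _
      rw [← smul_assoc, ← ha j, algebraMap_smul]
      unfold vec
      rw [LocalizedModule.mkLinearMap_apply, LocalizedModule.smul'_mk]
    obtain ⟨t, ht⟩ := (IsLocalizedModule.eq_zero_iff p.primeCompl
      (LocalizedModule.mkLinearMap p.primeCompl X)).mp h1
    rw [Finset.smul_sum] at ht
    have h3 : ∑ j, ((t : R) * a j) • v j = 0 := by
      rw [← ht]
      apply Finset.sum_congr rfl
      intro j _
      rw [mul_smul]
      rfl
    have h4 := hind _ h3 i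
    have h7 : a i ∈ p := (hp.mem_or_mem h4).resolve_left t.2
    have h8 : (b : R) • c i ∈ IsLocalRing.maximalIdeal (Localization.AtPrime p) := by
      rw [← ha i, ← Localization.AtPrime.map_eq_maximalIdeal]
      exact Ideal.mem_map_of_mem _ h7
    rw [Algebra.smul_def] at h8
    exact (Ideal.unit_mul_mem_iff_mem _ (IsLocalization.map_units _ b)).mp h8
  · intro h
    rw [Finsupp.linearCombination_apply, Finsupp.sum]
    apply Finset.sum_eq_zero
    intro i _
    exact (Submodule.mem_torsionBySet_iff _ _).mp (vec_mem_soc p v hv i) ⟨c i, h i⟩

include hv hspan in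
theorem range_linearCombination :
    LinearMap.range (Finsupp.linearCombination (Localization.AtPrime p) (vec p v)) =
      Soc.soc p X := by
  classical
  apply le_antisymm
  · rw [Finsupp.range_linearCombination, Submodule.span_le]
    rintro _ ⟨i, rfl⟩
    exact vec_mem_soc p v hv i
  · intro y hy
    induction y using LocalizedModule.induction_on with
    | h x s =>
      rw [Soc.mk_mem_soc_iff] at hy
      obtain ⟨F, hF⟩ : p.FG := (isNoetherianRing_iff_ideal_fg R).mp inferInstance p
      obtain ⟨t, ht⟩ := Soc.exists_common p x F (fun a ha => hy a (hF ▸ Ideal.subset_span ha))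
      have hx' : ∀ a ∈ p, a • ((t : R) • x) = 0 := by
        intro a ha
        rw [← hF] at ha
        induction ha using Submodule.span_induction with
        | mem a ha =>
          have := ht a ha
          rw [smul_comm]
          exact this
        | zero => rw [zero_smul]
        | add a a' _ _ h1 h2 => rw [add_smul, h1, h2, add_zero]
        | smul r a _ h1 => rw [smul_eq_mul, mul_smul, h1, smul_zero]
      obtain ⟨c, hc⟩ := hspan _ hx'
      have h1 : LocalizedModule.mk x s =
          ∑ i, (Localization.mk (c i) (t * s) : Localization.AtPrime p) • vec p v i := by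
        have h2 : ∀ i, (Localization.mk (c i) (t * s) : Localization.AtPrime p) • vec p v i =
            LocalizedModule.mk (c i • v i) (t * s) := by
          intro i
          unfold vec
          rw [LocalizedModule.mk_smul_mk, mul_one]
        rw [Finset.sum_congr rfl (fun i _ => h2 i)]
        have h3 : ∑ i, LocalizedModule.mk (c i • v i) (t * s) =
            LocalizedModule.mk (∑ i, c i • v i) (t * s) := by
          have := map_sum ((LocalizedModule.mkLinearMap p.primeCompl X)) (fun i => c i • v i)
            Finset.univ
          have h4 : ∀ y : X, LocalizedModule.mk y (t * s) =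
              (Localization.mk 1 (t * s) : Localization.AtPrime p) •
                LocalizedModule.mkLinearMap p.primeCompl X y := by
            intro y
            rw [LocalizedModule.mkLinearMap_apply, LocalizedModule.mk_smul_mk, one_smul, mul_one]
          rw [h4, this, Finset.smul_sum]
          exact Finset.sum_congr rfl fun i _ => h4 _
        rw [h3, ← hc]
        exact (LocalizedModule.mk_cancel_common_left t s x).symm
      rw [h1]
      apply Submodule.sum_mem
      intro i _
      apply Submodule.smul_mem
      exact ⟨Finsupp.single i 1, by rw [Finsupp.linearCombination_single, one_smul]⟩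

include hv hspan hind in
/-- the socle of `X_p` has length `d` if the submodule of `X` killed by `p` has a basis of `d`
elements over `R ⧸ p` -/
theorem length_soc_eq :
    Module.length (Localization.AtPrime p) (Soc.soc p X) = (d : ℕ∞) := by
  classical
  let m := IsLocalRing.maximalIdeal (Localization.AtPrime p)
  let Ψ := Finsupp.linearCombination (Localization.AtPrime p) (vec p v)
  let π : (Fin d →₀ Localization.AtPrime p) →ₗ[Localization.AtPrime p]
      (Fin d →₀ (Localization.AtPrime p ⧸ m)) :=
    Finsupp.mapRange.linearMap (Submodule.mkQ m)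
  have hπ : Function.Surjective π :=
    Finsupp.mapRange_surjective _ (map_zero _) (Submodule.mkQ_surjective m)
  have hker : LinearMap.ker π = LinearMap.ker Ψ := by
    ext c
    rw [LinearMap.mem_ker, LinearMap.mem_ker, linearCombination_eq_zero_iff p v hv hind c]
    constructor
    · intro h i
      have := DFunLike.congr_fun h i
      rw [Finsupp.mapRange.linearMap_apply, Finsupp.mapRange_apply, Finsupp.zero_apply,
        Submodule.mkQ_apply, Submodule.Quotient.mk_eq_zero] at this
      exact this
    · intro h
      ext i
      rw [Finsupp.mapRange.linearMap_apply, Finsupp.mapRange_apply, Finsupp.zero_apply,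
        Submodule.mkQ_apply, Submodule.Quotient.mk_eq_zero]
      exact h i
  have e : (Fin d →₀ (Localization.AtPrime p ⧸ m)) ≃ₗ[Localization.AtPrime p] Soc.soc p X :=
    (π.quotKerEquivOfSurjective hπ).symm ≪≫ₗ Submodule.quotEquivOfEq _ _ hker ≪≫ₗ
      Ψ.quotKerEquivRange ≪≫ₗ
      LinearEquiv.ofEq _ _ (range_linearCombination p v hv hspan)
  rw [← e.length_eq, Module.length_finsupp]
  haveI : IsSimpleModule (Localization.AtPrime p) (Localization.AtPrime p ⧸ m) :=
    IH.isSimpleModule_residue
  rw [Module.length_eq_one, mul_one]
  simp

include hv hspan hind in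
theorem bassNum_zero_eq : GrLC.bassNum p X 0 = (d : ℕ∞) := by
  rw [Soc.bassNum_zero_eq]
  exact length_soc_eq p v hv hspan hind

end Socle

end GrType

end Groth.Agent.H6
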