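import Mathlib
import Groth.Agent.Lib.Helper9.Misc.FixedReg

/-!
# Graded rings with a homogeneous unit of minimal positive degree

`R` a `ℤ`-graded ring with `R₀` local, `t ∈ R_N` a homogeneous unit with `N > 0` minimal.
Then `R/(t-1)` is local, and regular if `R` is.
-/

set_option autoImplicit false
set_option linter.unusedSectionVars false
set_option linter.unusedVariables false
universe u

namespace Groth.Agent.H6.GrUnit

open DirectSum IsLocalRing

variable {R : Type u} [CommRing R]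

section General

/-- quotient of a regular local ring by an element of `m \ m²` -/
theorem regular_quot (A : Type*) [CommRing A] [IsRegularLocalRing A] (g : A)
    (hg : g ∈ maximalIdeal A) (hg2 : g ∉ maximalIdeal A ^ 2) :
    IsRegularLocalRing (A ⧸ Ideal.span {g}) := by
  refine Groth.Agent.H9.FixedReg.isRegularLocalRing_quotient _ ?_ ?_
  · rw [Ideal.span_singleton_le_iff_mem]; exact hg
  · rintro z ⟨hzJ, hz2⟩
    obtain ⟨a, rfl⟩ := Ideal.mem_span_singleton'.mp hzJ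
    by_cases ha : a ∈ maximalIdeal A
    · exact Ideal.mul_mem_mul ha (Ideal.subset_span rfl)
    · exfalso
      have hau : IsUnit a := by
        by_contra hnu; exact ha ((mem_maximalIdeal _).mpr hnu)
      apply hg2
      obtain ⟨u, rfl⟩ := hau
      have : g = ((u⁻¹ : Aˣ) : A) * ((u : A) * g) := by
        rw [← mul_assoc, Units.inv_mul, one_mul]
      rw [this]; exact Ideal.mul_mem_left _ _ hz2

theorem not_mem_sq (P : Ideal R) [P.IsPrime] (x : R) (h : ∀ s : R, s ∉ P → s * x ∉ P ^ 2) :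
    algebraMap R (Localization.AtPrime P) x ∉ maximalIdeal (Localization.AtPrime P) ^ 2 := by
  intro hx
  rw [← IsLocalization.AtPrime.map_eq_maximalIdeal P (Localization.AtPrime P), ← Ideal.map_pow,
    IsLocalization.mem_map_algebraMap_iff P.primeCompl (Localization.AtPrime P)] at hx
  obtain ⟨⟨u, s⟩, h2⟩ := hx
  rw [← map_mul, IsLocalization.eq_iff_exists P.primeCompl (Localization.AtPrime P)] at h2
  obtain ⟨c, h3⟩ := h2
  have hcs : (c : R) * s ∉ P := fun hh =>
    (Ideal.IsPrime.mem_or_mem ‹P.IsPrime› hh).elim c.2 s.2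
  apply h _ hcs
  have : (c : R) * s * x = c * u := by
    have h4 : (c : R) * (x * (s : R)) = c * (u : R) := h3
    rw [← h4]; ring
  rw [this]
  exact Ideal.mul_mem_left _ _ u.2

theorem quot_equiv_loc (I P : Ideal R) [hP : P.IsPrime]
    (hunit : ∀ s : R, s ∉ P → IsUnit (Ideal.Quotient.mk I s)) :
    Nonempty ((R ⧸ I) ≃+*
      (Localization.AtPrime P ⧸ I.map (algebraMap R (Localization.AtPrime P)))) := by
  have hφI : ∀ a ∈ I, ((Ideal.Quotient.mk (I.map (algebraMap R (Localization.AtPrime P)))).comp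
      (algebraMap R (Localization.AtPrime P))) a = 0 := by
    intro a ha
    rw [RingHom.comp_apply, Ideal.Quotient.eq_zero_iff_mem]
    exact Ideal.mem_map_of_mem _ ha
  let f : R ⧸ I →+* Localization.AtPrime P ⧸ I.map (algebraMap R (Localization.AtPrime P)) :=
    Ideal.Quotient.lift I _ hφI
  have hf : ∀ a : R, f (Ideal.Quotient.mk I a) =
      Ideal.Quotient.mk _ (algebraMap R (Localization.AtPrime P) a) := fun a => rfl
  have hinj : Function.Injective f := by
    rw [injective_iff_map_eq_zero]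
    intro z hz
    obtain ⟨c, rfl⟩ := Ideal.Quotient.mk_surjective z
    rw [hf, Ideal.Quotient.eq_zero_iff_mem,
      IsLocalization.mem_map_algebraMap_iff P.primeCompl (Localization.AtPrime P)] at hz
    obtain ⟨⟨a, s⟩, h2⟩ := hz
    rw [← map_mul, IsLocalization.eq_iff_exists P.primeCompl (Localization.AtPrime P)] at h2
    obtain ⟨s', h3⟩ := h2
    have h3' : (s' : R) * (c * (s : R)) = s' * (a : R) := h3
    have h4 : Ideal.Quotient.mk I ((s' : R) * s) * Ideal.Quotient.mk I c = 0 := by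
      rw [← map_mul, Ideal.Quotient.eq_zero_iff_mem]
      have : (s' : R) * s * c = s' * a := by rw [← h3']; ring
      rw [this]; exact Ideal.mul_mem_left _ _ a.2
    have hu := hunit ((s' : R) * s) (fun h => (hP.mem_or_mem h).elim s'.2 s.2)
    exact (hu.mul_right_eq_zero).mp h4
  have hsurj : Function.Surjective f := by
    intro q
    obtain ⟨y, rfl⟩ := Ideal.Quotient.mk_surjective q
    obtain ⟨r, s, rfl⟩ := IsLocalization.exists_mk'_eq P.primeCompl y
    obtain ⟨v, hv⟩ := (hunit s s.2).exists_left_inv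
    refine ⟨Ideal.Quotient.mk I r * v, ?_⟩
    have hsu : IsUnit (Ideal.Quotient.mk (I.map (algebraMap R (Localization.AtPrime P)))
        (algebraMap R (Localization.AtPrime P) (s : R))) :=
      (IsLocalization.map_units (Localization.AtPrime P) s).map _
    refine hsu.mul_left_inj.mp ?_
    calc f (Ideal.Quotient.mk I r * v) * Ideal.Quotient.mk _
          (algebraMap R (Localization.AtPrime P) (s : R))
        = f (Ideal.Quotient.mk I r * v) * f (Ideal.Quotient.mk I (s : R)) := by rw [hf]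
      _ = f (Ideal.Quotient.mk I r * v * Ideal.Quotient.mk I (s : R)) := (map_mul f _ _).symm
      _ = f (Ideal.Quotient.mk I r) := by rw [mul_assoc, hv, mul_one]
      _ = Ideal.Quotient.mk _ (algebraMap R (Localization.AtPrime P) r) := hf r
      _ = Ideal.Quotient.mk _ (IsLocalization.mk' (Localization.AtPrime P) r s *
            algebraMap R (Localization.AtPrime P) (s : R)) := by rw [IsLocalization.mk'_spec]
      _ = _ := map_mul _ _ _
  exact ⟨RingEquiv.ofBijective f ⟨hinj, hsurj⟩⟩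

end General

section Basic
variable (𝒜 : ℤ → AddSubgroup R) [GradedRing 𝒜]

theorem inv_mem (T : Rˣ) (N : ℤ) (hT : (T : R) ∈ 𝒜 N) : ((T⁻¹ : Rˣ) : R) ∈ 𝒜 (-N) := by
  classical
  have h := DirectSum.coe_decompose_mul_add_of_left_mem 𝒜 (i := N) (j := -N) hT
    (b := ((T⁻¹ : Rˣ) : R))
  rw [Units.mul_inv, add_neg_cancel,
    DirectSum.decompose_of_mem_same 𝒜 (SetLike.GradedOne.one_mem : (1 : R) ∈ 𝒜 0)] at h
  have h2 : ((T⁻¹ : Rˣ) : R) = (decompose 𝒜 ((T⁻¹ : Rˣ) : R) (-N) : R) := by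
    calc ((T⁻¹ : Rˣ) : R) = ((T⁻¹ : Rˣ) : R) * 1 := (mul_one _).symm
      _ = ((T⁻¹ : Rˣ) : R) * ((T : R) * (decompose 𝒜 ((T⁻¹ : Rˣ) : R) (-N) : R)) := by rw [← h]
      _ = (decompose 𝒜 ((T⁻¹ : Rˣ) : R) (-N) : R) := by
        rw [← mul_assoc, Units.inv_mul, one_mul]
  rw [h2]
  exact (decompose 𝒜 ((T⁻¹ : Rˣ) : R) (-N)).2

theorem zpow_mem (T : Rˣ) (N : ℤ) (hT : (T : R) ∈ 𝒜 N) (j : ℤ) :
    ((T ^ j : Rˣ) : R) ∈ 𝒜 (j * N) := by
  obtain ⟨n, rfl | rfl⟩ := Int.eq_nat_or_neg j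
  · rw [zpow_natCast, Units.val_pow_eq_pow_val]
    have := SetLike.pow_mem_graded n hT
    rwa [nsmul_eq_mul] at this
  · rw [zpow_neg, zpow_natCast, ← inv_pow, Units.val_pow_eq_pow_val]
    have := SetLike.pow_mem_graded n (inv_mem 𝒜 T N hT)
    rwa [nsmul_eq_mul, mul_neg, ← neg_mul] at this

end Basic

/-- the data: a homogeneous unit `T` of minimal positive degree `N` -/
structure Data (𝒜 : ℤ → AddSubgroup R) [GradedRing 𝒜] where
  T : Rˣ
  N : ℕ
  hN : 0 < N
  hT : (T : R) ∈ 𝒜 (N : ℤ)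
  hmin : ∀ (n : ℤ), 0 < n → n < (N : ℤ) → ∀ s ∈ 𝒜 n, ¬ IsUnit s

variable {𝒜 : ℤ → AddSubgroup R} [GradedRing 𝒜] (D : Data 𝒜)

namespace Data

theorem hN' : (0 : ℤ) < D.N := by exact_mod_cast D.hN

theorem zmem (j : ℤ) : ((D.T ^ j : Rˣ) : R) ∈ 𝒜 (j * D.N) := zpow_mem 𝒜 D.T D.N D.hT j

theorem dvd_of_isUnit {x : R} {a : ℤ} (hx : x ∈ 𝒜 a) (hu : IsUnit x) : (D.N : ℤ) ∣ a := by
  by_contra h
  have hN' := D.hN'
  have hr0 : 0 < a % (D.N : ℤ) :=
    lt_of_le_of_ne (Int.emod_nonneg a hN'.ne')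
      (fun h0 => h (Int.dvd_of_emod_eq_zero h0.symm))
  have hr1 : a % (D.N : ℤ) < D.N := Int.emod_lt_of_pos a hN'
  have hs : ((D.T ^ (-(a / (D.N : ℤ))) : Rˣ) : R) * x ∈ 𝒜 (a % (D.N : ℤ)) := by
    have h2 := SetLike.mul_mem_graded (D.zmem (-(a / (D.N : ℤ)))) hx
    have h3 : -(a / (D.N : ℤ)) * D.N + a = a % (D.N : ℤ) := by rw [Int.emod_def]; ring
    rwa [h3] at h2
  exact D.hmin _ hr0 hr1 _ hs ((D.T ^ (-(a / (D.N : ℤ)))).isUnit.mul hu)

/-- the component map `R_i → R₀`, `a ↦ t^{-i/N} a` for `N ∣ i` and `0` otherwise -/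
noncomputable def rhoI (i : ℤ) : 𝒜 i →+ SetLike.GradeZero.subring 𝒜 :=
  if h : (D.N : ℤ) ∣ i then
    { toFun := fun a => ⟨((D.T ^ (-(i / (D.N : ℤ))) : Rˣ) : R) * a, by
        show _ ∈ 𝒜 0
        have h2 := SetLike.mul_mem_graded (D.zmem (-(i / (D.N : ℤ)))) a.2
        have h3 : -(i / (D.N : ℤ)) * D.N + i = 0 := by
          rw [neg_mul, Int.ediv_mul_cancel h]; ring
        rwa [h3] at h2⟩
      map_zero' := Subtype.ext (by simp)
      map_add' := fun a b => Subtype.ext (by simp [mul_add]) }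
  else 0

/-- the folding map `R → R₀` -/
noncomputable def rho : R →+ SetLike.GradeZero.subring 𝒜 :=
  (DirectSum.toAddMonoid D.rhoI).comp (DirectSum.decomposeAddEquiv 𝒜).toAddMonoidHom

theorem rho_of_mem {x : R} {i : ℤ} (hx : x ∈ 𝒜 i) : D.rho x = D.rhoI i ⟨x, hx⟩ := by
  simp only [rho, AddMonoidHom.comp_apply, AddEquiv.coe_toAddMonoidHom,
    DirectSum.decomposeAddEquiv_apply, DirectSum.decompose_of_mem 𝒜 hx, DirectSum.toAddMonoid_of]

theorem rho_dvd {x : R} {i : ℤ} (hx : x ∈ 𝒜 i) (h : (D.N : ℤ) ∣ i) :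
    ((D.rho x : SetLike.GradeZero.subring 𝒜) : R) =
      ((D.T ^ (-(i / (D.N : ℤ))) : Rˣ) : R) * x := by
  rw [D.rho_of_mem hx, rhoI, dif_pos h]; rfl

theorem rho_not_dvd {x : R} {i : ℤ} (hx : x ∈ 𝒜 i) (h : ¬ (D.N : ℤ) ∣ i) : D.rho x = 0 := by
  rw [D.rho_of_mem hx, rhoI, dif_neg h]; rfl

theorem rho_one : D.rho 1 = 1 := by
  apply Subtype.ext
  rw [D.rho_dvd (SetLike.GradedOne.one_mem : (1 : R) ∈ 𝒜 0) (dvd_zero _)]
  simp

theorem rho_T : D.rho (D.T : R) = 1 := by
  apply Subtype.ext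
  rw [D.rho_dvd D.hT (dvd_refl _), Int.ediv_self D.hN'.ne', zpow_neg, zpow_one, Units.inv_mul]
  rfl

theorem rho_mul_T (y : R) : D.rho (y * (D.T : R)) = D.rho y := by
  refine DirectSum.Decomposition.inductionOn 𝒜
    (motive := fun y => D.rho (y * (D.T : R)) = D.rho y) ?_ ?_ ?_ y
  · simp
  · intro i m
    have hm : (m : R) * (D.T : R) ∈ 𝒜 (i + D.N) := SetLike.mul_mem_graded m.2 D.hT
    by_cases h : (D.N : ℤ) ∣ i
    · have h' : (D.N : ℤ) ∣ i + D.N := (dvd_add_left (dvd_refl _)).mpr h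
      apply Subtype.ext
      rw [D.rho_dvd hm h', D.rho_dvd m.2 h]
      have hq : (i + (D.N : ℤ)) / (D.N : ℤ) = i / (D.N : ℤ) + 1 := by
        rw [Int.add_ediv_of_dvd_right (dvd_refl _), Int.ediv_self D.hN'.ne']
      rw [hq, neg_add, zpow_add, zpow_neg_one, Units.val_mul]
      calc ((D.T ^ (-(i / (D.N : ℤ))) : Rˣ) : R) * ((D.T⁻¹ : Rˣ) : R) * ((m : R) * (D.T : R))
          = ((D.T ^ (-(i / (D.N : ℤ))) : Rˣ) : R) * m * (((D.T⁻¹ : Rˣ) : R) * D.T) := by ring
        _ = _ := by rw [Units.inv_mul, mul_one]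
    · have h' : ¬ (D.N : ℤ) ∣ i + D.N := fun hh => h ((dvd_add_left (dvd_refl _)).mp hh)
      rw [D.rho_not_dvd hm h', D.rho_not_dvd m.2 h]
  · intro m m' hm hm'
    rw [add_mul, map_add, map_add, hm, hm']

theorem rho_mul_of_dvd {x y : R} {a b : ℤ} (hx : x ∈ 𝒜 a) (hy : y ∈ 𝒜 b)
    (ha : (D.N : ℤ) ∣ a) (hb : (D.N : ℤ) ∣ b) : D.rho (x * y) = D.rho x * D.rho y := by
  apply Subtype.ext
  rw [Subring.coe_mul, D.rho_dvd (SetLike.mul_mem_graded hx hy) (dvd_add ha hb),
    D.rho_dvd hx ha, D.rho_dvd hy hb, Int.add_ediv_of_dvd_left ha, neg_add, zpow_add,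
    Units.val_mul]
  ring

variable [IsLocalRing (SetLike.GradeZero.subring 𝒜)]

/-- augmentation -/
noncomputable def eps : R →+ ResidueField (SetLike.GradeZero.subring 𝒜) :=
  (residue (SetLike.GradeZero.subring 𝒜)).toAddMonoidHom.comp D.rho

theorem eps_apply (x : R) : D.eps x = residue _ (D.rho x) := rfl

/-- the `eps`-derivation `d/dt` at `t = 1` -/
noncomputable def lam : R →+ ResidueField (SetLike.GradeZero.subring 𝒜) :=
  (DirectSum.toAddMonoid (fun i => (i / (D.N : ℤ)) •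
    ((residue (SetLike.GradeZero.subring 𝒜)).toAddMonoidHom.comp (D.rhoI i)))).comp
    (DirectSum.decomposeAddEquiv 𝒜).toAddMonoidHom

theorem lam_of_mem {x : R} {i : ℤ} (hx : x ∈ 𝒜 i) :
    D.lam x = (i / (D.N : ℤ)) • residue _ (D.rho x) := by
  rw [D.rho_of_mem hx]
  simp only [lam, AddMonoidHom.comp_apply, AddEquiv.coe_toAddMonoidHom,
    DirectSum.decomposeAddEquiv_apply, DirectSum.decompose_of_mem 𝒜 hx, DirectSum.toAddMonoid_of,
    AddMonoidHom.smul_apply]
  rfl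

theorem lam_mul_hom {x y : R} {a b : ℤ} (hx : x ∈ 𝒜 a) (hy : y ∈ 𝒜 b) :
    D.lam (x * y) = D.lam x * D.eps y + D.eps x * D.lam y := by
  have hxy : x * y ∈ 𝒜 (a + b) := SetLike.mul_mem_graded hx hy
  rw [D.lam_of_mem hxy, D.lam_of_mem hx, D.lam_of_mem hy, eps_apply, eps_apply]
  by_cases ha : (D.N : ℤ) ∣ a
  · by_cases hb : (D.N : ℤ) ∣ b
    · rw [D.rho_mul_of_dvd hx hy ha hb, map_mul, Int.add_ediv_of_dvd_left ha, add_smul,
        smul_mul_assoc, mul_smul_comm]
    · have hab : ¬ (D.N : ℤ) ∣ a + b := fun h => hb ((dvd_add_right ha).mp h)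
      rw [D.rho_not_dvd hxy hab, D.rho_not_dvd hy hb]; simp
  · by_cases hb : (D.N : ℤ) ∣ b
    · have hab : ¬ (D.N : ℤ) ∣ a + b := fun h => ha ((dvd_add_left hb).mp h)
      rw [D.rho_not_dvd hxy hab, D.rho_not_dvd hx ha]; simp
    · rw [D.rho_not_dvd hx ha, D.rho_not_dvd hy hb]
      have : residue _ (D.rho (x * y)) = 0 := by
        by_cases hab : (D.N : ℤ) ∣ a + b
        · rw [residue_eq_zero_iff]
          by_contra hnm
          have hu : IsUnit (D.rho (x * y)) := by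
            by_contra hnu; exact hnm ((mem_maximalIdeal _).mpr hnu)
          have hu' : IsUnit ((D.rho (x * y) : SetLike.GradeZero.subring 𝒜) : R) :=
            hu.map (Subring.subtype _)
          rw [D.rho_dvd hxy hab] at hu'
          exact ha (D.dvd_of_isUnit hx
            (isUnit_of_mul_isUnit_left (isUnit_of_mul_isUnit_right hu')))
        · rw [D.rho_not_dvd hxy hab, map_zero]
      rw [this]; simp

theorem lam_mul (x y : R) : D.lam (x * y) = D.lam x * D.eps y + D.eps x * D.lam y := by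
  refine DirectSum.Decomposition.inductionOn 𝒜
    (motive := fun x => ∀ y, D.lam (x * y) = D.lam x * D.eps y + D.eps x * D.lam y) ?_ ?_ ?_ x y
  · intro y; simp
  · intro a m y
    refine DirectSum.Decomposition.inductionOn 𝒜
      (motive := fun y => D.lam ((m : R) * y) = D.lam m * D.eps y + D.eps m * D.lam y) ?_ ?_ ?_ y
    · simp
    · intro b m'
      exact D.lam_mul_hom m.2 m'.2
    · intro y y' h h'
      rw [mul_add, map_add, map_add, map_add, h, h']; ring
  · intro x x' h h' y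
    rw [add_mul, map_add, map_add, map_add, h y, h' y]; ring

theorem eps_T_sub_one : D.eps ((D.T : R) - 1) = 0 := by
  rw [map_sub, eps_apply, eps_apply, D.rho_T, D.rho_one, sub_self]

theorem lam_T_sub_one : D.lam ((D.T : R) - 1) = 1 := by
  rw [map_sub, D.lam_of_mem D.hT, D.lam_of_mem (SetLike.GradedOne.one_mem : (1 : R) ∈ 𝒜 0),
    D.rho_T, D.rho_one, Int.ediv_self D.hN'.ne', Int.zero_ediv]
  simp

/-- the ideal `(t - 1)` -/
abbrev II : Ideal R := Ideal.span {(D.T : R) - 1}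

/-- `R₀ → R/(t-1)` -/
abbrev fC : SetLike.GradeZero.subring 𝒜 →+* R ⧸ D.II :=
  (Ideal.Quotient.mk D.II).comp (Subring.subtype _)

theorem mk_T : Ideal.Quotient.mk D.II (D.T : R) = 1 := by
  rw [← map_one (Ideal.Quotient.mk D.II), Ideal.Quotient.eq]; exact Ideal.subset_span rfl

theorem mk_zpow (j : ℤ) : Ideal.Quotient.mk D.II ((D.T ^ j : Rˣ) : R) = 1 := by
  have h1 : Units.map ((Ideal.Quotient.mk D.II : R →+* R ⧸ D.II) : R →* R ⧸ D.II) D.T = 1 := by
    ext; simp [D.mk_T]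
  have h2 := congrArg Units.val
    (map_zpow (Units.map ((Ideal.Quotient.mk D.II : R →+* R ⧸ D.II) : R →* R ⧸ D.II)) D.T j)
  rw [h1, one_zpow, Units.coe_map] at h2
  simpa using h2

theorem exists_pow_eq {m : R} {i : ℤ} (hm : m ∈ 𝒜 i) :
    ∃ c : SetLike.GradeZero.subring 𝒜, (c : R) = ((D.T ^ (-i) : Rˣ) : R) * m ^ D.N := by
  refine ⟨⟨((D.T ^ (-i) : Rˣ) : R) * m ^ D.N, ?_⟩, rfl⟩
  show _ ∈ 𝒜 0
  have h2 := SetLike.mul_mem_graded (D.zmem (-i)) (SetLike.pow_mem_graded D.N hm)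
  have h3 : -i * (D.N : ℤ) + D.N • i = 0 := by rw [nsmul_eq_mul]; ring
  rwa [h3] at h2

theorem fC_isIntegral : (D.fC).IsIntegral := by
  intro z
  obtain ⟨x, rfl⟩ := Ideal.Quotient.mk_surjective z
  refine DirectSum.Decomposition.inductionOn 𝒜
    (motive := fun x => (D.fC).IsIntegralElem (Ideal.Quotient.mk D.II x)) ?_ ?_ ?_ x
  · rw [map_zero]; exact (D.fC).isIntegralElem_zero
  · intro i m
    obtain ⟨c, hc⟩ := D.exists_pow_eq m.2
    refine ⟨Polynomial.X ^ D.N - Polynomial.C c, Polynomial.monic_X_pow_sub_C c D.hN.ne', ?_⟩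
    rw [Polynomial.eval₂_sub, Polynomial.eval₂_pow, Polynomial.eval₂_X, Polynomial.eval₂_C]
    show _ - Ideal.Quotient.mk D.II (c : R) = 0
    rw [hc, map_mul, D.mk_zpow, one_mul, map_pow, sub_self]
  · intro y y' h h'
    rw [map_add]; exact RingHom.IsIntegralElem.add _ h h'

theorem comap_fC_eq (M : Ideal (R ⧸ D.II)) [M.IsMaximal] : M.comap D.fC = maximalIdeal _ :=
  eq_maximalIdeal (Ideal.isMaximal_comap_of_isIntegral_of_isMaximal' D.fC D.fC_isIntegral M)

theorem mk_mem_of_mem_max (M : Ideal (R ⧸ D.II)) [M.IsMaximal]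
    {c : SetLike.GradeZero.subring 𝒜} (hc : c ∈ maximalIdeal (SetLike.GradeZero.subring 𝒜)) :
    Ideal.Quotient.mk D.II (c : R) ∈ M := by
  have : c ∈ M.comap D.fC := by rw [D.comap_fC_eq M]; exact hc
  exact this

theorem mk_mem_of_not_dvd (M : Ideal (R ⧸ D.II)) [hM : M.IsMaximal] {a : R} {i : ℤ}
    (ha : a ∈ 𝒜 i) (hi : ¬ (D.N : ℤ) ∣ i) : Ideal.Quotient.mk D.II a ∈ M := by
  obtain ⟨c, hc⟩ := D.exists_pow_eq ha
  have hcm : c ∈ maximalIdeal (SetLike.GradeZero.subring 𝒜) := by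
    rw [mem_maximalIdeal]
    intro hu
    have hu' : IsUnit ((c : SetLike.GradeZero.subring 𝒜) : R) := hu.map (Subring.subtype _)
    rw [hc] at hu'
    exact hi (D.dvd_of_isUnit ha ((isUnit_pow_iff D.hN.ne').mp (isUnit_of_mul_isUnit_right hu')))
  have h1 := D.mk_mem_of_mem_max M hcm
  rw [hc, map_mul, D.mk_zpow, one_mul, map_pow] at h1
  exact hM.isPrime.mem_of_pow_mem _ h1

theorem mk_sub_mk_rho_mem (M : Ideal (R ⧸ D.II)) [M.IsMaximal] (x : R) :
    Ideal.Quotient.mk D.II x -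
      Ideal.Quotient.mk D.II ((D.rho x : SetLike.GradeZero.subring 𝒜) : R) ∈ M := by
  refine DirectSum.Decomposition.inductionOn 𝒜
    (motive := fun x => Ideal.Quotient.mk D.II x -
      Ideal.Quotient.mk D.II ((D.rho x : SetLike.GradeZero.subring 𝒜) : R) ∈ M) ?_ ?_ ?_ x
  · simp
  · intro i m
    by_cases h : (D.N : ℤ) ∣ i
    · rw [D.rho_dvd m.2 h, map_mul, D.mk_zpow, one_mul, sub_self]; exact zero_mem _
    · rw [D.rho_not_dvd m.2 h]; simpa using D.mk_mem_of_not_dvd M m.2 h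
  · intro y y' h h'
    have : Ideal.Quotient.mk D.II (y + y') -
        Ideal.Quotient.mk D.II ((D.rho (y + y') : SetLike.GradeZero.subring 𝒜) : R) =
        (Ideal.Quotient.mk D.II y -
          Ideal.Quotient.mk D.II ((D.rho y : SetLike.GradeZero.subring 𝒜) : R)) +
        (Ideal.Quotient.mk D.II y' -
          Ideal.Quotient.mk D.II ((D.rho y' : SetLike.GradeZero.subring 𝒜) : R)) := by
      rw [map_add D.rho, Subring.coe_add, map_add, map_add]; ring
    rw [this]; exact add_mem h h'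

theorem mk_mem_iff (M : Ideal (R ⧸ D.II)) [hM : M.IsMaximal] (x : R) :
    Ideal.Quotient.mk D.II x ∈ M ↔ D.rho x ∈ maximalIdeal (SetLike.GradeZero.subring 𝒜) := by
  have h0 := D.mk_sub_mk_rho_mem M x
  constructor
  · intro hx
    have h1 : Ideal.Quotient.mk D.II ((D.rho x : SetLike.GradeZero.subring 𝒜) : R) ∈ M := by
      have := sub_mem hx h0; simpa using this
    by_contra hnm
    have hu : IsUnit (D.rho x) := by
      by_contra hnu; exact hnm ((mem_maximalIdeal _).mpr hnu)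
    have hu2 : IsUnit (D.fC (D.rho x)) := hu.map D.fC
    exact hM.ne_top (Ideal.eq_top_of_isUnit_mem _ h1 hu2)
  · intro hx
    have h1 := D.mk_mem_of_mem_max M hx
    have := add_mem h0 h1; simpa using this

theorem II_ne_top : D.II ≠ ⊤ := by
  intro h
  have h1 : (1 : R) ∈ D.II := h ▸ Submodule.mem_top
  obtain ⟨y, hy⟩ := Ideal.mem_span_singleton'.mp h1
  have h2 : D.rho (y * ((D.T : R) - 1)) = 0 := by
    rw [mul_sub, mul_one, map_sub, D.rho_mul_T, sub_self]
  rw [hy, D.rho_one] at h2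
  exact one_ne_zero h2

theorem isLocalRing_quot : IsLocalRing (R ⧸ D.II) := by
  haveI : Nontrivial (R ⧸ D.II) := Ideal.Quotient.nontrivial_iff.mpr D.II_ne_top
  obtain ⟨M, hM⟩ := Ideal.exists_maximal (R ⧸ D.II)
  refine IsLocalRing.of_unique_max_ideal ⟨M, hM, fun M' hM' => ?_⟩
  ext z
  obtain ⟨x, rfl⟩ := Ideal.Quotient.mk_surjective z
  rw [D.mk_mem_iff M' x, D.mk_mem_iff M x]

theorem main (hreg : ∀ (p : Ideal R) [p.IsPrime], IsRegularLocalRing (Localization.AtPrime p)) :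
    IsRegularLocalRing (R ⧸ Ideal.span {(D.T : R) - 1}) := by
  haveI : IsLocalRing (R ⧸ D.II) := D.isLocalRing_quot
  have hMmax : (maximalIdeal (R ⧸ D.II)).IsMaximal := maximalIdeal.isMaximal _
  have hP : ((maximalIdeal (R ⧸ D.II)).comap (Ideal.Quotient.mk D.II)).IsPrime :=
    Ideal.comap_isPrime _ _
  have hmemP : ∀ x : R, x ∈ (maximalIdeal (R ⧸ D.II)).comap (Ideal.Quotient.mk D.II) ↔
      D.rho x ∈ maximalIdeal (SetLike.GradeZero.subring 𝒜) := fun x =>
    D.mk_mem_iff (maximalIdeal (R ⧸ D.II)) x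
  have hTP : (D.T : R) - 1 ∈ (maximalIdeal (R ⧸ D.II)).comap (Ideal.Quotient.mk D.II) := by
    have h0 : Ideal.Quotient.mk D.II ((D.T : R) - 1) = 0 :=
      Ideal.Quotient.eq_zero_iff_mem.mpr (Ideal.subset_span (Set.mem_singleton _))
    rw [Ideal.mem_comap, h0]
    exact zero_mem _
  haveI := hreg ((maximalIdeal (R ⧸ D.II)).comap (Ideal.Quotient.mk D.II))
  have heps : ∀ x : R, x ∈ (maximalIdeal (R ⧸ D.II)).comap (Ideal.Quotient.mk D.II) →
      D.eps x = 0 := fun x hx => by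
    rw [eps_apply, residue_eq_zero_iff]; exact (hmemP x).mp hx
  have hlam : ∀ u : R, u ∈ ((maximalIdeal (R ⧸ D.II)).comap (Ideal.Quotient.mk D.II)) ^ 2 →
      D.lam u = 0 := by
    intro u hu
    rw [pow_two] at hu
    refine Submodule.mul_induction_on hu ?_ ?_
    · intro x hx y hy
      rw [D.lam_mul, heps x hx, heps y hy]; simp
    · intro x y hx hy; rw [map_add, hx, hy, add_zero]
  have hg2 := not_mem_sq ((maximalIdeal (R ⧸ D.II)).comap (Ideal.Quotient.mk D.II))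
    ((D.T : R) - 1) (by
      intro s hs hmem
      have h1 := hlam _ hmem
      rw [D.lam_mul, D.eps_T_sub_one, D.lam_T_sub_one, mul_zero, zero_add, mul_one] at h1
      apply hs
      rw [hmemP, ← residue_eq_zero_iff]; exact h1)
  have hg1 : algebraMap R (Localization.AtPrime
      ((maximalIdeal (R ⧸ D.II)).comap (Ideal.Quotient.mk D.II))) ((D.T : R) - 1) ∈
      maximalIdeal _ :=
    (IsLocalization.AtPrime.to_map_mem_maximal_iff _
      ((maximalIdeal (R ⧸ D.II)).comap (Ideal.Quotient.mk D.II)) _).mpr hTP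
  haveI := regular_quot _ _ hg1 hg2
  obtain ⟨e⟩ := quot_equiv_loc D.II ((maximalIdeal (R ⧸ D.II)).comap (Ideal.Quotient.mk D.II))
    (by
      intro s hs
      by_contra h
      exact hs ((mem_maximalIdeal _).mpr h))
  rw [Ideal.map_span, Set.image_singleton] at e
  exact IsRegularLocalRing.of_ringEquiv e.symm

end Data

end Groth.Agent.H6.GrUnit
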