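import Mathlib
import Groth.Agent.Lib.Helper6.GrUnit
import Groth.Agent.Lib.Helper1.RegLoc
import Groth.Agent.Lib.Helper5.CA.RegHom2

/-!
# `R[U]/(U^N - t) ≅ (R/(t-1))[U, U⁻¹]` for a graded ring with homogeneous unit `t` of degree `N`
-/

set_option autoImplicit false
set_option linter.unusedSectionVars false
set_option linter.unusedVariables false
universe u

namespace Groth.Agent.H6.GrUnit2

open DirectSum IsLocalRing Polynomial

variable {R : Type u} [CommRing R]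

section Twist
variable (𝒜 : ℤ → AddSubgroup R) [GradedRing 𝒜] {S : Type*} [CommRing S] (j : R →+* S) (v : Sˣ)

/-- components of the twist -/
def twistI (i : ℤ) : 𝒜 i →+ S :=
  (AddMonoidHom.mulRight ((v ^ i : Sˣ) : S)).comp (j.toAddMonoidHom.comp (𝒜 i).subtype)

theorem twistI_apply (i : ℤ) (x : 𝒜 i) :
    twistI 𝒜 j v i x = j (x : R) * ((v ^ i : Sˣ) : S) := rfl

theorem twist_one : twistI 𝒜 j v 0 (@GradedMonoid.GOne.one ℤ (fun i => 𝒜 i) _ _) = 1 := by
  rw [twistI_apply, SetLike.coe_gOne, map_one, zpow_zero, Units.val_one, mul_one]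

theorem twist_mul {a b : ℤ} (x : 𝒜 a) (y : 𝒜 b) :
    twistI 𝒜 j v (a + b) (@GradedMonoid.GMul.mul ℤ (fun i => 𝒜 i) _ _ a b x y) =
      twistI 𝒜 j v a x * twistI 𝒜 j v b y := by
  rw [twistI_apply, twistI_apply, twistI_apply, SetLike.coe_gMul, map_mul, zpow_add,
    Units.val_mul]
  ring

/-- the twist `x ↦ ∑ j(x_i) v^i` -/
noncomputable def twist : R →+* S :=
  (DirectSum.toSemiring (twistI 𝒜 j v) (twist_one 𝒜 j v) (twist_mul 𝒜 j v)).comp
    (DirectSum.decomposeRingEquiv 𝒜).toRingHom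

theorem twist_of_mem {x : R} {i : ℤ} (hx : x ∈ 𝒜 i) :
    twist 𝒜 j v x = j x * ((v ^ i : Sˣ) : S) := by
  have h1 : twist 𝒜 j v x = DirectSum.toSemiring (twistI 𝒜 j v) (twist_one 𝒜 j v)
      (twist_mul 𝒜 j v) (decompose 𝒜 x) := rfl
  rw [h1, DirectSum.decompose_of_mem 𝒜 hx, DirectSum.toSemiring_of, twistI_apply]

theorem map_units_zpow {S₁ S₂ : Type*} [CommRing S₁] [CommRing S₂] (Φ : S₂ →+* S₁)
    (v₂ : S₂ˣ) (v₁ : S₁ˣ) (h : Φ (v₂ : S₂) = (v₁ : S₁)) (k : ℤ) :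
    Φ ((v₂ ^ k : S₂ˣ) : S₂) = ((v₁ ^ k : S₁ˣ) : S₁) := by
  have h1 : Units.map (Φ : S₂ →* S₁) v₂ = v₁ := Units.ext (by simpa using h)
  have h2 := congrArg Units.val (map_zpow (Units.map (Φ : S₂ →* S₁)) v₂ k)
  rw [h1, Units.coe_map] at h2
  simpa using h2

theorem comp_twist_twist {S₁ S₂ : Type*} [CommRing S₁] [CommRing S₂] (j₁ : R →+* S₁)
    (j₂ : R →+* S₂) (v₁ : S₁ˣ) (v₂ : S₂ˣ) (Φ : S₂ →+* S₁)
    (h1 : ∀ a, Φ (j₂ a) = twist 𝒜 j₁ v₁⁻¹ a) (h2 : Φ (v₂ : S₂) = (v₁ : S₁)) (a : R) :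
    Φ (twist 𝒜 j₂ v₂ a) = j₁ a := by
  refine DirectSum.Decomposition.inductionOn 𝒜
    (motive := fun a => Φ (twist 𝒜 j₂ v₂ a) = j₁ a) ?_ ?_ ?_ a
  · simp
  · intro k m
    rw [twist_of_mem 𝒜 j₂ v₂ m.2, map_mul, h1, twist_of_mem 𝒜 j₁ v₁⁻¹ m.2,
      map_units_zpow Φ v₂ v₁ h2 k, mul_assoc, ← Units.val_mul, ← mul_zpow, inv_mul_cancel,
      one_zpow, Units.val_one, mul_one]
  · intro y y' h h'
    rw [map_add, map_add, map_add, h, h']

end Twist

section Main
variable {𝒜 : ℤ → AddSubgroup R} [GradedRing 𝒜] [IsLocalRing (SetLike.GradeZero.subring 𝒜)]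
  (D : GrUnit.Data 𝒜)

/-- the polynomial `X^N - t` -/
noncomputable abbrev pol : R[X] := X ^ D.N - C (D.T : R)

theorem root_pow : (AdjoinRoot.root (pol D)) ^ D.N = AdjoinRoot.of (pol D) (D.T : R) := by
  have h : (X ^ D.N - C (D.T : R) : R[X]).eval₂ (AdjoinRoot.of (pol D))
      (AdjoinRoot.root (pol D)) = 0 := AdjoinRoot.eval₂_root (pol D)
  rw [eval₂_sub, eval₂_pow, eval₂_X, eval₂_C, sub_eq_zero] at h
  exact h

/-- the root as a unit -/
noncomputable def Uu : (AdjoinRoot (pol D))ˣ :=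
  Units.mkOfMulEqOne (AdjoinRoot.root (pol D))
    ((AdjoinRoot.root (pol D)) ^ (D.N - 1) * AdjoinRoot.of (pol D) ((D.T⁻¹ : Rˣ) : R)) (by
      rw [← mul_assoc, ← pow_succ', Nat.sub_add_cancel D.hN, root_pow, ← map_mul, Units.mul_inv,
        map_one])

theorem Uu_val : ((Uu D : (AdjoinRoot (pol D))ˣ) : AdjoinRoot (pol D)) =
    AdjoinRoot.root (pol D) := rfl

/-- the twisted map `R → R[U]/(U^N - t)`, `x ↦ ∑ x_i U^{-i}` -/
noncomputable def psi : R →+* AdjoinRoot (pol D) := twist 𝒜 (AdjoinRoot.of (pol D)) (Uu D)⁻¹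

theorem psi_T : psi D (D.T : R) = 1 := by
  rw [psi, twist_of_mem 𝒜 _ _ D.hT, zpow_natCast, inv_pow, ← root_pow, ← Uu_val,
    ← Units.val_pow_eq_pow_val, Units.mul_inv]

noncomputable def psiBar : R ⧸ D.II →+* AdjoinRoot (pol D) :=
  Ideal.Quotient.lift D.II (psi D) (by
    intro a ha
    obtain ⟨b, rfl⟩ := Ideal.mem_span_singleton'.mp ha
    rw [map_mul, map_sub, psi_T, map_one, sub_self, mul_zero])

theorem psiBar_mk (a : R) : psiBar D (Ideal.Quotient.mk D.II a) = psi D a := rfl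

noncomputable def gg : (R ⧸ D.II)[X] →+* AdjoinRoot (pol D) :=
  eval₂RingHom (psiBar D) (AdjoinRoot.root (pol D))

theorem gg_X : gg D X = AdjoinRoot.root (pol D) := by simp [gg]

theorem gg_C (c : R ⧸ D.II) : gg D (C c) = psiBar D c := by simp [gg]

noncomputable def Phi : Localization.Away (X : (R ⧸ D.II)[X]) →+* AdjoinRoot (pol D) :=
  IsLocalization.Away.lift (X : (R ⧸ D.II)[X]) (g := gg D) (by
    rw [gg_X, ← Uu_val]; exact (Uu D).isUnit)

theorem Phi_algebraMap (p : (R ⧸ D.II)[X]) :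
    Phi D (algebraMap _ (Localization.Away (X : (R ⧸ D.II)[X])) p) = gg D p :=
  IsLocalization.Away.lift_eq _ _ p

noncomputable def XLu : (Localization.Away (X : (R ⧸ D.II)[X]))ˣ :=
  (IsLocalization.map_units (Localization.Away (X : (R ⧸ D.II)[X]))
    (⟨X, Submonoid.mem_powers _⟩ : Submonoid.powers (X : (R ⧸ D.II)[X]))).unit

theorem XLu_val : ((XLu D : (Localization.Away (X : (R ⧸ D.II)[X]))ˣ) :
    Localization.Away (X : (R ⧸ D.II)[X])) =
    algebraMap (R ⧸ D.II)[X] _ (X : (R ⧸ D.II)[X]) := rfl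

noncomputable def jL : R →+* Localization.Away (X : (R ⧸ D.II)[X]) :=
  (algebraMap (R ⧸ D.II)[X] _).comp
    ((C : (R ⧸ D.II) →+* (R ⧸ D.II)[X]).comp (Ideal.Quotient.mk D.II))

theorem jL_apply (a : R) : jL D a =
    algebraMap (R ⧸ D.II)[X] (Localization.Away (X : (R ⧸ D.II)[X]))
      (C (Ideal.Quotient.mk D.II a)) := rfl

noncomputable def ii : R →+* Localization.Away (X : (R ⧸ D.II)[X]) := twist 𝒜 (jL D) (XLu D)

theorem ii_T : ii D (D.T : R) =
    (algebraMap (R ⧸ D.II)[X] (Localization.Away (X : (R ⧸ D.II)[X]))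
      (X : (R ⧸ D.II)[X])) ^ D.N := by
  rw [ii, twist_of_mem 𝒜 _ _ D.hT, zpow_natCast, Units.val_pow_eq_pow_val, XLu_val]
  have : jL D (D.T : R) = 1 := by
    rw [jL_apply, D.mk_T, map_one, map_one]
  rw [this, one_mul]

noncomputable def Theta : AdjoinRoot (pol D) →+* Localization.Away (X : (R ⧸ D.II)[X]) :=
  AdjoinRoot.lift (ii D) (algebraMap (R ⧸ D.II)[X] _ (X : (R ⧸ D.II)[X])) (by
    show (X ^ D.N - C (D.T : R) : R[X]).eval₂ _ _ = 0
    rw [eval₂_sub, eval₂_pow, eval₂_X, eval₂_C, ii_T, sub_self])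

theorem Theta_of (a : R) : Theta D (AdjoinRoot.of (pol D) a) = ii D a := by
  rw [Theta, AdjoinRoot.lift_of]

theorem Theta_root : Theta D (AdjoinRoot.root (pol D)) =
    algebraMap (R ⧸ D.II)[X] _ (X : (R ⧸ D.II)[X]) := by
  rw [Theta, AdjoinRoot.lift_root]

theorem Phi_Theta (y : AdjoinRoot (pol D)) : Phi D (Theta D y) = y := by
  obtain ⟨p, rfl⟩ := AdjoinRoot.mk_surjective y
  have h : ((Phi D).comp (Theta D)).comp (AdjoinRoot.mk (pol D)) = AdjoinRoot.mk (pol D) := by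
    apply Polynomial.ringHom_ext
    · intro a
      simp only [RingHom.comp_apply, AdjoinRoot.mk_C]
      rw [Theta_of]
      refine comp_twist_twist 𝒜 (AdjoinRoot.of (pol D)) (jL D) (Uu D) (XLu D) (Phi D)
        (fun b => ?_) ?_ a
      · rw [jL_apply, Phi_algebraMap, gg_C, psiBar_mk]; rfl
      · rw [XLu_val, Phi_algebraMap, gg_X, Uu_val]
    · simp only [RingHom.comp_apply, AdjoinRoot.mk_X]
      rw [Theta_root, Phi_algebraMap, gg_X]
  exact RingHom.congr_fun h p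

theorem Theta_Phi (z : Localization.Away (X : (R ⧸ D.II)[X])) : Theta D (Phi D z) = z := by
  have h : (Theta D).comp (Phi D) = RingHom.id _ := by
    apply IsLocalization.ringHom_ext (Submonoid.powers (X : (R ⧸ D.II)[X]))
    apply Polynomial.ringHom_ext
    · intro c
      obtain ⟨a, rfl⟩ := Ideal.Quotient.mk_surjective c
      simp only [RingHom.comp_apply, RingHom.id_apply]
      rw [Phi_algebraMap, gg_C, psiBar_mk, ← jL_apply]
      refine comp_twist_twist 𝒜 (jL D) (AdjoinRoot.of (pol D)) (XLu D)⁻¹ (Uu D)⁻¹ (Theta D)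
        (fun b => ?_) ?_ a
      · rw [Theta_of, inv_inv]; rfl
      · have := map_units_zpow (Theta D) (Uu D) (XLu D)
          (by rw [Uu_val, Theta_root, XLu_val]) (-1)
        simpa using this
    · simp only [RingHom.comp_apply, RingHom.id_apply]
      rw [Phi_algebraMap, gg_X, Theta_root]
  exact RingHom.congr_fun h z

theorem regular
    (hreg : ∀ (p : Ideal R) [p.IsPrime], IsRegularLocalRing (Localization.AtPrime p)) :
    IsRegularRing (AdjoinRoot (X ^ D.N - C (D.T : R) : R[X])) := by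
  haveI : IsRegularLocalRing (R ⧸ D.II) := D.main hreg
  haveI : IsRegularRing (R ⧸ D.II) :=
    isRegularRing_iff.mpr (fun q _ => Groth.Agent.H1.Reg.isRegularLocalRing_localization _ q)
  haveI : IsRegularRing (R ⧸ D.II)[X] := inferInstance
  haveI : Algebra.Smooth (R ⧸ D.II)[X] (Localization.Away (X : (R ⧸ D.II)[X])) :=
    Algebra.Smooth.of_isLocalization_Away X
  haveI : IsRegularRing (Localization.Away (X : (R ⧸ D.II)[X])) :=
    Groth.Agent.H5.RegHom.isRegularRing_of_smooth (R ⧸ D.II)[X] _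
  let e : Localization.Away (X : (R ⧸ D.II)[X]) ≃+* AdjoinRoot (pol D) :=
    RingEquiv.ofBijective (Phi D)
      ⟨Function.LeftInverse.injective (Theta_Phi D),
        Function.RightInverse.surjective (Phi_Theta D)⟩
  exact IsRegularRing.of_ringEquiv e

end Main

end Groth.Agent.H6.GrUnit2
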