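import Groth.Agent.Lib.Helper6.GrLES
import Groth.Agent.Lib.Helper6.GrRes
import Groth.Agent.Lib.Helper6.GrLCCompare
import Groth.Agent.Lib.Helper6.LCTorsion

/-! Vanishing and acyclicity of graded modules for graded local cohomology: closure properties. -/

universe u
open DirectSum
set_option linter.unusedSectionVars false

namespace Groth.Agent.H6

namespace Gr

variable {ι : Type} [AddCommGroup ι] [DecidableEq ι]
variable {R : Type u} [CommRing R] {𝒜 : ι → AddSubgroup R} [GradedRing 𝒜]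

/-- all graded local cohomology vanishes -/
def Van (a : HomogeneousIdeal 𝒜) (U : GrLC.GMod.{u} 𝒜) : Prop :=
  ∀ (G : GrLC.StarInjRes 𝒜 U.gr) (p : ℕ), Subsingleton (G.H a p)

/-- the higher graded local cohomology vanishes -/
def Acyc (a : HomogeneousIdeal 𝒜) (U : GrLC.GMod.{u} 𝒜) : Prop :=
  ∀ (G : GrLC.StarInjRes 𝒜 U.gr) (p : ℕ), Subsingleton (G.H a (p + 1))

theorem Van.acyc {a : HomogeneousIdeal 𝒜} {U : GrLC.GMod.{u} 𝒜} (h : Van a U) : Acyc a U :=
  fun G p => h G (p + 1)

variable {a : HomogeneousIdeal 𝒜} {U' U U'' : GrLC.GMod.{u} 𝒜}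
  {i : U'.carrier →ₗ[R] U.carrier} {p : U.carrier →ₗ[R] U''.carrier}

theorem subsingleton_of_ses (S : GrSES U'.gr U.gr U''.gr i p) (G : GrLC.StarInjRes 𝒜 U.gr) (n : ℕ)
    (h' : ∀ G' : GrLC.StarInjRes 𝒜 U'.gr, Subsingleton (G'.H a n))
    (h'' : ∀ G'' : GrLC.StarInjRes 𝒜 U''.gr, Subsingleton (G''.H a n)) :
    Subsingleton (G.H a n) := by
  let G' := starInjRes 𝒜 U'.gr
  let G'' := starInjRes 𝒜 U''.gr
  obtain ⟨δ, -, -, hex, -, -⟩ := exists_les S G' G G'' a
  haveI := h' G'
  haveI := h'' G''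
  refine ⟨fun x y => ?_⟩
  have h0 : ∀ z : G.H a n, z = 0 := by
    intro z
    obtain ⟨w, hw⟩ := (hex n z).mp (Subsingleton.elim _ _)
    rw [← hw, Subsingleton.elim w 0, map_zero]
  rw [h0 x, h0 y]

theorem Van.of_ses (S : GrSES U'.gr U.gr U''.gr i p) (h' : Van a U') (h'' : Van a U'') :
    Van a U :=
  fun G n => subsingleton_of_ses S G n (fun G' => h' G' n) (fun G'' => h'' G'' n)

theorem Acyc.of_ses (S : GrSES U'.gr U.gr U''.gr i p) (h' : Acyc a U') (h'' : Acyc a U'') :
    Acyc a U :=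
  fun G n => subsingleton_of_ses S G (n + 1) (fun G' => h' G' n) (fun G'' => h'' G'' n)

/-- invariance under graded isomorphisms -/
theorem subsingleton_of_equiv (e : U'.carrier ≃ₗ[R] U.carrier) (he : GrLC.IsGrHom U'.gr U.gr e.toLinearMap)
    (G : GrLC.StarInjRes 𝒜 U.gr) (n : ℕ)
    (h' : ∀ G' : GrLC.StarInjRes 𝒜 U'.gr, Subsingleton (G'.H a n)) : Subsingleton (G.H a n) := by
  let G' : GrLC.StarInjRes 𝒜 U'.gr :=
    { X := G.X
      d := G.d
      ε := G.ε ∘ₗ e.toLinearMap
      d_grHom := G.d_grHom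
      ε_grHom := fun g x hx => G.ε_grHom g _ (he g x hx)
      ε_injective := G.ε_injective.comp e.injective
      exact_zero := by
        rw [G.exact_zero, LinearMap.range_comp_of_range_eq_top]
        exact LinearEquiv.range e
      exact_succ := G.exact_succ
      starInj := G.starInj }
  exact h' G'

theorem Van.of_equiv (e : U'.carrier ≃ₗ[R] U.carrier) (he : GrLC.IsGrHom U'.gr U.gr e.toLinearMap)
    (h' : Van a U') : Van a U :=
  fun G n => subsingleton_of_equiv e he G n (fun G' => h' G' n)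

theorem Acyc.of_equiv (e : U'.carrier ≃ₗ[R] U.carrier) (he : GrLC.IsGrHom U'.gr U.gr e.toLinearMap)
    (h' : Acyc a U') : Acyc a U :=
  fun G n => subsingleton_of_equiv e he G (n + 1) (fun G' => h' G' n)

variable [IsNoetherianRing R]

/-- torsion modules are acyclic -/
theorem Acyc.of_torsion (U : GrLC.GMod.{u} 𝒜) (h : GrLC.gam a.toIdeal U.carrier = ⊤) :
    Acyc a U := by
  intro G n
  obtain ⟨e⟩ := nonempty_H_equiv 𝒜 U.gr G a (n + 1)
  haveI : Subsingleton (LocCoh.H a.toIdeal (n + 1) U.carrier) :=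
    LC.subsingleton_of_torsion a.toIdeal n (ModuleCat.of R U.carrier) (fun t => by
      have : t ∈ GrLC.gam a.toIdeal U.carrier := by rw [h]; trivial
      exact this)
  exact e.toEquiv.subsingleton

/-- modules on which an element of the ideal acts bijectively have no local cohomology -/
theorem Van.of_bijective (U : GrLC.GMod.{u} 𝒜) {f : R} (hf : f ∈ a.toIdeal)
    (hbij : Function.Bijective (fun x : U.carrier => f • x)) : Van a U := by
  intro G n
  obtain ⟨e⟩ := nonempty_H_equiv 𝒜 U.gr G a n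
  haveI := LC.subsingleton_of_smul_bijective a.toIdeal hf U.carrier hbij n
  exact e.toEquiv.subsingleton

end Gr

end Groth.Agent.H6
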