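import Groth.Agent.Lib.Helper6.GrAcyc

/-! Veronese submodules: basic theory (projection onto degrees divisible by `q`, lifting of
homogeneous maps, exactness, torsion). -/

universe u
open DirectSum
set_option linter.unusedSectionVars false

namespace Groth.Agent.H6

namespace Ver

open Gr

section P0

variable {M : Type*} [AddCommGroup M] (ℳ : ℤ → AddSubgroup M) [DirectSum.Decomposition ℳ] (q : ℕ)

/-- projection onto the sum of the pieces of degree divisible by `q` -/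
noncomputable def P0 : M →+ M :=
  (DFinsupp.sumAddHom (fun i : ℤ => if (q : ℤ) ∣ i then (ℳ i).subtype else 0)).comp
    (DirectSum.decomposeAddEquiv ℳ).toAddMonoidHom

theorem P0_of_mem {i : ℤ} {m : M} (hm : m ∈ ℳ i) :
    P0 ℳ q m = if (q : ℤ) ∣ i then m else 0 := by
  unfold P0
  rw [AddMonoidHom.comp_apply]
  have h1 : (DirectSum.decomposeAddEquiv ℳ).toAddMonoidHom m =
      DirectSum.of (fun i => ℳ i) i ⟨m, hm⟩ := DirectSum.decompose_of_mem ℳ hm
  rw [h1]
  have h2 : DFinsupp.sumAddHom (fun i : ℤ => if (q : ℤ) ∣ i then (ℳ i).subtype else 0)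
      (DirectSum.of (fun i => ℳ i) i ⟨m, hm⟩) =
        (if (q : ℤ) ∣ i then (ℳ i).subtype else 0) ⟨m, hm⟩ := DFinsupp.sumAddHom_single _ _ _
  rw [h2]
  split_ifs <;> rfl

theorem P0_of_dvd {i : ℤ} {m : M} (hm : m ∈ ℳ i) (h : (q : ℤ) ∣ i) : P0 ℳ q m = m := by
  rw [P0_of_mem ℳ q hm, if_pos h]

theorem P0_of_not_dvd {i : ℤ} {m : M} (hm : m ∈ ℳ i) (h : ¬ (q : ℤ) ∣ i) : P0 ℳ q m = 0 := by
  rw [P0_of_mem ℳ q hm, if_neg h]

theorem P0_P0 (m : M) : P0 ℳ q (P0 ℳ q m) = P0 ℳ q m := by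
  induction m using induction_on ℳ with
  | zero => rw [map_zero, map_zero]
  | homogeneous i m hm =>
    by_cases h : (q : ℤ) ∣ i
    · rw [P0_of_dvd ℳ q hm h, P0_of_dvd ℳ q hm h]
    · rw [P0_of_not_dvd ℳ q hm h, map_zero]
  | add m m' h1 h2 => rw [map_add, map_add, h1, h2]

theorem proj_P0 (i : ℤ) (m : M) :
    proj ℳ i (P0 ℳ q m) = if (q : ℤ) ∣ i then proj ℳ i m else 0 := by
  induction m using induction_on ℳ with
  | zero => simp
  | homogeneous k m hm =>
    by_cases h : (q : ℤ) ∣ k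
    · rw [P0_of_dvd ℳ q hm h]
      by_cases hki : k = i
      · subst hki
        rw [if_pos h]
      · rw [proj_of_mem_ne ℳ hm hki]
        simp
    · rw [P0_of_not_dvd ℳ q hm h, map_zero]
      by_cases hki : k = i
      · subst hki
        rw [if_neg h]
      · rw [proj_of_mem_ne ℳ hm hki]
        simp
  | add m m' h1 h2 =>
    rw [map_add, map_add, h1, h2, map_add]
    split_ifs
    · rfl
    · rw [add_zero]

end P0

section Hom

variable {R : Type u} [CommRing R]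
variable {M : Type u} [AddCommGroup M] [Module R M] (ℳ : ℤ → AddSubgroup M)
  [DirectSum.Decomposition ℳ]
variable {N : Type u} [AddCommGroup N] [Module R N] (𝒩 : ℤ → AddSubgroup N)
  [DirectSum.Decomposition 𝒩]

theorem isGrHom_P0 (q : ℕ) {f : M →ₗ[R] N} (hf : GrLC.IsGrHom ℳ 𝒩 f) (m : M) :
    f (P0 ℳ q m) = P0 𝒩 q (f m) := by
  induction m using induction_on ℳ with
  | zero => simp
  | homogeneous i m hm =>
    rw [P0_of_mem ℳ q hm, P0_of_mem 𝒩 q (hf i m hm)]
    split_ifs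
    · rfl
    · rw [map_zero]
  | add m m' h1 h2 => rw [map_add, map_add, map_add, map_add, h1, h2]

variable (𝒜 : ℤ → AddSubgroup R) [GradedRing 𝒜] [SetLike.GradedSMul 𝒜 ℳ]

theorem P0_smul (q : ℕ) {k : ℤ} {s : R} (hs : s ∈ 𝒜 (k * q)) (m : M) :
    P0 ℳ q (s • m) = s • P0 ℳ q m := by
  induction m using induction_on ℳ with
  | zero => simp
  | homogeneous i m hm =>
    have h1 : s • m ∈ ℳ (k * q + i) := SetLike.GradedSMul.smul_mem (A := 𝒜) (B := ℳ) hs hm
    have h2 : (q : ℤ) ∣ k * q + i ↔ (q : ℤ) ∣ i := Int.dvd_add_right (dvd_mul_left _ _)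
    rw [P0_of_mem ℳ q h1, P0_of_mem ℳ q hm]
    by_cases h : (q : ℤ) ∣ i
    · rw [if_pos h, if_pos (h2.mpr h)]
    · rw [if_neg h, if_neg (fun h' => h (h2.mp h')), smul_zero]
  | add m m' h1 h2 => rw [smul_add, map_add, map_add, smul_add, h1, h2]

end Hom

section Mod

variable {R : Type u} [CommRing R] {R' : Type u} [CommRing R'] {φ : R' →+* R}
variable {M' : Type u} [AddCommGroup M'] [Module R' M'] {ℳ' : ℤ → AddSubgroup M'}
  [DirectSum.Decomposition ℳ']
variable {M : Type u} [AddCommGroup M] [Module R M] {ℳ : ℤ → AddSubgroup M}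
  [DirectSum.Decomposition ℳ]

/-- `g` exhibits `(M', ℳ')` as the `q`-th Veronese module of `(M, ℳ)` -/
structure IsVerMod (q : ℕ) (ℳ' : ℤ → AddSubgroup M') (ℳ : ℤ → AddSubgroup M)
    (g : M' →ₛₗ[φ] M) : Prop where
  pos : 0 < q
  inj : Function.Injective g
  map_mem : ∀ (j : ℤ) (y : M'), y ∈ ℳ' j → g y ∈ ℳ (j * q)
  exists_mem : ∀ (j : ℤ) (x : M), x ∈ ℳ (j * q) → ∃ y ∈ ℳ' j, g y = x

namespace IsVerMod

variable {q : ℕ} {g : M' →ₛₗ[φ] M} (hV : IsVerMod q ℳ' ℳ g)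

include hV

theorem mul_q_inj {j j' : ℤ} (h : j * (q : ℤ) = j' * q) : j = j' := by
  have hq : (q : ℤ) ≠ 0 := by
    have := hV.pos
    omega
  exact mul_right_cancel₀ hq h

theorem mem_iff {j : ℤ} {y : M'} : y ∈ ℳ' j ↔ g y ∈ ℳ (j * q) := by
  constructor
  · exact hV.map_mem j y
  · intro h
    obtain ⟨y', hy', hyy⟩ := hV.exists_mem j _ h
    rw [← hV.inj hyy]
    exact hy'

theorem P0_map (y : M') : P0 ℳ q (g y) = g y := by
  induction y using induction_on ℳ' with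
  | zero => rw [map_zero, map_zero]
  | homogeneous j y hy =>
    exact P0_of_dvd ℳ q (hV.map_mem j y hy) (dvd_mul_left _ _)
  | add y y' h1 h2 => rw [map_add, map_add, h1, h2]

theorem exists_of_P0 (x : M) : ∃ y, g y = P0 ℳ q x := by
  induction x using induction_on ℳ with
  | zero => exact ⟨0, by rw [map_zero, map_zero]⟩
  | homogeneous i x hx =>
    by_cases h : (q : ℤ) ∣ i
    · obtain ⟨j, rfl⟩ := h
      rw [mul_comm] at hx
      obtain ⟨y, -, hy⟩ := hV.exists_mem j x hx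
      refine ⟨y, ?_⟩
      rw [hy, P0_of_dvd ℳ q hx (dvd_mul_left _ _)]
    · exact ⟨0, by rw [map_zero, P0_of_not_dvd ℳ q hx h]⟩
  | add x x' h1 h2 =>
    obtain ⟨y, hy⟩ := h1
    obtain ⟨y', hy'⟩ := h2
    exact ⟨y + y', by rw [map_add, map_add, hy, hy']⟩

theorem exists_of_P0_eq {x : M} (hx : P0 ℳ q x = x) : ∃ y, g y = x := by
  obtain ⟨y, hy⟩ := hV.exists_of_P0 x
  exact ⟨y, hy.trans hx⟩

theorem proj_map (j : ℤ) (y : M') : proj ℳ (j * q) (g y) = g (proj ℳ' j y) := by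
  induction y using induction_on ℳ' with
  | zero => simp
  | homogeneous k y hy =>
    by_cases hkj : k = j
    · subst hkj
      rw [proj_of_mem ℳ' hy, proj_of_mem ℳ (hV.map_mem k y hy)]
    · rw [proj_of_mem_ne ℳ' hy hkj, proj_of_mem_ne ℳ (hV.map_mem k y hy)
        (fun h => hkj (hV.mul_q_inj h)), map_zero]
  | add y y' h1 h2 => rw [map_add, map_add, map_add, map_add, h1, h2]

end IsVerMod

end Mod

section Lift

variable {R : Type u} [CommRing R] {R' : Type u} [CommRing R'] {φ : R' →+* R} {q : ℕ}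
variable {M' : Type u} [AddCommGroup M'] [Module R' M'] {ℳ' : ℤ → AddSubgroup M'}
  [DirectSum.Decomposition ℳ']
variable {M : Type u} [AddCommGroup M] [Module R M] {ℳ : ℤ → AddSubgroup M}
  [DirectSum.Decomposition ℳ]
variable {N' : Type u} [AddCommGroup N'] [Module R' N'] {𝒩' : ℤ → AddSubgroup N'}
  [DirectSum.Decomposition 𝒩']
variable {N : Type u} [AddCommGroup N] [Module R N] {𝒩 : ℤ → AddSubgroup N}
  [DirectSum.Decomposition 𝒩]
variable {P' : Type u} [AddCommGroup P'] [Module R' P'] {𝓛' : ℤ → AddSubgroup P'}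
  [DirectSum.Decomposition 𝓛']
variable {P : Type u} [AddCommGroup P] [Module R P] {𝓛 : ℤ → AddSubgroup P}
  [DirectSum.Decomposition 𝓛]
variable {g : M' →ₛₗ[φ] M} {h : N' →ₛₗ[φ] N} {l : P' →ₛₗ[φ] P}

/-- a homogeneous map induces a homogeneous map of Veronese modules -/
theorem exists_lift (hM : IsVerMod q ℳ' ℳ g) (hN : IsVerMod q 𝒩' 𝒩 h) {f : M →ₗ[R] N}
    (hf : GrLC.IsGrHom ℳ 𝒩 f) :
    ∃ f' : M' →ₗ[R'] N', GrLC.IsGrHom ℳ' 𝒩' f' ∧ ∀ x, h (f' x) = f (g x) := by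
  have hex : ∀ x : M', ∃ y : N', h y = f (g x) := fun x => by
    apply hN.exists_of_P0_eq
    rw [← isGrHom_P0 ℳ 𝒩 q hf, hM.P0_map]
  choose F hF using hex
  refine ⟨{ toFun := F, map_add' := ?_, map_smul' := ?_ }, ?_, hF⟩
  · intro x y
    apply hN.inj
    rw [map_add, hF, hF, hF, map_add, map_add]
  · intro r x
    apply hN.inj
    rw [RingHom.id_apply, map_smulₛₗ, hF, hF, map_smulₛₗ, map_smul]
  · intro j x hx
    apply hN.mem_iff.mpr
    change h (F x) ∈ _
    rw [hF]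
    exact hf _ _ (hM.map_mem j x hx)

theorem lift_injective (hM : IsVerMod q ℳ' ℳ g) {f : M →ₗ[R] N} {f' : M' →ₗ[R'] N'}
    (hf' : ∀ x, h (f' x) = f (g x)) (hinj : Function.Injective f) : Function.Injective f' := by
  intro x y hxy
  apply hM.inj
  apply hinj
  rw [← hf', ← hf', hxy]

theorem ker_eq_range (hM : IsVerMod q ℳ' ℳ g) (hN : IsVerMod q 𝒩' 𝒩 h) (hP : IsVerMod q 𝓛' 𝓛 l)
    {f : M →ₗ[R] N} {k : N →ₗ[R] P} (hf : GrLC.IsGrHom ℳ 𝒩 f)
    {f' : M' →ₗ[R'] N'} {k' : N' →ₗ[R'] P'} (hk'gr : GrLC.IsGrHom 𝒩' 𝓛' k')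
    (hf' : ∀ x, h (f' x) = f (g x)) (hk' : ∀ x, l (k' x) = k (h x))
    (hex : LinearMap.ker k = LinearMap.range f) : LinearMap.ker k' = LinearMap.range f' := by
  apply le_antisymm
  · intro y hy
    have hy0 : k' y = 0 := hy
    have hj : ∀ j : ℤ, proj 𝒩' j y ∈ LinearMap.range f' := by
      intro j
      have h1 : k' (proj 𝒩' j y) = 0 := by
        rw [isGrHom_proj 𝒩' 𝓛' hk'gr, hy0, map_zero]
      have h2 : h (proj 𝒩' j y) ∈ LinearMap.ker k := by
        rw [LinearMap.mem_ker, ← hk', h1, map_zero]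
      rw [hex] at h2
      obtain ⟨x₀, hx₀⟩ := h2
      have h3 : h (proj 𝒩' j y) ∈ 𝒩 (j * q) := hN.map_mem j _ (proj_mem 𝒩' j y)
      have h4 : f (proj ℳ (j * q) x₀) = h (proj 𝒩' j y) := by
        rw [isGrHom_proj ℳ 𝒩 hf, hx₀, proj_of_mem 𝒩 h3]
      obtain ⟨x', -, hx'⟩ := hM.exists_mem j _ (proj_mem ℳ (j * q) x₀)
      refine ⟨x', ?_⟩
      apply hN.inj
      rw [hf', hx', h4]
    obtain ⟨s, hs⟩ := exists_finset_sum_proj 𝒩' y
    rw [← hs]
    exact sum_mem fun j _ => hj j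
  · rintro _ ⟨w, rfl⟩
    rw [LinearMap.mem_ker]
    apply hP.inj
    rw [hk', hf', map_zero]
    have : f (g w) ∈ LinearMap.ker k := by rw [hex]; exact ⟨_, rfl⟩
    exact this

/-- torsion and Veronese modules -/
theorem mem_gam_iff (hinj : Function.Injective g) (a' : Ideal R') (x : M') :
    x ∈ GrLC.gam a' M' ↔ g x ∈ GrLC.gam (a'.map φ) M := by
  constructor
  · rintro ⟨n, hn⟩
    have key : ∀ r ∈ Submodule.span R (φ '' (a' ^ n : Ideal R')), r • g x = 0 := by
      intro r hr'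
      induction hr' using Submodule.span_induction with
      | mem r hr =>
        obtain ⟨s, hs, rfl⟩ := hr
        rw [← map_smulₛₗ, hn s hs, map_zero]
      | zero => rw [zero_smul]
      | add r r' _ _ h1 h2 => rw [add_smul, h1, h2, add_zero]
      | smul t r _ h1 => rw [smul_eq_mul, mul_smul, h1, smul_zero]
    refine ⟨n, fun r hr => ?_⟩
    rw [← Ideal.map_pow] at hr
    exact key r hr
  · rintro ⟨n, hn⟩
    refine ⟨n, fun s hs => hinj ?_⟩
    rw [map_smulₛₗ, map_zero]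
    apply hn
    rw [← Ideal.map_pow]
    exact Ideal.mem_map_of_mem φ hs

end Lift

end Ver

end Groth.Agent.H6
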