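import Groth.Agent.Lib.Helper6.GrVer2

/-! Graded local cohomology of Veronese modules. -/

universe u
open DirectSum
set_option linter.unusedSectionVars false

namespace Groth.Agent.H6

namespace Ver

open Gr

/-- two surjections with the same kernel have isomorphic targets -/
theorem exists_addEquiv_of_surjective {Z A B : Type*} [AddCommGroup Z] [AddCommGroup A]
    [AddCommGroup B] (f : Z →+ A) (g : Z →+ B) (hf : Function.Surjective f)
    (hg : Function.Surjective g) (hker : ∀ z, f z = 0 ↔ g z = 0) :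
    ∃ θ : A ≃+ B, ∀ z, θ (f z) = g z := by
  choose s hs using hf
  have hwd : ∀ z a, f z = a → g z = g (s a) := by
    intro z a hza
    have h1 : f (z - s a) = 0 := by rw [map_sub, hza, hs, sub_self]
    have h2 := (hker _).mp h1
    rw [map_sub, sub_eq_zero] at h2
    exact h2
  have hadd : ∀ a a', g (s (a + a')) = g (s a) + g (s a') := by
    intro a a'
    rw [← map_add]
    exact (hwd (s a + s a') (a + a') (by rw [map_add, hs, hs])).symm
  let θ₀ : A →+ B := AddMonoidHom.mk' (fun a => g (s a)) hadd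
  have hθ : ∀ z, θ₀ (f z) = g z := fun z => (hwd z (f z) rfl).symm
  have hbij : Function.Bijective θ₀ := by
    constructor
    · rw [injective_iff_map_eq_zero]
      intro a ha
      have h1 : g (s a) = 0 := ha
      have h2 := (hker _).mpr h1
      rw [hs] at h2
      exact h2
    · intro b
      obtain ⟨z, rfl⟩ := hg b
      exact ⟨f z, hθ z⟩
  exact ⟨AddEquiv.ofBijective θ₀ hbij, hθ⟩

variable {R : Type u} [CommRing R] {R' : Type u} [CommRing R']
variable {q : ℕ} {𝒜' : ℤ → AddSubgroup R'} [GradedRing 𝒜'] {𝒜 : ℤ → AddSubgroup R} [GradedRing 𝒜]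
  {φ : R' →+* R}
variable {M' : Type u} [AddCommGroup M'] [Module R' M'] {ℳ' : ℤ → AddSubgroup M'}
  [DirectSum.Decomposition ℳ'] [SetLike.GradedSMul 𝒜' ℳ']
variable {M : Type u} [AddCommGroup M] [Module R M] {ℳ : ℤ → AddSubgroup M}
  [DirectSum.Decomposition ℳ] [SetLike.GradedSMul 𝒜 ℳ]
variable {g : M' →ₛₗ[φ] M}

section Res

variable (hR : IsVerRing q 𝒜' 𝒜 φ) (hV : IsVerMod q ℳ' ℳ g) (E : GrLC.StarInjRes 𝒜 ℳ)

/-- chosen Veronese modules of the terms of a resolution -/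
noncomputable def vX (n : ℕ) : GrLC.GMod.{u} 𝒜' := (exists_ver hR (E.X n)).choose

noncomputable def vg (n : ℕ) : (vX hR E n).carrier →ₛₗ[φ] (E.X n).carrier :=
  (exists_ver hR (E.X n)).choose_spec.choose

theorem vg_spec (n : ℕ) : IsVerMod q (vX hR E n).gr (E.X n).gr (vg hR E n) :=
  (exists_ver hR (E.X n)).choose_spec.choose_spec

noncomputable def vd (n : ℕ) : (vX hR E n).carrier →ₗ[R'] (vX hR E (n + 1)).carrier :=
  (exists_lift (vg_spec hR E n) (vg_spec hR E (n + 1)) (E.d_grHom n)).choose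

theorem vd_grHom (n : ℕ) : GrLC.IsGrHom (vX hR E n).gr (vX hR E (n + 1)).gr (vd hR E n) :=
  (exists_lift (vg_spec hR E n) (vg_spec hR E (n + 1)) (E.d_grHom n)).choose_spec.1

theorem vg_vd (n : ℕ) (x : (vX hR E n).carrier) :
    vg hR E (n + 1) (vd hR E n x) = E.d n (vg hR E n x) :=
  (exists_lift (vg_spec hR E n) (vg_spec hR E (n + 1)) (E.d_grHom n)).choose_spec.2 x

noncomputable def vε : M' →ₗ[R'] (vX hR E 0).carrier :=
  (exists_lift hV (vg_spec hR E 0) E.ε_grHom).choose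

theorem vε_grHom : GrLC.IsGrHom ℳ' (vX hR E 0).gr (vε hR hV E) :=
  (exists_lift hV (vg_spec hR E 0) E.ε_grHom).choose_spec.1

theorem vg_vε (x : M') : vg hR E 0 (vε hR hV E x) = E.ε (g x) :=
  (exists_lift hV (vg_spec hR E 0) E.ε_grHom).choose_spec.2 x

variable [IsNoetherianRing R]

/-- the Veronese of a *injective resolution is an acyclic resolution -/
noncomputable def verRes (a' : HomogeneousIdeal 𝒜') : GrAcycRes 𝒜' ℳ' a' where
  X := vX hR E
  d := vd hR E
  ε := vε hR hV E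
  d_grHom := vd_grHom hR E
  ε_grHom := vε_grHom hR hV E
  ε_injective := lift_injective hV (vg_vε hR hV E) E.ε_injective
  exact_zero := ker_eq_range hV (vg_spec hR E 0) (vg_spec hR E 1) E.ε_grHom (vd_grHom hR E 0)
    (vg_vε hR hV E) (vg_vd hR E 0) E.exact_zero
  exact_succ n := ker_eq_range (vg_spec hR E n) (vg_spec hR E (n + 1)) (vg_spec hR E (n + 2))
    (E.d_grHom n) (vd_grHom hR E (n + 1)) (vg_vd hR E n) (vg_vd hR E (n + 1)) (E.exact_succ n)
  acyclic n G p := by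
    haveI := isNoetherianRing hR
    obtain ⟨e⟩ := nonempty_H_equiv 𝒜' (vX hR E n).gr G a' (p + 1)
    haveI := lc_subsingleton_of_ver hR (E.X n) (E.starInj n) (vX hR E n) (vg hR E n)
      (vg_spec hR E n) a' p
    exact e.toEquiv.subsingleton

end Res

section Main

variable [IsNoetherianRing R]
variable (hR : IsVerRing q 𝒜' 𝒜 φ) (hV : IsVerMod q ℳ' ℳ g) (E : GrLC.StarInjRes 𝒜 ℳ)
  (F : GrLC.StarInjRes 𝒜' ℳ') (a : HomogeneousIdeal 𝒜) (a' : HomogeneousIdeal 𝒜')
  (hgam : ∀ (X : Type u) [AddCommGroup X] [Module R X],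
    GrLC.gam a.toIdeal X = GrLC.gam (a'.toIdeal.map φ) X)

include hgam in
theorem vg_mem_cocyc (p : ℕ) (z : (vX hR E p).carrier) :
    z ∈ (verRes hR hV E a').cocyc p ↔ vg hR E p z ∈ E.cocyc a p := by
  constructor
  · rintro ⟨h1, h2⟩
    refine ⟨?_, ?_⟩
    · rw [hgam]
      exact (mem_gam_iff (vg_spec hR E p).inj a'.toIdeal z).mp h1
    · have h3 : vd hR E p z = 0 := h2
      change E.d p (vg hR E p z) = 0
      rw [← vg_vd, h3, map_zero]
  · rintro ⟨h1, h2⟩
    refine ⟨?_, ?_⟩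
    · rw [hgam] at h1
      exact (mem_gam_iff (vg_spec hR E p).inj a'.toIdeal z).mpr h1
    · have h3 : E.d p (vg hR E p z) = 0 := h2
      change vd hR E p z = 0
      apply (vg_spec hR E (p + 1)).inj
      rw [vg_vd, h3, map_zero]

include hgam in
theorem vg_mem_cobdy (p : ℕ) (j : ℤ) (z : (vX hR E p).carrier) (hz : z ∈ (vX hR E p).gr j) :
    z ∈ (verRes hR hV E a').cobdy p ↔ vg hR E p z ∈ E.cobdy a p := by
  cases p with
  | zero =>
    change z = 0 ↔ vg hR E 0 z = 0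
    constructor
    · intro h; rw [h, map_zero]
    · intro h; exact (vg_spec hR E 0).inj (h.trans (map_zero _).symm)
  | succ n =>
    constructor
    · rintro ⟨w, hw, rfl⟩
      refine ⟨vg hR E n w, ?_, (vg_vd hR E n w).symm⟩
      rw [hgam]
      exact (mem_gam_iff (vg_spec hR E n).inj a'.toIdeal w).mp hw
    · rintro ⟨w, hw, hwz⟩
      have hzj : vg hR E (n + 1) z ∈ (E.X (n + 1)).gr (j * q) :=
        (vg_spec hR E (n + 1)).map_mem j z hz
      have hw' : proj (E.X n).gr (j * q) w ∈ GrLC.gam a.toIdeal (E.X n).carrier :=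
        gam_isHomogeneous 𝒜 (E.X n).gr a (j * q) hw
      have hdw' : E.d n (proj (E.X n).gr (j * q) w) = vg hR E (n + 1) z := by
        rw [isGrHom_proj (E.X n).gr (E.X (n + 1)).gr (E.d_grHom n), hwz, proj_of_mem _ hzj]
      obtain ⟨v, -, hv⟩ := (vg_spec hR E n).exists_mem j _ (proj_mem (E.X n).gr (j * q) w)
      refine ⟨v, ?_, ?_⟩
      · apply (mem_gam_iff (vg_spec hR E n).inj a'.toIdeal v).mpr
        rw [hv, ← hgam]
        exact hw'
      · change vd hR E n v = z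
        apply (vg_spec hR E (n + 1)).inj
        rw [vg_vd, hv, hdw']

set_option maxHeartbeats 1000000 in
include hR hV hgam in
/-- **graded local cohomology commutes with the Veronese functor** (piecewise form) -/
theorem exists_Hcomp_equiv (p : ℕ) (j : ℤ) :
    ∃ θ : F.Hcomp a' p j ≃+ E.Hcomp a p (j * q),
      ∀ (r : GrLC.deg0 𝒜') (hr : φ r ∈ GrLC.deg0 𝒜) (x : F.Hcomp a' p j),
        θ (r • x) = (⟨φ r, hr⟩ : GrLC.deg0 𝒜) • θ x := by
  let A := verRes hR hV E a'
  obtain ⟨Φ, -, hker, hgr, hgrs⟩ := A.hasComparison F p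
  let Z : AddSubgroup ↥(A.cocyc p) := ((A.X p).gr j).comap (A.cocyc p).subtype.toAddMonoidHom
  have hcoc : ∀ z : ↥(A.cocyc p), vg hR E p z.1 ∈ E.cocyc a p := fun z =>
    (vg_mem_cocyc hR hV E a a' hgam p z.1).mp z.2
  let fZ : Z →+ F.Hcomp a' p j :=
    AddMonoidHom.mk' (fun z => ⟨Φ z.1, hgr j z.1 z.2⟩) (fun z w => Subtype.ext (map_add Φ z.1 w.1))
  let gZ : Z →+ E.Hcomp a p (j * q) :=
    AddMonoidHom.mk' (fun z => ⟨E.toH a p ⟨vg hR E p z.1.1, hcoc z.1⟩,
      ⟨⟨vg hR E p z.1.1, hcoc z.1⟩, (vg_spec hR E p).map_mem j _ z.2, rfl⟩⟩) (fun z w => by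
        apply Subtype.ext
        change E.toH a p _ = E.toH a p _ + E.toH a p _
        rw [← map_add]
        congr 1
        apply Subtype.ext
        exact map_add (vg hR E p) z.1.1 w.1.1)
  have hfZ : ∀ z : Z, (fZ z).1 = Φ z.1 := fun z => rfl
  have hgZ : ∀ z : Z, (gZ z).1 = E.toH a p ⟨vg hR E p z.1.1, hcoc z.1⟩ := fun z => rfl
  have hfsurj : Function.Surjective fZ := by
    intro x
    obtain ⟨z, hz, hzx⟩ := hgrs j x.1 x.2
    exact ⟨⟨z, hz⟩, Subtype.ext hzx⟩
  have hgsurj : Function.Surjective gZ := by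
    rintro ⟨_, ⟨w, hw, rfl⟩⟩
    obtain ⟨z, hz, hzw⟩ := (vg_spec hR E p).exists_mem j w.1 hw
    have hzc : z ∈ A.cocyc p := by
      apply (vg_mem_cocyc hR hV E a a' hgam p z).mpr
      rw [hzw]
      exact w.2
    refine ⟨⟨⟨z, hzc⟩, hz⟩, ?_⟩
    apply Subtype.ext
    rw [hgZ]
    congr 1
    exact Subtype.ext hzw
  have hk : ∀ z : Z, fZ z = 0 ↔ gZ z = 0 := by
    intro z
    have h1 : fZ z = 0 ↔ Φ z.1 = 0 := by
      constructor
      · intro h; rw [← hfZ, h]; rfl
      · intro h; exact Subtype.ext h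
    have h2 : gZ z = 0 ↔ E.toH a p ⟨vg hR E p z.1.1, hcoc z.1⟩ = 0 := by
      constructor
      · intro h; rw [← hgZ, h]; rfl
      · intro h; exact Subtype.ext h
    rw [h1, h2, toH_eq_zero_iff]
    have h3 : Φ z.1 = 0 ↔ z.1 ∈ LinearMap.ker Φ := LinearMap.mem_ker.symm
    rw [h3, hker]
    exact vg_mem_cobdy hR hV E a a' hgam p j z.1.1 z.2
  obtain ⟨θ, hθ⟩ := exists_addEquiv_of_surjective fZ gZ hfsurj hgsurj hk
  refine ⟨θ, ?_⟩
  intro r hr x
  obtain ⟨z, rfl⟩ := hfsurj x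
  have hrz : ((r : R') • z.1 : ↥(A.cocyc p)) ∈ Z := by
    change (r : R') • (z.1.1) ∈ (A.X p).gr j
    have := SetLike.GradedSMul.smul_mem (A := 𝒜') (B := (A.X p).gr) (show (r : R') ∈ 𝒜' 0 from r.2)
      z.2
    rw [vadd_eq_add, zero_add] at this
    exact this
  have h1 : r • fZ z = fZ ⟨(r : R') • z.1, hrz⟩ := by
    apply Subtype.ext
    change (r : R') • Φ z.1 = Φ ((r : R') • z.1)
    rw [map_smul]
  have h2 : gZ ⟨(r : R') • z.1, hrz⟩ = (⟨φ r, hr⟩ : GrLC.deg0 𝒜) • gZ z := by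
    apply Subtype.ext
    change E.toH a p _ = φ r • E.toH a p _
    rw [← map_smul]
    congr 1
    apply Subtype.ext
    exact map_smulₛₗ (vg hR E p) (r : R') z.1.1
  rw [h1, hθ, hθ, h2]

include hR hV hgam in
theorem finrank_Hcomp_eq (p : ℕ) (j : ℤ) :
    Module.finrank (GrLC.deg0 𝒜') (F.Hcomp a' p j) =
      Module.finrank (GrLC.deg0 𝒜) (E.Hcomp a p (j * q)) := by
  obtain ⟨θ, hθ⟩ := exists_Hcomp_equiv hR hV E F a a' hgam p j
  have h0 : ∀ r : GrLC.deg0 𝒜', φ r ∈ GrLC.deg0 𝒜 := by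
    intro r
    have := hR.map_mem 0 r.1 r.2
    rw [zero_mul] at this
    exact this
  let i : GrLC.deg0 𝒜' → GrLC.deg0 𝒜 := fun r => ⟨φ r, h0 r⟩
  have hi : Function.Bijective i := by
    constructor
    · intro r r' h
      apply Subtype.ext
      apply hR.inj
      exact congrArg Subtype.val h
    · intro s
      have hs : (s : R) ∈ 𝒜 (0 * q) := by
        rw [zero_mul]
        exact s.2
      obtain ⟨r, hr, hrs⟩ := hR.exists_mem 0 s.1 hs
      exact ⟨⟨r, hr⟩, Subtype.ext hrs⟩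
  have := rank_eq_of_equiv_equiv i θ hi (fun r x => hθ r (h0 r) x)
  unfold Module.finrank
  rw [this]

end Main

section Irrelevant

variable [IsNoetherianRing R]

/-- the torsion functors of the irrelevant ideal of `R` and of the extension of the irrelevant
ideal of the Veronese subring agree -/
theorem gam_irrelevant_eq (hR : IsVerRing q 𝒜' 𝒜 φ) (m : Ideal R) (m' : Ideal R')
    (hmsp : m = Ideal.span (⋃ n ∈ Set.Ioi (0 : ℤ), (𝒜 n : Set R)))
    (hm'sp : m' = Ideal.span (⋃ j ∈ Set.Ioi (0 : ℤ), (𝒜' j : Set R')))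
    (X : Type u) [AddCommGroup X] [Module R X] :
    GrLC.gam m X = GrLC.gam (m'.map φ) X := by
  have hq : (0 : ℤ) < q := by
    have := hR.pos
    omega
  have h1 : m'.map φ ≤ m := by
    rw [hm'sp, Ideal.map_span, Ideal.span_le]
    rintro _ ⟨r, hr, rfl⟩
    simp only [Set.mem_iUnion, Set.mem_Ioi, SetLike.mem_coe] at hr
    obtain ⟨j, hj, hrj⟩ := hr
    rw [hmsp]
    apply Ideal.subset_span
    simp only [Set.mem_iUnion, Set.mem_Ioi, SetLike.mem_coe]
    exact ⟨j * q, mul_pos hj hq, hR.map_mem j r hrj⟩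
  have h2 : m ≤ (m'.map φ).radical := by
    rw [hmsp, Ideal.span_le]
    intro x hx
    simp only [Set.mem_iUnion, Set.mem_Ioi, SetLike.mem_coe] at hx
    obtain ⟨n, hn, hxn⟩ := hx
    refine ⟨q, ?_⟩
    have h3 : x ^ q ∈ 𝒜 (n * q) := by
      have := SetLike.pow_mem_graded q hxn
      rw [nsmul_eq_mul, mul_comm] at this
      exact this
    obtain ⟨r, hr, hrx⟩ := hR.exists_mem n _ h3
    rw [← hrx]
    apply Ideal.mem_map_of_mem
    rw [hm'sp]
    apply Ideal.subset_span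
    simp only [Set.mem_iUnion, Set.mem_Ioi, SetLike.mem_coe]
    exact ⟨n, hn, hr⟩
  obtain ⟨N, hN⟩ := Ideal.exists_pow_le_of_le_radical_of_fg h2 (IsNoetherian.noetherian m)
  ext x
  constructor
  · rintro ⟨n, hn⟩
    exact ⟨n, fun r hr => hn r (Ideal.pow_right_mono h1 n hr)⟩
  · rintro ⟨n, hn⟩
    refine ⟨N * n, fun r hr => hn r ?_⟩
    rw [pow_mul] at hr
    exact Ideal.pow_right_mono hN n hr

end Irrelevant

end Ver

end Groth.Agent.H6
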