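import Groth.Agent.Lib.Helper6.GrVer3

/-! Graded local cohomology of Veronese modules: the global comparison map. -/

universe u
open DirectSum
set_option linter.unusedSectionVars false

namespace Groth.Agent.H6

namespace Ver

open Gr

section P0

variable {R : Type u} [CommRing R]
variable {M : Type u} [AddCommGroup M] [Module R M] (ℳ : ℤ → AddSubgroup M)
  [DirectSum.Decomposition ℳ]

theorem P0_mem_of_isHomogeneous (q : ℕ) {P : Submodule R M} (hP : P.IsHomogeneous ℳ) {x : M}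
    (hx : x ∈ P) : P0 ℳ q x ∈ P := by
  obtain ⟨s, hs⟩ := exists_finset_sum_proj ℳ x
  rw [← hs, map_sum]
  refine Submodule.sum_mem _ fun j _ => ?_
  rw [P0_of_mem ℳ q (proj_mem ℳ j x)]
  split_ifs
  · exact hP j hx
  · exact zero_mem _

end P0

variable {R : Type u} [CommRing R] {R' : Type u} [CommRing R']
variable {q : ℕ} {𝒜' : ℤ → AddSubgroup R'} [GradedRing 𝒜'] {𝒜 : ℤ → AddSubgroup R} [GradedRing 𝒜]
  {φ : R' →+* R}
variable {M' : Type u} [AddCommGroup M'] [Module R' M'] {ℳ' : ℤ → AddSubgroup M'}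
  [DirectSum.Decomposition ℳ'] [SetLike.GradedSMul 𝒜' ℳ']
variable {M : Type u} [AddCommGroup M] [Module R M] {ℳ : ℤ → AddSubgroup M}
  [DirectSum.Decomposition ℳ] [SetLike.GradedSMul 𝒜 ℳ]
variable {g : M' →ₛₗ[φ] M}

section Main

variable [IsNoetherianRing R]
variable (hR : IsVerRing q 𝒜' 𝒜 φ) (hV : IsVerMod q ℳ' ℳ g) (E : GrLC.StarInjRes 𝒜 ℳ)
  (F : GrLC.StarInjRes 𝒜' ℳ') (a : HomogeneousIdeal 𝒜) (a' : HomogeneousIdeal 𝒜')
  (hgam : ∀ (X : Type u) [AddCommGroup X] [Module R X],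
    GrLC.gam a.toIdeal X = GrLC.gam (a'.toIdeal.map φ) X)

include hgam in
theorem vg_mem_cobdy' (p : ℕ) (z : (vX hR E p).carrier) :
    z ∈ (verRes hR hV E a').cobdy p ↔ vg hR E p z ∈ E.cobdy a p := by
  cases p with
  | zero =>
    change z = 0 ↔ vg hR E 0 z = 0
    constructor
    · intro h; rw [h, map_zero]
    · intro h; exact (vg_spec hR E 0).inj (h.trans (map_zero _).symm)
  | succ n =>
    constructor
    · rintro ⟨w, hw, rfl⟩
      refine ⟨vg hR E n w, ?_, (vg_vd hR E n w).symm⟩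
      rw [hgam]
      exact (mem_gam_iff (vg_spec hR E n).inj a'.toIdeal w).mp hw
    · rintro ⟨w, hw, hwz⟩
      have hw' : P0 (E.X n).gr q w ∈ GrLC.gam a.toIdeal (E.X n).carrier :=
        P0_mem_of_isHomogeneous (E.X n).gr q (gam_isHomogeneous 𝒜 (E.X n).gr a) hw
      have hdw' : E.d n (P0 (E.X n).gr q w) = vg hR E (n + 1) z := by
        rw [isGrHom_P0 (E.X n).gr (E.X (n + 1)).gr q (E.d_grHom n), hwz,
          (vg_spec hR E (n + 1)).P0_map]
      obtain ⟨v, hv⟩ := (vg_spec hR E n).exists_of_P0 w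
      refine ⟨v, ?_, ?_⟩
      · apply (mem_gam_iff (vg_spec hR E n).inj a'.toIdeal v).mpr
        rw [hv, ← hgam]
        exact hw'
      · change vd hR E n v = z
        apply (vg_spec hR E (n + 1)).inj
        rw [vg_vd, hv, hdw']

set_option maxHeartbeats 1000000 in
include hR hV hgam in
/-- **graded local cohomology commutes with the Veronese functor** (global form) -/
theorem exists_ver_H (p : ℕ) :
    ∃ G : F.H a' p →ₛₗ[φ] E.H a p, Function.Injective G ∧
      (∀ (j : ℤ) (y : F.H a' p), y ∈ F.Hgr a' p j → G y ∈ E.Hgr a p (j * q)) ∧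
      (∀ (j : ℤ) (x : E.H a p), x ∈ E.Hgr a p (j * q) → ∃ y ∈ F.Hgr a' p j, G y = x) := by
  let A := verRes hR hV E a'
  obtain ⟨Φ, hsurj, hker, hgr, hgrs⟩ := A.hasComparison F p
  have hcoc : ∀ z : ↥(A.cocyc p), vg hR E p z.1 ∈ E.cocyc a p := fun z =>
    (vg_mem_cocyc hR hV E a a' hgam p z.1).mp z.2
  let T : ↥(A.cocyc p) →ₛₗ[φ] E.H a p :=
    { toFun := fun z => E.toH a p ⟨vg hR E p z.1, hcoc z⟩
      map_add' := fun z w => by
        rw [← map_add]
        congr 1
        apply Subtype.ext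
        exact map_add (vg hR E p) z.1 w.1
      map_smul' := fun r z => by
        change E.toH a p _ = φ r • E.toH a p _
        rw [← map_smul]
        congr 1
        apply Subtype.ext
        exact map_smulₛₗ (vg hR E p) r z.1 }
  have hT : ∀ z, T z = E.toH a p ⟨vg hR E p z.1, hcoc z⟩ := fun z => rfl
  have hk : ∀ z : ↥(A.cocyc p), Φ z = 0 ↔ T z = 0 := by
    intro z
    rw [hT, toH_eq_zero_iff]
    have h3 : Φ z = 0 ↔ z ∈ LinearMap.ker Φ := LinearMap.mem_ker.symm
    rw [h3, hker]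
    exact vg_mem_cobdy' hR hV E a a' hgam p z.1
  have hwd : ∀ z z' : ↥(A.cocyc p), Φ z = Φ z' → T z = T z' := by
    intro z z' h
    have h1 : Φ (z - z') = 0 := by rw [map_sub, h, sub_self]
    have h2 := (hk _).mp h1
    rw [map_sub, sub_eq_zero] at h2
    exact h2
  let s : F.H a' p → ↥(A.cocyc p) := Function.surjInv hsurj
  have hs : ∀ x, Φ (s x) = x := Function.surjInv_eq hsurj
  let G : F.H a' p →ₛₗ[φ] E.H a p :=
    { toFun := fun x => T (s x)
      map_add' := fun x y => by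
        rw [← map_add]
        apply hwd
        rw [map_add, hs, hs, hs]
      map_smul' := fun r x => by
        change T (s (r • x)) = φ r • T (s x)
        rw [← map_smulₛₗ T r (s x)]
        apply hwd
        rw [map_smul, hs, hs] }
  have hG : ∀ z, G (Φ z) = T z := fun z => hwd _ _ (hs _)
  refine ⟨G, ?_, ?_, ?_⟩
  · rw [injective_iff_map_eq_zero]
    intro x hx
    obtain ⟨z, rfl⟩ := hsurj x
    rw [hG] at hx
    exact (hk z).mpr hx
  · intro j y hy
    obtain ⟨z, hz, rfl⟩ := hgrs j y hy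
    rw [hG, hT]
    exact ⟨⟨vg hR E p z.1, hcoc z⟩, (vg_spec hR E p).map_mem j _ hz, rfl⟩
  · rintro j _ ⟨w, hw, rfl⟩
    obtain ⟨z, hz, hzw⟩ := (vg_spec hR E p).exists_mem j w.1 hw
    have hzc : z ∈ A.cocyc p := by
      apply (vg_mem_cocyc hR hV E a a' hgam p z).mpr
      rw [hzw]
      exact w.2
    refine ⟨Φ ⟨z, hzc⟩, hgr j ⟨z, hzc⟩ hz, ?_⟩
    rw [hG, hT]
    congr 1
    exact Subtype.ext hzw

end Main

end Ver

end Groth.Agent.H6
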