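import Groth.Agent.Lib.Helper6.GrVer4
import Groth.Agent.Lib.Helper6.GrDual3

/-! Veronese subrings of graded rings defined over a field. -/

universe u
open DirectSum
set_option linter.unusedSectionVars false

namespace Groth.Agent.H6

namespace Ver

open Gr

variable {R : Type u} [CommRing R] {R' : Type u} [CommRing R']
variable {q : ℕ} {𝒜' : ℤ → AddSubgroup R'} [GradedRing 𝒜'] {𝒜 : ℤ → AddSubgroup R} [GradedRing 𝒜]
  {φ : R' →+* R}

theorem IsVerRing.of_map_eq (hq : 0 < q) (hφ : Function.Injective φ)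
    (hdeg : ∀ j : ℤ, (𝒜' j).map (φ : R' →+ R) = 𝒜 (j * q)) : IsVerRing q 𝒜' 𝒜 φ :=
  { pos := hq
    inj := hφ
    map_mem := fun j r hr => by
      rw [← hdeg j]
      exact AddSubgroup.mem_map_of_mem _ hr
    exists_mem := fun j s hs => by
      rw [← hdeg j] at hs
      obtain ⟨r, hr, hrs⟩ := AddSubgroup.mem_map.mp hs
      exact ⟨r, hr, hrs⟩ }

theorem IsVerRing.neg_eq_bot (hR : IsVerRing q 𝒜' 𝒜 φ) (hpos : ∀ n : ℤ, n < 0 → 𝒜 n = ⊥)
    (n : ℤ) (hn : n < 0) : 𝒜' n = ⊥ := by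
  rw [eq_bot_iff]
  intro r hr
  have h1 := hR.map_mem n r hr
  have hq : (0 : ℤ) < q := by exact_mod_cast hR.pos
  rw [hpos (n * q) (mul_neg_of_neg_of_pos hn hq), AddSubgroup.mem_bot] at h1
  rw [AddSubgroup.mem_bot]
  apply hR.inj
  rw [h1, map_zero]

theorem IsVerRing.isField_deg0 (hR : IsVerRing q 𝒜' 𝒜 φ) (h0 : IsField (GrLC.deg0 𝒜)) :
    IsField (GrLC.deg0 𝒜') := by
  have hmem : ∀ r : GrLC.deg0 𝒜', φ r ∈ GrLC.deg0 𝒜 := by
    intro r
    have := hR.map_mem 0 r.1 r.2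
    rw [zero_mul] at this
    exact this
  let i : GrLC.deg0 𝒜' →* GrLC.deg0 𝒜 :=
    { toFun := fun r => ⟨φ r, hmem r⟩
      map_one' := Subtype.ext (map_one φ)
      map_mul' := fun r s => Subtype.ext (map_mul φ (r : R') (s : R')) }
  have hi : Function.Bijective i := by
    constructor
    · intro r r' h
      apply Subtype.ext
      apply hR.inj
      exact congrArg Subtype.val h
    · intro s
      have hs : (s : R) ∈ 𝒜 (0 * q) := by
        rw [zero_mul]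
        exact s.2
      obtain ⟨r, hr, hrs⟩ := hR.exists_mem 0 s.1 hs
      exact ⟨⟨r, hr⟩, Subtype.ext hrs⟩
  exact MulEquiv.isField h0 (MulEquiv.ofBijective i hi)

section Canonical

open GDual

variable [IsNoetherianRing R]
variable {m : HomogeneousIdeal 𝒜} {m' : HomogeneousIdeal 𝒜'}
variable {E' : Type u} [AddCommGroup E'] [Module R E'] {𝓔 : ℤ → AddSubgroup E'}
  [DirectSum.Decomposition 𝓔] [SetLike.GradedSMul 𝒜 𝓔] {e : (R ⧸ m.toIdeal) →ₗ[R] E'}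
variable {E'' : Type u} [AddCommGroup E''] [Module R' E''] {𝓔'' : ℤ → AddSubgroup E''}
  [DirectSum.Decomposition 𝓔''] [SetLike.GradedSMul 𝒜' 𝓔''] {e' : (R' ⧸ m'.toIdeal) →ₗ[R'] E''}
variable {C : Type u} [AddCommGroup C] [Module R C] (𝒞 : ℤ → AddSubgroup C)
  [DirectSum.Decomposition 𝒞] [SetLike.GradedSMul 𝒜 𝒞]
variable {C' : Type u} [AddCommGroup C'] [Module R' C'] (𝒞' : ℤ → AddSubgroup C')
  [DirectSum.Decomposition 𝒞'] [SetLike.GradedSMul 𝒜' 𝒞']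

/-- **the canonical module of a Veronese subring is the Veronese module of the canonical
module** -/
theorem exists_ver_canonical (hR : IsVerRing q 𝒜' 𝒜 φ) (S : Setting 𝒜 m 𝓔 e)
    (S' : Setting 𝒜' m' 𝓔'' e') (n : ℕ) (I : GrLC.StarInjRes 𝒜 𝒜) (I' : GrLC.StarInjRes 𝒜' 𝒜')
    (hC : GrLC.IsStarCanonical 𝒜 𝒞 𝓔 m n I) (hC' : GrLC.IsStarCanonical 𝒜' 𝒞' 𝓔'' m' n I') :
    ∃ g : C' →ₛₗ[φ] C, IsVerMod q 𝒞' 𝒞 g := by
  haveI : IsNoetherianRing R' := isNoetherianRing hR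
  obtain ⟨hfin, ψ, hψ⟩ := hC
  obtain ⟨hfin', ψ', hψ'⟩ := hC'
  have hgam : ∀ (X : Type u) [AddCommGroup X] [Module R X],
      GrLC.gam m.toIdeal X = GrLC.gam (m'.toIdeal.map φ) X :=
    fun X _ _ => gam_irrelevant_eq hR m.toIdeal m'.toIdeal S.hmsp S'.hmsp X
  obtain ⟨G, hGinj, hGmem, hGex⟩ := exists_ver_H hR hR.toMod I I' m m' hgam n
  letI : DirectSum.Decomposition (I.Hgr m n) := (isInternal_Hgr 𝒜 𝒜 I m n).chooseDecomposition
  letI : SetLike.GradedSMul 𝒜 (I.Hgr m n) :=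
    ⟨fun {t k x y} hx hy => smul_mem_Hgr I m n hx hy⟩
  letI : DirectSum.Decomposition (I'.Hgr m' n) :=
    (isInternal_Hgr 𝒜' 𝒜' I' m' n).chooseDecomposition
  letI : SetLike.GradedSMul 𝒜' (I'.Hgr m' n) :=
    ⟨fun {t k x y} hx hy => smul_mem_Hgr I' m' n hx hy⟩
  have hν : IsVerMod q (I'.Hgr m' n) (I.Hgr m n) G := ⟨hR.pos, hGinj, hGmem, hGex⟩
  have hτ := perfPair_canonical S 𝒞 (I.Hgr m n) ψ hψ
  have hτ' := perfPair_canonical S' 𝒞' (I'.Hgr m' n) ψ' hψ'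
  obtain ⟨g, hg, -⟩ := exists_ver_of_perfPair hR hν hτ hτ'
  exact ⟨g, hg⟩

end Canonical

end Ver

end Groth.Agent.H6
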