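import Groth.Agent.Lib.Helper6.GrVerGor
import Groth.Agent.Lib.Helper6.GrType

/-! The type of a Veronese subring of a Gorenstein standard graded ring. -/

universe u
open DirectSum
set_option linter.unusedSectionVars false

namespace Groth.Agent.H6

namespace Ver

open Gr GDual

section LA

variable {k : Type*} [CommRing k] (hk : IsField k)
variable {V : Type*} [AddCommGroup V] [Module k V]

include hk in
theorem exists_dual_basis [Module.Finite k V] :
    ∃ (b : Fin (Module.finrank k V) → V) (l : Fin (Module.finrank k V) → (V →ₗ[k] k)),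
      (∀ i j, l i (b j) = if i = j then 1 else 0) ∧ ∀ v, v = ∑ i, l i v • b i := by
  classical
  letI := hk.toField
  let B := Module.finBasis k V
  refine ⟨B, fun i => B.coord i, fun i j => ?_, fun v => ?_⟩
  · rw [Module.Basis.coord_apply, Module.Basis.repr_self, Finsupp.single_apply]
    by_cases h : i = j
    · rw [if_pos h, if_pos h.symm]
    · rw [if_neg h, if_neg (Ne.symm h)]
  · conv_lhs => rw [← B.sum_repr v]
    rfl

end LA

section Std

variable {R : Type u} [CommRing R] (𝒜 : ℤ → AddSubgroup R) [GradedRing 𝒜]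
variable (hstd : Ideal.span (⋃ n ∈ Set.Ioi (0 : ℤ), (𝒜 n : Set R)) =
  Ideal.span ((𝒜 1 : AddSubgroup R) : Set R))
variable {X : Type u} [AddCommGroup X] [Module R X]

include hstd in
/-- in a standard graded ring, an element killed by `R_q` is killed by `R_t` for all `t ≥ q` -/
theorem smul_eq_zero_of_std (q : ℕ) : ∀ (x : X), (∀ u ∈ 𝒜 q, u • x = 0) →
    ∀ t : ℤ, (q : ℤ) ≤ t → ∀ r ∈ 𝒜 t, r • x = 0 := by
  induction q with
  | zero =>
    intro x hx t _ r _
    have h1 := hx 1 (by rw [Nat.cast_zero]; exact SetLike.GradedOne.one_mem)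
    rw [one_smul] at h1
    rw [h1, smul_zero]
  | succ q ih =>
    intro x hx t ht r hr
    have ht1 : (0 : ℤ) < t := by push_cast at ht; omega
    have hrs : r ∈ Ideal.span ((𝒜 1 : AddSubgroup R) : Set R) := by
      rw [← hstd]
      apply Ideal.subset_span
      simp only [Set.mem_iUnion, Set.mem_Ioi, SetLike.mem_coe]
      exact ⟨t, ht1, hr⟩
    have key2 : ∀ s ∈ Submodule.span R ((𝒜 1 : AddSubgroup R) : Set R), ∀ c : R,
        proj 𝒜 t (c * s) • x = 0 := by
      intro s hs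
      induction hs using Submodule.span_induction with
      | mem z hz =>
        intro c
        rw [proj_mul_of_mem_right 𝒜 hz, mul_smul]
        have h2 : ∀ u ∈ 𝒜 (q : ℤ), u • (z • x) = 0 := by
          intro u hu
          rw [← mul_smul]
          apply hx
          have := SetLike.GradedMul.mul_mem hu hz
          push_cast
          exact this
        exact ih (z • x) h2 (t - 1) (by push_cast at ht; omega) _ (proj_mem 𝒜 _ _)
      | zero => intro c; rw [mul_zero, map_zero, zero_smul]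
      | add s s' _ _ h1 h2 => intro c; rw [mul_add, map_add, add_smul, h1, h2, add_zero]
      | smul c' s _ h1 =>
        intro c
        rw [smul_eq_mul, ← mul_assoc]
        exact h1 (c * c')
    have := key2 r hrs 1
    rwa [one_mul, proj_of_mem 𝒜 hr] at this

end Std

section Setup

variable {R : Type u} [CommRing R] {𝒜 : ℤ → AddSubgroup R} [GradedRing 𝒜]

/-- the top local cohomology of a Gorenstein graded ring defined over a field -/
theorem exists_top_equiv [hG : LocCoh.IsGorensteinRing R]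
    (hpos : ∀ n : ℤ, n < 0 → 𝒜 n = ⊥) (h0 : IsField (GrLC.deg0 𝒜)) (m : HomogeneousIdeal 𝒜)
    (hm : GrLC.IsStarLocal 𝒜 m)
    (hmsp : m.toIdeal = Ideal.span (⋃ n ∈ Set.Ioi (0 : ℤ), (𝒜 n : Set R))) (n : ℕ)
    (hn : ringKrullDim R = n) (I : GrLC.StarInjRes 𝒜 𝒜) (a : ℤ)
    (ha : GrLC.endDeg (I.Hgr m n) = ((a : WithTop ℤ) : WithBot (WithTop ℤ))) :
    ∃ (Em : GrLC.GMod.{u} 𝒜) (e : (R ⧸ m.toIdeal) →ₗ[R] Em.carrier),
      Setting 𝒜 m Em.gr e ∧ (∀ j, j ≠ n → Subsingleton (I.H m j)) ∧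
      ∃ σ : I.H m n ≃ₗ[R] Em.carrier, GrLC.IsGrHomDeg (I.Hgr m n) Em.gr σ.toLinearMap (-a) := by
  haveI hCM : LocCoh.IsCohenMacaulayRing R := ⟨fun p _ => by
    haveI := hG.isGorensteinLocalRing_localization p
    exact ⟨LDL.gor_cm⟩⟩
  haveI hmax : m.toIdeal.IsMaximal := isMaximal_of_isCoatom hpos m hm.1
  have hHa : I.Hgr m n a ≠ ⊥ := PolyCan.ne_bot_of_endDeg_eq _ a ha
  have hHk : ∀ k, a < k → I.Hgr m n k = ⊥ := by
    intro k hk
    by_contra hne
    have := PolyCan.le_of_endDeg_eq _ a ha k hne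
    omega
  have hle : m.toIdeal.height ≤ (n : ℕ∞) := by
    have h1 := Ideal.height_le_ringKrullDim_of_ne_top hmax.ne_top
    rw [hn] at h1
    exact_mod_cast h1
  obtain ⟨h, hh⟩ : ∃ h : ℕ, m.toIdeal.height = h :=
    ⟨m.toIdeal.height.toNat,
      (ENat.natCast_toNat (ne_top_of_le_ne_top (ENat.natCast_ne_top _) hle)).symm⟩
  have hvanR : ∀ j, j ≠ h → Subsingleton (I.H m j) := by
    intro j hj
    obtain ⟨e⟩ := nonempty_H_equiv 𝒜 𝒜 I m j
    haveI := MaxLoc.cm_vanish m.toIdeal h hh j hj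
    exact e.toEquiv.subsingleton
  have hnh : n = h := by
    by_contra hne
    haveI := hvanR n hne
    apply hHa
    rw [eq_bot_iff]
    intro x _
    rw [AddSubgroup.mem_bot]
    exact Subsingleton.elim _ _
  subst hnh
  obtain ⟨Em, e, he⟩ := exists_residue_hull 𝒜 m
  have S : Setting 𝒜 m Em.gr e := ⟨hpos, h0, hmsp, he⟩
  obtain ⟨g, σ, hσ⟩ := Groth.Agent.S13244.result R 𝒜 m hm n hh I Em.carrier Em.gr e he
  letI : DirectSum.Decomposition (I.Hgr m n) := (isInternal_Hgr 𝒜 𝒜 I m n).chooseDecomposition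
  have hga : g = -a := by
    have h1 : a + g ≤ 0 := by
      by_contra hlt
      push Not at hlt
      apply hHa
      rw [eq_bot_iff]
      intro x hx
      rw [AddSubgroup.mem_bot]
      apply σ.injective
      rw [map_zero]
      exact S.eq_zero_of_pos hlt (hσ a x hx)
    have h2 : -g ≤ a := by
      by_contra hlt
      push Not at hlt
      have h3 : σ.symm (e 1) ∈ I.Hgr m n (0 - g) :=
        symm_mem_of_isGrHomDeg (I.Hgr m n) Em.gr σ hσ S.ω_mem
      rw [hHk (0 - g) (by omega), AddSubgroup.mem_bot] at h3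
      have h4 : e 1 = 0 := by
        have := congrArg σ h3
        rwa [σ.apply_symm_apply, map_zero] at this
      have h5 : (1 : R) = 0 :=
        S.coef_unique (SetLike.GradedOne.one_mem) (by rw [one_smul]; exact h4)
      apply hmax.ne_top
      rw [Ideal.eq_top_iff_one, h5]
      exact zero_mem _
    omega
  subst hga
  exact ⟨Em, e, S, hvanR, σ, hσ⟩

end Setup

section TrSum

variable {R : Type u} [CommRing R] {𝒜 : ℤ → AddSubgroup R} [GradedRing 𝒜]
variable {m : HomogeneousIdeal 𝒜}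
variable {E' : Type u} [AddCommGroup E'] [Module R E'] {𝓔 : ℤ → AddSubgroup E'}
  [DirectSum.Decomposition 𝓔] [SetLike.GradedSMul 𝒜 𝓔]
  {e : (R ⧸ m.toIdeal) →ₗ[R] E'} (S : Setting 𝒜 m 𝓔 e)

include S in
theorem tr_sum {κ : Type*} (s : Finset κ) (f : κ → E') :
    S.tr (∑ i ∈ s, f i) = ∑ i ∈ s, S.tr (f i) := by
  classical
  induction s using Finset.induction_on with
  | empty => rw [Finset.sum_empty, Finset.sum_empty, S.tr_zero]
  | insert i s hi ih => rw [Finset.sum_insert hi, Finset.sum_insert hi, S.tr_add, ih]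

include S in
theorem tr_sub (x y : E') : S.tr (x - y) = S.tr x - S.tr y := by
  have := S.tr_add (x - y) y
  rw [sub_add_cancel] at this
  rw [this, add_sub_cancel_right]

end TrSum

section TypeVer

variable {R : Type u} [CommRing R] {R' : Type u} [CommRing R']
variable {q : ℕ} {𝒜' : ℤ → AddSubgroup R'} [GradedRing 𝒜'] {𝒜 : ℤ → AddSubgroup R} [GradedRing 𝒜]
  {φ : R' →+* R}

set_option maxHeartbeats 2000000 in
/-- **the type of the Veronese subring `R^(q)` of a Gorenstein standard graded ring** -/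
theorem type_ver [hG : LocCoh.IsGorensteinRing R] (hR : IsVerRing q 𝒜' 𝒜 φ)
    (hpos : ∀ n : ℤ, n < 0 → 𝒜 n = ⊥) (h0 : IsField (GrLC.deg0 𝒜)) (m : HomogeneousIdeal 𝒜)
    (hm : GrLC.IsStarLocal 𝒜 m)
    (hmsp : m.toIdeal = Ideal.span (⋃ n ∈ Set.Ioi (0 : ℤ), (𝒜 n : Set R)))
    (hstd : Ideal.span (⋃ n ∈ Set.Ioi (0 : ℤ), (𝒜 n : Set R)) =
      Ideal.span ((𝒜 1 : AddSubgroup R) : Set R)) (n : ℕ)
    (hn : ringKrullDim R = n) (I : GrLC.StarInjRes 𝒜 𝒜) (a : ℤ)
    (ha : GrLC.endDeg (I.Hgr m n) = ((a : WithTop ℤ) : WithBot (WithTop ℤ)))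
    (m' : HomogeneousIdeal 𝒜') [hmax' : m'.toIdeal.IsMaximal]
    (hm'sp : m'.toIdeal = Ideal.span (⋃ j ∈ Set.Ioi (0 : ℤ), (𝒜' j : Set R')))
    (ρ : ℤ) (hρ0 : 0 ≤ ρ) (hρq : ρ < q) (hρa : (q : ℤ) ∣ a - ρ) :
    GrLC.bassNum m'.toIdeal R' n =
      (Module.finrank (GrLC.deg0 𝒜) (GrLC.comp 𝒜 𝒜 ρ) : ℕ∞) := by
  haveI : IsNoetherianRing R' := isNoetherianRing hR
  obtain ⟨Em, e, S, hvanR, σ, hσ⟩ := exists_top_equiv hpos h0 m hm hmsp n hn I a ha
  obtain ⟨j₀, hj₀⟩ := hρa
  have hq0 : (0 : ℤ) < q := by exact_mod_cast hR.pos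
  have hpos' := hR.neg_eq_bot hpos
  let I' : GrLC.StarInjRes 𝒜' 𝒜' := starInjRes 𝒜' 𝒜'
  have hgam : ∀ (X : Type u) [AddCommGroup X] [Module R X],
      GrLC.gam m.toIdeal X = GrLC.gam (m'.toIdeal.map φ) X :=
    fun X _ _ => gam_irrelevant_eq hR m.toIdeal m'.toIdeal hmsp hm'sp X
  have hvan' : ∀ i, i ≠ n → Subsingleton (LocCoh.H m'.toIdeal i R') := by
    intro i hi
    obtain ⟨G, hGinj, -, -⟩ := exists_ver_H hR hR.toMod I I' m m' hgam i
    haveI := hvanR i hi
    haveI : Subsingleton (I'.H m' i) := hGinj.subsingleton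
    obtain ⟨e⟩ := nonempty_H_equiv 𝒜' 𝒜' I' m' i
    exact e.symm.toEquiv.subsingleton
  obtain ⟨G, hGinj, hGmem, hGex⟩ := exists_ver_H hR hR.toMod I I' m m' hgam n
  obtain ⟨eLC⟩ := nonempty_H_equiv 𝒜' 𝒜' I' m' n
  rw [GrType.bassNum_eq_bassNum_top m'.toIdeal n hvan' eLC]
  letI : DirectSum.Decomposition (I.Hgr m n) := (isInternal_Hgr 𝒜 𝒜 I m n).chooseDecomposition
  letI : DirectSum.Decomposition (I'.Hgr m' n) :=
    (isInternal_Hgr 𝒜' 𝒜' I' m' n).chooseDecomposition
  letI : SetLike.GradedSMul 𝒜' (I'.Hgr m' n) :=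
    ⟨fun {t k x y} hx hy => smul_mem_Hgr I' m' n hx hy⟩
  -- the comparison map `θ = σ ∘ G`
  have hθinj : ∀ y : I'.H m' n, σ (G y) = 0 → y = 0 := by
    intro y hy
    have h1 : G y = 0 := σ.injective (hy.trans (map_zero σ).symm)
    exact hGinj (h1.trans (map_zero G).symm)
  have hθmem : ∀ (j : ℤ) (y : I'.H m' n), y ∈ I'.Hgr m' n j → σ (G y) ∈ Em.gr (j * q + -a) :=
    fun j y hy => hσ _ _ (hGmem j y hy)
  have hθsmul : ∀ (r' : R') (y : I'.H m' n), σ (G (r' • y)) = φ r' • σ (G y) := by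
    intro r' y
    rw [map_smulₛₗ G r' y, map_smul]
  -- a basis of `R_ρ`
  obtain ⟨G0⟩ := exists_posGens 𝒜 m.toIdeal hmsp
  have ha' : ∀ n : ℤ, 0 < n → ∀ y ∈ 𝒜 n, y ∈ m.toIdeal := by
    intro n hn y hy
    rw [hmsp]
    apply Ideal.subset_span
    simp only [Set.mem_iUnion, Set.mem_Ioi, SetLike.mem_coe]
    exact ⟨n, hn, hy⟩
  haveI : Module.Finite (GrLC.deg0 𝒜) ↥(GrLC.comp 𝒜 𝒜 ρ) :=
    Module.Finite.iff_fg.mpr (G0.comp_fg hpos ha' ρ)
  obtain ⟨b, l, hbl, hsum⟩ := exists_dual_basis h0 (V := ↥(GrLC.comp 𝒜 𝒜 ρ))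
  have hbmem : ∀ i, ((b i : ↥(GrLC.comp 𝒜 𝒜 ρ)) : R) ∈ 𝒜 ρ := fun i => (b i).2
  -- the dual elements of `E'_{-ρ}`
  have hx : ∀ i, ∃ x ∈ Em.gr (-ρ), ∀ (r : R) (hr : r ∈ 𝒜 ρ),
      S.tr (r • x) = (l i ⟨r, hr⟩ : R) := by
    intro i
    obtain ⟨f, hf, hfl⟩ := exists_hom_of_dual S 𝒜 ρ (l i)
    refine ⟨f 1, ?_, ?_⟩
    · have := hf 0 1 (SetLike.GradedOne.one_mem)
      rwa [zero_add] at this
    · intro r hr
      rw [← map_smul, smul_eq_mul, mul_one]
      exact hfl r hr
  choose x hxmem hxl using hx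
  have hxb : ∀ i j, S.tr ((b j : R) • x i) = if i = j then 1 else 0 := by
    intro i j
    rw [hxl i _ (hbmem j)]
    have : (⟨(b j : R), hbmem j⟩ : ↥(GrLC.comp 𝒜 𝒜 ρ)) = b j := rfl
    rw [this, hbl i j]
    split_ifs <;> rfl
  -- an element of `E'_{-ρ}` is determined by its pairings with the basis
  have hdet : ∀ w ∈ Em.gr (-ρ), (∀ i, S.tr ((b i : R) • w) = 0) → w = 0 := by
    intro w hw hwb
    apply (perfPair_self S).nondeg (-ρ) w hw
    intro r hr
    rw [neg_neg] at hr
    change S.tr (r • w) = 0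
    have h2 : r = ∑ i, ((l i ⟨r, hr⟩ : GrLC.deg0 𝒜) : R) * (b i : R) := by
      have h1 := congrArg Subtype.val (hsum ⟨r, hr⟩)
      rw [Submodule.coe_sum] at h1
      exact h1
    rw [h2, Finset.sum_smul, tr_sum S]
    apply Finset.sum_eq_zero
    intro i _
    rw [mul_smul, S.tr_smul (l i ⟨r, hr⟩).2, hwb i, mul_zero]
  -- the elements `v i`
  have hdeg₀ : j₀ * (q : ℤ) + -a = -ρ := by linarith
  have hv' : ∀ i, ∃ v ∈ I'.Hgr m' n j₀, σ (G v) = x i := by
    intro i
    have h1 : σ.symm (x i) ∈ I.Hgr m n (-ρ - -a) :=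
      symm_mem_of_isGrHomDeg (I.Hgr m n) Em.gr σ hσ (hxmem i)
    have h2 : -ρ - -a = j₀ * (q : ℤ) := by linarith
    rw [h2] at h1
    obtain ⟨v, hv, hGv⟩ := hGex j₀ _ h1
    exact ⟨v, hv, by rw [hGv, σ.apply_symm_apply]⟩
  choose v hvmem hvx using hv'
  -- elements of degree `j₀` are killed by `m'`
  have hkill : ∀ y ∈ I'.Hgr m' n j₀, ∀ a' ∈ m'.toIdeal, a' • y = 0 := by
    intro y hy a' ha'
    rw [hm'sp] at ha'
    induction ha' using Submodule.span_induction with
    | mem a' ha' =>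
      simp only [Set.mem_iUnion, Set.mem_Ioi, SetLike.mem_coe] at ha'
      obtain ⟨i', hi', ha'i⟩ := ha'
      apply hθinj
      have h1 : a' • y ∈ I'.Hgr m' n (i' + j₀) := smul_mem_Hgr I' m' n ha'i hy
      have h2 := hθmem _ _ h1
      refine S.eq_zero_of_pos ?_ h2
      have : (i' + j₀) * (q : ℤ) + -a = i' * q - ρ := by linarith
      rw [this]
      nlinarith
    | zero => rw [zero_smul]
    | add c c' _ _ h1 h2 => rw [add_smul, h1, h2, add_zero]
    | smul c a' _ h1 => rw [smul_eq_mul, mul_smul, h1, smul_zero]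
  have hmem' : ∀ j (u' : R'), 0 < j → u' ∈ 𝒜' j → u' ∈ m'.toIdeal := by
    intro j u' hj hu'
    rw [hm'sp]
    apply Ideal.subset_span
    simp only [Set.mem_iUnion, Set.mem_Ioi, SetLike.mem_coe]
    exact ⟨j, hj, hu'⟩
  -- the socle is concentrated in degree `j₀`
  have hsoc : ∀ y : I'.H m' n, (∀ a' ∈ m'.toIdeal, a' • y = 0) → y ∈ I'.Hgr m' n j₀ := by
    intro y hy
    have hz : ∀ j, j ≠ j₀ → proj (I'.Hgr m' n) j y = 0 := by
      intro j hj
      have hyj : ∀ a' ∈ m'.toIdeal, a' • proj (I'.Hgr m' n) j y = 0 :=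
        Soc.smul_proj_eq_zero 𝒜' (I'.Hgr m' n) m'.toIdeal m'.isHomogeneous hy j
      have hpj := proj_mem (I'.Hgr m' n) j y
      apply hθinj
      have hdeg := hθmem j _ hpj
      set x' := σ (G (proj (I'.Hgr m' n) j y)) with hx'
      by_cases ht : a - j * q < 0
      · exact S.eq_zero_of_pos (by linarith) hdeg
      · push Not at ht
        have htq : (q : ℤ) ≤ a - j * q := by
          by_contra hlt
          push Not at hlt
          apply hj
          have h1 : (q : ℤ) * (j₀ - j) = (a - j * q) - ρ := by linarith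
          have h2 : -(q : ℤ) < (q : ℤ) * (j₀ - j) := by linarith
          have h3 : (q : ℤ) * (j₀ - j) < q := by linarith
          have h4 : j₀ - j = 0 := by
            by_contra hne
            rcases lt_or_gt_of_ne hne with h | h
            · have : j₀ - j ≤ -1 := by omega
              nlinarith
            · have : 1 ≤ j₀ - j := by omega
              nlinarith
          omega
        have hu : ∀ u ∈ 𝒜 (q : ℤ), u • x' = 0 := by
          intro u hu
          have hu1 : u ∈ 𝒜 (1 * (q : ℤ)) := by rwa [one_mul]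
          obtain ⟨u', hu', rfl⟩ := hR.exists_mem 1 u hu1
          rw [hx', ← hθsmul, hyj u' (hmem' 1 u' one_pos hu'), map_zero, map_zero]
        have hall := smul_eq_zero_of_std 𝒜 hstd q x' hu (a - j * q) htq
        apply (perfPair_self S).nondeg (j * q + -a) x' hdeg
        intro r hr
        change S.tr (r • x') = 0
        have : -(j * (q : ℤ) + -a) = a - j * q := by ring
        rw [this] at hr
        rw [hall r hr, S.tr_zero]
    have h1 : y = proj (I'.Hgr m' n) j₀ y := by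
      apply ext_proj (I'.Hgr m' n)
      intro j
      by_cases hj : j = j₀
      · subst hj
        rw [proj_proj_same]
      · rw [hz j hj, proj_proj_ne (I'.Hgr m' n) (Ne.symm hj)]
    rw [h1]
    exact proj_mem _ _ _
  have h0mem : ∀ c ∈ 𝒜 0, ∃ c' ∈ 𝒜' 0, φ c' = c := by
    intro c hc
    apply hR.exists_mem 0 c
    rwa [zero_mul]
  apply GrType.bassNum_zero_eq m'.toIdeal v
  · intro i a' ha'
    exact hkill _ (hvmem i) a' ha'
  · intro y hy
    have hyj := hsoc y hy
    have hz := hθmem j₀ y hyj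
    rw [hdeg₀] at hz
    have hκ : ∀ i, ∃ c' ∈ 𝒜' 0, φ c' = S.tr ((b i : R) • σ (G y)) :=
      fun i => h0mem _ (S.tr_mem _)
    choose κ' hκ'mem hκ' using hκ
    refine ⟨κ', ?_⟩
    have hw : σ (G y) - ∑ i, φ (κ' i) • x i = 0 := by
      apply hdet
      · apply sub_mem hz
        apply sum_mem
        intro i _
        have := SetLike.GradedSMul.smul_mem (A := 𝒜) (B := Em.gr)
          (show φ (κ' i) ∈ 𝒜 0 by rw [hκ']; exact S.tr_mem _) (hxmem i)
        rwa [vadd_eq_add, zero_add] at this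
      · intro j
        rw [smul_sub, tr_sub S, Finset.smul_sum, tr_sum S, sub_eq_zero]
        have h1 : ∀ i ∈ Finset.univ, S.tr ((b j : R) • φ (κ' i) • x i) =
            if i = j then φ (κ' j) else 0 := by
          intro i _
          rw [smul_comm, S.tr_smul (by rw [hκ']; exact S.tr_mem _), hxb i j]
          split_ifs with h
          · rw [h, mul_one]
          · rw [mul_zero]
        rw [Finset.sum_congr rfl h1, Finset.sum_ite_eq' Finset.univ j, if_pos (Finset.mem_univ j),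
          hκ']
    have h2 : σ (G (y - ∑ i, κ' i • v i)) = 0 := by
      rw [map_sub, map_sub, map_sum, map_sum, ← hw]
      congr 1
      apply Finset.sum_congr rfl
      intro i _
      rw [hθsmul, hvx]
    exact sub_eq_zero.mp (hθinj _ h2)
  · intro c hc i
    have h1 : ∑ j, φ (c j) • x j = 0 := by
      have := congrArg (fun y => σ (G y)) hc
      simp only [map_sum, map_zero] at this
      rw [← this]
      apply Finset.sum_congr rfl
      intro j _
      rw [hθsmul, hvx]
    have h2 : ∑ j, proj 𝒜 0 (φ (c j)) • x j = 0 := by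
      have := congrArg (proj Em.gr (-ρ)) h1
      rw [map_sum, map_zero] at this
      rw [← this]
      apply Finset.sum_congr rfl
      intro j _
      rw [proj_smul_of_mem_right 𝒜 Em.gr (hxmem j) (-ρ) (φ (c j)), sub_self]
    have h3 : proj 𝒜 0 (φ (c i)) = 0 := by
      have := congrArg (fun w => S.tr ((b i : R) • w)) h2
      simp only [smul_zero, S.tr_zero, Finset.smul_sum] at this
      rw [tr_sum S] at this
      have h4 : ∀ j ∈ Finset.univ, S.tr ((b i : R) • proj 𝒜 0 (φ (c j)) • x j) =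
          if j = i then proj 𝒜 0 (φ (c i)) else 0 := by
        intro j _
        rw [smul_comm, S.tr_smul (proj_mem 𝒜 0 _), hxb j i]
        split_ifs with h
        · rw [h, mul_one]
        · rw [mul_zero]
      rw [Finset.sum_congr rfl h4, Finset.sum_ite_eq' Finset.univ i,
        if_pos (Finset.mem_univ i)] at this
      exact this
    have h5 : proj 𝒜' 0 (c i) = 0 := by
      apply hR.inj
      have := hR.toMod.proj_map 0 (c i)
      rw [zero_mul] at this
      rw [map_zero]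
      exact this.symm.trans h3
    have h6 := mem_irr_of_proj_zero 𝒜' hpos' h5
    rw [hm'sp]
    exact h6

end TypeVer

end Ver

end Groth.Agent.H6
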