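import Groth.Agent.Lib.Helper6.GrDualFlip
import Groth.Agent.Lib.Helper6.GrVerType

/-! A homogeneous map `f : H → E` into the *injective envelope of the residue field which generates
`*Hom(H, E)` freely is bijective; descent of generation along powers of the irrelevant ideal. -/

universe u
open DirectSum
set_option linter.unusedSectionVars false

namespace Groth.Agent.H6

namespace VerDesc

open Gr GDual

variable {R : Type u} [CommRing R] {𝒜 : ℤ → AddSubgroup R} [GradedRing 𝒜]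
variable {m : HomogeneousIdeal 𝒜}
variable {E' : Type u} [AddCommGroup E'] [Module R E'] {𝓔 : ℤ → AddSubgroup E'}
  [DirectSum.Decomposition 𝓔] [SetLike.GradedSMul 𝒜 𝓔]
  {e : (R ⧸ m.toIdeal) →ₗ[R] E'} (S : Setting 𝒜 m 𝓔 e)
variable {H : Type u} [AddCommGroup H] [Module R H] (ℋ : ℤ → AddSubgroup H)
  [DirectSum.Decomposition ℋ] [SetLike.GradedSMul 𝒜 ℋ]
variable {c : ℤ} {f : H →ₗ[R] E'} (hf : GrLC.IsGrHomDeg ℋ 𝓔 f (-c))

include hf in
/-- the components of a scalar killing `f` kill `f` -/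
theorem proj_smul_eq_zero {r : R} (h : r • f = 0) (i : ℤ) : proj 𝒜 i r • f = 0 := by
  apply LinearMap.ext
  intro x
  induction x using induction_on ℋ with
  | zero => simp
  | homogeneous j x hx =>
    rw [LinearMap.smul_apply, LinearMap.zero_apply]
    have h1 := proj_smul_of_mem_right 𝒜 𝓔 (hf j x hx) (i + (j + -c)) r
    rw [add_sub_cancel_right] at h1
    rw [← h1]
    have h2 : r • f x = 0 := by
      have := LinearMap.congr_fun h x
      rwa [LinearMap.smul_apply, LinearMap.zero_apply] at this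
    rw [h2, map_zero]
  | add x x' h1 h2 =>
    rw [map_add, h1, h2, LinearMap.zero_apply, LinearMap.zero_apply, LinearMap.zero_apply,
      add_zero]

include hf in
theorem inj_of_homogeneous (hinj : ∀ i : ℤ, ∀ r ∈ 𝒜 i, r • f = 0 → r = 0) (r : R)
    (h : r • f = 0) : r = 0 := by
  apply eq_zero_of_proj_eq_zero 𝒜
  intro i
  exact hinj i _ (proj_mem 𝒜 i r) (proj_smul_eq_zero ℋ hf h i)

omit [DirectSum.Decomposition ℋ] [SetLike.GradedSMul 𝒜 ℋ] in
/-- descent along the irrelevant ideal, using a regular pair -/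
theorem descend_one (hinj : ∀ r : R, r • f = 0 → r = 0) (x y : R) (hx : x ∈ m.toIdeal)
    (hy : y ∈ m.toIdeal) (hxreg : IsSMulRegular R x)
    (hxy : ∀ a b : R, a * y = b * x → ∃ c, a = c * x)
    (hdiv : m.toIdeal • (⊤ : Submodule R H) = ⊤) (z : H →ₗ[R] E')
    (hz : ∀ u ∈ m.toIdeal, ∃ a : R, u • z = a • f) : ∃ a : R, z = a • f := by
  obtain ⟨a, ha⟩ := hz x hx
  obtain ⟨b, hb⟩ := hz y hy
  have h1 : (a * y - b * x) • f = 0 := by
    rw [sub_smul, mul_comm a y, mul_comm b x, mul_smul, mul_smul, ← ha, ← hb, smul_comm,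
      sub_self]
  have h2 : a * y = b * x := sub_eq_zero.mp (hinj _ h1)
  obtain ⟨a', ha'⟩ := hxy a b h2
  refine ⟨a', ?_⟩
  have h3 : ∀ u ∈ m.toIdeal, u • (z - a' • f) = 0 := by
    intro u hu
    obtain ⟨cu, hcu⟩ := hz u hu
    have h4 : (x * cu - x * (u * a')) • f = 0 := by
      rw [sub_smul, mul_smul, ← hcu, smul_comm, ha, ha', mul_smul, mul_smul, mul_smul,
        smul_comm u a' f, smul_comm x a' (u • f), smul_comm x u f, smul_comm a' u (x • f),
        sub_self]
    have h5 : x * cu = x * (u * a') := sub_eq_zero.mp (hinj _ h4)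
    have h6 : cu = u * a' := hxreg h5
    rw [smul_sub, hcu, h6, mul_smul, sub_self]
  have h7 : ∀ h ∈ m.toIdeal • (⊤ : Submodule R H), (z - a' • f) h = 0 := by
    intro h hh
    refine Submodule.smul_induction_on hh ?_ ?_
    · intro u hu h' _
      rw [map_smul, ← LinearMap.smul_apply, h3 u hu, LinearMap.zero_apply]
    · intro h₁ h₂ ih₁ ih₂
      rw [map_add, ih₁, ih₂, add_zero]
  rw [hdiv] at h7
  exact sub_eq_zero.mp (LinearMap.ext fun h => h7 h Submodule.mem_top)

omit [DirectSum.Decomposition ℋ] [SetLike.GradedSMul 𝒜 ℋ] in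
/-- descent along the powers of the irrelevant ideal of a standard graded ring -/
theorem descend_pow (hm1 : m.toIdeal = Ideal.span ((𝒜 1 : AddSubgroup R) : Set R))
    (hP1 : ∀ z : H →ₗ[R] E', (∀ u ∈ m.toIdeal, ∃ a : R, u • z = a • f) → ∃ a : R, z = a • f) :
    ∀ (i : ℕ) (z : H →ₗ[R] E'), (∀ u ∈ 𝒜 (i : ℤ), ∃ a : R, u • z = a • f) →
      ∃ a : R, z = a • f := by
  intro i
  induction i with
  | zero =>
    intro z hz
    obtain ⟨a, ha⟩ := hz 1 (by rw [Nat.cast_zero]; exact SetLike.GradedOne.one_mem)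
    exact ⟨a, by rw [← ha, one_smul]⟩
  | succ i ih =>
    intro z hz
    apply ih z
    intro v hv
    apply hP1
    intro u hu
    rw [hm1] at hu
    induction hu using Submodule.span_induction with
    | mem u hu =>
      have huv : u * v ∈ 𝒜 ((i + 1 : ℕ) : ℤ) := by
        have := SetLike.GradedMul.mul_mem hu hv
        push_cast
        rwa [add_comm] at this
      obtain ⟨a, ha⟩ := hz _ huv
      exact ⟨a, by rw [← ha, mul_smul]⟩
    | zero => exact ⟨0, by rw [zero_smul, zero_smul]⟩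
    | add u u' _ _ h1 h2 =>
      obtain ⟨a, ha⟩ := h1
      obtain ⟨a', ha'⟩ := h2
      exact ⟨a + a', by rw [add_smul, add_smul, ha, ha']⟩
    | smul r u _ h1 =>
      obtain ⟨a, ha⟩ := h1
      exact ⟨r * a, by rw [smul_eq_mul, mul_smul, mul_smul, ha]⟩

omit [DirectSum.Decomposition ℋ] [DirectSum.Decomposition 𝓔] in
/-- generation in the degrees congruent to `-c` modulo `q` implies generation in all degrees -/
theorem generated_of_ver (q : ℕ) (hq : 0 < q)
    (hPi : ∀ (i : ℕ) (z : H →ₗ[R] E'), (∀ u ∈ 𝒜 (i : ℤ), ∃ a : R, u • z = a • f) →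
      ∃ a : R, z = a • f)
    (hver : ∀ l : ℤ, (q : ℤ) ∣ l + c → ∀ z : H →ₗ[R] E', GrLC.IsGrHomDeg ℋ 𝓔 z l →
      ∃ a : R, z = a • f) :
    ∀ (l : ℤ) (z : H →ₗ[R] E'), GrLC.IsGrHomDeg ℋ 𝓔 z l → ∃ a : R, z = a • f := by
  intro l z hz
  have hq' : (0 : ℤ) < q := by exact_mod_cast hq
  set t : ℤ := (-(l + c)) % q with ht
  have ht0 : 0 ≤ t := Int.emod_nonneg _ (ne_of_gt hq')
  obtain ⟨i, hi⟩ := Int.eq_ofNat_of_zero_le ht0
  apply hPi i z
  intro u hu
  apply hver (l + i)
  · have h1 := Int.emod_add_mul_ediv (-(l + c)) q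
    refine ⟨-((-(l + c)) / q), ?_⟩
    rw [← hi, ht]
    linarith
  · intro j x hx
    rw [LinearMap.smul_apply]
    have := SetLike.GradedSMul.smul_mem (A := 𝒜) (B := 𝓔) hu (hz j x hx)
    rw [vadd_eq_add] at this
    have e1 : (i : ℤ) + (j + l) = j + (l + i) := by ring
    rwa [e1] at this

include S hf in
/-- a generator of `*Hom(H, E)` is injective -/
theorem injective_of_generated
    (hgen : ∀ (l : ℤ) (z : H →ₗ[R] E'), GrLC.IsGrHomDeg ℋ 𝓔 z l → ∃ a : R, z = a • f) :
    Function.Injective f := by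
  rw [injective_iff_map_eq_zero]
  intro h hfh
  by_contra hne
  have hex : ∃ j, proj ℋ j h ≠ 0 := by
    by_contra hcon
    push Not at hcon
    exact hne (eq_zero_of_proj_eq_zero ℋ hcon)
  obtain ⟨j, hj⟩ := hex
  have hfj : f (proj ℋ j h) = 0 := by
    rw [isGrHomDeg_proj ℋ 𝓔 hf, hfh, map_zero]
  have hv : (⟨proj ℋ j h, proj_mem ℋ j h⟩ : ↥(GrLC.comp 𝒜 ℋ j)) ≠ 0 :=
    fun h' => hj (congrArg Subtype.val h')
  obtain ⟨l, hl⟩ := exists_functional_ne_zero S.h0 hv
  obtain ⟨z, hz, hzl⟩ := exists_hom_of_dual S ℋ j l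
  obtain ⟨a, ha⟩ := hgen (-j) z hz
  apply hl
  apply Subtype.ext
  rw [← hzl _ (proj_mem ℋ j h), ha, LinearMap.smul_apply, hfj, smul_zero, S.tr_zero]
  rfl

set_option maxHeartbeats 800000 in
include S hf in
/-- a free generator of `*Hom(H, E)` is surjective, when the pieces of `H` are finite -/
theorem surjective_of_generated (hinj : ∀ r : R, r • f = 0 → r = 0)
    (hgen : ∀ (l : ℤ) (z : H →ₗ[R] E'), GrLC.IsGrHomDeg ℋ 𝓔 z l → ∃ a : R, z = a • f)
    (hfin : ∀ j : ℤ, Module.Finite (GrLC.deg0 𝒜) ↥(GrLC.comp 𝒜 ℋ j)) :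
    Function.Surjective f := by
  intro y
  induction y using induction_on 𝓔 with
  | zero => exact ⟨0, map_zero f⟩
  | add y y' h1 h2 =>
    obtain ⟨x, hx⟩ := h1
    obtain ⟨x', hx'⟩ := h2
    exact ⟨x + x', by rw [map_add, hx, hx']⟩
  | homogeneous d y hy =>
    haveI := hfin (d + c)
    have hfmem : ∀ v : ↥(GrLC.comp 𝒜 ℋ (d + c)), f (v : H) ∈ 𝓔 d := by
      intro v
      have := hf (d + c) v.1 v.2
      rwa [add_neg_cancel_right] at this
    let β : ↥(GrLC.comp 𝒜 ℋ (d + c)) →ₗ[GrLC.deg0 𝒜] ↥(GrLC.comp 𝒜 𝒜 (-d)) →ₗ[GrLC.deg0 𝒜]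
        GrLC.deg0 𝒜 :=
      LinearMap.mk₂ (GrLC.deg0 𝒜) (fun v w => ⟨S.tr ((w : R) • f (v : H)), S.tr_mem _⟩)
        (fun v v' w => by
          apply Subtype.ext
          change S.tr ((w : R) • f ((v : H) + (v' : H))) = _
          rw [map_add, smul_add, S.tr_add]
          rfl)
        (fun c₀ v w => by
          apply Subtype.ext
          change S.tr ((w : R) • f ((c₀ : R) • (v : H))) = (c₀ : R) * S.tr _
          rw [map_smul, smul_comm, S.tr_smul c₀.2])
        (fun v w w' => by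
          apply Subtype.ext
          change S.tr (((w : R) + (w' : R)) • f (v : H)) = _
          rw [add_smul, S.tr_add]
          rfl)
        (fun c₀ v w => by
          apply Subtype.ext
          change S.tr (((c₀ : R) * (w : R)) • f (v : H)) = (c₀ : R) * S.tr _
          rw [mul_smul, S.tr_smul c₀.2])
    have hβ : ∀ v w, (β v w : R) = S.tr ((w : R) • f (v : H)) := fun v w => rfl
    have h1 : ∀ l' : ↥(GrLC.comp 𝒜 ℋ (d + c)) →ₗ[GrLC.deg0 𝒜] GrLC.deg0 𝒜,
        ∃ w, ∀ v, β v w = l' v := by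
      intro l'
      obtain ⟨z, hz, hzl⟩ := exists_hom_of_dual S ℋ (d + c) l'
      obtain ⟨a, ha⟩ := hgen _ z hz
      refine ⟨⟨proj 𝒜 (-d) a, proj_mem 𝒜 (-d) a⟩, fun v => ?_⟩
      apply Subtype.ext
      rw [hβ, ← hzl v.1 v.2, ha, LinearMap.smul_apply]
      exact (S.tr_smul_of_mem (hfmem v) a).symm
    have h2 : ∀ w, (∀ v, β v w = 0) → w = 0 := by
      intro w hw
      have hwf : GrLC.IsGrHomDeg ℋ 𝓔 ((w : R) • f) (-(d + c)) := by
        intro i x hx
        rw [LinearMap.smul_apply]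
        have := SetLike.GradedSMul.smul_mem (A := 𝒜) (B := 𝓔) w.2 (hf i x hx)
        rw [vadd_eq_add] at this
        have e1 : -d + (i + -c) = i + -(d + c) := by ring
        rwa [e1] at this
      have hz := hom_eq_zero_of_tr' S ℋ hwf (fun x hx => by
        have := congrArg Subtype.val (hw ⟨x, hx⟩)
        rw [hβ] at this
        exact this)
      exact Subtype.ext (hinj _ hz)
    let μ : ↥(GrLC.comp 𝒜 𝒜 (-d)) →ₗ[GrLC.deg0 𝒜] GrLC.deg0 𝒜 :=
      { toFun := fun w => ⟨S.tr ((w : R) • y), S.tr_mem _⟩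
        map_add' := fun w w' => by
          apply Subtype.ext
          change S.tr (((w : R) + (w' : R)) • y) = _
          rw [add_smul, S.tr_add]
          rfl
        map_smul' := fun c₀ w => by
          apply Subtype.ext
          change S.tr (((c₀ : R) * (w : R)) • y) = (c₀ : R) * S.tr _
          rw [mul_smul, S.tr_smul c₀.2] }
    obtain ⟨v, hv⟩ := exists_repr_of_perfect S.h0 β h1 h2 μ
    refine ⟨v.1, ?_⟩
    have h3 : f (v : H) - y = 0 := by
      apply (perfPair_self S).nondeg d _ (sub_mem (hfmem v) hy)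
      intro r hr
      change S.tr (r • (f (v : H) - y)) = 0
      rw [smul_sub, Ver.tr_sub S]
      have := congrArg Subtype.val (hv ⟨r, hr⟩)
      rw [hβ] at this
      rw [this]
      exact sub_self _
    exact sub_eq_zero.mp h3

end VerDesc

end Groth.Agent.H6
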