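import Groth.Agent.Lib.Helper6.GrVerDesc1

/-! The generator of `*Hom(H, E)` coming from a Gorenstein Veronese subring. -/

universe u
open DirectSum
set_option linter.unusedSectionVars false

namespace Groth.Agent.H6

namespace VerDesc

open Gr GDual Ver

variable {R : Type u} [CommRing R] {R' : Type u} [CommRing R']
variable {q : ℕ} {𝒜' : ℤ → AddSubgroup R'} [GradedRing 𝒜'] {𝒜 : ℤ → AddSubgroup R} [GradedRing 𝒜]
  {φ : R' →+* R} (hR : IsVerRing q 𝒜' 𝒜 φ)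
variable {m : HomogeneousIdeal 𝒜}
variable {E : Type u} [AddCommGroup E] [Module R E] {𝓔 : ℤ → AddSubgroup E}
  [DirectSum.Decomposition 𝓔] [SetLike.GradedSMul 𝒜 𝓔]
  {e : (R ⧸ m.toIdeal) →ₗ[R] E} (S : Setting 𝒜 m 𝓔 e)
variable {m' : HomogeneousIdeal 𝒜'}
variable {E' : Type u} [AddCommGroup E'] [Module R' E'] {𝓔' : ℤ → AddSubgroup E'}
  [DirectSum.Decomposition 𝓔'] [SetLike.GradedSMul 𝒜' 𝓔']
  {e' : (R' ⧸ m'.toIdeal) →ₗ[R'] E'} (S' : Setting 𝒜' m' 𝓔' e')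
variable {H : Type u} [AddCommGroup H] [Module R H] (ℋ : ℤ → AddSubgroup H)
  [DirectSum.Decomposition ℋ] [SetLike.GradedSMul 𝒜 ℋ]
variable {H' : Type u} [AddCommGroup H'] [Module R' H'] (ℋ' : ℤ → AddSubgroup H')
  [DirectSum.Decomposition ℋ'] [SetLike.GradedSMul 𝒜' ℋ']
variable {G : H' →ₛₗ[φ] H} (hG : IsVerMod q ℋ' ℋ G)
variable {a' : ℤ} (σ' : H' ≃ₗ[R'] E') (hσ' : GrLC.IsGrHomDeg ℋ' 𝓔' σ'.toLinearMap (-a'))

include hR S S' hG in
/-- the candidate generator -/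
theorem exists_gen : ∃ f : H →ₗ[R] E, GrLC.IsGrHomDeg ℋ 𝓔 f (-(a' * q)) ∧
    ∀ y ∈ ℋ' a', S.tr (f (G y)) = φ (S'.tr (σ' y)) := by
  obtain ⟨ρ, hρ⟩ := exists_retraction_mod hG
  let l : H →+ R := (φ : R' →+ R).comp (S'.trHom.comp ((σ' : H' →+ E').comp ρ))
  have hl : ∀ x, l x = φ (S'.tr (σ' (ρ x))) := fun x => rfl
  have hl0 : ∀ x ∈ ℋ (- -(a' * q)), l x ∈ 𝒜 0 := by
    intro x _
    rw [hl]
    have := hR.map_mem 0 _ (S'.tr_mem (σ' (ρ x)))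
    rwa [zero_mul] at this
  have hls : ∀ c₀ ∈ 𝒜 0, ∀ x ∈ ℋ (- -(a' * q)), l (c₀ • x) = c₀ * l x := by
    intro c₀ hc₀ x hx
    rw [neg_neg] at hx
    obtain ⟨y, -, rfl⟩ := hG.exists_mem a' x hx
    obtain ⟨c₀', hc₀', rfl⟩ := hR.exists_mem 0 c₀ (by rwa [zero_mul])
    rw [hl, hl, ← map_smulₛₗ G, hρ, hρ, map_smul, S'.tr_smul hc₀', map_mul]
  obtain ⟨f, hf, hfl⟩ := exists_hom_of_functional S ℋ (-(a' * q)) l hl0 hls
  refine ⟨f, hf, fun y hy => ?_⟩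
  rw [hfl (G y) (by rw [neg_neg]; exact hG.map_mem a' y hy), hl, hρ]

variable {f : H →ₗ[R] E} (hf : GrLC.IsGrHomDeg ℋ 𝓔 f (-(a' * q)))
  (hfG : ∀ y ∈ ℋ' a', S.tr (f (G y)) = φ (S'.tr (σ' y)))

include hfG in
theorem tr_smul_gen (j : ℤ) (y : H') (hy : y ∈ ℋ' j) (r' : R') (hr' : r' ∈ 𝒜' (a' - j)) :
    S.tr (φ r' • f (G y)) = φ (S'.tr (r' • σ' y)) := by
  have h1 : r' • y ∈ ℋ' a' := by
    have := SetLike.GradedSMul.smul_mem (A := 𝒜') (B := ℋ') hr' hy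
    rwa [vadd_eq_add, sub_add_cancel] at this
  rw [← map_smul, ← map_smulₛₗ G, hfG _ h1, map_smul]

include hR S' hσ' hfG in
/-- no nonzero element of the Veronese subring kills the generator -/
theorem ver_inj (s : ℤ) (r' : R') (hr' : r' ∈ 𝒜' s) (h : φ r' • f = 0) : r' = 0 := by
  apply (perfPair_self S').nondeg_right S'.h0 (-s) r' (by rwa [neg_neg])
  intro x hx
  change S'.tr (r' • x) = 0
  have hy : σ'.symm x ∈ ℋ' (-s - -a') := symm_mem_of_isGrHomDeg ℋ' 𝓔' σ' hσ' hx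
  have h1 := tr_smul_gen S S' ℋ' σ' hfG (-s - -a') (σ'.symm x) hy r' (by
    have e1 : a' - (-s - -a') = s := by ring
    rwa [e1])
  rw [σ'.apply_symm_apply, ← LinearMap.smul_apply, h, LinearMap.zero_apply, S.tr_zero] at h1
  apply hR.inj
  rw [← h1, map_zero]

include hR S S' hσ' hfG in
/-- no nonzero homogeneous element kills the generator -/
theorem homogeneous_inj
    (hstd : Ideal.span (⋃ n ∈ Set.Ioi (0 : ℤ), (𝒜 n : Set R)) =
      Ideal.span ((𝒜 1 : AddSubgroup R) : Set R))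
    (z₀ : R) (n₀ : ℤ) (hn₀ : 0 < n₀) (hz₀ : z₀ ∈ 𝒜 n₀) (hreg : IsSMulRegular R z₀)
    (i : ℤ) (r : R) (hr : r ∈ 𝒜 i) (h : r • f = 0) : r = 0 := by
  have hq' : (0 : ℤ) < q := by exact_mod_cast hR.pos
  set t : ℤ := (-i) % q with ht
  have ht0 : 0 ≤ t := Int.emod_nonneg _ (ne_of_gt hq')
  obtain ⟨j₀, hj₀⟩ := Int.eq_ofNat_of_zero_le ht0
  have hdvd : ∃ s : ℤ, (j₀ : ℤ) + i = s * q := by
    have h1 := Int.emod_add_mul_ediv (-i) q
    refine ⟨-((-i) / q), ?_⟩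
    rw [← hj₀, ht]
    linarith
  obtain ⟨s, hs⟩ := hdvd
  have hkill : ∀ u ∈ 𝒜 (j₀ : ℤ), u • r = 0 := by
    intro u hu
    have hur : u * r ∈ 𝒜 (s * q) := by
      rw [← hs]
      exact SetLike.GradedMul.mul_mem hu hr
    obtain ⟨r', hr', hφr'⟩ := hR.exists_mem s _ hur
    have : r' = 0 := by
      apply ver_inj hR S S' ℋ' σ' hσ' hfG s r' hr'
      rw [hφr', mul_smul, h, smul_zero]
    rw [smul_eq_mul, ← hφr', this, map_zero]
  have hall := smul_eq_zero_of_std 𝒜 hstd j₀ r hkill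
  have hz₀pow : z₀ ^ j₀ ∈ 𝒜 (j₀ • n₀) := SetLike.pow_mem_graded j₀ hz₀
  have h2 := hall (j₀ • n₀) (by
    rw [nsmul_eq_mul]
    nlinarith [Int.natCast_nonneg j₀]) _ hz₀pow
  exact (hreg.pow j₀) (by
    change z₀ ^ j₀ • r = z₀ ^ j₀ • 0
    rw [h2, smul_zero])

set_option maxHeartbeats 800000 in
include hR S S' hG hσ' hf hfG in
/-- the generator generates in the degrees congruent to its own modulo `q` -/
theorem ver_generated (hfin' : ∀ s : ℤ, Module.Finite (GrLC.deg0 𝒜') ↥(GrLC.comp 𝒜' 𝒜' s))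
    (l : ℤ) (hl : (q : ℤ) ∣ l + a' * q) (z : H →ₗ[R] E) (hz : GrLC.IsGrHomDeg ℋ 𝓔 z l) :
    ∃ a : R, z = a • f := by
  obtain ⟨s₁, hs₁⟩ := hl
  obtain ⟨ρR, hρR, -⟩ := exists_retraction hR
  have h00 : ∀ w : E, ∃ c' ∈ 𝒜' 0, φ c' = S.tr w := by
    intro w
    exact hR.exists_mem 0 _ (by rw [zero_mul]; exact S.tr_mem w)
  let μ : E' →+ R' := ρR.comp (S.trHom.comp (z.toAddMonoidHom.comp
    (G.toAddMonoidHom.comp (σ'.symm : E' →+ H'))))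
  have hμ : ∀ x, μ x = ρR (S.tr (z (G (σ'.symm x)))) := fun x => rfl
  have hμφ : ∀ x, φ (μ x) = S.tr (z (G (σ'.symm x))) := by
    intro x
    obtain ⟨c', -, hc'⟩ := h00 (z (G (σ'.symm x)))
    rw [hμ, ← hc', hρR]
  have hl0 : ∀ x ∈ 𝓔' (-s₁), μ x ∈ 𝒜' 0 := by
    intro x _
    obtain ⟨c', hc', hc'e⟩ := h00 (z (G (σ'.symm x)))
    rw [hμ, ← hc'e, hρR]
    exact hc'
  have hls : ∀ c' ∈ 𝒜' 0, ∀ x ∈ 𝓔' (-s₁), μ (c' • x) = c' * μ x := by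
    intro c' hc' x _
    apply hR.inj
    have hφc : φ c' ∈ 𝒜 0 := by
      have := hR.map_mem 0 c' hc'
      rwa [zero_mul] at this
    rw [map_mul, hμφ, hμφ, map_smul, map_smulₛₗ G, map_smul, S.tr_smul hφc]
  haveI := hfin' (- -s₁)
  obtain ⟨r', hr', hr'μ⟩ := (perfPair_self S').repr_right S'.h0 (-s₁) μ hl0 hls
  rw [neg_neg] at hr'
  refine ⟨φ r', ?_⟩
  have hdeg : GrLC.IsGrHomDeg ℋ 𝓔 (z - φ r' • f) l := by
    intro j x hx
    rw [LinearMap.sub_apply, LinearMap.smul_apply]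
    apply sub_mem (hz j x hx)
    have := SetLike.GradedSMul.smul_mem (A := 𝒜) (B := 𝓔) (hR.map_mem s₁ r' hr') (hf j x hx)
    rw [vadd_eq_add] at this
    have e1 : s₁ * (q : ℤ) + (j + -(a' * q)) = j + l := by linarith
    rwa [e1] at this
  have hzero := hom_eq_zero_of_tr S ℋ hdeg (fun x hx => by
    have e1 : -l = (a' - s₁) * q := by linarith
    rw [e1] at hx
    obtain ⟨y, hy, rfl⟩ := hG.exists_mem (a' - s₁) x hx
    rw [LinearMap.sub_apply, LinearMap.smul_apply, Ver.tr_sub S,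
      tr_smul_gen S S' ℋ' σ' hfG (a' - s₁) y hy r' (by rwa [sub_sub_cancel])]
    have hσy : σ' y ∈ 𝓔' (-s₁) := by
      have := hσ' (a' - s₁) y hy
      have e2 : a' - s₁ + -a' = -s₁ := by ring
      rwa [e2] at this
    have h3 := hr'μ (σ' y) hσy
    change S'.tr (r' • σ' y) = μ (σ' y) at h3
    rw [h3, hμφ, σ'.symm_apply_apply, sub_self])
  exact sub_eq_zero.mp hzero

end VerDesc

end Groth.Agent.H6
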