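import Groth.Agent.Lib.Helper6.GrVerDesc2
import Groth.Agent.Lib.Helper6.GrAInv3
import Groth.Agent.Lib.Helper6.GrAvoid
import Groth.Agent.Lib.Helper6.HartConn
import Groth.Agent.Lib.Helper6.GrDim

/-! A standard graded Cohen–Macaulay ring of dimension at least two with a Gorenstein Veronese
subring is Gorenstein. -/

universe u
open DirectSum
set_option linter.unusedSectionVars false

namespace Groth.Agent.H6

namespace VerDesc

open Gr GDual Ver

variable {R : Type u} [CommRing R] {R' : Type u} [CommRing R']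
variable {q : ℕ} {𝒜' : ℤ → AddSubgroup R'} [GradedRing 𝒜'] {𝒜 : ℤ → AddSubgroup R} [GradedRing 𝒜]
  {φ : R' →+* R}

set_option maxHeartbeats 2000000 in
/-- **a standard graded Cohen–Macaulay ring of dimension at least two whose Veronese subring
`R^(q)` is Gorenstein is Gorenstein, and `q` divides its a-invariant** -/
theorem gorenstein_of_ver [hCM : LocCoh.IsCohenMacaulayRing R] [hG' : LocCoh.IsGorensteinRing R']
    (hR : IsVerRing q 𝒜' 𝒜 φ)
    (hpos : ∀ n : ℤ, n < 0 → 𝒜 n = ⊥) (h0 : IsField (GrLC.deg0 𝒜)) (m : HomogeneousIdeal 𝒜)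
    (hm : GrLC.IsStarLocal 𝒜 m)
    (hmsp : m.toIdeal = Ideal.span (⋃ n ∈ Set.Ioi (0 : ℤ), (𝒜 n : Set R)))
    (hstd : Ideal.span (⋃ n ∈ Set.Ioi (0 : ℤ), (𝒜 n : Set R)) =
      Ideal.span ((𝒜 1 : AddSubgroup R) : Set R))
    (n : ℕ) (hn : ringKrullDim R = n) (h2 : 2 ≤ n) (I : GrLC.StarInjRes 𝒜 𝒜) :
    LocCoh.IsGorensteinRing R ∧ ∃ a : ℤ,
      GrLC.endDeg (I.Hgr m n) = ((a : WithTop ℤ) : WithBot (WithTop ℤ)) ∧ (q : ℤ) ∣ a := by
  haveI : IsNoetherianRing R' := isNoetherianRing hR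
  haveI hmax : m.toIdeal.IsMaximal := isMaximal_of_isCoatom hpos m hm.1
  have hh : m.toIdeal.height = n := height_irrelevant 𝒜 hpos h0 m.toIdeal hmsp n hn
  have hvanLC : ∀ j, j ≠ n → Subsingleton (LocCoh.H m.toIdeal j R) :=
    fun j hj => MaxLoc.cm_vanish m.toIdeal n hh j hj
  have hvanR : ∀ j, j ≠ n → Subsingleton (I.H m j) := by
    intro j hj
    obtain ⟨e⟩ := nonempty_H_equiv 𝒜 𝒜 I m j
    haveI := hvanLC j hj
    exact e.toEquiv.subsingleton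
  -- the *injective envelope of the residue field of `R`
  obtain ⟨Em, e, he⟩ := exists_residue_hull 𝒜 m
  have S : Setting 𝒜 m Em.gr e := ⟨hpos, h0, hmsp, he⟩
  -- the Veronese subring
  have hpos' := hR.neg_eq_bot hpos
  have h0' := hR.isField_deg0 h0
  have hm' : GrLC.IsStarLocal 𝒜' (irr 𝒜') := isStarLocal_irr 𝒜' hpos' h0'
  haveI hmax' : (irr 𝒜').toIdeal.IsMaximal := isMaximal_of_isCoatom hpos' (irr 𝒜') hm'.1
  obtain ⟨Em', e', he'⟩ := exists_residue_hull 𝒜' (irr 𝒜')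
  have S' : Setting 𝒜' (irr 𝒜') Em'.gr e' := ⟨hpos', h0', irr_toIdeal 𝒜', he'⟩
  let I' : GrLC.StarInjRes 𝒜' 𝒜' := starInjRes 𝒜' 𝒜'
  have hgam : ∀ (X : Type u) [AddCommGroup X] [Module R X],
      GrLC.gam m.toIdeal X = GrLC.gam ((irr 𝒜').toIdeal.map φ) X :=
    fun X _ _ => gam_irrelevant_eq hR m.toIdeal (irr 𝒜').toIdeal hmsp (irr_toIdeal 𝒜') X
  -- the height of the irrelevant ideal of the Veronese subring
  obtain ⟨h', hh'⟩ : ∃ h' : ℕ, (irr 𝒜').toIdeal.height = h' :=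
    ⟨(irr 𝒜').toIdeal.height.toNat,
      (ENat.natCast_toNat (Ideal.height_ne_top hmax'.ne_top)).symm⟩
  have hnh : h' = n := by
    by_contra hne
    obtain ⟨G, hGinj, -, -⟩ := exists_ver_H hR hR.toMod I I' m (irr 𝒜') hgam h'
    haveI := hvanR h' hne
    haveI : Subsingleton (I'.H (irr 𝒜') h') := hGinj.subsingleton
    obtain ⟨eLC⟩ := nonempty_H_equiv 𝒜' 𝒜' I' (irr 𝒜') h'
    haveI := MaxLoc.nontrivial_top (irr 𝒜').toIdeal h' hh'
    haveI : Subsingleton (LocCoh.H (irr 𝒜').toIdeal h' R') := eLC.symm.toEquiv.subsingleton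
    exact false_of_nontrivial_of_subsingleton (LocCoh.H (irr 𝒜').toIdeal h' R')
  subst hnh
  obtain ⟨g, σ', hσ'⟩ := Groth.Agent.S13244.result R' 𝒜' (irr 𝒜') hm' h' hh' I' Em'.carrier Em'.gr
    e' he'
  -- the top local cohomology
  obtain ⟨G, hGinj, hGmem, hGex⟩ := exists_ver_H hR hR.toMod I I' m (irr 𝒜') hgam h'
  letI : DirectSum.Decomposition (I.Hgr m h') := (isInternal_Hgr 𝒜 𝒜 I m h').chooseDecomposition
  letI : SetLike.GradedSMul 𝒜 (I.Hgr m h') := Hgr_gradedSMul I m h'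
  letI : DirectSum.Decomposition (I'.Hgr (irr 𝒜') h') :=
    (isInternal_Hgr 𝒜' 𝒜' I' (irr 𝒜') h').chooseDecomposition
  letI : SetLike.GradedSMul 𝒜' (I'.Hgr (irr 𝒜') h') := Hgr_gradedSMul I' (irr 𝒜') h'
  have hG : IsVerMod q (I'.Hgr (irr 𝒜') h') (I.Hgr m h') G := ⟨hR.pos, hGinj, hGmem, hGex⟩
  set a' : ℤ := -g with ha'
  have hσ'' : GrLC.IsGrHomDeg (I'.Hgr (irr 𝒜') h') Em'.gr σ'.toLinearMap (-a') := by
    rw [ha', neg_neg]
    exact hσ'
  obtain ⟨f, hf, hfG⟩ := exists_gen hR S S' (I.Hgr m h') (I'.Hgr (irr 𝒜') h') hG (a' := a') σ'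
  -- a regular pair and a homogeneous regular element
  obtain ⟨x, hx, y, hy, hxreg, hxy⟩ := HartConn.exists_regular_pair m.toIdeal
    (fun i hi => hvanLC i (by omega))
  have hgam0 : GrLC.gam (Ideal.span (⋃ n ∈ Set.Ioi (0 : ℤ), (𝒜 n : Set R))) R = ⊥ := by
    rw [eq_bot_iff]
    rintro w ⟨k, hk⟩
    rw [Submodule.mem_bot]
    have h1 := hk (x ^ k) (Ideal.pow_mem_pow (hmsp ▸ hx) k)
    exact (hxreg.pow k) (by
      change x ^ k • w = x ^ k • 0
      rw [h1, smul_zero])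
  obtain ⟨n₀, z₀, hn₀, hz₀, -, hz₀reg⟩ := exists_homogeneous_regular 𝒜 (N := R)
    (⋃ n ∈ Set.Ioi (0 : ℤ), (𝒜 n : Set R)) (by
      intro x hx
      simp only [Set.mem_iUnion, Set.mem_Ioi, SetLike.mem_coe] at hx
      obtain ⟨i, hi, hxi⟩ := hx
      exact ⟨i, hi, hxi⟩) hgam0
  have hz₀reg' : IsSMulRegular R z₀ := by
    intro r r' hrr
    have : z₀ • (r - r') = 0 := by
      rw [smul_sub]
      exact sub_eq_zero.mpr hrr
    exact sub_eq_zero.mp (hz₀reg _ this)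
  have hinj_hom := homogeneous_inj hR S S' (I'.Hgr (irr 𝒜') h') σ' hσ'' hfG hstd z₀ n₀ hn₀ hz₀
    hz₀reg'
  have hinj : ∀ r : R, r • f = 0 → r = 0 := inj_of_homogeneous (I.Hgr m h') hf hinj_hom
  have hdiv := AInv.graded_smul_top_eq_top hpos m hm.1 h' (by omega) (le_of_eq hn) I
  have hm1 : m.toIdeal = Ideal.span ((𝒜 1 : AddSubgroup R) : Set R) := by rw [hmsp, hstd]
  have hP1 := descend_one hinj x y hx hy hxreg hxy hdiv
  have hPi := descend_pow hm1 hP1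
  have hfin' : ∀ s : ℤ, Module.Finite (GrLC.deg0 𝒜') ↥(GrLC.comp 𝒜' 𝒜' s) := by
    intro s
    obtain ⟨P⟩ := exists_posGens 𝒜' (irr 𝒜').toIdeal (irr_toIdeal 𝒜')
    have ha : ∀ n : ℤ, 0 < n → ∀ y ∈ 𝒜' n, y ∈ (irr 𝒜').toIdeal := by
      intro n hn y hy
      rw [irr_toIdeal 𝒜']
      apply Ideal.subset_span
      simp only [Set.mem_iUnion, Set.mem_Ioi, SetLike.mem_coe]
      exact ⟨n, hn, hy⟩
    exact Module.Finite.iff_fg.mpr (P.comp_module_fg 𝒜' hpos' ha s)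
  have hver := ver_generated hR S S' (I.Hgr m h') (I'.Hgr (irr 𝒜') h') hG σ' hσ'' hf hfG hfin'
  have hgen := generated_of_ver (I.Hgr m h') q hR.pos hPi hver
  have hfinH : ∀ j : ℤ, Module.Finite (GrLC.deg0 𝒜) ↥(GrLC.comp 𝒜 (I.Hgr m h') j) := by
    intro j
    have h1 := (Gr.finVan hpos m hmsp h' R 𝒜 I).1 j
    have heq : GrLC.comp 𝒜 (I.Hgr m h') j = I.Hcomp m h' j := by
      ext y
      rfl
    rw [heq]
    exact Module.Finite.iff_fg.mpr h1
  have hfinj := injective_of_generated S (I.Hgr m h') hf hgen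
  have hfsurj := surjective_of_generated S (I.Hgr m h') hf hinj hgen hfinH
  let ψ : I.H m h' ≃ₗ[R] Em.carrier := LinearEquiv.ofBijective f ⟨hfinj, hfsurj⟩
  have hψ : GrLC.IsGrHomDeg (I.Hgr m h') Em.gr ψ.toLinearMap (-(a' * q)) := hf
  obtain ⟨eLC⟩ := nonempty_H_equiv 𝒜 𝒜 I m h'
  refine ⟨GorInj.gorenstein_of_top_starInj' 𝒜 m hm h' Em.gr he.starInj hvanLC
    (ψ.symm.trans eLC), a' * q, ?_, ⟨a', mul_comm _ _⟩⟩
  apply AInv.endDeg_eq_coe
  · have h3 : ψ.symm (e 1) ∈ I.Hgr m h' (0 - -(a' * q)) :=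
      symm_mem_of_isGrHomDeg (I.Hgr m h') Em.gr ψ hψ S.ω_mem
    have e1 : (0 : ℤ) - -(a' * q) = a' * q := by ring
    rw [e1] at h3
    intro hbot
    rw [hbot, AddSubgroup.mem_bot] at h3
    have h4 : e 1 = 0 := by
      have := congrArg ψ h3
      rwa [ψ.apply_symm_apply, map_zero] at this
    have h5 : (1 : R) = 0 := S.coef_unique (SetLike.GradedOne.one_mem) (by rw [one_smul]; exact h4)
    apply hmax.ne_top
    rw [Ideal.eq_top_iff_one, h5]
    exact zero_mem _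
  · intro j hj
    rw [AddSubgroup.eq_bot_iff_forall]
    intro w hw
    apply hfinj
    rw [map_zero]
    exact S.eq_zero_of_pos (by omega : 0 < j + -(a' * q)) (hf j w hw)

end VerDesc

end Groth.Agent.H6
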