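import Groth.Agent.Lib.Helper6.GrVer5
import Groth.Agent.Lib.Helper6.GrIrr
import Groth.Agent.Lib.Helper6.GrGorInj2
import Groth.Agent.Lib.Helper6.GrAInv
import Groth.Agent.Lib.Helper6.LDLoc4
import Groth.Agent.S13244

/-! Veronese subrings of Gorenstein graded rings. -/

universe u
open DirectSum
set_option linter.unusedSectionVars false

namespace Groth.Agent.H6

namespace Ver

open Gr GDual

section Semi

variable {R : Type u} [CommRing R] {R' : Type u} [CommRing R'] {φ : R' →+* R}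

/-- two injective semilinear maps with the same range have isomorphic sources -/
theorem exists_equiv_of_range_eq {A B : Type*} [AddCommGroup A] [Module R' A] [AddCommGroup B]
    [Module R' B] {Z : Type*} [AddCommGroup Z] [Module R Z] (g₁ : A →ₛₗ[φ] Z) (g₂ : B →ₛₗ[φ] Z)
    (h₁ : Function.Injective g₁) (h₂ : Function.Injective g₂) (h12 : ∀ a, ∃ b, g₂ b = g₁ a)
    (h21 : ∀ b, ∃ a, g₁ a = g₂ b) : ∃ ψ : A ≃ₗ[R'] B, ∀ a, g₂ (ψ a) = g₁ a := by
  choose F hF using h12
  let ψ₀ : A →ₗ[R'] B :=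
    { toFun := F
      map_add' := fun a a' => by
        apply h₂
        rw [map_add, hF, hF, hF, map_add]
      map_smul' := fun r a => by
        apply h₂
        rw [RingHom.id_apply, map_smulₛₗ g₂ r (F a), hF, hF, map_smulₛₗ g₁ r a] }
  have hbij : Function.Bijective ψ₀ := by
    constructor
    · intro a a' haa
      apply h₁
      have h : F a = F a' := haa
      rw [← hF a, ← hF a', h]
    · intro b
      obtain ⟨a, ha⟩ := h21 b
      refine ⟨a, ?_⟩
      apply h₂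
      change g₂ (F a) = g₂ b
      rw [hF, ha]
  exact ⟨LinearEquiv.ofBijective ψ₀ hbij, hF⟩

end Semi

section Symm

variable {R : Type u} [CommRing R]
variable {M : Type u} [AddCommGroup M] [Module R M] (ℳ : ℤ → AddSubgroup M)
  [DirectSum.Decomposition ℳ]
variable {N : Type u} [AddCommGroup N] [Module R N] (𝒩 : ℤ → AddSubgroup N)
  [DirectSum.Decomposition 𝒩]

theorem symm_mem_of_isGrHomDeg (σ : M ≃ₗ[R] N) {g : ℤ} (hσ : GrLC.IsGrHomDeg ℳ 𝒩 σ.toLinearMap g)
    {j : ℤ} {y : N} (hy : y ∈ 𝒩 j) : σ.symm y ∈ ℳ (j - g) := by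
  have h1 := isGrHomDeg_proj' ℳ 𝒩 hσ j (σ.symm y)
  have h2 : σ.toLinearMap (σ.symm y) = y := σ.apply_symm_apply y
  rw [h2, proj_of_mem 𝒩 hy] at h1
  have h3 : σ.symm y = proj ℳ (j - g) (σ.symm y) := by
    apply σ.injective
    rw [σ.apply_symm_apply]
    exact h1
  rw [h3]
  exact proj_mem ℳ _ _

end Symm

section Hull

variable {R : Type u} [CommRing R] (𝒜 : ℤ → AddSubgroup R) [GradedRing 𝒜]

/-- a *injective envelope of the residue field of a homogeneous ideal exists -/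
theorem exists_residue_hull (m : HomogeneousIdeal 𝒜) :
    ∃ (Em : GrLC.GMod.{u} 𝒜) (e : (R ⧸ m.toIdeal) →ₗ[R] Em.carrier),
      GrLC.IsStarInjHull 𝒜 (GrLC.quotGr 𝒜 m) Em.gr e := by
  have hker : (LinearMap.ker (Submodule.mkQ m.toIdeal)).IsHomogeneous 𝒜 := by
    rw [Submodule.ker_mkQ]
    exact m.isHomogeneous
  let Qm : GrLC.GMod.{u} 𝒜 := Gr.GMod.ofQuot 𝒜 𝒜 (q := Submodule.mkQ m.toIdeal)
    (Submodule.mkQ_surjective _) hker
  obtain ⟨Em, e0, he0⟩ := Gr.exists_starInjHull 𝒜 Qm.gr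
  let e : (R ⧸ m.toIdeal) →ₗ[R] Em.carrier := e0
  refine ⟨Em, e, ⟨he0.injective, ?_, he0.essential⟩, he0.starInj⟩
  rintro g _ ⟨r, hr, rfl⟩
  exact he0.grHom g _ ⟨r, hr, rfl⟩

end Hull

section Main

variable {R : Type u} [CommRing R] {R' : Type u} [CommRing R']
variable {q : ℕ} {𝒜' : ℤ → AddSubgroup R'} [GradedRing 𝒜'] {𝒜 : ℤ → AddSubgroup R} [GradedRing 𝒜]
  {φ : R' →+* R}

set_option maxHeartbeats 1000000 in
/-- **the Veronese subring `R^(q)` of a Gorenstein graded ring defined over a field is Gorenstein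
when `q` divides the a-invariant** -/
theorem gorenstein_ver [hG : LocCoh.IsGorensteinRing R] (hR : IsVerRing q 𝒜' 𝒜 φ)
    (hpos : ∀ n : ℤ, n < 0 → 𝒜 n = ⊥) (h0 : IsField (GrLC.deg0 𝒜)) (m : HomogeneousIdeal 𝒜)
    (hm : GrLC.IsStarLocal 𝒜 m)
    (hmsp : m.toIdeal = Ideal.span (⋃ n ∈ Set.Ioi (0 : ℤ), (𝒜 n : Set R))) (n : ℕ)
    (hn : ringKrullDim R = n) (I : GrLC.StarInjRes 𝒜 𝒜) (a : ℤ)
    (ha : GrLC.endDeg (I.Hgr m n) = ((a : WithTop ℤ) : WithBot (WithTop ℤ)))
    (hdvd : (q : ℤ) ∣ a) : LocCoh.IsGorensteinRing R' := by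
  haveI : IsNoetherianRing R' := isNoetherianRing hR
  haveI hCM : LocCoh.IsCohenMacaulayRing R := ⟨fun p _ => by
    haveI := hG.isGorensteinLocalRing_localization p
    exact ⟨LDL.gor_cm⟩⟩
  haveI hmax : m.toIdeal.IsMaximal := isMaximal_of_isCoatom hpos m hm.1
  -- the height of `m`
  have hHa : I.Hgr m n a ≠ ⊥ := PolyCan.ne_bot_of_endDeg_eq _ a ha
  have hHk : ∀ k, a < k → I.Hgr m n k = ⊥ := by
    intro k hk
    by_contra hne
    have := PolyCan.le_of_endDeg_eq _ a ha k hne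
    omega
  have hle : m.toIdeal.height ≤ (n : ℕ∞) := by
    have h1 := Ideal.height_le_ringKrullDim_of_ne_top hmax.ne_top
    rw [hn] at h1
    exact_mod_cast h1
  obtain ⟨h, hh⟩ : ∃ h : ℕ, m.toIdeal.height = h :=
    ⟨m.toIdeal.height.toNat,
      (ENat.natCast_toNat (ne_top_of_le_ne_top (ENat.natCast_ne_top _) hle)).symm⟩
  have hvanR : ∀ j, j ≠ h → Subsingleton (I.H m j) := by
    intro j hj
    obtain ⟨e⟩ := nonempty_H_equiv 𝒜 𝒜 I m j
    haveI := MaxLoc.cm_vanish m.toIdeal h hh j hj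
    exact e.toEquiv.subsingleton
  have hnh : n = h := by
    by_contra hne
    haveI := hvanR n hne
    apply hHa
    rw [eq_bot_iff]
    intro x _
    rw [AddSubgroup.mem_bot]
    exact Subsingleton.elim _ _
  subst hnh
  -- the *injective envelope of the residue field of `R`
  obtain ⟨Em, e, he⟩ := exists_residue_hull 𝒜 m
  have S : Setting 𝒜 m Em.gr e := ⟨hpos, h0, hmsp, he⟩
  obtain ⟨g, σ, hσ⟩ := Groth.Agent.S13244.result R 𝒜 m hm n hh I Em.carrier Em.gr e he
  letI : DirectSum.Decomposition (I.Hgr m n) := (isInternal_Hgr 𝒜 𝒜 I m n).chooseDecomposition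
  -- `g = -a`
  have hga : g = -a := by
    have h1 : a + g ≤ 0 := by
      by_contra hlt
      push Not at hlt
      apply hHa
      rw [eq_bot_iff]
      intro x hx
      rw [AddSubgroup.mem_bot]
      apply σ.injective
      rw [map_zero]
      exact S.eq_zero_of_pos hlt (hσ a x hx)
    have h2 : -g ≤ a := by
      by_contra hlt
      push Not at hlt
      have h3 : σ.symm (e 1) ∈ I.Hgr m n (0 - g) :=
        symm_mem_of_isGrHomDeg (I.Hgr m n) Em.gr σ hσ S.ω_mem
      rw [hHk (0 - g) (by omega), AddSubgroup.mem_bot] at h3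
      have h4 : e 1 = 0 := by
        have := congrArg σ h3
        rwa [σ.apply_symm_apply, map_zero] at this
      have h5 : (1 : R) = 0 := S.coef_unique (SetLike.GradedOne.one_mem) (by rw [one_smul]; exact h4)
      apply hmax.ne_top
      rw [Ideal.eq_top_iff_one, h5]
      exact zero_mem _
    omega
  obtain ⟨c, hc⟩ := hdvd
  -- the Veronese subring
  have hpos' := hR.neg_eq_bot hpos
  have h0' := hR.isField_deg0 h0
  have hm' : GrLC.IsStarLocal 𝒜' (irr 𝒜') := isStarLocal_irr 𝒜' hpos' h0'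
  obtain ⟨Em', e', he'⟩ := exists_residue_hull 𝒜' (irr 𝒜')
  have S' : Setting 𝒜' (irr 𝒜') Em'.gr e' := ⟨hpos', h0', irr_toIdeal 𝒜', he'⟩
  obtain ⟨gE, hgE, -⟩ := exists_ver_of_perfPair hR hR.toMod (perfPair_self S) (perfPair_self S')
  let I' : GrLC.StarInjRes 𝒜' 𝒜' := starInjRes 𝒜' 𝒜'
  have hgam : ∀ (X : Type u) [AddCommGroup X] [Module R X],
      GrLC.gam m.toIdeal X = GrLC.gam ((irr 𝒜').toIdeal.map φ) X :=
    fun X _ _ => gam_irrelevant_eq hR m.toIdeal (irr 𝒜').toIdeal hmsp (irr_toIdeal 𝒜') X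
  -- vanishing
  have hvan' : ∀ i, i ≠ n → Subsingleton (LocCoh.H (irr 𝒜').toIdeal i R') := by
    intro i hi
    obtain ⟨G, hGinj, -, -⟩ := exists_ver_H hR hR.toMod I I' m (irr 𝒜') hgam i
    haveI := hvanR i hi
    haveI : Subsingleton (I'.H (irr 𝒜') i) := hGinj.subsingleton
    obtain ⟨e⟩ := nonempty_H_equiv 𝒜' 𝒜' I' (irr 𝒜') i
    exact e.symm.toEquiv.subsingleton
  -- the top local cohomology
  obtain ⟨G, hGinj, hGmem, hGex⟩ := exists_ver_H hR hR.toMod I I' m (irr 𝒜') hgam n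
  letI : DirectSum.Decomposition (I'.Hgr (irr 𝒜') n) :=
    (isInternal_Hgr 𝒜' 𝒜' I' (irr 𝒜') n).chooseDecomposition
  let g₁ : Em'.carrier →ₛₗ[φ] I.H m n :=
    { toFun := fun x => σ.symm (gE x)
      map_add' := fun x y => by rw [map_add, map_add]
      map_smul' := fun r x => by rw [map_smulₛₗ gE r x, map_smul] }
  have hg₁ : ∀ x, g₁ x = σ.symm (gE x) := fun x => rfl
  have hg₁inj : Function.Injective g₁ := fun x y hxy => hgE.inj (σ.symm.injective hxy)
  have h12 : ∀ x, ∃ y, G y = g₁ x := by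
    intro x
    induction x using induction_on Em'.gr with
    | zero => exact ⟨0, by rw [map_zero, map_zero]⟩
    | homogeneous j x hx =>
      have h1 : σ.symm (gE x) ∈ I.Hgr m n (j * q - g) :=
        symm_mem_of_isGrHomDeg (I.Hgr m n) Em.gr σ hσ (hgE.map_mem j x hx)
      have h2 : j * (q : ℤ) - g = (j + c) * q := by rw [hga, hc]; ring
      rw [h2] at h1
      obtain ⟨y, -, hy⟩ := hGex (j + c) _ h1
      exact ⟨y, hy⟩
    | add x x' h1 h2 =>
      obtain ⟨y, hy⟩ := h1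
      obtain ⟨y', hy'⟩ := h2
      exact ⟨y + y', by rw [map_add, map_add, hy, hy']⟩
  have h21 : ∀ y, ∃ x, g₁ x = G y := by
    intro y
    induction y using induction_on (I'.Hgr (irr 𝒜') n) with
    | zero => exact ⟨0, by rw [map_zero, map_zero]⟩
    | homogeneous i y hy =>
      have h1 : σ (G y) ∈ Em.gr (i * q + g) := hσ _ _ (hGmem i y hy)
      have h2 : i * (q : ℤ) + g = (i - c) * q := by rw [hga, hc]; ring
      rw [h2] at h1
      obtain ⟨x, -, hx⟩ := hgE.exists_mem (i - c) _ h1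
      refine ⟨x, ?_⟩
      rw [hg₁, hx, σ.symm_apply_apply]
    | add y y' h1 h2 =>
      obtain ⟨x, hx⟩ := h1
      obtain ⟨x', hx'⟩ := h2
      exact ⟨x + x', by rw [map_add, map_add, hx, hx']⟩
  obtain ⟨ψ, -⟩ := exists_equiv_of_range_eq g₁ G hg₁inj hGinj h12 h21
  obtain ⟨eLC⟩ := nonempty_H_equiv 𝒜' 𝒜' I' (irr 𝒜') n
  exact GorInj.gorenstein_of_top_starInj' 𝒜' (irr 𝒜') hm' n Em'.gr he'.starInj hvan'
    (ψ.trans eLC)

end Main

end Ver

end Groth.Agent.H6
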