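import Groth.Agent.Lib.Helper6.GrVerType
import Groth.Agent.Lib.Helper6.GrHilb

/-! Veronese subrings of Gorenstein standard graded rings: the Gorenstein criterion. -/

universe u
open DirectSum
set_option linter.unusedSectionVars false

namespace Groth.Agent.H6

namespace Ver

open Gr GDual

variable {R : Type u} [CommRing R] {R' : Type u} [CommRing R']
variable {q : ℕ} {𝒜' : ℤ → AddSubgroup R'} [GradedRing 𝒜'] {𝒜 : ℤ → AddSubgroup R} [GradedRing 𝒜]
  {φ : R' →+* R}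

/-- **for a Gorenstein standard graded ring `R` of positive dimension with `dim R_1 ≥ 2`, the
Veronese subring `R^(q)` is Gorenstein if and only if `q` divides the a-invariant** -/
theorem gorenstein_ver_iff [hG : LocCoh.IsGorensteinRing R] (hR : IsVerRing q 𝒜' 𝒜 φ)
    (hpos : ∀ n : ℤ, n < 0 → 𝒜 n = ⊥) (h0 : IsField (GrLC.deg0 𝒜)) (m : HomogeneousIdeal 𝒜)
    (hm : GrLC.IsStarLocal 𝒜 m)
    (hmsp : m.toIdeal = Ideal.span (⋃ n ∈ Set.Ioi (0 : ℤ), (𝒜 n : Set R)))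
    (hstd : Ideal.span (⋃ n ∈ Set.Ioi (0 : ℤ), (𝒜 n : Set R)) =
      Ideal.span ((𝒜 1 : AddSubgroup R) : Set R))
    (hR1 : 2 ≤ Module.finrank (GrLC.deg0 𝒜) (GrLC.comp 𝒜 𝒜 1)) (n : ℕ)
    (hn : ringKrullDim R = n) (h1 : 1 ≤ n) (I : GrLC.StarInjRes 𝒜 𝒜) (a : ℤ)
    (ha : GrLC.endDeg (I.Hgr m n) = ((a : WithTop ℤ) : WithBot (WithTop ℤ))) :
    LocCoh.IsGorensteinRing R' ↔ (q : ℤ) ∣ a := by
  constructor
  · intro hG'
    haveI : IsNoetherianRing R' := isNoetherianRing hR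
    have hq0 : (0 : ℤ) < q := by exact_mod_cast hR.pos
    have hpos' := hR.neg_eq_bot hpos
    have h0' := hR.isField_deg0 h0
    have hm' : GrLC.IsStarLocal 𝒜' (irr 𝒜') := isStarLocal_irr 𝒜' hpos' h0'
    haveI hmax' : (irr 𝒜').toIdeal.IsMaximal := isMaximal_of_isCoatom hpos' (irr 𝒜') hm'.1
    have htype := type_ver hR hpos h0 m hm hmsp hstd n hn I a ha (irr 𝒜') (irr_toIdeal 𝒜')
      (a % q) (Int.emod_nonneg a (ne_of_gt hq0)) (Int.emod_lt_of_pos a hq0)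
      (Int.dvd_self_sub_emod)
    obtain ⟨h', hh'⟩ : ∃ h' : ℕ, (irr 𝒜').toIdeal.height = h' :=
      ⟨(irr 𝒜').toIdeal.height.toNat, (ENat.natCast_toNat (Ideal.height_ne_top hmax'.ne_top)).symm⟩
    rw [GorBass.bassNum_self (irr 𝒜').toIdeal h' hh' n] at htype
    have hle : Module.finrank (GrLC.deg0 𝒜) (GrLC.comp 𝒜 𝒜 (a % q)) ≤ 1 := by
      split_ifs at htype
      · have : ((Module.finrank (GrLC.deg0 𝒜) (GrLC.comp 𝒜 𝒜 (a % q)) : ℕ) : ℕ∞) = ((1 : ℕ) : ℕ∞) :=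
          htype.symm
        exact le_of_eq (by exact_mod_cast this)
      · have : ((Module.finrank (GrLC.deg0 𝒜) (GrLC.comp 𝒜 𝒜 (a % q)) : ℕ) : ℕ∞) = ((0 : ℕ) : ℕ∞) :=
          htype.symm
        have h2 : Module.finrank (GrLC.deg0 𝒜) (GrLC.comp 𝒜 𝒜 (a % q)) = 0 := by exact_mod_cast this
        omega
    obtain ⟨Em, e, S, hvanR, σ, hσ⟩ := exists_top_equiv hpos h0 m hm hmsp n hn I a ha
    have hgam : GrLC.gam (Ideal.span (⋃ n ∈ Set.Ioi (0 : ℤ), (𝒜 n : Set R))) R = ⊥ := by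
      rw [← hmsp, eq_bot_iff]
      intro x hx
      haveI := hvanR 0 (by omega)
      have := γ_injective I m (Subsingleton.elim (γ I m ⟨x, hx⟩) (γ I m 0))
      rw [Submodule.mem_bot]
      exact congrArg Subtype.val this
    have hρ : a % q = 0 := by
      by_contra hne
      have h2 : 1 ≤ a % q := by
        have := Int.emod_nonneg a (ne_of_gt hq0)
        omega
      have := two_le_finrank 𝒜 hstd h0 hpos hgam hR1 (a % q) h2
      omega
    exact Int.dvd_of_emod_eq_zero hρ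
  · intro hdvd
    exact gorenstein_ver hR hpos h0 m hm hmsp n hn I a ha hdvd

end Ver

end Groth.Agent.H6
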