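import Mathlib
import Groth.Prelude.Def_AlgGrp
import Groth.Agent.Lib.Helper1.GrpdEquidim
import Groth.Agent.Lib.Helper8.GrpObjMul
import Groth.Agent.Lib.Helper9.Misc.GSB2
import Groth.Agent.Lib.Helper9.Misc.FLH3
import Groth.Agent.Lib.Helper1.SmoothReg2
import Groth.Agent.Lib.Helper1.SmoothDepth

/-! Helper6: group schemes locally of finite type over a field: equidimensionality at the unit,
`dim G ≤ dim m_e/m_e²`, smoothness criteria (S7822, S19507). -/

set_option autoImplicit false
set_option linter.style.haveILetI false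
set_option linter.unusedSectionVars false
universe u
open CategoryTheory CategoryTheory.Limits MonoidalCategory CartesianMonoidalCategory MonObj GrpObj
  AlgebraicGeometry TopologicalSpace

namespace Groth.Agent.H6.GrpSm

open Groth.Agent.H1.SmoothReg

/-! ### homogeneity of smoothness over an arbitrary field -/

theorem smooth_of_nonempty_smoothLocus (K : Type u) [Field K]
    (G : Over (Spec (CommRingCat.of K))) [GrpObj G] [LocallyOfFiniteType G.hom]
    (hne : (G.hom.smoothLocus : Set G.left).Nonempty) : Smooth G.hom := by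
  let Ω : Type u := AlgebraicClosure K
  let g : Spec (.of Ω) ⟶ Spec (.of K) := Spec.map (CommRingCat.ofHom <| algebraMap K Ω)
  apply MorphismProperty.of_pullback_snd_of_descendsAlong
    (Q := @Surjective ⊓ @Flat ⊓ @QuasiCompact) (g := g)
  · exact ⟨⟨inferInstance, inferInstance⟩, inferInstance⟩
  · letI : GrpObj (Over.mk G.hom) := ‹GrpObj G›
    let : GrpObj (Over.mk (Limits.pullback.snd G.hom g)) := Over.grpObjMkPullbackSnd
    apply Groth.Agent.H9.GSB.smooth_of_nonempty_smoothLocus
    obtain ⟨y, hy⟩ := hne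
    obtain ⟨x', hx'⟩ := (pullback.fst G.hom g).surjective y
    exact ⟨x', Groth.Agent.H9.GSB.mem_smoothLocus_of_pullback _ _ x' (hx' ▸ hy)⟩

/-! ### the residue field at the image of a section -/

theorem stalkMap_stalkMapK {K : Type u} [Field K] {X : Scheme.{u}}
    (f : X ⟶ Spec (CommRingCat.of K)) (σ : Spec (CommRingCat.of K) ⟶ X) (hσ : σ ≫ f = 𝟙 _)
    (pt : Spec (CommRingCat.of K)) (c : K) :
    (σ.stalkMap pt).hom (stalkMapK f (σ pt) c) = baseMapK K pt c := by
  have h1 : f.appTop ≫ σ.appTop = 𝟙 _ := by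
    rw [← Scheme.Hom.comp_appTop, hσ]
    rfl
  have h2 : (σ.appTop).hom ((f.appTop).hom ((Scheme.ΓSpecIso (CommRingCat.of K)).inv.hom c)) =
      (Scheme.ΓSpecIso (CommRingCat.of K)).inv.hom c :=
    congr($(h1).hom ((Scheme.ΓSpecIso (CommRingCat.of K)).inv.hom c))
  have h3 := congr($(Scheme.Hom.germ_stalkMap σ ⊤ pt trivial).hom (Coh.toGlobal f c))
  refine h3.trans ?_
  exact congrArg (fun y => ((Spec (CommRingCat.of K)).presheaf.germ (σ ⁻¹ᵁ ⊤) pt trivial).hom y) h2

theorem surjective_resAlg {K : Type u} [Field K] {X : Scheme.{u}}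
    (f : X ⟶ Spec (CommRingCat.of K)) (σ : Spec (CommRingCat.of K) ⟶ X) (hσ : σ ≫ f = 𝟙 _)
    (pt : Spec (CommRingCat.of K)) :
    Function.Surjective ((X.residue (σ pt)).hom.comp (stalkMapK f (σ pt))) := by
  intro y
  have hcomp : ∀ c : K, (σ.residueFieldMap pt).hom
      (((X.residue (σ pt)).hom.comp (stalkMapK f (σ pt))) c) =
      ((Spec (CommRingCat.of K)).residue pt).hom (baseMapK K pt c) := by
    intro c
    have h1 := congr($(Scheme.residue_residueFieldMap σ pt).hom (stalkMapK f (σ pt) c))
    refine h1.trans ?_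
    show ((Spec (CommRingCat.of K)).residue pt).hom
      ((σ.stalkMap pt).hom (stalkMapK f (σ pt) c)) = _
    rw [stalkMap_stalkMapK f σ hσ pt c]
  obtain ⟨t, ht⟩ := Scheme.residue_surjective (Spec (CommRingCat.of K)) pt
    ((σ.residueFieldMap pt).hom y)
  obtain ⟨c, hc⟩ := (baseMapK_bijective K pt).2 t
  refine ⟨c, (σ.residueFieldMap pt).hom.injective ?_⟩
  rw [hcomp c, hc]
  exact ht

/-! ### equidimensionality -/

section Dim

variable (k : Type u) [Field k] (G : Over (Spec (CommRingCat.of k))) [GrpObj G]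

theorem isPullback_mul_snd_left : IsPullback μ[G].left (snd G G).left G.hom G.hom := by
  have h := (Groth.Agent.H8.GrpObjSq.isPullback_mul_snd G).map (Over.forget _)
  exact h

theorem exists_fst_mul_eq (a b : G.left) :
    ∃ z : (G ⊗ G).left, (fst G G).left z = a ∧ μ[G].left z = b := by
  haveI : Subsingleton ↥(Spec (CommRingCat.of k)) :=
    inferInstanceAs (Subsingleton (PrimeSpectrum k))
  obtain ⟨w, hw1, hw2⟩ := Scheme.Pullback.exists_preimage_pullback (f := G.hom) (g := G.hom)
    a b (Subsingleton.elim _ _)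
  obtain ⟨θ, hθ⟩ : ∃ θ : G ⊗ G ⟶ G ⊗ G, θ = lift (fst G G) ((fst G G)⁻¹ * snd G G) := ⟨_, rfl⟩
  have e1 : θ ≫ fst G G = fst G G := by rw [hθ]; exact lift_fst _ _
  have e2 : θ ≫ μ[G] = snd G G := by
    rw [hθ, ← Hom.mul_def, mul_inv_cancel_left]
  refine ⟨θ.left w, ?_, ?_⟩
  · rw [← Scheme.Hom.comp_apply, ← Over.comp_left, e1]
    exact hw1
  · rw [← Scheme.Hom.comp_apply, ← Over.comp_left, e2]
    exact hw2

variable [LocallyOfFiniteType G.hom]

theorem localDim_fst_eq_mul (z : (G ⊗ G).left) :
    FlatMor.localDim G.left ((fst G G).left z) = FlatMor.localDim G.left (μ[G].left z) := by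
  have sq1 : IsPullback (fst G G).left (snd G G).left G.hom G.hom :=
    IsPullback.of_hasPullback G.hom G.hom
  have sq2 := isPullback_mul_snd_left k G
  have h1 := Groth.Agent.H1.FibDimBC.fibreDimAt_eq_of_isPullback G.hom G.hom (fst G G).left
    (snd G G).left sq1 z
  have h2 := Groth.Agent.H1.FibDimBC.fibreDimAt_eq_of_isPullback G.hom G.hom μ[G].left
    (snd G G).left sq2 z
  rw [h1, Groth.Agent.H1.DimFormula.fibreDimAt_eq_localDim_of_field,
    Groth.Agent.H1.DimFormula.fibreDimAt_eq_localDim_of_field] at h2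
  exact h2

theorem localDim_const (a b : G.left) :
    FlatMor.localDim G.left a = FlatMor.localDim G.left b := by
  obtain ⟨z, hz1, hz2⟩ := exists_fst_mul_eq k G a b
  have := localDim_fst_eq_mul k G z
  rwa [hz1, hz2] at this

theorem localDim_eq_dim (a : G.left) :
    FlatMor.localDim G.left a = topologicalKrullDim G.left := by
  rw [Groth.Agent.H3.TopDim.dim_eq_iSup_localDim]
  have hfun : (fun x : G.left => FlatMor.localDim ↥G.left x) =
      fun _ => FlatMor.localDim ↥G.left a := funext fun x => localDim_const k G x a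
  haveI : Nonempty G.left := ⟨a⟩
  rw [hfun, iSup_const]

/-- the local ring of a group scheme at a closed point has the dimension of the group. -/
theorem dim_stalk_of_isClosed (r : G.left) (hr : IsClosed ({r} : Set G.left)) :
    ringKrullDim (G.left.presheaf.stalk r) = topologicalKrullDim G.left := by
  rw [← localDim_eq_dim k G r]
  exact (Groth.Agent.H1.DimFormula.localDim_eq_stalk_of_isClosed G.hom r hr).symm

theorem isClosed_unit (pt : Spec (CommRingCat.of k)) :
    IsClosed ({η[G].left pt} : Set G.left) := by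
  haveI : Subsingleton ↥(Spec (CommRingCat.of k)) :=
    inferInstanceAs (Subsingleton (PrimeSpectrum k))
  have h : ({η[G].left pt} : Set G.left) = Set.range η[G].left.base := by
    ext y
    constructor
    · rintro rfl
      exact ⟨pt, rfl⟩
    · rintro ⟨p, rfl⟩
      have hp : p = pt := Subsingleton.elim (α := ↥(Spec (CommRingCat.of k))) p pt
      rw [hp]
      rfl
  rw [h]
  exact η[G].left.isClosedEmbedding.isClosed_range

theorem dim_stalk_unit (pt : Spec (CommRingCat.of k)) :
    ringKrullDim (G.left.presheaf.stalk (η[G].left pt)) = topologicalKrullDim G.left :=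
  dim_stalk_of_isClosed k G _ (isClosed_unit k G pt)

/-- a group scheme whose local ring at the unit is regular is smooth. -/
theorem smooth_of_regular_unit (pt : Spec (CommRingCat.of k))
    (hreg : IsRegularLocalRing (G.left.presheaf.stalk (η[G].left pt))) : Smooth G.hom := by
  haveI : IsLocallyNoetherian (Spec (CommRingCat.of k)) := inferInstance
  apply smooth_of_nonempty_smoothLocus k G
  refine ⟨η[G].left pt, ?_⟩
  have hσ : η[G].left ≫ G.hom = 𝟙 (Spec (CommRingCat.of k)) := Over.w η[G]
  have hsurj := surjective_resAlg G.hom η[G].left hσ pt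
  refine mem_smoothLocus_of_isRegularLocalRing_of_isSeparable k G.hom (η[G].left pt) hreg ?_
  letI : Algebra k (G.left.residueField (η[G].left pt)) :=
    ((G.left.residue (η[G].left pt)).hom.comp (stalkMapK G.hom (η[G].left pt))).toAlgebra
  exact ⟨fun y => by
    obtain ⟨c, rfl⟩ := hsurj y
    exact isSeparable_algebraMap c⟩

theorem s7822 :
    (topologicalKrullDim G.left ≤ ((Module.finrank (IsLocalRing.ResidueField
        (G.left.presheaf.stalk (η[G].left (IsLocalRing.closedPoint k))))
        (IsLocalRing.CotangentSpace (G.left.presheaf.stalk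
          (η[G].left (IsLocalRing.closedPoint k)))) : ℕ∞) : WithBot ℕ∞)) ∧
    (Smooth G.hom ↔ topologicalKrullDim G.left = ((Module.finrank (IsLocalRing.ResidueField
        (G.left.presheaf.stalk (η[G].left (IsLocalRing.closedPoint k))))
        (IsLocalRing.CotangentSpace (G.left.presheaf.stalk
          (η[G].left (IsLocalRing.closedPoint k)))) : ℕ∞) : WithBot ℕ∞)) ∧
    (Smooth G.hom ↔ ∃ U : G.left.Opens, η[G].left (IsLocalRing.closedPoint k) ∈ U ∧
      Smooth (U.ι ≫ G.hom)) := by
  haveI : IsLocallyNoetherian (Spec (CommRingCat.of k)) := inferInstance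
  haveI : IsLocallyNoetherian G.left := LocallyOfFiniteType.isLocallyNoetherian G.hom
  obtain ⟨pt, hpt⟩ : ∃ pt : Spec (CommRingCat.of k), pt = IsLocalRing.closedPoint k := ⟨_, rfl⟩
  rw [← hpt]
  have hdim := dim_stalk_unit k G pt
  have hle := ringKrullDim_le_spanFinrank_maximalIdeal (G.left.presheaf.stalk (η[G].left pt))
  rw [IsLocalRing.spanFinrank_maximalIdeal_eq_finrank_cotangentSpace] at hle
  have hcast : ∀ n : ℕ, ((n : ℕ∞) : WithBot ℕ∞) = (n : WithBot ℕ∞) := fun n => rfl
  refine ⟨?_, ?_, ?_⟩
  · rw [← hdim, hcast]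
    exact hle
  · rw [← hdim, hcast]
    constructor
    · intro hsm
      haveI := hsm
      haveI : IsRegularLocalRing (G.left.presheaf.stalk (η[G].left pt)) :=
        Groth.Agent.H1.SmoothDepth.isRegularLocalRing_stalk_of_smooth k G.hom _
      exact ((IsRegularLocalRing.iff_finrank_cotangentSpace _).mp inferInstance).symm
    · intro h
      exact smooth_of_regular_unit k G pt
        ((IsRegularLocalRing.iff_finrank_cotangentSpace _).mpr h.symm)
  · constructor
    · intro hsm
      haveI := hsm
      exact ⟨⊤, trivial, inferInstance⟩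
    · rintro ⟨U, heU, hU⟩
      haveI := hU
      apply smooth_of_nonempty_smoothLocus k G
      refine ⟨η[G].left pt, ?_⟩
      have h1 : U.ι ⁻¹ᵁ G.hom.smoothLocus = (U.ι ≫ G.hom).smoothLocus :=
        Scheme.Hom.preimage_smoothLocus_eq U.ι G.hom
      rw [Scheme.Hom.smoothLocus_eq_top (U.ι ≫ G.hom)] at h1
      have h2 : (⟨η[G].left pt, heU⟩ : U) ∈ U.ι ⁻¹ᵁ G.hom.smoothLocus := by
        rw [h1]; trivial
      exact h2

theorem s19507 (e : G.left) (he : e ∈ Set.range (η[G]).left.base)
    (hreg : IsRegularLocalRing (G.left.presheaf.stalk e)) : Smooth G.hom := by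
  obtain ⟨p, rfl⟩ := he
  exact smooth_of_regular_unit k G p hreg

end Dim

end Groth.Agent.H6.GrpSm
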