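import Mathlib
import Groth.Agent.Lib.Helper6.CotTSyz

set_option autoImplicit false

open RingTheory.Sequence

namespace Groth.Agent.H6.H1Reg

open CotTSyz

section Abstract

variable {R : Type*} [CommRing R] {F : Type*} [AddCommGroup F] [Module R F] (j : F →ₗ[R] R) (a : R)

/-- the generating system extended by one more element `a` -/
noncomputable def ext : F × R →ₗ[R] R := j.coprod (LinearMap.toSpanSingleton R R a)

lemma ext_apply (p : F × R) : ext j a p = j p.1 + p.2 * a := by
  simp [ext, LinearMap.coprod_apply, LinearMap.toSpanSingleton_apply]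

/-- structure of the trivial relations of the extended system -/
lemma exists_of_mem_TT_ext {u : F × R} (hu : u ∈ TT (ext j a)) :
    ∃ t ∈ TT j, ∃ μ : F, u = (t - a • μ, j μ) := by
  induction hu using Submodule.span_induction with
  | mem x hx =>
    obtain ⟨p, q, rfl⟩ := hx
    refine ⟨j p.1 • q.1 - j q.1 • p.1, Submodule.subset_span ⟨p.1, q.1, rfl⟩, q.2 • p.1 - p.2 • q.1, ?_⟩
    rw [ext_apply, ext_apply]
    apply Prod.ext
    · simp only [Prod.fst_sub, Prod.smul_fst, Prod.fst_add, smul_sub, add_smul, smul_smul]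
      have e1 : (p.2 * a) • q.1 = (a * p.2) • q.1 := by rw [mul_comm]
      have e2 : (q.2 * a) • p.1 = (a * q.2) • p.1 := by rw [mul_comm]
      rw [e1, e2]
      abel
    · simp only [Prod.snd_sub, Prod.smul_snd, smul_eq_mul, map_sub, map_smul]
      ring
  | zero => exact ⟨0, Submodule.zero_mem _, 0, by simp; rfl⟩
  | add x y _ _ hx hy =>
    obtain ⟨t, ht, μ, rfl⟩ := hx
    obtain ⟨t', ht', μ', rfl⟩ := hy
    refine ⟨t + t', Submodule.add_mem _ ht ht', μ + μ', ?_⟩
    apply Prod.ext
    · simp only [Prod.fst_add, smul_add]; abel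
    · simp only [Prod.snd_add, map_add]
  | smul r x _ hx =>
    obtain ⟨t, ht, μ, rfl⟩ := hx
    refine ⟨r • t, Submodule.smul_mem _ _ ht, r • μ, ?_⟩
    apply Prod.ext
    · simp only [Prod.smul_fst, smul_sub, smul_comm r a μ]
    · simp only [Prod.smul_snd, map_smul]

variable (h : LinearMap.ker (ext j a) ≤ TT (ext j a))
include h

/-- the new element is a nonzerodivisor modulo the old ideal -/
theorem mem_range_of_mul_mem (c : R) (hc : c * a ∈ LinearMap.range j) : c ∈ LinearMap.range j := by
  obtain ⟨x, hx⟩ := hc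
  have hu : ((-x, c) : F × R) ∈ LinearMap.ker (ext j a) := by
    rw [LinearMap.mem_ker, ext_apply]
    simp [hx]
  obtain ⟨t, _, μ, hμ⟩ := exists_of_mem_TT_ext j a (h hu)
  exact ⟨μ, (congrArg Prod.snd hμ).symm⟩

theorem ker_le_sup : LinearMap.ker j ≤ TT j ⊔ Ideal.span {a} • LinearMap.ker j := by
  intro x hx
  have hu : ((x, 0) : F × R) ∈ LinearMap.ker (ext j a) := by
    rw [LinearMap.mem_ker, ext_apply]
    simp [LinearMap.mem_ker.mp hx]
  obtain ⟨t, ht, μ, hμ⟩ := exists_of_mem_TT_ext j a (h hu)
  have h1 : x = t - a • μ := congrArg Prod.fst hμ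
  have h2 : j μ = 0 := (congrArg Prod.snd hμ).symm
  rw [h1, sub_eq_add_neg]
  refine Submodule.add_mem_sup ht (Submodule.neg_mem _ ?_)
  exact Submodule.smul_mem_smul (Ideal.mem_span_singleton_self a) h2

theorem ker_le_TT [IsLocalRing R] [IsNoetherianRing R] [Module.Finite R F]
    (ha : a ∈ IsLocalRing.maximalIdeal R) : LinearMap.ker j ≤ TT j := by
  haveI : IsNoetherian R F := isNoetherian_of_isNoetherianRing_of_finite R F
  refine Submodule.le_of_le_smul_of_le_jacobson_bot (IsNoetherian.noetherian _) ?_ (ker_le_sup j a h)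
  rw [IsLocalRing.jacobson_eq_maximalIdeal ⊥ bot_ne_top, Ideal.span_le]
  intro y hy
  rw [Set.mem_singleton_iff] at hy
  rw [hy]
  exact ha

end Abstract

section Fin

variable {R : Type*} [CommRing R]

/-- `(Fin (n+1) →₀ R) ≃ (Fin n →₀ R) × R` -/
noncomputable def consEquiv (n : ℕ) : (Fin (n + 1) →₀ R) ≃ₗ[R] (Fin n →₀ R) × R where
  toFun f := (f.tail, f 0)
  invFun p := Finsupp.cons p.2 p.1
  map_add' f g := by
    apply Prod.ext
    · ext i; simp [Finsupp.tail_apply]
    · simp
  map_smul' c f := by
    apply Prod.ext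
    · ext i; simp [Finsupp.tail_apply]
    · simp
  left_inv f := Finsupp.cons_tail f
  right_inv p := by
    apply Prod.ext
    · exact Finsupp.tail_cons _ _
    · exact Finsupp.cons_zero _ _

lemma ext_consEquiv {n : ℕ} (r : Fin (n + 1) → R) (f : Fin (n + 1) →₀ R) :
    ext (jf (Fin.tail r)) (r 0) (consEquiv n f) = jf r f := by
  induction f using Finsupp.induction_linear with
  | zero => simp
  | add f g hf hg => rw [map_add, map_add, hf, hg, map_add]
  | single i c =>
    rw [ext_apply]
    change jf (Fin.tail r) (Finsupp.tail (Finsupp.single i c)) + (Finsupp.single i c) 0 * r 0 = _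
    unfold jf
    rw [Finsupp.linearCombination_single]
    cases i using Fin.cases with
    | zero =>
      have : Finsupp.tail (Finsupp.single (0 : Fin (n + 1)) c) = 0 := by
        ext k
        rw [Finsupp.tail_apply, Finsupp.single_eq_of_ne (Fin.succ_ne_zero k)]
        rfl
      rw [this, map_zero, zero_add, Finsupp.single_eq_same, smul_eq_mul]
    | succ i =>
      have : Finsupp.tail (Finsupp.single i.succ c) = Finsupp.single i c := by
        ext k
        rw [Finsupp.tail_apply]
        by_cases hk : i = k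
        · subst hk; rw [Finsupp.single_eq_same, Finsupp.single_eq_same]
        · rw [Finsupp.single_eq_of_ne (Ne.symm hk), Finsupp.single_eq_of_ne (by
            intro h; exact hk (Fin.succ_injective _ h).symm)]
      rw [this, Finsupp.linearCombination_single, Finsupp.single_eq_of_ne (Fin.succ_ne_zero i).symm,
        zero_mul, add_zero]
      rfl

lemma ker_ext_le {n : ℕ} (r : Fin (n + 1) → R) (h : LinearMap.ker (jf r) ≤ TT (jf r)) :
    LinearMap.ker (ext (jf (Fin.tail r)) (r 0)) ≤ TT (ext (jf (Fin.tail r)) (r 0)) := by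
  intro u hu
  rw [← map_TT (jf r) (ext (jf (Fin.tail r)) (r 0)) (consEquiv n) (ext_consEquiv r)]
  refine ⟨(consEquiv n).symm u, h ?_, (consEquiv n).apply_symm_apply u⟩
  rw [LinearMap.mem_ker, ← ext_consEquiv r, LinearEquiv.apply_symm_apply]
  exact hu

variable [IsLocalRing R] [IsNoetherianRing R]

/-- an `H₁`-regular family in the maximal ideal of a noetherian local ring is, up to order, a
regular sequence -/
theorem exists_isWeaklyRegular : ∀ (n : ℕ) (r : Fin n → R), (∀ i, r i ∈ IsLocalRing.maximalIdeal R) →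
    LinearMap.ker (jf r) ≤ TT (jf r) →
    ∃ rs : List R, rs.length = n ∧ Ideal.ofList rs = Ideal.span (Set.range r) ∧ IsWeaklyRegular R rs := by
  intro n
  induction n with
  | zero =>
    intro r _ _
    refine ⟨[], rfl, ?_, IsWeaklyRegular.nil R R⟩
    rw [Ideal.ofList_nil, Set.range_eq_empty, Ideal.span_empty]
  | succ n ih =>
    intro r hr h
    have hext := ker_ext_le r h
    have h' : LinearMap.ker (jf (Fin.tail r)) ≤ TT (jf (Fin.tail r)) :=
      ker_le_TT (jf (Fin.tail r)) (r 0) hext (hr 0)
    obtain ⟨rs', hlen, hof, hreg⟩ := ih (Fin.tail r) (fun i => hr i.succ) h'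
    refine ⟨rs' ++ [r 0], by rw [List.length_append, hlen]; rfl, ?_, ?_⟩
    · rw [Ideal.ofList_append, hof, Ideal.ofList_singleton, ← Ideal.span_union]
      congr 1
      ext x
      simp only [Set.mem_union, Set.mem_range, Set.mem_singleton_iff, Fin.tail]
      constructor
      · rintro (⟨i, rfl⟩ | rfl)
        · exact ⟨i.succ, rfl⟩
        · exact ⟨0, rfl⟩
      · rintro ⟨i, rfl⟩
        cases i using Fin.cases with
        | zero => exact Or.inr rfl
        | succ i => exact Or.inl ⟨i, rfl⟩
    · rw [isWeaklyRegular_append_iff]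
      refine ⟨hreg, (isWeaklyRegular_singleton_iff _ _).mpr ?_⟩
      rw [isSMulRegular_iff_right_eq_zero_of_smul]
      intro x hx
      obtain ⟨x, rfl⟩ := Submodule.Quotient.mk_surjective _ x
      rw [← Submodule.Quotient.mk_smul, Submodule.Quotient.mk_eq_zero] at hx
      rw [Submodule.Quotient.mk_eq_zero]
      have htop : (Ideal.ofList rs' • ⊤ : Submodule R R) = Ideal.ofList rs' := by
        rw [smul_eq_mul, Ideal.mul_top]
      rw [htop, hof] at hx ⊢
      have hrange : Ideal.span (Set.range (Fin.tail r)) = LinearMap.range (jf (Fin.tail r)) :=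
        (II_jf (Fin.tail r)).symm
      rw [hrange] at hx ⊢
      refine mem_range_of_mul_mem (jf (Fin.tail r)) (r 0) hext x ?_
      rw [mul_comm]
      exact hx

end Fin

section Minimal

variable {R : Type*} [CommRing R] [IsLocalRing R]

/-- a minimal system of generators: the coefficients of every relation lie in the maximal ideal -/
theorem exists_minimal_generators (I : Ideal R) (hfg : I.FG) :
    ∃ (n : ℕ) (a : Fin n → R), Ideal.span (Set.range a) = I ∧
      ∀ c : Fin n →₀ R, jf a c = 0 → ∀ i, c i ∈ IsLocalRing.maximalIdeal R := by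
  classical
  have hex : ∃ m : ℕ, ∃ a : Fin m → R, Ideal.span (Set.range a) = I := by
    obtain ⟨s, hs⟩ := hfg
    refine ⟨s.card, fun i => (s.equivFin.symm i : R), ?_⟩
    rw [← hs]
    congr 1
    ext x
    constructor
    · rintro ⟨i, rfl⟩
      exact (s.equivFin.symm i).2
    · intro hx
      exact ⟨s.equivFin ⟨x, hx⟩, by simp⟩
  obtain ⟨a, ha⟩ := Nat.find_spec hex
  refine ⟨Nat.find hex, a, ha, ?_⟩
  intro c hc i
  by_contra hi
  have hu : IsUnit (c i) := by
    by_contra h
    exact hi ((IsLocalRing.mem_maximalIdeal _).mpr h)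
  obtain ⟨k, hk⟩ : ∃ k, Nat.find hex = k + 1 := ⟨Nat.find hex - 1, by have := i.2; omega⟩
  have hmin := Nat.find_min hex (m := k) (by omega)
  apply hmin
  clear hmin
  revert a c i
  rw [hk]
  intro a ha c hc i hi hu
  refine ⟨fun l => a (i.succAbove l), ?_⟩
  apply le_antisymm
  · rw [← ha]
    exact Ideal.span_mono (by rintro _ ⟨l, rfl⟩; exact ⟨_, rfl⟩)
  · rw [← ha, Ideal.span_le]
    rintro _ ⟨l, rfl⟩
    have hsum : c i * a i + ∑ l', c (i.succAbove l') * a (i.succAbove l') = 0 := by
      rw [← Fin.sum_univ_succAbove (fun l => c l * a l) i]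
      unfold jf at hc
      rw [Finsupp.linearCombination_apply, Finsupp.sum_fintype _ _ (fun _ => by simp)] at hc
      exact hc
    have hi_mem : a i ∈ Ideal.span (Set.range fun l => a (i.succAbove l)) := by
      have h1 : c i * a i ∈ Ideal.span (Set.range fun l => a (i.succAbove l)) := by
        rw [eq_neg_of_add_eq_zero_left hsum]
        refine Ideal.neg_mem_iff _ |>.mpr (Ideal.sum_mem _ fun l' _ => ?_)
        exact Ideal.mul_mem_left _ _ (Ideal.subset_span ⟨l', rfl⟩)
      obtain ⟨v, hv⟩ := hu
      have h2 : a i = (↑v⁻¹ : R) * (c i * a i) := by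
        rw [← mul_assoc, ← hv, Units.inv_mul, one_mul]
      rw [h2]
      exact Ideal.mul_mem_left _ _ h1
    by_cases hl : l = i
    · rw [hl]; exact hi_mem
    · obtain ⟨l', rfl⟩ := Fin.exists_succAbove_eq hl
      exact Ideal.subset_span ⟨l', rfl⟩

end Minimal

end Groth.Agent.H6.H1Reg
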