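import Mathlib
import Groth.Agent.Lib.Helper5.HBLift.G
import Groth.Agent.Lib.Helper6.HilbBurch

/-!
# helper6: lifting a Hilbert–Burch matrix along a small extension (S11459)
-/

set_option autoImplicit false
set_option linter.style.haveILetI false
set_option linter.unusedTactic false
set_option linter.unusedVariables false
set_option linter.unusedSectionVars false

universe u

open Matrix

namespace Groth.Agent.H6.HBStep

open Groth.Agent.H5.HBLift

section A

variable {C' : Type u} [CommRing C'] (J : Ideal C') {A' : Type u} [CommRing A'] [Algebra C' A']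

/-- flatness of `A'/I'` gives `I' ∩ JA' = JA' · I'`. -/
theorem mem_mul_of_flat (I' : Ideal A') [Module.Flat C' (A' ⧸ I')] (z : A') (hz : z ∈ I')
    (hz' : z ∈ J.map (algebraMap C' A')) : z ∈ J.map (algebraMap C' A') * I' := by
  have h := mem_smul_ker_of_flat (Ideal.Quotient.mkₐ C' I').toLinearMap
    (Ideal.Quotient.mkₐ_surjective C' I') J z
    (by
      show Ideal.Quotient.mk I' z = 0
      exact Ideal.Quotient.eq_zero_iff_mem.mpr hz)
    (by rw [Ideal.smul_top_eq_map]; exact hz')
  refine Submodule.smul_induction_on h ?_ ?_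
  · intro j hj x hx
    have hx' : x ∈ I' := by
      have : Ideal.Quotient.mk I' x = 0 := hx
      exact Ideal.Quotient.eq_zero_iff_mem.mp this
    rw [Algebra.smul_def]
    exact Ideal.mul_mem_mul (Ideal.mem_map_of_mem _ hj) hx'
  · intro x y hx hy
    exact Ideal.add_mem _ hx hy

/-- lifts of generators of the image of a flat ideal generate it. -/
theorem eq_span_of_lift (hJJ : J * J = ⊥) (I' : Ideal A') [Module.Flat C' (A' ⧸ I')] {n : ℕ}
    (f' : Fin n → A') (hf' : ∀ i, f' i ∈ I')
    (hmap : I'.map (qm J A') = Ideal.span (Set.range ((qm J A') ∘ f'))) :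
    I' = Ideal.span (Set.range f') := by
  set 𝔍 := J.map (algebraMap C' A') with h𝔍
  have hle : Ideal.span (Set.range f') ≤ I' := by
    rw [Ideal.span_le]
    rintro _ ⟨i, rfl⟩
    exact hf' i
  have h1 : I' ≤ Ideal.span (Set.range f') ⊔ 𝔍 * I' := by
    intro x hx
    have hx1 : qm J A' x ∈ I'.map (qm J A') := Ideal.mem_map_of_mem _ hx
    rw [hmap, Set.range_comp, ← Ideal.map_span] at hx1
    obtain ⟨g, hg, hgx⟩ := (Ideal.mem_map_iff_of_surjective (qm J A')
      Ideal.Quotient.mk_surjective).mp hx1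
    have h2 : x - g ∈ 𝔍 := by
      rw [← Ideal.Quotient.eq]
      exact hgx.symm
    have h3 : x - g ∈ I' := I'.sub_mem hx (hle hg)
    have h4 := mem_mul_of_flat J I' (x - g) h3 h2
    have : x = g + (x - g) := by ring
    rw [this]
    exact Submodule.add_mem_sup hg h4
  have h𝔍𝔍 : 𝔍 * 𝔍 = ⊥ := by
    rw [h𝔍, ← Ideal.map_mul, hJJ, Ideal.map_bot]
  have h2 : 𝔍 * I' ≤ Ideal.span (Set.range f') := by
    calc 𝔍 * I' ≤ 𝔍 * (Ideal.span (Set.range f') ⊔ 𝔍 * I') := Ideal.mul_mono_right h1
      _ = 𝔍 * Ideal.span (Set.range f') := by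
        rw [Ideal.mul_sup, ← mul_assoc, h𝔍𝔍, Ideal.bot_mul, sup_bot_eq]
      _ ≤ Ideal.span (Set.range f') := Ideal.mul_le_right
  exact le_antisymm (h1.trans (sup_le le_rfl h2)) hle

omit [Algebra C' A'] in
/-- elements of `𝔍 · (f')` are combinations of the `f'` with coefficients in `𝔍`. -/
theorem exists_coeff (𝔍 : Ideal A') {n : ℕ} (f' : Fin n → A') (x : A')
    (hx : x ∈ 𝔍 * Ideal.span (Set.range f')) :
    ∃ c : Fin n → A', (∀ i, c i ∈ 𝔍) ∧ x = ∑ i, c i * f' i := by
  have hx' : x ∈ 𝔍 • Submodule.span A' (Set.range f') := hx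
  rw [Submodule.mem_ideal_smul_span_iff_exists_sum] at hx'
  obtain ⟨a, ha, hsum⟩ := hx'
  refine ⟨fun i => a i, ha, ?_⟩
  rw [← hsum, Finsupp.sum_fintype (f := a) (g := fun i c => c • f' i) (fun i => zero_smul _ _)]
  rfl

end A

end Groth.Agent.H6.HBStep
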