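import Mathlib
import Groth.Agent.Lib.Helper6.HBStep1

/-!
# helper6: lifting a Hilbert–Burch matrix along a small extension (S11459), part 2
-/

set_option autoImplicit false
set_option linter.style.haveILetI false
set_option linter.unusedTactic false
set_option linter.unusedVariables false
set_option linter.unusedSectionVars false

universe u

open Matrix

namespace Groth.Agent.H6.HBStep

open Groth.Agent.H5.HBLift

section B

variable {C' : Type u} [CommRing C'] (J : Ideal C') {A' : Type u} [CommRing A'] [Algebra C' A']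

/-- the relation `Σ_i φ_ik · minors φ i = 0`. -/
theorem sum_mul_minors {A : Type u} [CommRing A] {r : ℕ} (φ : Matrix (Fin (r + 1)) (Fin r) A)
    (k : Fin r) : ∑ i, φ i k * minors φ i = 0 := by
  classical
  have h := lc_mulVec φ (Pi.single k 1)
  rw [Fintype.linearCombination_apply] at h
  rw [← h]
  refine Finset.sum_congr rfl fun i _ => ?_
  rw [Matrix.mulVec_single_one, smul_eq_mul]
  rfl

/-- existence of a lift of the matrix together with lifts of the minors inside `I'` satisfying
the lifted relations. -/
theorem exists_lift (hJJ : J * J = ⊥) (I' : Ideal A') [Module.Flat C' (A' ⧸ I')] {r : ℕ}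
    (φ : Matrix (Fin (r + 1)) (Fin r) (A' ⧸ J.map (algebraMap C' A')))
    (hI' : I'.map (qm J A') = Ideal.span (Set.range (minors φ))) :
    ∃ (φ' : Matrix (Fin (r + 1)) (Fin r) A') (f' : Fin (r + 1) → A'),
      φ'.map (qm J A') = φ ∧ (∀ i, qm J A' (f' i) = minors φ i) ∧
      I' = Ideal.span (Set.range f') ∧ ∀ k, ∑ i, φ' i k * f' i = 0 := by
  classical
  have hmem : ∀ i, minors φ i ∈ I'.map (qm J A') := by
    intro i
    rw [hI']
    exact Ideal.subset_span ⟨i, rfl⟩
  choose f' hf'I hf' using fun i => (Ideal.mem_map_iff_of_surjective (qm J A')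
    Ideal.Quotient.mk_surjective).mp (hmem i)
  have hcomp : (qm J A') ∘ f' = minors φ := funext hf'
  have hspan : I' = Ideal.span (Set.range f') :=
    eq_span_of_lift J hJJ I' f' hf'I (by rw [hcomp, hI'])
  choose φ'' hφ'' using fun (i : Fin (r + 1)) (k : Fin r) => Ideal.Quotient.mk_surjective (φ i k)
  have hz : ∀ k, ∑ i, φ'' i k * f' i ∈ J.map (algebraMap C' A') * Ideal.span (Set.range f') := by
    intro k
    rw [← hspan]
    apply mem_mul_of_flat J I'
    · exact Ideal.sum_mem _ fun i _ => Ideal.mul_mem_left _ _ (hf'I i)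
    · rw [← Ideal.Quotient.eq_zero_iff_mem, map_sum, ← sum_mul_minors φ k]
      refine Finset.sum_congr rfl fun i _ => ?_
      rw [map_mul, hφ'']
      congr 1
      exact hf' i
  choose c hc𝔍 hc using fun k => exists_coeff (J.map (algebraMap C' A')) f' _ (hz k)
  refine ⟨Matrix.of fun i k => φ'' i k - c k i, f', ?_, hf', hspan, ?_⟩
  · ext i k
    rw [Matrix.map_apply, Matrix.of_apply, map_sub, hφ'',
      Ideal.Quotient.eq_zero_iff_mem.mpr (hc𝔍 k i), sub_zero]
  · intro k
    simp only [Matrix.of_apply, sub_mul]
    rw [Finset.sum_sub_distrib, hc k, sub_self]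

end B

end Groth.Agent.H6.HBStep
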