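import Mathlib
import Groth.Agent.Lib.Helper6.HBStep2

/-!
# helper6: lifting a Hilbert–Burch matrix along a small extension (S11459), part 3
-/

set_option autoImplicit false
set_option linter.style.haveILetI false
set_option linter.unusedTactic false
set_option linter.unusedVariables false
set_option linter.unusedSectionVars false

universe u

open Matrix

namespace Groth.Agent.H6.HBStep

open Groth.Agent.H5.HBLift

section C

variable {R : Type u} [CommRing R]

/-- Hilbert–Burch, elementwise form: if `0 → R^r → R^{r+1} → R` (matrix, then signed minors) is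
exact and `f'` is a row of relations `Σ_i φ_ik f'_i = 0`, then `f' = a · minors`. -/
theorem exists_eq_mul_minors [IsNoetherianRing R] {r : ℕ} (φ : Matrix (Fin (r + 1)) (Fin r) R)
    (hinj : Function.Injective φ.mulVecLin)
    (hex : LinearMap.range φ.mulVecLin = LinearMap.ker (Fintype.linearCombination R (minors φ)))
    (f' : Fin (r + 1) → R) (hrel : ∀ k, ∑ i, φ i k * f' i = 0) :
    ∃ a : R, ∀ i, f' i = a * minors φ i := by
  classical
  set Δ := Fintype.linearCombination R (minors φ) with hΔ
  set π := Fintype.linearCombination R f' with hπ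
  have hdepth := Groth.Agent.H6.HBurch.depth_ge_two r (r + 1) φ Δ
    (LinearMap.ker_eq_bot.mpr hinj) hex.symm
  obtain ⟨x, hxJ, y, hyJ, hx, hy⟩ := H5HB.exists_regular_pair _ hdepth
  have hrange : LinearMap.range Δ = CAlgX.minorIdeal φ r := by
    obtain ⟨-, -, h3⟩ := H5HB.hilbert_burch_exact φ hdepth 1 (one_mem _)
    rw [Ideal.span_singleton_one, Ideal.top_mul] at h3
    rw [← h3, hΔ]
    congr 2
    funext i
    rw [one_mul]
  have hπφ : ∀ t : Fin r → R, π (φ.mulVec t) = 0 := by
    intro t
    rw [hπ, Fintype.linearCombination_apply]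
    simp only [Matrix.mulVec, dotProduct, smul_eq_mul, Finset.sum_mul]
    rw [Finset.sum_comm]
    refine Finset.sum_eq_zero fun k _ => ?_
    have : ∀ i, φ i k * t k * f' i = t k * (φ i k * f' i) := fun i => by ring
    rw [Finset.sum_congr rfl fun i _ => this i, ← Finset.mul_sum, hrel k, mul_zero]
  have hsym : ∀ v w : Fin (r + 1) → R, Δ v * π w = Δ w * π v := by
    intro v w
    have hu : Δ v • w - Δ w • v ∈ LinearMap.ker Δ := by
      rw [LinearMap.mem_ker, map_sub, map_smul, map_smul, smul_eq_mul, smul_eq_mul, mul_comm,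
        sub_self]
    rw [← hex] at hu
    obtain ⟨t, ht⟩ := hu
    have h2 := hπφ t
    rw [Matrix.mulVecLin_apply] at ht
    rw [ht, map_sub, map_smul, map_smul, smul_eq_mul, smul_eq_mul, sub_eq_zero] at h2
    exact h2
  have hxr : x ∈ LinearMap.range Δ := by rw [hrange]; exact hxJ
  have hyr : y ∈ LinearMap.range Δ := by rw [hrange]; exact hyJ
  obtain ⟨vx, hvx⟩ := hxr
  obtain ⟨vy, hvy⟩ := hyr
  have h1 : y * π vx = x * π vy := by
    have := hsym vy vx
    rw [hvx, hvy] at this
    exact this
  obtain ⟨a, ha⟩ := hy _ _ h1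
  have hπa : ∀ w, π w = a * Δ w := by
    intro w
    have := hsym vx w
    rw [hvx, ha] at this
    have h2 : x * (π w - a * Δ w) = 0 := by
      rw [mul_sub, this]; ring
    exact sub_eq_zero.mp (hx _ h2)
  refine ⟨a, fun i => ?_⟩
  have := hπa (Pi.single i 1)
  rw [hπ, hΔ, Fintype.linearCombination_apply_single, Fintype.linearCombination_apply_single,
    one_smul, one_smul] at this
  exact this

/-- a ring element killing all signed minors of an injective matrix vanishes. -/
theorem eq_zero_of_mul_minors [IsNoetherianRing R] {r : ℕ} (φ : Matrix (Fin (r + 1)) (Fin r) R)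
    (hinj : Function.Injective φ.mulVecLin) (b : R) (hb : ∀ i, b * minors φ i = 0) : b = 0 := by
  have hann := (H5McCoy.injective_iff_annihilator φ).mp hinj
  have hmem : b ∈ (CAlgX.minorIdeal φ r).annihilator := by
    rw [Submodule.mem_annihilator]
    intro n hn
    rw [H5HB.minorIdeal_eq_span_dd] at hn
    induction hn using Submodule.span_induction with
    | mem n hn =>
      obtain ⟨i, rfl⟩ := hn
      have h1 := hb i
      have h2 : (-1 : R) ^ (i : ℕ) * ((-1) ^ (i : ℕ)) = 1 := by
        rw [← mul_pow]; simp
      have h3 : b * H5HB.dd φ i = (-1 : R) ^ (i : ℕ) * (b * minors φ i) := by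
        have : b * H5HB.dd φ i = ((-1 : R) ^ (i : ℕ) * ((-1) ^ (i : ℕ))) * (b * H5HB.dd φ i) := by
          rw [h2, one_mul]
        rw [this]
        simp only [minors, H5HB.dd]
        ring
      rw [smul_eq_mul, h3, h1, mul_zero]
    | zero => rw [smul_zero]
    | add r s _ _ hr hs => rw [smul_add, hr, hs, add_zero]
    | smul c r _ hr => rw [smul_eq_mul, smul_eq_mul, mul_left_comm, ← smul_eq_mul (a := b), hr, mul_zero]
  rw [hann] at hmem
  exact hmem

end C

end Groth.Agent.H6.HBStep
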