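import Mathlib
import Groth.Agent.Lib.Helper6.HBStep3

/-!
# helper6: lifting a Hilbert–Burch matrix along a small extension (S11459), part 4
-/

set_option autoImplicit false
set_option linter.style.haveILetI false
set_option linter.unusedTactic false
set_option linter.unusedVariables false
set_option linter.unusedSectionVars false

universe u

open Matrix IsLocalRing

namespace Groth.Agent.H6.HBStep

open Groth.Agent.H5.HBLift

section D

variable (C' : Type u) [CommRing C'] [IsLocalRing C'] [IsArtinianRing C'] (J : Ideal C')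
  (A' : Type u) [CommRing A'] [Algebra C' A'] [Module.Flat C' A']

/-- if `φ'` reduces to a Hilbert–Burch exact matrix and `f'` is a row of relations of `φ'`
reducing to the minors, then `f'` and the minors of `φ'` generate the same ideal. -/
theorem span_eq_span_minors [IsNoetherianRing A'] (hJ : maximalIdeal C' * J = ⊥) (hJne : J ≠ ⊤)
    {r : ℕ} (φ' : Matrix (Fin (r + 1)) (Fin r) A')
    (hφ1 : Function.Injective (φ'.map (qm J A')).mulVecLin)
    (hφ2 : LinearMap.range (φ'.map (qm J A')).mulVecLin =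
      LinearMap.ker (Fintype.linearCombination (A' ⧸ J.map (algebraMap C' A'))
        (minors (φ'.map (qm J A')))))
    [Module.Flat (C' ⧸ J) ((A' ⧸ J.map (algebraMap C' A')) ⧸
      Ideal.span (Set.range (minors (φ'.map (qm J A')))))]
    (f' : Fin (r + 1) → A') (hf' : ∀ i, qm J A' (f' i) = minors (φ'.map (qm J A')) i)
    (hrel : ∀ k, ∑ i, φ' i k * f' i = 0) :
    Ideal.span (Set.range f') = Ideal.span (Set.range (minors φ')) ∧
      Function.Injective φ'.mulVecLin ∧
      LinearMap.range φ'.mulVecLin = LinearMap.ker (Fintype.linearCombination A' (minors φ')) := by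
  have hJJ : J * J = ⊥ := by
    rw [eq_bot_iff, ← hJ]
    exact Ideal.mul_mono_left (IsLocalRing.le_maximalIdeal hJne)
  obtain ⟨hinj, hex, -⟩ := Groth.Agent.H5.HBLift.main C' J hJ hJne A' r φ' hφ1 hφ2
  refine ⟨?_, hinj, hex⟩
  obtain ⟨a, ha⟩ := exists_eq_mul_minors φ' hinj hex f' hrel
  -- `a ≡ 1` modulo `JA'`
  haveI : IsNoetherianRing (A' ⧸ J.map (algebraMap C' A')) :=
    isNoetherianRing_of_surjective A' _ (qm J A') Ideal.Quotient.mk_surjective
  have h1 : (1 - qm J A' a) = 0 := by
    apply eq_zero_of_mul_minors (φ'.map (qm J A')) hφ1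
    intro i
    rw [sub_mul, one_mul, sub_eq_zero]
    conv_lhs => rw [← hf' i, ha i, map_mul, ← minors_map]
  have h2 : 1 - a ∈ J.map (algebraMap C' A') := by
    rw [← Ideal.Quotient.eq_zero_iff_mem, map_sub, map_one]
    exact h1
  have hnil : IsNilpotent (1 - a) := by
    refine ⟨2, ?_⟩
    have : (1 - a) ^ 2 ∈ J.map (algebraMap C' A') * J.map (algebraMap C' A') := by
      rw [pow_two]
      exact Ideal.mul_mem_mul h2 h2
    rw [← Ideal.map_mul, hJJ, Ideal.map_bot] at this
    exact this
  have hunit : IsUnit a := by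
    have := hnil.isUnit_one_sub
    rwa [sub_sub_cancel] at this
  obtain ⟨b, hb⟩ := hunit.exists_left_inv
  apply le_antisymm
  · rw [Ideal.span_le]
    rintro _ ⟨i, rfl⟩
    rw [ha i]
    exact Ideal.mul_mem_left _ _ (Ideal.subset_span ⟨i, rfl⟩)
  · rw [Ideal.span_le]
    rintro _ ⟨i, rfl⟩
    have : minors φ' i = b * f' i := by
      rw [ha i, ← mul_assoc, hb, one_mul]
    rw [this]
    exact Ideal.mul_mem_left _ _ (Ideal.subset_span ⟨i, rfl⟩)

/-- the lifting step (S11459, together with exactness of the lifted complex). -/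
theorem main_step [IsNoetherianRing A'] (hJ : maximalIdeal C' * J = ⊥) (hJne : J ≠ ⊤)
    (r : ℕ) (φ : Matrix (Fin (r + 1)) (Fin r) (A' ⧸ J.map (algebraMap C' A')))
    (hφ1 : Function.Injective φ.mulVecLin)
    (hφ2 : LinearMap.range φ.mulVecLin =
      LinearMap.ker (Fintype.linearCombination (A' ⧸ J.map (algebraMap C' A')) (minors φ)))
    [Module.Flat (C' ⧸ J) ((A' ⧸ J.map (algebraMap C' A')) ⧸ Ideal.span (Set.range (minors φ)))]
    (I' : Ideal A') [Module.Flat C' (A' ⧸ I')]
    (hI' : I'.map (qm J A') = Ideal.span (Set.range (minors φ))) :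
    ∃ φ' : Matrix (Fin (r + 1)) (Fin r) A', φ'.map (qm J A') = φ ∧
      I' = Ideal.span (Set.range (minors φ')) ∧ Function.Injective φ'.mulVecLin ∧
      LinearMap.range φ'.mulVecLin = LinearMap.ker (Fintype.linearCombination A' (minors φ')) := by
  have hJJ : J * J = ⊥ := by
    rw [eq_bot_iff, ← hJ]
    exact Ideal.mul_mono_left (IsLocalRing.le_maximalIdeal hJne)
  obtain ⟨φ', f', hmap, hf', hspan, hrel⟩ := exists_lift J hJJ I' φ hI'
  subst hmap
  obtain ⟨h1, h2, h3⟩ := span_eq_span_minors C' J A' hJ hJne φ' hφ1 hφ2 f' hf' hrel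
  exact ⟨φ', rfl, hspan.trans h1, h2, h3⟩

end D

end Groth.Agent.H6.HBStep
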