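import Mathlib
import Groth.Agent.Lib.Helper6.HBStep4

/-!
# helper6: Hilbert–Burch matrices lift over local Artin bases (S11458)
-/

set_option autoImplicit false
set_option linter.style.haveILetI false
set_option linter.unusedTactic false
set_option linter.unusedVariables false
set_option linter.unusedSectionVars false

universe u

open Matrix IsLocalRing

namespace Groth.Agent.H6.HBInd

open Groth.Agent.H5.HBLift

section transport

variable {A A₀ : Type u} [CommRing A] [CommRing A₀] (p : A →+* A₀)

/-- transport of a Hilbert–Burch matrix along a bijective ring homomorphism. -/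
theorem transport (hp : Function.Bijective p) (I : Ideal A) {r : ℕ}
    (φ₀ : Matrix (Fin (r + 1)) (Fin r) A₀)
    (h₀ : Ideal.span (Set.range (minors φ₀)) = I.map p)
    (h1 : Function.Injective φ₀.mulVecLin)
    (h2 : LinearMap.range φ₀.mulVecLin =
      LinearMap.ker (Fintype.linearCombination A₀ (minors φ₀))) :
    ∃ φ : Matrix (Fin (r + 1)) (Fin r) A, Ideal.span (Set.range (minors φ)) = I ∧
      Function.Injective φ.mulVecLin ∧
      LinearMap.range φ.mulVecLin = LinearMap.ker (Fintype.linearCombination A (minors φ)) := by
  classical
  choose φ hφ using fun (i : Fin (r + 1)) (k : Fin r) => hp.2 (φ₀ i k)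
  have hmap : (Matrix.of φ).map p = φ₀ := by
    ext i k
    rw [Matrix.map_apply, Matrix.of_apply, hφ]
  subst hmap
  refine ⟨Matrix.of φ, ?_, ?_, ?_⟩
  · have h3 : (Ideal.span (Set.range (minors (Matrix.of φ)))).map p = I.map p := by
      rw [← h₀, Ideal.map_span, ← Set.range_comp]
      congr 2
      funext i
      exact (minors_map p (Matrix.of φ) i).symm
    have h4 := congrArg (Ideal.comap p) h3
    rwa [Ideal.comap_map_of_bijective p hp, Ideal.comap_map_of_bijective p hp] at h4
  · rw [injective_iff_map_eq_zero]
    intro v hv
    rw [Matrix.mulVecLin_apply] at hv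
    have h3 : ((Matrix.of φ).map p).mulVecLin (p ∘ v) = 0 := by
      ext i
      rw [Matrix.mulVecLin_apply, ← RingHom.map_mulVec, hv]
      simp
    have h4 := h1 (h3.trans (map_zero _).symm)
    ext k
    have := congrFun h4 k
    simp only [Function.comp_apply, Pi.zero_apply] at this
    exact hp.1 (this.trans (map_zero p).symm)
  · apply le_antisymm
    · rintro _ ⟨u, rfl⟩
      rw [LinearMap.mem_ker, Matrix.mulVecLin_apply, lc_mulVec]
    · intro v hv
      rw [LinearMap.mem_ker] at hv
      have h3 : p ∘ v ∈ LinearMap.ker (Fintype.linearCombination A₀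
          (minors ((Matrix.of φ).map p))) := by
        rw [LinearMap.mem_ker, lc_map, hv, map_zero]
      rw [← h2] at h3
      obtain ⟨u₀, hu₀⟩ := h3
      choose u hu using fun k => hp.2 (u₀ k)
      have hu' : u₀ = p ∘ u := funext fun k => (hu k).symm
      refine ⟨u, ?_⟩
      rw [Matrix.mulVecLin_apply] at hu₀ ⊢
      ext i
      apply hp.1
      have := congrFun hu₀ i
      rw [hu', ← RingHom.map_mulVec] at this
      exact this

end transport

end Groth.Agent.H6.HBInd
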