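import Mathlib
import Groth.Agent.Lib.Helper6.HBInd1
import Groth.Agent.Lib.Helper5.DefId.D

/-!
# helper6: Hilbert–Burch matrices lift over local Artin bases (S11458), the induction
-/

set_option autoImplicit false
set_option linter.style.haveILetI false
set_option linter.unusedTactic false
set_option linter.unusedVariables false
set_option linter.unusedSectionVars false

universe u

open Matrix IsLocalRing

namespace Groth.Agent.H6.HBInd

open Groth.Agent.H5.HBLift Groth.Agent.H5.DefId

theorem ind (n : ℕ) : ∀ (C : Type u) [CommRing C] [IsLocalRing C] [IsArtinianRing C]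
    (_ : maximalIdeal C ^ n = ⊥)
    (A : Type u) [CommRing A] [Algebra C A] [Module.Flat C A] [IsNoetherianRing A]
    (I : Ideal A) [Module.Flat C (A ⧸ I)]
    (A₀ : Type u) [CommRing A₀] (p : A →+* A₀) (_ : Function.Surjective p)
    (_ : RingHom.ker p = (maximalIdeal C).map (algebraMap C A))
    (r : ℕ) (φ₀ : Matrix (Fin (r + 1)) (Fin r) A₀)
    (_ : Ideal.span (Set.range (minors φ₀)) = I.map p)
    (_ : Function.Injective φ₀.mulVecLin)
    (_ : LinearMap.range φ₀.mulVecLin =
      LinearMap.ker (Fintype.linearCombination A₀ (minors φ₀))),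
    ∃ φ : Matrix (Fin (r + 1)) (Fin r) A, Ideal.span (Set.range (minors φ)) = I ∧
      Function.Injective φ.mulVecLin ∧
      LinearMap.range φ.mulVecLin = LinearMap.ker (Fintype.linearCombination A (minors φ)) := by
  induction n with
  | zero =>
    intro C _ _ _ hn
    exfalso
    rw [pow_zero, Ideal.one_eq_top] at hn
    have : (1 : C) ∈ (⊥ : Ideal C) := hn ▸ Submodule.mem_top
    exact one_ne_zero this
  | succ n ih =>
    intro C _ _ _ hn A _ _ _ _ I _ A₀ _ p hp hker r φ₀ h₀ h1 h2
    by_cases hm : maximalIdeal C = ⊥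
    · have hinj : Function.Injective p := by
        rw [RingHom.injective_iff_ker_eq_bot, hker, hm, Ideal.map_bot]
      exact transport p ⟨hinj, hp⟩ I φ₀ h₀ h1 h2
    · have hn0 : n ≠ 0 := by
        rintro rfl
        rw [zero_add, pow_one] at hn
        exact hm hn
      have hJle : maximalIdeal C ^ n ≤ maximalIdeal C := Ideal.pow_le_self hn0
      have hJne : maximalIdeal C ^ n ≠ ⊤ := fun h =>
        (maximalIdeal.isMaximal C).ne_top (top_le_iff.mp (h ▸ hJle))
      have hJ : maximalIdeal C * maximalIdeal C ^ n = ⊥ := by rw [← pow_succ', hn]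
      haveI : Nontrivial (C ⧸ maximalIdeal C ^ n) := Ideal.Quotient.nontrivial_iff.mpr hJne
      haveI : IsLocalRing (C ⧸ maximalIdeal C ^ n) :=
        IsLocalRing.of_surjective' (Ideal.Quotient.mk _) Ideal.Quotient.mk_surjective
      have hmax : maximalIdeal (C ⧸ maximalIdeal C ^ n) =
          (maximalIdeal C).map (Ideal.Quotient.mk (maximalIdeal C ^ n)) :=
        (map_maximalIdeal_of_surjective _ Ideal.Quotient.mk_surjective).symm
      have hn' : maximalIdeal (C ⧸ maximalIdeal C ^ n) ^ n = ⊥ := by
        rw [hmax, ← Ideal.map_pow, Ideal.map_quotient_self]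
      haveI : IsNoetherianRing (A ⧸ (maximalIdeal C ^ n).map (algebraMap C A)) :=
        isNoetherianRing_of_surjective A _ (qm (maximalIdeal C ^ n) A) Ideal.Quotient.mk_surjective
      haveI : Module.Flat (C ⧸ maximalIdeal C ^ n)
          ((A ⧸ (maximalIdeal C ^ n).map (algebraMap C A)) ⧸ I.map (qm (maximalIdeal C ^ n) A)) :=
        Module.Flat.of_linearEquiv
          (LinearEquiv.ofBijective _ (liftBaseChange_red_bijective I rfl)).symm
      have hle : (maximalIdeal C ^ n).map (algebraMap C A) ≤ RingHom.ker p := by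
        rw [hker]; exact Ideal.map_mono hJle
      have hp' : Function.Surjective (Ideal.Quotient.lift _ p (fun a ha => hle ha)) :=
        Ideal.Quotient.lift_surjective_of_surjective _ _ hp
      have hker' : RingHom.ker (Ideal.Quotient.lift _ p (fun a ha => hle ha)) =
          (maximalIdeal (C ⧸ maximalIdeal C ^ n)).map
            (algebraMap (C ⧸ maximalIdeal C ^ n) (A ⧸ (maximalIdeal C ^ n).map (algebraMap C A))) := by
        ext x
        obtain ⟨a, rfl⟩ := Ideal.Quotient.mk_surjective x
        rw [RingHom.mem_ker, hmax, mem_iff _ hJne]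
        show p a = 0 ↔ _
        rw [← RingHom.mem_ker, hker]
      have hI' : (I.map (qm (maximalIdeal C ^ n) A)).map
          (Ideal.Quotient.lift _ p (fun a ha => hle ha)) = I.map p := by
        rw [Ideal.map_map]
        congr 1
      obtain ⟨φ', e1, e2, e3⟩ := ih (C ⧸ maximalIdeal C ^ n) hn'
        (A ⧸ (maximalIdeal C ^ n).map (algebraMap C A)) (I.map (qm (maximalIdeal C ^ n) A)) A₀
        (Ideal.Quotient.lift _ p (fun a ha => hle ha)) hp' hker' r φ₀ (h₀.trans hI'.symm) h1 h2
      haveI : Module.Flat (C ⧸ maximalIdeal C ^ n)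
          ((A ⧸ (maximalIdeal C ^ n).map (algebraMap C A)) ⧸
            Ideal.span (Set.range (minors φ'))) := by
        rw [e1]; infer_instance
      obtain ⟨φ, -, g1, g2, g3⟩ := Groth.Agent.H6.HBStep.main_step C (maximalIdeal C ^ n) A hJ hJne
        r φ' e2 e3 I e1.symm
      exact ⟨φ, g1.symm, g2, g3⟩

/-- S11458 -/
theorem main (C : Type u) [CommRing C] [IsLocalRing C] [IsArtinianRing C]
    (A : Type u) [CommRing A] [Algebra C A] [Module.Flat C A] [IsNoetherianRing A]
    (I : Ideal A) [Module.Flat C (A ⧸ I)] (r : ℕ)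
    (φ₀ : Matrix (Fin (r + 1)) (Fin r) (A ⧸ (maximalIdeal C).map (algebraMap C A)))
    (h₀ : Ideal.span (Set.range (minors φ₀)) =
      I.map (Ideal.Quotient.mk ((maximalIdeal C).map (algebraMap C A))))
    (h1 : Function.Injective φ₀.mulVecLin)
    (h2 : LinearMap.range φ₀.mulVecLin =
      LinearMap.ker (Fintype.linearCombination _ (minors φ₀))) :
    ∃ φ : Matrix (Fin (r + 1)) (Fin r) A, Ideal.span (Set.range (minors φ)) = I ∧
      Function.Injective φ.mulVecLin ∧
      LinearMap.range φ.mulVecLin = LinearMap.ker (Fintype.linearCombination A (minors φ)) := by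
  have hnil : IsNilpotent (maximalIdeal C) := by
    have := IsArtinianRing.isNilpotent_jacobson_bot (R := C)
    rwa [IsLocalRing.jacobson_eq_maximalIdeal ⊥ bot_ne_top] at this
  obtain ⟨n, hn⟩ := hnil
  exact ind n C hn A I _ (Ideal.Quotient.mk ((maximalIdeal C).map (algebraMap C A)))
    Ideal.Quotient.mk_surjective Ideal.mk_ker r φ₀ h₀ h1 h2

end Groth.Agent.H6.HBInd
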