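import Mathlib
import Groth.Agent.S17959
import Groth.Agent.Lib.Helper8.HensPair.Radical
import Groth.Agent.Lib.Helper6.HC2

set_option autoImplicit false
universe u
open CategoryTheory CategoryTheory.Limits AlgebraicGeometry

namespace Groth.Agent.H6.HC

/-- the quotient square is a pushout -/
lemma isPushout_quot {A B : CommRingCat.{u}} (ψ : A ⟶ B) (I : Ideal A) :
    IsPushout ψ (CommRingCat.ofHom (Ideal.Quotient.mk I))
      (CommRingCat.ofHom (Ideal.Quotient.mk (I.map ψ.hom)))
      (CommRingCat.ofHom (Ideal.quotientMap (I.map ψ.hom) ψ.hom Ideal.le_comap_map)) := by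
  have w : ψ ≫ CommRingCat.ofHom (Ideal.Quotient.mk (I.map ψ.hom)) =
      CommRingCat.ofHom (Ideal.Quotient.mk I) ≫
        CommRingCat.ofHom (Ideal.quotientMap (I.map ψ.hom) ψ.hom Ideal.le_comap_map) := by
    ext a
    simp
  refine ⟨⟨w⟩, ⟨PushoutCocone.IsColimit.mk _ (fun s => CommRingCat.ofHom
    (Ideal.Quotient.lift (I.map ψ.hom) s.inl.hom ?_)) ?_ ?_ ?_⟩⟩
  · intro b hb
    have hle : I.map ψ.hom ≤ RingHom.ker s.inl.hom := by
      rw [Ideal.map_le_iff_le_comap]
      intro a ha
      rw [Ideal.mem_comap, RingHom.mem_ker]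
      have := congrArg (fun φ => φ.hom a) s.condition
      simp only [CommRingCat.hom_comp, RingHom.coe_comp, Function.comp_apply,
        CommRingCat.hom_ofHom] at this
      rw [this, Ideal.Quotient.eq_zero_iff_mem.mpr ha, map_zero]
    exact hle hb
  · intro s
    ext b
    simp
  · intro s
    ext a
    have := congrArg (fun φ => φ.hom a) s.condition
    simp only [CommRingCat.hom_comp, RingHom.coe_comp, Function.comp_apply,
      CommRingCat.hom_ofHom] at this
    simp [this]
  · intro s m h1 _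
    ext b
    have := congrArg (fun φ => φ.hom b) h1
    simp only [CommRingCat.hom_comp, RingHom.coe_comp, Function.comp_apply,
      CommRingCat.hom_ofHom] at this
    simp [this]

theorem s17965 (A : Type u) [CommRing A] [IsNoetherianRing A] (I : Ideal A) {X : Scheme.{u}}
    (f : X ⟶ Spec (CommRingCat.of A)) [IsProper f]
    (hX : ∀ (Y : Scheme.{u}) (g : Y ⟶ X), IsFinite g →
      ∀ V : Set ↥(pullback g (pullback.fst f (Spec.map (CommRingCat.ofHom (Ideal.Quotient.mk I))))),
        IsClopen V →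
        ∃! U : Set ↥Y, IsClopen U ∧ (pullback.fst g (pullback.fst f
          (Spec.map (CommRingCat.ofHom (Ideal.Quotient.mk I))))).base ⁻¹' U = V) :
    ∃ (A' : Type u) (_ : CommRing A') (I' : Ideal A') (_ : HenselianRing A' I')
      (_ : IsNoetherianRing A')
      (f' : X ⟶ Spec (CommRingCat.of A')) (_ : IsProper f')
      (t : pullback f (Spec.map (CommRingCat.ofHom (Ideal.Quotient.mk I))) ⟶
        Spec (CommRingCat.of (A' ⧸ I'))),
      IsPullback (pullback.fst f (Spec.map (CommRingCat.ofHom (Ideal.Quotient.mk I)))) t f'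
        (Spec.map (CommRingCat.ofHom (Ideal.Quotient.mk I'))) := by
  have hcl : IsClosedImmersion (Spec.map (CommRingCat.ofHom (Ideal.Quotient.mk I))) :=
    IsClosedImmersion.spec_of_surjective _ Ideal.Quotient.mk_surjective
  let π := Spec.map (CommRingCat.ofHom (Ideal.Quotient.mk I))
  let iX := pullback.fst f π
  let J := RingHom.ker iX.appTop.hom
  let ψ : CommRingCat.of A ⟶ Γ(X, ⊤) := (Scheme.ΓSpecIso (CommRingCat.of A)).inv ≫ f.appTop
  have hfac : f = X.toSpecΓ ≫ Spec.map ψ := by
    rw [Spec.map_comp, ← Category.assoc, ← Scheme.toSpecΓ_naturality, Category.assoc,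
      toSpecΓ_SpecMap_ΓSpecIso_inv, Category.comp_id]
  have hprop : IsProper (X.toSpecΓ ≫ Spec.map ψ) := by rw [← hfac]; infer_instance
  have hprop' : IsProper X.toSpecΓ := IsProper.of_comp X.toSpecΓ (Spec.map ψ)
  have hfinB : ψ.hom.Finite := by
    have h1 := Groth.Agent.LD.Stein.finite_app_of_isProper f finCoh.{u} ⊤ (isAffineOpen_top _)
    have h2 : (Scheme.ΓSpecIso (CommRingCat.of A)).inv.hom.Finite :=
      RingHom.Finite.of_surjective _
        (ConcreteCategory.bijective_of_isIso (Scheme.ΓSpecIso (CommRingCat.of A)).inv).2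
    exact RingHom.Finite.comp h1 h2
  have hNB : IsNoetherianRing (Γ(X, ⊤) : Type u) := by
    let _ := ψ.hom.toAlgebra
    have : Module.Finite A Γ(X, ⊤) := hfinB
    exact IsNoetherianRing.of_finite A Γ(X, ⊤)
  have hψI : ∀ a ∈ I, ψ.hom a ∈ J := by
    intro a ha
    rw [RingHom.mem_ker]
    have hcond : iX ≫ f = pullback.snd f π ≫ π := pullback.condition
    have e1 : f.appTop ≫ iX.appTop = π.appTop ≫ (pullback.snd f π).appTop := by
      rw [← Scheme.Hom.comp_appTop, ← Scheme.Hom.comp_appTop, hcond]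
    have e2 : ψ ≫ iX.appTop = CommRingCat.ofHom (Ideal.Quotient.mk I) ≫
        (Scheme.ΓSpecIso _).inv ≫ (pullback.snd f π).appTop := by
      change ((Scheme.ΓSpecIso (CommRingCat.of A)).inv ≫ f.appTop) ≫ iX.appTop = _
      rw [Category.assoc, e1, ← Category.assoc, ← Scheme.ΓSpecIso_inv_naturality, Category.assoc]
    have e3 := congrArg (fun φ => φ.hom a) e2
    simp only [CommRingCat.hom_comp, RingHom.coe_comp, Function.comp_apply,
      CommRingCat.hom_ofHom] at e3
    rw [e3, Ideal.Quotient.eq_zero_iff_mem.mpr ha, map_zero, map_zero]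
  -- henselian
  have hcX : CompactSpace X := QuasiCompact.compactSpace_of_compactSpace f
  have hqX : QuasiSeparatedSpace X := quasiSeparatedSpace_of_quasiSeparated f
  have hHJ : HenselianRing (Γ(X, ⊤) : Type u) J := Groth.Agent.S17959.result iX hX
  have hle : I.map ψ.hom ≤ J := Ideal.map_le_iff_le_comap.mpr fun a ha => hψI a ha
  have hHI' : HenselianRing (Γ(X, ⊤) : Type u) (I.map ψ.hom) :=
    Groth.Agent.H8.HensPair.henselianRing_of_le hle
  -- the bottom pullback square
  have hbot := isPullback_SpecMap_of_isPushout _ _ _ _ (isPushout_quot ψ I)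
  have hw : (iX ≫ X.toSpecΓ) ≫ Spec.map ψ = pullback.snd f π ≫ π := by
    rw [Category.assoc, ← hfac]
    exact pullback.condition
  let t := hbot.lift (iX ≫ X.toSpecΓ) (pullback.snd f π) hw
  refine ⟨(Γ(X, ⊤) : Type u), inferInstance, I.map ψ.hom, hHI', hNB, X.toSpecΓ, hprop', t, ?_⟩
  refine IsPullback.of_bot ?_ (hbot.lift_fst _ _ hw).symm hbot
  rw [hbot.lift_snd, ← hfac]
  exact IsPullback.of_hasPullback f π

end Groth.Agent.H6.HC
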