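import Mathlib
import Groth.Agent.Lib.Helper6.HC2

/-! S13506: connected components of a proper scheme over a complete Noetherian ring and of its
closed fibre. -/

set_option autoImplicit false
universe u
open CategoryTheory CategoryTheory.Limits AlgebraicGeometry TopologicalSpace

namespace Groth.Agent.H6.HC

/-- In a Noetherian space connected components are open. -/
lemma isOpen_connectedComponent_of_noetherian {α : Type*} [TopologicalSpace α] [NoetherianSpace α]
    (x : α) : IsOpen (connectedComponent x) := by
  have hfin := NoetherianSpace.finite_irreducibleComponents (α := α)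
  have hc : (connectedComponent x)ᶜ =
      ⋃ Z ∈ {Z ∈ irreducibleComponents α | ¬ Z ⊆ connectedComponent x}, Z := by
    ext y
    simp only [Set.mem_compl_iff, Set.mem_iUnion, Set.mem_ofPred_eq, exists_prop]
    constructor
    · intro hy
      exact ⟨irreducibleComponent y, ⟨irreducibleComponent_mem_irreducibleComponents y,
        fun h => hy (h mem_irreducibleComponent)⟩, mem_irreducibleComponent⟩
    · rintro ⟨Z, ⟨hZ, hZx⟩, hyZ⟩ hy
      apply hZx
      have hpre : IsPreconnected Z := hZ.1.2.isPreconnected
      have h1 : Z ⊆ connectedComponent y := hpre.subset_connectedComponent hyZ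
      rwa [← connectedComponent_eq hy] at h1
  rw [← isClosed_compl_iff, hc]
  exact (hfin.subset (fun Z hZ => hZ.1)).isClosed_biUnion
    (fun Z hZ => isClosed_of_mem_irreducibleComponents Z hZ.1)

lemma isClopen_connectedComponent_of_noetherian {α : Type*} [TopologicalSpace α]
    [NoetherianSpace α] (x : α) : IsClopen (connectedComponent x) :=
  ⟨isClosed_connectedComponent, isOpen_connectedComponent_of_noetherian x⟩

/-- topological core: unique lifting of clopens between Noetherian spaces gives a bijection on
connected components. -/
lemma connectedComponentsMap_bijective_of_clopen_lift {α β : Type*} [TopologicalSpace α]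
    [TopologicalSpace β] [NoetherianSpace α] [NoetherianSpace β] {j : α → β} (hj : Continuous j)
    (H : ∀ V : Set α, IsClopen V → ∃! U : Set β, IsClopen U ∧ j ⁻¹' U = V) :
    Function.Bijective hj.connectedComponentsMap := by
  constructor
  · intro a b hab
    obtain ⟨x, rfl⟩ := ConnectedComponents.surjective_coe a
    obtain ⟨y, rfl⟩ := ConnectedComponents.surjective_coe b
    rw [Continuous.connectedComponentsMap_mk, Continuous.connectedComponentsMap_mk,
      ConnectedComponents.coe_eq_coe'] at hab
    obtain ⟨U, ⟨hU, hUV⟩, -⟩ := H (connectedComponent x)
      (isClopen_connectedComponent_of_noetherian x)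
    have hx : j x ∈ U := by
      have : x ∈ j ⁻¹' U := by rw [hUV]; exact mem_connectedComponent
      exact this
    have hsub : connectedComponent (j x) ⊆ U := hU.connectedComponent_subset hx
    have hy : j y ∈ U := by
      have h1 : j x ∈ connectedComponent (j y) := hab
      have h2 : j y ∈ connectedComponent (j x) := by
        rw [← connectedComponent_eq h1]; exact mem_connectedComponent
      exact hsub h2
    have hy' : y ∈ connectedComponent x := by
      have : y ∈ j ⁻¹' U := hy
      rwa [hUV] at this
    rw [ConnectedComponents.coe_eq_coe']
    have h3 : x ∈ connectedComponent y := by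
      rw [← connectedComponent_eq hy']; exact mem_connectedComponent
    exact h3
  · intro c
    obtain ⟨z, rfl⟩ := ConnectedComponents.surjective_coe c
    have hC := isClopen_connectedComponent_of_noetherian z
    by_cases hne : (j ⁻¹' connectedComponent z).Nonempty
    · obtain ⟨x, hx⟩ := hne
      refine ⟨(x : ConnectedComponents α), ?_⟩
      rw [Continuous.connectedComponentsMap_mk, ConnectedComponents.coe_eq_coe']
      exact hx
    · exfalso
      rw [Set.not_nonempty_iff_eq_empty] at hne
      obtain ⟨U, -, huniq⟩ := H ∅ isClopen_empty
      have h1 : connectedComponent z = U := huniq _ ⟨hC, hne⟩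
      have h2 : (∅ : Set β) = U := huniq _ ⟨isClopen_empty, Set.preimage_empty⟩
      have : z ∈ (∅ : Set β) := by rw [h2, ← h1]; exact mem_connectedComponent
      exact this

/-- **S13506**. -/
theorem s13506 (A : Type u) [CommRing A] [IsNoetherianRing A] (I : Ideal A) [IsAdicComplete I A]
    {X : Scheme.{u}} (f : X ⟶ Spec (CommRingCat.of A)) [IsProper f] :
    Function.Bijective
      (Continuous.connectedComponentsMap
        (pullback.fst f (Spec.map (CommRingCat.ofHom (Ideal.Quotient.mk I)))).continuous) := by
  haveI : HenselianRing A I := inferInstance
  haveI hcl : IsClosedImmersion (Spec.map (CommRingCat.ofHom (Ideal.Quotient.mk I))) :=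
    IsClosedImmersion.spec_of_surjective _ Ideal.Quotient.mk_surjective
  haveI : IsLocallyNoetherian X := LocallyOfFiniteType.isLocallyNoetherian f
  haveI : CompactSpace X := QuasiCompact.compactSpace_of_compactSpace f
  haveI : IsNoetherian X := ⟨⟩
  haveI : NoetherianSpace X := inferInstance
  haveI : NoetherianSpace ↥(pullback f (Spec.map (CommRingCat.ofHom (Ideal.Quotient.mk I)))) :=
    (pullback.fst f (Spec.map (CommRingCat.ofHom
      (Ideal.Quotient.mk I)))).isClosedEmbedding.isInducing.noetherianSpace
  refine connectedComponentsMap_bijective_of_clopen_lift _ ?_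
  intro V hV
  exact couple_of_proper A I f (pullback.fst f (Spec.map (CommRingCat.ofHom (Ideal.Quotient.mk I))))
    (by rw [Scheme.Pullback.range_fst]) V hV

end Groth.Agent.H6.HC
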