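import Mathlib

/-! Element-level access to homology of complexes of abelian groups. -/

set_option autoImplicit false
universe u
open CategoryTheory CategoryTheory.Limits HomologicalComplex

namespace Groth.Agent.H6.HEAb

variable {ι : Type*} {c : ComplexShape ι}
  (K : HomologicalComplex AddCommGrpCat.{u} c) (i j k : ι)

theorem iCycles_injective : Function.Injective (K.iCycles j) :=
  (AddCommGrpCat.mono_iff_injective _).mp inferInstance

theorem homologyπ_surjective : Function.Surjective (K.homologyπ j) :=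
  (AddCommGrpCat.epi_iff_surjective _).mp inferInstance

theorem exists_cycle (hk : c.next j = k) (z : K.X j) (hz : K.d j k z = 0) :
    ∃ y : K.cycles j, K.iCycles j y = z := by
  let S : ShortComplex AddCommGrpCat.{u} := ShortComplex.mk (K.iCycles j) (K.d j k) (by simp)
  have hS : S.Exact := ShortComplex.exact_of_f_is_kernel S (K.cyclesIsKernel j k hk)
  exact (ShortComplex.ab_exact_iff S).mp hS z hz

theorem homologyπ_eq_zero_iff (hi : c.prev j = i) (y : K.cycles j) :
    K.homologyπ j y = 0 ↔ ∃ b : K.X i, K.toCycles i j b = y := by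
  let S : ShortComplex AddCommGrpCat.{u} :=
    ShortComplex.mk (K.toCycles i j) (K.homologyπ j) (by simp)
  have hS : S.Exact := ShortComplex.exact_of_g_is_cokernel S (K.homologyIsCokernel i j hi)
  constructor
  · intro h
    exact (ShortComplex.ab_exact_iff S).mp hS y h
  · rintro ⟨b, rfl⟩
    exact ShortComplex.ab_zero_apply S b

theorem iCycles_toCycles (b : K.X i) : K.iCycles j (K.toCycles i j b) = K.d i j b := by
  rw [← ConcreteCategory.comp_apply, K.toCycles_i]

theorem d_iCycles (y : K.cycles j) : K.d j k (K.iCycles j y) = 0 := by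
  rw [← ConcreteCategory.comp_apply, K.iCycles_d]; rfl

/-- The cycle with given underlying element. -/
noncomputable def cycleOf (hk : c.next j = k) (z : K.X j) (hz : K.d j k z = 0) : K.cycles j :=
  (exists_cycle K j k hk z hz).choose

@[simp] theorem iCycles_cycleOf (hk : c.next j = k) (z : K.X j) (hz : K.d j k z = 0) :
    K.iCycles j (cycleOf K j k hk z hz) = z :=
  (exists_cycle K j k hk z hz).choose_spec

theorem cycleOf_iCycles (hk : c.next j = k) (y : K.cycles j) :
    cycleOf K j k hk (K.iCycles j y) (d_iCycles K j k y) = y :=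
  iCycles_injective K j (iCycles_cycleOf K j k hk _ _)

/-- The homology class of a cycle element. -/
noncomputable def classOf (hk : c.next j = k) (z : K.X j) (hz : K.d j k z = 0) : K.homology j :=
  K.homologyπ j (cycleOf K j k hk z hz)

theorem classOf_surjective (hk : c.next j = k) (h : K.homology j) :
    ∃ (z : K.X j) (hz : K.d j k z = 0), classOf K j k hk z hz = h := by
  obtain ⟨y, rfl⟩ := homologyπ_surjective K j h
  refine ⟨K.iCycles j y, d_iCycles K j k y, ?_⟩
  unfold classOf
  rw [cycleOf_iCycles]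

theorem classOf_eq_iff (hi : c.prev j = i) (hk : c.next j = k) (z z' : K.X j)
    (hz : K.d j k z = 0) (hz' : K.d j k z' = 0) :
    classOf K j k hk z hz = classOf K j k hk z' hz' ↔ ∃ b : K.X i, K.d i j b = z - z' := by
  unfold classOf
  rw [← sub_eq_zero, ← map_sub, homologyπ_eq_zero_iff K i j hi]
  constructor
  · rintro ⟨b, hb⟩
    refine ⟨b, ?_⟩
    rw [← iCycles_toCycles, hb, map_sub, iCycles_cycleOf, iCycles_cycleOf]
  · rintro ⟨b, hb⟩
    refine ⟨b, ?_⟩
    apply iCycles_injective K j
    rw [iCycles_toCycles, hb, map_sub, iCycles_cycleOf, iCycles_cycleOf]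

variable {K} in
theorem homologyMap_classOf {K' : HomologicalComplex AddCommGrpCat.{u} c} (φ : K ⟶ K')
    (hk : c.next j = k) (z : K.X j) (hz : K.d j k z = 0)
    (hz' : K'.d j k (φ.f j z) = 0) :
    homologyMap φ j (classOf K j k hk z hz) = classOf K' j k hk (φ.f j z) hz' := by
  unfold classOf
  rw [← ConcreteCategory.comp_apply, homologyπ_naturality, ConcreteCategory.comp_apply]
  congr 1
  apply iCycles_injective K' j
  rw [← ConcreteCategory.comp_apply, cyclesMap_i, ConcreteCategory.comp_apply]
  simp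

variable {K} in
theorem map_cycle {K' : HomologicalComplex AddCommGrpCat.{u} c} (φ : K ⟶ K')
    (z : K.X j) (hz : K.d j k z = 0) : K'.d j k (φ.f j z) = 0 := by
  rw [← ConcreteCategory.comp_apply, φ.comm, ConcreteCategory.comp_apply, hz, map_zero]

variable {K} in
/-- element-level criterion for a quasi-isomorphism -/
theorem quasiIso_of_elts {K' : HomologicalComplex AddCommGrpCat.{u} c} (φ : K ⟶ K')
    (hsurj : ∀ j, ∀ z' : K'.X j, K'.d j (c.next j) z' = 0 →
      ∃ z : K.X j, K.d j (c.next j) z = 0 ∧
        ∃ b : K'.X (c.prev j), K'.d (c.prev j) j b = φ.f j z - z')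
    (hinj : ∀ j, ∀ z : K.X j, K.d j (c.next j) z = 0 →
      (∃ b' : K'.X (c.prev j), K'.d (c.prev j) j b' = φ.f j z) →
        ∃ b : K.X (c.prev j), K.d (c.prev j) j b = z) : QuasiIso φ := by
  rw [quasiIso_iff]
  intro j
  rw [quasiIsoAt_iff_isIso_homologyMap, ConcreteCategory.isIso_iff_bijective]
  constructor
  · rw [injective_iff_map_eq_zero]
    intro h hh
    obtain ⟨z, hz, rfl⟩ := classOf_surjective K j (c.next j) rfl h
    rw [homologyMap_classOf j (c.next j) φ rfl z hz (map_cycle j (c.next j) φ z hz)] at hh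
    have h0 : classOf K' j (c.next j) rfl 0 (map_zero _) = 0 := by
      unfold classOf
      have : cycleOf K' j (c.next j) rfl 0 (map_zero _) = 0 := by
        apply iCycles_injective K' j
        rw [iCycles_cycleOf, map_zero]
      rw [this, map_zero]
    rw [← h0, classOf_eq_iff K' (c.prev j) j (c.next j) rfl rfl] at hh
    obtain ⟨b', hb'⟩ := hh
    rw [sub_zero] at hb'
    obtain ⟨b, hb⟩ := hinj j z hz ⟨b', hb'⟩
    have h0' : classOf K j (c.next j) rfl 0 (map_zero _) = 0 := by
      unfold classOf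
      have : cycleOf K j (c.next j) rfl 0 (map_zero _) = 0 := by
        apply iCycles_injective K j
        rw [iCycles_cycleOf, map_zero]
      rw [this, map_zero]
    rw [← h0', classOf_eq_iff K (c.prev j) j (c.next j) rfl rfl]
    exact ⟨b, by rw [hb, sub_zero]⟩
  · intro h'
    obtain ⟨z', hz', rfl⟩ := classOf_surjective K' j (c.next j) rfl h'
    obtain ⟨z, hz, b, hb⟩ := hsurj j z' hz'
    refine ⟨classOf K j (c.next j) rfl z hz, ?_⟩
    rw [homologyMap_classOf j (c.next j) φ rfl z hz (map_cycle j (c.next j) φ z hz),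
      classOf_eq_iff K' (c.prev j) j (c.next j) rfl rfl]
    exact ⟨b, hb⟩

/-- cycles of a chain complex indexed by `ℕ`, in elementary terms -/
def IsCyc (K : ChainComplex AddCommGrpCat.{u} ℕ) : (n : ℕ) → K.X n → Prop
  | 0, _ => True
  | (m + 1), z => K.d (m + 1) m z = 0

theorem isCyc_iff (K : ChainComplex AddCommGrpCat.{u} ℕ) (n : ℕ) (z : K.X n) :
    IsCyc K n z ↔ K.d n ((ComplexShape.down ℕ).next n) z = 0 := by
  cases n with
  | zero =>
    simp only [IsCyc, true_iff]
    rw [K.shape 0 _ (by simp)]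
    rfl
  | succ m =>
    rw [ChainComplex.next_nat_succ]
    rfl

theorem quasiIso_of_elts_nat {K K' : ChainComplex AddCommGrpCat.{u} ℕ} (φ : K ⟶ K')
    (hsurj : ∀ n (z' : K'.X n), IsCyc K' n z' →
      ∃ z, IsCyc K n z ∧ ∃ b : K'.X (n + 1), K'.d (n + 1) n b = φ.f n z - z')
    (hinj : ∀ n (z : K.X n), IsCyc K n z → (∃ b' : K'.X (n + 1), K'.d (n + 1) n b' = φ.f n z) →
      ∃ b : K.X (n + 1), K.d (n + 1) n b = z) : QuasiIso φ := by
  apply quasiIso_of_elts
  · intro j z' hz'
    have hp : (ComplexShape.down ℕ).prev j = j + 1 := ChainComplex.prev ℕ j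
    rw [hp]
    obtain ⟨z, hz, hb⟩ := hsurj j z' ((isCyc_iff K' j z').2 hz')
    exact ⟨z, (isCyc_iff K j z).1 hz, hb⟩
  · intro j z hz
    have hp : (ComplexShape.down ℕ).prev j = j + 1 := ChainComplex.prev ℕ j
    rw [hp]
    intro hb'
    exact hinj j z ((isCyc_iff K j z).2 hz) hb'

end Groth.Agent.H6.HEAb
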