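import Mathlib

set_option autoImplicit false
universe u

namespace Groth.Agent.H6.HOne

open Polynomial

section Field

variable {A : Type u} {F : Type u} [CommRing A] [Field F] [Algebra A F]

/-- If `x⁻¹ * d = s` with `d ∈ A[x⁻¹]`, then `s x` is integral over `A`. -/
theorem isIntegral_of_inv_mul_mem {x : F} (hx : x ≠ 0) {s : A} (hs : s ≠ 0) {d : F}
    (hd : d ∈ Algebra.adjoin A {x⁻¹}) (h : x⁻¹ * d = algebraMap A F s) :
    IsIntegral A (algebraMap A F s * x) := by
  rw [Algebra.adjoin_singleton_eq_range_aeval] at hd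
  obtain ⟨p, rfl⟩ := hd
  set g : A[X] := X * p - C s with hg
  have hg0 : eval₂ (algebraMap A F) x⁻¹ g = 0 := by
    have : aeval x⁻¹ g = 0 := by
      simp only [hg, map_sub, map_mul, aeval_X, aeval_C]
      rw [sub_eq_zero]
      exact h
    exact this
  have hc0 : g.coeff 0 = -s := by simp [hg]
  have hc0' : g.coeff 0 ≠ 0 := by rw [hc0]; exact neg_ne_zero.mpr hs
  have htd : g.natTrailingDegree = 0 := natTrailingDegree_eq_zero.mpr (Or.inr hc0')
  have hlead : g.reverse.leadingCoeff = -s := by
    rw [reverse_leadingCoeff, trailingCoeff, htd, hc0]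
  letI : Invertible x⁻¹ := invertibleOfNonzero (inv_ne_zero hx)
  have h1 : eval₂ (algebraMap A F) x g.reverse = 0 := by
    have := (eval₂_reverse_eq_zero_iff (algebraMap A F) x⁻¹ g).mpr hg0
    rwa [invOf_eq_inv, inv_inv] at this
  have h2 : IsIntegral A (g.reverse.leadingCoeff • x) :=
    isIntegral_leadingCoeff_smul g.reverse x h1
  rw [hlead, Algebra.smul_def, map_neg, neg_mul] at h2
  simpa using h2.neg

/-- If `f x` is integral over `A` then a power of `f` lies in `x⁻¹ A[x⁻¹]`. -/
theorem exists_pow_mem_span_inv {x : F} (hx : x ≠ 0) {f : A}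
    (hf : IsIntegral A (algebraMap A F f * x)) :
    ∃ n : ℕ, (algebraMap A (Algebra.adjoin A {x⁻¹}) f) ^ n ∈
      Ideal.span {(⟨x⁻¹, Algebra.subset_adjoin rfl⟩ : Algebra.adjoin A {x⁻¹})} := by
  obtain ⟨P, hPm, hP0⟩ := hf
  set D := Algebra.adjoin A {x⁻¹} with hD
  set yD : D := ⟨x⁻¹, Algebra.subset_adjoin rfl⟩ with hyD
  set PD : D[X] := P.map (algebraMap A D) with hPD
  have hPDm : PD.Monic := hPm.map _
  set G : D[X] := scaleRoots PD yD with hG
  have hGm : G.Monic := (monic_scaleRoots_iff yD).mpr hPDm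
  have hGE : G.IsWeaklyEisensteinAt (Ideal.span {yD}) :=
    scaleRoots.isWeaklyEisensteinAt PD (Ideal.mem_span_singleton_self yD)
  have hroot : IsRoot G (algebraMap A D f) := by
    rw [IsRoot.def]
    apply (FaithfulSMul.algebraMap_injective D F)
    rw [map_zero, ← eval₂_at_apply]
    have h1 := scaleRoots_eval₂_mul (p := PD) (algebraMap D F) (algebraMap A F f * x) yD
    have h2 : (algebraMap D F) yD * (algebraMap A F f * x) =
        algebraMap D F (algebraMap A D f) := by
      have : (algebraMap D F) yD = x⁻¹ := rfl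
      rw [this, ← IsScalarTower.algebraMap_apply]
      field_simp
    rw [h2] at h1
    rw [h1]
    have h3 : eval₂ (algebraMap D F) (algebraMap A F f * x) PD = 0 := by
      rw [hPD, eval₂_map, ← IsScalarTower.algebraMap_eq]
      exact hP0
    rw [h3, mul_zero]
  exact ⟨G.natDegree, hGE.pow_natDegree_le_of_root_of_monic_mem hroot hGm _ le_rfl⟩

end Field

end Groth.Agent.H6.HOne
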