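import Mathlib
import Groth.Agent.Lib.Helper6.HOne1

/-!
# Integral closure as an intersection of height-one localisations: auxiliary lemmas
-/

set_option autoImplicit false
universe u

namespace Groth.Agent.H6.HOne

open Polynomial

section Prime



variable {A : Type u} [CommRing A] [IsDomain A] [IsNoetherianRing A]

set_option maxHeartbeats 1000000 in
/-- Existence of a height-one prime `Q` of `D = A[x⁻¹]` containing `x⁻¹`, lying over a minimal
prime `m` of the conductor of `x` into the integral closure. -/
theorem exists_prime_adjoin_inv (x : FractionRing A)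
    (hxn : x ∉ integralClosure A (FractionRing A)) :
    ∃ (m : Ideal A) (_ : m.IsPrime) (Q : Ideal (Algebra.adjoin A {x⁻¹})) (_ : Q.IsPrime),
      (∀ s : A, algebraMap A (FractionRing A) s * x ∈ integralClosure A (FractionRing A) → s ∈ m) ∧
      Q.height = 1 ∧ Q.comap (algebraMap A (Algebra.adjoin A {x⁻¹})) = m ∧
      (⟨x⁻¹, Algebra.subset_adjoin rfl⟩ : Algebra.adjoin A {x⁻¹}) ∈ Q := by
  classical
  have hx0 : x ≠ 0 := fun h0 => hxn (h0 ▸ zero_mem _)
  -- the conductor ideal
  let I : Ideal A :=
    { carrier := {a | algebraMap A (FractionRing A) a * x ∈ integralClosure A (FractionRing A)}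
      add_mem' := fun {a b} ha hb => by
        show algebraMap A (FractionRing A) (a + b) * x ∈ integralClosure A (FractionRing A)
        rw [map_add, add_mul]
        exact add_mem ha hb
      zero_mem' := by
        show algebraMap A (FractionRing A) 0 * x ∈ integralClosure A (FractionRing A)
        rw [map_zero, zero_mul]
        exact zero_mem _
      smul_mem' := fun c a ha => by
        show algebraMap A (FractionRing A) (c • a) * x ∈ integralClosure A (FractionRing A)
        rw [smul_eq_mul, map_mul, mul_assoc]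
        exact mul_mem (algebraMap_mem _ c) ha }
  have hI1 : I ≠ ⊤ := by
    intro h
    have : (1 : A) ∈ I := h ▸ Submodule.mem_top
    have h1 : algebraMap A (FractionRing A) 1 * x ∈ integralClosure A (FractionRing A) := this
    rw [map_one, one_mul] at h1
    exact hxn h1
  obtain ⟨m, hm⟩ := Ideal.nonempty_minimalPrimes hI1
  haveI hmp : m.IsPrime := hm.1.1
  have hIm : I ≤ m := hm.1.2
  set D := Algebra.adjoin A {x⁻¹} with hD
  set yD : D := ⟨x⁻¹, Algebra.subset_adjoin rfl⟩ with hyD
  have hyD0 : yD ≠ 0 := by
    intro h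
    have : (yD : FractionRing A) = 0 := by rw [h]; rfl
    exact inv_ne_zero hx0 this
  haveI : Algebra.FiniteType A D :=
    (Subalgebra.fg_iff_finiteType _).mp (by
      have := Subalgebra.fg_adjoin_finset (R := A) ({x⁻¹} : Finset (FractionRing A))
      simpa using this)
  haveI : IsNoetherianRing D := Algebra.FiniteType.isNoetherianRing A D
  -- disjointness
  let M : Submonoid D := Algebra.algebraMapSubmonoid D m.primeCompl
  have hdisj : Disjoint ((Ideal.span {yD} : Ideal D) : Set D) (M : Set D) := by
    rw [Set.disjoint_left]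
    rintro z hz ⟨s, hs, rfl⟩
    obtain ⟨d, hd⟩ := Ideal.mem_span_singleton'.mp hz
    have hs0 : s ≠ 0 := fun h => hs (h ▸ zero_mem _)
    have h1 : x⁻¹ * (d : FractionRing A) = algebraMap A (FractionRing A) s := by
      have := congrArg (Subtype.val) hd
      rw [mul_comm]
      exact this
    have h2 := isIntegral_of_inv_mul_mem hx0 hs0 d.2 h1
    exact hs (hIm h2)
  obtain ⟨Q₁, hQ₁p, hQ₁le, hQ₁d⟩ := Ideal.exists_le_prime_disjoint (Ideal.span {yD}) M hdisj
  haveI := hQ₁p
  obtain ⟨Q, hQmin, hQle⟩ := Ideal.exists_minimalPrimes_le hQ₁le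
  haveI hQp : Q.IsPrime := hQmin.1.1
  have hyQ : yD ∈ Q := hQmin.1.2 (Ideal.mem_span_singleton_self yD)
  have hQht : Q.height = 1 := by
    have h1 : Q.height ≤ 1 :=
      Ideal.height_le_one_of_isPrincipal_of_mem_minimalPrimes (Ideal.span {yD}) Q hQmin
    have h2 : Q.height ≠ 0 := by
      rw [Ne, Ideal.height_eq_zero_iff_eq_bot]
      intro h
      rw [h] at hyQ
      exact hyD0 hyQ
    exact le_antisymm h1 (Order.one_le_iff_ne_zero.mpr h2)
  have hQm : Q.comap (algebraMap A D) = m := by
    apply le_antisymm
    · intro a ha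
      by_contra ham
      have h1 : algebraMap A D a ∈ (Q₁ : Set D) := hQle ha
      have h2 : algebraMap A D a ∈ (M : Set D) := ⟨a, ham, rfl⟩
      exact Set.disjoint_left.mp hQ₁d h1 h2
    · apply hm.2 ⟨Ideal.comap_isPrime _ _, ?_⟩
      · intro a ha
        by_contra ham
        have h1 : algebraMap A D a ∈ (Q₁ : Set D) := hQle ha
        have h2 : algebraMap A D a ∈ (M : Set D) := ⟨a, ham, rfl⟩
        exact Set.disjoint_left.mp hQ₁d h1 h2
      · intro f hf
        have hf' : IsIntegral A (algebraMap A (FractionRing A) f * x) := hf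
        obtain ⟨n, hn⟩ := exists_pow_mem_span_inv hx0 hf'
        have : (algebraMap A D f) ^ n ∈ Q := hQmin.1.2 hn
        exact hQp.mem_of_pow_mem n this
  exact ⟨m, hmp, Q, hQp, fun s hs => hIm hs, hQht, hQm, hyQ⟩


end Prime



section QF

variable {A D : Type u} [CommRing A] [CommRing D] [IsDomain D] [Algebra A D]
  [Algebra.FiniteType A D] [IsNoetherianRing D]

set_option maxHeartbeats 1000000 in
/-- Quasi-finiteness at a height-one prime `Q ∋ y` lying over a nonzero prime, when every element
of `D` is congruent to a constant modulo `y`. -/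
theorem quasiFiniteAt_of_const (hinj : Function.Injective (algebraMap A D)) (yD : D)
    (hconst : ∀ d : D, ∃ a : A, d - algebraMap A D a ∈ Ideal.span {yD})
    (m : Ideal A) [m.IsPrime] (hm0 : m ≠ ⊥)
    (Q : Ideal D) [hQp : Q.IsPrime] (hQht : Q.height = 1)
    (hQm : Q.comap (algebraMap A D) = m) (hyQ : yD ∈ Q) :
    Algebra.QuasiFiniteAt A Q := by
  classical
  set mD : Ideal D := m.map (algebraMap A D) with hmD
  have hmD0 : mD ≠ ⊥ := by
    intro h
    apply hm0
    rw [eq_bot_iff]
    intro a ha
    have : algebraMap A D a ∈ mD := Ideal.mem_map_of_mem _ ha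
    rw [h, Ideal.mem_bot] at this
    rw [Ideal.mem_bot]
    exact hinj (this.trans (map_zero _).symm)
  have hmDQ : mD ≤ Q := by
    rw [hmD, Ideal.map_le_iff_le_comap, hQm]
  -- `Q` is a minimal prime of `m D`
  have hQmin : Q ∈ mD.minimalPrimes := by
    haveI : Q.FiniteHeight := ⟨Or.inr (by rw [hQht]; exact ENat.one_ne_top)⟩
    apply Ideal.mem_minimalPrimes_of_height_le hmDQ
    rw [hQht]
    apply Order.one_le_iff_ne_zero.mpr
    rw [Ne, Ideal.height_eq_zero_iff_eq_bot]
    exact hmD0
  have hfin : mD.minimalPrimes.Finite := Ideal.finite_minimalPrimes_of_isNoetherianRing D mD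
  set Fs : Finset (Ideal D) := hfin.toFinset.erase Q with hFs
  have hnle : ¬ (Fs.inf id ≤ Q) := by
    intro hle
    obtain ⟨Qi, hQi, hQiQ⟩ := (Ideal.IsPrime.inf_le' hQp).mp hle
    rw [hFs, Finset.mem_erase, Set.Finite.mem_toFinset] at hQi
    have : Q ≤ Qi := hQmin.2 hQi.2.1 hQiQ
    exact hQi.1 (le_antisymm hQiQ this)
  obtain ⟨s, hsF, hsQ⟩ := SetLike.not_le_iff_exists.mp hnle
  -- the point
  let q : PrimeSpectrum D := ⟨Q, hQp⟩
  apply Algebra.QuasiFiniteAt.of_isOpen_singleton_fiber q
  rw [isOpen_induced_iff]
  refine ⟨PrimeSpectrum.basicOpen s, (PrimeSpectrum.basicOpen s).2, ?_⟩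
  ext ⟨q', hq'⟩
  simp only [Set.mem_preimage, Set.mem_singleton_iff, Subtype.mk.injEq]
  constructor
  · intro hsq'
    have hsq'' : s ∉ q'.asIdeal := hsq'
    have hq'm : q'.asIdeal.comap (algebraMap A D) = m := by
      have := congrArg PrimeSpectrum.asIdeal hq'
      simp only [PrimeSpectrum.comap_asIdeal] at this
      rw [this]
      exact hQm
    have hmDq' : mD ≤ q'.asIdeal := by
      rw [hmD, Ideal.map_le_iff_le_comap, hq'm]
    obtain ⟨Qi, hQi, hQiq'⟩ := Ideal.exists_minimalPrimes_le hmDq'
    have hQiQ : Qi = Q := by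
      by_contra hne
      have : Qi ∈ Fs := by
        rw [hFs, Finset.mem_erase, Set.Finite.mem_toFinset]
        exact ⟨hne, hQi⟩
      have h1 : Fs.inf id ≤ Qi := Finset.inf_le (f := id) this
      exact hsq'' (hQiq' (h1 hsF))
    rw [hQiQ] at hQiq'
    apply PrimeSpectrum.ext
    apply le_antisymm _ hQiq'
    intro d hd
    obtain ⟨a, ha⟩ := hconst d
    have hyq' : Ideal.span {yD} ≤ Q := by
      rw [Ideal.span_le, Set.singleton_subset_iff]
      exact hyQ
    have h1 : d - algebraMap A D a ∈ q'.asIdeal := hQiq' (hyq' ha)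
    have h2 : algebraMap A D a ∈ q'.asIdeal := by
      have := q'.asIdeal.sub_mem hd h1
      simpa using this
    have h3 : a ∈ m := by
      rw [← hq'm]
      exact h2
    have h4 : algebraMap A D a ∈ Q := by
      rw [← hQm] at h3
      exact h3
    have := Q.add_mem (hyq' ha) h4
    simpa using this
  · intro h
    rw [h]
    exact hsQ

end QF

section Const

variable {A : Type u} {F : Type u} [CommRing A] [Field F] [Algebra A F]

/-- Every element of `A[y]` is congruent to a constant modulo `y`. -/
theorem exists_sub_mem_span (y : F) (d : Algebra.adjoin A {y}) :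
    ∃ a : A, d - algebraMap A (Algebra.adjoin A {y}) a ∈
      Ideal.span {(⟨y, Algebra.subset_adjoin rfl⟩ : Algebra.adjoin A {y})} := by
  have hd : (d : F) ∈ (aeval y : A[X] →ₐ[A] F).range := by
    rw [← Algebra.adjoin_singleton_eq_range_aeval]
    exact d.2
  obtain ⟨p, hp⟩ := hd
  have hp' : (aeval y) p = (d : F) := hp
  refine ⟨p.coeff 0, ?_⟩
  rw [Ideal.mem_span_singleton']
  refine ⟨aeval (⟨y, Algebra.subset_adjoin rfl⟩ : Algebra.adjoin A {y}) p.divX, ?_⟩
  apply Subtype.ext
  have h0 : ((aeval (⟨y, Algebra.subset_adjoin rfl⟩ : Algebra.adjoin A {y}) p.divX :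
      Algebra.adjoin A {y}) : F) = aeval y p.divX := by
    have := Polynomial.aeval_algHom_apply (Algebra.adjoin A {y}).val
      (⟨y, Algebra.subset_adjoin rfl⟩ : Algebra.adjoin A {y}) p.divX
    exact this.symm
  have h1 : ((aeval (⟨y, Algebra.subset_adjoin rfl⟩ : Algebra.adjoin A {y}) p.divX *
      (⟨y, Algebra.subset_adjoin rfl⟩ : Algebra.adjoin A {y}) : Algebra.adjoin A {y}) : F) =
        aeval y p.divX * y := by
    rw [MulMemClass.coe_mul, h0]
  rw [h1]
  have h2 : ((d - algebraMap A (Algebra.adjoin A {y}) (p.coeff 0) : Algebra.adjoin A {y}) : F) =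
      (d : F) - algebraMap A F (p.coeff 0) := rfl
  rw [h2, ← hp']
  conv_rhs => rw [← Polynomial.divX_mul_X_add p]
  simp

end Const




section ZMT

variable {A D : Type u} [CommRing A] [CommRing D] [Algebra A D] [Algebra.FiniteType A D]

set_option maxHeartbeats 1000000 in
/-- Zariski's main theorem: at a quasi-finite prime `Q` there is a finite subalgebra `S'` such that
`Q ∩ S'` has the same height as `Q`. -/
theorem exists_fg_subalgebra_height_eq (Q : Ideal D) [hQp : Q.IsPrime]
    [Algebra.QuasiFiniteAt A Q] :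
    ∃ S' : Subalgebra A D, S'.toSubmodule.FG ∧ (Q.comap S'.val.toRingHom).height = Q.height := by
  obtain ⟨S', hfg, r, hrQ, hbij⟩ :=
    Algebra.QuasiFiniteAt.exists_fg_and_exists_notMem_and_awayMap_bijective (R := A) Q
  refine ⟨S', hfg, ?_⟩
  set ι : S' →+* D := S'.val.toRingHom with hι
  set r' : D := ι r with hr'
  have hdisjD : Disjoint ((Submonoid.powers r' : Submonoid D) : Set D) (Q : Set D) :=
    (Ideal.disjoint_powers_iff_notMem_of_isPrime r').mpr hrQ
  set Qr : Ideal (Localization.Away r') := Q.map (algebraMap D (Localization.Away r')) with hQr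
  haveI hQrp : Qr.IsPrime :=
    IsLocalization.isPrime_of_isPrime_disjoint (Submonoid.powers r') _ Q hQp hdisjD
  have hQr_comap : Qr.comap (algebraMap D (Localization.Away r')) = Q :=
    IsLocalization.comap_map_of_isPrime_disjoint (Submonoid.powers r') _ hQp hdisjD
  have hQr_ht : Qr.height = Q.height :=
    IsLocalization.height_map_of_disjoint (Submonoid.powers r') Q hdisjD
  let e : Localization.Away r ≃+* Localization.Away r' := RingEquiv.ofBijective _ hbij
  set P' : Ideal (Localization.Away r) := Qr.comap (e : Localization.Away r →+* _) with hP'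
  have hP'_ht : P'.height = Qr.height := RingEquiv.height_comap e Qr
  have hunder : P'.under S' = Q.comap ι := by
    have hcomm : (Localization.awayMap ι r).comp (algebraMap S' (Localization.Away r)) =
        (algebraMap D (Localization.Away r')).comp ι := by
      exact IsLocalization.map_comp _
    show (Qr.comap (e : Localization.Away r →+* _)).comap (algebraMap S' (Localization.Away r)) = _
    rw [Ideal.comap_comap]
    have : (e : Localization.Away r →+* Localization.Away r').comp
        (algebraMap S' (Localization.Away r)) = (algebraMap D (Localization.Away r')).comp ι :=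
      hcomm
    rw [this, ← Ideal.comap_comap, hQr_comap]
  have h1 : (P'.under S').height = P'.height :=
    IsLocalization.height_under (Submonoid.powers r) P'
  rw [← hunder, h1, hP'_ht, hQr_ht]

end ZMT


end Groth.Agent.H6.HOne
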