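import Mathlib
import Groth.Agent.Lib.Helper6.HOne2

set_option autoImplicit false
universe u

namespace Groth.Agent.H6.HOne

open Polynomial

variable {A : Type u} [CommRing A] [IsDomain A] [IsNoetherianRing A]

set_option maxHeartbeats 1000000 in
theorem mem_integralClosure_of_forall_heightOne
    (h : ∀ C : Subalgebra A (FractionRing A), C ≤ integralClosure A (FractionRing A) →
      Module.Finite A C →
      ∀ (q : Ideal C) [q.IsPrime], q.height = 1 → (q.comap (algebraMap A C)).height = 1)
    (x : FractionRing A)
    (hx : ∀ p : Ideal A, p.IsPrime → p.height = 1 → ∃ s : A, s ∉ p ∧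
      algebraMap A (FractionRing A) s * x ∈ integralClosure A (FractionRing A)) :
    x ∈ integralClosure A (FractionRing A) := by
  classical
  by_contra hxn
  have hx0 : x ≠ 0 := fun h0 => hxn (h0 ▸ zero_mem _)
  obtain ⟨m, hmp, Q, hQp, hcond, hQht, hQm, hyQ⟩ := exists_prime_adjoin_inv x hxn
  haveI := hmp
  haveI := hQp
  -- `m ≠ ⊥`
  have hm0 : m ≠ ⊥ := by
    obtain ⟨a, b, hb, hab⟩ := IsFractionRing.div_surjective (A := A) x
    have hb0 : b ≠ 0 := nonZeroDivisors.ne_zero hb
    have hbm : b ∈ m := by
      apply hcond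
      rw [← hab]
      have hb' : algebraMap A (FractionRing A) b ≠ 0 := by
        rw [Ne, map_eq_zero_iff _ (IsFractionRing.injective A (FractionRing A))]
        exact hb0
      rw [mul_div_cancel₀ _ hb']
      exact algebraMap_mem _ a
    intro h
    rw [h, Ideal.mem_bot] at hbm
    exact hb0 hbm
  -- `m` does not have height one
  have hmht : m.height ≠ 1 := by
    intro h1
    obtain ⟨s, hs, hsx⟩ := hx m hmp h1
    exact hs (hcond s hsx)
  haveI : Algebra.FiniteType A (Algebra.adjoin A {x⁻¹}) :=
    (Subalgebra.fg_iff_finiteType _).mp (by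
      have := Subalgebra.fg_adjoin_finset (R := A) ({x⁻¹} : Finset (FractionRing A))
      simpa using this)
  haveI : IsNoetherianRing (Algebra.adjoin A {x⁻¹}) := Algebra.FiniteType.isNoetherianRing A (Algebra.adjoin A {x⁻¹})
  have hinj : Function.Injective (algebraMap A (Algebra.adjoin A {x⁻¹})) := by
    intro a b hab
    apply IsFractionRing.injective A (FractionRing A)
    have := congrArg (algebraMap (Algebra.adjoin A {x⁻¹}) (FractionRing A)) hab
    rwa [← IsScalarTower.algebraMap_apply, ← IsScalarTower.algebraMap_apply] at this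
  haveI hqf : Algebra.QuasiFiniteAt A Q :=
    quasiFiniteAt_of_const hinj _ (exists_sub_mem_span x⁻¹) m hm0 Q hQht hQm hyQ
  obtain ⟨S', hfg, hht⟩ := exists_fg_subalgebra_height_eq (A := A) Q
  -- transport to a subalgebra of the fraction field
  set C : Subalgebra A (FractionRing A) := S'.map (Algebra.adjoin A {x⁻¹}).val with hC
  let e₂ : S' ≃ₐ[A] C := S'.equivMapOfInjective (Algebra.adjoin A {x⁻¹}).val Subtype.val_injective
  have hCle : C ≤ integralClosure A (FractionRing A) := by
    rintro _ ⟨s', hs', rfl⟩
    have : IsIntegral A s' := IsIntegral.of_mem_of_fg S' hfg s' hs'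
    exact this.map (Algebra.adjoin A {x⁻¹}).val
  haveI : Module.Finite A S' := ⟨(Submodule.fg_top _).mpr hfg⟩
  have hCfin : Module.Finite A C := Module.Finite.equiv e₂.toLinearEquiv
  set P := Q.comap S'.val.toRingHom with hP
  haveI : P.IsPrime := Ideal.comap_isPrime _ _
  set q := P.comap (e₂.symm : C →+* S') with hq
  haveI : q.IsPrime := Ideal.comap_isPrime _ _
  have hqht : q.height = 1 := by
    have := RingEquiv.height_comap (R := C) (S := S') (e₂.symm.toRingEquiv) P
    rw [← hQht, ← hht]
    exact this
  have hqm : q.comap (algebraMap A C) = m := by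
    rw [← hQm]
    ext a
    simp only [hq, hP, Ideal.mem_comap]
    have h1 : (e₂.symm : C →+* S') (algebraMap A C a) = algebraMap A S' a := by
      exact e₂.symm.commutes a
    rw [h1]
    rfl
  have := h C hCle hCfin q hqht
  rw [hqm] at this
  exact hmht this

end Groth.Agent.H6.HOne
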