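import Mathlib
import Groth.Agent.Lib.Helper6.HOne3

set_option autoImplicit false
universe u

namespace Groth.Agent.H6.HOne

variable {A : Type u} [CommRing A] [IsDomain A] [IsNoetherianRing A]

theorem s4568
    (h : ∀ C : Subalgebra A (FractionRing A), C ≤ integralClosure A (FractionRing A) → Module.Finite A C →
      ∀ (q : Ideal C) [q.IsPrime], q.height = 1 → (q.comap (algebraMap A C)).height = 1) :
    (integralClosure A (FractionRing A) : Set (FractionRing A)) =
      ⋂ (p : PrimeSpectrum A) (_ : p.asIdeal.height = 1),
        {x : FractionRing A | ∃ s : A, s ∉ p.asIdeal ∧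
          algebraMap A (FractionRing A) s * x ∈ integralClosure A (FractionRing A)} := by
  apply Set.Subset.antisymm
  · intro x hx
    simp only [Set.mem_iInter, Set.mem_setOf_eq]
    intro p _
    refine ⟨1, ?_, ?_⟩
    · exact fun h1 => p.2.ne_top ((Ideal.eq_top_iff_one _).mpr h1)
    · rw [map_one, one_mul]
      exact hx
  · intro x hx
    simp only [Set.mem_iInter, Set.mem_setOf_eq] at hx
    exact mem_integralClosure_of_forall_heightOne h x (fun p hp hp1 => hx ⟨p, hp⟩ hp1)

end Groth.Agent.H6.HOne
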