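import Mathlib
import Groth.Agent.Lib.Helper2.KPid
import Groth.Agent.Lib.Helper1.GradedModuleMonomial

/-!
# Hilbert–Serre in `K'₀`: the classes of the graded pieces of a finite graded module form a
numerical polynomial

`S` a Noetherian `ℕ`-graded ring generated in degree one over (the image of) `A`, `M` a finite graded
`S`-module.  Then `n ↦ [Mₙ] ∈ K'₀(A)` is eventually of the form `∑ᵢ C(n, i) aᵢ`.

Proof: induction on the number of degree-one generators, applied to subquotients `N/N'` of `M`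
(`N' ≤ N` homogeneous submodules), using the exact sequence
`0 → (N' : x)∩N / N' → N/N' → N/N' → N/(xN+N') → 0`.
-/

universe u

open DirectSum

namespace Groth.Agent.H6.HilbK

open Groth.Agent.H2 Groth.Agent.H1

section Numerics

variable {G : Type*} [AddCommGroup G]

/-- eventually a numerical polynomial -/
def EvPoly (g : ℕ → G) : Prop :=
  ∃ (r : ℕ) (a : ℕ → G) (N : ℕ), ∀ n, N ≤ n →
    g n = ∑ i ∈ Finset.range r, ((n.choose i : ℕ) : ℤ) • a i

lemma EvPoly.of_eventually_zero {g : ℕ → G} (N : ℕ) (h : ∀ n, N ≤ n → g n = 0) : EvPoly g :=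
  ⟨0, fun _ => 0, N, fun n hn => by rw [h n hn, Finset.range_zero, Finset.sum_empty]⟩

lemma pad (c : ℕ → ℤ) (a : ℕ → G) {r₁ r : ℕ} (h : r₁ ≤ r) :
    ∑ i ∈ Finset.range r, c i • (if i < r₁ then a i else 0) =
      ∑ i ∈ Finset.range r₁, c i • a i := by
  have h1 : ∑ i ∈ Finset.range r₁, c i • (if i < r₁ then a i else 0)
      = ∑ i ∈ Finset.range r, c i • (if i < r₁ then a i else 0) :=
    Finset.sum_subset (Finset.range_mono h) fun i _ hi => by
      rw [if_neg (fun hlt => hi (Finset.mem_range.mpr hlt)), smul_zero]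
  rw [← h1]
  exact Finset.sum_congr rfl fun i hi => by rw [if_pos (Finset.mem_range.mp hi)]

lemma EvPoly.sub {g₁ g₂ : ℕ → G} (h₁ : EvPoly g₁) (h₂ : EvPoly g₂) :
    EvPoly (fun n => g₁ n - g₂ n) := by
  obtain ⟨r₁, a₁, N₁, H₁⟩ := h₁
  obtain ⟨r₂, a₂, N₂, H₂⟩ := h₂
  refine ⟨max r₁ r₂, fun i => (if i < r₁ then a₁ i else 0) - (if i < r₂ then a₂ i else 0),
    max N₁ N₂, fun n hn => ?_⟩
  simp only [smul_sub, Finset.sum_sub_distrib]
  rw [pad _ a₁ (le_max_left r₁ r₂), pad _ a₂ (le_max_right r₁ r₂),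
    H₁ n (le_trans (le_max_left _ _) hn), H₂ n (le_trans (le_max_right _ _) hn)]

/-- shifted coefficients -/
def shiftCoeff (X : G) (b : ℕ → G) : ℕ → G
  | 0 => X
  | (i + 1) => b i

lemma EvPoly.of_diff {g : ℕ → G} {δ : ℕ → G} (hδ : EvPoly δ)
    (h : ∀ n, g (n + 1) - g n = δ n) : EvPoly g := by
  obtain ⟨r, b, N, H⟩ := hδ
  have key : ∀ n, N ≤ n →
      g n = (g N - ∑ i ∈ Finset.range r, ((N.choose (i + 1) : ℕ) : ℤ) • b i)
        + ∑ i ∈ Finset.range r, ((n.choose (i + 1) : ℕ) : ℤ) • b i := by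
    intro n hn
    induction n, hn using Nat.le_induction with
    | base => exact (sub_add_cancel _ _).symm
    | succ n hn ih =>
      have h1 : g (n + 1) = g n + δ n := by rw [← h n]; abel
      rw [h1, ih, H n hn, add_assoc, ← Finset.sum_add_distrib]
      congr 1
      refine Finset.sum_congr rfl fun i _ => ?_
      rw [Nat.choose_succ_succ' n i, Nat.cast_add, add_smul, add_comm]
  refine ⟨r + 1, shiftCoeff (g N - ∑ i ∈ Finset.range r, ((N.choose (i + 1) : ℕ) : ℤ) • b i) b,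
    N, fun n hn => ?_⟩
  rw [Finset.sum_range_succ', key n hn]
  show _ = ∑ i ∈ Finset.range r, ((n.choose (i + 1) : ℕ) : ℤ) • b i + ((n.choose 0 : ℕ) : ℤ) •
    (g N - ∑ i ∈ Finset.range r, ((N.choose (i + 1) : ℕ) : ℤ) • b i)
  rw [Nat.choose_zero_right, Nat.cast_one, one_smul, add_comm]

end Numerics

section KLemma

variable {A : Type u} [CommRing A] {M : Type u} [AddCommGroup M] [Module A M]

/-- the class of a submodule in `K'₀` -/
noncomputable abbrev cl (U : Submodule A M) : KZero.K0sub (KPid.P A) :=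
  KZero.clSub (KPid.P A) (ModuleCat.of A ↥U)

theorem cl_eq_add_quot {V W : Submodule A M} (h : V ≤ W) [IsNoetherian A ↥W] :
    cl W = cl V + KZero.clSub (KPid.P A) (ModuleCat.of A (↥W ⧸ V.comap W.subtype)) := by
  have h1 := KPid.cl_surj (V.comap W.subtype).mkQ (Submodule.mkQ_surjective _)
  have h2 : KZero.clSub (KPid.P A)
      (ModuleCat.of A ↥(LinearMap.ker (V.comap W.subtype).mkQ)) = cl V :=
    KPid.cl_equiv ((LinearEquiv.ofEq _ _ (Submodule.ker_mkQ _)).trans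
      (Submodule.comapSubtypeEquivOfLe h))
  rw [h2] at h1
  exact h1

theorem cl_add_cl (φ : M →ₗ[A] M) (U U' : Submodule A M) [IsNoetherian A ↥U]
    [IsNoetherian A ↥(U.map φ ⊔ U')] :
    cl U + cl U' = cl (U ⊓ U'.comap φ) + cl (U.map φ ⊔ U') := by
  set W := U.map φ ⊔ U' with hW
  have hU'W : U' ≤ W := le_sup_right
  have hmem : ∀ u : ↥U, (φ ∘ₗ U.subtype) u ∈ W := fun u =>
    Submodule.mem_sup_left (Submodule.mem_map_of_mem u.2)
  obtain ⟨ψ, hψdef⟩ : ∃ ψ : ↥U →ₗ[A] ↥W ⧸ U'.comap W.subtype, ∀ u,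
      ψ u = (U'.comap W.subtype).mkQ (LinearMap.codRestrict W (φ ∘ₗ U.subtype) hmem u) :=
    ⟨(U'.comap W.subtype).mkQ ∘ₗ LinearMap.codRestrict W (φ ∘ₗ U.subtype) hmem, fun u => rfl⟩
  have hψ : Function.Surjective ψ := by
    intro q
    obtain ⟨⟨w, hw⟩, rfl⟩ := Submodule.mkQ_surjective _ q
    obtain ⟨y, hy, z, hz, rfl⟩ := Submodule.mem_sup.mp hw
    obtain ⟨v, hv, rfl⟩ := Submodule.mem_map.mp hy
    refine ⟨⟨v, hv⟩, ?_⟩
    rw [hψdef, Submodule.mkQ_apply, Submodule.mkQ_apply, Submodule.Quotient.eq,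
      Submodule.mem_comap]
    show φ v - (φ v + z) ∈ U'
    rw [sub_add_cancel_left]
    exact neg_mem hz
  have hker : LinearMap.ker ψ = (U'.comap φ).comap U.subtype := by
    ext v
    rw [LinearMap.mem_ker, hψdef, Submodule.mkQ_apply, Submodule.Quotient.mk_eq_zero,
      Submodule.mem_comap, Submodule.mem_comap, Submodule.mem_comap]
    rfl
  have h1 := KPid.cl_surj ψ hψ
  have h2 : KZero.clSub (KPid.P A) (ModuleCat.of A ↥(LinearMap.ker ψ)) =
      cl (U ⊓ U'.comap φ) :=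
    KPid.cl_equiv ((LinearEquiv.ofEq _ _ hker).trans
      ((Submodule.equivSubtypeMap U _).trans
        (LinearEquiv.ofEq _ _ (Submodule.map_comap_subtype U _))))
  have h3 := cl_eq_add_quot hU'W
  rw [h2] at h1
  have h1' : cl U = cl (U ⊓ U'.comap φ) +
      KZero.clSub (KPid.P A) (ModuleCat.of A (↥W ⧸ U'.comap W.subtype)) := h1
  rw [h1', h3]
  abel

end KLemma

/-- multiplication by `x` as an `A`-linear map -/
def mulx (A : Type u) {S M : Type u} [CommRing A] [CommRing S] [Algebra A S] [AddCommGroup M]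
    [Module A M] [Module S M] [IsScalarTower A S M] (x : S) : M →ₗ[A] M :=
  (LinearMap.lsmul S M x).restrictScalars A

@[simp] lemma mulx_apply (A : Type u) {S M : Type u} [CommRing A] [CommRing S] [Algebra A S]
    [AddCommGroup M] [Module A M] [Module S M] [IsScalarTower A S M] (x : S) (m : M) :
    mulx A x m = x • m := rfl

section Graded

variable {A S : Type u} [CommRing A] [CommRing S] [Algebra A S] (𝒜 : ℕ → Submodule A S)
  [GradedAlgebra 𝒜] {M : Type u} [AddCommGroup M] [Module A M] [Module S M] [IsScalarTower A S M]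
  (ℳ : ℕ → Submodule A M) [DirectSum.Decomposition ℳ] [SetLike.GradedSMul 𝒜 ℳ]

/-- the degree `n` component -/
def cmp (m : M) (n : ℕ) : M := ((decompose ℳ m n : ℳ n) : M)

lemma cmp_mem (m : M) (n : ℕ) : cmp ℳ m n ∈ ℳ n := (decompose ℳ m n).2

lemma cmp_zero (n : ℕ) : cmp ℳ (0 : M) n = 0 := by simp [cmp]

lemma cmp_add (m m' : M) (n : ℕ) : cmp ℳ (m + m') n = cmp ℳ m n + cmp ℳ m' n := by simp [cmp]

lemma cmp_of_mem_same {m : M} {n : ℕ} (h : m ∈ ℳ n) : cmp ℳ m n = m :=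
  decompose_of_mem_same ℳ h

lemma cmp_of_mem_ne {m : M} {k n : ℕ} (h : m ∈ ℳ k) (hkn : k ≠ n) : cmp ℳ m n = 0 :=
  decompose_of_mem_ne ℳ h hkn

lemma cmp_smul {e : ℕ} {s : S} (hs : s ∈ 𝒜 e) (m : M) (n : ℕ) :
    cmp ℳ (s • m) n = if e ≤ n then s • cmp ℳ m (n - e) else 0 :=
  GM.coe_decompose_smul_of_left_mem 𝒜 ℳ hs m n

lemma exists_bound (g : M) : ∃ D, ∀ k, D < k → cmp ℳ g k = 0 := by
  induction g using DirectSum.Decomposition.inductionOn ℳ with
  | zero => exact ⟨0, fun k _ => cmp_zero ℳ k⟩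
  | @homogeneous j y => exact ⟨j, fun k hk => cmp_of_mem_ne ℳ y.2 (by omega)⟩
  | add y z hy hz =>
    obtain ⟨D1, h1⟩ := hy
    obtain ⟨D2, h2⟩ := hz
    exact ⟨max D1 D2, fun k hk => by
      rw [cmp_add, h1 k (lt_of_le_of_lt (le_max_left _ _) hk),
        h2 k (lt_of_le_of_lt (le_max_right _ _) hk), add_zero]⟩

/-- homogeneous `S`-submodules -/
def IsHomog (N : Submodule S M) : Prop := ∀ m ∈ N, ∀ n, cmp ℳ m n ∈ N

/-- the degree `n` piece of an `S`-submodule -/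
def pc (N : Submodule S M) (n : ℕ) : Submodule A M := N.restrictScalars A ⊓ ℳ n

lemma mem_pc {N : Submodule S M} {n : ℕ} {m : M} : m ∈ pc ℳ N n ↔ m ∈ N ∧ m ∈ ℳ n := by
  rw [pc, Submodule.mem_inf, Submodule.restrictScalars_mem]

lemma pc_le (N : Submodule S M) (n : ℕ) : pc ℳ N n ≤ ℳ n := by
  unfold pc
  exact inf_le_right

lemma pc_top (n : ℕ) : pc ℳ (⊤ : Submodule S M) n = ℳ n := by
  rw [pc, Submodule.restrictScalars_top, top_inf_eq]

lemma pc_bot (n : ℕ) : pc ℳ (⊥ : Submodule S M) n = ⊥ := by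
  rw [pc, Submodule.restrictScalars_bot, bot_inf_eq]

lemma isHomog_top : IsHomog ℳ (⊤ : Submodule S M) := fun _ _ _ => Submodule.mem_top

lemma isHomog_bot : IsHomog ℳ (⊥ : Submodule S M) := fun m hm n => by
  rw [Submodule.mem_bot] at hm ⊢
  rw [hm, cmp_zero]

omit [GradedAlgebra 𝒜] [IsScalarTower A S M] [Decomposition ℳ] [SetLike.GradedSMul 𝒜 ℳ] in
lemma smul_mem_of_mem_span {T : Set S} {N N' : Submodule S M}
    (h : ∀ y ∈ T, ∀ m ∈ N, y • m ∈ N') {s : S} (hs : s ∈ Submodule.span S T) :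
    ∀ m ∈ N, s • m ∈ N' := by
  induction hs using Submodule.span_induction with
  | mem y hy => exact h y hy
  | zero => intro m _; rw [zero_smul]; exact zero_mem N'
  | add a b _ _ ha hb => intro m hm; rw [add_smul]; exact add_mem (ha m hm) (hb m hm)
  | smul c a _ ha => intro m hm; rw [smul_assoc]; exact N'.smul_mem c (ha m hm)

lemma satP_smul (h0 : ∀ s ∈ 𝒜 0, s ∈ Set.range (algebraMap A S)) (U : Submodule A M) (n : ℕ)
    (s : S) {m : M} (hm : (∀ k, k < n → cmp ℳ m k = 0) ∧ cmp ℳ m n ∈ U) :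
    (∀ k, k < n → cmp ℳ (s • m) k = 0) ∧ cmp ℳ (s • m) n ∈ U := by
  induction s using DirectSum.Decomposition.inductionOn 𝒜 with
  | zero =>
    rw [zero_smul]
    exact ⟨fun k _ => cmp_zero ℳ k, by rw [cmp_zero]; exact zero_mem U⟩
  | @homogeneous e s =>
    refine ⟨fun k hk => ?_, ?_⟩
    · rw [cmp_smul 𝒜 ℳ s.2]
      split_ifs with hle
      · rw [hm.1 (k - e) (by omega), smul_zero]
      · rfl
    · rw [cmp_smul 𝒜 ℳ s.2]
      split_ifs with hle
      · rcases Nat.eq_zero_or_pos e with he | he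
        · subst he
          obtain ⟨a, ha⟩ := h0 _ s.2
          rw [Nat.sub_zero, ← ha, algebraMap_smul]
          exact U.smul_mem a hm.2
        · rw [hm.1 (n - e) (by omega), smul_zero]
          exact zero_mem U
      · exact zero_mem U
  | add s s' hs hs' =>
    rw [add_smul]
    exact ⟨fun k hk => by rw [cmp_add, hs.1 k hk, hs'.1 k hk, add_zero],
      by rw [cmp_add]; exact add_mem hs.2 hs'.2⟩

lemma cmp_mem_of_mem_span (h0 : ∀ s ∈ 𝒜 0, s ∈ Set.range (algebraMap A S)) {U : Submodule A M}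
    {n : ℕ} (hU : U ≤ ℳ n) {m : M} (hm : m ∈ Submodule.span S (U : Set M)) :
    (∀ k, k < n → cmp ℳ m k = 0) ∧ cmp ℳ m n ∈ U := by
  induction hm using Submodule.span_induction with
  | mem v hv =>
    exact ⟨fun k hk => cmp_of_mem_ne ℳ (hU hv) (by omega),
      by rw [cmp_of_mem_same ℳ (hU hv)]; exact hv⟩
  | zero => exact ⟨fun k _ => cmp_zero ℳ k, by rw [cmp_zero]; exact zero_mem U⟩
  | add a b _ _ ha hb =>
    exact ⟨fun k hk => by rw [cmp_add, ha.1 k hk, hb.1 k hk, add_zero],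
      by rw [cmp_add]; exact add_mem ha.2 hb.2⟩
  | smul s a _ ha => exact satP_smul 𝒜 ℳ h0 U n s ha

theorem isNoetherian_piece (h0 : ∀ s ∈ 𝒜 0, s ∈ Set.range (algebraMap A S)) [IsNoetherian S M]
    (n : ℕ) : IsNoetherian A ↥(ℳ n) := by
  rw [isNoetherian_iff']
  haveI : WellFoundedGT (Submodule S M) := isNoetherian_iff'.mp inferInstance
  have key : ∀ (P : Submodule A ↥(ℳ n)) (p : ↥(ℳ n)), p ∈ P ↔
      (p : M) ∈ Submodule.span S ((P.map (ℳ n).subtype : Submodule A M) : Set M) := by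
    intro P p
    constructor
    · intro hp
      exact Submodule.subset_span (Submodule.mem_map_of_mem hp)
    · intro hp
      have hle : P.map (ℳ n).subtype ≤ ℳ n := by
        rintro _ ⟨q, _, rfl⟩
        exact q.2
      have h2 := (cmp_mem_of_mem_span 𝒜 ℳ h0 hle hp).2
      rw [cmp_of_mem_same ℳ p.2] at h2
      obtain ⟨q, hq, hqp⟩ := Submodule.mem_map.mp h2
      have : q = p := Subtype.ext hqp
      rwa [this] at hq
  have hmono : Monotone fun P : Submodule A ↥(ℳ n) =>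
      Submodule.span S ((P.map (ℳ n).subtype : Submodule A M) : Set M) :=
    fun P Q h => Submodule.span_mono (SetLike.coe_subset_coe.mpr (Submodule.map_mono h))
  have hinj : Function.Injective fun P : Submodule A ↥(ℳ n) =>
      Submodule.span S ((P.map (ℳ n).subtype : Submodule A M) : Set M) := by
    intro P Q h
    have h' : Submodule.span S ((P.map (ℳ n).subtype : Submodule A M) : Set M) =
      Submodule.span S ((Q.map (ℳ n).subtype : Submodule A M) : Set M) := h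
    ext p
    rw [key P p, key Q p, h']
  exact (hmono.strictMono_of_injective hinj).wellFoundedGT

lemma flat_smul {N N' : Submodule S M} (hN : IsHomog ℳ N)
    (hkill : ∀ e, e ≠ 0 → ∀ s ∈ 𝒜 e, ∀ m ∈ N, s • m ∈ N') {m : M} (hmN : m ∈ N) (D : ℕ)
    (hm : ∀ k, D < k → cmp ℳ m k ∈ N') (s : S) : ∀ k, D < k → cmp ℳ (s • m) k ∈ N' := by
  induction s using DirectSum.Decomposition.inductionOn 𝒜 with
  | zero => intro k _; rw [zero_smul, cmp_zero]; exact N'.zero_mem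
  | @homogeneous e s =>
    intro k hk
    rw [cmp_smul 𝒜 ℳ s.2]
    split_ifs with hle
    · by_cases he : e = 0
      · subst he
        rw [Nat.sub_zero]
        exact N'.smul_mem _ (hm k hk)
      · exact hkill e he _ s.2 _ (hN m hmN (k - e))
    · exact N'.zero_mem
  | add s s' hs hs' =>
    intro k hk
    rw [add_smul, cmp_add]
    exact N'.add_mem (hs k hk) (hs' k hk)

theorem exists_bound_pc_eq [IsNoetherian S M] {N N' : Submodule S M} (hN : IsHomog ℳ N)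
    (hle : N' ≤ N) (hkill : ∀ e, e ≠ 0 → ∀ s ∈ 𝒜 e, ∀ m ∈ N, s • m ∈ N') :
    ∃ D, ∀ n, D < n → pc ℳ N n = pc ℳ N' n := by
  classical
  obtain ⟨G, hG⟩ := IsNoetherian.noetherian N
  choose Dg hDg using exists_bound ℳ
  refine ⟨G.sup Dg, fun n hn => ?_⟩
  obtain ⟨F, hF⟩ : ∃ F : Submodule S M, ∀ m, m ∈ F ↔
      (m ∈ N ∧ ∀ k, G.sup Dg < k → cmp ℳ m k ∈ N') :=
    ⟨{ carrier := {m | m ∈ N ∧ ∀ k, G.sup Dg < k → cmp ℳ m k ∈ N'}
       add_mem' := by
         intro a b ha hb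
         exact ⟨N.add_mem ha.1 hb.1, fun k hk => by
           rw [cmp_add]; exact N'.add_mem (ha.2 k hk) (hb.2 k hk)⟩
       zero_mem' := ⟨N.zero_mem, fun k _ => by rw [cmp_zero]; exact N'.zero_mem⟩
       smul_mem' := by
         intro s m hm
         exact ⟨N.smul_mem s hm.1, flat_smul 𝒜 ℳ hN hkill hm.1 _ hm.2 s⟩ },
     fun m => Iff.rfl⟩
  have hNF : N ≤ F := by
    rw [← hG, Submodule.span_le]
    intro g hg
    rw [SetLike.mem_coe, hF]
    refine ⟨by rw [← hG]; exact Submodule.subset_span hg, fun k hk => ?_⟩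
    rw [hDg g k (lt_of_le_of_lt (Finset.le_sup (Finset.mem_coe.mp hg)) hk)]
    exact N'.zero_mem
  apply le_antisymm
  · intro m hm
    rw [mem_pc] at hm ⊢
    have h1 := ((hF m).mp (hNF hm.1)).2 n hn
    rw [cmp_of_mem_same ℳ hm.2] at h1
    exact ⟨h1, hm.2⟩
  · intro m hm
    rw [mem_pc] at hm ⊢
    exact ⟨hle hm.1, hm.2⟩

lemma isHomog_colon {x : S} (hx : x ∈ 𝒜 1) {N N' : Submodule S M} (hN : IsHomog ℳ N)
    (hN' : IsHomog ℳ N') : IsHomog ℳ (N ⊓ N'.comap (LinearMap.lsmul S M x)) := by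
  intro m hm k
  rw [Submodule.mem_inf, Submodule.mem_comap, LinearMap.lsmul_apply] at hm ⊢
  refine ⟨hN m hm.1 k, ?_⟩
  have h1 := hN' _ hm.2 (k + 1)
  rwa [cmp_smul 𝒜 ℳ hx, if_pos (by omega), Nat.add_sub_cancel] at h1

lemma isHomog_sup_map {x : S} (hx : x ∈ 𝒜 1) {N N' : Submodule S M} (hN : IsHomog ℳ N)
    (hN' : IsHomog ℳ N') : IsHomog ℳ (N.map (LinearMap.lsmul S M x) ⊔ N') := by
  intro m hm k
  obtain ⟨y, hy, b, hb, rfl⟩ := Submodule.mem_sup.mp hm
  obtain ⟨a, ha, rfl⟩ := Submodule.mem_map.mp hy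
  rw [LinearMap.lsmul_apply, cmp_add, cmp_smul 𝒜 ℳ hx]
  refine Submodule.add_mem_sup ?_ (hN' b hb k)
  split_ifs with h
  · exact Submodule.mem_map.mpr ⟨cmp ℳ a (k - 1), hN a ha (k - 1), rfl⟩
  · exact zero_mem _

lemma pc_colon {x : S} (hx : x ∈ 𝒜 1) (N N' : Submodule S M) (n : ℕ) :
    pc ℳ N n ⊓ (pc ℳ N' (n + 1)).comap (mulx A x) =
      pc ℳ (N ⊓ N'.comap (LinearMap.lsmul S M x)) n := by
  ext m
  simp only [Submodule.mem_inf, Submodule.mem_comap, mem_pc, mulx_apply, LinearMap.lsmul_apply]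
  constructor
  · rintro ⟨⟨hmN, hmn⟩, hxN', -⟩
    exact ⟨⟨hmN, hxN'⟩, hmn⟩
  · rintro ⟨⟨hmN, hxN'⟩, hmn⟩
    refine ⟨⟨hmN, hmn⟩, hxN', ?_⟩
    have := GM.smul_mem_graded 𝒜 ℳ hx hmn
    rwa [add_comm] at this

lemma pc_sup_map {x : S} (hx : x ∈ 𝒜 1) {N N' : Submodule S M} (hN : IsHomog ℳ N)
    (hN' : IsHomog ℳ N') (n : ℕ) :
    (pc ℳ N n).map (mulx A x) ⊔ pc ℳ N' (n + 1) =
      pc ℳ (N.map (LinearMap.lsmul S M x) ⊔ N') (n + 1) := by
  apply le_antisymm
  · apply sup_le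
    · rintro _ ⟨a, ha, rfl⟩
      rw [SetLike.mem_coe, mem_pc] at ha
      rw [mem_pc, mulx_apply]
      refine ⟨Submodule.mem_sup_left (Submodule.mem_map_of_mem ha.1), ?_⟩
      have := GM.smul_mem_graded 𝒜 ℳ hx ha.2
      rwa [add_comm] at this
    · intro m hm
      rw [mem_pc] at hm ⊢
      exact ⟨Submodule.mem_sup_right hm.1, hm.2⟩
  · intro m hm
    rw [mem_pc] at hm
    obtain ⟨hm1, hm2⟩ := hm
    obtain ⟨y, hy, b, hb, rfl⟩ := Submodule.mem_sup.mp hm1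
    obtain ⟨a, ha, rfl⟩ := Submodule.mem_map.mp hy
    rw [LinearMap.lsmul_apply] at hm2 ⊢
    have e : x • a + b = x • cmp ℳ a n + cmp ℳ b (n + 1) := by
      conv_lhs => rw [← cmp_of_mem_same ℳ hm2]
      rw [cmp_add, cmp_smul 𝒜 ℳ hx, if_pos (by omega), Nat.add_sub_cancel]
    rw [e]
    refine Submodule.add_mem_sup (Submodule.mem_map.mpr ⟨cmp ℳ a n, ?_, rfl⟩) ?_
    · rw [mem_pc]; exact ⟨hN a ha n, cmp_mem ℳ a n⟩
    · rw [mem_pc]; exact ⟨hN' b hb (n + 1), cmp_mem ℳ b (n + 1)⟩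

theorem step (hnoeth : ∀ k, IsNoetherian A ↥(ℳ k)) {x : S} (hx : x ∈ 𝒜 1)
    {N N' : Submodule S M} (hN : IsHomog ℳ N) (hN' : IsHomog ℳ N') (n : ℕ) :
    cl (pc ℳ N n) + cl (pc ℳ N' (n + 1)) =
      cl (pc ℳ (N ⊓ N'.comap (LinearMap.lsmul S M x)) n) +
        cl (pc ℳ (N.map (LinearMap.lsmul S M x) ⊔ N') (n + 1)) := by
  haveI := hnoeth n
  haveI := hnoeth (n + 1)
  haveI : IsNoetherian A ↥(pc ℳ N n) := isNoetherian_of_le (pc_le ℳ N n)
  haveI : IsNoetherian A ↥((pc ℳ N n).map (mulx A x) ⊔ pc ℳ N' (n + 1)) := by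
    rw [pc_sup_map 𝒜 ℳ hx hN hN']
    exact isNoetherian_of_le (pc_le ℳ _ (n + 1))
  have h := cl_add_cl (mulx A x) (pc ℳ N n) (pc ℳ N' (n + 1))
  exact h.trans (congrArg₂ (· + ·) (congrArg cl (pc_colon 𝒜 ℳ hx N N' n))
    (congrArg cl (pc_sup_map 𝒜 ℳ hx hN hN' n)))

theorem evPoly_aux (T : Finset S) (hT1 : ∀ x ∈ T, x ∈ 𝒜 1)
    (hT2 : ∀ e, e ≠ 0 → ∀ s ∈ 𝒜 e, s ∈ Submodule.span S (T : Set S))
    [IsNoetherian S M] (hnoeth : ∀ k, IsNoetherian A ↥(ℳ k)) (T' : Finset S) :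
    T' ⊆ T → ∀ N N' : Submodule S M, IsHomog ℳ N → IsHomog ℳ N' → N' ≤ N →
      (∀ y ∈ T, y ∉ T' → ∀ m ∈ N, y • m ∈ N') →
      ∀ d, EvPoly (fun n => cl (pc ℳ N (n + d)) - cl (pc ℳ N' (n + d))) := by
  classical
  induction T' using Finset.induction_on with
  | empty =>
    intro _ N N' hN hN' hle hk d
    have hkill : ∀ e, e ≠ 0 → ∀ s ∈ 𝒜 e, ∀ m ∈ N, s • m ∈ N' := fun e he s hs =>
      smul_mem_of_mem_span (fun y hy => hk y (Finset.mem_coe.mp hy) (by simp)) (hT2 e he s hs)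
    obtain ⟨D, hD⟩ := exists_bound_pc_eq 𝒜 ℳ hN hle hkill
    refine EvPoly.of_eventually_zero (D + 1) fun n hn => ?_
    rw [hD (n + d) (by omega), sub_self]
  | insert x T'' hxT ih =>
    intro hsub N N' hN hN' hle hk d
    have hxT' : x ∈ T := hsub (Finset.mem_insert_self x T'')
    have hx1 : x ∈ 𝒜 1 := hT1 x hxT'
    have hsub' : T'' ⊆ T := fun y hy => hsub (Finset.mem_insert_of_mem hy)
    have hxN' : ∀ m ∈ N', x • m ∈ N' := fun m hm => N'.smul_mem x hm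
    have ih1 := ih hsub' (N ⊓ N'.comap (LinearMap.lsmul S M x)) N'
      (isHomog_colon 𝒜 ℳ hx1 hN hN') hN'
      (fun m hm => Submodule.mem_inf.mpr ⟨hle hm, hxN' m hm⟩)
      (fun y hy hyT m hm => by
        rw [Submodule.mem_inf, Submodule.mem_comap, LinearMap.lsmul_apply] at hm
        by_cases hyx : y = x
        · rw [hyx]; exact hm.2
        · exact hk y hy (fun h => (Finset.mem_insert.mp h).elim hyx hyT) m hm.1)
    have ih2 := ih hsub' N (N.map (LinearMap.lsmul S M x) ⊔ N') hN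
      (isHomog_sup_map 𝒜 ℳ hx1 hN hN')
      (sup_le (by rintro _ ⟨a, ha, rfl⟩; exact N.smul_mem x ha) hle)
      (fun y hy hyT m hm => by
        by_cases hyx : y = x
        · rw [hyx]; exact Submodule.mem_sup_left (Submodule.mem_map_of_mem hm)
        · exact Submodule.mem_sup_right
            (hk y hy (fun h => (Finset.mem_insert.mp h).elim hyx hyT) m hm))
    refine EvPoly.of_diff ((ih2 (d + 1)).sub (ih1 d)) fun n => ?_
    have hs := step 𝒜 ℳ hnoeth hx1 hN hN' (n + d)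
    have e1 : n + 1 + d = n + d + 1 := by omega
    have e2 : n + (d + 1) = n + d + 1 := by omega
    rw [e1, e2, eq_sub_of_add_eq hs]
    abel

/-- **S9662** -/
theorem main [IsNoetherianRing S] (h0 : ∀ s ∈ 𝒜 0, s ∈ Set.range (algebraMap A S))
    (h1 : (HomogeneousIdeal.irrelevant 𝒜).toIdeal = Ideal.span (𝒜 1 : Set S))
    [Module.Finite S M] :
    ∃ (r : ℕ) (a : Fin r → KZero.K0sub (fun X : ModuleCat.{u} A => Module.Finite A X)) (N : ℕ),
      ∀ n : ℕ, N ≤ n →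
      KZero.clSub (fun X : ModuleCat.{u} A => Module.Finite A X) (ModuleCat.of A ↥(ℳ n)) =
        ∑ i : Fin r, ((n.choose (i : ℕ) : ℕ) : ℤ) • a i := by
  have hfg : (Submodule.span S (𝒜 1 : Set S)).FG := IsNoetherian.noetherian _
  obtain ⟨T, hT1, hT2⟩ := (Submodule.fg_span_iff_fg_span_finset_subset (𝒜 1 : Set S)).mp hfg
  have hT2' : ∀ e, e ≠ 0 → ∀ s ∈ 𝒜 e, s ∈ Submodule.span S (T : Set S) := fun e he s hs => by
    rw [← hT2]
    have h2 : s ∈ (HomogeneousIdeal.irrelevant 𝒜).toIdeal :=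
      HomogeneousIdeal.mem_irrelevant_of_mem 𝒜 (Nat.pos_of_ne_zero he) hs
    rw [h1] at h2
    exact h2
  have hnoeth : ∀ k, IsNoetherian A ↥(ℳ k) := isNoetherian_piece 𝒜 ℳ h0
  obtain ⟨r, a, N₀, H⟩ := evPoly_aux 𝒜 ℳ T (fun x hx => hT1 (Finset.mem_coe.mpr hx)) hT2' hnoeth
    T (Finset.Subset.refl T) ⊤ ⊥ (isHomog_top ℳ) (isHomog_bot ℳ) bot_le
    (fun y hy hyT => absurd hy hyT) 0
  refine ⟨r, fun i => a i, N₀, fun n hn => ?_⟩
  have h4 : cl (pc ℳ (⊤ : Submodule S M) n) - cl (pc ℳ (⊥ : Submodule S M) n) =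
      ∑ i ∈ Finset.range r, ((n.choose i : ℕ) : ℤ) • a i := H n hn
  have e1 : cl (pc ℳ (⊤ : Submodule S M) n) = cl (ℳ n) := congrArg cl (pc_top ℳ n)
  have e2 : cl (pc ℳ (⊥ : Submodule S M) n) = 0 :=
    (congrArg cl (pc_bot ℳ n)).trans (KPid.cl_subsingleton _)
  rw [e1, e2, sub_zero] at h4
  exact h4.trans (Finset.sum_range _)

end Graded

end Groth.Agent.H6.HilbK
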