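import Mathlib

set_option autoImplicit false
universe u

namespace Groth.Agent.H6.Hopf

open MvPolynomial

section
variable (k : Type u) [Field k] (m n : ℕ)

/-- the Segre map `k[z_ij] → k[x,y]`, `z_ij ↦ x_i y_j` -/
noncomputable def segre : MvPolynomial (Fin m × Fin n) k →ₐ[k] MvPolynomial (Fin m ⊕ Fin n) k :=
  aeval (fun p => X (Sum.inl p.1) * X (Sum.inr p.2))

@[simp] theorem segre_X (p : Fin m × Fin n) :
    segre k m n (X p) = X (Sum.inl p.1) * X (Sum.inr p.2) := by
  simp [segre]

/-- the Segre ring -/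
abbrev SR := MvPolynomial (Fin m × Fin n) k ⧸ RingHom.ker (segre k m n).toRingHom

noncomputable def iota : SR k m n →+* MvPolynomial (Fin m ⊕ Fin n) k :=
  RingHom.kerLift (segre k m n).toRingHom

theorem iota_injective : Function.Injective (iota k m n) :=
  RingHom.kerLift_injective _

@[simp] theorem iota_mk (g : MvPolynomial (Fin m × Fin n) k) :
    iota k m n (Ideal.Quotient.mk _ g) = segre k m n g := rfl

instance : IsDomain (SR k m n) := by
  have : (RingHom.ker (segre k m n).toRingHom).IsPrime := RingHom.ker_isPrime _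
  infer_instance

open Classical in
/-- kill the variables in `T` -/
noncomputable def ev (T : Set (Fin m ⊕ Fin n)) :
    MvPolynomial (Fin m ⊕ Fin n) k →ₐ[k] MvPolynomial (Fin m ⊕ Fin n) k :=
  aeval (fun v => if v ∈ T then 0 else X v)

theorem ev_X (T : Set (Fin m ⊕ Fin n)) (v : Fin m ⊕ Fin n) :
    ev k m n T (X v) = (open Classical in if v ∈ T then 0 else X v) := by
  simp [ev]

theorem ev_comp {T T' : Set (Fin m ⊕ Fin n)} (h : T ⊆ T') (g : MvPolynomial (Fin m ⊕ Fin n) k) :
    ev k m n T' (ev k m n T g) = ev k m n T' g := by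
  have : (ev k m n T').comp (ev k m n T) = ev k m n T' := by
    apply MvPolynomial.algHom_ext
    intro v
    classical
    rw [AlgHom.comp_apply, ev_X, ev_X]
    by_cases hv : v ∈ T
    · simp [hv, h hv]
    · simp [hv, ev_X]
  exact DFunLike.congr_fun this g

/-- the prime ideal of the Segre ring cut out by `T` -/
noncomputable def pp (T : Set (Fin m ⊕ Fin n)) : Ideal (SR k m n) :=
  RingHom.ker ((ev k m n T).toRingHom.comp (iota k m n))

instance (T : Set (Fin m ⊕ Fin n)) : (pp k m n T).IsPrime := RingHom.ker_isPrime _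

theorem mem_pp (T : Set (Fin m ⊕ Fin n)) (s : SR k m n) :
    s ∈ pp k m n T ↔ ev k m n T (iota k m n s) = 0 := Iff.rfl

theorem pp_mono {T T' : Set (Fin m ⊕ Fin n)} (h : T ⊆ T') : pp k m n T ≤ pp k m n T' := by
  intro s hs
  rw [mem_pp] at hs ⊢
  rw [← ev_comp k m n h, hs, map_zero]

/-- the generators `z_ij` of the Segre ring -/
noncomputable def zz (i : Fin m) (j : Fin n) : SR k m n := Ideal.Quotient.mk _ (X (i, j))

theorem zz_mem_pp (T : Set (Fin m ⊕ Fin n)) (i : Fin m) (j : Fin n) :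
    zz k m n i j ∈ pp k m n T ↔ (Sum.inl i ∈ T ∨ Sum.inr j ∈ T) := by
  classical
  rw [mem_pp, zz, iota_mk, segre_X, map_mul, ev_X, ev_X]
  by_cases h1 : (Sum.inl i : Fin m ⊕ Fin n) ∈ T <;> by_cases h2 : (Sum.inr j : Fin m ⊕ Fin n) ∈ T <;>
    simp [h1, h2]

end

section chain
variable (k : Type u) [Field k] (m' n' : ℕ)

/-- rank function ordering the variables -/
def rk : Fin (m' + 1) ⊕ Fin (n' + 1) → ℕ
  | Sum.inl i => if i.val < m' then i.val else m' + n'
  | Sum.inr j => if j.val < n' then m' + j.val else m' + n'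

def TT (t : ℕ) : Set (Fin (m' + 1) ⊕ Fin (n' + 1)) := {v | rk m' n' v < t}

theorem TT_mono {s t : ℕ} (h : s ≤ t) : TT m' n' s ⊆ TT m' n' t := fun _ hv => lt_of_lt_of_le hv h

theorem TT_top : TT m' n' (m' + n' + 1) = Set.univ := by
  ext v
  simp only [TT, Set.mem_ofPred_eq, Set.mem_univ, iff_true]
  rcases v with i | j
  · simp only [rk]; split_ifs <;> omega
  · simp only [rk]; split_ifs <;> omega

theorem exists_witness (t : ℕ) (ht : t ≤ m' + n') :
    ∃ (i : Fin (m' + 1)) (j : Fin (n' + 1)),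
      (rk m' n' (Sum.inl i) < t + 1 ∨ rk m' n' (Sum.inr j) < t + 1) ∧
      ¬ (rk m' n' (Sum.inl i) < t ∨ rk m' n' (Sum.inr j) < t) := by
  by_cases h1 : t < m'
  · refine ⟨⟨t, by omega⟩, Fin.last n', ?_, ?_⟩
    · left; simp [rk, h1]
    · simp [rk, h1]; omega
  · by_cases h2 : t < m' + n'
    · refine ⟨Fin.last m', ⟨t - m', by omega⟩, ?_, ?_⟩
      · right
        have : t - m' < n' := by omega
        simp [rk, this]; omega
      · have : t - m' < n' := by omega
        simp [rk, this]; omega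
    · refine ⟨Fin.last m', Fin.last n', ?_, ?_⟩
      · left; simp [rk]; omega
      · simp [rk]; omega

theorem height_ge (t : ℕ) (ht : t ≤ m' + n' + 1) :
    (t : ℕ∞) ≤ (pp k (m' + 1) (n' + 1) (TT m' n' t)).height := by
  induction t with
  | zero => simp
  | succ s ih =>
    have h1 := ih (by omega)
    obtain ⟨i, j, hin, hout⟩ := exists_witness m' n' s (by omega)
    have hlt : pp k (m' + 1) (n' + 1) (TT m' n' s) < pp k (m' + 1) (n' + 1) (TT m' n' (s + 1)) := by
      refine lt_of_le_of_ne (pp_mono k _ _ (TT_mono m' n' (Nat.le_succ s))) ?_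
      intro heq
      have h2 : zz k _ _ i j ∈ pp k (m' + 1) (n' + 1) (TT m' n' (s + 1)) :=
        (zz_mem_pp k _ _ _ i j).mpr hin
      rw [← heq] at h2
      exact hout ((zz_mem_pp k _ _ _ i j).mp h2)
    have h3 := Ideal.height_add_one_le_of_lt_of_isPrime hlt
    calc ((s + 1 : ℕ) : ℕ∞) = (s : ℕ∞) + 1 := by push_cast; rfl
      _ ≤ (pp k (m' + 1) (n' + 1) (TT m' n' s)).height + 1 := by gcongr
      _ ≤ _ := h3

end chain
theorem ev_univ_segre (k : Type u) [Field k] (m n : ℕ) (g : MvPolynomial (Fin m × Fin n) k) :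
    ev k m n Set.univ (segre k m n g) = C (eval 0 g) := by
  induction g using MvPolynomial.induction_on with
  | C a => simp [segre, ev]
  | add p q hp hq => simp [hp, hq]
  | mul_X p v hp => simp [hp, ev_X]

theorem exists_zero (k : Type u) [Field k] [IsAlgClosed k] (m' n' w : ℕ) (hw : w ≤ m' + n')
    (c : Fin w → Fin (m' + 1) → Fin (n' + 1) → k) :
    ∃ (a : Fin (m' + 1) → k) (b : Fin (n' + 1) → k), a ≠ 0 ∧ b ≠ 0 ∧
      ∀ l, ∑ i, ∑ j, c l i j * a i * b j = 0 := by
  classical
  let G : Fin w → MvPolynomial (Fin (m' + 1) × Fin (n' + 1)) k :=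
    fun l => ∑ i, ∑ j, C (c l i j) * X (i, j)
  let mk := Ideal.Quotient.mk (RingHom.ker (segre k (m' + 1) (n' + 1)).toRingHom)
  let sF : Finset (SR k (m' + 1) (n' + 1)) := Finset.univ.image (fun l => mk (G l))
  have hcard : sF.card ≤ w := by
    refine (Finset.card_image_le).trans ?_
    simp
  let I : Ideal (SR k (m' + 1) (n' + 1)) := Ideal.span (sF : Set (SR k (m' + 1) (n' + 1)))
  let Splus := pp k (m' + 1) (n' + 1) Set.univ
  have hmemS : ∀ g, mk g ∈ Splus ↔ eval 0 g = 0 := by
    intro g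
    show mk g ∈ pp k (m' + 1) (n' + 1) Set.univ ↔ _
    rw [mem_pp, iota_mk, ev_univ_segre]
    exact map_eq_zero_iff _ (C_injective _ _)
  have hG0 : ∀ l, eval 0 (G l) = 0 := by
    intro l
    simp [G]
  have hI : I ≤ Splus := by
    rw [Ideal.span_le]
    intro s hs
    simp only [sF, Finset.coe_image, Finset.coe_univ, Set.image_univ, Set.mem_range] at hs
    obtain ⟨l, rfl⟩ := hs
    exact (hmemS _).mpr (hG0 l)
  have hht : ((m' + n' + 1 : ℕ) : ℕ∞) ≤ Splus.height := by
    have := height_ge k m' n' (m' + n' + 1) le_rfl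
    rwa [TT_top] at this
  have hnot : Splus ∉ I.minimalPrimes := by
    intro h
    have h1 := Ideal.height_le_card_of_mem_minimalPrimes_span_finset h
    have h2 : ((m' + n' + 1 : ℕ) : ℕ∞) ≤ (sF.card : ℕ∞) := hht.trans h1
    have h3 : m' + n' + 1 ≤ sF.card := by exact_mod_cast h2
    omega
  obtain ⟨P, hPmin, hPle⟩ := Ideal.exists_minimalPrimes_le hI
  have hPne : P ≠ Splus := fun h => hnot (h ▸ hPmin)
  have hPprime : P.IsPrime := hPmin.1.1
  have hIP : I ≤ P := hPmin.1.2
  have hjac : P.jacobson = P := IsJacobsonRing.out inferInstance hPprime.isRadical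
  have hex : ∃ M : Ideal (SR k (m' + 1) (n' + 1)), M.IsMaximal ∧ P ≤ M ∧ M ≠ Splus := by
    by_contra hcon
    push Not at hcon
    apply hPne
    apply le_antisymm hPle
    intro s hs
    rw [← hjac, Ideal.jacobson, Ideal.mem_sInf]
    rintro J ⟨hJ1, hJ2⟩
    rw [hcon J hJ2 hJ1]
    exact hs
  obtain ⟨M, hMmax, hPM, hMne⟩ := hex
  have hNmax : (M.comap mk).IsMaximal :=
    Ideal.comap_isMaximal_of_surjective mk Ideal.Quotient.mk_surjective
  obtain ⟨x, hx⟩ := (isMaximal_iff_eq_vanishingIdeal_singleton (K := k)).mp hNmax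
  have hmemM : ∀ g, mk g ∈ M ↔ eval x g = 0 := by
    intro g
    rw [← Ideal.mem_comap, hx, mem_vanishingIdeal_singleton_iff, aeval_eq_eval]
  -- minors
  have hminor : ∀ i i' j j', x (i, j) * x (i', j') = x (i, j') * x (i', j) := by
    intro i i' j j'
    have h0 : mk (X (i, j) * X (i', j') - X (i, j') * X (i', j)) = 0 := by
      rw [Ideal.Quotient.eq_zero_iff_mem, RingHom.mem_ker]
      simp only [AlgHom.toRingHom_eq_coe, RingHom.coe_coe, map_sub, map_mul, segre_X]
      ring
    have h1 : mk (X (i, j) * X (i', j') - X (i, j') * X (i', j)) ∈ M := by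
      rw [h0]; exact M.zero_mem
    have h2 := (hmemM _).mp h1
    simp only [map_sub, map_mul, eval_X] at h2
    exact sub_eq_zero.mp h2
  have hzero : ∀ l, ∑ i, ∑ j, c l i j * x (i, j) = 0 := by
    intro l
    have h1 : mk (G l) ∈ M := by
      apply hPM; apply hIP
      apply Ideal.subset_span
      simp only [sF, Finset.coe_image, Finset.coe_univ, Set.image_univ, Set.mem_range]
      exact ⟨l, rfl⟩
    have h2 := (hmemM _).mp h1
    simpa [G] using h2
  have hxne : x ≠ 0 := by
    intro h0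
    apply hMne
    ext s
    obtain ⟨g, rfl⟩ := Ideal.Quotient.mk_surjective s
    show mk g ∈ M ↔ mk g ∈ Splus
    rw [hmemM, hmemS, h0]
  obtain ⟨⟨i₀, j₀⟩, h00⟩ : ∃ p, x p ≠ 0 := by
    by_contra hcon
    push Not at hcon
    exact hxne (funext hcon)
  refine ⟨fun i => x (i, j₀), fun j => x (i₀, j) / x (i₀, j₀), ?_, ?_, ?_⟩
  · intro h
    exact h00 (congrFun h i₀)
  · intro h
    have := congrFun h j₀
    simp only [Pi.zero_apply] at this
    rw [div_self h00] at this
    exact one_ne_zero this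
  · intro l
    rw [← hzero l]
    refine Finset.sum_congr rfl fun i _ => Finset.sum_congr rfl fun j _ => ?_
    have := hminor i i₀ j₀ j
    field_simp
    rw [mul_assoc, this]
    ring


theorem hopf_general (k : Type u) [Field k] [IsAlgClosed k]
    (U V W : Type*) [AddCommGroup U] [Module k U] [AddCommGroup V] [Module k V]
    [AddCommGroup W] [Module k W]
    [Module.Finite k U] [Module.Finite k V] [Module.Finite k W] [Nontrivial U] [Nontrivial V]
    (φ : U →ₗ[k] V →ₗ[k] W) (hφ : ∀ (a : U) (b : V), a ≠ 0 → b ≠ 0 → φ a b ≠ 0) :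
    Module.finrank k U + Module.finrank k V ≤ Module.finrank k W + 1 := by
  by_contra hcon
  push Not at hcon
  have hU : 0 < Module.finrank k U := Module.finrank_pos
  have hV : 0 < Module.finrank k V := Module.finrank_pos
  obtain ⟨m', hm'⟩ : ∃ m', Module.finrank k U = m' + 1 := ⟨Module.finrank k U - 1, by omega⟩
  obtain ⟨n', hn'⟩ : ∃ n', Module.finrank k V = n' + 1 := ⟨Module.finrank k V - 1, by omega⟩
  let bU := Module.finBasisOfFinrankEq k U hm'
  let bV := Module.finBasisOfFinrankEq k V hn'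
  let bW := Module.finBasis k W
  have hw : Module.finrank k W ≤ m' + n' := by omega
  obtain ⟨a, b, ha, hb, hab⟩ := exists_zero k m' n' (Module.finrank k W) hw
    (fun l i j => bW.repr (φ (bU i) (bV j)) l)
  have hu : bU.equivFun.symm a ≠ 0 := by
    intro h
    exact ha ((LinearEquiv.map_eq_zero_iff _).mp h)
  have hv : bV.equivFun.symm b ≠ 0 := by
    intro h
    exact hb ((LinearEquiv.map_eq_zero_iff _).mp h)
  apply hφ _ _ hu hv
  apply (LinearEquiv.map_eq_zero_iff bW.repr).mp
  ext l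
  rw [Module.Basis.equivFun_symm_apply, Module.Basis.equivFun_symm_apply]
  simp only [map_sum, LinearMap.sum_apply, map_smul, LinearMap.smul_apply, Finsupp.coe_finsetSum,
    Finset.sum_apply, Finsupp.coe_smul, Pi.smul_apply, smul_eq_mul, Finsupp.coe_zero, Pi.zero_apply]
  rw [← hab l]
  rw [Finset.sum_comm]
  refine Finset.sum_congr rfl fun j _ => ?_
  rw [Finset.mul_sum]
  refine Finset.sum_congr rfl fun i _ => ?_
  ring


end Groth.Agent.H6.Hopf
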