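import Mathlib
import Groth.Agent.Lib.Helper6.InjHullLocal

/-! Length criterion for injective hulls of the residue field. -/

set_option autoImplicit false
universe u
set_option linter.style.haveILetI false
open IsLocalRing

namespace Groth.Agent.H6.HullLen

open InjHull

variable {A : Type u} [CommRing A] [IsLocalRing A] [IsNoetherianRing A]
  {I : Type u} [AddCommGroup I] [Module A I]

theorem main (ha : LocCoh.IsPowerTorsion (maximalIdeal A) I)
    (hb : Nonempty (((A ⧸ maximalIdeal A) →ₗ[A] I) ≃ₗ[A] (A ⧸ maximalIdeal A)))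
    (a : ℕ → Ideal A)
    (hcof : ∀ n : ℕ, ∃ N : ℕ, maximalIdeal A ^ N ≤ a n)
    (hcof' : ∀ N : ℕ, ∃ n : ℕ, a n ≤ maximalIdeal A ^ N)
    (hlen : ∀ n : ℕ, Module.length A (A ⧸ a n) = Module.length A ((A ⧸ a n) →ₗ[A] I)) :
    ∃ f : (A ⧸ maximalIdeal A) →ₗ[A] I, IsInjectiveHull f := by
  haveI := IH.isSimpleModule_residue (R := A)
  obtain ⟨e⟩ := hb
  haveI hsimple : IsSimpleModule A ((A ⧸ maximalIdeal A) →ₗ[A] I) := IsSimpleModule.congr e
  rw [IH.exists_hull_iff]
  refine ⟨?_, ha, hsimple⟩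
  -- an essential injection `g : k → I`
  haveI : Nontrivial ((A ⧸ maximalIdeal A) →ₗ[A] I) := IsSimpleModule.nontrivial A _
  obtain ⟨g, hg0⟩ := exists_ne (0 : (A ⧸ maximalIdeal A) →ₗ[A] I)
  have hginj : Function.Injective g := by
    rw [← LinearMap.ker_eq_bot]
    rcases eq_bot_or_eq_top (LinearMap.ker g) with h | h
    · exact h
    · exact absurd (LinearMap.ker_eq_top.mp h) hg0
  have hgess : IsEssentialInj g := by
    refine (IH.isEssentialInj_iff g).mpr ⟨hginj, fun x hx => ?_⟩
    obtain ⟨r, hr0, hr⟩ := IH.exists_smul_mem_torsionBySet (maximalIdeal A) hx (ha x)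
    refine ⟨r, hr0, ?_⟩
    obtain ⟨s, hs⟩ := IsSimpleModule.toSpanSingleton_surjective A hg0
      ((IH.homQuotEquiv (maximalIdeal A) I).symm ⟨r • x, hr⟩)
    refine ⟨s • 1, ?_⟩
    have h1 : ((IH.homQuotEquiv (maximalIdeal A) I)
        ((IH.homQuotEquiv (maximalIdeal A) I).symm ⟨r • x, hr⟩) : I) = r • x := by
      rw [LinearEquiv.apply_symm_apply]
    rw [IH.homQuotEquiv_apply, ← hs, LinearMap.toSpanSingleton_apply, LinearMap.smul_apply] at h1
    rw [map_smul]
    exact h1
  -- the hull `E` of `k`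
  obtain ⟨E, _, _, fE, hfE⟩ := IH.exists_injectiveHull (R := A) (A ⧸ maximalIdeal A)
  haveI := hfE.isInjective
  obtain ⟨α, hα⟩ := Module.Injective.extension_property A E _ _ g hginj fE
  have hαinj : Function.Injective α :=
    IH.injective_of_comp_injective hgess α (by rw [hα]; exact hfE.injective)
  have hEtors := IH.powerTorsion_of_hull _ hfE
  have hαsurj : Function.Surjective α := by
    intro x
    obtain ⟨N, hN⟩ := hEtors x
    obtain ⟨n, hn⟩ := hcof' N
    have hx : x ∈ Submodule.torsionBySet A E (a n : Set A) := by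
      rw [Submodule.mem_torsionBySet_iff]
      rintro ⟨r, hr⟩
      exact hN r (hn hr)
    have hfin : IsFiniteLength A (A ⧸ a n) := by
      apply IH.isFiniteLength_of_powerTorsion
      intro y
      obtain ⟨N', hN'⟩ := hcof n
      refine ⟨N', fun r hr => ?_⟩
      obtain ⟨b, rfl⟩ := Ideal.Quotient.mk_surjective y
      have h1 : r • Ideal.Quotient.mk (a n) b = Ideal.Quotient.mk (a n) (r * b) := rfl
      rw [h1]
      exact Ideal.Quotient.eq_zero_iff_mem.2 (Ideal.mul_mem_right _ _ (hN' hr))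
    have hlenE := IH.length_hom_eq hfE (A ⧸ a n) hfin
    have hsurj : Function.Surjective (LinearMap.compRight A (M := A ⧸ a n) α) := by
      refine IH.surjective_of_injective_of_length_le _ ?_ ?_ ?_
      · intro φ ψ h
        refine LinearMap.ext fun y => ?_
        apply hαinj
        exact LinearMap.congr_fun h y
      · rw [hlenE, Module.length_ne_top_iff]; exact hfin
      · rw [hlenE, hlen n]
    obtain ⟨χ, hχ⟩ := hsurj ((IH.homQuotEquiv (a n) E).symm ⟨x, hx⟩)
    refine ⟨χ 1, ?_⟩
    have h1 : ((IH.homQuotEquiv (a n) E) ((IH.homQuotEquiv (a n) E).symm ⟨x, hx⟩) : E) = x := by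
      rw [LinearEquiv.apply_symm_apply]
    rw [IH.homQuotEquiv_apply, ← hχ] at h1
    exact h1
  exact IH.injective_of_equiv (LinearEquiv.ofBijective α ⟨hαinj, hαsurj⟩).symm

end Groth.Agent.H6.HullLen
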