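import Mathlib
import Groth.Agent.Lib.Helper6.HyCoskP

/-! Helper6: lifting strongly compatible families to `(cosk_m sk_m K)_{m+1}` assuming only pointwise
Kan extensions. -/

set_option autoImplicit false
open CategoryTheory CategoryTheory.Limits Opposite Simplicial SimplexCategory

universe v u

namespace Groth.Agent.H6.HyCoskQ

open Groth.Agent.H6.HyFaceA Groth.Agent.H6.HyCosk

variable {E : Type u} [Category.{v} E]
  [∀ (n : ℕ) (F : (SimplexCategory.Truncated n)ᵒᵖ ⥤ E),
    (SimplexCategory.Truncated.inclusion n).op.HasRightKanExtension F]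

variable {K : SimplicialObject E} {m : ℕ} {A : E} (g : Fin (m + 2) → (A ⟶ K _⦋m⦌))
  (hg : SC K m Set.univ g)

include hg in
theorem leg_eq (s : StructuredArrow (op ⦋m + 1⦌) (SimplexCategory.Truncated.inclusion m).op)
    (a : Fin (m + 2)) (ψ : s.right.unop.obj ⟶ ⦋m⦌) (h : s.hom.unop = ψ ≫ SimplexCategory.δ a) :
    leg g s = g a ≫ K.map ψ.op := by
  unfold leg
  refine hg _ _ (Set.mem_univ _) (Set.mem_univ _) _ _ _ ?_
  rw [← (eq_comp_δ_of_not_surjective s.hom.unop (ns s)).choose_spec.choose_spec, h]

include hg in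
theorem leg_nat (s s' : StructuredArrow (op ⦋m + 1⦌) (SimplexCategory.Truncated.inclusion m).op)
    (f : s ⟶ s') :
    leg g s ≫ ((SimplicialObject.truncation m).obj K).map f.right = leg g s' := by
  have hw : s.hom ≫ (SimplexCategory.Truncated.inclusion m).op.map f.right = s'.hom :=
    StructuredArrow.w f
  obtain ⟨a, ψ, h⟩ := eq_comp_δ_of_not_surjective s.hom.unop (ns s)
  have h' : s'.hom.unop = (f.right.unop.hom ≫ ψ) ≫ SimplexCategory.δ a := by
    rw [← hw, Category.assoc, ← h]
    rfl
  rw [leg_eq g hg s a ψ h, leg_eq g hg s' a _ h']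
  have e : K.map ψ.op ≫ K.map f.right.unop.hom.op = K.map (f.right.unop.hom ≫ ψ).op := by
    rw [← K.map_comp]; rfl
  exact (Category.assoc _ _ _).trans (congrArg (fun t => g a ≫ t) e)

/-- the cone with apex `A` -/
noncomputable def cone : Cone (StructuredArrow.proj (op ⦋m + 1⦌)
    (SimplexCategory.Truncated.inclusion m).op ⋙ (SimplicialObject.truncation m).obj K) where
  pt := A
  π :=
    { app := fun s => leg g s
      naturality := fun s s' f => (Category.id_comp _).trans (leg_nat g hg s s' f).symm }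

include hg in
theorem exists_lift
    [∀ F : (SimplexCategory.Truncated m)ᵒᵖ ⥤ E,
      (SimplexCategory.Truncated.inclusion m).op.HasPointwiseRightKanExtension F] :
    ∃ β : A ⟶ ((SimplicialObject.cosk m).obj K) _⦋m + 1⦌, ∀ a : Fin (m + 2), β ≫ P K m a = g a := by
  have hV := Functor.isPointwiseRightKanExtensionOfIsRightKanExtension ((SimplicialObject.cosk m).obj K)
    ((SimplicialObject.coskAdj m).counit.app ((SimplicialObject.truncation m).obj K)) (op ⦋m + 1⦌)
  refine ⟨hV.lift (cone g hg), fun a => ?_⟩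
  let s : StructuredArrow (op ⦋m + 1⦌) (SimplexCategory.Truncated.inclusion m).op :=
    StructuredArrow.mk (Y := zm m) (SimplexCategory.δ a).op
  have h := hV.fac (cone g hg) s
  have h1 : (cone g hg).π.app s = g a := by
    show leg g s = g a
    rw [leg_eq g hg s a (𝟙 _) (Category.id_comp _).symm]
    erw [op_id, K.map_id, Category.comp_id]
  rw [← h1, ← h]
  rfl

end Groth.Agent.H6.HyCoskQ
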