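import Mathlib
import Groth.Prelude.Def_Hyper
import Groth.Agent.Lib.Helper6.HyAcD
import Groth.Agent.Lib.Helper6.HyCoskQ
import Groth.Agent.Lib.Helper6.FcLim

/-! Helper6: acyclicity of `ℤ[F(K)]^#` for a hypercovering in Verdier's sense (S3091). -/

set_option autoImplicit false
open CategoryTheory CategoryTheory.Limits Opposite Simplicial SimplexCategory

universe u

namespace Groth.Agent.H6.HyAcV

open Groth.Agent.H6.HyCoch Groth.Agent.H6.HyYo Groth.Agent.H6.HyFaceA Groth.Agent.H6.HyFaceB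
  Groth.Agent.H6.HyAc

section fill

variable {C : Type u} [SmallCategory C] (J : GrothendieckTopology C)
  (K : SimplicialObject (FormalCoproduct.{u} C))

theorem fill_zero
    (h2 : Presheaf.IsLocallySurjective J
      (prod.lift (FormalCoproduct.yoneda.map (K.δ (1 : Fin 2)))
        (FormalCoproduct.yoneda.map (K.δ (0 : Fin 2))))) : Fill J K 0 Set.univ := by
  intro U g _
  obtain ⟨z, hz1, hz2⟩ := exists_pair (P := Fy.obj (K _⦋0⦌)) (P' := Fy.obj (K _⦋0⦌))
    (sg (K _⦋0⦌) (g 1)) (sg (K _⦋0⦌) (g 0))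
  refine ⟨_, h2.imageSieve_mem z, ?_⟩
  rintro V h ⟨t, ht⟩
  obtain ⟨γ, rfl⟩ := sg_surj (K _⦋1⦌) t
  have k1 : sg (K _⦋0⦌) (γ ≫ K.δ 1) = sg (K _⦋0⦌) (pmap h ≫ g 1) := by
    rw [← sg_map, ← sg_res, ← hz1]
    have n1 := NatTrans.naturality_apply (prod.fst :
      Fy.obj (K.obj (op ⦋0⦌)) ⨯ Fy.obj (K.obj (op ⦋0⦌)) ⟶ _) h.op z
    refine Eq.trans ?_ n1
    rw [← ht]
    exact (types_congr_hom (congrArg (fun t => t.app (op V)) (prod.lift_fst
      (FormalCoproduct.yoneda.map (K.δ (1 : Fin 2))) (FormalCoproduct.yoneda.map (K.δ (0 : Fin 2))))) _).symm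
  have k0 : sg (K _⦋0⦌) (γ ≫ K.δ 0) = sg (K _⦋0⦌) (pmap h ≫ g 0) := by
    rw [← sg_map, ← sg_res, ← hz2]
    have n1 := NatTrans.naturality_apply (prod.snd :
      Fy.obj (K.obj (op ⦋0⦌)) ⨯ Fy.obj (K.obj (op ⦋0⦌)) ⟶ _) h.op z
    refine Eq.trans ?_ n1
    rw [← ht]
    exact (types_congr_hom (congrArg (fun t => t.app (op V)) (prod.lift_snd
      (FormalCoproduct.yoneda.map (K.δ (1 : Fin 2))) (FormalCoproduct.yoneda.map (K.δ (0 : Fin 2))))) _).symm
  refine ⟨γ, fun a _ => ?_⟩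
  fin_cases a
  · exact sg_inj _ _ _ k0
  · exact sg_inj _ _ _ k1

variable
  [∀ (n : ℕ) (F : (SimplexCategory.Truncated n)ᵒᵖ ⥤ FormalCoproduct.{u} C),
    (SimplexCategory.Truncated.inclusion n).op.HasRightKanExtension F]
  [∀ (n : ℕ) (F : (SimplexCategory.Truncated n)ᵒᵖ ⥤ FormalCoproduct.{u} C),
    (SimplexCategory.Truncated.inclusion n).op.HasPointwiseRightKanExtension F]

theorem fill_succ (m : ℕ)
    (h : Presheaf.IsLocallySurjective J (FormalCoproduct.yoneda.map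
      (((SimplicialObject.coskAdj m).unit.app K).app (op (SimplexCategory.mk (m + 1)))))) :
    Fill J K m Set.univ := by
  intro U g hg
  obtain ⟨β, hβ⟩ := Groth.Agent.H6.HyCoskQ.exists_lift g hg
  refine ⟨_, h.imageSieve_mem (sg _ β), ?_⟩
  rintro V f ⟨t, ht⟩
  obtain ⟨γ, rfl⟩ := sg_surj (K _⦋m + 1⦌) t
  have e : γ ≫ ((SimplicialObject.coskAdj m).unit.app K).app (op ⦋m + 1⦌) = pmap f ≫ β := by
    apply sg_inj
    rw [← sg_map, ← sg_res]
    exact ht
  refine ⟨γ, fun a _ => ?_⟩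
  rw [← Groth.Agent.H6.HyCoskP.unit_P K m a, ← Category.assoc, e, Category.assoc, hβ a]

end fill

section main

variable {C : Type u} [SmallCategory C] [HasPullbacks C] [HasBinaryProducts C]
    (J : GrothendieckTopology C) (K : SimplicialObject (FormalCoproduct.{u} C))
    [∀ (n : ℕ) (F : (SimplexCategory.Truncated n)ᵒᵖ ⥤ Limits.FormalCoproduct.{u} C),
      (SimplexCategory.Truncated.inclusion n).op.HasRightKanExtension F]

theorem fill_of_site (hK : Hyper.IsHypercoveringSite J K) (m : ℕ) : Fill J K m Set.univ := by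
  haveI : ∀ (n : ℕ) (F : (SimplexCategory.Truncated n)ᵒᵖ ⥤ FormalCoproduct.{u} C),
      (SimplexCategory.Truncated.inclusion n).op.HasPointwiseRightKanExtension F :=
    fun n F => Groth.Agent.H6.FcLim.hasPointwise_fc n F
  cases m with
  | zero => exact fill_zero J K hK.2.1
  | succ m => exact fill_succ J K (m + 1) (hK.2.2 (m + 1) (Nat.succ_le_succ (Nat.zero_le m)))

/-- `ℤ` as the free abelian group on a point -/
noncomputable def freeIso : AddCommGrpCat.free.{u}.obj PUnit.{u + 1} ≅ AddCommGrpCat.of (ULift.{u} ℤ) :=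
  (((FreeAbelianGroup.uniqueEquiv PUnit.{u + 1}).trans AddEquiv.ulift.symm :
    FreeAbelianGroup PUnit.{u + 1} ≃+ ULift.{u} ℤ)).toAddCommGrpIso

theorem main_site (hK : Hyper.IsHypercoveringSite J K) :
    (∀ n : ℕ, IsZero ((Hyper.freeChainCx J K).homology (n + 1))) ∧
    Nonempty ((Hyper.freeChainCx J K).homology 0 ≅
      (constantSheaf J AddCommGrpCat.{u}).obj (AddCommGrpCat.of (ULift.{u} ℤ))) := by
  have hF := fill_of_site J K hK
  have hP := fun U => Groth.Agent.H6.HySiteH0.Sa_mem (J := J) K hK.1 U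
  refine ⟨fun n => isZero_homology_succ K J hF hP n, ?_⟩
  obtain ⟨e⟩ := homology_zero_iso K J hF hP
  exact ⟨e ≪≫ (constantSheaf J AddCommGrpCat.{u}).mapIso freeIso⟩

end main

end Groth.Agent.H6.HyAcV
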