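import Mathlib
import Groth.Prelude.Def_Hyper
import Groth.Prelude.Def_Hyper2
import Groth.Agent.Lib.Helper6.HyRefine

/-! Helper6: Cech cohomology classes of a presheaf with zero sheafification die on a refinement (S3882). -/

set_option autoImplicit false
open CategoryTheory CategoryTheory.Limits Opposite Simplicial SimplexCategory

universe u

namespace Groth.Agent.H6.HyKill

open Groth.Agent.H6.HyCoch Groth.Agent.H6.HyYo Groth.Agent.H6.HyRefine

section loc

variable {C : Type u} [SmallCategory C] (J : GrothendieckTopology C) (N : Cᵒᵖ ⥤ AddCommGrpCat.{u})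

/-- sections of a presheaf with zero sheafification are locally zero -/
theorem locZero (hN : IsZero ((presheafToSheaf J AddCommGrpCat.{u}).obj N)) {U : C}
    (s : N.obj (op U)) :
    ∃ S : Sieve U, S ∈ J U ∧ ∀ ⦃V : C⦄ (h : V ⟶ U), S h → N.map h.op s = 0 := by
  have hz : IsZero ((sheafify J N).obj (op U)) := by
    have h1 : IsZero ((sheafToPresheaf J AddCommGrpCat.{u}).obj
        ((presheafToSheaf J AddCommGrpCat.{u}).obj N)) :=
      (sheafToPresheaf J AddCommGrpCat.{u}).map_isZero hN
    exact ((evaluation Cᵒᵖ AddCommGrpCat.{u}).obj (op U)).map_isZero h1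
  haveI : Subsingleton ((sheafify J N).obj (op U)) := AddCommGrpCat.subsingleton_of_isZero hz
  have h2 := Presheaf.equalizerSieve_mem J (toSheafify J N) (X := op U) s 0 (Subsingleton.elim _ _)
  refine ⟨_, h2, ?_⟩
  intro V h hh
  have : N.map h.op s = N.map h.op 0 := hh
  rw [this, map_zero]

end loc

section kill

variable {D : Type u} [SmallCategory D] (J' : GrothendieckTopology D)
  (Q : Dᵒᵖ ⥤ AddCommGrpCat.{u}) {B : FormalCoproduct.{u} D} (c : Coch Q B)

/-- index type: arrows to the components of `B` on which the cochain vanishes -/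
structure IdxZ : Type u where
  i : B.I
  V : D
  h : V ⟶ B.obj i
  hz : Q.map h.op (c i) = 0

/-- the formal coproduct of all arrows on which `c` vanishes -/
abbrev ZZ : FormalCoproduct.{u} D := ⟨IdxZ Q c, fun k => k.V⟩

/-- the map to `B` -/
def uZ : ZZ Q c ⟶ B := ⟨fun k => k.i, fun k => k.h⟩

theorem pull_uZ : pull Q (uZ Q c) c = 0 := funext fun k => k.hz

theorem pull_zero {A A' : FormalCoproduct.{u} D} (g : A ⟶ A') : pull Q g (0 : Coch Q A') = 0 := by
  funext i
  show Q.map (g.φ i).op 0 = 0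
  exact map_zero _

theorem uZ_covering (hloc : ∀ i : B.I, ∃ S : Sieve (B.obj i), S ∈ J' (B.obj i) ∧
    ∀ ⦃V : D⦄ (h : V ⟶ B.obj i), S h → Q.map h.op (c i) = 0) :
    Hyper.IsSRCovering J' (uZ Q c) := by
  intro j
  obtain ⟨S, hS, hz⟩ := hloc j
  refine J'.superset_covering ?_ hS
  intro V h hh
  rw [Groth.Agent.H9.SR1.mem_ofArrows_iff]
  refine ⟨⟨⟨j, V, h, hz h hh⟩, rfl⟩, 𝟙 V, ?_⟩
  show h = 𝟙 V ≫ h ≫ eqToHom _
  simp

end kill

section main

variable {C : Type u} [SmallCategory C] [HasPullbacks C]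
    (J : GrothendieckTopology C) (X : C)
    [∀ (n : ℕ) (F : (SimplexCategory.Truncated n)ᵒᵖ ⥤ Limits.FormalCoproduct.{u} (Over X)),
      (SimplexCategory.Truncated.inclusion n).op.HasRightKanExtension F]

/-- sections of the restriction to `Over X` are locally zero -/
theorem locZero_over (N : Cᵒᵖ ⥤ AddCommGrpCat.{u})
    (hN : IsZero ((presheafToSheaf J AddCommGrpCat.{u}).obj N)) (U : Over X)
    (s : ((Over.forget X).op ⋙ N).obj (op U)) :
    ∃ S : Sieve U, S ∈ (J.over X) U ∧ ∀ ⦃V : Over X⦄ (h : V ⟶ U), S h →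
      ((Over.forget X).op ⋙ N).map h.op s = 0 := by
  obtain ⟨S, hS, hz⟩ := locZero J N hN (U := U.left) s
  refine ⟨(Sieve.overEquiv U).symm S, ?_, ?_⟩
  · rw [GrothendieckTopology.mem_over_iff]
    have e : (Sieve.overEquiv U) ((Sieve.overEquiv U).symm S) = S :=
      (Sieve.overEquiv U).apply_symm_apply S
    rw [e]
    exact hS
  · intro V h hh
    rw [Sieve.overEquiv_symm_iff] at hh
    exact hz h.left hh

theorem cechMap_f {K L : SimplicialObject (FormalCoproduct.{u} (Over X))} (f : L ⟶ K)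
    (N : Cᵒᵖ ⥤ AddCommGrpCat.{u}) (p : ℕ) :
    (Hyper.cechMap X f N).f p =
      ((FormalCoproduct.evalOp.{u} (Over X) AddCommGrpCat.{u}).obj ((Over.forget X).op ⋙ N)).map
        (f.app (op (SimplexCategory.mk p))).op := rfl

theorem main (K : SimplicialObject (FormalCoproduct.{u} (Over X))) (hK : Hyper.IsHypercovering J X K)
    (N : Cᵒᵖ ⥤ AddCommGrpCat.{u}) (hN : IsZero ((presheafToSheaf J AddCommGrpCat.{u}).obj N))
    (p : ℕ) (ξ : Hyper.cechH X K N p) :
    ∃ (L : SimplicialObject (FormalCoproduct.{u} (Over X))) (f : L ⟶ K),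
      Hyper.IsHypercovering J X L ∧ Hyper.cechHMap X f N p ξ = 0 := by
  let Q : (Over X)ᵒᵖ ⥤ AddCommGrpCat.{u} := (Over.forget X).op ⋙ N
  have hsurj : Function.Surjective ((Hyper.cechCx X K N).homologyπ p) :=
    (AddCommGrpCat.epi_iff_surjective _).1 inferInstance
  obtain ⟨z, rfl⟩ := hsurj ξ
  let x : EV Q (K.obj (op (SimplexCategory.mk p))) := (Hyper.cechCx X K N).iCycles p z
  let c : Coch Q (K.obj (op (SimplexCategory.mk p))) := coch Q _ x
  obtain ⟨L, f, g, hL, hg⟩ := Groth.Agent.H6.HyRefine.main J X K hK p (ZZ Q c) (uZ Q c)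
    (uZ_covering (J.over X) Q c (fun i => locZero_over J X N hN _ (c i)))
  refine ⟨L, f, hL, ?_⟩
  have h1 := ConcreteCategory.congr_hom
    (HomologicalComplex.homologyπ_naturality (Hyper.cechMap X f N) p) z
  rw [ConcreteCategory.comp_apply, ConcreteCategory.comp_apply] at h1
  show (HomologicalComplex.homologyMap (Hyper.cechMap X f N) p)
    ((Hyper.cechCx X K N).homologyπ p z) = 0
  rw [h1]
  have h2 : HomologicalComplex.cyclesMap (Hyper.cechMap X f N) p z = 0 := by
    have hinj : Function.Injective ((Hyper.cechCx X L N).iCycles p) :=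
      (AddCommGrpCat.mono_iff_injective _).1 inferInstance
    apply hinj
    rw [map_zero]
    have h3 := ConcreteCategory.congr_hom
      (HomologicalComplex.cyclesMap_i (Hyper.cechMap X f N) p) z
    rw [ConcreteCategory.comp_apply, ConcreteCategory.comp_apply] at h3
    rw [h3]
    apply (cochX Q L p).injective
    have h4 : cochX Q L p ((Hyper.cechMap X f N).f p x) =
        pull Q (f.app (op (SimplexCategory.mk p))) c := coch_map Q _ x
    refine h4.trans (Eq.trans ?_ (map_zero (cochX Q L p)).symm)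
    rw [← hg, pull_comp, pull_uZ, pull_zero]
  rw [h2, map_zero]

end main

end Groth.Agent.H6.HyKill
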