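import Mathlib
import Groth.Prelude.Def_Hyper
import Groth.Prelude.Def_Hyper2
import Groth.Agent.Lib.Helper6.HyLer
import Groth.Agent.Lib.Helper6.HyKill

/-! Helper6: cochain-level calculus for refinements of hypercoverings: functoriality of the Cech
complex in the simplicial object, boundaries, "killable" classes, and refinement lemmas
(local lifting / local vanishing of cochains). -/

set_option autoImplicit false
open CategoryTheory CategoryTheory.Limits Opposite Simplicial SimplexCategory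

universe u

namespace Groth.Agent.H6.HyCol

open Groth.Agent.H6.HyCoch Groth.Agent.H6.HyLer

section cx

variable (A : CochainComplex AddCommGrpCat.{u} ℕ)

theorem exists_cycle (q : ℕ) (x : A.X q) (hx : A.d q (q + 1) x = 0) :
    ∃ z : A.cycles q, A.iCycles q z = x := by
  have hk := A.cyclesIsKernel q (q + 1) (by simp)
  have hex : (ShortComplex.mk (A.iCycles q) (A.d q (q + 1)) (A.iCycles_d q (q + 1))).Exact :=
    ShortComplex.exact_of_f_is_kernel _ hk
  rw [ShortComplex.ab_exact_iff] at hex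
  exact hex x hx

theorem homologyπ_surjective (q : ℕ) : Function.Surjective (A.homologyπ q) :=
  (AddCommGrpCat.epi_iff_surjective _).1 inferInstance

theorem iCycles_injective (q : ℕ) : Function.Injective (A.iCycles q) :=
  (AddCommGrpCat.mono_iff_injective _).1 inferInstance

theorem homologyπ_eq_zero_iff_succ (q : ℕ) (z : A.cycles (q + 1)) :
    A.homologyπ (q + 1) z = 0 ↔ ∃ b : A.X q, A.d q (q + 1) b = A.iCycles (q + 1) z := by
  have hc := A.homologyIsCokernel q (q + 1) (by simp)
  have hex : (ShortComplex.mk (A.toCycles q (q + 1)) (A.homologyπ (q + 1))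
      (A.toCycles_comp_homologyπ q (q + 1))).Exact :=
    ShortComplex.exact_of_g_is_cokernel _ hc
  rw [ShortComplex.ab_exact_iff] at hex
  have hti : ∀ b : A.X q, A.iCycles (q + 1) (A.toCycles q (q + 1) b) = A.d q (q + 1) b :=
    fun b => ConcreteCategory.congr_hom (A.toCycles_i q (q + 1)) b
  constructor
  · intro h
    obtain ⟨b, hb⟩ := hex z h
    refine ⟨b, ?_⟩
    have hb' : A.toCycles q (q + 1) b = z := hb
    rw [← hb', hti]
  · rintro ⟨b, hb⟩
    have h1 : A.toCycles q (q + 1) b = z := by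
      apply iCycles_injective
      rw [hti, hb]
    rw [← h1]
    exact ConcreteCategory.congr_hom (A.toCycles_comp_homologyπ q (q + 1)) b

theorem homologyπ_eq_zero_iff_zero (z : A.cycles 0) :
    A.homologyπ 0 z = 0 ↔ A.iCycles 0 z = 0 := by
  haveI : IsIso (A.homologyπ 0) := A.isIso_homologyπ 0 0 (by simp) (A.shape 0 0 (by simp))
  have hinj2 : Function.Injective (A.homologyπ 0) :=
    (AddCommGrpCat.mono_iff_injective _).1 inferInstance
  constructor
  · intro h
    have : z = 0 := hinj2 (by rw [h, map_zero])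
    rw [this, map_zero]
  · intro h
    have : z = 0 := iCycles_injective A 0 (by rw [h, map_zero])
    rw [this, map_zero]

end cx

section general

variable {D : Type u} [SmallCategory D] (P : Dᵒᵖ ⥤ AddCommGrpCat.{u})

/-- `pull` as an additive map -/
def pullH {A B : FormalCoproduct.{u} D} (f : A ⟶ B) : Coch P B →+ Coch P A where
  toFun := pull P f
  map_zero' := funext fun i => map_zero (P.map (f.φ i).op).hom
  map_add' x y := funext fun i => map_add (P.map (f.φ i).op).hom _ _

theorem pullH_apply {A B : FormalCoproduct.{u} D} (f : A ⟶ B) (y : Coch P B) :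
    pullH P f y = pull P f y := rfl

theorem pull_zero {A B : FormalCoproduct.{u} D} (f : A ⟶ B) : pull P f (0 : Coch P B) = 0 :=
  (pullH P f).map_zero

theorem pull_sub {A B : FormalCoproduct.{u} D} (f : A ⟶ B) (x y : Coch P B) :
    pull P f (x - y) = pull P f x - pull P f y :=
  (pullH P f).map_sub x y

theorem pull_id (A : FormalCoproduct.{u} D) (y : Coch P A) : pull P (𝟙 A) y = y := by
  funext i
  show P.map (𝟙 (A.obj i)).op (y i) = y i
  rw [op_id, P.map_id]
  rfl

variable {K L M : SimplicialObject (FormalCoproduct.{u} D)}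

/-- the map of Cech complexes induced by a map of simplicial objects -/
noncomputable def cmapK (f : L ⟶ K) : Cx P K ⟶ Cx P L :=
  (AlgebraicTopology.alternatingCofaceMapComplex AddCommGrpCat.{u}).map
    (((Functor.whiskeringLeft _ _ _).map (NatTrans.rightOp f)).app
      ((FormalCoproduct.evalOp.{u} D AddCommGrpCat.{u}).obj P))

theorem cochX_cmapK (f : L ⟶ K) (n : ℕ) (x : (Cx P K).X n) :
    cochX P L n ((cmapK P f).f n x) = pull P (f.app (op ⦋n⦌)) (cochX P K n x) :=
  coch_map P _ x

theorem pull_dC (f : L ⟶ K) (n : ℕ) (x : Coch P (K _⦋n⦌)) :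
    dC P L n (pull P (f.app (op ⦋n⦌)) x) = pull P (f.app (op ⦋n + 1⦌)) (dC P K n x) := by
  obtain ⟨x', rfl⟩ := (cochX P K n).surjective x
  rw [← cochX_cmapK, dC_cochX, dC_cochX, ← cochX_cmapK]
  have h := ConcreteCategory.congr_hom ((cmapK P f).comm n (n + 1)) x'
  rw [ConcreteCategory.comp_apply, ConcreteCategory.comp_apply] at h
  rw [h]

theorem pull_comp_app (f : L ⟶ K) (g : M ⟶ L) (n : ℕ) (x : Coch P (K _⦋n⦌)) :
    pull P ((g ≫ f).app (op ⦋n⦌)) x = pull P (g.app (op ⦋n⦌)) (pull P (f.app (op ⦋n⦌)) x) := by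
  rw [NatTrans.comp_app, pull_comp]

/-- boundaries (in degree zero: only zero) -/
def IsBd (L : SimplicialObject (FormalCoproduct.{u} D)) (q : ℕ) (y : Coch P (L _⦋q⦌)) : Prop :=
  match q, y with
  | 0, y => y = 0
  | (q + 1), y => ∃ b : Coch P (L _⦋q⦌), dC P L q b = y

theorem isBd_pull (f : M ⟶ L) (q : ℕ) (y : Coch P (L _⦋q⦌)) (h : IsBd P L q y) :
    IsBd P M q (pull P (f.app (op ⦋q⦌)) y) := by
  cases q with
  | zero =>
    have h' : y = 0 := h
    show pull P (f.app (op ⦋0⦌)) y = 0
    rw [h', pull_zero]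
  | succ q =>
    obtain ⟨b, hb⟩ := h
    exact ⟨pull P (f.app (op ⦋q⦌)) b, by rw [pull_dC, hb]⟩

theorem isBd_mapC {P' : Dᵒᵖ ⥤ AddCommGrpCat.{u}} (α : P ⟶ P') (q : ℕ) (y : Coch P (L _⦋q⦌))
    (h : IsBd P L q y) : IsBd P' L q (mapC α _ y) := by
  cases q with
  | zero =>
    have h' : y = 0 := h
    show mapC α _ y = 0
    rw [h', map_zero]
  | succ q =>
    obtain ⟨b, hb⟩ := h
    exact ⟨mapC α _ b, by rw [← mapC_dC, hb]⟩

variable (H : SimplicialObject (FormalCoproduct.{u} D) → Prop)

/-- every cocycle becomes a boundary on a refinement (cochain level) -/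
def KillC (q : ℕ) : Prop :=
  ∀ K : SimplicialObject (FormalCoproduct.{u} D), H K → ∀ c : Coch P (K _⦋q⦌), dC P K q c = 0 →
    ∃ (L : SimplicialObject (FormalCoproduct.{u} D)) (f : L ⟶ K), H L ∧
      IsBd P L q (pull P (f.app (op ⦋q⦌)) c)

/-- every cohomology class dies on a refinement -/
def KillH (q : ℕ) : Prop :=
  ∀ K : SimplicialObject (FormalCoproduct.{u} D), H K → ∀ ξ : (Cx P K).homology q,
    ∃ (L : SimplicialObject (FormalCoproduct.{u} D)) (f : L ⟶ K), H L ∧
      HomologicalComplex.homologyMap (cmapK P f) q ξ = 0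

theorem homologyMap_eq_zero_iff (f : L ⟶ K) (q : ℕ) (z : (Cx P K).cycles q) :
    HomologicalComplex.homologyMap (cmapK P f) q ((Cx P K).homologyπ q z) = 0 ↔
      IsBd P L q (pull P (f.app (op ⦋q⦌)) (cochX P K q ((Cx P K).iCycles q z))) := by
  have h1 := ConcreteCategory.congr_hom
    (HomologicalComplex.homologyπ_naturality (cmapK P f) q) z
  rw [ConcreteCategory.comp_apply, ConcreteCategory.comp_apply] at h1
  rw [h1]
  have h3 := ConcreteCategory.congr_hom (HomologicalComplex.cyclesMap_i (cmapK P f) q) z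
  rw [ConcreteCategory.comp_apply, ConcreteCategory.comp_apply] at h3
  rw [← cochX_cmapK, ← h3]
  cases q with
  | zero =>
    rw [homologyπ_eq_zero_iff_zero]
    exact ((cochX P L 0).map_eq_zero_iff).symm
  | succ q =>
    rw [homologyπ_eq_zero_iff_succ]
    constructor
    · rintro ⟨b, hb⟩
      exact ⟨cochX P L q b, by rw [dC_cochX, hb]⟩
    · rintro ⟨b, hb⟩
      refine ⟨(cochX P L q).symm b, ?_⟩
      apply (cochX P L (q + 1)).injective
      rw [← dC_cochX, AddEquiv.apply_symm_apply, hb]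

theorem killH_iff_killC (q : ℕ) : KillH P H q ↔ KillC P H q := by
  constructor
  · intro h K hK c hc
    have hx : (Cx P K).d q (q + 1) ((cochX P K q).symm c) = 0 := by
      apply (cochX P K (q + 1)).injective
      rw [← dC_cochX, AddEquiv.apply_symm_apply, hc, map_zero]
    obtain ⟨z, hz⟩ := exists_cycle (Cx P K) q _ hx
    obtain ⟨L, f, hL, hf⟩ := h K hK ((Cx P K).homologyπ q z)
    rw [homologyMap_eq_zero_iff, hz, AddEquiv.apply_symm_apply] at hf
    exact ⟨L, f, hL, hf⟩
  · intro h K hK ξ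
    obtain ⟨z, rfl⟩ := homologyπ_surjective (Cx P K) q ξ
    have hc : dC P K q (cochX P K q ((Cx P K).iCycles q z)) = 0 := by
      rw [dC_cochX]
      have := ConcreteCategory.congr_hom ((Cx P K).iCycles_d q (q + 1)) z
      rw [ConcreteCategory.comp_apply] at this
      rw [this]
      exact map_zero _
    obtain ⟨L, f, hL, hf⟩ := h K hK _ hc
    exact ⟨L, f, hL, (homologyMap_eq_zero_iff P f q z).2 hf⟩

end general

section lift

variable {D : Type u} [SmallCategory D] (J' : GrothendieckTopology D)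
  {P P' : Dᵒᵖ ⥤ AddCommGrpCat.{u}} (α : P ⟶ P') {B : FormalCoproduct.{u} D} (e : Coch P' B)

/-- index type: arrows to the components of `B` together with a lift of the cochain -/
structure IdxL : Type u where
  i : B.I
  V : D
  h : V ⟶ B.obj i
  t : P.obj (op V)
  ht : α.app (op V) t = P'.map h.op (e i)

/-- the formal coproduct of all arrows on which `e` lifts -/
abbrev ZL : FormalCoproduct.{u} D := ⟨IdxL α e, fun k => k.V⟩

/-- the map to `B` -/
def uL : ZL α e ⟶ B := ⟨fun k => k.i, fun k => k.h⟩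

/-- the tautological lift -/
def tL : Coch P (ZL α e) := fun k => k.t

theorem mapC_tL : mapC α _ (tL α e) = pull P' (uL α e) e := funext fun k => k.ht

theorem uL_covering (hloc : ∀ i : B.I, ∃ S : Sieve (B.obj i), S ∈ J' (B.obj i) ∧
    ∀ ⦃V : D⦄ (h : V ⟶ B.obj i), S h → ∃ t : P.obj (op V), α.app (op V) t = P'.map h.op (e i)) :
    Hyper.IsSRCovering J' (uL α e) := by
  intro j
  obtain ⟨S, hS, hz⟩ := hloc j
  refine J'.superset_covering ?_ hS
  intro V h hh
  obtain ⟨t, ht⟩ := hz h hh
  rw [Groth.Agent.H9.SR1.mem_ofArrows_iff]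
  refine ⟨⟨⟨j, V, h, t, ht⟩, rfl⟩, 𝟙 V, ?_⟩
  show h = 𝟙 V ≫ h ≫ eqToHom _
  simp

end lift

section refine

variable {C : Type u} [SmallCategory C] [HasPullbacks C]
    (J : GrothendieckTopology C) (X : C)
    [∀ (n : ℕ) (F : (SimplexCategory.Truncated n)ᵒᵖ ⥤ Limits.FormalCoproduct.{u} (Over X)),
      (SimplexCategory.Truncated.inclusion n).op.HasRightKanExtension F]

variable {P P' : (Over X)ᵒᵖ ⥤ AddCommGrpCat.{u}} (α : P ⟶ P')

/-- local surjectivity of a map of presheaves on `Over X` -/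
def LocSurj : Prop :=
  ∀ (U : Over X) (y : P'.obj (op U)), ∃ S : Sieve U, S ∈ (J.over X) U ∧
    ∀ ⦃V : Over X⦄ (h : V ⟶ U), S h → ∃ t : P.obj (op V), α.app (op V) t = P'.map h.op y

/-- local injectivity of a map of presheaves on `Over X` -/
def LocInj : Prop :=
  ∀ (U : Over X) (x : P.obj (op U)), α.app (op U) x = 0 → ∃ S : Sieve U, S ∈ (J.over X) U ∧
    ∀ ⦃V : Over X⦄ (h : V ⟶ U), S h → P.map h.op x = 0

variable {J X α}

theorem exists_lift_refine (hα : LocSurj J X α)
    (K : SimplicialObject (FormalCoproduct.{u} (Over X))) (hK : Hyper.IsHypercovering J X K)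
    (n : ℕ) (e : Coch P' (K _⦋n⦌)) :
    ∃ (L : SimplicialObject (FormalCoproduct.{u} (Over X))) (f : L ⟶ K),
      Hyper.IsHypercovering J X L ∧
        ∃ b : Coch P (L _⦋n⦌), mapC α _ b = pull P' (f.app (op ⦋n⦌)) e := by
  obtain ⟨L, f, g, hL, hg⟩ := Groth.Agent.H6.HyRefine.main J X K hK n (ZL α e) (uL α e)
    (uL_covering (J.over X) α e (fun i => hα _ (e i)))
  refine ⟨L, f, hL, pull P g (tL α e), ?_⟩
  rw [← pull_mapC, mapC_tL, ← pull_comp, hg]

theorem exists_zero_refine (hα : LocInj J X α)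
    (K : SimplicialObject (FormalCoproduct.{u} (Over X))) (hK : Hyper.IsHypercovering J X K)
    (n : ℕ) (c : Coch P (K _⦋n⦌)) (hc : mapC α _ c = 0) :
    ∃ (L : SimplicialObject (FormalCoproduct.{u} (Over X))) (f : L ⟶ K),
      Hyper.IsHypercovering J X L ∧ pull P (f.app (op ⦋n⦌)) c = 0 := by
  obtain ⟨L, f, g, hL, hg⟩ := Groth.Agent.H6.HyRefine.main J X K hK n
    (Groth.Agent.H6.HyKill.ZZ P c) (Groth.Agent.H6.HyKill.uZ P c)
    (Groth.Agent.H6.HyKill.uZ_covering (J.over X) P c (fun i => hα _ (c i) (congrFun hc i)))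
  refine ⟨L, f, hL, ?_⟩
  rw [← hg, pull_comp, Groth.Agent.H6.HyKill.pull_uZ, pull_zero]

end refine

end Groth.Agent.H6.HyCol
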