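import Mathlib
import Groth.Prelude.Def_Hyper
import Groth.Prelude.Def_Hyper2
import Groth.Prelude.Def_CohSite
import Groth.Agent.Lib.Helper6.HyColA
import Groth.Agent.Lib.Helper6.HyBasD
import Groth.Agent.Lib.Lead.SC.Shift

/-! Helper6: sheaf cohomology of an object `X` versus Cech cohomology over all hypercoverings of `X`
(map-free form of Verdier's hypercovering theorem, S3891): `H^q(X, F) = 0` iff every Cech class of
degree `q` dies on a refinement.  Proof by dimension shifting on cochains. -/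

set_option autoImplicit false
open CategoryTheory CategoryTheory.Limits Opposite Simplicial SimplexCategory Abelian

universe u

namespace Groth.Agent.H6.HyColB

open Groth.Agent.H6.HyCoch Groth.Agent.H6.HyLer Groth.Agent.H6.HyCol Groth.Agent.H6.HyH0
  Groth.Agent.LD.CH Groth.Agent.LD

variable {C : Type u} [SmallCategory C] [HasPullbacks C] {J : GrothendieckTopology C} {X : C}

section loc

theorem locSurj_whisker {G G' : Cᵒᵖ ⥤ AddCommGrpCat.{u}} (β : G ⟶ G')
    [Presheaf.IsLocallySurjective J β] :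
    LocSurj J X (Functor.whiskerLeft (Over.forget X).op β) := by
  intro U y
  let y' : G'.obj (op U.left) := y
  let S : Sieve U.left := Presheaf.imageSieve β y'
  have hS : S ∈ J U.left := Presheaf.imageSieve_mem J β (U := op U.left) y'
  refine ⟨(Sieve.overEquiv U).symm S, ?_, ?_⟩
  · rw [GrothendieckTopology.mem_over_iff]
    have e : (Sieve.overEquiv U) ((Sieve.overEquiv U).symm S) = S :=
      (Sieve.overEquiv U).apply_symm_apply S
    rw [e]
    exact hS
  · intro V h hh
    rw [Sieve.overEquiv_symm_iff] at hh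
    exact hh

theorem locInj_whisker {G G' : Cᵒᵖ ⥤ AddCommGrpCat.{u}} (β : G ⟶ G')
    [Presheaf.IsLocallyInjective J β] :
    LocInj J X (Functor.whiskerLeft (Over.forget X).op β) := by
  intro U x hx
  let x' : G.obj (op U.left) := x
  have hx' : β.app (op U.left) x' = β.app (op U.left) 0 := by
    rw [map_zero]
    exact hx
  let S : Sieve U.left := Presheaf.equalizerSieve (F := G) (X := op U.left) x' 0
  have hS : S ∈ J U.left := Presheaf.equalizerSieve_mem J β (X := op U.left) x' 0 hx'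
  refine ⟨(Sieve.overEquiv U).symm S, ?_, ?_⟩
  · rw [GrothendieckTopology.mem_over_iff]
    have e : (Sieve.overEquiv U) ((Sieve.overEquiv U).symm S) = S :=
      (Sieve.overEquiv U).apply_symm_apply S
    rw [e]
    exact hS
  · intro V h hh
    rw [Sieve.overEquiv_symm_iff] at hh
    have h2 : G.map h.left.op x' = G.map h.left.op 0 := hh
    rw [map_zero] at h2
    exact h2

theorem locSurj_qmap {F G : Sheaf J AddCommGrpCat.{u}} (φ : F ⟶ G) [Epi φ] :
    LocSurj J X (qmap (X := X) φ) := by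
  haveI : Sheaf.IsLocallySurjective φ :=
    (Sheaf.isLocallySurjective_iff_epi' (φ := φ)).2 inferInstance
  haveI : Presheaf.IsLocallySurjective J φ.hom := ‹Sheaf.IsLocallySurjective φ›
  exact locSurj_whisker φ.hom

end loc

section aug

variable (F : Sheaf J AddCommGrpCat.{u})

theorem augA_zero (A : FormalCoproduct.{u} (Over X)) : augA F A 0 = 0 := by
  funext i
  exact map_zero (F.obj.map (A.obj i).hom.op).hom

end aug

variable [∀ (n : ℕ) (F : (SimplexCategory.Truncated n)ᵒᵖ ⥤ Limits.FormalCoproduct.{u} (Over X)),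
      (SimplexCategory.Truncated.inclusion n).op.HasRightKanExtension F]

variable (J X) in
/-- hypercoverings of `X` -/
abbrev Hyp : SimplicialObject (FormalCoproduct.{u} (Over X)) → Prop :=
  fun K => Hyper.IsHypercovering J X K

variable (J X) in
theorem exists_hyp : ∃ K : SimplicialObject (FormalCoproduct.{u} (Over X)), Hyp J X K := by
  obtain ⟨K, hK, _⟩ := Groth.Agent.H6.HyBas.main J Set.univ
    (fun U => ⟨PUnit.{u + 1}, fun _ => U, fun _ => 𝟙 U, by
      have h : Sieve.ofArrows (fun _ : PUnit.{u + 1} => U) (fun _ => 𝟙 U) = ⊤ :=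
        Sieve.id_mem_iff_eq_top.1 (Sieve.ofArrows_mk _ _ PUnit.unit)
      rw [h]
      exact J.top_mem U, fun _ => trivial⟩) X
  exact ⟨K, hK⟩

theorem augA_injective (F : Sheaf J AddCommGrpCat.{u})
    {L : SimplicialObject (FormalCoproduct.{u} (Over X))} (hL : Hyp J X L)
    (s t : F.obj.obj (op X)) (h : augA F (L _⦋0⦌) s = augA F (L _⦋0⦌) t) : s = t := by
  obtain ⟨r, _, hr⟩ := existsUnique_of_cocycle F hL (augA F (L _⦋0⦌) s)
    (cocycle_zero _ L _ (dC_augA L F s))
  exact (hr s rfl).trans (hr t h).symm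

theorem claim_zero (F : Sheaf J AddCommGrpCat.{u}) :
    Subsingleton (F.obj.obj (op X)) ↔ KillC (Q X F) (Hyp J X) 0 := by
  constructor
  · intro hs K hK c hc
    obtain ⟨s, hs', _⟩ := existsUnique_of_cocycle F hK c (cocycle_zero _ K c hc)
    refine ⟨K, 𝟙 K, hK, ?_⟩
    show pull (Q X F) ((𝟙 K : K ⟶ K).app (op ⦋0⦌)) c = 0
    rw [NatTrans.id_app, pull_id, hs', Subsingleton.elim s 0]
    exact augA_zero F _
  · intro hk
    refine ⟨fun s t => ?_⟩
    suffices h : ∀ s : F.obj.obj (op X), s = 0 by rw [h s, h t]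
    intro s
    obtain ⟨K, hK⟩ := exists_hyp J X
    obtain ⟨L, f, hL, hb⟩ := hk K hK (augA F (K _⦋0⦌) s) (dC_augA K F s)
    have hb' : pull (Q X F) (f.app (op ⦋0⦌)) (augA F (K _⦋0⦌) s) = 0 := hb
    rw [pull_augA] at hb'
    exact augA_injective F hL s 0 (hb'.trans (augA_zero F _).symm)

section shift

variable (F : Sheaf J AddCommGrpCat.{u})

theorem claim_one_mp
    (hsurj : Function.Surjective ((injSeqS F).g.hom.app (op X))) :
    KillC (Q X F) (Hyp J X) 1 := by
  intro K hK c hc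
  have hS := injSeqS_shortExact F
  have h1 : dC (Q X (injSeqS F).X₂) K 1 (mapC (qmap (X := X) (injSeqS F).f) _ c) = 0 := by
    rw [← mapC_dC, hc, map_zero]
  obtain ⟨b, hb⟩ := exists_primitive_inj K hK (injSeqS F).X₂ 0 _ h1
  have h2 : dC (Q X (injSeqS F).X₃) K 0 (mapC (qmap (X := X) (injSeqS F).g) _ b) = 0 := by
    rw [← mapC_dC, hb, mapC_zero_comp]
  obtain ⟨t, ht, _⟩ := existsUnique_of_cocycle (injSeqS F).X₃ hK _ (cocycle_zero _ K _ h2)
  obtain ⟨s, hs⟩ := hsurj t
  have h3 : mapC (qmap (X := X) (injSeqS F).g) _ (b - augA (injSeqS F).X₂ (K _⦋0⦌) s) = 0 := by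
    rw [map_sub, ht, mapC_augA]
    have hs' : (injSeqS F).g.hom.app (op X) s = t := hs
    rw [hs', sub_self]
  obtain ⟨a, ha⟩ := mapC_exact hS _ _ h3
  refine ⟨K, 𝟙 K, hK, ?_⟩
  show ∃ b' : Coch (Q X F) (K _⦋0⦌), dC (Q X F) K 0 b' =
    pull (Q X F) ((𝟙 K : K ⟶ K).app (op ⦋1⦌)) c
  rw [NatTrans.id_app, pull_id]
  refine ⟨a, ?_⟩
  apply mapC_f_injective hS
  rw [mapC_dC, ha, map_sub, hb, dC_augA, sub_zero]

theorem claim_one_mpr (hk : KillC (Q X F) (Hyp J X) 1) :
    Function.Surjective ((injSeqS F).g.hom.app (op X)) := by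
  intro s
  have hS := injSeqS_shortExact F
  haveI := hS.epi_g
  obtain ⟨K, hK⟩ := exists_hyp J X
  obtain ⟨L, f, hL, b, hb⟩ := exists_lift_refine (locSurj_qmap (X := X) (injSeqS F).g) K hK 0
    (augA (injSeqS F).X₃ (K _⦋0⦌) s)
  rw [pull_augA] at hb
  have h1 : mapC (qmap (X := X) (injSeqS F).g) _ (dC (Q X (injSeqS F).X₂) L 0 b) = 0 := by
    rw [mapC_dC, hb, dC_augA]
  obtain ⟨c, hc⟩ := mapC_exact hS _ _ h1
  have h2 : dC (Q X F) L 1 c = 0 := by
    apply mapC_f_injective hS
    rw [mapC_dC, hc, dC_dC, map_zero]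
  obtain ⟨M, g, hM, a, ha⟩ := hk L hL c h2
  have h3 : dC (Q X (injSeqS F).X₂) M 0 (pull (Q X (injSeqS F).X₂) (g.app (op ⦋0⦌)) b -
      mapC (qmap (X := X) (injSeqS F).f) _ a) = 0 := by
    rw [map_sub, pull_dC, ← hc, ← mapC_dC, ha, pull_mapC, sub_self]
  obtain ⟨t, ht, _⟩ := existsUnique_of_cocycle (injSeqS F).X₂ hM _ (cocycle_zero _ M _ h3)
  refine ⟨t, ?_⟩
  apply augA_injective (injSeqS F).X₃ hM
  rw [← mapC_augA, ← ht, map_sub, mapC_zero_comp, sub_zero, ← pull_mapC, hb, pull_augA]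

theorem claim_shift_mp (q : ℕ) (hk : KillC (Q X (injSeqS F).X₃) (Hyp J X) (q + 1)) :
    KillC (Q X F) (Hyp J X) (q + 2) := by
  intro K hK c hc
  have hS := injSeqS_shortExact F
  haveI := hS.epi_g
  have h1 : dC (Q X (injSeqS F).X₂) K (q + 2) (mapC (qmap (X := X) (injSeqS F).f) _ c) = 0 := by
    rw [← mapC_dC, hc, map_zero]
  obtain ⟨b, hb⟩ := exists_primitive_inj K hK (injSeqS F).X₂ (q + 1) _ h1
  have h2 : dC (Q X (injSeqS F).X₃) K (q + 1) (mapC (qmap (X := X) (injSeqS F).g) _ b) = 0 := by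
    rw [← mapC_dC, hb, mapC_zero_comp]
  obtain ⟨L, f, hL, e, he⟩ := hk K hK _ h2
  obtain ⟨M, g, hM, e', he'⟩ := exists_lift_refine (locSurj_qmap (X := X) (injSeqS F).g) L hL q e
  have h3 : mapC (qmap (X := X) (injSeqS F).g) _
      (pull (Q X (injSeqS F).X₂) ((g ≫ f).app (op ⦋q + 1⦌)) b -
        dC (Q X (injSeqS F).X₂) M q e') = 0 := by
    rw [map_sub, ← pull_mapC, pull_comp_app, ← he, ← pull_dC, ← he', mapC_dC, sub_self]
  obtain ⟨a, ha⟩ := mapC_exact hS _ _ h3
  refine ⟨M, g ≫ f, hM, a, ?_⟩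
  apply mapC_f_injective hS
  rw [mapC_dC, ha, map_sub, dC_dC, sub_zero, pull_dC, hb, pull_mapC]

theorem claim_shift_mpr (q : ℕ) (hk : KillC (Q X F) (Hyp J X) (q + 2)) :
    KillC (Q X (injSeqS F).X₃) (Hyp J X) (q + 1) := by
  intro K hK e he
  have hS := injSeqS_shortExact F
  haveI := hS.epi_g
  obtain ⟨L, f, hL, b, hb⟩ := exists_lift_refine (locSurj_qmap (X := X) (injSeqS F).g) K hK
    (q + 1) e
  have h1 : mapC (qmap (X := X) (injSeqS F).g) _ (dC (Q X (injSeqS F).X₂) L (q + 1) b) = 0 := by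
    rw [mapC_dC, hb, pull_dC, he, pull_zero]
  obtain ⟨c, hc⟩ := mapC_exact hS _ _ h1
  have h2 : dC (Q X F) L (q + 2) c = 0 := by
    apply mapC_f_injective hS
    rw [mapC_dC, hc, dC_dC, map_zero]
  obtain ⟨M, g, hM, a, ha⟩ := hk L hL c h2
  have h3 : dC (Q X (injSeqS F).X₂) M (q + 1)
      (pull (Q X (injSeqS F).X₂) (g.app (op ⦋q + 1⦌)) b -
        mapC (qmap (X := X) (injSeqS F).f) _ a) = 0 := by
    rw [map_sub, pull_dC, ← hc, ← mapC_dC, ha, pull_mapC, sub_self]
  obtain ⟨e', he'⟩ := exists_primitive_inj M hM (injSeqS F).X₂ q _ h3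
  refine ⟨M, g ≫ f, hM, mapC (qmap (X := X) (injSeqS F).g) _ e', ?_⟩
  rw [← mapC_dC, he', map_sub, mapC_zero_comp, sub_zero, ← pull_mapC, hb, pull_comp_app]

end shift

theorem claim (q : ℕ) : ∀ F : Sheaf J AddCommGrpCat.{u},
    Subsingleton (Ext (SC.ZU J X) F q) ↔ KillC (Q X F) (Hyp J X) q := by
  induction q using Nat.twoStepInduction with
  | zero =>
    intro F
    exact ((SC.H0Equiv X F).toEquiv.subsingleton_congr).trans (claim_zero F)
  | one =>
    intro F
    have hS := injSeqS_shortExact F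
    constructor
    · intro h
      exact claim_one_mp F (SC.surjective_app_of_subsingleton_ext1 hS X h)
    · intro h
      have hsurj := claim_one_mpr F h
      have e := SC.ext1Equiv hS X (subsingleton_ext_injectiveS _ _ 0)
      haveI : Subsingleton ((injSeqS F).X₃.obj.obj (op X) ⧸
          ((injSeqS F).g.hom.app (op X)).hom.range) := by
        refine ⟨fun a b => ?_⟩
        obtain ⟨a', rfl⟩ := QuotientAddGroup.mk_surjective a
        obtain ⟨b', rfl⟩ := QuotientAddGroup.mk_surjective b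
        rw [QuotientAddGroup.eq]
        exact hsurj _
      exact e.symm.toEquiv.subsingleton
  | more q _ ih =>
    intro F
    have hS := injSeqS_shortExact F
    have e2 := SC.extShiftEquiv hS (SC.ZU J X) (q + 1)
      (subsingleton_ext_injectiveS _ _ q) (subsingleton_ext_injectiveS _ _ (q + 1))
    refine (e2.toEquiv.subsingleton_congr).symm.trans ((ih (injSeqS F).X₃).trans ?_)
    exact ⟨claim_shift_mp F q, claim_shift_mpr F q⟩

theorem main (F : Sheaf J AddCommGrpCat.{u}) (q : ℕ) :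
    Subsingleton (CohSite.HU F q X) ↔
      ∀ (K : SimplicialObject (FormalCoproduct.{u} (Over X))), Hyper.IsHypercovering J X K →
        ∀ ξ : Hyper.cechH X K F.obj q, ∃ (L : SimplicialObject (FormalCoproduct.{u} (Over X)))
          (f : L ⟶ K), Hyper.IsHypercovering J X L ∧ Hyper.cechHMap X f F.obj q ξ = 0 :=
  (claim q F).trans (killH_iff_killC (Q X F) (Hyp J X) q).symm

end Groth.Agent.H6.HyColB
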