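import Mathlib
import Groth.Prelude.Def_Hyper
import Groth.Prelude.Def_Hyper2
import Groth.Prelude.Def_CohSite
import Groth.Agent.Lib.Helper6.HyColB

/-! Helper6: Cech cohomology of a presheaf over all hypercoverings of `X` versus cohomology of the
associated sheaf (map-free form, S3892). -/

set_option autoImplicit false
open CategoryTheory CategoryTheory.Limits Opposite Simplicial SimplexCategory Abelian

universe u

namespace Groth.Agent.H6.HyColC

open Groth.Agent.H6.HyCoch Groth.Agent.H6.HyLer Groth.Agent.H6.HyCol Groth.Agent.H6.HyH0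
  Groth.Agent.H6.HyColB Groth.Agent.LD

variable {C : Type u} [SmallCategory C] [HasPullbacks C] {J : GrothendieckTopology C} {X : C}
  (G : Cᵒᵖ ⥤ AddCommGrpCat.{u})

variable (X) in
/-- the restriction of the presheaf to `Over X` -/
abbrev QG : (Over X)ᵒᵖ ⥤ AddCommGrpCat.{u} := (Over.forget X).op ⋙ G

variable (J) in
/-- the associated sheaf -/
noncomputable abbrev Gs : Sheaf J AddCommGrpCat.{u} := (presheafToSheaf J AddCommGrpCat.{u}).obj G

variable (J X) in
/-- the sheafification map, restricted to `Over X` -/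
noncomputable abbrev eta : QG X G ⟶ Q X (Gs J G) :=
  Functor.whiskerLeft (Over.forget X).op (toSheafify J G)

theorem locSurj_eta : LocSurj J X (eta J X G) := locSurj_whisker (toSheafify J G)

theorem locInj_eta : LocInj J X (eta J X G) := locInj_whisker (toSheafify J G)

variable [∀ (n : ℕ) (F : (SimplexCategory.Truncated n)ᵒᵖ ⥤ Limits.FormalCoproduct.{u} (Over X)),
      (SimplexCategory.Truncated.inclusion n).op.HasRightKanExtension F]

theorem kill_sheafify (q : ℕ) (hk : KillC (QG X G) (Hyp J X) q) :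
    KillC (Q X (Gs J G)) (Hyp J X) q := by
  intro K hK e he
  obtain ⟨L, f, hL, b, hb⟩ := exists_lift_refine (locSurj_eta (J := J) (X := X) G) K hK q e
  have h1 : mapC (eta J X G) _ (dC (QG X G) L q b) = 0 := by
    rw [mapC_dC, hb, pull_dC, he, pull_zero]
  obtain ⟨M, g, hM, hg⟩ := exists_zero_refine (locInj_eta (J := J) (X := X) G) L hL (q + 1) _ h1
  have h2 : dC (QG X G) M q (pull (QG X G) (g.app (op ⦋q⦌)) b) = 0 := by
    rw [pull_dC, hg]
  obtain ⟨M', h, hM', hbd⟩ := hk M hM _ h2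
  refine ⟨M', (h ≫ g) ≫ f, hM', ?_⟩
  have h3 := isBd_mapC (QG X G) (eta J X G) q _ hbd
  rw [← pull_mapC, ← pull_mapC, hb, ← pull_comp_app, ← pull_comp_app] at h3
  exact h3

theorem kill_of_sheafify (q : ℕ) (hk : KillC (Q X (Gs J G)) (Hyp J X) q) :
    KillC (QG X G) (Hyp J X) q := by
  intro K hK c hc
  have h1 : dC (Q X (Gs J G)) K q (mapC (eta J X G) _ c) = 0 := by
    rw [← mapC_dC, hc, map_zero]
  obtain ⟨L, f, hL, hbd⟩ := hk K hK _ h1
  cases q with
  | zero =>
    have hbd' : pull (Q X (Gs J G)) (f.app (op ⦋0⦌)) (mapC (eta J X G) _ c) = 0 := hbd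
    rw [pull_mapC] at hbd'
    obtain ⟨M, g, hM, hg⟩ := exists_zero_refine (locInj_eta (J := J) (X := X) G) L hL 0 _ hbd'
    refine ⟨M, g ≫ f, hM, ?_⟩
    show pull (QG X G) ((g ≫ f).app (op ⦋0⦌)) c = 0
    rw [pull_comp_app]
    exact hg
  | succ q =>
    obtain ⟨e, he⟩ := hbd
    obtain ⟨M, g, hM, b, hb⟩ := exists_lift_refine (locSurj_eta (J := J) (X := X) G) L hL q e
    have h2 : mapC (eta J X G) _ (pull (QG X G) ((g ≫ f).app (op ⦋q + 1⦌)) c -
        dC (QG X G) M q b) = 0 := by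
      rw [map_sub, ← pull_mapC, pull_comp_app, ← he, ← pull_dC, ← hb, mapC_dC, sub_self]
    obtain ⟨M', h, hM', hh⟩ := exists_zero_refine (locInj_eta (J := J) (X := X) G) M hM (q + 1) _ h2
    refine ⟨M', h ≫ g ≫ f, hM', pull (QG X G) (h.app (op ⦋q⦌)) b, ?_⟩
    rw [pull_dC, pull_comp_app]
    rw [pull_sub, sub_eq_zero] at hh
    exact hh.symm

theorem main (q : ℕ) :
    Subsingleton (CohSite.HU ((presheafToSheaf J AddCommGrpCat.{u}).obj G) q X) ↔
      ∀ (K : SimplicialObject (FormalCoproduct.{u} (Over X))), Hyper.IsHypercovering J X K →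
        ∀ ξ : Hyper.cechH X K G q, ∃ (L : SimplicialObject (FormalCoproduct.{u} (Over X)))
          (f : L ⟶ K), Hyper.IsHypercovering J X L ∧ Hyper.cechHMap X f G q ξ = 0 :=
  (claim q (Gs J G)).trans
    ((⟨kill_of_sheafify G q, kill_sheafify G q⟩ :
        KillC (Q X (Gs J G)) (Hyp J X) q ↔ KillC (QG X G) (Hyp J X) q).trans
      (killH_iff_killC (QG X G) (Hyp J X) q).symm)

end Groth.Agent.H6.HyColC
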