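import Mathlib
import Groth.Prelude.Def_Hyper
import Groth.Agent.Lib.Helper6.HyBasB

/-! Helper6: sub-simplicial objects of the explicit hypercovering `HyBas.K` cut out by a family of
sets of simplices closed under all simplicial operators. -/

set_option autoImplicit false
open CategoryTheory CategoryTheory.Limits Opposite Simplicial SimplexCategory

universe u

namespace Groth.Agent.H6.HyFin

open Groth.Agent.H6.HyCoch Groth.Agent.H6.HyBas

variable {D : Type u} [SmallCategory D] (Bp : Set D)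

/-- a family of sets of simplices closed under all simplicial operators -/
structure SubFam where
  G : ∀ Δ : SimplexCategory, Set (Sx Bp Δ)
  closed : ∀ {Δ Δ' : SimplexCategory} (θ : Δ ⟶ Δ') (w : Sx Bp Δ'), w ∈ G Δ' → pull θ w ∈ G Δ

variable {Bp} (F : SubFam Bp)

/-- the family of all simplices of shape `Δ` in the subfamily -/
abbrev Kobj' (Δ : SimplexCategory) : FormalCoproduct.{u} D :=
  ⟨{w : Sx Bp Δ // w ∈ F.G Δ}, fun w => top Bp w.1⟩

/-- the structure maps -/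
def Kmap' {Δ Δ' : SimplexCategory} (θ : Δ ⟶ Δ') : Kobj' F Δ' ⟶ Kobj' F Δ :=
  ⟨fun w => ⟨pull θ w.1, F.closed θ w.1 w.2⟩, fun w => mp w.1 (imTop θ)⟩

/-- the inclusion into all simplices -/
def inc (Δ : SimplexCategory) : Kobj' F Δ ⟶ Kobj Bp Δ := ⟨Subtype.val, fun _ => 𝟙 _⟩

theorem inc_cancel {Δ : SimplexCategory} {A : FormalCoproduct.{u} D} (f g : A ⟶ Kobj' F Δ)
    (h : f ≫ inc F Δ = g ≫ inc F Δ) : f = g := by
  apply hom_ext_arrow
  · funext i
    apply Subtype.ext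
    exact congrFun (congrArg (fun μ : A ⟶ Kobj Bp Δ => μ.f) h) i
  · intro i
    have h2 := congrArg (fun μ : A ⟶ Kobj Bp Δ => Arrow.mk (μ.φ i)) h
    have e1 : Arrow.mk ((f ≫ inc F Δ).φ i) = Arrow.mk (f.φ i) :=
      congrArg Arrow.mk (Category.comp_id (f.φ i))
    have e2 : Arrow.mk ((g ≫ inc F Δ).φ i) = Arrow.mk (g.φ i) :=
      congrArg Arrow.mk (Category.comp_id (g.φ i))
    exact e1.symm.trans (h2.trans e2)

theorem Kmap'_inc {Δ Δ' : SimplexCategory} (θ : Δ ⟶ Δ') :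
    Kmap' F θ ≫ inc F Δ = inc F Δ' ≫ Kmap Bp θ := by
  apply hom_ext_arrow
  · rfl
  · intro w
    show Arrow.mk (mp w.1 (imTop θ) ≫ 𝟙 _) = Arrow.mk (𝟙 _ ≫ mp w.1 (imTop θ))
    rw [Category.comp_id, Category.id_comp]

theorem id_inc (Δ : SimplexCategory) : 𝟙 (Kobj' F Δ) ≫ inc F Δ = inc F Δ ≫ 𝟙 (Kobj Bp Δ) := by
  rw [Category.id_comp, Category.comp_id]

/-- the sub-simplicial formal coproduct -/
def K' : SimplicialObject (FormalCoproduct.{u} D) where
  obj Δ := Kobj' F Δ.unop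
  map θ := Kmap' F θ.unop
  map_id Δ := by
    apply inc_cancel
    rw [Kmap'_inc, id_inc]
    exact congrArg (fun t => inc F Δ.unop ≫ t) (Kmap_id Bp Δ.unop)
  map_comp θ θ' := by
    apply inc_cancel
    rw [Kmap'_inc, Category.assoc, Kmap'_inc, ← Category.assoc, Kmap'_inc, Category.assoc]
    exact congrArg (fun t => inc F _ ≫ t) (Kmap_comp Bp θ'.unop θ.unop)

/-- the inclusion of simplicial objects -/
def incK : K' F ⟶ K Bp where
  app Δ := inc F Δ.unop
  naturality _ _ θ := Kmap'_inc F θ.unop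

theorem K'_obj_mem (Δ : SimplexCategory) (w : {w : Sx Bp Δ // w ∈ F.G Δ}) :
    ((K' F).obj (op Δ)).obj w ∈ Bp :=
  ob_mem (Bp := Bp) w.1 Finset.univ Finset.univ_nonempty

/-- lifting a point of `K` whose simplex lies in the subfamily -/
def liftPt {Δ : SimplexCategory} {U : D} (ζ : pobj U ⟶ (K Bp).obj (op Δ))
    (h : ζ.f PUnit.unit ∈ F.G Δ) : pobj U ⟶ (K' F).obj (op Δ) :=
  ⟨fun _ => ⟨ζ.f PUnit.unit, h⟩, fun _ => ζ.φ PUnit.unit⟩

theorem liftPt_inc {Δ : SimplexCategory} {U : D} (ζ : pobj U ⟶ (K Bp).obj (op Δ))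
    (h : ζ.f PUnit.unit ∈ F.G Δ) : liftPt F ζ h ≫ (incK F).app (op Δ) = ζ := by
  apply hom_ext_arrow
  · rfl
  · intro _
    show Arrow.mk (ζ.φ PUnit.unit ≫ 𝟙 _) = Arrow.mk (ζ.φ PUnit.unit)
    rw [Category.comp_id]

end Groth.Agent.H6.HyFin
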