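import Mathlib
import Groth.Prelude.Def_Hyper
import Groth.Agent.Lib.Helper6.HyBasD
import Groth.Agent.Lib.Helper6.HyFinA

/-! Helper6: finitely many chosen fillers for each boundary pattern in the explicit hypercovering
`HyBas.K` (towards S896). -/

set_option autoImplicit false
open CategoryTheory CategoryTheory.Limits Opposite Simplicial SimplexCategory

universe u

namespace Groth.Agent.H6.HyFin

open Groth.Agent.H6.HyCoch Groth.Agent.H6.HyBas Groth.Agent.H6.HyFaceA Groth.Agent.H6.HyYo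
  Groth.Agent.H6.HyCosk

section prelim

variable {D : Type u} [SmallCategory D]

theorem mk_comp_eqToHom {X Y Y' : D} (f : X ⟶ Y) (h : Y = Y') :
    Arrow.mk (f ≫ eqToHom h) = Arrow.mk f := by
  subst h
  simp

/-- finitely many parallel pairs have a common "equalizing" map -/
theorem exists_equalizing [HasEqualizers D] (ι : Type) [Finite ι] :
    ∀ {W : D} {T : ι → D} (f f' : ∀ a, W ⟶ T a),
      ∃ (V : D) (e : V ⟶ W), ∀ a, e ≫ f a = e ≫ f' a := by
  refine Finite.induction_empty_option (P := fun ι => ∀ {W : D} {T : ι → D} (f f' : ∀ a, W ⟶ T a),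
      ∃ (V : D) (e : V ⟶ W), ∀ a, e ≫ f a = e ≫ f' a) ?_ ?_ ?_ ι
  · intro α β e h W T f f'
    obtain ⟨V, e', he'⟩ := h (T := fun a => T (e a)) (fun a => f (e a)) (fun a => f' (e a))
    refine ⟨V, e', fun b => ?_⟩
    have := he' (e.symm b)
    have hb : e (e.symm b) = b := e.apply_symm_apply b
    rw [← hb]
    exact this
  · intro W T f f'
    exact ⟨W, 𝟙 W, fun a => a.elim⟩
  · intro α _ h W T f f'
    obtain ⟨V, e, he⟩ := h (T := fun a => T (some a)) (fun a => f (some a)) (fun a => f' (some a))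
    refine ⟨equalizer (e ≫ f none) (e ≫ f' none), equalizer.ι _ _ ≫ e, fun a => ?_⟩
    cases a with
    | none =>
      rw [Category.assoc, Category.assoc]
      exact equalizer.condition _ _
    | some a =>
      rw [Category.assoc, Category.assoc, he a]

end prelim

section glue

variable {D : Type u} [SmallCategory D] {Bp : Set D} {n : ℕ} {U : D}
  (g : Fin (n + 2) → (pobj U ⟶ (K Bp) _⦋n⦌)) (hg : SC (K Bp) n Set.univ g) (hU : U ∈ Bp)

/-- the glued simplex -/
noncomputable def glueSx : Sx Bp ⦋n + 1⦌ := ⟨wb g, wb_isSx g hg hU⟩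

theorem glueSx_top : top Bp (glueSx g hg hU) = U :=
  congrArg Comma.left (wb_C g (Pr.diag Finset.univ Finset.univ_nonempty) rfl)

/-- the glued point -/
noncomputable def gluePt : pobj U ⟶ (K Bp) _⦋n + 1⦌ :=
  pt ((K Bp) _⦋n + 1⦌) (glueSx g hg hU) (eqToHom (glueSx_top g hg hU).symm)

theorem gluePt_f : (gluePt g hg hU).f PUnit.unit = glueSx g hg hU := rfl

theorem gluePt_δ (a : Fin (n + 2)) : gluePt g hg hU ≫ (K Bp).δ a = g a := by
  apply pt_ext_arrow
  · show pull (SimplexCategory.δ a) (glueSx g hg hU) = sg g a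
    apply Subtype.ext
    funext q
    show wb g (Pr.push (SimplexCategory.δ a) q) = (sg g a).1 q
    have ha : a ∉ (Pr.push (SimplexCategory.δ a) q).T := not_mem_image a q.T
    rw [wb_A g hg _ a ha, prePr_push]
  · show Arrow.mk (eqToHom (glueSx_top g hg hU).symm ≫
      mp (glueSx g hg hU) (imTop (SimplexCategory.δ a))) = Arrow.mk (cg g a)
    refine (mk_eqToHom_comp _ _).trans ?_
    refine (arrow_eq (glueSx g hg hU) (imTop (SimplexCategory.δ a))).symm.trans ?_
    show wb g (imTop (SimplexCategory.δ a)) = _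
    have ha : a ∉ (imTop (SimplexCategory.δ a)).S := not_mem_image a Finset.univ
    refine (wb_B g hg (imTop (SimplexCategory.δ a)) rfl a ha).trans ?_
    refine (thr_congr Bp (sg g a) (cg g a) _ Finset.univ _ Finset.univ_nonempty (pre_univ a)).trans ?_
    have h1 : mp (sg g a) (Pr.toTop Finset.univ Finset.univ_nonempty) = 𝟙 (top Bp (sg g a)) :=
      mp_id (sg g a) Finset.univ Finset.univ_nonempty
    have h2 : cg g a ≫ mp (sg g a) (Pr.toTop Finset.univ Finset.univ_nonempty) = cg g a :=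
      (congrArg (fun t => cg g a ≫ t) h1).trans (Category.comp_id (cg g a))
    exact congrArg Arrow.mk h2

end glue

section pattern

variable {D : Type u} [SmallCategory D] (Bp : Set D)
  [HasFiniteLimits D] [HasFiniteLimits (FormalCoproduct.{u} D)]
  [∀ (n : ℕ) (F : (SimplexCategory.Truncated n)ᵒᵖ ⥤ FormalCoproduct.{u} D),
    (SimplexCategory.Truncated.inclusion n).op.HasRightKanExtension F]

/-- the matching object -/
noncomputable abbrev Mt (n : ℕ) : FormalCoproduct.{u} D :=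
  ((SimplicialObject.cosk n).obj (K Bp)) _⦋n + 1⦌

/-- the identity point at an index of the matching object -/
noncomputable abbrev idPt (n : ℕ) (i : (Mt Bp n).I) : pobj ((Mt Bp n).obj i) ⟶ Mt Bp n :=
  pt (Mt Bp n) i (𝟙 _)

/-- the faces of the universal cone at an index -/
noncomputable abbrev gI (n : ℕ) (i : (Mt Bp n).I) (a : Fin (n + 2)) :
    pobj ((Mt Bp n).obj i) ⟶ (K Bp) _⦋n⦌ :=
  idPt Bp n i ≫ P (K Bp) n a

/-- the boundary pattern of an index -/
noncomputable def pattern (n : ℕ) (i : (Mt Bp n).I) (a : Fin (n + 2)) : Sx Bp ⦋n⦌ :=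
  (gI Bp n i a).f PUnit.unit

theorem pattern_injective (n : ℕ) : Function.Injective (pattern Bp n) := by
  intro i i' h
  let c : ∀ a, (Mt Bp n).obj i ⟶ top Bp (pattern Bp n i a) := fun a => (gI Bp n i a).φ PUnit.unit
  let c' : ∀ a, (Mt Bp n).obj i' ⟶ top Bp (pattern Bp n i' a) :=
    fun a => (gI Bp n i' a).φ PUnit.unit
  have e : ∀ a, pattern Bp n i' a = pattern Bp n i a := fun a => (congrFun h a).symm
  obtain ⟨V, e0, he⟩ := exists_equalizing (Fin (n + 2))
    (W := (Mt Bp n).obj i ⨯ (Mt Bp n).obj i') (T := fun a => top Bp (pattern Bp n i a))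
    (fun a => prod.fst ≫ c a)
    (fun a => prod.snd ≫ c' a ≫ eqToHom (congrArg (top Bp) (e a)))
  let p : V ⟶ (Mt Bp n).obj i := e0 ≫ prod.fst
  let p' : V ⟶ (Mt Bp n).obj i' := e0 ≫ prod.snd
  have hp : ∀ a, p ≫ c a = (p' ≫ c' a) ≫ eqToHom (congrArg (top Bp) (e a)) := by
    intro a
    have := he a
    show (e0 ≫ prod.fst) ≫ c a = ((e0 ≫ prod.snd) ≫ c' a) ≫ eqToHom _
    simp only [Category.assoc] at this ⊢
    exact this
  have hν : pmap p ≫ idPt Bp n i = pmap p' ≫ idPt Bp n i' := by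
    apply cosk_hom_ext (K Bp) n
    intro a
    rw [Category.assoc, Category.assoc]
    apply pt_ext_arrow
    · exact congrFun h a
    · show Arrow.mk (p ≫ c a) = Arrow.mk (p' ≫ c' a)
      rw [hp a]
      exact mk_comp_eqToHom _ _
  exact congrArg (fun μ : pobj V ⟶ Mt Bp n => μ.f PUnit.unit) hν

end pattern

section fillers

variable {D : Type u} [SmallCategory D] (J' : GrothendieckTopology D) (Bp : Set D)
  [HasFiniteLimits D] [HasFiniteLimits (FormalCoproduct.{u} D)]
  [∀ (n : ℕ) (F : (SimplexCategory.Truncated n)ᵒᵖ ⥤ FormalCoproduct.{u} D),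
    (SimplexCategory.Truncated.inclusion n).op.HasRightKanExtension F]

theorem pmap_pt {A : FormalCoproduct.{u} D} {U W : D} (m : U ⟶ W) (i : A.I) (a : W ⟶ A.obj i) :
    pmap m ≫ pt A i a = pt A i (m ≫ a) := rfl

/-- finitely many fillers suffice locally for each boundary pattern -/
theorem exists_finite_fillers
    (hfin : ∀ U : D, ∃ (ι : Type u) (_ : Finite ι) (W : ι → D) (b : ∀ j, W j ⟶ U),
      (∀ j, W j ∈ Bp) ∧ Sieve.ofArrows W b ∈ J' U)
    (n : ℕ) (bd : Fin (n + 2) → Sx Bp ⦋n⦌) :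
    ∃ Ch : Set (Sx Bp ⦋n + 1⦌), Ch.Finite ∧
      ∀ (U : D) (g : Fin (n + 2) → (pobj U ⟶ (K Bp) _⦋n⦌)), SC (K Bp) n Set.univ g →
        (∀ a, (g a).f PUnit.unit = bd a) →
        ∃ S : Sieve U, S ∈ J' U ∧ ∀ ⦃V : D⦄ (h : V ⟶ U), S h →
          ∃ ζ : pobj V ⟶ (K Bp) _⦋n + 1⦌, ζ.f PUnit.unit ∈ Ch ∧
            ∀ a, ζ ≫ (K Bp).δ a = pmap h ≫ g a := by
  choose ι hι W b hW hcov using fun i : (Mt Bp n).I => hfin ((Mt Bp n).obj i)
  let gij : ∀ (i : (Mt Bp n).I) (j : ι i) (a : Fin (n + 2)), pobj (W i j) ⟶ (K Bp) _⦋n⦌ :=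
    fun i j a => (pmap (b i j) ≫ idPt Bp n i) ≫ P (K Bp) n a
  have hgij : ∀ i j, SC (K Bp) n Set.univ (gij i j) :=
    fun i j => P_SC (K Bp) n (pmap (b i j) ≫ idPt Bp n i)
  let τ : ∀ (i : (Mt Bp n).I) (j : ι i), Sx Bp ⦋n + 1⦌ :=
    fun i j => glueSx (gij i j) (hgij i j) (hW i j)
  refine ⟨{t | ∃ i, pattern Bp n i = bd ∧ ∃ j, t = τ i j}, ?_, ?_⟩
  · by_cases h : ∃ i, pattern Bp n i = bd
    · obtain ⟨i₀, hi₀⟩ := h
      haveI := hι i₀
      refine Set.Finite.subset (Set.finite_range (τ i₀)) ?_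
      rintro t ⟨i, hi, j, rfl⟩
      obtain rfl : i = i₀ := pattern_injective Bp n (hi.trans hi₀.symm)
      exact ⟨j, rfl⟩
    · refine Set.Finite.subset Set.finite_empty ?_
      rintro t ⟨i, hi, _⟩
      exact (h ⟨i, hi⟩).elim
  · intro U g hg hpat
    obtain ⟨ν, hν⟩ := exists_lift g hg
    let i := ν.f PUnit.unit
    let m : U ⟶ (Mt Bp n).obj i := ν.φ PUnit.unit
    have hνeq : ν = pmap m ≫ idPt Bp n i := by
      rw [pmap_pt, Category.comp_id]
      rfl
    have hi : pattern Bp n i = bd := by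
      funext a
      rw [← hpat a, ← hν a, hνeq, Category.assoc]
      rfl
    refine ⟨(Sieve.ofArrows (W i) (b i)).pullback m, J'.pullback_stable m (hcov i), ?_⟩
    intro V h hh
    have hh' : (Sieve.ofArrows (W i) (b i)).arrows (h ≫ m) := hh
    rw [Groth.Agent.H9.SR1.mem_ofArrows_iff] at hh'
    obtain ⟨j, c, hc⟩ := hh'
    refine ⟨pmap c ≫ gluePt (gij i j) (hgij i j) (hW i j), ⟨i, hi, j, rfl⟩, fun a => ?_⟩
    rw [Category.assoc, gluePt_δ]
    show pmap c ≫ (pmap (b i j) ≫ idPt Bp n i) ≫ P (K Bp) n a = pmap h ≫ g a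
    have key : pmap c ≫ pmap (b i j) ≫ idPt Bp n i = pmap h ≫ pmap m ≫ idPt Bp n i := by
      rw [← pmap_comp_comp, ← pmap_comp_comp, hc]
    rw [← hν a, hνeq, ← Category.assoc (pmap h), ← key]
    simp only [Category.assoc]

end fillers

end Groth.Agent.H6.HyFin
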