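import Mathlib
import Groth.Prelude.Def_Hyper
import Groth.Agent.Lib.Helper6.HyBasB

/-! Helper6: the family of "good" simplices generated by chosen vertices and chosen fillers:
closure under all simplicial operators and finiteness (towards S896). -/

set_option autoImplicit false
open CategoryTheory CategoryTheory.Limits Opposite SimplexCategory

local notation "⦋" n "⦌" => SimplexCategory.mk n

universe u

namespace Groth.Agent.H6.HyFin

open Groth.Agent.H6.HyBas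

section factor

theorem exists_epi_mono {k m : ℕ} (θ : ⦋k⦌ ⟶ ⦋m⦌) :
    ∃ (k' : ℕ) (ε : ⦋k⦌ ⟶ ⦋k'⦌) (μ : ⦋k'⦌ ⟶ ⦋m⦌), Epi ε ∧ Mono μ ∧ ε ≫ μ = θ := by
  have key : ∀ (Δ' : SimplexCategory) (ε : ⦋k⦌ ⟶ Δ') (μ : Δ' ⟶ ⦋m⦌), Epi ε → Mono μ → ε ≫ μ = θ →
      ∃ (k' : ℕ) (ε : ⦋k⦌ ⟶ ⦋k'⦌) (μ : ⦋k'⦌ ⟶ ⦋m⦌), Epi ε ∧ Mono μ ∧ ε ≫ μ = θ := by
    intro Δ'
    induction Δ' using SimplexCategory.rec with
    | _ k' =>
      intro ε μ h1 h2 h3
      exact ⟨k', ε, μ, h1, h2, h3⟩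
  exact key _ (factorThruImage θ) (image.ι θ) inferInstance inferInstance (image.fac θ)

end factor

section good

variable {D : Type u} [SmallCategory D] {Bp : Set D}
  (V0 : Set (Sx Bp ⦋0⦌))
  (Ch : ∀ n : ℕ, (Fin (n + 2) → Sx Bp ⦋n⦌) → Set (Sx Bp ⦋n + 1⦌))

/-- the simplices generated by the chosen vertices and the chosen fillers -/
inductive GoodN : (n : ℕ) → Sx Bp ⦋n⦌ → Prop
  | zero (w : Sx Bp ⦋0⦌) : w ∈ V0 → GoodN 0 w
  | deg {m n : ℕ} (hmn : m < n) (θ : ⦋n⦌ ⟶ ⦋m⦌) (w : Sx Bp ⦋m⦌) : GoodN m w → GoodN n (pull θ w)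
  | fill {n : ℕ} (t : Sx Bp ⦋n + 1⦌) :
      (∀ a : Fin (n + 2), GoodN n (pull (SimplexCategory.δ a) t)) →
      t ∈ Ch n (fun a => pull (SimplexCategory.δ a) t) → GoodN (n + 1) t

variable {V0 Ch}

theorem good_of_epi {k k' : ℕ} (ε : ⦋k⦌ ⟶ ⦋k'⦌) [Epi ε] (w : Sx Bp ⦋k'⦌) (hw : GoodN V0 Ch k' w) :
    GoodN V0 Ch k (pull ε w) := by
  have hle : k' ≤ k := len_le_of_epi ε
  rcases Nat.lt_or_eq_of_le hle with hlt | heq
  · exact GoodN.deg hlt ε w hw
  · subst heq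
    rw [eq_id_of_epi ε, pull_id]
    exact hw

theorem good_mono {n : ℕ} {w : Sx Bp ⦋n⦌} (hw : GoodN V0 Ch n w) :
    ∀ (k : ℕ) (μ : ⦋k⦌ ⟶ ⦋n⦌), Mono μ → GoodN V0 Ch k (pull μ w) := by
  induction hw with
  | zero w hw =>
    intro k μ hμ
    have hle : k ≤ 0 := len_le_of_mono μ
    obtain rfl : k = 0 := Nat.le_zero.1 hle
    rw [eq_id_of_mono μ, pull_id]
    exact GoodN.zero w hw
  | @deg m n hmn θ w hw ih =>
    intro k μ hμ
    obtain ⟨k', ε, μ', hε, hμ', hfac⟩ := exists_epi_mono (μ ≫ θ)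
    have h1 : pull μ (pull θ w) = pull ε (pull μ' w) := by
      rw [← pull_comp, ← pull_comp, hfac]
    rw [h1]
    exact good_of_epi ε _ (ih k' μ' hμ')
  | @fill n t hf hc ih =>
    intro k μ hμ
    by_cases hs : Function.Surjective μ.toOrderHom
    · haveI : Epi μ := epi_iff_surjective.2 hs
      have h1 : k ≤ n + 1 := len_le_of_mono μ
      have h2 : n + 1 ≤ k := len_le_of_epi μ
      obtain rfl : k = n + 1 := le_antisymm h1 h2
      rw [eq_id_of_mono μ, pull_id]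
      exact GoodN.fill t hf hc
    · obtain ⟨a, μ', hμ'⟩ := eq_comp_δ_of_not_surjective μ hs
      haveI : Mono (μ' ≫ SimplexCategory.δ a) := hμ' ▸ hμ
      haveI : Mono μ' := mono_of_mono μ' (SimplexCategory.δ a)
      rw [hμ', pull_comp]
      exact ih a k μ' inferInstance

theorem good_pull {n : ℕ} {w : Sx Bp ⦋n⦌} (hw : GoodN V0 Ch n w) (k : ℕ) (θ : ⦋k⦌ ⟶ ⦋n⦌) :
    GoodN V0 Ch k (pull θ w) := by
  obtain ⟨k', ε, μ', hε, hμ', hfac⟩ := exists_epi_mono θ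
  rw [← hfac, pull_comp]
  exact good_of_epi ε _ (good_mono hw k' μ' hμ')

theorem good_zero_inv (w : Sx Bp ⦋0⦌) (h : GoodN V0 Ch 0 w) : w ∈ V0 := by
  cases h with
  | zero w hw => exact hw
  | deg hmn θ w hw => exact (Nat.not_lt_zero _ hmn).elim

theorem good_succ_inv {n : ℕ} (w : Sx Bp ⦋n + 1⦌) (h : GoodN V0 Ch (n + 1) w) :
    (∃ m, m < n + 1 ∧ ∃ (θ : ⦋n + 1⦌ ⟶ ⦋m⦌) (w' : Sx Bp ⦋m⦌), GoodN V0 Ch m w' ∧ w = pull θ w') ∨
    ((∀ a : Fin (n + 2), GoodN V0 Ch n (pull (SimplexCategory.δ a) w)) ∧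
      w ∈ Ch n (fun a => pull (SimplexCategory.δ a) w)) := by
  cases h with
  | @deg m _ hmn θ w' hw' => exact Or.inl ⟨m, hmn, θ, w', hw', rfl⟩
  | fill t hf hc => exact Or.inr ⟨hf, hc⟩

theorem good_finite (hV0 : V0.Finite) (hCh : ∀ n bd, (Ch n bd).Finite) :
    ∀ n : ℕ, {w : Sx Bp ⦋n⦌ | GoodN V0 Ch n w}.Finite := by
  intro n
  induction n using Nat.strong_induction_on with
  | _ n ih =>
    cases n with
    | zero =>
      exact Set.Finite.subset hV0 (fun w hw => good_zero_inv w hw)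
    | succ n =>
      have h1 : (⋃ m ∈ Finset.range (n + 1), ⋃ θ : ⦋n + 1⦌ ⟶ ⦋m⦌,
          (pull θ) '' {w : Sx Bp ⦋m⦌ | GoodN V0 Ch m w}).Finite := by
        refine Set.Finite.biUnion (Finset.finite_toSet _) (fun m hm => ?_)
        refine Set.finite_iUnion (fun θ => ?_)
        exact Set.Finite.image _ (ih m (Finset.mem_range.1 hm))
      have h2 : (⋃ bd ∈ Set.pi Set.univ (fun _ : Fin (n + 2) => {w : Sx Bp ⦋n⦌ | GoodN V0 Ch n w}),
          Ch n bd).Finite := by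
        refine Set.Finite.biUnion (Set.Finite.pi (fun _ => ih n (Nat.lt_succ_self n)))
          (fun bd _ => hCh n bd)
      refine Set.Finite.subset (h1.union h2) ?_
      intro w hw
      rcases good_succ_inv w hw with ⟨m, hm, θ, w', hw', rfl⟩ | ⟨hf, hc⟩
      · left
        simp only [Set.mem_iUnion]
        exact ⟨m, Finset.mem_range.2 hm, θ, w', hw', rfl⟩
      · right
        simp only [Set.mem_iUnion]
        exact ⟨fun a => pull (SimplexCategory.δ a) w, fun a _ => hf a, hc⟩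

end good

end Groth.Agent.H6.HyFin
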