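import Mathlib
import Groth.Prelude.Def_Hyper
import Groth.Agent.Lib.Helper6.HyFinB
import Groth.Agent.Lib.Helper6.HyFinC
import Groth.Agent.Lib.Helper6.HyH0

/-! Helper6: a hypercovering of `X` with finitely many members in each degree, all in a class `B`
of objects admitting finite coverings (S896). -/

set_option autoImplicit false
open CategoryTheory CategoryTheory.Limits Opposite Simplicial SimplexCategory

universe u

namespace Groth.Agent.H6.HyFin

open Groth.Agent.H6.HyCoch Groth.Agent.H6.HyBas Groth.Agent.H6.HyFaceA Groth.Agent.H6.HyYo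
  Groth.Agent.H6.HyCosk Groth.Agent.H6.HyRefine

section fam

variable {D : Type u} [SmallCategory D] {Bp : Set D}
  (V0 : Set (Sx Bp ⦋0⦌))
  (Ch : ∀ n : ℕ, (Fin (n + 2) → Sx Bp ⦋n⦌) → Set (Sx Bp ⦋n + 1⦌))

/-- the good simplices of any shape -/
def GG : ∀ Δ : SimplexCategory, Set (Sx Bp Δ) :=
  @SimplexCategory.rec (fun Δ => Set (Sx Bp Δ)) (fun n => (fun w => GoodN V0 Ch n w : Set (Sx Bp ⦋n⦌)))

theorem GG_mk (n : ℕ) (w : Sx Bp ⦋n⦌) : w ∈ GG V0 Ch ⦋n⦌ ↔ GoodN V0 Ch n w := Iff.rfl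

/-- the family of good simplices -/
def goodFam : SubFam Bp where
  G := GG V0 Ch
  closed := by
    intro Δ Δ'
    induction Δ using SimplexCategory.rec with
    | _ k =>
      induction Δ' using SimplexCategory.rec with
      | _ n =>
        intro θ w hw
        exact good_pull hw k θ

end fam

section sc

variable {D : Type u} [SmallCategory D] {Bp : Set D} (F : SubFam Bp)

theorem SC_inc {U : D} {n : ℕ} (g' : Fin (n + 2) → (pobj U ⟶ (K' F) _⦋n⦌))
    (hg' : SC (K' F) n Set.univ g') :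
    SC (K Bp) n Set.univ (fun a => g' a ≫ (incK F).app (op ⦋n⦌)) := by
  intro a a' ha ha' Δ θ θ' e
  have h := hg' a a' ha ha' Δ θ θ' e
  have n1 := (incK F).naturality θ.op
  have n2 := (incK F).naturality θ'.op
  show (g' a ≫ (incK F).app (op ⦋n⦌)) ≫ (K Bp).map θ.op =
    (g' a' ≫ (incK F).app (op ⦋n⦌)) ≫ (K Bp).map θ'.op
  rw [Category.assoc, Category.assoc, ← n1, ← n2, ← Category.assoc, ← Category.assoc, h]

end sc

section main

variable {C : Type u} [SmallCategory C] [HasPullbacks C]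
    (J : GrothendieckTopology C) (B : Set C)

theorem hfin_over
    (h2 : ∀ X : C, ∃ (ι : Type u) (_ : Finite ι) (U : ι → C) (f : ∀ i, U i ⟶ X),
      Sieve.ofArrows U f ∈ J X ∧ ∀ i, U i ∈ B) (X : C) (U : Over X) :
    ∃ (ι : Type u) (_ : Finite ι) (W : ι → Over X) (b : ∀ j, W j ⟶ U),
      (∀ j, W j ∈ ({U | U.left ∈ B} : Set (Over X))) ∧ Sieve.ofArrows W b ∈ (J.over X) U := by
  obtain ⟨ι, hι, V, f, hf, hV⟩ := h2 U.left
  refine ⟨ι, hι, fun j => Over.mk (f j ≫ U.hom), fun j => Over.homMk (f j) rfl, fun j => hV j, ?_⟩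
  rw [GrothendieckTopology.mem_over_iff]
  refine J.superset_covering ?_ hf
  intro Y g hg
  rw [Groth.Agent.H9.SR1.mem_ofArrows_iff] at hg
  obtain ⟨j, a, rfl⟩ := hg
  rw [Sieve.overEquiv_iff]
  show (Sieve.ofArrows _ _).arrows _
  rw [Groth.Agent.H9.SR1.mem_ofArrows_iff]
  let a' : Over.mk ((a ≫ f j) ≫ U.hom) ⟶ Over.mk (f j ≫ U.hom) := Over.homMk a (by simp)
  refine ⟨j, a', ?_⟩
  apply Over.OverMorphism.ext
  rfl

theorem main
    (h2 : ∀ X : C, ∃ (ι : Type u) (_ : Finite ι) (U : ι → C) (f : ∀ i, U i ⟶ X),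
      Sieve.ofArrows U f ∈ J X ∧ ∀ i, U i ∈ B)
    (X : C) [∀ (n : ℕ) (F : (SimplexCategory.Truncated n)ᵒᵖ ⥤ Limits.FormalCoproduct.{u} (Over X)),
      (SimplexCategory.Truncated.inclusion n).op.HasRightKanExtension F] :
    ∃ K : SimplicialObject (FormalCoproduct.{u} (Over X)), Hyper.IsHypercovering J X K ∧
      ∀ n : ℕ, Finite (K.obj (op (SimplexCategory.mk n))).I ∧
        ∀ i, ((K.obj (op (SimplexCategory.mk n))).obj i).left ∈ B := by
  haveI : HasFiniteLimits (Over X) := hasFiniteLimits_of_hasTerminal_and_pullbacks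
  let Bp : Set (Over X) := {U | U.left ∈ B}
  have hfin := hfin_over J B h2 X
  -- the chosen fillers
  have hex := exists_finite_fillers (J.over X) Bp hfin
  choose Ch hChfin hChspec using hex
  -- the chosen vertices
  obtain ⟨ι0, hι0, U0, f0, hcov0, hU0⟩ := h2 X
  let v0 : ι0 → Sx Bp ⦋0⦌ := fun j => const Bp (Over.mk (f0 j)) (hU0 j) ⦋0⦌
  let V0 : Set (Sx Bp ⦋0⦌) := Set.range v0
  have hV0 : V0.Finite := Set.finite_range v0
  let F : SubFam Bp := goodFam V0 Ch
  refine ⟨K' F, ⟨?_, ?_⟩, fun n => ⟨?_, fun i => K'_obj_mem F ⦋n⦌ i⟩⟩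
  · refine J.superset_covering ?_ hcov0
    intro Y g hg
    rw [Groth.Agent.H9.SR1.mem_ofArrows_iff] at hg ⊢
    obtain ⟨j, a, rfl⟩ := hg
    exact ⟨⟨v0 j, (GG_mk V0 Ch 0 _).2 (GoodN.zero _ ⟨j, rfl⟩)⟩, a, rfl⟩
  · intro n
    apply covering_of_points
    intro U ν
    let g' : Fin (n + 2) → (pobj U ⟶ (K' F) _⦋n⦌) := fun a => ν ≫ P (K' F) n a
    have hg' : SC (K' F) n Set.univ g' := P_SC (K' F) n ν
    let g : Fin (n + 2) → (pobj U ⟶ (K Bp) _⦋n⦌) := fun a => g' a ≫ (incK F).app (op ⦋n⦌)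
    have hg : SC (K Bp) n Set.univ g := SC_inc F g' hg'
    let bd : Fin (n + 2) → Sx Bp ⦋n⦌ := fun a => (g a).f PUnit.unit
    have hbd : ∀ a, GoodN V0 Ch n (bd a) := fun a => (GG_mk V0 Ch n _).1 ((g' a).f PUnit.unit).2
    obtain ⟨S, hS, hfill⟩ := hChspec n bd U g hg (fun a => rfl)
    refine ⟨S, hS, ?_⟩
    intro V h hh
    obtain ⟨ζ, hζCh, hζ⟩ := hfill h hh
    have hface : ∀ a, pull (SimplexCategory.δ a) (ζ.f PUnit.unit) = bd a := fun a =>
      congrArg (fun μ : pobj V ⟶ (K Bp) _⦋n⦌ => μ.f PUnit.unit) (hζ a)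
    have hfun : (fun a => pull (SimplexCategory.δ a) (ζ.f PUnit.unit)) = bd := funext hface
    have hτ : GoodN V0 Ch (n + 1) (ζ.f PUnit.unit) := by
      refine GoodN.fill _ (fun a => ?_) ?_
      · rw [hface a]
        exact hbd a
      · rw [hfun]
        exact hζCh
    have hτ' : ζ.f PUnit.unit ∈ F.G ⦋n + 1⦌ := (GG_mk V0 Ch (n + 1) _).2 hτ
    refine ⟨liftPt F ζ hτ', ?_⟩
    apply cosk_hom_ext (K' F) n
    intro a
    rw [Category.assoc, unit_P, Category.assoc]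
    apply inc_cancel F
    have n1 := (incK F).naturality (SimplexCategory.δ a).op
    show (liftPt F ζ hτ' ≫ (K' F).map (SimplexCategory.δ a).op) ≫ (incK F).app (op ⦋n⦌) =
      (pmap h ≫ g' a) ≫ (incK F).app (op ⦋n⦌)
    rw [Category.assoc, n1, ← Category.assoc, liftPt_inc, Category.assoc]
    exact hζ a
  · have hfinite := good_finite hV0 hChfin n
    have h2' : (F.G ⦋n⦌).Finite :=
      Set.Finite.subset hfinite (fun w hw => (GG_mk V0 Ch n w).1 hw)
    exact h2'.to_subtype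

end main

end Groth.Agent.H6.HyFin
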