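import Mathlib
import Groth.Prelude.Def_Hyper
import Groth.Agent.Lib.Helper6.HyInj
import Groth.Agent.Lib.Helper6.HyAcV
import Groth.Agent.Lib.Helper6.HySiteH0

/-! Helper6: Cech cohomology of an injective abelian sheaf with respect to a hypercovering in
Verdier's sense (S940). -/

set_option autoImplicit false
open CategoryTheory CategoryTheory.Limits Opposite Simplicial SimplexCategory

universe u

namespace Groth.Agent.H6.HyInjV

variable {C : Type u} [SmallCategory C] [HasEqualizers C] [HasPullbacks C] [HasBinaryProducts C]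
    (J : GrothendieckTopology C) (K : SimplicialObject (FormalCoproduct.{u} C))
    [∀ (n : ℕ) (F : (SimplexCategory.Truncated n)ᵒᵖ ⥤ Limits.FormalCoproduct.{u} C),
      (SimplexCategory.Truncated.inclusion n).op.HasRightKanExtension F]

theorem main_site (hK : Hyper.IsHypercoveringSite J K) (I : Sheaf J AddCommGrpCat.{u}) [Injective I] :
    (∀ p : ℕ, IsZero ((Hyper.cechCxSite K I.obj).homology (p + 1))) ∧
    Nonempty ((Hyper.cechCxSite K I.obj).homology 0 ≅ limit I.obj) :=
  ⟨fun p => Groth.Agent.H6.HyInj.isZero_homology_succ J K I p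
      ((Groth.Agent.H6.HyAcV.main_site J K hK).1 p),
    Groth.Agent.H6.HySiteH0.main I hK.1 hK.2.1⟩

end Groth.Agent.H6.HyInjV
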