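import Mathlib
import Groth.Prelude.Def_Hyper
import Groth.Agent.Lib.Helper6.HyRefine

/-! Helper6: refining a hypercovering along a locally surjective map of presheaves to `F(K_n)` (S6507). -/

set_option autoImplicit false
open CategoryTheory CategoryTheory.Limits Opposite Simplicial SimplexCategory

universe u

namespace Groth.Agent.H6.HyRefineP

open Groth.Agent.H6.HyCoch Groth.Agent.H6.HyYo Groth.Agent.H6.HyRefine

section presheaf

variable {D : Type u} [SmallCategory D] (J' : GrothendieckTopology D)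
variable {B : FormalCoproduct.{u} D} {P : Dᵒᵖ ⥤ Type u} (u : P ⟶ Fy.obj B)

/-- index type: points of `B` together with a lift to `P` -/
structure Idx : Type u where
  i : B.I
  V : D
  c : V ⟶ B.obj i
  s : P.obj (op V)
  hs : u.app (op V) s = sg B (pt B i c)

/-- the formal coproduct of all points of `B` with a lift to `P` -/
abbrev ZZ : FormalCoproduct.{u} D := ⟨Idx u, fun k => k.V⟩

/-- the map to `B` -/
def uZ : ZZ u ⟶ B := ⟨fun k => k.i, fun k => k.c⟩

/-- the tautological lift -/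
noncomputable def gZ : Fy.obj (ZZ u) ⟶ P :=
  Sigma.desc (fun k : Idx u => yonedaEquiv.symm k.s)

theorem gZ_u : gZ u ≫ u = Fy.map (uZ u) := by
  apply Sigma.hom_ext
  intro (k : Idx u)
  have h1 : Sigma.ι (fun k : Idx u => yoneda.obj k.V) k ≫ gZ u =
      yonedaEquiv.symm k.s := Sigma.ι_desc _ _
  have h2 : Sigma.ι (fun k : Idx u => yoneda.obj k.V) k ≫ Fy.map (uZ u) =
      yoneda.map k.c ≫ Sigma.ι (fun i : B.I => yoneda.obj (B.obj i)) k.i := Sigma.ι_desc _ _
  refine ((Category.assoc _ _ _).symm.trans (congrArg (fun t => t ≫ u) h1)).trans (Eq.trans ?_ h2.symm)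
  apply yonedaEquiv.injective
  refine (yonedaEquiv_comp _ _).trans (Eq.trans ?_ (yonedaEquiv_comp _ _).symm)
  rw [Equiv.apply_symm_apply, yonedaEquiv_yoneda_map]
  exact k.hs

theorem uZ_covering (hu : Presheaf.IsLocallySurjective J' u) : Hyper.IsSRCovering J' (uZ u) := by
  apply covering_of_points
  intro U ν
  refine ⟨_, hu.imageSieve_mem (sg B ν), ?_⟩
  intro V h hh
  obtain ⟨s, hs⟩ := hh
  have hs' : u.app (op V) s = sg B (pmap h ≫ ν) := hs.trans (sg_res h ν)
  let k : Idx u := ⟨(pmap h ≫ ν).f PUnit.unit, V, (pmap h ≫ ν).φ PUnit.unit, s, hs'⟩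
  refine ⟨pt (ZZ u) k (𝟙 V), ?_⟩
  refine FormalCoproduct.hom_ext ?_ ?_
  · funext _; rfl
  · intro _
    show (𝟙 V ≫ (pmap h ≫ ν).φ PUnit.unit) ≫ eqToHom _ = (pmap h ≫ ν).φ PUnit.unit
    simp

end presheaf

section main

variable {C : Type u} [SmallCategory C] [HasPullbacks C]
    (J : GrothendieckTopology C) (X : C)
    [∀ (n : ℕ) (F : (SimplexCategory.Truncated n)ᵒᵖ ⥤ Limits.FormalCoproduct.{u} (Over X)),
      (SimplexCategory.Truncated.inclusion n).op.HasRightKanExtension F]

theorem main (K : SimplicialObject (FormalCoproduct.{u} (Over X))) (hK : Hyper.IsHypercovering J X K)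
    (n : ℕ) (P : (Over X)ᵒᵖ ⥤ Type u)
    (u : P ⟶ FormalCoproduct.yoneda.obj (K.obj (op (SimplexCategory.mk n))))
    (hu : Presheaf.IsLocallySurjective (J.over X) u) :
    ∃ (L : SimplicialObject (FormalCoproduct.{u} (Over X))) (f : L ⟶ K)
      (g : FormalCoproduct.yoneda.obj (L.obj (op (SimplexCategory.mk n))) ⟶ P),
      Hyper.IsHypercovering J X L ∧
        g ≫ u = FormalCoproduct.yoneda.map (f.app (op (SimplexCategory.mk n))) := by
  obtain ⟨L, f, g0, hL, hg0⟩ := Groth.Agent.H6.HyRefine.main J X K hK n (ZZ u) (uZ u)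
    (uZ_covering (J.over X) u hu)
  refine ⟨L, f, Fy.map g0 ≫ gZ u, hL, ?_⟩
  rw [Category.assoc, gZ_u, ← Functor.map_comp, hg0]

end main

end Groth.Agent.H6.HyRefineP
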