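import Mathlib
import Groth.Agent.Lib.Helper8.HomAvoid

/-! Helper6: finite sets of points of a scheme immersed in a `Proj` lie in an affine open (S7388) -/

namespace Groth.Agent.H6.ImmProj

open AlgebraicGeometry CategoryTheory TopologicalSpace

universe u

variable {R A : Type u} [CommRing R] [CommRing A] [Algebra R A]
  (𝒜 : ℕ → Submodule R A) [GradedAlgebra 𝒜]

/-- finitely many points of an open of `Proj` lie in a basic open `D₊(f)` inside it -/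
theorem exists_basicOpen (U : (Proj 𝒜).Opens) (F : Finset (Proj 𝒜)) (hF : ∀ y ∈ F, y ∈ U) :
    ∃ (f : A) (n : ℕ), 0 < n ∧ f ∈ 𝒜 n ∧ Proj.basicOpen 𝒜 f ≤ U ∧
      ∀ y ∈ F, y ∈ Proj.basicOpen 𝒜 f := by
  classical
  let US : Set (ProjectiveSpectrum 𝒜) := show Set (ProjectiveSpectrum 𝒜) from U.1
  have hUS : ∀ x : ProjectiveSpectrum 𝒜, x ∈ US ↔ (show (Proj 𝒜) from x) ∈ U := fun x => Iff.rfl
  obtain ⟨s, hs⟩ := (ProjectiveSpectrum.isOpen_iff (𝒜 := 𝒜) US).mp U.2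
  let J : Ideal A := ((Ideal.span s).homogeneousHull 𝒜).toIdeal
  have hJ : J.IsHomogeneous 𝒜 := ((Ideal.span s).homogeneousHull 𝒜).isHomogeneous
  have hJle : ∀ x : ProjectiveSpectrum 𝒜,
      J ≤ x.asHomogeneousIdeal.toIdeal ↔ x ∉ US := by
    intro x
    have h1 : x ∉ US ↔ x ∈ ProjectiveSpectrum.zeroLocus 𝒜 s := by
      rw [← hs]; rfl
    rw [h1, ProjectiveSpectrum.mem_zeroLocus]
    constructor
    · intro h a ha
      exact h (Ideal.le_toIdeal_homogeneousHull 𝒜 _ (Ideal.subset_span ha))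
    · intro h
      have h2 : (Ideal.span s).homogeneousHull 𝒜 ≤ x.asHomogeneousIdeal :=
        (Ideal.homogeneousHull.gc 𝒜 _ _).mpr (Ideal.span_le.mpr h)
      exact h2
  let P : Finset (Ideal A) := F.image (fun y : Proj 𝒜 => y.asHomogeneousIdeal.toIdeal)
  have hP : ∀ p ∈ P, p.IsPrime ∧ ¬ (HomogeneousIdeal.irrelevant 𝒜).toIdeal ≤ p ∧ ¬ J ≤ p := by
    intro p hp
    obtain ⟨y, hy, rfl⟩ := Finset.mem_image.mp hp
    refine ⟨y.isPrime, fun h => y.not_irrelevant_le h, fun h => ?_⟩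
    exact ((hJle y).mp h) (hF y hy)
  obtain ⟨z, n, hn, hz, hzJ, hzP⟩ := Groth.Agent.H8.exists_homogeneous_avoid 𝒜 J hJ P hP
  refine ⟨z, n, hn, hz, ?_, ?_⟩
  · intro x hx
    by_contra hxU
    exact hx ((hJle x).mpr hxU hzJ)
  · intro y hy
    exact hzP _ (Finset.mem_image.mpr ⟨y, hy, rfl⟩)

theorem main {X : Scheme.{u}} (ι : X ⟶ Proj 𝒜) [IsImmersion ι] (E : Set X) (hE : E.Finite) :
    ∃ U : X.Opens, IsAffineOpen U ∧ E ⊆ U := by
  classical
  let U := ι.coborderRange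
  let g := ι.liftCoborder
  have hg : g ≫ U.ι = ι := ι.liftCoborder_ι
  have key : ∀ x : X, U.ι (g x) = ι x := fun x => congrArg (fun h : X ⟶ Proj 𝒜 => h x) hg
  let F : Finset (Proj 𝒜) := hE.toFinset.image ι
  have hF : ∀ y ∈ F, y ∈ U := by
    intro y hy
    obtain ⟨x, _, rfl⟩ := Finset.mem_image.mp hy
    rw [← key x]
    exact (g x).2
  obtain ⟨f, n, hn, hf, hfU, hfF⟩ := exists_basicOpen 𝒜 U F hF
  have hW : IsAffineOpen (Proj.basicOpen 𝒜 f) := Proj.isAffineOpen_basicOpen 𝒜 f hf hn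
  have hW' : IsAffineOpen (U.ι ⁻¹ᵁ Proj.basicOpen 𝒜 f) :=
    hW.preimage_of_isOpenImmersion U.ι (by
      rw [Scheme.Opens.opensRange_ι]; exact hfU)
  refine ⟨g ⁻¹ᵁ (U.ι ⁻¹ᵁ Proj.basicOpen 𝒜 f), hW'.preimage g, ?_⟩
  intro x hx
  show U.ι (g x) ∈ Proj.basicOpen 𝒜 f
  rw [key x]
  apply hfF
  exact Finset.mem_image.mpr ⟨x, hE.mem_toFinset.mpr hx, rfl⟩

end Groth.Agent.H6.ImmProj
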