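import Mathlib
import Groth.Agent.Lib.Helper6.InertiaH2
import Groth.Agent.Lib.Helper8.Hens.IntegralHens

/-!
# Inertia groups over complete normal local domains (helper6)
-/

set_option autoImplicit false
universe u
open IsLocalRing TensorProduct

namespace Groth.Agent.H6.InertiaCompl

theorem henselianLocalRing_of_complete (R : Type u) [CommRing R] [IsLocalRing R]
    [IsAdicComplete (maximalIdeal R) R] : HenselianLocalRing R := by
  refine ⟨fun f hf a₀ h1 h2 => ?_⟩
  exact HenselianRing.is_henselian (I := maximalIdeal R) f hf a₀ h1 (h2.map _)

/-- Two algebra maps out of an unramified algebra into a local domain which agree modulo the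
maximal ideal agree. -/
theorem algHom_eq_of_unramified {R S T : Type u} [CommRing R] [CommRing S] [CommRing T]
    [Algebra R S] [Algebra R T]
    [Algebra.EssFiniteType R S] [Algebra.FormallyUnramified R S] [IsDomain T] [IsLocalRing T]
    (f g : S →ₐ[R] T) (h : ∀ s, f s - g s ∈ maximalIdeal T) : f = g := by
  let t := Algebra.FormallyUnramified.elem R S
  let φ : S ⊗[R] S →ₐ[R] T := Algebra.TensorProduct.lift f g (fun _ _ => Commute.all _ _)
  have h1 : ∀ s, (g s - f s) * φ t = 0 := by
    intro s
    have := congrArg φ (Algebra.FormallyUnramified.one_tmul_sub_tmul_one_mul_elem (R := R) s)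
    simpa [φ] using this
  have key : ∀ x : S ⊗[R] S, φ x - f (Algebra.TensorProduct.lmul' R x) ∈ maximalIdeal T := by
    intro x
    induction x using TensorProduct.induction_on with
    | zero => simp
    | tmul a b =>
      simp only [φ, Algebra.TensorProduct.lift_tmul, Algebra.TensorProduct.lmul'_apply_tmul, map_mul]
      rw [← mul_sub]
      refine Ideal.mul_mem_left _ _ ?_
      have := h b
      rwa [← Ideal.neg_mem_iff, neg_sub] at this
    | add x y hx hy =>
      simp only [map_add]
      convert Ideal.add_mem _ hx hy using 1
      ring
  have h2 : φ t ∉ maximalIdeal T := by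
    intro hmem
    have h3 := key t
    rw [Algebra.FormallyUnramified.lmul_elem, map_one] at h3
    have h4 : (1 : T) ∈ maximalIdeal T := by
      have := Ideal.sub_mem _ hmem h3
      simpa using this
    exact (Ideal.ne_top_iff_one _).mp (IsLocalRing.maximalIdeal.isMaximal T).ne_top h4
  have h3 : φ t ≠ 0 := fun h0 => h2 (h0 ▸ Ideal.zero_mem _)
  ext s
  rcases mul_eq_zero.mp (h1 s) with h | h
  · exact (sub_eq_zero.mp h).symm
  · exact absurd h h3

attribute [local instance] FractionRing.liftAlgebra in
theorem finite_of_isGaloisGroup (R S G : Type u) [CommRing R] [CommRing S] [IsDomain R] [IsDomain S]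
    [IsNoetherianRing R] [IsIntegrallyClosed R] [Algebra R S] [FaithfulSMul R S]
    [IsIntegrallyClosed S]
    [Group G] [Finite G] [MulSemiringAction G S] [IsGaloisGroup G R S] : Module.Finite R S := by
  letI := IsFractionRing.mulSemiringAction G S (FractionRing S)
  haveI : IsGaloisGroup G (FractionRing R) (FractionRing S) :=
    IsGaloisGroup.to_isFractionRing G R S (FractionRing R) (FractionRing S)
  haveI : IsGalois (FractionRing R) (FractionRing S) := IsGaloisGroup.isGalois G _ _
  haveI : FiniteDimensional (FractionRing R) (FractionRing S) :=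
    IsGaloisGroup.finiteDimensional G _ _
  haveI : Algebra.IsIntegral R S := Algebra.IsInvariant.isIntegral R S G
  haveI : IsIntegralClosure S R (FractionRing S) := IsIntegralClosure.of_isIntegrallyClosed S R _
  exact IsIntegralClosure.finite R (FractionRing R) (FractionRing S) S

end Groth.Agent.H6.InertiaCompl
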