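import Mathlib
import Groth.Agent.Lib.Helper6.InertiaCompl

/-!
# Inertia groups over complete normal local domains: main theorem (helper6)
-/

set_option autoImplicit false
universe u
open IsLocalRing TensorProduct

namespace Groth.Agent.H6.InertiaCompl

/-- the invariants of the trivial subgroup are everything -/
theorem etale_of_inertia_eq_bot (R S G : Type u) [CommRing R] [CommRing S]
    [Algebra R S] [FaithfulSMul R S] [IsLocalRing S]
    [Group G] [Finite G] [MulSemiringAction G S] [SMulCommClass G R S] [Algebra.IsInvariant R S G]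
    (h : (maximalIdeal S).inertia G = ⊥) : Algebra.Etale R S := by
  obtain ⟨g, hg, hEt⟩ := InertiaH.exists_etale_fixedPoints R (R := S) (G := G)
    (FaithfulSMul.algebraMap_injective R S) (maximalIdeal S) ⊥ (le_of_eq h)
  let T := FixedPoints.subalgebra R S (⊥ : Subgroup G)
  have hsurj : Function.Surjective T.val := by
    intro s
    refine ⟨⟨s, ?_⟩, rfl⟩
    rintro ⟨σ, hσ⟩
    have : σ = 1 := Subgroup.mem_bot.mp hσ
    subst this
    exact one_smul _ _
  let e : T ≃ₐ[R] S := AlgEquiv.ofBijective T.val ⟨Subtype.val_injective, hsurj⟩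
  have hu : IsUnit g := by
    have h1 : IsUnit (e g) := by
      by_contra hn
      exact hg ((IsLocalRing.mem_maximalIdeal _).mpr hn)
    have := h1.map e.symm
    rwa [AlgEquiv.symm_apply_apply] at this
  have hle : Submonoid.powers g ≤ IsUnit.submonoid T := by
    rintro _ ⟨n, rfl⟩
    exact hu.pow n
  let e2 : T ≃ₐ[T] Localization.Away g := IsLocalization.atUnits T (Submonoid.powers g) hle
  exact Algebra.Etale.of_equiv ((e2.restrictScalars R).symm.trans e)

theorem main
    (R S G : Type u) [CommRing R] [CommRing S] [IsDomain R] [IsDomain S]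
    [IsNoetherianRing R] [IsLocalRing R] [IsIntegrallyClosed R]
    [IsAdicComplete (IsLocalRing.maximalIdeal R) R]
    [Algebra R S] [FaithfulSMul R S] [IsIntegrallyClosed S]
    [Group G] [Finite G] [MulSemiringAction G S] [SMulCommClass G R S] [IsGaloisGroup G R S]
    (n : Ideal S) [n.IsMaximal] [n.LiesOver (IsLocalRing.maximalIdeal R)] :
    n.toAddSubgroup.inertia G = ⊥ ↔
      ((IsLocalRing.maximalIdeal R).map (algebraMap R S) = n ∧
        Module.Finite (R ⧸ IsLocalRing.maximalIdeal R) (S ⧸ n) ∧
        Algebra.IsSeparable (R ⧸ IsLocalRing.maximalIdeal R) (S ⧸ n)) := by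
  haveI : HenselianLocalRing R := henselianLocalRing_of_complete R
  haveI : Algebra.IsIntegral R S := Algebra.IsInvariant.isIntegral R S G
  haveI : IsLocalRing S := H8.Hens.isLocalRing_of_isDomain_of_isIntegral R S
  obtain rfl : n = maximalIdeal S := IsLocalRing.eq_maximalIdeal ‹_›
  haveI : IsLocalHom (algebraMap R S) := Algebra.IsIntegral.isLocalHom R S
  have hinst : (Ideal.Quotient.algebraOfLiesOver (maximalIdeal S) (maximalIdeal R) :
      Algebra (R ⧸ maximalIdeal R) (S ⧸ maximalIdeal S)) =
      (inferInstance : Algebra (ResidueField R) (ResidueField S)) :=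
    Algebra.algebra_ext _ _ (fun r => by
      obtain ⟨r, rfl⟩ := Ideal.Quotient.mk_surjective r
      rfl)
  constructor
  · intro h
    haveI : Algebra.Etale R S := etale_of_inertia_eq_bot R S G h
    refine ⟨Algebra.FormallyUnramified.map_maximalIdeal, ?_, ?_⟩
    · rw [hinst]
      exact (inferInstance : Module.Finite (ResidueField R) (ResidueField S))
    · rw [hinst]
      exact (inferInstance : Algebra.IsSeparable (ResidueField R) (ResidueField S))
  · rintro ⟨h1, h2, h3⟩
    haveI : Module.Finite R S := finite_of_isGaloisGroup R S G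
    haveI : Algebra.IsSeparable (ResidueField R) (ResidueField S) := by
      rw [hinst] at h3
      exact h3
    haveI : Algebra.FormallyUnramified R S := Algebra.FormallyUnramified.of_map_maximalIdeal h1
    rw [eq_bot_iff]
    intro σ hσ
    rw [Subgroup.mem_bot]
    haveI : FaithfulSMul G S := IsGaloisGroup.faithful R
    apply eq_of_smul_eq_smul (α := S)
    intro s
    rw [one_smul]
    have := algHom_eq_of_unramified (R := R) (MulSemiringAction.toAlgHom R S σ) (AlgHom.id R S)
      (fun s => hσ s)
    exact congrArg (fun f => f s) this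

end Groth.Agent.H6.InertiaCompl
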