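import Mathlib

set_option autoImplicit false
set_option linter.unusedSectionVars false
universe u v

open IsLocalRing

namespace Groth.Agent.H6.InertiaS

variable {B : Type u} [CommRing B] [IsLocalRing B]
    {Γ : Type v} [Group Γ] [Finite Γ] [MulSemiringAction Γ B]
    (hin : ∀ (γ : Γ) (b : B), γ • b - b ∈ maximalIdeal B)
    (hst : ∀ (γ : Γ) (b : B), ∃ u : B, γ • b = b * u)

/-- the character attached to `b` -/
noncomputable def chi (b : B) (γ : Γ) : ResidueField B :=
  residue B (Classical.choose (hst γ b))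

omit [Finite Γ] in
theorem chi_spec {b : B} (hb : b ≠ 0) (γ : Γ) (u : B) (h : γ • b = b * u) :
    residue B u = chi hst b γ := by
  have h' := Classical.choose_spec (hst γ b)
  rw [chi, ← sub_eq_zero, ← map_sub, residue_eq_zero_iff]
  by_contra hcon
  have hunit : IsUnit (u - Classical.choose (hst γ b)) := by
    by_contra hnu
    exact hcon ((mem_maximalIdeal _).2 hnu)
  have : b * (u - Classical.choose (hst γ b)) = 0 := by
    rw [mul_sub, ← h, ← h', sub_self]
  exact hb (hunit.mul_left_eq_zero.1 this)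

omit [Finite Γ] in
theorem chi_one {b : B} (hb : b ≠ 0) : chi hst b (1 : Γ) = 1 := by
  rw [← chi_spec hst hb 1 1 (by simp), map_one]

include hin in
omit [Finite Γ] in
theorem chi_mul {b : B} (hb : b ≠ 0) (γ δ : Γ) :
    chi hst b (γ * δ) = chi hst b γ * chi hst b δ := by
  have hγ := Classical.choose_spec (hst γ b)
  have hδ := Classical.choose_spec (hst δ b)
  set uγ := Classical.choose (hst γ b) with huγ
  set uδ := Classical.choose (hst δ b) with huδ
  have h : (γ * δ) • b = b * (uγ * γ • uδ) := by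
    rw [mul_smul, hδ, smul_mul', hγ, mul_assoc]
  rw [← chi_spec hst hb (γ * δ) _ h, map_mul]
  congr 1
  change residue B (γ • uδ) = residue B uδ
  rw [← sub_eq_zero, ← map_sub, residue_eq_zero_iff]
  exact hin γ uδ

/-- `chi b` as a monoid hom -/
noncomputable def chiHom {b : B} (hb : b ≠ 0) : Γ →* ResidueField B where
  toFun := chi hst b
  map_one' := chi_one hst hb
  map_mul' := chi_mul hin hst hb

variable (S : Set Γ)
    (hS : ∀ γ : Γ, γ ∈ S ↔ ∀ b : B, ∃ x ∈ maximalIdeal B, γ • b = b + b * x)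

include hS in
omit [Finite Γ] in
theorem mem_S_iff (γ : Γ) : γ ∈ S ↔ ∀ (b : B) (hb : b ≠ 0), chi hst b γ = 1 := by
  rw [hS]
  constructor
  · intro h b hb
    obtain ⟨x, hx, hbx⟩ := h b
    rw [← chi_spec hst hb γ (1 + x) (by rw [hbx]; ring), map_add, map_one,
      (residue_eq_zero_iff x).2 hx, add_zero]
  · intro h b
    by_cases hb : b = 0
    · exact ⟨0, zero_mem _, by simp [hb]⟩
    · have h1 := h b hb
      have hγ := Classical.choose_spec (hst γ b)
      refine ⟨Classical.choose (hst γ b) - 1, ?_, ?_⟩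
      · rw [← residue_eq_zero_iff, map_sub, map_one, sub_eq_zero]
        exact h1
      · have h2 : b + b * (Classical.choose (hst γ b) - 1) = b * Classical.choose (hst γ b) := by ring
        rw [h2]; exact hγ

include hin hst hS in
omit [Finite Γ] in
theorem one_mem_S : (1 : Γ) ∈ S := by
  rw [mem_S_iff hst S hS]
  intro b hb
  exact chi_one hst hb

include hin hst hS in
omit [Finite Γ] in
theorem mul_mem_S {γ δ : Γ} (hγ : γ ∈ S) (hδ : δ ∈ S) : γ * δ ∈ S := by
  rw [mem_S_iff hst S hS] at hγ hδ ⊢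
  intro b hb
  rw [chi_mul hin hst hb, hγ b hb, hδ b hb, mul_one]

include hin hst hS in
omit [Finite Γ] in
theorem inv_mem_S {γ : Γ} (hγ : γ ∈ S) : γ⁻¹ ∈ S := by
  rw [mem_S_iff hst S hS] at hγ ⊢
  intro b hb
  have := chi_mul hin hst hb γ γ⁻¹
  rw [mul_inv_cancel, chi_one hst hb, hγ b hb, one_mul] at this
  exact this.symm

include hin hst hS in
omit [Finite Γ] in
theorem pow_mem_S {γ : Γ} (hγ : γ ∈ S) (n : ℕ) : γ ^ n ∈ S := by
  induction n with
  | zero => rw [pow_zero]; exact one_mem_S hin hst S hS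
  | succ n ih => rw [pow_succ]; exact mul_mem_S hin hst S hS ih hγ

/-- `S` as a subgroup -/
def subgp : Subgroup Γ where
  carrier := S
  mul_mem' := mul_mem_S hin hst S hS
  one_mem' := one_mem_S hin hst S hS
  inv_mem' := inv_mem_S hin hst S hS

include hin hst hS in
omit [Finite Γ] in
theorem comm_mem_S (γ δ : Γ) : γ * δ * γ⁻¹ * δ⁻¹ ∈ S := by
  rw [mem_S_iff hst S hS]
  intro b hb
  have h1 := (chiHom hin hst hb).map_mul_inv γ γ
  change chi hst b (γ * δ * γ⁻¹ * δ⁻¹) = 1
  rw [chi_mul hin hst hb, chi_mul hin hst hb, chi_mul hin hst hb]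
  have h2 : chi hst b γ * chi hst b γ⁻¹ = 1 := by
    rw [← chi_mul hin hst hb, mul_inv_cancel, chi_one hst hb]
  have h3 : chi hst b δ * chi hst b δ⁻¹ = 1 := by
    rw [← chi_mul hin hst hb, mul_inv_cancel, chi_one hst hb]
  calc chi hst b γ * chi hst b δ * chi hst b γ⁻¹ * chi hst b δ⁻¹
      = (chi hst b γ * chi hst b γ⁻¹) * (chi hst b δ * chi hst b δ⁻¹) := by ring
    _ = 1 := by rw [h2, h3, mul_one]

include hin hst hS in
omit [Finite Γ] in
theorem chi_pow {b : B} (hb : b ≠ 0) (γ : Γ) (n : ℕ) : chi hst b (γ ^ n) = chi hst b γ ^ n :=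
  (chiHom hin hst hb).map_pow γ n

include hin hst hS in
omit [Finite Γ] in
/-- key: an element of `S` of order invertible in `B` acts trivially. -/
theorem smul_eq_of_pow_eq_one {γ : Γ} (hγ : γ ∈ S) (n : ℕ) (hn : γ ^ n = 1)
    (hunit : IsUnit ((n : ℕ) : B)) (b : B) : γ • b = b := by
  set c := γ • b - b with hc
  have hsum : ∑ i ∈ Finset.range n, (γ ^ i) • c = 0 := by
    have : ∀ i, (γ ^ i) • c = (γ ^ (i + 1)) • b - (γ ^ i) • b := by
      intro i
      rw [hc, smul_sub, ← mul_smul, ← pow_succ]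
    simp only [this]
    rw [Finset.sum_range_sub (fun i => (γ ^ i) • b) n]
    simp [hn]
  have hy : ∀ i : ℕ, ∃ y ∈ maximalIdeal B, (γ ^ i) • c = c + c * y := by
    intro i
    exact (hS _).1 (pow_mem_S hin hst S hS hγ i) c
  choose y hym hy using hy
  have h2 : c * ((n : B) + ∑ i ∈ Finset.range n, y i) = 0 := by
    rw [← hsum]
    simp only [hy]
    rw [Finset.sum_add_distrib, Finset.sum_const, Finset.card_range, nsmul_eq_mul, mul_add,
      Finset.mul_sum]
    ring
  have h3 : IsUnit ((n : B) + ∑ i ∈ Finset.range n, y i) := by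
    by_contra hnu
    have h4 : (n : B) + ∑ i ∈ Finset.range n, y i ∈ maximalIdeal B := (mem_maximalIdeal _).2 hnu
    have h5 : ∑ i ∈ Finset.range n, y i ∈ maximalIdeal B := Ideal.sum_mem _ (fun i _ => hym i)
    have h6 : (n : B) ∈ maximalIdeal B := by
      have := Ideal.sub_mem _ h4 h5
      simpa using this
    exact (mem_maximalIdeal _).1 h6 hunit
  have h7 : c = 0 := h3.mul_left_eq_zero.1 h2
  rw [hc, sub_eq_zero] at h7
  exact h7


include hin hst hS in
omit [Finite Γ] in
theorem eq_one_of_pow_eq_one [FaithfulSMul Γ B] {γ : Γ} (hγ : γ ∈ S) (n : ℕ) (hn : γ ^ n = 1)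
    (hunit : IsUnit ((n : ℕ) : B)) : γ = 1 := by
  apply FaithfulSMul.eq_of_smul_eq_smul (α := B)
  intro b
  rw [one_smul]
  exact smul_eq_of_pow_eq_one hin hst S hS hγ n hn hunit b

omit [Finite Γ] [MulSemiringAction Γ B] in
theorem isUnit_natCast_of_residue_ne_zero (n : ℕ) (h : ((n : ℕ) : ResidueField B) ≠ 0) :
    IsUnit ((n : ℕ) : B) := by
  by_contra hnu
  apply h
  have : (n : B) ∈ maximalIdeal B := (mem_maximalIdeal _).2 hnu
  rw [← map_natCast (residue B) n]
  exact (residue_eq_zero_iff _).2 this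

include hin hst hS in
theorem part1 [FaithfulSMul Γ B] (h0 : ringChar (ResidueField B) = 0) : S = {1} := by
  have hchar : CharP (ResidueField B) 0 := ringChar.of_eq h0
  have : CharZero (ResidueField B) := CharP.charP_to_charZero _
  ext γ
  simp only [Set.mem_singleton_iff]
  constructor
  · intro hγ
    apply eq_one_of_pow_eq_one hin hst S hS hγ (orderOf γ) (pow_orderOf_eq_one γ)
    apply isUnit_natCast_of_residue_ne_zero
    exact Nat.cast_ne_zero.2 (orderOf_pos γ).ne'
  · rintro rfl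
    exact one_mem_S hin hst S hS

include hin hst hS in
theorem part2 [FaithfulSMul Γ B] (p : ℕ) [Fact p.Prime] (hp : ringChar (ResidueField B) = p) :
    ∃ Q : Sylow p Γ, (Q : Set Γ) = S := by
  have hchar : CharP (ResidueField B) p := ringChar.of_eq hp
  have hP : IsPGroup p (subgp hin hst S hS) := by
    rintro ⟨g, hg⟩
    obtain ⟨j, n', hn', hjn⟩ := Nat.exists_eq_pow_mul_and_not_dvd (orderOf_pos g).ne' p
      (Fact.out : p.Prime).ne_one
    refine ⟨j, ?_⟩
    apply Subtype.ext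
    change g ^ p ^ j = 1
    have hg' : g ^ p ^ j ∈ S := pow_mem_S hin hst S hS hg _
    apply eq_one_of_pow_eq_one hin hst S hS hg' n'
    · rw [← pow_mul, ← hjn, pow_orderOf_eq_one]
    · apply isUnit_natCast_of_residue_ne_zero
      rw [Ne, CharP.cast_eq_zero_iff (ResidueField B) p]
      exact hn'
  obtain ⟨Q, hQ⟩ := hP.exists_le_sylow
  refine ⟨Q, ?_⟩
  apply Set.Subset.antisymm
  · intro g hg
    obtain ⟨j, hj⟩ := Q.isPGroup' ⟨g, hg⟩
    have hj' : g ^ p ^ j = 1 := congrArg Subtype.val hj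
    rw [mem_S_iff hst S hS]
    intro b hb
    have h1 : chi hst b g ^ p ^ j = 1 := by
      rw [← chi_pow hin hst S hS hb, hj', chi_one hst hb]
    have h2 : (chi hst b g - 1) ^ p ^ j = 0 := by
      rw [sub_pow_char_pow, h1, one_pow, sub_self]
    exact sub_eq_zero.1 (pow_eq_zero_iff (pow_pos (Fact.out : p.Prime).pos j).ne' |>.1 h2)
  · intro g hg
    exact hQ (show g ∈ subgp hin hst S hS from hg)

include hin hst hS in
omit [Finite Γ] in
theorem part4 (γ : Γ) (n : ℕ) (hn : 0 < n) (hγn : γ ^ n ∈ S)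
    (hmin : ∀ i : ℕ, 0 < i → i < n → γ ^ i ∉ S) :
    ∃ ζ : ResidueField B, IsPrimitiveRoot ζ n := by
  have : NeZero n := ⟨hn.ne'⟩
  rw [← card_rootsOfUnity_eq_iff_exists_isPrimitiveRoot]
  set h := Nat.card (rootsOfUnity n (ResidueField B)) with hh
  have hle : h ≤ n := card_rootsOfUnity (ResidueField B) n
  have hpos : 0 < h := Nat.card_pos
  have hmem : γ ^ h ∈ S := by
    rw [mem_S_iff hst S hS]
    intro b hb
    rw [chi_pow hin hst S hS hb]
    have h1 : chi hst b γ ^ n = 1 := by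
      rw [← chi_pow hin hst S hS hb]
      exact (mem_S_iff hst S hS _).1 hγn b hb
    obtain ⟨zu, hzu⟩ := IsUnit.of_pow_eq_one h1 hn.ne'
    have hzmem : zu ∈ rootsOfUnity n (ResidueField B) := by
      rw [mem_rootsOfUnity]
      apply Units.ext
      rw [Units.val_pow_eq_pow_val, hzu, h1, Units.val_one]
    have h2 : (⟨zu, hzmem⟩ : rootsOfUnity n (ResidueField B)) ^ h = 1 := pow_card_eq_one'
    have h3 : zu ^ h = 1 := by
      have := congrArg Subtype.val h2
      simpa using this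
    rw [← hzu, ← Units.val_pow_eq_pow_val, h3, Units.val_one]
  by_contra hne
  exact hmin h hpos (lt_of_le_of_ne hle hne) hmem

include hin hst in
theorem main [FaithfulSMul Γ B] (S : Set Γ)
    (hS : ∀ γ : Γ, γ ∈ S ↔ ∀ b : B, ∃ x ∈ IsLocalRing.maximalIdeal B, γ • b = b + b * x) :
    (ringChar (IsLocalRing.ResidueField B) = 0 → S = {1}) ∧
      (∀ (p : ℕ) [Fact p.Prime], ringChar (IsLocalRing.ResidueField B) = p →
        ∃ Q : Sylow p Γ, (Q : Set Γ) = S) ∧
      (∀ γ δ : Γ, γ * δ * γ⁻¹ * δ⁻¹ ∈ S) ∧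
      (∀ (γ : Γ) (n : ℕ), 0 < n → γ ^ n ∈ S → (∀ i : ℕ, 0 < i → i < n → γ ^ i ∉ S) →
        ∃ ζ : IsLocalRing.ResidueField B, IsPrimitiveRoot ζ n) :=
  ⟨part1 hin hst S hS, fun p _ hp => part2 hin hst S hS p hp, comm_mem_S hin hst S hS,
    fun γ n hn hγn hmin => part4 hin hst S hS γ n hn hγn hmin⟩

end Groth.Agent.H6.InertiaS
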