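import Mathlib

/-!
# Infinitesimal automorphisms: the algebraic core (helper6)

`A` local, `e : ι → A` a minimal family (every relation has coefficients in the maximal ideal),
`B` a flat `A`-algebra with an `A`-endomorphism `σ` which is the identity modulo `m B` and satisfies
`σ b - b ∈ (e) B`.  Then the "coordinates" of `σ - id` are derivations of `C = B / m B`.
-/

set_option autoImplicit false
universe u
open IsLocalRing

namespace Groth.Agent.H6.InfAut

section MinGen

variable {A : Type*} [CommRing A] [IsLocalRing A]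

/-- a generating family of minimal cardinality: every relation has coefficients in `m`. -/
theorem exists_minimal_generators (J : Ideal A) (hJ : J.FG) :
    ∃ (s : Finset A), Ideal.span (s : Set A) = J ∧
      ∀ (a : A → A), (∑ e ∈ s, a e * e = 0) → ∀ e ∈ s, a e ∈ maximalIdeal A := by
  classical
  have hex : ∃ n : ℕ, ∃ s : Finset A, s.card = n ∧ Ideal.span (s : Set A) = J := by
    obtain ⟨s, hs⟩ := hJ
    exact ⟨s.card, s, rfl, hs⟩
  obtain ⟨s, hcard, hs⟩ := Nat.find_spec hex
  refine ⟨s, hs, ?_⟩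
  intro a ha e₀ he₀
  by_contra hne
  have hu : IsUnit (a e₀) := by
    by_contra h
    exact hne ((mem_maximalIdeal _).mpr h)
  obtain ⟨u, hu⟩ := hu
  -- `e₀` is in the span of the others
  have h1 : a e₀ * e₀ = - ∑ e ∈ s.erase e₀, a e * e := by
    rw [← Finset.add_sum_erase s _ he₀] at ha
    exact eq_neg_of_add_eq_zero_left ha
  have h3 : e₀ = (↑u⁻¹ : A) * (- ∑ e ∈ s.erase e₀, a e * e) := by
    rw [← h1, ← mul_assoc, ← hu, Units.inv_mul, one_mul]
  have h2 : e₀ ∈ Ideal.span ((s.erase e₀ : Finset A) : Set A) := by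
    have h2' : (↑u⁻¹ : A) * (- ∑ e ∈ s.erase e₀, a e * e) ∈
        Ideal.span ((s.erase e₀ : Finset A) : Set A) := by
      refine Ideal.mul_mem_left _ _ (neg_mem (Ideal.sum_mem _ fun e he => ?_))
      exact Ideal.mul_mem_left _ _ (Ideal.subset_span he)
    rwa [← h3] at h2'
  have h4 : Ideal.span ((s.erase e₀ : Finset A) : Set A) = J := by
    apply le_antisymm
    · rw [← hs]
      exact Ideal.span_mono (by exact_mod_cast Finset.erase_subset e₀ s)
    · rw [← hs, Ideal.span_le]
      intro e he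
      by_cases hee : e = e₀
      · rw [hee]; exact h2
      · exact Ideal.subset_span (by exact_mod_cast Finset.mem_erase.mpr ⟨hee, he⟩)
  have h5 := Nat.find_min hex (m := (s.erase e₀).card)
    (by rw [← hcard]; exact Finset.card_erase_lt_of_mem he₀)
  exact h5 ⟨_, rfl, h4⟩

/-- indexed form. -/
theorem exists_minimal_family (J : Ideal A) (hJ : J.FG) :
    ∃ (ι : Type) (_ : Fintype ι) (e : ι → A), Ideal.span (Set.range e) = J ∧
      ∀ (a : ι → A), (∑ i, a i * e i = 0) → ∀ i, a i ∈ maximalIdeal A := by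
  classical
  obtain ⟨s, hs, hmin⟩ := exists_minimal_generators J hJ
  obtain ⟨n, ⟨eqv⟩⟩ : ∃ n : ℕ, Nonempty (Fin n ≃ ↥s) := ⟨_, ⟨(Fintype.equivFin ↥s).symm⟩⟩
  refine ⟨Fin n, inferInstance, fun i => (eqv i : A), ?_, ?_⟩
  · rw [← hs]
    congr 1
    ext z
    constructor
    · rintro ⟨i, rfl⟩
      exact (eqv i).2
    · intro hz
      exact ⟨eqv.symm ⟨z, hz⟩, by simp⟩
  · intro a ha i
    let a' : A → A := fun z => if h : z ∈ s then a (eqv.symm ⟨z, h⟩) else 0
    have h1 : ∑ z ∈ s, a' z * z = 0 := by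
      rw [← Finset.sum_coe_sort s (fun z => a' z * z), ← ha, ← eqv.sum_comp]
      refine Finset.sum_congr rfl fun j _ => ?_
      simp only [a']
      rw [dif_pos (eqv j).2]
      simp
    have h2 := hmin a' h1 (eqv i) (eqv i).2
    simp only [a'] at h2
    rw [dif_pos (eqv i).2] at h2
    simpa using h2

end MinGen

section Core

variable {A : Type*} [CommRing A] [IsLocalRing A] {ι : Type*} [Fintype ι] (e : ι → A)
  (hmin : ∀ a : ι → A, ∑ i, a i * e i = 0 → ∀ i, a i ∈ maximalIdeal A)
  {B : Type*} [CommRing B] [Algebra A B] [Module.Flat A B]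

include hmin in
/-- flatness: the coefficients of a relation among the `e i` in `B` lie in `m B`. -/
theorem mem_map_of_sum_eq_zero (β : ι → B) (h : ∑ i, algebraMap A B (e i) * β i = 0) (i : ι) :
    β i ∈ (maximalIdeal A).map (algebraMap A B) := by
  have h' : ∑ i, e i • β i = 0 := by
    rw [← h]
    exact Finset.sum_congr rfl fun i _ => Algebra.smul_def _ _
  obtain ⟨k, a, y, hy, ha⟩ := Module.Flat.isTrivialRelation_of_sum_smul_eq_zero (R := A) (M := B) (f := e) (x := β) h'
  rw [hy i]
  refine Ideal.sum_mem _ fun j _ => ?_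
  rw [Algebra.smul_def]
  refine Ideal.mul_mem_right _ _ (Ideal.mem_map_of_mem _ ?_)
  refine hmin (fun i => a i j) ?_ i
  rw [← ha j]
  exact Finset.sum_congr rfl fun i _ => mul_comm _ _

include hmin in
theorem mk_eq_of_sum_eq {C : Type*} [CommRing C] (π : B →+* C)
    (hker : RingHom.ker π = (maximalIdeal A).map (algebraMap A B)) (β β' : ι → B)
    (h : ∑ i, algebraMap A B (e i) * β i = ∑ i, algebraMap A B (e i) * β' i) (i : ι) :
    π (β i) = π (β' i) := by
  have h1 : ∑ i, algebraMap A B (e i) * (β i - β' i) = 0 := by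
    simp only [mul_sub, Finset.sum_sub_distrib, h, sub_self]
  have h2 := mem_map_of_sum_eq_zero e hmin (fun i => β i - β' i) h1 i
  rw [← hker, RingHom.mem_ker, map_sub, sub_eq_zero] at h2
  exact h2

variable (σ : B →+* B) (hσ : ∀ a : A, σ (algebraMap A B a) = algebraMap A B a)
  (H : ∀ b, ∃ β : ι → B, σ b - b = ∑ i, algebraMap A B (e i) * β i)

include hσ H in
/-- on `m B` the coordinates of `σ - id` lie in `m B`. -/
theorem exists_coeff_mem (z : B) (hz : z ∈ (maximalIdeal A).map (algebraMap A B)) :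
    ∃ β : ι → B, σ z - z = ∑ i, algebraMap A B (e i) * β i ∧
      ∀ i, β i ∈ (maximalIdeal A).map (algebraMap A B) := by
  unfold Ideal.map at hz
  induction hz using Submodule.span_induction with
  | mem z hz =>
    obtain ⟨a, _, rfl⟩ := hz
    refine ⟨fun _ => 0, ?_, fun _ => zero_mem _⟩
    rw [hσ, sub_self]
    simp
  | zero =>
    refine ⟨fun _ => 0, ?_, fun _ => zero_mem _⟩
    simp
  | add z w _ _ hz hw =>
    obtain ⟨β, h1, h2⟩ := hz
    obtain ⟨γ, h3, h4⟩ := hw
    refine ⟨fun i => β i + γ i, ?_, fun i => add_mem (h2 i) (h4 i)⟩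
    rw [map_add, add_sub_add_comm, h1, h3, ← Finset.sum_add_distrib]
    exact Finset.sum_congr rfl fun i _ => (mul_add _ _ _).symm
  | smul b z hz hz' =>
    obtain ⟨β, h1, h2⟩ := hz'
    obtain ⟨γ, h3⟩ := H b
    refine ⟨fun i => σ b * β i + γ i * z, ?_, fun i => add_mem (Ideal.mul_mem_left _ _ (h2 i))
      (Ideal.mul_mem_left _ _ hz)⟩
    have h5 : σ (b • z) - b • z = σ b * (σ z - z) + (σ b - b) * z := by
      rw [smul_eq_mul, map_mul]; ring
    rw [h5, h1, h3, Finset.mul_sum, Finset.sum_mul, ← Finset.sum_add_distrib]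
    exact Finset.sum_congr rfl fun i _ => by ring

variable {C : Type*} [CommRing C] (π : B →+* C) (hπ : Function.Surjective π)
  (hker : RingHom.ker π = (maximalIdeal A).map (algebraMap A B))

include hmin hσ H hker in
theorem coord_wd (b b' : B) (hbb : π b = π b') (β β' : ι → B)
    (h : σ b - b = ∑ i, algebraMap A B (e i) * β i)
    (h' : σ b' - b' = ∑ i, algebraMap A B (e i) * β' i) (i : ι) : π (β i) = π (β' i) := by
  have hz : b' - b ∈ (maximalIdeal A).map (algebraMap A B) := by
    rw [← hker, RingHom.mem_ker, map_sub, hbb, sub_self]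
  obtain ⟨γ, h1, h2⟩ := exists_coeff_mem e σ hσ H _ hz
  have h3 : ∑ i, algebraMap A B (e i) * β' i = ∑ i, algebraMap A B (e i) * (β i + γ i) := by
    rw [← h']
    have : σ b' - b' = (σ b - b) + (σ (b' - b) - (b' - b)) := by rw [map_sub]; ring
    rw [this, h, h1, ← Finset.sum_add_distrib]
    exact Finset.sum_congr rfl fun i _ => (mul_add _ _ _).symm
  have h4 := mk_eq_of_sum_eq e hmin π hker _ _ h3 i
  rw [h4, map_add]
  have h5 : π (γ i) = 0 := by
    have := h2 i
    rwa [← hker, RingHom.mem_ker] at this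
  rw [h5, add_zero]

include hmin hσ H hker hπ in
/-- **existence of the coordinate maps** of `σ - id`. -/
theorem exists_coord :
    ∃ D : ι → C → C, ∀ (b : B) (β : ι → B), σ b - b = ∑ i, algebraMap A B (e i) * β i →
      ∀ i, D i (π b) = π (β i) := by
  classical
  refine ⟨fun i c => π (Classical.choose (H (Classical.choose (hπ c))) i), ?_⟩
  intro b β hβ i
  exact coord_wd e hmin σ hσ H π hker _ _ (Classical.choose_spec (hπ (π b))) _ _
    (Classical.choose_spec (H (Classical.choose (hπ (π b))))) hβ i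

end Core

section Props

variable {A : Type*} [CommRing A] [IsLocalRing A] {ι : Type*} [Fintype ι] (e : ι → A)
  {B : Type*} [CommRing B] [Algebra A B]
  (σ : B →+* B) (hσ : ∀ a : A, σ (algebraMap A B a) = algebraMap A B a)
  (H : ∀ b, ∃ β : ι → B, σ b - b = ∑ i, algebraMap A B (e i) * β i)
  {C : Type*} [CommRing C] (π : B →+* C) (hπ : Function.Surjective π)
  (hπσ : ∀ b, π (σ b) = π b)
  (D : ι → C → C)
  (hD : ∀ (b : B) (β : ι → B), σ b - b = ∑ i, algebraMap A B (e i) * β i →
      ∀ i, D i (π b) = π (β i))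

include H hπ hD in
theorem coord_add (i : ι) (c c' : C) : D i (c + c') = D i c + D i c' := by
  obtain ⟨b, rfl⟩ := hπ c
  obtain ⟨b', rfl⟩ := hπ c'
  obtain ⟨β, hβ⟩ := H b
  obtain ⟨β', hβ'⟩ := H b'
  have h1 : σ (b + b') - (b + b') = ∑ i, algebraMap A B (e i) * (β i + β' i) := by
    rw [map_add, add_sub_add_comm, hβ, hβ', ← Finset.sum_add_distrib]
    exact Finset.sum_congr rfl fun i _ => (mul_add _ _ _).symm
  rw [← map_add, hD _ _ h1, hD _ _ hβ, hD _ _ hβ', map_add]

include H hπ hD hπσ in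
theorem coord_mul (i : ι) (c c' : C) : D i (c * c') = c * D i c' + c' * D i c := by
  obtain ⟨b, rfl⟩ := hπ c
  obtain ⟨b', rfl⟩ := hπ c'
  obtain ⟨β, hβ⟩ := H b
  obtain ⟨β', hβ'⟩ := H b'
  have h1 : σ (b * b') - (b * b') = ∑ i, algebraMap A B (e i) * (β i * σ b' + b * β' i) := by
    have : σ (b * b') - b * b' = (σ b - b) * σ b' + b * (σ b' - b') := by rw [map_mul]; ring
    rw [this, hβ, hβ', Finset.sum_mul, Finset.mul_sum, ← Finset.sum_add_distrib]
    exact Finset.sum_congr rfl fun i _ => by ring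
  rw [← map_mul, hD _ _ h1, hD _ _ hβ, hD _ _ hβ', map_add, map_mul, map_mul, hπσ]
  ring

include hσ hD in
theorem coord_algebraMap (i : ι) (a : A) : D i (π (algebraMap A B a)) = 0 := by
  have h1 : σ (algebraMap A B a) - algebraMap A B a = ∑ i, algebraMap A B (e i) * (fun _ => (0 : B)) i := by
    rw [hσ, sub_self]; simp
  rw [hD _ _ h1, map_zero]

include H hD in
/-- **if all coordinates vanish, `σ - id` has values in `(m J) B`.** -/
theorem sub_mem_of_coord_eq_zero
    (hker : RingHom.ker π = (maximalIdeal A).map (algebraMap A B))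
    (h0 : ∀ i c, D i c = 0) (b : B) :
    σ b - b ∈ (maximalIdeal A * Ideal.span (Set.range e)).map (algebraMap A B) := by
  obtain ⟨β, hβ⟩ := H b
  rw [hβ, Ideal.map_mul]
  refine Ideal.sum_mem _ fun i _ => ?_
  have h1 : β i ∈ (maximalIdeal A).map (algebraMap A B) := by
    rw [← hker, RingHom.mem_ker, ← hD _ _ hβ i]
    exact h0 _ _
  have h2 : algebraMap A B (e i) ∈ (Ideal.span (Set.range e)).map (algebraMap A B) :=
    Ideal.mem_map_of_mem _ (Ideal.subset_span (Set.mem_range_self i))
  rw [mul_comm (algebraMap A B (e i))]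
  exact Ideal.mul_mem_mul h1 h2

/-- naturality of the coordinates. -/
theorem coord_natural {B' C' : Type*} [CommRing B'] [Algebra A B'] [CommRing C']
    (σ' : B' →+* B') (π' : B' →+* C') (D' : ι → C' → C')
    (hD' : ∀ (b : B') (β : ι → B'), σ' b - b = ∑ i, algebraMap A B' (e i) * β i →
      ∀ i, D' i (π' b) = π' (β i))
    (g : B →+* B') (gC : C →+* C') (hgA : ∀ a, g (algebraMap A B a) = algebraMap A B' a)
    (hgσ : ∀ b, g (σ b) = σ' (g b)) (hgπ : ∀ b, π' (g b) = gC (π b))
    (H : ∀ b, ∃ β : ι → B, σ b - b = ∑ i, algebraMap A B (e i) * β i)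
    (hπ : Function.Surjective π)
    (hD : ∀ (b : B) (β : ι → B), σ b - b = ∑ i, algebraMap A B (e i) * β i →
      ∀ i, D i (π b) = π (β i))
    (i : ι) (c : C) : D' i (gC c) = gC (D i c) := by
  obtain ⟨b, rfl⟩ := hπ c
  obtain ⟨β, hβ⟩ := H b
  have h1 : σ' (g b) - g b = ∑ i, algebraMap A B' (e i) * (g (β i)) := by
    rw [← hgσ, ← map_sub, hβ, map_sum]
    exact Finset.sum_congr rfl fun i _ => by rw [map_mul, hgA]
  rw [← hgπ, hD' _ _ h1, hD _ _ hβ, hgπ]

/-- coefficients for an element of the extended ideal. -/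
theorem exists_coeff_of_mem_map (z : B) (hz : z ∈ (Ideal.span (Set.range e)).map (algebraMap A B)) :
    ∃ β : ι → B, z = ∑ i, algebraMap A B (e i) * β i := by
  have h1 : (Ideal.span (Set.range e)).map (algebraMap A B) =
      Ideal.span (Set.range (fun i => algebraMap A B (e i))) := by
    rw [Ideal.map_span, ← Set.range_comp]
    rfl
  rw [h1] at hz
  obtain ⟨c, hc⟩ := (Ideal.mem_span_range_iff_exists_fun (R := B)).mp hz
  refine ⟨c, ?_⟩
  rw [← hc]
  exact Finset.sum_congr rfl fun i _ => mul_comm _ _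

end Props

end Groth.Agent.H6.InfAut
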