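import Mathlib
import Groth.Prelude.Def_Omega3
import Groth.Agent.Lib.Helper3.OmApi

/-!
# Gluing a derivation of `O_X` from its values on a basis of opens (helper6)
-/

set_option autoImplicit false
universe u
open AlgebraicGeometry CategoryTheory TopologicalSpace Opposite

namespace Groth.Agent.H6.InfAut

variable {X : Scheme.{u}}

theorem res_res {U V V' : X.Opens} (h : V ≤ U) (h' : V' ≤ V) (s : Γ(X, U)) :
    X.presheaf.map (homOfLE h').op (X.presheaf.map (homOfLE h).op s) =
      X.presheaf.map (homOfLE (h'.trans h)).op s := by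
  rw [← CommRingCat.comp_apply, ← Functor.map_comp]
  rfl

theorem res_self {U : X.Opens} (h : U ≤ U) (s : Γ(X, U)) :
    X.presheaf.map (homOfLE h).op s = s := by
  have : (homOfLE h).op = 𝟙 (op U) := rfl
  rw [this, X.presheaf.map_id]
  rfl

variable {ι : Type u} (W : ι → X.Opens)
  (hW : ∀ (U : X.Opens) (p : X), p ∈ U → ∃ j, p ∈ W j ∧ W j ≤ U)

include hW in
/-- sections are determined by their restrictions to the members of a basis. -/
theorem sec_ext (U : X.Opens) (s t : Γ(X, U))
    (h : ∀ j (hj : W j ≤ U), X.presheaf.map (homOfLE hj).op s = X.presheaf.map (homOfLE hj).op t) :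
    s = t := by
  refine X.sheaf.eq_of_locally_eq' (fun j : {j // W j ≤ U} => W j.1) U (fun j => homOfLE j.2) ?_ s t
    (fun j => h j.1 j.2)
  intro p hp
  obtain ⟨j, hpj, hj⟩ := hW U p hp
  exact Opens.mem_iSup.mpr ⟨⟨j, hj⟩, hpj⟩

include hW in
/-- gluing sections given on the members of a basis. -/
theorem exists_glue (U : X.Opens) (sf : ∀ j, W j ≤ U → Γ(X, W j))
    (hsf : ∀ j j' (hj : W j ≤ U) (hj' : W j' ≤ U) (h : W j' ≤ W j),
      X.presheaf.map (homOfLE h).op (sf j hj) = sf j' hj') :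
    ∃ s : Γ(X, U), ∀ j (hj : W j ≤ U), X.presheaf.map (homOfLE hj).op s = sf j hj := by
  have hcompat : TopCat.Presheaf.IsCompatible X.sheaf.1 (fun j : {j // W j ≤ U} => W j.1)
      (fun j => sf j.1 j.2) := by
    intro j j'
    apply sec_ext W hW
    intro l hl
    have h1 : X.presheaf.map (homOfLE hl).op
        (X.presheaf.map (Opens.infLELeft (W j.1) (W j'.1)).op (sf j.1 j.2)) = sf l (hl.trans (inf_le_left.trans j.2)) := by
      rw [← hsf j.1 l j.2 (hl.trans (inf_le_left.trans j.2)) (hl.trans inf_le_left)]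
      exact res_res _ _ _
    have h2 : X.presheaf.map (homOfLE hl).op
        (X.presheaf.map (Opens.infLERight (W j.1) (W j'.1)).op (sf j'.1 j'.2)) = sf l (hl.trans (inf_le_left.trans j.2)) := by
      rw [← hsf j'.1 l j'.2 (hl.trans (inf_le_left.trans j.2)) (hl.trans inf_le_right)]
      exact res_res _ _ _
    exact h1.trans h2.symm
  have hcover : U ≤ iSup (fun j : {j // W j ≤ U} => W j.1) := by
    intro p hp
    obtain ⟨j, hpj, hj⟩ := hW U p hp
    exact Opens.mem_iSup.mpr ⟨⟨j, hj⟩, hpj⟩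
  obtain ⟨s, hs, -⟩ := X.sheaf.existsUnique_gluing' (fun j : {j // W j ≤ U} => W j.1) U
    (fun j => homOfLE j.2) hcover _ hcompat
  exact ⟨s, fun j hj => hs ⟨j, hj⟩⟩

variable (D : ∀ j, Γ(X, W j) → Γ(X, W j))
  (hres : ∀ j j' (h : W j' ≤ W j) (a : Γ(X, W j)),
    D j' (X.presheaf.map (homOfLE h).op a) = X.presheaf.map (homOfLE h).op (D j a))

include hW hres in
theorem exists_glueFun :
    ∃ δ : ∀ U : X.Opens, Γ(X, U) → Γ(X, U), ∀ (U : X.Opens) (a : Γ(X, U)) j (hj : W j ≤ U),
      X.presheaf.map (homOfLE hj).op (δ U a) = D j (X.presheaf.map (homOfLE hj).op a) := by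
  have h : ∀ (U : X.Opens) (a : Γ(X, U)), ∃ s : Γ(X, U), ∀ j (hj : W j ≤ U),
      X.presheaf.map (homOfLE hj).op s = D j (X.presheaf.map (homOfLE hj).op a) := by
    intro U a
    refine exists_glue W hW U (fun j hj => D j (X.presheaf.map (homOfLE hj).op a)) ?_
    intro j j' hj hj' h
    rw [← hres j j' h, res_res]
  choose δ hδ using h
  exact ⟨δ, hδ⟩

include hW hres in
/-- **a derivation of `O_X` from compatible derivations on a basis.** -/
theorem exists_der_of_basis {S : Scheme.{u}} (x : X ⟶ S)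
    (hadd : ∀ j a b, D j (a + b) = D j a + D j b)
    (hmul : ∀ j a b, D j (a * b) = a * D j b + b * D j a)
    (hS : ∀ j (V : S.Opens) (h : W j ≤ x ⁻¹ᵁ V) (c : Γ(S, V)), D j (x.appLE V (W j) h c) = 0) :
    ∃ 𝔇 : OmegaSh.Der x (Coh.structureModule X),
      ∀ j a, OmegaSh.fnSect X (W j) (𝔇.app (W j) a) = D j a := by
  obtain ⟨δ, hδ⟩ := exists_glueFun W hW D hres
  have hδadd : ∀ U a b, δ U (a + b) = δ U a + δ U b := by
    intro U a b
    apply sec_ext W hW
    intro j hj
    rw [map_add, hδ, hδ, hδ, map_add, hadd]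
  have hδmul : ∀ U a b, δ U (a * b) = a * δ U b + b * δ U a := by
    intro U a b
    apply sec_ext W hW
    intro j hj
    rw [map_add, map_mul, map_mul, hδ, hδ, hδ, map_mul, hmul]
  have hδ0 : ∀ U, δ U 0 = 0 := by
    intro U
    have := hδadd U 0 0
    rw [add_zero] at this
    exact left_eq_add.mp this
  have hδmap : ∀ {U V : X.Opens} (i : V ⟶ U) (s : Γ(X, U)),
      δ V (X.presheaf.map i.op s) = X.presheaf.map i.op (δ U s) := by
    intro U V i s
    apply sec_ext W hW
    intro j hj
    have hi : i = homOfLE i.le := rfl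
    rw [hδ, hi, res_res, res_res, hδ]
  let δ' : ∀ U : X.Opens, Γ(X, U) →+ Γ(Coh.structureModule X, U) := fun U =>
    (OmegaSh.strSect X U).comp
      { toFun := δ U
        map_zero' := hδ0 U
        map_add' := hδadd U }
  refine ⟨Groth.Agent.H3.Om.Der.mk' x (Coh.structureModule X) δ' ?_ ?_ ?_, ?_⟩
  · intro U a b
    exact hδmul U a b
  · intro U V i s
    exact hδmap i s
  · intro V c
    change δ (x ⁻¹ᵁ V) (x.app V c) = 0
    apply sec_ext W hW
    intro j hj
    rw [hδ, map_zero]
    exact hS j V hj c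
  · intro j a
    change δ (W j) a = D j a
    have := hδ (W j) a j le_rfl
    rwa [res_self, res_self] at this

end Groth.Agent.H6.InfAut
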