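import Mathlib
import Groth.Agent.Lib.Helper6.DefAff2

/-!
# Local data of a family over an affine base and of an endomorphism fixing the points (helper6)
-/

set_option autoImplicit false
universe u
open AlgebraicGeometry CategoryTheory CategoryTheory.Limits TopologicalSpace Opposite

namespace Groth.Agent.H6.InfAut

variable {X Y : Scheme.{u}} {R K : CommRingCat.{u}}

/-- the structure map `R → Γ(Y, V)` of a scheme over `Spec R`. -/
noncomputable def phi (f : Y ⟶ Spec R) (V : Y.Opens) : R ⟶ Γ(Y, V) :=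
  (Scheme.ΓSpecIso R).inv ≫ f.appLE ⊤ V le_top

theorem fromSpec_comp (f : Y ⟶ Spec R) {V : Y.Opens} (hV : IsAffineOpen V) :
    hV.fromSpec ≫ f = Spec.map (phi f V) := by
  have h1 := IsAffineOpen.SpecMap_appLE_fromSpec f (isAffineOpen_top (Spec R)) hV le_top
  rw [IsAffineOpen.fromSpec_top, Scheme.isoSpec_Spec_inv, ← Spec.map_comp] at h1
  exact h1.symm

theorem phi_res (f : Y ⟶ Spec R) {V V' : Y.Opens} (h : V' ≤ V) :
    phi f V ≫ Y.presheaf.map (homOfLE h).op = phi f V' := by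
  rw [phi, Category.assoc, Scheme.Hom.appLE_map]
  rfl

theorem phi_comp {Z : Scheme.{u}} (g : Z ⟶ Y) (f : Y ⟶ Spec R) (V : Y.Opens) (W : Z.Opens)
    (e : W ≤ g ⁻¹ᵁ V) : phi f V ≫ g.appLE V W e = phi (g ≫ f) W := by
  rw [phi, Category.assoc, Scheme.Hom.appLE_comp_appLE]
  rfl

theorem flat_phi (f : Y ⟶ Spec R) [Flat f] {V : Y.Opens} (hV : IsAffineOpen V) :
    (phi f V).hom.Flat := by
  have h1 : (f.appLE ⊤ V le_top).hom.Flat :=
    HasRingHomProperty.appLE (P := @Flat) f inferInstance ⟨⊤, isAffineOpen_top _⟩ ⟨V, hV⟩ le_top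
  have h2 : ((Scheme.ΓSpecIso R).inv).hom.Flat :=
    RingHom.Flat.of_bijective (ConcreteCategory.bijective_of_isIso _)
  exact RingHom.Flat.comp h2 h1

/-- over an affine open, a cartesian square over an affine base gives a pushout of rings. -/
theorem isPushout_local (i : X ⟶ Y) (x : X ⟶ Spec K) (f : Y ⟶ Spec R) (ρ : R ⟶ K)
    (hpb : IsPullback i x f (Spec.map ρ)) {V : Y.Opens} (hV : IsAffineOpen V)
    (hU : IsAffineOpen (i ⁻¹ᵁ V)) :
    IsPushout (phi f V) ρ (i.app V) (phi x (i ⁻¹ᵁ V)) := by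
  apply DefAff.isPushout_of_isPullback_Spec
  have h1 : IsPullback (Spec.map (i.appLE V (i ⁻¹ᵁ V) le_rfl)) hU.fromSpec hV.fromSpec i := by
    refine IsOpenImmersion.isPullback _ _ _ _ ?_ ?_
    · exact (IsAffineOpen.SpecMap_appLE_fromSpec i hV hU le_rfl).symm
    · rw [IsAffineOpen.opensRange_fromSpec, IsAffineOpen.opensRange_fromSpec]
  have h2 := h1.paste_vert hpb
  rw [fromSpec_comp x hU, fromSpec_comp f hV, Scheme.Hom.appLE_eq_app] at h2
  exact h2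

theorem app_surjective_and_ker (i : X ⟶ Y) (x : X ⟶ Spec K) (f : Y ⟶ Spec R) (ρ : R ⟶ K)
    (hpb : IsPullback i x f (Spec.map ρ)) (hρ : Function.Surjective ρ.hom)
    {V : Y.Opens} (hV : IsAffineOpen V) (hU : IsAffineOpen (i ⁻¹ᵁ V)) :
    Function.Surjective (i.app V).hom ∧
      RingHom.ker (i.app V).hom = (RingHom.ker ρ.hom).map (phi f V).hom :=
  DefAff.surjective_and_ker_of_isPushout _ _ _ _ (isPushout_local i x f ρ hpb hV hU) hρ

theorem app_phi (i : X ⟶ Y) (x : X ⟶ Spec K) (f : Y ⟶ Spec R) (ρ : R ⟶ K)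
    (hw : i ≫ f = x ≫ Spec.map ρ) (V : Y.Opens) :
    phi f V ≫ i.app V = ρ ≫ phi x (i ⁻¹ᵁ V) := by
  rw [← Scheme.Hom.appLE_eq_app, phi_comp]
  have h1 : phi (i ≫ f) (i ⁻¹ᵁ V) = phi (x ≫ Spec.map ρ) (i ⁻¹ᵁ V) := by rw [hw]
  rw [h1, phi, phi, Scheme.Hom.comp_appLE, ← Category.assoc, ← Category.assoc]
  congr 1
  exact (Scheme.ΓSpecIso_inv_naturality ρ).symm

section Endo

variable (h : Y ⟶ Y) (hb : ∀ V : Y.Opens, h ⁻¹ᵁ V = V)

theorem preimage_eq_of_surjective (i : X ⟶ Y) [Surjective i] (hi : i ≫ h = i) (V : Y.Opens) :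
    h ⁻¹ᵁ V = V := by
  ext y
  obtain ⟨p, rfl⟩ := i.surjective y
  have h1 : h (i p) = i p := by
    rw [← Scheme.Hom.comp_apply, hi]
  change h (i p) ∈ V ↔ i p ∈ V
  rw [h1]

theorem le_of_preimage_le (i : X ⟶ Y) [Surjective i] {V V' : Y.Opens}
    (hle : i ⁻¹ᵁ V' ≤ i ⁻¹ᵁ V) : V' ≤ V := by
  intro y hy
  obtain ⟨p, rfl⟩ := i.surjective y
  exact hle hy

/-- the endomorphism of `Γ(Y, V)` induced by `h`. -/
noncomputable def sig (V : Y.Opens) : Γ(Y, V) ⟶ Γ(Y, V) := h.appLE V V (hb V).ge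

theorem appLE_congr_hom {Z : Scheme.{u}} {g g' : Z ⟶ Y} (e : g = g') (V : Y.Opens) (W : Z.Opens)
    (hW : W ≤ g ⁻¹ᵁ V) : g.appLE V W hW = g'.appLE V W (e ▸ hW) := by
  subst e; rfl

theorem phi_sig (f : Y ⟶ Spec R) (hf : h ≫ f = f) (V : Y.Opens) :
    phi f V ≫ sig h hb V = phi f V := by
  rw [sig, phi_comp, hf]

theorem sig_app (i : X ⟶ Y) (hi : i ≫ h = i) (V : Y.Opens) :
    sig h hb V ≫ i.app V = i.app V := by
  rw [sig, ← Scheme.Hom.appLE_eq_app, Scheme.Hom.appLE_comp_appLE]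
  exact (appLE_congr_hom hi V _ _).trans rfl

theorem sig_res {V V' : Y.Opens} (hle : V' ≤ V) :
    sig h hb V ≫ Y.presheaf.map (homOfLE hle).op = Y.presheaf.map (homOfLE hle).op ≫ sig h hb V' := by
  rw [sig, sig, Scheme.Hom.appLE_map, Scheme.Hom.map_appLE]

theorem hom_eq_id_of_sig (hσ : ∀ V : Y.affineOpens, sig h hb V.1 = 𝟙 _) : h = 𝟙 Y := by
  refine (Y.openCoverOfIsOpenCover _ (iSup_affineOpens_eq_top Y)).hom_ext _ _ ?_
  intro V
  change V.1.ι ≫ h = V.1.ι ≫ 𝟙 Y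
  rw [Category.comp_id]
  have h1 := IsAffineOpen.SpecMap_appLE_fromSpec h V.2 V.2 (hb V.1).ge
  have h2 : h.appLE V.1 V.1 (hb V.1).ge = 𝟙 _ := hσ V
  rw [h2, Spec.map_id, Category.id_comp] at h1
  rw [← IsAffineOpen.isoSpec_hom_fromSpec V.2, Category.assoc, ← h1]

end Endo

/-- for a closed immersion, the preimages of the affine opens form a basis. -/
theorem exists_affine_preimage_le (i : X ⟶ Y) [IsClosedImmersion i] (U : X.Opens) (p : X)
    (hp : p ∈ U) : ∃ V : Y.affineOpens, p ∈ i ⁻¹ᵁ V.1 ∧ i ⁻¹ᵁ V.1 ≤ U := by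
  have hind : Topology.IsInducing i := i.isClosedEmbedding.isInducing
  obtain ⟨W, hWo, hWU⟩ := hind.isOpen_iff.mp U.2
  have hpW : i p ∈ (⟨W, hWo⟩ : Y.Opens) := by
    change p ∈ i ⁻¹' W
    rw [hWU]; exact hp
  obtain ⟨V, hV, hpV, hVW⟩ := exists_isAffineOpen_mem_and_subset (x := i p) (U := ⟨W, hWo⟩) hpW
  refine ⟨⟨V, hV⟩, hpV, ?_⟩
  intro q hq
  have : q ∈ i ⁻¹' W := hVW hq
  rw [hWU] at this
  exact this

end Groth.Agent.H6.InfAut
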