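import Mathlib
import Groth.Agent.Lib.Helper6.InfAut1
import Groth.Agent.Lib.Helper6.InfAut2
import Groth.Agent.Lib.Helper6.InfAut3

/-!
# No infinitesimal automorphisms ⇒ automorphisms of deformations are trivial (helper6)
-/

set_option autoImplicit false
universe u
open AlgebraicGeometry CategoryTheory CategoryTheory.Limits TopologicalSpace Opposite IsLocalRing

namespace Groth.Agent.H6.InfAut

/-- the inductive step: if `σ - id` has values in `J B` then it has values in `(m J) B`. -/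
theorem step {X Y : Scheme.{u}} {R K : CommRingCat.{u}} [IsLocalRing R]
    (i : X ⟶ Y) (x : X ⟶ Spec K) (f : Y ⟶ Spec R) (ρ : R ⟶ K)
    (hpb : IsPullback i x f (Spec.map ρ)) (hρ : Function.Surjective ρ.hom)
    (hker : RingHom.ker ρ.hom = maximalIdeal R) [Flat f] [IsClosedImmersion i] [Surjective i]
    (hK : ∀ T : (Spec K).Opens, T = ⊤ ∨ T = ⊥)
    (h : Y ⟶ Y) (hf : h ≫ f = f) (hi : i ≫ h = i)
    (hder : ∀ (𝔇 : OmegaSh.Der x (Coh.structureModule X)) (U : X.Opens) (a : Γ(X, U)),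
      OmegaSh.fnSect X U (𝔇.app U a) = 0)
    (J : Ideal R) (hJ : J.FG)
    (HJ : ∀ (V : Y.affineOpens) (b : Γ(Y, V.1)),
      (sig h (preimage_eq_of_surjective h i hi) V.1).hom b - b ∈ J.map (phi f V.1).hom) :
    ∀ (V : Y.affineOpens) (b : Γ(Y, V.1)),
      (sig h (preimage_eq_of_surjective h i hi) V.1).hom b - b ∈
        (maximalIdeal R * J).map (phi f V.1).hom := by
  classical
  have hb := preimage_eq_of_surjective h i hi
  obtain ⟨ι, _, e, hspan, hmin⟩ := exists_minimal_family J hJ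
  have hU : ∀ V : Y.affineOpens, IsAffineOpen (i ⁻¹ᵁ V.1) := fun V => V.2.preimage i
  have hsurj : ∀ V : Y.affineOpens, Function.Surjective (i.app V.1).hom := fun V =>
    (app_surjective_and_ker i x f ρ hpb hρ V.2 (hU V)).1
  have hkerV : ∀ V : Y.affineOpens,
      RingHom.ker (i.app V.1).hom = (maximalIdeal R).map (phi f V.1).hom := fun V => by
    rw [← hker]
    exact (app_surjective_and_ker i x f ρ hpb hρ V.2 (hU V)).2
  have hσφ : ∀ (V : Y.affineOpens) (a : R),
      (sig h hb V.1).hom ((phi f V.1).hom a) = (phi f V.1).hom a := fun V a => by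
    have := phi_sig h hb f hf V.1
    exact congr($this a)
  have hπσ : ∀ (V : Y.affineOpens) (b : Γ(Y, V.1)),
      (i.app V.1).hom ((sig h hb V.1).hom b) = (i.app V.1).hom b := fun V b => by
    have := sig_app h hb i hi V.1
    exact congr($this b)
  have HV : ∀ (V : Y.affineOpens) (b : Γ(Y, V.1)), ∃ β : ι → Γ(Y, V.1),
      (sig h hb V.1).hom b - b = ∑ j, (phi f V.1).hom (e j) * β j := by
    intro V b
    letI : Algebra R Γ(Y, V.1) := (phi f V.1).hom.toAlgebra
    have := HJ V b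
    rw [← hspan] at this
    exact exists_coeff_of_mem_map e _ this
  have key : ∀ V : Y.affineOpens, ∃ D : ι → Γ(X, i ⁻¹ᵁ V.1) → Γ(X, i ⁻¹ᵁ V.1),
      ∀ (b : Γ(Y, V.1)) (β : ι → Γ(Y, V.1)),
        (sig h hb V.1).hom b - b = ∑ j, (phi f V.1).hom (e j) * β j →
        ∀ j, D j ((i.app V.1).hom b) = (i.app V.1).hom (β j) := by
    intro V
    letI : Algebra R Γ(Y, V.1) := (phi f V.1).hom.toAlgebra
    haveI : Module.Flat R Γ(Y, V.1) := flat_phi f V.2
    exact exists_coord e hmin (sig h hb V.1).hom (hσφ V) (HV V) (i.app V.1).hom (hsurj V) (hkerV V)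
  choose D hD using key
  have hD0 : ∀ (V : Y.affineOpens) (j : ι) (c : Γ(X, i ⁻¹ᵁ V.1)), D V j c = 0 := by
    intro V₀ j₀ c₀
    have hres : ∀ (V V' : Y.affineOpens) (hle : i ⁻¹ᵁ V'.1 ≤ i ⁻¹ᵁ V.1) (a : Γ(X, i ⁻¹ᵁ V.1)),
        D V' j₀ (X.presheaf.map (homOfLE hle).op a) =
          X.presheaf.map (homOfLE hle).op (D V j₀ a) := by
      intro V V' hle a
      have hVV : V'.1 ≤ V.1 := le_of_preimage_le i hle
      letI : Algebra R Γ(Y, V.1) := (phi f V.1).hom.toAlgebra
      letI : Algebra R Γ(Y, V'.1) := (phi f V'.1).hom.toAlgebra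
      refine coord_natural e (sig h hb V.1).hom (i.app V.1).hom (D V) (sig h hb V'.1).hom
        (i.app V'.1).hom (D V') (hD V') (Y.presheaf.map (homOfLE hVV).op).hom
        (X.presheaf.map (homOfLE hle).op).hom ?_ ?_ ?_ (HV V) (hsurj V) (hD V) j₀ a
      · intro a
        have := phi_res f hVV
        exact congr($this a)
      · intro b
        have := sig_res h hb hVV
        exact congr($this b)
      · intro b
        have := i.naturality (homOfLE hVV).op
        exact congr($this b)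
    have hadd : ∀ (V : Y.affineOpens) (a b : Γ(X, i ⁻¹ᵁ V.1)),
        D V j₀ (a + b) = D V j₀ a + D V j₀ b := by
      intro V a b
      letI : Algebra R Γ(Y, V.1) := (phi f V.1).hom.toAlgebra
      exact coord_add e (sig h hb V.1).hom (HV V) (i.app V.1).hom (hsurj V) (D V) (hD V) j₀ a b
    have hmul : ∀ (V : Y.affineOpens) (a b : Γ(X, i ⁻¹ᵁ V.1)),
        D V j₀ (a * b) = a * D V j₀ b + b * D V j₀ a := by
      intro V a b
      letI : Algebra R Γ(Y, V.1) := (phi f V.1).hom.toAlgebra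
      exact coord_mul e (sig h hb V.1).hom (HV V) (i.app V.1).hom (hsurj V) (hπσ V) (D V) (hD V)
        j₀ a b
    have hS : ∀ (V : Y.affineOpens) (T : (Spec K).Opens) (hT : i ⁻¹ᵁ V.1 ≤ x ⁻¹ᵁ T)
        (c : Γ(Spec K, T)), D V j₀ (x.appLE T (i ⁻¹ᵁ V.1) hT c) = 0 := by
      intro V T hT c
      rcases hK T with rfl | rfl
      · letI : Algebra R Γ(Y, V.1) := (phi f V.1).hom.toAlgebra
        obtain ⟨a, ha⟩ := hρ ((Scheme.ΓSpecIso K).hom c)
        have h1 : x.appLE ⊤ (i ⁻¹ᵁ V.1) hT c = (i.app V.1).hom ((phi f V.1).hom a) := by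
          have h2 := app_phi i x f ρ hpb.w V.1
          have h3 : (i.app V.1).hom ((phi f V.1).hom a) = (phi x (i ⁻¹ᵁ V.1)).hom (ρ.hom a) :=
            congr($h2 a)
          rw [h3, ha]
          change _ = (x.appLE ⊤ (i ⁻¹ᵁ V.1) le_top).hom
            ((Scheme.ΓSpecIso K).inv.hom ((Scheme.ΓSpecIso K).hom.hom c))
          have h4 : (Scheme.ΓSpecIso K).inv.hom ((Scheme.ΓSpecIso K).hom.hom c) = c :=
            congr($((Scheme.ΓSpecIso K).hom_inv_id) c)
          rw [h4]
        rw [h1]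
        exact coord_algebraMap e (sig h hb V.1).hom (hσφ V) (i.app V.1).hom (D V) (hD V) j₀ a
      · have h1 : i ⁻¹ᵁ V.1 = ⊥ := le_bot_iff.mp hT
        haveI : Subsingleton Γ(X, i ⁻¹ᵁ V.1) := by
          rw [h1]; infer_instance
        exact Subsingleton.elim _ _
    obtain ⟨𝔇, h𝔇⟩ := exists_der_of_basis (fun V : Y.affineOpens => i ⁻¹ᵁ V.1)
      (exists_affine_preimage_le i) (fun V => D V j₀) hres x hadd hmul hS
    rw [← h𝔇 V₀ c₀]
    exact hder 𝔇 _ _
  intro V b
  letI : Algebra R Γ(Y, V.1) := (phi f V.1).hom.toAlgebra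
  have := sub_mem_of_coord_eq_zero e (sig h hb V.1).hom (HV V) (i.app V.1).hom (D V) (hD V)
    (hkerV V) (hD0 V) b
  rw [hspan] at this
  exact this

/-- **all sheaf derivations vanish ⇒ an endomorphism of a flat family over a local Artinian base
which is the identity on the closed fibre is the identity.** -/
theorem hom_eq_id {X Y : Scheme.{u}} {R K : CommRingCat.{u}} [IsLocalRing R] [IsNoetherianRing R]
    (i : X ⟶ Y) (x : X ⟶ Spec K) (f : Y ⟶ Spec R) (ρ : R ⟶ K)
    (hpb : IsPullback i x f (Spec.map ρ)) (hρ : Function.Surjective ρ.hom)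
    (hker : RingHom.ker ρ.hom = maximalIdeal R) (hnil : IsNilpotent (maximalIdeal R))
    [Flat f] [IsClosedImmersion i] [Surjective i]
    (hK : ∀ T : (Spec K).Opens, T = ⊤ ∨ T = ⊥)
    (h : Y ⟶ Y) (hf : h ≫ f = f) (hi : i ≫ h = i)
    (hder : ∀ (𝔇 : OmegaSh.Der x (Coh.structureModule X)) (U : X.Opens) (a : Γ(X, U)),
      OmegaSh.fnSect X U (𝔇.app U a) = 0) : h = 𝟙 Y := by
  have hb := preimage_eq_of_surjective h i hi
  have hU : ∀ V : Y.affineOpens, IsAffineOpen (i ⁻¹ᵁ V.1) := fun V => V.2.preimage i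
  have hP : ∀ n : ℕ, ∀ (V : Y.affineOpens) (b : Γ(Y, V.1)),
      (sig h hb V.1).hom b - b ∈ ((maximalIdeal R) ^ (n + 1)).map (phi f V.1).hom := by
    intro n
    induction n with
    | zero =>
      intro V b
      rw [zero_add, pow_one, ← hker, ← (app_surjective_and_ker i x f ρ hpb hρ V.2 (hU V)).2,
        RingHom.mem_ker, map_sub, sub_eq_zero]
      have := sig_app h hb i hi V.1
      exact congr($this b)
    | succ n ih =>
      have := step i x f ρ hpb hρ hker hK h hf hi hder ((maximalIdeal R) ^ (n + 1))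
        (IsNoetherian.noetherian _) ih
      intro V b
      rw [pow_succ']
      exact this V b
  obtain ⟨N, hN⟩ := hnil
  apply hom_eq_id_of_sig h hb
  intro V
  ext b
  have h1 := hP N V b
  have h2 : (maximalIdeal R) ^ (N + 1) = ⊥ := by
    rw [pow_succ, hN, zero_mul, Ideal.zero_eq_bot]
  rw [h2, Ideal.map_bot, Ideal.mem_bot, sub_eq_zero] at h1
  exact h1

end Groth.Agent.H6.InfAut
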