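import Mathlib

/-!
# Twisting a morphism of schemes by a derivation and a square-zero function (helper6)

For `g : Z ⟶ X`, a global function `ε` on `Z` with `ε² = 0` and a derivation `δ` of `O_X`, the
morphism `Z ⟶ X` with the same underlying map and comorphism `a ↦ g♯ a + ε · g♯ (δ a)`.
-/

set_option autoImplicit false
universe u
open AlgebraicGeometry CategoryTheory TopologicalSpace Opposite

namespace Groth.Agent.H6.InfAut

variable {Z X : Scheme.{u}}

/-- a derivation of `O_X` as bare data. -/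
structure DerData (X : Scheme.{u}) where
  δ : ∀ U : X.Opens, Γ(X, U) → Γ(X, U)
  add : ∀ U a b, δ U (a + b) = δ U a + δ U b
  mul : ∀ U a b, δ U (a * b) = a * δ U b + b * δ U a
  map : ∀ {U V : X.Opens} (i : V ⟶ U) (s : Γ(X, U)),
    δ V (X.presheaf.map i.op s) = X.presheaf.map i.op (δ U s)

namespace DerData

variable (d : DerData X)

theorem zero (U : X.Opens) : d.δ U 0 = 0 := by
  have := d.add U 0 0
  rw [add_zero] at this
  exact left_eq_add.mp this

theorem one (U : X.Opens) : d.δ U 1 = 0 := by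
  have := d.mul U 1 1
  rw [mul_one, one_mul] at this
  exact left_eq_add.mp this

end DerData

variable (g : Z ⟶ X) (ε : Γ(Z, ⊤)) (hε : ε * ε = 0) (d : DerData X)

/-- `ε` restricted to `g⁻¹ U`. -/
noncomputable def epsAt (U : X.Opens) : Γ(Z, g ⁻¹ᵁ U) := Z.presheaf.map (homOfLE le_top).op ε

include hε in
theorem epsAt_mul_self (U : X.Opens) : epsAt g ε U * epsAt g ε U = 0 := by
  rw [epsAt, ← map_mul, hε, map_zero]

theorem epsAt_res {U V : X.Opens} (i : V ⟶ U) :
    Z.presheaf.map ((Opens.map g.base).map i).op (epsAt g ε U) = epsAt g ε V := by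
  rw [epsAt, epsAt, ← CommRingCat.comp_apply, ← Functor.map_comp]
  rfl

/-- the twisted comorphism on sections. -/
noncomputable def twistRingHom (U : X.Opens) : Γ(X, U) →+* Γ(Z, g ⁻¹ᵁ U) where
  toFun a := g.app U a + epsAt g ε U * g.app U (d.δ U a)
  map_one' := by rw [d.one, map_zero, mul_zero, add_zero, map_one]
  map_mul' a b := by
    rw [d.mul, map_add, map_mul, map_mul, map_mul]
    have h := epsAt_mul_self g ε hε U
    linear_combination (- (g.app U (d.δ U a)) * (g.app U (d.δ U b))) * h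
  map_zero' := by rw [d.zero, map_zero, mul_zero, add_zero]
  map_add' a b := by rw [d.add, map_add, map_add]; ring

theorem twistRingHom_apply (U : X.Opens) (a : Γ(X, U)) :
    twistRingHom g ε hε d U a = g.app U a + epsAt g ε U * g.app U (d.δ U a) := rfl

/-- the twisted comorphism. -/
noncomputable def twistC : X.presheaf ⟶ g.base _* Z.presheaf where
  app U := CommRingCat.ofHom (twistRingHom g ε hε d U.unop)
  naturality U V i := by
    ext a
    change twistRingHom g ε hε d V.unop (X.presheaf.map i a) =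
      Z.presheaf.map ((Opens.map g.base).op.map i) (twistRingHom g ε hε d U.unop a)
    rw [twistRingHom_apply, twistRingHom_apply, map_add, map_mul]
    have h1 : ∀ s : Γ(X, U.unop), g.app V.unop (X.presheaf.map i s) =
        Z.presheaf.map ((Opens.map g.base).op.map i) (g.app U.unop s) := fun s =>
      congr($(g.naturality i) s)
    have h2 : d.δ V.unop (X.presheaf.map i a) = X.presheaf.map i (d.δ U.unop a) := d.map i.unop a
    rw [h2, h1, h1]
    congr 2
    exact (epsAt_res g ε i.unop).symm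


theorem isLocalHom_twist (z : Z) :
    IsLocalHom ((⟨g.base, twistC g ε hε d⟩ :
      Z.toPresheafedSpace.Hom X.toPresheafedSpace).stalkMap z).hom := by
  constructor
  intro t ht
  obtain ⟨U, hzU, a, rfl⟩ := X.presheaf.exists_germ_eq t
  have h1 := PresheafedSpace.stalkMap_germ_apply (⟨g.base, twistC g ε hε d⟩ :
      Z.toPresheafedSpace.Hom X.toPresheafedSpace) U z hzU a
  have ht' : IsUnit (Z.presheaf.germ (g ⁻¹ᵁ U) z hzU
      (g.app U a + epsAt g ε U * g.app U (d.δ U a))) := by
    have := ht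
    rw [show ∀ w, (ConcreteCategory.hom ((⟨g.base, twistC g ε hε d⟩ :
      Z.toPresheafedSpace.Hom X.toPresheafedSpace).stalkMap z)) w = ((⟨g.base, twistC g ε hε d⟩ :
      Z.toPresheafedSpace.Hom X.toPresheafedSpace).stalkMap z).hom w from fun _ => rfl] at h1
    rw [h1] at this
    exact this
  rw [map_add, map_mul] at ht'
  have hnil : IsNilpotent (Z.presheaf.germ (g ⁻¹ᵁ U) z hzU (epsAt g ε U) *
      Z.presheaf.germ _ z hzU (g.app U (d.δ U a))) :=
    ⟨2, by rw [mul_pow, sq, ← map_mul, epsAt_mul_self g ε hε, map_zero, zero_mul]⟩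
  have h2 : IsUnit (Z.presheaf.germ (g ⁻¹ᵁ U) z hzU (g.app U a)) := by
    have := hnil.neg.isUnit_add_left_of_commute ht' (Commute.all _ _)
    simpa using this
  rw [← Scheme.Hom.germ_stalkMap_apply] at h2
  exact (isUnit_map_iff (g.stalkMap z).hom _).mp h2

/-- the twisted morphism. -/
noncomputable def twist : Z ⟶ X := ⟨⟨⟨g.base, twistC g ε hε d⟩, isLocalHom_twist g ε hε d⟩⟩

theorem twist_base : (twist g ε hε d).base = g.base := rfl

theorem twist_app (U : X.Opens) (a : Γ(X, U)) :
    (twist g ε hε d).app U a = g.app U a + epsAt g ε U * g.app U (d.δ U a) := rfl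


/-- extensionality for morphisms with definitionally equal base maps. -/
theorem hom_ext_app {f f' : Z ⟶ X} (hb : f.base = f'.base)
    (h : ∀ (U : X.Opens) (a : Γ(X, U)),
      Z.presheaf.map (eqToHom congr((Opens.map $hb.symm).obj U)).op (f.app U a) = f'.app U a) :
    f = f' :=
  Scheme.Hom.ext hb (fun U => by ext a; exact h U a)

theorem map_eqToHom_refl (U : Z.Opens) (h : U = U) (s : Γ(Z, U)) :
    Z.presheaf.map (eqToHom h).op s = s := by
  rw [eqToHom_refl, op_id, Z.presheaf.map_id]
  rfl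

theorem twist_zero : twist g 0 (by rw [mul_zero]) d = g := by
  refine hom_ext_app rfl fun U a => (map_eqToHom_refl _ _ _).trans ?_
  change g.app U a + epsAt g 0 U * g.app U (d.δ U a) = g.app U a
  rw [epsAt, map_zero, zero_mul, add_zero]

theorem app_epsAt {Z' : Scheme.{u}} (j : Z' ⟶ Z) (U : X.Opens) :
    j.app (g ⁻¹ᵁ U) (epsAt g ε U) = epsAt (j ≫ g) (j.appTop ε) U := by
  rw [epsAt, epsAt]
  exact congr($(j.naturality (homOfLE (le_top : g ⁻¹ᵁ U ≤ ⊤)).op) ε)

theorem comp_twist {Z' : Scheme.{u}} (j : Z' ⟶ Z) :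
    j ≫ twist g ε hε d = twist (j ≫ g) (j.appTop ε) (by rw [← map_mul, hε, map_zero]) d := by
  refine hom_ext_app rfl fun U a => (map_eqToHom_refl _ _ _).trans ?_
  change j.app (g ⁻¹ᵁ U) (g.app U a + epsAt g ε U * g.app U (d.δ U a)) =
    (j ≫ g).app U a + epsAt (j ≫ g) (j.appTop ε) U * (j ≫ g).app U (d.δ U a)
  rw [map_add, map_mul, app_epsAt]
  rfl

theorem twist_twist (d' : DerData X) (hdd : ∀ U a, d'.δ U a = - d.δ U a) :
    twist (twist g ε hε d') ε hε d = g := by
  refine hom_ext_app rfl fun U a => (map_eqToHom_refl _ _ _).trans ?_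
  change g.app U a + epsAt g ε U * (g.app U (d'.δ U a)) + epsAt g ε U * (g.app U (d.δ U a) +
    epsAt g ε U * g.app U (d'.δ U (d.δ U a))) = g.app U a
  rw [hdd, hdd, map_neg, map_neg]
  have h := epsAt_mul_self g ε hε U
  linear_combination (- g.app U (d.δ U (d.δ U a))) * h

/-- composing with a morphism to an affine scheme killed by the derivation. -/
theorem twist_comp {S : Scheme.{u}} [IsAffine S] (x : X ⟶ S)
    (hx : ∀ c : Γ(S, ⊤), d.δ (x ⁻¹ᵁ ⊤) (x.app ⊤ c) = 0) :
    twist g ε hε d ≫ x = g ≫ x := by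
  apply ext_of_isAffine
  rw [Scheme.Hom.comp_appTop, Scheme.Hom.comp_appTop]
  ext c
  change (twist g ε hε d).app (x ⁻¹ᵁ ⊤) (x.app ⊤ c) = g.app (x ⁻¹ᵁ ⊤) (x.app ⊤ c)
  rw [twist_app, hx, map_zero, mul_zero, add_zero]

end Groth.Agent.H6.InfAut
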