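import Mathlib
import Groth.Prelude.Def_ArtFun4
import Groth.Prelude.Def_Omega3
import Groth.Agent.Lib.Helper3.OmApi
import Groth.Agent.Lib.Helper6.DefAff6
import Groth.Agent.Lib.Helper6.InfAut2
import Groth.Agent.Lib.Helper6.InfAut3
import Groth.Agent.Lib.Helper6.InfAut5

/-!
# A derivation gives an automorphism of the trivial first order deformation (helper6)
-/

set_option autoImplicit false
universe u
open AlgebraicGeometry CategoryTheory CategoryTheory.Limits TopologicalSpace Opposite
open ArtFun ArtFun.Art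

namespace Groth.Agent.H6.InfAut

/-- flat over the dual numbers: the annihilator of `ε` is `ε E`. -/
theorem exists_eq_eps_mul_of_flat (k : Type u) [Field k] {E : Type u} [CommRing E]
    (toE : (Art.dual k k : Art k k) →+* E) (hflat : toE.Flat) (w : E)
    (hw : toE (DefAff.epsD k) * w = 0) : ∃ w', w = toE (DefAff.epsD k) * w' := by
  letI : Algebra (Art.dual k k) E := toE.toAlgebra
  haveI : Module.Flat (Art.dual k k) E := hflat
  have h' : ∑ i : Unit, (fun _ => DefAff.epsD k) i • (fun _ => w) i = 0 := by
    rw [Fintype.sum_unique]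
    change DefAff.epsD k • w = 0
    rw [Algebra.smul_def]
    exact hw
  obtain ⟨n, a, y, hy, ha⟩ := Module.Flat.isTrivialRelation_of_sum_smul_eq_zero
    (R := (Art.dual k k : Art k k)) (M := E) (f := fun _ : Unit => DefAff.epsD k)
    (x := fun _ => w) h'
  have hmem : ∀ j, a () j ∈ IsLocalRing.maximalIdeal (Art.dual k k) := by
    intro j
    by_contra hne
    have hu : IsUnit (a () j) := by
      by_contra hu
      exact hne ((IsLocalRing.mem_maximalIdeal _).mpr hu)
    have h1 : DefAff.epsD k * a () j = 0 := by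
      have := ha j
      rw [Fintype.sum_unique] at this
      exact this
    exact DefAff.epsD_ne_zero k (hu.mul_left_eq_zero.mp h1)
  choose c hc using fun j => (DefAff.mem_maximalIdeal_dual_iff k (a () j)).mp (hmem j)
  refine ⟨∑ j, algebraMap k (Art.dual k k) (c j) • y j, ?_⟩
  have h2 : w = ∑ j, a () j • y j := hy ()
  rw [h2, Finset.mul_sum]
  refine Finset.sum_congr rfl fun j _ => ?_
  rw [hc j, Algebra.smul_def, Algebra.smul_def, map_mul]
  change toE _ * toE _ * y j = toE _ * (toE _ * y j)
  ring

section Der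

variable {k : Type u} [Field k] {X : Scheme.{u}} (x : X ⟶ Spec (CommRingCat.of k))

/-- the bare data of a sheaf derivation. -/
noncomputable def derData (D : OmegaSh.Der x (Coh.structureModule X)) : DerData X where
  δ U a := OmegaSh.fnSect X U (D.app U a)
  add U a b := by rw [map_add, map_add]
  mul U a b := by
    rw [Groth.Agent.H3.Om.Der.app_mul, map_add]
    rfl
  map i s := by
    rw [Groth.Agent.H3.Om.Der.app_map]
    rfl

/-- the opposite of the bare data of a sheaf derivation. -/
noncomputable def derDataNeg (D : OmegaSh.Der x (Coh.structureModule X)) : DerData X where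
  δ U a := - (derData x D).δ U a
  add U a b := by rw [(derData x D).add, neg_add]
  mul U a b := by rw [(derData x D).mul]; ring
  map i s := by rw [(derData x D).map, map_neg]

end Der


theorem twist_congr {Z X : Scheme.{u}} {g g' : Z ⟶ X} {ε ε' : Γ(Z, ⊤)} (hg : g = g') (he : ε = ε')
    (hε : ε * ε = 0) (hε' : ε' * ε' = 0) (d : DerData X) :
    twist g ε hε d = twist g' ε' hε' d := by
  subst hg he; rfl

section Triv

variable {k : Type u} [Field k] {X : Scheme.{u}} (x : X ⟶ Spec (CommRingCat.of k)) (hx : Flat x)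

/-- the trivial first order deformation. -/
noncomputable abbrev triv : DefSch X x (Art.dual k k) := DefSch.trivial X x hx (Art.dual k k)

/-- its first projection. -/
noncomputable abbrev pr₁ : (triv x hx).total ⟶ X :=
  pullback.fst x (specMap (ofBase (Art.dual k k)))

theorem triv_f : (triv x hx).f = pullback.snd x (specMap (ofBase (Art.dual k k))) := rfl

theorem triv_i_pr₁ : (triv x hx).i ≫ pr₁ x hx = 𝟙 X := pullback.lift_fst _ _ _

/-- `ε` as a global function on the total space. -/
noncomputable def epsZ : Γ((triv x hx).total, ⊤) :=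
  (triv x hx).f.appTop ((Scheme.ΓSpecIso (CommRingCat.of (Art.dual k k))).inv (DefAff.epsD k))

theorem epsZ_mul_self : epsZ x hx * epsZ x hx = 0 := by
  rw [epsZ, ← map_mul, ← map_mul, DefAff.epsD_mul_epsD, map_zero, map_zero]

theorem appTop_epsZ_of_comp {T : Scheme.{u}} (j : T ⟶ (triv x hx).total) :
    j.appTop (epsZ x hx) = (j ≫ (triv x hx).f).appTop
      ((Scheme.ΓSpecIso (CommRingCat.of (Art.dual k k))).inv (DefAff.epsD k)) := by
  rw [Scheme.Hom.comp_appTop]
  rfl

theorem i_appTop_epsZ : (triv x hx).i.appTop (epsZ x hx) = 0 := by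
  rw [appTop_epsZ_of_comp, (triv x hx).i_f, Scheme.Hom.comp_appTop]
  have h1 := Scheme.ΓSpecIso_inv_naturality (CommRingCat.ofHom (Art.dual k k).res.toRingHom)
  have h2 : (specRes (Art.dual k k)).appTop
      ((Scheme.ΓSpecIso (CommRingCat.of (Art.dual k k))).inv (DefAff.epsD k)) =
      (Scheme.ΓSpecIso (CommRingCat.of k)).inv ((Art.dual k k).res (DefAff.epsD k)) :=
    congr($h1.symm (DefAff.epsD k))
  change x.appTop ((specRes (Art.dual k k)).appTop _) = 0
  rw [h2, DefAff.res_epsD, map_zero, map_zero]

variable (d : DerData X) (hd0 : ∀ c : Γ(Spec (CommRingCat.of k), ⊤), d.δ (x ⁻¹ᵁ ⊤) (x.app ⊤ c) = 0)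

/-- the twisted projection. -/
noncomputable def phiD : (triv x hx).total ⟶ X :=
  twist (pr₁ x hx) (epsZ x hx) (epsZ_mul_self x hx) d

include hd0 in
theorem phiD_comp : phiD x hx d ≫ x = (triv x hx).f ≫ specMap (ofBase (Art.dual k k)) := by
  rw [phiD, twist_comp _ _ _ _ x hd0]
  exact pullback.condition

/-- the endomorphism of the trivial deformation attached to a derivation. -/
noncomputable def autHom : (triv x hx).total ⟶ (triv x hx).total :=
  pullback.lift (phiD x hx d) (triv x hx).f (phiD_comp x hx d hd0)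

theorem autHom_fst : autHom x hx d hd0 ≫ pr₁ x hx = phiD x hx d := pullback.lift_fst _ _ _

theorem autHom_f : autHom x hx d hd0 ≫ (triv x hx).f = (triv x hx).f := pullback.lift_snd _ _ _

theorem i_autHom : (triv x hx).i ≫ autHom x hx d hd0 = (triv x hx).i := by
  apply pullback.hom_ext
  · refine (Category.assoc _ _ _).trans ?_
    change (triv x hx).i ≫ autHom x hx d hd0 ≫ pr₁ x hx = (triv x hx).i ≫ pr₁ x hx
    rw [autHom_fst, phiD, comp_twist, triv_i_pr₁]
    rw [twist_congr rfl (i_appTop_epsZ x hx) _ (by rw [mul_zero]) d, twist_zero]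
  · refine (Category.assoc _ _ _).trans ?_
    change (triv x hx).i ≫ autHom x hx d hd0 ≫ (triv x hx).f = (triv x hx).i ≫ (triv x hx).f
    rw [autHom_f]

theorem autHom_comp (d' : DerData X)
    (hd0' : ∀ c : Γ(Spec (CommRingCat.of k), ⊤), d'.δ (x ⁻¹ᵁ ⊤) (x.app ⊤ c) = 0)
    (hdd : ∀ U a, d'.δ U a = - d.δ U a) :
    autHom x hx d' hd0' ≫ autHom x hx d hd0 = 𝟙 _ := by
  apply pullback.hom_ext
  · refine ((Category.assoc _ _ _).trans ?_).trans (Category.id_comp _).symm
    change autHom x hx d' hd0' ≫ autHom x hx d hd0 ≫ pr₁ x hx = pr₁ x hx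
    rw [autHom_fst, phiD, comp_twist]
    have h1 : (autHom x hx d' hd0').appTop (epsZ x hx) = epsZ x hx := by
      rw [appTop_epsZ_of_comp, autHom_f]
      rfl
    rw [twist_congr (autHom_fst x hx d' hd0') h1 _ (epsZ_mul_self x hx) d, phiD]
    exact twist_twist _ _ _ d d' hdd
  · refine ((Category.assoc _ _ _).trans ?_).trans (Category.id_comp _).symm
    change autHom x hx d' hd0' ≫ autHom x hx d hd0 ≫ (triv x hx).f = (triv x hx).f
    rw [autHom_f, autHom_f]

end Triv

end Groth.Agent.H6.InfAut
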