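import Mathlib
import Groth.Agent.Lib.Helper6.InfAut4
import Groth.Agent.Lib.Helper6.InfAut6
import Groth.Agent.Lib.Helper3.OmU3

/-!
# Infinitesimal automorphisms and automorphisms of deformations (helper6)
-/

set_option autoImplicit false
universe u
open AlgebraicGeometry CategoryTheory CategoryTheory.Limits TopologicalSpace Opposite
open ArtFun ArtFun.Art

namespace Groth.Agent.H6.InfAut

section Rigid

variable {k : Type u} [Field k] {X : Scheme.{u}} (x : X ⟶ Spec (CommRingCat.of k)) (hx : Flat x)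

theorem derData_app_zero (D : OmegaSh.Der x (Coh.structureModule X))
    (c : Γ(Spec (CommRingCat.of k), ⊤)) : (derData x D).δ (x ⁻¹ᵁ ⊤) (x.app ⊤ c) = 0 := by
  change OmegaSh.fnSect X _ (D.app (x ⁻¹ᵁ ⊤) (x.app ⊤ c)) = 0
  rw [Groth.Agent.H3.Om.Der.app_comp, map_zero]

theorem derDataNeg_app_zero (D : OmegaSh.Der x (Coh.structureModule X))
    (c : Γ(Spec (CommRingCat.of k), ⊤)) : (derDataNeg x D).δ (x ⁻¹ᵁ ⊤) (x.app ⊤ c) = 0 := by
  change - (derData x D).δ (x ⁻¹ᵁ ⊤) (x.app ⊤ c) = 0
  rw [derData_app_zero, neg_zero]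

/-- the automorphism of the trivial first order deformation attached to a derivation. -/
noncomputable def autIso (D : OmegaSh.Der x (Coh.structureModule X)) :
    (triv x hx).Iso (triv x hx) where
  iso :=
    { hom := autHom x hx (derData x D) (derData_app_zero x D)
      inv := autHom x hx (derDataNeg x D) (derDataNeg_app_zero x D)
      hom_inv_id := autHom_comp x hx (derDataNeg x D) (derDataNeg_app_zero x D) (derData x D)
        (derData_app_zero x D) (fun U a => (neg_neg _).symm)
      inv_hom_id := autHom_comp x hx (derData x D) (derData_app_zero x D) (derDataNeg x D)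
        (derDataNeg_app_zero x D) (fun U a => rfl) }
  hom_f := autHom_f x hx (derData x D) (derData_app_zero x D)
  i_hom := i_autHom x hx (derData x D) (derData_app_zero x D)

/-- on an affine open, rigidity of the trivial deformation kills the derivation. -/
theorem der_eq_zero_affine (D : OmegaSh.Der x (Coh.structureModule X))
    (hrig : (autIso x hx D).iso.hom = 𝟙 _) {U : X.Opens} (hU : IsAffineOpen U) (a : Γ(X, U)) :
    (derData x D).δ U a = 0 := by
  have h2 : autHom x hx (derData x D) (derData_app_zero x D) = 𝟙 _ := hrig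
  have h1 : phiD x hx (derData x D) = pr₁ x hx := by
    rw [← autHom_fst x hx (derData x D) (derData_app_zero x D), h2]
    exact Category.id_comp _
  generalize derData x D = d at h1 ⊢
  -- the section-level identity
  have h3 : epsAt (pr₁ x hx) (epsZ x hx) U * (pr₁ x hx).app U (d.δ U a) = 0 := by
    have h4 := Scheme.Hom.congr_app h1 U
    have h5 : (phiD x hx d).app U a = (pr₁ x hx).app U a :=
      (congr($h4 a)).trans (map_eqToHom_refl _ _ _)
    have h6 : (phiD x hx d).app U a =
        (pr₁ x hx).app U a + epsAt (pr₁ x hx) (epsZ x hx) U * (pr₁ x hx).app U (d.δ U a) := rfl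
    rw [h6] at h5
    exact add_eq_left.mp h5
  -- flatness
  haveI : IsAffineHom (pr₁ x hx) :=
    MorphismProperty.pullback_fst (P := @IsAffineHom) _ _ inferInstance
  have hV : IsAffineOpen ((pr₁ x hx) ⁻¹ᵁ U) := hU.preimage (pr₁ x hx)
  have hflat := flat_phi (triv x hx).f hV
  have h7 : epsAt (pr₁ x hx) (epsZ x hx) U =
      (phi (triv x hx).f ((pr₁ x hx) ⁻¹ᵁ U)).hom (DefAff.epsD k) := rfl
  rw [h7] at h3
  obtain ⟨w, hw⟩ := exists_eq_eps_mul_of_flat k _ hflat _ h3
  -- apply `i`
  have h8 := congrArg ((triv x hx).i.app ((pr₁ x hx) ⁻¹ᵁ U)).hom hw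
  rw [map_mul] at h8
  have h9 : ((triv x hx).i.app ((pr₁ x hx) ⁻¹ᵁ U)).hom
      ((phi (triv x hx).f ((pr₁ x hx) ⁻¹ᵁ U)).hom (DefAff.epsD k)) = 0 := by
    have h10 := app_phi (triv x hx).i x (triv x hx).f
      (CommRingCat.ofHom (Art.dual k k).res.toRingHom) (triv x hx).i_f ((pr₁ x hx) ⁻¹ᵁ U)
    have h11 := congr($h10 (DefAff.epsD k))
    refine h11.trans ?_
    change (phi x _).hom ((Art.dual k k).res (DefAff.epsD k)) = 0
    rw [DefAff.res_epsD, map_zero]
  rw [h9, zero_mul] at h8
  -- `i^# pr₁^# = id`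
  have h12 := Scheme.Hom.congr_app (triv_i_pr₁ x hx) U
  have h13 : ((triv x hx).i.app ((pr₁ x hx) ⁻¹ᵁ U)).hom (((pr₁ x hx).app U).hom (d.δ U a)) =
      ((triv x hx).i ≫ pr₁ x hx).app U (d.δ U a) := rfl
  rw [h13, h12] at h8
  have h14 : Function.Injective
      (X.presheaf.map (eqToHom (show ((triv x hx).i ≫ pr₁ x hx) ⁻¹ᵁ U = (𝟙 X) ⁻¹ᵁ U by
        rw [triv_i_pr₁])).op).hom :=
    (ConcreteCategory.bijective_of_isIso _).1
  apply h14
  exact h8.trans (map_zero _).symm

/-- rigidity of the trivial first order deformation kills every derivation. -/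
theorem der_eq_zero (D : OmegaSh.Der x (Coh.structureModule X))
    (hrig : (autIso x hx D).iso.hom = 𝟙 _) (U : X.Opens) (a : Γ(X, U)) :
    OmegaSh.fnSect X U (D.app U a) = 0 := by
  change (derData x D).δ U a = 0
  refine sec_ext (fun V : X.affineOpens => V.1) ?_ U _ _ ?_
  · intro U p hp
    obtain ⟨V, hV, hpV, hVU⟩ := exists_isAffineOpen_mem_and_subset (x := p) (U := U) hp
    exact ⟨⟨V, hV⟩, hpV, hVU⟩
  · intro V hVU
    rw [map_zero, ← (derData x D).map]
    exact der_eq_zero_affine x hx D hrig V.2 _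

end Rigid


section Main

variable {k : Type u} [Field k] (X : Scheme.{u}) (x : X ⟶ Spec (CommRingCat.of k))

theorem flat_to_field : Flat x := by
  haveI : Subsingleton ↥(Spec (CommRingCat.of k)) :=
    inferInstanceAs (Subsingleton (PrimeSpectrum k))
  infer_instance

theorem opens_field (T : (Spec (CommRingCat.of k)).Opens) : T = ⊤ ∨ T = ⊥ := by
  haveI : Subsingleton ↥(Spec (CommRingCat.of k)) :=
    inferInstanceAs (Subsingleton (PrimeSpectrum k))
  by_cases h : ∃ p, p ∈ T
  · left
    obtain ⟨p, hp⟩ := h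
    ext q
    simp only [Opens.coe_top, Set.mem_univ, iff_true]
    rw [Subsingleton.elim q p]
    exact hp
  · right
    ext q
    simp only [Opens.coe_bot, Set.mem_empty_iff_false, iff_false]
    exact fun hq => h ⟨q, hq⟩

/-- the zero derivation. -/
noncomputable def zeroDer : OmegaSh.Der x (Coh.structureModule X) :=
  Groth.Agent.H3.Om.Der.mk' x _ (fun _ => 0)
    (fun U a b => by simp)
    (fun {U V} i s => by simp)
    (fun V a => rfl)

/-- **`Hom(Ω_{X/k}, O_X) = 0` iff deformations of `X` have no non-trivial automorphisms.** -/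
theorem main12254 [QuasiSeparated x] :
    Subsingleton (Omega.sheaf x ⟶ Coh.structureModule X) ↔
      ∀ (A : ArtFun.Art k k) (ξ : ArtFun.DefSch X x A) (e : ξ.Iso ξ), e.iso.hom = 𝟙 ξ.total := by
  have huniv := Groth.Agent.H3.Om.isUniversal_dOmega x
  constructor
  · intro hsub A ξ e
    have hder : ∀ (𝔇 : OmegaSh.Der x (Coh.structureModule X)) (U : X.Opens) (a : Γ(X, U)),
        OmegaSh.fnSect X U (𝔇.app U a) = 0 := by
      intro 𝔇 U a
      obtain ⟨α, hα, -⟩ := huniv _ 𝔇
      obtain ⟨α₀, hα₀, -⟩ := huniv _ (zeroDer X x)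
      have h1 : 𝔇 = zeroDer X x := by rw [← hα, ← hα₀, Subsingleton.elim α α₀]
      rw [h1]
      rfl
    exact hom_eq_id (R := CommRingCat.of A) (K := CommRingCat.of k) ξ.i x ξ.f
      (CommRingCat.ofHom A.res.toRingHom) ξ.isPullback A.res_surjective (DefAff.RDef.ker_res A)
      (DefAff.isNilpotent_maximalIdeal A) (opens_field) e.iso.hom e.hom_f e.i_hom hder
  · intro hrig
    have hx : Flat x := flat_to_field X x
    have h0 : ∀ (D : OmegaSh.Der x (Coh.structureModule X)) (U : X.Opens) (a : Γ(X, U)),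
        D.app U a = 0 := fun D U a => der_eq_zero x hx D (hrig _ _ (autIso x hx D)) U a
    constructor
    intro α β
    obtain ⟨γ, -, hγ⟩ := huniv _ ((OmegaSh.dOmega x).postcomp α.val)
    have h1 : (OmegaSh.dOmega x).postcomp β.val = (OmegaSh.dOmega x).postcomp α.val :=
      Groth.Agent.H3.Om.Der.ext' fun U s => by rw [h0, h0]
    rw [hγ α rfl, hγ β h1]

end Main

end Groth.Agent.H6.InfAut
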