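import Mathlib
import Groth.Prelude.Def_BlowUp2
import Groth.Prelude.Def_Found
import Groth.Agent.Lib.Helper1.StalkGen
import Groth.Agent.Lib.Helper6.Catenary

/-! helper6: an effective Cartier divisor `Y` and an integral closed subscheme `Z` on which `Y`
restricts to an effective Cartier divisor intersect properly on an irreducible locally Noetherian
scheme with catenary local rings. -/

set_option autoImplicit false
set_option linter.style.haveILetI false
universe u
open CategoryTheory CategoryTheory.Limits AlgebraicGeometry Opposite TopologicalSpace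

namespace Groth.Agent.H6.IntProp

open Groth.Agent.H1.StalkGen

variable {X : Scheme.{u}}

/-- membership in the support of a locally principal ideal sheaf, in terms of the germ of a local
generator. -/
theorem mem_support_iff_germ (𝓘 : X.IdealSheafData) (U : X.affineOpens) (t : Γ(X, U.1))
    (hI : 𝓘.ideal U = Ideal.span {t}) (x : X) (hx : x ∈ U.1) :
    x ∈ 𝓘.support ↔
      X.presheaf.germ U.1 x hx t ∈ IsLocalRing.maximalIdeal (X.presheaf.stalk x) := by
  rw [Scheme.IdealSheafData.mem_support_iff_of_mem hx, Scheme.mem_zeroLocus_iff, hI]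
  constructor
  · intro h
    have h1 := h t (Ideal.subset_span rfl)
    rw [X.mem_basicOpen t x hx] at h1
    exact (IsLocalRing.mem_maximalIdeal _).mpr h1
  · intro h f hf
    rw [X.mem_basicOpen f x hx]
    obtain ⟨a, rfl⟩ := Ideal.mem_span_singleton'.mp hf
    rw [map_mul]
    intro hu
    exact (IsLocalRing.mem_maximalIdeal _).mp h (isUnit_of_mul_isUnit_right hu)

/-- the local ring at a point of an effective Cartier divisor has dimension at least one. -/
theorem one_le_dim_of_mem_support (𝓘 : X.IdealSheafData) (hY : BlowUp.IsEffCartierIdeal 𝓘)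
    (y : X) (hy : y ∈ 𝓘.support) : 1 ≤ ringKrullDim (X.presheaf.stalk y) := by
  obtain ⟨U, hyU, t, ht, hI⟩ := hY y
  have hm := (mem_support_iff_germ 𝓘 U t hI y hyU).mp hy
  letI := X.presheaf.algebra_section_stalk ⟨y, hyU⟩
  haveI := U.2.isLocalization_stalk ⟨y, hyU⟩
  have hnzd : algebraMap Γ(X, U.1) (X.presheaf.stalk y) t ∈
      nonZeroDivisors (X.presheaf.stalk y) :=
    IsLocalization.map_nonZeroDivisors_le (U.2.primeIdealOf ⟨y, hyU⟩).asIdeal.primeCompl _
      (Submonoid.mem_map_of_mem _ ht)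
  have hm' : algebraMap Γ(X, U.1) (X.presheaf.stalk y) t ∈
      IsLocalRing.maximalIdeal (X.presheaf.stalk y) := hm
  rw [← IsLocalRing.maximalIdeal_height_eq_ringKrullDim]
  have hne : (IsLocalRing.maximalIdeal (X.presheaf.stalk y)).height ≠ 0 := by
    rw [Ne, Ideal.height_eq_zero_iff]
    intro hmin
    exact Set.disjoint_left.mp (Ideal.disjoint_nonZeroDivisors_of_mem_minimalPrimes hmin) hm' hnzd
  exact_mod_cast Order.one_le_iff_ne_zero.mpr hne

/-- a generization of `x`, given by a prime `P` of the local ring, lies on the divisor iff the germ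
of the local equation lies in `P`. -/
theorem fromSpecStalk_mem_support_iff (𝓘 : X.IdealSheafData) (U : X.affineOpens) (t : Γ(X, U.1))
    (hI : 𝓘.ideal U = Ideal.span {t}) (x : X) (hx : x ∈ U.1)
    (P : PrimeSpectrum (X.presheaf.stalk x)) :
    X.fromSpecStalk x P ∈ 𝓘.support ↔ X.presheaf.germ U.1 x hx t ∈ P.asIdeal := by
  have h := fromSpecStalk_specializes x P
  have hyU : X.fromSpecStalk x P ∈ U.1 := h.mem_open U.1.isOpen hx
  rw [mem_support_iff_germ 𝓘 U t hI _ hyU]
  have hP : primeOf h = P := primeOf_fromSpecStalk x P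
  have hg : X.presheaf.germ U.1 (X.fromSpecStalk x P) hyU t =
      (X.presheaf.stalkSpecializes h).hom (X.presheaf.germ U.1 x hx t) :=
    (congrArg (fun φ => φ.hom t) (X.presheaf.germ_stalkSpecializes hx h)).symm
  rw [hg]
  have hP' : P.asIdeal = Ideal.comap (X.presheaf.stalkSpecializes h).hom
      (IsLocalRing.maximalIdeal (X.presheaf.stalk (X.fromSpecStalk x P))) :=
    congrArg PrimeSpectrum.asIdeal hP.symm
  rw [hP', Ideal.mem_comap]

/-- the local ring at a point of an effective Cartier divisor which is maximal under generization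
inside the divisor has dimension one. -/
theorem dim_eq_one_of_maximal [IsLocallyNoetherian X] (𝓘 : X.IdealSheafData)
    (hY : BlowUp.IsEffCartierIdeal 𝓘) (z : X) (hz : z ∈ 𝓘.support)
    (hmax : ∀ z' : X, z' ∈ 𝓘.support → z' ⤳ z → z' = z) :
    ringKrullDim (X.presheaf.stalk z) = 1 := by
  refine le_antisymm ?_ (one_le_dim_of_mem_support 𝓘 hY z hz)
  obtain ⟨U, hzU, t, ht, hI⟩ := hY z
  have hm := (mem_support_iff_germ 𝓘 U t hI z hzU).mp hz
  have hmin : IsLocalRing.maximalIdeal (X.presheaf.stalk z) ∈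
      (Ideal.span {X.presheaf.germ U.1 z hzU t}).minimalPrimes := by
    refine ⟨⟨inferInstance, (Ideal.span_singleton_le_iff_mem _).mpr hm⟩, ?_⟩
    rintro P ⟨hPprime, hPt⟩ hPle
    have hmem : X.presheaf.germ U.1 z hzU t ∈ P := (Ideal.span_singleton_le_iff_mem _).mp hPt
    have h1 := (fromSpecStalk_mem_support_iff 𝓘 U t hI z hzU ⟨P, hPprime⟩).mpr hmem
    have h2 := hmax _ h1 (fromSpecStalk_specializes z ⟨P, hPprime⟩)
    have h3 : (⟨P, hPprime⟩ : PrimeSpectrum (X.presheaf.stalk z)) =
        IsLocalRing.closedPoint (X.presheaf.stalk z) := by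
      apply fromSpecStalk_injective z
      rw [h2, Scheme.fromSpecStalk_closedPoint]
    have h4 : P = IsLocalRing.maximalIdeal (X.presheaf.stalk z) :=
      congrArg PrimeSpectrum.asIdeal h3
    rw [h4]
  haveI : (Ideal.span {X.presheaf.germ U.1 z hzU t}).IsPrincipal := ⟨⟨_, rfl⟩⟩
  rw [← IsLocalRing.maximalIdeal_height_eq_ringKrullDim]
  have := Ideal.height_le_one_of_isPrincipal_of_mem_minimalPrimes _ _ hmin
  exact_mod_cast this

/-- every point of an effective Cartier divisor has a generization on the divisor whose local ring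
has dimension at most one. -/
theorem exists_mem_support_dim_le_one [IsLocallyNoetherian X] (𝓘 : X.IdealSheafData)
    (hY : BlowUp.IsEffCartierIdeal 𝓘) (ζ : X) (hζ : ζ ∈ 𝓘.support) :
    ∃ y : X, y ∈ 𝓘.support ∧ ringKrullDim (X.presheaf.stalk y) ≤ 1 := by
  obtain ⟨U, hzU, t, ht, hI⟩ := hY ζ
  have hm := (mem_support_iff_germ 𝓘 U t hI ζ hzU).mp hζ
  obtain ⟨P, hP, hPle⟩ := Ideal.exists_minimalPrimes_le
    (I := Ideal.span {X.presheaf.germ U.1 ζ hzU t})
    (J := IsLocalRing.maximalIdeal (X.presheaf.stalk ζ))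
    ((Ideal.span_singleton_le_iff_mem _).mpr hm)
  haveI hPp : P.IsPrime := hP.1.1
  haveI : (Ideal.span {X.presheaf.germ U.1 ζ hzU t}).IsPrincipal := ⟨⟨_, rfl⟩⟩
  refine ⟨X.fromSpecStalk ζ ⟨P, hPp⟩, ?_, ?_⟩
  · exact (fromSpecStalk_mem_support_iff 𝓘 U t hI ζ hzU ⟨P, hPp⟩).mpr
      ((Ideal.span_singleton_le_iff_mem _).mp hP.1.2)
  · rw [ringKrullDim_stalk_eq_height (fromSpecStalk_specializes ζ ⟨P, hPp⟩),
      primeOf_fromSpecStalk]
    have := Ideal.height_le_one_of_isPrincipal_of_mem_minimalPrimes _ _ hP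
    exact_mod_cast this

theorem dim_quotient_nilradical (A : Type u) [CommRing A] :
    ringKrullDim (A ⧸ nilradical A) = ringKrullDim A := by
  rw [ringKrullDim_quotient, ringKrullDim]
  have h : PrimeSpectrum.zeroLocus (nilradical A : Set A) = Set.univ :=
    PrimeSpectrum.zeroLocus_nilradical
  exact Order.krullDim_eq_of_orderIso ((OrderIso.setCongr _ _ h).trans OrderIso.Set.univ)

/-- the local rings of an irreducible scheme have a unique minimal prime, hence are
equidimensional. -/
theorem equidim_stalk [IrreducibleSpace ↥X] (x : X) :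
    ∀ p ∈ minimalPrimes (X.presheaf.stalk x),
      ringKrullDim (X.presheaf.stalk x ⧸ p) = ringKrullDim (X.presheaf.stalk x) := by
  have hηX : genericPoint X ⤳ x := genericPoint_specializes _
  have huniq : ∀ p ∈ minimalPrimes (X.presheaf.stalk x), p = (primeOf hηX).asIdeal := by
    intro p hp
    haveI hpp : p.IsPrime := hp.1.1
    have h1 : genericPoint X ⤳ X.fromSpecStalk x ⟨p, hpp⟩ := genericPoint_specializes _
    have h1' : X.fromSpecStalk x (primeOf hηX) ⤳ X.fromSpecStalk x ⟨p, hpp⟩ := by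
      rw [fromSpecStalk_primeOf]; exact h1
    have h2 : primeOf hηX ⤳ (⟨p, hpp⟩ : PrimeSpectrum (X.presheaf.stalk x)) :=
      (Scheme.Hom.isEmbedding (X.fromSpecStalk x)).isInducing.specializes_iff.mp h1'
    have h3 : (primeOf hηX).asIdeal ≤ p := (PrimeSpectrum.le_iff_specializes _ _).mpr h2
    exact le_antisymm (hp.2 ⟨(primeOf hηX).2, bot_le⟩ h3) h3
  intro p hp
  have hs : (⊥ : Ideal (X.presheaf.stalk x)).minimalPrimes = {p} :=
    Set.eq_singleton_iff_unique_mem.mpr
      ⟨hp, fun q hq => (huniq q hq).trans (huniq p hp).symm⟩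
  have hnil : nilradical (X.presheaf.stalk x) = p := by
    have h := Ideal.sInf_minimalPrimes (I := (⊥ : Ideal (X.presheaf.stalk x)))
    rw [hs, sInf_singleton] at h
    rw [h]
    rfl
  rw [← hnil]
  exact dim_quotient_nilradical _

theorem main {X Z : Scheme.{u}} [IsLocallyNoetherian X] [IrreducibleSpace ↥X]
    (hcat : ∀ x : ↥X, CAlg.IsCatenary ↑(X.presheaf.stalk x))
    (𝓘 : X.IdealSheafData) (hY : BlowUp.IsEffCartierIdeal 𝓘)
    (i : Z ⟶ X) [IsClosedImmersion i] [IsIntegral Z] (hc : BlowUp.IsEffCartierIdeal (𝓘.comap i))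
    (ζ : X) (hζ : ζ ∈ (𝓘.support : Set ↥X) ∩ Set.range i.base)
    (hmax : ∀ ζ' : ↥X, ζ' ∈ (𝓘.support : Set ↥X) ∩ Set.range i.base → ζ' ⤳ ζ → ζ' = ζ) :
    ringKrullDim ↑(X.presheaf.stalk ζ) =
      (⨅ y : (𝓘.support : Set ↥X), ringKrullDim ↑(X.presheaf.stalk y.1)) +
        ringKrullDim ↑(X.presheaf.stalk (i (genericPoint ↥Z))) := by
  obtain ⟨hζY, z0, rfl⟩ := hζ
  have hinf : (⨅ y : (𝓘.support : Set ↥X), ringKrullDim ↑(X.presheaf.stalk y.1)) = 1 := by
    apply le_antisymm
    · obtain ⟨y, hy, hle⟩ := exists_mem_support_dim_le_one 𝓘 hY _ hζY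
      exact (iInf_le _ (⟨y, hy⟩ : (𝓘.support : Set ↥X))).trans hle
    · exact le_iInf fun y => one_le_dim_of_mem_support 𝓘 hY y.1 y.2
  rw [hinf]
  haveI : IsLocallyNoetherian Z := LocallyOfFiniteType.isLocallyNoetherian i
  -- the local ring of `Z` has dimension one
  have hB : ringKrullDim (Z.presheaf.stalk z0) = 1 := by
    apply dim_eq_one_of_maximal (𝓘.comap i) hc z0
    · rw [Scheme.IdealSheafData.support_comap]
      exact hζY
    · intro z' hz' hs
      rw [Scheme.IdealSheafData.support_comap] at hz'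
      have hz'' : i z' ∈ 𝓘.support := hz'
      have h := hmax (i z') ⟨hz'', z', rfl⟩ (hs.map i.continuous)
      exact i.isEmbedding.injective h
  have hφ : Function.Surjective (i.stalkMap z0).hom := i.stalkMap_surjective z0
  haveI hK : (RingHom.ker (i.stalkMap z0).hom).IsPrime := RingHom.ker_isPrime _
  have hRK : ringKrullDim (X.presheaf.stalk (i z0) ⧸ RingHom.ker (i.stalkMap z0).hom) = 1 := by
    rw [ringKrullDim_eq_of_ringEquiv (RingHom.quotientKerEquivOfSurjective hφ)]
    exact hB
  -- the generic point of `Z` is the bottom prime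
  have hbot : Z.fromSpecStalk z0 ⟨⊥, Ideal.isPrime_bot⟩ = genericPoint Z := by
    have h1 : genericPoint Z ⤳ Z.fromSpecStalk z0 ⟨⊥, Ideal.isPrime_bot⟩ :=
      genericPoint_specializes _
    have hξ : genericPoint Z ⤳ z0 := genericPoint_specializes z0
    have h2 : Z.fromSpecStalk z0 ⟨⊥, Ideal.isPrime_bot⟩ ⤳ genericPoint Z := by
      have := fromSpecStalk_mono z0 (q := ⟨⊥, Ideal.isPrime_bot⟩) (q' := primeOf hξ) bot_le
      rwa [fromSpecStalk_primeOf] at this
    exact (h2.antisymm h1).eq
  have hgen : i (genericPoint Z) ⤳ i z0 := (genericPoint_specializes z0).map i.continuous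
  have hKeq : primeOf hgen = ⟨RingHom.ker (i.stalkMap z0).hom, hK⟩ := by
    apply fromSpecStalk_injective (i z0)
    rw [fromSpecStalk_primeOf, ← hbot, map_fromSpecStalk i z0]
    rfl
  have key := Groth.Agent.H6.Cat.height_add_coheight (hcat (i z0)) (equidim_stalk (i z0))
    ⟨RingHom.ker (i.stalkMap z0).hom, hK⟩
  have hco := Groth.Agent.H6.Cat.ringKrullDim_quotient_eq_coheight
    (⟨RingHom.ker (i.stalkMap z0).hom, hK⟩ : PrimeSpectrum (X.presheaf.stalk (i z0)))
  rw [hRK] at hco
  have hco1 : Order.coheight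
      (⟨RingHom.ker (i.stalkMap z0).hom, hK⟩ : PrimeSpectrum (X.presheaf.stalk (i z0))) = 1 := by
    exact_mod_cast hco.symm
  have hht := ringKrullDim_stalk_eq_height hgen
  rw [hKeq] at hht
  rw [← key, hco1, hht]
  push_cast
  rw [add_comm]

end Groth.Agent.H6.IntProp
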