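import Mathlib

set_option autoImplicit false
universe u v

open scoped Pointwise

namespace Groth.Agent.H6.InvGoingDown

theorem main
    (A : Type u) (R : Type v) [CommRing A] [CommRing R] [Algebra A R]
    (G : Type u) [Group G] [Finite G] [MulSemiringAction G R] [SMulCommClass G A R]
    [Algebra.IsInvariant A R G] [FaithfulSMul A R] :
    Algebra.HasGoingDown A R := by
  have hint : Algebra.IsIntegral A R := Algebra.IsInvariant.isIntegral A R G
  constructor
  intro p hp Q hQ hlt
  obtain ⟨P₀, -, hP₀, hP₀p⟩ := Ideal.exists_ideal_over_prime_of_isIntegral p (⊥ : Ideal R)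
    (by
      rw [← RingHom.ker_eq_comap_bot,
        (RingHom.injective_iff_ker_eq_bot _).1 (FaithfulSMul.algebraMap_injective A R)]
      exact bot_le)
  have hle : P₀.comap (algebraMap A R) ≤ Q.under A := by
    rw [hP₀p]; exact hlt.le
  have hQu : (Q.under A).IsPrime := inferInstance
  obtain ⟨Q₀, hQ₀P₀, hQ₀, hQ₀Q⟩ :=
    Ideal.exists_ideal_over_prime_of_isIntegral_of_isPrime (Q.under A) P₀ hle
  obtain ⟨g, hg⟩ := Algebra.IsInvariant.exists_smul_of_under_eq A R G Q₀ Q hQ₀Q
  refine ⟨g • P₀, ?_, hP₀.smul g, ?_⟩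
  · rw [hg]
    exact Ideal.pointwise_smul_le_pointwise_smul_iff.2 hQ₀P₀
  · have : P₀.LiesOver p := ⟨hP₀p.symm⟩
    exact this.smul g

end Groth.Agent.H6.InvGoingDown
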