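import Mathlib
import Groth.Agent.Lib.Helper6.GenFin
import Groth.Agent.Lib.Helper9.EtaleUnip
import Groth.Agent.Lib.Helper9.Misc.GSC1
import Groth.Agent.Lib.Helper1.SmoothGeom

/-! Helper6: a separable isogeny of elliptic curves is Galois, with group the kernel (S11094). -/

set_option autoImplicit false
set_option linter.style.haveILetI false
set_option linter.unusedSectionVars false
universe u
open CategoryTheory CategoryTheory.Limits MonoidalCategory CartesianMonoidalCategory MonObj GrpObj
  AlgebraicGeometry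

namespace Groth.Agent.H6.IsogGal

open Groth.Agent.H9 Groth.Agent.H5.Gro

/-! ### stalk maps between prescribed points -/

/-- the stalk map of `f` at `x`, as a map out of the stalk at a point `y` equal to `f x`. -/
noncomputable def stalkAt {X Y : Scheme.{u}} (f : X ⟶ Y) (x : X) (y : Y) (h : f x = y) :
    Y.presheaf.stalk y ⟶ X.presheaf.stalk x :=
  Y.presheaf.stalkSpecializes (specializes_of_eq h) ≫ f.stalkMap x

theorem stalkAt_self {X Y : Scheme.{u}} (f : X ⟶ Y) (x : X) (h : f x = f x) :
    stalkAt f x (f x) h = f.stalkMap x := by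
  show Y.presheaf.stalkSpecializes (specializes_refl (f x)) ≫ f.stalkMap x = f.stalkMap x
  rw [TopCat.Presheaf.stalkSpecializes_refl, Category.id_comp]

theorem stalkAt_congr {X Y : Scheme.{u}} {f g : X ⟶ Y} (hfg : f = g) (x : X) (y : Y)
    (h : f x = y) (h' : g x = y) : stalkAt f x y h = stalkAt g x y h' := by
  subst hfg; rfl

theorem stalkAt_comp {X Y Z : Scheme.{u}} (f : X ⟶ Y) (g : Y ⟶ Z) (x : X) (y : Y) (z : Z)
    (hy : f x = y) (hz : g y = z) (hyz : (f ≫ g) x = z) :
    stalkAt (f ≫ g) x z hyz = stalkAt g y z hz ≫ stalkAt f x y hy := by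
  subst hy
  subst hz
  rw [stalkAt_self g (f x), stalkAt_self f x]
  exact (stalkAt_self (f ≫ g) x rfl).trans (Scheme.Hom.stalkMap_comp f g x)

theorem stalkAt_comp_of_fix {X Y : Scheme.{u}} (t : X ⟶ X) (f : X ⟶ Y) (htf : t ≫ f = f) (x : X)
    (y : Y) (ht : t x = x) (hy : f x = y) :
    stalkAt f x y hy ≫ stalkAt t x x ht = stalkAt f x y hy := by
  have hyz : (t ≫ f) x = y := (congrArg (fun g : X ⟶ Y => g x) htf).trans hy
  rw [← stalkAt_comp t f x x y ht hy hyz]
  exact stalkAt_congr htf x y hyz hy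

theorem SpecMap_stalkAt_fromSpecStalk {X Y : Scheme.{u}} (f : X ⟶ Y) (x : X) (y : Y)
    (h : f x = y) :
    Spec.map (stalkAt f x y h) ≫ Y.fromSpecStalk y = X.fromSpecStalk x ≫ f := by
  subst h
  rw [stalkAt_self]
  exact Scheme.SpecMap_stalkMap_fromSpecStalk f

/-! ### the degree at the generic point -/

theorem finrank_stalkAt {X Y : Scheme.{u}} [IsIntegral X] (f : X ⟶ Y) (y : Y)
    (hy : f (genericPoint X) = y) (hK : IsField (Y.presheaf.stalk y)) :
    (letI := (stalkAt f (genericPoint X) y hy).hom.toAlgebra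
     Module.finrank (Y.presheaf.stalk y) (X.presheaf.stalk (genericPoint X))) =
      f.residueDegree (genericPoint X) := by
  subst hy
  have hL : IsField (X.presheaf.stalk (genericPoint X)) := Field.toIsField X.functionField
  let i : (Y.presheaf.stalk (f (genericPoint X))) ≃+* Y.residueField (f (genericPoint X)) :=
    RingEquiv.ofBijective (IsLocalRing.residue _) (HypDom.residue_bijective_of_isField _ hK)
  let j : (X.presheaf.stalk (genericPoint X)) ≃+* X.residueField (genericPoint X) :=
    RingEquiv.ofBijective (IsLocalRing.residue _) (HypDom.residue_bijective_of_isField _ hL)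
  letI a4 : Algebra (Y.presheaf.stalk (f (genericPoint X))) (X.presheaf.stalk (genericPoint X)) :=
    (stalkAt f (genericPoint X) (f (genericPoint X)) rfl).hom.toAlgebra
  letI a6 : Algebra (Y.residueField (f (genericPoint X))) (X.residueField (genericPoint X)) :=
    (f.residueFieldMap (genericPoint X)).hom.toAlgebra
  have key : stalkAt f (genericPoint X) (f (genericPoint X)) rfl = f.stalkMap (genericPoint X) :=
    stalkAt_self _ _ _
  refine Algebra.finrank_eq_of_equiv_equiv i j ?_
  ext z
  have h1 := congr($(Scheme.residue_residueFieldMap f (genericPoint X)) z)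
  rw [← key] at h1
  exact h1

/-! ### the generic point is dominant -/

theorem isDominant_fromSpecStalk_genericPoint (X : Scheme.{u}) [IrreducibleSpace X] :
    IsDominant (X.fromSpecStalk (genericPoint X)) := by
  constructor
  have h1 : Dense ({genericPoint X} : Set X) := dense_iff_closure_eq.mpr (genericPoint_spec X)
  refine h1.mono ?_
  rintro _ rfl
  rw [Scheme.range_fromSpecStalk]
  exact specializes_rfl

/-! ### automorphisms of the function field from automorphisms over the base -/

/-- an automorphism `t` of `X` with `t ≫ f = f` acts on the function field of `X` over that of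
`Y`. -/
noncomputable def transAut {X Y : Scheme.{u}} [IsIntegral X] [IsIntegral Y] (f : X ⟶ Y)
    (e : f (genericPoint X) = genericPoint Y) (t : X ⟶ X) [IsIso t] (htf : t ≫ f = f) :
    letI := (stalkAt f (genericPoint X) (genericPoint Y) e).hom.toAlgebra
    X.functionField →ₐ[Y.functionField] X.functionField :=
  letI := (stalkAt f (genericPoint X) (genericPoint Y) e).hom.toAlgebra
  { toRingHom := (stalkAt t (genericPoint X) (genericPoint X)
      (genericPoint_eq_of_isOpenImmersion t)).hom
    commutes' := fun a => congrArg (fun ψ : Y.functionField ⟶ X.functionField => ψ.hom a)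
      (stalkAt_comp_of_fix t f htf _ _ (genericPoint_eq_of_isOpenImmersion t) e) }

theorem transAut_injective {X Y S : Scheme.{u}} [IsIntegral X] [IsIntegral Y] (f : X ⟶ Y)
    (e : f (genericPoint X) = genericPoint Y) (s : X ⟶ S) [IsSeparated s]
    (t t' : X ⟶ X) [IsIso t] [IsIso t'] (htf : t ≫ f = f) (htf' : t' ≫ f = f)
    (hs : t ≫ s = s) (hs' : t' ≫ s = s)
    (h : transAut f e t htf = transAut f e t' htf') : t = t' := by
  letI := (stalkAt f (genericPoint X) (genericPoint Y) e).hom.toAlgebra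
  have ht := genericPoint_eq_of_isOpenImmersion t
  have ht' := genericPoint_eq_of_isOpenImmersion t'
  have h1 : stalkAt t (genericPoint X) (genericPoint X) ht =
      stalkAt t' (genericPoint X) (genericPoint X) ht' := by
    apply CommRingCat.hom_ext
    exact congrArg (fun σ : X.functionField →ₐ[Y.functionField] X.functionField =>
      σ.toRingHom) h
  have h2 : X.fromSpecStalk (genericPoint X) ≫ t = X.fromSpecStalk (genericPoint X) ≫ t' := by
    rw [← SpecMap_stalkAt_fromSpecStalk t _ _ ht, ← SpecMap_stalkAt_fromSpecStalk t' _ _ ht', h1]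
  haveI := isDominant_fromSpecStalk_genericPoint X
  exact ext_of_isDominant_of_isSeparated s (hs.trans hs'.symm)
    (X.fromSpecStalk (genericPoint X)) h2

/-! ### the counting argument -/

theorem galois_of_card {F K : Type*} [Field F] [Field K] [Algebra F K] {G : Type*} (d : ℕ)
    (hd : Module.finrank F K = d) (hpos : 0 < d)
    (jj : G → (K →ₐ[F] K)) (hjj : Function.Injective jj)
    (hG : Finite G → d ≤ Nat.card G) :
    IsGalois F K ∧ Nat.card (K ≃ₐ[F] K) = Nat.card G := by
  haveI : FiniteDimensional F K := FiniteDimensional.of_finrank_pos (hd ▸ hpos)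
  haveI : Finite G := Finite.of_injective jj hjj
  have h1 : Nat.card G ≤ Nat.card (K →ₐ[F] K) := Nat.card_le_card_of_injective jj hjj
  have h2 : Nat.card (K →ₐ[F] K) ≤ Module.finrank F K := by
    rw [Nat.card_eq_fintype_card]; exact AlgHom.card_le
  have h3 := hG inferInstance
  have h4 : Nat.card (K ≃ₐ[F] K) = Nat.card (K →ₐ[F] K) :=
    Nat.card_congr (algEquivEquivAlgHom F K).toEquiv
  have h5 : Nat.card (K ≃ₐ[F] K) = Module.finrank F K := by omega
  exact ⟨IsGalois.of_card_aut_eq_finrank F K h5, by omega⟩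

/-! ### translations -/

section Grp

variable {k : Type u} [Field k] {E E' : Over (Spec (CommRingCat.of k))} [GrpObj E] [GrpObj E']
  (φ : E ⟶ E') [IsMonHom φ]

theorem lmul_comp (P : 𝟙_ (Over (Spec (CommRingCat.of k))) ⟶ E) (hP : P ≫ φ = η[E']) :
    (GSC.lmul P).hom ≫ φ = φ := by
  show (GSC.cst E P E * 𝟙 E) ≫ φ = φ
  rw [MonObj.mul_comp, Category.id_comp]
  have h1 : GSC.cst E P E ≫ φ = 1 := by
    rw [GSC.cst, Category.assoc, hP, ← Hom.one_def]
  rw [h1, _root_.one_mul]

theorem one_eq_eta : (1 : 𝟙_ (Over (Spec (CommRingCat.of k))) ⟶ E) = η[E] := by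
  rw [Hom.one_def, toUnit_unique (toUnit (𝟙_ (Over (Spec (CommRingCat.of k))))) (𝟙 _),
    Category.id_comp]

theorem eta_comp_lmul (P : 𝟙_ (Over (Spec (CommRingCat.of k))) ⟶ E) :
    η[E] ≫ (GSC.lmul P).hom = P := by
  rw [GSC.comp_lmul, ← one_eq_eta, _root_.mul_one]

end Grp

theorem exists_injective_aut (k : Type u) [Field k] (E E' : Over (Spec (CommRingCat.of k)))
    [GrpObj E] [IsSeparated E.hom] [IsIntegral E.left] [GrpObj E'] [IsIntegral E'.left]
    (φ : E ⟶ E') [IsMonHom φ] (e : φ.left (genericPoint E.left) = genericPoint E'.left) :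
    letI := (stalkAt φ.left (genericPoint E.left) (genericPoint E'.left) e).hom.toAlgebra
    ∃ jj : {P : 𝟙_ (Over (Spec (CommRingCat.of k))) ⟶ E // P ≫ φ = η[E']} →
        (E.left.functionField →ₐ[E'.left.functionField] E.left.functionField),
      Function.Injective jj := by
  letI alg : Algebra E'.left.functionField E.left.functionField :=
    (stalkAt φ.left (genericPoint E.left) (genericPoint E'.left) e).hom.toAlgebra
  have hiso : ∀ P : 𝟙_ (Over (Spec (CommRingCat.of k))) ⟶ E, IsIso (GSC.lmul P).hom.left :=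
    fun P => (Over.forget _).map_isIso (GSC.lmul P).hom
  have hfix : ∀ P : {P : 𝟙_ (Over (Spec (CommRingCat.of k))) ⟶ E // P ≫ φ = η[E']},
      (GSC.lmul P.1).hom.left ≫ φ.left = φ.left := fun P =>
    congrArg CommaMorphism.left (lmul_comp φ P.1 P.2)
  refine ⟨fun P => haveI := hiso P.1; transAut φ.left e (GSC.lmul P.1).hom.left (hfix P), ?_⟩
  intro P Q hPQ
  haveI := hiso P.1
  haveI := hiso Q.1
  have h1 : (GSC.lmul P.1).hom.left = (GSC.lmul Q.1).hom.left :=
    transAut_injective φ.left e E.hom _ _ (hfix P) (hfix Q) (Over.w _) (Over.w _) hPQ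
  have h2 : (GSC.lmul P.1).hom = (GSC.lmul Q.1).hom := Over.OverMorphism.ext h1
  apply Subtype.ext
  calc P.1 = η[E] ≫ (GSC.lmul P.1).hom := (eta_comp_lmul P.1).symm
    _ = η[E] ≫ (GSC.lmul Q.1).hom := by rw [h2]
    _ = Q.1 := eta_comp_lmul Q.1

/-! ### the kernel has at least `d` points -/

theorem card_le_kernel (k : Type u) [Field k] [IsAlgClosed k]
    (E E' : Over (Spec (CommRingCat.of k))) [GrpObj E] [GrpObj E'] (φ : E ⟶ E')
    [IsFinite φ.left] [Etale φ.left] (d : ℕ) (hrank : ∀ y, φ.left.finrank y = d)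
    [Finite {P : 𝟙_ (Over (Spec (CommRingCat.of k))) ⟶ E // P ≫ φ = η[E']}] :
    d ≤ Nat.card {P : 𝟙_ (Over (Spec (CommRingCat.of k))) ⟶ E // P ≫ φ = η[E']} := by
  obtain ⟨uu, huu⟩ : ∃ uu : Spec (CommRingCat.of k) ⟶ E'.left, uu = η[E'].left :=
    ⟨η[E'].left, rfl⟩
  have hu : uu ≫ E'.hom = 𝟙 _ := by rw [huu]; exact Over.w η[E']
  obtain ⟨F, q, p, hsq⟩ : ∃ (F : Scheme.{u}) (q : F ⟶ E.left)
      (p : F ⟶ Spec (CommRingCat.of k)), IsPullback q p φ.left uu :=
    ⟨_, _, _, IsPullback.of_hasPullback φ.left uu⟩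
  haveI : Flat φ.left := inferInstance
  haveI : IsFinite p := MorphismProperty.of_isPullback (P := @IsFinite) hsq inferInstance
  haveI : Etale p := MorphismProperty.of_isPullback (P := @Etale) hsq inferInstance
  haveI : Smooth p := inferInstance
  haveI : IsAffine F := isAffine_of_isAffineHom p
  haveI : IsReduced F := Groth.Agent.H1.SmoothGeom.isReduced_of_smooth_field k p
  obtain ⟨pt, hpt⟩ : ∃ pt : Spec (CommRingCat.of k), pt = IsLocalRing.closedPoint k := ⟨_, rfl⟩
  letI algB : Algebra k Γ(F, ⊤) :=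
    ((Scheme.ΓSpecIso (CommRingCat.of k)).inv ≫ p.appTop).hom.toAlgebra
  have hBrank : Module.finrank k Γ(F, ⊤) = d := by
    have h1 := Groth.Agent.H6.GenFin.finrank_over_field k p pt
    have h2 := Scheme.Hom.finrank_of_isPullback q p φ.left uu hsq pt
    exact h1.symm.trans (h2.trans (hrank _))
  obtain ⟨ψ, hψ⟩ : ∃ ψ : CommRingCat.of k ⟶ Γ(F, ⊤),
      ψ = (Scheme.ΓSpecIso (CommRingCat.of k)).inv ≫ p.appTop := ⟨_, rfl⟩
  have hpψ : p = F.isoSpec.hom ≫ Spec.map ψ := by
    rw [hψ, Spec.map_comp, ← Category.assoc, Scheme.isoSpec_hom_naturality, Category.assoc,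
      Scheme.isoSpec_Spec_hom, ← Spec.map_comp, Iso.inv_hom_id, Spec.map_id, Category.comp_id]
  haveI : IsFinite (F.isoSpec.hom ≫ Spec.map ψ) := hpψ ▸ ‹IsFinite p›
  haveI : IsFinite (Spec.map ψ) :=
    (MorphismProperty.cancel_left_of_respectsIso @IsFinite F.isoSpec.hom (Spec.map ψ)).mp
      inferInstance
  have hfin : ψ.hom.Finite := (IsFinite.SpecMap_iff ψ).mp inferInstance
  haveI : Module.Finite k Γ(F, ⊤) := by rw [hψ] at hfin; exact hfin
  haveI : _root_.IsReduced Γ(F, ⊤) := inferInstance
  have hcard : Nat.card (Γ(F, ⊤) →ₐ[k] k) = d := EtaleUnip.card_points.trans hBrank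
  rw [← hcard]
  have hsec : ∀ a : Γ(F, ⊤) →ₐ[k] k,
      (Spec.map (CommRingCat.ofHom a.toRingHom : Γ(F, ⊤) ⟶ CommRingCat.of k) ≫
        F.isoSpec.inv) ≫ p = 𝟙 _ := by
    intro a
    have hψa : ψ ≫ (CommRingCat.ofHom a.toRingHom : Γ(F, ⊤) ⟶ CommRingCat.of k) = 𝟙 _ := by
      rw [hψ]
      ext c
      exact a.commutes c
    rw [hpψ, Category.assoc, Iso.inv_hom_id_assoc, ← Spec.map_comp, hψa, Spec.map_id]
  have hE : E.hom = φ.left ≫ E'.hom := (Over.w φ).symm
  have key : ∀ s : Spec (CommRingCat.of k) ⟶ F, s ≫ p = 𝟙 _ → (s ≫ q) ≫ E.hom = 𝟙 _ := by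
    intro s hs
    rw [hE, Category.assoc, ← Category.assoc q, hsq.w, Category.assoc, ← Category.assoc s, hs,
      Category.id_comp, hu]
  let j₂ : (Γ(F, ⊤) →ₐ[k] k) →
      {P : 𝟙_ (Over (Spec (CommRingCat.of k))) ⟶ E // P ≫ φ = η[E']} := fun a =>
    ⟨Over.homMk ((Spec.map (CommRingCat.ofHom a.toRingHom : Γ(F, ⊤) ⟶ CommRingCat.of k) ≫
        F.isoSpec.inv) ≫ q) (key _ (hsec a)), by
      apply Over.OverMorphism.ext
      show ((Spec.map (CommRingCat.ofHom a.toRingHom : Γ(F, ⊤) ⟶ CommRingCat.of k) ≫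
        F.isoSpec.inv) ≫ q) ≫ φ.left = η[E'].left
      rw [Category.assoc, hsq.w, ← Category.assoc, hsec a, Category.id_comp, huu]⟩
  have hj₂ : Function.Injective j₂ := by
    intro a b hab
    have h1 : (Spec.map (CommRingCat.ofHom a.toRingHom : Γ(F, ⊤) ⟶ CommRingCat.of k) ≫
        F.isoSpec.inv) ≫ q =
        (Spec.map (CommRingCat.ofHom b.toRingHom : Γ(F, ⊤) ⟶ CommRingCat.of k) ≫
        F.isoSpec.inv) ≫ q :=
      congrArg (fun P => P.1.left) hab
    have h2 : Spec.map (CommRingCat.ofHom a.toRingHom : Γ(F, ⊤) ⟶ CommRingCat.of k) ≫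
        F.isoSpec.inv =
        Spec.map (CommRingCat.ofHom b.toRingHom : Γ(F, ⊤) ⟶ CommRingCat.of k) ≫
        F.isoSpec.inv := by
      apply hsq.hom_ext
      · exact h1
      · rw [hsec a, hsec b]
    have h3 := (cancel_mono F.isoSpec.inv).mp h2
    have h4 := Spec.map_injective h3
    have h5 : a.toRingHom = b.toRingHom := congrArg CommRingCat.Hom.hom h4
    exact AlgHom.ext fun x => RingHom.congr_fun h5 x
  exact Nat.card_le_card_of_injective j₂ hj₂

/-! ### the main theorem -/

theorem main (k : Type u) [Field k] [IsAlgClosed k]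
    (E E' : Over (Spec (CommRingCat.of k)))
    [GrpObj E] [IsProper E.hom] [IsIntegral E.left]
    [GrpObj E'] [IsIntegral E'.left]
    (φ : E ⟶ E') [IsMonHom φ] [IsFinite φ.left] [Etale φ.left]
    (e : φ.left (genericPoint E.left) = genericPoint E'.left) :
    letI := ((E'.left.presheaf.stalkSpecializes (specializes_of_eq e) ≫
      φ.left.stalkMap (genericPoint E.left)).hom).toAlgebra
    IsGalois E'.left.functionField E.left.functionField ∧
      Nat.card (E.left.functionField ≃ₐ[E'.left.functionField] E.left.functionField) =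
        Nat.card {P : 𝟙_ (Over (Spec (CommRingCat.of k))) ⟶ E // P ≫ φ = η[E']} := by
  letI alg : Algebra E'.left.functionField E.left.functionField :=
    (stalkAt φ.left (genericPoint E.left) (genericPoint E'.left) e).hom.toAlgebra
  show IsGalois E'.left.functionField E.left.functionField ∧
      Nat.card (E.left.functionField ≃ₐ[E'.left.functionField] E.left.functionField) =
        Nat.card {P : 𝟙_ (Over (Spec (CommRingCat.of k))) ⟶ E // P ≫ φ = η[E']}
  haveI : Flat φ.left := inferInstance
  obtain ⟨d, hd⟩ : ∃ d, φ.left.residueDegree (genericPoint E.left) = d := ⟨_, rfl⟩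
  have hK : Module.finrank E'.left.functionField E.left.functionField = d :=
    (finrank_stalkAt φ.left (genericPoint E'.left) e
      (Field.toIsField E'.left.functionField)).trans hd
  have hrank : ∀ y, φ.left.finrank y = d := fun y =>
    (Groth.Agent.H6.GenFin.finrank_eq_residueDegree' φ.left e y).trans hd
  have hpos : 0 < d := by
    rw [← hrank (φ.left (genericPoint E.left))]
    exact Scheme.Hom.one_le_finrank_map φ.left _
  obtain ⟨jj, hjj⟩ := exists_injective_aut k E E' φ e
  refine galois_of_card d hK hpos jj hjj (fun hfinG => ?_)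
  exact card_le_kernel k E E' φ d hrank

end Groth.Agent.H6.IsogGal
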