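import Groth.Agent.Lib.Lead.SC.PshHomology
import Groth.Agent.Lib.Lead.HDSh.Main
import Mathlib.Algebra.Homology.DerivedCategory.KInjective

/-! # Sections of a K-injective complex compute `Hom(ℤ_U[0], -)`: preliminaries -/

universe w u
open CategoryTheory Limits Opposite

namespace Groth.Agent.H6.KI

section Psh

variable {D : Type u} [SmallCategory D] {ι : Type*} {c : ComplexShape ι}
  (K : HomologicalComplex (D ⥤ AddCommGrpCat.{u}) c) (U : D)

lemma exists_cycle (j k : ι) (hjk : c.next j = k) (x : (K.X j).obj U)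
    (hx : (K.d j k).app U x = 0) :
    ∃ z : (K.cycles j).obj U, (K.iCycles j).app U z = x := by
  subst hjk
  exact Groth.Agent.LD.SC.exists_cycle_of_g_eq_zero (K.sc j) U x hx

lemma iCycles_injective (j : ι) : Function.Injective ((K.iCycles j).app U) :=
  Groth.Agent.LD.SC.iCycles_app_injective (K.sc j) U

lemma homologyπ_surjective (j : ι) : Function.Surjective ((K.homologyπ j).app U) :=
  Groth.Agent.LD.SC.homologyπ_app_surjective (K.sc j) U

lemma exists_of_homologyπ_eq_zero (i j : ι) (hij : c.prev j = i) (z : (K.cycles j).obj U)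
    (hz : (K.homologyπ j).app U z = 0) :
    ∃ y : (K.X i).obj U, (K.toCycles i j).app U y = z := by
  subst hij
  exact Groth.Agent.LD.SC.exists_of_homologyπ_eq_zero (K.sc j) U z hz

lemma iCycles_toCycles (i j : ι) (y : (K.X i).obj U) :
    (K.iCycles j).app U ((K.toCycles i j).app U y) = (K.d i j).app U y := by
  rw [← ConcreteCategory.comp_apply, ← NatTrans.comp_app, K.toCycles_i]

lemma d_iCycles (j k : ι) (z : (K.cycles j).obj U) :
    (K.d j k).app U ((K.iCycles j).app U z) = 0 := by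
  rw [← ConcreteCategory.comp_apply, ← NatTrans.comp_app, K.iCycles_d]
  rfl

lemma homologyπ_toCycles (i j : ι) (y : (K.X i).obj U) :
    (K.homologyπ j).app U ((K.toCycles i j).app U y) = 0 := by
  rw [← ConcreteCategory.comp_apply, ← NatTrans.comp_app, K.toCycles_comp_homologyπ]
  rfl

end Psh

section KInj

variable {A : Type*} [Category A] [Abelian A] [HasDerivedCategory.{w} A]

open DerivedCategory

lemma exists_Q_map_eq_of_isKInjective (X M : CochainComplex A ℤ) [M.IsKInjective]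
    (φ : Q.obj X ⟶ Q.obj M) : ∃ ψ : X ⟶ M, Q.map ψ = φ := by
  obtain ⟨g, hg⟩ := (CochainComplex.IsKInjective.Qh_map_bijective
    ((HomotopyCategory.quotient _ _).obj X) M).2
    ((quotientCompQhIso A).hom.app X ≫ φ ≫ (quotientCompQhIso A).inv.app M)
  obtain ⟨ψ, rfl⟩ := (HomotopyCategory.quotient _ _).map_surjective g
  refine ⟨ψ, ?_⟩
  have h := (quotientCompQhIso A).hom.naturality ψ
  rw [Functor.comp_map, hg] at h
  simp only [Category.assoc, Iso.inv_hom_id_app, Category.comp_id] at h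
  exact ((cancel_epi _).1 h).symm

lemma nonempty_homotopy_of_Q_map_eq_zero {X M : CochainComplex A ℤ} [M.IsKInjective]
    (ψ : X ⟶ M) (h : Q.map ψ = 0) : Nonempty (Homotopy ψ 0) := by
  have h1 : Qh.map ((HomotopyCategory.quotient A (ComplexShape.up ℤ)).map ψ) =
      Qh.map ((HomotopyCategory.quotient A (ComplexShape.up ℤ)).map 0) := by
    rw [← cancel_mono ((quotientCompQhIso A).hom.app M), quotientCompQhIso_hom_naturality,
      quotientCompQhIso_hom_naturality, h, Q.map_zero]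
  have h2 := (CochainComplex.IsKInjective.Qh_map_bijective
    ((HomotopyCategory.quotient _ _).obj X) M).1 h1
  exact ⟨HomotopyCategory.homotopyOfEq _ _ h2⟩

end KInj

section FromMap

variable {𝒞 : Type*} [Category 𝒞] [Abelian 𝒞]

open Groth.Agent.LD.HDSh

/-- the chain map `A[0] ⟶ M` attached to `ζ : A ⟶ M⁰` with `dζ = 0` -/
noncomputable def fromMap {A : 𝒞} {M : CochainComplex 𝒞 ℤ} (ζ : A ⟶ M.X 0)
    (hζ : ζ ≫ M.d 0 1 = 0) : S₀ A ⟶ M :=
  HomologicalComplex.mkHomFromSingle ζ (by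
    intro k hk
    obtain rfl : (0 : ℤ) + 1 = k := hk
    exact hζ)

lemma fromMap_f {A : 𝒞} {M : CochainComplex 𝒞 ℤ} (ζ : A ⟶ M.X 0) (hζ : ζ ≫ M.d 0 1 = 0) :
    (fromMap ζ hζ).f 0 = (HomologicalComplex.singleObjXSelf (ComplexShape.up ℤ) 0 A).hom ≫ ζ :=
  HomologicalComplex.mkHomFromSingle_f _ _

lemma fromMap_add {A : 𝒞} {M : CochainComplex 𝒞 ℤ} (ζ ζ' : A ⟶ M.X 0)
    (hζ : ζ ≫ M.d 0 1 = 0) (hζ' : ζ' ≫ M.d 0 1 = 0) (h : (ζ + ζ') ≫ M.d 0 1 = 0) :
    fromMap (ζ + ζ') h = fromMap ζ hζ + fromMap ζ' hζ' := by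
  apply HomologicalComplex.from_single_hom_ext
  rw [HomologicalComplex.add_f_apply, fromMap_f, fromMap_f, fromMap_f, Preadditive.comp_add]

lemma single_map_comp_fromMap {A B : 𝒞} {M : CochainComplex 𝒞 ℤ} (a : A ⟶ B) (ζ : B ⟶ M.X 0)
    (hζ : ζ ≫ M.d 0 1 = 0) (h : (a ≫ ζ) ≫ M.d 0 1 = 0) :
    (HomologicalComplex.single 𝒞 (ComplexShape.up ℤ) 0).map a ≫ fromMap ζ hζ =
      fromMap (a ≫ ζ) h := by
  apply HomologicalComplex.from_single_hom_ext
  rw [HomologicalComplex.comp_f, fromMap_f, fromMap_f, HomologicalComplex.single_map_f_self]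
  simp only [Category.assoc, Iso.inv_hom_id_assoc]

lemma fromMap_eq_self {A : 𝒞} {M : CochainComplex 𝒞 ℤ} (ψ : S₀ A ⟶ M)
    (h : ((HomologicalComplex.singleObjXSelf (ComplexShape.up ℤ) 0 A).inv ≫ ψ.f 0) ≫
      M.d 0 1 = 0) :
    fromMap ((HomologicalComplex.singleObjXSelf (ComplexShape.up ℤ) 0 A).inv ≫ ψ.f 0) h = ψ := by
  apply HomologicalComplex.from_single_hom_ext
  rw [fromMap_f, Iso.hom_inv_id_assoc]

lemma comp_d_eq_zero_of_hom {A : 𝒞} {M : CochainComplex 𝒞 ℤ} (ψ : S₀ A ⟶ M) :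
    ((HomologicalComplex.singleObjXSelf (ComplexShape.up ℤ) 0 A).inv ≫ ψ.f 0) ≫ M.d 0 1 = 0 := by
  rw [Category.assoc, ψ.comm 0 1, HomologicalComplex.single_obj_d, zero_comp, comp_zero]

lemma fromMap_boundary_eq_fromCyc {A : 𝒞} {M : CochainComplex 𝒞 ℤ} (y : A ⟶ M.X (-1))
    (h : (y ≫ M.d (-1) 0) ≫ M.d 0 1 = 0) :
    fromMap (y ≫ M.d (-1) 0) h = fromCyc (y ≫ M.toCycles (-1) 0) := by
  apply HomologicalComplex.from_single_hom_ext
  rw [fromMap_f, fromCyc_f, Category.assoc, HomologicalComplex.toCycles_i]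

lemma Q_map_fromMap_boundary [HasDerivedCategory.{w} 𝒞] {A : 𝒞} {M : CochainComplex 𝒞 ℤ}
    (y : A ⟶ M.X (-1)) (h : (y ≫ M.d (-1) 0) ≫ M.d 0 1 = 0) :
    DerivedCategory.Q.map (fromMap (y ≫ M.d (-1) 0) h) = 0 := by
  rw [fromMap_boundary_eq_fromCyc, Q_map_fromCyc_boundary]

/-- a null-homotopic chain map out of `A[0]` is a boundary -/
lemma exists_of_homotopy {A : 𝒞} {M : CochainComplex 𝒞 ℤ} (ζ : A ⟶ M.X 0)
    (hζ : ζ ≫ M.d 0 1 = 0) (H : Homotopy (fromMap ζ hζ) 0) :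
    ∃ η : A ⟶ M.X (-1), η ≫ M.d (-1) 0 = ζ := by
  refine ⟨(HomologicalComplex.singleObjXSelf (ComplexShape.up ℤ) 0 A).inv ≫ H.hom 0 (-1), ?_⟩
  have h := H.comm 0
  rw [fromMap_f, HomologicalComplex.zero_f, add_zero, dNext_eq H.hom (show (ComplexShape.up ℤ).Rel 0 1 by simp),
    prevD_eq H.hom (show (ComplexShape.up ℤ).Rel (-1) 0 by simp),
    HomologicalComplex.single_obj_d, zero_comp, zero_add] at h
  rw [Category.assoc, ← h, Iso.inv_hom_id_assoc]

end FromMap

end Groth.Agent.H6.KI
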