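import Groth.Agent.Lib.Helper6.KI1

/-! # Sections of a K-injective complex compute `Hom(ℤ_U[0], -)` -/

universe u
open CategoryTheory Limits Opposite

namespace Groth.Agent.H6.KI

open Groth.Agent.LD.SC Groth.Agent.LD.HDSh DerivedCategory

variable {C : Type u} [SmallCategory C] {J : GrothendieckTopology C}
  [HasDerivedCategory.{u} (Sheaf J AddCommGrpCat.{u})]
  (M : CochainComplex (Sheaf J AddCommGrpCat.{u}) ℤ)

/-- the underlying complex of presheaves -/
noncomputable abbrev psh : CochainComplex (Cᵒᵖ ⥤ AddCommGrpCat.{u}) ℤ :=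
  ((sheafToPresheaf J AddCommGrpCat.{u}).mapHomologicalComplex (ComplexShape.up ℤ)).obj M

lemma fromMap_congr {𝒞 : Type*} [Category 𝒞] [Abelian 𝒞] {A : 𝒞} {M : CochainComplex 𝒞 ℤ}
    {ζ ζ' : A ⟶ M.X 0} (h : ζ = ζ') (hζ : ζ ≫ M.d 0 1 = 0) (hζ' : ζ' ≫ M.d 0 1 = 0) :
    fromMap ζ hζ = fromMap ζ' hζ' := by
  subst h
  rfl

/-- the morphism `ℤ_U ⟶ Mⁱ` attached to a section -/
noncomputable abbrev zet (i : ℤ) (U : C) (x : (M.X i).obj.obj (op U)) : ZU J U ⟶ M.X i :=
  (homEquiv U (M.X i)).symm x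

lemma zet_add (i : ℤ) (U : C) (x x' : (M.X i).obj.obj (op U)) :
    zet M i U (x + x') = zet M i U x + zet M i U x' :=
  (homAddEquiv U (M.X i)).symm.map_add x x'

lemma zet_comp_d (i j : ℤ) (U : C) (x : (M.X i).obj.obj (op U)) :
    zet M i U x ≫ M.d i j = zet M j U ((M.d i j).hom.app (op U) x) := by
  apply (homEquiv U (M.X j)).injective
  rw [homEquiv_comp, Equiv.apply_symm_apply, Equiv.apply_symm_apply]

lemma zet_zero (i : ℤ) (U : C) : zet M i U 0 = 0 :=
  (homAddEquiv U (M.X i)).symm.map_zero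

lemma zet_comp_d_eq_zero (U : C) (x : (M.X 0).obj.obj (op U))
    (hx : (M.d 0 1).hom.app (op U) x = 0) : zet M 0 U x ≫ M.d 0 1 = 0 := by
  rw [zet_comp_d, hx, zet_zero]

lemma zet_map (i : ℤ) {U V : C} (g : V ⟶ U) (x : (M.X i).obj.obj (op U)) :
    zet M i V ((M.X i).obj.map g.op x) = ZUmap J g ≫ zet M i U x := by
  apply (homEquiv V (M.X i)).injective
  rw [Equiv.apply_symm_apply, homEquiv_map, Equiv.apply_symm_apply]

/-- the section of `M⁰` underlying a cycle of the complex of presheaves -/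
noncomputable abbrev cycSec (U : C) (z : ((psh M).cycles 0).obj (op U)) :
    (M.X 0).obj.obj (op U) :=
  ((psh M).iCycles 0).app (op U) z

lemma d_cycSec (U : C) (z : ((psh M).cycles 0).obj (op U)) :
    (M.d 0 1).hom.app (op U) (cycSec M U z) = 0 :=
  d_iCycles (psh M) (op U) 0 1 z

/-- the comparison map on cycles over `U` -/
noncomputable def cU (U : C) :
    ((psh M).cycles 0).obj (op U) →+ (Q.obj (S₀ (ZU J U)) ⟶ Q.obj M) :=
  AddMonoidHom.mk'
    (fun z => Q.map (fromMap (zet M 0 U (cycSec M U z))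
      (zet_comp_d_eq_zero M U _ (d_cycSec M U z))))
    (fun z z' => by
      have h : (zet M 0 U (cycSec M U z) + zet M 0 U (cycSec M U z')) ≫ M.d 0 1 = 0 := by
        rw [Preadditive.add_comp, zet_comp_d_eq_zero M U _ (d_cycSec M U z),
          zet_comp_d_eq_zero M U _ (d_cycSec M U z'), add_zero]
      rw [← Functor.map_add, ← fromMap_add _ _ _ _ h]
      congr 1
      apply fromMap_congr
      rw [← zet_add]
      congr 1
      exact map_add _ z z')

lemma cU_apply (U : C) (z : ((psh M).cycles 0).obj (op U)) :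
    cU M U z = Q.map (fromMap (zet M 0 U (cycSec M U z))
      (zet_comp_d_eq_zero M U _ (d_cycSec M U z))) := rfl

lemma cU_map {U V : C} (g : V ⟶ U) (z : ((psh M).cycles 0).obj (op U)) :
    cU M V (((psh M).cycles 0).map g.op z) =
      Q.map ((HomologicalComplex.single _ (ComplexShape.up ℤ) 0).map (ZUmap J g)) ≫ cU M U z := by
  rw [cU_apply, cU_apply, ← Functor.map_comp]
  congr 1
  rw [single_map_comp_fromMap (ZUmap J g) _ _
    (by rw [Category.assoc, zet_comp_d_eq_zero M U _ (d_cycSec M U z), comp_zero])]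
  apply fromMap_congr
  rw [← zet_map]
  congr 1
  exact NatTrans.naturality_apply ((psh M).iCycles 0) g.op z

/-- the comparison morphism on cycles -/
noncomputable def cNat : (psh M).cycles 0 ⟶ PP (J := J) (Q.obj M) where
  app X := AddCommGrpCat.ofHom (cU M X.unop)
  naturality X Y f := by
    ext z
    exact cU_map M f.unop z

lemma cNat_app_apply (U : C) (z : ((psh M).cycles 0).obj (op U)) :
    (cNat M).app (op U) z = cU M U z := rfl

lemma cU_toCycles (U : C) (y : (M.X (-1)).obj.obj (op U)) :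
    cU M U (((psh M).toCycles (-1) 0).app (op U) y) = 0 := by
  rw [cU_apply]
  have h1 : cycSec M U (((psh M).toCycles (-1) 0).app (op U) y) =
      (M.d (-1) 0).hom.app (op U) y := iCycles_toCycles (psh M) (op U) (-1) 0 y
  have h2 : zet M 0 U (cycSec M U (((psh M).toCycles (-1) 0).app (op U) y)) =
      zet M (-1) U y ≫ M.d (-1) 0 := by
    rw [h1, zet_comp_d]
  rw [fromMap_congr h2 _ (by rw [Category.assoc, M.d_comp_d, comp_zero])]
  exact Q_map_fromMap_boundary _ _

lemma toCycles_cNat : (psh M).toCycles (-1) 0 ≫ cNat M = 0 := by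
  ext X y
  exact cU_toCycles M X.unop y

/-- the comparison morphism `H⁰` of sections `⟶ Hom(ℤ_U[0], M)` -/
noncomputable def gam : (psh M).homology 0 ⟶ PP (J := J) (Q.obj M) :=
  ((psh M).homologyIsCokernel (-1) 0 (by simp)).desc
    (CokernelCofork.ofπ (cNat M) (toCycles_cNat M))

lemma π_gam : (psh M).homologyπ 0 ≫ gam M = cNat M :=
  ((psh M).homologyIsCokernel (-1) 0 (by simp)).fac
    (CokernelCofork.ofπ (cNat M) (toCycles_cNat M)) WalkingParallelPair.one

lemma gam_π_apply (U : C) (z : ((psh M).cycles 0).obj (op U)) :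
    (gam M).app (op U) (((psh M).homologyπ 0).app (op U) z) = cU M U z := by
  rw [← cNat_app_apply, ← π_gam]
  rfl

lemma gam_app_surjective [M.IsKInjective] (U : C) :
    Function.Surjective ((gam M).app (op U)) := by
  intro φ
  obtain ⟨ψ, hψ⟩ := exists_Q_map_eq_of_isKInjective (S₀ (ZU J U)) M φ
  have hζ := comp_d_eq_zero_of_hom ψ
  have hx : ((psh M).d 0 1).app (op U) (homEquiv U (M.X 0)
      ((HomologicalComplex.singleObjXSelf (ComplexShape.up ℤ) 0 (ZU J U)).inv ≫ ψ.f 0)) = 0 := by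
    change (M.d 0 1).hom.app (op U) (homEquiv U (M.X 0) _) = 0
    rw [← homEquiv_comp, hζ]
    exact (homAddEquiv U (M.X 1)).map_zero
  obtain ⟨z, hz⟩ := exists_cycle (psh M) (op U) 0 1 (by simp) _ hx
  refine ⟨((psh M).homologyπ 0).app (op U) z, ?_⟩
  rw [gam_π_apply, cU_apply, ← hψ]
  congr 1
  rw [← fromMap_eq_self ψ hζ]
  apply fromMap_congr
  change (homEquiv U (M.X 0)).symm (((psh M).iCycles 0).app (op U) z) = _
  rw [hz, Equiv.symm_apply_apply]

lemma gam_app_injective [M.IsKInjective] (U : C) :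
    Function.Injective ((gam M).app (op U)) := by
  rw [injective_iff_map_eq_zero]
  intro a ha
  obtain ⟨z, rfl⟩ := homologyπ_surjective (psh M) (op U) 0 a
  rw [gam_π_apply, cU_apply] at ha
  obtain ⟨H⟩ := nonempty_homotopy_of_Q_map_eq_zero _ ha
  obtain ⟨η, hη⟩ := exists_of_homotopy _ _ H
  have h1 : ((psh M).toCycles (-1) 0).app (op U) (homEquiv U (M.X (-1)) η) = z := by
    apply iCycles_injective (psh M) (op U) 0
    rw [iCycles_toCycles]
    change (M.d (-1) 0).hom.app (op U) (homEquiv U (M.X (-1)) η) = _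
    rw [← homEquiv_comp, hη, Equiv.apply_symm_apply]
  rw [← h1, homologyπ_toCycles]

theorem nonempty_iso [M.IsKInjective] :
    Nonempty ((psh M).homology 0 ≅ PP (J := J) (Q.obj M)) := by
  haveI : ∀ X, IsIso ((gam M).app X) := fun X => by
    rw [ConcreteCategory.isIso_iff_bijective]
    exact ⟨gam_app_injective M X.unop, gam_app_surjective M X.unop⟩
  haveI : IsIso (gam M) := NatIso.isIso_of_isIso_app _
  exact ⟨asIso (gam M)⟩

end Groth.Agent.H6.KI
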