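import Groth.Agent.Lib.Helper6.KI2
import Groth.Prelude.Def_CohCx

/-! # Hypercohomology presheaves of K-injective complexes; sheafification of presheaf homology -/

universe u
open CategoryTheory Limits Opposite

namespace Groth.Agent.H6.KI

open Groth.Agent.LD.SC Groth.Agent.LD.HDSh DerivedCategory

variable {C : Type u} [SmallCategory C] {J : GrothendieckTopology C}

section Shift

variable [HasDerivedCategory.{u} (Sheaf J AddCommGrpCat.{u})]

/-- `PP` is functorial in isomorphisms -/
noncomputable def ppIso {L L' : DerivedCategory (Sheaf J AddCommGrpCat.{u})} (e : L ≅ L') :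
    PP (J := J) L ≅ PP (J := J) L' :=
  Functor.isoWhiskerLeft _ (preadditiveYoneda.mapIso e)

/-- the hypercohomology presheaf is functorial in isomorphisms -/
noncomputable def hduIso {L L' : DerivedCategory (Sheaf J AddCommGrpCat.{u})} (e : L ≅ L')
    (p : ℤ) : CohCx.HDUPresheaf L p ≅ CohCx.HDUPresheaf L' p :=
  ppIso ((shiftFunctor _ p).mapIso e)

theorem nonempty_iso_shift (M : CochainComplex (Sheaf J AddCommGrpCat.{u}) ℤ) [M.IsKInjective]
    (p : ℤ) : Nonempty ((psh M).homology p ≅ CohCx.HDUPresheaf (Q.obj M) p) := by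
  obtain ⟨e⟩ := nonempty_iso (M⟦p⟧)
  let e1 : (psh M).homology p ≅ ((psh M)⟦p⟧).homology 0 :=
    ((CochainComplex.ShiftSequence.shiftIso (Cᵒᵖ ⥤ AddCommGrpCat.{u}) p 0 p (add_zero p)).app
      (psh M)).symm
  let e2 : ((psh M)⟦p⟧).homology 0 ≅ (psh (M⟦p⟧)).homology 0 :=
    (HomologicalComplex.homologyFunctor _ _ 0).mapIso
      (((sheafToPresheaf J AddCommGrpCat.{u}).mapCochainComplexShiftIso p).app M).symm
  let e3 : PP (J := J) (Q.obj (M⟦p⟧)) ≅ PP (J := J) ((Q.obj M)⟦p⟧) :=
    ppIso ((Q.commShiftIso p).app M)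
  exact ⟨e1 ≪≫ e2 ≪≫ e ≪≫ e3⟩

end Shift

section Sheafify

/-- the counit of sheafification, as an isomorphism -/
noncomputable def counitIsoApp (F : Sheaf J AddCommGrpCat.{u}) :
    (presheafToSheaf J AddCommGrpCat.{u}).obj ((sheafToPresheaf J AddCommGrpCat.{u}).obj F) ≅ F :=
  asIso ((sheafificationAdjunction J AddCommGrpCat.{u}).counit.app F)

/-- the sheafification of the complex of presheaves underlying a complex of sheaves -/
noncomputable def shPshIso (M : CochainComplex (Sheaf J AddCommGrpCat.{u}) ℤ) :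
    ((presheafToSheaf J AddCommGrpCat.{u}).mapHomologicalComplex (ComplexShape.up ℤ)).obj (psh M) ≅
      M :=
  HomologicalComplex.Hom.isoOfComponents
    (fun i => counitIsoApp (M.X i))
    (fun i j _ => ((sheafificationAdjunction J AddCommGrpCat.{u}).counit.naturality (M.d i j)).symm)

theorem nonempty_homology_iso_sheafify (M : CochainComplex (Sheaf J AddCommGrpCat.{u}) ℤ)
    (p : ℤ) :
    Nonempty (M.homology p ≅ (presheafToSheaf J AddCommGrpCat.{u}).obj ((psh M).homology p)) := by
  let e1 : M.homology p ≅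
      (((presheafToSheaf J AddCommGrpCat.{u}).mapHomologicalComplex
        (ComplexShape.up ℤ)).obj (psh M)).homology p :=
    (HomologicalComplex.homologyFunctor _ _ p).mapIso (shPshIso M).symm
  let e2 : (((psh M).sc p).map (presheafToSheaf J AddCommGrpCat.{u})).homology ≅
      (presheafToSheaf J AddCommGrpCat.{u}).obj ((psh M).sc p).homology :=
    ((psh M).sc p).mapHomologyIso (presheafToSheaf J AddCommGrpCat.{u})
  exact ⟨e1 ≪≫ e2⟩

end Sheafify

end Groth.Agent.H6.KI
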