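import Groth.Agent.Lib.Helper6.KI3
import Groth.Agent.Lib.Helper2.RLong1
import Groth.Prelude.Def_CohTop

/-! # Cohomology sheaves of the derived direct image of a bounded below complex -/

universe u
open CategoryTheory Limits Opposite TopologicalSpace

namespace Groth.Agent.H6.KI

open DerivedCategory

variable {X Y : TopCat.{u}} (f : X ⟶ Y)

/-- restriction of presheaves along `f⁻¹` -/
noncomputable abbrev Wf : ((Opens X)ᵒᵖ ⥤ AddCommGrpCat.{u}) ⥤ ((Opens Y)ᵒᵖ ⥤ AddCommGrpCat.{u}) :=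
  (Functor.whiskeringLeft (Opens Y)ᵒᵖ (Opens X)ᵒᵖ AddCommGrpCat.{u}).obj (Opens.map f).op

/-- the complex of presheaves underlying a direct image -/
noncomputable def pshPushIso (Jc : CochainComplex (CohTop.Ab X) ℤ) :
    psh (((CohTop.push f).mapHomologicalComplex (ComplexShape.up ℤ)).obj Jc) ≅
      ((Wf f).mapHomologicalComplex (ComplexShape.up ℤ)).obj (psh Jc) :=
  HomologicalComplex.Hom.isoOfComponents (fun i => Iso.refl _) (fun i j _ => by
    simp only [Iso.refl_hom, Category.comp_id, Category.id_comp]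
    rfl)

theorem nonempty_homology_push_iso (Jc : CochainComplex (CohTop.Ab X) ℤ) (p : ℤ) :
    Nonempty ((psh (((CohTop.push f).mapHomologicalComplex (ComplexShape.up ℤ)).obj Jc)).homology p ≅
      (Opens.map f).op ⋙ (psh Jc).homology p) := by
  let e1 := (HomologicalComplex.homologyFunctor _ _ p).mapIso (pshPushIso f Jc)
  let e2 : (((psh Jc).sc p).map (Wf f)).homology ≅ (Wf f).obj ((psh Jc).sc p).homology :=
    ((psh Jc).sc p).mapHomologyIso (Wf f)
  exact ⟨e1 ≪≫ e2⟩

theorem main [HasDerivedCategory.{u} (CohTop.Ab X)] [HasDerivedCategory.{u} (CohTop.Ab Y)]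
    (K : CochainComplex.Plus (CohTop.Ab X)) (p : ℤ) :
    Nonempty ((DerivedCategory.Plus.homologyFunctor (CohTop.Ab Y) p).obj
        ((CohTop.push f).rightDerivedFunctorPlus.obj
          (DerivedCategory.Plus.Qh.obj ((HomotopyCategory.Plus.quotient (CohTop.Ab X)).obj K))) ≅
      (presheafToSheaf (Opens.grothendieckTopology Y) AddCommGrpCat.{u}).obj
        ((Opens.map f).op ⋙ CohCx.HDUPresheaf (DerivedCategory.Q.obj K.obj) p)) := by
  obtain ⟨K₀, a, ha⟩ := K
  haveI := ha
  obtain ⟨Jc, s, hs, hinj, hJ⟩ :=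
    CochainComplex.Plus.modelCategoryQuillen.exists_quasiIso_injective K₀ a
  haveI := hs
  haveI := hinj
  haveI := hJ
  let eA := Groth.Agent.H2.RLong.θ (CohTop.push f) p a a s
  obtain ⟨eB⟩ := nonempty_homology_iso_sheafify
    (((CohTop.push f).mapHomologicalComplex (ComplexShape.up ℤ)).obj Jc) p
  haveI : Jc.IsKInjective := CochainComplex.isKInjective_of_injective Jc a
  obtain ⟨eD⟩ := nonempty_iso_shift Jc p
  let eE := hduIso (asIso (Q.map s)).symm p
  obtain ⟨eC⟩ := nonempty_homology_push_iso f Jc p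
  exact ⟨eA ≪≫ eB ≪≫ (presheafToSheaf (Opens.grothendieckTopology Y) AddCommGrpCat.{u}).mapIso
    (eC ≪≫ Functor.isoWhiskerLeft (Opens.map f).op (eD ≪≫ eE))⟩

end Groth.Agent.H6.KI
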