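import Mathlib
set_option autoImplicit false
universe u
namespace Groth.Agent.H6.KP

open IsLocalRing

/-- Abstract extension step: a local ring `B` with residue field the algebraically closed field
`k`, a `B`-algebra `S` generated by one element and a maximal ideal `Q` of `S` containing the
maximal ideal of `B`: the residue field `S/Q` is again `k`. -/
theorem surjective_quot {k B S : Type u} [Field k] [IsAlgClosed k] [CommRing B] [IsLocalRing B]
    [CommRing S] [Algebra B S] (ι : k →+* B)
    (hι : Function.Surjective ((residue B).comp ι))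
    (x : S) (hgen : Algebra.adjoin B {x} = ⊤) (Q : Ideal S) [hQ : Q.IsMaximal]
    (hQm : (maximalIdeal B).map (algebraMap B S) ≤ Q) :
    Function.Surjective ((Ideal.Quotient.mk Q).comp ((algebraMap B S).comp ι)) := by
  let F := S ⧸ Q
  let _ : Field F := Ideal.Quotient.field Q
  let φ : k →+* F := (Ideal.Quotient.mk Q).comp ((algebraMap B S).comp ι)
  let _ : Algebra k F := φ.toAlgebra
  -- the evaluation map k[X] → F
  let ev : Polynomial k →ₐ[k] F := Polynomial.aeval (Ideal.Quotient.mk Q x)
  have hB : ∀ b : B, ∃ c : k, Ideal.Quotient.mk Q (algebraMap B S b) = φ c := by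
    intro b
    obtain ⟨c, hc⟩ := hι (residue B b)
    refine ⟨c, ?_⟩
    have h1 : b - ι c ∈ maximalIdeal B := by
      rw [← Ideal.Quotient.eq_zero_iff_mem]
      change residue B (b - ι c) = 0
      rw [map_sub, sub_eq_zero]
      exact hc.symm
    have h2 : algebraMap B S (b - ι c) ∈ Q := hQm (Ideal.mem_map_of_mem _ h1)
    rw [← Ideal.Quotient.eq_zero_iff_mem, map_sub, map_sub, sub_eq_zero] at h2
    exact h2
  have hev : Function.Surjective ev := by
    intro z
    obtain ⟨s, rfl⟩ := Ideal.Quotient.mk_surjective z
    have hs : s ∈ Algebra.adjoin B {x} := by rw [hgen]; trivial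
    induction hs using Algebra.adjoin_induction with
    | mem y hy =>
      rw [Set.mem_singleton_iff] at hy
      subst hy
      exact ⟨Polynomial.X, by simp [ev]⟩
    | algebraMap b =>
      obtain ⟨c, hc⟩ := hB b
      exact ⟨Polynomial.C c, by rw [hc]; simp [ev]; rfl⟩
    | add y z _ _ hy hz =>
      obtain ⟨p, hp⟩ := hy
      obtain ⟨q, hq⟩ := hz
      exact ⟨p + q, by rw [map_add, hp, hq, map_add]⟩
    | mul y z _ _ hy hz =>
      obtain ⟨p, hp⟩ := hy
      obtain ⟨q, hq⟩ := hz
      exact ⟨p * q, by rw [map_mul, hp, hq, map_mul]⟩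
  have hft : Algebra.FiniteType k F := Algebra.FiniteType.of_surjective ev hev
  have hfin : Module.Finite k F := finite_of_finite_type_of_isJacobsonRing k F
  have hint : Algebra.IsIntegral k F := Algebra.IsIntegral.of_finite k F
  exact (IsAlgClosed.algebraMap_bijective_of_isIntegral (k := k) (K := F)).2

end Groth.Agent.H6.KP
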