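import Groth.Agent.Lib.Helper6.KP1
set_option autoImplicit false
universe u
namespace Groth.Agent.H6.KP

open IsLocalRing

variable {k L : Type u} [Field k] [Field L] [Algebra k L]

variable (k) in
/-- local subrings of `L` containing `k` whose residue field is `k`. -/
def InT (M : LocalSubring L) : Prop :=
  ∃ h : ∀ c : k, algebraMap k L c ∈ M.toSubring,
    Function.Surjective ((residue M.toSubring).comp
      ((algebraMap k L).codRestrict M.toSubring h))

theorem extend_step [IsAlgClosed k] (M N : LocalSubring L) (hM : InT k M) (hMN : M ≤ N) (x : L)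
    (hx : x ∈ N.toSubring) :
    ∃ M' : LocalSubring L, InT k M' ∧ M ≤ M' ∧ x ∈ M'.toSubring := by
  obtain ⟨hMN1, hMN2⟩ := hMN
  obtain ⟨hk, hsurj⟩ := hM
  let S := Algebra.adjoin M.toSubring {x}
  have hMS : M.toSubring ≤ S.toSubring := fun r hr ↦ algebraMap_mem S ⟨r, hr⟩
  have hxS : x ∈ S.toSubring := Algebra.self_mem_adjoin_singleton _ _
  have hSN : S.toSubring ≤ N.toSubring := by
    intro s hs
    have hs' : s ∈ Algebra.adjoin M.toSubring {x} := hs
    induction hs' using Algebra.adjoin_induction with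
    | mem y hy =>
      rw [Set.mem_singleton_iff] at hy
      subst hy
      exact hx
    | algebraMap b => exact hMN1 b.2
    | add y z _ _ hy hz => exact add_mem (hy ‹_›) (hz ‹_›)
    | mul y z _ _ hy hz => exact mul_mem (hy ‹_›) (hz ‹_›)
  let I : Ideal S.toSubring := (maximalIdeal M.toSubring).map (Subring.inclusion hMS)
  have hI : I ≠ ⊤ := by
    have hle : I ≤ (maximalIdeal N.toSubring).comap (Subring.inclusion hSN) := by
      rw [Ideal.map_le_iff_le_comap]
      intro m hm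
      rw [Ideal.mem_comap, Ideal.mem_comap, mem_maximalIdeal, mem_nonunits_iff]
      intro hu
      have hu' : IsUnit (Subring.inclusion hMN1 m) := hu
      exact hm (hMN2.map_nonunit m hu')
    intro h
    rw [h, top_le_iff, Ideal.comap_eq_top_iff] at hle
    exact (maximalIdeal.isMaximal N.toSubring).ne_top hle
  obtain ⟨Q, hQ, hIQ⟩ := Ideal.exists_le_maximal I hI
  have hQp : Q.IsPrime := hQ.isPrime
  let M' : LocalSubring L := LocalSubring.ofPrime S.toSubring Q
  have hMM' : M ≤ M' := by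
    refine ⟨hMS.trans (LocalSubring.le_ofPrime ..), ((local_hom_TFAE _).out 2 0).mp ?_⟩
    conv_rhs => rw [← IsLocalization.AtPrime.map_eq_maximalIdeal Q]
    refine .trans ?_ (Ideal.map_mono hIQ)
    rw [Ideal.map_map]; rfl
  refine ⟨M', ?_, hMM', LocalSubring.le_ofPrime _ _ hxS⟩
  have hk' : ∀ c : k, algebraMap k L c ∈ M'.toSubring := fun c => hMM'.1 (hk c)
  refine ⟨hk', ?_⟩
  let _ : Algebra M.toSubring S.toSubring := (Subring.inclusion hMS).toAlgebra
  have hgen : Algebra.adjoin M.toSubring {(⟨x, hxS⟩ : S.toSubring)} = ⊤ := by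
    rw [eq_top_iff]
    rintro ⟨s, hs⟩ -
    have hs' : s ∈ Algebra.adjoin M.toSubring {x} := hs
    induction hs' using Algebra.adjoin_induction with
    | mem y hy =>
      rw [Set.mem_singleton_iff] at hy
      subst hy
      exact Algebra.self_mem_adjoin_singleton _ _
    | algebraMap b =>
      exact Subalgebra.algebraMap_mem _ b
    | add y z hy' hz' hy hz =>
      have := add_mem (hy hy') (hz hz')
      exact this
    | mul y z hy' hz' hy hz =>
      have := mul_mem (hy hy') (hz hz')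
      exact this
  have key := surjective_quot (k := k) (B := M.toSubring) (S := S.toSubring)
    ((algebraMap k L).codRestrict M.toSubring hk) hsurj ⟨x, hxS⟩ hgen Q hIQ
  intro z
  let e := IsLocalization.AtPrime.equivQuotMaximalIdeal Q M'.toSubring
  obtain ⟨c, hc⟩ := key (e.symm z)
  refine ⟨c, ?_⟩
  have h1 : e (e.symm z) = z := e.apply_symm_apply z
  rw [← hc] at h1
  rw [← h1]
  rfl

end Groth.Agent.H6.KP

namespace Groth.Agent.H6.KP

open IsLocalRing

variable {k L : Type u} [Field k] [Field L] [Algebra k L]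

theorem exists_chain_ub (s : Set (LocalSubring L)) (hs : s ⊆ {M | InT k M})
    (H : IsChain (· ≤ ·) s) (y : LocalSubring L) (hys : y ∈ s) :
    ∃ ub ∈ {M | InT k M}, ∀ z ∈ s, z ≤ ub := by
  have inst : Nonempty s := ⟨⟨y, hys⟩⟩
  have hdir := H.directed.mono_comp _ LocalSubring.toSubring_mono
  have hloc : IsLocalRing (⨆ i : s, i.1.toSubring : Subring L) := by
    refine ⟨?_⟩
    intro ⟨a, ha⟩ ⟨b, hb⟩ e
    obtain ⟨A, haA : a ∈ A.1.toSubring⟩ := (Subring.mem_iSup_of_directed hdir).mp ha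
    obtain ⟨B, hbB : b ∈ B.1.toSubring⟩ := (Subring.mem_iSup_of_directed hdir).mp hb
    obtain ⟨C, hCA, hCB⟩ := hdir A B
    refine (C.1.2.2 (a := ⟨a, hCA haA⟩) (b := ⟨b, hCB hbB⟩) (Subtype.ext congr(($e).1))).imp ?_ ?_
    · exact fun h ↦ h.map (Subring.inclusion (le_iSup (fun i : s ↦ i.1.toSubring) C))
    · exact fun h ↦ h.map (Subring.inclusion (le_iSup (fun i : s ↦ i.1.toSubring) C))
  let U : LocalSubring L := @LocalSubring.mk _ _ (⨆ i : s, i.1.toSubring) hloc
  have hub : ∀ z ∈ s, z ≤ U := by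
    intro A hA
    refine ⟨le_iSup (fun i : s ↦ i.1.toSubring) ⟨A, hA⟩, ⟨?_⟩⟩
    rintro ⟨a, haA⟩ h
    obtain ⟨⟨b, hb⟩, e⟩ := isUnit_iff_exists_inv.mp h
    obtain ⟨B, hbB : b ∈ B.1.toSubring⟩ := (Subring.mem_iSup_of_directed hdir).mp hb
    obtain ⟨C, hCA, hCB⟩ := H.directed ⟨A, hA⟩ B
    apply hCA.2.1
    exact isUnit_iff_exists_inv.mpr ⟨⟨b, hCB.1 hbB⟩, Subtype.ext congr(($e).1)⟩
  refine ⟨U, ?_, hub⟩
  obtain ⟨hky, -⟩ := hs hys
  have hkU : ∀ c : k, algebraMap k L c ∈ U.toSubring := fun c => (hub y hys).1 (hky c)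
  refine ⟨hkU, ?_⟩
  intro z
  obtain ⟨⟨u, hu⟩, rfl⟩ := residue_surjective z
  obtain ⟨A, huA : u ∈ A.1.toSubring⟩ := (Subring.mem_iSup_of_directed hdir).mp hu
  obtain ⟨hkA, hsurjA⟩ := hs A.2
  obtain ⟨c, hc⟩ := hsurjA (residue _ ⟨u, huA⟩)
  refine ⟨c, ?_⟩
  have h1 : (⟨u, huA⟩ : A.1.toSubring) - (algebraMap k L).codRestrict A.1.toSubring hkA c ∈
      maximalIdeal A.1.toSubring := by
    rw [← Ideal.Quotient.eq_zero_iff_mem]
    change residue _ (_ - _) = 0
    rw [map_sub, sub_eq_zero]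
    exact hc.symm
  obtain ⟨hAU1, hAU2⟩ := hub A.1 A.2
  have h2 : Subring.inclusion hAU1 ((⟨u, huA⟩ : A.1.toSubring) -
      (algebraMap k L).codRestrict A.1.toSubring hkA c) ∈ maximalIdeal U.toSubring := by
    rw [mem_maximalIdeal, mem_nonunits_iff]
    intro hunit
    exact h1 (hAU2.map_nonunit _ hunit)
  rw [← Ideal.Quotient.eq_zero_iff_mem] at h2
  change residue _ _ = 0 at h2
  rw [map_sub, map_sub, sub_eq_zero] at h2
  exact h2.symm

theorem exists_valuationSubring [IsAlgClosed k] (M₀ : LocalSubring L) (h₀ : InT k M₀) :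
    ∃ V : ValuationSubring L, M₀ ≤ V.toLocalSubring ∧ InT k V.toLocalSubring := by
  obtain ⟨M, hM₀M, hMmax⟩ := zorn_le_nonempty₀ {M : LocalSubring L | InT k M}
    (fun s hs H y hys => exists_chain_ub s hs H y hys) M₀ h₀
  have hmax : IsMax M := by
    intro N hMN
    have hsub : N.toSubring ≤ M.toSubring := by
      intro x hx
      obtain ⟨M', hM'T, hMM', hxM'⟩ := extend_step M N hMmax.prop hMN x hx
      have := hMmax.le_of_ge hM'T hMM'
      exact this.1 hxM'
    have : N = M := LocalSubring.toSubring_injective (le_antisymm hsub hMN.1)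
    exact this.le
  obtain ⟨V, hV⟩ := LocalSubring.exists_valuationRing_of_isMax hmax
  exact ⟨V, hV ▸ hM₀M, hV ▸ hMmax.prop⟩

end Groth.Agent.H6.KP
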