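import Groth.Agent.Lib.Helper6.KP2
set_option autoImplicit false
universe u
namespace Groth.Agent.H6.KP

open IsLocalRing

theorem inT_range {k L : Type u} [Field k] [Field L] [Algebra k L]
    {B : Type u} [CommRing B] [IsLocalRing B] (φ : B →+* L) (ι : k →+* B)
    (hι : ∀ c, φ (ι c) = algebraMap k L c)
    (hsurj : Function.Surjective ((residue B).comp ι)) :
    ∃ M₀ : LocalSubring L, (∀ b, φ b ∈ M₀.toSubring) ∧ InT k M₀ ∧
      ∀ z ∈ maximalIdeal B, ∀ (V : LocalSubring L), M₀ ≤ V → ∀ h : φ z ∈ V.toSubring,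
        (⟨φ z, h⟩ : V.toSubring) ∈ maximalIdeal V.toSubring := by
  have hloc : IsLocalRing φ.range :=
    IsLocalRing.of_surjective' φ.rangeRestrict φ.rangeRestrict_surjective
  have hlocφ : IsLocalHom φ.rangeRestrict :=
    IsLocalHom.of_surjective _ φ.rangeRestrict_surjective
  have hnonunit : ∀ z : B, z ∈ maximalIdeal B → φ.rangeRestrict z ∈ maximalIdeal φ.range := by
    intro z hz
    rw [mem_maximalIdeal, mem_nonunits_iff]
    intro hu
    exact hz (hlocφ.map_nonunit z hu)
  refine ⟨@LocalSubring.mk L _ φ.range hloc, fun b => ⟨b, rfl⟩, ?_, ?_⟩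
  · refine ⟨fun c => ⟨ι c, hι c⟩, ?_⟩
    intro z
    obtain ⟨⟨_, w, rfl⟩, rfl⟩ := residue_surjective z
    obtain ⟨c, hc⟩ := hsurj (residue B w)
    refine ⟨c, ?_⟩
    have h1 : w - ι c ∈ maximalIdeal B := by
      rw [← Ideal.Quotient.eq_zero_iff_mem]
      change residue B (w - ι c) = 0
      rw [map_sub, sub_eq_zero]
      exact hc.symm
    have h2 := (maximalIdeal φ.range).neg_mem (hnonunit _ h1)
    rw [RingHom.comp_apply]
    refine (Ideal.Quotient.eq).mpr ?_
    convert h2 using 1
    apply Subtype.ext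
    change algebraMap k L c - φ w = -(φ (w - ι c))
    rw [map_sub, hι, neg_sub]
  · intro z hz V hV h
    obtain ⟨hV1, hV2⟩ := hV
    rw [mem_maximalIdeal, mem_nonunits_iff]
    intro hu
    have h3 : IsUnit (Subring.inclusion hV1 (φ.rangeRestrict z)) := hu
    exact hnonunit z hz (hV2.map_nonunit _ h3)



/-- Valuative criterion for "y lies in the closure of the image of `Spec A₀ → Spec P`", with
residue field `k`. -/
theorem exists_valuationRing_point (k : Type u) [Field k] [IsAlgClosed k]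
    (P A₀ : Type u) [CommRing P] [CommRing A₀] [Algebra k P] [Algebra k A₀]
    (ω : P →ₐ[k] A₀) (yy : P →ₐ[k] k) (hy : RingHom.ker ω ≤ RingHom.ker yy) :
    ∃ (R : Type u) (_ : CommRing R) (_ : IsDomain R) (_ : ValuationRing R) (_ : Algebra k R)
      (res : R →ₐ[k] k) (Ξ : A₀ →ₐ[k] FractionRing R) (h : P →ₐ[k] R),
      RingHom.ker res = IsLocalRing.maximalIdeal R ∧
        (IsScalarTower.toAlgHom k R (FractionRing R)).comp h = Ξ.comp ω ∧
          res.comp h = yy := by
  -- the point y as a prime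
  let my : Ideal P := RingHom.ker yy
  have hmy : my.IsPrime := RingHom.ker_isPrime yy
  -- Step 1: a prime of A₀
  obtain ⟨q, -, hq, hqy⟩ := Ideal.exists_ideal_comap_le_prime (f := (ω : P →+* A₀)) my
    (⊥ : Ideal A₀) (by rw [← RingHom.ker_eq_comap_bot]; exact hy)
  -- Step 2
  let K₀ := FractionRing (A₀ ⧸ q)
  let Ξ₀ : A₀ →ₐ[k] K₀ := IsScalarTower.toAlgHom k A₀ K₀
  have hΞ₀ : ∀ a : A₀, Ξ₀ a = 0 ↔ a ∈ q := by
    intro a
    change algebraMap A₀ K₀ a = 0 ↔ _
    rw [IsScalarTower.algebraMap_apply A₀ (A₀ ⧸ q) K₀,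
      map_eq_zero_iff _ (IsFractionRing.injective (A₀ ⧸ q) K₀)]
    exact Ideal.Quotient.eq_zero_iff_mem
  -- Step 3
  let Pm := Localization.AtPrime my
  let g : P →+* K₀ := (Ξ₀.comp ω : P →ₐ[k] K₀)
  have hunits : ∀ s : my.primeCompl, IsUnit (g s) := by
    rintro ⟨s, hs⟩
    rw [isUnit_iff_ne_zero]
    intro h0
    exact hs (hqy ((hΞ₀ _).mp h0))
  let φ : Pm →+* K₀ := IsLocalization.lift hunits
  have hφ : ∀ f : P, φ (algebraMap P Pm f) = Ξ₀ (ω f) := fun f => IsLocalization.lift_eq hunits f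
  -- Step 4
  let ι : k →+* Pm := (algebraMap P Pm).comp (algebraMap k P)
  have hι : ∀ c, φ (ι c) = algebraMap k K₀ c := by
    intro c
    change φ (algebraMap P Pm (algebraMap k P c)) = _
    rw [hφ, AlgHom.commutes, AlgHom.commutes]
  have hmem : ∀ f : P, f ∈ my → algebraMap P Pm f ∈ maximalIdeal Pm := by
    intro f hf
    rw [← Ideal.mem_comap]
    change f ∈ (maximalIdeal Pm).under P
    rw [IsLocalization.AtPrime.under_maximalIdeal Pm my]
    exact hf
  have hsurj : Function.Surjective ((residue Pm).comp ι) := by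
    intro z
    obtain ⟨w, rfl⟩ := residue_surjective z
    obtain ⟨f, s, rfl⟩ := IsLocalization.exists_mk'_eq my.primeCompl w
    have hs0 : yy s ≠ 0 := fun h0 => s.2 (RingHom.mem_ker.mpr h0)
    refine ⟨yy f / yy s, ?_⟩
    rw [RingHom.comp_apply]
    refine (Ideal.Quotient.eq).mpr ?_
    have e1 : ι (yy f / yy s) - IsLocalization.mk' Pm f s =
        IsLocalization.mk' Pm (algebraMap k P (yy f / yy s) * s - f) s := by
      rw [IsLocalization.eq_mk'_iff_mul_eq, sub_mul, IsLocalization.mk'_spec, map_sub, map_mul]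
      rfl
    rw [e1, IsLocalization.AtPrime.mk'_mem_maximal_iff Pm my]
    change _ ∈ RingHom.ker yy
    rw [RingHom.mem_ker, map_sub, map_mul, AlgHom.commutes]
    change (yy f / yy s) * yy s - yy f = 0
    rw [div_mul_cancel₀ _ hs0, sub_self]
  obtain ⟨M₀, hM₀φ, hT₀, hM₀max⟩ := inT_range φ ι hι hsurj
  -- Step 5
  obtain ⟨V, hM₀V, hVT⟩ := exists_valuationSubring M₀ hT₀
  obtain ⟨hkV, hVsurj⟩ := hVT
  -- Step 6
  let R : Subring K₀ := V.toSubring
  have hRloc : IsLocalRing R := V.toLocalSubring.isLocalRing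
  have hRval : ValuationRing R := inferInstanceAs (ValuationRing V)
  have hRfrac : IsFractionRing R K₀ := inferInstanceAs (IsFractionRing V K₀)
  let ιV : k →+* R := (algebraMap k K₀).codRestrict R hkV
  let _ : Algebra k R := ιV.toAlgebra
  have hbij : Function.Bijective ((residue R).comp ιV) := ⟨RingHom.injective _, hVsurj⟩
  let e : k ≃+* ResidueField R := RingEquiv.ofBijective _ hbij
  let resR : R →+* k := (e.symm : ResidueField R →+* k).comp (residue R)
  let res : R →ₐ[k] k :=
    { resR with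
      commutes' := fun c => by
        change e.symm (residue R (ιV c)) = c
        exact e.symm_apply_apply c }
  have hres : ∀ r : R, res r = e.symm (residue R r) := fun r => rfl
  -- the point h
  have hmemV : ∀ f : P, Ξ₀ (ω f) ∈ R := by
    intro f
    rw [← hφ]
    exact hM₀V.1 (hM₀φ _)
  let hR : P →+* R := ((Ξ₀.comp ω : P →ₐ[k] K₀) : P →+* K₀).codRestrict R hmemV
  let h : P →ₐ[k] R :=
    { hR with
      commutes' := fun c => by
        apply Subtype.ext
        change Ξ₀ (ω (algebraMap k P c)) = algebraMap k K₀ c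
        rw [AlgHom.commutes, AlgHom.commutes] }
  have hh : ∀ f : P, ((h f : R) : K₀) = Ξ₀ (ω f) := fun f => rfl
  -- the point Ξ
  let E : FractionRing R ≃ₐ[R] K₀ := FractionRing.algEquiv R K₀
  let ΞR : A₀ →+* FractionRing R := (E.symm : K₀ →+* FractionRing R).comp (Ξ₀ : A₀ →+* K₀)
  let Ξ : A₀ →ₐ[k] FractionRing R :=
    { ΞR with
      commutes' := fun c => by
        change E.symm (Ξ₀ (algebraMap k A₀ c)) = algebraMap k (FractionRing R) c
        rw [AlgHom.commutes, IsScalarTower.algebraMap_apply k R (FractionRing R),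
          AlgEquiv.symm_apply_eq, AlgEquiv.commutes]
        rfl }
  refine ⟨R, inferInstance, inferInstance, hRval, inferInstance, res, Ξ, h, ?_, ?_, ?_⟩
  · ext r
    rw [RingHom.mem_ker]
    change e.symm (residue R r) = 0 ↔ _
    rw [map_eq_zero_iff _ e.symm.injective, residue_eq_zero_iff]
  · ext f
    change algebraMap R (FractionRing R) (h f) = E.symm (Ξ₀ (ω f))
    rw [AlgEquiv.eq_symm_apply, AlgEquiv.commutes]
    rfl
  · ext f
    change e.symm (residue R (h f)) = yy f
    rw [RingEquiv.symm_apply_eq]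
    change residue R (h f) = residue R (ιV (yy f))
    refine (Ideal.Quotient.eq).mpr ?_
    have hf : f - algebraMap k P (yy f) ∈ my := by
      change _ ∈ RingHom.ker yy
      rw [RingHom.mem_ker, map_sub, AlgHom.commutes]
      exact sub_self _
    have hmV : φ (algebraMap P Pm (f - algebraMap k P (yy f))) ∈ V.toLocalSubring.toSubring := by
      rw [hφ]; exact hmemV _
    have := hM₀max _ (hmem _ hf) V.toLocalSubring hM₀V hmV
    have e2 : h f - ιV (yy f) =
        (⟨φ (algebraMap P Pm (f - algebraMap k P (yy f))), hmV⟩ : R) := by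
      apply Subtype.ext
      change Ξ₀ (ω f) - algebraMap k K₀ (yy f) = φ _
      rw [hφ, map_sub, map_sub, AlgHom.commutes, AlgHom.commutes]
    rw [e2]
    exact this

end Groth.Agent.H6.KP
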