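import Mathlib

set_option autoImplicit false
universe u

namespace Groth.Agent.H6.KosExt

open ExteriorAlgebra

variable {R : Type u} [CommRing R] {M N : Type u} [AddCommGroup M] [Module R M]
  [AddCommGroup N] [Module R N]

/-- the Koszul differential: contraction with `θ`. -/
noncomputable abbrev D (θ : Module.Dual R M) : ExteriorAlgebra R M →ₗ[R] ExteriorAlgebra R M :=
  CliffordAlgebra.contractLeft (Q := (0 : QuadraticForm R M)) θ

lemma D_ι_mul (θ : Module.Dual R M) (a : M) (b : ExteriorAlgebra R M) :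
    D θ (ι R a * b) = θ a • b - ι R a * D θ b :=
  CliffordAlgebra.contractLeft_ι_mul θ a b

lemma D_algebraMap (θ : Module.Dual R M) (r : R) :
    D θ (algebraMap R (ExteriorAlgebra R M) r) = 0 :=
  CliffordAlgebra.contractLeft_algebraMap _ θ r

lemma D_D (θ : Module.Dual R M) (x : ExteriorAlgebra R M) : D θ (D θ x) = 0 :=
  CliffordAlgebra.contractLeft_contractLeft θ x

lemma D_ι (θ : Module.Dual R M) (m : M) :
    D θ (ι R m) = algebraMap R (ExteriorAlgebra R M) (θ m) :=
  CliffordAlgebra.contractLeft_ι _ θ m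

/-- naturality of contraction. -/
theorem D_map (f : M →ₗ[R] N) (θ : Module.Dual R N) (x : ExteriorAlgebra R M) :
    D θ (map f x) = map f (D (θ ∘ₗ f) x) := by
  induction x using CliffordAlgebra.left_induction with
  | algebraMap r =>
    rw [AlgHom.commutes, D_algebraMap, D_algebraMap, map_zero]
  | add x y hx hy => simp only [map_add, hx, hy]
  | ι_mul x m hx =>
    have h1 : map f (ι R m * x) = ι R (f m) * map f x := by
      rw [map_mul, map_apply_ι]
    rw [h1, D_ι_mul, hx]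
    have h2 : D (θ ∘ₗ f) (ι R m * x) = (θ ∘ₗ f) m • x - ι R m * D (θ ∘ₗ f) x := D_ι_mul _ _ _
    rw [h2, map_sub, map_smul, map_mul, map_apply_ι]
    rfl


lemma ι_mul_mem_pow (m : M) (k : ℕ) {x : ExteriorAlgebra R M} (hx : x ∈ ⋀[R]^k M) :
    ι R m * x ∈ ⋀[R]^(k + 1) M := by
  change _ ∈ (LinearMap.range (ι R)) ^ (k + 1)
  rw [pow_succ']
  exact Submodule.mul_mem_mul (LinearMap.mem_range_self _ m) hx

lemma map_mem_pow (f : M →ₗ[R] N) (k : ℕ) {x : ExteriorAlgebra R M} (hx : x ∈ ⋀[R]^k M) :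
    map f x ∈ ⋀[R]^k N := by
  have h1 : Submodule.map (map f).toLinearMap (⋀[R]^k M) ≤ ⋀[R]^k N := by
    change Submodule.map (map f).toLinearMap ((LinearMap.range (ι R)) ^ k) ≤
      (LinearMap.range (ι R)) ^ k
    rw [Submodule.map_pow, ι_range_map_map]
    refine pow_le_pow_left' ?_ k
    rintro _ ⟨y, _, rfl⟩
    exact LinearMap.mem_range_self _ _
  exact h1 ⟨x, hx, rfl⟩

lemma D_mem_pow_aux (θ : Module.Dual R M) (k : ℕ) {x : ExteriorAlgebra R M}
    (hx : x ∈ (LinearMap.range (ι R : M →ₗ[R] ExteriorAlgebra R M)) ^ k) :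
    D θ x ∈ ⋀[R]^(k - 1) M ∧ (k = 0 → D θ x = 0) := by
  induction hx using Submodule.pow_induction_on_left' with
  | algebraMap r =>
    rw [D_algebraMap]
    exact ⟨zero_mem _, fun _ => rfl⟩
  | add x y i hx hy ihx ihy =>
    refine ⟨?_, fun h => ?_⟩
    · rw [map_add]; exact add_mem ihx.1 ihy.1
    · rw [map_add, ihx.2 h, ihy.2 h, add_zero]
  | mem_mul m hm i x hx ih =>
    obtain ⟨a, rfl⟩ := hm
    refine ⟨?_, fun h => absurd h (Nat.succ_ne_zero i)⟩
    rw [D_ι_mul]
    have h1 : i.succ - 1 = i := rfl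
    rw [h1]
    refine sub_mem (Submodule.smul_mem _ _ hx) ?_
    rcases Nat.eq_zero_or_pos i with h0 | h0
    · rw [ih.2 h0, mul_zero]; exact zero_mem _
    · have := ι_mul_mem_pow a (i - 1) ih.1
      rwa [Nat.sub_add_cancel h0] at this

lemma D_mem_pow (θ : Module.Dual R M) (k : ℕ) {x : ExteriorAlgebra R M}
    (hx : x ∈ ⋀[R]^(k + 1) M) : D θ x ∈ ⋀[R]^k M :=
  (D_mem_pow_aux θ (k + 1) hx).1

lemma D_eq_zero_of_mem_zero (θ : Module.Dual R M) {x : ExteriorAlgebra R M}
    (hx : x ∈ ⋀[R]^0 M) : D θ x = 0 :=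
  (D_mem_pow_aux θ 0 hx).2 rfl

/-- `ℤ`-indexed grading of the exterior algebra. -/
noncomputable def grE (R : Type u) [CommRing R] (M : Type u) [AddCommGroup M] [Module R M] (j : ℤ) :
    Submodule R (ExteriorAlgebra R M) :=
  if 0 ≤ j then ⋀[R]^(j.toNat) M else ⊥

lemma grE_natCast (k : ℕ) : grE R M (k : ℤ) = ⋀[R]^k M := by
  simp [grE]

lemma grE_of_neg {j : ℤ} (hj : j < 0) : grE R M j = ⊥ := by
  simp [grE, not_le.2 hj]

lemma map_mem_grE (f : M →ₗ[R] N) (j : ℤ) {x : ExteriorAlgebra R M} (hx : x ∈ grE R M j) :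
    map f x ∈ grE R N j := by
  by_cases hj : 0 ≤ j
  · obtain ⟨k, rfl⟩ := Int.eq_ofNat_of_zero_le hj
    rw [grE_natCast] at hx ⊢
    exact map_mem_pow f k hx
  · rw [grE_of_neg (not_le.1 hj)] at hx ⊢
    rw [Submodule.mem_bot] at hx ⊢
    rw [hx, map_zero]

lemma D_mem_grE (θ : Module.Dual R M) (j : ℤ) {x : ExteriorAlgebra R M} (hx : x ∈ grE R M j) :
    D θ x ∈ grE R M (j - 1) := by
  by_cases hj : 0 ≤ j
  · obtain ⟨k, rfl⟩ := Int.eq_ofNat_of_zero_le hj
    rw [grE_natCast] at hx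
    cases k with
    | zero =>
      rw [D_eq_zero_of_mem_zero θ hx]; exact zero_mem _
    | succ k =>
      have : ((k + 1 : ℕ) : ℤ) - 1 = (k : ℤ) := by push_cast; ring
      rw [this, grE_natCast]
      exact D_mem_pow θ k hx
  · rw [grE_of_neg (not_le.1 hj), Submodule.mem_bot] at hx
    rw [hx, map_zero]; exact zero_mem _

lemma ι_mul_mem_grE (m : M) (j : ℤ) {x : ExteriorAlgebra R M} (hx : x ∈ grE R M j) :
    ι R m * x ∈ grE R M (j + 1) := by
  by_cases hj : 0 ≤ j
  · obtain ⟨k, rfl⟩ := Int.eq_ofNat_of_zero_le hj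
    rw [grE_natCast] at hx
    have : (k : ℤ) + 1 = ((k + 1 : ℕ) : ℤ) := by push_cast; ring
    rw [this, grE_natCast]
    exact ι_mul_mem_pow m k hx
  · rw [grE_of_neg (not_le.1 hj), Submodule.mem_bot] at hx
    rw [hx, mul_zero]; exact zero_mem _

/-- the image of the Koszul differential lies in `I • ⊤`, `I` the image of `θ`. -/
lemma D_mem_smul_top (θ : Module.Dual R M) (x : ExteriorAlgebra R M) :
    D θ x ∈ (LinearMap.range θ : Ideal R) • (⊤ : Submodule R (ExteriorAlgebra R M)) := by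
  induction x using CliffordAlgebra.left_induction with
  | algebraMap r => rw [D_algebraMap]; exact zero_mem _
  | add x y hx hy => rw [map_add]; exact add_mem hx hy
  | ι_mul x m hx =>
    rw [D_ι_mul]
    refine sub_mem (Submodule.smul_mem_smul (LinearMap.mem_range_self θ m) Submodule.mem_top) ?_
    have h1 : Submodule.map (LinearMap.mulLeft R (ι R m))
        ((LinearMap.range θ : Ideal R) • (⊤ : Submodule R (ExteriorAlgebra R M))) ≤
        (LinearMap.range θ : Ideal R) • (⊤ : Submodule R (ExteriorAlgebra R M)) := by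
      rw [Submodule.map_smul'']
      exact Submodule.smul_mono le_rfl le_top
    exact h1 ⟨_, hx, rfl⟩

end Groth.Agent.H6.KosExt
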