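import Mathlib

set_option autoImplicit false
universe u

namespace Groth.Agent.H6.KosExt

open ExteriorAlgebra

variable {R : Type u} [CommRing R] {M : Type u} [AddCommGroup M] [Module R M]

section top
variable {n : ℕ} (e : Module.Basis (Fin n) R M)

/-- the top form of a basis. -/
noncomputable def omega : ExteriorAlgebra R M := ιMulti R n e

lemma omega_mem : omega e ∈ ⋀[R]^n M :=
  ιMulti_range R n ⟨_, rfl⟩

lemma ιMulti_eq_det_smul (v : Fin n → M) : ιMulti R n v = e.det v • omega e := by
  have h : (ιMulti R n : M [⋀^Fin n]→ₗ[R] ExteriorAlgebra R M) =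
      (LinearMap.toSpanSingleton R _ (omega e)).compAlternatingMap e.det := by
    refine Module.Basis.ext_alternating e fun i h => ?_
    let σ : Equiv.Perm (Fin n) := Equiv.ofBijective i (Finite.injective_iff_bijective.1 h)
    change ιMulti R n (e ∘ σ) = (e.det (e ∘ σ)) • omega e
    rw [AlternatingMap.map_perm, AlternatingMap.map_perm, Module.Basis.det_self]
    simp [omega]
  rw [h]
  rfl

/-- the coefficient of the top form. -/
noncomputable def topCoeff : ExteriorAlgebra R M →ₗ[R] R :=
  liftAlternating (R := R) (M := M) (N := R)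
    (fun i => if h : i = n then h ▸ e.det else 0)

lemma topCoeff_ιMulti (v : Fin n → M) : topCoeff e (ιMulti R n v) = e.det v := by
  rw [topCoeff, liftAlternating_apply_ιMulti]
  simp

lemma topCoeff_omega : topCoeff e (omega e) = 1 := by
  rw [omega, topCoeff_ιMulti, Module.Basis.det_self]

lemma eq_topCoeff_smul {x : ExteriorAlgebra R M} (hx : x ∈ ⋀[R]^n M) :
    x = topCoeff e x • omega e := by
  rw [← ιMulti_span_fixedDegree R n] at hx
  induction hx using Submodule.span_induction with
  | mem x hx =>
    obtain ⟨v, rfl⟩ := hx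
    rw [topCoeff_ιMulti, ← ιMulti_eq_det_smul]
  | zero => simp
  | add x y _ _ hx hy => rw [map_add, add_smul, ← hx, ← hy]
  | smul a x _ hx => rw [map_smul, smul_assoc, ← hx]

lemma map_omega (f : M →ₗ[R] M) : map f (omega e) = LinearMap.det f • omega e := by
  rw [omega, map_apply_ιMulti, ιMulti_eq_det_smul e, Module.Basis.det_comp,
    Module.Basis.det_self, mul_one]
  rfl

end top

end Groth.Agent.H6.KosExt
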