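import Mathlib
import Groth.Agent.Lib.Helper6.KosExtA

set_option autoImplicit false
universe u

namespace Groth.Agent.H6.KosExt

open ExteriorAlgebra

variable {R : Type u} [CommRing R] {M : Type u} [AddCommGroup M] [Module R M]

section decomp
variable (R M)

/-- the inclusion `M → R × M`. -/
abbrev inc : M →ₗ[R] R × M := LinearMap.inr R R M
/-- the projection `R × M → M`. -/
abbrev prj : R × M →ₗ[R] M := LinearMap.snd R R M
/-- the first coordinate functional. -/
abbrev eps : Module.Dual R (R × M) := LinearMap.fst R R M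
/-- the new generator. -/
noncomputable abbrev e0 : ExteriorAlgebra R (R × M) := ι R ((1 : R), (0 : M))

/-- `(a, b) ↦ a + e₀ ∧ b`. -/
noncomputable def sig : (ExteriorAlgebra R M × ExteriorAlgebra R M) →ₗ[R] ExteriorAlgebra R (R × M) :=
  (map (inc R M)).toLinearMap.coprod ((LinearMap.mulLeft R (e0 R M)) ∘ₗ (map (inc R M)).toLinearMap)

/-- `y ↦ (π y, π (ε ⌋ y))`. -/
noncomputable def tau : ExteriorAlgebra R (R × M) →ₗ[R] (ExteriorAlgebra R M × ExteriorAlgebra R M) :=
  (map (prj R M)).toLinearMap.prod ((map (prj R M)).toLinearMap ∘ₗ D (eps R M))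

variable {R M}

lemma sig_apply (a b : ExteriorAlgebra R M) :
    sig R M (a, b) = map (inc R M) a + e0 R M * map (inc R M) b := by
  simp [sig]

lemma tau_apply (y : ExteriorAlgebra R (R × M)) :
    tau R M y = (map (prj R M) y, map (prj R M) (D (eps R M) y)) := rfl

lemma map_prj_map_inc (a : ExteriorAlgebra R M) : map (prj R M) (map (inc R M) a) = a := by
  have h : (map (prj R M)).comp (map (inc R M)) = AlgHom.id R _ := by
    rw [map_comp_map]
    have : (prj R M) ∘ₗ (inc R M) = LinearMap.id := by ext; simp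
    rw [this, map_id]
  exact congrArg (fun F : ExteriorAlgebra R M →ₐ[R] ExteriorAlgebra R M => F a) h

lemma D_eps_map_inc (a : ExteriorAlgebra R M) : D (eps R M) (map (inc R M) a) = 0 := by
  rw [D_map]
  have : (eps R M) ∘ₗ (inc R M) = 0 := by ext; simp
  rw [this]
  simp [D]

lemma tau_sig (p : ExteriorAlgebra R M × ExteriorAlgebra R M) : tau R M (sig R M p) = p := by
  obtain ⟨a, b⟩ := p
  rw [sig_apply, tau_apply]
  have h1 : map (prj R M) (e0 R M * map (inc R M) b) = 0 := by
    rw [map_mul, map_apply_ι]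
    simp
  have h2 : D (eps R M) (e0 R M * map (inc R M) b) = map (inc R M) b := by
    rw [D_ι_mul, D_eps_map_inc]
    simp
  rw [map_add, map_add, map_add, h1, h2, D_eps_map_inc, map_zero, map_prj_map_inc,
    map_prj_map_inc, add_zero, zero_add]

lemma e0_mul_e0 : e0 R M * e0 R M = 0 := ι_sq_zero _

lemma ι_eq (r : R) (m : M) :
    ι R ((r, m) : R × M) = r • e0 R M + ι R (inc R M m) := by
  rw [← map_smul, ← map_add]
  congr 1
  simp

lemma ι_inc_mul_e0 (m : M) : ι R (inc R M m) * e0 R M = - (e0 R M * ι R (inc R M m)) := by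
  rw [eq_neg_iff_add_eq_zero]
  exact ι_add_mul_swap _ _

lemma sig_surjective : Function.Surjective (sig R M) := by
  intro y
  induction y using CliffordAlgebra.left_induction with
  | algebraMap r =>
    refine ⟨(algebraMap R _ r, 0), ?_⟩
    rw [sig_apply, map_zero, mul_zero, add_zero, AlgHom.commutes]
  | add x y hx hy =>
    obtain ⟨p, rfl⟩ := hx
    obtain ⟨q, rfl⟩ := hy
    exact ⟨p + q, map_add _ _ _⟩
  | ι_mul x m hx =>
    obtain ⟨⟨a, b⟩, rfl⟩ := hx
    obtain ⟨r, m⟩ := m
    refine ⟨(ι R m * a, r • a - ι R m * b), ?_⟩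
    rw [sig_apply, sig_apply]
    change _ = ι R ((r, m) : R × M) * _
    rw [ι_eq, map_mul, map_sub, map_mul, map_smul, map_apply_ι, add_mul, mul_add, mul_add,
      smul_mul_assoc, smul_mul_assoc, ← mul_assoc (e0 R M) (e0 R M), e0_mul_e0, zero_mul, smul_zero,
      add_zero, ← mul_assoc (ι R _) (e0 R M), ι_inc_mul_e0, mul_sub, mul_smul_comm, neg_mul,
      mul_assoc]
    abel

/-- the decomposition `⋀(R × M) ≃ ⋀M × ⋀M`. -/
noncomputable def sigEquiv :
    (ExteriorAlgebra R M × ExteriorAlgebra R M) ≃ₗ[R] ExteriorAlgebra R (R × M) :=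
  LinearEquiv.ofBijective (sig R M)
    ⟨Function.LeftInverse.injective (g := tau R M) tau_sig, sig_surjective⟩

lemma sig_tau (y : ExteriorAlgebra R (R × M)) : sig R M (tau R M y) = y := by
  obtain ⟨p, rfl⟩ := sig_surjective y
  rw [tau_sig]

/-- the extended functional `(r, m) ↦ f r + θ m`. -/
noncomputable def thetaCons (f : R) (θ : Module.Dual R M) : Module.Dual R (R × M) :=
  LinearMap.coprod (f • LinearMap.id) θ

lemma thetaCons_apply (f : R) (θ : Module.Dual R M) (r : R) (m : M) :
    thetaCons f θ (r, m) = f * r + θ m := by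
  simp [thetaCons]

lemma D_sig (f : R) (θ : Module.Dual R M) (a b : ExteriorAlgebra R M) :
    D (thetaCons f θ) (sig R M (a, b)) = sig R M (D θ a + f • b, - D θ b) := by
  have h0 : (thetaCons f θ) ∘ₗ (inc R M) = θ := by
    ext m; simp [thetaCons]
  rw [sig_apply, sig_apply, map_add, D_ι_mul, D_map, D_map, h0, thetaCons_apply]
  simp only [mul_one, map_zero, add_zero, map_add, map_smul, map_neg, mul_neg]
  abel

lemma sig_mem_grE (j : ℤ) {a b : ExteriorAlgebra R M} (ha : a ∈ grE R M j)
    (hb : b ∈ grE R M (j - 1)) : sig R M (a, b) ∈ grE R (R × M) j := by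
  rw [sig_apply]
  refine add_mem (map_mem_grE _ j ha) ?_
  have := ι_mul_mem_grE ((1 : R), (0 : M)) (j - 1) (map_mem_grE (inc R M) (j - 1) hb)
  rwa [sub_add_cancel] at this

lemma tau_mem_grE (j : ℤ) {y : ExteriorAlgebra R (R × M)} (hy : y ∈ grE R (R × M) j) :
    (tau R M y).1 ∈ grE R M j ∧ (tau R M y).2 ∈ grE R M (j - 1) := by
  rw [tau_apply]
  exact ⟨map_mem_grE _ j hy, map_mem_grE _ (j - 1) (D_mem_grE _ j hy)⟩

end decomp

end Groth.Agent.H6.KosExt
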