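import Mathlib
import Groth.Agent.H4.KosLow
import Groth.Agent.Lib.Helper6.KosExtC

set_option autoImplicit false
universe u
open CategoryTheory CochainComplex HomComplex

namespace Groth.Agent.H6.KosExt

variable {R : Type u} [CommRing R]

/-- a graded model of a cochain complex inside a module with a differential. -/
def GM (K : CochainComplex (ModuleCat.{u} R) ℤ) {T : Type u} [AddCommGroup T] [Module R T]
    (Dm : T →ₗ[R] T) (gr : ℤ → Submodule R T) : Prop :=
  ∃ inn : ∀ i : ℤ, (K.X i) →ₗ[R] T,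
    (∀ i, Function.Injective (inn i)) ∧ (∀ i, LinearMap.range (inn i) = gr (-i)) ∧
    (∀ i x, Dm (inn i x) = inn (i + 1) ((K.d i (i + 1)).hom x))

/-- exactness transfers along a graded model. -/
theorem GM.exact {K : CochainComplex (ModuleCat.{u} R) ℤ} {T : Type u} [AddCommGroup T] [Module R T]
    {Dm : T →ₗ[R] T} {gr : ℤ → Submodule R T} (h : GM K Dm gr) (i : ℤ)
    (hex : Limits.IsZero (K.homology (i + 1))) (y : T) (hy : y ∈ gr (-(i + 1)))
    (hDy : Dm y = 0) : ∃ z ∈ gr (-i), Dm z = y := by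
  obtain ⟨inn, hinj, hrange, hD⟩ := h
  rw [← hrange] at hy
  obtain ⟨w, rfl⟩ := hy
  have hw : (K.d (i + 1) (i + 1 + 1)).hom w = 0 := by
    apply hinj (i + 1 + 1)
    rw [← hD, hDy, map_zero]
  have hex2 : K.ExactAt (i + 1) := by
    rw [HomologicalComplex.exactAt_iff_isZero_homology]; exact hex
  rw [HomologicalComplex.exactAt_iff' K i (i + 1) (i + 1 + 1) (by simp) (by simp),
    ShortComplex.moduleCat_exact_iff] at hex2
  obtain ⟨v, hv⟩ := hex2 w hw
  let v' : K.X i := v
  have hv' : (K.d i (i + 1)).hom v' = w := hv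
  refine ⟨inn i v', ?_, ?_⟩
  · rw [← hrange]; exact ⟨v', rfl⟩
  · rw [hD, hv']

/-- the cone differential on pairs. -/
def coneD {T : Type u} [AddCommGroup T] [Module R T] (Dm : T →ₗ[R] T) (f : R) :
    (T × T) →ₗ[R] (T × T) :=
  LinearMap.prod (Dm ∘ₗ LinearMap.fst R T T + f • LinearMap.snd R T T)
    (- (Dm ∘ₗ LinearMap.snd R T T))

lemma coneD_apply {T : Type u} [AddCommGroup T] [Module R T] (Dm : T →ₗ[R] T) (f : R) (a b : T) :
    coneD Dm f (a, b) = (Dm a + f • b, - Dm b) := rfl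

/-- the cone step for graded models. -/
theorem GM.cone {K : CochainComplex (ModuleCat.{u} R) ℤ} {T : Type u} [AddCommGroup T] [Module R T]
    {Dm : T →ₗ[R] T} {gr : ℤ → Submodule R T} (h : GM K Dm gr) (f : R) :
    GM (mappingCone (f • 𝟙 K : K ⟶ K)) (coneD Dm f)
      (fun j => (gr j).prod (gr (j - 1))) := by
  obtain ⟨inn, hinj, hrange, hD⟩ := h
  set φ : K ⟶ K := f • 𝟙 K with hφ
  let fst' : ∀ i : ℤ, (mappingCone φ).X i →ₗ[R] K.X (i + 1) := fun i =>
    ((mappingCone.fst φ).1.v i (i + 1) rfl).hom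
  let snd' : ∀ i : ℤ, (mappingCone φ).X i →ₗ[R] K.X i := fun i =>
    ((mappingCone.snd φ).v i i (add_zero i)).hom
  let inl' : ∀ i : ℤ, K.X (i + 1) →ₗ[R] (mappingCone φ).X i := fun i =>
    ((mappingCone.inl φ).v (i + 1) i (by omega)).hom
  let inr' : ∀ i : ℤ, K.X i →ₗ[R] (mappingCone φ).X i := fun i =>
    ((mappingCone.inr φ).f i).hom
  have e1 : ∀ i x, fst' i (inl' i x) = x := fun i x =>
    congrArg (fun ψ => ψ.hom x) (mappingCone.inl_v_fst_v φ (i + 1) i rfl)
  have e2 : ∀ i x, snd' i (inl' i x) = 0 := fun i x =>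
    congrArg (fun ψ => ψ.hom x) (mappingCone.inl_v_snd_v φ (i + 1) i (by omega))
  have e3 : ∀ i y, fst' i (inr' i y) = 0 := fun i y =>
    congrArg (fun ψ => ψ.hom y) (mappingCone.inr_f_fst_v φ i (i + 1) rfl)
  have e4 : ∀ i y, snd' i (inr' i y) = y := fun i y =>
    congrArg (fun ψ => ψ.hom y) (mappingCone.inr_f_snd_v φ i)
  have e5 : ∀ i z, inl' i (fst' i z) + inr' i (snd' i z) = z := fun i z =>
    congrArg (fun ψ => ψ.hom z) (mappingCone.id_X φ i (i + 1) rfl)
  have e6 : ∀ i z, fst' (i + 1) (((mappingCone φ).d i (i + 1)).hom z) =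
      - ((K.d (i + 1) (i + 1 + 1)).hom (fst' i z)) := fun i z =>
    congrArg (fun ψ => ψ.hom z) (mappingCone.d_fst_v φ i (i + 1) (i + 1 + 1) rfl rfl)
  have e7 : ∀ i z, snd' (i + 1) (((mappingCone φ).d i (i + 1)).hom z) =
      (φ.f (i + 1)).hom (fst' i z) + (K.d i (i + 1)).hom (snd' i z) := fun i z =>
    congrArg (fun ψ => ψ.hom z) (mappingCone.d_snd_v φ i (i + 1) rfl)
  refine ⟨fun i => LinearMap.prod (inn i ∘ₗ snd' i) (inn (i + 1) ∘ₗ fst' i), ?_, ?_, ?_⟩
  · intro i
    rw [← LinearMap.ker_eq_bot, LinearMap.ker_eq_bot']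
    intro z hz
    have h1 : inn i (snd' i z) = 0 := congrArg Prod.fst hz
    have h2 : inn (i + 1) (fst' i z) = 0 := congrArg Prod.snd hz
    have h3 : snd' i z = 0 := hinj i (by rw [h1, map_zero])
    have h4 : fst' i z = 0 := hinj (i + 1) (by rw [h2, map_zero])
    rw [← e5 i z, h3, h4, map_zero, map_zero, add_zero]
  · intro i
    ext ⟨a, b⟩
    constructor
    · rintro ⟨z, hz⟩
      have h1 : inn i (snd' i z) = a := congrArg Prod.fst hz
      have h2 : inn (i + 1) (fst' i z) = b := congrArg Prod.snd hz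
      refine ⟨?_, ?_⟩
      · change a ∈ gr (-i)
        rw [← hrange, ← h1]; exact ⟨_, rfl⟩
      · change b ∈ gr (-i - 1)
        have : -i - 1 = -(i + 1) := by ring
        rw [this, ← hrange, ← h2]; exact ⟨_, rfl⟩
    · rintro ⟨ha, hb⟩
      change a ∈ gr (-i) at ha
      change b ∈ gr (-i - 1) at hb
      have : -i - 1 = -(i + 1) := by ring
      rw [this, ← hrange] at hb
      rw [← hrange] at ha
      obtain ⟨u, rfl⟩ := ha
      obtain ⟨w, rfl⟩ := hb
      refine ⟨inl' i w + inr' i u, ?_⟩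
      change (inn i (snd' i (inl' i w + inr' i u)), inn (i + 1) (fst' i (inl' i w + inr' i u))) = _
      simp only [map_add, e1, e2, e3, e4, zero_add, add_zero]
  · intro i z
    change coneD Dm f (inn i (snd' i z), inn (i + 1) (fst' i z)) =
      (inn (i + 1) (snd' (i + 1) (((mappingCone φ).d i (i + 1)).hom z)),
        inn (i + 1 + 1) (fst' (i + 1) (((mappingCone φ).d i (i + 1)).hom z)))
    rw [coneD_apply, e6, e7, hD, hD, Groth.Agent.H4.KosLow.smul_id_f_apply, map_add, map_smul,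
      map_neg]
    rw [add_comm]

end Groth.Agent.H6.KosExt
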