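import Mathlib
import Groth.Prelude.Def_LCI2
import Groth.Agent.Lib.Helper6.KosExtD

set_option autoImplicit false
universe u
open CategoryTheory CochainComplex HomComplex

namespace Groth.Agent.H6.KosExt

open ExteriorAlgebra

variable {R : Type u} [CommRing R]

/-- transport of graded models along a linear equivalence. -/
theorem GM.transport {K : CochainComplex (ModuleCat.{u} R) ℤ} {T T' : Type u}
    [AddCommGroup T] [Module R T] [AddCommGroup T'] [Module R T']
    {Dm : T →ₗ[R] T} {gr : ℤ → Submodule R T} (h : GM K Dm gr)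
    (σ : T ≃ₗ[R] T') (Dm' : T' →ₗ[R] T') (gr' : ℤ → Submodule R T')
    (hσD : ∀ t, Dm' (σ t) = σ (Dm t)) (hgr : ∀ j, gr' j = (gr j).map (σ : T →ₗ[R] T')) :
    GM K Dm' gr' := by
  obtain ⟨inn, hinj, hrange, hD⟩ := h
  refine ⟨fun i => (σ : T →ₗ[R] T') ∘ₗ inn i, fun i => ?_, fun i => ?_, fun i x => ?_⟩
  · exact σ.injective.comp (hinj i)
  · rw [LinearMap.range_comp, hrange, hgr]
  · change Dm' (σ (inn i x)) = σ (inn (i + 1) _)
    rw [hσD, hD]

/-- transport along a linear equivalence of the underlying modules. -/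
theorem GM.mapEquiv {K : CochainComplex (ModuleCat.{u} R) ℤ} {M N : Type u}
    [AddCommGroup M] [Module R M] [AddCommGroup N] [Module R N] (c : M ≃ₗ[R] N)
    (θ : Module.Dual R N) (h : GM K (D (θ ∘ₗ (c : M →ₗ[R] N))) (grE R M)) :
    GM K (D θ) (grE R N) := by
  have h1 : ∀ x, map (c.symm : N →ₗ[R] M) (map (c : M →ₗ[R] N) x) = x := by
    intro x
    have : (map (c.symm : N →ₗ[R] M)).comp (map (c : M →ₗ[R] N)) = AlgHom.id R _ := by
      rw [map_comp_map]
      have : (c.symm : N →ₗ[R] M) ∘ₗ (c : M →ₗ[R] N) = LinearMap.id := by ext; simp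
      rw [this, map_id]
    exact congrArg (fun F : ExteriorAlgebra R M →ₐ[R] ExteriorAlgebra R M => F x) this
  have h2 : ∀ y, map (c : M →ₗ[R] N) (map (c.symm : N →ₗ[R] M) y) = y := by
    intro y
    have : (map (c : M →ₗ[R] N)).comp (map (c.symm : N →ₗ[R] M)) = AlgHom.id R _ := by
      rw [map_comp_map]
      have : (c : M →ₗ[R] N) ∘ₗ (c.symm : N →ₗ[R] M) = LinearMap.id := by ext; simp
      rw [this, map_id]
    exact congrArg (fun F : ExteriorAlgebra R N →ₐ[R] ExteriorAlgebra R N => F y) this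
  let σ : ExteriorAlgebra R M ≃ₗ[R] ExteriorAlgebra R N :=
    LinearEquiv.ofLinearMap (map (c : M →ₗ[R] N)).toLinearMap (map (c.symm : N →ₗ[R] M)).toLinearMap
      (LinearMap.ext h2) (LinearMap.ext h1)
  refine h.transport σ _ _ (fun t => ?_) (fun j => ?_)
  · exact D_map _ _ _
  · apply le_antisymm
    · intro y hy
      exact ⟨map (c.symm : N →ₗ[R] M) y, map_mem_grE _ j hy, h2 y⟩
    · rintro _ ⟨x, hx, rfl⟩
      exact map_mem_grE _ j hx

/-- the cone step in the exterior algebra. -/
theorem GM.extCone {K : CochainComplex (ModuleCat.{u} R) ℤ} {M : Type u}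
    [AddCommGroup M] [Module R M] (θ : Module.Dual R M) (f : R)
    (h : GM K (D θ) (grE R M)) :
    GM (mappingCone (f • 𝟙 K : K ⟶ K)) (D (thetaCons f θ)) (grE R (R × M)) := by
  refine (h.cone f).transport sigEquiv _ _ (fun t => ?_) (fun j => ?_)
  · obtain ⟨a, b⟩ := t
    change D (thetaCons f θ) (sig R M (a, b)) = sig R M (coneD (D θ) f (a, b))
    rw [coneD_apply, D_sig]
  · apply le_antisymm
    · intro y hy
      obtain ⟨h1, h2⟩ := tau_mem_grE j hy
      exact ⟨tau R M y, ⟨h1, h2⟩, sig_tau y⟩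
    · rintro _ ⟨⟨a, b⟩, ⟨ha, hb⟩, rfl⟩
      exact sig_mem_grE j ha hb

/-- the functional `v ↦ ∑ vᵢ Fᵢ`. -/
noncomputable def theta {n : ℕ} (F : Fin n → R) : Module.Dual R (Fin n → R) :=
  Fintype.linearCombination R F

lemma theta_apply {n : ℕ} (F : Fin n → R) (v : Fin n → R) : theta F v = ∑ i, v i * F i := by
  simp [theta, Fintype.linearCombination_apply]

lemma theta_single {n : ℕ} (F : Fin n → R) (i : Fin n) : theta F (Pi.single i 1) = F i := by
  classical
  rw [theta_apply, Finset.sum_eq_single i]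
  · simp
  · intro j _ hj; simp [hj]
  · intro h; exact absurd (Finset.mem_univ i) h

lemma range_theta {n : ℕ} (F : Fin n → R) :
    (LinearMap.range (theta F) : Ideal R) = Ideal.span (Set.range F) := by
  apply le_antisymm
  · rintro _ ⟨v, rfl⟩
    rw [theta_apply]
    exact Ideal.sum_mem _ fun i _ => Ideal.mul_mem_left _ _ (Ideal.subset_span ⟨i, rfl⟩)
  · rw [Ideal.span_le]
    rintro _ ⟨i, rfl⟩
    exact ⟨Pi.single i 1, theta_single F i⟩

lemma pow_eq_bot_of_subsingleton (M : Type u) [AddCommGroup M] [Module R M] [Subsingleton M]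
    (k : ℕ) : ⋀[R]^(k + 1) M = ⊥ := by
  have h : LinearMap.range (ι R : M →ₗ[R] ExteriorAlgebra R M) = ⊥ := by
    rw [eq_bot_iff]
    rintro _ ⟨m, rfl⟩
    rw [Subsingleton.elim m 0, map_zero]; exact zero_mem _
  change (LinearMap.range (ι R : M →ₗ[R] ExteriorAlgebra R M)) ^ (k + 1) = ⊥
  rw [h, pow_succ, Submodule.mul_bot]

/-- the base case. -/
theorem GM.base (M : Type u) [AddCommGroup M] [Module R M] [Subsingleton M] (θ : Module.Dual R M) :
    GM ((CochainComplex.singleFunctor (ModuleCat.{u} R) 0).obj (ModuleCat.of R R)) (D θ)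
      (grE R M) := by
  set K := (CochainComplex.singleFunctor (ModuleCat.{u} R) 0).obj (ModuleCat.of R R) with hK
  have hz : ∀ i : ℤ, i ≠ 0 → Limits.IsZero (K.X i) := fun i hi =>
    HomologicalComplex.isZero_single_obj_X (ComplexShape.up ℤ) 0 (ModuleCat.of R R) i hi
  let e0 : K.X 0 ≃ₗ[R] R :=
    (HomologicalComplex.singleObjXSelf (ComplexShape.up ℤ) 0 (ModuleCat.of R R)).toLinearEquiv
  let am : R →ₗ[R] ExteriorAlgebra R M := Algebra.linearMap R (ExteriorAlgebra R M)
  let inn0 : ∀ i : ℤ, K.X i →ₗ[R] ExteriorAlgebra R M := fun i =>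
    if h : i = 0 then by subst h; exact am ∘ₗ (e0 : K.X 0 →ₗ[R] R) else 0
  have hinn0 : inn0 0 = am ∘ₗ (e0 : K.X 0 →ₗ[R] R) := by
    simp only [inn0, dif_pos]
  have hinn1 : ∀ i, i ≠ 0 → inn0 i = 0 := fun i hi => by
    simp only [inn0, dif_neg hi]
  refine ⟨inn0, ?_, ?_, ?_⟩
  · intro i
    by_cases h : i = 0
    · subst h
      rw [hinn0]
      intro x y hxy
      have : am (e0 x) = am (e0 y) := hxy
      exact e0.injective ((algebraMap_leftInverse M).injective this)
    · haveI := ModuleCat.subsingleton_of_isZero (hz i h)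
      intro x y _; exact Subsingleton.elim _ _
  · intro i
    by_cases h : i = 0
    · subst h
      rw [hinn0]
      rw [neg_zero, show grE R M 0 = grE R M ((0 : ℕ) : ℤ) from rfl, grE_natCast]
      ext y
      constructor
      · rintro ⟨x, rfl⟩
        change am (e0 x) ∈ _
        change _ ∈ (LinearMap.range (ι R : M →ₗ[R] ExteriorAlgebra R M)) ^ 0
        rw [pow_zero, Submodule.mem_one]
        exact ⟨e0 x, rfl⟩
      · intro hy
        change y ∈ (LinearMap.range (ι R : M →ₗ[R] ExteriorAlgebra R M)) ^ 0 at hy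
        rw [pow_zero, Submodule.mem_one] at hy
        obtain ⟨r, rfl⟩ := hy
        exact ⟨e0.symm r, by change am (e0 (e0.symm r)) = _; rw [e0.apply_symm_apply]; rfl⟩
    · rw [hinn1 i h, LinearMap.range_zero]
      symm
      by_cases hi : 0 ≤ -i
      · obtain ⟨k, hk⟩ := Int.eq_ofNat_of_zero_le hi
        rw [hk, grE_natCast]
        cases k with
        | zero => exact absurd (by simpa using hk) h
        | succ k => exact pow_eq_bot_of_subsingleton M k
      · exact grE_of_neg (not_le.1 hi)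
  · intro i x
    by_cases h : i = 0
    · subst h
      haveI := ModuleCat.subsingleton_of_isZero (hz (0 + 1) (by norm_num))
      have h1 : (K.d 0 (0 + 1)).hom x = 0 := Subsingleton.elim _ _
      rw [h1, map_zero, hinn0]
      change D θ (am (e0 x)) = 0
      exact D_algebraMap θ _
    · haveI := ModuleCat.subsingleton_of_isZero (hz i h)
      rw [Subsingleton.elim x 0, map_zero, map_zero, map_zero, map_zero]


/-- the frozen Koszul complex is modelled by the exterior algebra. -/
theorem GM.koszul : ∀ (n : ℕ) (F : Fin n → R),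
    GM (Koszul.koszul R (List.ofFn F)) (D (theta F)) (grE R (Fin n → R))
  | 0, F => by
    rw [List.ofFn_zero]
    exact GM.base (Fin 0 → R) (theta F)
  | n + 1, F => by
    rw [List.ofFn_succ]
    have ih := GM.koszul n (fun i => F i.succ)
    have h1 := ih.extCone (theta fun i => F i.succ) (F 0)
    change GM (mappingCone (F 0 • 𝟙 (Koszul.koszul R (List.ofFn fun i => F i.succ)))) _ _
    refine GM.mapEquiv (Fin.consLinearEquiv R (fun _ : Fin (n + 1) => R)) (theta F) ?_
    have h2 : (theta F) ∘ₗ ((Fin.consLinearEquiv R (fun _ : Fin (n + 1) => R)) :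
        (R × (Fin n → R)) →ₗ[R] (Fin (n + 1) → R)) =
        thetaCons (F 0) (theta fun i => F i.succ) := by
      apply LinearMap.ext
      rintro ⟨r, v⟩
      rw [thetaCons_apply, theta_apply]
      change theta F (Fin.cons r v) = _
      rw [theta_apply, Fin.sum_univ_succ]
      simp [mul_comm]
    rw [h2]
    exact h1

/-- **Bridge**: a Koszul-regular sequence (frozen cone model) has exact exterior Koszul complex
in positive degrees. -/
theorem exact_of_koszulRegular {n : ℕ} (F : Fin n → R)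
    (h : LCI.IsKoszulRegularSeq R (List.ofFn F)) (k : ℕ) (y : ExteriorAlgebra R (Fin n → R))
    (hy : y ∈ ⋀[R]^(k + 1) (Fin n → R)) (hDy : D (theta F) y = 0) :
    ∃ z ∈ ⋀[R]^(k + 2) (Fin n → R), D (theta F) z = y := by
  have hG := GM.koszul n F
  have h1 : (-((k : ℤ) + 2) + 1) ≠ 0 := by omega
  have h2 : -(-((k : ℤ) + 2) + 1) = ((k + 1 : ℕ) : ℤ) := by push_cast; ring
  have h3 : -(-((k : ℤ) + 2)) = ((k + 2 : ℕ) : ℤ) := by push_cast; ring
  have := hG.exact (-((k : ℤ) + 2)) (h _ h1) y (by rw [h2, grE_natCast]; exact hy) hDy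
  rw [h3, grE_natCast] at this
  exact this

end Groth.Agent.H6.KosExt
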