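import Mathlib
import Groth.Agent.Lib.Helper6.KosExtA

set_option autoImplicit false
universe u
open CategoryTheory

namespace Groth.Agent.H6.KosExt

open ExteriorAlgebra

variable {R : Type u} [CommRing R] {M : Type u} [AddCommGroup M] [Module R M]

/-- the restricted Koszul differential. -/
noncomputable def dk (θ : Module.Dual R M) (k : ℕ) : ⋀[R]^(k + 1) M →ₗ[R] ⋀[R]^k M :=
  (D θ).restrict (fun _ hx => D_mem_pow θ k hx)

lemma dk_coe (θ : Module.Dual R M) (k : ℕ) (x : ⋀[R]^(k + 1) M) :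
    ((dk θ k x : ⋀[R]^k M) : ExteriorAlgebra R M) = D θ x := rfl

/-- the exterior Koszul complex as a chain complex. -/
noncomputable def EK (θ : Module.Dual R M) : ChainComplex (ModuleCat.{u} R) ℕ :=
  ChainComplex.of (fun k => ModuleCat.of R (⋀[R]^k M)) (fun k => ModuleCat.ofHom (dk θ k))
    (fun k => by
      apply ModuleCat.hom_ext
      apply LinearMap.ext
      intro x
      apply Subtype.ext
      change D θ (D θ x) = 0
      exact D_D θ _)

lemma EK_d (θ : Module.Dual R M) (k : ℕ) : (EK θ).d (k + 1) k = ModuleCat.ofHom (dk θ k) :=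
  by
  unfold EK
  exact ChainComplex.of_d (V := ModuleCat.{u} R) (fun k => ModuleCat.of R (⋀[R]^k M))
    (fun k => ModuleCat.ofHom (dk θ k)) k

/-- the ideal generated by the values of `θ`. -/
abbrev idl (θ : Module.Dual R M) : Ideal R := LinearMap.range θ

/-- the augmentation `⋀⁰ M → R ⧸ I`. -/
noncomputable def aug (θ : Module.Dual R M) : ⋀[R]^0 M →ₗ[R] R ⧸ idl θ :=
  (Submodule.mkQ (idl θ)) ∘ₗ (algebraMapInv (R := R) (M := M)).toLinearMap ∘ₗ
    (⋀[R]^0 M).subtype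

lemma mem_pow_zero {x : ExteriorAlgebra R M} (hx : x ∈ ⋀[R]^0 M) :
    ∃ r : R, x = algebraMap R _ r := by
  change x ∈ (LinearMap.range (ι R : M →ₗ[R] ExteriorAlgebra R M)) ^ 0 at hx
  rw [pow_zero, Submodule.mem_one] at hx
  obtain ⟨r, rfl⟩ := hx
  exact ⟨r, rfl⟩

lemma algebraMap_mem_pow_zero (r : R) : algebraMap R (ExteriorAlgebra R M) r ∈ ⋀[R]^0 M := by
  change _ ∈ (LinearMap.range (ι R : M →ₗ[R] ExteriorAlgebra R M)) ^ 0
  rw [pow_zero, Submodule.mem_one]
  exact ⟨r, rfl⟩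

lemma mem_pow_one {x : ExteriorAlgebra R M} (hx : x ∈ ⋀[R]^1 M) :
    ∃ m : M, x = ι R m := by
  change x ∈ (LinearMap.range (ι R : M →ₗ[R] ExteriorAlgebra R M)) ^ 1 at hx
  rw [pow_one] at hx
  obtain ⟨m, rfl⟩ := hx
  exact ⟨m, rfl⟩

lemma ι_mem_pow_one (m : M) : ι R m ∈ ⋀[R]^1 M := by
  change _ ∈ (LinearMap.range (ι R : M →ₗ[R] ExteriorAlgebra R M)) ^ 1
  rw [pow_one]
  exact ⟨m, rfl⟩

lemma aug_apply_algebraMap (θ : Module.Dual R M) (r : R) :
    aug θ ⟨algebraMap R _ r, algebraMap_mem_pow_zero r⟩ = Submodule.Quotient.mk r := by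
  change Submodule.Quotient.mk (algebraMapInv (algebraMap R (ExteriorAlgebra R M) r)) = _
  rw [AlgHom.commutes]
  rfl

lemma aug_surjective (θ : Module.Dual R M) : Function.Surjective (aug θ) := by
  intro q
  obtain ⟨r, rfl⟩ := Submodule.Quotient.mk_surjective _ q
  exact ⟨_, aug_apply_algebraMap θ r⟩

lemma aug_dk (θ : Module.Dual R M) (x : ⋀[R]^1 M) : aug θ (dk θ 0 x) = 0 := by
  obtain ⟨x, hx⟩ := x
  obtain ⟨m, rfl⟩ := mem_pow_one hx
  have h1 : dk θ 0 ⟨ι R m, hx⟩ = ⟨algebraMap R _ (θ m), algebraMap_mem_pow_zero _⟩ := by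
    apply Subtype.ext
    change D θ (ι R m) = _
    rw [D_ι]
  rw [h1, aug_apply_algebraMap, Submodule.Quotient.mk_eq_zero]
  exact ⟨m, rfl⟩

lemma ker_aug (θ : Module.Dual R M) (y : ⋀[R]^0 M) (hy : aug θ y = 0) :
    ∃ x : ⋀[R]^1 M, dk θ 0 x = y := by
  obtain ⟨y, hy0⟩ := y
  obtain ⟨r, rfl⟩ := mem_pow_zero hy0
  rw [aug_apply_algebraMap, Submodule.Quotient.mk_eq_zero] at hy
  obtain ⟨m, hm⟩ := hy
  refine ⟨⟨ι R m, ι_mem_pow_one m⟩, ?_⟩
  apply Subtype.ext
  change D θ (ι R m) = _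
  rw [D_ι, hm]


/-- exactness of the exterior Koszul complex in positive degrees. -/
def ExactPos (θ : Module.Dual R M) : Prop :=
  ∀ (k : ℕ) (y : ExteriorAlgebra R M), y ∈ ⋀[R]^(k + 1) M → D θ y = 0 →
    ∃ z ∈ ⋀[R]^(k + 2) M, D θ z = y

lemma EK_exactAt_succ (θ : Module.Dual R M) (h : ExactPos θ) (k : ℕ) :
    (EK θ).ExactAt (k + 1) := by
  rw [HomologicalComplex.exactAt_iff' (EK θ) (k + 2) (k + 1) k (by simp) (by simp),
    ShortComplex.moduleCat_exact_iff]
  intro x hx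
  have hx' : (ModuleCat.ofHom (dk θ k)).hom x = 0 := by
    rw [← EK_d]; exact hx
  let x' : ⋀[R]^(k + 1) M := x
  have hx'' : D θ (x' : ExteriorAlgebra R M) = 0 := congrArg Subtype.val hx'
  obtain ⟨z, hz, hzx⟩ := h k x' x'.2 hx''
  refine ⟨(⟨z, hz⟩ : ⋀[R]^(k + 2) M), ?_⟩
  have : (ModuleCat.ofHom (dk θ (k + 1))).hom (⟨z, hz⟩ : ⋀[R]^(k + 2) M) = x' :=
    Subtype.ext hzx
  rw [← EK_d] at this
  exact this

/-- the augmentation as a morphism in `ModuleCat`. -/
noncomputable def augHom (θ : Module.Dual R M) :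
    (EK θ).X 0 ⟶ ModuleCat.of R (R ⧸ idl θ) :=
  ModuleCat.ofHom (aug θ)

lemma EK_d_apply (θ : Module.Dual R M) (k : ℕ) (x : ⋀[R]^(k + 1) M) :
    ((EK θ).d (k + 1) k).hom x = dk θ k x := by
  rw [EK_d]; rfl

lemma EK_d_comp_aug (θ : Module.Dual R M) :
    (EK θ).d 1 0 ≫ augHom θ = 0 := by
  apply ModuleCat.hom_ext
  apply LinearMap.ext
  intro x
  change aug θ (((EK θ).d 1 0).hom x) = 0
  rw [EK_d_apply θ 0 x]
  exact aug_dk θ x

/-- the augmentation as a morphism of complexes. -/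
noncomputable def EKπ (θ : Module.Dual R M) :
    EK θ ⟶ (ChainComplex.single₀ (ModuleCat.{u} R)).obj (ModuleCat.of R (R ⧸ idl θ)) :=
  (ChainComplex.toSingle₀Equiv _ _).symm ⟨augHom θ, EK_d_comp_aug θ⟩

lemma EKπ_f_zero (θ : Module.Dual R M) : (EKπ θ).f 0 = augHom θ :=
  ChainComplex.toSingle₀Equiv_symm_apply_f_zero _ _

lemma EKπ_quasiIso (θ : Module.Dual R M) (h : ExactPos θ) : QuasiIso (EKπ θ) := by
  have hex : (ShortComplex.mk ((EK θ).d 1 0) (augHom θ) (EK_d_comp_aug θ)).Exact := by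
    rw [ShortComplex.moduleCat_exact_iff]
    intro y hy
    obtain ⟨x, hx⟩ := ker_aug θ y hy
    exact ⟨x, (EK_d_apply θ 0 x).trans hx⟩
  have hepi : Epi (augHom θ) := (ModuleCat.epi_iff_surjective _).2 (aug_surjective θ)
  refine ⟨fun n => ?_⟩
  cases n with
  | zero =>
    rw [ChainComplex.quasiIsoAt₀_iff, ShortComplex.quasiIso_iff_of_zeros']
    · refine (ShortComplex.exact_and_epi_g_iff_of_iso ?_).2 ⟨hex, hepi⟩
      exact ShortComplex.isoMk (Iso.refl _) (Iso.refl _) (Iso.refl _)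
        ((Category.id_comp _).trans (Category.comp_id _).symm)
        (by
          have h : ((HomologicalComplex.shortComplexFunctor' (ModuleCat.{u} R)
              (ComplexShape.down ℕ) 1 0 0).map (EKπ θ)).τ₂ = augHom θ :=
            EKπ_f_zero θ
          dsimp only [Iso.refl_hom]
          erw [Category.id_comp])
    · exact (EK θ).shape _ _ (by simp)
    · rfl
    · rfl
  | succ n =>
    rw [quasiIsoAt_iff_exactAt']
    · exact EK_exactAt_succ θ h n
    · apply ChainComplex.exactAt_succ_single_obj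

/-- the exterior Koszul resolution. -/
noncomputable def projRes [Module.Free R M] [Module.Finite R M] (θ : Module.Dual R M)
    (h : ExactPos θ) :
    ProjectiveResolution (ModuleCat.of R (R ⧸ idl θ)) where
  complex := EK θ
  projective := fun k => by
    change Projective (ModuleCat.of R (⋀[R]^k M))
    rw [← IsProjective.iff_projective]
    infer_instance
  π := EKπ θ
  quasiIso := EKπ_quasiIso θ h

end Groth.Agent.H6.KosExt
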