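import Mathlib
import Groth.Agent.Lib.Helper6.KosExtB
import Groth.Agent.Lib.Helper6.KosExtE
import Groth.Agent.Lib.Helper6.KosExtF

set_option autoImplicit false
universe u
open CategoryTheory

namespace Groth.Agent.H6.KosExt

open ExteriorAlgebra

variable {R : Type u} [CommRing R] {M : Type u} [AddCommGroup M] [Module R M]

/-- the restriction of `map f` to the `k`-th exterior power. -/
noncomputable def mapk (f : M →ₗ[R] M) (k : ℕ) : ⋀[R]^k M →ₗ[R] ⋀[R]^k M :=
  (map f).toLinearMap.restrict (fun _ hx => map_mem_pow f k hx)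

lemma mapk_coe (f : M →ₗ[R] M) (k : ℕ) (x : ⋀[R]^k M) :
    ((mapk f k x : ⋀[R]^k M) : ExteriorAlgebra R M) = map f x := rfl

/-- the chain map induced by a linear map compatible with the functionals. -/
noncomputable def EKmap (f : M →ₗ[R] M) (θ θ' : Module.Dual R M) (h : θ' ∘ₗ f = θ) :
    EK θ ⟶ EK θ' :=
  ChainComplex.ofHom (fun k => (ModuleCat.ofHom (mapk f k) : (EK θ).X k ⟶ (EK θ').X k))
    (fun k => by
      apply ModuleCat.hom_ext
      apply LinearMap.ext
      intro x
      let x' : ⋀[R]^(k + 1) M := x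
      change ((EK θ').d (k + 1) k).hom (mapk f (k + 1) x') = mapk f k (((EK θ).d (k + 1) k).hom x')
      rw [EK_d_apply, EK_d_apply]
      apply Subtype.ext
      change D θ' (map f x') = map f (D θ x')
      rw [D_map, h])

lemma EKmap_f_apply (f : M →ₗ[R] M) (θ θ' : Module.Dual R M) (h : θ' ∘ₗ f = θ) (k : ℕ)
    (x : ⋀[R]^k M) : ((EKmap f θ θ' h).f k).hom x = mapk f k x := rfl

/-- linear functionals map `I • ⊤` into `I`. -/
lemma functional_mem {N : Type u} [AddCommGroup N] [Module R N] (I : Ideal R) (L : N →ₗ[R] R)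
    {y : N} (hy : y ∈ I • (⊤ : Submodule R N)) : L y ∈ I := by
  refine Submodule.smul_induction_on hy (fun r hr n _ => ?_) (fun x y hx hy => ?_)
  · rw [map_smul]; exact Ideal.mul_mem_right _ _ hr
  · rw [map_add]; exact add_mem hx hy

/-- the projection to the `k`-th exterior power. -/
noncomputable def retr (k : ℕ) : ExteriorAlgebra R M →ₗ[R] ⋀[R]^k M :=
  (DirectSum.component R ℕ (fun i => ⋀[R]^i M) k) ∘ₗ
    (DirectSum.decomposeLinearEquiv (fun i : ℕ => ⋀[R]^i M)).toLinearMap

lemma retr_of_mem (k : ℕ) {x : ExteriorAlgebra R M} (hx : x ∈ ⋀[R]^k M) :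
    retr k x = ⟨x, hx⟩ := by
  apply Subtype.ext
  exact DirectSum.decompose_of_mem_same (fun i : ℕ => ⋀[R]^i M) hx


lemma theta_comp_toLin' {n : ℕ} (F g : Fin n → R) (C : Matrix (Fin n) (Fin n) R)
    (hC : ∀ i, F i = ∑ j, C i j * g j) :
    (theta g) ∘ₗ (Matrix.toLin' C.transpose) = theta F := by
  apply LinearMap.ext
  intro v
  change theta g (Matrix.toLin' C.transpose v) = theta F v
  rw [theta_apply, theta_apply]
  simp only [Matrix.toLin'_apply, Matrix.mulVec, dotProduct, Matrix.transpose_apply]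
  simp_rw [hC, Finset.mul_sum, Finset.sum_mul]
  rw [Finset.sum_comm]
  refine Finset.sum_congr rfl fun i _ => Finset.sum_congr rfl fun j _ => ?_
  ring

/-- **Wiebe's theorem** (membership form) for exterior-exact sequences. -/
theorem wiebe_aux {n : ℕ} (F g : Fin n → R) (C : Matrix (Fin n) (Fin n) R)
    (hC : ∀ i, F i = ∑ j, C i j * g j) (hF : ExactPos (theta F)) (hg : ExactPos (theta g))
    (x : R) (hx : ∀ j, x * g j ∈ Ideal.span (Set.range F)) :
    ∃ y, x - y * C.det ∈ Ideal.span (Set.range F) := by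
  cases n with
  | zero =>
    refine ⟨x, ?_⟩
    rw [Matrix.det_isEmpty, mul_one, sub_self]
    exact zero_mem _
  | succ m =>
  let e : Module.Basis (Fin (m + 1)) R (Fin (m + 1) → R) := Pi.basisFun R (Fin (m + 1))
  let Clin : (Fin (m + 1) → R) →ₗ[R] (Fin (m + 1) → R) := Matrix.toLin' C.transpose
  have hcomp : (theta g) ∘ₗ Clin = theta F := theta_comp_toLin' F g C hC
  have hdet : LinearMap.det Clin = C.det := by
    rw [LinearMap.det_toLin', Matrix.det_transpose]
  let PF := projRes (theta F) hF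
  let Pg := projRes (theta g) hg
  let Φ : PF.complex ⟶ Pg.complex := EKmap Clin (theta F) (theta g) hcomp
  have hIF : idl (theta F) = Ideal.span (Set.range F) := range_theta F
  have hIg : idl (theta g) = Ideal.span (Set.range g) := range_theta g
  have hFg : idl (theta F) ≤ idl (theta g) := by
    rw [hIF, hIg, Ideal.span_le]
    rintro _ ⟨i, rfl⟩
    rw [hC]
    exact Ideal.sum_mem _ fun j _ => Ideal.mul_mem_left _ _ (Ideal.subset_span ⟨j, rfl⟩)
  have hxg : idl (theta g) ≤ Submodule.comap (x • (LinearMap.id : R →ₗ[R] R)) (idl (theta F)) := by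
    rw [hIg, hIF]
    change Ideal.span (Set.range g) ≤ _
    rw [Ideal.span_le]
    rintro _ ⟨j, rfl⟩
    exact hx j
  let pr : (R ⧸ idl (theta F)) →ₗ[R] (R ⧸ idl (theta g)) :=
    Submodule.mapQ (idl (theta F)) (idl (theta g)) LinearMap.id hFg
  let mx : (R ⧸ idl (theta g)) →ₗ[R] (R ⧸ idl (theta F)) :=
    Submodule.mapQ (idl (theta g)) (idl (theta F)) (x • LinearMap.id) hxg
  have hmxpr : mx ∘ₗ pr = x • LinearMap.id := by
    apply LinearMap.ext
    intro q
    obtain ⟨r, rfl⟩ := Submodule.Quotient.mk_surjective _ q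
    rfl
  let ψ : Pg.complex ⟶ PF.complex := Pg.lift (ModuleCat.ofHom mx) PF
  have hψ : ψ ≫ PF.π = Pg.π ≫ (ChainComplex.single₀ _).map (ModuleCat.ofHom mx) :=
    ProjectiveResolution.lift_commutes _ _ _
  have hΦ : Φ ≫ Pg.π = PF.π ≫ (ChainComplex.single₀ _).map (ModuleCat.ofHom pr) := by
    apply HomologicalComplex.to_single_hom_ext
    rw [HomologicalComplex.comp_f, HomologicalComplex.comp_f]
    change Φ.f 0 ≫ (EKπ (theta g)).f 0 = (EKπ (theta F)).f 0 ≫ _
    rw [EKπ_f_zero, EKπ_f_zero, ChainComplex.single₀_map_f_zero]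
    apply ModuleCat.hom_ext
    apply LinearMap.ext
    intro y
    let y' : ⋀[R]^0 (Fin (m + 1) → R) := y
    change aug (theta g) (mapk Clin 0 y') = pr (aug (theta F) y')
    obtain ⟨y0, hy0⟩ := y'
    obtain ⟨r, rfl⟩ := mem_pow_zero hy0
    have h1 : mapk Clin 0 ⟨algebraMap R _ r, hy0⟩ =
        ⟨algebraMap R _ r, algebraMap_mem_pow_zero r⟩ := by
      apply Subtype.ext
      change map Clin (algebraMap R _ r) = _
      rw [AlgHom.commutes]
    rw [h1, aug_apply_algebraMap, aug_apply_algebraMap]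
    rfl
  have comm1 : (Φ ≫ ψ) ≫ PF.π =
      PF.π ≫ (ChainComplex.single₀ _).map (ModuleCat.ofHom (x • LinearMap.id)) := by
    rw [Category.assoc, hψ, ← Category.assoc, hΦ, Category.assoc, ← Functor.map_comp,
      ← ModuleCat.ofHom_comp, hmxpr]
  have comm2 : (x • 𝟙 PF.complex) ≫ PF.π =
      PF.π ≫ (ChainComplex.single₀ _).map (ModuleCat.ofHom (x • LinearMap.id)) := by
    apply HomologicalComplex.to_single_hom_ext
    rw [HomologicalComplex.comp_f, HomologicalComplex.comp_f, ChainComplex.single₀_map_f_zero]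
    apply ModuleCat.hom_ext
    apply LinearMap.ext
    intro y
    change (PF.π.f 0).hom ((x • 𝟙 PF.complex : PF.complex ⟶ PF.complex).f 0 |>.hom y) =
      x • (PF.π.f 0).hom y
    rw [HomologicalComplex.smul_f_apply, HomologicalComplex.id_f]
    change (PF.π.f 0).hom (x • y) = _
    rw [map_smul]
  let H : Homotopy (Φ ≫ ψ) (x • 𝟙 PF.complex) :=
    ProjectiveResolution.liftHomotopy (P := PF) (Q := PF)
      (ModuleCat.ofHom (x • LinearMap.id)) (Φ ≫ ψ) (x • 𝟙 PF.complex) comm1 comm2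
  have hcomm := H.comm (m + 1)
  rw [Homotopy.dNext_succ_chainComplex, Homotopy.prevD_chainComplex] at hcomm
  -- evaluate at the top form
  let W (k : ℕ) := ⋀[R]^k (Fin (m + 1) → R)
  let ω' : W (m + 1) := ⟨omega e, omega_mem e⟩
  let topS : W (m + 1) →ₗ[R] R := (topCoeff e) ∘ₗ (W (m + 1)).subtype
  let ψL : W (m + 1) →ₗ[R] W (m + 1) := (ψ.f (m + 1)).hom
  let ΦL : W (m + 1) →ₗ[R] W (m + 1) := (Φ.f (m + 1)).hom
  let h1L : W m →ₗ[R] W (m + 1) := (H.hom m (m + 1)).hom
  let h2L : W (m + 1) →ₗ[R] W (m + 1 + 1) := (H.hom (m + 1) (m + 1 + 1)).hom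
  let d1 : W (m + 1) →ₗ[R] W m := (PF.complex.d (m + 1) m).hom
  let d2 : W (m + 1 + 1) →ₗ[R] W (m + 1) := (PF.complex.d (m + 1 + 1) (m + 1)).hom
  have hev : ψL (ΦL ω') = h1L (d1 ω') + d2 (h2L ω') + x • ω' := by
    have := congrArg (fun φ => φ.hom ω') hcomm
    exact this
  have hd1 : ∀ z : W (m + 1), d1 z = dk (theta F) m z := fun z => EK_d_apply (theta F) m z
  have hd2 : ∀ z : W (m + 1 + 1), d2 z = dk (theta F) (m + 1) z :=
    fun z => EK_d_apply (theta F) (m + 1) z
  have hΦω : ΦL ω' = C.det • ω' := by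
    change mapk Clin (m + 1) ω' = _
    apply Subtype.ext
    change map Clin (omega e) = C.det • omega e
    rw [map_omega, hdet]
  have ha : topS (h1L (d1 ω')) ∈ idl (theta F) := by
    rw [hd1]
    have h1 : dk (theta F) m ω' = retr m (D (theta F) (omega e)) :=
      (retr_of_mem m (D_mem_pow (theta F) m (omega_mem e))).symm
    rw [h1]
    exact functional_mem (idl (theta F))
      (topS ∘ₗ h1L ∘ₗ retr m) (D_mem_smul_top (theta F) (omega e))
  have hb : topS (d2 (h2L ω')) ∈ idl (theta F) := by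
    rw [hd2]
    change topCoeff e (D (theta F) _) ∈ _
    exact functional_mem (idl (theta F)) (topCoeff e) (D_mem_smul_top (theta F) _)
  have hc : topS (x • ω') = x := by
    rw [map_smul]
    change x • topCoeff e (omega e) = x
    rw [topCoeff_omega, smul_eq_mul, mul_one]
  have hev2 := congrArg topS hev
  rw [hΦω, map_smul, map_smul, map_add, map_add, hc, smul_eq_mul] at hev2
  refine ⟨topS (ψL ω'), ?_⟩
  rw [← hIF]
  have : x - topS (ψL ω') * C.det = - (topS (h1L (d1 ω')) + topS (d2 (h2L ω'))) := by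
    rw [mul_comm, hev2]; ring
  rw [this]
  exact neg_mem (add_mem ha hb)

end Groth.Agent.H6.KosExt
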