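import Mathlib
import Groth.Prelude.Def_LCI2
import Groth.Agent.H4.KosBC
import Groth.Agent.Lib.Helper6.KosExtG

set_option autoImplicit false
universe u
open TensorProduct

namespace Groth.Agent.H6.KosExt

variable {R : Type u} [CommRing R]

/-- **Wiebe's theorem** for Koszul-regular sequences (frozen cone model). -/
theorem wiebe {n : ℕ} (F g : Fin n → R) (C : Matrix (Fin n) (Fin n) R)
    (hC : ∀ i, F i = ∑ j, C i j * g j) (hF : LCI.IsKoszulRegularSeq R (List.ofFn F))
    (hg : LCI.IsKoszulRegularSeq R (List.ofFn g))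
    (x : R) (hx : ∀ j, x * g j ∈ Ideal.span (Set.range F)) :
    ∃ y, x - y * C.det ∈ Ideal.span (Set.range F) :=
  wiebe_aux F g C hC (fun k y hy hD => exact_of_koszulRegular F hF k y hy hD)
    (fun k y hy hD => exact_of_koszulRegular g hg k y hy hD) x hx

/-- Cramer: `det C • g ⊆ (F)`. -/
lemma det_mul_mem {n : ℕ} (F g : Fin n → R) (C : Matrix (Fin n) (Fin n) R)
    (hC : ∀ i, F i = ∑ j, C i j * g j) (j : Fin n) :
    C.det * g j ∈ Ideal.span (Set.range F) := by
  have h1 : C.mulVec g = F := by
    funext i; rw [hC]; rfl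
  have h2 : C.adjugate.mulVec F = C.det • g := by
    rw [← h1, Matrix.mulVec_mulVec, Matrix.adjugate_mul, Matrix.smul_mulVec, Matrix.one_mulVec]
  have h3 : C.det * g j = ∑ i, C.adjugate j i * F i := by
    have := congrFun h2 j
    rw [Pi.smul_apply, smul_eq_mul] at this
    rw [← this]; rfl
  rw [h3]
  exact Ideal.sum_mem _ fun i _ => Ideal.mul_mem_left _ _ (Ideal.subset_span ⟨i, rfl⟩)

/-- annihilator form: in a quotient `τ : R → S` with kernel `(F)`, the annihilator of the image
of `(g)` is generated by the image of `det C`. -/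
theorem annihilator_eq {S : Type u} [CommRing S] (τ : R →+* S) (hτ : Function.Surjective τ)
    {n : ℕ} (F g : Fin n → R) (C : Matrix (Fin n) (Fin n) R)
    (hC : ∀ i, F i = ∑ j, C i j * g j) (hF : LCI.IsKoszulRegularSeq R (List.ofFn F))
    (hg : LCI.IsKoszulRegularSeq R (List.ofFn g))
    (hker : RingHom.ker τ = Ideal.span (Set.range F)) :
    Submodule.annihilator ((Ideal.span (Set.range g)).map τ) = Ideal.span {τ C.det} := by
  apply le_antisymm
  · intro s hs
    obtain ⟨x, rfl⟩ := hτ s
    rw [Submodule.mem_annihilator] at hs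
    have hx : ∀ j, x * g j ∈ Ideal.span (Set.range F) := by
      intro j
      rw [← hker, RingHom.mem_ker, map_mul]
      have := hs (τ (g j)) (Ideal.mem_map_of_mem τ (Ideal.subset_span ⟨j, rfl⟩))
      rwa [smul_eq_mul] at this
    obtain ⟨y, hy⟩ := wiebe F g C hC hF hg x hx
    rw [← hker, RingHom.mem_ker, map_sub, map_mul, sub_eq_zero] at hy
    rw [hy]
    exact Ideal.mul_mem_left _ _ (Ideal.subset_span rfl)
  · rw [Ideal.span_le, Set.singleton_subset_iff]
    change τ C.det ∈ Submodule.annihilator _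
    rw [Submodule.mem_annihilator]
    intro s hs
    rw [Ideal.map_span] at hs
    refine Submodule.span_induction ?_ ?_ ?_ ?_ hs
    · rintro _ ⟨_, ⟨j, rfl⟩, rfl⟩
      rw [smul_eq_mul, ← map_mul, ← RingHom.mem_ker, hker]
      exact det_mul_mem F g C hC j
    · rw [smul_zero]
    · intro a b _ _ ha hb; rw [smul_add, ha, hb, add_zero]
    · intro a b _ hb; rw [smul_eq_mul] at hb ⊢; rw [smul_eq_mul, mul_left_comm, hb, mul_zero]

end Groth.Agent.H6.KosExt
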