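import Mathlib
import Groth.Prelude
import Groth.Agent.Lib.Helper7.Reg1
import Groth.Agent.Lib.Helper7.ND1
import Groth.Agent.Lib.Helper1.RegParam

set_option autoImplicit false
universe u
open IsLocalRing MvPolynomial

set_option linter.unusedSectionVars false
set_option linter.unusedSimpArgs false
set_option linter.style.haveILetI false
namespace Groth.Agent.H6.KumReg

variable (A : Type u) [CommRing A] {r : ℕ} (f : Fin r → A) (n : Fin r → ℕ)

/-- the class of `T_i`. -/
noncomputable def T (i : Fin r) : SGA1.kummerAlg A f n :=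
  Ideal.Quotient.mk _ (X i)

theorem algebraMap_eq (a : A) :
    algebraMap A (SGA1.kummerAlg A f n) a = Ideal.Quotient.mk _ (C a) := rfl

theorem T_pow (i : Fin r) : T A f n i ^ n i = algebraMap A (SGA1.kummerAlg A f n) (f i) := by
  rw [algebraMap_eq, T, ← map_pow, Ideal.Quotient.eq]
  exact Ideal.subset_span ⟨i, rfl⟩

/-- universal property. -/
noncomputable def lift {B : Type*} [CommRing B] [Algebra A B] (t : Fin r → B)
    (ht : ∀ i, t i ^ n i = algebraMap A B (f i)) : SGA1.kummerAlg A f n →ₐ[A] B :=
  Ideal.Quotient.liftₐ _ (aeval t) (by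
    intro a ha
    have : Ideal.span (Set.range fun i => (X i : MvPolynomial (Fin r) A) ^ n i - C (f i)) ≤
        RingHom.ker (aeval t : MvPolynomial (Fin r) A →ₐ[A] B) := by
      rw [Ideal.span_le]
      rintro _ ⟨i, rfl⟩
      simp [RingHom.mem_ker, ht i]
    exact this ha)

theorem lift_T {B : Type*} [CommRing B] [Algebra A B] (t : Fin r → B)
    (ht : ∀ i, t i ^ n i = algebraMap A B (f i)) (i : Fin r) :
    lift A f n t ht (T A f n i) = t i := by
  simp [lift, T]

theorem adjoin_T : Algebra.adjoin A (Set.range (T A f n)) = ⊤ := by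
  have h1 : Algebra.adjoin A (Set.range (X : Fin r → MvPolynomial (Fin r) A)) = ⊤ :=
    MvPolynomial.adjoin_range_X
  have h2 := congrArg (Subalgebra.map (Ideal.Quotient.mkₐ A
    (Ideal.span (Set.range fun i => (X i : MvPolynomial (Fin r) A) ^ n i - C (f i))))) h1
  rw [AlgHom.map_adjoin, Algebra.map_top, ← Set.range_comp] at h2
  rw [show Set.range (T A f n) = Set.range (⇑(Ideal.Quotient.mkₐ A
    (Ideal.span (Set.range fun i => (X i : MvPolynomial (Fin r) A) ^ n i - C (f i)))) ∘ X) from rfl,
    h2]
  rw [AlgHom.range_eq_top]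
  exact Ideal.Quotient.mkₐ_surjective _ _

theorem isIntegral (hn : ∀ i, 1 ≤ n i) : Algebra.IsIntegral A (SGA1.kummerAlg A f n) := by
  have h : Algebra.adjoin A (Set.range (T A f n)) ≤ integralClosure A (SGA1.kummerAlg A f n) := by
    apply Algebra.adjoin_le
    rintro _ ⟨i, rfl⟩
    refine ⟨Polynomial.X ^ n i - Polynomial.C (f i),
      Polynomial.monic_X_pow_sub_C _ (by have := hn i; omega), ?_⟩
    simp [T_pow]
  rw [adjoin_T, top_le_iff] at h
  constructor
  intro x
  have : x ∈ integralClosure A (SGA1.kummerAlg A f n) := by rw [h]; trivial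
  exact this

theorem injective [IsDomain A] (hn : ∀ i, 1 ≤ n i) :
    Function.Injective (algebraMap A (SGA1.kummerAlg A f n)) := by
  let F := AlgebraicClosure (FractionRing A)
  have hroot : ∀ i, ∃ z : F, z ^ n i = algebraMap A F (f i) := fun i =>
    IsAlgClosed.exists_pow_nat_eq _ (by have := hn i; omega)
  choose t ht using hroot
  have hinj : Function.Injective (algebraMap A F) := by
    rw [IsScalarTower.algebraMap_eq A (FractionRing A) F]
    exact (algebraMap (FractionRing A) F).injective.comp (IsFractionRing.injective A _)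
  intro a b hab
  apply hinj
  have := congrArg (lift A f n t ht) hab
  simpa using this

end Groth.Agent.H6.KumReg
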