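import Mathlib
import Groth.Prelude
import Groth.Agent.Lib.Helper6.KumReg1

set_option autoImplicit false
universe u
open IsLocalRing MvPolynomial

set_option linter.unusedSectionVars false
set_option linter.unusedSimpArgs false
set_option linter.style.haveILetI false
namespace Groth.Agent.H6.KumReg

variable (A : Type u) [CommRing A] {r : ℕ} (f : Fin r → A) (n : Fin r → ℕ)

/-- the candidate maximal ideal. -/
noncomputable def J [IsLocalRing A] : Ideal (SGA1.kummerAlg A f n) :=
  (maximalIdeal A).map (algebraMap A (SGA1.kummerAlg A f n)) ⊔ Ideal.span (Set.range (T A f n))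

theorem T_mem_J [IsLocalRing A] (i : Fin r) : T A f n i ∈ J A f n :=
  Ideal.mem_sup_right (Ideal.subset_span ⟨i, rfl⟩)

theorem exists_sub_mem_J [IsLocalRing A] (x : SGA1.kummerAlg A f n) :
    ∃ a : A, x - algebraMap A _ a ∈ J A f n := by
  obtain ⟨p, rfl⟩ := Ideal.Quotient.mk_surjective x
  induction p using MvPolynomial.induction_on with
  | C a => exact ⟨a, by rw [algebraMap_eq, sub_self]; exact zero_mem _⟩
  | add p q hp hq =>
    obtain ⟨a, ha⟩ := hp
    obtain ⟨b, hb⟩ := hq
    refine ⟨a + b, ?_⟩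
    rw [map_add, map_add]
    have := add_mem ha hb
    convert this using 1
    ring
  | mul_X p i hp =>
    refine ⟨0, ?_⟩
    rw [map_zero, sub_zero, map_mul]
    exact Ideal.mul_mem_left _ _ (T_mem_J A f n i)

/-- the residue map. -/
noncomputable def res [IsLocalRing A] (hm : ∀ i, f i ∈ maximalIdeal A) (hn : ∀ i, 1 ≤ n i) :
    SGA1.kummerAlg A f n →ₐ[A] ResidueField A :=
  lift A f n (fun _ => 0) (by
    intro i
    rw [zero_pow (by have := hn i; omega)]
    exact ((residue_eq_zero_iff _).mpr (hm i)).symm)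

theorem J_le_ker_res [IsLocalRing A] (hm : ∀ i, f i ∈ maximalIdeal A) (hn : ∀ i, 1 ≤ n i) :
    J A f n ≤ RingHom.ker (res A f n hm hn) := by
  rw [J, sup_le_iff]
  constructor
  · rw [Ideal.map_le_iff_le_comap]
    intro a ha
    rw [Ideal.mem_comap, RingHom.mem_ker, AlgHom.commutes]
    exact (residue_eq_zero_iff _).mpr ha
  · rw [Ideal.span_le]
    rintro _ ⟨i, rfl⟩
    rw [SetLike.mem_coe, RingHom.mem_ker]
    exact lift_T A f n _ _ i

theorem J_isMaximal [IsLocalRing A] (hm : ∀ i, f i ∈ maximalIdeal A) (hn : ∀ i, 1 ≤ n i) :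
    (J A f n).IsMaximal := by
  rw [Ideal.isMaximal_iff]
  constructor
  · intro h1
    have := J_le_ker_res A f n hm hn h1
    rw [RingHom.mem_ker, map_one] at this
    exact one_ne_zero this
  · intro L x hJL hxJ hxL
    obtain ⟨a, ha⟩ := exists_sub_mem_J A f n x
    have hau : IsUnit a := by
      by_contra hna
      have ham : a ∈ maximalIdeal A := (mem_maximalIdeal a).mpr hna
      have : algebraMap A (SGA1.kummerAlg A f n) a ∈ J A f n :=
        Ideal.mem_sup_left (Ideal.mem_map_of_mem _ ham)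
      apply hxJ
      have h2 := add_mem ha this
      rwa [sub_add_cancel] at h2
    have h3 : algebraMap A (SGA1.kummerAlg A f n) a ∈ L := by
      have h4 : x - (x - algebraMap A (SGA1.kummerAlg A f n) a) ∈ L := sub_mem hxL (hJL ha)
      rwa [sub_sub_cancel] at h4
    have h5 : IsUnit (algebraMap A (SGA1.kummerAlg A f n) a) := hau.map _
    exact (Ideal.eq_top_of_isUnit_mem _ h3 h5) ▸ Submodule.mem_top

theorem J_le_of_isMaximal [IsLocalRing A] (hm : ∀ i, f i ∈ maximalIdeal A) (hn : ∀ i, 1 ≤ n i)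
    (M : Ideal (SGA1.kummerAlg A f n)) [hM : M.IsMaximal] : J A f n ≤ M := by
  haveI := isIntegral A f n hn
  have h1 : (M.comap (algebraMap A (SGA1.kummerAlg A f n))).IsMaximal :=
    Ideal.isMaximal_comap_of_isIntegral_of_isMaximal M
  have h2 : M.comap (algebraMap A (SGA1.kummerAlg A f n)) = maximalIdeal A :=
    IsLocalRing.eq_maximalIdeal h1
  have h3 : (maximalIdeal A).map (algebraMap A (SGA1.kummerAlg A f n)) ≤ M := by
    rw [Ideal.map_le_iff_le_comap, h2]
  rw [J, sup_le_iff]
  refine ⟨h3, ?_⟩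
  rw [Ideal.span_le]
  rintro _ ⟨i, rfl⟩
  have h4 : T A f n i ^ n i ∈ M := by
    rw [T_pow]
    exact h3 (Ideal.mem_map_of_mem _ (hm i))
  exact hM.isPrime.mem_of_pow_mem _ h4

theorem isLocalRing [IsLocalRing A] (hm : ∀ i, f i ∈ maximalIdeal A) (hn : ∀ i, 1 ≤ n i) :
    IsLocalRing (SGA1.kummerAlg A f n) := by
  haveI hJ := J_isMaximal A f n hm hn
  apply IsLocalRing.of_unique_max_ideal
  refine ⟨J A f n, hJ, ?_⟩
  intro M hM
  haveI : M.IsMaximal := hM
  exact (hJ.eq_of_le hM.ne_top (J_le_of_isMaximal A f n hm hn M)).symm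

theorem maximalIdeal_eq [IsLocalRing A] (hm : ∀ i, f i ∈ maximalIdeal A) (hn : ∀ i, 1 ≤ n i) :
    letI := isLocalRing A f n hm hn
    maximalIdeal (SGA1.kummerAlg A f n) = J A f n := by
  letI := isLocalRing A f n hm hn
  exact (IsLocalRing.eq_maximalIdeal (J_isMaximal A f n hm hn)).symm

/-- generators of `J`. -/
theorem J_eq_span [IsLocalRing A] (hn : ∀ i, 1 ≤ n i) {e : ℕ} (y : Fin e → A)
    (h : Ideal.span (Set.range f ∪ Set.range y) = maximalIdeal A) :
    J A f n = Ideal.span (Set.range (T A f n) ∪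
      Set.range (fun j => algebraMap A (SGA1.kummerAlg A f n) (y j))) := by
  apply le_antisymm
  · rw [J, sup_le_iff]
    constructor
    · rw [← h, Ideal.map_span, Ideal.span_le]
      rintro _ ⟨a, ha | ha, rfl⟩
      · obtain ⟨i, rfl⟩ := ha
        rw [← T_pow, SetLike.mem_coe]
        have h1 : T A f n i ∈ Ideal.span (Set.range (T A f n) ∪
            Set.range (fun j => algebraMap A (SGA1.kummerAlg A f n) (y j))) :=
          Ideal.subset_span (Or.inl ⟨i, rfl⟩)
        exact Ideal.pow_mem_of_mem _ h1 _ (by have := hn i; omega)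
      · obtain ⟨j, rfl⟩ := ha
        exact Ideal.subset_span (Or.inr ⟨j, rfl⟩)
    · exact Ideal.span_mono Set.subset_union_left
  · rw [Ideal.span_le]
    rintro _ (⟨i, rfl⟩ | ⟨j, rfl⟩)
    · exact T_mem_J A f n i
    · refine Ideal.mem_sup_left (Ideal.mem_map_of_mem _ ?_)
      rw [← h]
      exact Ideal.subset_span (Or.inr ⟨j, rfl⟩)

end Groth.Agent.H6.KumReg
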