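import Mathlib
import Groth.Prelude
import Groth.Agent.Lib.Helper6.KumReg2
import Groth.Agent.Lib.Helper1.RegParam

set_option autoImplicit false
universe u
open IsLocalRing MvPolynomial

set_option linter.unusedSectionVars false
set_option linter.unusedSimpArgs false
set_option linter.style.haveILetI false
namespace Groth.Agent.H6.KumReg

theorem isRegularLocalRing (A : Type u) [CommRing A] [IsRegularLocalRing A] (r : ℕ) (f : Fin r → A)
    (hm : ∀ i, f i ∈ maximalIdeal A)
    (hf : LinearIndependent (ResidueField A) (fun i => (maximalIdeal A).toCotangent ⟨f i, hm i⟩))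
    (n : Fin r → ℕ) (hn : ∀ i, 1 ≤ n i) :
    IsRegularLocalRing (SGA1.kummerAlg A f n) := by
  haveI : IsDomain A := Groth.Agent.H7.Reg.isDomain A
  haveI hloc := isLocalRing A f n hm hn
  haveI hint := isIntegral A f n hn
  have hdim : ringKrullDim (SGA1.kummerAlg A f n) = ringKrullDim A :=
    Groth.Agent.H7.ND.dim_eq_of_integral_injective A _ (injective A f n hn)
  obtain ⟨e, y, he, hy⟩ := Groth.Agent.H1.Reg.exists_extension_generators r
    (fun i => (⟨f i, hm i⟩ : maximalIdeal A)) hf
  have hJ := J_eq_span A f n hn (fun j => (y j : A)) hy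
  have hmax : maximalIdeal (SGA1.kummerAlg A f n) = J A f n := maximalIdeal_eq A f n hm hn
  apply IsRegularLocalRing.of_spanFinrank_maximalIdeal_le
  have hd : (maximalIdeal A).spanFinrank = e + r := by
    rw [spanFinrank_maximalIdeal_eq_finrank_cotangentSpace, ← he]
  rw [hdim, ← IsRegularLocalRing.spanFinrank_maximalIdeal (R := A), hd, hmax, hJ]
  have hfin : (Set.range (T A f n) ∪
      Set.range (fun j => algebraMap A (SGA1.kummerAlg A f n) (y j))).Finite :=
    (Set.finite_range _).union (Set.finite_range _)
  have h1 := Submodule.spanFinrank_span_le_ncard_of_finite (R := SGA1.kummerAlg A f n) hfin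
  have h2 : (Set.range (T A f n) ∪
      Set.range (fun j => algebraMap A (SGA1.kummerAlg A f n) (y j))).ncard ≤ e + r := by
    refine (Set.ncard_union_le _ _).trans ?_
    have h3 : (Set.range (T A f n)).ncard ≤ r := by
      have := Set.ncard_image_le (f := T A f n) (Set.finite_univ (α := Fin r))
      rwa [Set.image_univ, Set.ncard_univ, Nat.card_fin] at this
    have h4 : (Set.range (fun j => algebraMap A (SGA1.kummerAlg A f n) (y j))).ncard ≤ e := by
      have := Set.ncard_image_le (f := fun j => algebraMap A (SGA1.kummerAlg A f n) (y j))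
        (Set.finite_univ (α := Fin e))
      rwa [Set.image_univ, Set.ncard_univ, Nat.card_fin] at this
    omega
  exact_mod_cast h1.trans h2

end Groth.Agent.H6.KumReg
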