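import Mathlib
import Groth.Prelude
import Groth.Agent.Lib.Helper6.KumReg2

set_option autoImplicit false
universe u
open IsLocalRing MvPolynomial

set_option linter.unusedSectionVars false
set_option linter.unusedSimpArgs false
set_option linter.style.haveILetI false
namespace Groth.Agent.H6.KumReg

open Algebra

variable (A : Type u) [CommRing A] {r : ℕ} (f : Fin r → A) (n : Fin r → ℕ)

/-- the naive presentation of the Kummer algebra. -/
noncomputable def pres : PreSubmersivePresentation A (SGA1.kummerAlg A f n) (Fin r) (Fin r) :=
  PreSubmersivePresentation.naive (v := fun i => (X i : MvPolynomial (Fin r) A) ^ n i - C (f i))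
    id Function.injective_id

theorem jacobiMatrix_pres : (pres A f n).jacobiMatrix =
    Matrix.diagonal (fun j => (n j : MvPolynomial (Fin r) A) * X j ^ (n j - 1)) := by
  ext i j
  rw [pres, PreSubmersivePresentation.jacobiMatrix_naive]
  by_cases hij : i = j
  · subst hij
    simp [Derivation.leibniz_pow, pderiv_X, Matrix.diagonal_apply, mul_comm]
  · have hji : j ≠ i := fun h => hij h.symm
    simp [Derivation.leibniz_pow, pderiv_X, Matrix.diagonal_apply, hij, hji, Pi.single_apply]

theorem jacobian_pres : (pres A f n).jacobian =
    ∏ j, ((n j : ℕ) : SGA1.kummerAlg A f n) * T A f n j ^ (n j - 1) := by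
  rw [PreSubmersivePresentation.jacobian_eq_jacobiMatrix_det, jacobiMatrix_pres,
    Matrix.det_diagonal, map_prod]
  refine Finset.prod_congr rfl fun j _ => ?_
  rw [map_mul, map_pow, map_natCast]
  rfl

theorem etale_of_isUnit_jacobian (B : Type u) [CommRing B] [Algebra (SGA1.kummerAlg A f n) B]
    [Algebra A B] [IsScalarTower A (SGA1.kummerAlg A f n) B] (a : SGA1.kummerAlg A f n)
    [IsLocalization.Away a B]
    (hΔ : IsUnit (algebraMap (SGA1.kummerAlg A f n) B (pres A f n).jacobian)) :
    Algebra.Etale A B := by
  classical
  let P' : SubmersivePresentation A B _ _ :=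
    { toPreSubmersivePresentation := .comp (.localizationAway B a) (pres A f n),
      jacobian_isUnit := by
        have ha : IsUnit (algebraMap (SGA1.kummerAlg A f n) B a) :=
          IsLocalization.Away.algebraMap_isUnit a
        simp [Algebra.smul_def, -isUnit_map_iff, hΔ, ha] }
  have hE : IsStandardSmoothOfRelativeDimension 0 A B :=
    ⟨_, _, _, inferInstance, P', by
      simp only [PreSubmersivePresentation.dimension_comp_eq_dimension_add_dimension, P']
      simp [Presentation.dimension]⟩
  exact Algebra.Etale.iff_isStandardSmoothOfRelativeDimension_zero.mpr hE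

end Groth.Agent.H6.KumReg
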