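import Mathlib
import Groth.Prelude
import Groth.Agent.Lib.Helper6.KumReg3
import Groth.Agent.Lib.Helper6.KumReg4

set_option autoImplicit false
universe u
open IsLocalRing MvPolynomial

set_option linter.unusedSectionVars false
set_option linter.unusedSimpArgs false
set_option linter.style.haveILetI false
namespace Groth.Agent.H6.KumReg

open Algebra

theorem isUnit_natCast_of_residue (A : Type u) [CommRing A] [IsLocalRing A] (k : ℕ)
    (h : IsUnit ((k : ℕ) : ResidueField A)) : IsUnit ((k : ℕ) : A) := by
  by_contra hk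
  have h1 : ((k : ℕ) : A) ∈ maximalIdeal A := (mem_maximalIdeal _).mpr hk
  have h2 : residue A ((k : ℕ) : A) = 0 := (residue_eq_zero_iff _).mpr h1
  rw [map_natCast] at h2
  rw [h2] at h
  exact not_isUnit_zero h

theorem isUnit_jacobian (A : Type u) [CommRing A] [IsLocalRing A] (r : ℕ) (f : Fin r → A)
    (n : Fin r → ℕ) (hn : ∀ i, 1 ≤ n i) (hu : ∀ i, IsUnit ((n i : ℕ) : ResidueField A))
    (B : Type u) [CommRing B] [Algebra (SGA1.kummerAlg A f n) B]
    [Algebra A B] [IsScalarTower A (SGA1.kummerAlg A f n) B]
    (haB : IsUnit (algebraMap (SGA1.kummerAlg A f n) B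
      (algebraMap A (SGA1.kummerAlg A f n) (∏ i, f i)))) :
    IsUnit (algebraMap (SGA1.kummerAlg A f n) B (pres A f n).jacobian) := by
  rw [jacobian_pres, map_prod]
  apply IsUnit.prod_univ_iff.mpr
  intro j
  rw [map_mul, map_pow, map_natCast]
  apply IsUnit.mul
  · have h1 := (isUnit_natCast_of_residue A (n j) (hu j)).map (algebraMap A B)
    rwa [map_natCast] at h1
  · apply IsUnit.pow
    have h2 : IsUnit (algebraMap (SGA1.kummerAlg A f n) B (T A f n j) ^ n j) := by
      rw [← map_pow, T_pow]
      apply isUnit_of_dvd_unit _ haB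
      apply map_dvd
      apply map_dvd
      exact Finset.dvd_prod_of_mem f (Finset.mem_univ j)
    exact (isUnit_pow_iff (by have := hn j; omega)).mp h2

theorem etale_away (A : Type u) [CommRing A] [IsLocalRing A] (r : ℕ) (f : Fin r → A)
    (n : Fin r → ℕ) (hn : ∀ i, 1 ≤ n i) (hu : ∀ i, IsUnit ((n i : ℕ) : ResidueField A)) :
    letI := (Localization.awayMap (algebraMap A (SGA1.kummerAlg A f n)) (∏ i, f i)).toAlgebra
    Algebra.Etale (Localization.Away (∏ i, f i))
      (Localization.Away (algebraMap A (SGA1.kummerAlg A f n) (∏ i, f i))) := by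
  letI alg : Algebra (Localization.Away (∏ i, f i))
      (Localization.Away (algebraMap A (SGA1.kummerAlg A f n) (∏ i, f i))) :=
    (Localization.awayMap (algebraMap A (SGA1.kummerAlg A f n)) (∏ i, f i)).toAlgebra
  have haB : IsUnit (algebraMap (SGA1.kummerAlg A f n)
      (Localization.Away (algebraMap A (SGA1.kummerAlg A f n) (∏ i, f i)))
      (algebraMap A (SGA1.kummerAlg A f n) (∏ i, f i))) :=
    IsLocalization.Away.algebraMap_isUnit _
  have hΔ := isUnit_jacobian A r f n hn hu _ haB
  haveI h1 : Algebra.Etale A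
      (Localization.Away (algebraMap A (SGA1.kummerAlg A f n) (∏ i, f i))) :=
    etale_of_isUnit_jacobian A f n _ (algebraMap A (SGA1.kummerAlg A f n) (∏ i, f i)) hΔ
  haveI : IsScalarTower A (Localization.Away (∏ i, f i))
      (Localization.Away (algebraMap A (SGA1.kummerAlg A f n) (∏ i, f i))) := by
    apply IsScalarTower.of_algebraMap_eq
    intro x
    change _ = (Localization.awayMap (algebraMap A (SGA1.kummerAlg A f n)) (∏ i, f i)) _
    rw [Localization.awayMap, IsLocalization.Away.map, IsLocalization.map_eq]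
    exact IsScalarTower.algebraMap_apply A (SGA1.kummerAlg A f n) _ x
  exact Algebra.Etale.of_restrictScalars (R := A) (A := Localization.Away (∏ i, f i))
    (B := Localization.Away (algebraMap A (SGA1.kummerAlg A f n) (∏ i, f i)))

end Groth.Agent.H6.KumReg
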