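import Mathlib

/-!
# Roots of unity in a local ring in which `n` is invertible (helper6)
-/

universe u

namespace Groth.Agent.H6.GalRing

variable {A : Type u} [CommRing A] [IsLocalRing A] {n : ℕ}

theorem isUnit_add_of_mem_maximalIdeal {x y : A} (hx : IsUnit x)
    (hy : y ∈ IsLocalRing.maximalIdeal A) : IsUnit (x + y) := by
  by_contra h
  have h1 : x + y ∈ IsLocalRing.maximalIdeal A := (IsLocalRing.mem_maximalIdeal _).mpr h
  have h2 : x ∈ IsLocalRing.maximalIdeal A := by
    have := (IsLocalRing.maximalIdeal A).sub_mem h1 hy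
    simpa using this
  exact (IsLocalRing.mem_maximalIdeal _).mp h2 hx

/-- An `n`-th root of unity congruent to `1` modulo the maximal ideal is `1` (`n` invertible). -/
theorem eq_one_of_sub_one_mem (hn : IsUnit ((n : ℕ) : A)) (w : A) (hw : w ^ n = 1)
    (h1 : w - 1 ∈ IsLocalRing.maximalIdeal A) : w = 1 := by
  have hgs : (∑ i ∈ Finset.range n, w ^ i) * (w - 1) = 0 := by
    rw [geom_sum_mul, hw, sub_self]
  have hpow : ∀ i : ℕ, w ^ i - 1 ∈ IsLocalRing.maximalIdeal A := by
    intro i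
    rw [← mul_geom_sum]
    exact Ideal.mul_mem_right _ _ h1
  have hsum : (∑ i ∈ Finset.range n, w ^ i) = (n : A) + ∑ i ∈ Finset.range n, (w ^ i - 1) := by
    rw [Finset.sum_sub_distrib]
    simp
  have hu : IsUnit (∑ i ∈ Finset.range n, w ^ i) := by
    rw [hsum]
    exact isUnit_add_of_mem_maximalIdeal hn (Ideal.sum_mem _ (fun i _ => hpow i))
  have := (hu.mul_right_eq_zero).mp hgs
  exact sub_eq_zero.mp this

/-- Distinct `n`-th roots of unity of a local ring in which `n` is invertible differ by a unit. -/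
theorem isUnit_sub_of_ne (hn : IsUnit ((n : ℕ) : A)) (ζ ζ' : rootsOfUnity n A) (h : ζ ≠ ζ') :
    IsUnit (((ζ : Aˣ) : A) - ((ζ' : Aˣ) : A)) := by
  by_contra hnu
  have hm : ((ζ : Aˣ) : A) - ((ζ' : Aˣ) : A) ∈ IsLocalRing.maximalIdeal A :=
    (IsLocalRing.mem_maximalIdeal _).mpr hnu
  let w : Aˣ := (ζ : Aˣ) * (ζ' : Aˣ)⁻¹
  have hζ : (ζ : Aˣ) ^ n = 1 := (mem_rootsOfUnity n _).mp ζ.2
  have hζ' : (ζ' : Aˣ) ^ n = 1 := (mem_rootsOfUnity n _).mp ζ'.2
  have hw : (w : A) ^ n = 1 := by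
    rw [← Units.val_pow_eq_pow_val, mul_pow, inv_pow, hζ, hζ', inv_one, mul_one, Units.val_one]
  have hw1 : (w : A) - 1 ∈ IsLocalRing.maximalIdeal A := by
    have : (w : A) - 1 = (((ζ : Aˣ) : A) - ((ζ' : Aˣ) : A)) * (((ζ' : Aˣ)⁻¹ : Aˣ) : A) := by
      rw [sub_mul, Units.mul_inv, Units.val_mul]
    rw [this]
    exact Ideal.mul_mem_right _ _ hm
  have h1 := eq_one_of_sub_one_mem hn (w : A) hw hw1
  apply h
  have h2 : w = 1 := Units.ext h1
  have h3 : (ζ : Aˣ) = (ζ' : Aˣ) := by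
    have := congrArg (fun t => t * (ζ' : Aˣ)) h2
    simpa [w] using this
  exact Subtype.ext h3

theorem injective_restrict (hn : IsUnit ((n : ℕ) : A)) :
    Function.Injective (restrictRootsOfUnity (IsLocalRing.residue A) n) := by
  intro ζ ζ' h
  by_contra hne
  have hu := isUnit_sub_of_ne hn ζ ζ' hne
  have h1 := congrArg (fun t : rootsOfUnity n (IsLocalRing.ResidueField A) =>
    ((t : (IsLocalRing.ResidueField A)ˣ) : IsLocalRing.ResidueField A)) h
  simp only [restrictRootsOfUnity_coe_apply] at h1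
  have h2 : IsLocalRing.residue A (((ζ : Aˣ) : A) - ((ζ' : Aˣ) : A)) = 0 := by
    rw [map_sub, sub_eq_zero]
    exact h1
  rw [IsLocalRing.residue_eq_zero_iff] at h2
  exact (IsLocalRing.mem_maximalIdeal _).mp h2 hu

theorem card_rootsOfUnity_eq (hn1 : 1 ≤ n) (hn : IsUnit ((n : ℕ) : A)) (ζ₀ : A)
    (hζ₀ : IsPrimitiveRoot ζ₀ n) : Nat.card (rootsOfUnity n A) = n := by
  haveI : NeZero n := ⟨by omega⟩
  apply le_antisymm
  · calc Nat.card (rootsOfUnity n A) ≤ Nat.card (rootsOfUnity n (IsLocalRing.ResidueField A)) :=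
          Nat.card_le_card_of_injective _ (injective_restrict hn)
      _ ≤ n := card_rootsOfUnity _ _
  · haveI : Finite (rootsOfUnity n A) := Finite.of_injective _ (injective_restrict hn)
    obtain ⟨u, hu⟩ := hζ₀.isUnit (by omega)
    have hu' : IsPrimitiveRoot u n := by
      rw [← IsPrimitiveRoot.coe_units_iff, hu]
      exact hζ₀
    have hle : Subgroup.zpowers u ≤ rootsOfUnity n A := by
      rw [Subgroup.zpowers_le, mem_rootsOfUnity]
      exact hu'.pow_eq_one
    calc n = orderOf u := hu'.eq_orderOf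
      _ = Nat.card (Subgroup.zpowers u) := (Nat.card_zpowers u).symm
      _ ≤ Nat.card (rootsOfUnity n A) := Subgroup.card_le_of_le hle

theorem finite_rootsOfUnity (hn : IsUnit ((n : ℕ) : A)) (hn1 : 1 ≤ n) :
    Finite (rootsOfUnity n A) := by
  haveI : NeZero n := ⟨by omega⟩
  exact Finite.of_injective _ (injective_restrict hn)

end Groth.Agent.H6.GalRing
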