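import Mathlib
import Groth.Prelude.Def_SGA1t
import Groth.Agent.Lib.Helper6.GalRing1
import Groth.Agent.Lib.Helper6.KumRing0

/-!
# Kummer theory for Galois extensions of a local ring with group `μ_n` (helper6)
-/

universe u

open TensorProduct

namespace Groth.Agent.H6.GalRing

variable {A B : Type u} [CommRing A] [CommRing B] [Algebra A B] {n : ℕ}
variable [Fintype (rootsOfUnity n A)] (σ : rootsOfUnity n A →* (B ≃ₐ[A] B))

/-- The Lagrange resolvent `∑_g g⁻¹ σ_g(c)`. -/
noncomputable def resolvent (c : B) : B :=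
  ∑ g : rootsOfUnity n A, (((g⁻¹ : rootsOfUnity n A) : Aˣ) : A) • σ g c

lemma sigma_resolvent (h : rootsOfUnity n A) (c : B) :
    σ h (resolvent σ c) = (((h : rootsOfUnity n A) : Aˣ) : A) • resolvent σ c := by
  rw [resolvent, map_sum, Finset.smul_sum]
  refine Fintype.sum_equiv (Equiv.mulLeft h) _ _ (fun g => ?_)
  rw [map_smul, Equiv.coe_mulLeft, smul_smul]
  have h1 : σ h (σ g c) = σ (h * g) c := by rw [map_mul]; rfl
  rw [h1]
  congr 1
  have h2 : (h * g)⁻¹ = h⁻¹ * g⁻¹ := by rw [mul_inv]
  rw [h2]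
  push_cast
  rw [← mul_assoc, Units.mul_inv, one_mul]

theorem exists_resolvent_not_mem_jacobson [Nontrivial B]
    (hθ : Function.Surjective (theta σ)) :
    ∃ c : B, resolvent σ c ∉ Ideal.jacobson (⊥ : Ideal B) := by
  classical
  by_contra H
  have H' : ∀ c : B, resolvent σ c ∈ Ideal.jacobson (⊥ : Ideal B) := fun c => by
    by_contra hc
    exact H ⟨c, hc⟩
  have claim : ∀ z : B ⊗[A] B, ∑ g : rootsOfUnity n A,
      (((g⁻¹ : rootsOfUnity n A) : Aˣ) : A) • (theta σ z g) ∈ Ideal.jacobson (⊥ : Ideal B) := by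
    intro z
    induction z using TensorProduct.induction_on with
    | zero => simp
    | tmul x c =>
      have : ∑ g : rootsOfUnity n A, (((g⁻¹ : rootsOfUnity n A) : Aˣ) : A) • (theta σ (x ⊗ₜ[A] c) g)
          = x * resolvent σ c := by
        rw [resolvent, Finset.mul_sum]
        refine Finset.sum_congr rfl (fun g _ => ?_)
        rw [theta_tmul, mul_smul_comm]
      rw [this]
      exact Ideal.mul_mem_left _ _ (H' c)
    | add z z' hz hz' =>
      have : ∑ g : rootsOfUnity n A, (((g⁻¹ : rootsOfUnity n A) : Aˣ) : A) • (theta σ (z + z') g) =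
          ∑ g : rootsOfUnity n A, (((g⁻¹ : rootsOfUnity n A) : Aˣ) : A) • (theta σ z g) +
          ∑ g : rootsOfUnity n A, (((g⁻¹ : rootsOfUnity n A) : Aˣ) : A) • (theta σ z' g) := by
        rw [← Finset.sum_add_distrib]
        refine Finset.sum_congr rfl (fun g _ => ?_)
        rw [map_add, Pi.add_apply, smul_add]
      rw [this]
      exact Ideal.add_mem _ hz hz'
  obtain ⟨z, hz⟩ := hθ (Pi.single 1 1)
  have h1 := claim z
  rw [hz] at h1
  have h2 : ∑ g : rootsOfUnity n A, (((g⁻¹ : rootsOfUnity n A) : Aˣ) : A) •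
      ((Pi.single 1 1 : rootsOfUnity n A → B) g) = 1 := by
    rw [Finset.sum_eq_single 1]
    · simp
    · intro g _ hg
      rw [Pi.single_eq_of_ne hg, smul_zero]
    · intro h
      exact absurd (Finset.mem_univ _) h
  rw [h2] at h1
  have h3 : Ideal.jacobson (⊥ : Ideal B) = ⊤ := (Ideal.eq_top_iff_one _).mpr h1
  rw [Ideal.jacobson_eq_top_iff] at h3
  exact bot_ne_top h3

variable [IsLocalRing A]

/-- Multiplicative Hilbert 90 for the tautological character over a local ring: a unit `b` with
`σ_ζ b = ζ b`. -/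
theorem exists_kummer_elt [Module.FaithfullyFlat A B] [Module.Finite A B] (hn1 : 1 ≤ n)
    (hθ : Function.Bijective (theta σ)) :
    ∃ b : B, IsUnit b ∧ ∀ g : rootsOfUnity n A, σ g b = (((g : rootsOfUnity n A) : Aˣ) : A) • b := by
  haveI : Nontrivial B := (FaithfulSMul.algebraMap_injective A B).nontrivial
  obtain ⟨c, hc⟩ := exists_resolvent_not_mem_jacobson σ hθ.2
  refine ⟨resolvent σ c, ?_, fun g => sigma_resolvent σ g c⟩
  set b := resolvent σ c with hb
  have hbn : ∀ g : rootsOfUnity n A, σ g (b ^ n) = b ^ n := by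
    intro g
    rw [map_pow, hb, sigma_resolvent, smul_pow]
    have hg : (((g : rootsOfUnity n A) : Aˣ) : A) ^ n = 1 := by
      have h2 := (mem_rootsOfUnity n (g : Aˣ)).mp g.2
      have h3 := congrArg Units.val h2
      simpa using h3
    rw [hg, one_smul]
  obtain ⟨a, ha⟩ := mem_range_of_invariant σ hθ.1 (b ^ n) hbn
  by_cases hau : IsUnit a
  · have : IsUnit (b ^ n) := by rw [← ha]; exact hau.map _
    exact (isUnit_pow_iff (by omega)).mp this
  · exfalso
    apply hc
    have ham : a ∈ IsLocalRing.maximalIdeal A := (IsLocalRing.mem_maximalIdeal _).mpr hau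
    rw [Ideal.jacobson, Ideal.mem_sInf]
    rintro N ⟨-, hN⟩
    haveI := hN
    haveI : Algebra.IsIntegral A B := Algebra.IsIntegral.of_finite A B
    have hcomap : (N.comap (algebraMap A B)).IsMaximal :=
      Ideal.isMaximal_comap_of_isIntegral_of_isMaximal N
    have heq : N.comap (algebraMap A B) = IsLocalRing.maximalIdeal A :=
      IsLocalRing.eq_maximalIdeal hcomap
    have h1 : algebraMap A B a ∈ N := by
      have : a ∈ N.comap (algebraMap A B) := by rw [heq]; exact ham
      exact this
    rw [ha] at h1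
    exact hN.isPrime.mem_of_pow_mem n h1

/-- A `μ_n`-Galois extension of a local ring is a Kummer extension. -/
theorem exists_kummer [Module.FaithfullyFlat A B] [Module.Finite A B] (hn1 : 1 ≤ n)
    (hn : IsUnit ((n : ℕ) : A)) (hcard : Fintype.card (rootsOfUnity n A) = n)
    (hθ : Function.Bijective (theta σ)) :
    ∃ (a : Aˣ) (ε : SGA1t.kummer A (fun _ : Unit => (a : A)) (fun _ => n) ≃+* B),
      (∀ x : A, ε (algebraMap A (SGA1t.kummer A (fun _ : Unit => (a : A)) (fun _ => n)) x) =
        algebraMap A B x) ∧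
      ∀ (ζ : rootsOfUnity n A) (t : SGA1t.kummer A (fun _ : Unit => (a : A)) (fun _ => n)),
        σ ζ (ε t) = ε (SGA1t.kummerTwist A (fun _ : Unit => (a : A)) (fun _ => n) (fun _ => ζ) t) := by
  classical
  obtain ⟨b, hbu, hb⟩ := exists_kummer_elt σ hn1 hθ
  have hbn : ∀ g : rootsOfUnity n A, σ g (b ^ n) = b ^ n := by
    intro g
    rw [map_pow, hb, smul_pow]
    have hg : (((g : rootsOfUnity n A) : Aˣ) : A) ^ n = 1 := by
      have h2 := (mem_rootsOfUnity n (g : Aˣ)).mp g.2
      have h3 := congrArg Units.val h2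
      simpa using h3
    rw [hg, one_smul]
  obtain ⟨a₀, ha₀⟩ := mem_range_of_invariant σ hθ.1 (b ^ n) hbn
  have ha₀u : IsUnit a₀ := by
    have : IsUnit (algebraMap A B a₀) := by rw [ha₀]; exact hbu.pow n
    exact isUnit_of_map_unit (algebraMap A B) a₀ this
  obtain ⟨a, rfl⟩ := ha₀u
  -- the Kummer algebra
  let I : Ideal (MvPolynomial Unit A) := Ideal.span (Set.range fun _ : Unit =>
    (MvPolynomial.X () : MvPolynomial Unit A) ^ n - MvPolynomial.C (a : A))
  have hI : ∀ q ∈ I, MvPolynomial.aeval (fun _ : Unit => b) q = 0 := by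
    intro q hq
    have hle : I ≤ RingHom.ker (MvPolynomial.aeval (R := A) (fun _ : Unit => b)) := by
      rw [Ideal.span_le]
      rintro _ ⟨i, rfl⟩
      rw [SetLike.mem_coe, RingHom.mem_ker, map_sub, map_pow, MvPolynomial.aeval_X,
        MvPolynomial.aeval_C, ha₀, sub_self]
    exact hle hq
  let ε₀ : SGA1t.kummer A (fun _ : Unit => (a : A)) (fun _ => n) →ₐ[A] B :=
    Ideal.Quotient.liftₐ I (MvPolynomial.aeval (fun _ : Unit => b)) hI
  let T : SGA1t.kummer A (fun _ : Unit => (a : A)) (fun _ => n) :=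
    Ideal.Quotient.mk I (MvPolynomial.X ())
  have hε₀T : ε₀ T = b := by
    change Ideal.Quotient.liftₐ I _ hI (Ideal.Quotient.mk I (MvPolynomial.X ())) = b
    rw [Ideal.Quotient.liftₐ_apply, Ideal.Quotient.lift_mk]
    exact MvPolynomial.aeval_X _ _
  have hTn : T ^ n = algebraMap A _ (a : A) := by
    change (Ideal.Quotient.mk I (MvPolynomial.X ())) ^ n = Ideal.Quotient.mk I (MvPolynomial.C (a : A))
    rw [← map_pow]
    apply Ideal.Quotient.eq.mpr
    exact Ideal.subset_span ⟨(), rfl⟩
  -- basis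
  let e : Fin n ≃ rootsOfUnity n A := (Fintype.equivFinOfCardEq hcard).symm
  let v : Fin n → B := fun k => (((e k : rootsOfUnity n A) : Aˣ) : A) • b
  have hMx : (Matrix.of (fun k i => σ (e k) ((fun i : Fin n => b ^ (i : ℕ)) i))) =
      Matrix.vandermonde v := by
    ext k i
    rw [Matrix.of_apply, Matrix.vandermonde_apply, map_pow, hb]
  have hdet : IsUnit (Matrix.of (fun k i => σ (e k) ((fun i : Fin n => b ^ (i : ℕ)) i))).det := by
    rw [hMx, Matrix.det_vandermonde]
    refine Finset.prod_induction _ IsUnit (fun _ _ => IsUnit.mul) isUnit_one (fun i _ => ?_)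
    refine Finset.prod_induction _ IsUnit (fun _ _ => IsUnit.mul) isUnit_one (fun j hj => ?_)
    have hij : i ≠ j := ne_of_lt (Finset.mem_Ioi.mp hj)
    have hne : e j ≠ e i := fun h => hij (e.injective h).symm
    have hu := isUnit_sub_of_ne hn (e j) (e i) hne
    have : v j - v i = algebraMap A B ((((e j : rootsOfUnity n A) : Aˣ) : A) -
        (((e i : rootsOfUnity n A) : Aˣ) : A)) * b := by
      simp only [v, map_sub, Algebra.smul_def]
      ring
    rw [this]
    exact (hu.map (algebraMap A B)).mul hbu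
  have hbij := bijective_linearCombination σ hθ e (fun i : Fin n => b ^ (i : ℕ)) hdet
  let κ : (Fin n → A) →ₗ[A] SGA1t.kummer A (fun _ : Unit => (a : A)) (fun _ => n) :=
    Fintype.linearCombination A (fun i : Fin n => T ^ (i : ℕ))
  have hεκ : ∀ c : Fin n → A, ε₀ (κ c) =
      Fintype.linearCombination A (fun i : Fin n => b ^ (i : ℕ)) c := by
    intro c
    rw [Fintype.linearCombination_apply, Fintype.linearCombination_apply, map_sum]
    refine Finset.sum_congr rfl (fun i _ => ?_)
    rw [map_smul, map_pow, hε₀T]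
  -- κ is surjective
  have hκ : Function.Surjective κ := by
    let W : Submodule A (SGA1t.kummer A (fun _ : Unit => (a : A)) (fun _ => n)) :=
      LinearMap.range κ
    have hTi : ∀ i : ℕ, i < n → T ^ i ∈ W := by
      intro i hi
      refine ⟨Pi.single ⟨i, hi⟩ 1, ?_⟩
      rw [Fintype.linearCombination_apply_single, one_smul]
    have h1W : (1 : SGA1t.kummer A (fun _ : Unit => (a : A)) (fun _ => n)) ∈ W := by
      have := hTi 0 (by omega)
      simpa using this
    have hmulT : ∀ w ∈ W, w * T ∈ W := by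
      rintro _ ⟨c, rfl⟩
      rw [Fintype.linearCombination_apply, Finset.sum_mul]
      refine Submodule.sum_mem _ (fun i _ => ?_)
      rw [smul_mul_assoc]
      refine Submodule.smul_mem _ _ ?_
      rw [← pow_succ]
      by_cases hi : (i : ℕ) + 1 < n
      · exact hTi _ hi
      · have : (i : ℕ) + 1 = n := by omega
        rw [this, hTn, Algebra.algebraMap_eq_smul_one]
        exact Submodule.smul_mem _ _ h1W
    have hall : ∀ q : MvPolynomial Unit A, Ideal.Quotient.mk I q ∈ W := by
      intro q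
      induction q using MvPolynomial.induction_on with
      | C r =>
        have : Ideal.Quotient.mk I (MvPolynomial.C r) =
            r • (1 : SGA1t.kummer A (fun _ : Unit => (a : A)) (fun _ => n)) := by
          rw [← Algebra.algebraMap_eq_smul_one]
          rfl
        rw [this]
        exact Submodule.smul_mem _ _ h1W
      | add p q hp hq =>
        rw [map_add]
        exact Submodule.add_mem _ hp hq
      | mul_X p i hp =>
        rw [map_mul]
        exact hmulT _ hp
    intro t
    obtain ⟨q, rfl⟩ := Ideal.Quotient.mk_surjective t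
    exact hall q
  have hε₀bij : Function.Bijective ε₀ := by
    constructor
    · intro t t' htt'
      obtain ⟨c, rfl⟩ := hκ t
      obtain ⟨c', rfl⟩ := hκ t'
      rw [hεκ, hεκ] at htt'
      rw [hbij.1 htt']
    · intro y
      obtain ⟨c, rfl⟩ := hbij.2 y
      exact ⟨κ c, hεκ c⟩
  let ε : SGA1t.kummer A (fun _ : Unit => (a : A)) (fun _ => n) ≃+* B :=
    RingEquiv.ofBijective (ε₀ : _ →+* B) hε₀bij
  refine ⟨a, ε, fun x => ε₀.commutes x, fun ζ t => ?_⟩
  have h1 : ((σ ζ : B ≃ₐ[A] B) : B →+* B).comp (ε₀ : _ →+* B) =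
      (ε₀ : _ →+* B).comp
        (SGA1t.kummerTwist A (fun _ : Unit => (a : A)) (fun _ => n) (fun _ => ζ)) := by
    apply Ideal.Quotient.ringHom_ext
    apply MvPolynomial.ringHom_ext
    · intro x
      change σ ζ (ε₀ (algebraMap A _ x)) = ε₀ (Ideal.Quotient.mk I
        (MvPolynomial.aeval (R := A) (fun _ : Unit => MvPolynomial.C (((ζ : Aˣ) : A)) *
          MvPolynomial.X ()) (MvPolynomial.C x)))
      rw [MvPolynomial.aeval_C, ε₀.commutes, AlgEquiv.commutes]
      exact (ε₀.commutes x).symm
    · intro i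
      change σ ζ (ε₀ T) = ε₀ (Ideal.Quotient.mk I
        (MvPolynomial.aeval (R := A) (fun _ : Unit => MvPolynomial.C (((ζ : Aˣ) : A)) *
          MvPolynomial.X ()) (MvPolynomial.X i)))
      rw [MvPolynomial.aeval_X, hε₀T, hb, map_mul, map_mul]
      have h5 : ε₀ (Ideal.Quotient.mk I (MvPolynomial.C (((ζ : Aˣ) : A)))) =
          algebraMap A B (((ζ : Aˣ) : A)) := ε₀.commutes _
      rw [h5]
      change _ = _ * ε₀ T
      rw [hε₀T, Algebra.smul_def]
  exact congrArg (fun φ : SGA1t.kummer A (fun _ : Unit => (a : A)) (fun _ => n) →+* B => φ t) h1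

end Groth.Agent.H6.GalRing
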