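import Mathlib
import Groth.Prelude.Def_FEt
import Groth.Prelude.Def_SGA1t
import Groth.Agent.Lib.Helper6.GalRing5
import Groth.Agent.Lib.Helper6.KumRing1
import Groth.Agent.Lib.Helper6.ArtSch2

/-!
# Principal `μ_n`-covers of the spectrum of a local ring are Kummer (helper6)
-/

universe u

open CategoryTheory CategoryTheory.Limits AlgebraicGeometry TensorProduct

namespace Groth.Agent.H6.GalRing

attribute [local instance] algGamma

/-- **S3720.** -/
theorem principal_cover_is_kummer (A : Type u) [CommRing A] [IsLocalRing A] (n : ℕ) (hn1 : 1 ≤ n)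
    (hn : IsUnit ((n : ℕ) : A)) (ζ₀ : A) (hζ₀ : IsPrimitiveRoot ζ₀ n)
    (P : FEt.Cat (Spec (CommRingCat.of A))) (ρ : ↥(rootsOfUnity n A) →* Aut P)
    (hP : SGA1t.IsPrincipal ↥(rootsOfUnity n A) P ρ) :
    ∃ (a : Aˣ) (e : P.left ≅ Spec (CommRingCat.of (SGA1t.kummer A (fun _ : Unit => (a : A)) (fun _ => n)))),
      e.hom ≫ Spec.map (CommRingCat.ofHom (algebraMap A (SGA1t.kummer A (fun _ : Unit => (a : A)) (fun _ => n)))) = P.hom ∧
      ∀ ζ : ↥(rootsOfUnity n A), (ρ ζ).hom.left ≫ e.hom =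
        e.hom ≫ Spec.map (CommRingCat.ofHom (SGA1t.kummerTwist A (fun _ : Unit => (a : A)) (fun _ => n) (fun _ => ζ))) := by
  classical
  haveI := faithfullyFlat_gamma P hP.1
  haveI : Finite (rootsOfUnity n A) := finite_rootsOfUnity hn hn1
  letI : Fintype (rootsOfUnity n A) := Fintype.ofFinite _
  have hcard : Fintype.card (rootsOfUnity n A) = n := by
    rw [← Nat.card_eq_fintype_card]
    exact card_rootsOfUnity_eq hn1 hn ζ₀ hζ₀
  have hθ := theta_bijective' P ρ hP
  obtain ⟨a, ε, hε1, hε2⟩ := exists_kummer (sigma P ρ) hn1 hn hcard hθ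
  refine ⟨a, P.left.isoSpec ≪≫ specIsoOfRingEquiv ε, ?_, ?_⟩
  · rw [Iso.trans_hom, Category.assoc, hom_eq P]
    congr 1
    change Spec.map _ ≫ Spec.map _ = _
    rw [← Spec.map_comp]
    congr 1
    exact CommRingCat.hom_ext (RingHom.ext fun x => hε1 x)
  · intro ζ
    have hnat := Scheme.isoSpec_hom_naturality (X := P.left) (Y := P.left) (ρ ζ).hom.left
    rw [Iso.trans_hom, ← Category.assoc, ← hnat, Category.assoc, Category.assoc]
    congr 1
    change Spec.map _ ≫ Spec.map _ = Spec.map _ ≫ Spec.map _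
    rw [← Spec.map_comp, ← Spec.map_comp]
    congr 1
    exact CommRingCat.hom_ext (RingHom.ext fun t => hε2 ζ t)

end Groth.Agent.H6.GalRing
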