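import Mathlib
import Groth.Prelude

set_option autoImplicit false
universe u
open IsLocalRing

set_option linter.unusedSectionVars false
set_option linter.unusedSimpArgs false
set_option linter.style.haveILetI false
namespace Groth.Agent.H6.KumTame

section Maps

variable {K : Type u} [CommRing K] {L : Type u} [Field L] [Algebra K L]
  (V : ValuationSubring L) (hV : ∀ a : K, algebraMap K L a ∈ V)

/-- the ring map `K → V`. -/
noncomputable def toV : K →+* V := RingHom.codRestrict (algebraMap K L) V hV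

theorem toV_coe (a : K) : ((toV V hV a : V) : L) = algebraMap K L a := rfl

/-- the ring map `K → κ(V)`. -/
noncomputable def toRes : K →+* ResidueField V := (residue V).comp (toV V hV)

end Maps

variable {K : Type u} [CommRing K] [IsDomain K] [IsNoetherianRing K] {L : Type u} [Field L]
  [Algebra K L] [IsFractionRing K L]

theorem exists_factor (t : K) (ht : Prime t) (a : K) (ha : a ≠ 0) :
    ∃ (k : ℕ) (a' : K), ¬ t ∣ a' ∧ a = t ^ k * a' :=
  WfDvdMonoid.max_power_factor' ha ht.not_isUnit

/-- every nonzero element of the fraction field is `t^k/t^l * a/b` with `a, b` prime to `t`. -/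
theorem exists_repr (t : K) (ht : Prime t) (x : L) (hx : x ≠ 0) :
    ∃ (k l : ℕ) (a b : K), ¬ t ∣ a ∧ ¬ t ∣ b ∧
      x = (algebraMap K L t) ^ k * algebraMap K L a / ((algebraMap K L t) ^ l * algebraMap K L b) := by
  obtain ⟨a0, b0, hb0, rfl⟩ := IsFractionRing.div_surjective (A := K) x
  have hb0' : b0 ≠ 0 := nonZeroDivisors.ne_zero hb0
  have ha0 : a0 ≠ 0 := by
    rintro rfl
    simp at hx
  obtain ⟨k, a, ha, rfl⟩ := exists_factor t ht a0 ha0
  obtain ⟨l, b, hb, rfl⟩ := exists_factor t ht b0 hb0'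
  exact ⟨k, l, a, b, ha, hb, by simp only [map_mul, map_pow]⟩

variable (V : ValuationSubring L) (t : K) (ht : Prime t)
  (hV : ∀ a : K, algebraMap K L a ∈ V)
  (hQ : ∀ a : K, V.valuation (algebraMap K L a) < 1 ↔ t ∣ a)

include hV hQ in
theorem val_eq_one (a : K) (ha : ¬ t ∣ a) : V.valuation (algebraMap K L a) = 1 := by
  apply le_antisymm
  · exact (V.valuation_le_one_iff _).mpr (hV a)
  · rw [← not_lt, hQ]
    exact ha

include hQ in
theorem val_t_lt : V.valuation (algebraMap K L t) < 1 := (hQ t).mpr dvd_rfl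

include ht in
theorem val_t_ne : V.valuation (algebraMap K L t) ≠ 0 := by
  rw [ne_eq, Valuation.zero_iff]
  intro h
  exact ht.ne_zero ((IsFractionRing.injective K L) (by rw [h, map_zero]))

include ht hV hQ in
/-- elements of `V`. -/
theorem exists_repr_of_mem (x : L) (hx : x ≠ 0) (hxV : x ∈ V) :
    ∃ (k : ℕ) (a b : K), ¬ t ∣ a ∧ ¬ t ∣ b ∧
      x = (algebraMap K L t) ^ k * (algebraMap K L a / algebraMap K L b) := by
  obtain ⟨k, l, a, b, ha, hb, rfl⟩ := exists_repr (L := L) t ht x hx
  have h1 := (V.valuation_le_one_iff _).mpr hxV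
  rw [map_div₀, map_mul, map_mul, map_pow, map_pow, val_eq_one V t hV hQ a ha,
    val_eq_one V t hV hQ b hb, mul_one, mul_one] at h1
  have h0 := val_t_ne V t ht
  have hlt := val_t_lt V t hQ
  have hpos : 0 < V.valuation (algebraMap K L t) := zero_lt_iff.mpr h0
  have h2 : V.valuation (algebraMap K L t) ^ k ≤ V.valuation (algebraMap K L t) ^ l := by
    rwa [div_le_one₀ (pow_pos hpos l)] at h1
  have h3 : l ≤ k := by
    by_contra hc
    push Not at hc
    exact absurd h2 (not_le.mpr (pow_lt_pow_right_of_lt_one₀ hpos hlt hc))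
  refine ⟨k - l, a, b, ha, hb, ?_⟩
  have ht0 : algebraMap K L t ≠ 0 := fun h => h0 (by rw [h, map_zero])
  have hb0 : algebraMap K L b ≠ 0 := by
    intro h
    apply hb
    have : b = 0 := (IsFractionRing.injective K L) (by rw [h, map_zero])
    rw [this]
    exact dvd_zero t
  obtain ⟨m, rfl⟩ := Nat.exists_eq_add_of_le h3
  rw [Nat.add_sub_cancel_left, pow_add]
  field_simp


include ht hV hQ in
theorem exists_repr_of_lt (x : L) (hx : x ≠ 0) (hxV : V.valuation x < 1) :
    ∃ (k : ℕ) (a b : K), ¬ t ∣ a ∧ ¬ t ∣ b ∧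
      x = (algebraMap K L t) ^ (k + 1) * (algebraMap K L a / algebraMap K L b) := by
  obtain ⟨k, a, b, ha, hb, rfl⟩ := exists_repr_of_mem V t ht hV hQ x hx
    ((V.valuation_le_one_iff _).mp hxV.le)
  rcases Nat.eq_zero_or_pos k with rfl | hk
  · exfalso
    rw [pow_zero, one_mul, map_div₀, val_eq_one V t hV hQ a ha, val_eq_one V t hV hQ b hb,
      div_one] at hxV
    exact lt_irrefl _ hxV
  · obtain ⟨m, rfl⟩ := Nat.exists_eq_add_of_le hk
    exact ⟨m, a, b, ha, hb, by rw [add_comm 1 m]⟩

include ht hQ in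
theorem maximalIdeal_eq : maximalIdeal V = Ideal.span {toV V hV t} := by
  apply le_antisymm
  · intro y hy
    rw [V.valuation_lt_one_iff] at hy
    by_cases hy0 : (y : L) = 0
    · have : y = 0 := Subtype.ext hy0
      rw [this]
      exact Ideal.zero_mem _
    obtain ⟨k, a, b, ha, hb, hy1⟩ := exists_repr_of_lt V t ht hV hQ (y : L) hy0 hy
    have hu : algebraMap K L a / algebraMap K L b ∈ V := by
      rw [← V.valuation_le_one_iff, map_div₀, val_eq_one V t hV hQ a ha,
        val_eq_one V t hV hQ b hb, div_one]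
    rw [Ideal.mem_span_singleton]
    refine ⟨toV V hV t ^ k * ⟨_, hu⟩, Subtype.ext ?_⟩
    rw [hy1]
    push_cast
    rw [toV_coe, pow_succ]
    ring
  · rw [Ideal.span_le, Set.singleton_subset_iff, SetLike.mem_coe, V.valuation_lt_one_iff]
    exact val_t_lt V t hQ

include hQ in
theorem toRes_ne_zero (b : K) (hb : ¬ t ∣ b) : toRes V hV b ≠ 0 := by
  intro h
  rw [toRes, RingHom.comp_apply, residue_eq_zero_iff, V.valuation_lt_one_iff, toV_coe, hQ] at h
  exact hb h

include ht hQ in
theorem exists_residue_eq (y : V) :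
    ∃ a b : K, ¬ t ∣ b ∧ residue V y * toRes V hV b = toRes V hV a := by
  by_cases hy0 : (y : L) = 0
  · have : y = 0 := Subtype.ext hy0
    refine ⟨0, 1, fun h => ht.not_isUnit (isUnit_of_dvd_one h), ?_⟩
    rw [this, map_zero, map_zero, zero_mul]
  obtain ⟨k, a, b, ha, hb, hy1⟩ := exists_repr_of_mem V t ht hV hQ (y : L) hy0 y.2
  refine ⟨t ^ k * a, b, hb, ?_⟩
  rw [toRes, RingHom.comp_apply, RingHom.comp_apply, ← map_mul]
  congr 1
  apply Subtype.ext
  push_cast
  rw [toV_coe, toV_coe, hy1, map_mul, map_pow]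
  have hb0 : algebraMap K L b ≠ 0 := by
    intro h
    apply hb
    have : b = 0 := (IsFractionRing.injective K L) (by rw [h, map_zero])
    rw [this]
    exact dvd_zero t
  field_simp

end Groth.Agent.H6.KumTame
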