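import Mathlib
import Groth.Prelude
import Groth.Agent.Lib.Helper6.KumTame1

set_option autoImplicit false
universe u
open IsLocalRing

set_option linter.unusedSectionVars false
set_option linter.unusedSimpArgs false
set_option linter.style.haveILetI false
namespace Groth.Agent.H6.KumTame

variable {K : Type u} [CommRing K] [IsDomain K] [IsNoetherianRing K] {L : Type u} [Field L]
  [Algebra K L] [IsFractionRing K L]
variable (V : ValuationSubring L) (t : K) (ht : Prime t)
  (hV : ∀ a : K, algebraMap K L a ∈ V)
  (hQ : ∀ a : K, V.valuation (algebraMap K L a) < 1 ↔ t ∣ a)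
variable (R : Type u) [CommRing R] [IsLocalRing R] (g : R →+* L) (h : EtRam.Dominates R g V)

include ht hV hQ in
theorem ramificationIdx_eq (π : R) (hπ : maximalIdeal R = Ideal.span {π}) (n : ℕ)
    (hgπ : g π = (algebraMap K L t) ^ n) :
    letI : Algebra R V := (RingHom.codRestrict g V h.1).toAlgebra
    Ideal.ramificationIdx' (maximalIdeal R) (maximalIdeal V) = n := by
  letI : Algebra R V := (RingHom.codRestrict g V h.1).toAlgebra
  have h0 : algebraMap R V π = toV V hV t ^ n := by
    apply Subtype.ext
    push_cast
    rw [toV_coe, ← hgπ]
    rfl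
  have h1 : Ideal.map (algebraMap R V) (maximalIdeal R) = Ideal.span {toV V hV t ^ n} := by
    rw [hπ, Ideal.map_span, Set.image_singleton, h0]
  have hτ0 : toV V hV t ≠ 0 := by
    intro h2
    have h3 : algebraMap K L t = 0 := by rw [← toV_coe V hV t, h2]; rfl
    exact ht.ne_zero ((IsFractionRing.injective K L) (by rw [h3, map_zero]))
  have hτu : ¬ IsUnit (toV V hV t) := by
    have h2 : toV V hV t ∈ maximalIdeal V := by
      rw [maximalIdeal_eq V t ht hV hQ]
      exact Ideal.subset_span rfl
    exact (mem_maximalIdeal _).mp h2
  apply Ideal.ramificationIdx'_spec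
  · rw [h1, maximalIdeal_eq V t ht hV hQ, Ideal.span_singleton_pow]
  · rw [h1, maximalIdeal_eq V t ht hV hQ, Ideal.span_singleton_pow,
      Ideal.span_singleton_le_span_singleton, pow_dvd_pow_iff hτ0 hτu]
    omega

include ht hV hQ in
theorem isSeparable_residue (A : Type u) [CommRing A] [Algebra A K] [Algebra A R]
    (hcompat : ∀ a : A, g (algebraMap A R a) = algebraMap K L (algebraMap A K a))
    (S : Set K) (hS : Algebra.adjoin A S = ⊤)
    (hsep : ∀ s ∈ S, t ∣ s ∨ ∃ (m : ℕ) (c : R), IsUnit (m : R) ∧ IsUnit c ∧
      algebraMap K L s ^ m = g c) :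
    letI : Algebra R V := (RingHom.codRestrict g V h.1).toAlgebra
    ∀ [IsLocalHom (algebraMap R V)],
      Algebra.IsSeparable (ResidueField R) (ResidueField V) := by
  letI : Algebra R V := (RingHom.codRestrict g V h.1).toAlgebra
  intro _
  rw [← separableClosure.eq_top_iff]
  set E := separableClosure (ResidueField R) (ResidueField V) with hE
  have hres : ∀ r : R, algebraMap (ResidueField R) (ResidueField V) (residue R r) =
      residue V (algebraMap R V r) := fun r => ResidueField.map_residue _ r
  have h1 : ∀ x : K, toRes V hV x ∈ E := by
    intro x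
    have hx : x ∈ Algebra.adjoin A S := by rw [hS]; trivial
    induction hx using Algebra.adjoin_induction with
    | mem s hs =>
      rcases hsep s hs with hts | ⟨m, c, hm, hc, hsc⟩
      · have : toRes V hV s = 0 := by
          rw [toRes, RingHom.comp_apply, residue_eq_zero_iff, V.valuation_lt_one_iff, toV_coe, hQ]
          exact hts
        rw [this]
        exact zero_mem _
      · rw [hE, mem_separableClosure_iff]
        have h2 : toRes V hV s ^ m =
            algebraMap (ResidueField R) (ResidueField V) (residue R c) := by
          rw [hres, ← map_pow, toRes, RingHom.comp_apply]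
          congr 1
          apply Subtype.ext
          push_cast
          rw [toV_coe, map_pow, hsc]
          rfl
        have hm' : ((m : ℕ) : ResidueField R) ≠ 0 := by
          have := (hm.map (residue R)).ne_zero
          rwa [map_natCast] at this
        have hc' : residue R c ≠ 0 := (hc.map (residue R)).ne_zero
        have h3 := Polynomial.separable_X_pow_sub_C (residue R c) hm' hc'
        refine h3.of_dvd (minpoly.dvd _ _ ?_)
        simp [h2]
    | algebraMap a =>
      have : toRes V hV (algebraMap A K a) =
          algebraMap (ResidueField R) (ResidueField V) (residue R (algebraMap A R a)) := by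
        rw [hres, toRes, RingHom.comp_apply]
        congr 1
        apply Subtype.ext
        rw [toV_coe, ← hcompat]
        rfl
      rw [this]
      exact E.algebraMap_mem _
    | add x y _ _ hx hy => rw [map_add]; exact add_mem hx hy
    | mul x y _ _ hx hy => rw [map_mul]; exact mul_mem hx hy
  rw [eq_top_iff]
  intro z _
  obtain ⟨y, rfl⟩ := residue_surjective z
  obtain ⟨a, b, hb, hab⟩ := exists_residue_eq V t ht hV hQ y
  have hb0 := toRes_ne_zero V t hV hQ b hb
  have : residue V y = toRes V hV a / toRes V hV b := by
    rw [eq_div_iff hb0, hab]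
  rw [this]
  exact div_mem (h1 a) (h1 b)

end Groth.Agent.H6.KumTame
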