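import Mathlib
import Groth.Prelude
import Groth.Agent.Lib.Helper6.KumTame2

set_option autoImplicit false
universe u
open IsLocalRing

set_option linter.unusedSectionVars false
set_option linter.unusedSimpArgs false
set_option linter.style.haveILetI false
namespace Groth.Agent.H6.KumTame

theorem mem_of_integral {A : Type u} [CommRing A] {K : Type u} [CommRing K] [Algebra A K]
    [Algebra.IsIntegral A K] {L : Type u} [Field L] [Algebra K L] (V : ValuationSubring L)
    (hA : ∀ a : A, algebraMap K L (algebraMap A K a) ∈ V) (x : K) : algebraMap K L x ∈ V := by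
  obtain ⟨p, hp, hpx⟩ := Algebra.IsIntegral.isIntegral (R := A) x
  let θ : A →+* V := RingHom.codRestrict ((algebraMap K L).comp (algebraMap A K)) V hA
  have h1 : IsIntegral V (algebraMap K L x) := by
    refine ⟨p.map θ, hp.map θ, ?_⟩
    rw [Polynomial.eval₂_map]
    have : (algebraMap V L).comp θ = (algebraMap K L).comp (algebraMap A K) := by
      ext a
      rfl
    rw [this, ← Polynomial.hom_eval₂, hpx, map_zero]
  obtain ⟨y, hy⟩ := IsIntegrallyClosed.algebraMap_eq_of_integral h1
  rw [← hy]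
  exact y.2

variable {A : Type u} [CommRing A] (P : Ideal A) [P.IsPrime]
  {K : Type u} [CommRing K] [IsDomain K] [Algebra A K] [Algebra.IsIntegral A K]
  {L : Type u} [Field L] [Algebra K L]
  (R : Type u) [CommRing R] [IsLocalRing R] [Algebra A R] [IsLocalization.AtPrime R P]
  (g : R →+* L) (hcompat : ∀ a : A, g (algebraMap A R a) = algebraMap K L (algebraMap A K a))
  (V : ValuationSubring L) (h : EtRam.Dominates R g V)

include h hcompat in
theorem mem_V (x : K) : algebraMap K L x ∈ V := by
  apply mem_of_integral (A := A) V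
  intro a
  rw [← hcompat]
  exact h.1 _

include h P in
theorem val_eq_one_of_not_mem (a : A) (ha : a ∉ P) : V.valuation (g (algebraMap A R a)) = 1 := by
  have hu : IsUnit (algebraMap A R a) :=
    IsLocalization.map_units R (⟨a, ha⟩ : P.primeCompl)
  obtain ⟨u, hu⟩ := hu
  have h1 : V.valuation (g u) ≤ 1 := (V.valuation_le_one_iff _).mpr (h.1 _)
  have h2 : V.valuation (g (u⁻¹ : Rˣ)) ≤ 1 := (V.valuation_le_one_iff _).mpr (h.1 _)
  have h3 : V.valuation (g u) * V.valuation (g (u⁻¹ : Rˣ)) = 1 := by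
    rw [← map_mul, ← map_mul, ← Units.val_mul, mul_inv_cancel, Units.val_one, map_one, map_one]
  rw [← hu]
  apply le_antisymm h1
  by_contra hc
  push Not at hc
  have h0 : V.valuation (g u) ≠ 0 := left_ne_zero_of_mul_eq_one h3
  have h4 : V.valuation (g (u⁻¹ : Rˣ)) = (V.valuation (g u))⁻¹ :=
    eq_inv_of_mul_eq_one_right h3
  rw [h4] at h2
  exact absurd h2 (not_le.mpr ((one_lt_inv₀ (zero_lt_iff.mpr h0)).mpr hc))

include h hcompat in
theorem val_lt_iff (t : K) (ht : Prime t) (π : A) (hP : P = Ideal.span {π}) (n : ℕ) (hn : 1 ≤ n)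
    (htn : t ^ n = algebraMap A K π) (a : K) :
    V.valuation (algebraMap K L a) < 1 ↔ t ∣ a := by
  have hV := mem_V R g hcompat V h
  set Q : Ideal K := (maximalIdeal V).comap (toV V hV) with hQdef
  haveI : Q.IsPrime := Ideal.comap_isPrime _ _
  have hQ : ∀ x : K, x ∈ Q ↔ V.valuation (algebraMap K L x) < 1 := by
    intro x
    rw [hQdef, Ideal.mem_comap, V.valuation_lt_one_iff, toV_coe]
  have ht0 : t ≠ 0 := ht.ne_zero
  haveI hPt : (Ideal.span {t}).IsPrime := (Ideal.span_singleton_prime ht0).mpr ht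
  have hπP : π ∈ P := by rw [hP]; exact Ideal.subset_span rfl
  -- (i) t ∈ Q
  have h1 : t ∈ Q := by
    rw [hQ]
    by_contra hc
    push Not at hc
    have h2 : V.valuation (algebraMap K L (t ^ n)) < 1 := by
      rw [htn, ← hcompat]
      exact h.2 _ ((IsLocalization.AtPrime.to_map_mem_maximal_iff R P π).mpr hπP)
    rw [map_pow, map_pow] at h2
    exact absurd h2 (not_lt.mpr (one_le_pow₀ hc))
  have h2 : Ideal.span {t} ≤ Q := by
    rw [Ideal.span_le, Set.singleton_subset_iff]
    exact h1
  -- (ii)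
  have h3 : Q.comap (algebraMap A K) ≤ P := by
    intro x hx
    rw [Ideal.mem_comap, hQ, ← hcompat] at hx
    by_contra hc
    rw [val_eq_one_of_not_mem P R g V h x hc] at hx
    exact lt_irrefl _ hx
  -- (iii)
  have h4 : P ≤ (Ideal.span {t}).comap (algebraMap A K) := by
    rw [hP, Ideal.span_le, Set.singleton_subset_iff, SetLike.mem_coe, Ideal.mem_comap, ← htn]
    exact Ideal.pow_mem_of_mem (Ideal.span {t}) (Ideal.subset_span rfl) n (Nat.lt_of_lt_of_le Nat.zero_lt_one hn)
  have h5 : Q = Ideal.span {t} := by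
    by_contra hne
    have hlt : Ideal.span {t} < Q := lt_of_le_of_ne h2 (Ne.symm hne)
    obtain ⟨x, hxQ, hxt⟩ := Set.exists_of_ssubset hlt
    have h6 := Ideal.comap_lt_comap_of_integral_mem_sdiff (R := A) h2 ⟨hxQ, hxt⟩
      (Algebra.IsIntegral.isIntegral x)
    exact absurd (h4.trans (le_refl _)) (not_le_of_gt (lt_of_lt_of_le h6 h3))
  rw [← hQ, h5, Ideal.mem_span_singleton]

end Groth.Agent.H6.KumTame
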