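import Mathlib
import Groth.Prelude
import Groth.Agent.Lib.Helper6.KumReg5
import Groth.Agent.Lib.Helper1.RegDer

set_option autoImplicit false
universe u
open IsLocalRing MvPolynomial

set_option linter.unusedSectionVars false
set_option linter.unusedSimpArgs false
set_option linter.style.haveILetI false
namespace Groth.Agent.H6.KumTame

open Groth.Agent.H6.KumReg

theorem T_not_mem_sq (A : Type u) [CommRing A] [IsRegularLocalRing A] (r : ℕ) (f : Fin r → A)
    (hm : ∀ i, f i ∈ maximalIdeal A)
    (hf : LinearIndependent (ResidueField A) (fun i => (maximalIdeal A).toCotangent ⟨f i, hm i⟩))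
    (n : Fin r → ℕ) (hn : ∀ i, 1 ≤ n i) (i : Fin r) :
    letI := isLocalRing A f n hm hn
    T A f n i ∉ maximalIdeal (SGA1.kummerAlg A f n) ^ 2 := by
  haveI : IsDomain A := Groth.Agent.H7.Reg.isDomain A
  haveI hloc := isLocalRing A f n hm hn
  haveI hint := isIntegral A f n hn
  haveI hreg := isRegularLocalRing A r f hm hf n hn
  have hdim : ringKrullDim (SGA1.kummerAlg A f n) = ringKrullDim A :=
    Groth.Agent.H7.ND.dim_eq_of_integral_injective A _ (injective A f n hn)
  obtain ⟨e, y, he, hy⟩ := Groth.Agent.H1.Reg.exists_extension_generators r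
    (fun i => (⟨f i, hm i⟩ : maximalIdeal A)) hf
  have hJ := J_eq_span A f n hn (fun j => (y j : A)) hy
  have hmax : maximalIdeal (SGA1.kummerAlg A f n) = J A f n := maximalIdeal_eq A f n hm hn
  have hd : (maximalIdeal A).spanFinrank = e + r := by
    rw [spanFinrank_maximalIdeal_eq_finrank_cotangentSpace, ← he]
  have hdK : (maximalIdeal (SGA1.kummerAlg A f n)).spanFinrank = e + r := by
    have h1 := IsRegularLocalRing.spanFinrank_maximalIdeal (R := SGA1.kummerAlg A f n)
    have h2 := IsRegularLocalRing.spanFinrank_maximalIdeal (R := A)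
    rw [hdim, ← h2, hd] at h1
    exact_mod_cast h1
  set S : Set (SGA1.kummerAlg A f n) := Set.range (T A f n) ∪
      Set.range (fun j => algebraMap A (SGA1.kummerAlg A f n) (y j)) with hS
  have hfin : S.Finite := (Set.finite_range _).union (Set.finite_range _)
  have h2 : S.ncard ≤ e + r := by
    refine (Set.ncard_union_le _ _).trans ?_
    have h3 : (Set.range (T A f n)).ncard ≤ r := by
      have := Set.ncard_image_le (f := T A f n) (Set.finite_univ (α := Fin r))
      rwa [Set.image_univ, Set.ncard_univ, Nat.card_fin] at this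
    have h4 : (Set.range (fun j => algebraMap A (SGA1.kummerAlg A f n) (y j))).ncard ≤ e := by
      have := Set.ncard_image_le (f := fun j => algebraMap A (SGA1.kummerAlg A f n) (y j))
        (Set.finite_univ (α := Fin e))
      rwa [Set.image_univ, Set.ncard_univ, Nat.card_fin] at this
    omega
  intro hT
  have hTS : T A f n i ∈ S := Or.inl ⟨i, rfl⟩
  have h5 : maximalIdeal (SGA1.kummerAlg A f n) ≤ Ideal.span (S \ {T A f n i}) := by
    apply Submodule.le_of_le_smul_of_le_jacobson_bot (I := maximalIdeal (SGA1.kummerAlg A f n))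
      (IsNoetherian.noetherian _) (maximalIdeal_le_jacobson _)
    conv_lhs => rw [hmax, hJ]
    rw [Ideal.span_le]
    intro s hs
    by_cases hsT : s = T A f n i
    · rw [hsT]
      apply Submodule.mem_sup_right
      rw [smul_eq_mul, ← pow_two]
      exact hT
    · exact Submodule.mem_sup_left (Ideal.subset_span ⟨hs, hsT⟩)
  have h6 : maximalIdeal (SGA1.kummerAlg A f n) = Ideal.span (S \ {T A f n i}) := by
    apply le_antisymm h5
    rw [Ideal.span_le, hmax, hJ]
    exact fun s hs => Ideal.subset_span hs.1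
  have h7 := Submodule.spanFinrank_span_le_ncard_of_finite (R := SGA1.kummerAlg A f n)
    (hfin.sdiff (t := {T A f n i}))
  have h8 := Set.ncard_sdiff_singleton_lt_of_mem hTS hfin
  rw [← Ideal.span, ← h6, hdK] at h7
  omega

theorem T_ne_zero (A : Type u) [CommRing A] [IsRegularLocalRing A] [IsDomain A] (r : ℕ)
    (f : Fin r → A) (hm : ∀ i, f i ∈ maximalIdeal A)
    (hf : LinearIndependent (ResidueField A) (fun i => (maximalIdeal A).toCotangent ⟨f i, hm i⟩))
    (n : Fin r → ℕ) (hn : ∀ i, 1 ≤ n i) (i : Fin r) : T A f n i ≠ 0 := by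
  intro h
  have h1 := T_pow A f n i
  rw [h, zero_pow (by have := hn i; omega)] at h1
  have h2 : f i = 0 := (injective A f n hn) (by rw [← h1, map_zero])
  have h3 := hf.ne_zero i
  apply h3
  have : (⟨f i, hm i⟩ : maximalIdeal A) = 0 := Subtype.ext h2
  rw [this, map_zero]

theorem prime_T (A : Type u) [CommRing A] [IsRegularLocalRing A] [IsDomain A] (r : ℕ)
    (f : Fin r → A) (hm : ∀ i, f i ∈ maximalIdeal A)
    (hf : LinearIndependent (ResidueField A) (fun i => (maximalIdeal A).toCotangent ⟨f i, hm i⟩))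
    (n : Fin r → ℕ) (hn : ∀ i, 1 ≤ n i) (i : Fin r) : Prime (T A f n i) := by
  haveI hreg := isRegularLocalRing A r f hm hf n hn
  have h1 : T A f n i ∈ maximalIdeal (SGA1.kummerAlg A f n) := by
    have := maximalIdeal_eq A f n hm hn
    rw [this]
    exact T_mem_J A f n i
  have h2 := T_not_mem_sq A r f hm hf n hn i
  haveI h3 := Groth.Agent.H1.RegDer.isRegularLocalRing_quotient_of_not_mem_sq
    (SGA1.kummerAlg A f n) (T A f n i) h1 h2
  haveI h4 := Groth.Agent.H7.Reg.isDomain (SGA1.kummerAlg A f n ⧸ Ideal.span {T A f n i})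
  have h5 : (Ideal.span {T A f n i}).IsPrime := (Ideal.Quotient.isDomain_iff_prime _).mp h4
  exact (Ideal.span_singleton_prime (T_ne_zero A r f hm hf n hn i)).mp h5

theorem f_not_mem (A : Type u) [CommRing A] [IsLocalRing A] (r : ℕ)
    (f : Fin r → A) (hm : ∀ i, f i ∈ maximalIdeal A)
    (hf : LinearIndependent (ResidueField A) (fun i => (maximalIdeal A).toCotangent ⟨f i, hm i⟩))
    (i j : Fin r) (hij : j ≠ i) : f j ∉ Ideal.span {f i} := by
  intro h
  obtain ⟨c, hc⟩ := Ideal.mem_span_singleton'.mp h
  have h1 := hf.notMem_span_image (s := {i}) (x := j) (by simpa using hij)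
  apply h1
  rw [Set.image_singleton, Submodule.mem_span_singleton]
  refine ⟨residue A c, ?_⟩
  have h2 : (⟨f j, hm j⟩ : maximalIdeal A) = c • ⟨f i, hm i⟩ := Subtype.ext (by simp [← hc])
  rw [h2, map_smul]
  rfl

end Groth.Agent.H6.KumTame
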