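import Mathlib
import Groth.Prelude
import Groth.Agent.Lib.Helper6.KumTame3
import Groth.Agent.Lib.Helper6.KumTame4

set_option autoImplicit false
universe u
open IsLocalRing MvPolynomial

set_option linter.unusedSectionVars false
set_option linter.unusedSimpArgs false
set_option linter.style.haveILetI false
namespace Groth.Agent.H6.KumTame

open Groth.Agent.H6.KumReg

theorem main (A : Type u) [CommRing A] [IsRegularLocalRing A] [IsDomain A] (r : ℕ) (f : Fin r → A)
    (hm : ∀ i, f i ∈ maximalIdeal A)
    (hf : LinearIndependent (ResidueField A) (fun i => (maximalIdeal A).toCotangent ⟨f i, hm i⟩))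
    [∀ i, (Ideal.span {f i}).IsPrime] (n : Fin r → ℕ) (hn : ∀ i, 1 ≤ n i)
    (hu : ∀ i, IsUnit ((n i : ℕ) : ResidueField A)) :
    SGA1.IsTameAlong f (algebraMap A (SGA1.kummerAlg A f n)) := by
  intro i q _ hq V h
  haveI hreg := isRegularLocalRing A r f hm hf n hn
  haveI : IsDomain (SGA1.kummerAlg A f n) := Groth.Agent.H7.Reg.isDomain _
  haveI := isIntegral A f n hn
  obtain rfl : q = ⊥ := Ideal.eq_bot_of_comap_eq_bot hq
  have hcompat : ∀ a : A, SGA1.genericResidueMap (algebraMap A (SGA1.kummerAlg A f n))
      (Ideal.span {f i}) ⊥ hq (algebraMap A (Localization.AtPrime (Ideal.span {f i})) a) =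
      algebraMap (SGA1.kummerAlg A f n) (⊥ : Ideal (SGA1.kummerAlg A f n)).ResidueField
        (algebraMap A (SGA1.kummerAlg A f n) a) := by
    intro a
    exact IsLocalization.lift_eq _ a
  have ht := prime_T A r f hm hf n hn i
  have hV := mem_V (Localization.AtPrime (Ideal.span {f i})) _ hcompat V h
  have hQ := val_lt_iff (Ideal.span {f i}) (Localization.AtPrime (Ideal.span {f i})) _ hcompat V h
    (T A f n i) ht (f i) rfl (n i) (hn i) (T_pow A f n i)
  have hnu : IsUnit ((n i : ℕ) : Localization.AtPrime (Ideal.span {f i})) := by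
    have := (isUnit_natCast_of_residue A (n i) (hu i)).map
      (algebraMap A (Localization.AtPrime (Ideal.span {f i})))
    rwa [map_natCast] at this
  intro _
  refine ⟨?_, ?_⟩
  · refine isSeparable_residue V (T A f n i) ht hV hQ _ _ h A hcompat (Set.range (T A f n))
      (adjoin_T A f n) ?_
    rintro _ ⟨j, rfl⟩
    by_cases hji : j = i
    · left
      rw [hji]
    · right
      refine ⟨n j, algebraMap A _ (f j), ?_, ?_, ?_⟩
      · have := (isUnit_natCast_of_residue A (n j) (hu j)).map
          (algebraMap A (Localization.AtPrime (Ideal.span {f i})))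
        rwa [map_natCast] at this
      · exact IsLocalization.map_units _
          (⟨f j, f_not_mem A r f hm hf i j hji⟩ : (Ideal.span {f i}).primeCompl)
      · rw [hcompat, ← map_pow, T_pow]
  · intro p hp hchar hdvd
    have h1 := ramificationIdx_eq V (T A f n i) ht hV hQ
      (Localization.AtPrime (Ideal.span {f i})) _ h
      (algebraMap A _ (f i)) ?_ (n i) ?_
    · rw [h1] at hdvd
      have h2 := (CharP.cast_eq_zero_iff (ResidueField (Localization.AtPrime (Ideal.span {f i})))
        p (n i)).mpr hdvd
      have h3 := (hnu.map (residue _)).ne_zero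
      rw [map_natCast] at h3
      exact h3 h2
    · rw [← Localization.AtPrime.map_eq_maximalIdeal, Ideal.map_span, Set.image_singleton]
    · rw [hcompat, ← map_pow, T_pow]

end Groth.Agent.H6.KumTame
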