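import Mathlib
import Groth.Agent.Lib.Helper6.Cech4

/-! Local cohomology only depends on the radical of the ideal; Čech computation for ideals given up to radical. -/

set_option autoImplicit false
set_option linter.unusedSectionVars false

open CategoryTheory Limits Category

universe u

namespace Groth.Agent.H6.LCRad

open Groth.Agent.H8.LC Groth.Agent.H6.Cech

variable {R : Type u} [CommRing R] [IsNoetherianRing R]

lemma tors_le_of_le_radical {I J : Ideal R} (h : J ≤ I.radical) (M : Type u) [AddCommGroup M]
    [Module R M] : tors I M ≤ tors J M := by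
  intro m hm
  obtain ⟨n, hn⟩ := hm
  obtain ⟨k, hk⟩ := Ideal.exists_pow_le_of_le_radical_of_fg h (IsNoetherian.noetherian J)
  refine ⟨k * n, fun a ha => hn a ?_⟩
  rw [pow_mul] at ha
  exact Ideal.pow_right_mono hk n ha

lemma tors_eq_of_radical {I J : Ideal R} (h1 : I ≤ J.radical) (h2 : J ≤ I.radical) (M : Type u)
    [AddCommGroup M] [Module R M] : tors I M = tors J M :=
  le_antisymm (tors_le_of_le_radical h2 M) (tors_le_of_le_radical h1 M)

/-- `Γ_I ≅ Γ_J` when `I` and `J` have the same radical. -/
noncomputable def ΓIso {I J : Ideal R} (h1 : I ≤ J.radical) (h2 : J ≤ I.radical) : Γ I ≅ Γ J :=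
  NatIso.ofComponents (fun M => (LinearEquiv.ofEq _ _ (tors_eq_of_radical h1 h2 M)).toModuleIso) (by
    intro M N g
    ext x
    apply Subtype.ext
    rfl)

/-- Local cohomology depends only on the radical. -/
noncomputable def lcIso {I J : Ideal R} (h1 : I ≤ J.radical) (h2 : J ≤ I.radical) (n : ℕ) :
    localCohomology I n ≅ localCohomology J n :=
  DeltaFunctor.extIso (T := lcDelta I) (S := lcDelta J) (lcDelta_effaceable I) (lcDelta_effaceable J)
    (H0Iso I ≪≫ ΓIso h1 h2 ≪≫ (H0Iso J).symm) n

/-- Čech cohomology on `fs` computes local cohomology for any ideal with the same radical as `(fs)`. -/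
noncomputable def cechIsoLC' (fs : List R) (J : Ideal R) (h1 : ∀ a ∈ fs, a ∈ J.radical)
    (h2 : J ≤ (Ideal.span {a : R | a ∈ fs}).radical) (n : ℕ) :
    (cechDelta fs).F n ≅ localCohomology J n :=
  cechIsoLC fs n ≪≫ lcIso (Ideal.span_le.2 (fun a ha => h1 a ha)) h2 n

end Groth.Agent.H6.LCRad
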