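import Mathlib
import Groth.Agent.Lib.Helper6.DirCont2
import Groth.Agent.Lib.Helper6.LCRad

/-! Top local cohomology (ideal generated up to radical by `d` elements) is a left adjoint. -/

set_option autoImplicit false
set_option linter.unusedSectionVars false

open CategoryTheory Limits Category

universe u

namespace Groth.Agent.H6.LCAdj

open Groth.Agent.H8.LC Groth.Agent.H6.Cech Groth.Agent.H6.DirCont DerCA

section Delta

variable {C : Type*} [Category C] [Abelian C] {D : Type*} [Category D] [Abelian D]

/-- The top degree of a δ-functor (vanishing above) is right exact. -/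
lemma preservesFiniteColimits_top (T : DeltaFunctor C D) (d : ℕ) [(T.F d).Additive]
    (hz : ∀ M, IsZero ((T.F (d + 1)).obj M)) : PreservesFiniteColimits (T.F d) := by
  rw [Functor.preservesFiniteColimits_iff_forall_exact_map_and_epi]
  intro S hS
  refine ⟨T.exact₂ hS d, ?_⟩
  have h := T.exact₃ hS d
  exact (ShortComplex.exact_iff_epi _ ((hz _).eq_of_tgt _ _)).1 h

end Delta

variable {R : Type u} [CommRing R]

instance (fs : List R) (n : ℕ) : ((cechDelta fs).F n).Additive := by
  change (cechFunctor fs ⋙ HomologicalComplex.homologyFunctor _ _ (n : ℤ)).Additive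
  infer_instance

lemma isZero_cech_succ (fs : List R) (M : ModuleCat.{u} R) :
    IsZero (((cechDelta fs).F (fs.length + 1)).obj M) := by
  change IsZero ((extCech M fs).homology ((fs.length + 1 : ℕ) : ℤ))
  apply ShortComplex.isZero_homology_of_isZero_X₂
  exact H5ExtCech.isZero_extCech_X M fs _ (Or.inr (by push_cast; lia))

/-- The top Čech cohomology functor preserves all (small) colimits. -/
lemma preservesColimits_cech_top (fs : List R) :
    PreservesColimitsOfSize.{u, u} ((cechDelta fs).F fs.length) := by
  have h1 : PreservesFiniteColimits ((cechDelta fs).F fs.length) :=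
    preservesFiniteColimits_top (cechDelta fs) fs.length (isZero_cech_succ fs)
  have h2 : DC ((cechDelta fs).F fs.length) := dc_cechH fs (fs.length : ℤ)
  have h3 : ∀ J : Type u, PreservesColimitsOfShape (Discrete J) ((cechDelta fs).F fs.length) :=
    fun J => preservesCoproducts_of_dc h2 J
  exact preservesColimits_of_preservesCoequalizers_and_coproducts _

/-- A colimit-preserving functor out of a module category is a left adjoint (SAFT). -/
lemma isLeftAdjoint_of_preservesColimits {D : Type*} [Category.{u} D]
    (T : ModuleCat.{u} R ⥤ D) [PreservesColimitsOfSize.{u, u} T] : T.IsLeftAdjoint :=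
  isLeftAdjoint_of_preservesColimits_of_isSeparating (ModuleCat.isSeparator R) T

variable [IsNoetherianRing R]

/-- Local cohomology in degree `d` w.r.t. an ideal generated up to radical by `d` elements preserves colimits. -/
lemma preservesColimits_lc_top (J : Ideal R) (fs : List R) (h1 : ∀ a ∈ fs, a ∈ J.radical)
    (h2 : J ≤ (Ideal.span {a : R | a ∈ fs}).radical) :
    PreservesColimitsOfSize.{u, u} (localCohomology J fs.length) := by
  have := preservesColimits_cech_top fs
  exact preservesColimits_of_natIso (LCRad.cechIsoLC' fs J h1 h2 fs.length)

end Groth.Agent.H6.LCAdj
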