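import Mathlib

set_option autoImplicit false

universe u

open AlgebraicGeometry CategoryTheory Limits

namespace Groth.Agent.H6.LCSigma

variable (S : Scheme.{u}) (M : Type u) (T : Scheme.{u})

/-- index function of a morphism to a constant scheme -/
noncomputable def idx (f : T ⟶ ∐ (fun _ : M => S)) (t : T) : M :=
  ((sigmaMk (fun _ : M => S)).symm (f.base t)).1

theorem isLocallyConstant_fst : IsLocallyConstant (Sigma.fst : (Σ _ : M, S) → M) := by
  rw [IsLocallyConstant.iff_isOpen_fiber]
  intro m
  have : (Sigma.fst : (Σ _ : M, S) → M) ⁻¹' {m} = Set.range (Sigma.mk m) := by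
    ext ⟨i, x⟩
    simp only [Set.mem_preimage, Set.mem_singleton_iff, Set.mem_range]
    constructor
    · rintro rfl
      exact ⟨x, rfl⟩
    · rintro ⟨y, hy⟩
      exact (congrArg Sigma.fst hy).symm
  rw [this]
  exact isOpen_range_sigmaMk

theorem idx_isLocallyConstant (f : T ⟶ ∐ (fun _ : M => S)) : IsLocallyConstant (idx S M T f) := by
  have h1 : Continuous (fun t : T => (sigmaMk (fun _ : M => S)).symm (f.base t)) :=
    (sigmaMk (fun _ : M => S)).symm.continuous.comp f.continuous
  exact (isLocallyConstant_fst S M).comp_continuous h1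

theorem base_eq (f : T ⟶ ∐ (fun _ : M => S)) (t : T) :
    f.base t = (Sigma.ι (fun _ : M => S) (idx S M T f t)).base
      ((sigmaMk (fun _ : M => S)).symm (f.base t)).2 := by
  rw [← sigmaMk_mk]
  exact ((sigmaMk (fun _ : M => S)).apply_symm_apply (f.base t)).symm

/-- the open where a locally constant function takes value `m`. -/
def fib (ℓ : LocallyConstant T M) (m : M) : T.Opens :=
  ⟨ℓ ⁻¹' {m}, ℓ.isLocallyConstant.isOpen_fiber m⟩

theorem mem_fib (ℓ : LocallyConstant T M) (m : M) (t : T) : t ∈ fib M T ℓ m ↔ ℓ t = m := Iff.rfl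

theorem nonempty_isColimit (ℓ : LocallyConstant T M) :
    Nonempty (IsColimit <| Cofan.mk T (fun m => (fib M T ℓ m).ι)) := by
  apply nonempty_isColimit_cofanMk_of
  · rw [eq_top_iff]
    intro t _
    simp only [Scheme.Opens.opensRange_ι]
    rw [TopologicalSpace.Opens.mem_iSup]
    exact ⟨ℓ t, rfl⟩
  · intro m m' hmm'
    simp only [Function.onFun, Scheme.Opens.opensRange_ι]
    rw [disjoint_iff]
    ext t
    simp only [TopologicalSpace.Opens.coe_inf, Set.mem_inter_iff, SetLike.mem_coe,
      TopologicalSpace.Opens.coe_bot, Set.mem_empty_iff_false, iff_false, not_and]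
    intro h1 h2
    exact hmm' (h1.symm.trans h2)

end Groth.Agent.H6.LCSigma
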