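import Groth.Agent.Lib.Helper6.LCSigmaA

set_option autoImplicit false

universe u

open AlgebraicGeometry CategoryTheory Limits

namespace Groth.Agent.H6.LCSigma

variable (S : Scheme.{u}) (M : Type u) (T : Scheme.{u}) (p : T ⟶ S)

/-- Key lemma A. -/
theorem restrict_eq (f : T ⟶ ∐ (fun _ : M => S)) (hf : f ≫ Sigma.desc (fun _ : M => 𝟙 S) = p)
    (ℓ : LocallyConstant T M) (hℓ : ∀ t, idx S M T f t = ℓ t) (m : M) :
    (fib M T ℓ m).ι ≫ f = (fib M T ℓ m).ι ≫ p ≫ Sigma.ι (fun _ : M => S) m := by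
  have hrange : Set.range ((fib M T ℓ m).ι ≫ f).base ⊆ Set.range (Sigma.ι (fun _ : M => S) m).base := by
    rintro _ ⟨t', rfl⟩
    have ht : ℓ ((fib M T ℓ m).ι.base t') = m := t'.2
    refine ⟨((sigmaMk (fun _ : M => S)).symm (f.base ((fib M T ℓ m).ι.base t'))).2, ?_⟩
    have := base_eq S M T f ((fib M T ℓ m).ι.base t')
    rw [hℓ, ht] at this
    rw [Scheme.Hom.comp_base, TopCat.comp_app]
    exact this.symm
  have h1 := IsOpenImmersion.lift_fac (Sigma.ι (fun _ : M => S) m) ((fib M T ℓ m).ι ≫ f) hrange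
  have h2 : IsOpenImmersion.lift (Sigma.ι (fun _ : M => S) m) ((fib M T ℓ m).ι ≫ f) hrange =
      (fib M T ℓ m).ι ≫ p := by
    have h3 := congrArg (· ≫ Sigma.desc (fun _ : M => 𝟙 S)) h1
    simp only [Category.assoc, Sigma.ι_desc, Category.comp_id] at h3
    rw [h3, hf]
  rw [← h1, h2, Category.assoc]

theorem hom_ext_of_idx (f f' : T ⟶ ∐ (fun _ : M => S))
    (hf : f ≫ Sigma.desc (fun _ : M => 𝟙 S) = p) (hf' : f' ≫ Sigma.desc (fun _ : M => 𝟙 S) = p)
    (h : ∀ t, idx S M T f t = idx S M T f' t) : f = f' := by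
  let ℓ : LocallyConstant T M := ⟨idx S M T f, idx_isLocallyConstant S M T f⟩
  obtain ⟨hc⟩ := nonempty_isColimit M T ℓ
  refine Cofan.IsColimit.hom_ext hc _ _ (fun m => ?_)
  change (fib M T ℓ m).ι ≫ f = (fib M T ℓ m).ι ≫ f'
  rw [restrict_eq S M T p f hf ℓ (fun _ => rfl) m,
    restrict_eq S M T p f' hf' ℓ (fun t => (h t).symm) m]

theorem exists_of_locallyConstant (ℓ : LocallyConstant T M) :
    ∃ f : T ⟶ ∐ (fun _ : M => S), f ≫ Sigma.desc (fun _ : M => 𝟙 S) = p ∧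
      ∀ t, idx S M T f t = ℓ t := by
  obtain ⟨hc⟩ := nonempty_isColimit M T ℓ
  let f : T ⟶ ∐ (fun _ : M => S) :=
    Cofan.IsColimit.desc hc (fun m => (fib M T ℓ m).ι ≫ p ≫ Sigma.ι (fun _ : M => S) m)
  have hfac : ∀ m, (fib M T ℓ m).ι ≫ f = (fib M T ℓ m).ι ≫ p ≫ Sigma.ι (fun _ : M => S) m :=
    fun m => Cofan.IsColimit.fac hc _ m
  refine ⟨f, ?_, ?_⟩
  · refine Cofan.IsColimit.hom_ext hc _ _ (fun m => ?_)
    change (fib M T ℓ m).ι ≫ f ≫ _ = (fib M T ℓ m).ι ≫ p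
    rw [← Category.assoc, hfac m]
    simp
  · intro t
    have ht : t ∈ fib M T ℓ (ℓ t) := rfl
    have h1 : f.base t = (Sigma.ι (fun _ : M => S) (ℓ t)).base (p.base t) := by
      have h2 := congrArg (fun g : (fib M T ℓ (ℓ t) : Scheme) ⟶ _ => g.base ⟨t, ht⟩) (hfac (ℓ t))
      simp only [Scheme.Hom.comp_base] at h2
      exact h2
    unfold idx
    rw [h1, ← sigmaMk_mk, Homeomorph.symm_apply_apply]

/-- The equivalence. -/
noncomputable def equiv :
    {f : T ⟶ ∐ (fun _ : M => S) // f ≫ Sigma.desc (fun _ : M => 𝟙 S) = p} ≃ LocallyConstant T M :=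
  Equiv.ofBijective (fun f => ⟨idx S M T f.1, idx_isLocallyConstant S M T f.1⟩) (by
    constructor
    · rintro ⟨f, hf⟩ ⟨f', hf'⟩ h
      apply Subtype.ext
      refine hom_ext_of_idx S M T p f f' hf hf' (fun t => ?_)
      exact congrArg (fun ℓ : LocallyConstant T M => ℓ t) h
    · intro ℓ
      obtain ⟨f, hf, hidx⟩ := exists_of_locallyConstant S M T p ℓ
      refine ⟨⟨f, hf⟩, ?_⟩
      ext t
      exact hidx t)

theorem equiv_apply (f : {f : T ⟶ ∐ (fun _ : M => S) // f ≫ Sigma.desc (fun _ : M => 𝟙 S) = p})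
    (t : T) : equiv S M T p f t = ((sigmaMk (fun _ : M => S)).symm (f.1.base t)).1 := rfl

end Groth.Agent.H6.LCSigma
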