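import Mathlib
import Groth.Prelude.Def_FlatCA

/-!
# Directed colimits of rings: finite lifting and finite equality descent (helper6)
-/

set_option autoImplicit false
universe u
open Function

namespace Groth.Agent.H6.LimFlatD

section Generic

variable {ι : Type u} [Preorder ι] {G : ι → Type u} [∀ i, CommRing (G i)]
  {g : ∀ i j, i ≤ j → G i →+* G j} {A' : Type u} [CommRing A'] [∀ i, Algebra (G i) A']
  (hc : FlatCA.IsDirectedColimitRing G g A')

include hc

theorem dc_directed (i j : ι) : ∃ k, i ≤ k ∧ j ≤ k :=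
  haveI := hc.1
  directed_of (· ≤ ·) i j

theorem dc_nonempty : Nonempty ι := hc.2.1

theorem dc_id (i : ι) (x : G i) : g i i le_rfl x = x := by
  rw [hc.2.2.1 i]; rfl

theorem dc_comp (i j k : ι) (hij : i ≤ j) (hjk : j ≤ k) (x : G i) :
    g j k hjk (g i j hij x) = g i k (hij.trans hjk) x := by
  rw [← hc.2.2.2.1 i j k hij hjk]; rfl

theorem dc_compat (i j : ι) (h : i ≤ j) (x : G i) :
    algebraMap (G j) A' (g i j h x) = algebraMap (G i) A' x := by
  rw [← hc.2.2.2.2.1 i j h]; rfl

theorem dc_surj (a : A') : ∃ i, ∃ x : G i, algebraMap (G i) A' x = a := hc.2.2.2.2.2.1 a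

theorem dc_eq (i : ι) (x y : G i) (h : algebraMap (G i) A' x = algebraMap (G i) A' y) :
    ∃ j, ∃ hij : i ≤ j, g i j hij x = g i j hij y := by
  obtain ⟨j, hij, hj⟩ := hc.2.2.2.2.2.2 i (x - y) (by rw [map_sub, h, sub_self])
  exact ⟨j, hij, by rwa [map_sub, sub_eq_zero] at hj⟩

/-- finitely many elements lift to a common stage above a given one -/
theorem dc_lift_finset {α : Type*} (s : Finset α) (a : α → A') (i₀ : ι) :
    ∃ i, i₀ ≤ i ∧ ∃ x : α → G i, ∀ b ∈ s, algebraMap (G i) A' (x b) = a b := by
  classical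
  induction s using Finset.induction_on with
  | empty => exact ⟨i₀, le_rfl, fun _ => 0, fun b hb => absurd hb (Finset.notMem_empty b)⟩
  | insert c s hcs ih =>
    obtain ⟨i, hi₀, x, hx⟩ := ih
    obtain ⟨i', y, hy⟩ := dc_surj hc (a c)
    obtain ⟨j, hij, hi'j⟩ := dc_directed hc i i'
    refine ⟨j, hi₀.trans hij, fun b => if b = c then g i' j hi'j y else g i j hij (x b), ?_⟩
    intro b hb
    by_cases hbc : b = c
    · subst hbc
      dsimp only
      rw [if_pos rfl, dc_compat hc, hy]
    · dsimp only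
      rw [if_neg hbc, dc_compat hc]
      exact hx b ((Finset.mem_insert.mp hb).resolve_left hbc)

/-- finitely many equalities descend to a common stage -/
theorem dc_eq_finset {α : Type*} (s : Finset α) (i : ι) (x y : α → G i)
    (h : ∀ b ∈ s, algebraMap (G i) A' (x b) = algebraMap (G i) A' (y b)) :
    ∃ j, ∃ hij : i ≤ j, ∀ b ∈ s, g i j hij (x b) = g i j hij (y b) := by
  classical
  induction s using Finset.induction_on with
  | empty => exact ⟨i, le_rfl, fun b hb => absurd hb (Finset.notMem_empty b)⟩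
  | insert c s hcs ih =>
    obtain ⟨j, hij, hj⟩ := ih fun b hb => h b (Finset.mem_insert_of_mem hb)
    obtain ⟨j', hij', hj'⟩ := dc_eq hc i (x c) (y c) (h c (Finset.mem_insert_self c s))
    obtain ⟨k, hjk, hj'k⟩ := dc_directed hc j j'
    refine ⟨k, hij.trans hjk, fun b hb => ?_⟩
    rcases Finset.mem_insert.mp hb with rfl | hb
    · rw [← dc_comp hc i j' k hij' hj'k, ← dc_comp hc i j' k hij' hj'k, hj']
    · rw [← dc_comp hc i j k hij hjk, ← dc_comp hc i j k hij hjk, hj b hb]

end Generic

section Poly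

variable {ι : Type u} [Preorder ι] {G : ι → Type u} [∀ i, CommRing (G i)]
  {g : ∀ i j, i ≤ j → G i →+* G j} {A' : Type u} [CommRing A'] [∀ i, Algebra (G i) A']
  (hc : FlatCA.IsDirectedColimitRing G g A') (n : ℕ)

include hc

/-- polynomial equalities descend to a finite stage -/
theorem dc_poly_eq (i : ι) (p q : MvPolynomial (Fin n) (G i))
    (h : MvPolynomial.map (algebraMap (G i) A') p = MvPolynomial.map (algebraMap (G i) A') q) :
    ∃ j, ∃ hij : i ≤ j, MvPolynomial.map (g i j hij) p = MvPolynomial.map (g i j hij) q := by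
  classical
  obtain ⟨j, hij, hj⟩ := dc_eq_finset hc (p.support ∪ q.support) i
    (fun m => MvPolynomial.coeff m p) (fun m => MvPolynomial.coeff m q) (fun m _ => by
      rw [← MvPolynomial.coeff_map, ← MvPolynomial.coeff_map, h])
  refine ⟨j, hij, MvPolynomial.ext _ _ fun m => ?_⟩
  rw [MvPolynomial.coeff_map, MvPolynomial.coeff_map]
  by_cases hm : m ∈ p.support ∪ q.support
  · exact hj m hm
  · rw [Finset.mem_union, not_or, MvPolynomial.notMem_support_iff,
      MvPolynomial.notMem_support_iff] at hm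
    rw [hm.1, hm.2]

/-- finitely many polynomial equalities descend to a common finite stage -/
theorem dc_poly_eq_finset {α : Type*} (s : Finset α) (i : ι)
    (p q : α → MvPolynomial (Fin n) (G i))
    (h : ∀ b ∈ s, MvPolynomial.map (algebraMap (G i) A') (p b) =
      MvPolynomial.map (algebraMap (G i) A') (q b)) :
    ∃ j, ∃ hij : i ≤ j, ∀ b ∈ s,
      MvPolynomial.map (g i j hij) (p b) = MvPolynomial.map (g i j hij) (q b) := by
  classical
  induction s using Finset.induction_on with
  | empty => exact ⟨i, le_rfl, fun b hb => absurd hb (Finset.notMem_empty b)⟩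
  | insert c s hcs ih =>
    obtain ⟨j, hij, hj⟩ := ih fun b hb => h b (Finset.mem_insert_of_mem hb)
    obtain ⟨j', hij', hj'⟩ := dc_poly_eq hc n i (p c) (q c) (h c (Finset.mem_insert_self c s))
    obtain ⟨k, hjk, hj'k⟩ := dc_directed hc j j'
    have hmm : ∀ (j₁ : ι) (h₁ : i ≤ j₁) (h₂ : j₁ ≤ k) (P : MvPolynomial (Fin n) (G i)),
        MvPolynomial.map (g i k (h₁.trans h₂)) P =
          MvPolynomial.map (g j₁ k h₂) (MvPolynomial.map (g i j₁ h₁) P) := by
      intro j₁ h₁ h₂ P
      rw [MvPolynomial.map_map, hc.2.2.2.1 i j₁ k h₁ h₂]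
    refine ⟨k, hij.trans hjk, fun b hb => ?_⟩
    rcases Finset.mem_insert.mp hb with rfl | hb
    · rw [hmm j' hij' hj'k, hmm j' hij' hj'k, hj']
    · rw [hmm j hij hjk, hmm j hij hjk, hj b hb]

/-- a polynomial lifts to a finite stage above a given one -/
theorem dc_poly_lift (p' : MvPolynomial (Fin n) A') (i₀ : ι) :
    ∃ i, i₀ ≤ i ∧ ∃ p : MvPolynomial (Fin n) (G i),
      MvPolynomial.map (algebraMap (G i) A') p = p' := by
  classical
  obtain ⟨i, hi, x, hx⟩ := dc_lift_finset hc p'.support (fun m => MvPolynomial.coeff m p') i₀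
  refine ⟨i, hi, ∑ m ∈ p'.support, MvPolynomial.monomial m (x m), ?_⟩
  rw [map_sum]
  conv_rhs => rw [MvPolynomial.as_sum p']
  refine Finset.sum_congr rfl fun m hm => ?_
  rw [MvPolynomial.map_monomial, hx m hm]

/-- finitely many polynomials lift to a common finite stage above a given one -/
theorem dc_poly_lift_finset {α : Type*} (s : Finset α) (p' : α → MvPolynomial (Fin n) A')
    (i₀ : ι) :
    ∃ i, i₀ ≤ i ∧ ∃ p : α → MvPolynomial (Fin n) (G i),
      ∀ b ∈ s, MvPolynomial.map (algebraMap (G i) A') (p b) = p' b := by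
  classical
  induction s using Finset.induction_on with
  | empty => exact ⟨i₀, le_rfl, fun _ => 0, fun b hb => absurd hb (Finset.notMem_empty b)⟩
  | insert c s hcs ih =>
    obtain ⟨i, hi₀, x, hx⟩ := ih
    obtain ⟨i', hii', y, hy⟩ := dc_poly_lift hc n (p' c) i
    refine ⟨i', hi₀.trans hii', fun b => if b = c then y else MvPolynomial.map (g i i' hii') (x b),
      ?_⟩
    intro b hb
    by_cases hbc : b = c
    · subst hbc
      dsimp only
      rw [if_pos rfl, hy]
    · dsimp only
      rw [if_neg hbc, MvPolynomial.map_map]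
      have : (algebraMap (G i') A').comp (g i i' hii') = algebraMap (G i) A' :=
        hc.2.2.2.2.1 i i' hii'
      rw [this]
      exact hx b ((Finset.mem_insert.mp hb).resolve_left hbc)

end Poly

end Groth.Agent.H6.LimFlatD
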