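import Mathlib
import Groth.Agent.Lib.Helper6.LFD9

/-!
# Lifting a finitely generated subring of a directed colimit to a finite stage (helper6)
-/

set_option autoImplicit false
universe u
open Function

namespace Groth.Agent.H6.LimFlatD

variable {ι : Type u} [Preorder ι] {G : ι → Type u} [∀ i, CommRing (G i)]
  {g : ∀ i j, i ≤ j → G i →+* G j} {A' : Type u} [CommRing A'] [∀ i, Algebra (G i) A']
  (hc : FlatCA.IsDirectedColimitRing G g A')

include hc in
/-- a finitely generated subring of the colimit lifts to a finite stage -/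
theorem exists_lift_subalgebra (S₂ : Subalgebra ℤ A') (hS₂ : S₂.FG) (i₀ : ι) :
    ∃ i, i₀ ≤ i ∧ ∃ χ : S₂ →+* G i, ∀ s : S₂, algebraMap (G i) A' (χ s) = (s : A') := by
  classical
  haveI : Algebra.FiniteType ℤ S₂ := (Subalgebra.fg_iff_finiteType S₂).mp hS₂
  haveI : Algebra.FinitePresentation ℤ S₂ :=
    Algebra.FinitePresentation.of_finiteType.mp inferInstance
  obtain ⟨m, φ, hφ, hker⟩ := Algebra.FinitePresentation.out (R := ℤ) (A := S₂)
  obtain ⟨c, h, hh⟩ := Submodule.fg_iff_exists_fin_generating_family.mp hker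
  -- lift the generators
  obtain ⟨i, hi, x, hx⟩ := dc_lift_finset hc (Finset.univ : Finset (Fin m))
    (fun l => ((φ (MvPolynomial.X l) : S₂) : A')) i₀
  let ev : MvPolynomial (Fin m) ℤ →+* G i := MvPolynomial.eval₂Hom (Int.castRingHom (G i)) x
  have hev : ∀ P, algebraMap (G i) A' (ev P) = ((φ P : S₂) : A') := by
    intro P
    have h1 : (algebraMap (G i) A').comp ev = (S₂.val.toRingHom).comp φ.toRingHom := by
      refine MvPolynomial.ringHom_ext (fun r => ?_) (fun l => ?_)
      · exact congrArg (fun F : ℤ →+* A' => F r)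
          (RingHom.ext_int ((algebraMap (G i) A').comp (ev.comp MvPolynomial.C))
            (((S₂.val.toRingHom).comp φ.toRingHom).comp MvPolynomial.C))
      · show algebraMap (G i) A' (ev (MvPolynomial.X l)) = ((φ (MvPolynomial.X l) : S₂) : A')
        rw [← hx l (Finset.mem_univ l)]
        congr 1
        exact MvPolynomial.eval₂Hom_X' _ _ l
    exact congrArg (fun F => F P) h1
  -- the relations die at a later stage
  obtain ⟨j, hij, hj⟩ := dc_eq_finset hc (Finset.univ : Finset (Fin c)) i
    (fun l => ev (h l)) (fun _ => 0) (fun l _ => by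
      rw [hev, map_zero]
      have h1 : h l ∈ RingHom.ker φ.toRingHom := by
        rw [← hh]; exact Submodule.subset_span ⟨l, rfl⟩
      have h2 : φ (h l) = 0 := RingHom.mem_ker.mp h1
      rw [h2]; rfl)
  let evj : MvPolynomial (Fin m) ℤ →+* G j := (g i j hij).comp ev
  have hkill : RingHom.ker φ.toRingHom ≤ RingHom.ker evj := by
    rw [← hh]
    change Ideal.span (Set.range h) ≤ RingHom.ker evj
    rw [Ideal.span_le]
    rintro _ ⟨l, rfl⟩
    rw [SetLike.mem_coe, RingHom.mem_ker]
    have := hj l (Finset.mem_univ l)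
    rw [map_zero] at this
    exact this
  have hφ' : Surjective φ.toRingHom := hφ
  let χ : S₂ →+* G j := (φ.toRingHom.liftOfSurjective hφ') ⟨evj, hkill⟩
  have hχ : ∀ P, χ (φ P) = evj P := fun P =>
    RingHom.liftOfSurjective_comp_apply φ.toRingHom hφ' ⟨evj, hkill⟩ P
  refine ⟨j, hi.trans hij, χ, fun s => ?_⟩
  obtain ⟨P, rfl⟩ := hφ s
  rw [hχ]
  show algebraMap (G j) A' (g i j hij (ev P)) = _
  rw [dc_compat hc, hev]

end Groth.Agent.H6.LimFlatD
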