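import Mathlib
import Groth.Agent.Lib.Helper1.LimFlat6

/-!
# Flatness at primes of a pushout versus the polynomial model (helper6)
-/

set_option autoImplicit false
universe u
open TensorProduct Function

namespace Groth.Agent.H6.LimFlatD

open Groth.Agent.H1.PolyModel Groth.Agent.H1.LimFlat

attribute [local instance] MvPolynomial.algebraMvPolynomial

section Psi

variable {R S : Type u} (R' S' : Type u) [CommRing R] [CommRing S] [CommRing R'] [CommRing S']
  [Algebra R S] [Algebra R R'] [Algebra S S'] [Algebra R' S'] [Algebra R S'] [IsScalarTower R S S']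
  [IsScalarTower R R' S']
  {n : ℕ} (π : P n R →ₐ[R] S)

/-- the induced presentation of the pushout -/
noncomputable def psi : P n R' →ₐ[R'] S' :=
  MvPolynomial.aeval (fun i => algebraMap S S' (π (MvPolynomial.X i)))

theorem psi_X (i : Fin n) : psi R' S' π (MvPolynomial.X i) = algebraMap S S' (π (MvPolynomial.X i)) := by
  simp [psi]

theorem psi_C (a : R') : psi R' S' π (MvPolynomial.C a) = algebraMap R' S' a := by
  simp [psi]

theorem psi_map (p : P n R) :
    psi R' S' π (MvPolynomial.map (algebraMap R R') p) = algebraMap S S' (π p) := by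
  induction p using MvPolynomial.induction_on with
  | C a =>
    rw [MvPolynomial.map_C, psi_C, ← MvPolynomial.algebraMap_eq, AlgHom.commutes,
      ← IsScalarTower.algebraMap_apply, ← IsScalarTower.algebraMap_apply]
  | add p q hp hq => simp only [map_add, hp, hq]
  | mul_X p i hp => simp only [map_mul, hp, MvPolynomial.map_X, psi_X]

theorem psi_surjective [Algebra.IsPushout R S R' S'] (hπ : Surjective π) :
    Surjective (psi R' S' π) := by
  have hbc : IsBaseChange R' (IsScalarTower.toAlgHom R S S').toLinearMap :=
    (Algebra.IsPushout.symm (inferInstance : Algebra.IsPushout R S R' S')).out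
  intro s'
  induction s' using hbc.inductionOn with
  | zero => exact ⟨0, map_zero _⟩
  | tmul s =>
    obtain ⟨p, rfl⟩ := hπ s
    exact ⟨MvPolynomial.map (algebraMap R R') p, psi_map R' S' π p⟩
  | smul a s' ih =>
    obtain ⟨p', rfl⟩ := ih
    exact ⟨MvPolynomial.C a * p', by rw [map_mul, psi_C, Algebra.smul_def]⟩
  | add x y hx hy =>
    obtain ⟨p, rfl⟩ := hx
    obtain ⟨q, rfl⟩ := hy
    exact ⟨p + q, map_add _ _ _⟩

end Psi

section Glue

variable {R S R' S' : Type u} [CommRing R] [CommRing S] [CommRing R'] [CommRing S']
  [Algebra R S] [Algebra R R'] [Algebra S S'] [Algebra R' S'] [Algebra R S'] [IsScalarTower R S S']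
  [IsScalarTower R R' S'] [Algebra.IsPushout R S R' S']
  {M M' : Type u} [AddCommGroup M] [Module S M] [Module R M] [IsScalarTower R S M]
  [AddCommGroup M'] [Module S' M'] [Module R' M'] [IsScalarTower R' S' M'] [Module S M']
  [IsScalarTower S S' M']
  {n r t : ℕ} (π : P n R →ₐ[R] S) (k : Fin t → (Fin r → P n R))
  (e : Mod r t k ≃ₗ[R] M) (he : ∀ (p : P n R) (x : Mod r t k), e (p • x) = π p • e x)
  (f : M →ₗ[S] M') (hf : IsBaseChange S' f)

include he hf in
/-- the model over `R'` is the base change `M'`, compatibly with the polynomial actions -/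
theorem exists_model_equiv_baseChange :
    ∃ Λ : Mod r t (kmap R' r t k) ≃ₗ[R'] M',
      ∀ (p' : P n R') (y : Mod r t (kmap R' r t k)), Λ (p' • y) = psi R' S' π p' • Λ y := by
  letI modRM' : Module R M' := Module.compHom M' (algebraMap R R')
  haveI tw1 : IsScalarTower R R' M' := IsScalarTower.of_algebraMap_smul (fun _ _ => rfl)
  haveI tw2 : IsScalarTower R S M' := IsScalarTower.of_algebraMap_smul (fun a m => by
    show algebraMap R S a • m = algebraMap R R' a • m
    rw [← algebraMap_smul S' (algebraMap R S a) m, ← algebraMap_smul S' (algebraMap R R' a) m,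
      ← IsScalarTower.algebraMap_apply, ← IsScalarTower.algebraMap_apply])
  have hfR : IsBaseChange R' (f.restrictScalars R) := by
    haveI : Algebra.IsPushout R R' S S' := Algebra.IsPushout.symm inferInstance
    refine IsBaseChange.of_equiv ((Algebra.IsPushout.cancelBaseChange R R' S S' M).symm ≪≫ₗ
      (hf.equiv.restrictScalars R')) (fun x => ?_)
    simp [Algebra.IsPushout.cancelBaseChange_symm_tmul, hf.equiv_tmul]
  have hμ : IsBaseChange R' ((f.restrictScalars R).comp e.toLinearMap) :=
    IsBaseChange.comp_equiv e _ hfR
  have hm : IsBaseChange R' ((muM R' r t k).restrictScalars R) :=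
    isBaseChange_muM_restrictScalars R' r t k
  let Λ : Mod r t (kmap R' r t k) ≃ₗ[R'] M' := hm.equiv.symm ≪≫ₗ hμ.equiv
  have hΛ : ∀ x, Λ (muM R' r t k x) = f (e x) := fun x => by
    have h1 : hm.equiv.symm (muM R' r t k x) = 1 ⊗ₜ x := hm.equiv_symm_apply x
    show hμ.equiv (hm.equiv.symm (muM R' r t k x)) = f (e x)
    rw [h1, hμ.equiv_tmul, one_smul]
    rfl
  refine ⟨Λ, ?_⟩
  have keyX : ∀ (i : Fin n) (y : Mod r t (kmap R' r t k)),
      Λ ((MvPolynomial.X i : P n R') • y) = psi R' S' π (MvPolynomial.X i) • Λ y := by
    intro i y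
    induction y using hm.inductionOn with
    | zero => simp
    | tmul x =>
      have h1 : (MvPolynomial.X i : P n R') • muM R' r t k x =
          muM R' r t k ((MvPolynomial.X i : P n R) • x) := by
        rw [map_smul, ← algebraMap_smul (P n R') (MvPolynomial.X i : P n R) (muM R' r t k x)]
        congr 1
        exact (MvPolynomial.map_X _ i).symm
      show Λ ((MvPolynomial.X i : P n R') • muM R' r t k x) = _ • Λ (muM R' r t k x)
      rw [h1, hΛ, hΛ, he, psi_X, map_smul, algebraMap_smul]
    | smul a y ih =>
      rw [smul_comm, map_smul, ih, map_smul, smul_comm]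
    | add y z hy hz => rw [smul_add, map_add, hy, hz, map_add, smul_add]
  intro p'
  induction p' using MvPolynomial.induction_on with
  | C a =>
    intro y
    rw [← MvPolynomial.algebraMap_eq, algebraMap_smul, map_smul, AlgHom.commutes,
      algebraMap_smul]
  | add p q hp hq =>
    intro y
    rw [add_smul, map_add, hp, hq, map_add, add_smul]
  | mul_X p i hp =>
    intro y
    rw [mul_smul, hp, keyX, map_mul, mul_smul]

include he hf in
/-- **Glue.** Flatness of the base change at the primes of the pushout over a closed set of the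
base is the same as flatness of the polynomial model at the primes over that closed set. -/
theorem flatAt_iff_model (hπ : Surjective π) (𝔞' : Ideal R') :
    (∀ (q' : Ideal S') [q'.IsPrime], 𝔞' ≤ q'.comap (algebraMap R' S') →
      Module.Flat R' (LocalizedModule q'.primeCompl M')) ↔
    (∀ (Q' : Ideal (P n R')) [Q'.IsPrime], 𝔞' ≤ Q'.comap (algebraMap R' (P n R')) →
      Module.Flat R' (LocalizedModule Q'.primeCompl (Mod r t (kmap R' r t k)))) := by
  obtain ⟨Λ₀, hΛ₀⟩ := exists_model_equiv_baseChange (R' := R') (S' := S') π k e he f hf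
  letI algPS : Algebra (P n R') S' := (psi R' S' π).toRingHom.toAlgebra
  haveI twPS : IsScalarTower R' (P n R') S' :=
    IsScalarTower.of_algebraMap_eq (fun a => ((psi R' S' π).commutes a).symm)
  letI modPM : Module (P n R') M' := Module.compHom M' (algebraMap (P n R') S')
  haveI twPSM : IsScalarTower (P n R') S' M' :=
    ⟨fun p s m => by
      change (algebraMap (P n R') S' p * s) • m = algebraMap (P n R') S' p • (s • m)
      rw [mul_smul]⟩
  haveI twRPM : IsScalarTower R' (P n R') M' := IsScalarTower.of_algebraMap_smul fun a m => by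
    change algebraMap (P n R') S' (algebraMap R' (P n R') a) • m = a • m
    rw [← IsScalarTower.algebraMap_apply, algebraMap_smul]
  let Λ : Mod r t (kmap R' r t k) ≃ₗ[P n R'] M' :=
    { Λ₀ with
      map_smul' := fun p y => hΛ₀ p y }
  have hsurj : Surjective (algebraMap (P n R') S') := psi_surjective R' S' π hπ
  constructor
  · intro H Q' _ hQ'
    suffices h : Module.Flat R' (LocalizedModule Q'.primeCompl M') by
      haveI := h
      exact flat_localizedModule_congr (R := R') Q'.primeCompl Λ.symm
    by_cases hker : RingHom.ker (algebraMap (P n R') S') ≤ Q'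
    · let q' := Q'.map (algebraMap (P n R') S')
      haveI : q'.IsPrime := Ideal.map_isPrime_of_surjective hsurj hker
      have hq' : q'.comap (algebraMap (P n R') S') = Q' := by
        rw [Ideal.comap_map_of_surjective _ hsurj]
        refine sup_eq_left.mpr ?_
        rwa [← RingHom.ker_eq_comap_bot]
      have h1 : 𝔞' ≤ q'.comap (algebraMap R' S') := by
        rw [IsScalarTower.algebraMap_eq R' (P n R') S', ← Ideal.comap_comap, hq']
        exact hQ'
      haveI := H q' h1
      have h2 := (flat_localizedModule_comap_iff (R := R') (M := M') hsurj q').mpr inferInstance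
      have aux : ∀ (Q₁ Q₂ : Ideal (P n R')) [Q₁.IsPrime] [Q₂.IsPrime], Q₁ = Q₂ →
          Module.Flat R' (LocalizedModule Q₁.primeCompl M') →
          Module.Flat R' (LocalizedModule Q₂.primeCompl M') := by
        intro Q₁ Q₂ _ _ h hfl
        subst h
        exact hfl
      exact aux _ _ hq' h2
    · obtain ⟨x, hxker, hxQ⟩ := Set.not_subset.mp hker
      haveI : Subsingleton (LocalizedModule Q'.primeCompl M') := by
        rw [LocalizedModule.subsingleton_iff]
        intro m
        refine ⟨x, hxQ, ?_⟩
        show algebraMap (P n R') S' x • m = 0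
        rw [RingHom.mem_ker.mp hxker, zero_smul]
      infer_instance
  · intro H q' _ hq'
    let Q' := q'.comap (algebraMap (P n R') S')
    have h1 : 𝔞' ≤ Q'.comap (algebraMap R' (P n R')) := by
      rw [Ideal.comap_comap, ← IsScalarTower.algebraMap_eq]
      exact hq'
    haveI := H Q' h1
    haveI : Module.Flat R' (LocalizedModule Q'.primeCompl M') :=
      flat_localizedModule_congr (R := R') Q'.primeCompl Λ
    exact (flat_localizedModule_comap_iff (R := R') hsurj q').mp inferInstance

end Glue

end Groth.Agent.H6.LimFlatD
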