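import Mathlib
import Groth.Agent.Lib.Helper1.LimFlat6

/-!
# Polynomial models for finitely presented modules over localizations of finitely presented
algebras (helper6)
-/

set_option autoImplicit false
universe u
open TensorProduct Function

namespace Groth.Agent.H6.LimFlatD

open Groth.Agent.H1.PolyModel Groth.Agent.H1.LimFlat

attribute [local instance] MvPolynomial.algebraMvPolynomial

/-- Model data for a module over an algebra essentially of finite presentation: a polynomial ring
mapping to `S`, a multiplicative set `Tt` of polynomials becoming invertible in `S`, such that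
every element of `S` is a fraction, and a model module whose localization at `Tt` is `M`. -/
structure EssModel (R S M : Type u) [CommRing R] [CommRing S] [Algebra R S] [AddCommGroup M]
    [Module S M] [Module R M] where
  n : ℕ
  r : ℕ
  t : ℕ
  θ : P n R →ₐ[R] S
  Tt : Submonoid (P n R)
  k : Fin t → (Fin r → P n R)
  l : Mod r t k →ₗ[R] M
  unit : ∀ τ ∈ Tt, IsUnit (θ τ)
  frac : ∀ s : S, ∃ p : P n R, ∃ τ ∈ Tt, s * θ τ = θ p
  lin : ∀ (p : P n R) (x : Mod r t k), l (p • x) = θ p • l x
  surj : ∀ m : M, ∃ x : Mod r t k, ∃ τ ∈ Tt, θ τ • m = l x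
  ker : ∀ x : Mod r t k, l x = 0 → ∃ τ ∈ Tt, τ • x = 0

variable {R S M : Type u} [CommRing R] [CommRing S] [Algebra R S] [AddCommGroup M]
  [Module S M] [Module R M] [IsScalarTower R S M]

/-- existence of model data -/
theorem nonempty_essModel (S₀ : Type u) [CommRing S₀] [Algebra R S₀] [Algebra S₀ S]
    [IsScalarTower R S₀ S] (T : Submonoid S₀) [Algebra.FinitePresentation R S₀]
    [IsLocalization T S] [Module.FinitePresentation S M] : Nonempty (EssModel R S M) := by
  classical
  obtain ⟨n, π₀, hπ₀, hker⟩ := Algebra.FinitePresentation.out (R := R) (A := S₀)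
  let θ : P n R →ₐ[R] S := (IsScalarTower.toAlgHom R S₀ S).comp π₀
  have hθ : ∀ p, θ p = algebraMap S₀ S (π₀ p) := fun p => rfl
  let Tt : Submonoid (P n R) := T.comap π₀
  have hTt : ∀ τ, τ ∈ Tt ↔ π₀ τ ∈ T := fun τ => Iff.rfl
  have hunit : ∀ τ ∈ Tt, IsUnit (θ τ) := fun τ hτ =>
    IsLocalization.map_units S (⟨π₀ τ, hτ⟩ : T)
  have hfrac : ∀ s : S, ∃ p, ∃ τ ∈ Tt, s * θ τ = θ p := by
    intro s
    obtain ⟨⟨x, y⟩, hxy⟩ := IsLocalization.surj T s
    obtain ⟨p, rfl⟩ := hπ₀ x
    obtain ⟨τ, hτ⟩ := hπ₀ y.1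
    refine ⟨p, τ, ?_, ?_⟩
    · rw [hTt, hτ]; exact y.2
    · rw [hθ, hτ]; exact hxy
  -- common denominators for finite families
  have hden : ∀ {ι : Type} [Finite ι] (w : ι → S), ∃ τ ∈ Tt, ∃ p : ι → P n R,
      ∀ i, θ τ * w i = θ (p i) := by
    intro ι _ w
    obtain ⟨b, hb⟩ := IsLocalization.exist_integer_multiples_of_finite T w
    obtain ⟨τ, hτ⟩ := hπ₀ b.1
    choose x hx using hb
    choose p hp using fun i => hπ₀ (x i)
    refine ⟨τ, ?_, p, fun i => ?_⟩
    · rw [hTt, hτ]; exact b.2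
    · rw [hθ, hθ, hτ, hp, hx, Algebra.smul_def]
  -- module structures over the polynomial ring
  letI algPS : Algebra (P n R) S := θ.toRingHom.toAlgebra
  haveI twRPS : IsScalarTower R (P n R) S :=
    IsScalarTower.of_algebraMap_eq fun x => (θ.commutes x).symm
  letI modPM : Module (P n R) M := Module.compHom M (algebraMap (P n R) S)
  haveI twPSM : IsScalarTower (P n R) S M :=
    ⟨fun p s m => by
      change (algebraMap (P n R) S p * s) • m = algebraMap (P n R) S p • (s • m)
      rw [mul_smul]⟩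
  haveI twRPM : IsScalarTower R (P n R) M := IsScalarTower.of_algebraMap_smul fun a m => by
    change algebraMap (P n R) S (algebraMap R (P n R) a) • m = a • m
    rw [← IsScalarTower.algebraMap_apply, algebraMap_smul]
  have hsmulM : ∀ (p : P n R) (m : M), p • m = θ p • m := fun _ _ => rfl
  -- presentation of `M`
  obtain ⟨r, t, f, g, hf, hfg⟩ := Module.FinitePresentation.exists_fin' S M
  let v : Fin t → (Fin r → S) := fun u => g (fun j => if u = j then 1 else 0)
  have hg : ∀ c : Fin t → S, g c = ∑ u, c u • v u := fun c => LinearMap.pi_apply_eq_sum_univ g c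
  -- clear denominators of the matrix
  obtain ⟨τ₀, hτ₀, kk, hkk⟩ := hden (fun x : Fin t × Fin r => v x.1 x.2)
  -- generators of the kernel of the presentation
  obtain ⟨c, h, hh⟩ := Submodule.fg_iff_exists_fin_generating_family.mp hker
  -- all rows
  let K : (Fin t ⊕ (Fin c × Fin r)) → (Fin r → P n R) :=
    Sum.elim (fun u i => kk (u, i)) (fun x => Pi.single x.2 (h x.1))
  let eq : Fin (Fintype.card (Fin t ⊕ (Fin c × Fin r))) ≃ (Fin t ⊕ (Fin c × Fin r)) :=
    (Fintype.equivFin _).symm
  let t' := Fintype.card (Fin t ⊕ (Fin c × Fin r))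
  let k : Fin t' → (Fin r → P n R) := K ∘ eq
  have hrange : LinearMap.range (kap r t' k) = Submodule.span (P n R) (Set.range K) := by
    rw [range_kap]
    congr 1
    exact eq.surjective.range_comp K
  -- the map
  let Cθ : (Fin r → P n R) →ₗ[P n R] (Fin r → S) :=
    (Algebra.linearMap (P n R) S).compLeft (Fin r)
  have hCθ : ∀ w i, Cθ w i = θ (w i) := fun _ _ => rfl
  let L : (Fin r → P n R) →ₗ[P n R] M := (f.restrictScalars (P n R)).comp Cθ
  have hLf : ∀ w, L w = f (Cθ w) := fun _ => rfl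
  have hθh : ∀ j, θ (h j) = 0 := by
    intro j
    have h1 : h j ∈ RingHom.ker π₀.toRingHom := by
      rw [← hh]; exact Submodule.subset_span ⟨j, rfl⟩
    have h2 : π₀ (h j) = 0 := RingHom.mem_ker.mp h1
    rw [hθ, h2, map_zero]
  have hLK : Submodule.span (P n R) (Set.range K) ≤ LinearMap.ker L := by
    rw [Submodule.span_le]
    rintro _ ⟨x, rfl⟩
    rw [SetLike.mem_coe, LinearMap.mem_ker, hLf]
    rcases x with u | ⟨j, i⟩
    · have h1 : Cθ (K (Sum.inl u)) = θ τ₀ • v u := by
        funext i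
        rw [hCθ, Pi.smul_apply, smul_eq_mul]
        exact (hkk (u, i)).symm
      rw [h1, map_smul]
      have h2 : f (v u) = 0 := hfg.apply_apply_eq_zero _
      rw [h2, smul_zero]
    · have h1 : Cθ (K (Sum.inr (j, i))) = 0 := by
        funext i'
        rw [hCθ]
        show θ ((Pi.single i (h j) : Fin r → P n R) i') = 0
        by_cases hi : i' = i
        · subst hi; rw [Pi.single_eq_same, hθh]
        · rw [Pi.single_eq_of_ne hi, map_zero]
      rw [h1, map_zero]
  let l₀ : Mod r t' k →ₗ[P n R] M := (LinearMap.range (kap r t' k)).liftQ L (by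
    rw [hrange]; exact hLK)
  have hl₀ : ∀ w, l₀ (proj r t' k w) = f (Cθ w) := fun _ => rfl
  refine ⟨{ n := n, r := r, t := t', θ := θ, Tt := Tt, k := k, l := l₀.restrictScalars R,
            unit := hunit, frac := hfrac, lin := fun p x => l₀.map_smul p x,
            surj := ?_, ker := ?_ }⟩
  · intro m
    obtain ⟨w, rfl⟩ := hf m
    obtain ⟨τ, hτ, p, hp⟩ := hden w
    refine ⟨proj r t' k p, τ, hτ, ?_⟩
    show θ τ • f w = l₀ (proj r t' k p)
    rw [hl₀, ← map_smul]
    congr 1
    funext i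
    rw [hCθ, Pi.smul_apply, smul_eq_mul]
    exact hp i
  · intro x hx
    obtain ⟨vv, rfl⟩ := proj_surjective r t' k x
    have hx' : f (Cθ vv) = 0 := hx
    obtain ⟨cc, hcc⟩ := (hfg (Cθ vv)).mp hx'
    obtain ⟨τ₁, hτ₁, pp, hpp⟩ := hden cc
    let w : Fin r → P n R := (τ₁ * τ₀) • vv - ∑ u, pp u • K (Sum.inl u)
    have hw : ∀ i, θ (w i) = 0 := by
      intro i
      have h1 : θ (vv i) = ∑ u, cc u * v u i := by
        rw [← hCθ, ← hcc, hg, Finset.sum_apply]
        rfl
      have h2 : w i = (τ₁ * τ₀) * vv i - ∑ u, pp u * kk (u, i) := by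
        simp only [w, Pi.sub_apply, Pi.smul_apply, Finset.sum_apply, smul_eq_mul]
        rfl
      rw [h2, map_sub, map_mul, map_mul, map_sum, h1, Finset.mul_sum, sub_eq_zero]
      refine Finset.sum_congr rfl fun u _ => ?_
      rw [map_mul, ← hpp u, ← hkk (u, i)]
      ring
    have hex : ∀ i, ∃ cT : T, (cT : S₀) * π₀ (w i) = 0 := fun i =>
      (IsLocalization.map_eq_zero_iff T S (π₀ (w i))).mp (hw i)
    choose cT hcT using hex
    obtain ⟨τ₂, hτ₂⟩ := hπ₀ ((∏ i, cT i : T) : S₀)
    have hτ₂T : τ₂ ∈ Tt := by rw [hTt, hτ₂]; exact (∏ i, cT i : T).2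
    have hker₂ : ∀ i, τ₂ * w i ∈ Submodule.span (P n R) (Set.range h) := by
      intro i
      rw [hh, RingHom.mem_ker]
      show π₀ (τ₂ * w i) = 0
      rw [map_mul, hτ₂, Submonoid.coe_finsetProd,
        ← Finset.mul_prod_erase Finset.univ _ (Finset.mem_univ i), mul_right_comm, hcT, zero_mul]
    have hmem₂ : τ₂ • w ∈ Submodule.span (P n R) (Set.range K) := by
      have h1 : τ₂ • w = ∑ i, Pi.single i (τ₂ * w i) := by
        rw [Finset.univ_sum_single]
        rfl
      rw [h1]
      refine Submodule.sum_mem _ fun i _ => ?_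
      have h2 : Submodule.map (LinearMap.single (P n R) (fun _ : Fin r => P n R) i)
          (Submodule.span (P n R) (Set.range h)) ≤ Submodule.span (P n R) (Set.range K) := by
        rw [Submodule.map_span, Submodule.span_le]
        rintro _ ⟨_, ⟨j, rfl⟩, rfl⟩
        exact Submodule.subset_span ⟨Sum.inr (j, i), rfl⟩
      exact h2 ⟨_, hker₂ i, rfl⟩
    have hmem : (τ₂ * (τ₁ * τ₀)) • vv ∈ Submodule.span (P n R) (Set.range K) := by
      have h1 : (τ₂ * (τ₁ * τ₀)) • vv = τ₂ • w + τ₂ • ∑ u, pp u • K (Sum.inl u) := by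
        rw [← smul_add, sub_add_cancel, mul_smul]
      rw [h1]
      refine Submodule.add_mem _ hmem₂ (Submodule.smul_mem _ _ (Submodule.sum_mem _ fun u _ =>
        Submodule.smul_mem _ _ (Submodule.subset_span ⟨Sum.inl u, rfl⟩)))
    refine ⟨τ₂ * (τ₁ * τ₀), Tt.mul_mem hτ₂T (Tt.mul_mem hτ₁ hτ₀), ?_⟩
    rw [← map_smul, Submodule.mkQ_apply, Submodule.Quotient.mk_eq_zero, hrange]
    exact hmem

end Groth.Agent.H6.LimFlatD
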