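import Mathlib
import Groth.Agent.Lib.Helper6.LFD2
import Groth.Agent.Lib.Helper6.LFD5

/-!
# Base change of localized polynomial models (helper6)
-/

set_option autoImplicit false
universe u
open TensorProduct Function

namespace Groth.Agent.H6.LimFlatD

open Groth.Agent.H1.PolyModel Groth.Agent.H1.LimFlat

attribute [local instance] MvPolynomial.algebraMvPolynomial

section BC

variable {R S M : Type u} [CommRing R] [CommRing S] [Algebra R S] [AddCommGroup M]
  [Module S M] [Module R M] [IsScalarTower R S M] (E : EssModel R S M)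
  (R' S' : Type u) [CommRing R'] [CommRing S']
  [Algebra R R'] [Algebra S S'] [Algebra R' S'] [Algebra R S'] [IsScalarTower R S S']
  [IsScalarTower R R' S']

/-- the coefficient map on polynomials -/
noncomputable abbrev mp : P E.n R →+* P E.n R' := MvPolynomial.map (algebraMap R R')

theorem psi_mp (p : P E.n R) : psi R' S' E.θ (mp E R' p) = algebraMap S S' (E.θ p) :=
  psi_map R' S' E.θ p

theorem psi_unit (τ : P E.n R) (hτ : τ ∈ E.Tt) : IsUnit (psi R' S' E.θ (mp E R' τ)) := by
  rw [psi_mp]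
  exact (E.unit τ hτ).map (algebraMap S S')

theorem psi_frac [Algebra.IsPushout R S R' S'] (s' : S') :
    ∃ p' : P E.n R', ∃ τ ∈ E.Tt, s' * psi R' S' E.θ (mp E R' τ) = psi R' S' E.θ p' := by
  have hbc : IsBaseChange R' (IsScalarTower.toAlgHom R S S').toLinearMap :=
    (Algebra.IsPushout.symm (inferInstance : Algebra.IsPushout R S R' S')).out
  induction s' using hbc.inductionOn with
  | zero => exact ⟨0, 1, E.Tt.one_mem, by rw [zero_mul, map_zero]⟩
  | tmul s =>
    obtain ⟨p, τ, hτ, h⟩ := E.frac s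
    refine ⟨mp E R' p, τ, hτ, ?_⟩
    show algebraMap S S' s * _ = _
    rw [psi_mp, psi_mp, ← map_mul, h]
  | smul a s' ih =>
    obtain ⟨p', τ, hτ, h⟩ := ih
    refine ⟨MvPolynomial.C a * p', τ, hτ, ?_⟩
    rw [map_mul, psi_C, ← h, Algebra.smul_def, mul_assoc]
  | add x y hx hy =>
    obtain ⟨p₁, τ₁, hτ₁, h₁⟩ := hx
    obtain ⟨p₂, τ₂, hτ₂, h₂⟩ := hy
    refine ⟨p₁ * mp E R' τ₂ + p₂ * mp E R' τ₁, τ₁ * τ₂, E.Tt.mul_mem hτ₁ hτ₂, ?_⟩
    rw [map_mul, map_mul, map_add, map_mul, map_mul, ← h₁, ← h₂]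
    ring

end BC

section Lam

variable {R S M : Type u} [CommRing R] [CommRing S] [Algebra R S] [AddCommGroup M]
  [Module S M] [Module R M] [IsScalarTower R S M] (E : EssModel R S M)
  {R' S' : Type u} [CommRing R'] [CommRing S']
  [Algebra R R'] [Algebra S S'] [Algebra R' S'] [Algebra R S'] [IsScalarTower R S S']
  [IsScalarTower R R' S'] [Algebra.IsPushout R S R' S']
  {M' : Type u} [AddCommGroup M'] [Module S' M'] [Module R' M'] [IsScalarTower R' S' M']
  [Module S M'] [IsScalarTower S S' M'] (f : M →ₗ[S] M') (hf : IsBaseChange S' f)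

include hf in
/-- the comparison map from the model over `R'` to the base change `M'`: it is semilinear for
the polynomial action and is a localization at (the image of) `E.Tt` -/
theorem exists_lam :
    ∃ Λ : Mod E.r E.t (kmap R' E.r E.t E.k) →ₗ[R'] M',
      (∀ (p' : P E.n R') (y : Mod E.r E.t (kmap R' E.r E.t E.k)),
        Λ (p' • y) = psi R' S' E.θ p' • Λ y) ∧
      (∀ m' : M', ∃ y, ∃ τ ∈ E.Tt, psi R' S' E.θ (mp E R' τ) • m' = Λ y) ∧
      (∀ y, Λ y = 0 → ∃ τ ∈ E.Tt, mp E R' τ • y = 0) := by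
  letI modRM' : Module R M' := Module.compHom M' (algebraMap R R')
  haveI tw1 : IsScalarTower R R' M' := IsScalarTower.of_algebraMap_smul (fun _ _ => rfl)
  haveI tw2 : IsScalarTower R S M' := IsScalarTower.of_algebraMap_smul (fun a m => by
    show algebraMap R S a • m = algebraMap R R' a • m
    rw [← algebraMap_smul S' (algebraMap R S a) m, ← algebraMap_smul S' (algebraMap R R' a) m,
      ← IsScalarTower.algebraMap_apply, ← IsScalarTower.algebraMap_apply])
  have hfR : IsBaseChange R' (f.restrictScalars R) := by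
    haveI : Algebra.IsPushout R R' S S' := Algebra.IsPushout.symm inferInstance
    refine IsBaseChange.of_equiv ((Algebra.IsPushout.cancelBaseChange R R' S S' M).symm ≪≫ₗ
      (hf.equiv.restrictScalars R')) (fun x => ?_)
    simp [Algebra.IsPushout.cancelBaseChange_symm_tmul, hf.equiv_tmul]
  have hm : IsBaseChange R' ((muM R' E.r E.t E.k).restrictScalars R) :=
    isBaseChange_muM_restrictScalars R' E.r E.t E.k
  let Λ : Mod E.r E.t (kmap R' E.r E.t E.k) →ₗ[R'] M' :=
    hm.lift ((f.restrictScalars R).comp E.l)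
  have hΛ : ∀ x, Λ (muM R' E.r E.t E.k x) = f (E.l x) := fun x => hm.lift_eq _ x
  -- semilinearity
  have keyX : ∀ (i : Fin E.n) (y : Mod E.r E.t (kmap R' E.r E.t E.k)),
      Λ ((MvPolynomial.X i : P E.n R') • y) = psi R' S' E.θ (MvPolynomial.X i) • Λ y := by
    intro i y
    induction y using hm.inductionOn with
    | zero => simp
    | tmul x =>
      have h1 : (MvPolynomial.X i : P E.n R') • muM R' E.r E.t E.k x =
          muM R' E.r E.t E.k ((MvPolynomial.X i : P E.n R) • x) := by
        rw [map_smul, ← algebraMap_smul (P E.n R') (MvPolynomial.X i : P E.n R)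
          (muM R' E.r E.t E.k x)]
        congr 1
        exact (MvPolynomial.map_X _ i).symm
      show Λ ((MvPolynomial.X i : P E.n R') • muM R' E.r E.t E.k x) =
        _ • Λ (muM R' E.r E.t E.k x)
      rw [h1, hΛ, hΛ, E.lin, psi_X, map_smul, algebraMap_smul]
    | smul a y ih =>
      rw [smul_comm, map_smul, ih, map_smul, smul_comm]
    | add y z hy hz => rw [smul_add, map_add, hy, hz, map_add, smul_add]
  have hsemi : ∀ (p' : P E.n R') (y : Mod E.r E.t (kmap R' E.r E.t E.k)),
      Λ (p' • y) = psi R' S' E.θ p' • Λ y := by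
    intro p'
    induction p' using MvPolynomial.induction_on with
    | C a =>
      intro y
      rw [← MvPolynomial.algebraMap_eq, algebraMap_smul, map_smul, AlgHom.commutes,
        algebraMap_smul]
    | add p q hp hq =>
      intro y
      rw [add_smul, map_add, hp, hq, map_add, add_smul]
    | mul_X p i hp =>
      intro y
      rw [mul_smul, hp, keyX, map_mul, mul_smul]
  -- the localization property over `R`
  letI algPS : Algebra (P E.n R) S := E.θ.toRingHom.toAlgebra
  haveI twRPS : IsScalarTower R (P E.n R) S :=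
    IsScalarTower.of_algebraMap_eq fun x => (E.θ.commutes x).symm
  letI modPM : Module (P E.n R) M := Module.compHom M (algebraMap (P E.n R) S)
  haveI twPSM : IsScalarTower (P E.n R) S M :=
    ⟨fun p s m => by
      change (algebraMap (P E.n R) S p * s) • m = algebraMap (P E.n R) S p • (s • m)
      rw [mul_smul]⟩
  haveI twRPM : IsScalarTower R (P E.n R) M := IsScalarTower.of_algebraMap_smul fun a m => by
    change algebraMap (P E.n R) S (algebraMap R (P E.n R) a) • m = a • m
    rw [← IsScalarTower.algebraMap_apply, algebraMap_smul]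
  have hsmulM : ∀ (p : P E.n R) (m : M), p • m = E.θ p • m := fun _ _ => rfl
  let lt : Mod E.r E.t E.k →ₗ[P E.n R] M :=
    { toFun := E.l
      map_add' := E.l.map_add
      map_smul' := fun p x => E.lin p x }
  have hlt : ∀ x, lt x = E.l x := fun _ => rfl
  haveI locl : IsLocalizedModule E.Tt lt :=
    { map_units := fun τ => by
        obtain ⟨u, hu⟩ := E.unit τ.1 τ.2
        rw [Module.End.isUnit_iff]
        constructor
        · intro m₁ m₂ h
          have h' : E.θ τ.1 • m₁ = E.θ τ.1 • m₂ := h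
          rw [← hu] at h'
          have := congrArg (fun z => (↑u⁻¹ : S) • z) h'
          simpa [smul_smul] using this
        · intro m
          refine ⟨(↑u⁻¹ : S) • m, ?_⟩
          show E.θ τ.1 • ((↑u⁻¹ : S) • m) = m
          rw [← hu, smul_smul, Units.mul_inv, one_smul]
      surj := fun m => by
        obtain ⟨x, τ, hτ, h⟩ := E.surj m
        exact ⟨⟨x, ⟨τ, hτ⟩⟩, h⟩
      exists_of_eq := fun {x₁ x₂} h => by
        obtain ⟨τ, hτ, h'⟩ := E.ker (x₁ - x₂) (by
          have : E.l x₁ = E.l x₂ := h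
          rw [map_sub, this, sub_self])
        refine ⟨⟨τ, hτ⟩, ?_⟩
        show τ • x₁ = τ • x₂
        rwa [smul_sub, sub_eq_zero] at h' }
  let rT : Mod E.r E.t E.k ⊗[R] R' →ₗ[P E.n R] M ⊗[R] R' := AlgebraTensorModule.rTensor R R' lt
  haveI locT : IsLocalizedModule E.Tt rT := inferInstance
  let ε₁ : Mod E.r E.t E.k ⊗[R] R' ≃ₗ[R] Mod E.r E.t (kmap R' E.r E.t E.k) :=
    (TensorProduct.comm R _ R') ≪≫ₗ (hm.equiv.restrictScalars R)
  let ε₂ : M ⊗[R] R' ≃ₗ[R] M' :=
    (TensorProduct.comm R M R') ≪≫ₗ (hfR.equiv.restrictScalars R)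
  have hε₁ : ∀ x a, ε₁ (x ⊗ₜ a) = a • muM R' E.r E.t E.k x := fun x a => by
    show hm.equiv (a ⊗ₜ x) = _
    rw [hm.equiv_tmul]; rfl
  have hε₂ : ∀ m a, ε₂ (m ⊗ₜ a) = a • f m := fun m a => by
    show hfR.equiv (a ⊗ₜ m) = _
    rw [hfR.equiv_tmul]; rfl
  have c1 : ∀ (τ : P E.n R) z, ε₁ (τ • z) = mp E R' τ • ε₁ z := by
    intro τ z
    induction z using TensorProduct.induction_on with
    | zero => simp
    | tmul x a =>
      rw [TensorProduct.smul_tmul', hε₁, hε₁, map_smul,
        ← algebraMap_smul (P E.n R') τ (muM R' E.r E.t E.k x), smul_comm]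
      rfl
    | add z w hz hw => rw [smul_add, map_add, hz, hw, map_add, smul_add]
  have c2 : ∀ (τ : P E.n R) z, ε₂ (τ • z) = psi R' S' E.θ (mp E R' τ) • ε₂ z := by
    intro τ z
    induction z using TensorProduct.induction_on with
    | zero => simp
    | tmul m a =>
      rw [TensorProduct.smul_tmul', hε₂, hε₂, hsmulM, map_smul, psi_mp,
        ← algebraMap_smul S' (E.θ τ) (f m), smul_comm]
    | add z w hz hw => rw [smul_add, map_add, hz, hw, map_add, smul_add]
  have c3 : ∀ z, Λ (ε₁ z) = ε₂ (rT z) := by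
    intro z
    induction z using TensorProduct.induction_on with
    | zero => simp
    | tmul x a =>
      rw [hε₁, map_smul, hΛ]
      show _ = ε₂ (lt x ⊗ₜ a)
      rw [hε₂, hlt]
    | add z w hz hw => rw [map_add, map_add, hz, hw, map_add, map_add]
  refine ⟨Λ, hsemi, ?_, ?_⟩
  · intro m'
    obtain ⟨z', rfl⟩ := ε₂.surjective m'
    obtain ⟨⟨z, τ⟩, h⟩ := IsLocalizedModule.surj E.Tt rT z'
    refine ⟨ε₁ z, τ.1, τ.2, ?_⟩
    rw [c3, ← c2]
    exact congrArg ε₂ h
  · intro y hy
    obtain ⟨z, rfl⟩ := ε₁.surjective y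
    rw [c3] at hy
    have h0 : rT z = 0 := by
      rw [← map_zero ε₂] at hy
      exact ε₂.injective hy
    obtain ⟨τ, hτ⟩ := (IsLocalizedModule.eq_zero_iff E.Tt rT).mp h0
    refine ⟨τ.1, τ.2, ?_⟩
    rw [← c1]
    have : τ.1 • z = 0 := hτ
    rw [this, map_zero]

end Lam

end Groth.Agent.H6.LimFlatD
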