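import Mathlib
import Groth.Agent.Lib.Helper6.LFD6

/-!
# Flatness at primes of a pushout versus the localized polynomial model (helper6)
-/

set_option autoImplicit false
universe u
open TensorProduct Function

namespace Groth.Agent.H6.LimFlatD

open Groth.Agent.H1.PolyModel Groth.Agent.H1.LimFlat

attribute [local instance] MvPolynomial.algebraMvPolynomial

section Primes

variable {R S M : Type u} [CommRing R] [CommRing S] [Algebra R S] [AddCommGroup M]
  [Module S M] [Module R M] [IsScalarTower R S M] (E : EssModel R S M)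
  (R' S' : Type u) [CommRing R'] [CommRing S']
  [Algebra R R'] [Algebra S S'] [Algebra R' S'] [Algebra R S'] [IsScalarTower R S S']
  [IsScalarTower R R' S'] [Algebra.IsPushout R S R' S']

theorem mem_map_psi_iff (Q' : Ideal (P E.n R')) (s' : S') :
    s' ∈ Q'.map (psi R' S' E.θ) ↔
      ∃ p ∈ Q', ∃ τ ∈ E.Tt, s' * psi R' S' E.θ (mp E R' τ) = psi R' S' E.θ p := by
  constructor
  · intro hs'
    rw [Ideal.map] at hs'
    refine Submodule.span_induction ?_ ?_ ?_ ?_ hs'
    · rintro _ ⟨p, hp, rfl⟩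
      exact ⟨p, hp, 1, E.Tt.one_mem, by rw [map_one, map_one, mul_one]⟩
    · exact ⟨0, Q'.zero_mem, 1, E.Tt.one_mem, by rw [zero_mul, map_zero]⟩
    · rintro x y _ _ ⟨p₁, hp₁, τ₁, hτ₁, h₁⟩ ⟨p₂, hp₂, τ₂, hτ₂, h₂⟩
      refine ⟨p₁ * mp E R' τ₂ + p₂ * mp E R' τ₁,
        Q'.add_mem (Q'.mul_mem_right _ hp₁) (Q'.mul_mem_right _ hp₂), τ₁ * τ₂,
        E.Tt.mul_mem hτ₁ hτ₂, ?_⟩
      rw [map_mul, map_mul, map_add, map_mul, map_mul, ← h₁, ← h₂]
      ring
    · rintro a x _ ⟨p, hp, τ, hτ, h⟩
      obtain ⟨pa, τa, hτa, ha⟩ := psi_frac E R' S' a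
      refine ⟨pa * p, Q'.mul_mem_left _ hp, τa * τ, E.Tt.mul_mem hτa hτ, ?_⟩
      rw [map_mul, map_mul, map_mul, ← ha, ← h, smul_eq_mul]
      ring
  · rintro ⟨p, hp, τ, hτ, h⟩
    obtain ⟨u, hu⟩ := psi_unit E R' S' τ hτ
    have h1 : s' = psi R' S' E.θ p * ↑u⁻¹ := by
      rw [← h, ← hu, mul_assoc, Units.mul_inv, mul_one]
    rw [h1]
    exact Ideal.mul_mem_right _ _ (Ideal.mem_map_of_mem _ hp)

variable {R' S'}

theorem comap_map_psi (Q' : Ideal (P E.n R')) [Q'.IsPrime]
    (hker : RingHom.ker (psi R' S' E.θ) ≤ Q') (hT : ∀ τ ∈ E.Tt, mp E R' τ ∉ Q') :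
    (Q'.map (psi R' S' E.θ)).comap (psi R' S' E.θ) = Q' := by
  refine le_antisymm ?_ Ideal.le_comap_map
  intro x hx
  rw [Ideal.mem_comap, mem_map_psi_iff] at hx
  obtain ⟨p, hp, τ, hτ, h⟩ := hx
  have h1 : x * mp E R' τ - p ∈ Q' := hker (by
    rw [RingHom.mem_ker, map_sub, map_mul, h, sub_self])
  have h2 : x * mp E R' τ ∈ Q' := by
    have := Q'.add_mem h1 hp
    rwa [sub_add_cancel] at this
  exact (Ideal.IsPrime.mem_or_mem inferInstance h2).resolve_right (hT τ hτ)

theorem isPrime_map_psi (Q' : Ideal (P E.n R')) [Q'.IsPrime]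
    (hker : RingHom.ker (psi R' S' E.θ) ≤ Q') (hT : ∀ τ ∈ E.Tt, mp E R' τ ∉ Q') :
    (Q'.map (psi R' S' E.θ)).IsPrime := by
  have hcm := comap_map_psi E Q' hker hT
  rw [Ideal.isPrime_iff]
  constructor
  · intro htop
    have h1 : (1 : P E.n R') ∈ (Q'.map (psi R' S' E.θ)).comap (psi R' S' E.θ) := by
      rw [Ideal.mem_comap, htop]; exact Submodule.mem_top
    rw [hcm] at h1
    exact (Ideal.IsPrime.ne_top inferInstance) ((Ideal.eq_top_iff_one Q').mpr h1)
  · intro a b hab
    obtain ⟨pa, τa, hτa, ha⟩ := psi_frac E R' S' a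
    obtain ⟨pb, τb, hτb, hb⟩ := psi_frac E R' S' b
    have h1 : pa * pb ∈ Q' := by
      rw [← hcm, Ideal.mem_comap, map_mul, ← ha, ← hb]
      have : a * psi R' S' E.θ (mp E R' τa) * (b * psi R' S' E.θ (mp E R' τb)) =
          (a * b) * (psi R' S' E.θ (mp E R' τa) * psi R' S' E.θ (mp E R' τb)) := by ring
      rw [this]
      exact Ideal.mul_mem_right _ _ hab
    rcases Ideal.IsPrime.mem_or_mem inferInstance h1 with h | h
    · exact Or.inl ((mem_map_psi_iff E R' S' Q' a).mpr ⟨pa, h, τa, hτa, ha⟩)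
    · exact Or.inr ((mem_map_psi_iff E R' S' Q' b).mpr ⟨pb, h, τb, hτb, hb⟩)

end Primes

section Pointwise

variable {R S M : Type u} [CommRing R] [CommRing S] [Algebra R S] [AddCommGroup M]
  [Module S M] [Module R M] [IsScalarTower R S M] (E : EssModel R S M)
  {R' S' : Type u} [CommRing R'] [CommRing S']
  [Algebra R R'] [Algebra S S'] [Algebra R' S'] [Algebra R S'] [IsScalarTower R S S']
  [IsScalarTower R R' S'] [Algebra.IsPushout R S R' S']
  {M' : Type u} [AddCommGroup M'] [Module S' M'] [Module R' M'] [IsScalarTower R' S' M']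
  [Module S M'] [IsScalarTower S S' M'] (f : M →ₗ[S] M') (hf : IsBaseChange S' f)

include hf in
/-- flatness at a prime of the pushout is flatness of the model at the contracted prime -/
theorem flat_iff_at (q' : Ideal S') [q'.IsPrime] :
    Module.Flat R' (LocalizedModule q'.primeCompl M') ↔
      Module.Flat R' (LocalizedModule (q'.comap (psi R' S' E.θ)).primeCompl
        (Mod E.r E.t (kmap R' E.r E.t E.k))) := by
  obtain ⟨Λ, hsemi, hsurj, hker⟩ := exists_lam (R' := R') E f hf
  letI algPS' : Algebra (P E.n R') S' := (psi R' S' E.θ).toRingHom.toAlgebra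
  haveI twRPS' : IsScalarTower R' (P E.n R') S' :=
    IsScalarTower.of_algebraMap_eq (fun a => ((psi R' S' E.θ).commutes a).symm)
  have hψ : ∀ p', algebraMap (P E.n R') S' p' = psi R' S' E.θ p' := fun _ => rfl
  letI modPM' : Module (P E.n R') M' := Module.compHom M' (algebraMap (P E.n R') S')
  haveI twPSM' : IsScalarTower (P E.n R') S' M' :=
    ⟨fun p s m => by
      change (algebraMap (P E.n R') S' p * s) • m = algebraMap (P E.n R') S' p • (s • m)
      rw [mul_smul]⟩
  haveI twRPM' : IsScalarTower R' (P E.n R') M' := IsScalarTower.of_algebraMap_smul fun a m => by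
    change algebraMap (P E.n R') S' (algebraMap R' (P E.n R') a) • m = a • m
    rw [← IsScalarTower.algebraMap_apply, algebraMap_smul]
  haveI twRPN : IsScalarTower R' (P E.n R') (LocalizedModule q'.primeCompl M') :=
    IsScalarTower.of_algebraMap_smul fun a z => by
      rw [← algebraMap_smul S' (algebraMap R' (P E.n R') a) z,
        ← IsScalarTower.algebraMap_apply R' (P E.n R') S', algebraMap_smul]
  have hsmulM' : ∀ (p' : P E.n R') (m' : M'), p' • m' = psi R' S' E.θ p' • m' := fun _ _ => rfl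
  have hsmulN : ∀ (p' : P E.n R') (z : LocalizedModule q'.primeCompl M'),
      p' • z = psi R' S' E.θ p' • z := fun p' z => (algebraMap_smul S' p' z).symm
  let ΛP : Mod E.r E.t (kmap R' E.r E.t E.k) →ₗ[P E.n R'] M' :=
    { toFun := Λ
      map_add' := Λ.map_add
      map_smul' := hsemi }
  let mkP : M' →ₗ[P E.n R'] LocalizedModule q'.primeCompl M' :=
    (LocalizedModule.mkLinearMap q'.primeCompl M').restrictScalars (P E.n R')
  let ℓ : Mod E.r E.t (kmap R' E.r E.t E.k) →ₗ[P E.n R'] LocalizedModule q'.primeCompl M' :=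
    mkP ∘ₗ ΛP
  have hℓ : ∀ y, ℓ y = LocalizedModule.mk (Λ y) 1 := fun _ => rfl
  set Q' : Ideal (P E.n R') := q'.comap (psi R' S' E.θ) with hQ'
  have hQmem : ∀ p', p' ∈ Q' ↔ psi R' S' E.θ p' ∈ q' := fun _ => Iff.rfl
  have hunitQ : ∀ τ ∈ E.Tt, mp E R' τ ∉ Q' := fun τ hτ hmem =>
    (Ideal.IsPrime.ne_top inferInstance)
      (Ideal.eq_top_of_isUnit_mem _ ((hQmem _).mp hmem) (psi_unit E R' S' τ hτ))
  haveI locℓ : IsLocalizedModule Q'.primeCompl ℓ :=
    { map_units := fun p' => by
        have h1 := IsLocalizedModule.map_units (LocalizedModule.mkLinearMap q'.primeCompl M')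
          (⟨psi R' S' E.θ p'.1, p'.2⟩ : q'.primeCompl)
        rw [Module.End.isUnit_iff] at h1 ⊢
        have h2 : (⇑(algebraMap (P E.n R') (Module.End (P E.n R')
            (LocalizedModule q'.primeCompl M')) p'.1) :
            LocalizedModule q'.primeCompl M' → LocalizedModule q'.primeCompl M') =
            ⇑(algebraMap S' (Module.End S' (LocalizedModule q'.primeCompl M'))
              (psi R' S' E.θ p'.1)) := by
          funext z
          rw [Module.algebraMap_end_apply, Module.algebraMap_end_apply, hsmulN]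
        rw [h2]
        exact h1
      surj := fun z => by
        induction z using LocalizedModule.induction_on with
        | h m' σ =>
          obtain ⟨p₁, τ₁, hτ₁, h₁⟩ := psi_frac E R' S' σ.1
          obtain ⟨y, τ₂, hτ₂, h₂⟩ := hsurj m'
          have hp₁ : p₁ ∉ Q' := by
            intro hmem
            rw [hQmem, ← h₁] at hmem
            rcases Ideal.IsPrime.mem_or_mem inferInstance hmem with h | h
            · exact σ.2 h
            · exact hunitQ τ₁ hτ₁ h
          have hmul : p₁ * mp E R' τ₂ ∈ Q'.primeCompl := fun hmem =>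
            (Ideal.IsPrime.mem_or_mem inferInstance hmem).elim hp₁ (hunitQ τ₂ hτ₂)
          refine ⟨⟨mp E R' τ₁ • y, ⟨p₁ * mp E R' τ₂, hmul⟩⟩, ?_⟩
          show (p₁ * mp E R' τ₂) • LocalizedModule.mk m' σ = ℓ (mp E R' τ₁ • y)
          rw [hℓ, hsmulN, LocalizedModule.smul'_mk, LocalizedModule.mk_eq]
          refine ⟨1, ?_⟩
          rw [one_smul, one_smul, one_smul, hsemi, ← h₂, map_mul, ← h₁, Submonoid.smul_def,
            smul_smul, smul_smul]
      exists_of_eq := fun {y₁ y₂} h => by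
        rw [hℓ, hℓ, LocalizedModule.mk_eq] at h
        obtain ⟨σ, hσ⟩ := h
        rw [one_smul, one_smul, Submonoid.smul_def, Submonoid.smul_def] at hσ
        obtain ⟨p₁, τ₁, hτ₁, h₁⟩ := psi_frac E R' S' σ.1
        have hp₁ : p₁ ∉ Q' := by
          intro hmem
          rw [hQmem, ← h₁] at hmem
          rcases Ideal.IsPrime.mem_or_mem inferInstance hmem with h | h
          · exact σ.2 h
          · exact hunitQ τ₁ hτ₁ h
        have h2 : Λ (p₁ • (y₁ - y₂)) = 0 := by
          rw [hsemi, ← h₁, mul_comm, mul_smul, map_sub, smul_sub, hσ, sub_self, smul_zero]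
        obtain ⟨τ, hτ, h3⟩ := hker _ h2
        have hmul : mp E R' τ * p₁ ∈ Q'.primeCompl := fun hmem =>
          (Ideal.IsPrime.mem_or_mem inferInstance hmem).elim (hunitQ τ hτ) hp₁
        refine ⟨⟨mp E R' τ * p₁, hmul⟩, ?_⟩
        show (mp E R' τ * p₁) • y₁ = (mp E R' τ * p₁) • y₂
        rw [← sub_eq_zero, ← smul_sub, mul_smul]
        exact h3 }
  constructor
  · intro h
    exact Module.Flat.of_linearEquiv ((IsLocalizedModule.iso Q'.primeCompl ℓ).restrictScalars R')
  · intro h
    exact Module.Flat.of_linearEquiv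
      ((IsLocalizedModule.iso Q'.primeCompl ℓ).symm.restrictScalars R')

include hf in
/-- **Glue (essentially finitely presented case).** -/
theorem flatAt_iff_essModel (𝔞' : Ideal R') (J : Ideal S) :
    (∀ (q' : Ideal S') [q'.IsPrime],
      𝔞'.map (algebraMap R' S') ⊔ J.map (algebraMap S S') ≤ q' →
      Module.Flat R' (LocalizedModule q'.primeCompl M')) ↔
    (∀ (Q' : Ideal (P E.n R')) [Q'.IsPrime],
      𝔞'.map (algebraMap R' (P E.n R')) ⊔ (J.comap E.θ).map (mp E R') ≤ Q' →
      (∀ τ ∈ E.Tt, mp E R' τ ∉ Q') →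
      Module.Flat R' (LocalizedModule Q'.primeCompl (Mod E.r E.t (kmap R' E.r E.t E.k)))) := by
  constructor
  · intro H Q' _ hQ' hT
    by_cases hker : RingHom.ker (psi R' S' E.θ) ≤ Q'
    · haveI hprime : (Q'.map (psi R' S' E.θ)).IsPrime := isPrime_map_psi E Q' hker hT
      have hcm := comap_map_psi E Q' hker hT
      have hle : 𝔞'.map (algebraMap R' S') ⊔ J.map (algebraMap S S') ≤
          Q'.map (psi R' S' E.θ) := by
        refine sup_le ?_ ?_
        · rw [Ideal.map_le_iff_le_comap]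
          intro a ha
          rw [Ideal.mem_comap, ← psi_C R' S' E.θ a]
          refine Ideal.mem_map_of_mem _ (hQ' (Ideal.mem_sup_left ?_))
          rw [MvPolynomial.algebraMap_eq]
          exact Ideal.mem_map_of_mem _ ha
        · rw [Ideal.map_le_iff_le_comap]
          intro j hj
          rw [Ideal.mem_comap]
          obtain ⟨p, τ, hτ, h⟩ := E.frac j
          have hp : p ∈ J.comap E.θ := by
            rw [Ideal.mem_comap, ← h]
            exact Ideal.mul_mem_right _ _ hj
          refine (mem_map_psi_iff E R' S' Q' _).mpr ⟨mp E R' p,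
            hQ' (Ideal.mem_sup_right (Ideal.mem_map_of_mem _ hp)), τ, hτ, ?_⟩
          rw [psi_mp, psi_mp, ← map_mul, h]
      have h1 := (flat_iff_at E f hf (Q'.map (psi R' S' E.θ))).mp (H _ hle)
      have aux : ∀ (Q₁ Q₂ : Ideal (P E.n R')) [Q₁.IsPrime] [Q₂.IsPrime], Q₁ = Q₂ →
          Module.Flat R' (LocalizedModule Q₁.primeCompl (Mod E.r E.t (kmap R' E.r E.t E.k))) →
          Module.Flat R' (LocalizedModule Q₂.primeCompl
            (Mod E.r E.t (kmap R' E.r E.t E.k))) := by
        intro Q₁ Q₂ _ _ h hfl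
        subst h
        exact hfl
      haveI : ((Q'.map (psi R' S' E.θ)).comap (psi R' S' E.θ)).IsPrime :=
        Ideal.comap_isPrime _ _
      exact aux _ _ hcm h1
    · obtain ⟨x, hxker, hxQ⟩ := Set.not_subset.mp hker
      obtain ⟨Λ, hsemi, -, hkerΛ⟩ := exists_lam (R' := R') E f hf
      haveI : Subsingleton (LocalizedModule Q'.primeCompl
          (Mod E.r E.t (kmap R' E.r E.t E.k))) := by
        rw [LocalizedModule.subsingleton_iff]
        intro y
        have h0 : Λ (x • y) = 0 := by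
          rw [hsemi, RingHom.mem_ker.mp hxker, zero_smul]
        obtain ⟨τ, hτ, h1⟩ := hkerΛ _ h0
        refine ⟨mp E R' τ * x, fun hmem =>
          (Ideal.IsPrime.mem_or_mem inferInstance hmem).elim (hT τ hτ) hxQ, ?_⟩
        rw [mul_smul]
        exact h1
      infer_instance
  · intro H q' _ hq'
    refine (flat_iff_at E f hf q').mpr (H _ ?_ ?_)
    · refine sup_le ?_ ?_
      · rw [Ideal.map_le_iff_le_comap]
        intro a ha
        rw [Ideal.mem_comap, Ideal.mem_comap, MvPolynomial.algebraMap_eq, psi_C]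
        exact hq' (Ideal.mem_sup_left (Ideal.mem_map_of_mem _ ha))
      · rw [Ideal.map_le_iff_le_comap]
        intro p hp
        rw [Ideal.mem_comap, Ideal.mem_comap, psi_mp]
        exact hq' (Ideal.mem_sup_right (Ideal.mem_map_of_mem _ hp))
    · intro τ hτ hmem
      exact (Ideal.IsPrime.ne_top (inferInstance : q'.IsPrime))
        (Ideal.eq_top_of_isUnit_mem q' (Ideal.mem_comap.mp hmem) (psi_unit E R' S' τ hτ))

end Pointwise

end Groth.Agent.H6.LimFlatD
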