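import Mathlib
import Groth.Agent.Lib.Helper1.LimFlat6

/-!
# Descent of flatness along a closed set inside a pro-open set to a finitely generated subring
(helper6)

Variant of `LFD1.exists_fg_cover` with a multiplicative set: flatness is only assumed at the primes
containing `𝔞` and disjoint from `T'`; the partition of unity becomes `a + Σ d_j g_j = τ₂` with
`τ₂ ∈ T'`.
-/

set_option autoImplicit false
universe u
open TensorProduct Function

namespace Groth.Agent.H6.LimFlatD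

open Groth.Agent.H1.PolyModel Groth.Agent.H1.LimFlat

attribute [local instance] MvPolynomial.algebraMvPolynomial

variable {A : Type u} [CommRing A] {n : ℕ} (r t : ℕ)

/-- **Descent along a closed set inside the complement of a multiplicative set.** -/
theorem exists_fg_cover' (k : Fin t → (Fin r → P n A)) (𝔞 : Ideal (P n A))
    (T' : Submonoid (P n A))
    (H : ∀ (Q : Ideal (P n A)) [Q.IsPrime], 𝔞 ≤ Q → (∀ τ ∈ T', τ ∉ Q) →
      Module.Flat A (LocalizedModule Q.primeCompl (Mod r t k)))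
    (S₀ : Subalgebra ℤ A) (hS₀ : S₀.FG) :
    ∃ S₂ : Subalgebra ℤ A, S₀ ≤ S₂ ∧ S₂.FG ∧ ∃ k₂ : Fin t → (Fin r → P n S₂),
      kmap A r t k₂ = k ∧ ∃ (N : ℕ) (g d : Fin N → P n S₂) (a τ₂ : P n S₂),
        MvPolynomial.map (algebraMap S₂ A) a ∈ 𝔞 ∧
        MvPolynomial.map (algebraMap S₂ A) τ₂ ∈ T' ∧ a + ∑ j, d j * g j = τ₂ ∧
        ∀ (j : Fin N) (q : Ideal (P n S₂)) [q.IsPrime], g j ∉ q →
          Module.Flat S₂ (LocalizedModule q.primeCompl (Mod r t k₂)) := by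
  classical
  -- level zero
  obtain ⟨S₀', hS₀S₀', hS₀', k₀, hk₀⟩ := exists_level_zero r t k S₀ hS₀
  -- local data at each relevant prime
  have hloc : ∀ q : {q : PrimeSpectrum (P n A) // 𝔞 ≤ q.asIdeal ∧ ∀ τ ∈ T', τ ∉ q.asIdeal},
      ∃ S₁ : Subalgebra ℤ A, S₀' ≤ S₁ ∧ S₁.FG ∧
      ∃ k₁ : Fin t → (Fin r → P n S₁), kmap A r t k₁ = k ∧ ∃ g₁ : P n S₁,
        MvPolynomial.map (algebraMap S₁ A) g₁ ∉ q.1.asIdeal ∧
        ∀ (q₁ : Ideal (P n S₁)) [q₁.IsPrime], g₁ ∉ q₁ →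
          Module.Flat S₁ (LocalizedModule q₁.primeCompl (Mod r t k₁)) := by
    intro q
    haveI : Module.Flat A (LocalizedModule q.1.asIdeal.primeCompl (Mod r t k)) :=
      H q.1.asIdeal q.2.1 q.2.2
    exact exists_fg_flat_nhd r t k q.1.asIdeal S₀' hS₀'
  choose S₁ hS₀₁ hS₁ k₁ hk₁ g₁ hg₁ hflat using hloc
  -- the ideal meets `T'`
  let v : {q : PrimeSpectrum (P n A) // 𝔞 ≤ q.asIdeal ∧ ∀ τ ∈ T', τ ∉ q.asIdeal} → P n A :=
    fun q => MvPolynomial.map (algebraMap (S₁ q) A) (g₁ q)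
  have hmeet : ∃ τ₀ ∈ T', τ₀ ∈ 𝔞 ⊔ Ideal.span (v '' Set.univ) := by
    by_contra hne
    push Not at hne
    have hdisj : Disjoint ((𝔞 ⊔ Ideal.span (v '' Set.univ) : Ideal (P n A)) : Set (P n A))
        (T' : Set (P n A)) := by
      rw [Set.disjoint_left]
      intro x hx hxT
      exact hne x hxT hx
    obtain ⟨Q, hQprime, hle, hQdisj⟩ := Ideal.exists_le_prime_disjoint _ T' hdisj
    have h𝔞Q : 𝔞 ≤ Q := le_sup_left.trans hle
    have hTQ : ∀ τ ∈ T', τ ∉ Q := fun τ hτ hmem => Set.disjoint_left.mp hQdisj hmem hτ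
    exact hg₁ ⟨⟨Q, hQprime⟩, h𝔞Q, hTQ⟩
      (hle (Ideal.mem_sup_right (Ideal.subset_span
        ⟨⟨⟨Q, hQprime⟩, h𝔞Q, hTQ⟩, Set.mem_univ _, rfl⟩)))
  obtain ⟨τ₀, hτ₀T, h1⟩ := hmeet
  obtain ⟨a₀, ha₀, b₀, hb₀, hab⟩ := Submodule.mem_sup.mp h1
  obtain ⟨Qs, -, c, hc⟩ := (Submodule.mem_span_image_iff_exists_fun (P n A)).mp hb₀
  -- the big subring
  let T₀ : Subalgebra ℤ A := S₀' ⊔ Qs.sup S₁
  have hT₀ : T₀.FG := hS₀'.sup (fg_finset_sup Qs S₁ fun q _ => hS₁ q)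
  obtain ⟨S₂, hT₀S₂, hS₂, hQ⟩ :=
    exists_fg_ge_forall_mem_range T₀ hT₀ (insert τ₀ (insert a₀ (Finset.univ.image c)))
  have hS₀S₂ : S₀' ≤ S₂ := le_sup_left.trans hT₀S₂
  have hS₁S₂ : ∀ q ∈ Qs, S₁ q ≤ S₂ := fun q hq =>
    (Finset.le_sup (f := S₁) hq).trans (le_sup_right.trans hT₀S₂)
  have hc' : ∀ i : Qs, ∃ c' : P n S₂, MvPolynomial.map (algebraMap S₂ A) c' = c i := fun i =>
    hQ _ (Finset.mem_insert_of_mem (Finset.mem_insert_of_mem
      (Finset.mem_image.mpr ⟨i, Finset.mem_univ _, rfl⟩)))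
  choose c' hc'eq using hc'
  obtain ⟨a, ha⟩ : ∃ a : P n S₂, MvPolynomial.map (algebraMap S₂ A) a = a₀ :=
    hQ _ (Finset.mem_insert_of_mem (Finset.mem_insert_self _ _))
  obtain ⟨τ₂, hτ₂⟩ : ∃ τ₂ : P n S₂, MvPolynomial.map (algebraMap S₂ A) τ₂ = τ₀ :=
    hQ _ (Finset.mem_insert_self _ _)
  -- generators over `S₂`
  letI alg02 : Algebra S₀' S₂ := (Subalgebra.inclusion hS₀S₂).toAlgebra
  haveI : IsScalarTower S₀' S₂ A := IsScalarTower.of_algebraMap_eq fun x => rfl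
  let k₂ : Fin t → (Fin r → P n S₂) := kmap S₂ r t k₀
  have hk₂ : kmap A r t k₂ = k := (kmap_kmap S₂ A r t k₀).trans hk₀
  have hinj : Injective (MvPolynomial.map (algebraMap S₂ A) : P n S₂ → P n A) :=
    MvPolynomial.map_injective _ Subtype.val_injective
  let G : Qs → P n S₂ := fun i =>
    MvPolynomial.map (Subalgebra.inclusion (hS₁S₂ i.1 i.2)).toRingHom (g₁ i.1)
  -- the partition of unity over `S₂`
  have hone : a + ∑ i : Qs, c' i * G i = τ₂ := by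
    apply hinj
    rw [map_add, map_sum, hτ₂, ha, ← hab, ← hc]
    congr 1
    refine Finset.sum_congr rfl fun i _ => ?_
    rw [map_mul, hc'eq, MvPolynomial.map_map, smul_eq_mul]
    rfl
  -- reindex by `Fin N`
  let eN : Fin (Fintype.card Qs) ≃ Qs := (Fintype.equivFin Qs).symm
  refine ⟨S₂, hS₀S₀'.trans hS₀S₂, hS₂, k₂, hk₂, Fintype.card Qs, fun j => G (eN j),
    fun j => c' (eN j), a, τ₂, ha ▸ ha₀, hτ₂ ▸ hτ₀T, ?_, ?_⟩
  · rw [← hone]
    congr 1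
    exact Equiv.sum_comp eN (fun i => c' i * G i)
  · intro j Q _ hj
    exact flat_localized_of_le r t (S₁ (eN j).1) S₂ (hS₁S₂ (eN j).1 (eN j).2) (k₁ (eN j).1) k₂
      (hk₂.trans (hk₁ (eN j).1).symm) (g₁ (eN j).1) (hflat (eN j).1) Q hj

end Groth.Agent.H6.LimFlatD
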