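import Mathlib
import Groth.Agent.Lib.Helper6.LFD7
import Groth.Agent.Lib.Helper6.LFD8
import Groth.Agent.Lib.Helper6.LFD10

/-!
# Flatness over a closed set descends to a finite stage of a directed colimit (helper6)
-/

set_option autoImplicit false
universe u
open TensorProduct Function

namespace Groth.Agent.H6.LimFlatD

open Groth.Agent.H1.PolyModel Groth.Agent.H1.LimFlat

attribute [local instance] MvPolynomial.algebraMvPolynomial

section Stage

variable {S₂ Gj : Type u} [CommRing S₂] [CommRing Gj] {n : ℕ} (r t : ℕ)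

/-- flatness at a prime of the model over a ring receiving a map from the descent ring -/
theorem flat_stage (k₂ : Fin t → (Fin r → P n S₂)) {N : ℕ} (gg d : Fin N → P n S₂)
    (a τ₂ : P n S₂) (hone : a + ∑ j, d j * gg j = τ₂)
    (hflat : ∀ (j : Fin N) (q : Ideal (P n S₂)) [q.IsPrime], gg j ∉ q →
      Module.Flat S₂ (LocalizedModule q.primeCompl (Mod r t k₂)))
    (χ : S₂ →+* Gj) (k : Fin t → (Fin r → P n Gj))
    (hk : ∀ u b, MvPolynomial.map χ (k₂ u b) = k u b)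
    (Q : Ideal (P n Gj)) [Q.IsPrime] (ha : MvPolynomial.map χ a ∈ Q)
    (hτ : MvPolynomial.map χ τ₂ ∉ Q) :
    Module.Flat Gj (LocalizedModule Q.primeCompl (Mod r t k)) := by
  letI algχ : Algebra S₂ Gj := χ.toAlgebra
  have hkk : kmap Gj r t k₂ = k := by
    funext u b
    exact hk u b
  subst hkk
  have hex : ∃ j : Fin N, MvPolynomial.map χ (gg j) ∉ Q := by
    by_contra hno
    push Not at hno
    apply hτ
    rw [← hone, map_add, map_sum]
    refine Ideal.add_mem _ ha (Ideal.sum_mem _ fun j _ => ?_)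
    rw [map_mul]
    exact Ideal.mul_mem_left _ _ (hno j)
  obtain ⟨j, hj⟩ := hex
  let q₂ : Ideal (P n S₂) := Q.comap (algebraMap (P n S₂) (P n Gj))
  haveI : q₂.IsPrime := Ideal.comap_isPrime _ _
  have hgq₂ : gg j ∉ q₂ := hj
  haveI := hflat j q₂ hgq₂
  exact Groth.Agent.H1.FlatBCLoc.flat_localized_of_isBaseChange (R := S₂) (R' := Gj)
    (B := P n S₂) (B' := P n Gj) (muM Gj r t k₂)
    (isBaseChange_muM_restrictScalars Gj r t k₂)
    q₂.primeCompl Q.primeCompl (fun s hs => hs)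
    (LocalizedModule.mkLinearMap q₂.primeCompl (Mod r t k₂))
    (LocalizedModule.mkLinearMap Q.primeCompl (Mod r t (kmap Gj r t k₂)))

end Stage

section Main

variable {R S M : Type u} [CommRing R] [CommRing S] [Algebra R S] [AddCommGroup M]
  [Module S M] [Module R M] [IsScalarTower R S M] (E : EssModel R S M)
  {ι : Type u} [Preorder ι] (G : ι → Type u) [∀ i, CommRing (G i)] [∀ i, Algebra R (G i)]
  (g : ∀ i j, i ≤ j → G i →+* G j)
  (hgR : ∀ i j (h : i ≤ j), (g i j h).comp (algebraMap R (G i)) = algebraMap R (G j))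
  (R' : Type u) [CommRing R'] [Algebra R R'] [∀ i, Algebra (G i) R']
  [∀ i, IsScalarTower R (G i) R']
  (hc : FlatCA.IsDirectedColimitRing G g R')
  (Il : ∀ i, Ideal (G i)) (hIl : ∀ i j (h : i ≤ j), (Il i).map (g i j h) ≤ Il j)

include hc hIl in
/-- the extension of the colimit ideal to the polynomial ring is a directed union -/
theorem mem_map_iSup_iff (x : P E.n R')
    (hx : x ∈ (⨆ i, (Il i).map (algebraMap (G i) R')).map (algebraMap R' (P E.n R'))) :
    ∃ i, x ∈ (Il i).map ((algebraMap R' (P E.n R')).comp (algebraMap (G i) R')) := by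
  haveI : Nonempty ι := dc_nonempty hc
  rw [Ideal.map_iSup] at hx
  have hdir : Directed (· ≤ ·) (fun i => ((Il i).map (algebraMap (G i) R')).map
      (algebraMap R' (P E.n R'))) := by
    intro i j
    obtain ⟨k, hik, hjk⟩ := dc_directed hc i j
    have key : ∀ (i k : ι) (hik : i ≤ k), ((Il i).map (algebraMap (G i) R')).map
        (algebraMap R' (P E.n R')) ≤ ((Il k).map (algebraMap (G k) R')).map
        (algebraMap R' (P E.n R')) := by
      intro i k hik
      refine Ideal.map_mono ?_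
      rw [← hc.2.2.2.2.1 i k hik, ← Ideal.map_map]
      exact Ideal.map_mono (hIl i k hik)
    exact ⟨k, key i k hik, key j k hjk⟩
  obtain ⟨i, hi⟩ := (Submodule.mem_iSup_of_directed _ hdir).mp hx
  exact ⟨i, by rwa [Ideal.map_map] at hi⟩

include hc hIl hgR in
/-- all the finitely many identities needed hold at a finite stage -/
theorem exists_stage_identities (J : Ideal S) (S₂ : Subalgebra ℤ R') (hS₂ : S₂.FG)
    (k₂ : Fin E.t → (Fin E.r → P E.n S₂))
    (hk₂ : kmap R' E.r E.t k₂ = kmap R' E.r E.t E.k) (a τ₂ : P E.n S₂)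
    (ha : MvPolynomial.map (algebraMap S₂ R') a ∈
      (⨆ i, (Il i).map (algebraMap (G i) R')).map (algebraMap R' (P E.n R')) ⊔
        (J.comap E.θ).map (mp E R'))
    (hτ₂ : MvPolynomial.map (algebraMap S₂ R') τ₂ ∈ E.Tt.map (mp E R')) :
    ∃ (j : ι) (χ : S₂ →+* G j),
      (∀ u b, MvPolynomial.map χ (k₂ u b) =
        MvPolynomial.map (algebraMap R (G j)) (E.k u b)) ∧
      (∃ τ ∈ E.Tt, MvPolynomial.map χ τ₂ = mp E (G j) τ) ∧
      MvPolynomial.map χ a ∈ (Il j).map (algebraMap (G j) (P E.n (G j))) ⊔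
        (J.comap E.θ).map (mp E (G j)) := by
  classical
  obtain ⟨x, hx, y, hy, hxy⟩ := Submodule.mem_sup.mp ha
  obtain ⟨i₀, hxi₀⟩ := mem_map_iSup_iff E G g R' hc Il hIl x hx
  rw [Ideal.map] at hxi₀ hy
  obtain ⟨Xs, hXs, cA, hcA⟩ := (Submodule.mem_span_image_iff_exists_fun (P E.n R')).mp hxi₀
  obtain ⟨Ys, hYs, cB, hcB⟩ := (Submodule.mem_span_image_iff_exists_fun (P E.n R')).mp hy
  obtain ⟨τ, hτT, hτeq⟩ := Submonoid.mem_map.mp hτ₂
  -- lift the subalgebra and the coefficient polynomials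
  obtain ⟨i₁, hi₁, χ₀, hχ₀⟩ := exists_lift_subalgebra hc S₂ hS₂ i₀
  obtain ⟨i₂, hi₂, Ap, hAp⟩ := dc_poly_lift_finset hc E.n (Finset.univ : Finset Xs) cA i₁
  obtain ⟨i₃, hi₃, Bp, hBp⟩ := dc_poly_lift_finset hc E.n (Finset.univ : Finset Ys) cB i₂
  -- everything at level `i₃`
  let χ₃ : S₂ →+* G i₃ := (g i₁ i₃ (hi₂.trans hi₃)).comp χ₀
  have hχ₃ : ∀ s : S₂, algebraMap (G i₃) R' (χ₃ s) = (s : R') := by
    intro s
    show algebraMap (G i₃) R' (g i₁ i₃ (hi₂.trans hi₃) (χ₀ s)) = _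
    rw [dc_compat hc, hχ₀]
  have hmapχ₃ : ∀ p : P E.n S₂, MvPolynomial.map (algebraMap (G i₃) R')
      (MvPolynomial.map χ₃ p) = MvPolynomial.map (algebraMap S₂ R') p := by
    intro p
    rw [MvPolynomial.map_map]
    have : (algebraMap (G i₃) R').comp χ₃ = algebraMap S₂ R' := RingHom.ext hχ₃
    rw [this]
  have hmapR : ∀ p : P E.n R, MvPolynomial.map (algebraMap (G i₃) R')
      (MvPolynomial.map (algebraMap R (G i₃)) p) = mp E R' p := by
    intro p
    rw [MvPolynomial.map_map, ← IsScalarTower.algebraMap_eq]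
  let A₃ : Xs → P E.n (G i₃) := fun ν => MvPolynomial.map (g i₂ i₃ hi₃) (Ap ν)
  have hA₃ : ∀ ν, MvPolynomial.map (algebraMap (G i₃) R') (A₃ ν) = cA ν := by
    intro ν
    show MvPolynomial.map _ (MvPolynomial.map _ (Ap ν)) = _
    rw [MvPolynomial.map_map, hc.2.2.2.2.1 i₂ i₃ hi₃]
    exact hAp ν (Finset.mem_univ ν)
  let ι₃ : Xs → G i₃ := fun ν => g i₀ i₃ (hi₁.trans (hi₂.trans hi₃)) ν.1
  have hι₃mem : ∀ ν, ι₃ ν ∈ Il i₃ := fun ν =>
    hIl i₀ i₃ _ (Ideal.mem_map_of_mem _ (hXs ν.2))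
  have hι₃ : ∀ ν, algebraMap (G i₃) R' (ι₃ ν) = algebraMap (G i₀) R' ν.1 := fun ν =>
    dc_compat hc _ _ _ _
  let p : (Fin E.t × Fin E.r) ⊕ (Unit ⊕ Unit) → P E.n (G i₃) :=
    Sum.elim (fun ub => MvPolynomial.map χ₃ (k₂ ub.1 ub.2))
      (Sum.elim (fun _ => MvPolynomial.map χ₃ τ₂) (fun _ => MvPolynomial.map χ₃ a))
  let q : (Fin E.t × Fin E.r) ⊕ (Unit ⊕ Unit) → P E.n (G i₃) :=
    Sum.elim (fun ub => MvPolynomial.map (algebraMap R (G i₃)) (E.k ub.1 ub.2))
      (Sum.elim (fun _ => MvPolynomial.map (algebraMap R (G i₃)) τ)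
        (fun _ => ∑ ν, A₃ ν * MvPolynomial.C (ι₃ ν) +
          ∑ μ : Ys, Bp μ * MvPolynomial.map (algebraMap R (G i₃)) μ.1))
  have hpq : ∀ b ∈ (Finset.univ : Finset ((Fin E.t × Fin E.r) ⊕ (Unit ⊕ Unit))),
      MvPolynomial.map (algebraMap (G i₃) R') (p b) =
        MvPolynomial.map (algebraMap (G i₃) R') (q b) := by
    rintro (ub | _ | _) _
    · show MvPolynomial.map _ (MvPolynomial.map χ₃ (k₂ ub.1 ub.2)) =
        MvPolynomial.map _ (MvPolynomial.map (algebraMap R (G i₃)) (E.k ub.1 ub.2))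
      rw [hmapχ₃, hmapR]
      exact congrFun (congrFun hk₂ ub.1) ub.2
    · show MvPolynomial.map _ (MvPolynomial.map χ₃ τ₂) =
        MvPolynomial.map _ (MvPolynomial.map (algebraMap R (G i₃)) τ)
      rw [hmapχ₃, hmapR]
      exact hτeq.symm
    · show MvPolynomial.map _ (MvPolynomial.map χ₃ a) =
        MvPolynomial.map _ (∑ ν, A₃ ν * MvPolynomial.C (ι₃ ν) +
          ∑ μ : Ys, Bp μ * MvPolynomial.map (algebraMap R (G i₃)) μ.1)
      rw [hmapχ₃, ← hxy, ← hcA, ← hcB, map_add, map_sum, map_sum]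
      congr 1
      · refine Finset.sum_congr rfl fun ν _ => ?_
        rw [map_mul, hA₃, MvPolynomial.map_C, hι₃, smul_eq_mul]
        rfl
      · refine Finset.sum_congr rfl fun μ _ => ?_
        rw [map_mul, hBp μ (Finset.mem_univ μ), hmapR, smul_eq_mul]
  obtain ⟨j, hj, hjeq⟩ := dc_poly_eq_finset hc E.n Finset.univ i₃ p q hpq
  have hpush : ∀ Pp : P E.n S₂, MvPolynomial.map ((g i₃ j hj).comp χ₃) Pp =
      MvPolynomial.map (g i₃ j hj) (MvPolynomial.map χ₃ Pp) := fun Pp =>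
    (MvPolynomial.map_map _ _ _).symm
  have hpushR : ∀ Pp : P E.n R, MvPolynomial.map (g i₃ j hj)
      (MvPolynomial.map (algebraMap R (G i₃)) Pp) = MvPolynomial.map (algebraMap R (G j)) Pp := by
    intro Pp
    rw [MvPolynomial.map_map, hgR]
  refine ⟨j, (g i₃ j hj).comp χ₃, ?_, ?_, ?_⟩
  · intro u b
    rw [hpush]
    have h1 := hjeq (Sum.inl (u, b)) (Finset.mem_univ _)
    have h2 : MvPolynomial.map (g i₃ j hj) (MvPolynomial.map χ₃ (k₂ u b)) =
        MvPolynomial.map (g i₃ j hj) (MvPolynomial.map (algebraMap R (G i₃)) (E.k u b)) := h1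
    rw [h2, hpushR]
  · refine ⟨τ, hτT, ?_⟩
    rw [hpush]
    have h1 := hjeq (Sum.inr (Sum.inl ())) (Finset.mem_univ _)
    have h2 : MvPolynomial.map (g i₃ j hj) (MvPolynomial.map χ₃ τ₂) =
        MvPolynomial.map (g i₃ j hj) (MvPolynomial.map (algebraMap R (G i₃)) τ) := h1
    rw [h2, hpushR]
  · rw [hpush]
    have h1 := hjeq (Sum.inr (Sum.inr ())) (Finset.mem_univ _)
    have h2 : MvPolynomial.map (g i₃ j hj) (MvPolynomial.map χ₃ a) =
        MvPolynomial.map (g i₃ j hj) (∑ ν, A₃ ν * MvPolynomial.C (ι₃ ν) +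
          ∑ μ : Ys, Bp μ * MvPolynomial.map (algebraMap R (G i₃)) μ.1) := h1
    rw [h2, map_add, map_sum, map_sum]
    refine Submodule.add_mem _ (Ideal.mem_sup_left (Ideal.sum_mem _ fun ν _ => ?_))
      (Ideal.mem_sup_right (Ideal.sum_mem _ fun μ _ => ?_))
    · rw [map_mul, MvPolynomial.map_C, ← MvPolynomial.algebraMap_eq]
      exact Ideal.mul_mem_left _ _ (Ideal.mem_map_of_mem _
        (hIl i₃ j hj (Ideal.mem_map_of_mem _ (hι₃mem ν))))
    · rw [map_mul, hpushR]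
      exact Ideal.mul_mem_left _ _ (Ideal.mem_map_of_mem _ (hYs μ.2))

include E hc hIl hgR in
/-- **Flatness along `V(I'S' + JS')` descends to a finite stage of the directed colimit.** -/
theorem descends {S' : Type u} [CommRing S'] [Algebra S S'] [Algebra R' S'] [Algebra R S']
    [IsScalarTower R S S'] [IsScalarTower R R' S'] [Algebra.IsPushout R S R' S']
    {M' : Type u} [AddCommGroup M'] [Module S' M'] [Module R' M'] [IsScalarTower R' S' M']
    [Module S M'] [IsScalarTower S S' M'] (f : M →ₗ[S] M') (hf : IsBaseChange S' f)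
    (J : Ideal S)
    (h : ∀ (q' : Ideal S') [q'.IsPrime],
      (⨆ i, (Il i).map (algebraMap (G i) R')).map (algebraMap R' S') ⊔
        J.map (algebraMap S S') ≤ q' →
        Module.Flat R' (LocalizedModule q'.primeCompl M')) :
    ∃ i : ι, ∀ (Si Mi : Type u) [CommRing Si] [Algebra S Si] [Algebra (G i) Si] [Algebra R Si]
      [IsScalarTower R S Si] [IsScalarTower R (G i) Si] [Algebra.IsPushout R S (G i) Si]
      [AddCommGroup Mi] [Module Si Mi] [Module (G i) Mi] [IsScalarTower (G i) Si Mi]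
      [Module S Mi] [IsScalarTower S Si Mi] (fi : M →ₗ[S] Mi), IsBaseChange Si fi →
      ∀ (q : Ideal Si) [q.IsPrime],
        (Il i).map (algebraMap (G i) Si) ⊔ J.map (algebraMap S Si) ≤ q →
        Module.Flat (G i) (LocalizedModule q.primeCompl Mi) := by
  have Hmod := (flatAt_iff_essModel (R' := R') E f hf
    (⨆ i, (Il i).map (algebraMap (G i) R')) J).mp h
  obtain ⟨S₂, -, hS₂, k₂, hk₂, N, gg, d, a, τ₂, ha, hτ₂, hone, hflat⟩ :=
    exists_fg_cover' E.r E.t (kmap R' E.r E.t E.k)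
      ((⨆ i, (Il i).map (algebraMap (G i) R')).map (algebraMap R' (P E.n R')) ⊔
        (J.comap E.θ).map (mp E R')) (E.Tt.map (mp E R'))
      (fun Q _ hQ hT => Hmod Q hQ (fun τ hτ => hT _ (Submonoid.mem_map_of_mem _ hτ)))
      ⊥ Subalgebra.fg_bot
  obtain ⟨j, χ, hJ1, ⟨τ, hτT, hJ2⟩, hJ3⟩ :=
    exists_stage_identities E G g hgR R' hc Il hIl J S₂ hS₂ k₂ hk₂ a τ₂ ha hτ₂
  refine ⟨j, ?_⟩
  intro Si Mi _ _ _ _ _ _ _ _ _ _ _ _ _ fi hfi q _ hq
  refine (flatAt_iff_essModel (R' := G j) E fi hfi (Il j) J).mpr ?_ q hq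
  intro Q _ hQ hT
  exact flat_stage E.r E.t k₂ gg d a τ₂ hone hflat χ (kmap (G j) E.r E.t E.k)
    (fun u b => hJ1 u b) Q (hQ hJ3) (by rw [hJ2]; exact hT τ hτT)

end Main

end Groth.Agent.H6.LimFlatD
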