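import Mathlib
import Groth.Agent.Lib.Helper6.LFD1
import Groth.Agent.Lib.Helper6.LFD2

/-!
# Descending flatness over the closed fibre to a Noetherian local stage (helper6)
-/

set_option autoImplicit false
universe u
open TensorProduct Function IsLocalRing

namespace Groth.Agent.H6.LimFlatD

open Groth.Agent.H1.PolyModel Groth.Agent.H1.LimFlat

attribute [local instance] MvPolynomial.algebraMvPolynomial

section Stage

variable {R R' : Type u} [CommRing R] [IsNoetherianRing R] [CommRing R'] [IsLocalRing R']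
  [Algebra R R'] {n r t : ℕ} (k : Fin t → (Fin r → P n R))

/-- **Noetherian local stage.** If the model over the local ring `R'` is flat at all primes over
the maximal ideal, there is a Noetherian local `R`-algebra `R₃` with a local homomorphism to `R'`
over which the model is flat at all primes over the maximal ideal. -/
theorem exists_stage
    (H : ∀ (Q' : Ideal (P n R')) [Q'.IsPrime],
      maximalIdeal R' ≤ Q'.comap (algebraMap R' (P n R')) →
      Module.Flat R' (LocalizedModule Q'.primeCompl (Mod r t (kmap R' r t k)))) :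
    ∃ (R₃ : Type u) (_ : CommRing R₃) (_ : IsLocalRing R₃) (_ : IsNoetherianRing R₃)
      (_ : Algebra R R₃) (_ : Algebra R₃ R') (_ : IsScalarTower R R₃ R')
      (_ : IsLocalHom (algebraMap R₃ R')),
      ∀ (Q₃ : Ideal (P n R₃)) [Q₃.IsPrime],
        maximalIdeal R₃ ≤ Q₃.comap (algebraMap R₃ (P n R₃)) →
        Module.Flat R₃ (LocalizedModule Q₃.primeCompl (Mod r t (kmap R₃ r t k))) := by
  classical
  -- descent to a finitely generated subring
  obtain ⟨S₂, -, hS₂, k₂, hk₂, N, g, d, a, ha, hone, hflat⟩ :=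
    exists_fg_cover r t (kmap R' r t k) ((maximalIdeal R').map (algebraMap R' (P n R')))
      (fun Q' _ hQ' => H Q' (Ideal.map_le_iff_le_comap.mp hQ')) ⊥ Subalgebra.fg_bot
  obtain ⟨s, hs⟩ := hS₂
  -- the finitely generated `R`-subalgebra
  let R₂ : Subalgebra R R' := Algebra.adjoin R (s : Set R')
  have hle : ∀ x ∈ S₂, x ∈ R₂ := by
    rw [← hs]
    intro x hx
    exact Algebra.adjoin_le (S := R₂.restrictScalars ℤ) (fun y hy => Algebra.subset_adjoin hy) hx
  haveI ftR₂ : Algebra.FiniteType R R₂ :=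
    (Subalgebra.fg_iff_finiteType R₂).mp (Subalgebra.fg_adjoin_finset s)
  haveI noeR₂ : IsNoetherianRing R₂ := Algebra.FiniteType.isNoetherianRing R R₂
  letI alg22 : Algebra S₂ R₂ :=
    (RingHom.codRestrict (S₂.val : S₂ →ₐ[ℤ] R').toRingHom R₂ (fun x => hle _ x.2)).toAlgebra
  haveI tw22 : IsScalarTower S₂ R₂ R' := IsScalarTower.of_algebraMap_eq fun x => rfl
  have hinj : Injective (algebraMap R₂ R') := Subtype.val_injective
  -- flatness over `R₂`
  have hk₂' : kmap R' r t (kmap R₂ r t k) = kmap R' r t k₂ :=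
    (kmap_kmap R₂ R' r t k).trans hk₂.symm
  have hflat₂ : ∀ (j : Fin N) (Q₂ : Ideal (P n R₂)) [Q₂.IsPrime],
      MvPolynomial.map (algebraMap S₂ R₂) (g j) ∉ Q₂ →
      Module.Flat R₂ (LocalizedModule Q₂.primeCompl (Mod r t (kmap R₂ r t k))) :=
    fun j Q₂ _ hj => flat_localized_of_algebra r t (R₁ := S₂) (R₂ := R₂) (A := R') hinj k₂
      (kmap R₂ r t k) hk₂' (g j) (hflat j) Q₂ hj
  -- the local ring
  let p₂ : Ideal R₂ := (maximalIdeal R').comap (algebraMap R₂ R')
  haveI : p₂.IsPrime := Ideal.comap_isPrime _ _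
  let R₃ := Localization.AtPrime p₂
  haveI noeR₃ : IsNoetherianRing R₃ := IsLocalization.isNoetherianRing p₂.primeCompl R₃ noeR₂
  have hunits : ∀ y : p₂.primeCompl, IsUnit (algebraMap R₂ R' y) := fun y =>
    IsLocalRing.notMem_maximalIdeal.mp y.2
  letI alg3' : Algebra R₃ R' := (IsLocalization.lift (M := p₂.primeCompl) hunits).toAlgebra
  haveI tw23' : IsScalarTower R₂ R₃ R' := IsScalarTower.of_algebraMap_eq fun x =>
    (IsLocalization.lift_eq hunits x).symm
  haveI twR3' : IsScalarTower R R₃ R' := IsScalarTower.of_algebraMap_eq fun x => by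
    rw [IsScalarTower.algebraMap_apply R R₂ R₃, ← IsScalarTower.algebraMap_apply R₂ R₃ R',
      ← IsScalarTower.algebraMap_apply R R₂ R']
  haveI loc3 : IsLocalHom (algebraMap R₃ R') := by
    refine ⟨fun x hx => ?_⟩
    obtain ⟨b, y, rfl⟩ := IsLocalization.exists_mk'_eq p₂.primeCompl x
    have h1 : algebraMap R₃ R' (IsLocalization.mk' R₃ b y) * algebraMap R₂ R' y =
        algebraMap R₂ R' b := by
      rw [IsScalarTower.algebraMap_apply R₂ R₃ R', ← map_mul, IsLocalization.mk'_spec,
        ← IsScalarTower.algebraMap_apply]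
    have h2 : IsUnit (algebraMap R₂ R' b) := h1 ▸ hx.mul (hunits y)
    have h3 : b ∈ p₂.primeCompl := fun hb => (IsLocalRing.notMem_maximalIdeal.mpr h2) hb
    exact (IsLocalization.AtPrime.isUnit_mk'_iff R₃ p₂ b y).mpr h3
  refine ⟨R₃, inferInstance, inferInstance, noeR₃, inferInstance, alg3', twR3', loc3, ?_⟩
  intro Q₃ _ hQ₃
  have hcomap : (maximalIdeal R').comap (algebraMap R₃ R') = maximalIdeal R₃ :=
    ((IsLocalRing.local_hom_TFAE (algebraMap R₃ R')).out 0 4).mp loc3
  -- the partition of unity in `P n R₃`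
  let Φ : P n S₂ →+* P n R₃ :=
    MvPolynomial.map ((algebraMap R₂ R₃).comp (algebraMap S₂ R₂))
  have hΦa : Φ a ∈ Q₃ := by
    have h1 : Φ a ∈ (maximalIdeal R₃).map (algebraMap R₃ (P n R₃)) := by
      rw [MvPolynomial.algebraMap_eq, MvPolynomial.mem_map_C_iff]
      intro m
      rw [MvPolynomial.coeff_map, ← hcomap, Ideal.mem_comap]
      have h2 := (MvPolynomial.mem_map_C_iff (I := maximalIdeal R')).mp
        (by rw [← MvPolynomial.algebraMap_eq]; exact ha) m
      rw [MvPolynomial.coeff_map] at h2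
      have h3 : algebraMap R₃ R' (((algebraMap R₂ R₃).comp (algebraMap S₂ R₂))
          (MvPolynomial.coeff m a)) = algebraMap S₂ R' (MvPolynomial.coeff m a) := by
        rw [RingHom.comp_apply, ← IsScalarTower.algebraMap_apply R₂ R₃ R',
          ← IsScalarTower.algebraMap_apply S₂ R₂ R']
      rw [h3]
      exact h2
    exact (Ideal.map_le_iff_le_comap.mpr hQ₃) h1
  have hex : ∃ j : Fin N, Φ (g j) ∉ Q₃ := by
    by_contra hno
    push Not at hno
    have : (1 : P n R₃) ∈ Q₃ := by
      rw [← map_one Φ, ← hone, map_add, map_sum]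
      refine Ideal.add_mem _ hΦa (Ideal.sum_mem _ fun j _ => ?_)
      rw [map_mul]
      exact Ideal.mul_mem_left _ _ (hno j)
    exact (Ideal.IsPrime.ne_top inferInstance) ((Ideal.eq_top_iff_one Q₃).mpr this)
  obtain ⟨j, hj⟩ := hex
  let q₂ : Ideal (P n R₂) := Q₃.comap (algebraMap (P n R₂) (P n R₃))
  haveI : q₂.IsPrime := Ideal.comap_isPrime _ _
  have hgq₂ : MvPolynomial.map (algebraMap S₂ R₂) (g j) ∉ q₂ := by
    intro hmem
    apply hj
    have : algebraMap (P n R₂) (P n R₃) (MvPolynomial.map (algebraMap S₂ R₂) (g j)) ∈ Q₃ := hmem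
    rwa [MvPolynomial.algebraMap_def, MvPolynomial.map_map] at this
  haveI := hflat₂ j q₂ hgq₂
  have hfin : Module.Flat R₃ (LocalizedModule Q₃.primeCompl
      (Mod r t (kmap R₃ r t (kmap R₂ r t k)))) :=
    Groth.Agent.H1.FlatBCLoc.flat_localized_of_isBaseChange (R := R₂) (R' := R₃)
      (B := P n R₂) (B' := P n R₃) (muM R₃ r t (kmap R₂ r t k))
      (isBaseChange_muM_restrictScalars R₃ r t (kmap R₂ r t k))
      q₂.primeCompl Q₃.primeCompl (fun s hs => hs)
      (LocalizedModule.mkLinearMap q₂.primeCompl (Mod r t (kmap R₂ r t k)))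
      (LocalizedModule.mkLinearMap Q₃.primeCompl (Mod r t (kmap R₃ r t (kmap R₂ r t k))))
  rwa [kmap_kmap R₂ R₃ r t k] at hfin

end Stage

end Groth.Agent.H6.LimFlatD
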