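import Mathlib
import Groth.Agent.Lib.Helper6.LFD3
import Groth.Agent.Lib.Helper6.FLI4

/-!
# Universal property of the flattening ideal for arbitrary local test rings (helper6)
-/

set_option autoImplicit false
universe u
open TensorProduct Function IsLocalRing

namespace Groth.Agent.H6.FlatId

open Groth.Agent.H1.PolyModel Groth.Agent.H1.LimFlat Groth.Agent.H6.LimFlatD

attribute [local instance] MvPolynomial.algebraMvPolynomial
attribute [local instance] Algebra.TensorProduct.rightAlgebra

section UnivFT

variable {R S R' S' : Type u} [CommRing R] [IsLocalRing R] [IsNoetherianRing R]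
  [CommRing S] [CommRing R'] [IsLocalRing R'] [CommRing S']
  [Algebra R S] [Algebra.FiniteType R S] [Algebra R R'] [IsLocalHom (algebraMap R R')]
  [Algebra S S'] [Algebra R' S']
  [Algebra R S'] [IsScalarTower R S S'] [IsScalarTower R R' S'] [Algebra.IsPushout R S R' S']
  {M M' : Type u} [AddCommGroup M] [Module S M] [Module R M] [IsScalarTower R S M]
  [Module.Finite S M]
  [AddCommGroup M'] [Module S' M'] [Module R' M'] [IsScalarTower R' S' M'] [Module S M']
  [IsScalarTower S S' M']
  (f : M →ₗ[S] M') (hf : IsBaseChange S' f)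

include hf in
/-- if the base change is flat over the (arbitrary) local ring `R'` at all primes over the
maximal ideal, the flattening ideal dies in `R'` -/
theorem le_ker_of_flatAt_finiteType (I : Ideal R)
    (hmin : ∀ J : Ideal R, Prop' R S M J → I ≤ J)
    (H : ∀ (q' : Ideal S') [q'.IsPrime], q'.comap (algebraMap R' S') = maximalIdeal R' →
      Module.Flat R' (LocalizedModule q'.primeCompl M')) :
    I ≤ RingHom.ker (algebraMap R R') := by
  haveI : IsNoetherianRing S := Algebra.FiniteType.isNoetherianRing R S
  haveI : Algebra.FinitePresentation R S :=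
    Algebra.FinitePresentation.of_finiteType.mp inferInstance
  haveI : Module.FinitePresentation S M := Module.finitePresentation_of_finite S M
  -- the model
  obtain ⟨n, φ, hφ, hker⟩ := Algebra.FinitePresentation.out (R := R) (A := S)
  obtain ⟨r, t, k, e, he⟩ : ∃ (r t : ℕ) (k : Fin t → (Fin r → P n R)) (e : Mod r t k ≃ₗ[R] M),
      ∀ (p : P n R) (x : Mod r t k), e (p • x) = φ p • e x := by
    letI algPS : Algebra (P n R) S := φ.toRingHom.toAlgebra
    haveI : IsScalarTower R (P n R) S :=
      IsScalarTower.of_algebraMap_eq fun x => (φ.commutes x).symm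
    letI modPM : Module (P n R) M := Module.compHom M (algebraMap (P n R) S)
    haveI : IsScalarTower (P n R) S M :=
      ⟨fun p s m => by
        change (algebraMap (P n R) S p * s) • m = algebraMap (P n R) S p • (s • m)
        rw [mul_smul]⟩
    haveI : IsScalarTower R (P n R) M := IsScalarTower.of_algebraMap_smul fun a m => by
      change algebraMap (P n R) S (algebraMap R (P n R) a) • m = a • m
      rw [← IsScalarTower.algebraMap_apply, algebraMap_smul]
    have hsurj : Surjective (algebraMap (P n R) S) := hφ
    obtain ⟨r, t, k, ⟨e₀⟩⟩ := exists_model_equiv (R := R) (S := S) (M := M) hsurj hker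
    exact ⟨r, t, k, e₀.restrictScalars R, fun p x => e₀.map_smul p x⟩
  -- flatness of the model over `R'`
  have H' : ∀ (q' : Ideal S') [q'.IsPrime], maximalIdeal R' ≤ q'.comap (algebraMap R' S') →
      Module.Flat R' (LocalizedModule q'.primeCompl M') := fun q' _ h =>
    H q' ((IsLocalRing.maximalIdeal.isMaximal R').eq_of_le
      (Ideal.comap_ne_top _ (Ideal.IsPrime.ne_top inferInstance)) h).symm
  have Hmod := (flatAt_iff_model (R' := R') (S' := S') φ k e he f hf hφ (maximalIdeal R')).mp H'
  -- the Noetherian stage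
  obtain ⟨R₃, _, _, _, _, _, _, _, H₃⟩ := exists_stage k Hmod
  haveI : IsLocalHom (algebraMap R R₃) := by
    haveI : IsLocalHom ((algebraMap R₃ R').comp (algebraMap R R₃)) := by
      rw [← IsScalarTower.algebraMap_eq]
      infer_instance
    exact isLocalHom_of_comp (algebraMap R R₃) (algebraMap R₃ R')
  -- the pushout over `R₃`
  let f₃ : M →ₗ[S] (R₃ ⊗[R] S) ⊗[S] M := TensorProduct.mk S (R₃ ⊗[R] S) M 1
  have hf₃ : IsBaseChange (R₃ ⊗[R] S) f₃ := TensorProduct.isBaseChange S M (R₃ ⊗[R] S)
  have H₃' := (flatAt_iff_model (R' := R₃) (S' := R₃ ⊗[R] S) φ k e he f₃ hf₃ hφ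
    (maximalIdeal R₃)).mpr H₃
  have h3 : I ≤ RingHom.ker (algebraMap R R₃) :=
    le_ker_of_flatAt (R' := R₃) (S' := R₃ ⊗[R] S) f₃ hf₃ I hmin
      (fun q' _ hq' => H₃' q' hq'.ge)
  intro x hx
  have h4 := h3 hx
  rw [RingHom.mem_ker] at h4 ⊢
  rw [IsScalarTower.algebraMap_apply R R₃ R', h4, map_zero]

include hf in
/-- **Universal property of the flattening ideal**, finite type case, arbitrary local test
rings. -/
theorem universal_finiteType [IsAdicComplete (maximalIdeal R) R] (I : Ideal R)
    (hI : Prop' R S M I) (hmin : ∀ J : Ideal R, Prop' R S M J → I ≤ J) :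
    (∀ (q' : Ideal S') [q'.IsPrime], q'.comap (algebraMap R' S') = maximalIdeal R' →
      Module.Flat R' (LocalizedModule q'.primeCompl M')) ↔
    I ≤ RingHom.ker (algebraMap R R') :=
  ⟨fun H => le_ker_of_flatAt_finiteType f hf I hmin H,
   fun hker q' _ hq' => flatAt_of_le_ker f hf I hI hker q' hq'⟩

end UnivFT

end Groth.Agent.H6.FlatId
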