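import Mathlib

/-! A local-global principle for finiteness of power-torsion modules. -/

universe u
set_option linter.style.haveILetI false

namespace Groth.Agent.H6.LG

variable {R : Type u} [CommRing R] [IsNoetherianRing R]

/-- the elements killed by `I^k` -/
abbrev T (I : Ideal R) (X : Type u) [AddCommGroup X] [Module R X] (k : ℕ) : Submodule R X :=
  Submodule.torsionBySet R X ((I ^ k : Ideal R) : Set R)

omit [IsNoetherianRing R] in
theorem mem_T {I : Ideal R} {X : Type u} [AddCommGroup X] [Module R X] {k : ℕ} {x : X} :
    x ∈ T I X k ↔ ∀ a ∈ I ^ k, a • x = 0 := by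
  rw [Submodule.mem_torsionBySet_iff]
  constructor
  · intro h a ha
    exact h ⟨a, ha⟩
  · intro h a
    exact h a a.2

omit [IsNoetherianRing R] in
theorem T_mono (I : Ideal R) (X : Type u) [AddCommGroup X] [Module R X] {k l : ℕ} (h : k ≤ l) :
    T I X k ≤ T I X l := by
  intro x hx
  rw [mem_T] at hx ⊢
  intro a ha
  exact hx a (Ideal.pow_le_pow_right h ha)

theorem fg_of_le_fg {X : Type u} [AddCommGroup X] [Module R X] {N P : Submodule R X}
    (h : N ≤ P) (hP : P.FG) : N.FG := by
  haveI : IsNoetherian R P := isNoetherian_of_fg_of_noetherian P hP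
  haveI : IsNoetherian R N := isNoetherian_of_le h
  exact (Module.Finite.iff_fg).mp inferInstance

/-- the colon ideals `(T_k : T_{k+1})` -/
def col (I : Ideal R) (X : Type u) [AddCommGroup X] [Module R X] (k : ℕ) : Ideal R :=
  (T I X k).colon (T I X (k + 1) : Set X)

omit [IsNoetherianRing R] in
theorem mem_col {I : Ideal R} {X : Type u} [AddCommGroup X] [Module R X] {k : ℕ} {s : R} :
    s ∈ col I X k ↔ ∀ t ∈ T I X (k + 1), s • t ∈ T I X k := by
  unfold col
  rw [Submodule.mem_colon]
  rfl

omit [IsNoetherianRing R] in
theorem col_mono (I : Ideal R) (X : Type u) [AddCommGroup X] [Module R X] (k : ℕ) :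
    col I X k ≤ col I X (k + 1) := by
  intro s hs
  rw [mem_col] at hs ⊢
  intro t ht
  rw [mem_T] at ht ⊢
  intro c hc
  rw [pow_succ'] at hc
  refine Submodule.mul_induction_on hc ?_ ?_
  · intro u hu v hv
    have hut : u • t ∈ T I X (k + 1) := by
      rw [mem_T]
      intro c' hc'
      rw [smul_smul]
      apply ht
      rw [pow_succ (n := k + 1)]
      exact Ideal.mul_mem_mul hc' hu
    have h1 := hs _ hut
    rw [mem_T] at h1
    have h2 := h1 v hv
    rw [smul_smul, smul_smul] at h2
    rw [smul_smul]
    have : u * v * s = v * s * u := by ring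
    rw [this]
    exact h2
  · intro c₁ c₂ h₁ h₂
    rw [add_smul, h₁, h₂, add_zero]

/-- **local-global principle**: a power-torsion module with finitely generated `I^k`-torsion for
all `k` and with finitely generated stalks is finitely generated -/
theorem finite_of_localized_finite (I : Ideal R) (X : Type u) [AddCommGroup X] [Module R X]
    (htors : ∀ x : X, ∃ k : ℕ, ∀ a ∈ I ^ k, a • x = 0)
    (hfg : ∀ k, (T I X k).FG)
    (hloc : ∀ (p : Ideal R) [p.IsPrime], Module.Finite (Localization.AtPrime p)
      (LocalizedModule p.primeCompl X)) : Module.Finite R X := by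
  classical
  -- the chain of colon ideals stabilizes
  let f : ℕ →o Submodule R R :=
    ⟨fun k => col I X k, monotone_nat_of_le_succ (col_mono I X)⟩
  obtain ⟨N, hN⟩ := monotone_stabilizes_iff_noetherian.mpr
    (inferInstance : IsNoetherian R R) f
  have hN' : ∀ m, N ≤ m → col I X N = col I X m := hN
  -- for each prime some colon ideal is not contained in it
  have hprime : ∀ (p : Ideal R) [p.IsPrime], ∃ k, ¬ col I X k ≤ p := by
    intro p hp
    haveI := hloc p
    obtain ⟨S, hS⟩ := (Module.Finite.fg_top :
      (⊤ : Submodule (Localization.AtPrime p) (LocalizedModule p.primeCompl X)).FG)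
    -- each generator comes from some `T_k`
    have hgen : ∀ σ ∈ S, ∃ k, σ ∈ (T I X k).localized p.primeCompl := by
      intro σ _
      induction σ using LocalizedModule.induction_on with
      | h x s =>
        obtain ⟨k, hk⟩ := htors x
        refine ⟨k, ?_⟩
        rw [Submodule.mem_localized']
        exact ⟨x, mem_T.mpr hk, s, (IsLocalizedModule.mk_eq_mk' s x).symm⟩
    choose! kf hkf using hgen
    set k := S.sup kf with hk
    have htop : (T I X k).localized p.primeCompl = ⊤ := by
      rw [eq_top_iff, ← hS, Submodule.span_le]
      intro σ hσ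
      have h1 := hkf σ hσ
      have h2 : T I X (kf σ) ≤ T I X k := T_mono I X (Finset.le_sup hσ)
      rw [Submodule.mem_localized'] at h1
      obtain ⟨m, hm, s, hms⟩ := h1
      change σ ∈ (T I X k).localized p.primeCompl
      rw [Submodule.mem_localized']
      exact ⟨m, h2 hm, s, hms⟩
    -- hence every element of `T_{k+1}` is moved into `T_k` by some element outside `p`
    have hmove : ∀ t : X, ∃ u ∈ p.primeCompl, u • t ∈ T I X k := by
      intro t
      have h1 : LocalizedModule.mkLinearMap p.primeCompl X t ∈
          (T I X k).localized p.primeCompl := by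
        rw [htop]; trivial
      rw [Submodule.mem_localized'] at h1
      obtain ⟨m, hm, s, hms⟩ := h1
      rw [← IsLocalizedModule.mk_eq_mk', LocalizedModule.mkLinearMap_apply, LocalizedModule.mk_eq] at hms
      obtain ⟨u, hu⟩ := hms
      refine ⟨u * s, (u * s).2, ?_⟩
      have : ((u * s : p.primeCompl) : R) • t = (u : R) • m := by
        have h3 : (u : R) • (1 : R) • m = (u : R) • (s : R) • t := by
          simpa [Submonoid.smul_def] using hu
        rw [Submonoid.coe_mul, mul_smul, ← h3, one_smul]
      rw [Submonoid.coe_mul] at this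
      rw [this]
      exact Submodule.smul_mem _ _ hm
    refine ⟨k, fun hle => ?_⟩
    -- uniform multiplier for the generators of `T_{k+1}`
    obtain ⟨G, hG⟩ := hfg (k + 1)
    choose uf huf1 huf2 using hmove
    have hprod : (∏ g ∈ G, uf g) ∈ col I X k := by
      rw [mem_col]
      intro t ht
      rw [← hG] at ht
      refine Submodule.span_induction ?_ ?_ ?_ ?_ ht
      · intro g hg
        rw [← Finset.mul_prod_erase G uf hg, mul_comm, mul_smul]
        exact Submodule.smul_mem _ _ (huf2 g)
      · rw [smul_zero]; exact Submodule.zero_mem _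
      · intro x y _ _ hx hy
        rw [smul_add]; exact Submodule.add_mem _ hx hy
      · intro a x _ hx
        rw [smul_comm]; exact Submodule.smul_mem _ _ hx
    have hnot : (∏ g ∈ G, uf g) ∉ p := by
      intro hmem
      obtain ⟨g, _, hg⟩ := (Ideal.IsPrime.prod_mem_iff).mp hmem
      exact huf1 g hg
    exact hnot (hle hprod)
  -- the stable colon ideal is the unit ideal
  have hcolN : ∀ m, N ≤ m → col I X m = ⊤ := by
    intro m hm
    rw [← hN' m hm]
    by_contra hne
    obtain ⟨P, hPmax, hle⟩ := Ideal.exists_le_maximal _ hne
    haveI := hPmax.isPrime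
    obtain ⟨k, hk⟩ := hprime P
    apply hk
    rcases le_total k N with h | h
    · exact ((monotone_nat_of_le_succ (col_mono I X)) h).trans hle
    · rw [← hN' k h]; exact hle
  -- the torsion submodules stabilize
  have hstab : ∀ m, N ≤ m → T I X m = T I X N := by
    intro m hm
    induction m, hm using Nat.le_induction with
    | base => rfl
    | succ m hm ih =>
      apply le_antisymm
      · intro t ht
        have h1 : (1 : R) ∈ col I X m := by rw [hcolN m hm]; trivial
        rw [mem_col] at h1
        have := h1 t ht
        rw [one_smul] at this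
        rw [← ih]
        exact this
      · exact T_mono I X (by omega)
  have hall : T I X N = ⊤ := by
    rw [eq_top_iff]
    intro x _
    obtain ⟨k, hk⟩ := htors x
    rcases le_total k N with h | h
    · exact T_mono I X h (mem_T.mpr hk)
    · rw [← hstab k h]; exact mem_T.mpr hk
  rw [Module.finite_def, ← hall]
  exact hfg N

end Groth.Agent.H6.LG
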