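import Mathlib
import Groth.Agent.Lib.Helper6.LG1
import Groth.Agent.Lib.Helper6.LCFaltings
import Groth.Agent.Lib.Helper6.LCProps

/-! `Hom(R/I^k, H^i_I(M))` is finitely generated when the lower local cohomology modules are;
the local-global principle for the finiteness of local cohomology. -/

universe u
set_option linter.style.haveILetI false
open CategoryTheory CategoryTheory.Limits Opposite CategoryTheory.Abelian

namespace Groth.Agent.H6.LG

open Groth.Agent.H6.LC

variable {R : Type u} [CommRing R] [IsNoetherianRing R]

omit [IsNoetherianRing R] in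
/-- a finitely generated submodule of a power-torsion module is killed by a power -/
theorem exists_pow_kills {I : Ideal R} {X : Type u} [AddCommGroup X] [Module R X]
    (htors : ∀ x : X, ∃ k : ℕ, ∀ a ∈ I ^ k, a • x = 0) (B : Submodule R X) (hB : B.FG) :
    ∃ k : ℕ, B ≤ T I X k := by
  classical
  obtain ⟨G, hG⟩ := hB
  choose kf hkf using htors
  refine ⟨G.sup kf, ?_⟩
  rw [← hG, Submodule.span_le]
  intro g hg
  exact T_mono I X (Finset.le_sup hg) (mem_T.mpr (hkf g))

theorem fg_T_of_finite_below (I : Ideal R) (i : ℕ) :
    ∀ (M : Type u) [AddCommGroup M] [Module R M] [Module.Finite R M],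
      (∀ j < i, Module.Finite R (LocCoh.H I j M)) → ∀ k, (T I (LocCoh.H I i M) k).FG := by
  induction i with
  | zero =>
    intro M _ _ _ _ k
    haveI := finite_H_zero I M
    haveI : IsNoetherian R (LocCoh.H I 0 M) := isNoetherian_of_isNoetherianRing_of_finite R _
    exact IsNoetherian.noetherian _
  | succ i ih =>
    intro M _ _ _ hfin k
    -- pass to `N = M/Γ_I(M)`
    have hbij := map_mkQ_torsionSub_bijective I M
    have hNtf := torsionSub_quot_eq_bot I M
    obtain ⟨x, hxI, hxreg⟩ := exists_isSMulRegular_of_torsionSub_eq_bot I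
      (M ⧸ DRing.torsionSub I M) hNtf
    have hH0N : ∀ z : LocCoh.H I 0 (M ⧸ DRing.torsionSub I M), z = 0 := by
      intro z
      apply zeroToSelf_injective (ModuleCat.of R (M ⧸ DRing.torsionSub I M))
      rw [map_zero]
      have := zeroToSelf_mem (I := I) (ModuleCat.of R (M ⧸ DRing.torsionSub I M)) z
      change _ ∈ DRing.torsionSub I (M ⧸ DRing.torsionSub I M) at this
      rw [hNtf] at this
      exact this
    have hfinN : ∀ j < i + 1, Module.Finite R (LocCoh.H I j (M ⧸ DRing.torsionSub I M)) := by
      intro j hj
      cases j with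
      | zero =>
        haveI : Subsingleton (LocCoh.H I 0 (M ⧸ DRing.torsionSub I M)) :=
          ⟨fun a b => by rw [hH0N a, hH0N b]⟩
        infer_instance
      | succ j' =>
        haveI := hfin (j' + 1) hj
        exact Module.Finite.equiv (LinearEquiv.ofBijective _ (hbij j'))
    -- the regular element `y = x^(k+1)`
    have hyI : x ^ k ∈ I ^ k := Ideal.pow_mem_pow hxI k
    have hyreg : IsSMulRegular (ModuleCat.of R (M ⧸ DRing.torsionSub I M)) (x ^ k) :=
      hxreg.pow k
    have hS := hyreg.smulShortComplex_shortExact
    set S := (ModuleCat.of R (M ⧸ DRing.torsionSub I M)).smulShortComplex (x ^ k) with hSdef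
    -- finiteness for the quotient `Q = N/yN` below `i`
    have hfinQ : ∀ j < i, Module.Finite R ((localCohomology I j).obj S.X₃) := by
      intro j hj
      haveI h1 : IsNoetherian R ((localCohomology I j).obj S.X₂) := by
        haveI : Module.Finite R ((localCohomology I j).obj S.X₂) := hfinN j (by omega)
        exact isNoetherian_of_isNoetherianRing_of_finite R _
      haveI h2 : IsNoetherian R ((localCohomology I (j + 1)).obj S.X₁) := by
        haveI : Module.Finite R ((localCohomology I (j + 1)).obj S.X₁) := hfinN (j + 1) (by omega)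
        exact isNoetherian_of_isNoetherianRing_of_finite R _
      haveI : IsNoetherian R ((localCohomology I j).obj S.X₃) := by
        refine isNoetherian_of_range_eq_ker ((localCohomology I j).map S.g).hom (δ hS I j) ?_
        apply le_antisymm
        · rintro _ ⟨y, rfl⟩
          exact δ_map hS y
        · intro z hz
          obtain ⟨y, hy⟩ := exact₃ hS z hz
          exact ⟨y, hy⟩
      infer_instance
    have ihQ := ih (QuotSMulTop (x ^ k) (M ⧸ DRing.torsionSub I M)) hfinQ
    -- the image `B` of `H^i(N)` in `D = H^i(Q)` is killed by a power of `I`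
    have hBfg : (LinearMap.range ((localCohomology I i).map S.g).hom).FG := by
      haveI : Module.Finite R ((localCohomology I i).obj S.X₂) := hfinN i (by omega)
      rw [LinearMap.range_eq_map]
      exact Submodule.FG.map _ Module.Finite.fg_top
    obtain ⟨a₀, ha₀⟩ := exists_pow_kills (I := I) (isPowerTorsion I i S.X₃) _ hBfg
    -- `T_k(H^{i+1}(N))` is contained in `δ(T_{a₀+k}(D))`
    have hle : T I ((localCohomology I (i + 1)).obj S.X₁) k ≤
        (T I ((localCohomology I i).obj S.X₃) (a₀ + k)).map (δ hS I i) := by
      intro t ht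
      rw [mem_T] at ht
      have h1 : ((localCohomology I (i + 1)).map S.f).hom t = 0 := by
        change ((localCohomology I (i + 1)).map ((ModuleCat.of R
          (M ⧸ DRing.torsionSub I M)).smulShortComplex (x ^ k)).f).hom t = 0
        rw [ModuleCat.smulShortComplex_f_eq_smul_id]
        exact (map_smul_id (x ^ k) t).trans (ht _ hyI)
      obtain ⟨d, hd⟩ := exact₁ hS t h1
      refine ⟨d, ?_, hd⟩
      rw [SetLike.mem_coe, mem_T]
      intro c hc
      rw [pow_add] at hc
      refine Submodule.mul_induction_on hc ?_ ?_
      · intro s hs r hr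
        have h2 : δ hS I i (r • d) = 0 := by rw [map_smul, hd, ht r hr]
        obtain ⟨w, hw⟩ := exact₃ hS _ h2
        have h3 : r • d ∈ T I ((localCohomology I i).obj S.X₃) a₀ := ha₀ ⟨w, hw⟩
        rw [mem_T] at h3
        rw [mul_smul]
        exact h3 s hs
      · intro c₁ c₂ h₁ h₂
        rw [add_smul, h₁, h₂, add_zero]
    have hTN : (T I ((localCohomology I (i + 1)).obj
        (ModuleCat.of R (M ⧸ DRing.torsionSub I M))) k).FG :=
      fg_of_le_fg hle (Submodule.FG.map _ (ihQ (a₀ + k)))
    -- transfer to `M`
    let e := LinearEquiv.ofBijective _ (hbij i)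
    have hle2 : T I (LocCoh.H I (i + 1) M) k ≤
        (T I ((localCohomology I (i + 1)).obj
          (ModuleCat.of R (M ⧸ DRing.torsionSub I M))) k).map e.symm.toLinearMap := by
      intro z hz
      refine ⟨e z, ?_, e.symm_apply_apply z⟩
      rw [SetLike.mem_coe, mem_T]
      intro a ha
      rw [← map_smul, (mem_T.mp hz) a ha, map_zero]
    exact fg_of_le_fg hle2 (Submodule.FG.map _ hTN)

end Groth.Agent.H6.LG
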