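import Mathlib
import Groth.Agent.Lib.Helper6.LG2

universe u
set_option linter.style.haveILetI false
open CategoryTheory CategoryTheory.Limits Opposite CategoryTheory.Abelian

namespace Groth.Agent.H6.LG

open Groth.Agent.H6.LC

variable {R : Type u} [CommRing R] [IsNoetherianRing R]

/-- **S330**: finiteness of local cohomology is a local property -/
theorem finite_iff_locally (I : Ideal R) (M : Type u) [AddCommGroup M] [Module R M]
    [Module.Finite R M] (n : ℕ) :
    (∀ i : ℕ, i ≤ n → Module.Finite R (LocCoh.H I i M)) ↔
      ∀ (p : Ideal R) [p.IsPrime], ∀ i : ℕ, i ≤ n →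
        Module.Finite (Localization.AtPrime p) (LocalizedModule p.primeCompl (LocCoh.H I i M)) := by
  constructor
  · intro h p _ i hi
    haveI := h i hi
    exact Module.Finite.of_isLocalizedModule p.primeCompl
      (LocalizedModule.mkLinearMap p.primeCompl (LocCoh.H I i M))
  · intro h i
    induction i using Nat.strong_induction_on with
    | _ i ih =>
      intro hi
      have hbelow : ∀ j < i, Module.Finite R (LocCoh.H I j M) :=
        fun j hj => ih j hj (by omega)
      exact finite_of_localized_finite I (LocCoh.H I i M)
        (isPowerTorsion I i (ModuleCat.of R M)) (fg_T_of_finite_below I i M hbelow)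
        (fun p _ => h p i hi)

end Groth.Agent.H6.LG
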