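import Mathlib
import Groth.Agent.Lib.Helper6.LRes1

/-!
# The factorisation step for towers of left resolutions
-/

namespace Groth.Agent.H6.LRes

open CategoryTheory CategoryTheory.Limits HomologicalComplex CochainComplex

universe v u

variable {A : Type u} [Category.{v} A] [Abelian A]

lemma quasiIso_mappingCone_map {K₁ L₁ K₂ L₂ : CochainComplex A ℤ} (φ₁ : K₁ ⟶ L₁) (φ₂ : K₂ ⟶ L₂)
    (a : K₁ ⟶ K₂) (b : L₁ ⟶ L₂) (comm : φ₁ ≫ b = a ≫ φ₂) [QuasiIso a] [QuasiIso b] :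
    QuasiIso (mappingCone.map φ₁ φ₂ a b comm) := by
  letI : HasDerivedCategory.{max u v} A := HasDerivedCategory.standard A
  rw [← DerivedCategory.isIso_Q_map_iff_quasiIso]
  let T := DerivedCategory.Q.mapTriangle.map (mappingCone.triangleMap φ₁ φ₂ a b comm)
  have hT₁ : DerivedCategory.Q.mapTriangle.obj (mappingCone.triangle φ₁) ∈
      Pretriangulated.distinguishedTriangles :=
    (DerivedCategory.mem_distTriang_iff _).2 ⟨_, _, φ₁, ⟨Iso.refl _⟩⟩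
  have hT₂ : DerivedCategory.Q.mapTriangle.obj (mappingCone.triangle φ₂) ∈
      Pretriangulated.distinguishedTriangles :=
    (DerivedCategory.mem_distTriang_iff _).2 ⟨_, _, φ₂, ⟨Iso.refl _⟩⟩
  have h₁ : IsIso T.hom₁ := by
    change IsIso (DerivedCategory.Q.map a)
    rw [DerivedCategory.isIso_Q_map_iff_quasiIso]
    infer_instance
  have h₂ : IsIso T.hom₂ := by
    change IsIso (DerivedCategory.Q.map b)
    rw [DerivedCategory.isIso_Q_map_iff_quasiIso]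
    infer_instance
  exact Pretriangulated.isIso₃_of_isIso₁₂ T hT₁ hT₂ h₁ h₂

/-- an object with biproduct data is isomorphic to the biproduct -/
noncomputable def isoBiprodOfData {X Y Z : A} (inl : X ⟶ Z) (inr : Y ⟶ Z) (fst : Z ⟶ X)
    (snd : Z ⟶ Y) (h1 : inl ≫ fst = 𝟙 _) (h2 : inl ≫ snd = 0) (h3 : inr ≫ fst = 0)
    (h4 : inr ≫ snd = 𝟙 _) (h5 : fst ≫ inl + snd ≫ inr = 𝟙 _) : Z ≅ X ⊞ Y where
  hom := biprod.lift fst snd
  inv := biprod.desc inl inr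
  hom_inv_id := by rw [biprod.lift_desc, h5]
  inv_hom_id := by
    ext
    · simp [h1]
    · simp [h2]
    · simp [h3]
    · simp [h4]

lemma split_of_data {X E Q₁ R₁ Q' : A} (u₁ : X ⟶ Q₁) (v₁ : Q₁ ⟶ X) (u₂ : E ⟶ Q₁) (v₂ : Q₁ ⟶ E)
    (inrf : Q₁ ⟶ Q') (c : Q' ⟶ Q₁) (inlv : R₁ ⟶ Q') (a : Q' ⟶ R₁)
    (h1 : u₁ ≫ v₁ = 𝟙 _) (h2 : u₁ ≫ v₂ = 0) (h4 : u₂ ≫ v₂ = 𝟙 _)
    (h5 : v₁ ≫ u₁ + v₂ ≫ u₂ = 𝟙 _)
    (k1 : inlv ≫ a = 𝟙 _) (k2 : inlv ≫ c = 0) (k3 : inrf ≫ a = 0) (k4 : inrf ≫ c = 𝟙 _)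
    (k5 : a ≫ inlv + c ≫ inrf = 𝟙 _) :
    (∃ r : Q' ⟶ X, (u₁ ≫ inrf) ≫ r = 𝟙 _) ∧ Nonempty (cokernel (u₁ ≫ inrf) ≅ R₁ ⊞ E) := by
  refine ⟨⟨c ≫ v₁, ?_⟩, ?_⟩
  · rw [Category.assoc, reassoc_of% k4, h1]
  · let p : Q' ⟶ R₁ ⊞ E := biprod.lift a (c ≫ v₂)
    let s : R₁ ⊞ E ⟶ Q' := biprod.desc inlv (u₂ ≫ inrf)
    have hfp : (u₁ ≫ inrf) ≫ p = 0 := by
      dsimp only [p]
      ext
      · simp [k3]
      · simp [reassoc_of% k4, h2]
    have hsp : s ≫ p = 𝟙 _ := by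
      dsimp only [s, p]
      ext
      · simp [k1]
      · simp [reassoc_of% k2]
      · simp [k3]
      · simp [reassoc_of% k4, h4]
    have hid : (c ≫ v₁) ≫ (u₁ ≫ inrf) + p ≫ s = 𝟙 _ := by
      dsimp only [s, p]
      rw [biprod.lift_desc]
      have : (c ≫ v₁) ≫ u₁ ≫ inrf + (a ≫ inlv + (c ≫ v₂) ≫ u₂ ≫ inrf) =
          a ≫ inlv + c ≫ (v₁ ≫ u₁ + v₂ ≫ u₂) ≫ inrf := by
        simp only [Preadditive.add_comp, Preadditive.comp_add, Category.assoc]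
        abel
      rw [this, h5, Category.id_comp, k5]
    refine ⟨⟨cokernel.desc _ p hfp, s ≫ cokernel.π _, ?_, ?_⟩⟩
    · rw [← cancel_epi (cokernel.π (u₁ ≫ inrf)), cokernel.π_desc_assoc, Category.comp_id]
      have h : p ≫ s = 𝟙 _ - (c ≫ v₁) ≫ (u₁ ≫ inrf) := by
        rw [← hid]
        abel
      have hz : (c ≫ v₁) ≫ (u₁ ≫ inrf) ≫ cokernel.π (u₁ ≫ inrf) = 0 := by
        rw [cokernel.condition, comp_zero]
      rw [reassoc_of% h, Preadditive.sub_comp, Category.id_comp]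
      simp only [Category.assoc] at hz ⊢
      rw [hz, sub_zero]
    · rw [Category.assoc, cokernel.π_desc, hsp]

end Groth.Agent.H6.LRes
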