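import Mathlib
import Groth.Agent.Lib.Helper6.LRes2

/-!
# The factorisation step for towers of left resolutions (main construction)
-/

namespace Groth.Agent.H6.LRes

open CategoryTheory CategoryTheory.Limits HomologicalComplex CochainComplex

universe v u

variable {A : Type u} [Category.{v} A] [Abelian A]
variable (P : ObjectProperty A) [P.IsClosedUnderIsomorphisms]

theorem exists_step (hP0 : ∃ Z : A, IsZero Z ∧ P Z) (hPsum : ∀ X Y : A, P X → P Y → P (X ⊞ Y))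
    (hP : ∀ X : A, ∃ (Y : A) (π : Y ⟶ X), P Y ∧ Epi π)
    {Q L : CochainComplex A ℤ} (φ : Q ⟶ L) (bQ bL : ℤ) [Q.IsStrictlyLE bQ] [L.IsStrictlyLE bL]
    (hQ : ∀ i, P (Q.X i)) :
    ∃ (Q' : CochainComplex A ℤ) (ι : Q ⟶ Q') (π : Q' ⟶ L), ι ≫ π = φ ∧ QuasiIso π ∧
      (∀ i, Epi (π.f i)) ∧ (∃ b : ℤ, Q'.IsStrictlyLE b) ∧ (∀ i, P (Q'.X i)) ∧
      ∀ i, (∃ r : Q'.X i ⟶ Q.X i, ι.f i ≫ r = 𝟙 _) ∧ P (cokernel (ι.f i)) := by
  obtain ⟨E, ε, hE, hEP, hεepi, -⟩ := exists_left_resolution L bL P hP hP0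
  let Q₁ : CochainComplex A ℤ := Q ⊞ E
  let φ₁ : Q₁ ⟶ L := biprod.desc φ ε
  have hφ₁epi : ∀ i, Epi (φ₁.f i) := fun i => by
    have h : (biprod.inr : E ⟶ Q₁).f i ≫ φ₁.f i = ε.f i := by
      rw [← HomologicalComplex.comp_f, biprod.inr_desc]
    haveI := hεepi i
    exact epi_of_epi_fac h
  let b₁ := max bQ bL
  have hQ₁P : ∀ i, P (Q₁.X i) := fun i =>
    P.prop_of_iso (HomologicalComplex.biprodXIso Q E i).symm (hPsum _ _ (hQ i) (hEP i))
  have hQ₁z : ∀ i, b₁ < i → IsZero (Q₁.X i) := fun i hi => by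
    refine IsZero.of_iso ?_ (HomologicalComplex.biprodXIso Q E i)
    rw [biprod_isZero_iff]
    exact ⟨Q.isZero_of_isStrictlyLE bQ i (lt_of_le_of_lt (le_max_left _ _) hi),
      E.isZero_of_isStrictlyLE bL i (lt_of_le_of_lt (le_max_right _ _) hi)⟩
  let S : ShortComplex (CochainComplex A ℤ) :=
    ShortComplex.mk (kernel.ι φ₁) φ₁ (kernel.condition φ₁)
  have hS : S.ShortExact :=
    { exact := ShortComplex.exact_of_f_is_kernel _ (kernelIsKernel φ₁)
      mono_f := by dsimp [S]; infer_instance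
      epi_g := HomologicalComplex.epi_of_epi_f _ hφ₁epi }
  haveI : (kernel φ₁).IsStrictlyLE b₁ := by
    rw [CochainComplex.isStrictlyLE_iff]
    intro i hi
    haveI : Mono ((kernel.ι φ₁).f i) := inferInstance
    exact IsZero.of_mono ((kernel.ι φ₁).f i) (hQ₁z i hi)
  obtain ⟨R, ρ, hR, hRP, -, hρ⟩ := exists_left_resolution (kernel φ₁) b₁ P hP hP0
  haveI := hR
  let ψ : R ⟶ Q₁ := ρ ≫ kernel.ι φ₁
  have comm : ψ ≫ 𝟙 Q₁ = ρ ≫ S.f := Category.comp_id _
  let π : mappingCone ψ ⟶ L :=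
    mappingCone.map ψ S.f ρ (𝟙 Q₁) comm ≫ mappingCone.descShortComplex S
  have hinrπ : mappingCone.inr ψ ≫ π = φ₁ := by
    dsimp only [π]
    have h1 : mappingCone.inr ψ ≫ mappingCone.map ψ S.f ρ (𝟙 Q₁) comm =
        𝟙 Q₁ ≫ mappingCone.inr S.f := by
      simp [mappingCone.map]
    rw [reassoc_of% h1]
    exact mappingCone.inr_descShortComplex S
  refine ⟨mappingCone ψ, biprod.inl ≫ mappingCone.inr ψ, π, ?_, ?_, ?_, ⟨b₁, ?_⟩, ?_, ?_⟩
  · rw [Category.assoc, hinrπ]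
    exact biprod.inl_desc _ _
  · haveI := hρ
    haveI : QuasiIso (mappingCone.map ψ S.f ρ (𝟙 Q₁) comm) :=
      quasiIso_mappingCone_map _ _ _ _ _
    haveI : QuasiIso (mappingCone.descShortComplex S) :=
      mappingCone.quasiIso_descShortComplex hS
    dsimp only [π]
    infer_instance
  · intro i
    have h : (mappingCone.inr ψ).f i ≫ π.f i = φ₁.f i := by
      rw [← HomologicalComplex.comp_f, hinrπ]
    haveI := hφ₁epi i
    exact epi_of_epi_fac h
  · rw [CochainComplex.isStrictlyLE_iff]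
    intro i hi
    rw [mappingCone.isZero_X_iff]
    exact ⟨R.isZero_of_isStrictlyLE b₁ (i + 1) (by omega), hQ₁z i hi⟩
  · intro i
    refine P.prop_of_iso (isoBiprodOfData ((mappingCone.inl ψ).v (i + 1) i (by omega))
      ((mappingCone.inr ψ).f i) ((mappingCone.fst ψ).1.v i (i + 1) rfl)
      ((mappingCone.snd ψ).v i i (add_zero i)) ?_ ?_ ?_ ?_ ?_).symm
      (hPsum _ _ (hRP (i + 1)) (hQ₁P i))
    · simp
    · simp
    · simp
    · simp
    · exact mappingCone.id_X ψ i (i + 1) rfl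
  · intro i
    obtain ⟨h1, ⟨e⟩⟩ := split_of_data ((biprod.inl : Q ⟶ Q₁).f i) ((biprod.fst : Q₁ ⟶ Q).f i)
      ((biprod.inr : E ⟶ Q₁).f i) ((biprod.snd : Q₁ ⟶ E).f i) ((mappingCone.inr ψ).f i)
      ((mappingCone.snd ψ).v i i (add_zero i)) ((mappingCone.inl ψ).v (i + 1) i (by omega))
      ((mappingCone.fst ψ).1.v i (i + 1) rfl)
      (HomologicalComplex.biprod_inl_fst_f Q E i) (HomologicalComplex.biprod_inl_snd_f Q E i)
      (HomologicalComplex.biprod_inr_snd_f Q E i) (HomologicalComplex.biprod_total_f Q E i)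
      (mappingCone.inl_v_fst_v ψ (i + 1) i rfl) (mappingCone.inl_v_snd_v ψ (i + 1) i (by omega))
      (mappingCone.inr_f_fst_v ψ i (i + 1) rfl) (mappingCone.inr_f_snd_v ψ i)
      (mappingCone.id_X ψ i (i + 1) rfl)
    exact ⟨h1, P.prop_of_iso e.symm (hPsum _ _ (hRP (i + 1)) (hEP i))⟩

end Groth.Agent.H6.LRes
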