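import Mathlib
import Groth.Agent.Lib.Helper6.LRes3

/-!
# Towers of left resolutions of the truncations of a complex
-/

namespace Groth.Agent.H6.LRes

open CategoryTheory CategoryTheory.Limits HomologicalComplex CochainComplex

universe v u

variable {A : Type u} [Category.{v} A] [Abelian A]

section Trans

variable (K : CochainComplex A ℤ) (m m' : ℤ) (h : m ≤ m')

/-- the transition map between canonical truncations -/
noncomputable def truncLETrans : K.truncLE m ⟶ K.truncLE m' :=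
  haveI : (K.truncLE m).IsStrictlyLE m' := CochainComplex.isStrictlyLE_of_le _ m m' h
  inv ((K.truncLE m).ιTruncLE m') ≫ CochainComplex.truncLEMap (K.ιTruncLE m) m'

lemma truncLETrans_ι : truncLETrans K m m' h ≫ K.ιTruncLE m' = K.ιTruncLE m := by
  haveI : (K.truncLE m).IsStrictlyLE m' := CochainComplex.isStrictlyLE_of_le _ m m' h
  unfold truncLETrans
  rw [Category.assoc, CochainComplex.ιTruncLE_naturality, IsIso.inv_hom_id_assoc]

end Trans

variable (P : ObjectProperty A) [P.IsClosedUnderIsomorphisms]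

/-- a left resolution of a truncation -/
structure Stage (K : CochainComplex A ℤ) (m : ℤ) where
  /-- the resolution -/
  Q : CochainComplex A ℤ
  /-- the augmentation -/
  π : Q ⟶ K.truncLE m
  qi : QuasiIso π
  epi : ∀ i, Epi (π.f i)
  bdd : ∃ b : ℤ, Q.IsStrictlyLE b
  mem : ∀ i, P (Q.X i)

variable (hP0 : ∃ Z : A, IsZero Z ∧ P Z) (hPsum : ∀ X Y : A, P X → P Y → P (X ⊞ Y))
  (hP : ∀ X : A, ∃ (Y : A) (π : Y ⟶ X), P Y ∧ Epi π) (K : CochainComplex A ℤ)

include hP0 hP in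
lemma exists_init (m : ℤ) : Nonempty (Stage P K m) := by
  obtain ⟨R, ρ, hR, hRP, hepi, hqi⟩ := exists_left_resolution (K.truncLE m) m P hP hP0
  exact ⟨⟨R, ρ, hqi, hepi, ⟨m, hR⟩, hRP⟩⟩

include hP0 hPsum hP in
lemma exists_next {m m' : ℤ} (h : m ≤ m') (s : Stage P K m) :
    ∃ (s' : Stage P K m') (ι : s.Q ⟶ s'.Q), ι ≫ s'.π = s.π ≫ truncLETrans K m m' h ∧
      ∀ i, (∃ r : s'.Q.X i ⟶ s.Q.X i, ι.f i ≫ r = 𝟙 _) ∧ P (cokernel (ι.f i)) := by
  obtain ⟨b, hb⟩ := s.bdd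
  haveI := hb
  obtain ⟨Q', ι, π, h1, h2, h3, h4, h5, h6⟩ :=
    exists_step P hP0 hPsum hP (s.π ≫ truncLETrans K m m' h) b m' s.mem
  exact ⟨⟨Q', π, h2, h3, h4, h5⟩, ι, h1, h6⟩

variable (a : ℕ → ℤ) (ha : ∀ n, a n ≤ a (n + 1))

/-- the stages of the tower -/
noncomputable def stage : ∀ n : ℕ, Stage P K (a n)
  | 0 => (exists_init P hP0 hP K (a 0)).some
  | n + 1 => (exists_next P hP0 hPsum hP K (ha n) (stage n)).choose

/-- the transition maps of the tower -/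
noncomputable def stageι (n : ℕ) :
    (stage P hP0 hPsum hP K a ha n).Q ⟶ (stage P hP0 hPsum hP K a ha (n + 1)).Q :=
  (exists_next P hP0 hPsum hP K (ha n) (stage P hP0 hPsum hP K a ha n)).choose_spec.choose

lemma stageι_spec (n : ℕ) :
    stageι P hP0 hPsum hP K a ha n ≫ (stage P hP0 hPsum hP K a ha (n + 1)).π =
      (stage P hP0 hPsum hP K a ha n).π ≫ truncLETrans K (a n) (a (n + 1)) (ha n) ∧
    ∀ i, (∃ r : (stage P hP0 hPsum hP K a ha (n + 1)).Q.X i ⟶
        (stage P hP0 hPsum hP K a ha n).Q.X i,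
        (stageι P hP0 hPsum hP K a ha n).f i ≫ r = 𝟙 _) ∧
      P (cokernel ((stageι P hP0 hPsum hP K a ha n).f i)) :=
  (exists_next P hP0 hPsum hP K (ha n) (stage P hP0 hPsum hP K a ha n)).choose_spec.choose_spec

include hP0 hPsum hP ha in
theorem exists_tower :
    ∃ (Q : ℕ → CochainComplex A ℤ) (ι : ∀ n, Q n ⟶ Q (n + 1))
      (π : ∀ n : ℕ, Q n ⟶ K.truncLE (a n)),
      (∀ n, QuasiIso (π n) ∧ ∀ i, Epi ((π n).f i)) ∧
      (∀ n, ∃ b : ℤ, (Q n).IsStrictlyLE b) ∧ (∀ n i, P ((Q n).X i)) ∧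
      (∀ n i, (∃ r : (Q (n + 1)).X i ⟶ (Q n).X i, (ι n).f i ≫ r = 𝟙 _) ∧
        P (cokernel ((ι n).f i))) ∧
      (∀ n : ℕ, π n ≫ K.ιTruncLE (a n) = ι n ≫ π (n + 1) ≫ K.ιTruncLE (a (n + 1))) := by
  refine ⟨fun n => (stage P hP0 hPsum hP K a ha n).Q, stageι P hP0 hPsum hP K a ha,
    fun n => (stage P hP0 hPsum hP K a ha n).π, ?_, ?_, ?_, ?_, ?_⟩
  · intro n
    exact ⟨(stage P hP0 hPsum hP K a ha n).qi, (stage P hP0 hPsum hP K a ha n).epi⟩
  · intro n
    exact (stage P hP0 hPsum hP K a ha n).bdd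
  · intro n i
    exact (stage P hP0 hPsum hP K a ha n).mem i
  · intro n i
    exact (stageι_spec P hP0 hPsum hP K a ha n).2 i
  · intro n
    rw [reassoc_of% (stageι_spec P hP0 hPsum hP K a ha n).1, truncLETrans_ι]

end Groth.Agent.H6.LRes
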