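import Mathlib
import Groth.Agent.Lib.Helper6.LRes4
import Groth.Agent.Lib.Helper6.LRes6
import Groth.Agent.Lib.Helper6.MD0
import Groth.Agent.Lib.Helper1.SheafOfModulesGrothendieck

/-!
# Direct sums of the modules `j_{U!} O_U` on a ringed site
-/

namespace Groth.Agent.H6.LRes

open CategoryTheory CategoryTheory.Limits HomologicalComplex Opposite

universe u

variable {C : Type u} [SmallCategory C] {J : GrothendieckTopology C} (O : Sheaf J CommRingCat.{u})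

/-- direct sums of modules `j_{U!} O_U` -/
def PF : ObjectProperty (ModSite.Mod O) := fun M =>
  ∃ (ι : Type u) (U : ι → C), Nonempty (M ≅ ∐ fun j => ModSite.freeOn O (U j))

instance : (PF O).IsClosedUnderIsomorphisms where
  of_iso := fun e ⟨ι, U, ⟨e'⟩⟩ => ⟨ι, U, ⟨e.symm ≪≫ e'⟩⟩

lemma PF_zero : ∃ Z : ModSite.Mod O, IsZero Z ∧ PF O Z := by
  refine ⟨∐ fun j : PEmpty.{u + 1} => ModSite.freeOn O (PEmpty.elim j), ?_,
    ⟨PEmpty, fun j => PEmpty.elim j, ⟨Iso.refl _⟩⟩⟩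
  rw [IsZero.iff_id_eq_zero]
  apply Sigma.hom_ext
  intro j
  exact j.elim

lemma PF_sum_aux {ι₁ ι₂ : Type u} (f₁ : ι₁ → ModSite.Mod O) (f₂ : ι₂ → ModSite.Mod O)
    (g : ι₁ ⊕ ι₂ → ModSite.Mod O) (hg : g = Sum.elim f₁ f₂) :
    Nonempty ((∐ f₁) ⊞ (∐ f₂) ≅ ∐ g) := by
  subst hg
  let bc : BinaryCofan (∐ f₁) (∐ f₂) := (BinaryBiproduct.bicone (∐ f₁) (∐ f₂)).toCocone
  have hbc : IsColimit bc := BinaryBiproduct.isColimit _ _
  have h := Cofan.combPairIsColimit (coproductIsCoproduct f₁) (coproductIsCoproduct f₂) hbc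
  exact ⟨IsColimit.coconePointUniqueUpToIso h (coproductIsCoproduct _)⟩

lemma PF_sum (X Y : ModSite.Mod O) (hX : PF O X) (hY : PF O Y) : PF O (X ⊞ Y) := by
  obtain ⟨ι₁, U₁, ⟨e₁⟩⟩ := hX
  obtain ⟨ι₂, U₂, ⟨e₂⟩⟩ := hY
  obtain ⟨e⟩ := PF_sum_aux O (fun j => ModSite.freeOn O (U₁ j)) (fun j => ModSite.freeOn O (U₂ j))
    (fun j => ModSite.freeOn O (Sum.elim U₁ U₂ j)) (by
      funext j
      cases j <;> rfl)
  exact ⟨ι₁ ⊕ ι₂, Sum.elim U₁ U₂, ⟨biprod.mapIso e₁ e₂ ≪≫ e⟩⟩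

lemma PF_cover (M : ModSite.Mod O) :
    ∃ (Y : ModSite.Mod O) (p : Y ⟶ M), PF O Y ∧ Epi p := by
  let ι := Σ X : C, (ModSite.freeOn O X ⟶ M)
  let U : ι → C := fun j => j.1
  refine ⟨∐ fun j : ι => ModSite.freeOn O (U j), Sigma.desc (fun j => j.2),
    ⟨ι, U, ⟨Iso.refl _⟩⟩, ?_⟩
  apply Preadditive.epi_of_cancel_zero
  intro M' g hg
  have h1 : ∀ (X : C) (ψ : ModSite.freeOn O X ⟶ M), ψ ≫ g = 0 := fun X ψ => by
    have := congrArg (fun t => Sigma.ι (fun j : ι => ModSite.freeOn O (U j)) ⟨X, ψ⟩ ≫ t) hg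
    simpa using this
  apply (MD.τ O).map_injective
  rw [Functor.map_zero]
  apply Sheaf.hom_ext
  ext X s
  have h2 := MD.hE_comp X.unop ((MD.hE X.unop M).symm s) g
  rw [h1, MD.hE_zero, Equiv.apply_symm_apply] at h2
  exact h2.symm

lemma hasExactColimitsOfShape_nat : HasExactColimitsOfShape ℕ (ModSite.Mod O) := by
  haveI : IsGrothendieckAbelian.{u} (ModSite.Mod O) :=
    Groth.Agent.H1.sheafOfModules_isGrothendieckAbelian _ _
  have h1 : HasFilteredColimitsOfSize.{0, 0} (ModSite.Mod O) := ⟨fun J _ _ => inferInstance⟩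
  have h2 : AB5OfSize.{0, 0} (ModSite.Mod O) := AB5OfSize_of_univLE.{0, 0, u, u} _
  infer_instance

end Groth.Agent.H6.LRes
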