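import Mathlib
import Groth.Agent.Lib.Helper6.LRes7

/-!
# Systems of resolutions by direct sums of `j_{U!} O_U` on a ringed site
-/

namespace Groth.Agent.H6.LRes

open CategoryTheory CategoryTheory.Limits HomologicalComplex Opposite

universe u

variable {C : Type u} [SmallCategory C] {J : GrothendieckTopology C} (O : Sheaf J CommRingCat.{u})

theorem main9078 (G : CochainComplex (ModSite.Mod O) ℤ) :
    ∃ (Kc : ℕ ⥤ CochainComplex (ModSite.Mod O) ℤ) (π : ∀ n : ℕ, Kc.obj n ⟶ G.truncLE ((n : ℤ) + 1)),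
      (∀ n : ℕ, Kc.map (homOfLE (Nat.le_succ n)) ≫ π (n + 1) ≫ G.ιTruncLE (((n + 1 : ℕ) : ℤ) + 1) =
        π n ≫ G.ιTruncLE ((n : ℤ) + 1)) ∧
      (∀ n : ℕ, QuasiIso (π n) ∧ ∀ i : ℤ, Epi ((π n).f i)) ∧
      (∀ n : ℕ, ∃ b : ℤ, (Kc.obj n).IsStrictlyLE b) ∧
      (∀ (n : ℕ) (i : ℤ), ∃ (ι : Type u) (U : ι → C),
        Nonempty ((Kc.obj n).X i ≅ ∐ fun j => ModSite.freeOn O (U j))) ∧
      (∀ (n : ℕ) (i : ℤ), ∃ r : (Kc.obj (n + 1)).X i ⟶ (Kc.obj n).X i,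
        (Kc.map (homOfLE (Nat.le_succ n))).f i ≫ r = 𝟙 _ ∧
        ∃ (ι : Type u) (U : ι → C),
          Nonempty (cokernel ((Kc.map (homOfLE (Nat.le_succ n))).f i) ≅ ∐ fun j => ModSite.freeOn O (U j))) ∧
      ∃ c : colimit Kc ⟶ G, (∀ n : ℕ, colimit.ι Kc n ≫ c = π n ≫ G.ιTruncLE ((n : ℤ) + 1)) ∧ QuasiIso c := by
  haveI := hasExactColimitsOfShape_nat O
  obtain ⟨Q, ι, π, h1, h2, h3, h4, h5⟩ := exists_tower (PF O) (PF_zero O) (PF_sum O) (PF_cover O) G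
    (fun n : ℕ => (n : ℤ) + 1) (fun n => by push_cast; omega)
  let Kc : ℕ ⥤ CochainComplex (ModSite.Mod O) ℤ := Functor.ofSequence ι
  have hKc : ∀ n, Kc.map (homOfLE (Nat.le_succ n)) = ι n :=
    fun n => Functor.ofSequence_map_homOfLE_succ ι n
  refine ⟨Kc, π, ?_, h1, h2, h3, ?_, ?_⟩
  · intro n
    rw [hKc]
    exact (h5 n).symm
  · intro n i
    obtain ⟨⟨r, hr⟩, hc⟩ := h4 n i
    refine ⟨r, ?_, ?_⟩
    · rw [hKc]
      exact hr
    · rw [hKc]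
      exact hc
  · let s : Cocone Kc :=
      { pt := G
        ι := NatTrans.ofSequence (F := Kc) (G := (Functor.const ℕ).obj G)
          (fun n => π n ≫ G.ιTruncLE ((n : ℤ) + 1)) (fun n => by
            have h := h5 n
            change Kc.map (homOfLE (Nat.le_succ n)) ≫ π (n + 1) ≫ G.ιTruncLE (((n + 1 : ℕ) : ℤ) + 1) =
              (π n ≫ G.ιTruncLE ((n : ℤ) + 1)) ≫ 𝟙 _
            rw [hKc, Category.comp_id]
            exact h.symm) }
    refine ⟨colimit.desc Kc s, fun n => colimit.ι_desc s n, ?_⟩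
    apply quasiIso_desc
    intro i
    refine ⟨(i - 1).toNat, fun n hn => ?_⟩
    change QuasiIsoAt (π n ≫ G.ιTruncLE ((n : ℤ) + 1)) i
    have hq : QuasiIso (π n) := (h1 n).1
    have hq1 : QuasiIsoAt (π n) i := hq.quasiIsoAt i
    have hq2 : QuasiIsoAt (G.ιTruncLE ((n : ℤ) + 1)) i :=
      G.quasiIsoAt_ιTruncLE _ _ (by omega)
    exact quasiIsoAt_comp (π n) (G.ιTruncLE ((n : ℤ) + 1)) i (hφ := hq1) (hφ' := hq2)

end Groth.Agent.H6.LRes
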