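import Mathlib

universe u v
open CategoryTheory CategoryTheory.Limits

namespace Groth.Agent.H6.Ladder

variable {V : Type u} [Category.{v} V] [Abelian V]

/-- Extension lemma: two partial maps into an injective object agreeing on the "intersection"
extend to the whole object. -/
theorem exists_ext {X A B J : V} [Injective J] (a : A ⟶ X) (b : B ⟶ X) (α : A ⟶ J) (β : B ⟶ J)
    (h : ∀ ⦃T : V⦄ (x : T ⟶ A) (y : T ⟶ B), x ≫ a = y ≫ b → x ≫ α = y ≫ β) :
    ∃ φ : X ⟶ J, a ≫ φ = α ∧ b ≫ φ = β := by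
  let s : A ⊞ B ⟶ X := biprod.desc a b
  let t : A ⊞ B ⟶ J := biprod.desc α β
  have hk : kernel.ι s ≫ t = 0 := by
    have h1 : kernel.ι s ≫ (biprod.fst ≫ a + biprod.snd ≫ b) = 0 := by
      rw [← biprod.desc_eq]; exact kernel.condition s
    have h2 : (kernel.ι s ≫ biprod.fst) ≫ a = (-(kernel.ι s ≫ biprod.snd)) ≫ b := by
      rw [Preadditive.comp_add] at h1
      rw [Preadditive.neg_comp, eq_neg_iff_add_eq_zero]
      simpa [Category.assoc] using h1
    have h3 := h _ _ h2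
    change kernel.ι s ≫ biprod.desc α β = 0
    rw [biprod.desc_eq, Preadditive.comp_add]
    rw [Preadditive.neg_comp, eq_neg_iff_add_eq_zero] at h3
    simpa [Category.assoc] using h3
  let t' : Abelian.coimage s ⟶ J := cokernel.desc (kernel.ι s) t hk
  let φ : X ⟶ J := Injective.factorThru t' (Abelian.factorThruCoimage s)
  have hφ : s ≫ φ = t := by
    have e1 : Abelian.coimage.π s ≫ Abelian.factorThruCoimage s = s := Abelian.coimage.fac s
    calc s ≫ φ = (Abelian.coimage.π s ≫ Abelian.factorThruCoimage s) ≫ φ := by rw [e1]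
      _ = Abelian.coimage.π s ≫ t' := by
          rw [Category.assoc, Injective.comp_factorThru]
      _ = t := cokernel.π_desc _ _ _
  refine ⟨φ, ?_, ?_⟩
  · have : biprod.inl ≫ s ≫ φ = biprod.inl ≫ t := by rw [hφ]
    simpa [s, t] using this
  · have : biprod.inr ≫ s ≫ φ = biprod.inr ≫ t := by rw [hφ]
    simpa [s, t] using this

section rel

variable {B C I : CochainComplex V ℕ} (b : B ⟶ C) (β : B ⟶ I)

/-- One stage of the inductive construction of a chain map `C ⟶ I` extending `β` along `b`. -/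
structure Stage (n : ℕ) where
  f : C.X n ⟶ I.X n
  hb : b.f n ≫ f = β.f n
  hz : ∀ ⦃T : V⦄ (z : T ⟶ C.X n), z ≫ C.d n (n + 1) = 0 → z ≫ f ≫ I.d n (n + 1) = 0

variable {b β}

theorem exists_stage_zero [Injective (I.X 0)] (γ : C.cycles 0 ⟶ I.X 0) (hγ : γ ≫ I.d 0 1 = 0)
    (h0 : ∀ ⦃T : V⦄ (z : T ⟶ C.cycles 0) (x : T ⟶ B.X 0),
      z ≫ C.iCycles 0 = x ≫ b.f 0 → z ≫ γ = x ≫ β.f 0) :
    ∃ s : Stage b β 0, C.iCycles 0 ≫ s.f = γ := by
  obtain ⟨φ, h1, h2⟩ := exists_ext (C.iCycles 0) (b.f 0) γ (β.f 0) h0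
  refine ⟨⟨φ, h2, ?_⟩, h1⟩
  intro T z hz
  have : z = C.liftCycles z 1 (by simp) hz ≫ C.iCycles 0 := by simp
  rw [this, Category.assoc, reassoc_of% h1, hγ, comp_zero]

theorem exists_stage_succ (n : ℕ) [Injective (I.X (n + 1))] (hex : C.ExactAt (n + 1))
    (h1 : ∀ ⦃T : V⦄ (y : T ⟶ C.X n) (x : T ⟶ B.X (n + 1)),
      y ≫ C.d n (n + 1) = x ≫ b.f (n + 1) →
      ∃ (T' : V) (π : T' ⟶ T) (_ : Epi π) (y' : T' ⟶ B.X n),
        (π ≫ y - y' ≫ b.f n) ≫ C.d n (n + 1) = 0 ∧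
          π ≫ x ≫ β.f (n + 1) = y' ≫ β.f n ≫ I.d n (n + 1))
    (s : Stage b β n) :
    ∃ t : Stage b β (n + 1), C.d n (n + 1) ≫ t.f = s.f ≫ I.d n (n + 1) := by
  obtain ⟨φ, e1, e2⟩ := exists_ext (C.d n (n + 1)) (b.f (n + 1)) (s.f ≫ I.d n (n + 1))
    (β.f (n + 1)) (by
      intro T y x hyx
      obtain ⟨T', π, hπ, y', hy1, hy2⟩ := h1 y x hyx
      rw [← cancel_epi π]
      have h3 := s.hz _ hy1
      rw [Preadditive.sub_comp, sub_eq_zero] at h3
      simp only [Category.assoc] at h3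
      rw [h3, hy2, reassoc_of% s.hb])
  refine ⟨⟨φ, e2, ?_⟩, e1⟩
  intro T z hz
  rw [C.exactAt_iff_exact_up_to_refinements n (n + 1) (n + 2) (by simp) (by simp)] at hex
  obtain ⟨T', π, hπ, u, hu⟩ := hex z hz
  rw [← cancel_epi π, comp_zero, reassoc_of% hu, reassoc_of% e1]
  simp

theorem exists_rel (hinj : ∀ n, Injective (I.X n)) (hex : ∀ n, 0 < n → C.ExactAt n)
    (γ : C.cycles 0 ⟶ I.X 0) (hγ : γ ≫ I.d 0 1 = 0)
    (h0 : ∀ ⦃T : V⦄ (z : T ⟶ C.cycles 0) (x : T ⟶ B.X 0),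
      z ≫ C.iCycles 0 = x ≫ b.f 0 → z ≫ γ = x ≫ β.f 0)
    (h1 : ∀ (n : ℕ) ⦃T : V⦄ (y : T ⟶ C.X n) (x : T ⟶ B.X (n + 1)),
      y ≫ C.d n (n + 1) = x ≫ b.f (n + 1) →
      ∃ (T' : V) (π : T' ⟶ T) (_ : Epi π) (y' : T' ⟶ B.X n),
        (π ≫ y - y' ≫ b.f n) ≫ C.d n (n + 1) = 0 ∧
          π ≫ x ≫ β.f (n + 1) = y' ≫ β.f n ≫ I.d n (n + 1)) :
    ∃ f : C ⟶ I, b ≫ f = β ∧ C.iCycles 0 ≫ f.f 0 = γ := by
  have := hinj
  obtain ⟨s0, hs0⟩ := exists_stage_zero γ hγ h0
  have hsucc : ∀ n (s : Stage b β n),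
      ∃ t : Stage b β (n + 1), C.d n (n + 1) ≫ t.f = s.f ≫ I.d n (n + 1) :=
    fun n s => exists_stage_succ n (hex _ n.succ_pos) (h1 n) s
  let F : ∀ n, Stage b β n := fun n => Nat.rec s0 (fun n s => (hsucc n s).choose) n
  have hF : ∀ n, C.d n (n + 1) ≫ (F (n + 1)).f = (F n).f ≫ I.d n (n + 1) :=
    fun n => (hsucc n (F n)).choose_spec
  refine ⟨{ f := fun n => (F n).f, comm' := ?_ }, ?_, ?_⟩
  · rintro i j rfl
    exact (hF i).symm
  · ext n
    exact (F n).hb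
  · exact hs0

end rel

section gam

/-- The map `Z⁰(K) ⟶ L⁰` induced by a map on `H⁰`. -/
noncomputable def gam {K L : CochainComplex V ℕ} (g : K.homology 0 ⟶ L.homology 0) :
    K.cycles 0 ⟶ L.X 0 :=
  K.homologyπ 0 ≫ g ≫ L.isoHomologyπ₀.inv ≫ L.iCycles 0

theorem gam_d {K L : CochainComplex V ℕ} (g : K.homology 0 ⟶ L.homology 0) :
    gam g ≫ L.d 0 1 = 0 := by
  simp [gam]

theorem gam_nat {K₁ K₂ L₁ L₂ : CochainComplex V ℕ} (p : K₁ ⟶ K₂) (q : L₁ ⟶ L₂)
    (g₁ : K₁.homology 0 ⟶ L₁.homology 0) (g₂ : K₂.homology 0 ⟶ L₂.homology 0)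
    (h : HomologicalComplex.homologyMap p 0 ≫ g₂ = g₁ ≫ HomologicalComplex.homologyMap q 0) :
    HomologicalComplex.cyclesMap p 0 ≫ gam g₂ = gam g₁ ≫ q.f 0 := by
  unfold gam
  rw [← HomologicalComplex.homologyπ_naturality_assoc, reassoc_of% h,
    CochainComplex.isoHomologyπ₀_inv_naturality_assoc]
  simp

theorem homologyMap_eq_of_gam {K L : CochainComplex V ℕ} (f : K ⟶ L)
    (g : K.homology 0 ⟶ L.homology 0) (h : K.iCycles 0 ≫ f.f 0 = gam g) :
    HomologicalComplex.homologyMap f 0 = g := by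
  have h1 : HomologicalComplex.cyclesMap f 0 = K.homologyπ 0 ≫ g ≫ L.isoHomologyπ₀.inv := by
    rw [← cancel_mono (L.iCycles 0)]
    simpa [gam] using h
  rw [← cancel_epi (K.homologyπ 0), HomologicalComplex.homologyπ_naturality, h1]
  simp

end gam


theorem ladder (C' C C'' I' I I'' : CochainComplex V ℕ)
    (jC : C' ⟶ C) (πC : C ⟶ C'') (jI : I' ⟶ I) (πI : I ⟶ I'')
    (mC : ∀ n, Mono (jC.f n)) (wC : ∀ n, jC.f n ≫ πC.f n = 0)
    (exC : ∀ n, (ShortComplex.mk (jC.f n) (πC.f n) (wC n)).Exact)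
    (wI : ∀ n, jI.f n ≫ πI.f n = 0)
    (hC' : ∀ n, 0 < n → C'.ExactAt n) (hC : ∀ n, 0 < n → C.ExactAt n)
    (hC'' : ∀ n, 0 < n → C''.ExactAt n)
    (injI' : ∀ n, Injective (I'.X n)) (injI : ∀ n, Injective (I.X n))
    (injI'' : ∀ n, Injective (I''.X n))
    (g' : C'.homology 0 ⟶ I'.homology 0) (g : C.homology 0 ⟶ I.homology 0)
    (g'' : C''.homology 0 ⟶ I''.homology 0)
    (hg1 : HomologicalComplex.homologyMap jC 0 ≫ g = g' ≫ HomologicalComplex.homologyMap jI 0)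
    (hg2 : HomologicalComplex.homologyMap πC 0 ≫ g'' = g ≫ HomologicalComplex.homologyMap πI 0) :
    ∃ (f' : C' ⟶ I') (f : C ⟶ I) (f'' : C'' ⟶ I''),
      jC ≫ f = f' ≫ jI ∧ πC ≫ f'' = f ≫ πI ∧
      HomologicalComplex.homologyMap f' 0 = g' ∧ HomologicalComplex.homologyMap f 0 = g ∧
      HomologicalComplex.homologyMap f'' 0 = g'' := by
  -- Step 1 : f'
  obtain ⟨f', -, hf'⟩ := exists_rel (b := (0 : C' ⟶ C')) (β := (0 : C' ⟶ I')) injI' hC'
    (gam g') (gam_d g')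
    (by
      intro T z x hzx
      have : z = 0 := by
        rw [← cancel_mono (C'.iCycles 0)]
        simpa using hzx
      simp [this])
    (by
      intro n T y x hyx
      refine ⟨T, 𝟙 T, inferInstance, 0, ?_, ?_⟩
      · simpa using hyx
      · simp)
  -- Step 2 : f
  obtain ⟨f, hf1, hf⟩ := exists_rel (b := jC) (β := f' ≫ jI) injI hC (gam g) (gam_d g)
    (by
      intro T z x hzx
      have hx : x ≫ C'.d 0 1 = 0 := by
        have := mC 1
        rw [← cancel_mono (jC.f 1), Category.assoc, ← jC.comm 0 1, ← reassoc_of% hzx]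
        simp
      have hx2 : C'.liftCycles x 1 (by simp) hx ≫ HomologicalComplex.cyclesMap jC 0 = z := by
        rw [← cancel_mono (C.iCycles 0)]
        simp [hzx]
      rw [← hx2, Category.assoc, gam_nat jC jI g' g hg1, ← hf']
      simp)
    (by
      intro n T y x hyx
      have hx : x ≫ C'.d (n + 1) (n + 2) = 0 := by
        have := mC (n + 2)
        rw [← cancel_mono (jC.f (n + 2)), Category.assoc, ← jC.comm (n + 1) (n + 2),
          ← reassoc_of% hyx]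
        simp
      obtain ⟨T', π, hπ, y', hy'⟩ := (C'.exactAt_iff_exact_up_to_refinements n (n + 1) (n + 2)
        (by simp) (by simp)).1 (hC' _ n.succ_pos) x hx
      refine ⟨T', π, hπ, y', ?_, ?_⟩
      · rw [Preadditive.sub_comp, Category.assoc, hyx, reassoc_of% hy', Category.assoc, jC.comm]
        simp
      · rw [reassoc_of% hy']
        simp)
  -- Step 3 : f''
  obtain ⟨f'', hf2, hf''⟩ := exists_rel (b := πC) (β := f ≫ πI) injI'' hC'' (gam g'') (gam_d g'')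
    (by
      intro T z x hzx
      have h1 : (x ≫ C.d 0 1) ≫ πC.f 1 = 0 := by
        rw [Category.assoc, ← πC.comm 0 1, ← reassoc_of% hzx]
        simp
      obtain ⟨T₁, π₁, hπ₁, w, hw⟩ := (exC 1).exact_up_to_refinements (x ≫ C.d 0 1) h1
      dsimp at w hw
      have hwd : w ≫ C'.d 1 2 = 0 := by
        have := mC 2
        rw [← cancel_mono (jC.f 2), Category.assoc, ← jC.comm 1 2, ← reassoc_of% hw]
        simp
      obtain ⟨T₂, π₂, hπ₂, v, hv⟩ := (C'.exactAt_iff_exact_up_to_refinements 0 1 2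
        (by simp) (by simp)).1 (hC' 1 one_pos) w hwd
      have hx1 : (π₂ ≫ π₁ ≫ x - v ≫ jC.f 0) ≫ C.d 0 1 = 0 := by
        rw [Preadditive.sub_comp]
        simp only [Category.assoc]
        rw [hw, reassoc_of% hv, jC.comm]
        simp
      have hx2 : C.liftCycles _ 1 (by simp) hx1 ≫ HomologicalComplex.cyclesMap πC 0
          = π₂ ≫ π₁ ≫ z := by
        rw [← cancel_mono (C''.iCycles 0)]
        simp [hzx, wC, Preadditive.sub_comp]
      rw [← cancel_epi π₁, ← cancel_epi π₂, ← reassoc_of% hx2, gam_nat πC πI g g'' hg2, ← hf]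
      have hf1' : jC.f 0 ≫ f.f 0 = f'.f 0 ≫ jI.f 0 := by
        have := congrArg (fun φ => φ.f 0) hf1
        simpa using this
      simp [Preadditive.sub_comp, reassoc_of% hf1', wI])
    (by
      intro n T y x hyx
      have h1 : (x ≫ C.d (n + 1) (n + 2)) ≫ πC.f (n + 2) = 0 := by
        rw [Category.assoc, ← πC.comm (n + 1) (n + 2), ← reassoc_of% hyx]
        simp
      obtain ⟨T₁, π₁, hπ₁, w, hw⟩ :=
        (exC (n + 2)).exact_up_to_refinements (x ≫ C.d (n + 1) (n + 2)) h1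
      dsimp at w hw
      have hwd : w ≫ C'.d (n + 2) (n + 3) = 0 := by
        have := mC (n + 3)
        rw [← cancel_mono (jC.f (n + 3)), Category.assoc, ← jC.comm (n + 2) (n + 3),
          ← reassoc_of% hw]
        simp
      obtain ⟨T₂, π₂, hπ₂, z, hz⟩ := (C'.exactAt_iff_exact_up_to_refinements (n + 1) (n + 2) (n + 3)
        (by simp) (by simp)).1 (hC' _ (n + 1).succ_pos) w hwd
      have hx1 : (π₂ ≫ π₁ ≫ x - z ≫ jC.f (n + 1)) ≫ C.d (n + 1) (n + 2) = 0 := by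
        rw [Preadditive.sub_comp]
        simp only [Category.assoc]
        rw [hw, reassoc_of% hz, jC.comm]
        simp
      obtain ⟨T₃, π₃, hπ₃, u, hu⟩ := (C.exactAt_iff_exact_up_to_refinements n (n + 1) (n + 2)
        (by simp) (by simp)).1 (hC _ n.succ_pos) _ hx1
      have hx' : π₃ ≫ π₂ ≫ π₁ ≫ x = u ≫ C.d n (n + 1) + π₃ ≫ z ≫ jC.f (n + 1) := by
        rw [← hu, Preadditive.comp_sub]
        abel
      have hf1' : jC.f (n + 1) ≫ f.f (n + 1) = f'.f (n + 1) ≫ jI.f (n + 1) := by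
        have := congrArg (fun φ => φ.f (n + 1)) hf1
        simpa using this
      refine ⟨T₃, π₃ ≫ π₂ ≫ π₁, inferInstance, u, ?_, ?_⟩
      · rw [Preadditive.sub_comp]
        simp only [Category.assoc]
        rw [hyx, reassoc_of% hx', πC.comm]
        simp [Preadditive.add_comp, wC]
      · simp only [Category.assoc]
        rw [reassoc_of% hx']
        simp [Preadditive.add_comp, reassoc_of% hf1', wI])
  exact ⟨f', f, f'', hf1, hf2, homologyMap_eq_of_gam f' g' hf', homologyMap_eq_of_gam f g hf,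
    homologyMap_eq_of_gam f'' g'' hf''⟩

end Groth.Agent.H6.Ladder
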