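import Mathlib

set_option autoImplicit false
universe u
open Polynomial IntermediateField

namespace Groth.Agent.H6.LambdaJ

variable {k : Type u} [Field k]

/-- the j-function of the Legendre parameter -/
noncomputable def jj (k : Type u) [Field k] : RatFunc k :=
  (256 : RatFunc k) * ((RatFunc.X : RatFunc k) ^ 2 - RatFunc.X + 1) ^ 3 /
        ((RatFunc.X : RatFunc k) ^ 2 * ((RatFunc.X : RatFunc k) - 1) ^ 2)

theorem X_ne_zero : (RatFunc.X : RatFunc k) ≠ 0 := RatFunc.X_ne_zero

theorem algebraMap_ne_zero {p : k[X]} (hp : p ≠ 0) : algebraMap k[X] (RatFunc k) p ≠ 0 := by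
  intro h
  exact hp ((map_eq_zero_iff _ (RatFunc.algebraMap_injective k)).mp h)

theorem X_sub_one_ne_zero : (RatFunc.X : RatFunc k) - 1 ≠ 0 := by
  have : (RatFunc.X : RatFunc k) - 1 = algebraMap k[X] (RatFunc k) (Polynomial.X - C 1) := by
    simp [RatFunc.algebraMap_X]
  rw [this]
  exact algebraMap_ne_zero (Polynomial.X_sub_C_ne_zero 1)

theorem one_sub_X_ne_zero : 1 - (RatFunc.X : RatFunc k) ≠ 0 := by
  have := X_sub_one_ne_zero (k := k)
  intro h
  apply this
  linear_combination -h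

/-- automorphisms of `k(X)` over `k` are determined by the image of `X`. -/
theorem algHom_ext' {L : Type*} [Field L] [Algebra k L] (φ ψ : RatFunc k →ₐ[k] L)
    (h : φ RatFunc.X = ψ RatFunc.X) : φ = ψ := by
  have hpoly : ∀ p : k[X], φ (algebraMap k[X] (RatFunc k) p) = ψ (algebraMap k[X] (RatFunc k) p) := by
    intro p
    rw [← RatFunc.aeval_X_left_eq_algebraMap, ← Polynomial.aeval_algHom_apply,
      ← Polynomial.aeval_algHom_apply, h]
  ext x
  induction x using RatFunc.induction_on with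
  | f p q hq => rw [map_div₀, map_div₀, hpoly, hpoly]


theorem jj_mem_B : jj k ∈ Algebra.adjoin k
    ({RatFunc.X, (RatFunc.X : RatFunc k)⁻¹, ((RatFunc.X : RatFunc k) - 1)⁻¹} : Set (RatFunc k)) := by
  set B := Algebra.adjoin k
    ({RatFunc.X, (RatFunc.X : RatFunc k)⁻¹, ((RatFunc.X : RatFunc k) - 1)⁻¹} : Set (RatFunc k))
  have h1 : (RatFunc.X : RatFunc k) ∈ B := Algebra.subset_adjoin (by simp)
  have h2 : (RatFunc.X : RatFunc k)⁻¹ ∈ B := Algebra.subset_adjoin (by simp)
  have h3 : ((RatFunc.X : RatFunc k) - 1)⁻¹ ∈ B := Algebra.subset_adjoin (by simp)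
  have : jj k = (256 : RatFunc k) * ((RatFunc.X : RatFunc k) ^ 2 - RatFunc.X + 1) ^ 3 *
      ((RatFunc.X : RatFunc k)⁻¹ ^ 2 * (((RatFunc.X : RatFunc k) - 1)⁻¹) ^ 2) := by
    rw [jj, div_eq_mul_inv, mul_inv, inv_pow, inv_pow]
  rw [this]
  have h256 : (256 : RatFunc k) ∈ B := by
    have : (256 : RatFunc k) = algebraMap k (RatFunc k) 256 := (map_ofNat _ 256).symm
    rw [this]; exact Subalgebra.algebraMap_mem _ _
  exact B.mul_mem (B.mul_mem h256 (B.pow_mem (B.add_mem (B.sub_mem (B.pow_mem h1 2) h1)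
    (B.one_mem)) 3)) (B.mul_mem (B.pow_mem h2 2) (B.pow_mem h3 2))

theorem sigma_jj (σ : RatFunc k ≃ₐ[k] RatFunc k) (hσ : σ RatFunc.X = (RatFunc.X : RatFunc k)⁻¹) :
    σ (jj k) = jj k := by
  have hX := X_ne_zero (k := k)
  have hX1 := X_sub_one_ne_zero (k := k)
  have hX1' := one_sub_X_ne_zero (k := k)
  simp only [jj, map_div₀, map_mul, map_pow, map_sub, map_add, map_one, hσ, map_ofNat]
  have : (RatFunc.X : RatFunc k)⁻¹ - 1 ≠ 0 := by
    intro h
    apply hX1'
    field_simp at h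
    linear_combination h
  field_simp
  ring

theorem tau_jj (τ : RatFunc k ≃ₐ[k] RatFunc k) (hτ : τ RatFunc.X = 1 - (RatFunc.X : RatFunc k)) :
    τ (jj k) = jj k := by
  have hX := X_ne_zero (k := k)
  have hX1 := X_sub_one_ne_zero (k := k)
  have hX1' := one_sub_X_ne_zero (k := k)
  simp only [jj, map_div₀, map_mul, map_pow, map_sub, map_add, map_one, hτ, map_ofNat]
  have : (1 : RatFunc k) - RatFunc.X - 1 ≠ 0 := by
    intro h
    apply hX
    linear_combination -h
  field_simp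
  ring


section degree
variable (h2 : (2 : k) ≠ 0)
include h2

theorem c256_ne_zero : (256 : k) ≠ 0 := by
  have : (256 : k) = 2 ^ 8 := by norm_num
  rw [this]
  exact pow_ne_zero _ h2

/-- numerator polynomial -/
noncomputable def Pn (k : Type u) [Field k] : k[X] := C 256 * (X ^ 2 - X + 1) ^ 3
/-- denominator polynomial -/
noncomputable def Qd (k : Type u) [Field k] : k[X] := X ^ 2 * (X - 1) ^ 2

omit h2 in
theorem jj_eq_div : jj k = algebraMap k[X] (RatFunc k) (Pn k) / algebraMap k[X] (RatFunc k) (Qd k) := by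
  simp only [jj, Pn, Qd, map_mul, map_pow, map_sub, map_add, map_one, RatFunc.algebraMap_X,
    RatFunc.algebraMap_C]
  congr 2
  exact (map_ofNat (algebraMap k (RatFunc k)) 256).symm

theorem natDegree_Pn : (Pn k).natDegree = 6 := by
  have h := c256_ne_zero h2
  rw [Pn]
  compute_degree!

omit h2 in
theorem natDegree_Qd_le : (Qd k).natDegree ≤ 4 := by
  rw [Qd]
  compute_degree

omit h2 in
theorem Qd_ne_zero : Qd k ≠ 0 := by
  rw [Qd]
  exact mul_ne_zero (pow_ne_zero _ Polynomial.X_ne_zero)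
    (pow_ne_zero _ (by simpa using Polynomial.X_sub_C_ne_zero (1 : k)))

theorem Pn_ne_zero : Pn k ≠ 0 := by
  intro h
  have := natDegree_Pn h2
  rw [h] at this
  simp at this

theorem jj_ne_C : ¬ ∃ c : k, jj k = RatFunc.C c := by
  rintro ⟨c, hc⟩
  rw [jj_eq_div, div_eq_iff (algebraMap_ne_zero Qd_ne_zero), ← RatFunc.algebraMap_C, ← map_mul] at hc
  have hP := RatFunc.algebraMap_injective k hc
  have h1 := natDegree_Pn h2
  rw [hP] at h1
  have h3 : (C c * Qd k).natDegree ≤ 4 := (natDegree_C_mul_le _ _).trans natDegree_Qd_le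
  omega

theorem finrank_le : Module.finrank k⟮jj k⟯ (RatFunc k) ≤ 6 := by
  rw [RatFunc.finrank_eq_max_natDegree]
  apply max_le
  · have hdvd : (jj k).num ∣ Pn k := by
      rw [jj_eq_div]; exact RatFunc.num_div_dvd _ Qd_ne_zero
    exact (Polynomial.natDegree_le_of_dvd hdvd (Pn_ne_zero h2)).trans (natDegree_Pn h2).le
  · have hdvd : (jj k).denom ∣ Qd k := by
      rw [jj_eq_div]; exact RatFunc.denom_div_dvd _ _
    exact (Polynomial.natDegree_le_of_dvd hdvd Qd_ne_zero).trans (natDegree_Qd_le.trans (by norm_num))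

theorem finiteDimensional : FiniteDimensional k⟮jj k⟯ (RatFunc k) := by
  have hint : IsIntegral k⟮jj k⟯ (RatFunc.X : RatFunc k) :=
    (RatFunc.isAlgebraic_adjoin_simple_X (jj k) (jj_ne_C h2)).isIntegral
  have := adjoin.finiteDimensional hint
  exact Module.Finite.equiv (RatFunc.IntermediateField.adjoinXEquiv k⟮jj k⟯).toLinearEquiv

end degree


section galois

/-- lift a `k`-automorphism fixing `j` to an automorphism over `k(j)`. -/
noncomputable def liftL (σ : RatFunc k ≃ₐ[k] RatFunc k) (h : σ (jj k) = jj k) :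
    RatFunc k ≃ₐ[k⟮jj k⟯] RatFunc k :=
  AlgEquiv.ofRingEquiv (f := σ.toRingEquiv) (by
    intro x
    have hle : k⟮jj k⟯ ≤ ((AlgHom.equalizer (σ : RatFunc k →ₐ[k] RatFunc k)
        (AlgHom.id k (RatFunc k))).toIntermediateField (fun y hy => by
          rw [AlgHom.mem_equalizer] at hy ⊢
          rw [map_inv₀, hy, AlgHom.id_apply, AlgHom.id_apply])) := by
      rw [adjoin_simple_le_iff]
      change (σ : RatFunc k →ₐ[k] RatFunc k) (jj k) = AlgHom.id k (RatFunc k) (jj k)
      exact h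
    exact hle x.2)

@[simp] theorem liftL_apply (σ : RatFunc k ≃ₐ[k] RatFunc k) (h : σ (jj k) = jj k) (x : RatFunc k) :
    liftL σ h x = σ x := rfl

theorem ext_L (f g : RatFunc k ≃ₐ[k⟮jj k⟯] RatFunc k) (h : f RatFunc.X = g RatFunc.X) : f = g := by
  have := algHom_ext' ((f.restrictScalars k : RatFunc k ≃ₐ[k] RatFunc k) : RatFunc k →ₐ[k] RatFunc k)
    ((g.restrictScalars k : RatFunc k ≃ₐ[k] RatFunc k) : RatFunc k →ₐ[k] RatFunc k) h
  ext x
  exact DFunLike.congr_fun this x

variable (h2 : (2 : k) ≠ 0) (σ τ : RatFunc k ≃ₐ[k] RatFunc k)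
  (hσ : σ RatFunc.X = (RatFunc.X : RatFunc k)⁻¹) (hτ : τ RatFunc.X = 1 - (RatFunc.X : RatFunc k))

include h2 hσ hτ in
theorem mem_adjoin_of_fixed (b : RatFunc k) (hσb : σ b = b) (hτb : τ b = b) : b ∈ k⟮jj k⟯ := by
  have hX := X_ne_zero (k := k)
  have hX1 := X_sub_one_ne_zero (k := k)
  have hX1' := one_sub_X_ne_zero (k := k)
  have hfd := finiteDimensional h2
  set s := liftL σ (sigma_jj σ hσ) with hs
  set t := liftL τ (tau_jj τ hτ) with ht
  set r := s * t with hr
  have hsx : ∀ x, s x = σ x := fun _ => rfl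
  have htx : ∀ x, t x = τ x := fun _ => rfl
  -- orders
  have hs2 : s ^ 2 = 1 := by
    apply ext_L
    rw [pow_two, AlgEquiv.mul_apply, AlgEquiv.one_apply, hsx, hsx, hσ, map_inv₀,
      hσ, inv_inv]
  have hs1 : s ≠ 1 := by
    intro h
    have := DFunLike.congr_fun h RatFunc.X
    rw [hsx, hσ, AlgEquiv.one_apply] at this
    -- X⁻¹ = X
    have h' : (RatFunc.X : RatFunc k) ^ 2 - 1 = 0 := by
      field_simp at this
      linear_combination -this
    have : (RatFunc.X : RatFunc k) ^ 2 - 1 = algebraMap k[X] (RatFunc k) (X ^ 2 - C 1) := by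
      simp [RatFunc.algebraMap_X]
    rw [this] at h'
    exact algebraMap_ne_zero (Polynomial.X_pow_sub_C_ne_zero (by norm_num) 1) h'
  have hrX : r RatFunc.X = 1 - (RatFunc.X : RatFunc k)⁻¹ := by
    rw [hr, AlgEquiv.mul_apply, htx, hτ, hsx, map_sub, map_one, hσ]
  have hne : (1 : RatFunc k) - (RatFunc.X : RatFunc k)⁻¹ ≠ 0 := by
    intro h
    apply hX1
    field_simp at h
    linear_combination h
  have hr3 : r ^ 3 = 1 := by
    apply ext_L
    have : (r ^ 3) RatFunc.X = r (r (r RatFunc.X)) := by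
      rw [pow_succ, pow_two, AlgEquiv.mul_apply, AlgEquiv.mul_apply]
    rw [this, AlgEquiv.one_apply, hrX, map_sub, map_one, map_inv₀, hrX, map_sub, map_one, map_inv₀,
      map_sub, map_one, map_inv₀, hrX]
    have hne2 : (1 : RatFunc k) - (1 - (RatFunc.X : RatFunc k)⁻¹)⁻¹ ≠ 0 := by
      intro h
      field_simp at h
      have : (1 : RatFunc k) = 0 := by linear_combination -h
      exact one_ne_zero this
    field_simp
    ring
  have hr1 : r ≠ 1 := by
    intro h
    have := DFunLike.congr_fun h RatFunc.X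
    rw [hrX, AlgEquiv.one_apply] at this
    field_simp at this
    have h' : algebraMap k[X] (RatFunc k) (X ^ 2 - X + 1) = 0 := by
      simp only [map_add, map_sub, map_pow, RatFunc.algebraMap_X, map_one]
      linear_combination -this
    refine algebraMap_ne_zero ?_ h'
    intro h0
    have := congrArg (fun p : k[X] => p.coeff 2) h0
    simp [coeff_X, coeff_one] at this
  have ho2 : orderOf s = 2 := orderOf_eq_prime hs2 hs1
  have ho3 : orderOf r = 3 := orderOf_eq_prime hr3 hr1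
  set H : Subgroup (RatFunc k ≃ₐ[k⟮jj k⟯] RatFunc k) := Subgroup.closure {s, t} with hH
  have hsH : s ∈ H := Subgroup.subset_closure (by simp)
  have htH : t ∈ H := Subgroup.subset_closure (by simp)
  have hrH : r ∈ H := H.mul_mem hsH htH
  have hd2 : 2 ∣ Nat.card H := ho2 ▸ Subgroup.orderOf_dvd_natCard H hsH
  have hd3 : 3 ∣ Nat.card H := ho3 ▸ Subgroup.orderOf_dvd_natCard H hrH
  have hd6 : 6 ∣ Nat.card H := Nat.Coprime.mul_dvd_of_dvd_of_dvd (by norm_num) hd2 hd3
  have hcardG : Nat.card (RatFunc k ≃ₐ[k⟮jj k⟯] RatFunc k) ≤ 6 := by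
    rw [Nat.card_eq_fintype_card]
    exact AlgEquiv.card_le.trans (finrank_le h2)
  have hHG : Nat.card H ≤ Nat.card (RatFunc k ≃ₐ[k⟮jj k⟯] RatFunc k) := Subgroup.card_le_card_group H
  have hHpos : 0 < Nat.card H := Nat.card_pos
  have hH6 : Nat.card H = 6 := by
    have := Nat.le_of_dvd hHpos hd6
    omega
  have hG6 : Nat.card (RatFunc k ≃ₐ[k⟮jj k⟯] RatFunc k) = 6 := by omega
  have hfin6 : Module.finrank k⟮jj k⟯ (RatFunc k) = 6 := by
    have h1 := finrank_le h2
    have h2' : Nat.card (RatFunc k ≃ₐ[k⟮jj k⟯] RatFunc k) ≤ Module.finrank k⟮jj k⟯ (RatFunc k) := by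
      rw [Nat.card_eq_fintype_card]; exact AlgEquiv.card_le
    omega
  have hgal : IsGalois k⟮jj k⟯ (RatFunc k) := IsGalois.of_card_aut_eq_finrank _ _ (by rw [hG6, hfin6])
  have hHtop : H = ⊤ := (Subgroup.card_eq_iff_eq_top H).mp (by rw [hH6, hG6])
  have hbfix : b ∈ IntermediateField.fixedField (⊤ : Subgroup (RatFunc k ≃ₐ[k⟮jj k⟯] RatFunc k)) := by
    rw [← hHtop]
    rintro ⟨g, hg⟩
    change g b = b
    induction hg using Subgroup.closure_induction with
    | mem x hx =>
      rcases hx with rfl | rfl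
      · exact hσb
      · exact hτb
    | one => rfl
    | mul x y _ _ hx hy => rw [AlgEquiv.mul_apply, hy, hx]
    | inv x _ hx =>
      change x.symm b = b
      exact (AlgEquiv.symm_apply_eq x).mpr hx.symm
  have hbot := ((IsGalois.tfae (F := k⟮jj k⟯) (E := RatFunc k)).out 0 1).mp hgal
  rw [hbot, IntermediateField.mem_bot] at hbfix
  obtain ⟨x, rfl⟩ := hbfix
  exact x.2

end galois


section integral
open IntermediateField.algebraAdjoinAdjoin

variable (h2 : (2 : k) ≠ 0)
include h2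

theorem isIntegrallyClosed_adjoin : IsIntegrallyClosed (Algebra.adjoin k {jj k}) := by
  have htr : Transcendental k (jj k) := RatFunc.transcendental_of_ne_C (jj k) (jj_ne_C h2)
  have hinj := transcendental_iff_injective.mp htr
  let e1 : k[X] ≃ₐ[k] (Polynomial.aeval (jj k) : k[X] →ₐ[k] RatFunc k).range :=
    AlgEquiv.ofInjective _ hinj
  have hrange : (Polynomial.aeval (jj k) : k[X] →ₐ[k] RatFunc k).range = Algebra.adjoin k {jj k} :=
    (Algebra.adjoin_singleton_eq_range_aeval k (jj k)).symm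
  let e2 : k[X] ≃ₐ[k] Algebra.adjoin k {jj k} := e1.trans (Subalgebra.equivOfEq _ _ hrange)
  exact IsIntegrallyClosed.of_equiv e2.toRingEquiv

/-- the monic polynomial of which `λ, λ⁻¹, (1-λ)⁻¹` are roots -/
noncomputable def pint : (Algebra.adjoin k {jj k})[X] :=
  (X ^ 2 - X + 1) ^ 3 - C ((256 : k)⁻¹ • (⟨jj k, Algebra.self_mem_adjoin_singleton k (jj k)⟩ :
    Algebra.adjoin k {jj k})) * (X ^ 2 * (X - 1) ^ 2)

omit h2 in
theorem pint_monic : (pint (k := k)).Monic := by
  rw [pint]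
  have hq : ((X : (Algebra.adjoin k {jj k})[X]) ^ 2 - X + 1).Monic := by monicity!
  have hqd : ((X : (Algebra.adjoin k {jj k})[X]) ^ 2 - X + 1).natDegree = 2 := by compute_degree!
  have hq3 : (((X : (Algebra.adjoin k {jj k})[X]) ^ 2 - X + 1) ^ 3).natDegree = 6 := by
    rw [hq.natDegree_pow, hqd]
  apply Polynomial.Monic.sub_of_left (hq.pow 3)
  rw [Polynomial.degree_eq_natDegree (hq.pow 3).ne_zero, hq3]
  refine lt_of_le_of_lt (b := ((4 : ℕ) : WithBot ℕ)) ?_ (by norm_cast)
  compute_degree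
  exact le_of_eq rfl


omit h2 in
theorem eval_pint (x : RatFunc k) :
    Polynomial.eval₂ (algebraMap (Algebra.adjoin k {jj k}) (RatFunc k)) x pint =
      (x ^ 2 - x + 1) ^ 3 - ((256 : RatFunc k)⁻¹ * jj k) * (x ^ 2 * (x - 1) ^ 2) := by
  simp only [pint, eval₂_sub, eval₂_pow, eval₂_add, eval₂_X, eval₂_one, eval₂_mul, eval₂_C]
  congr 2
  change ((256 : k)⁻¹ • jj k) = _
  rw [Algebra.smul_def, map_inv₀, map_ofNat]

theorem c256_ne_zero' : (256 : RatFunc k) ≠ 0 := by
  have := c256_ne_zero h2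
  have h : (256 : RatFunc k) = algebraMap k (RatFunc k) 256 := (map_ofNat _ 256).symm
  rw [h]
  exact (map_ne_zero_iff _ (algebraMap k (RatFunc k)).injective).mpr this

theorem isIntegral_X : IsIntegral (Algebra.adjoin k {jj k}) (RatFunc.X : RatFunc k) := by
  refine ⟨pint, pint_monic, ?_⟩
  rw [eval_pint]
  have hX := X_ne_zero (k := k)
  have hX1 := X_sub_one_ne_zero (k := k)
  have h256 := c256_ne_zero' h2
  rw [jj]
  field_simp
  ring

theorem isIntegral_X_inv : IsIntegral (Algebra.adjoin k {jj k}) (RatFunc.X : RatFunc k)⁻¹ := by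
  refine ⟨pint, pint_monic, ?_⟩
  rw [eval_pint]
  have hX := X_ne_zero (k := k)
  have hX1 := X_sub_one_ne_zero (k := k)
  have h256 := c256_ne_zero' h2
  rw [jj]
  field_simp
  ring

theorem isIntegral_one_sub_X_inv :
    IsIntegral (Algebra.adjoin k {jj k}) (1 - (RatFunc.X : RatFunc k))⁻¹ := by
  refine ⟨pint, pint_monic, ?_⟩
  rw [eval_pint]
  have hX := X_ne_zero (k := k)
  have hX1 := X_sub_one_ne_zero (k := k)
  have hX1' := one_sub_X_ne_zero (k := k)
  have h256 := c256_ne_zero' h2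
  rw [jj]
  field_simp
  ring

theorem isIntegral_X_sub_one_inv :
    IsIntegral (Algebra.adjoin k {jj k}) ((RatFunc.X : RatFunc k) - 1)⁻¹ := by
  have : ((RatFunc.X : RatFunc k) - 1)⁻¹ = - (1 - (RatFunc.X : RatFunc k))⁻¹ := by
    rw [← neg_sub, inv_neg]
  rw [this]
  exact (isIntegral_one_sub_X_inv h2).neg


theorem mem_adjoin_of_integral (b : RatFunc k) (hbL : b ∈ k⟮jj k⟯)
    (hint : IsIntegral (Algebra.adjoin k {jj k}) b) : b ∈ Algebra.adjoin k {jj k} := by
  have hic := isIntegrallyClosed_adjoin h2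
  have hint' : IsIntegral (Algebra.adjoin k {jj k}) (⟨b, hbL⟩ : k⟮jj k⟯) := by
    rw [← isIntegral_algebraMap_iff (B := RatFunc k) (algebraMap k⟮jj k⟯ (RatFunc k)).injective]
    exact hint
  obtain ⟨y, hy⟩ := IsIntegrallyClosed.algebraMap_eq_of_integral (K := k⟮jj k⟯) hint'
  have : (y : RatFunc k) = b := congrArg Subtype.val hy
  rw [← this]
  exact y.2

end integral

theorem main (k : Type u) [Field k] (h2 : (2 : k) ≠ 0)
    (σ τ : RatFunc k ≃ₐ[k] RatFunc k) (hσ : σ RatFunc.X = (RatFunc.X : RatFunc k)⁻¹)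
    (hτ : τ RatFunc.X = 1 - (RatFunc.X : RatFunc k)) (b : RatFunc k) :
    (b ∈ Algebra.adjoin k ({RatFunc.X, (RatFunc.X : RatFunc k)⁻¹, ((RatFunc.X : RatFunc k) - 1)⁻¹} : Set (RatFunc k)) ∧
        σ b = b ∧ τ b = b) ↔
      b ∈ Algebra.adjoin k ({(256 : RatFunc k) * ((RatFunc.X : RatFunc k) ^ 2 - RatFunc.X + 1) ^ 3 /
        ((RatFunc.X : RatFunc k) ^ 2 * ((RatFunc.X : RatFunc k) - 1) ^ 2)} : Set (RatFunc k)) := by
  change _ ↔ b ∈ Algebra.adjoin k {jj k}
  constructor
  · rintro ⟨hbB, hσb, hτb⟩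
    have hbL := mem_adjoin_of_fixed h2 σ τ hσ hτ b hσb hτb
    have hint : IsIntegral (Algebra.adjoin k {jj k}) b := by
      have hle : Algebra.adjoin k ({RatFunc.X, (RatFunc.X : RatFunc k)⁻¹,
          ((RatFunc.X : RatFunc k) - 1)⁻¹} : Set (RatFunc k)) ≤
          (integralClosure (Algebra.adjoin k {jj k}) (RatFunc k)).restrictScalars k := by
        apply Algebra.adjoin_le
        rintro x (rfl | rfl | rfl)
        · exact isIntegral_X h2
        · exact isIntegral_X_inv h2
        · exact isIntegral_X_sub_one_inv h2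
      exact hle hbB
    exact mem_adjoin_of_integral h2 b hbL hint
  · intro hb
    refine ⟨?_, ?_, ?_⟩
    · exact Algebra.adjoin_le (by simpa using jj_mem_B) hb
    · have hle : Algebra.adjoin k {jj k} ≤
          AlgHom.equalizer (σ : RatFunc k →ₐ[k] RatFunc k) (AlgHom.id k (RatFunc k)) := by
        apply Algebra.adjoin_le
        rintro x rfl
        exact sigma_jj σ hσ
      exact hle hb
    · have hle : Algebra.adjoin k {jj k} ≤
          AlgHom.equalizer (τ : RatFunc k →ₐ[k] RatFunc k) (AlgHom.id k (RatFunc k)) := by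
        apply Algebra.adjoin_le
        rintro x rfl
        exact tau_jj τ hτ
      exact hle hb

end Groth.Agent.H6.LambdaJ
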