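import Mathlib
import Groth.Prelude.Def_GSzH1

set_option autoImplicit false
set_option linter.unusedSectionVars false
universe u v

namespace Groth.Agent.H6.Lang

section field
variable (k : Type u) [Field k] [Finite k]

theorem pow_apply (π : AlgebraicClosure k ≃ₐ[k] AlgebraicClosure k)
    (hπ : ∀ x : AlgebraicClosure k, π x = x ^ Nat.card k) (n : ℕ) (x : AlgebraicClosure k) :
    (π ^ n) x = x ^ (Nat.card k ^ n) := by
  induction n generalizing x with
  | zero => simp
  | succ j ih =>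
    rw [pow_succ, AlgEquiv.mul_apply, ih, hπ, ← pow_mul, pow_succ, mul_comm]

theorem frob_pow_apply (E : Type u) [Field E] [Algebra k E] [Finite E] [Fintype k] (m : ℕ) (y : E) :
    (FiniteField.frobeniusAlgEquivOfAlgebraic k E ^ m) y = y ^ (Nat.card k ^ m) := by
  induction m generalizing y with
  | zero => simp
  | succ j ih =>
    rw [pow_succ, AlgEquiv.mul_apply, ih, FiniteField.coe_frobeniusAlgEquivOfAlgebraic, ← pow_mul,
      pow_succ, mul_comm, Nat.card_eq_fintype_card]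

theorem pow_mem_iff (π : AlgebraicClosure k ≃ₐ[k] AlgebraicClosure k)
    (hπ : ∀ x : AlgebraicClosure k, π x = x ^ Nat.card k)
    (E : IntermediateField k (AlgebraicClosure k)) [FiniteDimensional k E] (j : ℕ) :
    π ^ j ∈ E.fixingSubgroup ↔ Module.finrank k E ∣ j := by
  have : Finite E := Module.finite_of_finite k
  have := Fintype.ofFinite k
  rw [← FiniteField.orderOf_frobeniusAlgEquivOfAlgebraic k E, orderOf_dvd_iff_pow_eq_one,
    IntermediateField.mem_fixingSubgroup_iff]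
  constructor
  · intro h
    ext y
    rw [frob_pow_apply]
    have := h y.1 y.2
    rw [pow_apply k π hπ] at this
    simpa using this
  · intro h x hx
    have := congrArg (fun f => (algebraMap E (AlgebraicClosure k)) (f ⟨x, hx⟩)) h
    simp only [frob_pow_apply] at this
    rw [pow_apply k π hπ]
    simpa using this

theorem exists_finrank (n : ℕ) (hn : n ≠ 0) :
    ∃ E : IntermediateField k (AlgebraicClosure k), FiniteDimensional k E ∧ Module.finrank k E = n := by
  obtain ⟨p, hp⟩ := CharP.exists k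
  have hpp : Fact p.Prime := ⟨CharP.char_is_prime k p⟩
  have : NeZero n := ⟨hn⟩
  let f : FiniteField.Extension k p n →ₐ[k] AlgebraicClosure k := IsAlgClosed.lift
  refine ⟨f.fieldRange, ?_, ?_⟩
  · exact LinearMap.finiteDimensional_range f.toLinearMap
  · have e : FiniteField.Extension k p n ≃ₐ[k] f.fieldRange := AlgEquiv.ofInjectiveField f
    rw [← e.toLinearEquiv.finrank_eq, FiniteField.finrank_extension]

theorem exists_pow_mem (π : AlgebraicClosure k ≃ₐ[k] AlgebraicClosure k)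
    (hπ : ∀ x : AlgebraicClosure k, π x = x ^ Nat.card k)
    (E : IntermediateField k (AlgebraicClosure k)) [FiniteDimensional k E]
    (σ : AlgebraicClosure k ≃ₐ[k] AlgebraicClosure k) :
    ∃ n : ℕ, σ⁻¹ * π ^ n ∈ E.fixingSubgroup := by
  have : Finite E := Module.finite_of_finite k
  have := Fintype.ofFinite k
  obtain ⟨n, hn⟩ := (FiniteField.bijective_frobeniusAlgEquivOfAlgebraic_pow k E).2 (σ.restrictNormal E)
  refine ⟨n, ?_⟩
  rw [IntermediateField.mem_fixingSubgroup_iff]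
  intro x hx
  have h1 := AlgEquiv.restrictNormal_commutes σ E ⟨x, hx⟩
  rw [← hn] at h1
  simp only at h1
  rw [AlgEquiv.mul_apply, pow_apply k π hπ]
  have h2 : (algebraMap E (AlgebraicClosure k))
      ((FiniteField.frobeniusAlgEquivOfAlgebraic k E ^ (n : ℕ)) ⟨x, hx⟩)
      = x ^ (Nat.card k ^ (n : ℕ)) := by
    rw [frob_pow_apply]
    simp
  rw [h2] at h1
  rw [h1]
  change σ.symm (σ x) = x
  simp

end field

section abstract
open GpH1
variable {Γ : Type u} {A : Type v} [Group Γ] [Group A] [MulDistribMulAction Γ A]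

/-- twisted power `a * π•a * ... * π^{m-1}•a` -/
def tw (π : Γ) (a : A) : ℕ → A
  | 0 => 1
  | (m+1) => tw π a m * π ^ m • a

theorem tw_add (π : Γ) (a : A) (m m' : ℕ) :
    tw π a (m + m') = tw π a m * π ^ m • tw π a m' := by
  induction m' with
  | zero => simp [tw]
  | succ j ih =>
    rw [← add_assoc, tw, ih, tw, smul_mul', mul_assoc, ← mul_smul, ← pow_add]

theorem tw_mem (π : Γ) (a : A) (H : Subgroup A) (hH : ∀ (σ : Γ) (x : A), x ∈ H → σ • x ∈ H)
    (ha : a ∈ H) (m : ℕ) : tw π a m ∈ H := by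
  induction m with
  | zero => exact H.one_mem
  | succ j ih => exact H.mul_mem ih (hH _ _ ha)

theorem tw_mul (π : Γ) (a : A) (H : Subgroup A) (hH : ∀ (σ : Γ) (x : A), x ∈ H → σ • x ∈ H)
    (ha : a ∈ H) (d : ℕ) (hd : ∀ x ∈ H, π ^ d • x = x) (i : ℕ) :
    tw π a (d * i) = (tw π a d) ^ i := by
  induction i with
  | zero => simp [tw]
  | succ j ih =>
    have h1 : ∀ (j : ℕ), ∀ x ∈ H, π ^ (d * j) • x = x := by
      intro j
      induction j with
      | zero => intro x _; simp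
      | succ t iht =>
        intro x hx
        rw [Nat.mul_succ, pow_add, mul_smul, hd x hx, iht x hx]
    rw [Nat.mul_succ, tw_add, ih, h1 j _ (tw_mem π a H hH ha d), pow_succ]

theorem cocycle_one (z : OneCocycle Γ A) : z 1 = 1 := by
  have := z.2 1 1
  rw [one_smul, mul_one] at this
  exact (mul_eq_left.mp this.symm)

theorem cocycle_pow (z : OneCocycle Γ A) (π : Γ) (m : ℕ) : z (π ^ m) = tw π (z π) m := by
  induction m with
  | zero => simp [tw, cocycle_one]
  | succ j ih => rw [pow_succ, z.2, ih, tw]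

theorem lc_ext [TopologicalSpace Γ] (π : Γ)
    (hdense : ∀ W : Set Γ, IsOpen W → ∀ σ ∈ W, ∃ n : ℕ, π ^ n ∈ W)
    (z z' : OneCocycleLC Γ A) (h : z.1 π = z'.1 π) : z = z' := by
  apply Subtype.ext
  apply OneCocycle.ext
  intro σ
  have h1 : IsOpen ({τ | z.1 τ = z.1 σ} ∩ {τ | z'.1 τ = z'.1 σ}) :=
    (z.2.isOpen_fiber _).inter (z'.2.isOpen_fiber _)
  obtain ⟨n, hn1, hn2⟩ := hdense _ h1 σ ⟨rfl, rfl⟩
  simp only [Set.mem_ofPred_eq] at hn1 hn2
  rw [← hn1, ← hn2, cocycle_pow, cocycle_pow, h]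

theorem exists_cocycle [TopologicalSpace Γ] [IsTopologicalGroup Γ] (π : Γ) (a : A)
    (H : Subgroup A) (hH : ∀ (σ : Γ) (x : A), x ∈ H → σ • x ∈ H) (ha : a ∈ H)
    (V : Subgroup Γ) [hVn : V.Normal] (hVo : IsOpen (V : Set Γ))
    (hVH : ∀ v ∈ V, ∀ x ∈ H, v • x = x)
    (hV : ∀ σ : Γ, ∃ n : ℕ, σ⁻¹ * π ^ n ∈ V)
    (hD : ∀ j : ℕ, π ^ j ∈ V → tw π a j = 1) :
    ∃ z : OneCocycleLC Γ A, z.1 π = a := by
  choose n hn using hV
  have key0 : ∀ (σ : Γ) (m j : ℕ), σ⁻¹ * π ^ m ∈ V → σ⁻¹ * π ^ (m + j) ∈ V →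
      tw π a (m + j) = tw π a m := by
    intro σ m j h1 h2
    have : π ^ j ∈ V := by
      have := V.mul_mem (V.inv_mem h1) h2
      convert this using 1
      rw [pow_add]; group
    rw [tw_add, hD j this, smul_one, mul_one]
  have key : ∀ (σ : Γ) (m m' : ℕ), σ⁻¹ * π ^ m ∈ V → σ⁻¹ * π ^ m' ∈ V →
      tw π a m = tw π a m' := by
    intro σ m m' h1 h2
    rcases le_total m m' with h | h
    · obtain ⟨j, rfl⟩ := Nat.exists_eq_add_of_le h
      exact (key0 σ m j h1 h2).symm
    · obtain ⟨j, rfl⟩ := Nat.exists_eq_add_of_le h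
      exact key0 σ m' j h2 h1
  have hcoc : IsOneCocycle (fun σ => tw π a (n σ)) := by
    intro σ τ
    have h1 : (σ * τ)⁻¹ * π ^ (n σ + n τ) ∈ V := by
      have h2 := hVn.conj_mem _ (hn σ) τ⁻¹
      have := V.mul_mem h2 (hn τ)
      convert this using 1
      rw [pow_add]; group
    show tw π a (n (σ * τ)) = tw π a (n σ) * σ • tw π a (n τ)
    rw [key (σ * τ) _ _ (hn (σ * τ)) h1, tw_add]
    congr 1
    have h3 := hVH _ (hn σ) _ (tw_mem π a H hH ha (n τ))
    rw [mul_smul] at h3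
    calc π ^ n σ • tw π a (n τ) = σ • (σ⁻¹ • (π ^ n σ • tw π a (n τ))) := by rw [smul_inv_smul]
      _ = _ := by rw [h3]
  have hlc : IsLocallyConstant (fun σ => tw π a (n σ)) := by
    rw [IsLocallyConstant.iff_exists_open]
    intro σ
    refine ⟨(fun v => σ * v) '' (V : Set Γ), (Homeomorph.mulLeft σ).isOpenMap _ hVo,
      ⟨1, V.one_mem, mul_one σ⟩, ?_⟩
    rintro _ ⟨v, hv, rfl⟩
    apply key (σ * v) _ _ (hn _)
    have := V.mul_mem (V.inv_mem hv) (hn σ)
    convert this using 1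
    group
  refine ⟨⟨⟨fun σ => tw π a (n σ), hcoc⟩, hlc⟩, ?_⟩
  show tw π a (n π) = a
  have h1 : π⁻¹ * π ^ 1 ∈ V := by simp [V.one_mem]
  rw [key π _ _ (hn π) h1]
  simp [tw]

end abstract

end Groth.Agent.H6.Lang
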