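import Mathlib
import Groth.Prelude
import Groth.Agent.Lib.Helper8.SyntLift.H
import Groth.Agent.Lib.Helper8.Synt.Main9287
import Groth.Agent.Lib.Helper8.Synt.Field
import Groth.Agent.Lib.Helper8.CI.CITransport
import Groth.Agent.Lib.Helper1.ArtinFlatReg
import Groth.Agent.Lib.Helper6.DefAff1c

/-!
# Lifting flat deformations of a local complete intersection along surjections of Artinian
local rings (helper6), via helper8's lifting theorem for syntomic algebras
-/

set_option autoImplicit false
universe u
open TensorProduct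

namespace Groth.Agent.H6.LciDef

/-- the fibre of a deformation over the closed point is the closed fibre -/
theorem isLCIOver_fiber {B k A₀ E : Type u} [CommRing B] [Field k] [CommRing A₀] [Algebra k A₀]
    [CommRing E] [Algebra B E] (res : B →+* k) (hres : Function.Surjective res)
    (pr : E →+* A₀) (hpr : Function.Surjective pr)
    (hprB : ∀ b, pr (algebraMap B E b) = algebraMap k A₀ (res b))
    (p : Ideal B) [p.IsPrime] (hp : RingHom.ker res = p)
    (hker : RingHom.ker pr = p.map (algebraMap B E)) (hA : Synt.IsLCIOver k A₀) :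
    Synt.IsLCIOver p.ResidueField (p.Fiber E) := by
  haveI : p.IsMaximal := by
    rw [← hp]
    exact RingHom.ker_isMaximal_of_surjective res hres
  have hle : RingHom.ker res ≤ RingHom.ker (algebraMap B p.ResidueField) := by
    rw [hp, Ideal.ker_algebraMap_residueField]
  let τ₀ : k →+* p.ResidueField :=
    RingHom.liftOfSurjective res hres ⟨algebraMap B p.ResidueField, hle⟩
  have hτ₀ : ∀ b, τ₀ (res b) = algebraMap B p.ResidueField b :=
    fun b => RingHom.liftOfSurjective_comp_apply res hres ⟨_, hle⟩ b
  have hτbij : Function.Bijective τ₀ := by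
    refine ⟨τ₀.injective, fun x => ?_⟩
    obtain ⟨b, rfl⟩ := p.algebraMap_residueField_surjective x
    exact ⟨res b, hτ₀ b⟩
  let τ : k ≃+* p.ResidueField := RingEquiv.ofBijective τ₀ hτbij
  have hτ : ∀ b, τ (res b) = algebraMap B p.ResidueField b := hτ₀
  let incl : E →+* p.Fiber E :=
    (Algebra.TensorProduct.includeRight : E →ₐ[B] p.ResidueField ⊗[B] E).toRingHom
  have hinclapp : ∀ x, incl x = (1 : p.ResidueField) ⊗ₜ[B] x := fun x => rfl
  have hincl : RingHom.ker pr ≤ RingHom.ker incl := by
    rw [hker, Ideal.map_le_iff_le_comap]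
    intro b hb
    rw [Ideal.mem_comap, RingHom.mem_ker, hinclapp, Algebra.algebraMap_eq_smul_one,
      ← TensorProduct.smul_tmul, ← Algebra.algebraMap_eq_smul_one,
      Ideal.algebraMap_residueField_eq_zero.mpr hb, zero_tmul]
  let ε : A₀ →+* p.Fiber E := RingHom.liftOfSurjective pr hpr ⟨incl, hincl⟩
  have hε : ∀ x, ε (pr x) = (1 : p.ResidueField) ⊗ₜ[B] x :=
    fun x => RingHom.liftOfSurjective_comp_apply pr hpr ⟨_, hincl⟩ x
  -- the inverse
  letI : Algebra B A₀ := ((algebraMap k A₀).comp res).toAlgebra
  have halg : ∀ b, algebraMap B A₀ b = algebraMap k A₀ (res b) := fun b => rfl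
  let f₁ : p.ResidueField →ₐ[B] A₀ :=
    { toRingHom := (algebraMap k A₀).comp τ.symm.toRingHom
      commutes' := fun b => by
        show algebraMap k A₀ (τ.symm (algebraMap B p.ResidueField b)) = _
        rw [← hτ b, RingEquiv.symm_apply_apply, halg] }
  let g₁ : E →ₐ[B] A₀ :=
    { toRingHom := pr
      commutes' := fun b => by
        show pr (algebraMap B E b) = _
        rw [hprB b, halg] }
  let h : p.Fiber E →ₐ[B] A₀ := Algebra.TensorProduct.productMap f₁ g₁
  have hh : ∀ x, h ((1 : p.ResidueField) ⊗ₜ[B] x) = pr x := by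
    intro x
    show Algebra.TensorProduct.productMap f₁ g₁ _ = _
    rw [Algebra.TensorProduct.productMap_apply_tmul, map_one, one_mul]
    rfl
  have hεinj : Function.Injective ε := by
    intro a a' haa
    obtain ⟨x, rfl⟩ := hpr a
    obtain ⟨x', rfl⟩ := hpr a'
    rw [hε, hε] at haa
    rw [← hh x, ← hh x', haa]
  have hεsurj : Function.Surjective ε := by
    intro z
    induction z using TensorProduct.induction_on with
    | zero => exact ⟨0, map_zero _⟩
    | tmul c x =>
      obtain ⟨b, rfl⟩ := p.algebraMap_residueField_surjective c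
      refine ⟨pr (b • x), ?_⟩
      rw [hε, TensorProduct.tmul_smul, TensorProduct.smul_tmul', Algebra.algebraMap_eq_smul_one]
    | add z z' hz hz' =>
      obtain ⟨a, rfl⟩ := hz
      obtain ⟨a', rfl⟩ := hz'
      exact ⟨a + a', map_add _ _ _⟩
  let e : A₀ ≃+* p.Fiber E := RingEquiv.ofBijective ε ⟨hεinj, hεsurj⟩
  refine Groth.Agent.H8.CITransport.isLCIOver_of_ringEquiv τ e ?_ hA
  intro c
  obtain ⟨b, rfl⟩ := hres c
  show ε (algebraMap k A₀ (res b)) = _
  rw [← hprB b, hε, hτ b, Algebra.TensorProduct.algebraMap_apply, Algebra.algebraMap_eq_smul_one,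
    ← TensorProduct.smul_tmul, ← Algebra.algebraMap_eq_smul_one]
  rfl


/-- a flat algebra over an Artinian local ring whose closed fibre is a local complete
intersection is syntomic -/
theorem isSyntomic_of_fibre {B k A₀ E : Type u} [CommRing B] [IsLocalRing B] [IsArtinianRing B]
    [Field k] [CommRing A₀] [Algebra k A₀] [CommRing E] [Algebra B E] [Module.Flat B E]
    (res : B →+* k) (hres : Function.Surjective res)
    (pr : E →+* A₀) (hpr : Function.Surjective pr)
    (hprB : ∀ b, pr (algebraMap B E b) = algebraMap k A₀ (res b))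
    (hker : RingHom.ker pr = (IsLocalRing.maximalIdeal B).map (algebraMap B E))
    (hA : LCI.IsLCI k A₀) : Synt.IsSyntomic B E := by
  have hkerres : RingHom.ker res = IsLocalRing.maximalIdeal B :=
    IsLocalRing.eq_maximalIdeal (RingHom.ker_isMaximal_of_surjective res hres)
  refine ⟨inferInstance, ?_, fun p => ?_⟩
  · -- finite presentation
    obtain ⟨-, n, f, hf, -⟩ := hA
    choose e he using fun i : Fin n => hpr (f (MvPolynomial.X i))
    let ψ : MvPolynomial (Fin n) B →ₐ[B] E := MvPolynomial.aeval e
    let π' : MvPolynomial (Fin n) B →+* A₀ := f.toRingHom.comp (MvPolynomial.map res)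
    have hπψ : ∀ y, pr (ψ y) = π' y := by
      intro y
      have h1 : pr.comp ψ.toRingHom = π' := by
        apply MvPolynomial.ringHom_ext
        · intro b
          show pr (MvPolynomial.aeval e (MvPolynomial.C b)) =
            f (MvPolynomial.map res (MvPolynomial.C b))
          rw [MvPolynomial.aeval_C, MvPolynomial.map_C, hprB b]
          exact (f.commutes (res b)).symm
        · intro i
          show pr (MvPolynomial.aeval e (MvPolynomial.X i)) =
            f (MvPolynomial.map res (MvPolynomial.X i))
          rw [MvPolynomial.aeval_X, MvPolynomial.map_X, he i]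
      exact congrArg (fun g => g y) h1
    have hπ' : Function.Surjective π' :=
      hf.comp (MvPolynomial.map_surjective res hres)
    have hψ : Function.Surjective ψ := by
      refine DefAff.surjective_of_nilpotent (IsLocalRing.maximalIdeal B) ψ pr π'
        (Groth.Agent.H1.ArtinFlatReg.isNilpotent_maximalIdeal B) hπψ hπ' fun b hb => ?_
      rw [Ideal.smul_top_eq_map, Submodule.restrictScalars_mem, ← hker]
      exact hb
    haveI : Algebra.FiniteType B E := Algebra.FiniteType.of_surjective ψ hψ
    exact Algebra.FinitePresentation.of_finiteType.mp inferInstance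
  · have hp : p.asIdeal = IsLocalRing.maximalIdeal B :=
      IsLocalRing.eq_maximalIdeal (IsArtinianRing.isMaximal_of_isPrime p.asIdeal)
    refine isLCIOver_fiber res hres pr hpr hprB p.asIdeal (hkerres.trans hp.symm) ?_
      (Groth.Agent.H8.Synt.isLCIOver_of_isLCI_field k A₀ hA)
    rw [hker, hp]

/-- **Lifting flat deformations of a local complete intersection** along a surjection onto an
Artinian local ring. -/
theorem exists_flat_lift {A' A k A₀ E : Type u} [CommRing A'] [CommRing A] [IsLocalRing A]
    [IsArtinianRing A] [Field k] [CommRing A₀] [Algebra k A₀] [CommRing E]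
    (p : A' →+* A) (hp : Function.Surjective p) (res : A →+* k) (hres : Function.Surjective res)
    (toE : A →+* E) (hflat : toE.Flat) (pr : E →+* A₀) (hpr : Function.Surjective pr)
    (hprA : ∀ a, pr (toE a) = algebraMap k A₀ (res a))
    (hker : RingHom.ker pr = (IsLocalRing.maximalIdeal A).map toE) (hA : LCI.IsLCI k A₀) :
    ∃ (E' : Type u) (_ : CommRing E') (toE' : A' →+* E') (q : E' →+* E), toE'.Flat ∧
      Function.Surjective q ∧ (∀ a, q (toE' a) = toE (p a)) ∧
      RingHom.ker q = (RingHom.ker p).map toE' := by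
  set I : Ideal A' := RingHom.ker p with hI
  let pbar : A' ⧸ I ≃+* A := RingHom.quotientKerEquivOfSurjective hp
  have hpbar : ∀ a, pbar (Ideal.Quotient.mk I a) = p a := fun a => rfl
  haveI : IsLocalRing (A' ⧸ I) := pbar.symm.isLocalRing
  haveI : IsArtinianRing (A' ⧸ I) :=
    Function.Surjective.isArtinianRing (f := pbar.symm.toRingHom) pbar.symm.surjective
  letI : Algebra (A' ⧸ I) E := (toE.comp pbar.toRingHom).toAlgebra
  have halg : ∀ b, algebraMap (A' ⧸ I) E b = toE (pbar b) := fun b => rfl
  haveI : Module.Flat (A' ⧸ I) E := by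
    have h1 : (toE.comp pbar.toRingHom).Flat :=
      RingHom.Flat.comp (RingHom.Flat.of_bijective pbar.bijective) hflat
    exact h1
  have hresB : Function.Surjective (res.comp pbar.toRingHom) := hres.comp pbar.surjective
  have hmax : (IsLocalRing.maximalIdeal (A' ⧸ I)).map pbar.toRingHom =
      IsLocalRing.maximalIdeal A := by
    have h1 : IsLocalRing.maximalIdeal A = RingHom.ker res :=
      (IsLocalRing.eq_maximalIdeal (RingHom.ker_isMaximal_of_surjective res hres)).symm
    have h2 : IsLocalRing.maximalIdeal (A' ⧸ I) = RingHom.ker (res.comp pbar.toRingHom) :=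
      (IsLocalRing.eq_maximalIdeal
        (RingHom.ker_isMaximal_of_surjective (res.comp pbar.toRingHom) hresB)).symm
    rw [h1, h2, ← RingHom.comap_ker]
    exact Ideal.map_comap_of_surjective pbar.toRingHom pbar.surjective _
  have hkerB : RingHom.ker pr =
      (IsLocalRing.maximalIdeal (A' ⧸ I)).map (algebraMap (A' ⧸ I) E) := by
    have h1 : algebraMap (A' ⧸ I) E = toE.comp pbar.toRingHom := rfl
    rw [h1, ← Ideal.map_map, hmax, hker]
  have hsyn : Synt.IsSyntomic (A' ⧸ I) E :=
    isSyntomic_of_fibre (res.comp pbar.toRingHom) hresB pr hpr (fun b => hprA (pbar b)) hkerB hA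
  obtain ⟨E', _, _, hsynt', ⟨ε⟩⟩ := Groth.Agent.H8.SyntLift.main6826 I hsyn
  refine ⟨E', inferInstance, algebraMap A' E',
    ε.toRingEquiv.toRingHom.comp (Ideal.Quotient.mk (I.map (algebraMap A' E'))), ?_, ?_, ?_, ?_⟩
  · exact RingHom.flat_algebraMap_iff.mpr hsynt'.1
  · exact ε.surjective.comp Ideal.Quotient.mk_surjective
  · intro a
    show ε (Ideal.Quotient.mk _ (algebraMap A' E' a)) = _
    have h1 : Ideal.Quotient.mk (I.map (algebraMap A' E')) (algebraMap A' E' a) =
        algebraMap (A' ⧸ I) (E' ⧸ I.map (algebraMap A' E')) (Ideal.Quotient.mk I a) := rfl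
    rw [h1, ε.commutes, halg, hpbar]
  · rw [RingHom.ker_equiv_comp, Ideal.mk_ker]

end Groth.Agent.H6.LciDef
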