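import Mathlib
import Groth.Prelude.Def_ArtFun4
import Groth.Agent.Lib.Helper6.ArtFun
import Groth.Agent.Lib.Helper6.DefAff8
import Groth.Agent.Lib.Helper6.LciDef2

/-!
# Deformations of an affine local complete intersection are unobstructed (helper6)
-/

set_option autoImplicit false
universe u
open CategoryTheory CategoryTheory.Limits AlgebraicGeometry ArtFun ArtFun.Art

namespace Groth.Agent.H6.LciDef

open Groth.Agent.H6.DefAff

variable {Λ k : Type u} [CommRing Λ] [Field k] [Algebra Λ k]

/-- the deformation functor of an affine local complete intersection is smooth -/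
theorem isSmoothFunctor_def (A₀ : Type u) [CommRing A₀] [Algebra k A₀] (hA : LCI.IsLCI k A₀) :
    ArtFun.IsSmoothFunctor (ArtFun.defFunctor (Λ := Λ) (Spec (CommRingCat.of A₀))
      (Spec.map (CommRingCat.ofHom (algebraMap k A₀)))) := by
  intro B A μ hμ q
  obtain ⟨R, rfl⟩ := RDef.exists_cl_eq q
  obtain ⟨E', _, toE', qq, hflat, hqs, hq, hkerq⟩ :=
    exists_flat_lift (μ.toAlgHom : B →+* A) hμ (A.res : A →+* k) A.res_surjective R.toE R.flat
      R.pr R.pr_surjective R.pr_toE R.ker_pr hA
  have hkerμ : RingHom.ker (μ.toAlgHom : B →+* A) ≤ IsLocalRing.maximalIdeal B :=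
    art_ker_le_maximalIdeal μ
  have hmax : (IsLocalRing.maximalIdeal B).map (μ.toAlgHom : B →+* A) =
      IsLocalRing.maximalIdeal A := by
    rw [← art_ker_res A, ← art_ker_res B]
    have h1 : RingHom.ker (B.res : B →+* k) =
        (RingHom.ker (A.res : A →+* k)).comap (μ.toAlgHom : B →+* A) := by
      ext b
      rw [Ideal.mem_comap, RingHom.mem_ker, RingHom.mem_ker]
      have := Art.res_app μ b
      constructor
      · intro h
        exact this.trans h
      · intro h
        exact this.symm.trans h
    rw [h1]
    exact Ideal.map_comap_of_surjective _ hμ _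
  let R' : RDef A₀ B :=
    { E := E'
      toE := toE'
      flat := hflat
      pr := R.pr.comp qq
      pr_toE := fun b => by
        show R.pr (qq (toE' b)) = _
        rw [hq b, R.pr_toE]
        exact congrArg _ (Art.res_app μ b)
      pr_surjective := R.pr_surjective.comp hqs
      ker_pr := by
        rw [← RingHom.comap_ker, R.ker_pr, ← hmax, Ideal.map_map]
        have h1 : R.toE.comp (μ.toAlgHom : B →+* A) = qq.comp toE' := by
          ext b
          exact (hq b).symm
        rw [h1, ← Ideal.map_map, Ideal.comap_map_of_surjective qq hqs, ← RingHom.ker_eq_comap_bot,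
          hkerq, ← Ideal.map_sup]
        congr 1
        exact sup_eq_left.mpr hkerμ }
  refine ⟨R'.toDefSch.cl, ?_⟩
  exact RDef.HomOver.map_cl (g := μ) (R := R') (R' := R)
    { hom := qq
      hom_toE := fun b => hq b
      pr_hom := fun e => rfl }

end Groth.Agent.H6.LciDef
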