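import Groth.Agent.Lib.Helper6.RFTri9
import Groth.Agent.Lib.Helper6.DerSt5
import Groth.Agent.Lib.Helper6.KRes2
import Groth.Agent.Lib.Helper2.Resol3

/-! # Leray's acyclicity lemma for bounded below complexes, in terms of the comparison map
`Q(F G) ⟶ RF(Q G)` -/

open CategoryTheory Limits DerivedCategory Pretriangulated ZeroObject

namespace Groth.Agent.H6.LerayBB

open Groth.Agent.H6.MVTri Groth.Agent.H6.KI Groth.Agent.H2.RDer Groth.Agent.H6.RFTri
open Groth.Agent.H6.DerSt

section Acyclic

universe v v' u u'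

variable {A : Type u} [Category.{v} A] [Abelian A] [HasInjectiveResolutions A]
  {B : Type u'} [Category.{v'} B] [Abelian B]
  (F : A ⥤ B) [F.Additive] [PreservesFiniteLimits F]

lemma acycP_h2 (S : ShortComplex A) (hS : S.ShortExact) (h₁ : acycP F S.X₁) (h₂ : acycP F S.X₂) :
    acycP F S.X₃ ∧ (S.map F).ShortExact := by
  refine ⟨fun i hi => isZero_X₃ F hS i (h₂ i hi) (h₁ (i + 1) (by omega)), ?_⟩
  exact shortExact_map_of_epi F hS (epi_map_g_of_isZero F hS (h₁ 1 (by omega)))

/-- a left exact functor preserves the acyclicity of bounded below complexes with right acyclic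
terms. -/
theorem acyclic_map_of_isStrictlyGE (C : CochainComplex A ℤ) (a : ℤ) [C.IsStrictlyGE a]
    (hC : C.Acyclic) (hI : ∀ i, acycP F (C.X i)) :
    ((F.mapHomologicalComplex (ComplexShape.up ℤ)).obj C).Acyclic := by
  intro n
  have h0 : acycP F (0 : A) := by
    intro i hi
    obtain ⟨k, rfl⟩ : ∃ k, i = k + 1 := ⟨i - 1, by omega⟩
    exact F.isZero_rightDerived_obj_injective_succ k _
  exact exactAt_map_of_acyclic F (acycP F) (acycP_h2 F) C a hC hI h0 n

end Acyclic

end Groth.Agent.H6.LerayBB

namespace Groth.Agent.H6.LerayBB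

open Groth.Agent.H6.MVTri Groth.Agent.H6.KI Groth.Agent.H2.RDer Groth.Agent.H6.RFTri
open Groth.Agent.H6.DerSt Groth.Agent.H2

variable {A : Type*} [Category A] [Abelian A] [HasDerivedCategory A] [KInjDS.HasKInjRes A]
  [EnoughInjectives A]
  {B : Type*} [Category B] [Abelian B] [HasDerivedCategory B]
  (F : A ⥤ B) [F.Additive] [PreservesFiniteLimits F]
  [(F.mapHomotopyCategory (ComplexShape.up ℤ) ⋙ Qh).HasRightDerivedFunctor
    (HomotopyCategory.quasiIso A (ComplexShape.up ℤ))]

/-- **Leray's acyclicity lemma**, bounded below case: the comparison map `Q(F G) ⟶ RF(Q G)` is an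
isomorphism for a bounded below complex `G` with right `F`-acyclic terms. -/
theorem isIso_theta_of_isStrictlyGE (G : CochainComplex A ℤ) (a : ℤ) [G.IsStrictlyGE a]
    (hG : ∀ n, acycP F (G.X n)) : IsIso (theta F G) := by
  obtain ⟨Z, hZ⟩ := HasZeroObject.zero (C := A)
  have hZinj : Injective Z := ⟨fun {X Y} g f _ => ⟨0, hZ.eq_of_tgt _ _⟩⟩
  obtain ⟨L, α, hL, hLI, -, hα⟩ := Resol.exists_resolution (fun Y : A => Injective Y)
    (fun Y => ⟨Injective.under Y, Injective.ι Y, inferInstance, inferInstance⟩) G a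
    ⟨Z, hZ, hZinj⟩
  haveI := hL
  haveI : ∀ n, Injective (L.X n) := hLI
  haveI : L.IsKInjective := CochainComplex.isKInjective_of_injective L a
  have hLacyc : ∀ n, acycP F (L.X n) := by
    intro n i hi
    obtain ⟨k, rfl⟩ : ∃ k, i = k + 1 := ⟨i - 1, by omega⟩
    exact F.isZero_rightDerived_obj_injective_succ k _
  have hCacyc : (CochainComplex.mappingCone α).Acyclic := fun j =>
    Groth.Agent.H6.KRes.exactAt_mappingCone α j inferInstance inferInstance
  haveI : (CochainComplex.mappingCone α).IsStrictlyGE (a - 1) := by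
    rw [CochainComplex.isStrictlyGE_iff]
    intro i hi
    refine IsZero.of_iso ?_ (HomologicalComplex.homotopyCofiber.XIsoBiprod α i (i + 1) rfl)
    have h1 : IsZero (G.X (i + 1)) := G.isZero_of_isStrictlyGE a (i + 1) (by omega)
    have h2 : IsZero (L.X i) := L.isZero_of_isStrictlyGE a i (by omega)
    rw [IsZero.iff_id_eq_zero]
    apply biprod.hom_ext
    · exact h1.eq_of_tgt _ _
    · exact h2.eq_of_tgt _ _
  have hCI : ∀ n, acycP F ((CochainComplex.mappingCone α).X n) := by
    intro n
    exact Pk_of_iso F (HomologicalComplex.homotopyCofiber.XIsoBiprod α n (n + 1) rfl).symm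
      (acycP_biprod F _ _ (hG (n + 1)) (hLacyc n))
  have hFC := acyclic_map_of_isStrictlyGE F (CochainComplex.mappingCone α) (a - 1) hCacyc hCI
  have hq : QuasiIso ((F.mapHomologicalComplex (ComplexShape.up ℤ)).map α) := by
    apply Groth.Agent.H6.KRes.quasiIso_of_acyclic_mappingCone
    intro j
    exact (hFC j).of_iso (CochainComplex.mappingCone.mapHomologicalComplexIso α F)
  haveI i1 : IsIso (Q.map ((F.mapHomologicalComplex (ComplexShape.up ℤ)).map α)) :=
    (isIso_Q_map_iff_quasiIso _ _).2 hq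
  haveI i2 : IsIso (Q.map α) := (isIso_Q_map_iff_quasiIso _ _).2 hα
  haveI i3 : IsIso (theta F L) := isIso_theta F L
  have hn := theta_naturality F α
  have : theta F G = Q.map ((F.mapHomologicalComplex (ComplexShape.up ℤ)).map α) ≫ theta F L ≫
      inv ((RF F).map (Q.map α)) := by
    rw [← Category.assoc, hn, Category.assoc, IsIso.hom_inv_id, Category.comp_id]
  rw [this]
  infer_instance

end Groth.Agent.H6.LerayBB
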