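import Groth.Agent.Lib.Helper6.LerayBB1
import Groth.Agent.Lib.Helper6.FinCd3

/-! # The comparison map `Q(F K) ⟶ RF(Q K)` for unbounded complexes, via canonical truncations -/

open CategoryTheory Limits DerivedCategory Pretriangulated ZeroObject

namespace Groth.Agent.H6.LerayBB

open Groth.Agent.H6.MVTri Groth.Agent.H6.KI Groth.Agent.H2.RDer Groth.Agent.H6.RFTri
open Groth.Agent.H6.DerSt Groth.Agent.H2

lemma quasiIsoAt_of_isIso_f {B : Type*} [Category B] [Abelian B] {K L : CochainComplex B ℤ}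
    (φ : K ⟶ L) (m : ℤ) (h1 : IsIso (φ.f (m - 1))) (h2 : IsIso (φ.f m))
    (h3 : IsIso (φ.f (m + 1))) : QuasiIsoAt φ m := by
  rw [quasiIsoAt_iff' φ (m - 1) m (m + 1) (by simp) (by simp)]
  haveI : Epi ((HomologicalComplex.shortComplexFunctor' B (ComplexShape.up ℤ)
      (m - 1) m (m + 1)).map φ).τ₁ := by
    change Epi (φ.f (m - 1))
    infer_instance
  haveI : IsIso ((HomologicalComplex.shortComplexFunctor' B (ComplexShape.up ℤ)
      (m - 1) m (m + 1)).map φ).τ₂ := by
    change IsIso (φ.f m)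
    infer_instance
  haveI : Mono ((HomologicalComplex.shortComplexFunctor' B (ComplexShape.up ℤ)
      (m - 1) m (m + 1)).map φ).τ₃ := by
    change Mono (φ.f (m + 1))
    infer_instance
  exact ShortComplex.quasiIso_of_epi_of_isIso_of_mono _

variable {A : Type*} [Category A] [Abelian A] [HasDerivedCategory A] [KInjDS.HasKInjRes A]
  [EnoughInjectives A]
  {B : Type*} [Category B] [Abelian B] [HasDerivedCategory B]
  (F : A ⥤ B) [F.Additive] [PreservesFiniteLimits F]
  [(F.mapHomotopyCategory (ComplexShape.up ℤ) ⋙ Qh).HasRightDerivedFunctor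
    (HomotopyCategory.quasiIso A (ComplexShape.up ℤ))]

/-- the comparison map `Q(F K) ⟶ RF(Q K)` is an isomorphism as soon as the canonical truncations
of `K` have right `F`-acyclic terms and `RF` is way-out right on the fibres of `K ⟶ τ_{≥ a} K`. -/
theorem isIso_theta_of_truncGE (K : CochainComplex A ℤ)
    (hG : ∀ a n, acycP F ((K.truncGE a).X n))
    (h : ∀ m : ℤ, ∃ a : ℤ, a + 1 < m ∧ ∀ (Z : DerivedCategory A) (g : Z ⟶ Q.obj K)
      (δ : Q.obj (K.truncGE a) ⟶ Z⟦(1 : ℤ)⟧),
      Triangle.mk g (Q.map (K.πTruncGE a)) δ ∈ distTriang _ →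
        IsZero ((homologyFunctor B m).obj ((RF F).obj Z)) ∧
        IsZero ((homologyFunctor B (m + 1)).obj ((RF F).obj Z))) :
    IsIso (theta F K) := by
  rw [DerivedCategory.isIso_iff]
  intro m
  obtain ⟨a, ham, ha⟩ := h m
  obtain ⟨Z, g, δ, hT⟩ := distinguished_cocone_triangle₁ (Q.map (K.πTruncGE a))
  obtain ⟨hz1, hz2⟩ := ha Z g δ hT
  obtain ⟨T', hT', u₁, u₂, u₃, c₁, c₂⟩ :=
    exists_distTriang_RF' F (Triangle.mk g (Q.map (K.πTruncGE a)) δ) hT
  have hz1' : IsZero ((homologyFunctor B m).obj T'.obj₁) :=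
    hz1.of_iso ((homologyFunctor B m).mapIso u₁)
  have hz2' : IsZero ((homologyFunctor B (m + 1)).obj T'.obj₁) :=
    hz2.of_iso ((homologyFunctor B (m + 1)).mapIso u₁)
  haveI : Mono ((homologyFunctor B m).map T'.mor₂) :=
    (HomologySequence.mono_homologyMap_mor₂_iff T' hT' m).2 (hz1'.eq_of_src _ _)
  haveI : Epi ((homologyFunctor B m).map T'.mor₂) :=
    (HomologySequence.epi_homologyMap_mor₂_iff T' hT' m (m + 1) rfl).2 (hz2'.eq_of_tgt _ _)
  haveI i0 : IsIso ((homologyFunctor B m).map T'.mor₂) := isIso_of_mono_of_epi _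
  have i1 : IsIso ((homologyFunctor B m).map ((RF F).map (Q.map (K.πTruncGE a)))) := by
    let u₂' : T'.obj₂ ≅ (RF F).obj (Q.obj K) := u₂
    let u₃' : T'.obj₃ ≅ (RF F).obj (Q.obj (K.truncGE a)) := u₃
    have c₂' : T'.mor₂ ≫ u₃'.hom = u₂'.hom ≫ (RF F).map (Q.map (K.πTruncGE a)) := c₂
    have e : (RF F).map (Q.map (K.πTruncGE a)) = u₂'.inv ≫ T'.mor₂ ≫ u₃'.hom := by
      rw [c₂', Iso.inv_hom_id_assoc]
    rw [e, Functor.map_comp, Functor.map_comp]
    infer_instance
  haveI i2 : IsIso (theta F (K.truncGE a)) := isIso_theta_of_isStrictlyGE F (K.truncGE a) a (hG a)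
  have i3 : IsIso ((homologyFunctor B m).map
      (Q.map ((F.mapHomologicalComplex (ComplexShape.up ℤ)).map (K.πTruncGE a)))) := by
    have hq : QuasiIsoAt ((F.mapHomologicalComplex (ComplexShape.up ℤ)).map (K.πTruncGE a)) m := by
      haveI := Groth.Agent.H6.FinCd.isIso_πTruncGE_f K a (m - 1) (by omega)
      haveI := Groth.Agent.H6.FinCd.isIso_πTruncGE_f K a m (by omega)
      haveI := Groth.Agent.H6.FinCd.isIso_πTruncGE_f K a (m + 1) (by omega)
      apply quasiIsoAt_of_isIso_f
      · change IsIso (F.map ((K.πTruncGE a).f (m - 1)))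
        infer_instance
      · change IsIso (F.map ((K.πTruncGE a).f m))
        infer_instance
      · change IsIso (F.map ((K.πTruncGE a).f (m + 1)))
        infer_instance
    rw [quasiIsoAt_iff_isIso_homologyMap] at hq
    exact (NatIso.isIso_map_iff (homologyFunctorFactors B m) _).2 hq
  have hn := theta_naturality F (K.πTruncGE a)
  have e : (homologyFunctor B m).map (theta F K) =
      (homologyFunctor B m).map
        (Q.map ((F.mapHomologicalComplex (ComplexShape.up ℤ)).map (K.πTruncGE a))) ≫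
      (homologyFunctor B m).map (theta F (K.truncGE a)) ≫
      inv ((homologyFunctor B m).map ((RF F).map (Q.map (K.πTruncGE a)))) := by
    rw [← Category.assoc, ← Functor.map_comp, hn, Functor.map_comp, Category.assoc,
      IsIso.hom_inv_id, Category.comp_id]
  rw [e]
  infer_instance

end Groth.Agent.H6.LerayBB
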