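import Groth.Agent.Lib.Helper6.LerayBB2

/-! # Brutal truncations as a short exact sequence of complexes, and the comparison map
`Q(F K) ⟶ RF(Q K)` for unbounded complexes with acyclic terms -/

open CategoryTheory Limits DerivedCategory Pretriangulated ZeroObject

namespace Groth.Agent.H6.LerayBB

open Groth.Agent.H6.MVTri Groth.Agent.H6.KI Groth.Agent.H2.RDer Groth.Agent.H6.RFTri
open Groth.Agent.H6.DerSt Groth.Agent.H2

section Sigma

variable {A : Type*} [Category A] [Abelian A]

lemma hasLift_id (K : CochainComplex A ℤ) (b : ℤ) :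
    (ComplexShape.embeddingUpIntLE b).HasLift
      (𝟙 (K.restriction (ComplexShape.embeddingUpIntLE b))) :=
  fun _ hj => (hj.false_of_isTruncLE).elim

/-- the projection `K ⟶ σ_{≤ b} K` onto the brutal truncation. -/
noncomputable def piLE (K : CochainComplex A ℤ) (b : ℤ) :
    K ⟶ K.stupidTrunc (ComplexShape.embeddingUpIntLE b) :=
  (ComplexShape.embeddingUpIntLE b).liftExtend (𝟙 _) (hasLift_id K b)

lemma isIso_piLE_f (K : CochainComplex A ℤ) (b n : ℤ) (h : n ≤ b) : IsIso ((piLE K b).f n) := by
  have hk : (ComplexShape.embeddingUpIntLE b).f (b - n).toNat = n := by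
    change b - ((b - n).toNat : ℤ) = n
    omega
  exact ((ComplexShape.embeddingUpIntLE b).isIso_liftExtend_f_iff (𝟙 _) (hasLift_id K b) hk).2
    inferInstance

lemma isZero_sigmaLE_X (K : CochainComplex A ℤ) (b n : ℤ) (h : b < n) :
    IsZero ((K.stupidTrunc (ComplexShape.embeddingUpIntLE b)).X n) := by
  apply K.isZero_stupidTrunc_X
  intro i hi
  have : b - (i : ℤ) = n := hi
  omega

lemma epi_piLE_f (K : CochainComplex A ℤ) (b n : ℤ) : Epi ((piLE K b).f n) := by
  by_cases h : n ≤ b
  · haveI := isIso_piLE_f K b n h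
    infer_instance
  · exact ⟨fun _ _ _ => (isZero_sigmaLE_X K b n (by omega)).eq_of_src _ _⟩

instance epi_piLE (K : CochainComplex A ℤ) (b : ℤ) : Epi (piLE K b) :=
  HomologicalComplex.epi_of_epi_f _ (fun n => epi_piLE_f K b n)

/-- the short exact sequence `0 ⟶ σ_{> b} K ⟶ K ⟶ σ_{≤ b} K ⟶ 0`. -/
noncomputable def sesLE (K : CochainComplex A ℤ) (b : ℤ) : ShortComplex (CochainComplex A ℤ) :=
  ShortComplex.mk (kernel.ι (piLE K b)) (piLE K b) (kernel.condition _)

lemma sesLE_shortExact (K : CochainComplex A ℤ) (b : ℤ) : (sesLE K b).ShortExact :=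
  ShortComplex.ShortExact.mk' (ShortComplex.exact_of_f_is_kernel _ (kernelIsKernel _))
    (by dsimp [sesLE]; infer_instance) (by dsimp [sesLE]; infer_instance)

lemma sesLE_shortExact_eval (K : CochainComplex A ℤ) (b n : ℤ) :
    ((sesLE K b).map (HomologicalComplex.eval A (ComplexShape.up ℤ) n)).ShortExact :=
  (HomologicalComplex.shortExact_iff_degreewise_shortExact _).1 (sesLE_shortExact K b) n

lemma isZero_sesLE_X₁_X (K : CochainComplex A ℤ) (b n : ℤ) (h : n ≤ b) :
    IsZero ((sesLE K b).X₁.X n) := by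
  haveI : IsIso ((sesLE K b).map (HomologicalComplex.eval A (ComplexShape.up ℤ) n)).g :=
    isIso_piLE_f K b n h
  exact (sesLE_shortExact_eval K b n).isIso_g_iff.1 inferInstance

lemma isIso_sesLE_f_f (K : CochainComplex A ℤ) (b n : ℤ) (h : b < n) :
    IsIso ((sesLE K b).f.f n) :=
  (sesLE_shortExact_eval K b n).isIso_f_iff.2 (isZero_sigmaLE_X K b n h)

instance isStrictlyGE_sesLE_X₁ (K : CochainComplex A ℤ) (b : ℤ) :
    (sesLE K b).X₁.IsStrictlyGE (b + 1) := by
  rw [CochainComplex.isStrictlyGE_iff]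
  intro i hi
  exact isZero_sesLE_X₁_X K b i (by omega)

end Sigma

end Groth.Agent.H6.LerayBB

namespace Groth.Agent.H6.LerayBB

open Groth.Agent.H6.MVTri Groth.Agent.H6.KI Groth.Agent.H2.RDer Groth.Agent.H6.RFTri
open Groth.Agent.H6.DerSt Groth.Agent.H2

variable {A : Type*} [Category A] [Abelian A] [HasDerivedCategory A] [KInjDS.HasKInjRes A]
  [EnoughInjectives A]
  {B : Type*} [Category B] [Abelian B] [HasDerivedCategory B]
  (F : A ⥤ B) [F.Additive] [PreservesFiniteLimits F]
  [(F.mapHomotopyCategory (ComplexShape.up ℤ) ⋙ Qh).HasRightDerivedFunctor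
    (HomotopyCategory.quasiIso A (ComplexShape.up ℤ))]

omit [EnoughInjectives A] [PreservesFiniteLimits F] in
/-- for a quasi-isomorphism `j : K ⟶ I` to a K-injective complex, the comparison map
`Q(F K) ⟶ RF(Q K)` is an isomorphism iff `F j` is a quasi-isomorphism. -/
theorem isIso_theta_iff_quasiIso {K I : CochainComplex A ℤ} (j : K ⟶ I) [QuasiIso j]
    [I.IsKInjective] :
    IsIso (theta F K) ↔ QuasiIso ((F.mapHomologicalComplex (ComplexShape.up ℤ)).map j) := by
  rw [← isIso_Q_map_iff_quasiIso]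
  haveI i2 : IsIso (Q.map j) := (isIso_Q_map_iff_quasiIso _ _).2 inferInstance
  haveI i3 : IsIso (theta F I) := isIso_theta F I
  have hn := theta_naturality F j
  constructor
  · intro h
    have e : Q.map ((F.mapHomologicalComplex (ComplexShape.up ℤ)).map j) =
        theta F K ≫ (RF F).map (Q.map j) ≫ inv (theta F I) := by
      rw [← Category.assoc, ← hn, Category.assoc, IsIso.hom_inv_id, Category.comp_id]
    rw [e]
    infer_instance
  · intro h
    have e : theta F K = Q.map ((F.mapHomologicalComplex (ComplexShape.up ℤ)).map j) ≫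
        theta F I ≫ inv ((RF F).map (Q.map j)) := by
      rw [← Category.assoc, hn, Category.assoc, IsIso.hom_inv_id, Category.comp_id]
    rw [e]
    infer_instance

/-- the comparison map `Q(F K) ⟶ RF(Q K)` is an isomorphism for a complex with right `F`-acyclic
terms as soon as `RF` is way-out right on the brutal truncations `σ_{≤ b} K`. -/
theorem isIso_theta_of_sigmaLE (K : CochainComplex A ℤ) (hK : ∀ n, acycP F (K.X n))
    (h : ∀ m : ℤ, ∃ b : ℤ, b + 2 < m ∧
      IsZero ((homologyFunctor B (m - 1)).obj ((RF F).obj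
        (Q.obj (K.stupidTrunc (ComplexShape.embeddingUpIntLE b))))) ∧
      IsZero ((homologyFunctor B m).obj ((RF F).obj
        (Q.obj (K.stupidTrunc (ComplexShape.embeddingUpIntLE b)))))) :
    IsIso (theta F K) := by
  rw [DerivedCategory.isIso_iff]
  intro m
  obtain ⟨b, hbm, hz1, hz2⟩ := h m
  have hS := sesLE_shortExact K b
  obtain ⟨T', hT', u₁, u₂, u₃, c₁, c₂⟩ :=
    exists_distTriang_RF' F (triangleOfSES hS) (triangleOfSES_distinguished hS)
  let G := (sesLE K b).X₁
  let ι : G ⟶ K := (sesLE K b).f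
  have hz1' : IsZero ((homologyFunctor B (m - 1)).obj T'.obj₃) :=
    hz1.of_iso ((homologyFunctor B (m - 1)).mapIso u₃)
  have hz2' : IsZero ((homologyFunctor B m).obj T'.obj₃) :=
    hz2.of_iso ((homologyFunctor B m).mapIso u₃)
  haveI : Mono ((homologyFunctor B m).map T'.mor₁) :=
    (HomologySequence.mono_homologyMap_mor₁_iff T' hT' (m - 1) m (by omega)).2
      (hz1'.eq_of_src _ _)
  haveI : Epi ((homologyFunctor B m).map T'.mor₁) :=
    (HomologySequence.epi_homologyMap_mor₁_iff T' hT' m).2 (hz2'.eq_of_tgt _ _)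
  haveI i0 : IsIso ((homologyFunctor B m).map T'.mor₁) := isIso_of_mono_of_epi _
  have i1 : IsIso ((homologyFunctor B m).map ((RF F).map (Q.map ι))) := by
    let u₁' : T'.obj₁ ≅ (RF F).obj (Q.obj G) := u₁
    let u₂' : T'.obj₂ ≅ (RF F).obj (Q.obj K) := u₂
    have c₁' : T'.mor₁ ≫ u₂'.hom = u₁'.hom ≫ (RF F).map (Q.map ι) := c₁
    have e : (RF F).map (Q.map ι) = u₁'.inv ≫ T'.mor₁ ≫ u₂'.hom := by
      rw [c₁', Iso.inv_hom_id_assoc]
    rw [e, Functor.map_comp, Functor.map_comp]
    infer_instance
  have hGacyc : ∀ n, acycP F (G.X n) := by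
    intro n
    by_cases hn : n ≤ b
    · intro i hi
      exact Functor.map_isZero _ (isZero_sesLE_X₁_X K b n hn)
    · haveI : IsIso (ι.f n) := isIso_sesLE_f_f K b n (by omega)
      exact Pk_of_iso F (asIso (ι.f n)).symm (hK n)
  haveI i2 : IsIso (theta F G) := isIso_theta_of_isStrictlyGE F G (b + 1) hGacyc
  have i3 : IsIso ((homologyFunctor B m).map
      (Q.map ((F.mapHomologicalComplex (ComplexShape.up ℤ)).map ι))) := by
    have hq : QuasiIsoAt ((F.mapHomologicalComplex (ComplexShape.up ℤ)).map ι) m := by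
      haveI : IsIso (ι.f (m - 1)) := isIso_sesLE_f_f K b (m - 1) (by omega)
      haveI : IsIso (ι.f m) := isIso_sesLE_f_f K b m (by omega)
      haveI : IsIso (ι.f (m + 1)) := isIso_sesLE_f_f K b (m + 1) (by omega)
      apply quasiIsoAt_of_isIso_f
      · change IsIso (F.map (ι.f (m - 1)))
        infer_instance
      · change IsIso (F.map (ι.f m))
        infer_instance
      · change IsIso (F.map (ι.f (m + 1)))
        infer_instance
    rw [quasiIsoAt_iff_isIso_homologyMap] at hq
    exact (NatIso.isIso_map_iff (homologyFunctorFactors B m) _).2 hq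
  have hn := theta_naturality F ι
  have e : (homologyFunctor B m).map (theta F K) =
      inv ((homologyFunctor B m).map
        (Q.map ((F.mapHomologicalComplex (ComplexShape.up ℤ)).map ι))) ≫
      (homologyFunctor B m).map (theta F G) ≫
      (homologyFunctor B m).map ((RF F).map (Q.map ι)) := by
    rw [IsIso.eq_inv_comp, ← Functor.map_comp, hn, Functor.map_comp]
  rw [e]
  infer_instance

end Groth.Agent.H6.LerayBB
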