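import Groth.Agent.Lib.Helper6.LerayBB3
import Groth.Agent.Lib.Helper6.LerayBB4

/-! # `f_* F ⟶ Rf_* F` is an isomorphism for a complex of quasi-coherent `f_*`-acyclic modules,
`f` quasi-compact quasi-separated: the case of a quasi-compact base -/

universe u
open CategoryTheory Limits Opposite Pretriangulated AlgebraicGeometry TopologicalSpace

namespace Groth.Agent.H6.LerayBB

open DerivedCategory Groth.Agent.H6.KI Groth.Agent.H6.MD Groth.Agent.H6.MVTri
open Groth.Agent.LD.SC Groth.Agent.H6.RFTri Groth.Agent.H6.QcVan Groth.Agent.H6.DerSt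

attribute [local instance] HasDerivedCategory.standard

lemma qc_sigmaLE_X {X : Scheme.{u}} (K : CochainComplex X.Modules ℤ)
    (hq : ∀ n : ℤ, Coh.IsQCoh (K.X n)) (b n : ℤ) :
    Coh.IsQCoh ((K.stupidTrunc (ComplexShape.embeddingUpIntLE b)).X n) := by
  by_cases h : n ≤ b
  · have hk : (ComplexShape.embeddingUpIntLE b).f (b - n).toNat = n := by
      change b - ((b - n).toNat : ℤ) = n
      omega
    exact Groth.Agent.LD.QC.qc_of_iso
      (K.stupidTruncXIso (ComplexShape.embeddingUpIntLE b) hk).symm (hq n)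
  · exact Groth.Agent.LD.QC.qc_of_iso
      ((isZero_zero _).iso (isZero_sigmaLE_X K b n (by omega))) (Groth.Agent.LD.SC.qc_zero X)

theorem isIso_theta_of_compact {X S : Scheme.{u}} (f : X ⟶ S) [QuasiCompact f]
    [QuasiSeparated f] [CompactSpace ↥S] [DCoh.HasRpush f]
    [HasInjectiveResolutions X.Modules]
    (K : CochainComplex X.Modules ℤ) (hq : ∀ n : ℤ, Coh.IsQCoh (K.X n))
    (hac : ∀ (n : ℤ) (i : ℕ), 0 < i → IsZero ((Coh.Rpush f i).obj (K.X n))) :
    IsIso (theta (Scheme.Modules.pushforward f) K) := by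
  haveI := Groth.Agent.H6.RpRes.hasKInjRes_modules X
  haveI : IsGrothendieckAbelian.{u} X.Modules :=
    Groth.Agent.LD.QCGroth.isGrothendieckAbelian_modules X
  haveI : EnoughInjectives X.Modules := inferInstance
  obtain ⟨D, hD⟩ := exists_vanishing_bound f
  apply isIso_theta_of_sigmaLE (Scheme.Modules.pushforward f) K (fun n i hi => hac n i hi)
  intro m
  have hZ : DCoh.IsQCohD (Q.obj (K.stupidTrunc (ComplexShape.embeddingUpIntLE (m - D - 3)))) :=
    isQCohD_Q_obj _ (qc_sigmaLE_X K hq (m - D - 3))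
  have hZv : ∀ q : ℤ, m - D - 3 < q →
      IsZero (DCoh.HD (Q.obj (K.stupidTrunc (ComplexShape.embeddingUpIntLE (m - D - 3)))) q) := by
    intro q hq'
    refine IsZero.of_iso ?_ ((homologyFunctorFactors X.Modules q).app _)
    exact ShortComplex.isZero_homology_of_isZero_X₂ _ (isZero_sigmaLE_X K (m - D - 3) q hq')
  exact ⟨m - D - 3, by omega, hD _ hZ (m - D - 3) hZv (m - 1) (by omega),
    hD _ hZ (m - D - 3) hZv m (by omega)⟩

end Groth.Agent.H6.LerayBB
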