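import Mathlib
import Groth.Agent.Lib.Helper6.Liai1
import Groth.Agent.Lib.Helper6.Liai3

universe u
set_option linter.style.haveILetI false
open scoped Pointwise

namespace Groth.Agent.H6.Liai

section general
variable {R : Type u} [CommRing R]

/-- associated primes of a CM quotient are minimal -/
theorem mem_minimalPrimes_of_mem_associatedPrimes_quot [IsNoetherianRing R] (𝔠 : Ideal R)
    [LocCoh.IsCohenMacaulayRing (R ⧸ 𝔠)] {P : Ideal R}
    (hP : P ∈ associatedPrimes R (R ⧸ 𝔠)) : P ∈ 𝔠.minimalPrimes := by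
  obtain ⟨h1, h2, h3⟩ := map_mem_associatedPrimes 𝔠 hP
  have h4 := mem_minimalPrimes_of_mem_associatedPrimes h1
  rw [Ideal.minimalPrimes_eq_comap]
  exact ⟨_, h4, h2⟩

/-- if `J : f = J` then `f` avoids the minimal primes of `J` -/
theorem notMem_of_mem_minimalPrimes (J : Ideal R) (f : R) (hJf : J.colon {f} = J)
    {q : Ideal R} (hq : q ∈ J.minimalPrimes) : f ∉ q := by
  intro hfq
  rw [Ideal.minimalPrimes_eq_comap] at hq
  obtain ⟨q', hq', rfl⟩ := hq
  have h1 : Ideal.Quotient.mk J f ∈ (q' : Set _) := hfq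
  have h2 : Ideal.Quotient.mk J f ∈ nonZeroDivisors (R ⧸ J) := by
    rw [mem_nonZeroDivisors_iff_right]
    intro x hx
    obtain ⟨x, rfl⟩ := Ideal.Quotient.mk_surjective x
    rw [← map_mul, Ideal.Quotient.eq_zero_iff_mem] at hx
    rw [Ideal.Quotient.eq_zero_iff_mem, ← hJf, Submodule.mem_colon_singleton]
    exact hx
  exact Set.disjoint_left.mp (Ideal.disjoint_nonZeroDivisors_of_mem_minimalPrimes hq') h1 h2

end general

section height
variable (K : Type u) [Field K] (n : ℕ)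

local notation "R" => MvPolynomial (Fin (n + 1)) K

/-- a minimal prime of `J + fR` has height `h + 1` when all minimal primes of `J` have height
`h` and `f` is regular modulo `J`. -/
theorem height_eq_succ_of_mem_minimalPrimes_sup (J : Ideal R) (f : R) (hJf : J.colon {f} = J)
    (h : ℕ) (hq : ∀ q ∈ J.minimalPrimes, q.height = h) {p : Ideal R}
    (hp : p ∈ (J ⊔ Ideal.span {f}).minimalPrimes) : p.height = h + 1 := by
  haveI hpp : p.IsPrime := hp.1.1
  have hJp : J ≤ p := le_sup_left.trans hp.1.2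
  have hfp : f ∈ p := hp.1.2 (Ideal.mem_sup_right (Ideal.mem_span_singleton_self f))
  obtain ⟨q, hqm, hqp⟩ := Ideal.exists_minimalPrimes_le hJp
  haveI hqq : q.IsPrime := hqm.1.1
  have hfq : f ∉ q := notMem_of_mem_minimalPrimes J f hJf hqm
  have hqh := hq q hqm
  -- `p` is minimal over `q + fR`
  have hp' : p ∈ (Ideal.span {f} ⊔ q).minimalPrimes := by
    refine ⟨⟨hpp, sup_le ((Ideal.span_singleton_le_iff_mem _).mpr hfp) hqp⟩, ?_⟩
    rintro p₂ ⟨hp₂, hle⟩ hp₂p
    exact hp.2 ⟨hp₂, sup_le (hqm.1.2.trans (le_sup_right.trans hle)) (le_sup_left.trans hle)⟩ hp₂p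
  set p' : Ideal (R ⧸ q) := p.map (Ideal.Quotient.mk q) with hp'def
  have hp'min : p' ∈ (Ideal.span {Ideal.Quotient.mk q f}).minimalPrimes := by
    have := Ideal.minimalPrimes_map_of_surjective (f := Ideal.Quotient.mk q)
      Ideal.Quotient.mk_surjective (Ideal.span {f})
    rw [Ideal.map_span, Set.image_singleton, Ideal.mk_ker] at this
    rw [this]
    exact ⟨p, hp', rfl⟩
  haveI hp'p : p'.IsPrime := hp'min.1.1
  haveI : IsDomain (R ⧸ q) := Ideal.Quotient.isDomain q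
  have h1 : p'.height ≤ 1 :=
    Ideal.height_le_one_of_isPrincipal_of_mem_minimalPrimes _ p' hp'min
  have h2 : p'.height ≠ 0 := by
    rw [Ne, Ideal.height_eq_zero_iff_eq_bot]
    intro hbot
    have : Ideal.Quotient.mk q f ∈ p' := Ideal.mem_map_of_mem _ hfp
    rw [hbot, Ideal.mem_bot, Ideal.Quotient.eq_zero_iff_mem] at this
    exact hfq this
  have h3 : p'.height = 1 := le_antisymm h1 (Order.one_le_iff_pos.mpr (pos_iff_ne_zero.mpr h2))
  have e1 := Groth.Agent.H2.DimFG.height_add_ringKrullDim_quotient K (R ⧸ q) p'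
  have e2 := Groth.Agent.H2.DimFG.height_add_ringKrullDim_quotient K R q
  have e3 := Groth.Agent.H2.DimFG.height_add_ringKrullDim_quotient K R p
  rw [Groth.Agent.H2.DimFG.ringKrullDim_mvPolynomial_fin] at e2 e3
  rw [ringKrullDim_eq_of_ringEquiv (DoubleQuot.quotQuotEquivQuotOfLE hqp), h3] at e1
  rw [hqh, ← e1] at e2
  have e4 : ((((h + 1 : ℕ) : ℕ∞)) : WithBot ℕ∞) + ringKrullDim (R ⧸ p) = ((n + 1 : ℕ) : WithBot ℕ∞) := by
    rw [← e2]
    push_cast
    rw [add_assoc]
  have e5 : ((p.height : ℕ∞) : WithBot ℕ∞) + ringKrullDim (R ⧸ p) = ((n + 1 : ℕ) : WithBot ℕ∞) := by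
    rw [e3]
  have := withBot_cancel e5 e4
  rw [this]
  push_cast
  rfl

end height

section bdl
variable {R : Type u} [CommRing R] (J I : Ideal R) (f : R)

theorem bdl_le_sup : J ⊔ Ideal.span {f} * I ≤ J ⊔ Ideal.span {f} :=
  sup_le_sup_left Ideal.mul_le_left J

theorem bdl_le_comap :
    I ≤ Submodule.comap (LinearMap.lsmul R R f) (J ⊔ Ideal.span {f} * I) := by
  intro r hr
  rw [Submodule.mem_comap]
  apply Ideal.mem_sup_right
  rw [Ideal.mem_span_singleton_mul]
  exact ⟨r, hr, rfl⟩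

/-- multiplication by `f`, `R/I → R/(J + fI)` -/
noncomputable def bdlφ : (R ⧸ I) →ₗ[R] (R ⧸ (J ⊔ Ideal.span {f} * I)) :=
  Submodule.mapQ I (J ⊔ Ideal.span {f} * I) (LinearMap.lsmul R R f) (bdl_le_comap J I f)

/-- the projection `R/(J + fI) → R/(J + fR)` -/
noncomputable def bdlψ : (R ⧸ (J ⊔ Ideal.span {f} * I)) →ₗ[R] (R ⧸ (J ⊔ Ideal.span {f})) :=
  Submodule.factor (bdl_le_sup J I f)

theorem bdlφ_mk (r : R) : bdlφ J I f (Ideal.Quotient.mk I r) =
    Ideal.Quotient.mk (J ⊔ Ideal.span {f} * I) (f * r) := rfl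

theorem bdlψ_mk (r : R) : bdlψ J I f (Ideal.Quotient.mk _ r) =
    Ideal.Quotient.mk (J ⊔ Ideal.span {f}) r := rfl

theorem bdlψ_surjective : Function.Surjective (bdlψ J I f) := by
  intro y
  obtain ⟨r, rfl⟩ := Ideal.Quotient.mk_surjective y
  exact ⟨Ideal.Quotient.mk _ r, rfl⟩

theorem bdlφ_injective (hJI : J ≤ I) (hJf : J.colon {f} = J) :
    Function.Injective (bdlφ J I f) := by
  rw [injective_iff_map_eq_zero]
  intro x hx
  obtain ⟨r, rfl⟩ := Ideal.Quotient.mk_surjective x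
  rw [bdlφ_mk, Ideal.Quotient.eq_zero_iff_mem] at hx
  rw [Ideal.Quotient.eq_zero_iff_mem]
  obtain ⟨j, hj, y, hy, hjy⟩ := Submodule.mem_sup.mp hx
  obtain ⟨z, hz, rfl⟩ := Ideal.mem_span_singleton_mul.mp hy
  have h1 : r - z ∈ J := by
    rw [← hJf, Submodule.mem_colon_singleton, smul_eq_mul]
    have : (r - z) * f = j := by rw [← eq_sub_iff_add_eq] at hjy; rw [hjy]; ring
    rw [this]
    exact hj
  have : r = (r - z) + z := by ring
  rw [this]
  exact I.add_mem (hJI h1) hz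

theorem bdl_exact : Function.Exact (bdlφ J I f) (bdlψ J I f) := by
  intro y
  obtain ⟨r, rfl⟩ := Ideal.Quotient.mk_surjective y
  rw [bdlψ_mk, Ideal.Quotient.eq_zero_iff_mem]
  constructor
  · intro h
    obtain ⟨j, hj, y, hy, rfl⟩ := Submodule.mem_sup.mp h
    obtain ⟨z, rfl⟩ := Ideal.mem_span_singleton'.mp hy
    refine ⟨Ideal.Quotient.mk I z, ?_⟩
    rw [bdlφ_mk, Ideal.Quotient.mk_eq_mk_iff_sub_mem]
    have : f * z - (j + z * f) = -j := by ring
    rw [this]
    exact Ideal.mem_sup_left (J.neg_mem hj)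
  · rintro ⟨x, hx⟩
    obtain ⟨z, rfl⟩ := Ideal.Quotient.mk_surjective x
    rw [bdlφ_mk, Ideal.Quotient.mk_eq_mk_iff_sub_mem] at hx
    have h1 : f * z ∈ J ⊔ Ideal.span {f} :=
      Ideal.mem_sup_right (Ideal.mem_span_singleton'.mpr ⟨z, mul_comm z f⟩)
    have h2 := bdl_le_sup J I f hx
    have : r = f * z - (f * z - r) := by ring
    rw [this]
    exact (J ⊔ Ideal.span {f}).sub_mem h1 h2

end bdl

end Groth.Agent.H6.Liai
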