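import Mathlib
import Groth.Agent.Lib.Helper6.Liai4
import Groth.Agent.Lib.Helper6.LCMaxLoc

universe u
set_option linter.style.haveILetI false
open scoped Pointwise
open CategoryTheory

namespace Groth.Agent.H6.Liai

section vanish
variable (K : Type u) [Field K] (n : ℕ)

local notation "R" => MvPolynomial (Fin (n + 1)) K
local notation "𝔪" => HomogeneousIdeal.toIdeal (GrSyz.irrel (GrSyz.stdGr K (Fin (n + 1))))

/-- depth of a homogeneous CM quotient: `H^j_𝔪(R/𝔠) = 0` for `j < n + 1 - ht 𝔠`. -/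
theorem subsingleton_H_irrel (𝔠 : Ideal R) (h𝔠 : 𝔠.IsHomogeneous (GrSyz.stdGr K (Fin (n + 1))))
    [hcm : LocCoh.IsCohenMacaulayRing (R ⧸ 𝔠)] (c : ℕ)
    (hc : ∀ P ∈ associatedPrimes R (R ⧸ 𝔠), P.height = c) (j : ℕ) (hj : j + c < n + 1) :
    Subsingleton (LocCoh.H 𝔪 j (R ⧸ 𝔠)) := by
  by_cases htop : 𝔠 = ⊤
  · haveI : Subsingleton (R ⧸ 𝔠) := by
      rw [htop]
      exact Ideal.Quotient.subsingleton_iff.mpr rfl
    exact LC.subsingleton_of_subsingleton _ _ _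
  haveI : Nontrivial (R ⧸ 𝔠) := Ideal.Quotient.nontrivial_iff.mpr htop
  obtain ⟨P, hP⟩ := associatedPrimes.nonempty R (R ⧸ 𝔠)
  obtain ⟨hmin, hle⟩ := mem_minimalPrimes_and_le_irrel K n 𝔠 h𝔠 hP
  have h𝔠𝔪 : 𝔠 ≤ 𝔪 := hmin.1.2.trans hle
  set 𝔫 : Ideal (R ⧸ 𝔠) := Ideal.map (Ideal.Quotient.mk 𝔠) 𝔪 with h𝔫def
  haveI h𝔫max : 𝔫.IsMaximal := by
    refine Ideal.IsMaximal.map_of_surjective_of_ker_le Ideal.Quotient.mk_surjective ?_
    rwa [Ideal.mk_ker]
  have hdim := (height_add_dim K n 𝔠 h𝔠 𝔫 rfl hP).1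
  rw [hc P hP] at hdim
  have hcomap : 𝔫.comap (algebraMap R (R ⧸ 𝔠)) = 𝔪 := by
    change (Ideal.map (Ideal.Quotient.mk 𝔠) 𝔪).comap (Ideal.Quotient.mk 𝔠) = 𝔪
    rw [Ideal.comap_map_of_surjective _ Ideal.Quotient.mk_surjective, ← RingHom.ker_eq_comap_bot,
      Ideal.mk_ker, sup_eq_left.mpr h𝔠𝔪]
  -- work with `p := comap 𝔫`
  suffices hs : ∀ (p : Ideal R) [p.IsMaximal], p = 𝔫.comap (algebraMap R (R ⧸ 𝔠)) →
      Subsingleton (LocCoh.H p j (R ⧸ 𝔠)) by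
    exact hs 𝔪 hcomap.symm
  intro p hpmax hp
  subst hp
  rw [MaxLoc.subsingleton_iff]
  have hcmloc := hcm.isCohenMacaulayLocalRing_localization 𝔫
  obtain ⟨hd1, hd2⟩ := SkSurj.depth_and_dim_comap (A := R) (C := R ⧸ 𝔠)
    Ideal.Quotient.mk_surjective (R ⧸ 𝔠) 𝔫
  have h2 : LocCoh.depth (Localization.AtPrime 𝔫) (LocalizedModule 𝔫.primeCompl (R ⧸ 𝔠)) =
      LocCoh.depth (Localization.AtPrime 𝔫) (Localization.AtPrime 𝔫) :=
    CM.idealDepth_eq_of_linearEquiv _ (locSelf 𝔫)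
  have h3 := hcmloc.supportDim_eq_depth
  rw [Module.supportDim_self_eq_ringKrullDim] at h3
  rw [h3, ← h2, hd1] at hdim
  haveI : IsNoetherianRing (Localization.AtPrime (𝔫.comap (algebraMap R (R ⧸ 𝔠)))) :=
    IsLocalization.isNoetherianRing (𝔫.comap (algebraMap R (R ⧸ 𝔠))).primeCompl _ inferInstance
  haveI : Module.Finite (Localization.AtPrime (𝔫.comap (algebraMap R (R ⧸ 𝔠))))
      (LocalizedModule (𝔫.comap (algebraMap R (R ⧸ 𝔠))).primeCompl (R ⧸ 𝔠)) :=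
    Module.Finite.of_isLocalizedModule (𝔫.comap (algebraMap R (R ⧸ 𝔠))).primeCompl
      (LocalizedModule.mkLinearMap _ (R ⧸ 𝔠))
  refine (Depth.le_idealDepth_iff _ _ (j + 1)).mp ?_ j (Nat.lt_succ_self j)
  change ((j + 1 : ℕ) : ℕ∞) ≤ LocCoh.depth _ _
  generalize LocCoh.depth (Localization.AtPrime (𝔫.comap (algebraMap R (R ⧸ 𝔠))))
      (LocalizedModule (𝔫.comap (algebraMap R (R ⧸ 𝔠))).primeCompl (R ⧸ 𝔠)) = D at hdim ⊢
  have h4 : ((c : ℕ∞) + D : ℕ∞) = ((n + 1 : ℕ) : ℕ∞) := by exact_mod_cast hdim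
  have hD : D ≠ ⊤ := by
    rintro rfl
    rw [add_top] at h4
    exact ENat.top_ne_coe _ h4
  lift D to ℕ using hD
  have h5 : c + D = n + 1 := by exact_mod_cast h4
  have : j + 1 ≤ D := by omega
  exact_mod_cast this

end vanish

section les
variable {R : Type u} [CommRing R]
variable {N₁ N₂ N₃ : Type u} [AddCommGroup N₁] [Module R N₁] [AddCommGroup N₂] [Module R N₂]
  [AddCommGroup N₃] [Module R N₃] (f : N₁ →ₗ[R] N₂) (g : N₂ →ₗ[R] N₃)

theorem nonempty_equiv_of_subsingleton (I : Ideal R) (i : ℕ) (hf : Function.Injective f)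
    (hg : Function.Surjective g) (hex : Function.Exact f g)
    (h3 : Subsingleton (LocCoh.H I i N₃))
    (h3' : ∀ k, k + 1 = i → Subsingleton (LocCoh.H I k N₃)) :
    Nonempty (LocCoh.H I i N₁ ≃ₗ[R] LocCoh.H I i N₂) := by
  obtain ⟨w, hS⟩ := Depth.shortExact_mk f g hf hg hex
  refine ⟨LinearEquiv.ofBijective ((localCohomology I i).map (ModuleCat.ofHom f)).hom ⟨?_, ?_⟩⟩
  · rw [injective_iff_map_eq_zero]
    intro x hx
    cases i with
    | zero =>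
      apply LC.zeroToSelf_injective (ModuleCat.of R N₁)
      rw [map_zero]
      apply hf
      have := LC.zeroToSelf_naturality (I := I) (ModuleCat.ofHom f) x
      rw [map_zero]
      rw [hx, map_zero] at this
      exact this.symm
    | succ k =>
      obtain ⟨z, rfl⟩ := LC.exact₁ hS x hx
      rw [Subsingleton.elim (h := h3' k rfl) z 0, map_zero]
  · intro y
    exact LC.exact₂ hS y (Subsingleton.elim (h := h3) _ _)

end les

end Groth.Agent.H6.Liai
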