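import Mathlib
set_option autoImplicit false
universe u v

namespace Groth.Agent.H6.Lie3

variable {A : Type u} [CommRing A] {L : Type v} [LieRing L] [LieAlgebra A L]
  (bs : Module.Basis (Fin 3) A L)

/-- expansion in the basis -/
lemma expand (w : L) : w = bs.repr w 0 • bs 0 + bs.repr w 1 • bs 1 + bs.repr w 2 • bs 2 := by
  conv_lhs => rw [← bs.sum_repr w, Fin.sum_univ_three]

/-- coordinates of a combination -/
lemma repr_comb (a b c : A) (i : Fin 3) :
    bs.repr (a • bs 0 + b • bs 1 + c • bs 2) i = ![a, b, c] i := by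
  simp only [map_add, map_smul, Module.Basis.repr_self, Finsupp.smul_single, smul_eq_mul, mul_one,
    Finsupp.coe_add, Pi.add_apply]
  fin_cases i <;> simp [Finsupp.single_apply]

/-- general bracket for structure constants `[x,y] = α y + β z`, `[x,z] = γ y + δ z`, `[y,z] = 0`. -/
lemma bracket_comb (α β γ δ : A)
    (hxy : ⁅bs 0, bs 1⁆ = α • bs 1 + β • bs 2) (hxz : ⁅bs 0, bs 2⁆ = γ • bs 1 + δ • bs 2)
    (hyz : ⁅bs 1, bs 2⁆ = 0) (a1 a2 a3 b1 b2 b3 : A) :
    ⁅a1 • bs 0 + a2 • bs 1 + a3 • bs 2, b1 • bs 0 + b2 • bs 1 + b3 • bs 2⁆ =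
      (0 : A) • bs 0 + ((a1 * b2 - a2 * b1) * α + (a1 * b3 - a3 * b1) * γ) • bs 1 +
        ((a1 * b2 - a2 * b1) * β + (a1 * b3 - a3 * b1) * δ) • bs 2 := by
  have hyx : ⁅bs 1, bs 0⁆ = -(α • bs 1 + β • bs 2) := by rw [← lie_skew, hxy]
  have hzx : ⁅bs 2, bs 0⁆ = -(γ • bs 1 + δ • bs 2) := by rw [← lie_skew, hxz]
  have hzy : ⁅bs 2, bs 1⁆ = 0 := by rw [← lie_skew, hyz, neg_zero]
  simp only [lie_add, add_lie, lie_smul, smul_lie, lie_self, hxy, hxz, hyz, hyx, hzx, hzy]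
  module


/-- coordinates of the image of an automorphism: equations. Setting: `φ(bs j) = Σ M i j bs i`. -/
lemma coords (α β γ δ : A)
    (hxy : ⁅bs 0, bs 1⁆ = α • bs 1 + β • bs 2) (hxz : ⁅bs 0, bs 2⁆ = γ • bs 1 + δ • bs 2)
    (hyz : ⁅bs 1, bs 2⁆ = 0) (φ : L ≃ₗ⁅A⁆ L) (j k : Fin 3) (i : Fin 3) :
    bs.repr (φ ⁅bs j, bs k⁆) i =
      ![0, ((bs.repr (φ (bs j)) 0 * bs.repr (φ (bs k)) 1 - bs.repr (φ (bs j)) 1 * bs.repr (φ (bs k)) 0) * α +
          (bs.repr (φ (bs j)) 0 * bs.repr (φ (bs k)) 2 - bs.repr (φ (bs j)) 2 * bs.repr (φ (bs k)) 0) * γ),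
        ((bs.repr (φ (bs j)) 0 * bs.repr (φ (bs k)) 1 - bs.repr (φ (bs j)) 1 * bs.repr (φ (bs k)) 0) * β +
          (bs.repr (φ (bs j)) 0 * bs.repr (φ (bs k)) 2 - bs.repr (φ (bs j)) 2 * bs.repr (φ (bs k)) 0) * δ)] i := by
  rw [LieEquiv.map_lie]
  conv_lhs => rw [expand bs (φ (bs j)), expand bs (φ (bs k))]
  rw [bracket_comb bs α β γ δ hxy hxz hyz, repr_comb]

lemma det_unit (φ : L ≃ₗ⁅A⁆ L) :
    IsUnit (Matrix.det (Matrix.of fun i j : Fin 3 => bs.repr (φ (bs j)) i)) := by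
  have := LinearEquiv.isUnit_det (φ : L ≃ₗ[A] L) bs bs
  convert this using 2
  ext i j
  rw [LinearMap.toMatrix_apply]
  rfl

/-- S13101 -/
theorem main1 (h2 : IsUnit (2 : A))
    (hxy : ⁅bs 0, bs 1⁆ = bs 1) (hxz : ⁅bs 0, bs 2⁆ = bs 1 + bs 2) (hyz : ⁅bs 1, bs 2⁆ = 0)
    (φ : L ≃ₗ⁅A⁆ L) :
    ∃ b c h i : A, IsUnit i ∧ φ (bs 0) = bs 0 + b • bs 1 + c • bs 2 ∧ φ (bs 1) = i • bs 1 ∧
      φ (bs 2) = h • bs 1 + i • bs 2 := by
  have hxy' : ⁅bs 0, bs 1⁆ = (1 : A) • bs 1 + (0 : A) • bs 2 := by rw [hxy]; module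
  have hxz' : ⁅bs 0, bs 2⁆ = (1 : A) • bs 1 + (1 : A) • bs 2 := by rw [hxz]; module
  have C := coords bs 1 0 1 1 hxy' hxz' hyz φ
  set x1 := bs.repr (φ (bs 0)) 0 with hx1
  set x2 := bs.repr (φ (bs 0)) 1 with hx2
  set x3 := bs.repr (φ (bs 0)) 2 with hx3
  set y1 := bs.repr (φ (bs 1)) 0 with hy1
  set y2 := bs.repr (φ (bs 1)) 1 with hy2
  set y3 := bs.repr (φ (bs 1)) 2 with hy3
  set z1 := bs.repr (φ (bs 2)) 0 with hz1
  set z2 := bs.repr (φ (bs 2)) 1 with hz2
  set z3 := bs.repr (φ (bs 2)) 2 with hz3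
  -- equations from [x,y] = y
  have e01 := fun i => C 0 1 i
  rw [hxy] at e01
  have e02 := fun i => C 0 2 i
  rw [hxz, map_add, map_add] at e02
  have hy1z : y1 = 0 := by simpa using e01 0
  have hz1z : z1 = 0 := by
    have := e02 0
    simp only [Finsupp.coe_add, Pi.add_apply, Matrix.cons_val_zero] at this
    rw [← hy1, ← hz1, hy1z, zero_add] at this
    exact this
  have ea : y2 = (x1 * y2 - x2 * y1) * 1 + (x1 * y3 - x3 * y1) * 1 := by simpa using e01 1
  have eb : y3 = (x1 * y2 - x2 * y1) * 0 + (x1 * y3 - x3 * y1) * 1 := by simpa using e01 2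
  have ec : y2 + z2 = (x1 * z2 - x2 * z1) * 1 + (x1 * z3 - x3 * z1) * 1 := by simpa using e02 1
  have ed : y3 + z3 = (x1 * z2 - x2 * z1) * 0 + (x1 * z3 - x3 * z1) * 1 := by simpa using e02 2
  rw [hy1z] at ea eb
  rw [hz1z] at ec ed
  -- determinant
  have hdet := det_unit bs φ
  rw [Matrix.det_fin_three] at hdet
  simp only [Matrix.of_apply] at hdet
  rw [← hx1, ← hy1, ← hz1, ← hy2, ← hy3, ← hz2, ← hz3, ← hx2, ← hx3, hy1z, hz1z] at hdet
  have hdet' : IsUnit (x1 * (y2 * z3 - z2 * y3)) := by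
    convert hdet using 1; ring
  have hD : IsUnit (y2 * z3 - z2 * y3) := isUnit_of_mul_isUnit_right hdet'
  obtain ⟨Dinv, hDinv⟩ := hD.exists_right_inv
  obtain ⟨t, ht⟩ := h2.exists_right_inv
  -- u = x1 - 1
  set uu := x1 - 1 with huu
  have hx1' : x1 = uu + 1 := by rw [huu]; ring
  rw [hx1'] at ea eb ec ed
  have hb : uu * y3 = 0 := by linear_combination -eb
  have ha : uu * y2 = -y3 := by linear_combination -ea - hb
  have hd : uu * z3 = y3 := by linear_combination -ed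
  have hc : y2 = uu * z2 + z3 + y3 := by linear_combination ec - ed
  have hu3 : uu ^ 3 = 0 := by
    have h1 : uu ^ 3 * (y2 * z3 - z2 * y3) = 0 := by
      linear_combination (uu ^ 2 * z3) * ha - (uu * z3 + uu ^ 2 * z2) * hb
    have := congrArg (· * Dinv) h1
    simp only [zero_mul] at this
    rw [mul_assoc, hDinv, mul_one] at this
    exact this
  have huz : uu * z3 ^ 2 = 0 := by
    -- u (D + z3^2) = 0 and D + z3^2 = z3^2 (2 + u)
    have h1 : uu * z3 ^ 2 * (2 + uu) = 0 := by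
      linear_combination z3 * ha - z2 * hb + (z3 + uu * z3 - uu * z2) * hd - (uu * z3) * hc
    have h2' : uu * z3 ^ 2 * 8 = 0 := by
      have : uu * z3 ^ 2 * 8 = uu * z3 ^ 2 * (2 + uu) * (4 - 2 * uu + uu ^ 2) - z3 ^ 2 * uu * uu ^ 3 := by ring
      rw [this, h1, hu3]; ring
    have h8 : (8 : A) * t ^ 3 = 1 := by
      have : (8 : A) * t ^ 3 = (2 * t) ^ 3 := by ring
      rw [this, ht, one_pow]
    calc uu * z3 ^ 2 = uu * z3 ^ 2 * (8 * t ^ 3) := by rw [h8, mul_one]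
      _ = (uu * z3 ^ 2 * 8) * t ^ 3 := by ring
      _ = 0 := by rw [h2', zero_mul]
  have hu0 : uu = 0 := by
    have h1 : uu * (y2 * z3 - z2 * y3) = 0 := by
      linear_combination z3 * ha - z2 * hb + z3 * hd - huz
    have := congrArg (· * Dinv) h1
    simp only [zero_mul] at this
    rw [mul_assoc, hDinv, mul_one] at this
    exact this
  have hy3z : y3 = 0 := by rw [← hd, hu0, zero_mul]
  have hy2z : y2 = z3 := by rw [hc, hu0, hy3z]; ring
  have hx1one : x1 = 1 := by rw [hx1', hu0, zero_add]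
  refine ⟨x2, x3, z2, z3, ?_, ?_, ?_, ?_⟩
  · have : IsUnit (z3 * z3) := by
      have h := isUnit_of_mul_isUnit_right hdet'
      rw [hy2z, hy3z, mul_zero, sub_zero] at h
      exact h
    exact isUnit_of_mul_isUnit_left this
  · conv_lhs => rw [expand bs (φ (bs 0))]
    rw [← hx1, ← hx2, ← hx3, hx1one, one_smul]
  · conv_lhs => rw [expand bs (φ (bs 1))]
    rw [← hy1, ← hy2, ← hy3, hy1z, hy3z, hy2z]
    module
  · conv_lhs => rw [expand bs (φ (bs 2))]
    rw [← hz1, ← hz2, ← hz3, hz1z]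
    module


/-- common set-up for brackets `[x,y] = y`, `[x,z] = a z`, `[y,z] = 0`. -/
lemma eqs (a : A) (hxy : ⁅bs 0, bs 1⁆ = bs 1) (hxz : ⁅bs 0, bs 2⁆ = a • bs 2) (hyz : ⁅bs 1, bs 2⁆ = 0)
    (φ : L ≃ₗ⁅A⁆ L) :
    let x1 := bs.repr (φ (bs 0)) 0; let x2 := bs.repr (φ (bs 0)) 1; let x3 := bs.repr (φ (bs 0)) 2
    let y1 := bs.repr (φ (bs 1)) 0; let y2 := bs.repr (φ (bs 1)) 1; let y3 := bs.repr (φ (bs 1)) 2
    let z1 := bs.repr (φ (bs 2)) 0; let z2 := bs.repr (φ (bs 2)) 1; let z3 := bs.repr (φ (bs 2)) 2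
    y1 = 0 ∧ x1 * y2 = y2 ∧ a * (x1 * y3) = y3 ∧ a * z1 = 0 ∧ x1 * z2 - x2 * z1 = a * z2 ∧
      a * (x1 * z3 - x3 * z1) = a * z3 ∧ y2 * z1 = 0 ∧ a * (y3 * z1) = 0 ∧
      IsUnit (x1 * (y2 * z3 - y3 * z2) + z1 * (x2 * y3 - x3 * y2)) := by
  intro x1 x2 x3 y1 y2 y3 z1 z2 z3
  have hxy' : ⁅bs 0, bs 1⁆ = (1 : A) • bs 1 + (0 : A) • bs 2 := by rw [hxy]; module
  have hxz' : ⁅bs 0, bs 2⁆ = (0 : A) • bs 1 + a • bs 2 := by rw [hxz]; module
  have C := coords bs 1 0 0 a hxy' hxz' hyz φ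
  have e01 := fun i => C 0 1 i
  rw [hxy] at e01
  have e02 := fun i => C 0 2 i
  rw [hxz, map_smul, map_smul] at e02
  have e12 := fun i => C 1 2 i
  rw [hyz, map_zero, map_zero] at e12
  have hy1z : y1 = 0 := by simpa using e01 0
  have h1 : y2 = (x1 * y2 - x2 * y1) * 1 + (x1 * y3 - x3 * y1) * 0 := by simpa using e01 1
  have h2 : y3 = (x1 * y2 - x2 * y1) * 0 + (x1 * y3 - x3 * y1) * a := by simpa using e01 2
  have h3 : a * z1 = 0 := by simpa using e02 0
  have h4 : a * z2 = (x1 * z2 - x2 * z1) * 1 + (x1 * z3 - x3 * z1) * 0 := by simpa using e02 1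
  have h5 : a * z3 = (x1 * z2 - x2 * z1) * 0 + (x1 * z3 - x3 * z1) * a := by simpa using e02 2
  have h6 : 0 = (y1 * z2 - y2 * z1) * 1 + (y1 * z3 - y3 * z1) * 0 := by simpa using e12 1
  have h7 : 0 = (y1 * z2 - y2 * z1) * 0 + (y1 * z3 - y3 * z1) * a := by simpa using e12 2
  have hdet := det_unit bs φ
  rw [Matrix.det_fin_three] at hdet
  simp only [Matrix.of_apply] at hdet
  rw [hy1z] at h1 h2 h6 h7
  refine ⟨hy1z, ?_, ?_, h3, ?_, ?_, ?_, ?_, ?_⟩
  · linear_combination -h1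
  · linear_combination -h2
  · linear_combination -h4
  · linear_combination -h5
  · linear_combination h6
  · linear_combination h7
  · convert hdet using 1
    show x1 * (y2 * z3 - y3 * z2) + z1 * (x2 * y3 - x3 * y2) =
      x1 * y2 * z3 - x1 * z2 * y3 - y1 * x2 * z3 + y1 * z2 * x3 + z1 * x2 * y3 - z1 * y2 * x3
    rw [hy1z]; ring


theorem main2 (K : Type*) [Field K] (α : K) [Algebra K A]
    (hxy : ⁅bs 0, bs 1⁆ = bs 1) (hxz : ⁅bs 0, bs 2⁆ = algebraMap K A α • bs 2) (hyz : ⁅bs 1, bs 2⁆ = 0)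
    (φ : L ≃ₗ⁅A⁆ L) :
    (α ^ 2 ≠ 1 → ∃ b c e i : A, IsUnit e ∧ IsUnit i ∧ φ (bs 0) = bs 0 + b • bs 1 + c • bs 2 ∧
        φ (bs 1) = e • bs 1 ∧ φ (bs 2) = i • bs 2) ∧
    (α = 1 → ∃ b c e f h i : A, IsUnit (e * i - f * h) ∧ φ (bs 0) = bs 0 + b • bs 1 + c • bs 2 ∧
        φ (bs 1) = e • bs 1 + f • bs 2 ∧ φ (bs 2) = h • bs 1 + i • bs 2) := by
  obtain ⟨hy1, e1, e2, e3, e4, e5, e6, e7, hdet⟩ := eqs bs (algebraMap K A α) hxy hxz hyz φ
  set a := algebraMap K A α with ha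
  set x1 := bs.repr (φ (bs 0)) 0 with hx1
  set x2 := bs.repr (φ (bs 0)) 1 with hx2
  set x3 := bs.repr (φ (bs 0)) 2 with hx3
  set y1 := bs.repr (φ (bs 1)) 0 with hy1d
  set y2 := bs.repr (φ (bs 1)) 1 with hy2
  set y3 := bs.repr (φ (bs 1)) 2 with hy3
  set z1 := bs.repr (φ (bs 2)) 0 with hz1
  set z2 := bs.repr (φ (bs 2)) 1 with hz2
  set z3 := bs.repr (φ (bs 2)) 2 with hz3
  have Ex := expand bs (φ (bs 0))
  have Ey := expand bs (φ (bs 1))
  have Ez := expand bs (φ (bs 2))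
  rw [← hx1, ← hx2, ← hx3] at Ex
  rw [← hy1d, ← hy2, ← hy3] at Ey
  rw [← hz1, ← hz2, ← hz3] at Ez
  constructor
  · intro hα
    -- 1 - α^2 is a unit
    have hunit : IsUnit (1 - a ^ 2) := by
      have : (1 - α ^ 2) ≠ 0 := sub_ne_zero.mpr (Ne.symm hα)
      have := (this.isUnit).map (algebraMap K A)
      simpa [ha] using this
    have hα1 : IsUnit (a - 1) := by
      have h : (α - 1) ≠ 0 := by
        intro h0
        apply hα
        have : α = 1 := sub_eq_zero.mp h0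
        rw [this, one_pow]
      have := (h.isUnit).map (algebraMap K A)
      simpa [ha] using this
    by_cases hα0 : α = 0
    · have ha0 : a = 0 := by rw [ha, hα0, map_zero]
      rw [ha0] at e2 e4
      have hy3z : y3 = 0 := by linear_combination -e2
      rw [hy3z] at hdet
      have hdet' : IsUnit (y2 * (x1 * z3 - z1 * x3)) := by convert hdet using 1; ring
      have hy2u : IsUnit y2 := isUnit_of_mul_isUnit_left hdet'
      obtain ⟨y2i, hy2i⟩ := hy2u.exists_left_inv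
      have hz1z : z1 = 0 := by
        calc z1 = (y2i * y2) * z1 := by rw [hy2i, one_mul]
          _ = y2i * (y2 * z1) := by ring
          _ = 0 := by rw [e6, mul_zero]
      rw [hz1z] at hdet' e4
      have hdet'' : IsUnit (x1 * (y2 * z3)) := by convert hdet' using 1; ring
      have hx1u : IsUnit x1 := isUnit_of_mul_isUnit_left hdet''
      have hz3u : IsUnit z3 := isUnit_of_mul_isUnit_right (isUnit_of_mul_isUnit_right hdet'')
      obtain ⟨x1i, hx1i⟩ := hx1u.exists_left_inv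
      have hz2z : z2 = 0 := by
        have : x1 * z2 = 0 := by linear_combination e4
        calc z2 = (x1i * x1) * z2 := by rw [hx1i, one_mul]
          _ = x1i * (x1 * z2) := by ring
          _ = 0 := by rw [this, mul_zero]
      have hx1one : x1 = 1 := by
        have : (x1 - 1) * y2 = 0 := by linear_combination e1
        have h2 : (x1 - 1) = 0 := by
          calc (x1 - 1) = (x1 - 1) * (y2 * y2i) := by rw [mul_comm y2 y2i, hy2i, mul_one]
            _ = ((x1 - 1) * y2) * y2i := by ring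
            _ = 0 := by rw [this, zero_mul]
        exact sub_eq_zero.mp h2
      refine ⟨x2, x3, y2, z3, hy2u, hz3u, ?_, ?_, ?_⟩
      · rw [Ex, hx1one, one_smul]
      · rw [Ey, hy1, hy3z]; module
      · rw [Ez, hz1z, hz2z]; module
    · have hau : IsUnit a := by
        have := (Ne.isUnit hα0).map (algebraMap K A)
        simpa [ha] using this
      obtain ⟨ai, hai⟩ := hau.exists_left_inv
      have hz1z : z1 = 0 := by
        calc z1 = (ai * a) * z1 := by rw [hai, one_mul]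
          _ = ai * (a * z1) := by ring
          _ = 0 := by rw [e3, mul_zero]
      rw [hz1z] at hdet e4 e5
      have hdet' : IsUnit (x1 * (y2 * z3 - y3 * z2)) := by convert hdet using 1; ring
      have hx1u : IsUnit x1 := isUnit_of_mul_isUnit_left hdet'
      have hDu : IsUnit (y2 * z3 - y3 * z2) := isUnit_of_mul_isUnit_right hdet'
      -- (x1 - 1) z3 = 0
      have e5' : (x1 - 1) * z3 = 0 := by
        have : a * ((x1 - 1) * z3) = 0 := by linear_combination e5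
        calc (x1 - 1) * z3 = (ai * a) * ((x1 - 1) * z3) := by rw [hai, one_mul]
          _ = ai * (a * ((x1 - 1) * z3)) := by ring
          _ = 0 := by rw [this, mul_zero]
      -- w = y3 z2 = 0
      have hw : y3 * z2 = 0 := by
        have h1 : (1 - a ^ 2) * (y3 * z2) = 0 := by
          linear_combination (-z2) * e2 + (a * y3) * e4
        obtain ⟨ui, hui⟩ := hunit.exists_left_inv
        calc y3 * z2 = (ui * (1 - a ^ 2)) * (y3 * z2) := by rw [hui, one_mul]
          _ = ui * ((1 - a ^ 2) * (y3 * z2)) := by ring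
          _ = 0 := by rw [h1, mul_zero]
      rw [hw, sub_zero] at hDu
      have hy2u : IsUnit y2 := isUnit_of_mul_isUnit_left hDu
      have hz3u : IsUnit z3 := isUnit_of_mul_isUnit_right hDu
      obtain ⟨y2i, hy2i⟩ := hy2u.exists_left_inv
      have hx1one : x1 = 1 := by
        have : (x1 - 1) * y2 = 0 := by linear_combination e1
        have h2 : (x1 - 1) = 0 := by
          calc (x1 - 1) = (x1 - 1) * (y2 * y2i) := by rw [mul_comm y2 y2i, hy2i, mul_one]
            _ = ((x1 - 1) * y2) * y2i := by ring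
            _ = 0 := by rw [this, zero_mul]
        exact sub_eq_zero.mp h2
      rw [hx1one] at e2 e4
      obtain ⟨bi, hbi⟩ := hα1.exists_left_inv
      have hy3z : y3 = 0 := by
        have : (a - 1) * y3 = 0 := by linear_combination e2
        calc y3 = (bi * (a - 1)) * y3 := by rw [hbi, one_mul]
          _ = bi * ((a - 1) * y3) := by ring
          _ = 0 := by rw [this, mul_zero]
      have hz2z : z2 = 0 := by
        have : (a - 1) * z2 = 0 := by linear_combination -e4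
        calc z2 = (bi * (a - 1)) * z2 := by rw [hbi, one_mul]
          _ = bi * ((a - 1) * z2) := by ring
          _ = 0 := by rw [this, mul_zero]
      refine ⟨x2, x3, y2, z3, hy2u, hz3u, ?_, ?_, ?_⟩
      · rw [Ex, hx1one, one_smul]
      · rw [Ey, hy1, hy3z]; module
      · rw [Ez, hz1z, hz2z]; module
  · intro hα
    have ha1 : a = 1 := by rw [ha, hα, map_one]
    rw [ha1] at e2 e3 e4 e5
    have hz1z : z1 = 0 := by linear_combination e3
    rw [hz1z] at hdet e4 e5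
    have hdet' : IsUnit (x1 * (y2 * z3 - y3 * z2)) := by convert hdet using 1; ring
    have hDu : IsUnit (y2 * z3 - y3 * z2) := isUnit_of_mul_isUnit_right hdet'
    obtain ⟨Di, hDi⟩ := hDu.exists_right_inv
    have hx1one : x1 = 1 := by
      have h1 : (x1 - 1) * (y2 * z3 - y3 * z2) = 0 := by
        linear_combination z3 * e1 - z2 * e2
      have h2 : (x1 - 1) = 0 := by
        calc (x1 - 1) = (x1 - 1) * ((y2 * z3 - y3 * z2) * Di) := by rw [hDi, mul_one]
          _ = ((x1 - 1) * (y2 * z3 - y3 * z2)) * Di := by ring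
          _ = 0 := by rw [h1, zero_mul]
      exact sub_eq_zero.mp h2
    refine ⟨x2, x3, y2, y3, z2, z3, ?_, ?_, ?_, ?_⟩
    · convert hDu using 1
    · rw [Ex, hx1one, one_smul]
    · rw [Ey, hy1]; module
    · rw [Ez, hz1z]; module


section two
variable {L' : Type*} [LieRing L'] [LieAlgebra A L'] (bs' : Module.Basis (Fin 3) A L')

/-- coordinates for an isomorphism between two algebras -/
lemma coords' (α β γ δ : A)
    (hxy : ⁅bs' 0, bs' 1⁆ = α • bs' 1 + β • bs' 2) (hxz : ⁅bs' 0, bs' 2⁆ = γ • bs' 1 + δ • bs' 2)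
    (hyz : ⁅bs' 1, bs' 2⁆ = 0) (φ : L ≃ₗ⁅A⁆ L') (j k : Fin 3) (i : Fin 3) :
    bs'.repr (φ ⁅bs j, bs k⁆) i =
      ![0, ((bs'.repr (φ (bs j)) 0 * bs'.repr (φ (bs k)) 1 - bs'.repr (φ (bs j)) 1 * bs'.repr (φ (bs k)) 0) * α +
          (bs'.repr (φ (bs j)) 0 * bs'.repr (φ (bs k)) 2 - bs'.repr (φ (bs j)) 2 * bs'.repr (φ (bs k)) 0) * γ),
        ((bs'.repr (φ (bs j)) 0 * bs'.repr (φ (bs k)) 1 - bs'.repr (φ (bs j)) 1 * bs'.repr (φ (bs k)) 0) * β +
          (bs'.repr (φ (bs j)) 0 * bs'.repr (φ (bs k)) 2 - bs'.repr (φ (bs j)) 2 * bs'.repr (φ (bs k)) 0) * δ)] i := by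
  rw [LieEquiv.map_lie]
  conv_lhs => rw [expand bs' (φ (bs j)), expand bs' (φ (bs k))]
  rw [bracket_comb bs' α β γ δ hxy hxz hyz, repr_comb]

lemma det_unit' (φ : L ≃ₗ⁅A⁆ L') :
    IsUnit (Matrix.det (Matrix.of fun i j : Fin 3 => bs'.repr (φ (bs j)) i)) := by
  have := LinearEquiv.isUnit_det (φ : L ≃ₗ[A] L') bs bs'
  convert this using 2
  ext i j
  rw [LinearMap.toMatrix_apply]
  rfl

/-- a linear equivalence respecting brackets of basis vectors is a Lie equivalence -/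
noncomputable def lieEquivOfBasis (f : L ≃ₗ[A] L')
    (hf : ∀ i j, f ⁅bs i, bs j⁆ = ⁅f (bs i), f (bs j)⁆) : L ≃ₗ⁅A⁆ L' :=
  { f with
    map_lie' := by
      intro x y
      show f ⁅x, y⁆ = ⁅f x, f y⁆
      let B1 : L →ₗ[A] L →ₗ[A] L' := (LieModule.toEnd A L L : L →ₗ[A] Module.End A L).compr₂ f.toLinearMap
      let B2 : L →ₗ[A] L →ₗ[A] L' :=
        (((LieModule.toEnd A L' L' : L' →ₗ[A] Module.End A L').comp f.toLinearMap).compl₂ f.toLinearMap)
      have : B1 = B2 := by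
        refine bs.ext fun i => bs.ext fun j => ?_
        exact hf i j
      exact LinearMap.congr_fun (LinearMap.congr_fun this x) y }

end two


section S13108
variable {k : Type*} [Field k] {M : Type*} [LieRing M] [LieAlgebra k M] (b : Module.Basis (Fin 3) k M)
  {M' : Type*} [LieRing M'] [LieAlgebra k M'] (b' : Module.Basis (Fin 3) k M')

/-- all brackets of basis vectors -/
lemma brackets (t : k) (h01 : ⁅b 0, b 1⁆ = b 1) (h02 : ⁅b 0, b 2⁆ = t • b 2) (h12 : ⁅b 1, b 2⁆ = 0) :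
    ⁅b 1, b 0⁆ = - b 1 ∧ ⁅b 2, b 0⁆ = -(t • b 2) ∧ ⁅b 2, b 1⁆ = 0 := by
  refine ⟨?_, ?_, ?_⟩
  · rw [← lie_skew, h01]
  · rw [← lie_skew, h02]
  · rw [← lie_skew, h12, neg_zero]

theorem main4 (t t' : k) (ht : t ≠ 0) (ht' : t' ≠ 0)
    (h01 : ⁅b 0, b 1⁆ = b 1) (h02 : ⁅b 0, b 2⁆ = t • b 2) (h12 : ⁅b 1, b 2⁆ = 0)
    (h01' : ⁅b' 0, b' 1⁆ = b' 1) (h02' : ⁅b' 0, b' 2⁆ = t' • b' 2) (h12' : ⁅b' 1, b' 2⁆ = 0) :
    Nonempty (M ≃ₗ⁅k⁆ M') ↔ (t' = t ∨ t' = t⁻¹) := by
  obtain ⟨h10, h20, h21⟩ := brackets b t h01 h02 h12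
  obtain ⟨h10', h20', h21'⟩ := brackets b' t' h01' h02' h12'
  constructor
  · rintro ⟨φ⟩
    have hxy' : ⁅b' 0, b' 1⁆ = (1 : k) • b' 1 + (0 : k) • b' 2 := by rw [h01']; module
    have hxz' : ⁅b' 0, b' 2⁆ = (0 : k) • b' 1 + t' • b' 2 := by rw [h02']; module
    have C := coords' b b' 1 0 0 t' hxy' hxz' h12' φ
    set x1 := b'.repr (φ (b 0)) 0 with hx1
    set x2 := b'.repr (φ (b 0)) 1 with hx2
    set x3 := b'.repr (φ (b 0)) 2 with hx3
    set y1 := b'.repr (φ (b 1)) 0 with hy1d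
    set y2 := b'.repr (φ (b 1)) 1 with hy2
    set y3 := b'.repr (φ (b 1)) 2 with hy3
    set z1 := b'.repr (φ (b 2)) 0 with hz1
    set z2 := b'.repr (φ (b 2)) 1 with hz2
    set z3 := b'.repr (φ (b 2)) 2 with hz3
    have e01 := fun i => C 0 1 i
    rw [h01] at e01
    have e02 := fun i => C 0 2 i
    rw [h02, map_smul, map_smul] at e02
    have hy1z : y1 = 0 := by simpa using e01 0
    have h1 : y2 = (x1 * y2 - x2 * y1) * 1 + (x1 * y3 - x3 * y1) * 0 := by simpa using e01 1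
    have h2 : y3 = (x1 * y2 - x2 * y1) * 0 + (x1 * y3 - x3 * y1) * t' := by simpa using e01 2
    have h3 : t * z1 = 0 := by simpa using e02 0
    have h4 : t * z2 = (x1 * z2 - x2 * z1) * 1 + (x1 * z3 - x3 * z1) * 0 := by simpa using e02 1
    have h5 : t * z3 = (x1 * z2 - x2 * z1) * 0 + (x1 * z3 - x3 * z1) * t' := by simpa using e02 2
    have hz1z : z1 = 0 := by
      rcases mul_eq_zero.mp h3 with h | h
      · exact absurd h ht
      · exact h
    have hdet := det_unit' b b' φ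
    rw [Matrix.det_fin_three] at hdet
    simp only [Matrix.of_apply] at hdet
    rw [← hx1, ← hy1d, ← hz1, ← hy2, ← hy3, ← hz2, ← hz3, ← hx2, ← hx3, hy1z, hz1z] at hdet
    have hdet' : x1 * (y2 * z3 - z2 * y3) ≠ 0 := by
      have h := hdet.ne_zero
      have e : x1 * y2 * z3 - x1 * z2 * y3 - 0 * x2 * z3 + 0 * z2 * x3 + 0 * x2 * y3 - 0 * y2 * x3
          = x1 * (y2 * z3 - z2 * y3) := by ring
      rwa [e] at h
    rw [hy1z] at h1 h2
    rw [hz1z] at h4 h5
    have hx1ne : x1 ≠ 0 := left_ne_zero_of_mul hdet'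
    have hD : y2 * z3 - z2 * y3 ≠ 0 := right_ne_zero_of_mul hdet'
    have e1 : (x1 - 1) * y2 = 0 := by linear_combination -h1
    have e2 : (t' * x1 - 1) * y3 = 0 := by linear_combination -h2
    have e4 : (x1 - t) * z2 = 0 := by linear_combination -h4
    have e5 : (t' * x1 - t) * z3 = 0 := by linear_combination -h5
    by_cases hyz : y2 * z3 = 0
    · -- then z2 y3 ≠ 0
      have h' : z2 * y3 ≠ 0 := by
        intro h0; apply hD; rw [hyz, h0, sub_zero]
      have hz2 : z2 ≠ 0 := left_ne_zero_of_mul h'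
      have hy3 : y3 ≠ 0 := right_ne_zero_of_mul h'
      have hx1t : x1 = t := by
        rcases mul_eq_zero.mp e4 with h | h
        · exact sub_eq_zero.mp h
        · exact absurd h hz2
      have h'' : t' * x1 = 1 := by
        rcases mul_eq_zero.mp e2 with h | h
        · exact sub_eq_zero.mp h
        · exact absurd h hy3
      right
      rw [hx1t] at h''
      exact eq_inv_of_mul_eq_one_left h''
    · have hy2 : y2 ≠ 0 := left_ne_zero_of_mul hyz
      have hz3 : z3 ≠ 0 := right_ne_zero_of_mul hyz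
      have hx1one : x1 = 1 := by
        rcases mul_eq_zero.mp e1 with h | h
        · exact sub_eq_zero.mp h
        · exact absurd h hy2
      have h'' : t' * x1 = t := by
        rcases mul_eq_zero.mp e5 with h | h
        · exact sub_eq_zero.mp h
        · exact absurd h hz3
      left
      rw [hx1one, mul_one] at h''
      exact h''
  · rintro (rfl | rfl)
    · refine ⟨lieEquivOfBasis b (b.equiv b' (Equiv.refl _)) ?_⟩
      intro i j
      simp only [Module.Basis.equiv_apply, Equiv.refl_apply]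
      fin_cases i <;> fin_cases j <;>
        simp [h01, h02, h12, h01', h02', h12', h10, h20, h21, h10', h20', h21', Module.Basis.equiv_apply]
    · let v : Fin 3 → M' := ![t • b' 0, b' 2, b' 1]
      let w : Fin 3 → M := ![t⁻¹ • b 0, b 2, b 1]
      let f : M →ₗ[k] M' := b.constr k v
      let g : M' →ₗ[k] M := b'.constr k w
      have hf : ∀ i, f (b i) = v i := fun i => b.constr_basis k v i
      have hg : ∀ i, g (b' i) = w i := fun i => b'.constr_basis k w i
      have hfg : f ∘ₗ g = LinearMap.id := by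
        refine b'.ext fun i => ?_
        fin_cases i
        · simp [hg, w, hf, v, smul_smul, inv_mul_cancel₀ ht]
        · simp [hg, w, hf, v]
        · simp [hg, w, hf, v]
      have hgf : g ∘ₗ f = LinearMap.id := by
        refine b.ext fun i => ?_
        fin_cases i
        · simp [hg, w, hf, v, smul_smul, mul_inv_cancel₀ ht]
        · simp [hg, w, hf, v]
        · simp [hg, w, hf, v]
      refine ⟨lieEquivOfBasis b (LinearEquiv.ofLinearMap f g hfg hgf) ?_⟩
      intro i j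
      show f ⁅b i, b j⁆ = ⁅f (b i), f (b j)⁆
      fin_cases i <;> fin_cases j <;>
        simp [h01, h02, h12, h01', h02', h12', h10, h20, h21, h10', h20', h21', hf, v, smul_smul,
          mul_inv_cancel₀ ht]

end S13108


section S13107
variable (k : Type*) [Field k]
  {F : Type*} [LieRing F] [LieAlgebra (LaurentSeries k) F] (bF : Module.Basis (Fin 3) (LaurentSeries k) F)
  {M : Type*} [LieRing M] [LieAlgebra (LaurentSeries k) M] (bL : Module.Basis (Fin 3) (LaurentSeries k) M)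

lemma not_sq (x : LaurentSeries k) : (HahnSeries.single 1 (1 : k) : LaurentSeries k) * x ^ 2 ≠ 1 := by
  intro h
  have hx : x ≠ 0 := by
    rintro rfl
    rw [zero_pow two_ne_zero, mul_zero] at h
    exact zero_ne_one h
  have hT : (HahnSeries.single 1 (1 : k) : LaurentSeries k) ≠ 0 := by
    intro h0
    rw [h0, zero_mul] at h
    exact zero_ne_one h
  have := congrArg HahnSeries.order h
  rw [HahnSeries.order_mul hT (pow_ne_zero 2 hx), HahnSeries.order_single one_ne_zero, pow_two,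
    HahnSeries.order_mul hx hx, HahnSeries.order_one] at this
  omega

theorem main3
    (hF01 : ⁅bF 0, bF 1⁆ = bF 2) (hF02 : ⁅bF 0, bF 2⁆ = (HahnSeries.single 1 (1 : k) : LaurentSeries k) • bF 1)
    (hF12 : ⁅bF 1, bF 2⁆ = 0)
    (hL01 : ⁅bL 0, bL 1⁆ = bL 1) (hL02 : ⁅bL 0, bL 2⁆ = -bL 2) (hL12 : ⁅bL 1, bL 2⁆ = 0) :
    IsEmpty (M ≃ₗ⁅LaurentSeries k⁆ F) := by
  constructor
  intro φ
  set T : LaurentSeries k := HahnSeries.single 1 (1 : k) with hT
  have hxy' : ⁅bF 0, bF 1⁆ = (0 : LaurentSeries k) • bF 1 + (1 : LaurentSeries k) • bF 2 := by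
    rw [hF01, zero_smul, one_smul, zero_add]
  have hxz' : ⁅bF 0, bF 2⁆ = T • bF 1 + (0 : LaurentSeries k) • bF 2 := by
    rw [hF02, zero_smul, add_zero]
  have C := coords' bL bF 0 1 T 0 hxy' hxz' hF12 φ
  set x1 := bF.repr (φ (bL 0)) 0 with hx1
  set x2 := bF.repr (φ (bL 0)) 1 with hx2
  set x3 := bF.repr (φ (bL 0)) 2 with hx3
  set y1 := bF.repr (φ (bL 1)) 0 with hy1d
  set y2 := bF.repr (φ (bL 1)) 1 with hy2
  set y3 := bF.repr (φ (bL 1)) 2 with hy3
  set z1 := bF.repr (φ (bL 2)) 0 with hz1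
  set z2 := bF.repr (φ (bL 2)) 1 with hz2
  set z3 := bF.repr (φ (bL 2)) 2 with hz3
  have e01 := fun i => C 0 1 i
  rw [hL01] at e01
  have e02 := fun i => C 0 2 i
  rw [hL02, map_neg, map_neg] at e02
  have hy1z : y1 = 0 := by simpa using e01 0
  have h1 : y2 = (x1 * y2 - x2 * y1) * 0 + (x1 * y3 - x3 * y1) * T := by simpa using e01 1
  have h2 : y3 = (x1 * y2 - x2 * y1) * 1 + (x1 * y3 - x3 * y1) * 0 := by simpa using e01 2
  have h3 : -z1 = 0 := by simpa using e02 0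
  have h4 : -z2 = (x1 * z2 - x2 * z1) * 0 + (x1 * z3 - x3 * z1) * T := by simpa using e02 1
  have h5 : -z3 = (x1 * z2 - x2 * z1) * 1 + (x1 * z3 - x3 * z1) * 0 := by simpa using e02 2
  have hz1z : z1 = 0 := neg_eq_zero.mp h3
  have hdet := det_unit' bL bF φ
  rw [Matrix.det_fin_three] at hdet
  simp only [Matrix.of_apply] at hdet
  rw [← hx1, ← hy1d, ← hz1, ← hy2, ← hy3, ← hz2, ← hz3, ← hx2, ← hx3, hy1z, hz1z] at hdet
  have hdet' : x1 * (y2 * z3 - z2 * y3) ≠ 0 := by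
    have h := hdet.ne_zero
    have e : x1 * y2 * z3 - x1 * z2 * y3 - 0 * x2 * z3 + 0 * z2 * x3 + 0 * x2 * y3 - 0 * y2 * x3
        = x1 * (y2 * z3 - z2 * y3) := by ring
    rwa [e] at h
  rw [hy1z] at h1 h2
  rw [hz1z] at h4 h5
  have hD : y2 * z3 - z2 * y3 ≠ 0 := right_ne_zero_of_mul hdet'
  have key : T * x1 ^ 2 ≠ 1 := not_sq k x1
  have e1 : (T * x1 ^ 2 - 1) * y2 = 0 := by linear_combination -h1 - (T * x1) * h2
  have e4 : (T * x1 ^ 2 - 1) * z2 = 0 := by linear_combination h4 - (T * x1) * h5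
  have hne : T * x1 ^ 2 - 1 ≠ 0 := sub_ne_zero.mpr key
  have hy2z : y2 = 0 := by
    rcases mul_eq_zero.mp e1 with h | h
    · exact absurd h hne
    · exact h
  have hz2z : z2 = 0 := by
    rcases mul_eq_zero.mp e4 with h | h
    · exact absurd h hne
    · exact h
  apply hD
  rw [hy2z, hz2z]; ring

end S13107

end Groth.Agent.H6.Lie3
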