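import Mathlib
import Groth.Prelude.Def_LinTop

/-!
# Linearly topologized complete rings: geometric series (helper6)
-/

namespace Groth.Agent.H6.LinTopLib

open Filter Topology

variable {A : Type*} [CommRing A]

/-- A linearly topologized topological ring is a nonarchimedean additive group. -/
lemma nonarchimedeanAddGroup [TopologicalSpace A] [IsTopologicalRing A] [IsLinearTopology A A] :
    NonarchimedeanAddGroup A where
  is_nonarchimedean U hU := by
    obtain ⟨I, hI, hIU⟩ := (IsLinearTopology.hasBasis_open_ideal (R := A)).mem_iff.1 hU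
    exact ⟨⟨I.toAddSubgroup, hI⟩, hIU⟩

/-- In a complete Hausdorff linearly topologized ring, `1 - x` is a unit when `x` is topologically
nilpotent. -/
lemma isUnit_one_sub [UniformSpace A] [IsUniformAddGroup A] [IsTopologicalRing A]
    [IsLinearTopology A A] [T2Space A] [CompleteSpace A] (x : A)
    (hx : Tendsto (fun n : ℕ => x ^ n) atTop (𝓝 0)) : IsUnit (1 - x) := by
  haveI := nonarchimedeanAddGroup (A := A)
  have hsum : Summable (fun n : ℕ => x ^ n) :=
    NonarchimedeanAddGroup.summable_of_tendsto_cofinite_zero (by rwa [Nat.cofinite_eq_atTop])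
  obtain ⟨s, hs⟩ := hsum
  have h1 : HasSum (fun n : ℕ => (1 - x) * x ^ n) ((1 - x) * s) := hs.mul_left _
  have h2 := h1.tendsto_sum_nat
  have h3 : (fun n : ℕ => ∑ i ∈ Finset.range n, (1 - x) * x ^ i) = fun n => 1 - x ^ n := by
    funext n
    rw [← Finset.mul_sum, mul_neg_geom_sum]
  rw [h3] at h2
  have h4 : Tendsto (fun n : ℕ => 1 - x ^ n) atTop (𝓝 (1 - 0)) := tendsto_const_nhds.sub hx
  rw [sub_zero] at h4
  have h5 : (1 - x) * s = 1 := tendsto_nhds_unique h2 h4
  exact IsUnit.of_mul_eq_one _ h5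

/-- Powers of an element of an ideal of definition tend to zero. -/
lemma tendsto_pow_of_mem [TopologicalSpace A] {J : Ideal A} (hJ : LinTop.IsIdealOfDefinition A J)
    {x : A} (hx : x ∈ J) : Tendsto (fun n : ℕ => x ^ n) atTop (𝓝 0) := by
  rw [tendsto_def]
  intro U hU
  obtain ⟨n, _, hn⟩ := hJ.2 U hU
  rw [mem_atTop_sets]
  refine ⟨n, fun m hm => ?_⟩
  apply hn
  exact Ideal.pow_le_pow_right hm (Ideal.pow_mem_pow hx m)

/-- In an admissible ring, an ideal of definition is contained in the Jacobson radical. -/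
lemma isUnit_one_sub_of_mem [UniformSpace A] [IsUniformAddGroup A] [IsTopologicalRing A]
    (hA : LinTop.IsAdmissible A) {J : Ideal A} (hJ : LinTop.IsIdealOfDefinition A J)
    {x : A} (hx : x ∈ J) : IsUnit (1 - x) := by
  obtain ⟨⟨hlin, _⟩, ht2, hc⟩ := hA
  exact isUnit_one_sub x (tendsto_pow_of_mem hJ hx)

lemma le_jacobson [UniformSpace A] [IsUniformAddGroup A] [IsTopologicalRing A]
    (hA : LinTop.IsAdmissible A) {J : Ideal A} (hJ : LinTop.IsIdealOfDefinition A J) :
    J ≤ Ideal.jacobson ⊥ := by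
  intro x hx
  rw [Ideal.mem_jacobson_bot]
  intro y
  have h : x * y ∈ J := J.mul_mem_right y hx
  have := isUnit_one_sub_of_mem hA hJ (x := -(x * y)) (J.neg_mem h)
  simpa [add_comm] using this

end Groth.Agent.H6.LinTopLib

namespace Groth.Agent.H6.LinTopLib

open Filter Topology

variable {A : Type*} [CommRing A]

/-- Elements of `span s * L` are combinations `∑ g ∈ s, g * c g` with `c g ∈ L`. -/
lemma exists_coeff_of_mem_span_mul (s : Finset A) (L : Ideal A) {x : A}
    (hx : x ∈ Ideal.span (s : Set A) * L) :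
    ∃ c : A → A, (∀ g, c g ∈ L) ∧ x = ∑ g ∈ s, g * c g := by
  classical
  refine Submodule.mul_induction_on hx ?_ ?_
  · intro y hy l hl
    obtain ⟨r, hr⟩ := (Submodule.mem_span_finset' ).1 hy
    refine ⟨fun g => if h : g ∈ s then r ⟨g, h⟩ * l else 0, fun g => ?_, ?_⟩
    · by_cases h : g ∈ s
      · simp only [h, dif_pos]; exact L.mul_mem_left _ hl
      · simp only [h, dif_neg, not_false_iff]; exact L.zero_mem
    · rw [← hr, Finset.sum_mul, ← Finset.sum_attach s (fun g => g * if h : g ∈ s then r ⟨g, h⟩ * l else 0)]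
      refine Finset.sum_congr rfl fun g _ => ?_
      simp only [g.2, dif_pos, smul_eq_mul]
      ring
  · rintro x y ⟨c, hc, rfl⟩ ⟨c', hc', rfl⟩
    refine ⟨fun g => c g + c' g, fun g => L.add_mem (hc g) (hc' g), ?_⟩
    rw [← Finset.sum_add_distrib]
    exact Finset.sum_congr rfl fun g _ => by ring

/-- A sequence with `c k ∈ J ^ k` tends to zero. -/
lemma tendsto_of_mem_pow [TopologicalSpace A] {J : Ideal A} (hJ : LinTop.IsIdealOfDefinition A J)
    {c : ℕ → A} (hc : ∀ k, c k ∈ J ^ k) : Tendsto c atTop (𝓝 0) := by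
  rw [tendsto_def]
  intro U hU
  obtain ⟨n, _, hn⟩ := hJ.2 U hU
  rw [mem_atTop_sets]
  exact ⟨n, fun m hm => hn (Ideal.pow_le_pow_right hm (hc m))⟩

/-- Key lemma: if `K` is a finitely generated ideal and `a k ∈ K * J ^ k`, then `∑ a k` converges
to an element of `K`. -/
lemma exists_hasSum_mem [UniformSpace A] [IsUniformAddGroup A] [IsTopologicalRing A]
    (hA : LinTop.IsAdmissible A) {J : Ideal A} (hJ : LinTop.IsIdealOfDefinition A J)
    {K : Ideal A} (hK : K.FG) {a : ℕ → A} (ha : ∀ k, a k ∈ K * J ^ k) :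
    ∃ S ∈ K, HasSum a S := by
  obtain ⟨⟨hlin, _⟩, ht2, hcs⟩ := hA
  haveI := nonarchimedeanAddGroup (A := A)
  obtain ⟨s, rfl⟩ := hK
  choose c hc hac using fun k => exists_coeff_of_mem_span_mul s (J ^ k) (ha k)
  have hsum : ∀ g : A, Summable (fun k => c k g) := fun g =>
    NonarchimedeanAddGroup.summable_of_tendsto_cofinite_zero (by
      rw [Nat.cofinite_eq_atTop]; exact tendsto_of_mem_pow hJ (fun k => hc k g))
  choose C hC using hsum
  refine ⟨∑ g ∈ s, g * C g, ?_, ?_⟩
  · refine Ideal.sum_mem _ fun g hg => Ideal.mul_mem_right _ _ (Ideal.subset_span hg)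
  · have : a = fun k => ∑ g ∈ s, g * c k g := funext hac
    rw [this]
    exact hasSum_sum fun g _ => (hC g).mul_left g

/-- An admissible ring is adically complete for every finitely generated ideal contained in an
ideal of definition. -/
lemma isAdicComplete_of_fg_le [UniformSpace A] [IsUniformAddGroup A] [IsTopologicalRing A]
    (hA : LinTop.IsAdmissible A) {J : Ideal A} (hJ : LinTop.IsIdealOfDefinition A J)
    {I : Ideal A} (hI : I.FG) (hIJ : I ≤ J) : IsAdicComplete I A := by
  have hmem : ∀ (n : ℕ) (x : A), x ∈ (I ^ n • ⊤ : Submodule A A) ↔ x ∈ I ^ n := by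
    intro n x; rw [smul_eq_mul, Ideal.mul_top]
  haveI ht2 : T2Space A := hA.2.1
  refine { haus' := ?_, prec' := ?_ }
  · intro x hx
    have hx' : ∀ n, x ∈ J ^ n := fun n => by
      have := (hx n)
      rw [SModEq.zero, hmem] at this
      exact Ideal.pow_right_mono hIJ n this
    by_contra hne
    have hU : ({x}ᶜ : Set A) ∈ 𝓝 (0 : A) := isOpen_compl_singleton.mem_nhds (Ne.symm hne)
    obtain ⟨n, _, hn⟩ := hJ.2 _ hU
    exact hn (hx' n) rfl
  · intro f hf
    set d : ℕ → A := fun k => f (k + 1) - f k with hd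
    have hdk : ∀ k, d k ∈ I ^ k := fun k => by
      have := (hf (Nat.le_succ k)).symm
      rw [SModEq.sub_mem, hmem] at this
      exact this
    have key : ∀ n, ∃ S ∈ I ^ n, HasSum (fun k => d (k + n)) S := fun n => by
      apply exists_hasSum_mem hA hJ (hI.pow (n := n))
      intro k
      have h1 := hdk (k + n)
      rw [add_comm k n, pow_add] at h1
      rw [add_comm k n]
      exact Ideal.mul_mono_right (Ideal.pow_right_mono hIJ k) h1
    obtain ⟨S0, -, hS0⟩ := key 0
    simp only [add_zero] at hS0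
    refine ⟨f 0 + S0, fun n => ?_⟩
    obtain ⟨Sn, hSn, hSn'⟩ := key n
    rw [hasSum_nat_add_iff] at hSn'
    have e1 : S0 = Sn + ∑ i ∈ Finset.range n, d i := hS0.unique hSn'
    have e2 : ∑ i ∈ Finset.range n, d i = f n - f 0 := Finset.sum_range_sub f n
    rw [SModEq.comm, SModEq.sub_mem, hmem]
    have : f 0 + S0 - f n = Sn := by rw [e1, e2]; ring
    rw [this]
    exact hSn

end Groth.Agent.H6.LinTopLib
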