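import Mathlib
import Groth.Agent.Lib.Helper6.CanLoc1
import Groth.Agent.Lib.Helper6.CanHull
import Groth.Agent.Lib.Helper6.CanEnd
import Groth.Agent.Lib.Helper6.LDGor
import Groth.Agent.Lib.Helper6.ExtBaseChange
import Groth.Agent.S11614
import Groth.Agent.Lib.Helper6.Ischebeck
import Groth.Agent.Lib.Helper6.LDLoc4

/-! Linkage over a Gorenstein local ring: the annihilator of a codimension-zero
Cohen–Macaulay ideal. -/

universe u
set_option linter.style.haveILetI false
open CategoryTheory CategoryTheory.Abelian InjHull IsLocalRing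
open scoped TensorProduct

namespace Groth.Agent.H6.Link

section A
variable {S : Type u} [CommRing S] (I : Ideal S)

/-- `Hom_S(S/I, S) ≅ Ann I` -/
noncomputable def homEquivAnn : ((S ⧸ I) →ₗ[S] S) ≃ₗ[S] (Submodule.annihilator I) where
  toFun φ := ⟨φ 1, by
    rw [Submodule.mem_annihilator]
    intro i hi
    rw [smul_eq_mul, mul_comm, ← smul_eq_mul, ← map_smul]
    have : i • (1 : S ⧸ I) = 0 := by
      change Ideal.Quotient.mk I (i * 1) = 0
      rw [mul_one]
      exact Ideal.Quotient.eq_zero_iff_mem.mpr hi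
    rw [this, map_zero]⟩
  map_add' φ ψ := by
    ext
    simp
  map_smul' r φ := by
    ext
    simp
  invFun a := Submodule.liftQ I (LinearMap.toSpanSingleton S S (a : S)) (by
    intro i hi
    rw [LinearMap.mem_ker, LinearMap.toSpanSingleton_apply, smul_eq_mul, mul_comm]
    exact (Submodule.mem_annihilator.mp a.2) i hi)
  left_inv φ := by
    apply LinearMap.ext
    intro x
    obtain ⟨x, rfl⟩ := Ideal.Quotient.mk_surjective x
    change Submodule.liftQ I _ _ (Submodule.Quotient.mk x) = _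
    rw [Submodule.liftQ_apply, LinearMap.toSpanSingleton_apply]
    change x • φ 1 = _
    rw [← map_smul]
    congr 1
    change Ideal.Quotient.mk I (x * 1) = _
    rw [mul_one]
  right_inv a := by
    ext
    change Submodule.liftQ I _ _ (Submodule.Quotient.mk (1 : S)) = _
    rw [Submodule.liftQ_apply, LinearMap.toSpanSingleton_apply, one_smul]

/-- `S/I ⊗ Ext^0(S/I, S) ≅ Ann I` -/
theorem nonempty_tensor_ext_equiv :
    Nonempty (((S ⧸ I) ⊗[S] (Ext (ModuleCat.of S (S ⧸ I)) (ModuleCat.of S S) 0)) ≃ₗ[S]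
      (Submodule.annihilator I)) := by
  set X := Ext (ModuleCat.of S (S ⧸ I)) (ModuleCat.of S S) 0
  have e1 := TensorProduct.quotTensorEquivQuotSMul X I
  have hbot : I • (⊤ : Submodule S X) = ⊥ := by
    rw [eq_bot_iff, Submodule.smul_le]
    intro r hr x _
    rw [Submodule.mem_bot]
    exact Bass.smul_ext_eq_zero (ModuleCat.of S (S ⧸ I)) (ModuleCat.of S S) r (fun y => by
      obtain ⟨y, rfl⟩ := Ideal.Quotient.mk_surjective y
      change Ideal.Quotient.mk I (r * y) = 0
      exact Ideal.Quotient.eq_zero_iff_mem.mpr (I.mul_mem_right y hr)) 0 x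
  have e2 := Submodule.quotEquivOfEqBot _ hbot
  have e3 := (ExtBC.homEquivExt₀ (ModuleCat.of S (S ⧸ I)) (ModuleCat.of S S)).symm
  exact ⟨e1.trans (e2.trans (e3.trans (homEquivAnn I)))⟩

end A

section B
variable {S : Type u} [CommRing S] [LocCoh.IsGorensteinLocalRing S] (I : Ideal S)
  [hCM : LocCoh.IsCohenMacaulayLocalRing (S ⧸ I)] (N : ℕ) (hN : ringKrullDim S = N)
  (hI : ringKrullDim (S ⧸ I) = N)

include hN hI in
/-- the annihilator of a codimension zero CM ideal is a canonical module of the quotient -/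
theorem ann_facts :
    (∀ i, i ≠ N → Subsingleton (LocCoh.H (maximalIdeal S) i (Submodule.annihilator I))) ∧
    (∀ φ : (Submodule.annihilator I) →ₗ[S] (Submodule.annihilator I),
      ∃ s : S, φ = s • LinearMap.id) := by
  obtain ⟨E, _, _, f, hf⟩ := IH.exists_injectiveHull (R := S ⧸ I)
    ((S ⧸ I) ⧸ maximalIdeal (S ⧸ I))
  have hsurj : Function.Surjective (algebraMap S (S ⧸ I)) := Ideal.Quotient.mk_surjective
  obtain ⟨eK⟩ := CanLoc.can_ext (S ⧸ I) N hI E f hf S hsurj N hN
  rw [Nat.sub_self] at eK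
  set X := Ext (ModuleCat.of S (S ⧸ I)) (ModuleCat.of S S) 0 with hX
  haveI : Module.Finite S X := ModuleCat.finite_ext S _ _ 0
  obtain ⟨e⟩ := nonempty_tensor_ext_equiv I
  have hend := CanQ.can_end_bijective N hI E ((S ⧸ I) ⊗[S] X) f hf eK
  constructor
  · intro i hi
    have h1 := CanQ.lc_can_vanish N hI E ((S ⧸ I) ⊗[S] X) f hf eK i hi
    obtain ⟨φ, -⟩ := Groth.Agent.S11614.result S (S ⧸ I) (maximalIdeal S) ((S ⧸ I) ⊗[S] X) i
    have hmap : (maximalIdeal S).map (algebraMap S (S ⧸ I)) = maximalIdeal (S ⧸ I) := by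
      rcases Ideal.map_eq_top_or_isMaximal_of_surjective (algebraMap S (S ⧸ I)) hsurj
        (maximalIdeal.isMaximal S) with h | h
      · exfalso
        haveI : IsLocalHom (algebraMap S (S ⧸ I)) := IsLocalHom.of_surjective _ hsurj
        have hle : (maximalIdeal S).map (algebraMap S (S ⧸ I)) ≤ maximalIdeal (S ⧸ I) := by
          rw [Ideal.map_le_iff_le_comap]
          intro a ha
          exact (IsLocalRing.mem_maximalIdeal _).mpr (fun hu =>
            (IsLocalRing.mem_maximalIdeal _).mp ha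
              (isUnit_of_map_unit (algebraMap S (S ⧸ I)) a hu))
        rw [h] at hle
        exact (maximalIdeal.isMaximal (S ⧸ I)).ne_top (top_le_iff.mp hle)
      · exact IsLocalRing.eq_maximalIdeal h
    rw [hmap] at φ
    haveI := φ.symm.toEquiv.subsingleton
    exact LC.subsingleton_of_linearEquiv e ‹_›
  · intro φ
    -- transport to `K`
    let ψS : ((S ⧸ I) ⊗[S] X) →ₗ[S] ((S ⧸ I) ⊗[S] X) :=
      e.symm.toLinearMap ∘ₗ φ ∘ₗ e.toLinearMap
    let ψ : ((S ⧸ I) ⊗[S] X) →ₗ[S ⧸ I] ((S ⧸ I) ⊗[S] X) :=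
      { toFun := ψS
        map_add' := ψS.map_add
        map_smul' := by
          intro r x
          obtain ⟨r, rfl⟩ := Ideal.Quotient.mk_surjective r
          have h1 : ∀ y : (S ⧸ I) ⊗[S] X, (Ideal.Quotient.mk I r) • y = r • y := by
            intro y
            exact (algebraMap_smul (S ⧸ I) r y)
          rw [RingHom.id_apply, h1, h1, map_smul] }
    obtain ⟨r, hr⟩ := hend.2 ψ
    obtain ⟨s, rfl⟩ := Ideal.Quotient.mk_surjective r
    refine ⟨s, ?_⟩
    apply LinearMap.ext
    intro a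
    have h2 : ψ (e.symm a) = (Ideal.Quotient.mk I s) • (e.symm a) := by
      rw [← hr]
      rfl
    have h3 : ψ (e.symm a) = e.symm (φ a) := by
      change e.symm (φ (e (e.symm a))) = _
      rw [e.apply_symm_apply]
    have h4 : (Ideal.Quotient.mk I s) • (e.symm a) = s • (e.symm a) :=
      algebraMap_smul (S ⧸ I) s _
    rw [h3, h4, ← map_smul] at h2
    rw [LinearMap.smul_apply, LinearMap.id_apply]
    exact e.symm.injective h2

include hN hI in
/-- `Ext^i(S/Ann I, S) = 0` for `i ≥ 1` -/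
theorem ext_quot_ann_subsingleton (i : ℕ) (hi : 1 ≤ i) :
    Subsingleton (Ext (ModuleCat.of S (S ⧸ Submodule.annihilator I)) (ModuleCat.of S S) i) := by
  set J : Ideal S := Submodule.annihilator I with hJdef
  obtain ⟨hvan, hend⟩ := ann_facts I N hN hI
  -- `Ext^k(J, S) = 0` for `k ≥ 1`
  have hJext : ∀ k, 1 ≤ k → Subsingleton (Ext (ModuleCat.of S J) (ModuleCat.of S S) k) := by
    intro k hk
    by_cases hkN : k ≤ N
    · obtain ⟨ES, _, _, fS, hfS⟩ := IH.exists_injectiveHull (R := S) (S ⧸ maximalIdeal S)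
      obtain ⟨ld⟩ := LD.local_duality_gorenstein N hN ES fS hfS J k (N - k) (by omega)
      haveI := hvan (N - k) (by omega)
      have h1 : Subsingleton (Ext (ModuleCat.of S J) (ModuleCat.of S S) k →ₗ[S] ES) :=
        ld.symm.toEquiv.subsingleton
      exact Can.subsingleton_of_dual_subsingleton hfS _ h1
    · obtain ⟨n₀, hn₀⟩ := LocCoh.IsGorensteinLocalRing.exists_hasInjectiveDimensionLT (A := S)
      have := Bass.hasInjectiveDimensionLT_of_gorenstein n₀ hn₀ N hN
      exact HasInjectiveDimensionLT.subsingleton _ (N + 1) k (by omega) _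
  obtain ⟨w, hT⟩ := Depth.shortExact_mk (f := J.subtype) (g := J.mkQ)
    (Submodule.subtype_injective J) (Submodule.mkQ_surjective J)
    (LinearMap.exact_subtype_mkQ J)
  set T := ShortComplex.mk (ModuleCat.ofHom J.subtype) (ModuleCat.ofHom J.mkQ) w with hTdef
  refine ⟨fun a b => ?_⟩
  suffices h : ∀ x : Ext (ModuleCat.of S (S ⧸ J)) (ModuleCat.of S S) i, x = 0 by
    rw [h a, h b]
  intro x₃
  obtain ⟨k, rfl⟩ : ∃ k, i = k + 1 := ⟨i - 1, by omega⟩
  have hproj : ∀ y : Ext (ModuleCat.of S S) (ModuleCat.of S S) (k + 1), y = 0 := by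
    intro y
    haveI : Module.Projective S (ModuleCat.of S S) := Module.Projective.of_free
    haveI : Projective (ModuleCat.of S S) := ModuleCat.projective_of_categoryTheory_projective _
    exact Ext.eq_zero_of_projective y
  have h0 : (Ext.mk₀ T.g).comp x₃ (zero_add (k + 1)) = 0 := hproj _
  obtain ⟨x₁, hx₁⟩ := Ext.contravariant_sequence_exact₃ hT (ModuleCat.of S S) x₃ h0
    (show 1 + k = k + 1 by omega)
  rw [← hx₁]
  rcases Nat.eq_zero_or_pos k with rfl | hk
  · -- `x₁` is a homomorphism `J → S`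
    obtain ⟨φ, rfl⟩ := (ExtBC.homEquivExt₀ (ModuleCat.of S J) (ModuleCat.of S S)).surjective x₁
    rw [ExtBC.homEquivExt₀_apply]
    -- `φ` lands in `J`
    have hφJ : ∀ a : J, φ a ∈ J := by
      intro a
      change φ a ∈ Submodule.annihilator I
      rw [Submodule.mem_annihilator]
      intro y hy
      have hφ : φ (y • a) = y • φ a := map_smul φ y a
      have hya : y • a = 0 := by
        apply Subtype.ext
        change y * (a : S) = 0
        rw [mul_comm]
        exact (Submodule.mem_annihilator.mp a.2) y hy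
      rw [hya, map_zero] at hφ
      rw [smul_eq_mul, mul_comm, ← smul_eq_mul]
      exact hφ.symm
    obtain ⟨s, hs⟩ := hend (φ.codRestrict J hφJ)
    have hφs : φ = (s • (LinearMap.id : S →ₗ[S] S)) ∘ₗ J.subtype := by
      apply LinearMap.ext
      intro a
      have := congrArg (fun ψ : J →ₗ[S] J => ((ψ a : J) : S)) hs
      simpa using this
    have hcomp : Ext.mk₀ (ModuleCat.ofHom φ) =
        (Ext.mk₀ T.f).comp (Ext.mk₀ (ModuleCat.ofHom (s • (LinearMap.id : S →ₗ[S] S))))
          (zero_add 0) := by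
      rw [Ext.mk₀_comp_mk₀, hφs]
      rfl
    rw [hcomp, ← Ext.comp_assoc (a₁₂ := 1) (a₂₃ := 0) (a := 0 + 1) _ _ _ (by omega) (by omega)
      (by omega), hT.extClass_comp, Ext.zero_comp]
  · haveI := hJext k hk
    rw [Subsingleton.elim x₁ 0, Ext.comp_zero]

include hN hI in
/-- `S/Ann I` has maximal depth -/
theorem depth_quot_ann :
    (N : ℕ∞) ≤ LocCoh.depth S (S ⧸ Submodule.annihilator I) := by
  unfold LocCoh.depth
  rw [Depth.le_idealDepth_iff (maximalIdeal S) (S ⧸ Submodule.annihilator I) N]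
  intro j hj
  obtain ⟨ES, _, _, fS, hfS⟩ := IH.exists_injectiveHull (R := S) (S ⧸ maximalIdeal S)
  obtain ⟨ld⟩ := LD.local_duality_gorenstein N hN ES fS hfS (S ⧸ Submodule.annihilator I)
    (N - j) j (by omega)
  haveI := ext_quot_ann_subsingleton I N hN hI (N - j) (by omega)
  exact ld.toEquiv.subsingleton

end B

section C
variable {S : Type u} [CommRing S] [LocCoh.IsGorensteinLocalRing S] (I : Ideal S)
  (N : ℕ) (hN : ringKrullDim S = N)

include hN in
/-- an ideal with nonzero annihilator in a Gorenstein local ring has codimension zero -/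
theorem dim_quot_eq (hI1 : I ≠ ⊤) (hann : Submodule.annihilator I ≠ ⊥) :
    ringKrullDim (S ⧸ I) = N := by
  apply le_antisymm
  · rw [← hN]
    exact ringKrullDim_le_of_surjective _ Ideal.Quotient.mk_surjective
  by_contra hlt
  push Not at hlt
  haveI : Nontrivial (S ⧸ I) := Ideal.Quotient.nontrivial_iff.mpr hI1
  obtain ⟨r, hr⟩ := LC.exists_supportDim_eq (R := S) (S ⧸ I)
  rw [Module.supportDim_quotient_eq_ringKrullDim] at hr
  rw [hr] at hlt
  have hrN : r < N := by exact_mod_cast hlt
  have hdepth : LocCoh.depth S S = N := by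
    have h1 : LocCoh.IsCohenMacaulayModule S S := LDL.gor_cm
    unfold LocCoh.IsCohenMacaulayModule at h1
    rw [Module.supportDim_self_eq_ringKrullDim, hN] at h1
    have : ((N : ℕ∞) : WithBot ℕ∞) = ((LocCoh.depth S S : ℕ∞) : WithBot ℕ∞) := by
      exact_mod_cast h1
    exact (WithBot.coe_injective this).symm
  have h2 := Isch.ischebeck (A := S) S N hdepth r (S ⧸ I)
    (by rw [Module.supportDim_quotient_eq_ringKrullDim, hr]) 0 (by omega)
  apply hann
  rw [eq_bot_iff]
  intro a ha
  rw [Submodule.mem_bot]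
  have h3 : (ExtBC.homEquivExt₀ (ModuleCat.of S (S ⧸ I)) (ModuleCat.of S S))
      ((homEquivAnn I).symm ⟨a, ha⟩) = 0 := Subsingleton.elim _ _
  rw [LinearEquiv.map_eq_zero_iff, LinearEquiv.map_eq_zero_iff] at h3
  exact congrArg Subtype.val h3

end C

end Groth.Agent.H6.Link
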