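import Mathlib
import Groth.Agent.Lib.Helper6.LinkA
import Groth.Agent.Lib.Helper6.Liai3
import Groth.Agent.Lib.Helper1.AusBuch

/-! Linkage: Cohen–Macaulayness passes to the linked ideal (global form). -/

universe u
set_option linter.style.haveILetI false
open CategoryTheory CategoryTheory.Abelian InjHull IsLocalRing
open scoped TensorProduct

namespace Groth.Agent.H6.Link

section Loc
variable {A : Type u} [CommRing A] [IsNoetherianRing A]

/-- annihilators of ideals localize -/
theorem annihilator_map (M : Submonoid A) (S : Type u)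
    [CommRing S] [Algebra A S] [IsLocalization M S] (I : Ideal A) :
    Submodule.annihilator (I.map (algebraMap A S)) =
      (Submodule.annihilator I).map (algebraMap A S) := by
  apply le_antisymm
  · intro x hx
    classical
    obtain ⟨a, s, rfl⟩ := IsLocalization.exists_mk'_eq M x
    rw [IsLocalization.mk'_mem_map_algebraMap_iff]
    rw [Submodule.mem_annihilator] at hx
    obtain ⟨T, hT⟩ := (isNoetherianRing_iff_ideal_fg A).mp inferInstance I
    have h1 : ∀ i ∈ I, ∃ t : M, (t : A) * (a * i) = 0 := by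
      intro i hi
      apply (IsLocalization.map_eq_zero_iff M S _).mp
      have h2 := hx (algebraMap A S i) (Ideal.mem_map_of_mem _ hi)
      rw [smul_eq_mul] at h2
      have h3 : algebraMap A S a = IsLocalization.mk' S a s * algebraMap A S s := by
        rw [IsLocalization.mk'_spec]
      rw [map_mul, h3, mul_right_comm, h2, zero_mul]
    have h2 : ∀ U : Finset A, (∀ i ∈ U, i ∈ I) →
        ∃ t : M, ∀ i ∈ U, (t : A) * (a * i) = 0 := by
      intro U
      induction U using Finset.induction_on with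
      | empty => intro _; exact ⟨1, by simp⟩
      | insert b U hb ih =>
        intro hU
        obtain ⟨t1, ht1⟩ := ih (fun i hi => hU i (Finset.mem_insert_of_mem hi))
        obtain ⟨t2, ht2⟩ := h1 b (hU b (Finset.mem_insert_self b U))
        refine ⟨t1 * t2, fun i hi => ?_⟩
        rcases Finset.mem_insert.mp hi with rfl | hi
        · rw [Submonoid.coe_mul, mul_assoc, ht2, mul_zero]
        · rw [Submonoid.coe_mul, mul_comm (t1 : A), mul_assoc, ht1 i hi, mul_zero]
    obtain ⟨t, ht⟩ := h2 T (fun i hi => by rw [← hT]; exact Ideal.subset_span hi)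
    refine ⟨t, t.2, ?_⟩
    rw [Submodule.mem_annihilator]
    intro i hi
    rw [← hT] at hi
    refine Submodule.span_induction (p := fun i _ => ((t : A) * a) • i = 0) ?_ ?_ ?_ ?_ hi
    · intro i hi
      rw [smul_eq_mul, mul_assoc]
      exact ht i hi
    · simp
    · intro i j _ _ hi hj
      rw [smul_add, hi, hj, add_zero]
    · intro r i _ hi
      rw [smul_comm, hi, smul_zero]
  · rw [Ideal.map_le_iff_le_comap]
    intro a ha
    rw [Ideal.mem_comap, Submodule.mem_annihilator]
    intro y hy
    refine Submodule.span_induction (p := fun y _ => algebraMap A S a • y = 0) ?_ ?_ ?_ ?_ hy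
    · rintro _ ⟨i, hi, rfl⟩
      rw [smul_eq_mul, ← map_mul]
      have := (Submodule.mem_annihilator.mp ha) i hi
      rw [smul_eq_mul] at this
      rw [this, map_zero]
    · simp
    · intro i j _ _ hi hj
      rw [smul_add, hi, hj, add_zero]
    · intro r i _ hi
      rw [smul_comm, hi, smul_zero]

end Loc

section Local
variable {S : Type u} [CommRing S] [LocCoh.IsGorensteinLocalRing S]

/-- local form with module-level hypotheses -/
theorem local_link (I J : Ideal S) (hIJ : Submodule.annihilator I = J)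
    (hJI : Submodule.annihilator J = I)
    (hI : ∀ k : ℕ, min (k : WithBot ℕ∞) (Module.supportDim S (S ⧸ I)) ≤
      ((LocCoh.depth S (S ⧸ I) : ℕ∞) : WithBot ℕ∞)) (k : ℕ) :
    min (k : WithBot ℕ∞) (Module.supportDim S (S ⧸ J)) ≤
      ((LocCoh.depth S (S ⧸ J) : ℕ∞) : WithBot ℕ∞) := by
  obtain ⟨N, hN⟩ := Bass.exists_ringKrullDim_eq (A := S)
  by_cases hJtop : J = ⊤
  · haveI : Subsingleton (S ⧸ J) := by
      rw [hJtop]
      exact Ideal.Quotient.subsingleton_iff.mpr rfl
    rw [Module.supportDim_eq_bot_of_subsingleton, min_bot_right]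
    exact bot_le
  by_cases hItop : I = ⊤
  · have hJbot : J = ⊥ := by
      rw [← hIJ, hItop, Submodule.annihilator_top]
      exact Module.annihilator_eq_bot.mpr inferInstance
    have e : (S ⧸ J) ≃ₗ[S] S := Submodule.quotEquivOfEqBot J hJbot
    have h1 : LocCoh.IsCohenMacaulayModule S S := LDL.gor_cm
    unfold LocCoh.IsCohenMacaulayModule at h1
    rw [Module.supportDim_eq_of_equiv e]
    have h2 : LocCoh.depth S (S ⧸ J) = LocCoh.depth S S :=
      CM.idealDepth_eq_of_linearEquiv _ e
    rw [h2, h1]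
    exact min_le_right _ _
  -- main case
  haveI : Nontrivial (S ⧸ I) := Ideal.Quotient.nontrivial_iff.mpr hItop
  haveI : Nontrivial (S ⧸ J) := Ideal.Quotient.nontrivial_iff.mpr hJtop
  haveI : IsLocalRing (S ⧸ I) :=
    IsLocalRing.of_surjective' (Ideal.Quotient.mk I) Ideal.Quotient.mk_surjective
  have hdepthI : LocCoh.depth S (S ⧸ I) = LocCoh.depth (S ⧸ I) (S ⧸ I) :=
    Groth.Agent.H1.AB.depth_eq_of_surjective (R := S) (R' := S ⧸ I)
      Ideal.Quotient.mk_surjective (S ⧸ I)
  haveI hcmI : LocCoh.IsCohenMacaulayLocalRing (S ⧸ I) := by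
    refine { supportDim_eq_depth := ?_ }
    obtain ⟨d, hd1, hd2⟩ := Depth.exists_depth_eq (R := S) (S ⧸ I)
    obtain ⟨n, hn⟩ := LC.exists_supportDim_eq (R := S) (S ⧸ I)
    have h1 := hI n
    rw [hn, min_self] at h1
    rw [Module.supportDim_self_eq_ringKrullDim, ← Module.supportDim_quotient_eq_ringKrullDim,
      ← hdepthI]
    apply le_antisymm
    · rw [hn]; exact h1
    · rw [hd1]; exact hd2
  have hJbot : J ≠ ⊥ := by
    intro h
    apply hItop
    rw [← hJI, h, Submodule.annihilator_bot]
  have hdimI : ringKrullDim (S ⧸ I) = N := dim_quot_eq I N hN hItop (by rw [hIJ]; exact hJbot)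
  have h3 := depth_quot_ann I N hN hdimI
  rw [hIJ] at h3
  have h4 : Module.supportDim S (S ⧸ J) ≤ (N : WithBot ℕ∞) := by
    rw [← hN]
    exact Module.supportDim_le_ringKrullDim S _
  calc min (k : WithBot ℕ∞) (Module.supportDim S (S ⧸ J)) ≤ Module.supportDim S (S ⧸ J) :=
        min_le_right _ _
    _ ≤ (N : WithBot ℕ∞) := h4
    _ ≤ _ := by exact_mod_cast h3

end Local

section Global
variable {A : Type u} [CommRing A]

/-- transfer of depth and dimension of `(A/J)_p` to `A_p/J A_p` -/
theorem depth_and_dim_quot [IsNoetherianRing A] (p : Ideal A) [p.IsPrime] (J : Ideal A) :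
    LocCoh.depth (Localization.AtPrime p) (LocalizedModule p.primeCompl (A ⧸ J)) =
      LocCoh.depth (Localization.AtPrime p)
        (Localization.AtPrime p ⧸ J.map (algebraMap A (Localization.AtPrime p))) ∧
    Module.supportDim (Localization.AtPrime p) (LocalizedModule p.primeCompl (A ⧸ J)) =
      Module.supportDim (Localization.AtPrime p)
        (Localization.AtPrime p ⧸ J.map (algebraMap A (Localization.AtPrime p))) := by
  haveI : IsNoetherianRing (Localization.AtPrime p) :=
    IsLocalization.isNoetherianRing p.primeCompl _ inferInstance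
  haveI : Module.Finite (Localization.AtPrime p) (LocalizedModule p.primeCompl (A ⧸ J)) :=
    Module.Finite.of_isLocalizedModule p.primeCompl
      (LocalizedModule.mkLinearMap p.primeCompl (A ⧸ J))
  have h := SemiLin.depth_and_dim_eq_of_isLocalizedModule p.primeCompl
    (T₁ := Localization.AtPrime p) (T₂ := Localization.AtPrime p)
    (LocalizedModule.mkLinearMap p.primeCompl (A ⧸ J))
    (J.toLocalizedQuotient' (Localization.AtPrime p) p.primeCompl
      (Algebra.linearMap A (Localization.AtPrime p)))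
  rw [Ideal.localized'_eq_map] at h
  exact h

/-- **Linkage preserves Cohen–Macaulayness** (over a Gorenstein ring) -/
theorem cm_of_linked [hG : LocCoh.IsGorensteinRing A] (I J : Ideal A)
    (hIJ : Submodule.annihilator I = J) (hJI : Submodule.annihilator J = I)
    [hCM : LocCoh.IsCohenMacaulayRing (A ⧸ I)] : LocCoh.IsCohenMacaulayRing (A ⧸ J) := by
  haveI : IsNoetherianRing A := inferInstance
  apply Liai.cm_of_hasSk
  intro k
  rw [SkSurj.hasSk_iff (A := A) (C := A ⧸ J) Ideal.Quotient.mk_surjective (A ⧸ J) k]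
  intro p hp
  haveI : LocCoh.IsGorensteinLocalRing (Localization.AtPrime p) :=
    hG.isGorensteinLocalRing_localization p
  obtain ⟨hd1, hd2⟩ := depth_and_dim_quot p J
  rw [hd1, hd2]
  apply local_link (I.map (algebraMap A (Localization.AtPrime p)))
    (J.map (algebraMap A (Localization.AtPrime p)))
  · rw [annihilator_map p.primeCompl, hIJ]
  · rw [annihilator_map p.primeCompl, hJI]
  · intro k'
    have h1 : LocCoh.HasSk k' A (A ⧸ I) :=
      (SkSurj.hasSk_iff (A := A) (C := A ⧸ I) Ideal.Quotient.mk_surjective (A ⧸ I) k').mp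
        (Liai.hasSk_of_cm k')
    have h2 := h1 p
    obtain ⟨he1, he2⟩ := depth_and_dim_quot p I
    rw [he1, he2] at h2
    exact h2

/-- annihilators in a quotient ring are ideal quotients -/
theorem annihilator_map_mk {R : Type u} [CommRing R] (𝔠 I J : Ideal R)
    (hIJ : 𝔠.colon (I : Set R) = J) :
    Submodule.annihilator (I.map (Ideal.Quotient.mk 𝔠)) = J.map (Ideal.Quotient.mk 𝔠) := by
  have h𝔠J : 𝔠 ≤ J := hIJ ▸ Ideal.le_colon
  ext x
  obtain ⟨r, rfl⟩ := Ideal.Quotient.mk_surjective x
  rw [Ideal.mem_quotient_iff_mem h𝔠J, ← hIJ, Submodule.mem_colon, Submodule.mem_annihilator]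
  constructor
  · intro h i hi
    have := h (Ideal.Quotient.mk 𝔠 i) (Ideal.mem_map_of_mem _ hi)
    rw [smul_eq_mul, ← map_mul, Ideal.Quotient.eq_zero_iff_mem] at this
    exact this
  · intro h y hy
    obtain ⟨i, hi, rfl⟩ := (Ideal.mem_map_iff_of_surjective _ Ideal.Quotient.mk_surjective).mp hy
    rw [smul_eq_mul, ← map_mul, Ideal.Quotient.eq_zero_iff_mem]
    exact h i hi

/-- **S20015**, one direction, for an arbitrary ring -/
theorem cm_of_linked_quot {R : Type u} [CommRing R] (𝔠 I J : Ideal R)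
    [LocCoh.IsGorensteinRing (R ⧸ 𝔠)]
    (hIJ : 𝔠.colon (I : Set R) = J) (hJI : 𝔠.colon (J : Set R) = I)
    [hCM : LocCoh.IsCohenMacaulayRing (R ⧸ I)] : LocCoh.IsCohenMacaulayRing (R ⧸ J) := by
  have h𝔠J : 𝔠 ≤ J := hIJ ▸ Ideal.le_colon
  have h𝔠I : 𝔠 ≤ I := hJI ▸ Ideal.le_colon
  haveI : LocCoh.IsCohenMacaulayRing ((R ⧸ 𝔠) ⧸ I.map (Ideal.Quotient.mk 𝔠)) :=
    Liai.cm_of_ringEquiv (DoubleQuot.quotQuotEquivQuotOfLE h𝔠I).symm
  haveI := cm_of_linked (I.map (Ideal.Quotient.mk 𝔠)) (J.map (Ideal.Quotient.mk 𝔠))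
    (annihilator_map_mk 𝔠 I J hIJ) (annihilator_map_mk 𝔠 J I hJI)
  exact Liai.cm_of_ringEquiv (DoubleQuot.quotQuotEquivQuotOfLE h𝔠J)

end Global

end Groth.Agent.H6.Link
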