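import Mathlib
import Groth.Agent.Lib.Helper6.LinkB
import Groth.Agent.Lib.Helper1.Miracle
import Groth.Agent.Lib.Helper1.FlatDimLocal
import Groth.Agent.Lib.Helper6.CanReg

/-! Flatness of linked quotients over a regular base (S16517). -/

universe u
set_option linter.style.haveILetI false
open CategoryTheory CategoryTheory.Abelian InjHull IsLocalRing
open scoped TensorProduct

namespace Groth.Agent.H6.Link

section Flat
variable {R A : Type u} [CommRing R] [IsRegularLocalRing R] [CommRing A] [IsNoetherianRing A]
  [IsLocalRing A] [Algebra R A] [IsLocalHom (algebraMap R A)] [Module.Flat R A]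

/-- a Cohen–Macaulay quotient of full dimension of a flat local algebra over a regular local
ring is flat -/
theorem flat_quot (Q : Ideal A) (hCM : LocCoh.IsCohenMacaulayModule A (A ⧸ Q))
    (hdim : Module.supportDim A (A ⧸ Q) = ringKrullDim A) : Module.Flat R (A ⧸ Q) := by
  apply Groth.Agent.H1.Miracle.flat_of_cm (A := R) (B := A) (A ⧸ Q) hCM
  have hd : ringKrullDim R = ((maximalIdeal R).spanFinrank : ℕ) :=
    (IsRegularLocalRing.spanFinrank_maximalIdeal (R := R)).symm
  set d := (maximalIdeal R).spanFinrank with hddef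
  obtain ⟨x, hx⟩ := Groth.Agent.H1.Reg.exists_fin_span_eq_maximalIdeal R d hd
  have hxs : Ideal.ofList (List.ofFn x) = maximalIdeal R := by
    rw [← hx]
    show Ideal.span {a | a ∈ List.ofFn x} = Ideal.span (Set.range x)
    congr 1
    ext a
    simp [List.mem_ofFn]
  set xs := List.ofFn x with hxsdef
  have hlen : xs.length = d := List.length_ofFn
  have hmap : Ideal.ofList (xs.map (algebraMap R A)) = (maximalIdeal R).map (algebraMap R A) := by
    rw [← Ideal.map_ofList, hxs]
  have hmem : ∀ y ∈ xs.map (algebraMap R A), y ∈ maximalIdeal A := by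
    intro y hy
    have h1 : y ∈ Ideal.ofList (xs.map (algebraMap R A)) := Ideal.subset_span hy
    rw [hmap] at h1
    exact ((IsLocalRing.local_hom_TFAE (algebraMap R A)).out 0 2 rfl rfl).mp inferInstance h1
  have h1 := CM.supportDim_le_add_length (xs.map (algebraMap R A)) (A ⧸ Q) hmem
  rw [hmap, List.length_map, hlen] at h1
  set 𝔫 := (maximalIdeal R).map (algebraMap R A) with h𝔫
  have h2 : Module.supportDim A ((A ⧸ Q) ⧸ (𝔫 • ⊤ : Submodule A (A ⧸ Q))) ≤
      ringKrullDim (A ⧸ 𝔫) := by
    apply CanReg.supportDim_le_of_kill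
    intro r hr y
    obtain ⟨y, rfl⟩ := Submodule.Quotient.mk_surjective _ y
    rw [← Submodule.Quotient.mk_smul, Submodule.Quotient.mk_eq_zero]
    exact Submodule.smul_mem_smul hr Submodule.mem_top
  have h3 := Groth.Agent.H1.FlatDim.ringKrullDim_eq_add_fiber_of_flat R A
  rw [hdim]
  rw [hdim] at h1
  apply le_antisymm
  · rw [hd, add_comm]
    exact h1
  · rw [h3]
    exact add_le_add_right h2 _

end Flat

section Main
variable {R A : Type u} [CommRing R] [IsRegularLocalRing R] [CommRing A] [Algebra R A]
  [LocCoh.IsGorensteinLocalRing A] [IsLocalHom (algebraMap R A)] [Module.Flat R A]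

/-- **S16517** -/
theorem flat_linked (I : Ideal A) (hI : ringKrullDim (A ⧸ I) = ringKrullDim A)
    [hCM : LocCoh.IsCohenMacaulayLocalRing (A ⧸ I)] :
    Module.Flat R (A ⧸ I) ∧ Module.Flat R (A ⧸ (Submodule.annihilator I)) := by
  obtain ⟨N, hN⟩ := Bass.exists_ringKrullDim_eq (A := A)
  constructor
  · apply flat_quot I
    · unfold LocCoh.IsCohenMacaulayModule
      have h1 := hCM.supportDim_eq_depth
      rw [Module.supportDim_self_eq_ringKrullDim] at h1
      rw [Module.supportDim_quotient_eq_ringKrullDim, h1,
        Groth.Agent.H1.AB.depth_eq_of_surjective (R := A) (R' := A ⧸ I)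
          Ideal.Quotient.mk_surjective (A ⧸ I)]
    · rw [Module.supportDim_quotient_eq_ringKrullDim, hI]
  · by_cases hJ : Submodule.annihilator I = ⊤
    · haveI : Subsingleton (A ⧸ Submodule.annihilator I) := by
        rw [hJ]
        exact Ideal.Quotient.subsingleton_iff.mpr rfl
      infer_instance
    haveI : Nontrivial (A ⧸ Submodule.annihilator I) := Ideal.Quotient.nontrivial_iff.mpr hJ
    have h3 := depth_quot_ann I N hN (hI.trans hN)
    obtain ⟨d, hd1, hd2⟩ := Depth.exists_depth_eq (R := A) (A ⧸ Submodule.annihilator I)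
    have h4 : Module.supportDim A (A ⧸ Submodule.annihilator I) ≤ (N : WithBot ℕ∞) := by
      rw [← hN]
      exact Module.supportDim_le_ringKrullDim A _
    rw [hd1] at h3
    have hNd : N ≤ d := by exact_mod_cast h3
    have h5 : Module.supportDim A (A ⧸ Submodule.annihilator I) = (N : WithBot ℕ∞) := by
      apply le_antisymm h4
      calc (N : WithBot ℕ∞) ≤ (d : WithBot ℕ∞) := by exact_mod_cast hNd
        _ ≤ _ := hd2
    have hdN : d = N := by
      apply le_antisymm _ hNd
      rw [h5] at hd2
      exact_mod_cast hd2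
    apply flat_quot (Submodule.annihilator I)
    · unfold LocCoh.IsCohenMacaulayModule
      rw [h5, hd1, hdN]
      rfl
    · rw [h5, hN]

end Main

end Groth.Agent.H6.Link
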