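import Mathlib
import Groth.Agent.Lib.Helper6.LinkB
import Groth.Agent.Lib.Helper6.LDLoc1

/-! Specialization of linkage along a regular sequence (S16518). -/

universe u
set_option linter.style.haveILetI false
open CategoryTheory CategoryTheory.Abelian InjHull IsLocalRing RingTheory.Sequence
open scoped TensorProduct Pointwise

namespace Groth.Agent.H6.Link

section Step
variable {A : Type u} [CommRing A] (X : Type u) [AddCommGroup X] [Module A X]

/-- one step: dividing by a regular element -/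
theorem one_step (M : Type u) [AddCommGroup M] [Module A M] (a : A) (hreg : IsSMulRegular M a)
    (hE : ∀ j, 1 ≤ j → Subsingleton (Ext (ModuleCat.of A X) (ModuleCat.of A M) j)) :
    (∀ j, 1 ≤ j → Subsingleton (Ext (ModuleCat.of A X) (ModuleCat.of A (QuotSMulTop a M)) j)) ∧
    (∀ φ : X →ₗ[A] QuotSMulTop a M, ∃ ψ : X →ₗ[A] M,
      φ = (Submodule.mkQ (a • ⊤ : Submodule A M)) ∘ₗ ψ) ∧
    (∀ ψ : X →ₗ[A] M, (Submodule.mkQ (a • ⊤ : Submodule A M)) ∘ₗ ψ = 0 →
      ∃ ψ₀ : X →ₗ[A] M, ψ = a • ψ₀) := by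
  have hreg' : IsSMulRegular (ModuleCat.of A M) a := hreg
  have hS := hreg'.smulShortComplex_shortExact
  refine ⟨?_, ?_, ?_⟩
  · intro j hj
    refine ⟨fun x y => ?_⟩
    suffices h : ∀ x₃ : Ext (ModuleCat.of A X) (ModuleCat.of A (QuotSMulTop a M)) j, x₃ = 0 by
      rw [h x, h y]
    intro x₃
    haveI h1 : Subsingleton (Ext (ModuleCat.of A X)
        ((ModuleCat.of A M).smulShortComplex a).X₁ (j + 1)) := hE (j + 1) (by omega)
    haveI h2 : Subsingleton (Ext (ModuleCat.of A X)
        ((ModuleCat.of A M).smulShortComplex a).X₂ j) := hE j hj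
    obtain ⟨x₂, hx₂⟩ := Ext.covariant_sequence_exact₃ (ModuleCat.of A X) hS x₃ rfl
      (Subsingleton.elim _ _)
    rw [← hx₂, Subsingleton.elim x₂ 0, Ext.zero_comp]
    rfl
  · intro φ
    haveI h1 : Subsingleton (Ext (ModuleCat.of A X)
        ((ModuleCat.of A M).smulShortComplex a).X₁ (0 + 1)) := hE 1 le_rfl
    obtain ⟨x₂, hx₂⟩ := Ext.covariant_sequence_exact₃ (ModuleCat.of A X) hS
      (Ext.mk₀ (ModuleCat.ofHom φ)) (rfl : 0 + 1 = 0 + 1) (Subsingleton.elim _ _)
    obtain ⟨g, rfl⟩ := (Ext.mk₀_bijective _ _).2 x₂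
    rw [Ext.mk₀_comp_mk₀] at hx₂
    have h2 := (Ext.mk₀_bijective _ _).1 hx₂
    refine ⟨g.hom, ?_⟩
    have h3 := congrArg ModuleCat.Hom.hom h2
    exact h3.symm
  · intro ψ hψ
    have h1 : ∀ x : X, ∃ m : M, a • m = ψ x := by
      intro x
      have h2 : ψ x ∈ (a • ⊤ : Submodule A M) := by
        have := LinearMap.congr_fun hψ x
        rwa [LinearMap.comp_apply, Submodule.mkQ_apply, LinearMap.zero_apply,
          Submodule.Quotient.mk_eq_zero] at this
      obtain ⟨m, -, hm⟩ := (Submodule.mem_smul_pointwise_iff_exists _ _ _).mp h2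
      exact ⟨m, hm⟩
    choose ψ₀ hψ₀ using h1
    refine ⟨{ toFun := ψ₀, map_add' := ?_, map_smul' := ?_ }, ?_⟩
    · intro x y
      apply hreg
      change a • ψ₀ (x + y) = a • (ψ₀ x + ψ₀ y)
      rw [smul_add, hψ₀, hψ₀, hψ₀, map_add]
    · intro r x
      apply hreg
      change a • ψ₀ (r • x) = a • (r • ψ₀ x)
      rw [smul_comm, hψ₀, hψ₀, map_smul]
    · apply LinearMap.ext
      intro x
      exact (hψ₀ x).symm

/-- the conclusion of the induction along a regular sequence -/
structure Good (M : Type u) [AddCommGroup M] [Module A M] (as : List A) : Prop where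
  ext : ∀ j, 1 ≤ j → Subsingleton (Ext (ModuleCat.of A X)
    (ModuleCat.of A (M ⧸ (Ideal.ofList as • ⊤ : Submodule A M))) j)
  lift : ∀ φ : X →ₗ[A] (M ⧸ (Ideal.ofList as • ⊤ : Submodule A M)), ∃ ψ : X →ₗ[A] M,
    φ = (Submodule.mkQ (Ideal.ofList as • ⊤ : Submodule A M)) ∘ₗ ψ
  ker : ∀ ψ : X →ₗ[A] M, (Submodule.mkQ (Ideal.ofList as • ⊤ : Submodule A M)) ∘ₗ ψ = 0 →
    ψ ∈ (Ideal.ofList as • ⊤ : Submodule A (X →ₗ[A] M))

theorem good (as : List A) : ∀ (M : Type u) [AddCommGroup M] [Module A M],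
    (∀ j, 1 ≤ j → Subsingleton (Ext (ModuleCat.of A X) (ModuleCat.of A M) j)) →
    IsWeaklyRegular M as → Good X M as := by
  induction as with
  | nil =>
    intro M _ _ hE _
    have hbot : (Ideal.ofList ([] : List A) • ⊤ : Submodule A M) = ⊥ := by
      rw [Ideal.ofList_nil, Submodule.bot_smul]
    let e := Submodule.quotEquivOfEqBot _ hbot
    have he : ∀ m : M, e (Submodule.Quotient.mk m) = m :=
      fun m => Submodule.quotEquivOfEqBot_apply_mk _ hbot m
    refine ⟨?_, ?_, ?_⟩
    · intro j hj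
      exact LDL.ext_subsingleton_of_iso₂ _ e.toModuleIso j (hE j hj)
    · intro φ
      refine ⟨e.toLinearMap ∘ₗ φ, ?_⟩
      apply LinearMap.ext
      intro x
      apply e.injective
      simp only [LinearMap.comp_apply, LinearEquiv.coe_coe, Submodule.mkQ_apply]
      rw [he]
    · intro ψ hψ
      have : ψ = 0 := by
        apply LinearMap.ext
        intro x
        have h1 := LinearMap.congr_fun hψ x
        rw [LinearMap.comp_apply, Submodule.mkQ_apply, LinearMap.zero_apply,
          Submodule.Quotient.mk_eq_zero, hbot, Submodule.mem_bot] at h1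
        exact h1
      rw [this]
      exact Submodule.zero_mem _
  | cons a as ih =>
    intro M _ _ hE hreg
    rw [isWeaklyRegular_cons_iff] at hreg
    obtain ⟨hE₁, hL₁, hK₁⟩ := one_step X M a hreg.1 hE
    obtain ⟨hE₂, hL₂, hK₂⟩ := ih (QuotSMulTop a M) hE₁ hreg.2
    set e := Submodule.quotOfListConsSMulTopEquivQuotSMulTopInner M a as with he
    have he_mk : ∀ m : M, e (Submodule.Quotient.mk m) =
        Submodule.Quotient.mk (Submodule.Quotient.mk m) := fun _ => rfl
    refine ⟨?_, ?_, ?_⟩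
    · intro j hj
      exact LDL.ext_subsingleton_of_iso₂ _ e.toModuleIso j (hE₂ j hj)
    · intro φ
      obtain ⟨ψ₁, hψ₁⟩ := hL₂ (e.toLinearMap ∘ₗ φ)
      obtain ⟨ψ, hψ⟩ := hL₁ ψ₁
      refine ⟨ψ, ?_⟩
      apply LinearMap.ext
      intro x
      apply e.injective
      have h1 := LinearMap.congr_fun hψ₁ x
      have h2 := LinearMap.congr_fun hψ x
      simp only [LinearMap.comp_apply, LinearEquiv.coe_coe, Submodule.mkQ_apply] at h1 h2 ⊢
      rw [h1, h2, he_mk]
    · intro ψ hψ
      -- the induced map to `M/aM`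
      set Φ : (X →ₗ[A] M) →ₗ[A] (X →ₗ[A] QuotSMulTop a M) :=
        LinearMap.llcomp A X M (QuotSMulTop a M) (Submodule.mkQ (a • ⊤ : Submodule A M)) with hΦ
      have hΦsurj : Function.Surjective Φ := by
        intro φ
        obtain ⟨θ, hθ⟩ := hL₁ φ
        exact ⟨θ, hθ.symm⟩
      have h1 : Φ ψ ∈ (Ideal.ofList as • ⊤ : Submodule A (X →ₗ[A] QuotSMulTop a M)) := by
        apply hK₂
        apply LinearMap.ext
        intro x
        have h2 := LinearMap.congr_fun hψ x
        simp only [LinearMap.comp_apply, Submodule.mkQ_apply, LinearMap.zero_apply] at h2 ⊢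
        have h3 := congrArg e h2
        rw [he_mk, map_zero] at h3
        exact h3
      have h2 : (Ideal.ofList as • ⊤ : Submodule A (X →ₗ[A] QuotSMulTop a M)) =
          (Ideal.ofList as • ⊤ : Submodule A (X →ₗ[A] M)).map Φ := by
        rw [Submodule.map_smul'', Submodule.map_top, LinearMap.range_eq_top.mpr hΦsurj]
      rw [h2] at h1
      obtain ⟨θ, hθ, hθψ⟩ := h1
      have h3 : (Submodule.mkQ (a • ⊤ : Submodule A M)) ∘ₗ (ψ - θ) = 0 := by
        have : Φ (ψ - θ) = 0 := by rw [map_sub, hθψ, sub_self]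
        exact this
      obtain ⟨ψ₀, hψ₀⟩ := hK₁ (ψ - θ) h3
      have h4 : ψ = a • ψ₀ + θ := by rw [← hψ₀]; abel
      rw [h4, Ideal.ofList_cons, Submodule.sup_smul]
      apply Submodule.add_mem_sup
      · exact Submodule.smul_mem_smul (Ideal.mem_span_singleton_self a) Submodule.mem_top
      · exact hθ

end Step

section Main

/-- vanishing of `Ext(M, S)` over a Gorenstein local ring for modules of maximal depth -/
theorem ext_self_subsingleton_of_depth {S : Type u} [CommRing S]
    [LocCoh.IsGorensteinLocalRing S] (N : ℕ) (hN : ringKrullDim S = N)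
    (M : Type u) [AddCommGroup M] [Module S M] [Module.Finite S M]
    (hM : ∀ i, i < N → Subsingleton (LocCoh.H (maximalIdeal S) i M)) (k : ℕ) (hk : 1 ≤ k) :
    Subsingleton (Ext (ModuleCat.of S M) (ModuleCat.of S S) k) := by
  by_cases hkN : k ≤ N
  · obtain ⟨ES, _, _, fS, hfS⟩ := IH.exists_injectiveHull (R := S) (S ⧸ maximalIdeal S)
    obtain ⟨ld⟩ := LD.local_duality_gorenstein N hN ES fS hfS M k (N - k) (by omega)
    haveI := hM (N - k) (by omega)
    have h1 : Subsingleton (Ext (ModuleCat.of S M) (ModuleCat.of S S) k →ₗ[S] ES) :=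
      ld.symm.toEquiv.subsingleton
    exact Can.subsingleton_of_dual_subsingleton hfS _ h1
  · obtain ⟨n₀, hn₀⟩ := LocCoh.IsGorensteinLocalRing.exists_hasInjectiveDimensionLT (A := S)
    have := Bass.hasInjectiveDimensionLT_of_gorenstein n₀ hn₀ N hN
    exact HasInjectiveDimensionLT.subsingleton _ (N + 1) k (by omega) _

variable {R A : Type u} [CommRing R] [CommRing A] [Algebra R A]
  [LocCoh.IsGorensteinLocalRing A] [Module.Flat R A]

/-- **S16518** -/
theorem specialize (I : Ideal A) (hI : ringKrullDim (A ⧸ I) = ringKrullDim A)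
    [hCM : LocCoh.IsCohenMacaulayLocalRing (A ⧸ I)]
    (rs : List R) (hrs : IsWeaklyRegular R rs) :
    Submodule.annihilator I ⊔ (Ideal.ofList rs).map (algebraMap R A) =
        Submodule.colon ((Ideal.ofList rs).map (algebraMap R A)) (I : Set A) ∧
      Submodule.annihilator I ⊓ (Ideal.ofList rs).map (algebraMap R A) =
        (Ideal.ofList rs).map (algebraMap R A) * Submodule.annihilator I := by
  obtain ⟨N, hN⟩ := Bass.exists_ringKrullDim_eq (A := A)
  -- depth of `A/I`
  have hdepth : (N : ℕ∞) ≤ LocCoh.depth A (A ⧸ I) := by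
    have h1 := hCM.supportDim_eq_depth
    rw [Module.supportDim_self_eq_ringKrullDim, hI, hN] at h1
    rw [Groth.Agent.H1.AB.depth_eq_of_surjective (R := A) (R' := A ⧸ I)
      Ideal.Quotient.mk_surjective (A ⧸ I)]
    have : ((N : ℕ∞) : WithBot ℕ∞) = ((LocCoh.depth (A ⧸ I) (A ⧸ I) : ℕ∞) : WithBot ℕ∞) := by
      exact_mod_cast h1
    exact le_of_eq (WithBot.coe_injective this)
  have hvan := (Depth.le_idealDepth_iff (maximalIdeal A) (A ⧸ I) N).mp hdepth
  have hE := ext_self_subsingleton_of_depth N hN (A ⧸ I) hvan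
  set as := rs.map (algebraMap R A) with has
  have hreg : IsWeaklyRegular A as := hrs.of_flat
  obtain ⟨-, hL, hK⟩ := good (A ⧸ I) as A hE hreg
  rw [Ideal.map_ofList, ← has]
  have htop : (Ideal.ofList as • ⊤ : Submodule A A) = Ideal.ofList as := by
    rw [smul_eq_mul, Ideal.mul_top]
  constructor
  · apply le_antisymm
    · apply sup_le
      · intro x hx
        rw [Submodule.mem_colon]
        intro i hi
        have := (Submodule.mem_annihilator.mp hx) i hi
        rw [this]
        exact Submodule.zero_mem _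
      · exact Ideal.le_colon
    · intro x hx
      rw [Submodule.mem_colon] at hx
      -- the homomorphism `A/I → A/𝔞` defined by `x`
      let φ : (A ⧸ I) →ₗ[A] (A ⧸ (Ideal.ofList as • ⊤ : Submodule A A)) :=
        Submodule.liftQ I ((Submodule.mkQ _) ∘ₗ (LinearMap.toSpanSingleton A A x)) (by
          intro i hi
          rw [LinearMap.mem_ker, LinearMap.comp_apply, LinearMap.toSpanSingleton_apply,
            Submodule.mkQ_apply, Submodule.Quotient.mk_eq_zero, htop, smul_eq_mul, mul_comm]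
          exact hx i hi)
      obtain ⟨ψ, hψ⟩ := hL φ
      have h1 := LinearMap.congr_fun hψ (Submodule.Quotient.mk (1 : A))
      have h2 : φ (Submodule.Quotient.mk (1 : A)) = Submodule.Quotient.mk x := by
        change Submodule.liftQ I _ _ (Submodule.Quotient.mk (1 : A)) = _
        rw [Submodule.liftQ_apply, LinearMap.comp_apply, LinearMap.toSpanSingleton_apply,
          one_smul, Submodule.mkQ_apply]
      rw [h2, LinearMap.comp_apply, Submodule.mkQ_apply, Submodule.Quotient.eq, htop] at h1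
      have h3 : ψ (Submodule.Quotient.mk (1 : A)) ∈ Submodule.annihilator I :=
        (homEquivAnn I ψ).2
      have h4 : x = ψ (Submodule.Quotient.mk (1 : A)) + (x - ψ (Submodule.Quotient.mk (1 : A))) := by
        ring
      rw [h4]
      exact Submodule.add_mem_sup h3 h1
  · apply le_antisymm
    · rintro y ⟨hyJ, hy𝔞⟩
      let ψ : (A ⧸ I) →ₗ[A] A := (homEquivAnn I).symm ⟨y, hyJ⟩
      have hψ1 : ψ (Submodule.Quotient.mk (1 : A)) = y :=
        congrArg Subtype.val ((homEquivAnn I).apply_symm_apply ⟨y, hyJ⟩)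
      have h1 : (Submodule.mkQ (Ideal.ofList as • ⊤ : Submodule A A)) ∘ₗ ψ = 0 := by
        apply LinearMap.ext
        intro z
        obtain ⟨z, rfl⟩ := Ideal.Quotient.mk_surjective z
        have hz : (Ideal.Quotient.mk I z) = z • (Submodule.Quotient.mk (1 : A) : A ⧸ I) := by
          change Ideal.Quotient.mk I z = Ideal.Quotient.mk I (z * 1)
          rw [mul_one]
        rw [LinearMap.comp_apply, hz, map_smul, hψ1, LinearMap.zero_apply, Submodule.mkQ_apply,
          Submodule.Quotient.mk_eq_zero, htop, smul_eq_mul]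
        exact Ideal.mul_mem_left _ z hy𝔞
      have h2 := hK ψ h1
      -- evaluate at one
      let ev : ((A ⧸ I) →ₗ[A] A) →ₗ[A] A := LinearMap.applyₗ (Submodule.Quotient.mk (1 : A))
      have h3 : ev ψ ∈ (Ideal.ofList as • ⊤ : Submodule A ((A ⧸ I) →ₗ[A] A)).map ev :=
        Submodule.mem_map_of_mem h2
      rw [Submodule.map_smul''] at h3
      have h4 : (⊤ : Submodule A ((A ⧸ I) →ₗ[A] A)).map ev ≤ Submodule.annihilator I := by
        rintro _ ⟨θ, -, rfl⟩
        exact (homEquivAnn I θ).2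
      have h5 : ev ψ = y := hψ1
      rw [h5] at h3
      exact (Submodule.smul_mono le_rfl h4) h3
    · rw [mul_comm]
      exact Ideal.mul_le_inf

end Main

end Groth.Agent.H6.Link
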