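import Mathlib
import Groth.Agent.Lib.Helper6.LinkB
import Groth.Agent.Lib.Helper6.GorQuot
import Groth.Agent.Lib.Helper6.CanGor
import Groth.Agent.Lib.Helper6.CanGorExt
import Groth.Agent.Lib.Helper2.GorTransfer

/-! Complete intersections are Gorenstein; linked ideals of almost complete intersections. -/

universe u
set_option linter.style.haveILetI false
set_option autoImplicit false
open CategoryTheory CategoryTheory.Abelian InjHull IsLocalRing RingTheory.Sequence
open scoped TensorProduct Pointwise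

namespace Groth.Agent.H6.Link

section RegSeq

/-- a Gorenstein local ring modulo a regular sequence is Gorenstein -/
theorem gorLocal_quot_ofList (n : ℕ) : ∀ (T : Type u) [CommRing T]
    [LocCoh.IsGorensteinLocalRing T] (xs : List T), xs.length = n →
    (∀ x ∈ xs, x ∈ maximalIdeal T) →
    IsWeaklyRegular T xs → LocCoh.IsGorensteinLocalRing (T ⧸ Ideal.ofList xs) := by
  induction n with
  | zero =>
    intro T _ _ xs hlen _ _
    have : xs = [] := List.length_eq_zero_iff.mp hlen
    subst this
    have h0 : Ideal.ofList ([] : List T) = ⊥ := Ideal.ofList_nil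
    exact Groth.Agent.H2.GorTransfer.gorLocal_of_ringEquiv
      ((Ideal.quotEquivOfEq h0).trans (RingEquiv.quotientBot T)).symm
  | succ n ih =>
    intro T _ _ xs hlen hmem hreg
    obtain ⟨x, xs', rfl⟩ : ∃ x xs', xs = x :: xs' := by
      cases xs with
      | nil => simp at hlen
      | cons x xs' => exact ⟨x, xs', rfl⟩
    rw [isWeaklyRegular_cons_iff] at hreg
    obtain ⟨hx, hxs'⟩ := hreg
    have hxm : x ∈ maximalIdeal T := hmem x List.mem_cons_self
    haveI h1 : LocCoh.IsGorensteinLocalRing (T ⧸ Ideal.span {x}) :=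
      (CR.gorenstein_quot_iff x hxm hx).mp inferInstance
    have e : QuotSMulTop x T ≃ₗ[T] (T ⧸ Ideal.span {x}) :=
      Submodule.quotEquivOfEq _ _ (by
        rw [← Submodule.ideal_span_singleton_smul, smul_eq_mul, Ideal.mul_top])
    have h2 : IsWeaklyRegular (T ⧸ Ideal.span {x}) xs' := (e.isWeaklyRegular_congr xs').mp hxs'
    have h3 : IsWeaklyRegular (T ⧸ Ideal.span {x})
        (xs'.map (algebraMap T (T ⧸ Ideal.span {x}))) :=
      (isWeaklyRegular_map_algebraMap_iff (T ⧸ Ideal.span {x}) (T ⧸ Ideal.span {x}) xs').mpr h2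
    haveI : IsLocalHom (algebraMap T (T ⧸ Ideal.span {x})) :=
      IsLocalHom.of_surjective _ Ideal.Quotient.mk_surjective
    have h4 := ih (T ⧸ Ideal.span {x}) (xs'.map (algebraMap T (T ⧸ Ideal.span {x})))
      (by rw [List.length_map]; simpa using hlen)
      (by
        intro y hy
        obtain ⟨z, hz, rfl⟩ := List.mem_map.mp hy
        exact map_nonunit (algebraMap T (T ⧸ Ideal.span {x})) z
          (hmem z (List.mem_cons_of_mem x hz))) h3
    have h5 : Ideal.ofList (xs'.map (algebraMap T (T ⧸ Ideal.span {x}))) =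
        (Ideal.ofList xs').map (Ideal.Quotient.mk (Ideal.span {x})) :=
      (Ideal.map_ofList _ _).symm
    have h6 : Ideal.span {x} ⊔ Ideal.ofList xs' = Ideal.ofList (x :: xs') :=
      (Ideal.ofList_cons x xs').symm
    exact Groth.Agent.H2.GorTransfer.gorLocal_of_ringEquiv
      ((Ideal.quotEquivOfEq h5).trans
        ((DoubleQuot.quotQuotEquivQuotSup (Ideal.span {x}) (Ideal.ofList xs')).trans
          (Ideal.quotEquivOfEq h6)))

end RegSeq

section Bridge
variable {R : Type u} [CommRing R]

/-- the localization of a quotient is the quotient of the localization -/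
noncomputable def locQuotEquiv (J : Ideal R) (q : Ideal (R ⧸ J)) [q.IsPrime] :
    Localization.AtPrime q ≃+*
      (Localization.AtPrime (q.comap (Ideal.Quotient.mk J)) ⧸
        J.map (algebraMap R (Localization.AtPrime (q.comap (Ideal.Quotient.mk J))))) := by
  set p := q.comap (Ideal.Quotient.mk J) with hp
  haveI : q.LiesOver p := ⟨rfl⟩
  have heq : Algebra.algebraMapSubmonoid (R ⧸ J) p.primeCompl = q.primeCompl :=
    Ideal.algebraMapSubmonoid_primeCompl_of_liesOver_surjective q p Ideal.Quotient.mk_surjective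
  haveI : IsLocalization q.primeCompl
      (Localization.AtPrime p ⧸ J.map (algebraMap R (Localization.AtPrime p))) := by
    rw [← heq]
    infer_instance
  exact (IsLocalization.algEquiv q.primeCompl (Localization.AtPrime q)
    (Localization.AtPrime p ⧸ J.map (algebraMap R (Localization.AtPrime p)))).toRingEquiv

/-- a quotient of a Gorenstein ring by `c` elements generating an ideal of height `≥ c` is
Gorenstein -/
theorem gor_of_ci [hG : LocCoh.IsGorensteinRing R] (gs : List R)
    (hht : (gs.length : ℕ∞) ≤ (Ideal.ofList gs).height) :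
    LocCoh.IsGorensteinRing (R ⧸ Ideal.ofList gs) := by
  haveI : IsNoetherianRing R := inferInstance
  refine { isGorensteinLocalRing_localization := fun q hq => ?_ }
  set p := q.comap (Ideal.Quotient.mk (Ideal.ofList gs)) with hp
  haveI : p.IsPrime := Ideal.comap_isPrime _ _
  set T := Localization.AtPrime p with hT
  haveI : LocCoh.IsGorensteinLocalRing T := hG.isGorensteinLocalRing_localization p
  have h𝔠p : Ideal.ofList gs ≤ p := by
    intro x hx
    rw [hp, Ideal.mem_comap, Ideal.Quotient.eq_zero_iff_mem.mpr hx]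
    exact Submodule.zero_mem _
  set gs' := gs.map (algebraMap R T) with hgs'
  have hmap : (Ideal.ofList gs).map (algebraMap R T) = Ideal.ofList gs' := Ideal.map_ofList _ _
  have hmem : ∀ y ∈ gs', y ∈ maximalIdeal T := by
    intro y hy
    obtain ⟨z, hz, rfl⟩ := List.mem_map.mp hy
    rw [IsLocalization.AtPrime.to_map_mem_maximal_iff T p]
    exact h𝔠p (Ideal.subset_span hz)
  have hle : Ideal.ofList gs' ≤ maximalIdeal T := Ideal.span_le.mpr (fun y hy => hmem y hy)
  have hne : Ideal.ofList gs' ≠ ⊤ := fun h =>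
    (maximalIdeal.isMaximal T).ne_top (top_le_iff.mp (h ▸ hle))
  haveI : Nontrivial (T ⧸ Ideal.ofList gs') := Ideal.Quotient.nontrivial_iff.mpr hne
  obtain ⟨N, hN⟩ := Bass.exists_ringKrullDim_eq (A := T)
  obtain ⟨d, hd⟩ := LC.exists_supportDim_eq (R := T) (T ⧸ Ideal.ofList gs')
  rw [Module.supportDim_quotient_eq_ringKrullDim] at hd
  have hfin : (Ideal.ofList gs').height ≠ ⊤ := Ideal.height_ne_top hne
  obtain ⟨g', hg'⟩ := ENat.ne_top_iff_exists.mp hfin
  have h1 := CanG.height_add_dim (S := T) LDL.gor_cm (Ideal.ofList gs') g' d N hg'.symm hd hN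
  have h2 : gs.length ≤ g' := by
    have h3 : (Ideal.ofList gs).height ≤ (Ideal.ofList gs').height := by
      rw [← IsLocalization.height_under p.primeCompl (Ideal.ofList gs'), ← hmap]
      exact Ideal.height_mono Ideal.le_comap_map
    have h4 := hht.trans h3
    rw [← hg'] at h4
    exact_mod_cast h4
  have htop : (Ideal.ofList gs' • ⊤ : Submodule T T) = Ideal.ofList gs' := by
    rw [smul_eq_mul, Ideal.mul_top]
  have h5 := CM.supportDim_le_add_length gs' T hmem
  rw [Module.supportDim_self_eq_ringKrullDim, hN] at h5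
  have h6 : Module.supportDim T (T ⧸ (Ideal.ofList gs' • ⊤ : Submodule T T)) = (d : WithBot ℕ∞) := by
    rw [← hd, ← Module.supportDim_quotient_eq_ringKrullDim]
    exact Module.supportDim_eq_of_equiv (Submodule.quotEquivOfEq _ _ htop)
  rw [h6] at h5
  have hlen' : gs'.length = gs.length := List.length_map _
  have h7 : N ≤ d + gs'.length := by exact_mod_cast h5
  have hreg : IsWeaklyRegular T gs' := by
    apply CM.isWeaklyRegular_of_supportDim gs' T LDL.gor_cm hmem
    rw [h6, Module.supportDim_self_eq_ringKrullDim, hN]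
    have : d + gs'.length = N := by omega
    exact_mod_cast this
  haveI h8 := gorLocal_quot_ofList gs'.length T gs' rfl hmem hreg
  have e := locQuotEquiv (Ideal.ofList gs) q
  exact Groth.Agent.H2.GorTransfer.gorLocal_of_ringEquiv
    (e.trans (Ideal.quotEquivOfEq hmap)).symm

end Bridge

section Principal

/-- local form: the annihilator of an element whose double annihilator is principal defines a
Gorenstein quotient as soon as the quotient is Cohen–Macaulay -/
theorem local_gor {S : Type u} [CommRing S] [LocCoh.IsGorensteinLocalRing S] (f : S)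
    (𝔞 : Ideal S) (h1 : Submodule.annihilator 𝔞 = Ideal.span {f})
    (h2 : ∀ x, x ∈ 𝔞 ↔ x * f = 0) [hCM : LocCoh.IsCohenMacaulayLocalRing (S ⧸ 𝔞)] :
    LocCoh.IsGorensteinLocalRing (S ⧸ 𝔞) := by
  obtain ⟨N, hN⟩ := Bass.exists_ringKrullDim_eq (A := S)
  have h𝔞top : 𝔞 ≠ ⊤ := Ideal.Quotient.nontrivial_iff.mp inferInstance
  have hf0 : f ≠ 0 := by
    intro hf
    apply h𝔞top
    rw [eq_top_iff]
    intro x _
    rw [h2, hf, mul_zero]
  have hann : Submodule.annihilator 𝔞 ≠ ⊥ := by
    rw [h1]
    intro h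
    exact hf0 (Ideal.span_singleton_eq_bot.mp h)
  have hdim := dim_quot_eq 𝔞 N hN h𝔞top hann
  obtain ⟨E, _, _, g, hg⟩ := IH.exists_injectiveHull (R := S ⧸ 𝔞)
    ((S ⧸ 𝔞) ⧸ maximalIdeal (S ⧸ 𝔞))
  have hsurj : Function.Surjective (algebraMap S (S ⧸ 𝔞)) := Ideal.Quotient.mk_surjective
  obtain ⟨eK⟩ := CanLoc.can_ext (S ⧸ 𝔞) N hdim E g hg S hsurj N hN
  rw [Nat.sub_self] at eK
  set X := Ext (ModuleCat.of S (S ⧸ 𝔞)) (ModuleCat.of S S) 0 with hX
  haveI : Module.Finite S X := ModuleCat.finite_ext S _ _ 0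
  obtain ⟨e⟩ := nonempty_tensor_ext_equiv 𝔞
  -- `Ann 𝔞 = (f) ≅ S/𝔞`
  have hker : LinearMap.ker (LinearMap.toSpanSingleton S S f) = 𝔞 := by
    ext x
    rw [LinearMap.mem_ker, LinearMap.toSpanSingleton_apply, smul_eq_mul, h2]
  have hrange : LinearMap.range (LinearMap.toSpanSingleton S S f) = Submodule.annihilator 𝔞 := by
    rw [h1, LinearMap.range_toSpanSingleton]
  have e2 : (S ⧸ 𝔞) ≃ₗ[S] (Submodule.annihilator 𝔞) :=
    (Submodule.quotEquivOfEq _ _ hker.symm).trans
      ((LinearMap.toSpanSingleton S S f).quotKerEquivRange.trans (LinearEquiv.ofEq _ _ hrange))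
  let e3 : ((S ⧸ 𝔞) ⊗[S] X) ≃ₗ[S] (S ⧸ 𝔞) := e.trans e2.symm
  let e4 : ((S ⧸ 𝔞) ⊗[S] X) ≃ₗ[S ⧸ 𝔞] (S ⧸ 𝔞) :=
    { e3 with
      map_smul' := by
        intro r x
        obtain ⟨r, rfl⟩ := Ideal.Quotient.mk_surjective r
        have h3 : ∀ y : (S ⧸ 𝔞) ⊗[S] X, (Ideal.Quotient.mk 𝔞 r) • y = r • y :=
          fun y => algebraMap_smul (S ⧸ 𝔞) r y
        have h4 : ∀ y : S ⧸ 𝔞, (Ideal.Quotient.mk 𝔞 r) • y = r • y :=
          fun y => algebraMap_smul (S ⧸ 𝔞) r y
        change e3 (Ideal.Quotient.mk 𝔞 r • x) = (Ideal.Quotient.mk 𝔞 r) • e3 x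
        rw [h3, h4, map_smul] }
  exact (Can.gorenstein_iff_can_equiv_self N hdim E ((S ⧸ 𝔞) ⊗[S] X) g hg eK).mpr ⟨e4⟩

theorem gor_of_ringEquiv {A B : Type u} [CommRing A] [CommRing B] (e : A ≃+* B)
    [hA : LocCoh.IsGorensteinRing A] : LocCoh.IsGorensteinRing B := by
  haveI : IsNoetherianRing A := inferInstance
  haveI : IsNoetherianRing B := isNoetherianRing_of_ringEquiv A e
  refine { isGorensteinLocalRing_localization := fun P hP => ?_ }
  let p : Ideal A := P.comap e.toRingHom
  haveI : p.IsPrime := Ideal.comap_isPrime _ _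
  have H : p.primeCompl.map e.toMonoidHom = P.primeCompl := by
    ext y
    constructor
    · rintro ⟨x, hx, rfl⟩
      exact hx
    · intro hy
      refine ⟨e.symm y, ?_, by simp⟩
      change e.symm y ∉ p
      intro h
      apply hy
      have : e (e.symm y) ∈ P := h
      simpa using this
  haveI := hA.isGorensteinLocalRing_localization p
  exact Groth.Agent.H2.GorTransfer.gorLocal_of_ringEquiv
    (IsLocalization.ringEquivOfRingEquiv (Localization.AtPrime p)
      (Localization.AtPrime P) e H)

/-- global form of `local_gor` -/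
theorem gor_of_linked_principal {A : Type u} [CommRing A] [hG : LocCoh.IsGorensteinRing A]
    (f : A) (J : Ideal A) (hJ : ∀ x, x ∈ J ↔ x * f = 0)
    (hJ2 : Submodule.annihilator J = Ideal.span {f})
    [hCM : LocCoh.IsCohenMacaulayRing (A ⧸ J)] : LocCoh.IsGorensteinRing (A ⧸ J) := by
  haveI : IsNoetherianRing A := inferInstance
  refine { isGorensteinLocalRing_localization := fun q hq => ?_ }
  set p := q.comap (Ideal.Quotient.mk J) with hp
  haveI : p.IsPrime := Ideal.comap_isPrime _ _
  set S := Localization.AtPrime p with hS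
  haveI : LocCoh.IsGorensteinLocalRing S := hG.isGorensteinLocalRing_localization p
  set 𝔞 := J.map (algebraMap A S) with h𝔞
  have e := locQuotEquiv J q
  haveI := hCM.isCohenMacaulayLocalRing_localization q
  haveI : LocCoh.IsCohenMacaulayLocalRing (S ⧸ 𝔞) := Liai.cmLocal_of_ringEquiv e
  have hJann : J = Submodule.annihilator (Ideal.span {f}) := by
    ext x
    rw [hJ, Submodule.mem_annihilator_span_singleton, smul_eq_mul]
  have hspan : (Ideal.span {f}).map (algebraMap A S) = Ideal.span {algebraMap A S f} := by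
    rw [Ideal.map_span, Set.image_singleton]
  have h1 : Submodule.annihilator 𝔞 = Ideal.span {algebraMap A S f} := by
    rw [h𝔞, annihilator_map p.primeCompl S J, hJ2, hspan]
  have h2 : ∀ x, x ∈ 𝔞 ↔ x * algebraMap A S f = 0 := by
    intro x
    rw [h𝔞, hJann, ← annihilator_map p.primeCompl S, hspan,
      Submodule.mem_annihilator_span_singleton, smul_eq_mul]
  haveI := local_gor (algebraMap A S f) 𝔞 h1 h2
  exact Groth.Agent.H2.GorTransfer.gorLocal_of_ringEquiv e.symm

end Principal

end Groth.Agent.H6.Link
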