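import Mathlib
import Groth.Agent.Lib.Helper6.LinkD
import Groth.Agent.Lib.Helper6.LinkE
import Groth.Agent.Lib.Helper6.LCNonvanish

/-! The sum of two geometrically linked ideals in a Gorenstein local ring defines a Gorenstein
ring of dimension one less. -/

universe u
set_option linter.style.haveILetI false
set_option autoImplicit false
open CategoryTheory CategoryTheory.Abelian InjHull IsLocalRing RingTheory.Sequence
open scoped TensorProduct Pointwise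

namespace Groth.Agent.H6.Link

section Tensor
variable {S : Type u} [CommRing S] (I : Ideal S)

/-- `S/I ⊗ Ext^j(S/I, Y) ≅ Ext^j(S/I, Y)` -/
theorem nonempty_tensor_ext_equiv' (Y : ModuleCat.{u} S) (j : ℕ) :
    Nonempty (((S ⧸ I) ⊗[S] (Ext (ModuleCat.of S (S ⧸ I)) Y j)) ≃ₗ[S]
      (Ext (ModuleCat.of S (S ⧸ I)) Y j)) := by
  set X := Ext (ModuleCat.of S (S ⧸ I)) Y j
  have e1 := TensorProduct.quotTensorEquivQuotSMul X I
  have hbot : I • (⊤ : Submodule S X) = ⊥ := by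
    rw [eq_bot_iff, Submodule.smul_le]
    intro r hr x _
    rw [Submodule.mem_bot]
    exact Bass.smul_ext_eq_zero (ModuleCat.of S (S ⧸ I)) Y r (fun y => by
      obtain ⟨y, rfl⟩ := Ideal.Quotient.mk_surjective y
      change Ideal.Quotient.mk I (r * y) = 0
      exact Ideal.Quotient.eq_zero_iff_mem.mpr (I.mul_mem_right y hr)) j x
  have e2 := Submodule.quotEquivOfEqBot _ hbot
  exact ⟨e1.trans e2⟩

omit I in
theorem homEquivAnn_symm_apply_mk (I : Ideal S) (a : Submodule.annihilator I) (y : S) :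
    (homEquivAnn I).symm a (Submodule.Quotient.mk y) = y * (a : S) := by
  change Submodule.liftQ I (LinearMap.toSpanSingleton S S (a : S)) _ (Submodule.Quotient.mk y) = _
  rw [Submodule.liftQ_apply, LinearMap.toSpanSingleton_apply, smul_eq_mul]

end Tensor

section Geo
variable {S : Type u} [CommRing S] [LocCoh.IsGorensteinLocalRing S] (𝔞₁ 𝔞₂ : Ideal S)
  (h12 : Submodule.annihilator 𝔞₁ = 𝔞₂) (h21 : Submodule.annihilator 𝔞₂ = 𝔞₁)
  (hinf : 𝔞₁ ⊓ 𝔞₂ = ⊥) (h1top : 𝔞₁ ≠ ⊤)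
  [hCM : LocCoh.IsCohenMacaulayLocalRing (S ⧸ 𝔞₂)] (N : ℕ) (hN : ringKrullDim S = N)

/-- the inclusion `𝔞₁ → S/𝔞₂` -/
noncomputable def geoι : 𝔞₁ →ₗ[S] (S ⧸ 𝔞₂) := (Submodule.mkQ 𝔞₂) ∘ₗ (Submodule.subtype 𝔞₁)

/-- the projection `S/𝔞₂ → S/(𝔞₁ + 𝔞₂)` -/
noncomputable def geoπ : (S ⧸ 𝔞₂) →ₗ[S] (S ⧸ (𝔞₁ ⊔ 𝔞₂)) :=
  Submodule.mapQ 𝔞₂ (𝔞₁ ⊔ 𝔞₂) LinearMap.id (by
    intro x hx
    exact Submodule.mem_sup_right hx)

include hinf in
omit [LocCoh.IsGorensteinLocalRing S] hCM in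
theorem geoι_injective : Function.Injective (geoι 𝔞₁ 𝔞₂) := by
  rw [← LinearMap.ker_eq_bot, eq_bot_iff]
  intro a ha
  rw [LinearMap.mem_ker] at ha
  change Submodule.Quotient.mk (a : S) = (0 : S ⧸ 𝔞₂) at ha
  rw [Submodule.Quotient.mk_eq_zero] at ha
  have : (a : S) ∈ 𝔞₁ ⊓ 𝔞₂ := ⟨a.2, ha⟩
  rw [hinf, Submodule.mem_bot] at this
  rw [Submodule.mem_bot]
  exact Subtype.ext this

omit [LocCoh.IsGorensteinLocalRing S] hCM in
theorem geoπ_surjective : Function.Surjective (geoπ 𝔞₁ 𝔞₂) := by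
  intro y
  obtain ⟨y, rfl⟩ := Submodule.Quotient.mk_surjective _ y
  exact ⟨Submodule.Quotient.mk y, rfl⟩

omit [LocCoh.IsGorensteinLocalRing S] hCM in
theorem geo_exact : Function.Exact (geoι 𝔞₁ 𝔞₂) (geoπ 𝔞₁ 𝔞₂) := by
  intro y
  obtain ⟨y, rfl⟩ := Submodule.Quotient.mk_surjective _ y
  constructor
  · intro h
    change Submodule.Quotient.mk y = (0 : S ⧸ (𝔞₁ ⊔ 𝔞₂)) at h
    rw [Submodule.Quotient.mk_eq_zero] at h
    obtain ⟨a, ha, b, hb, rfl⟩ := Submodule.mem_sup.mp h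
    refine ⟨⟨a, ha⟩, ?_⟩
    change Submodule.Quotient.mk a = (Submodule.Quotient.mk (a + b) : S ⧸ 𝔞₂)
    rw [Submodule.Quotient.eq]
    simpa using 𝔞₂.neg_mem hb
  · rintro ⟨a, ha⟩
    rw [← ha]
    change Submodule.Quotient.mk (a : S) = (0 : S ⧸ (𝔞₁ ⊔ 𝔞₂))
    rw [Submodule.Quotient.mk_eq_zero]
    exact Submodule.mem_sup_left a.2

include h12 h21 hinf h1top hN in
/-- dimension and Cohen–Macaulayness of `S/(𝔞₁ + 𝔞₂)` -/
theorem geo_dim :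
    (∀ i, i + 1 < N → Subsingleton (LocCoh.H (maximalIdeal S) i (S ⧸ (𝔞₁ ⊔ 𝔞₂)))) ∧
      ringKrullDim (S ⧸ (𝔞₁ ⊔ 𝔞₂)) + 1 = N := by
  subst h21
  have h2top : 𝔞₂ ≠ ⊤ := Ideal.Quotient.nontrivial_iff.mp inferInstance
  have h1bot : Submodule.annihilator 𝔞₂ ≠ ⊥ := by
    intro h
    apply h2top
    rw [← h12, h, Submodule.annihilator_bot]
  have hdim2 : ringKrullDim (S ⧸ 𝔞₂) = N := dim_quot_eq 𝔞₂ N hN h2top h1bot
  obtain ⟨hvan, hend⟩ := ann_facts 𝔞₂ N hN hdim2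
  have hdepth2 : ∀ i < N, Subsingleton (LocCoh.H (maximalIdeal S) i (S ⧸ 𝔞₂)) := by
    have h1 := hCM.supportDim_eq_depth
    rw [Module.supportDim_self_eq_ringKrullDim, hdim2] at h1
    have h2 : (N : ℕ∞) ≤ LocCoh.depth S (S ⧸ 𝔞₂) := by
      rw [Groth.Agent.H1.AB.depth_eq_of_surjective (R := S) (R' := S ⧸ 𝔞₂)
        Ideal.Quotient.mk_surjective (S ⧸ 𝔞₂)]
      have : ((N : ℕ∞) : WithBot ℕ∞) =
          ((LocCoh.depth (S ⧸ 𝔞₂) (S ⧸ 𝔞₂) : ℕ∞) : WithBot ℕ∞) := by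
        exact_mod_cast h1
      exact le_of_eq (WithBot.coe_injective this)
    exact (Depth.le_idealDepth_iff (maximalIdeal S) (S ⧸ 𝔞₂) N).mp h2
  set 𝔟 := Submodule.annihilator 𝔞₂ ⊔ 𝔞₂ with h𝔟
  have h𝔟le : 𝔟 ≤ maximalIdeal S := sup_le (le_maximalIdeal h1top) (le_maximalIdeal h2top)
  have h𝔟top : 𝔟 ≠ ⊤ := fun h =>
    (maximalIdeal.isMaximal S).ne_top (top_le_iff.mp (h ▸ h𝔟le))
  haveI : Nontrivial (S ⧸ 𝔟) := Ideal.Quotient.nontrivial_iff.mpr h𝔟top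
  have hlow : ∀ i, i + 1 < N → Subsingleton (LocCoh.H (maximalIdeal S) i (S ⧸ 𝔟)) :=
    fun i hi => Depth.subsingleton_right (geoι (Submodule.annihilator 𝔞₂) 𝔞₂)
      (geoπ (Submodule.annihilator 𝔞₂) 𝔞₂) (maximalIdeal S) i
      (geoι_injective _ _ hinf) (geoπ_surjective _ _) (geo_exact _ _)
      (hdepth2 i (by omega)) (hvan (i + 1) (by omega))
  refine ⟨hlow, ?_⟩
  have htop : Subsingleton (LocCoh.H (maximalIdeal S) N (S ⧸ 𝔟)) := by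
    obtain ⟨ES, _, _, fS, hfS⟩ := IH.exists_injectiveHull (R := S) (S ⧸ maximalIdeal S)
    obtain ⟨ld⟩ := LD.local_duality_gorenstein N hN ES fS hfS (S ⧸ 𝔟) 0 N (by omega)
    have hann𝔟 : Submodule.annihilator 𝔟 = ⊥ := by
      rw [h𝔟, Submodule.annihilator_sup, h12, inf_comm]
      exact hinf
    haveI : Subsingleton (Ext (ModuleCat.of S (S ⧸ 𝔟)) (ModuleCat.of S S) 0) := by
      have e := (ExtBC.homEquivExt₀ (ModuleCat.of S (S ⧸ 𝔟)) (ModuleCat.of S S)).symm.trans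
        (homEquivAnn 𝔟)
      haveI : Subsingleton (Submodule.annihilator 𝔟) := by
        rw [hann𝔟]
        infer_instance
      exact e.toEquiv.subsingleton
    exact ld.toEquiv.subsingleton
  obtain ⟨d, hd⟩ := LC.exists_supportDim_eq (R := S) (S ⧸ 𝔟)
  have hnt := LC.nontrivial_H_of_supportDim_eq d (S ⧸ 𝔟) hd
  have hdN : d ≤ N := by
    have := Module.supportDim_le_ringKrullDim S (S ⧸ 𝔟)
    rw [hd, hN] at this
    exact_mod_cast this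
  have h1 : d ≠ N := by
    rintro rfl
    exact not_subsingleton _ htop
  have h2 : ¬ (d + 1 < N) := fun h => not_subsingleton _ (hlow d h)
  rw [← Module.supportDim_quotient_eq_ringKrullDim, hd]
  have : d + 1 = N := by omega
  exact_mod_cast this

include h12 h21 hinf hN in
/-- `Ext¹(S/(𝔞₁+𝔞₂), S) ≅ S/(𝔞₁+𝔞₂)` -/
theorem geo_ext : Nonempty ((S ⧸ (𝔞₁ ⊔ 𝔞₂)) ≃ₗ[S]
    Ext (ModuleCat.of S (S ⧸ (𝔞₁ ⊔ 𝔞₂))) (ModuleCat.of S S) 1) := by
  subst h21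
  have h2top : 𝔞₂ ≠ ⊤ := Ideal.Quotient.nontrivial_iff.mp inferInstance
  have h1bot : Submodule.annihilator 𝔞₂ ≠ ⊥ := by
    intro h
    apply h2top
    rw [← h12, h, Submodule.annihilator_bot]
  have hdim2 : ringKrullDim (S ⧸ 𝔞₂) = N := dim_quot_eq 𝔞₂ N hN h2top h1bot
  obtain ⟨hvan, hend⟩ := ann_facts 𝔞₂ N hN hdim2
  have hdepth2 : ∀ i < N, Subsingleton (LocCoh.H (maximalIdeal S) i (S ⧸ 𝔞₂)) := by
    have h1 := hCM.supportDim_eq_depth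
    rw [Module.supportDim_self_eq_ringKrullDim, hdim2] at h1
    have h2 : (N : ℕ∞) ≤ LocCoh.depth S (S ⧸ 𝔞₂) := by
      rw [Groth.Agent.H1.AB.depth_eq_of_surjective (R := S) (R' := S ⧸ 𝔞₂)
        Ideal.Quotient.mk_surjective (S ⧸ 𝔞₂)]
      have : ((N : ℕ∞) : WithBot ℕ∞) =
          ((LocCoh.depth (S ⧸ 𝔞₂) (S ⧸ 𝔞₂) : ℕ∞) : WithBot ℕ∞) := by
        exact_mod_cast h1
      exact le_of_eq (WithBot.coe_injective this)
    exact (Depth.le_idealDepth_iff (maximalIdeal S) (S ⧸ 𝔞₂) N).mp h2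
  haveI hE2 : Subsingleton (Ext (ModuleCat.of S (S ⧸ 𝔞₂)) (ModuleCat.of S S) 1) :=
    ext_self_subsingleton_of_depth N hN (S ⧸ 𝔞₂) hdepth2 1 le_rfl
  set 𝔞₁ := Submodule.annihilator 𝔞₂ with h𝔞₁
  obtain ⟨w, hT⟩ := Depth.shortExact_mk (geoι 𝔞₁ 𝔞₂) (geoπ 𝔞₁ 𝔞₂)
    (geoι_injective _ _ hinf) (geoπ_surjective _ _) (geo_exact _ _)
  set T := ShortComplex.mk (ModuleCat.ofHom (geoι 𝔞₁ 𝔞₂)) (ModuleCat.ofHom (geoπ 𝔞₁ 𝔞₂)) w
    with hTdef
  -- the connecting map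
  let δ : Ext (ModuleCat.of S 𝔞₁) (ModuleCat.of S S) 0 →ₗ[S]
      Ext (ModuleCat.of S (S ⧸ (𝔞₁ ⊔ 𝔞₂))) (ModuleCat.of S S) 1 :=
    { toFun := fun x => hT.extClass.comp x (rfl : 1 + 0 = 1)
      map_add' := fun x y => Ext.comp_add _ x y _
      map_smul' := fun r x => Ext.comp_smul _ x _ r }
  let Ψ : S →ₗ[S] (𝔞₁ →ₗ[S] S) :=
    LinearMap.toSpanSingleton S (𝔞₁ →ₗ[S] S) (Submodule.subtype 𝔞₁)
  have hΨ : ∀ (s : S) (a : 𝔞₁), Ψ s a = s * (a : S) := fun s a => rfl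
  let Θ : S →ₗ[S] Ext (ModuleCat.of S (S ⧸ (𝔞₁ ⊔ 𝔞₂))) (ModuleCat.of S S) 1 :=
    δ ∘ₗ (ExtBC.homEquivExt₀ (ModuleCat.of S 𝔞₁) (ModuleCat.of S S)).toLinearMap ∘ₗ Ψ
  have hΘ : ∀ s, Θ s = hT.extClass.comp (Ext.mk₀ (ModuleCat.ofHom (Ψ s))) (rfl : 1 + 0 = 1) :=
    fun s => rfl
  have hsurj : Function.Surjective Θ := by
    intro x₃
    obtain ⟨x₁, hx₁⟩ := Ext.contravariant_sequence_exact₃ hT (ModuleCat.of S S) x₃
      (Subsingleton.elim (h := hE2) _ _) (rfl : 1 + 0 = 1)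
    obtain ⟨φ, rfl⟩ := (ExtBC.homEquivExt₀ (ModuleCat.of S 𝔞₁) (ModuleCat.of S S)).surjective x₁
    have hφJ : ∀ a : 𝔞₁, φ a ∈ 𝔞₁ := by
      intro a
      change φ a ∈ Submodule.annihilator 𝔞₂
      rw [Submodule.mem_annihilator]
      intro y hy
      have hφ : φ (y • a) = y • φ a := map_smul φ y a
      have hya : y • a = 0 := by
        apply Subtype.ext
        change y * (a : S) = 0
        rw [mul_comm]
        exact (Submodule.mem_annihilator.mp a.2) y hy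
      rw [hya, map_zero] at hφ
      rw [smul_eq_mul, mul_comm, ← smul_eq_mul]
      exact hφ.symm
    obtain ⟨s, hs⟩ := hend (φ.codRestrict 𝔞₁ hφJ)
    refine ⟨s, ?_⟩
    rw [hΘ, ← hx₁, ExtBC.homEquivExt₀_apply]
    congr 3
    apply LinearMap.ext
    intro a
    have := congrArg (fun ψ : 𝔞₁ →ₗ[S] 𝔞₁ => ((ψ a : 𝔞₁) : S)) hs
    simp only [LinearMap.codRestrict_apply, LinearMap.smul_apply, LinearMap.id_apply] at this
    rw [hΨ, this]
    rfl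
  have hker : LinearMap.ker Θ = 𝔞₁ ⊔ 𝔞₂ := by
    apply le_antisymm
    · intro s hs
      rw [LinearMap.mem_ker, hΘ] at hs
      obtain ⟨x₂, hx₂⟩ := Ext.contravariant_sequence_exact₁ hT (ModuleCat.of S S)
        (Ext.mk₀ (ModuleCat.ofHom (Ψ s))) (rfl : 1 + 0 = 1) hs
      obtain ⟨θ', rfl⟩ := (Ext.mk₀_bijective _ _).2 x₂
      rw [Ext.mk₀_comp_mk₀] at hx₂
      have h3 := (Ext.mk₀_bijective _ _).1 hx₂
      have h4 : ∀ a : 𝔞₁, θ'.hom (geoι 𝔞₁ 𝔞₂ a) = s * (a : S) := by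
        intro a
        have := congrArg (fun g => g.hom a) h3
        exact this
      set t : S := θ'.hom (Submodule.Quotient.mk (1 : S)) with ht
      have ht1 : t ∈ 𝔞₁ := (homEquivAnn 𝔞₂ θ'.hom).2
      have h5 : ∀ a : 𝔞₁, (s - t) * (a : S) = 0 := by
        intro a
        have h6 : geoι 𝔞₁ 𝔞₂ a = (a : S) • (Submodule.Quotient.mk (1 : S) : S ⧸ 𝔞₂) := by
          change Submodule.Quotient.mk (a : S) = Submodule.Quotient.mk ((a : S) • (1 : S))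
          rw [smul_eq_mul, mul_one]
        have h7 := h4 a
        rw [h6, map_smul, smul_eq_mul] at h7
        rw [sub_mul, ← h7, ← ht, mul_comm]
        exact sub_self _
      have h8 : s - t ∈ 𝔞₂ := by
        rw [← h12, Submodule.mem_annihilator]
        intro a ha
        exact h5 ⟨a, ha⟩
      have h9 : s = t + (s - t) := by ring
      rw [h9]
      exact Submodule.add_mem_sup ht1 h8
    · apply sup_le
      · intro t ht
        rw [LinearMap.mem_ker, hΘ]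
        let θ : (S ⧸ 𝔞₂) →ₗ[S] S := (homEquivAnn 𝔞₂).symm ⟨t, ht⟩
        have hθ : Ψ t = θ ∘ₗ geoι 𝔞₁ 𝔞₂ := by
          apply LinearMap.ext
          intro a
          rw [hΨ]
          change _ = (homEquivAnn 𝔞₂).symm ⟨t, ht⟩ (Submodule.Quotient.mk (a : S))
          rw [homEquivAnn_symm_apply_mk, mul_comm]
        have hcomp : Ext.mk₀ (ModuleCat.ofHom (Ψ t)) =
            (Ext.mk₀ T.f).comp (Ext.mk₀ (ModuleCat.ofHom θ)) (zero_add 0) := by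
          rw [Ext.mk₀_comp_mk₀, hθ]
          rfl
        rw [hcomp, ← Ext.comp_assoc (a₁₂ := 1) (a₂₃ := 0) (a := 1 + 0) _ _ _ (by omega) (by omega)
          (by omega), hT.extClass_comp, Ext.zero_comp]
      · intro u hu
        rw [LinearMap.mem_ker]
        have hΨu : Ψ u = 0 := by
          apply LinearMap.ext
          intro a
          rw [hΨ, LinearMap.zero_apply, mul_comm]
          exact (Submodule.mem_annihilator.mp a.2) u hu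
        change δ ((ExtBC.homEquivExt₀ (ModuleCat.of S 𝔞₁) (ModuleCat.of S S)) (Ψ u)) = 0
        rw [hΨu, map_zero, map_zero]
  exact ⟨(Submodule.quotEquivOfEq _ _ hker.symm).trans (Θ.quotKerEquivOfSurjective hsurj)⟩

include h12 h21 hinf h1top hN in
/-- **the sum of geometrically linked ideals is Gorenstein** (local form) -/
theorem geo_gor : LocCoh.IsGorensteinLocalRing (S ⧸ (𝔞₁ ⊔ 𝔞₂)) := by
  obtain ⟨hlow, hdim⟩ := geo_dim 𝔞₁ 𝔞₂ h12 h21 hinf h1top N hN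
  obtain ⟨e⟩ := geo_ext 𝔞₁ 𝔞₂ h12 h21 hinf N hN
  have h2top : 𝔞₂ ≠ ⊤ := Ideal.Quotient.nontrivial_iff.mp inferInstance
  set 𝔟 := 𝔞₁ ⊔ 𝔞₂ with h𝔟
  have h𝔟le : 𝔟 ≤ maximalIdeal S := sup_le (le_maximalIdeal h1top) (le_maximalIdeal h2top)
  have h𝔟top : 𝔟 ≠ ⊤ := fun h =>
    (maximalIdeal.isMaximal S).ne_top (top_le_iff.mp (h ▸ h𝔟le))
  haveI : Nontrivial (S ⧸ 𝔟) := Ideal.Quotient.nontrivial_iff.mpr h𝔟top
  haveI : IsLocalRing (S ⧸ 𝔟) :=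
    IsLocalRing.of_surjective' (Ideal.Quotient.mk 𝔟) Ideal.Quotient.mk_surjective
  obtain ⟨d, hd⟩ := LC.exists_supportDim_eq (R := S) (S ⧸ 𝔟)
  rw [Module.supportDim_quotient_eq_ringKrullDim] at hd
  have hdN : d + 1 = N := by
    rw [hd] at hdim
    exact_mod_cast hdim
  -- Cohen–Macaulay
  haveI hcmB : LocCoh.IsCohenMacaulayLocalRing (S ⧸ 𝔟) := by
    refine { supportDim_eq_depth := ?_ }
    obtain ⟨d', hd1, hd2⟩ := Depth.exists_depth_eq (R := S) (S ⧸ 𝔟)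
    have hdepth : (d : ℕ∞) ≤ LocCoh.depth S (S ⧸ 𝔟) := by
      unfold LocCoh.depth
      rw [Depth.le_idealDepth_iff (maximalIdeal S) (S ⧸ 𝔟) d]
      intro i hi
      exact hlow i (by omega)
    rw [Module.supportDim_self_eq_ringKrullDim, hd,
      ← Groth.Agent.H1.AB.depth_eq_of_surjective (R := S) (R' := S ⧸ 𝔟)
        Ideal.Quotient.mk_surjective (S ⧸ 𝔟)]
    rw [Module.supportDim_quotient_eq_ringKrullDim, hd] at hd2
    rw [hd1] at hdepth ⊢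
    have h1 : d ≤ d' := by exact_mod_cast hdepth
    have h2 : d' ≤ d := by exact_mod_cast hd2
    have : d = d' := le_antisymm h1 h2
    rw [this]
    rfl
  obtain ⟨E, _, _, g, hg⟩ := IH.exists_injectiveHull (R := S ⧸ 𝔟)
    ((S ⧸ 𝔟) ⧸ maximalIdeal (S ⧸ 𝔟))
  have hsurj : Function.Surjective (algebraMap S (S ⧸ 𝔟)) := Ideal.Quotient.mk_surjective
  obtain ⟨eK⟩ := CanLoc.can_ext (S ⧸ 𝔟) d hd E g hg S hsurj N hN
  have hNd : N - d = 1 := by omega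
  rw [hNd] at eK
  set X := Ext (ModuleCat.of S (S ⧸ 𝔟)) (ModuleCat.of S S) 1 with hX
  haveI : Module.Finite S X := ModuleCat.finite_ext S _ _ 1
  obtain ⟨e'⟩ := nonempty_tensor_ext_equiv' 𝔟 (ModuleCat.of S S) 1
  let e3 : ((S ⧸ 𝔟) ⊗[S] X) ≃ₗ[S] (S ⧸ 𝔟) := e'.trans e.symm
  let e4 : ((S ⧸ 𝔟) ⊗[S] X) ≃ₗ[S ⧸ 𝔟] (S ⧸ 𝔟) :=
    { e3 with
      map_smul' := by
        intro r x
        obtain ⟨r, rfl⟩ := Ideal.Quotient.mk_surjective r
        have h3 : ∀ y : (S ⧸ 𝔟) ⊗[S] X, (Ideal.Quotient.mk 𝔟 r) • y = r • y :=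
          fun y => algebraMap_smul (S ⧸ 𝔟) r y
        have h4 : ∀ y : S ⧸ 𝔟, (Ideal.Quotient.mk 𝔟 r) • y = r • y :=
          fun y => algebraMap_smul (S ⧸ 𝔟) r y
        change e3 (Ideal.Quotient.mk 𝔟 r • x) = (Ideal.Quotient.mk 𝔟 r) • e3 x
        rw [h3, h4, map_smul] }
  exact (Can.gorenstein_iff_can_equiv_self d hd E ((S ⧸ 𝔟) ⊗[S] X) g hg eK).mpr ⟨e4⟩

end Geo

end Groth.Agent.H6.Link
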