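import Mathlib
import Groth.Agent.Lib.Helper6.LinkF

/-! The sum of two geometrically linked ideals: global form. -/

universe u
set_option linter.style.haveILetI false
set_option autoImplicit false
open CategoryTheory CategoryTheory.Abelian InjHull IsLocalRing RingTheory.Sequence
open scoped TensorProduct Pointwise

namespace Groth.Agent.H6.Link

section Sk
variable {A : Type u} [CommRing A]

/-- the Serre inequalities at a localization of a CM quotient -/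
theorem sk_of_cm [IsNoetherianRing A] (I : Ideal A) [hCM : LocCoh.IsCohenMacaulayRing (A ⧸ I)]
    (p : Ideal A) [p.IsPrime] (k : ℕ) :
    min (k : WithBot ℕ∞) (Module.supportDim (Localization.AtPrime p)
      (Localization.AtPrime p ⧸ I.map (algebraMap A (Localization.AtPrime p)))) ≤
    ((LocCoh.depth (Localization.AtPrime p)
      (Localization.AtPrime p ⧸ I.map (algebraMap A (Localization.AtPrime p))) : ℕ∞) :
        WithBot ℕ∞) := by
  have h1 : LocCoh.HasSk k A (A ⧸ I) :=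
    (SkSurj.hasSk_iff (A := A) (C := A ⧸ I) Ideal.Quotient.mk_surjective (A ⧸ I) k).mp
      (Liai.hasSk_of_cm k)
  have h2 := h1 p
  obtain ⟨he1, he2⟩ := depth_and_dim_quot p I
  rw [he1, he2] at h2
  exact h2

/-- a proper quotient of a Noetherian local ring satisfying all Serre inequalities is a
Cohen–Macaulay local ring -/
theorem cmLocal_of_sk {S : Type u} [CommRing S] [IsNoetherianRing S] [IsLocalRing S]
    (I : Ideal S) (hItop : I ≠ ⊤)
    (hI : ∀ k : ℕ, min (k : WithBot ℕ∞) (Module.supportDim S (S ⧸ I)) ≤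
      ((LocCoh.depth S (S ⧸ I) : ℕ∞) : WithBot ℕ∞)) :
    LocCoh.IsCohenMacaulayLocalRing (S ⧸ I) := by
  haveI : Nontrivial (S ⧸ I) := Ideal.Quotient.nontrivial_iff.mpr hItop
  haveI : IsLocalRing (S ⧸ I) :=
    IsLocalRing.of_surjective' (Ideal.Quotient.mk I) Ideal.Quotient.mk_surjective
  have hdepthI : LocCoh.depth S (S ⧸ I) = LocCoh.depth (S ⧸ I) (S ⧸ I) :=
    Groth.Agent.H1.AB.depth_eq_of_surjective (R := S) (R' := S ⧸ I)
      Ideal.Quotient.mk_surjective (S ⧸ I)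
  refine { supportDim_eq_depth := ?_ }
  obtain ⟨d, hd1, hd2⟩ := Depth.exists_depth_eq (R := S) (S ⧸ I)
  obtain ⟨n, hn⟩ := LC.exists_supportDim_eq (R := S) (S ⧸ I)
  have h1 := hI n
  rw [hn, min_self] at h1
  rw [Module.supportDim_self_eq_ringKrullDim, ← Module.supportDim_quotient_eq_ringKrullDim,
    ← hdepthI]
  apply le_antisymm
  · rw [hn]; exact h1
  · rw [hd1]; exact hd2

end Sk

section Global
variable {A : Type u} [CommRing A]

/-- **the sum of geometrically linked ideals is Gorenstein** -/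
theorem gor_sup [hG : LocCoh.IsGorensteinRing A] (𝔞₁ 𝔞₂ : Ideal A)
    (h12 : Submodule.annihilator 𝔞₁ = 𝔞₂) (h21 : Submodule.annihilator 𝔞₂ = 𝔞₁)
    (hinf : 𝔞₁ ⊓ 𝔞₂ = ⊥) [hCM : LocCoh.IsCohenMacaulayRing (A ⧸ 𝔞₂)] :
    LocCoh.IsGorensteinRing (A ⧸ (𝔞₁ ⊔ 𝔞₂)) := by
  haveI : IsNoetherianRing A := inferInstance
  refine { isGorensteinLocalRing_localization := fun q hq => ?_ }
  set p := q.comap (Ideal.Quotient.mk (𝔞₁ ⊔ 𝔞₂)) with hp
  haveI : p.IsPrime := Ideal.comap_isPrime _ _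
  set S := Localization.AtPrime p with hS
  haveI : LocCoh.IsGorensteinLocalRing S := hG.isGorensteinLocalRing_localization p
  have hsup_le : 𝔞₁ ⊔ 𝔞₂ ≤ p := by
    intro x hx
    rw [hp, Ideal.mem_comap, Ideal.Quotient.eq_zero_iff_mem.mpr hx]
    exact Submodule.zero_mem _
  set 𝔟₁ := 𝔞₁.map (algebraMap A S) with h𝔟₁
  set 𝔟₂ := 𝔞₂.map (algebraMap A S) with h𝔟₂
  have hmapsup : (𝔞₁ ⊔ 𝔞₂).map (algebraMap A S) = 𝔟₁ ⊔ 𝔟₂ := Ideal.map_sup _ _ _
  have hle : ∀ 𝔞 : Ideal A, 𝔞 ≤ p → 𝔞.map (algebraMap A S) ≠ ⊤ := by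
    intro 𝔞 h𝔞 htop
    have h1 : 𝔞.map (algebraMap A S) ≤ maximalIdeal S := by
      rw [Ideal.map_le_iff_le_comap]
      intro x hx
      rw [Ideal.mem_comap, IsLocalization.AtPrime.to_map_mem_maximal_iff S p]
      exact h𝔞 hx
    rw [htop] at h1
    exact (maximalIdeal.isMaximal S).ne_top (top_le_iff.mp h1)
  have h1top : 𝔟₁ ≠ ⊤ := hle 𝔞₁ (le_sup_left.trans hsup_le)
  have h2top : 𝔟₂ ≠ ⊤ := hle 𝔞₂ (le_sup_right.trans hsup_le)
  have h12' : Submodule.annihilator 𝔟₁ = 𝔟₂ := by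
    rw [h𝔟₁, annihilator_map p.primeCompl S, h12]
  have h21' : Submodule.annihilator 𝔟₂ = 𝔟₁ := by
    rw [h𝔟₂, annihilator_map p.primeCompl S, h21]
  have hinf' : 𝔟₁ ⊓ 𝔟₂ = ⊥ := by
    rw [h𝔟₁, h𝔟₂, ← IsLocalization.map_inf p.primeCompl S, hinf, Ideal.map_bot]
  haveI : LocCoh.IsCohenMacaulayLocalRing (S ⧸ 𝔟₂) :=
    cmLocal_of_sk 𝔟₂ h2top (fun k => sk_of_cm 𝔞₂ p k)
  obtain ⟨N, hN⟩ := Bass.exists_ringKrullDim_eq (A := S)
  haveI := geo_gor 𝔟₁ 𝔟₂ h12' h21' hinf' h1top N hN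
  have e := locQuotEquiv (𝔞₁ ⊔ 𝔞₂) q
  exact Groth.Agent.H2.GorTransfer.gorLocal_of_ringEquiv
    (e.trans (Ideal.quotEquivOfEq hmapsup)).symm

/-- heights of a prime in the quotients by `𝔞₁ + 𝔞₂` and by `𝔞₂` -/
theorem height_sup [hG : LocCoh.IsGorensteinRing A] (𝔞₁ 𝔞₂ : Ideal A)
    (h12 : Submodule.annihilator 𝔞₁ = 𝔞₂) (h21 : Submodule.annihilator 𝔞₂ = 𝔞₁)
    (hinf : 𝔞₁ ⊓ 𝔞₂ = ⊥) [hCM : LocCoh.IsCohenMacaulayRing (A ⧸ 𝔞₂)]
    (P : Ideal A) [hP : P.IsPrime] (hle : 𝔞₁ ⊔ 𝔞₂ ≤ P) :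
    ((P.map (Ideal.Quotient.mk (𝔞₁ ⊔ 𝔞₂))).height : WithBot ℕ∞) + 1 = P.height ∧
      (P.map (Ideal.Quotient.mk 𝔞₂)).height = P.height := by
  haveI : IsNoetherianRing A := inferInstance
  -- a general fact on quotients
  have key : ∀ (J : Ideal A), J ≤ P →
      (P.map (Ideal.Quotient.mk J)).IsPrime ∧
        (P.map (Ideal.Quotient.mk J)).comap (Ideal.Quotient.mk J) = P := by
    intro J hJ
    have hker : RingHom.ker (Ideal.Quotient.mk J) ≤ P := by rwa [Ideal.mk_ker]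
    exact ⟨Ideal.map_isPrime_of_surjective Ideal.Quotient.mk_surjective hker,
      Ideal.comap_map_of_surjective' _ Ideal.Quotient.mk_surjective P |>.trans
        (sup_eq_left.mpr hker)⟩
  have hloc : ∀ (J : Ideal A) (q : Ideal (A ⧸ J)) [q.IsPrime],
      ringKrullDim (Localization.AtPrime (q.comap (Ideal.Quotient.mk J)) ⧸
        J.map (algebraMap A (Localization.AtPrime (q.comap (Ideal.Quotient.mk J))))) =
      q.height := by
    intro J q _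
    rw [← ringKrullDim_eq_of_ringEquiv (locQuotEquiv J q),
      IsLocalization.AtPrime.ringKrullDim_eq_height q]
  -- generic local set-up at a prime `p ⊇ 𝔞₁ + 𝔞₂`
  have main : ∀ (p : Ideal A) [p.IsPrime], 𝔞₁ ⊔ 𝔞₂ ≤ p →
      ringKrullDim (Localization.AtPrime p ⧸
        (𝔞₁ ⊔ 𝔞₂).map (algebraMap A (Localization.AtPrime p))) + 1 = p.height ∧
      ringKrullDim (Localization.AtPrime p ⧸
        𝔞₂.map (algebraMap A (Localization.AtPrime p))) = p.height := by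
    intro p _ hsup_le
    set S := Localization.AtPrime p with hS
    haveI : LocCoh.IsGorensteinLocalRing S := hG.isGorensteinLocalRing_localization p
    set 𝔟₁ := 𝔞₁.map (algebraMap A S) with h𝔟₁
    set 𝔟₂ := 𝔞₂.map (algebraMap A S) with h𝔟₂
    have hmapsup : (𝔞₁ ⊔ 𝔞₂).map (algebraMap A S) = 𝔟₁ ⊔ 𝔟₂ := Ideal.map_sup _ _ _
    have hle' : ∀ 𝔞 : Ideal A, 𝔞 ≤ p → 𝔞.map (algebraMap A S) ≠ ⊤ := by
      intro 𝔞 h𝔞 htop
      have h1 : 𝔞.map (algebraMap A S) ≤ maximalIdeal S := by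
        rw [Ideal.map_le_iff_le_comap]
        intro x hx
        rw [Ideal.mem_comap, IsLocalization.AtPrime.to_map_mem_maximal_iff S p]
        exact h𝔞 hx
      rw [htop] at h1
      exact (maximalIdeal.isMaximal S).ne_top (top_le_iff.mp h1)
    have h1top : 𝔟₁ ≠ ⊤ := hle' 𝔞₁ (le_sup_left.trans hsup_le)
    have h2top : 𝔟₂ ≠ ⊤ := hle' 𝔞₂ (le_sup_right.trans hsup_le)
    have h12' : Submodule.annihilator 𝔟₁ = 𝔟₂ := by
      rw [h𝔟₁, annihilator_map p.primeCompl S, h12]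
    have h21' : Submodule.annihilator 𝔟₂ = 𝔟₁ := by
      rw [h𝔟₂, annihilator_map p.primeCompl S, h21]
    have hinf' : 𝔟₁ ⊓ 𝔟₂ = ⊥ := by
      rw [h𝔟₁, h𝔟₂, ← IsLocalization.map_inf p.primeCompl S, hinf, Ideal.map_bot]
    haveI : LocCoh.IsCohenMacaulayLocalRing (S ⧸ 𝔟₂) :=
      cmLocal_of_sk 𝔟₂ h2top (fun k => sk_of_cm 𝔞₂ p k)
    obtain ⟨N, hN⟩ := Bass.exists_ringKrullDim_eq (A := S)
    have hNp : (p.height : WithBot ℕ∞) = N := by
      rw [← hN, IsLocalization.AtPrime.ringKrullDim_eq_height p S]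
    obtain ⟨-, hdim⟩ := geo_dim 𝔟₁ 𝔟₂ h12' h21' hinf' h1top N hN
    have h1bot : 𝔟₁ ≠ ⊥ := by
      intro h
      apply h2top
      rw [← h12', h, Submodule.annihilator_bot]
    have hdim2 := dim_quot_eq 𝔟₂ N hN h2top (by rw [h21']; exact h1bot)
    rw [hmapsup, hNp]
    exact ⟨hdim, hdim2⟩
  constructor
  · obtain ⟨hq, hqP⟩ := key (𝔞₁ ⊔ 𝔞₂) hle
    haveI := hq
    have h1 := hloc (𝔞₁ ⊔ 𝔞₂) (P.map (Ideal.Quotient.mk (𝔞₁ ⊔ 𝔞₂)))
    have h2 := (main ((P.map (Ideal.Quotient.mk (𝔞₁ ⊔ 𝔞₂))).comap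
      (Ideal.Quotient.mk (𝔞₁ ⊔ 𝔞₂))) (by rw [hqP]; exact hle)).1
    rw [h1, hqP] at h2
    exact h2
  · obtain ⟨hq, hqP⟩ := key 𝔞₂ (le_sup_right.trans hle)
    haveI := hq
    have h1 := hloc 𝔞₂ (P.map (Ideal.Quotient.mk 𝔞₂))
    have h2 := (main ((P.map (Ideal.Quotient.mk 𝔞₂)).comap
      (Ideal.Quotient.mk 𝔞₂)) (by rw [hqP]; exact hle)).2
    rw [h1, hqP] at h2
    exact_mod_cast h2

end Global

end Groth.Agent.H6.Link
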