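import Mathlib
import Groth.Agent.Lib.Helper6.LinkG
import Groth.Agent.Lib.Helper6.Liai1
import Groth.Agent.Lib.Helper6.Liai2

/-! Geometric linkage in a polynomial ring (S18869). -/

universe u
set_option linter.style.haveILetI false
set_option autoImplicit false
open CategoryTheory CategoryTheory.Abelian InjHull IsLocalRing RingTheory.Sequence
open scoped TensorProduct Pointwise

namespace Groth.Agent.H6.Link

section Poly
variable (K : Type u) [Field K] (n : ℕ)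

local notation "RR" => MvPolynomial (Fin (n + 1)) K
local notation "𝔪" => HomogeneousIdeal.toIdeal (GrSyz.irrel (GrSyz.stdGr K (Fin (n + 1))))

/-- geometric linkage implies algebraic linkage -/
theorem colon_inf_eq (c : ℕ) (I₁ I₂ : Ideal RR)
    (hI₁ : I₁.IsHomogeneous (GrSyz.stdGr K (Fin (n + 1))))
    (hI₂ : I₂.IsHomogeneous (GrSyz.stdGr K (Fin (n + 1))))
    [LocCoh.IsCohenMacaulayRing (RR ⧸ I₁)] [LocCoh.IsCohenMacaulayRing (RR ⧸ I₂)]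
    (h₁ : I₁.height = c) (h₂ : I₂.height = c)
    (hdisj : Disjoint I₁.minimalPrimes I₂.minimalPrimes) :
    (I₁ ⊓ I₂).colon (I₁ : Set RR) = I₂ := by
  apply le_antisymm
  · intro x hx
    rw [Submodule.mem_colon] at hx
    by_contra hxI
    have hne : (Ideal.Quotient.mk I₂ x) ≠ 0 := by
      rwa [Ne, Ideal.Quotient.eq_zero_iff_mem]
    obtain ⟨P, hP, hle⟩ := exists_le_isAssociatedPrime_of_isNoetherianRing
      (R := MvPolynomial (Fin (n + 1)) K) (Ideal.Quotient.mk I₂ x) hne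
    haveI hPp : P.IsPrime := hP.1
    have hI₁P : I₁ ≤ P := by
      intro i hi
      apply hle
      rw [Submodule.mem_colon_singleton, Submodule.mem_bot]
      change Ideal.Quotient.mk I₂ (i * x) = 0
      rw [Ideal.Quotient.eq_zero_iff_mem, mul_comm]
      exact (hx i hi).2
    have hPass : P ∈ associatedPrimes RR (RR ⧸ I₂) := hP
    obtain ⟨hPmin, -⟩ := Liai.mem_minimalPrimes_and_le_irrel K n I₂ hI₂ hPass
    have hPh : P.height = c := by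
      rw [Liai.height_eq_of_mem_associatedPrimes K n I₂ hI₂ hPass, h₂]
    obtain ⟨Q, hQ, hQP⟩ := Ideal.exists_minimalPrimes_le hI₁P
    haveI hQp : Q.IsPrime := hQ.1.1
    have hQh : Q.height = c := by
      rw [Liai.height_eq_of_mem_associatedPrimes K n I₁ hI₁
        (Liai.mem_associatedPrimes_of_mem_minimalPrimes K n I₁ hQ), h₁]
    haveI : Q.FiniteHeight := ⟨Or.inr (by rw [hQh]; exact ENat.coe_ne_top c)⟩
    have hQeq : Q = P := Ideal.eq_of_le_of_height_le (I := Q) (J := P) hQP (by rw [hPh, hQh])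
    exact (Set.disjoint_left.mp hdisj) hQ (hQeq ▸ hPmin)
  · intro x hx
    rw [Submodule.mem_colon]
    intro i hi
    exact ⟨Ideal.mul_mem_left _ _ hi, Ideal.mul_mem_right _ _ hx⟩

omit K n in
/-- heights of images of an ideal under two quotient maps related by a ring isomorphism -/
theorem height_map_eq_of_ringEquiv {R₀ B C : Type*} [CommRing R₀] [CommRing B] [CommRing C]
    (φ : B ≃+* C) (f : R₀ →+* B) (g : R₀ →+* C) (h : (φ : B →+* C).comp f = g) (𝔪₀ : Ideal R₀) :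
    (𝔪₀.map g).height = (𝔪₀.map f).height := by
  rw [← h, ← Ideal.map_map]
  exact RingEquiv.height_map φ (𝔪₀.map f)

/-- **S18869** -/
theorem geo_link_poly (c : ℕ) (I₁ I₂ : Ideal RR)
    (hI₁ : I₁.IsHomogeneous (GrSyz.stdGr K (Fin (n + 1))))
    (hI₂ : I₂.IsHomogeneous (GrSyz.stdGr K (Fin (n + 1))))
    [LocCoh.IsCohenMacaulayRing (RR ⧸ I₁)] [hCM₂ : LocCoh.IsCohenMacaulayRing (RR ⧸ I₂)]
    (h₁ : I₁.height = c) (h₂ : I₂.height = c)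
    (hdisj : Disjoint I₁.minimalPrimes I₂.minimalPrimes)
    [hG : LocCoh.IsGorensteinRing (RR ⧸ (I₁ ⊓ I₂))] :
    (I₁ ⊔ I₂).height = c + 1 ∧ LocCoh.IsGorensteinRing (RR ⧸ (I₁ ⊔ I₂)) := by
  classical
  set 𝔠 := I₁ ⊓ I₂ with h𝔠
  have hcol₁ : 𝔠.colon (I₁ : Set RR) = I₂ := colon_inf_eq K n c I₁ I₂ hI₁ hI₂ h₁ h₂ hdisj
  have hcol₂ : 𝔠.colon (I₂ : Set RR) = I₁ := by
    have := colon_inf_eq K n c I₂ I₁ hI₂ hI₁ h₂ h₁ hdisj.symm
    rwa [inf_comm] at this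
  have h𝔠₁ : 𝔠 ≤ I₁ := inf_le_left
  have h𝔠₂ : 𝔠 ≤ I₂ := inf_le_right
  have h𝔠sup : 𝔠 ≤ I₁ ⊔ I₂ := h𝔠₁.trans le_sup_left
  set 𝔞₁ := I₁.map (Ideal.Quotient.mk 𝔠) with h𝔞₁
  set 𝔞₂ := I₂.map (Ideal.Quotient.mk 𝔠) with h𝔞₂
  have h12 : Submodule.annihilator 𝔞₁ = 𝔞₂ := annihilator_map_mk 𝔠 I₁ I₂ hcol₁
  have h21 : Submodule.annihilator 𝔞₂ = 𝔞₁ := annihilator_map_mk 𝔠 I₂ I₁ hcol₂
  have hinf : 𝔞₁ ⊓ 𝔞₂ = ⊥ := by
    rw [eq_bot_iff]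
    rintro x ⟨hx1, hx2⟩
    obtain ⟨r, rfl⟩ := Ideal.Quotient.mk_surjective x
    have hx1' : Ideal.Quotient.mk 𝔠 r ∈ I₁.map (Ideal.Quotient.mk 𝔠) := hx1
    have hx2' : Ideal.Quotient.mk 𝔠 r ∈ I₂.map (Ideal.Quotient.mk 𝔠) := hx2
    rw [Ideal.mem_quotient_iff_mem h𝔠₁] at hx1'
    rw [Ideal.mem_quotient_iff_mem h𝔠₂] at hx2'
    rw [Submodule.mem_bot, Ideal.Quotient.eq_zero_iff_mem]
    exact ⟨hx1', hx2'⟩
  haveI : LocCoh.IsCohenMacaulayRing ((RR ⧸ 𝔠) ⧸ 𝔞₂) :=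
    Liai.cm_of_ringEquiv (DoubleQuot.quotQuotEquivQuotOfLE h𝔠₂).symm
  haveI hGsup := gor_sup 𝔞₁ 𝔞₂ h12 h21 hinf
  have hmapsup : (I₁ ⊔ I₂).map (Ideal.Quotient.mk 𝔠) = 𝔞₁ ⊔ 𝔞₂ := Ideal.map_sup _ _ _
  haveI hGb : LocCoh.IsGorensteinRing (RR ⧸ (I₁ ⊔ I₂)) :=
    gor_of_ringEquiv (A := (RR ⧸ 𝔠) ⧸ (𝔞₁ ⊔ 𝔞₂))
      ((Ideal.quotEquivOfEq hmapsup.symm).trans (DoubleQuot.quotQuotEquivQuotOfLE h𝔠sup))
  refine ⟨?_, hGb⟩
  -- the height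
  have hne₁ : I₁ ≠ ⊤ := by
    intro h
    rw [h, Ideal.height_top] at h₁
    exact ENat.coe_ne_top c h₁.symm
  have hne₂ : I₂ ≠ ⊤ := by
    intro h
    rw [h, Ideal.height_top] at h₂
    exact ENat.coe_ne_top c h₂.symm
  have hle₁ : I₁ ≤ 𝔪 := Liai.le_irrel K _ I₁ hI₁ hne₁
  have hle₂ : I₂ ≤ 𝔪 := Liai.le_irrel K _ I₂ hI₂ hne₂
  have hleb : I₁ ⊔ I₂ ≤ 𝔪 := sup_le hle₁ hle₂
  have hbhom : (I₁ ⊔ I₂).IsHomogeneous (GrSyz.stdGr K (Fin (n + 1))) := hI₁.sup hI₂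
  have hmax : ∀ J : Ideal RR, J ≤ 𝔪 → (Ideal.map (Ideal.Quotient.mk J) 𝔪).IsMaximal := by
    intro J hJ
    refine Ideal.IsMaximal.map_of_surjective_of_ker_le Ideal.Quotient.mk_surjective ?_
    rwa [Ideal.mk_ker]
  haveI hmb := hmax _ hleb
  haveI hm2 := hmax _ hle₂
  haveI hmc := hmax _ (h𝔠sup.trans hleb)
  have hmne : 𝔪 ≠ ⊤ := Ideal.IsMaximal.ne_top inferInstance
  have hbne : I₁ ⊔ I₂ ≠ ⊤ := fun h => hmne (top_le_iff.mp (h ▸ hleb))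
  haveI : Nontrivial (RR ⧸ (I₁ ⊔ I₂)) := Ideal.Quotient.nontrivial_iff.mpr hbne
  haveI : Nontrivial (RR ⧸ I₂) := Ideal.Quotient.nontrivial_iff.mpr hne₂
  obtain ⟨Pb, hPb⟩ := associatedPrimes.nonempty RR (RR ⧸ (I₁ ⊔ I₂))
  obtain ⟨P2, hP2⟩ := associatedPrimes.nonempty RR (RR ⧸ I₂)
  have eb := (Liai.height_add_dim K n (I₁ ⊔ I₂) hbhom _ rfl hPb).1
  have e2 := (Liai.height_add_dim K n I₂ hI₂ _ rfl hP2).1
  rw [Liai.height_eq_of_mem_associatedPrimes K n _ hbhom hPb,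
    IsLocalization.AtPrime.ringKrullDim_eq_height (Ideal.map (Ideal.Quotient.mk (I₁ ⊔ I₂)) 𝔪)
      (Localization.AtPrime (Ideal.map (Ideal.Quotient.mk (I₁ ⊔ I₂)) 𝔪))] at eb
  rw [Liai.height_eq_of_mem_associatedPrimes K n _ hI₂ hP2, h₂,
    IsLocalization.AtPrime.ringKrullDim_eq_height (Ideal.map (Ideal.Quotient.mk I₂) 𝔪)
      (Localization.AtPrime (Ideal.map (Ideal.Quotient.mk I₂) 𝔪))] at e2
  have hle𝔫 : 𝔞₁ ⊔ 𝔞₂ ≤ Ideal.map (Ideal.Quotient.mk 𝔠) 𝔪 := by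
    rw [← hmapsup]
    exact Ideal.map_mono hleb
  haveI : (Ideal.map (Ideal.Quotient.mk 𝔠) 𝔪).IsPrime := hmc.isPrime
  obtain ⟨hs1, hs2⟩ := height_sup 𝔞₁ 𝔞₂ h12 h21 hinf (Ideal.map (Ideal.Quotient.mk 𝔠) 𝔪) hle𝔫
  -- transfer of heights
  have T1 : (Ideal.map (Ideal.Quotient.mk I₂) 𝔪).height =
      ((Ideal.map (Ideal.Quotient.mk 𝔠) 𝔪).map (Ideal.Quotient.mk 𝔞₂)).height := by
    rw [Ideal.map_map]
    exact height_map_eq_of_ringEquiv (DoubleQuot.quotQuotEquivQuotOfLE h𝔠₂) _ _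
      (DoubleQuot.quotQuotEquivQuotOfLE_comp_quotQuotMk h𝔠₂) 𝔪
  have T2 : (Ideal.map (Ideal.Quotient.mk (I₁ ⊔ I₂)) 𝔪).height =
      ((Ideal.map (Ideal.Quotient.mk 𝔠) 𝔪).map (Ideal.Quotient.mk (𝔞₁ ⊔ 𝔞₂))).height := by
    rw [Ideal.map_map]
    refine height_map_eq_of_ringEquiv ((Ideal.quotEquivOfEq hmapsup.symm).trans
      (DoubleQuot.quotQuotEquivQuotOfLE h𝔠sup)) _ _ ?_ 𝔪
    refine RingHom.ext fun r => ?_
    simp only [RingHom.coe_comp, RingHom.coe_coe, Function.comp_apply, RingEquiv.trans_apply,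
      Ideal.quotEquivOfEq_mk]
    exact DoubleQuot.quotQuotEquivQuotOfLE_quotQuotMk r h𝔠sup
  rw [T2] at eb
  rw [T1, hs2] at e2
  rw [← hs1] at e2
  have e2' : (((c + 1 : ℕ) : ℕ∞) : WithBot ℕ∞) +
      ((((Ideal.map (Ideal.Quotient.mk 𝔠) 𝔪).map (Ideal.Quotient.mk (𝔞₁ ⊔ 𝔞₂))).height : ℕ∞) :
        WithBot ℕ∞) = ((n + 1 : ℕ) : WithBot ℕ∞) := by
    rw [← e2]
    push_cast
    ring
  have := Liai.withBot_cancel eb e2'
  rw [this]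
  push_cast
  rfl

end Poly

end Groth.Agent.H6.Link
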