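import Mathlib.LinearAlgebra.FiniteDimensional.Lemmas
import Mathlib.LinearAlgebra.Dimension.Finrank
import Mathlib.RingTheory.Grassmannian
import Mathlib.RingTheory.Spectrum.Prime.FreeLocus

/-!
# Linked Grassmannian: exactness over a field (helper6)
-/

namespace Groth.Agent.H6.LG

variable {k E : Type*} [Field k] [AddCommGroup E] [Module k E] [FiniteDimensional k E]

theorem finrank_map_add_finrank_ker_inf (F : E →ₗ[k] E) (A : Submodule k E) :
    Module.finrank k (A.map F) + Module.finrank k ↥(LinearMap.ker F ⊓ A) = Module.finrank k A := by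
  have h := LinearMap.finrank_range_add_finrank_ker (F.domRestrict A)
  rw [LinearMap.range_domRestrict, LinearMap.ker_domRestrict] at h
  rw [← h, ← Submodule.finrank_map_subtype_eq A ((LinearMap.ker F).comap A.subtype),
    Submodule.map_comap_subtype, inf_comm]

theorem lg_exact_iff (F G : E →ₗ[k] E) (hFG : F.comp G = 0) (hGF : G.comp F = 0)
    (A B : Submodule k E) (r : ℕ) (hA : Module.finrank k A = r) (hB : Module.finrank k B = r)
    (hFA : A.map F ≤ B) (hGB : B.map G ≤ A) :
    (LinearMap.ker G ⊓ B ≤ A.map F ∧ LinearMap.ker F ⊓ A ≤ B.map G) ↔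
      Module.finrank k (A.map F) + Module.finrank k (B.map G) = r := by
  have h1 := finrank_map_add_finrank_ker_inf F A
  have h2 := finrank_map_add_finrank_ker_inf G B
  have hle1 : B.map G ≤ LinearMap.ker F ⊓ A := by
    refine le_inf ?_ hGB
    rintro _ ⟨b, _, rfl⟩
    exact LinearMap.mem_ker.mpr (by simpa using congr($hFG b))
  have hle2 : A.map F ≤ LinearMap.ker G ⊓ B := by
    refine le_inf ?_ hFA
    rintro _ ⟨a, _, rfl⟩
    exact LinearMap.mem_ker.mpr (by simpa using congr($hGF a))
  constructor
  · rintro ⟨e1, e2⟩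
    have : B.map G = LinearMap.ker F ⊓ A := le_antisymm hle1 e2
    rw [this]; omega
  · intro h
    have f1 := Submodule.finrank_mono hle1
    have f2 := Submodule.finrank_mono hle2
    have e1 : B.map G = LinearMap.ker F ⊓ A :=
      Submodule.eq_of_le_of_finrank_le hle1 (by omega)
    have e2 : A.map F = LinearMap.ker G ⊓ B :=
      Submodule.eq_of_le_of_finrank_le hle2 (by omega)
    exact ⟨e2.ge, e1.ge⟩

open TensorProduct in
/-- Over a field, a point of the Grassmannian of rank-`(d-r)` quotients of `k ⊗ k^d` has
dimension `r` when `r < d`. -/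
theorem finrank_grassmannian (d r : ℕ) (hrd : r < d)
    (V : Module.Grassmannian k (k ⊗[k] (Fin d → k)) (d - r)) :
    Module.finrank k V.toSubmodule = r := by
  have h1 := V.rankAtStalk_eq ⊥
  rw [Module.rankAtStalk_eq_finrank_of_free] at h1
  have h2 := Submodule.finrank_quotient_add_finrank V.toSubmodule
  have h3 : Module.finrank k (k ⊗[k] (Fin d → k)) = d := by
    rw [Module.finrank_baseChange, Module.finrank_fin_fun]
  simp only [Pi.natCast_def, Nat.cast_id] at h1
  omega

end Groth.Agent.H6.LG
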