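import Mathlib

/-! The family `c_t X_t - 1` in a polynomial ring: each member is a non-zero-divisor modulo the
ideal generated by any set of other members. -/

set_option autoImplicit false
universe u v
open Polynomial

namespace Groth.Agent.H6.LocT

section PolyNZD
variable {D : Type*} [CommRing D]

/-- `cY - 1` is a non-zero-divisor modulo `J[Y]` -/
theorem mem_map_C_of_mul_mem (J : Ideal D) (c : D) (g : D[X])
    (h : g * (Polynomial.C c * Polynomial.X - 1) ∈ J.map (Polynomial.C : D →+* D[X])) :
    g ∈ J.map (Polynomial.C : D →+* D[X]) := by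
  rw [Ideal.mem_map_C_iff] at h ⊢
  intro n
  induction n with
  | zero =>
    have := h 0
    rw [mul_sub, mul_one, Polynomial.coeff_sub, ← mul_assoc, Polynomial.coeff_mul_X_zero, zero_sub] at this
    simpa using J.neg_mem this
  | succ n ih =>
    have := h (n + 1)
    rw [mul_sub, mul_one, Polynomial.coeff_sub, ← mul_assoc, Polynomial.coeff_mul_X,
      Polynomial.coeff_mul_C] at this
    have h2 : g.coeff (n + 1) = g.coeff n * c - (g.coeff n * c - g.coeff (n + 1)) := by ring
    rw [h2]
    exact J.sub_mem (J.mul_mem_right _ ih) this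

end PolyNZD

section Fam
variable {C : Type u} [CommRing C] {σ : Type v} [DecidableEq σ] (c : σ → C)

/-- the relation `c_t X_t - 1` -/
noncomputable def rr (t : σ) : MvPolynomial σ C := MvPolynomial.C (c t) * MvPolynomial.X t - 1

/-- the substitution `X_t ↦ Y`, other variables constant -/
noncomputable def θ (t : σ) : MvPolynomial σ C →ₐ[C] (MvPolynomial σ C)[X] :=
  MvPolynomial.aeval (fun u => if u = t then (Polynomial.X : (MvPolynomial σ C)[X])
    else Polynomial.C (MvPolynomial.X u))

/-- evaluation `Y ↦ X_t` -/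
noncomputable def ε (t : σ) : (MvPolynomial σ C)[X] →ₐ[MvPolynomial σ C] MvPolynomial σ C :=
  Polynomial.aeval (MvPolynomial.X t)

theorem ε_θ (t : σ) (a : MvPolynomial σ C) : ε t (θ t a) = a := by
  induction a using MvPolynomial.induction_on with
  | C a =>
    simp [θ, ε]
  | add p q hp hq => rw [map_add, map_add, hp, hq]
  | mul_X p u hp =>
    rw [map_mul, map_mul, hp]
    congr 1
    by_cases h : u = t
    · subst h; simp [θ, ε]
    · simp [θ, ε, h]

theorem θ_rr_self (t : σ) :
    θ t (rr c t) = Polynomial.C (MvPolynomial.C (c t)) * Polynomial.X - 1 := by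
  simp [θ, rr]

theorem θ_rr_of_ne {t u : σ} (h : u ≠ t) : θ t (rr c u) = Polynomial.C (rr c u) := by
  simp [θ, rr, h]

theorem θ_mem (t : σ) (T : Set σ) (ht : t ∉ T) {a : MvPolynomial σ C}
    (ha : a ∈ Ideal.span (rr c '' T)) :
    θ t a ∈ (Ideal.span (rr c '' T)).map (Polynomial.C : MvPolynomial σ C →+* _) := by
  induction ha using Submodule.span_induction with
  | mem x hx =>
    obtain ⟨u, hu, rfl⟩ := hx
    have hne : u ≠ t := fun h => ht (h ▸ hu)
    rw [θ_rr_of_ne c hne]
    exact Ideal.mem_map_of_mem _ (Ideal.subset_span ⟨u, hu, rfl⟩)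
  | zero => rw [map_zero]; exact Ideal.zero_mem _
  | add x y _ _ hx hy => rw [map_add]; exact Ideal.add_mem _ hx hy
  | smul r x _ hx => rw [smul_eq_mul, map_mul]; exact Ideal.mul_mem_left _ _ hx

/-- **regularity**: `rr t` is a non-zero-divisor modulo the ideal generated by the `rr u`, `u ∈ T`,
when `t ∉ T` -/
theorem mem_of_mul_rr_mem (t : σ) (T : Set σ) (ht : t ∉ T) (a : MvPolynomial σ C)
    (h : a * rr c t ∈ Ideal.span (rr c '' T)) : a ∈ Ideal.span (rr c '' T) := by
  have h1 := θ_mem c t T ht h
  rw [map_mul, θ_rr_self] at h1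
  have h2 := mem_map_C_of_mul_mem _ _ _ h1
  have h3 : ε t (θ t a) ∈ Ideal.span (rr c '' T) := by
    rw [Ideal.mem_map_C_iff] at h2
    rw [ε, Polynomial.aeval_eq_sum_range, ]
    refine Ideal.sum_mem _ fun i _ => ?_
    rw [smul_eq_mul]
    exact Ideal.mul_mem_right _ _ (h2 i)
  rwa [ε_θ] at h3

end Fam

end Groth.Agent.H6.LocT
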