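import Mathlib
import Groth.Agent.Lib.Helper6.CotTSyz
import Groth.Agent.Lib.Helper6.LocT1

/-! Families all of whose finite subfamilies are regular have only trivial syzygies. -/

set_option autoImplicit false
universe u v
open Groth.Agent.H6.CotTSyz

namespace Groth.Agent.H6.LocT

section
variable {R : Type*} [CommRing R] {σ : Type*} (r : σ → R)

theorem mapDomain_mem_TT {n : ℕ} (emb : Fin n → σ) {y : Fin n →₀ R}
    (hy : y ∈ TT (jf (r ∘ emb))) : Finsupp.mapDomain emb y ∈ TT (jf r) := by
  have hj : ∀ a : Fin n →₀ R, jf r (Finsupp.mapDomain emb a) = jf (r ∘ emb) a := by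
    intro a
    unfold jf
    rw [Finsupp.linearCombination_mapDomain]
  induction hy using Submodule.span_induction with
  | mem x hx =>
    obtain ⟨a, b, rfl⟩ := hx
    refine Submodule.subset_span ⟨Finsupp.mapDomain emb a, Finsupp.mapDomain emb b, ?_⟩
    rw [Finsupp.mapDomain_sub, Finsupp.mapDomain_smul, Finsupp.mapDomain_smul, hj, hj]
  | zero => rw [Finsupp.mapDomain_zero]; exact Submodule.zero_mem _
  | add x y _ _ hx hy => rw [Finsupp.mapDomain_add]; exact Submodule.add_mem _ hx hy
  | smul c x _ hx => rw [Finsupp.mapDomain_smul]; exact Submodule.smul_mem _ _ hx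

/-- every relation of a family whose members are non-zero-divisors modulo the others is trivial -/
theorem ker_le_TT_of_regular
    (hreg : ∀ (t : σ) (T : Set σ), t ∉ T → ∀ a : R, a * r t ∈ Ideal.span (r '' T) →
      a ∈ Ideal.span (r '' T)) :
    LinearMap.ker (jf r) ≤ TT (jf r) := by
  classical
  intro x hx
  let s := x.support
  let e : Fin s.card ≃ s := s.equivFin.symm
  let emb : Fin s.card → σ := fun i => (e i).1
  have hemb : Function.Injective emb := fun i j h => e.injective (Subtype.ext h)
  let x' : Fin s.card →₀ R := Finsupp.comapDomain emb x hemb.injOn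
  have hx' : Finsupp.mapDomain emb x' = x := by
    apply Finsupp.mapDomain_comapDomain emb hemb
    intro t ht
    exact ⟨e.symm ⟨t, ht⟩, by simp [emb]⟩
  have hker : x' ∈ LinearMap.ker (CotTKos.jj (r ∘ emb)) := by
    rw [LinearMap.mem_ker]
    have : CotTKos.jj (r ∘ emb) x' = jf r (Finsupp.mapDomain emb x') := by
      unfold CotTKos.jj jf
      rw [Finsupp.linearCombination_mapDomain]
    rw [this, hx']
    exact hx
  have h1 := CotTKos.ker_le_triv (r ∘ emb) (fun k a ha => by
    have himg : (r ∘ emb) '' {i | i < k} = r '' (emb '' {i | i < k}) := by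
      rw [Set.image_comp]
    rw [himg] at ha ⊢
    refine hreg (emb k) _ ?_ a ha
    rintro ⟨i, hi, hik⟩
    have := hemb hik
    subst this
    exact lt_irrefl _ (show i < i from hi)) hker
  rw [← hx']
  exact mapDomain_mem_TT r emb h1

theorem syz_of_regular_family
    (hreg : ∀ (t : σ) (T : Set σ), t ∉ T → ∀ a : R, a * r t ∈ Ideal.span (r '' T) →
      a ∈ Ideal.span (r '' T)) : Syz (jf r) :=
  fun _ hx => ker_le_TT_of_regular r hreg hx.1

end

section
variable {C : Type u} [CommRing C] {σ : Type v} [DecidableEq σ] (c : σ → C)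

theorem syz_rr : Syz (jf (rr c)) :=
  syz_of_regular_family (rr c) (fun t T ht a ha => mem_of_mul_rr_mem c t T ht a ha)

end

end Groth.Agent.H6.LocT
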