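import Mathlib
import Groth.Agent.Lib.Helper6.LocT2
import Groth.Agent.Lib.Helper6.CotTT2b

/-! The standard presentation of a localization and the vanishing of its `T²`. -/

set_option autoImplicit false
universe u
open Groth.Agent.H6.CotTSyz CotT

namespace Groth.Agent.H6.LocT

section
variable {C : Type u} [CommRing C] (M : Submonoid C) (T : Type u) [CommRing T] [Algebra C T]
  [IsLocalization M T]

/-- the generators `1/s` -/
noncomputable def lval : M → T := fun s => IsLocalization.mk' T 1 s

theorem aeval_lval_surjective :
    Function.Surjective (MvPolynomial.aeval (R := C) (lval M T)) := by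
  intro x
  obtain ⟨a, s, rfl⟩ := IsLocalization.exists_mk'_eq M x
  refine ⟨MvPolynomial.C a * MvPolynomial.X s, ?_⟩
  rw [map_mul, MvPolynomial.aeval_C, MvPolynomial.aeval_X, lval, IsLocalization.mul_mk'_eq_mk'_of_mul,
    mul_one]

open Classical in
/-- the relations `s X_s - 1` -/
noncomputable def lrel : M → MvPolynomial M C := rr (fun s : M => (s : C))

theorem aeval_lrel (s : M) : MvPolynomial.aeval (R := C) (lval M T) (lrel M s) = 0 := by
  classical
  unfold lrel rr
  rw [map_sub, map_mul, MvPolynomial.aeval_C, MvPolynomial.aeval_X, map_one, lval,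
    IsLocalization.mk'_spec'_mk, map_one, sub_self]

theorem ker_aeval_lval :
    RingHom.ker (MvPolynomial.aeval (R := C) (lval M T)).toRingHom = Ideal.span (Set.range (lrel M)) := by
  classical
  apply le_antisymm
  · set J := Ideal.span (Set.range (lrel M)) with hJ
    let g : C →+* (MvPolynomial M C ⧸ J) := (Ideal.Quotient.mk J).comp MvPolynomial.C
    have hrel : ∀ s : M, g s * Ideal.Quotient.mk J (MvPolynomial.X s) = 1 := by
      intro s
      have : lrel M s ∈ J := Ideal.subset_span ⟨s, rfl⟩
      have h2 := Ideal.Quotient.eq_zero_iff_mem.2 this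
      unfold lrel rr at h2
      rw [map_sub, map_mul, map_one, sub_eq_zero] at h2
      exact h2
    have hg : ∀ s : M, IsUnit (g s) := fun s => IsUnit.of_mul_eq_one _ (hrel s)
    let ψ : T →+* (MvPolynomial M C ⧸ J) := IsLocalization.lift hg
    have hcomp : ψ.comp (MvPolynomial.aeval (R := C) (lval M T)).toRingHom = Ideal.Quotient.mk J := by
      apply MvPolynomial.ringHom_ext
      · intro c
        simp only [RingHom.comp_apply, AlgHom.toRingHom_eq_coe, RingHom.coe_coe, MvPolynomial.aeval_C]
        exact IsLocalization.lift_eq hg c
      · intro s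
        simp only [RingHom.comp_apply, AlgHom.toRingHom_eq_coe, RingHom.coe_coe, MvPolynomial.aeval_X]
        rw [lval, IsLocalization.lift_mk'_spec, map_one]
        exact (hrel s).symm
    intro p hp
    rw [RingHom.mem_ker] at hp
    have := congrArg (fun f => f p) hcomp
    simp only [RingHom.comp_apply] at this
    rw [hp, map_zero] at this
    exact Ideal.Quotient.eq_zero_iff_mem.1 this.symm
  · rw [Ideal.span_le]
    rintro _ ⟨s, rfl⟩
    exact aeval_lrel M T s

/-- the standard presentation of a localization -/
noncomputable def locPres : Algebra.Presentation C T M M :=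
  { Algebra.Generators.ofSurjective (lval M T) (aeval_lval_surjective M T) with
    relation := lrel M
    span_range_relation_eq_ker := (ker_aeval_lval M T).symm }

theorem syz_locPres : Syz (jmap (locPres M T)) := by
  classical
  exact syz_rr (fun s : M => (s : C))

theorem T2_locPres_subsingleton (N : Type u) [AddCommGroup N] [Module T N] :
    Subsingleton (T2 (locPres M T) N) := by
  haveI : Algebra.FormallySmooth C T := Algebra.FormallySmooth.of_isLocalization M
  have hinj := CotTT2.d2_injective (locPres M T) ((CotTT2.syz_iff (locPres M T)).mp (syz_locPres M T))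
  haveI := CotTT2.cotangent_projective (locPres M T)
  exact CotTT2.T2_subsingleton_of_injective_of_projective (locPres M T) N hinj

include M in
theorem T2_canon_subsingleton (N : Type u) [AddCommGroup N] [Module T N] :
    Subsingleton (T2 (canon C T) N) := by
  have h2 := T2_locPres_subsingleton M T N
  obtain ⟨E⟩ := CotTHom.nonempty_T2equiv (canon C T) (locPres M T) N
  exact E.toEquiv.subsingleton

include M in
theorem T1_canon_subsingleton (N : Type u) [AddCommGroup N] [Module T N] :
    Subsingleton (T1 (canon C T) N) := by
  haveI : Algebra.FormallySmooth C T := Algebra.FormallySmooth.of_isLocalization M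
  exact (CotTSmooth.forall_t1_canon_subsingleton_iff C T).2 inferInstance N

end

end Groth.Agent.H6.LocT
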