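import Mathlib
import Groth.Prelude.Def_CotT2

set_option autoImplicit false

universe u v w t u' v' w' t' u'' v'' w'' t'' m

open TensorProduct CotT Function

namespace Groth.Agent.H6.NineF

section Comp

variable {A : Type u} {B : Type v} {ι : Type w} {σ : Type t}
variable {A' : Type u'} {B' : Type v'} {ι' : Type w'} {σ' : Type t'}
variable {A'' : Type u''} {B'' : Type v''} {ι'' : Type w''} {σ'' : Type t''}
variable [CommRing A] [CommRing B] [Algebra A B] [CommRing A'] [CommRing B'] [Algebra A' B']
variable [CommRing A''] [CommRing B''] [Algebra A'' B'']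
variable [Algebra A A'] [Algebra B B'] [Algebra A B'] [IsScalarTower A A' B'] [IsScalarTower A B B']
variable [Algebra A' A''] [Algebra B' B''] [Algebra A' B''] [IsScalarTower A' A'' B''] [IsScalarTower A' B' B'']
variable [Algebra A A''] [Algebra B B''] [Algebra A B''] [IsScalarTower A A'' B''] [IsScalarTower A B B'']
variable [IsScalarTower B B' B'']
variable {P : Algebra.Presentation A B ι σ} {P' : Algebra.Presentation A' B' ι' σ'}
  {P'' : Algebra.Presentation A'' B'' ι'' σ''}
variable (h : PresHom P P') (g : PresHom P' P'') (k : PresHom P P'')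
variable (hring : ∀ x, k.ringHom x = g.ringHom (h.ringHom x))
variable (hrel : ∀ s, k.relVal s = g.relModMap (h.relVal s))

include hring in
lemma L0map_comp (x : L0 P) : k.L0map x = g.L0map (h.L0map x) := by
  induction x using TensorProduct.induction_on with
  | zero => simp
  | add x y hx hy => rw [map_add, hx, hy, map_add, map_add]
  | tmul b ω =>
    have hspan : ω ∈ Submodule.span P.toExtension.Ring
        (Set.range (KaehlerDifferential.D A P.toExtension.Ring)) := by
      rw [KaehlerDifferential.span_range_derivation]; trivial
    induction hspan using Submodule.span_induction generalizing b with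
    | mem y hy =>
      obtain ⟨r, rfl⟩ := hy
      rw [PresHom.L0map_apply, PresHom.L0map_apply, PresHom.L0map_apply,
        Algebra.Extension.CotangentSpace.map_tmul, Algebra.Extension.CotangentSpace.map_tmul,
        Algebra.Extension.CotangentSpace.map_tmul, ← IsScalarTower.algebraMap_apply B B' B'']
      congr 2
      exact hring r
    | zero => simp
    | add y z _ _ hy hz => rw [TensorProduct.tmul_add, map_add, hy, hz, map_add, map_add]
    | smul r y _ hy =>
      rw [← TensorProduct.smul_tmul]
      exact hy _

omit [IsScalarTower B B' B''] in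
include hring hrel in
lemma relModMap_comp (f : relMod P) : k.relModMap f = g.relModMap (h.relModMap f) := by
  induction f using Finsupp.induction_linear with
  | zero => simp
  | add f f' hf hf' => rw [map_add, hf, hf', map_add, map_add]
  | single s r =>
    rw [PresHom.relModMap_single, PresHom.relModMap_single, LinearMap.map_smulₛₗ, hring, hrel]

include hring hrel in
lemma L1map_comp (y : L1 P) : k.L1map y = g.L1map (h.L1map y) := by
  induction y using TensorProduct.induction_on with
  | zero => simp
  | add x y hx hy => rw [map_add, hx, hy, map_add, map_add]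
  | tmul b f =>
    rw [PresHom.L1map_tmul, PresHom.L1map_tmul, PresHom.L1map_tmul, relModMap_comp h g k hring hrel,
      ← IsScalarTower.algebraMap_apply B B' B'']

include hring hrel in
lemma L2map_comp (z : L2 P) : k.L2map z = g.L2map (h.L2map z) := by
  induction z using Submodule.Quotient.induction_on with
  | H z =>
    induction z using TensorProduct.induction_on with
    | zero => simp
    | add x y hx hy =>
      rw [Submodule.Quotient.mk_add, map_add, hx, hy, map_add, map_add]
    | tmul b q =>
      rw [PresHom.L2map_mk_tmul, PresHom.L2map_mk_tmul, PresHom.L2map_mk_tmul,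
        ← IsScalarTower.algebraMap_apply B B' B'']
      congr 2
      exact Subtype.ext (relModMap_comp h g k hring hrel q)

variable (M : Type m) [AddCommGroup M] [Module B'' M] [Module B' M] [IsScalarTower B' B'' M]
  [Module B M] [IsScalarTower B B' M] [IsScalarTower B B'' M]

include hring in
theorem T0pull_comp (ψ : T0 P'' M) : k.T0pull M ψ = h.T0pull M (g.T0pull M ψ) := by
  apply Subtype.ext
  refine LinearMap.ext fun x => ?_
  change (ψ : L0 P'' →ₗ[B''] M) (k.L0map x) = (ψ : L0 P'' →ₗ[B''] M) (g.L0map (h.L0map x))
  rw [L0map_comp h g k hring]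

include hring hrel in
theorem T1pull_comp (x : T1 P'' M) : k.T1pull M x = h.T1pull M (g.T1pull M x) := by
  obtain ⟨c, rfl⟩ := Submodule.Quotient.mk_surjective _ x
  change Submodule.Quotient.mk (k.cocycles1Pull M c) =
    Submodule.Quotient.mk (h.cocycles1Pull M (g.cocycles1Pull M c))
  congr 1
  apply Subtype.ext
  refine LinearMap.ext fun y => ?_
  change (c : L1 P'' →ₗ[B''] M) (k.L1map y) = (c : L1 P'' →ₗ[B''] M) (g.L1map (h.L1map y))
  rw [L1map_comp h g k hring hrel]

omit [IsScalarTower B B' B''] [IsScalarTower B' B'' M] [Module B' M] [IsScalarTower B B' M] in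
lemma T2pull_mk (c : L2 P'' →ₗ[B''] M) :
    k.T2pull M (Submodule.Quotient.mk c) = Submodule.Quotient.mk (k.pull2 M c) := rfl

set_option maxHeartbeats 2000000 in
include hring hrel in
theorem T2pull_comp (x : T2 P'' M) : k.T2pull M x = h.T2pull M (g.T2pull M x) := by
  obtain ⟨c, rfl⟩ := Submodule.Quotient.mk_surjective _ x
  have e1 := T2pull_mk k M c
  have e2 := T2pull_mk g M c
  have e3 := T2pull_mk h M (g.pull2 M c)
  have e4 : k.pull2 M c = h.pull2 M (g.pull2 M c) := by
    refine LinearMap.ext fun y => ?_
    have e5 := L2map_comp h g k hring hrel y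
    exact congrArg c e5
  refine e1.trans ?_
  refine (congrArg (fun z => (Submodule.Quotient.mk z : T2 P M)) e4).trans ?_
  refine e3.symm.trans ?_
  rw [e2]

end Comp

section CompHom

variable {A : Type u} {B : Type v} {ι : Type w} {σ : Type t}
variable {A' : Type u'} {B' : Type v'} {ι' : Type w'} {σ' : Type t'}
variable {A'' : Type u''} {B'' : Type v''} {ι'' : Type w''} {σ'' : Type t''}
variable [CommRing A] [CommRing B] [Algebra A B] [CommRing A'] [CommRing B'] [Algebra A' B']
variable [CommRing A''] [CommRing B''] [Algebra A'' B'']
variable [Algebra A A'] [Algebra B B'] [Algebra A B'] [IsScalarTower A A' B'] [IsScalarTower A B B']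
variable [Algebra A' A''] [Algebra B' B''] [Algebra A' B''] [IsScalarTower A' A'' B''] [IsScalarTower A' B' B'']
variable [Algebra A A''] [Algebra B B''] [Algebra A B''] [IsScalarTower A A'' B''] [IsScalarTower A B B'']
variable [IsScalarTower B B' B''] [IsScalarTower A A' A'']
variable {P : Algebra.Presentation A B ι σ} {P' : Algebra.Presentation A' B' ι' σ'}
  {P'' : Algebra.Presentation A'' B'' ι'' σ''}

/-- composition of morphisms of presentations -/
noncomputable def compHom (g : PresHom P' P'') (h : PresHom P P') : PresHom P P'' where
  hom := g.hom.comp h.hom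
  relVal s := g.relModMap (h.relVal s)
  jmap_relVal s := by
    rw [g.jmap_relModMap, h.jmap_relVal]
    exact (Algebra.Generators.Hom.toAlgHom_comp_apply _ _ _ h.hom g.hom (rel P s)).symm

lemma compHom_ringHom (g : PresHom P' P'') (h : PresHom P P') (x : P.toExtension.Ring) :
    (compHom g h).ringHom x = g.ringHom (h.ringHom x) :=
  Algebra.Generators.Hom.toAlgHom_comp_apply _ _ _ h.hom g.hom x

lemma compHom_relVal (g : PresHom P' P'') (h : PresHom P P') (s : σ) :
    (compHom g h).relVal s = g.relModMap (h.relVal s) := rfl

end CompHom

section Id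

variable {A : Type u} {B : Type v} {ι : Type w} {σ : Type t} [CommRing A] [CommRing B] [Algebra A B]
variable (P : Algebra.Presentation A B ι σ)
variable (M : Type m) [AddCommGroup M] [Module B M]

lemma id_ringHom (x : P.toExtension.Ring) : (PresHom.id P).ringHom x = x := by
  change (Algebra.Generators.Hom.id P.toGenerators).toAlgHom x = x
  rw [Algebra.Generators.Hom.toAlgHom_id]
  rfl

lemma id_relModMap (f : relMod P) : (PresHom.id P).relModMap f = f := by
  induction f using Finsupp.induction_linear with
  | zero => simp
  | add f g hf hg => rw [map_add, hf, hg]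
  | single s r =>
    rw [PresHom.relModMap_single, id_ringHom]
    change r • Finsupp.single s (1 : P.toExtension.Ring) = _
    rw [Finsupp.smul_single, smul_eq_mul, mul_one]

lemma id_L0map (x : L0 P) : (PresHom.id P).L0map x = x := by
  rw [PresHom.L0map_apply]
  change Algebra.Extension.CotangentSpace.map (Algebra.Generators.Hom.id P.toGenerators).toExtensionHom x = x
  rw [Algebra.Generators.Hom.toExtensionHom_id, Algebra.Extension.CotangentSpace.map_id]
  rfl

lemma id_L1map (y : L1 P) : (PresHom.id P).L1map y = y := by
  induction y using TensorProduct.induction_on with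
  | zero => simp
  | add x y hx hy => rw [map_add, hx, hy]
  | tmul b f =>
    rw [PresHom.L1map_tmul, id_relModMap]
    rfl

lemma id_L2map (z : L2 P) : (PresHom.id P).L2map z = z := by
  induction z using Submodule.Quotient.induction_on with
  | H z =>
    induction z using TensorProduct.induction_on with
    | zero => simp
    | add x y hx hy =>
      rw [Submodule.Quotient.mk_add, map_add, hx, hy]
    | tmul b q =>
      rw [PresHom.L2map_mk_tmul]
      have : (PresHom.id P).relKerMap q = q := Subtype.ext (id_relModMap P q)
      rw [this]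
      rfl

theorem T0pull_id (ψ : T0 P M) : (PresHom.id P).T0pull M ψ = ψ := by
  apply Subtype.ext
  refine LinearMap.ext fun x => ?_
  change (ψ : L0 P →ₗ[B] M) ((PresHom.id P).L0map x) = (ψ : L0 P →ₗ[B] M) x
  rw [id_L0map]

theorem T1pull_id (x : T1 P M) : (PresHom.id P).T1pull M x = x := by
  obtain ⟨c, rfl⟩ := Submodule.Quotient.mk_surjective _ x
  change Submodule.Quotient.mk ((PresHom.id P).cocycles1Pull M c) = Submodule.Quotient.mk c
  congr 1
  apply Subtype.ext
  refine LinearMap.ext fun y => ?_
  change (c : L1 P →ₗ[B] M) ((PresHom.id P).L1map y) = (c : L1 P →ₗ[B] M) y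
  rw [id_L1map]

theorem T2pull_id (x : T2 P M) : (PresHom.id P).T2pull M x = x := by
  obtain ⟨c, rfl⟩ := Submodule.Quotient.mk_surjective _ x
  refine (T2pull_mk (PresHom.id P) M c).trans ?_
  congr 1
  refine LinearMap.ext fun y => ?_
  have e5 := id_L2map P y
  exact congrArg c e5

end Id

end Groth.Agent.H6.NineF
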