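import Mathlib
import Groth.Prelude.Def_CotT2
import Groth.Agent.Lib.Helper6.CotTHom
import Groth.Agent.Lib.Helper6.NineF

set_option autoImplicit false

universe u v w t u' w' t' m

open TensorProduct CotT Function

namespace Groth.Agent.H6.NineB

variable {A : Type u} {B : Type v} {ι : Type w} {σ : Type t}
variable {A' : Type u'} {ι' : Type w'} {σ' : Type t'}
variable [CommRing A] [CommRing B] [Algebra A B] [CommRing A'] [Algebra A' B]
variable [Algebra A A'] [IsScalarTower A A' B]
variable {P : Algebra.Presentation A B ι σ} {P' : Algebra.Presentation A' B ι' σ'}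

/-- a morphism of presentations of the same ring, as an abstract morphism -/
noncomputable def toAM (k : PresHom P P') : CotTHom.AM P P' where
  τ := k.ringHom
  hτ r := k.algebraMap_ringHom r
  relVal := k.relVal
  jmap_relVal := k.jmap_relVal

lemma toAM_relModMap (k : PresHom P P') (f : relMod P) : (toAM k).relModMap f = k.relModMap f := rfl

lemma toAM_L2map (k : PresHom P P') (z : L2 P) : (toAM k).L2map z = k.L2map z := by
  induction z using Submodule.Quotient.induction_on with
  | H z =>
    induction z using TensorProduct.induction_on with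
    | zero => simp
    | add x y hx hy =>
      rw [Submodule.Quotient.mk_add, map_add, hx, hy, map_add]
    | tmul b q =>
      rw [PresHom.L2map_mk_tmul, CotTHom.AM.L2map_mk_tmul]
      rfl

variable (M : Type m) [AddCommGroup M] [Module B M] [IsScalarTower B B M]

theorem T2pull_bridge (k : PresHom P P') (x : T2 P' M) : k.T2pull M x = (toAM k).T2pull M x := by
  obtain ⟨c, rfl⟩ := Submodule.Quotient.mk_surjective _ x
  refine (NineF.T2pull_mk k M c).trans ?_
  rw [CotTHom.AM.T2pull_mk]
  congr 1

theorem T2pull_eq_same (k k' : PresHom P P') (x : T2 P' M) : k.T2pull M x = k'.T2pull M x := by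
  rw [T2pull_bridge, T2pull_bridge]
  have hC : ∀ a : A, (toAM k).τ (MvPolynomial.C a : MvPolynomial ι A) =
      (toAM k').τ (MvPolynomial.C a : MvPolynomial ι A) := by
    intro a
    have e1 : k.hom.toAlgHom (MvPolynomial.C a) = MvPolynomial.C (algebraMap A A' a) :=
      Algebra.Generators.Hom.toAlgHom_C k.hom a
    have e2 : k'.hom.toAlgHom (MvPolynomial.C a) = MvPolynomial.C (algebraMap A A' a) :=
      Algebra.Generators.Hom.toAlgHom_C k'.hom a
    exact e1.trans e2.symm
  exact LinearMap.congr_fun (CotTHom.T2pull_eq (toAM k) (toAM k') hC M) x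

end Groth.Agent.H6.NineB
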