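import Mathlib
import Groth.Prelude.Def_CotT2
import Groth.Agent.Lib.Helper6.CotTLib

set_option autoImplicit false

universe u v w t u' v' w' t' m

open TensorProduct CotT Function

namespace Groth.Agent.H6.NineH

variable {A : Type u} {B : Type v} {ι : Type w} {σ : Type t}
variable {A' : Type u'} {B' : Type v'} {ι' : Type w'} {σ' : Type t'}
variable [CommRing A] [CommRing B] [Algebra A B] [CommRing A'] [CommRing B'] [Algebra A' B']
variable [Algebra A A'] [Algebra B B'] [Algebra A B'] [IsScalarTower A A' B'] [IsScalarTower A B B']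
variable {P : Algebra.Presentation A B ι σ} {P' : Algebra.Presentation A' B' ι' σ'}
variable (k k' : PresHom P P')
variable (M' : Type m) [AddCommGroup M'] [Module B' M'] [Module B M'] [IsScalarTower B B' M']

attribute [local instance] SMulCommClass.of_commMonoid

/-- homotopy invariance on `T⁰` -/
theorem T0pull_eq (ψ : T0 P' M') : k.T0pull M' ψ = k'.T0pull M' ψ := by
  apply Subtype.ext
  refine LinearMap.ext fun x => ?_
  change (ψ : L0 P' →ₗ[B'] M') (k.L0map x) = (ψ : L0 P' →ₗ[B'] M') (k'.L0map x)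
  rw [← sub_eq_zero, ← map_sub, PresHom.L0map_apply, PresHom.L0map_apply]
  have h1 := LinearMap.congr_fun (Algebra.Extension.CotangentSpace.map_sub_map k.hom.toExtensionHom
    k'.hom.toExtensionHom) x
  rw [LinearMap.sub_apply] at h1
  rw [h1]
  have h2 := (CotTLib.comp_cotangentComplex_eq_zero_iff P' M' ψ).mp ψ.2
  exact LinearMap.congr_fun h2 _

/-- homotopy invariance on `T¹` -/
theorem T1pull_eq (x : T1 P' M') : k.T1pull M' x = k'.T1pull M' x := by
  obtain ⟨c, rfl⟩ := Submodule.Quotient.mk_surjective _ x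
  change Submodule.Quotient.mk (k.cocycles1Pull M' c) = Submodule.Quotient.mk (k'.cocycles1Pull M' c)
  rw [Submodule.Quotient.eq]
  obtain ⟨ψ, hψ⟩ := CotTLib.exists_factor_toCot P' M' (c : L1 P' →ₗ[B'] M') c.2
  let sub := Algebra.Extension.Hom.sub k.hom.toExtensionHom k'.hom.toExtensionHom
  refine ⟨(ψ.restrictScalars B).comp sub, ?_⟩
  refine LinearMap.ext fun y => ?_
  change ψ (sub (d1 P y)) = (c : L1 P' →ₗ[B'] M') (k.L1map y) - (c : L1 P' →ₗ[B'] M') (k'.L1map y)
  rw [← hψ, LinearMap.comp_apply, LinearMap.comp_apply, PresHom.toCot_L1map, PresHom.toCot_L1map, ← map_sub,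
    PresHom.cotMap_apply, PresHom.cotMap_apply]
  have h1 := LinearMap.congr_fun (Algebra.Extension.Cotangent.map_sub_map k.hom.toExtensionHom
    k'.hom.toExtensionHom) (toCot P y)
  rw [LinearMap.sub_apply] at h1
  rw [h1]
  rfl

end Groth.Agent.H6.NineH
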