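import Mathlib

set_option autoImplicit false

namespace Groth.Agent.H6.Nine

open Function

/-- a total, functional, additive relation is the graph of an additive map -/
theorem exists_addMonoidHom_of_rel {G H : Type*} [AddCommGroup G] [AddCommGroup H] (r : G → H → Prop)
    (htot : ∀ g, ∃ h, r g h) (huniq : ∀ g h h', r g h → r g h' → h = h')
    (hadd : ∀ g g' h h', r g h → r g' h' → r (g + g') (h + h')) :
    ∃ φ : G →+ H, ∀ g h, r g h ↔ φ g = h := by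
  choose φ hφ using htot
  refine ⟨AddMonoidHom.mk' φ (fun g g' => ?_), fun g h => ?_⟩
  · exact huniq _ _ _ (hφ (g + g')) (hadd _ _ _ _ (hφ g) (hφ g'))
  · constructor
    · intro hr
      exact huniq _ _ _ (hφ g) hr
    · rintro rfl
      exact hφ g

/-- `H¹` of a three-term complex -/
abbrev H1 {B : Type*} [Ring B] {U0 U1 U2 : Type*} [AddCommGroup U0] [Module B U0] [AddCommGroup U1]
    [Module B U1] [AddCommGroup U2] [Module B U2] (g0 : U0 →ₗ[B] U1) (g1 : U1 →ₗ[B] U2) : Type _ :=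
  LinearMap.ker g1 ⧸ (LinearMap.range g0).comap (LinearMap.ker g1).subtype

/-- `H²` of a three-term complex -/
abbrev H2 {B : Type*} [Ring B] {U1 U2 : Type*} [AddCommGroup U1]
    [Module B U1] [AddCommGroup U2] [Module B U2] (g1 : U1 →ₗ[B] U2) : Type _ :=
  U2 ⧸ LinearMap.range g1

lemma mk_eq_zero_iff {B : Type*} [Ring B] {U0 U1 U2 : Type*} [AddCommGroup U0] [Module B U0] [AddCommGroup U1]
    [Module B U1] [AddCommGroup U2] [Module B U2] (g0 : U0 →ₗ[B] U1) (g1 : U1 →ₗ[B] U2)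
    (c : LinearMap.ker g1) : (Submodule.Quotient.mk c : H1 g0 g1) = 0 ↔ ∃ u, g0 u = c := by
  rw [Submodule.Quotient.mk_eq_zero]
  rfl

lemma mk_eq_mk_iff {B : Type*} [Ring B] {U0 U1 U2 : Type*} [AddCommGroup U0] [Module B U0] [AddCommGroup U1]
    [Module B U1] [AddCommGroup U2] [Module B U2] (g0 : U0 →ₗ[B] U1) (g1 : U1 →ₗ[B] U2)
    (c c' : LinearMap.ker g1) :
    (Submodule.Quotient.mk c : H1 g0 g1) = Submodule.Quotient.mk c' ↔ ∃ u, g0 u = (c : U1) - c' := by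
  rw [Submodule.Quotient.eq]
  rfl

lemma mk2_eq_zero_iff {B : Type*} [Ring B] {U1 U2 : Type*} [AddCommGroup U1]
    [Module B U1] [AddCommGroup U2] [Module B U2] (g1 : U1 →ₗ[B] U2)
    (c : U2) : (Submodule.Quotient.mk c : H2 g1) = 0 ↔ ∃ u, g1 u = c := by
  rw [Submodule.Quotient.mk_eq_zero]
  rfl

lemma mk2_eq_mk2_iff {B : Type*} [Ring B] {U1 U2 : Type*} [AddCommGroup U1]
    [Module B U1] [AddCommGroup U2] [Module B U2] (g1 : U1 →ₗ[B] U2)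
    (c c' : U2) : (Submodule.Quotient.mk c : H2 g1) = Submodule.Quotient.mk c' ↔ ∃ u, g1 u = c - c' := by
  rw [Submodule.Quotient.eq]
  rfl

section Generic

variable {B₁ B₂ B₃ : Type*} [Ring B₁] [Ring B₂] [Ring B₃]
variable {X0 X1 X2 : Type*} [AddCommGroup X0] [Module B₁ X0] [AddCommGroup X1] [Module B₁ X1]
  [AddCommGroup X2] [Module B₁ X2]
variable {Y0 Y1 Y2 : Type*} [AddCommGroup Y0] [Module B₂ Y0] [AddCommGroup Y1] [Module B₂ Y1]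
  [AddCommGroup Y2] [Module B₂ Y2]
variable {Z0 Z1 Z2 : Type*} [AddCommGroup Z0] [Module B₃ Z0] [AddCommGroup Z1] [Module B₃ Z1]
  [AddCommGroup Z2] [Module B₃ Z2]

theorem nine (d0 : X0 →ₗ[B₁] X1) (d1 : X1 →ₗ[B₁] X2)
    (e0 : Y0 →ₗ[B₂] Y1) (e1 : Y1 →ₗ[B₂] Y2)
    (f0 : Z0 →ₗ[B₃] Z1) (f1 : Z1 →ₗ[B₃] Z2)
    (he : ∀ y, e1 (e0 y) = 0)
    (a0 : X0 →+ Y0) (a1 : X1 →+ Y1) (a2 : X2 →+ Y2) (b0 : Y0 →+ Z0) (b1 : Y1 →+ Z1) (b2 : Y2 →+ Z2)
    (ha0 : ∀ x, a1 (d0 x) = e0 (a0 x)) (ha1 : ∀ x, a2 (d1 x) = e1 (a1 x))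
    (hb0 : ∀ y, b1 (e0 y) = f0 (b0 y)) (hb1 : ∀ y, b2 (e1 y) = f1 (b1 y))
    (inj0 : Injective a0) (inj1 : Injective a1) (inj2 : Injective a2)
    (ex0 : ∀ y, b0 y = 0 ↔ ∃ x, a0 x = y) (ex1 : ∀ y, b1 y = 0 ↔ ∃ x, a1 x = y)
    (ex2 : ∀ y, b2 y = 0 ↔ ∃ x, a2 x = y)
    (sur0 : Surjective b0) (sur1 : Surjective b1)
    (A0 : LinearMap.ker d0 → LinearMap.ker e0) (hA0 : ∀ x, (A0 x : Y0) = a0 x)
    (B0 : LinearMap.ker e0 → LinearMap.ker f0) (hB0 : ∀ y, (B0 y : Z0) = b0 y)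
    (A1 : H1 d0 d1 → H1 e0 e1)
    (hA1 : ∀ (c : LinearMap.ker d1) (c' : LinearMap.ker e1), (c' : Y1) = a1 c →
      A1 (Submodule.Quotient.mk c) = Submodule.Quotient.mk c')
    (B1 : H1 e0 e1 → H1 f0 f1)
    (hB1 : ∀ (c : LinearMap.ker e1) (c' : LinearMap.ker f1), (c' : Z1) = b1 c →
      B1 (Submodule.Quotient.mk c) = Submodule.Quotient.mk c')
    (A2 : H2 d1 → H2 e1) (hA2 : ∀ x, A2 (Submodule.Quotient.mk x) = Submodule.Quotient.mk (a2 x))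
    (B2 : H2 e1 → H2 f1) (hB2 : ∀ y, B2 (Submodule.Quotient.mk y) = Submodule.Quotient.mk (b2 y)) :
    Injective A0 ∧ Exact A0 B0 ∧ Exact A1 B1 ∧ Exact A2 B2 ∧
    ∃ (δ₀ : LinearMap.ker f0 →+ H1 d0 d1) (δ₁ : H1 f0 f1 →+ H2 d1),
      Exact B0 δ₀ ∧ Exact δ₀ A1 ∧ Exact B1 δ₁ ∧ Exact δ₁ A2 := by
  -- basic consequences
  have hba0 : ∀ x, b0 (a0 x) = 0 := fun x => (ex0 _).mpr ⟨x, rfl⟩
  have hba1 : ∀ x, b1 (a1 x) = 0 := fun x => (ex1 _).mpr ⟨x, rfl⟩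
  have hba2 : ∀ x, b2 (a2 x) = 0 := fun x => (ex2 _).mpr ⟨x, rfl⟩
  have hd : ∀ x, d1 (d0 x) = 0 := by
    intro x
    apply inj2
    rw [ha1, ha0, he, map_zero]
  have hf : ∀ z, f1 (f0 z) = 0 := by
    intro z
    obtain ⟨y, rfl⟩ := sur0 z
    rw [← hb0, ← hb1, he, map_zero]
  -- lifting cocycles: if a1 x1 is a cocycle then so is x1
  have cocyc : ∀ x1, e1 (a1 x1) = 0 → d1 x1 = 0 := by
    intro x1 h
    apply inj2
    rw [ha1, h, map_zero]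
  have cy : ∀ x1, d1 x1 = 0 → a1 x1 ∈ LinearMap.ker e1 := fun x1 h => by
    rw [LinearMap.mem_ker, ← ha1, h, map_zero]
  refine ⟨?_, ?_, ?_, ?_, ?_⟩
  · -- injective A0
    intro x x' h
    apply Subtype.ext
    apply inj0
    rw [← hA0, ← hA0, h]
  · -- exact A0 B0
    intro y
    constructor
    · intro h
      have h1 : b0 (y : Y0) = 0 := by rw [← hB0, h]; rfl
      obtain ⟨x, hx⟩ := (ex0 _).mp h1
      have hx0 : d0 x = 0 := by
        apply inj1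
        rw [ha0, hx, map_zero]
        exact y.2
      refine ⟨⟨x, hx0⟩, ?_⟩
      apply Subtype.ext
      rw [hA0]
      exact hx
    · rintro ⟨x, rfl⟩
      apply Subtype.ext
      rw [hB0, hA0]
      exact hba0 _
  · -- exact A1 B1
    intro η
    obtain ⟨c', rfl⟩ := Submodule.Quotient.mk_surjective _ η
    have hc' : e1 (c' : Y1) = 0 := c'.2
    have hbc' : f1 (b1 (c' : Y1)) = 0 := by rw [← hb1, hc', map_zero]
    rw [hB1 c' ⟨b1 c', hbc'⟩ rfl]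
    constructor
    · intro h
      rw [mk_eq_zero_iff] at h
      obtain ⟨z0, hz0⟩ := h
      obtain ⟨y0, rfl⟩ := sur0 z0
      have h1 : b1 ((c' : Y1) - e0 y0) = 0 := by
        rw [map_sub, hb0]
        exact sub_eq_zero.mpr hz0.symm
      obtain ⟨x1, hx1⟩ := (ex1 _).mp h1
      have hx1c : d1 x1 = 0 := by
        apply cocyc
        rw [hx1, map_sub, hc', he, sub_zero]
      refine ⟨Submodule.Quotient.mk ⟨x1, hx1c⟩, ?_⟩
      rw [hA1 ⟨x1, hx1c⟩ ⟨a1 x1, cy x1 hx1c⟩ rfl, mk_eq_mk_iff]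
      refine ⟨-y0, ?_⟩
      rw [map_neg]
      change - e0 y0 = a1 x1 - c'
      rw [hx1]
      abel
    · rintro ⟨ξ, hξ⟩
      obtain ⟨c, rfl⟩ := Submodule.Quotient.mk_surjective _ ξ
      have hc : d1 (c : X1) = 0 := c.2
      rw [hA1 c ⟨a1 c, cy c hc⟩ rfl, mk_eq_mk_iff] at hξ
      obtain ⟨u, hu⟩ := hξ
      rw [mk_eq_zero_iff]
      refine ⟨b0 (-u), ?_⟩
      rw [← hb0, map_neg, map_neg, hu]
      change -(b1 (a1 c - c')) = b1 c'
      rw [map_sub, hba1]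
      abel
  · -- exact A2 B2
    intro η
    obtain ⟨y2, rfl⟩ := Submodule.Quotient.mk_surjective _ η
    rw [hB2]
    constructor
    · intro h
      rw [mk2_eq_zero_iff] at h
      obtain ⟨z1, hz1⟩ := h
      obtain ⟨y1, rfl⟩ := sur1 z1
      have h1 : b2 (y2 - e1 y1) = 0 := by
        rw [map_sub, hb1]
        exact sub_eq_zero.mpr hz1.symm
      obtain ⟨x2, hx2⟩ := (ex2 _).mp h1
      refine ⟨Submodule.Quotient.mk x2, ?_⟩
      rw [hA2, mk2_eq_mk2_iff]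
      refine ⟨-y1, ?_⟩
      rw [map_neg, hx2]
      abel
    · rintro ⟨ξ, hξ⟩
      obtain ⟨x2, rfl⟩ := Submodule.Quotient.mk_surjective _ ξ
      rw [hA2, mk2_eq_mk2_iff] at hξ
      obtain ⟨u, hu⟩ := hξ
      rw [mk2_eq_zero_iff]
      refine ⟨b1 (-u), ?_⟩
      rw [← hb1, map_neg, map_neg, hu, map_sub, hba2]
      abel
  · -- connecting maps
    -- δ₀
    let r0 : LinearMap.ker f0 → H1 d0 d1 → Prop := fun z ξ =>
      ∃ (y : Y0) (x1 : X1) (h : d1 x1 = 0), b0 y = z ∧ a1 x1 = e0 y ∧ ξ = Submodule.Quotient.mk ⟨x1, h⟩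
    have r0_tot : ∀ z, ∃ ξ, r0 z ξ := by
      intro z
      obtain ⟨y, hy⟩ := sur0 (z : Z0)
      have h1 : b1 (e0 y) = 0 := by rw [hb0, hy]; exact z.2
      obtain ⟨x1, hx1⟩ := (ex1 _).mp h1
      have h2 : d1 x1 = 0 := cocyc x1 (by rw [hx1, he])
      exact ⟨_, y, x1, h2, hy, hx1, rfl⟩
    have r0_uniq : ∀ z ξ ξ', r0 z ξ → r0 z ξ' → ξ = ξ' := by
      rintro z _ _ ⟨y, x1, h, hy, hx1, rfl⟩ ⟨y', x1', h', hy', hx1', rfl⟩
      rw [mk_eq_mk_iff]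
      have h1 : b0 (y - y') = 0 := by rw [map_sub, hy, hy', sub_self]
      obtain ⟨x0, hx0⟩ := (ex0 _).mp h1
      refine ⟨x0, ?_⟩
      apply inj1
      rw [ha0, hx0, map_sub]
      change e0 y - e0 y' = a1 (x1 - x1')
      rw [map_sub, hx1, hx1']
    have r0_add : ∀ z z' ξ ξ', r0 z ξ → r0 z' ξ' → r0 (z + z') (ξ + ξ') := by
      rintro z z' _ _ ⟨y, x1, h, hy, hx1, rfl⟩ ⟨y', x1', h', hy', hx1', rfl⟩
      refine ⟨y + y', x1 + x1', by rw [map_add, h, h', add_zero], ?_, ?_, rfl⟩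
      · rw [map_add, hy, hy']; rfl
      · rw [map_add, map_add, hx1, hx1']
    obtain ⟨δ₀, hδ₀⟩ := exists_addMonoidHom_of_rel r0 r0_tot r0_uniq r0_add
    -- δ₁
    let r1 : H1 f0 f1 → H2 d1 → Prop := fun ζ ξ =>
      ∃ (z1 : Z1) (hz : f1 z1 = 0) (y1 : Y1) (x2 : X2), ζ = Submodule.Quotient.mk ⟨z1, hz⟩ ∧
        b1 y1 = z1 ∧ a2 x2 = e1 y1 ∧ ξ = Submodule.Quotient.mk x2
    have r1_tot : ∀ ζ, ∃ ξ, r1 ζ ξ := by
      intro ζ
      obtain ⟨⟨z1, hz⟩, rfl⟩ := Submodule.Quotient.mk_surjective _ ζ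
      obtain ⟨y1, hy1⟩ := sur1 z1
      have h1 : b2 (e1 y1) = 0 := by rw [hb1, hy1]; exact hz
      obtain ⟨x2, hx2⟩ := (ex2 _).mp h1
      exact ⟨_, z1, hz, y1, x2, rfl, hy1, hx2, rfl⟩
    have r1_uniq : ∀ ζ ξ ξ', r1 ζ ξ → r1 ζ ξ' → ξ = ξ' := by
      rintro ζ _ _ ⟨z1, hz, y1, x2, rfl, hy1, hx2, rfl⟩ ⟨z1', hz', y1', x2', hζ, hy1', hx2', rfl⟩
      rw [mk_eq_mk_iff] at hζ
      obtain ⟨z0, hz0⟩ := hζ
      obtain ⟨y0, rfl⟩ := sur0 z0
      have h1 : b1 (y1 - y1' - e0 y0) = 0 := by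
        rw [map_sub, map_sub, hy1, hy1', hb0, hz0]
        exact sub_self _
      obtain ⟨x1, hx1⟩ := (ex1 _).mp h1
      rw [mk2_eq_mk2_iff]
      refine ⟨x1, ?_⟩
      apply inj2
      rw [ha1, hx1, map_sub, map_sub, he, sub_zero, map_sub, hx2, hx2']
    have r1_add : ∀ ζ ζ' ξ ξ', r1 ζ ξ → r1 ζ' ξ' → r1 (ζ + ζ') (ξ + ξ') := by
      rintro _ _ _ _ ⟨z1, hz, y1, x2, rfl, hy1, hx2, rfl⟩ ⟨z1', hz', y1', x2', rfl, hy1', hx2', rfl⟩
      refine ⟨z1 + z1', by rw [map_add, hz, hz', add_zero], y1 + y1', x2 + x2', rfl, ?_, ?_, rfl⟩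
      · rw [map_add, hy1, hy1']
      · rw [map_add, map_add, hx2, hx2']
    obtain ⟨δ₁, hδ₁⟩ := exists_addMonoidHom_of_rel r1 r1_tot r1_uniq r1_add
    refine ⟨δ₀, δ₁, ?_, ?_, ?_, ?_⟩
    · -- exact B0 δ₀
      intro z
      constructor
      · intro h
        obtain ⟨y, x1, hx1c, hy, hx1, hξ⟩ := (hδ₀ z 0).mpr h
        rw [eq_comm, mk_eq_zero_iff] at hξ
        obtain ⟨x0, hx0⟩ := hξ
        have h1 : e0 (y - a0 x0) = 0 := by
          rw [map_sub, ← ha0, hx0]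
          change e0 y - a1 x1 = 0
          rw [hx1, sub_self]
        refine ⟨⟨y - a0 x0, h1⟩, ?_⟩
        apply Subtype.ext
        rw [hB0]
        change b0 (y - a0 x0) = z
        rw [map_sub, hba0, sub_zero, hy]
      · rintro ⟨y, rfl⟩
        rw [← hδ₀]
        refine ⟨y, 0, by rw [map_zero], (hB0 y).symm, ?_, ?_⟩
        · rw [map_zero]; exact y.2.symm
        · symm
          rw [mk_eq_zero_iff]
          exact ⟨0, by rw [map_zero]⟩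
    · -- exact δ₀ A1
      intro ξ
      constructor
      · intro h
        obtain ⟨⟨x1, hx1c⟩, rfl⟩ := Submodule.Quotient.mk_surjective _ ξ
        rw [hA1 ⟨x1, hx1c⟩ ⟨a1 x1, cy x1 hx1c⟩ rfl, mk_eq_zero_iff] at h
        obtain ⟨y, hy⟩ := h
        have hz : f0 (b0 y) = 0 := by
          rw [← hb0, hy]
          exact hba1 x1
        refine ⟨⟨b0 y, hz⟩, ?_⟩
        rw [← hδ₀]
        exact ⟨y, x1, hx1c, rfl, hy.symm, rfl⟩
      · rintro ⟨z, rfl⟩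
        obtain ⟨y, x1, hx1c, hy, hx1, hξ⟩ := (hδ₀ z _).mpr rfl
        rw [hξ, hA1 ⟨x1, hx1c⟩ ⟨a1 x1, cy x1 hx1c⟩ rfl, mk_eq_zero_iff]
        exact ⟨y, hx1.symm⟩
    · -- exact B1 δ₁
      intro ζ
      constructor
      · intro h
        obtain ⟨z1, hz, y1, x2, rfl, hy1, hx2, hξ⟩ := (hδ₁ ζ 0).mpr h
        rw [eq_comm, mk2_eq_zero_iff] at hξ
        obtain ⟨x1, hx1⟩ := hξ
        have h1 : e1 (y1 - a1 x1) = 0 := by
          rw [map_sub, ← ha1, hx1, hx2, sub_self]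
        refine ⟨Submodule.Quotient.mk ⟨y1 - a1 x1, h1⟩, ?_⟩
        rw [hB1 ⟨y1 - a1 x1, h1⟩ ⟨z1, hz⟩ (by
          change z1 = b1 (y1 - a1 x1)
          rw [map_sub, hba1, sub_zero, hy1])]
      · rintro ⟨η, rfl⟩
        obtain ⟨c', rfl⟩ := Submodule.Quotient.mk_surjective _ η
        have hc' : e1 (c' : Y1) = 0 := c'.2
        have hbc' : f1 (b1 (c' : Y1)) = 0 := by rw [← hb1, hc', map_zero]
        rw [hB1 c' ⟨b1 c', hbc'⟩ rfl, ← hδ₁]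
        refine ⟨b1 c', hbc', c', 0, rfl, rfl, by rw [map_zero, hc'], ?_⟩
        symm
        rw [mk2_eq_zero_iff]
        exact ⟨0, by rw [map_zero]⟩
    · -- exact δ₁ A2
      intro ξ
      constructor
      · intro h
        obtain ⟨x2, rfl⟩ := Submodule.Quotient.mk_surjective _ ξ
        rw [hA2, mk2_eq_zero_iff] at h
        obtain ⟨y1, hy1⟩ := h
        have hz : f1 (b1 y1) = 0 := by
          rw [← hb1, hy1]
          exact hba2 x2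
        refine ⟨Submodule.Quotient.mk ⟨b1 y1, hz⟩, ?_⟩
        rw [← hδ₁]
        exact ⟨b1 y1, hz, y1, x2, rfl, rfl, hy1.symm, rfl⟩
      · rintro ⟨ζ, rfl⟩
        obtain ⟨z1, hz, y1, x2, -, hy1, hx2, hξ⟩ := (hδ₁ ζ _).mpr rfl
        rw [hξ, hA2, mk2_eq_zero_iff]
        exact ⟨y1, hx2.symm⟩

end Generic

end Groth.Agent.H6.Nine
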