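import Mathlib
import Groth.Prelude.Def_CotT2
import Groth.Agent.Lib.Helper6.NineAbs

set_option autoImplicit false

universe u v w t u' v' w' t' u'' v'' w'' t'' m

open TensorProduct CotT Function

namespace Groth.Agent.H6.Nine

section Pres

variable {A : Type u} {B : Type v} {ι : Type w} {σ : Type t}
variable {A' : Type u'} {B' : Type v'} {ι' : Type w'} {σ' : Type t'}
variable {A'' : Type u''} {B'' : Type v''} {ι'' : Type w''} {σ'' : Type t''}
variable [CommRing A] [CommRing B] [Algebra A B] [CommRing A'] [CommRing B'] [Algebra A' B']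
variable [CommRing A''] [CommRing B''] [Algebra A'' B'']
variable [Algebra A A'] [Algebra B B'] [Algebra A B'] [IsScalarTower A A' B'] [IsScalarTower A B B']
variable [Algebra A' A''] [Algebra B' B''] [Algebra A' B''] [IsScalarTower A' A'' B''] [IsScalarTower A' B' B'']
variable {P : Algebra.Presentation A B ι σ} {P' : Algebra.Presentation A' B' ι' σ'}
  {P'' : Algebra.Presentation A'' B'' ι'' σ''}
variable (h : PresHom P P') (g : PresHom P' P'')
variable (M : Type m) [AddCommGroup M] [Module B'' M] [Module B' M] [IsScalarTower B' B'' M]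
  [Module B M] [IsScalarTower B B' M]

theorem nine_pres
    (inj0 : Injective (g.pull0 M)) (inj1 : Injective (g.pull1 M)) (inj2 : Injective (g.pull2 M))
    (ex0 : ∀ y, h.pull0 M y = 0 ↔ ∃ x, g.pull0 M x = y)
    (ex1 : ∀ y, h.pull1 M y = 0 ↔ ∃ x, g.pull1 M x = y)
    (ex2 : ∀ y, h.pull2 M y = 0 ↔ ∃ x, g.pull2 M x = y)
    (sur0 : Surjective (h.pull0 M)) (sur1 : Surjective (h.pull1 M)) :
    Injective (g.T0pull M) ∧ Exact (g.T0pull M) (h.T0pull M) ∧ Exact (g.T1pull M) (h.T1pull M) ∧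
    Exact (g.T2pull M) (h.T2pull M) ∧
    ∃ (δ₀ : T0 P M →+ T1 P'' M) (δ₁ : T1 P M →+ T2 P'' M),
      Exact (h.T0pull M) δ₀ ∧ Exact δ₀ (g.T1pull M) ∧ Exact (h.T1pull M) δ₁ ∧ Exact δ₁ (g.T2pull M) := by
  refine nine (d1Star P'' M) (d2Star P'' M) (d1Star P' M) (d2Star P' M) (d1Star P M) (d2Star P M)
    (fun y => LinearMap.congr_fun (d2Star_comp_d1Star P' M) y)
    (g.pull0 M).toAddMonoidHom (g.pull1 M).toAddMonoidHom (g.pull2 M).toAddMonoidHom
    (h.pull0 M).toAddMonoidHom (h.pull1 M).toAddMonoidHom (h.pull2 M).toAddMonoidHom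
    (fun x => g.pull1_d1Star M x) (fun x => g.pull2_d2Star M x)
    (fun y => h.pull1_d1Star M y) (fun y => h.pull2_d2Star M y)
    inj0 inj1 inj2 ex0 ex1 ex2 sur0 sur1
    (g.T0pull M) (fun x => rfl) (h.T0pull M) (fun y => rfl)
    (g.T1pull M) ?_ (h.T1pull M) ?_ (g.T2pull M) (fun x => rfl) (h.T2pull M) (fun y => rfl)
  · intro c c' hc
    change Submodule.Quotient.mk (g.cocycles1Pull M c) = Submodule.Quotient.mk c'
    congr 1
    exact Subtype.ext hc.symm
  · intro c c' hc
    change Submodule.Quotient.mk (h.cocycles1Pull M c) = Submodule.Quotient.mk c'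
    congr 1
    exact Subtype.ext hc.symm

end Pres

end Groth.Agent.H6.Nine
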