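import Mathlib
import Groth.Prelude.Def_CotT2

set_option autoImplicit false

universe u w t w' t' m

open TensorProduct CotT Function MvPolynomial

namespace Groth.Agent.H6.NineW

variable {A B C : Type u} [CommRing A] [CommRing B] [CommRing C] [Algebra A B] [Algebra B C] [Algebra A C]
  [IsScalarTower A B C]
variable {ι : Type w} {σ : Type t} {ι' : Type w'} {σ' : Type t'}
variable (P : Algebra.Presentation A B ι σ) (Q : Algebra.Presentation B C ι' σ')

/-- the generators hom `P → Q.comp P` -/
noncomputable def vGen : P.toGenerators.Hom (Q.comp P).toGenerators :=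
  Q.toGenerators.toComp P.toGenerators

/-- the generators hom `Q.comp P → Q` -/
noncomputable def uGen : (Q.comp P).toGenerators.Hom Q.toGenerators :=
  Q.toGenerators.ofComp P.toGenerators

lemma vGen_ringHom (x : P.toExtension.Ring) :
    (vGen P Q).toExtensionHom.toRingHom x = rename Sum.inr x := by
  change (Q.toGenerators.toComp P.toGenerators).toAlgHom x = _
  rw [Algebra.Generators.toComp_toAlgHom]

lemma uGen_ringHom (x : (Q.comp P).toExtension.Ring) :
    (uGen P Q).toExtensionHom.toRingHom x = aeval (Sum.elim X (MvPolynomial.C ∘ P.val)) x := by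
  rfl

lemma uGen_ringHom_rename (x : P.toExtension.Ring) :
    (uGen P Q).toExtensionHom.toRingHom (rename Sum.inr x) =
      MvPolynomial.C (algebraMap P.toExtension.Ring B x) := by
  exact Algebra.Generators.toAlgHom_ofComp_rename Q.toGenerators P.toGenerators x

/-- the morphism `P → Q.comp P` over `(A = A, B → C)` -/
noncomputable def vHom : PresHom P (Q.comp P) where
  hom := vGen P Q
  relVal s := Finsupp.single (Sum.inr s) 1
  jmap_relVal s := by
    rw [jmap_single, one_mul, vGen_ringHom]
    rfl

/-- the morphism `Q.comp P → Q` over `(A → B, C = C)` -/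
noncomputable def uHom : PresHom (Q.comp P) Q where
  hom := uGen P Q
  relVal := Sum.elim (fun s' => Finsupp.single s' 1) (fun _ => 0)
  jmap_relVal s := by
    rcases s with s' | s
    · rw [Sum.elim_inl, jmap_single, one_mul, uGen_ringHom]
      exact (Algebra.Presentation.comp_aeval_relation_inl Q P s').symm
    · rw [Sum.elim_inr, map_zero]
      have h1 := uGen_ringHom_rename P Q (rel P s)
      have h2 : algebraMap P.toExtension.Ring B (rel P s) = 0 := P.relation_mem_ker s
      rw [h2, map_zero] at h1
      exact h1.symm

end Groth.Agent.H6.NineW
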