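import Mathlib

set_option autoImplicit false

open Function

namespace Groth.Agent.H6.NineW

section SplitRows

variable {B C : Type*} [CommRing B] [CommRing C]
variable {ι ι' : Type*}
variable {X Y Z M : Type*} [AddCommGroup X] [Module B X] [AddCommGroup Y] [Module C Y]
  [AddCommGroup Z] [Module C Z] [AddCommGroup M] [Module C M] [Module B M]
variable (bX : Module.Basis ι B X) (bY : Module.Basis (ι' ⊕ ι) C Y) (bZ : Module.Basis ι' C Z)
variable (f : X → Y) (g : Y → Z)
variable (hf : ∀ i, f (bX i) = bY (Sum.inr i))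
variable (hgl : ∀ j, g (bY (Sum.inl j)) = bZ j) (hgr : ∀ i, g (bY (Sum.inr i)) = 0)
variable (Fg : (Z →ₗ[C] M) → (Y →ₗ[C] M)) (hFg : ∀ ψ y, Fg ψ y = ψ (g y))
variable (Ff : (Y →ₗ[C] M) → (X →ₗ[B] M)) (hFf : ∀ φ x, Ff φ x = φ (f x))

include hgl hFg in
theorem split_injective : Injective Fg := by
  intro ψ ψ' h
  refine bZ.ext fun j => ?_
  have := LinearMap.congr_fun h (bY (Sum.inl j))
  rwa [hFg, hFg, hgl] at this

include hf hgl hgr hFg hFf in
theorem split_exact (φ : Y →ₗ[C] M) : Ff φ = 0 ↔ ∃ ψ, Fg ψ = φ := by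
  constructor
  · intro h
    have h0 : ∀ i, φ (bY (Sum.inr i)) = 0 := by
      intro i
      have := LinearMap.congr_fun h (bX i)
      rwa [hFf, hf, LinearMap.zero_apply] at this
    refine ⟨bZ.constr ℕ (fun j => φ (bY (Sum.inl j))), ?_⟩
    refine bY.ext fun k => ?_
    rcases k with j | i
    · rw [hFg, hgl, Module.Basis.constr_basis]
    · rw [hFg, hgr, map_zero, h0]
  · rintro ⟨ψ, rfl⟩
    refine bX.ext fun i => ?_
    rw [hFf, hFg, hf, hgr, map_zero, LinearMap.zero_apply]

include hf hFf in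
theorem split_surjective : Surjective Ff := by
  intro χ
  refine ⟨bY.constr ℕ (Sum.elim (fun _ => 0) (fun i => χ (bX i))), ?_⟩
  refine bX.ext fun i => ?_
  rw [hFf, hf, Module.Basis.constr_basis, Sum.elim_inr]

end SplitRows

end Groth.Agent.H6.NineW
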