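import Mathlib
import Groth.Prelude.Def_CotT2
import Groth.Agent.Lib.Helper6.NineW1
import Groth.Agent.Lib.Helper6.NineW2

set_option autoImplicit false

universe u w t w' t' m

open TensorProduct CotT Function MvPolynomial

namespace Groth.Agent.H6.NineW

variable {A B C : Type u} [CommRing A] [CommRing B] [CommRing C] [Algebra A B] [Algebra B C] [Algebra A C]
  [IsScalarTower A B C]
variable {ι : Type w} {σ : Type t} {ι' : Type w'} {σ' : Type t'}
variable (P : Algebra.Presentation A B ι σ) (Q : Algebra.Presentation B C ι' σ')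

section Deg0

lemma v_L0map_basis (i : ι) :
    (vHom P Q).L0map (P.cotangentSpaceBasis i) = (Q.comp P).cotangentSpaceBasis (Sum.inr i) := by
  rw [PresHom.L0map_apply, Algebra.Generators.cotangentSpaceBasis_apply,
    Algebra.Generators.cotangentSpaceBasis_apply]
  refine (Algebra.Extension.CotangentSpace.map_tmul (vHom P Q).hom.toExtensionHom (1 : B)
    (X i : MvPolynomial ι A)).trans ?_
  rw [map_one]
  have h1 : (vHom P Q).hom.toExtensionHom.toAlgHom (X i : MvPolynomial ι A) = X (Sum.inr i) :=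
    (vGen_ringHom P Q (X i)).trans (rename_X _ _)
  rw [h1]
  rfl

lemma u_L0map_basis_inl (j : ι') :
    (uHom P Q).L0map ((Q.comp P).cotangentSpaceBasis (Sum.inl j)) = Q.cotangentSpaceBasis j := by
  rw [PresHom.L0map_apply, Algebra.Generators.cotangentSpaceBasis_apply,
    Algebra.Generators.cotangentSpaceBasis_apply]
  refine (Algebra.Extension.CotangentSpace.map_tmul (uHom P Q).hom.toExtensionHom (1 : C)
    (X (Sum.inl j) : MvPolynomial (ι' ⊕ ι) A)).trans ?_
  rw [map_one]
  have h1 : (uHom P Q).hom.toExtensionHom.toAlgHom (X (Sum.inl j) : MvPolynomial (ι' ⊕ ι) A) = X j :=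
    (uGen_ringHom P Q (X (Sum.inl j))).trans (by rw [aeval_X, Sum.elim_inl])
  rw [h1]
  rfl

lemma u_L0map_basis_inr (i : ι) :
    (uHom P Q).L0map ((Q.comp P).cotangentSpaceBasis (Sum.inr i)) = 0 := by
  rw [PresHom.L0map_apply, Algebra.Generators.cotangentSpaceBasis_apply]
  refine (Algebra.Extension.CotangentSpace.map_tmul (uHom P Q).hom.toExtensionHom (1 : C)
    (X (Sum.inr i) : MvPolynomial (ι' ⊕ ι) A)).trans ?_
  have h1 : (uHom P Q).hom.toExtensionHom.toAlgHom (X (Sum.inr i) : MvPolynomial (ι' ⊕ ι) A) =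
      MvPolynomial.C (P.val i) :=
    (uGen_ringHom P Q (X (Sum.inr i))).trans (by rw [aeval_X, Sum.elim_inr]; rfl)
  have h2 : (KaehlerDifferential.D B Q.toExtension.Ring) (MvPolynomial.C (P.val i)) = 0 :=
    (KaehlerDifferential.D B Q.toExtension.Ring).map_algebraMap (P.val i)
  rw [h1]
  erw [h2]
  rw [TensorProduct.tmul_zero]

end Deg0

section Deg1

lemma v_L1map_basis (s : σ) :
    (vHom P Q).L1map (L1basis P s) = L1basis (Q.comp P) (Sum.inr s) := by
  rw [L1basis_apply, L1basis_apply, PresHom.L1map_tmul, map_one, PresHom.relModMap_single, map_one, one_smul]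
  rfl

lemma u_L1map_basis_inl (s' : σ') :
    (uHom P Q).L1map (L1basis (Q.comp P) (Sum.inl s')) = L1basis Q s' := by
  rw [L1basis_apply, L1basis_apply, PresHom.L1map_tmul, map_one, PresHom.relModMap_single, map_one, one_smul]
  rfl

lemma u_L1map_basis_inr (s : σ) :
    (uHom P Q).L1map (L1basis (Q.comp P) (Sum.inr s)) = 0 := by
  rw [L1basis_apply, PresHom.L1map_tmul, map_one, PresHom.relModMap_single, map_one, one_smul]
  change (1 : C) ⊗ₜ[Q.toExtension.Ring] (0 : relMod Q) = 0
  rw [TensorProduct.tmul_zero]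

end Deg1

section Rows

variable (M : Type m) [AddCommGroup M] [Module C M] [Module B M] [IsScalarTower B C M]

theorem row0_injective : Injective ((uHom P Q).pull0 M) :=
  split_injective (Q.comp P).cotangentSpaceBasis Q.cotangentSpaceBasis (uHom P Q).L0map
    (u_L0map_basis_inl P Q) ((uHom P Q).pull0 M) (fun _ _ => rfl)

theorem row0_exact (φ : L0 (Q.comp P) →ₗ[C] M) :
    (vHom P Q).pull0 M φ = 0 ↔ ∃ ψ, (uHom P Q).pull0 M ψ = φ :=
  split_exact P.cotangentSpaceBasis (Q.comp P).cotangentSpaceBasis Q.cotangentSpaceBasis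
    (vHom P Q).L0map (uHom P Q).L0map (v_L0map_basis P Q) (u_L0map_basis_inl P Q) (u_L0map_basis_inr P Q)
    ((uHom P Q).pull0 M) (fun _ _ => rfl) ((vHom P Q).pull0 M) (fun _ _ => rfl) φ

theorem row0_surjective : Surjective ((vHom P Q).pull0 M) :=
  split_surjective P.cotangentSpaceBasis (Q.comp P).cotangentSpaceBasis
    (vHom P Q).L0map (v_L0map_basis P Q) ((vHom P Q).pull0 M) (fun _ _ => rfl)

theorem row1_injective : Injective ((uHom P Q).pull1 M) :=
  split_injective (L1basis (Q.comp P)) (L1basis Q) (uHom P Q).L1map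
    (u_L1map_basis_inl P Q) ((uHom P Q).pull1 M) (fun _ _ => rfl)

theorem row1_exact (φ : L1 (Q.comp P) →ₗ[C] M) :
    (vHom P Q).pull1 M φ = 0 ↔ ∃ ψ, (uHom P Q).pull1 M ψ = φ :=
  split_exact (L1basis P) (L1basis (Q.comp P)) (L1basis Q)
    (vHom P Q).L1map (uHom P Q).L1map (v_L1map_basis P Q) (u_L1map_basis_inl P Q) (u_L1map_basis_inr P Q)
    ((uHom P Q).pull1 M) (fun _ _ => rfl) ((vHom P Q).pull1 M) (fun _ _ => rfl) φ

theorem row1_surjective : Surjective ((vHom P Q).pull1 M) :=
  split_surjective (L1basis P) (L1basis (Q.comp P))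
    (vHom P Q).L1map (v_L1map_basis P Q) ((vHom P Q).pull1 M) (fun _ _ => rfl)

end Rows

end Groth.Agent.H6.NineW
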