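import Mathlib

set_option autoImplicit false

open TensorProduct

namespace Groth.Agent.H6.NineW

section FE

variable {R R' : Type*} [CommRing R] [CommRing R'] [Algebra R R'] {σ : Type*} [DecidableEq σ]
  (rel : σ → R)

lemma fe_e (r' : R') (f : σ →₀ R) :
    TensorProduct.finsuppScalarRight R R' R' σ (r' ⊗ₜ f) =
      r' • Finsupp.mapRange (algebraMap R R') (map_zero _) f := by
  ext i
  rw [TensorProduct.finsuppScalarRight_apply_tmul_apply, Finsupp.smul_apply, Finsupp.mapRange_apply,
    Algebra.smul_def, smul_eq_mul, mul_comm]

omit [DecidableEq σ] in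
lemma fe_key_single (r' : R') (s : σ) (r : R) :
    Finsupp.linearCombination R rel (Finsupp.single s r) • r' =
      r' • Finsupp.linearCombination R' (fun s => algebraMap R R' (rel s))
        (Finsupp.mapRange (algebraMap R R') (map_zero _) (Finsupp.single s r)) := by
  rw [Finsupp.linearCombination_single, Finsupp.mapRange_single, Finsupp.linearCombination_single,
    smul_eq_mul, smul_eq_mul, smul_eq_mul, Algebra.smul_def, map_mul]
  ring

omit [DecidableEq σ] in
lemma fe_key_tmul (r' : R') (f : σ →₀ R) :
    Finsupp.linearCombination R rel f • r' =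
      r' • Finsupp.linearCombination R' (fun s => algebraMap R R' (rel s))
        (Finsupp.mapRange (algebraMap R R') (map_zero _) f) := by
  induction f using Finsupp.induction_linear with
  | zero => simp
  | add f g hf hg =>
    rw [map_add, add_smul, hf, hg, Finsupp.mapRange_add (map_add _), map_add, smul_add]
  | single s r => exact fe_key_single rel r' s r

lemma fe_key (w : R' ⊗[R] (σ →₀ R)) :
    TensorProduct.rid R R' (((Finsupp.linearCombination R rel).lTensor R') w) =
      Finsupp.linearCombination R' (fun s => algebraMap R R' (rel s))
        (TensorProduct.finsuppScalarRight R R' R' σ w) := by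
  induction w using TensorProduct.induction_on with
  | zero => simp
  | add x y hx hy => rw [map_add, map_add, hx, hy, map_add, map_add]
  | tmul r' f =>
    rw [LinearMap.lTensor_tmul, TensorProduct.rid_tmul, fe_e, map_smul]
    exact fe_key_tmul rel r' f

lemma fe_mem (w₀ : R' ⊗[R] (LinearMap.ker (Finsupp.linearCombination R rel))) :
    TensorProduct.finsuppScalarRight R R' R' σ
      ((LinearMap.ker (Finsupp.linearCombination R rel)).subtype.lTensor R' w₀) ∈
      Submodule.span R' ((Finsupp.mapRange (algebraMap R R') (map_zero _)) ''
        (LinearMap.ker (Finsupp.linearCombination R rel) : Set (σ →₀ R))) := by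
  induction w₀ using TensorProduct.induction_on with
  | zero => simp
  | add x y hx hy =>
    rw [map_add, map_add]
    exact Submodule.add_mem _ hx hy
  | tmul r' q =>
    rw [LinearMap.lTensor_tmul, fe_e]
    exact Submodule.smul_mem _ _ (Submodule.subset_span ⟨q, q.2, rfl⟩)

omit [DecidableEq σ] in
theorem ker_le_span_of_flat [Module.Flat R R'] :
    LinearMap.ker (Finsupp.linearCombination R' (fun s => algebraMap R R' (rel s))) ≤
      Submodule.span R' ((Finsupp.mapRange (algebraMap R R') (map_zero _)) ''
        (LinearMap.ker (Finsupp.linearCombination R rel) : Set (σ →₀ R))) := by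
  classical
  intro c hc
  have h1 : ((Finsupp.linearCombination R rel).lTensor R')
      ((TensorProduct.finsuppScalarRight R R' R' σ).symm c) = 0 := by
    apply (TensorProduct.rid R R').injective
    rw [fe_key, LinearEquiv.apply_symm_apply, map_zero]
    exact hc
  have hex : Function.Exact ((LinearMap.ker (Finsupp.linearCombination R rel)).subtype.lTensor R')
      ((Finsupp.linearCombination R rel).lTensor R') :=
    Module.Flat.lTensor_exact R' (LinearMap.exact_subtype_ker_map _)
  obtain ⟨w₀, hw₀⟩ := (hex _).mp h1
  have h2 : c = TensorProduct.finsuppScalarRight R R' R' σ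
      ((LinearMap.ker (Finsupp.linearCombination R rel)).subtype.lTensor R' w₀) := by
    rw [hw₀, LinearEquiv.apply_symm_apply]
  rw [h2]
  exact fe_mem rel w₀

end FE

end Groth.Agent.H6.NineW
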