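import Mathlib
import Groth.Prelude.Def_CotT2
import Groth.Agent.Lib.Helper6.NineW1
import Groth.Agent.Lib.Helper6.NineFE
import Groth.Agent.Lib.Helper6.CotTL2

set_option autoImplicit false

universe u w t w' t' m

open TensorProduct CotT Function MvPolynomial

namespace Groth.Agent.H6.NineW

variable {A B C : Type u} [CommRing A] [CommRing B] [CommRing C] [Algebra A B] [Algebra B C] [Algebra A C]
  [IsScalarTower A B C]
variable {ι : Type w} {σ : Type t} {ι' : Type w'} {σ' : Type t'}
variable (P : Algebra.Presentation A B ι σ) (Q : Algebra.Presentation B C ι' σ')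

section Formulas

lemma U_single_inl (s' : σ') (r : (Q.comp P).toExtension.Ring) :
    (uHom P Q).relModMap (Finsupp.single (Sum.inl s') r) = Finsupp.single s' ((uHom P Q).ringHom r) := by
  rw [PresHom.relModMap_single]
  change (uHom P Q).ringHom r • Finsupp.single s' (1 : Q.toExtension.Ring) = _
  rw [Finsupp.smul_single, smul_eq_mul, mul_one]

lemma U_single_inr (s : σ) (r : (Q.comp P).toExtension.Ring) :
    (uHom P Q).relModMap (Finsupp.single (Sum.inr s) r) = 0 := by
  rw [PresHom.relModMap_single]
  change (uHom P Q).ringHom r • (0 : relMod Q) = _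
  rw [smul_zero]

lemma U_apply (f : relMod (Q.comp P)) (s' : σ') :
    (uHom P Q).relModMap f s' = (uHom P Q).ringHom (f (Sum.inl s')) := by
  induction f using Finsupp.induction_linear with
  | zero => rw [map_zero, Finsupp.zero_apply, Finsupp.zero_apply, map_zero]
  | add f g hf hg => rw [map_add, Finsupp.add_apply, hf, hg, Finsupp.add_apply, map_add]
  | single x r =>
    rcases x with x | x
    · rw [U_single_inl]
      by_cases h : x = s'
      · subst h
        rw [Finsupp.single_eq_same, Finsupp.single_eq_same]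
      · rw [Finsupp.single_eq_of_ne (Ne.symm h), Finsupp.single_eq_of_ne (by simpa using Ne.symm h), map_zero]
    · rw [U_single_inr, Finsupp.zero_apply, Finsupp.single_eq_of_ne (by simp), map_zero]

lemma V_single (s : σ) (r : P.toExtension.Ring) :
    (vHom P Q).relModMap (Finsupp.single s r) = Finsupp.single (Sum.inr s) ((vHom P Q).ringHom r) := by
  rw [PresHom.relModMap_single]
  change (vHom P Q).ringHom r • Finsupp.single (Sum.inr s) (1 : (Q.comp P).toExtension.Ring) = _
  rw [Finsupp.smul_single, smul_eq_mul, mul_one]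

lemma V_eq (f : relMod P) :
    (vHom P Q).relModMap f =
      Finsupp.mapDomain Sum.inr (Finsupp.mapRange (vHom P Q).ringHom (map_zero _) f) := by
  induction f using Finsupp.induction_linear with
  | zero => simp
  | add f g hf hg => rw [map_add, hf, hg, Finsupp.mapRange_add (map_add _), Finsupp.mapDomain_add]
  | single s r => rw [V_single, Finsupp.mapRange_single, Finsupp.mapDomain_single]

lemma U_mapDomain_inr (b : σ →₀ (Q.comp P).toExtension.Ring) :
    (uHom P Q).relModMap (Finsupp.mapDomain Sum.inr b) = 0 := by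
  ext s'
  rw [U_apply, Finsupp.mapDomain_of_notMem_range _ _ (by simp), map_zero, Finsupp.zero_apply]

lemma UV_eq_zero (f : relMod P) : (uHom P Q).relModMap ((vHom P Q).relModMap f) = 0 := by
  rw [V_eq, U_mapDomain_inr]

lemma theta_surjective : Surjective (uHom P Q).ringHom :=
  Algebra.Generators.toAlgHom_ofComp_surjective Q.toGenerators P.toGenerators

lemma U_surjective (f'' : relMod Q) : ∃ f' : relMod (Q.comp P), (uHom P Q).relModMap f' = f'' := by
  induction f'' using Finsupp.induction_linear with
  | zero => exact ⟨0, map_zero _⟩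
  | add f g hf hg =>
    obtain ⟨f', rfl⟩ := hf
    obtain ⟨g', rfl⟩ := hg
    exact ⟨f' + g', map_add _ _ _⟩
  | single s' c =>
    obtain ⟨r, rfl⟩ := theta_surjective P Q c
    exact ⟨Finsupp.single (Sum.inl s') r, U_single_inl P Q s' r⟩

lemma jmap_mapDomain_inr (b : σ →₀ (Q.comp P).toExtension.Ring) :
    jmap (Q.comp P) (Finsupp.mapDomain Sum.inr b) =
      Finsupp.linearCombination (Q.comp P).toExtension.Ring (fun s => (vHom P Q).ringHom (rel P s)) b := by
  induction b using Finsupp.induction_linear with
  | zero => simp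
  | add f g hf hg => rw [Finsupp.mapDomain_add, map_add, hf, hg, map_add]
  | single s r =>
    rw [Finsupp.mapDomain_single, jmap_single, Finsupp.linearCombination_single, smul_eq_mul]
    congr 1
    exact (vGen_ringHom P Q (rel P s)).symm

/-- the kernel of `θ` is the image under `j` of the `inr`-supported part -/
lemma exists_of_theta_eq_zero (x : (Q.comp P).toExtension.Ring) (hx : (uHom P Q).ringHom x = 0) :
    ∃ b : σ →₀ (Q.comp P).toExtension.Ring, jmap (Q.comp P) (Finsupp.mapDomain Sum.inr b) = x := by
  have h1 : (x : MvPolynomial (ι' ⊕ ι) A) ∈ RingHom.ker (Q.toGenerators.ofComp P.toGenerators).toAlgHom := hx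
  rw [← Algebra.Generators.map_toComp_ker, Algebra.Generators.toComp_toAlgHom] at h1
  have h2 : P.toGenerators.ker = Ideal.span (Set.range (rel P)) := P.span_range_relation_eq_ker.symm
  rw [h2] at h1
  have h3 : (x : MvPolynomial (ι' ⊕ ι) A) ∈ Ideal.span ((rename (Sum.inr : ι → ι' ⊕ ι) : MvPolynomial ι A →ₐ[A] MvPolynomial (ι' ⊕ ι) A) ''
      (Set.range (rel P))) := by
    rw [← Ideal.map_span]
    exact h1
  clear h1 hx h2
  induction h3 using Submodule.span_induction with
  | mem y hy =>
    obtain ⟨_, ⟨s, rfl⟩, rfl⟩ := hy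
    refine ⟨Finsupp.single s 1, ?_⟩
    rw [jmap_mapDomain_inr, Finsupp.linearCombination_single, one_smul]
    exact vGen_ringHom P Q (rel P s)
  | zero => exact ⟨0, by rw [Finsupp.mapDomain_zero, map_zero]; rfl⟩
  | add y z _ _ hy hz =>
    obtain ⟨b, rfl⟩ := hy
    obtain ⟨c, rfl⟩ := hz
    exact ⟨b + c, by rw [Finsupp.mapDomain_add, map_add]; rfl⟩
  | smul r y _ hy =>
    obtain ⟨b, rfl⟩ := hy
    refine ⟨(show (Q.comp P).toExtension.Ring from r) • b, ?_⟩
    rw [Finsupp.mapDomain_smul, map_smul]
    rfl

end Formulas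

end Groth.Agent.H6.NineW
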