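import Mathlib
import Groth.Prelude.Def_CotT2
import Groth.Agent.Lib.Helper6.NineW4

set_option autoImplicit false

universe u w t w' t' m

open TensorProduct CotT Function MvPolynomial

namespace Groth.Agent.H6.NineW

section FlatRename

variable (A : Type*) [CommRing A] (ι ι' : Type*)

/-- `A[ι' ⊕ ι]` is flat over `A[ι]` along `rename inr`. -/
theorem flat_of_eq_rename_inr (ρ : MvPolynomial ι A →+* MvPolynomial (ι' ⊕ ι) A)
    (hρ : ∀ x, ρ x = rename Sum.inr x) :
    letI : Algebra (MvPolynomial ι A) (MvPolynomial (ι' ⊕ ι) A) := ρ.toAlgebra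
    Module.Flat (MvPolynomial ι A) (MvPolynomial (ι' ⊕ ι) A) := by
  letI : Algebra (MvPolynomial ι A) (MvPolynomial (ι' ⊕ ι) A) := ρ.toAlgebra
  let e : MvPolynomial (ι' ⊕ ι) A ≃ₗ[MvPolynomial ι A] MvPolynomial ι' (MvPolynomial ι A) :=
    { (sumAlgEquiv A ι' ι).toLinearEquiv.toAddEquiv with
      map_smul' := fun r x => by
        change sumAlgEquiv A ι' ι (ρ r * x) = r • sumAlgEquiv A ι' ι x
        rw [map_mul, hρ]
        have h1 := DFunLike.congr_fun (sumAlgEquiv_comp_rename_inr (R := A) (S₁ := ι') (S₂ := ι)) r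
        change sumAlgEquiv A ι' ι (rename Sum.inr r) = _ at h1
        rw [h1, Algebra.smul_def]
        rfl }
  exact Module.Flat.of_linearEquiv e

end FlatRename

variable {A B C : Type u} [CommRing A] [CommRing B] [CommRing C] [Algebra A B] [Algebra B C] [Algebra A C]
  [IsScalarTower A B C]
variable {ι : Type w} {σ : Type t} {ι' : Type w'} {σ' : Type t'}
variable (P : Algebra.Presentation A B ι σ) (Q : Algebra.Presentation B C ι' σ')

section Deg2

/-- `L2map u` on a class `1 ⊗ q'` -/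
lemma u_L2map_mk (q' : relKer (Q.comp P)) (hq : (uHom P Q).relModMap (q' : relMod (Q.comp P)) ∈ relKer Q) :
    (uHom P Q).L2map (Submodule.Quotient.mk ((1 : C) ⊗ₜ q')) =
      Submodule.Quotient.mk ((1 : C) ⊗ₜ (⟨(uHom P Q).relModMap (q' : relMod (Q.comp P)), hq⟩ : relKer Q)) := by
  rw [PresHom.L2map_mk_tmul, map_one]
  rfl

lemma v_L2map_mk (q : relKer P) (hq : (vHom P Q).relModMap (q : relMod P) ∈ relKer (Q.comp P)) :
    (vHom P Q).L2map (Submodule.Quotient.mk ((1 : B) ⊗ₜ q)) =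
      Submodule.Quotient.mk ((1 : C) ⊗ₜ (⟨(vHom P Q).relModMap (q : relMod P), hq⟩ : relKer (Q.comp P))) := by
  rw [PresHom.L2map_mk_tmul, map_one]
  rfl

theorem u_L2map_surjective : Surjective (uHom P Q).L2map := by
  intro z
  obtain ⟨q'', rfl⟩ := CotTT2.exists_mk_one_tmul Q z
  obtain ⟨f', hf'⟩ := U_surjective P Q (q'' : relMod Q)
  have h1 : (uHom P Q).ringHom (jmap (Q.comp P) f') = 0 := by
    rw [← PresHom.jmap_relModMap, hf']
    exact q''.2
  obtain ⟨b, hb⟩ := exists_of_theta_eq_zero P Q _ h1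
  have hq' : f' - Finsupp.mapDomain Sum.inr b ∈ relKer (Q.comp P) := by
    change jmap (Q.comp P) _ = 0
    rw [map_sub, hb, sub_self]
  have hU : (uHom P Q).relModMap (f' - Finsupp.mapDomain Sum.inr b) = (q'' : relMod Q) := by
    rw [map_sub, U_mapDomain_inr, sub_zero, hf']
  refine ⟨Submodule.Quotient.mk ((1 : C) ⊗ₜ (⟨_, hq'⟩ : relKer (Q.comp P))), ?_⟩
  rw [u_L2map_mk P Q ⟨_, hq'⟩ (by change (uHom P Q).relModMap (f' - Finsupp.mapDomain Sum.inr b) ∈ _; rw [hU]; exact q''.2)]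
  congr 2
  exact Subtype.ext hU

theorem u_L2map_v_L2map (z : L2 P) : (uHom P Q).L2map ((vHom P Q).L2map z) = 0 := by
  obtain ⟨q, rfl⟩ := CotTT2.exists_mk_one_tmul P z
  rw [v_L2map_mk P Q q ((vHom P Q).relKerMap q).2, u_L2map_mk P Q _ (by
    change (uHom P Q).relModMap ((vHom P Q).relModMap (q : relMod P)) ∈ _
    rw [UV_eq_zero]; exact Submodule.zero_mem _)]
  have : (⟨(uHom P Q).relModMap ((vHom P Q).relModMap (q : relMod P)), by
      rw [UV_eq_zero]; exact Submodule.zero_mem _⟩ : relKer Q) = 0 := Subtype.ext (UV_eq_zero P Q _)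
  change Submodule.Quotient.mk ((1 : C) ⊗ₜ (⟨(uHom P Q).relModMap ((vHom P Q).relModMap (q : relMod P)), _⟩ : relKer Q)) = 0
  rw [this, TensorProduct.tmul_zero, Submodule.Quotient.mk_zero]

/-- `U` maps the trivial relations of `Q.comp P` onto those of `Q` -/
lemma U_trivRel_surj (t'' : relMod Q) (ht : t'' ∈ trivRel Q) :
    ∃ t' ∈ trivRel (Q.comp P), (uHom P Q).relModMap t' = t'' := by
  induction ht using Submodule.span_induction with
  | mem x hx =>
    obtain ⟨a, b, rfl⟩ := hx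
    obtain ⟨a', rfl⟩ := U_surjective P Q a
    obtain ⟨b', rfl⟩ := U_surjective P Q b
    refine ⟨jmap (Q.comp P) a' • b' - jmap (Q.comp P) b' • a', Submodule.subset_span ⟨a', b', rfl⟩, ?_⟩
    rw [map_sub, LinearMap.map_smulₛₗ, LinearMap.map_smulₛₗ, PresHom.jmap_relModMap, PresHom.jmap_relModMap]
  | zero => exact ⟨0, Submodule.zero_mem _, map_zero _⟩
  | add x y _ _ hx hy =>
    obtain ⟨x', hx', rfl⟩ := hx
    obtain ⟨y', hy', rfl⟩ := hy
    exact ⟨x' + y', Submodule.add_mem _ hx' hy', map_add _ _ _⟩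
  | smul r x _ hx =>
    obtain ⟨x', hx', rfl⟩ := hx
    obtain ⟨r', rfl⟩ := theta_surjective P Q r
    exact ⟨r' • x', Submodule.smul_mem _ _ hx', LinearMap.map_smulₛₗ _ _ _⟩

lemma trade_single (s' : σ') (r : (Q.comp P).toExtension.Ring) (hr : (uHom P Q).ringHom r = 0) :
    ∃ b : σ →₀ (Q.comp P).toExtension.Ring,
      Finsupp.single (Sum.inl s') r - Finsupp.mapDomain Sum.inr b ∈ trivRel (Q.comp P) := by
  obtain ⟨b₀, hb₀⟩ := exists_of_theta_eq_zero P Q r hr
  set e : relMod (Q.comp P) := Finsupp.single (Sum.inl s') 1 with he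
  set g : relMod (Q.comp P) := Finsupp.mapDomain Sum.inr b₀ with hg
  refine ⟨jmap (Q.comp P) e • b₀, ?_⟩
  have h1 : Finsupp.single (Sum.inl s') r = jmap (Q.comp P) g • e := by
    rw [hb₀, he, Finsupp.smul_single, smul_eq_mul, mul_one]
  rw [h1, Finsupp.mapDomain_smul]
  exact Submodule.subset_span ⟨g, e, rfl⟩

lemma trade (f' : relMod (Q.comp P)) (hf : (uHom P Q).relModMap f' = 0) :
    ∃ b : σ →₀ (Q.comp P).toExtension.Ring,
      f' - Finsupp.mapDomain Sum.inr b ∈ trivRel (Q.comp P) := by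
  have hθ : ∀ s', (uHom P Q).ringHom (f' (Sum.inl s')) = 0 := fun s' => by
    rw [← U_apply, hf, Finsupp.zero_apply]
  have key : ∀ x ∈ f'.support, ∃ b : σ →₀ (Q.comp P).toExtension.Ring,
      Finsupp.single x (f' x) - Finsupp.mapDomain Sum.inr b ∈ trivRel (Q.comp P) := by
    intro x _
    rcases x with s' | s
    · exact trade_single P Q s' _ (hθ s')
    · exact ⟨Finsupp.single s (f' (Sum.inr s)), by rw [Finsupp.mapDomain_single, sub_self]; exact Submodule.zero_mem _⟩
  have h2 : f' = ∑ x ∈ f'.support, Finsupp.single x (f' x) := (Finsupp.sum_single f').symm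
  rw [h2]
  refine Finset.sum_induction _ (fun y => ∃ b : σ →₀ (Q.comp P).toExtension.Ring,
      y - Finsupp.mapDomain Sum.inr b ∈ trivRel (Q.comp P)) ?_ ?_ key
  · rintro y z ⟨b, hb⟩ ⟨c, hc⟩
    refine ⟨b + c, ?_⟩
    rw [Finsupp.mapDomain_add, add_sub_add_comm]
    exact Submodule.add_mem _ hb hc
  · exact ⟨0, by rw [Finsupp.mapDomain_zero, sub_zero]; exact Submodule.zero_mem _⟩

lemma inr_ker_le_span (b : σ →₀ (Q.comp P).toExtension.Ring)
    (hb : jmap (Q.comp P) (Finsupp.mapDomain Sum.inr b) = 0) :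
    b ∈ Submodule.span (Q.comp P).toExtension.Ring
      ((Finsupp.mapRange (vHom P Q).ringHom (map_zero _)) '' (relKer P : Set (relMod P))) := by
  letI : Algebra (MvPolynomial ι A) (MvPolynomial (ι' ⊕ ι) A) := (vHom P Q).ringHom.toAlgebra
  haveI : Module.Flat (MvPolynomial ι A) (MvPolynomial (ι' ⊕ ι) A) :=
    flat_of_eq_rename_inr A ι ι' (vHom P Q).ringHom (vGen_ringHom P Q)
  have h1 := ker_le_span_of_flat (R := MvPolynomial ι A) (R' := MvPolynomial (ι' ⊕ ι) A) (rel P)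
  rw [jmap_mapDomain_inr] at hb
  exact h1 hb

lemma mk_mem_span_of_mem_span (b : σ →₀ (Q.comp P).toExtension.Ring)
    (hb : b ∈ Submodule.span (Q.comp P).toExtension.Ring
      ((Finsupp.mapRange (vHom P Q).ringHom (map_zero _)) '' (relKer P : Set (relMod P)))) :
    ∃ hq : Finsupp.mapDomain Sum.inr b ∈ relKer (Q.comp P),
      (Submodule.Quotient.mk ((1 : C) ⊗ₜ (⟨_, hq⟩ : relKer (Q.comp P))) : L2 (Q.comp P)) ∈
        Submodule.span C (Set.range (vHom P Q).L2map) := by
  induction hb using Submodule.span_induction with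
  | mem x hx =>
    obtain ⟨q, hq, rfl⟩ := hx
    have h1 : Finsupp.mapDomain Sum.inr (Finsupp.mapRange (vHom P Q).ringHom (map_zero _) q) =
        (vHom P Q).relModMap q := (V_eq P Q q).symm
    have h2 : (vHom P Q).relModMap q ∈ relKer (Q.comp P) := ((vHom P Q).relKerMap ⟨q, hq⟩).2
    refine ⟨by rw [h1]; exact h2, ?_⟩
    refine Submodule.subset_span ⟨Submodule.Quotient.mk ((1 : B) ⊗ₜ (⟨q, hq⟩ : relKer P)), ?_⟩
    rw [v_L2map_mk P Q ⟨q, hq⟩ h2]
    congr 2
    exact Subtype.ext h1.symm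
  | zero =>
    refine ⟨by rw [Finsupp.mapDomain_zero]; exact Submodule.zero_mem _, ?_⟩
    have : (⟨Finsupp.mapDomain Sum.inr (0 : σ →₀ (Q.comp P).toExtension.Ring), by
        rw [Finsupp.mapDomain_zero]; exact Submodule.zero_mem _⟩ : relKer (Q.comp P)) = 0 :=
      Subtype.ext (Finsupp.mapDomain_zero (f := Sum.inr))
    rw [this, TensorProduct.tmul_zero, Submodule.Quotient.mk_zero]
    exact Submodule.zero_mem _
  | add x y _ _ hx hy =>
    obtain ⟨hx1, hx2⟩ := hx
    obtain ⟨hy1, hy2⟩ := hy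
    have h0 : Finsupp.mapDomain Sum.inr (x + y) ∈ relKer (Q.comp P) := by
      rw [Finsupp.mapDomain_add]; exact Submodule.add_mem _ hx1 hy1
    refine ⟨h0, ?_⟩
    have : (⟨_, h0⟩ : relKer (Q.comp P)) = ⟨_, hx1⟩ + ⟨_, hy1⟩ := Subtype.ext Finsupp.mapDomain_add
    rw [this, TensorProduct.tmul_add, Submodule.Quotient.mk_add]
    exact Submodule.add_mem _ hx2 hy2
  | smul r x _ hx =>
    obtain ⟨hx1, hx2⟩ := hx
    have h0 : Finsupp.mapDomain Sum.inr (r • x) ∈ relKer (Q.comp P) := by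
      rw [Finsupp.mapDomain_smul]; exact Submodule.smul_mem _ _ hx1
    refine ⟨h0, ?_⟩
    have h5 : (⟨Finsupp.mapDomain Sum.inr (r • x), h0⟩ : relKer (Q.comp P)) =
        r • (⟨Finsupp.mapDomain Sum.inr x, hx1⟩ : relKer (Q.comp P)) :=
      Subtype.ext (Finsupp.mapDomain_smul r x)
    have h6 : ((1 : C) ⊗ₜ[(Q.comp P).toExtension.Ring] (r • (⟨Finsupp.mapDomain Sum.inr x, hx1⟩ : relKer (Q.comp P)))) =
        (algebraMap (Q.comp P).toExtension.Ring C r) •
          ((1 : C) ⊗ₜ[(Q.comp P).toExtension.Ring] (⟨Finsupp.mapDomain Sum.inr x, hx1⟩ : relKer (Q.comp P))) := by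
      rw [← TensorProduct.smul_tmul, TensorProduct.smul_tmul', Algebra.smul_def, mul_one, smul_eq_mul, mul_one]
    rw [h5, h6, Submodule.Quotient.mk_smul]
    exact Submodule.smul_mem _ _ hx2

theorem ker_u_L2map_le (z' : L2 (Q.comp P)) (hz : (uHom P Q).L2map z' = 0) :
    z' ∈ Submodule.span C (Set.range (vHom P Q).L2map) := by
  obtain ⟨q', rfl⟩ := CotTT2.exists_mk_one_tmul (Q.comp P) z'
  have hq'' : (uHom P Q).relModMap (q' : relMod (Q.comp P)) ∈ relKer Q := ((uHom P Q).relKerMap q').2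
  rw [u_L2map_mk P Q q' hq'', CotTT2.mk_one_tmul_eq_zero_iff] at hz
  obtain ⟨t', ht', hUt⟩ := U_trivRel_surj P Q _ hz
  have h1 : (uHom P Q).relModMap ((q' : relMod (Q.comp P)) - t') = 0 := by
    rw [map_sub, hUt, sub_self]
  obtain ⟨b, hb⟩ := trade P Q _ h1
  -- `mapDomain inr b = q' - t' - t₂`
  have h2 : Finsupp.mapDomain Sum.inr b ∈ relKer (Q.comp P) := by
    have : Finsupp.mapDomain Sum.inr b =
        (q' : relMod (Q.comp P)) - t' - ((q' : relMod (Q.comp P)) - t' - Finsupp.mapDomain Sum.inr b) := by abel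
    rw [this]
    exact Submodule.sub_mem _ (Submodule.sub_mem _ q'.2 (trivRel_le_relKer _ ht'))
      (trivRel_le_relKer _ hb)
  obtain ⟨hq, hmem⟩ := mk_mem_span_of_mem_span P Q b (inr_ker_le_span P Q b h2)
  have h3 : (Submodule.Quotient.mk ((1 : C) ⊗ₜ q') : L2 (Q.comp P)) =
      Submodule.Quotient.mk ((1 : C) ⊗ₜ (⟨_, hq⟩ : relKer (Q.comp P))) := by
    rw [CotTT2.mk_one_tmul_eq_iff]
    have : (q' : relMod (Q.comp P)) - Finsupp.mapDomain Sum.inr b =
        ((q' : relMod (Q.comp P)) - t' - Finsupp.mapDomain Sum.inr b) + t' := by abel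
    change (q' : relMod (Q.comp P)) - Finsupp.mapDomain Sum.inr b ∈ _
    rw [this]
    exact Submodule.add_mem _ hb ht'
  rw [h3]
  exact hmem

end Deg2

section Rows2

variable (M : Type m) [AddCommGroup M] [Module C M] [Module B M] [IsScalarTower B C M]

/-- `L2map u` as a `C`-linear map -/
noncomputable def uL2lin : L2 (Q.comp P) →ₗ[C] L2 Q where
  toFun := (uHom P Q).L2map
  map_add' := (uHom P Q).L2map.map_add
  map_smul' c x := by
    rw [LinearMap.map_smulₛₗ]
    rfl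

lemma uL2lin_apply (x : L2 (Q.comp P)) : uL2lin P Q x = (uHom P Q).L2map x := rfl

omit [Module B M] [IsScalarTower B C M] in
theorem row2_injective : Injective ((uHom P Q).pull2 M) := by
  intro ψ ψ' h
  refine LinearMap.ext fun z => ?_
  obtain ⟨z', rfl⟩ := u_L2map_surjective P Q z
  exact LinearMap.congr_fun h z'

theorem row2_exact (φ : L2 (Q.comp P) →ₗ[C] M) :
    (vHom P Q).pull2 M φ = 0 ↔ ∃ ψ, (uHom P Q).pull2 M ψ = φ := by
  constructor
  · intro h
    have h1 : ∀ z, φ ((vHom P Q).L2map z) = 0 := fun z => LinearMap.congr_fun h z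
    have h2 : LinearMap.ker (uL2lin P Q) ≤ LinearMap.ker φ := by
      intro z' hz'
      have h3 := ker_u_L2map_le P Q z' hz'
      have h4 : Submodule.span C (Set.range (vHom P Q).L2map) ≤ LinearMap.ker φ := by
        refine Submodule.span_le.mpr ?_
        rintro _ ⟨z, rfl⟩
        exact h1 z
      exact h4 h3
    have hs : Surjective (uL2lin P Q) := u_L2map_surjective P Q
    refine ⟨(Submodule.liftQ _ φ h2).comp ((uL2lin P Q).quotKerEquivOfSurjective hs).symm.toLinearMap, ?_⟩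
    refine LinearMap.ext fun z' => ?_
    rw [PresHom.pull2_apply, LinearMap.comp_apply]
    have h5 : ((uL2lin P Q).quotKerEquivOfSurjective hs).symm ((uHom P Q).L2map z') =
        Submodule.Quotient.mk z' := by
      rw [LinearEquiv.symm_apply_eq]
      rfl
    erw [h5]
    rfl
  · rintro ⟨ψ, rfl⟩
    refine LinearMap.ext fun z => ?_
    rw [PresHom.pull2_apply, PresHom.pull2_apply, u_L2map_v_L2map, map_zero]
    rfl

end Rows2

end Groth.Agent.H6.NineW
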