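import Mathlib
import Groth.Prelude.Def_CotT2
import Groth.Agent.Lib.Helper6.NineW3
import Groth.Agent.Lib.Helper6.NineW5
import Groth.Agent.Lib.Helper6.NinePres

set_option autoImplicit false

universe u w t w' t' m

open TensorProduct CotT Function MvPolynomial

namespace Groth.Agent.H6.NineW

variable {A B C : Type u} [CommRing A] [CommRing B] [CommRing C] [Algebra A B] [Algebra B C] [Algebra A C]
  [IsScalarTower A B C]
variable {ι : Type w} {σ : Type t} {ι' : Type w'} {σ' : Type t'}
variable (P : Algebra.Presentation A B ι σ) (Q : Algebra.Presentation B C ι' σ')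
variable (M : Type m) [AddCommGroup M] [Module C M] [Module B M] [IsScalarTower B C M]

/-- the nine-term sequence for the composite presentation -/
theorem nine_comp :
    Injective ((uHom P Q).T0pull M) ∧ Exact ((uHom P Q).T0pull M) ((vHom P Q).T0pull M) ∧
    Exact ((uHom P Q).T1pull M) ((vHom P Q).T1pull M) ∧
    Exact ((uHom P Q).T2pull M) ((vHom P Q).T2pull M) ∧
    ∃ (δ₀ : T0 P M →+ T1 Q M) (δ₁ : T1 P M →+ T2 Q M),
      Exact ((vHom P Q).T0pull M) δ₀ ∧ Exact δ₀ ((uHom P Q).T1pull M) ∧
      Exact ((vHom P Q).T1pull M) δ₁ ∧ Exact δ₁ ((uHom P Q).T2pull M) :=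
  Nine.nine_pres (vHom P Q) (uHom P Q) M (row0_injective P Q M) (row1_injective P Q M) (row2_injective P Q M)
    (row0_exact P Q M) (row1_exact P Q M) (row2_exact P Q M) (row0_surjective P Q M) (row1_surjective P Q M)

end Groth.Agent.H6.NineW
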