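import Mathlib
import Groth.Prelude.Def_CotT2
import Groth.Agent.Lib.Helper6.NineW6
import Groth.Agent.Lib.Helper6.NineH
import Groth.Agent.Lib.Helper6.NineF
import Groth.Agent.Lib.Helper6.NineB

set_option autoImplicit false

universe u v w t u' v' w' t' m

open TensorProduct CotT Function MvPolynomial

namespace Groth.Agent.H6.NineC

section General

variable {A : Type u} {B : Type v} {ι : Type w} {σ : Type t}
variable {A' : Type u'} {B' : Type v'} {ι' : Type w'} {σ' : Type t'}
variable [CommRing A] [CommRing B] [Algebra A B] [CommRing A'] [CommRing B'] [Algebra A' B']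
variable [Algebra A A'] [Algebra B B'] [Algebra A B'] [IsScalarTower A A' B'] [IsScalarTower A B B']

/-- any generators hom into the canonical presentation extends to a morphism of presentations -/
noncomputable def toCanon (P : Algebra.Presentation A B ι σ)
    (f : Algebra.Generators.Hom P.toGenerators (canon A' B').toGenerators) : PresHom P (canon A' B') where
  hom := f
  relVal s := Finsupp.single
    ⟨f.toExtensionHom.toRingHom (rel P s), by
      have h1 := f.toExtensionHom.algebraMap_toRingHom (rel P s)
      rw [algebraMap_rel, map_zero] at h1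
      exact h1⟩ 1
  jmap_relVal s := by
    rw [jmap_single, one_mul]
    rfl

/-- morphisms of presentations exist over any commutative square -/
theorem nonempty_presHom (P : Algebra.Presentation A B ι σ) (P' : Algebra.Presentation A' B' ι' σ') :
    Nonempty (PresHom P P') := by
  let f : Algebra.Generators.Hom P.toGenerators P'.toGenerators := Algebra.Generators.defaultHom _ _
  have hr : ∀ s : σ, ∃ y : relMod P', jmap P' y = f.toExtensionHom.toRingHom (rel P s) := by
    intro s
    have h1 := f.toExtensionHom.algebraMap_toRingHom (rel P s)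
    rw [algebraMap_rel, map_zero] at h1
    have h2 : f.toExtensionHom.toRingHom (rel P s) ∈ LinearMap.range (jmap P') := by
      rw [range_jmap]
      exact h1
    exact h2
  choose rv hrv using hr
  exact ⟨⟨f, rv, hrv⟩⟩

end General

section Specific

variable (A B C : Type u) [CommRing A] [CommRing B] [CommRing C] [Algebra A B] [Algebra B C] [Algebra A C]
  [IsScalarTower A B C]

/-- the composite presentation `A[x_c, x_b] → C` -/
noncomputable abbrev Wp : Algebra.Presentation A C (C ⊕ B) (CanonRels B C ⊕ CanonRels A B) :=
  (canon B C).comp (canon A B)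

/-- the generators hom `W → canon A C`: `x_c ↦ x_c`, `x_b ↦ x_{b̄}` -/
noncomputable def βGen : (Wp A B C).toGenerators.Hom (canon A C).toGenerators where
  val := Sum.elim (fun c => X c) (fun b => X (algebraMap B C b))
  aeval_val i := by
    rcases i with c | b
    · rw [Sum.elim_inl, aeval_X]
      rfl
    · rw [Sum.elim_inr, aeval_X]
      rfl

/-- the morphism `W → canon A C` -/
noncomputable def βHom : PresHom (Wp A B C) (canon A C) := toCanon (Wp A B C) (βGen A B C)

lemma β_ringHom_rename (x : (canon A B).toExtension.Ring) :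
    (βHom A B C).ringHom (rename Sum.inr x) = (canonHom A B A C).ringHom x := by
  have h1 : ((βGen A B C).toAlgHom.comp (rename Sum.inr) : MvPolynomial B A →ₐ[A] MvPolynomial C A) =
      (Algebra.Generators.defaultHom (canon A B).toGenerators (canon A C).toGenerators).toAlgHom := by
    refine MvPolynomial.algHom_ext fun b => ?_
    rw [AlgHom.comp_apply, rename_X, Algebra.Generators.Hom.toAlgHom_X, Algebra.Generators.Hom.toAlgHom_X]
    rfl
  exact DFunLike.congr_fun h1 x

lemma hring1 (x : (canon A B).toExtension.Ring) :
    (canonHom A B A C).ringHom x = (βHom A B C).ringHom ((NineW.vHom (canon A B) (canon B C)).ringHom x) := by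
  rw [show (NineW.vHom (canon A B) (canon B C)).ringHom x = rename Sum.inr x from
    NineW.vGen_ringHom (canon A B) (canon B C) x]
  exact (β_ringHom_rename A B C x).symm

lemma hrel1 (s : CanonRels A B) :
    (canonHom A B A C).relVal s =
      (βHom A B C).relModMap ((NineW.vHom (canon A B) (canon B C)).relVal s) := by
  change _ = (βHom A B C).relModMap (Finsupp.single (Sum.inr s) 1)
  rw [PresHom.relModMap_single, map_one, one_smul]
  change Finsupp.single _ 1 = Finsupp.single _ 1
  congr 1
  apply Subtype.ext
  exact (β_ringHom_rename A B C (rel (canon A B) s)).symm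

variable (M : Type m) [AddCommGroup M] [Module C M] [Module B M] [IsScalarTower B C M]

local notation "vH" => NineW.vHom (canon A B) (canon B C)
local notation "uH" => NineW.uHom (canon A B) (canon B C)

lemma h_T0 (x : T0 (canon A C) M) :
    (canonHom A B A C).T0pull M x = (vH).T0pull M ((βHom A B C).T0pull M x) :=
  NineF.T0pull_comp (vH) (βHom A B C) (canonHom A B A C) (hring1 A B C) M x

lemma h_T1 (x : T1 (canon A C) M) :
    (canonHom A B A C).T1pull M x = (vH).T1pull M ((βHom A B C).T1pull M x) :=
  NineF.T1pull_comp (vH) (βHom A B C) (canonHom A B A C) (hring1 A B C) (hrel1 A B C) M x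

lemma h_T2 (x : T2 (canon A C) M) :
    (canonHom A B A C).T2pull M x = (vH).T2pull M ((βHom A B C).T2pull M x) :=
  NineF.T2pull_comp (vH) (βHom A B C) (canonHom A B A C) (hring1 A B C) (hrel1 A B C) M x

omit [Module B M] [IsScalarTower B C M] in
lemma u_T0 (x : T0 (canon B C) M) :
    (uH).T0pull M x = (βHom A B C).T0pull M ((canonHom A C B C).T0pull M x) := by
  rw [NineH.T0pull_eq (uH) (NineF.compHom (canonHom A C B C) (βHom A B C)) M x]
  exact NineF.T0pull_comp (βHom A B C) (canonHom A C B C) _ (NineF.compHom_ringHom _ _) M x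

omit [Module B M] [IsScalarTower B C M] in
lemma u_T1 (x : T1 (canon B C) M) :
    (uH).T1pull M x = (βHom A B C).T1pull M ((canonHom A C B C).T1pull M x) := by
  rw [NineH.T1pull_eq (uH) (NineF.compHom (canonHom A C B C) (βHom A B C)) M x]
  exact NineF.T1pull_comp (βHom A B C) (canonHom A C B C) _ (NineF.compHom_ringHom _ _)
    (NineF.compHom_relVal _ _) M x

omit [Module B M] [IsScalarTower B C M] in
lemma u_T2 (x : T2 (canon B C) M) :
    (uH).T2pull M x = (βHom A B C).T2pull M ((canonHom A C B C).T2pull M x) := by
  refine (NineB.T2pull_eq_same M (uH) (NineF.compHom (canonHom A C B C) (βHom A B C)) x).trans ?_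
  exact NineF.T2pull_comp (βHom A B C) (canonHom A C B C) _ (NineF.compHom_ringHom _ _)
    (NineF.compHom_relVal _ _) M x

omit [Module B M] [IsScalarTower B C M] in
lemma β_bij0 : Bijective ((βHom A B C).T0pull M) := by
  obtain ⟨γ⟩ := nonempty_presHom (canon A C) (Wp A B C)
  have e : ∀ z, γ.T0pull M ((βHom A B C).T0pull M z) = z := fun z => by
    rw [← NineF.T0pull_comp γ (βHom A B C) (NineF.compHom (βHom A B C) γ) (NineF.compHom_ringHom _ _) M z,
      NineH.T0pull_eq (NineF.compHom (βHom A B C) γ) (PresHom.id (canon A C)) M z, NineF.T0pull_id]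
  constructor
  · intro x y hxy
    rw [← e x, hxy, e y]
  · intro y
    refine ⟨γ.T0pull M y, ?_⟩
    rw [← NineF.T0pull_comp (βHom A B C) γ (NineF.compHom γ (βHom A B C)) (NineF.compHom_ringHom _ _) M y,
      NineH.T0pull_eq (NineF.compHom γ (βHom A B C)) (PresHom.id (Wp A B C)) M y, NineF.T0pull_id]

omit [Module B M] [IsScalarTower B C M] in
lemma β_bij1 : Bijective ((βHom A B C).T1pull M) := by
  obtain ⟨γ⟩ := nonempty_presHom (canon A C) (Wp A B C)
  have e : ∀ z, γ.T1pull M ((βHom A B C).T1pull M z) = z := fun z => by
    rw [← NineF.T1pull_comp γ (βHom A B C) (NineF.compHom (βHom A B C) γ) (NineF.compHom_ringHom _ _)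
      (NineF.compHom_relVal _ _) M z,
      NineH.T1pull_eq (NineF.compHom (βHom A B C) γ) (PresHom.id (canon A C)) M z, NineF.T1pull_id]
  constructor
  · intro x y hxy
    rw [← e x, hxy, e y]
  · intro y
    refine ⟨γ.T1pull M y, ?_⟩
    rw [← NineF.T1pull_comp (βHom A B C) γ (NineF.compHom γ (βHom A B C)) (NineF.compHom_ringHom _ _)
      (NineF.compHom_relVal _ _) M y,
      NineH.T1pull_eq (NineF.compHom γ (βHom A B C)) (PresHom.id (Wp A B C)) M y, NineF.T1pull_id]

set_option maxHeartbeats 1000000 in
omit [Module B M] [IsScalarTower B C M] in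
lemma β_bij2 : Bijective ((βHom A B C).T2pull M) := by
  obtain ⟨γ⟩ := nonempty_presHom (canon A C) (Wp A B C)
  have e : ∀ z, γ.T2pull M ((βHom A B C).T2pull M z) = z := fun z => by
    refine (NineF.T2pull_comp γ (βHom A B C) (NineF.compHom (βHom A B C) γ) (NineF.compHom_ringHom _ _)
      (NineF.compHom_relVal _ _) M z).symm.trans ?_
    refine (NineB.T2pull_eq_same M (NineF.compHom (βHom A B C) γ) (PresHom.id (canon A C)) z).trans ?_
    exact NineF.T2pull_id _ M z
  constructor
  · intro x y hxy
    exact (e x).symm.trans ((congrArg (fun t => γ.T2pull M t) hxy).trans (e y))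
  · intro y
    refine ⟨γ.T2pull M y, ?_⟩
    refine (NineF.T2pull_comp (βHom A B C) γ (NineF.compHom γ (βHom A B C)) (NineF.compHom_ringHom _ _)
      (NineF.compHom_relVal _ _) M y).symm.trans ?_
    refine (NineB.T2pull_eq_same M (NineF.compHom γ (βHom A B C)) (PresHom.id (Wp A B C)) y).trans ?_
    exact NineF.T2pull_id _ M y

end Specific

end Groth.Agent.H6.NineC
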