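import Mathlib

set_option autoImplicit false

open Function

namespace Groth.Agent.H6.NineT

lemma exact_mid {X Y W Z : Type*} [Zero Z] (U : X → W) (V : W → Z) (G : X → Y) (H : Y → Z) (θ : Y → W)
    (b : Bijective θ) (hU : ∀ x, U x = θ (G x)) (hH : ∀ y, H y = V (θ y)) (ex : Exact U V) : Exact G H := by
  intro y
  rw [hH, ex (θ y)]
  constructor
  · rintro ⟨x, hx⟩
    exact ⟨x, b.1 ((hU x).symm.trans hx)⟩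
  · rintro ⟨x, rfl⟩
    exact ⟨x, hU x⟩

lemma exact_left {Y W Z X : Type*} [Zero X] (V : W → Z) (H : Y → Z) (θ : Y → W) (δ : Z → X)
    (b : Surjective θ) (hH : ∀ y, H y = V (θ y)) (ex : Exact V δ) : Exact H δ := by
  intro z
  rw [ex z]
  constructor
  · rintro ⟨w, rfl⟩
    obtain ⟨y, rfl⟩ := b w
    exact ⟨y, hH y⟩
  · rintro ⟨y, rfl⟩
    exact ⟨θ y, (hH y).symm⟩

lemma exact_right {Z X Y W : Type*} [Zero Y] [Zero W] (δ : Z → X) (U : X → W) (G : X → Y) (θ : Y → W)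
    (b : Injective θ) (z : θ 0 = 0) (hU : ∀ x, U x = θ (G x)) (ex : Exact δ U) : Exact δ G := by
  intro x
  rw [← ex x, hU]
  constructor
  · intro h
    rw [h, z]
  · intro h
    exact b (h.trans z.symm)

theorem transfer {X0 X1 X2 Y0 Y1 Y2 W0 W1 W2 Z0 Z1 Z2 : Type*}
    [AddCommGroup X0] [AddCommGroup X1] [AddCommGroup X2] [AddCommGroup Y0] [AddCommGroup Y1] [AddCommGroup Y2]
    [AddCommGroup W0] [AddCommGroup W1] [AddCommGroup W2] [AddCommGroup Z0] [AddCommGroup Z1] [AddCommGroup Z2]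
    (U0 : X0 → W0) (U1 : X1 → W1) (U2 : X2 → W2) (V0 : W0 → Z0) (V1 : W1 → Z1) (V2 : W2 → Z2)
    (G0 : X0 → Y0) (G1 : X1 → Y1) (G2 : X2 → Y2) (H0 : Y0 → Z0) (H1 : Y1 → Z1) (H2 : Y2 → Z2)
    (θ0 : Y0 → W0) (θ1 : Y1 → W1) (θ2 : Y2 → W2)
    (b0 : Bijective θ0) (b1 : Bijective θ1) (b2 : Bijective θ2)
    (z1 : θ1 0 = 0) (z2 : θ2 0 = 0)
    (hU0 : ∀ x, U0 x = θ0 (G0 x)) (hU1 : ∀ x, U1 x = θ1 (G1 x)) (hU2 : ∀ x, U2 x = θ2 (G2 x))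
    (hH0 : ∀ y, H0 y = V0 (θ0 y)) (hH1 : ∀ y, H1 y = V1 (θ1 y)) (hH2 : ∀ y, H2 y = V2 (θ2 y))
    (nine : Injective U0 ∧ Exact U0 V0 ∧ Exact U1 V1 ∧ Exact U2 V2 ∧
      ∃ (δ₀ : Z0 →+ X1) (δ₁ : Z1 →+ X2), Exact V0 δ₀ ∧ Exact δ₀ U1 ∧ Exact V1 δ₁ ∧ Exact δ₁ U2) :
    Injective G0 ∧ Exact G0 H0 ∧ Exact G1 H1 ∧ Exact G2 H2 ∧
      ∃ (δ₀ : Z0 →+ X1) (δ₁ : Z1 →+ X2), Exact H0 δ₀ ∧ Exact δ₀ G1 ∧ Exact H1 δ₁ ∧ Exact δ₁ G2 := by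
  obtain ⟨i0, e0, e1, e2, δ₀, δ₁, a1, a2, a3, a4⟩ := nine
  refine ⟨?_, exact_mid U0 V0 G0 H0 θ0 b0 hU0 hH0 e0, exact_mid U1 V1 G1 H1 θ1 b1 hU1 hH1 e1,
    exact_mid U2 V2 G2 H2 θ2 b2 hU2 hH2 e2, δ₀, δ₁,
    exact_left V0 H0 θ0 δ₀ b0.2 hH0 a1, exact_right δ₀ U1 G1 θ1 b1.1 z1 hU1 a2,
    exact_left V1 H1 θ1 δ₁ b1.2 hH1 a3, exact_right δ₁ U2 G2 θ2 b2.1 z2 hU2 a4⟩
  intro x y hxy
  apply i0
  rw [hU0, hU0, hxy]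

end Groth.Agent.H6.NineT
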