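import Mathlib
import Groth.Prelude.Def_CotT2
import Groth.Agent.S12285

set_option autoImplicit false

universe u

open CotT Function

namespace Groth.Agent.H6.NineCor

/-- consequence of the nine-term sequence: if `T¹(A/k, M) = T²(A/k, M) = 0` then `T²(B/A, M)` and
`T²(B/k, M)` vanish together -/
theorem T2_subsingleton_iff (k A B : Type u) [CommRing k] [CommRing A] [CommRing B] [Algebra k A] [Algebra A B]
    [Algebra k B] [IsScalarTower k A B] (M : Type u) [AddCommGroup M] [Module B M] [Module A M]
    [IsScalarTower A B M]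
    (h1 : Subsingleton (T1 (canon k A) M)) (h2 : Subsingleton (T2 (canon k A) M)) :
    Subsingleton (T2 (canon A B) M) ↔ Subsingleton (T2 (canon k B) M) := by
  obtain ⟨_, _, _, e2, δ₀, δ₁, _, _, _, a4⟩ := Groth.Agent.S12285.result k A B M
  constructor
  · intro h
    refine ⟨fun x y => ?_⟩
    have hx : x ∈ Set.range ((canonHom k B A B).T2pull M) := (e2 x).mp (Subsingleton.elim _ _)
    have hy : y ∈ Set.range ((canonHom k B A B).T2pull M) := (e2 y).mp (Subsingleton.elim _ _)
    obtain ⟨x', rfl⟩ := hx
    obtain ⟨y', rfl⟩ := hy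
    rw [Subsingleton.elim x' y']
  · intro h
    have key : ∀ x : T2 (canon A B) M, x = 0 := by
      intro x
      have hx : x ∈ Set.range δ₁ := (a4 x).mp (Subsingleton.elim _ _)
      obtain ⟨y, rfl⟩ := hx
      rw [Subsingleton.elim y 0, map_zero]
    exact ⟨fun x y => (key x).trans (key y).symm⟩

end Groth.Agent.H6.NineCor
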