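import Mathlib
import Groth.Agent.Lib.Helper6.LocT3
import Groth.Agent.Lib.Helper6.NineCor

/-! S12297: regularity of `B_m` via `T¹`, and vanishing of `T²`. -/

set_option autoImplicit false
universe u
set_option linter.style.haveILetI false
open CotT

namespace Groth.Agent.H6.LocT

theorem T2_of_regular (k B : Type u) [Field k] [PerfectField k] [CommRing B] [Algebra k B]
    [Algebra.FiniteType k B] (m : Ideal B) [m.IsPrime]
    (hreg : IsRegularLocalRing (Localization.AtPrime m))
    (M : Type u) [AddCommGroup M] [Module (Localization.AtPrime m) M] :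
    Subsingleton (CotT.T2 (CotT.canon k (Localization.AtPrime m)) M) := by
  haveI : Algebra.FinitePresentation k B := Algebra.FinitePresentation.of_finiteType.mp inferInstance
  haveI : Algebra.IsGeometricallyReduced k m.ResidueField :=
    Groth.Agent.H5.isGeometricallyReduced_of_perfectField k _
  have hsm : (⟨m, inferInstance⟩ : PrimeSpectrum B) ∈ Algebra.smoothLocus k B :=
    (Groth.Agent.S9442.result k B m).mpr hreg
  obtain ⟨_, ⟨_, ⟨g, rfl⟩, rfl⟩, hmg, hsub⟩ :=
    PrimeSpectrum.isBasis_basic_opens.exists_subset_of_mem_open hsm Algebra.isOpen_smoothLocus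
  have hgm : g ∉ m := hmg
  let Bg := Localization.Away g
  haveI hfs : Algebra.FormallySmooth k Bg := Algebra.basicOpen_subset_smoothLocus_iff.1 hsub
  haveI : Algebra.FinitePresentation B Bg := IsLocalization.Away.finitePresentation g
  haveI : Algebra.FiniteType k Bg := Algebra.FiniteType.trans (S := B) inferInstance inferInstance
  have hregg : ∀ (p : Ideal Bg) [p.IsPrime], IsRegularLocalRing (Localization.AtPrime p) :=
    (CotTSmooth.regular_iff_formallySmooth k Bg).2 hfs
  have hle : Submonoid.powers g ≤ m.primeCompl := by
    rintro _ ⟨n, rfl⟩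
    exact fun h => hgm ((inferInstance : m.IsPrime).mem_of_pow_mem n h)
  letI : Algebra Bg (Localization.AtPrime m) :=
    IsLocalization.localizationAlgebraOfSubmonoidLe Bg (Localization.AtPrime m)
      (Submonoid.powers g) m.primeCompl hle
  haveI : IsScalarTower B Bg (Localization.AtPrime m) :=
    IsLocalization.localization_isScalarTower_of_submonoid_le Bg (Localization.AtPrime m)
      (Submonoid.powers g) m.primeCompl hle
  haveI : IsLocalization (m.primeCompl.map (algebraMap B Bg)) (Localization.AtPrime m) :=
    IsLocalization.isLocalization_of_submonoid_le Bg (Localization.AtPrime m)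
      (Submonoid.powers g) m.primeCompl hle
  haveI : IsScalarTower k Bg (Localization.AtPrime m) := by
    refine IsScalarTower.of_algebraMap_eq (fun x => ?_)
    rw [IsScalarTower.algebraMap_apply k B Bg, ← IsScalarTower.algebraMap_apply B Bg,
      ← IsScalarTower.algebraMap_apply k B]
  letI : Module Bg M := Module.compHom M (algebraMap Bg (Localization.AtPrime m))
  haveI : IsScalarTower Bg (Localization.AtPrime m) M :=
    ⟨fun a b x => by
      show (a • b) • x = (algebraMap Bg (Localization.AtPrime m) a) • (b • x)
      rw [Algebra.smul_def, mul_smul]⟩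
  have h1 : Subsingleton (T1 (canon k Bg) M) := (CotTSmooth.regular_iff_t1 k Bg).1 hregg M
  have h2 : Subsingleton (T2 (canon k Bg) M) :=
    CotTT2.T2_canon_subsingleton_of_regular k Bg hregg M
  rw [← NineCor.T2_subsingleton_iff k Bg (Localization.AtPrime m) M h1 h2]
  exact T2_canon_subsingleton (m.primeCompl.map (algebraMap B Bg)) (Localization.AtPrime m) M

theorem main (k B : Type u) [Field k] [IsAlgClosed k] [CommRing B] [Algebra k B] [Algebra.FiniteType k B]
    (m : Ideal B) [m.IsMaximal] :
    (IsRegularLocalRing (Localization.AtPrime m) ↔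
      ∀ (M : Type u) [AddCommGroup M] [Module (Localization.AtPrime m) M],
        Subsingleton (CotT.T1 (CotT.canon k (Localization.AtPrime m)) M)) ∧
    (IsRegularLocalRing (Localization.AtPrime m) →
      ∀ (M : Type u) [AddCommGroup M] [Module (Localization.AtPrime m) M],
        Subsingleton (CotT.T2 (CotT.canon k (Localization.AtPrime m)) M)) :=
  ⟨CotTSmooth.regular_localization_iff_t1 k B m, fun hreg M _ _ => T2_of_regular k B m hreg M⟩

end Groth.Agent.H6.LocT
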