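import Groth.Agent.Lib.Helper6.MD0
import Groth.Agent.Lib.Lead.HDSh.Main

/-! # The comparison `Hom(j_{U!}O_U[0], L) → H⁰(L)(U)` for sheaves of modules: local bijectivity -/

universe u
open CategoryTheory Limits Opposite

namespace Groth.Agent.H6.MD

open Groth.Agent.LD.HDSh DerivedCategory

variable {C : Type u} [SmallCategory C] {J : GrothendieckTopology C} {O : Sheaf J CommRingCat.{u}}
  [HasDerivedCategory.{u} (ModSite.Mod O)]

variable (M : CochainComplex (ModSite.Mod O) ℤ)

/-- the comparison map on sections over `U`. -/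
noncomputable def aU (U : C) :
    (Q.obj (S₀ (FO O U)) ⟶ Q.obj M) →+ ((τ O).obj (M.homology 0)).obj.obj (op U) :=
  (hAE U (M.homology 0)).toAddMonoidHom.comp
    (AddMonoidHom.mk'
      (fun φ => (HomologicalComplex.singleObjHomologySelfIso (ComplexShape.up ℤ) 0 (FO O U)).inv ≫
        H0m φ)
      (fun φ ψ => by rw [H0m_add, Preadditive.comp_add]))

lemma aU_apply (U : C) (φ : Q.obj (S₀ (FO O U)) ⟶ Q.obj M) :
    aU M U φ = hE U (M.homology 0)
      ((HomologicalComplex.singleObjHomologySelfIso (ComplexShape.up ℤ) 0 (FO O U)).inv ≫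
        H0m φ) := rfl

lemma aU_map {U V : C} (f : V ⟶ U) (φ : Q.obj (S₀ (FO O U)) ⟶ Q.obj M) :
    aU M V (Q.map ((HomologicalComplex.single _ (ComplexShape.up ℤ) 0).map (FOmap f)) ≫ φ) =
      ((τ O).obj (M.homology 0)).obj.map f.op (aU M U φ) := by
  rw [aU_apply, aU_apply, H0m_comp, H0m_Q_map, ← hE_map,
    HomologicalComplex.singleObjHomologySelfIso_inv_naturality_assoc]

theorem aU_locSurj (V : C) (s : ((τ O).obj (M.homology 0)).obj.obj (op V)) :
    ∃ T ∈ J V, ∀ {W : C} (f : W ⟶ V), T f →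
      ∃ y : Q.obj (S₀ (FO O W)) ⟶ Q.obj M,
        aU M W y = ((τ O).obj (M.homology 0)).obj.map f.op s := by
  haveI : Sheaf.IsLocallySurjective ((τ O).map (M.homologyπ 0)) :=
    isLocallySurjective_of_epi (M.homologyπ 0)
  refine ⟨_, Presheaf.imageSieve_mem J ((τ O).map (M.homologyπ 0)).hom s, ?_⟩
  rintro W f ⟨z, hz⟩
  refine ⟨Q.map (fromCyc ((hE W (M.cycles 0)).symm z)), ?_⟩
  rw [aU_apply, H0m_Q_map, homologySelfIso_inv_homologyMap_fromCyc,
    hE_comp, Equiv.apply_symm_apply]
  exact hz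

/-- the sieve of arrows along which `φ` restricts to zero. -/
def zeroSieve (U : C) (φ : Q.obj (S₀ (FO O U)) ⟶ Q.obj M) : Sieve U where
  arrows V f :=
    Q.map ((HomologicalComplex.single _ (ComplexShape.up ℤ) 0).map (FOmap f)) ≫ φ = 0
  downward_closed := by
    intro V W f hf g
    rw [FOmap_comp, Functor.map_comp, Functor.map_comp, Category.assoc, hf, comp_zero]

lemma exists_sieve_of_homologyπ_eq_zero {V : C} (ζ : FO O V ⟶ M.cycles 0)
    (hζ : ζ ≫ M.homologyπ 0 = 0) :
    ∃ R ∈ J V, ∀ {W : C} (h : W ⟶ V), R h →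
      Q.map ((HomologicalComplex.single _ (ComplexShape.up ℤ) 0).map (FOmap h)) ≫
        Q.map (fromCyc ζ) = 0 := by
  let S := ShortComplex.mk (M.toCycles (-1) 0) (M.homologyπ 0) (M.toCycles_comp_homologyπ (-1) 0)
  have hS : S.Exact :=
    ShortComplex.exact_of_g_is_cokernel _ (M.homologyIsCokernel (-1) 0 (by simp))
  obtain ⟨A', p, hp, x₁, fac⟩ := hS.exact_up_to_refinements ζ hζ
  haveI := hp
  haveI : Sheaf.IsLocallySurjective ((τ O).map p) := isLocallySurjective_of_epi p
  refine ⟨Presheaf.imageSieve ((τ O).map p).hom (gen V),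
    Presheaf.imageSieve_mem J ((τ O).map p).hom _, ?_⟩
  rintro W h ⟨a, ha⟩
  have h1 : (hE W A').symm a ≫ p = FOmap h := by
    apply (hE W (FO O V)).injective
    rw [hE_comp, Equiv.apply_symm_apply, ha]
    have := hE_map h (𝟙 (FO O V))
    rw [Category.comp_id] at this
    rw [this]
    rfl
  rw [← Functor.map_comp, single_map_comp_fromCyc, ← h1, Category.assoc]
  change Q.map (fromCyc ((hE W A').symm a ≫ p ≫ ζ)) = 0
  rw [fac]
  change Q.map (fromCyc ((hE W A').symm a ≫ x₁ ≫ M.toCycles (-1) 0)) = 0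
  rw [← Category.assoc]
  exact Q_map_fromCyc_boundary _

lemma zeroSieve_mem (U : C) (φ : Q.obj (S₀ (FO O U)) ⟶ Q.obj M) (h : aU M U φ = 0) :
    zeroSieve M U φ ∈ J U := by
  have hH : H0m φ = 0 := by
    rw [aU_apply] at h
    have h' := (hAE U (M.homology 0)).map_eq_zero_iff.mp h
    rw [← cancel_epi (HomologicalComplex.singleObjHomologySelfIso (ComplexShape.up ℤ) 0
      (FO O U)).inv, h', comp_zero]
  obtain ⟨X', s, hs, g, fac⟩ := DerivedCategory.right_fac φ
  haveI := hs
  have hg : HomologicalComplex.homologyMap g 0 = 0 := by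
    rw [← homologyMap_comp_H0m_of_fac s g φ fac, hH, comp_zero]
  haveI : QuasiIso s := (isIso_Q_map_iff_quasiIso _ s).1 hs
  haveI : QuasiIsoAt s 0 := (‹QuasiIso s›).quasiIsoAt 0
  haveI : IsIso (HomologicalComplex.homologyMap s 0) :=
    (quasiIsoAt_iff_isIso_homologyMap s 0).1 inferInstance
  let t : FO O U ⟶ X'.homology 0 :=
    (HomologicalComplex.singleObjHomologySelfIso (ComplexShape.up ℤ) 0 (FO O U)).inv ≫
      inv (HomologicalComplex.homologyMap s 0)
  haveI : Sheaf.IsLocallySurjective ((τ O).map (X'.homologyπ 0)) :=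
    isLocallySurjective_of_epi (X'.homologyπ 0)
  refine J.transitive (Presheaf.imageSieve_mem J ((τ O).map (X'.homologyπ 0)).hom
    (hE U (X'.homology 0) t)) _ ?_
  rintro V f ⟨z, hz⟩
  let ζ : FO O V ⟶ X'.cycles 0 := (hE V (X'.cycles 0)).symm z
  have c1 : ζ ≫ X'.homologyπ 0 = FOmap f ≫ t := by
    apply (hE V (X'.homology 0)).injective
    rw [hE_comp, Equiv.apply_symm_apply, hE_map]
    exact hz
  have c2 : fromCyc ζ ≫ s =
      (HomologicalComplex.single _ (ComplexShape.up ℤ) 0).map (FOmap f) := by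
    apply single_hom_ext_of_homologyMap
    rw [← cancel_epi (HomologicalComplex.singleObjHomologySelfIso (ComplexShape.up ℤ) 0
      (FO O V)).inv, HomologicalComplex.homologyMap_comp,
      ← Category.assoc, homologySelfIso_inv_homologyMap_fromCyc, c1,
      HomologicalComplex.singleObjHomologySelfIso_inv_naturality]
    simp only [t, Category.assoc, IsIso.inv_hom_id, Category.comp_id]
  have c3 : Q.map ((HomologicalComplex.single _ (ComplexShape.up ℤ) 0).map (FOmap f)) ≫ φ =
      Q.map (fromCyc (ζ ≫ HomologicalComplex.cyclesMap g 0)) := by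
    rw [← c2, fac, Functor.map_comp, Category.assoc, IsIso.hom_inv_id_assoc,
      ← Functor.map_comp, fromCyc_comp]
  have c4 : (ζ ≫ HomologicalComplex.cyclesMap g 0) ≫ M.homologyπ 0 = 0 := by
    rw [Category.assoc, ← HomologicalComplex.homologyπ_naturality, hg, comp_zero, comp_zero]
  obtain ⟨R, hR, hR0⟩ := exists_sieve_of_homologyπ_eq_zero M _ c4
  refine J.superset_covering ?_ hR
  intro W h hh
  change Q.map ((HomologicalComplex.single _ (ComplexShape.up ℤ) 0).map (FOmap (h ≫ f))) ≫ φ = 0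
  rw [FOmap_comp, Functor.map_comp, Functor.map_comp, Category.assoc, c3]
  exact hR0 h hh

end Groth.Agent.H6.MD
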