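import Groth.Agent.Lib.Helper6.MD4
import Groth.Agent.Lib.Helper6.DLim14

/-! # `E ≅ R lim τ_{≥ -n} E` for complexes of modules on a ringed site: main theorem -/

universe u
open CategoryTheory Limits Opposite Pretriangulated

namespace Groth.Agent.H6.MD

open Groth.Agent.LD.SC Groth.Agent.LD.HDSh DerivedCategory Groth.Agent.H2.DTrunc
open Groth.Agent.H6.DLim

variable {C : Type u} [SmallCategory C] {J : GrothendieckTopology C} {O : Sheaf J CommRingCat.{u}}

instance : (τ O).ReflectsIsomorphisms :=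
  reflectsIsomorphisms_of_reflectsMonomorphisms_of_reflectsEpimorphisms _

variable [HasDerivedCategory.{u} (ModSite.Mod O)]

/-- injectivity of `H^m(L)(V) → H^m(τ_{≥ -nV}E)(V)` for the derived limit of the truncation tower. -/
theorem injective_of_bound (E : DerivedCategory (ModSite.Mod O))
    [HasProduct (CohCx.truncTower E)]
    {L : DerivedCategory (ModSite.Mod O)} {a : ∀ n, L ⟶ CohCx.truncTower E n}
    (hL : CohCx.IsRlimVia (CohCx.truncTower E) (CohCx.truncTowerMap E) L a)
    (V : C) (p : ℤ → ℤ) (m : ℤ) (nV : ℕ)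
    (hn1 : p (m - 1) - (m - 1) ≤ nV) (hn2 : p m - m ≤ nV) (hn3 : p (m + 1) - (m + 1) ≤ nV)
    (hp : ∀ T ∈ J V, ∃ (ι : Type u) (Y : ι → C) (f : ∀ i, Y i ⟶ V),
      (∀ i, T.arrows (f i)) ∧ Sieve.ofArrows Y f ∈ J V ∧
      ∀ (i : ι) (m : ℤ) (k : ℕ), p m < k → Subsingleton
        (ModSite.HU O ((DerivedCategory.homologyFunctor (ModSite.Mod O) (m - k)).obj E) k (Y i))) :
    Function.Injective
      (((τ O).map ((DerivedCategory.homologyFunctor _ m).map (a nV))).hom.app (op V)) := by
  apply injective_Hm (a nV) V m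
  apply injective_H0 hL V m nV
  intro T hT
  obtain ⟨ι, Y, f, h1, h2, h3⟩ := hp T hT
  refine ⟨ι, Y, f, h1, h2, fun i => ⟨?_, ?_⟩⟩
  · exact limOneIsZero_of_eventually_surjective nV
      (fun n => DZ O (Y i) ⟶ (CohCx.truncTower E n)⟦m - 1⟧)
      (fun n => Preadditive.rightComp _ ((CohCx.truncTowerMap E n)⟦m - 1⟧'))
      (fun n hn => (bijective_truncTower_step E (Y i) p (h3 i) (m - 1) n
        (by have : (nV : ℤ) ≤ n := by exact_mod_cast hn
            omega)
        (by have : (nV : ℤ) ≤ n := by exact_mod_cast hn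
            rw [sub_add_cancel]
            omega)).2)
  · exact injective_transition (DZ O (Y i)) m nV
      (fun n hn => (bijective_truncTower_step E (Y i) p (h3 i) m n
        (by have : (nV : ℤ) ≤ n := by exact_mod_cast hn
            omega)
        (by have : (nV : ℤ) ≤ n := by exact_mod_cast hn
            omega)).1)

theorem main (E : DerivedCategory (ModSite.Mod O)) [HasProduct (CohCx.truncTower E)]
    (B : Set C)
    (hB : ∀ U : C, ∃ (ι : Type u) (Y : ι → C) (f : ∀ i, Y i ⟶ U),
      Sieve.ofArrows Y f ∈ J U ∧ ∀ i, Y i ∈ B)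
    (h : ∀ V ∈ B, ∃ p : ℤ → ℤ, ∀ T ∈ J V, ∃ (ι : Type u) (Y : ι → C) (f : ∀ i, Y i ⟶ V),
      (∀ i, T.arrows (f i)) ∧ Sieve.ofArrows Y f ∈ J V ∧
      ∀ (i : ι) (m : ℤ) (k : ℕ), p m < k → Subsingleton
        (ModSite.HU O ((DerivedCategory.homologyFunctor (ModSite.Mod O) (m - k)).obj E) k (Y i))) :
    CohCx.IsRlimVia (CohCx.truncTower E) (CohCx.truncTowerMap E) E (CohCx.toTruncTower E) := by
  obtain ⟨L, a, hL⟩ := exists_isRlimVia (CohCx.truncTower E) (CohCx.truncTowerMap E)
  obtain ⟨e, he⟩ := exists_lift hL (CohCx.toTruncTower E) (toTruncTower_comp_map E)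
  have hcomp : ∀ (m : ℤ) (n : ℕ), (homologyFunctor _ m).map e ≫ (homologyFunctor _ m).map (a n) =
      (homologyFunctor _ m).map (CohCx.toTruncTower E n) := by
    intro m n
    rw [← Functor.map_comp, he]
  have hcompV : ∀ (m : ℤ) (n : ℕ) (V : C)
      (s : ((τ O).obj ((homologyFunctor _ m).obj E)).obj.obj (op V)),
      ((τ O).map ((homologyFunctor _ m).map (a n))).hom.app (op V)
        (((τ O).map ((homologyFunctor _ m).map e)).hom.app (op V) s) =
      ((τ O).map ((homologyFunctor _ m).map (CohCx.toTruncTower E n))).hom.app (op V) s :=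
    fun m n V s => by
      rw [← hcomp m n, Functor.map_comp]
      rfl
  have hiso : IsIso e := by
    rw [DerivedCategory.isIso_iff]
    intro m
    suffices IsIso ((τ O).map ((homologyFunctor _ m).map e)) from
      isIso_of_reflects_iso _ (τ O)
    apply isIso_of_injective_of_surjective_on _ B hB
    · intro V
      obtain ⟨n, hn⟩ : ∃ n : ℕ, -(n : ℤ) ≤ m := ⟨(-m).toNat, by
        have := Int.self_le_toNat (-m)
        omega⟩
      haveI : IsIso ((homologyFunctor _ m).map (CohCx.toTruncTower E n)) :=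
        isIso_homology_truncGEπ E (-(n : ℤ)) m hn
      intro s s' hss
      apply modHom_injective_of_isIso ((homologyFunctor _ m).map (CohCx.toTruncTower E n)) V
      rw [← hcompV, ← hcompV, hss]
    · intro V hV
      obtain ⟨p, hp⟩ := h V hV
      obtain ⟨nV, hn1, hn2, hn3, hn4⟩ := exists_bound p m
      have key := injective_of_bound E hL V p m nV hn1 hn2 hn3 hp
      haveI : IsIso ((homologyFunctor _ m).map (CohCx.toTruncTower E nV)) :=
        isIso_homology_truncGEπ E (-(nV : ℤ)) m (by omega)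
      intro s'
      have hinvV : ∀ z,
          ((τ O).map ((homologyFunctor _ m).map (CohCx.toTruncTower E nV))).hom.app (op V)
          (((τ O).map (inv ((homologyFunctor _ m).map (CohCx.toTruncTower E nV)))).hom.app
            (op V) z) = z :=
        fun z => congrArg (fun g => ((τ O).map g).hom.app (op V) z)
          (IsIso.inv_hom_id ((homologyFunctor _ m).map (CohCx.toTruncTower E nV)))
      refine ⟨((τ O).map (inv ((homologyFunctor _ m).map (CohCx.toTruncTower E nV)))).hom.app
        (op V) (((τ O).map ((homologyFunctor _ m).map (a nV))).hom.app (op V) s'), ?_⟩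
      apply key
      rw [hcompV, hinvV]
  haveI := hiso
  have h1 := isRlimVia_of_iso hL (asIso e)
  have hfun : (fun n => (asIso e).hom ≫ a n) = CohCx.toTruncTower E := funext he
  rw [hfun] at h1
  exact h1

/-- the version with a global bounding function and vanishing on the members of a basis. -/
theorem main_function (E : DerivedCategory (ModSite.Mod O)) [HasProduct (CohCx.truncTower E)]
    (B : Set C)
    (hB : ∀ U : C, ∃ (ι : Type u) (Y : ι → C) (f : ∀ i, Y i ⟶ U),
      Sieve.ofArrows Y f ∈ J U ∧ ∀ i, Y i ∈ B)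
    (p : ℤ → ℤ)
    (h : ∀ V ∈ B, ∀ (m : ℤ) (k : ℕ), p m < k → Subsingleton
      (ModSite.HU O ((DerivedCategory.homologyFunctor (ModSite.Mod O) (m - k)).obj E) k V)) :
    CohCx.IsRlimVia (CohCx.truncTower E) (CohCx.truncTowerMap E) E (CohCx.toTruncTower E) := by
  refine main E B hB (fun V _ => ⟨p, fun T hT => ?_⟩)
  obtain ⟨ι, Y, f, h1, h2, h3⟩ := exists_refinement B hB T hT
  exact ⟨ι, Y, f, h1, h2, fun i m k hk => h (Y i) (h3 i) m k hk⟩

/-- the version with a cofinal system of coverings with bounded cohomological dimension for the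
negative cohomology sheaves. -/
theorem main_cofinal (E : DerivedCategory (ModSite.Mod O)) [HasProduct (CohCx.truncTower E)]
    (B : Set C)
    (hB : ∀ U : C, ∃ (ι : Type u) (Y : ι → C) (f : ∀ i, Y i ⟶ U),
      Sieve.ofArrows Y f ∈ J U ∧ ∀ i, Y i ∈ B)
    (h : ∀ V ∈ B, ∃ d : ℕ, ∀ T ∈ J V, ∃ (ι : Type u) (Y : ι → C) (f : ∀ i, Y i ⟶ V),
      (∀ i, T.arrows (f i)) ∧ Sieve.ofArrows Y f ∈ J V ∧
      ∀ (i : ι) (q : ℤ) (k : ℕ), q < 0 → d < k → Subsingleton
        (ModSite.HU O ((DerivedCategory.homologyFunctor (ModSite.Mod O) q).obj E) k (Y i))) :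
    CohCx.IsRlimVia (CohCx.truncTower E) (CohCx.truncTowerMap E) E (CohCx.toTruncTower E) := by
  refine main E B hB (fun V hV => ?_)
  obtain ⟨d, hd⟩ := h V hV
  refine ⟨fun m => max (d : ℤ) m, fun T hT => ?_⟩
  obtain ⟨ι, Y, f, h1, h2, h3⟩ := hd T hT
  refine ⟨ι, Y, f, h1, h2, fun i m k hk => ?_⟩
  have hk1 : (d : ℤ) < k := lt_of_le_of_lt (le_max_left _ _) hk
  have hk2 : m < k := lt_of_le_of_lt (le_max_right _ _) hk
  exact h3 i (m - k) k (by omega) (by exact_mod_cast hk1)

end Groth.Agent.H6.MD
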