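import Groth.Agent.Lib.Helper6.MDw1
import Groth.Agent.Lib.Helper6.DLim4

/-! # `beta : Hom(j_{U!}O_U[0], L) → H⁰(L)(U)` for sheaves of modules, and injectivity of
`H^m(L)(V) → H^m(K_n)(V)` for a derived limit -/

universe w u
open CategoryTheory Limits Opposite Pretriangulated

namespace Groth.Agent.H6.MDw

open Groth.Agent.H6.MD

open Groth.Agent.LD.HDSh DerivedCategory

variable {C : Type u} [SmallCategory C] {J : GrothendieckTopology C} {O : Sheaf J CommRingCat.{u}}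
  [HasDerivedCategory.{w} (ModSite.Mod O)]

variable (O) in
/-- the derived-category object `j_{U!}O_U[0]`. -/
noncomputable abbrev DZ (U : C) : DerivedCategory (ModSite.Mod O) :=
  Q.obj (S₀ (FO O U))

/-- functoriality of `j_{U!}O_U[0]`. -/
noncomputable abbrev DZmap {U V : C} (f : V ⟶ U) : DZ O V ⟶ DZ O U :=
  Q.map ((HomologicalComplex.single _ (ComplexShape.up ℤ) 0).map (FOmap f))

lemma DZmap_comp {U V W : C} (f : V ⟶ U) (g : W ⟶ V) :
    DZmap (O := O) (g ≫ f) = DZmap g ≫ DZmap f := by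
  simp only [DZmap, FOmap_comp, Functor.map_comp]

/-- the abbreviation `H⁰` for the degree zero cohomology sheaf functor. -/
noncomputable abbrev H0 : DerivedCategory (ModSite.Mod O) ⥤ ModSite.Mod O :=
  homologyFunctor (ModSite.Mod O) 0

lemma ffInv_naturality {X Y : CochainComplex (ModSite.Mod O) ℤ} (f : X ⟶ Y) :
    ffInv X ≫ H0.map (Q.map f) = HomologicalComplex.homologyMap f 0 ≫ ffInv Y := by
  have h := ffHom_naturality f
  have h2 : ffInv X ≫ (H0.map (Q.map f) ≫ ffHom Y) ≫ ffInv Y =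
      ffInv X ≫ (ffHom X ≫ HomologicalComplex.homologyMap f 0) ≫ ffInv Y := by
    rw [h]
  simpa only [Category.assoc, ffHom_ffInv, ffInv_ffHom_assoc, Category.comp_id] using h2

/-- canonical map `j_{U!}O_U ⟶ H⁰(j_{U!}O_U[0])`. -/
noncomputable def i0 (U : C) : FO O U ⟶ H0.obj (DZ O U) :=
  (HomologicalComplex.singleObjHomologySelfIso (ComplexShape.up ℤ) 0 (FO O U)).inv ≫ ffInv _

lemma i0_naturality {U V : C} (f : V ⟶ U) :
    FOmap f ≫ i0 (O := O) U = i0 V ≫ H0.map (DZmap f) := by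
  rw [i0, i0, Category.assoc, ffInv_naturality,
    ← HomologicalComplex.singleObjHomologySelfIso_inv_naturality_assoc]

/-- the comparison map `Hom(j_{U!}O_U[0], L) → H⁰(L)(U)`. -/
noncomputable def beta (L : DerivedCategory (ModSite.Mod O)) (U : C)
    (φ : DZ O U ⟶ L) : ((τ O).obj (H0.obj L)).obj.obj (op U) :=
  hE U (H0.obj L) (i0 U ≫ H0.map φ)

lemma beta_comp {L K : DerivedCategory (ModSite.Mod O)} (U : C)
    (φ : DZ O U ⟶ L) (ψ : L ⟶ K) :
    beta K U (φ ≫ ψ) = ((τ O).map (H0.map ψ)).hom.app (op U) (beta L U φ) := by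
  rw [beta, beta, Functor.map_comp, ← Category.assoc, hE_comp]

lemma beta_map (L : DerivedCategory (ModSite.Mod O)) {U V : C} (f : V ⟶ U)
    (φ : DZ O U ⟶ L) :
    beta L V (DZmap f ≫ φ) = ((τ O).obj (H0.obj L)).obj.map f.op (beta L U φ) := by
  rw [beta, beta, Functor.map_comp, ← Category.assoc, ← i0_naturality, Category.assoc,
    hE_map]

lemma beta_zero (L : DerivedCategory (ModSite.Mod O)) (U : C) :
    beta L U 0 = 0 := by
  rw [beta, Functor.map_zero, comp_zero]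
  exact hE_zero U _

lemma alpha_eq_beta (M : CochainComplex (ModSite.Mod O) ℤ) (U : C)
    (φ : DZ O U ⟶ Q.obj M) :
    aU M U φ = ((τ O).map (ffHom M)).hom.app (op U) (beta (Q.obj M) U φ) := by
  rw [aU_apply, beta, ← hE_comp, i0, H0m]
  simp only [Category.assoc]

lemma modHom_injective_of_isIso {F G : ModSite.Mod O} (θ : F ⟶ G) [IsIso θ]
    (W : C) : Function.Injective (((τ O).map θ).hom.app (op W)) := by
  intro x y h
  have h1 : ∀ z, ((τ O).map (inv θ)).hom.app (op W) (((τ O).map θ).hom.app (op W) z) = z :=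
    fun z => by
      have := IsIso.hom_inv_id θ
      exact congrArg (fun g : F ⟶ F => ((τ O).map g).hom.app (op W) z) this
  rw [← h1 x, ← h1 y, h]

instance (M : CochainComplex (ModSite.Mod O) ℤ) : IsIso (ffHom M) :=
  ⟨ffInv M, ffHom_ffInv M, ffInv_ffHom M⟩

lemma aU_comp_inv {M : CochainComplex (ModSite.Mod O) ℤ}
    {L : DerivedCategory (ModSite.Mod O)} (e : Q.obj M ≅ L) (W : C)
    (φ : DZ O W ⟶ L) :
    aU M W (φ ≫ e.inv) =
      ((τ O).map (H0.map e.inv ≫ ffHom M)).hom.app (op W) (beta L W φ) := by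
  rw [alpha_eq_beta, beta_comp, Functor.map_comp]
  rfl

theorem beta_locSurj (L : DerivedCategory (ModSite.Mod O)) (V : C)
    (s : ((τ O).obj (H0.obj L)).obj.obj (op V)) :
    ∃ T ∈ J V, ∀ {W : C} (f : W ⟶ V), T f →
      ∃ y : DZ O W ⟶ L, beta L W y = ((τ O).obj (H0.obj L)).obj.map f.op s := by
  let M := (Q (C := ModSite.Mod O)).objPreimage L
  let e : Q.obj M ≅ L := (Q (C := ModSite.Mod O)).objObjPreimageIso L
  let θ : H0.obj L ⟶ M.homology 0 := H0.map e.inv ≫ ffHom M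
  obtain ⟨T, hT, hT'⟩ := aU_locSurj M V (((τ O).map θ).hom.app (op V) s)
  refine ⟨T, hT, ?_⟩
  intro W f hf
  obtain ⟨y'', hy'⟩ := hT' f hf
  refine ⟨y'' ≫ e.hom, ?_⟩
  apply modHom_injective_of_isIso θ W
  have h1 := aU_comp_inv e W (y'' ≫ e.hom)
  rw [Category.assoc, e.hom_inv_id, Category.comp_id] at h1
  rw [← h1, hy']
  exact (sheafHom_nat ((τ O).map θ) f s).symm

theorem beta_locInj (L : DerivedCategory (ModSite.Mod O)) (U : C)
    (y : DZ O U ⟶ L) (h : beta L U y = 0) :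
    ∃ T ∈ J U, ∀ {W : C} (f : W ⟶ U), T f → DZmap f ≫ y = 0 := by
  let M := (Q (C := ModSite.Mod O)).objPreimage L
  let e : Q.obj M ≅ L := (Q (C := ModSite.Mod O)).objObjPreimageIso L
  have h0 : aU M U (y ≫ e.inv) = 0 := by
    rw [aU_comp_inv, h, map_zero]
  refine ⟨zeroSieve M U (y ≫ e.inv), zeroSieve_mem M U _ h0, ?_⟩
  intro W f hf
  have hf' : DZmap f ≫ y ≫ e.inv = 0 := hf
  rw [← cancel_mono e.inv, Category.assoc, hf', zero_comp]

/-- the sieve of arrows over which `s` lifts to a class killed by `ψ`. -/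
def liftSieve {L K : DerivedCategory (ModSite.Mod O)} (ψ : L ⟶ K) (V : C)
    (s : ((τ O).obj (H0.obj L)).obj.obj (op V)) : Sieve V where
  arrows W f := ∃ y : DZ O W ⟶ L, beta L W y = ((τ O).obj (H0.obj L)).obj.map f.op s ∧ y ≫ ψ = 0
  downward_closed := by
    rintro W W' f ⟨y, hy1, hy2⟩ g
    refine ⟨DZmap g ≫ y, ?_, ?_⟩
    · rw [beta_map, hy1, op_comp, Functor.map_comp]
      rfl
    · rw [Category.assoc, hy2, comp_zero]

theorem liftSieve_mem {L K : DerivedCategory (ModSite.Mod O)} (ψ : L ⟶ K) (V : C)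
    (s : ((τ O).obj (H0.obj L)).obj.obj (op V))
    (hs : ((τ O).map (H0.map ψ)).hom.app (op V) s = 0) :
    liftSieve ψ V s ∈ J V := by
  obtain ⟨T₁, hT₁, hT₁'⟩ := beta_locSurj L V s
  refine J.transitive hT₁ _ (fun W f hf => ?_)
  obtain ⟨y, hy⟩ := hT₁' f hf
  have h0 : beta K W (y ≫ ψ) = 0 := by
    rw [beta_comp, hy, sheafHom_nat, hs, map_zero]
  obtain ⟨R, hR, hR'⟩ := beta_locInj K W (y ≫ ψ) h0
  refine J.superset_covering ?_ hR
  intro W' g hg
  refine ⟨DZmap g ≫ y, ?_, ?_⟩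
  · rw [beta_map, hy, op_comp, Functor.map_comp]
    rfl
  · rw [Category.assoc]
    exact hR' g hg

open Groth.Agent.H6.DLim in
theorem injective_H0 {K : ℕ → DerivedCategory (ModSite.Mod O)}
    {t : ∀ n, K (n + 1) ⟶ K n} [HasProduct K]
    {L : DerivedCategory (ModSite.Mod O)} {a : ∀ n, L ⟶ K n}
    (hL : CohCx.IsRlimVia K t L a) (V : C) (m : ℤ) (nV : ℕ)
    (h : ∀ T ∈ J V, ∃ (ι : Type u) (Y : ι → C) (f : ∀ i, Y i ⟶ V), (∀ i, T.arrows (f i)) ∧
      Sieve.ofArrows Y f ∈ J V ∧ ∀ i,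
        Function.Surjective (fun (w : ∀ n, DZ O (Y i) ⟶ (K n)⟦m - 1⟧) (n : ℕ) =>
          w n - w (n + 1) ≫ (t n)⟦m - 1⟧') ∧
        ∀ k : ℕ, Function.Injective
          (fun w : DZ O (Y i) ⟶ (K (nV + k))⟦m⟧ => w ≫ (CohCx.transition K t nV k)⟦m⟧')) :
    Function.Injective (((τ O).map (H0.map ((a nV)⟦m⟧'))).hom.app (op V)) := by
  refine (injective_iff_map_eq_zero (((τ O).map (H0.map ((a nV)⟦m⟧'))).hom.app (op V)).hom).mpr ?_
  intro s hs
  obtain ⟨ι, Y, f, hTf, hcov, hi⟩ := h _ (liftSieve_mem ((a nV)⟦m⟧') V s hs)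
  refine (Sheaf.isSeparated ((τ O).obj (H0.obj (L⟦m⟧)))) V _ hcov s 0 ?_
  intro W g hg
  obtain ⟨i, g', rfl⟩ := (Sieve.mem_ofArrows_iff Y f g).mp hg
  obtain ⟨y, hy1, hy2⟩ := hTf i
  have hy0 : y = 0 := eq_zero_of_comp_eq_zero hL m nV (hi i).1 (hi i).2 y hy2
  rw [hy0, beta_zero] at hy1
  rw [map_zero, op_comp, Functor.map_comp]
  change ((τ O).obj (H0.obj (L⟦m⟧))).obj.map g'.op
    (((τ O).obj (H0.obj (L⟦m⟧))).obj.map (f i).op s) = 0
  rw [← hy1, map_zero]

theorem injective_Hm {L K : DerivedCategory (ModSite.Mod O)} (ψ : L ⟶ K)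
    (V : C) (m : ℤ)
    (h : Function.Injective (((τ O).map (H0.map (ψ⟦m⟧'))).hom.app (op V))) :
    Function.Injective
      (((τ O).map ((DerivedCategory.homologyFunctor _ m).map ψ)).hom.app (op V)) := by
  let iso := (DerivedCategory.homologyFunctor (ModSite.Mod O) 0).shiftIso m 0 m
    (add_zero m)
  let ιL : H0.obj (L⟦m⟧) ⟶ (DerivedCategory.homologyFunctor _ m).obj L := iso.hom.app L
  let ιK : H0.obj (K⟦m⟧) ⟶ (DerivedCategory.homologyFunctor _ m).obj K := iso.hom.app K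
  let ιL' : (DerivedCategory.homologyFunctor _ m).obj L ⟶ H0.obj (L⟦m⟧) := iso.inv.app L
  have nat : H0.map (ψ⟦m⟧') ≫ ιK = ιL ≫ (DerivedCategory.homologyFunctor _ m).map ψ :=
    iso.hom.naturality ψ
  have hinv : ιL' ≫ ιL = 𝟙 _ := iso.inv_hom_id_app L
  haveI : IsIso ιK := inferInstanceAs (IsIso (iso.hom.app K))
  haveI : IsIso ιL' := inferInstanceAs (IsIso (iso.inv.app L))
  have natV : ∀ z, ((τ O).map ιK).hom.app (op V) (((τ O).map (H0.map (ψ⟦m⟧'))).hom.app (op V) z) =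
      ((τ O).map ((DerivedCategory.homologyFunctor _ m).map ψ)).hom.app (op V)
        (((τ O).map ιL).hom.app (op V) z) :=
    fun z => congrArg (fun g => ((τ O).map g).hom.app (op V) z) nat
  have hinvV : ∀ z, ((τ O).map ιL).hom.app (op V) (((τ O).map ιL').hom.app (op V) z) = z :=
    fun z => congrArg (fun g => ((τ O).map g).hom.app (op V) z) hinv
  intro x y hxy
  apply modHom_injective_of_isIso ιL' V
  apply h
  apply modHom_injective_of_isIso ιK V
  rw [natV, natV, hinvV, hinvV]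
  exact hxy

end Groth.Agent.H6.MDw
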