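import Groth.Agent.Lib.Helper6.MDw2
import Groth.Agent.Lib.Helper6.MD3
import Groth.Agent.Lib.Helper6.DLim10

/-! # Vanishing of `Hom(j_{Y!}O_Y[0], A[-q][j])` from vanishing of cohomology, and bijectivity of
`Hom(j_{Y!}O_Y, τ_{≥a}E[j]) → Hom(j_{Y!}O_Y, τ_{≥a+1}E[j])`, for sheaves of modules -/

universe w u
open CategoryTheory Limits Opposite Pretriangulated

namespace Groth.Agent.H6.MDw

open Groth.Agent.H6.MD

open Groth.Agent.LD.SC Groth.Agent.LD.HDSh DerivedCategory Groth.Agent.H2.DTrunc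

variable {C : Type u} [SmallCategory C] {J : GrothendieckTopology C} {O : Sheaf J CommRingCat.{u}}

/-- `Ext^k(j_{Y!}O_Y, F) = 0` as soon as `H^k(Y, F) = 0`, in every degree. -/
theorem ext_FO_eq_zero' [HasExt.{u} (ModSite.Mod O)] (Y : C) (k : ℕ) (F : ModSite.Mod O)
    [Subsingleton (ModSite.HU O F k Y)] (x : Abelian.Ext.{u} (FO O Y) F k) : x = 0 := by
  haveI : IsGrothendieckAbelian.{u} (ModSite.Mod O) :=
    Groth.Agent.H1.sheafOfModules_isGrothendieckAbelian _ _
  have hF : ∀ y : Abelian.Ext.{u} (ZU J Y) ((τ O).obj F) k, y = 0 :=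
    fun y => Subsingleton.elim (α := ModSite.HU O F k Y) y 0
  cases k with
  | zero =>
    obtain ⟨φ, rfl⟩ := (Abelian.Ext.mk₀_bijective _ _).2 x
    have h1 : Abelian.Ext.mk₀ ((homEquiv Y _).symm (hE Y _ φ)) = 0 := hF _
    have h2 : (homEquiv Y ((τ O).obj F)).symm (hE Y _ φ) = 0 := by
      apply (Abelian.Ext.mk₀_bijective _ _).1
      rw [h1, Abelian.Ext.mk₀_zero]
    have h3 : hE Y F φ = 0 := by
      have := congrArg (homAddEquiv Y ((τ O).obj F)) h2
      rw [map_zero] at this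
      rw [← this]
      exact ((homEquiv Y ((τ O).obj F)).apply_symm_apply _).symm
    have h4 : φ = 0 := by
      apply (hE Y F).injective
      rw [h3, hE_zero]
    rw [h4, Abelian.Ext.mk₀_zero]
  | succ k => exact ext_FO_eq_zero Y k F hF x

variable [HasDerivedCategory.{w} (ModSite.Mod O)]

theorem hom_single_shift_eq_zero (Y : C) (A' : ModSite.Mod O) (q j' : ℤ)
    (hvan : ∀ k : ℕ, (k : ℤ) = j' - q → Subsingleton (ModSite.HU O A' k Y))
    (φ : DZ O Y ⟶ ((singleFunctor (ModSite.Mod O) q).obj A')⟦j'⟧) : φ = 0 := by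
  haveI : IsGrothendieckAbelian.{u} (ModSite.Mod O) :=
    Groth.Agent.H1.sheafOfModules_isGrothendieckAbelian _ _
  haveI : HasExt.{u} (ModSite.Mod O) := hasExt_of_enoughInjectives _
  let SF := DerivedCategory.singleFunctors (ModSite.Mod O)
  let iso1 : ((singleFunctor (ModSite.Mod O) q).obj A')⟦j'⟧ ≅
      (singleFunctor (ModSite.Mod O) (q - j')).obj A' :=
    (SF.shiftIso j' (q - j') q (by omega)).app A'
  by_cases hq : 0 < q - j'
  · have h0 : φ ≫ iso1.hom = 0 :=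
      TStructure.t.zero_of_isLE_of_isGE (φ ≫ iso1.hom) 0 (q - j') hq
        (inferInstanceAs (((singleFunctor (ModSite.Mod O) 0).obj (FO O Y)).IsLE 0))
        (inferInstanceAs (((singleFunctor (ModSite.Mod O) (q - j')).obj A').IsGE
          (q - j')))
    rw [← cancel_mono iso1.hom, h0, zero_comp]
  · obtain ⟨k, hk⟩ : ∃ k : ℕ, (k : ℤ) = j' - q := ⟨(j' - q).toNat, Int.toNat_of_nonneg (by omega)⟩
    haveI := hvan k hk
    let iso2 : ((singleFunctor (ModSite.Mod O) 0).obj A')⟦(k : ℤ)⟧ ≅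
        (singleFunctor (ModSite.Mod O) (q - j')).obj A' :=
      (SF.shiftIso (k : ℤ) (q - j') 0 (by omega)).app A'
    let ψ : ShiftedHom ((singleFunctor (ModSite.Mod O) 0).obj (FO O Y))
        ((singleFunctor (ModSite.Mod O) 0).obj A') (k : ℤ) :=
      φ ≫ iso1.hom ≫ iso2.inv
    have h1 : (Abelian.Ext.homEquiv (X := FO O Y) (Y := A') (n := k)).symm ψ =
        (Abelian.Ext.homEquiv (X := FO O Y) (Y := A') (n := k)).symm 0 := by
      rw [ext_FO_eq_zero' Y k A' ((Abelian.Ext.homEquiv (X := FO O Y) (Y := A') (n := k)).symm ψ),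
        ext_FO_eq_zero' Y k A' ((Abelian.Ext.homEquiv (X := FO O Y) (Y := A') (n := k)).symm 0)]
    have h2 : ψ = 0 := (Abelian.Ext.homEquiv (X := FO O Y) (Y := A') (n := k)).symm.injective h1
    have h3 : φ ≫ iso1.hom ≫ iso2.inv = 0 := h2
    rw [← cancel_mono (iso1.hom ≫ iso2.inv), h3, zero_comp]

theorem hom_shift_eq_zero_of_iso_single (Y : C) (A' : ModSite.Mod O) (q j' : ℤ)
    {F : DerivedCategory (ModSite.Mod O)}
    (e : F ≅ (singleFunctor (ModSite.Mod O) q).obj A')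
    (hvan : ∀ k : ℕ, (k : ℤ) = j' - q → Subsingleton (ModSite.HU O A' k Y))
    (φ : DZ O Y ⟶ F⟦j'⟧) : φ = 0 := by
  have h := hom_single_shift_eq_zero Y A' q j' hvan (φ ≫ e.hom⟦j'⟧')
  have h2 : (φ ≫ e.hom⟦j'⟧') ≫ e.inv⟦j'⟧' = 0 := by rw [h, zero_comp]
  rw [Category.assoc, ← Functor.map_comp, e.hom_inv_id, CategoryTheory.Functor.map_id,
    Category.comp_id] at h2
  exact h2

open Groth.Agent.H6.DLim in
theorem bijective_truncGE_step (E : DerivedCategory (ModSite.Mod O)) (a b : ℤ)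
    (h : a + 1 = b) (hab : a ≤ b) (Y : C) (j : ℤ)
    (hv1 : ∀ k : ℕ, (k : ℤ) = j - a →
      Subsingleton (ModSite.HU O ((DerivedCategory.homologyFunctor (ModSite.Mod O) a).obj E) k Y))
    (hv2 : ∀ k : ℕ, (k : ℤ) = j + 1 - a →
      Subsingleton (ModSite.HU O ((DerivedCategory.homologyFunctor (ModSite.Mod O) a).obj E) k Y)) :
    Function.Bijective (fun w : DZ O Y ⟶ ((tt.truncGE a).obj E)⟦j⟧ =>
      w ≫ ((tt.natTransTruncGEOfLE a b hab).app E)⟦j⟧') := by
  obtain ⟨F, f, δ, hT, ⟨e⟩⟩ := exists_fiber_iso_single E a b h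
  constructor
  · exact injective_comp_shift_mor₂ _ hT (DZ O Y) j
      (fun φ => hom_shift_eq_zero_of_iso_single Y _ a j e hv1 φ)
  · exact surjective_comp_shift_mor₂ _ hT (DZ O Y) j (j + 1) rfl
      (fun φ => hom_shift_eq_zero_of_iso_single Y _ a (j + 1) e hv2 φ)

lemma toTruncTower_comp_map (E : DerivedCategory (ModSite.Mod O)) (n : ℕ) :
    CohCx.toTruncTower E (n + 1) ≫ CohCx.truncTowerMap E n = CohCx.toTruncTower E n :=
  tt.π_natTransTruncGEOfLE_app _ _ _ E

/-- the key step: the transition maps of the truncation tower are bijective on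
`Hom(j_{Y!}O_Y, -[j])` for large indices. -/
theorem bijective_truncTower_step (E : DerivedCategory (ModSite.Mod O)) (Y : C)
    (p : ℤ → ℤ)
    (hvan : ∀ (m : ℤ) (k : ℕ), p m < k → Subsingleton
      (ModSite.HU O ((DerivedCategory.homologyFunctor (ModSite.Mod O) (m - k)).obj E) k Y))
    (j : ℤ) (n : ℕ) (hn1 : p j - j ≤ n) (hn2 : p (j + 1) - (j + 1) ≤ n) :
    Function.Bijective (fun w : DZ O Y ⟶ (CohCx.truncTower E (n + 1))⟦j⟧ =>
      w ≫ (CohCx.truncTowerMap E n)⟦j⟧') := by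
  apply bijective_truncGE_step E (-((n + 1 : ℕ) : ℤ)) (-(n : ℤ)) (by push_cast; omega) _ Y j
  · intro k hk
    have h1 := hvan j k (by push_cast at hk; omega)
    have h2 : j - (k : ℤ) = -((n + 1 : ℕ) : ℤ) := by push_cast at hk ⊢; omega
    rwa [h2] at h1
  · intro k hk
    have h1 := hvan (j + 1) k (by push_cast at hk; omega)
    have h2 : j + 1 - (k : ℤ) = -((n + 1 : ℕ) : ℤ) := by push_cast at hk ⊢; omega
    rwa [h2] at h1

end Groth.Agent.H6.MDw
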