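import Groth.Agent.Lib.Helper6.MDw6

/-! # A local criterion for a morphism of abelian sheaves to be an isomorphism -/

universe u
open CategoryTheory Limits Opposite

namespace Groth.Agent.H6.MDw

open Groth.Agent.H6.MD

variable {C : Type u} [SmallCategory C] {J : GrothendieckTopology C}

theorem isIso_of_local {F G : Sheaf J AddCommGrpCat.{u}} (θ : F ⟶ G) (B : Set C)
    (hB : ∀ U : C, ∃ (ι : Type u) (Y : ι → C) (f : ∀ i, Y i ⟶ U),
      Sieve.ofArrows Y f ∈ J U ∧ ∀ i, Y i ∈ B)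
    (h : ∀ V ∈ B, Function.Injective (θ.hom.app (op V)) ∧
      ∀ s : G.obj.obj (op V), ∃ T ∈ J V, ∀ {W : C} (f : W ⟶ V), T f →
        ∃ x : F.obj.obj (op W), θ.hom.app (op W) x = G.obj.map f.op s) : IsIso θ := by
  refine (Sheaf.isLocallyBijective_iff_isIso θ).1 ⟨?_, ?_⟩
  · refine (Sheaf.isLocallyInjective_iff_injective θ).2 (fun X => ?_)
    intro x y hxy
    obtain ⟨ι, Y, f, hcov, hYB⟩ := hB X.unop
    refine (Sheaf.isSeparated F) X.unop _ hcov x y ?_
    intro W g hg
    obtain ⟨i, g', rfl⟩ := (Sieve.mem_ofArrows_iff Y f g).mp hg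
    have h1 : F.obj.map (f i).op x = F.obj.map (f i).op y := by
      apply (h (Y i) (hYB i)).1
      rw [sheafHom_nat, sheafHom_nat]
      exact congrArg _ hxy
    rw [op_comp, Functor.map_comp]
    exact congrArg (F.obj.map g'.op) h1
  · constructor
    intro U s
    obtain ⟨ι, Y, f, hcov, hYB⟩ := hB U
    refine J.transitive hcov _ (fun W g hg => ?_)
    obtain ⟨i, g', rfl⟩ := (Sieve.mem_ofArrows_iff Y f g).mp hg
    obtain ⟨T, hT, hT'⟩ := (h (Y i) (hYB i)).2 (G.obj.map (f i).op s)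
    refine J.superset_covering ?_ (J.pullback_stable g' hT)
    intro W' k hk
    obtain ⟨x, hx⟩ := hT' (k ≫ g') hk
    refine ⟨x, ?_⟩
    rw [hx]
    have h2 : G.obj.map (k ≫ g' ≫ f i).op = G.obj.map (f i).op ≫ G.obj.map (k ≫ g').op := by
      rw [← Functor.map_comp, ← op_comp, Category.assoc]
    exact (congrArg (fun m => m s) (congrArg AddCommGrpCat.Hom.hom h2)).symm

end Groth.Agent.H6.MDw
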