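import Groth.Agent.Lib.Helper6.MDw7

/-! # `H^j(R lim K_n) = H^j(K_n)` for `n` large, for eventually constant towers in `D^+_A(O)` -/

universe w u
open CategoryTheory Limits Opposite Pretriangulated

namespace Groth.Agent.H6.MDw

open Groth.Agent.H6.MD Groth.Agent.H6.DLim
open Groth.Agent.LD.SC Groth.Agent.LD.HDSh DerivedCategory Groth.Agent.H2.DTrunc

variable {C : Type u} [SmallCategory C] {J : GrothendieckTopology C} {O : Sheaf J CommRingCat.{u}}

instance : (τ O).ReflectsIsomorphisms :=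
  reflectsIsomorphisms_of_reflectsMonomorphisms_of_reflectsEpimorphisms _

variable [HasDerivedCategory.{w} (ModSite.Mod O)]

lemma exists_bound_isIso {K : ℕ → DerivedCategory (ModSite.Mod O)} (t : ∀ n, K (n + 1) ⟶ K n)
    (hconst : ∀ j : ℤ, ∃ n₀ : ℕ, ∀ n, n₀ ≤ n →
      IsIso ((homologyFunctor (ModSite.Mod O) j).map (t n))) (lo : ℤ) :
    ∀ len : ℕ, ∃ N : ℕ, ∀ b : ℤ, lo ≤ b → b < lo + len → ∀ n, N ≤ n →
      IsIso ((homologyFunctor (ModSite.Mod O) b).map (t n)) := by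
  intro len
  induction len with
  | zero => exact ⟨0, fun b h1 h2 => by push_cast at h2; omega⟩
  | succ len ih =>
    obtain ⟨N, hN⟩ := ih
    obtain ⟨n₀, hn₀⟩ := hconst (lo + len)
    refine ⟨max N n₀, fun b h1 h2 n hn => ?_⟩
    by_cases hb : b < lo + len
    · exact hN b h1 hb n (le_trans (le_max_left _ _) hn)
    · have : b = lo + len := by push_cast at h2; omega
      subst this
      exact hn₀ n (le_trans (le_max_right _ _) hn)

lemma isIso_H0_shift_iff {X Y : DerivedCategory (ModSite.Mod O)} (f : X ⟶ Y) (j : ℤ) :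
    IsIso (H0.map (f⟦j⟧')) ↔ IsIso ((homologyFunctor (ModSite.Mod O) j).map f) :=
  NatIso.isIso_map_iff ((homologyFunctor (ModSite.Mod O) 0).shiftIso j 0 j (add_zero j)) f

theorem key_local (A : ObjectProperty (ModSite.Mod O)) [WSerre.IsWeakSerre A]
    (K : ℕ → DerivedCategory (ModSite.Mod O)) (t : ∀ n, K (n + 1) ⟶ K n) [HasProduct K]
    (hK : ∀ n, WSerre.cohInPlus A (K n))
    (hconst : ∀ j : ℤ, ∃ n₀ : ℕ, ∀ n, n₀ ≤ n →
      IsIso ((homologyFunctor (ModSite.Mod O) j).map (t n)))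
    {L : DerivedCategory (ModSite.Mod O)} {a : ∀ n, L ⟶ K n} (hL : CohCx.IsRlimVia K t L a)
    (j : ℤ) (V : C) (d : ℕ)
    (hV : ∀ T ∈ J V, ∃ (ι : Type u) (Y : ι → C) (g : ∀ i, Y i ⟶ V),
      (∀ i, T.arrows (g i)) ∧ Sieve.ofArrows Y g ∈ J V ∧
      ∀ (i : ι) (F : ModSite.Mod O), A F → ∀ k : ℕ, d < k →
        Subsingleton (ModSite.HU O F k (Y i))) :
    ∃ N : ℕ, ∀ n, N ≤ n →
      Function.Injective (((τ O).map (H0.map ((a n)⟦j⟧'))).hom.app (op V)) ∧
      ∀ s : ((τ O).obj (H0.obj ((K n)⟦j⟧))).obj.obj (op V), ∃ T ∈ J V,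
        ∀ {W : C} (f : W ⟶ V), T f →
          ∃ x : ((τ O).obj (H0.obj (L⟦j⟧))).obj.obj (op W),
            ((τ O).map (H0.map ((a n)⟦j⟧'))).hom.app (op W) x =
              ((τ O).obj (H0.obj ((K n)⟦j⟧))).obj.map f.op s := by
  obtain ⟨N, hN⟩ := exists_bound_isIso t hconst (j - d - 2) (d + 4)
  have hbij : ∀ (Y : C), (∀ F : ModSite.Mod O, A F → ∀ k : ℕ, d < k →
      Subsingleton (ModSite.HU O F k Y)) → ∀ m : ℤ, (m = j ∨ m = j - 1) → ∀ n, N ≤ n →
      Function.Bijective (fun w : DZ O Y ⟶ (K (n + 1))⟦m⟧ => w ≫ (t n)⟦m⟧') := by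
    intro Y hY m hm n hn
    refine bijective_step A (t n) (hK (n + 1)) (hK n) Y d hY m (fun b h1 h2 => ?_)
    exact hN b (by omega) (by push_cast; omega) n hn
  have hcomp : ∀ (Y : C), (∀ F : ModSite.Mod O, A F → ∀ k : ℕ, d < k →
      Subsingleton (ModSite.HU O F k Y)) → ∀ n, N ≤ n →
      Function.Bijective (fun y : DZ O Y ⟶ L⟦j⟧ => y ≫ (a n)⟦j⟧') := by
    intro Y hY n hn
    exact bijective_comp_a hL (DZ O Y) j n
      (fun n' hn' => (hbij Y hY (j - 1) (Or.inr rfl) n' (le_trans hn hn')).2)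
      (fun n' hn' => hbij Y hY j (Or.inl rfl) n' (le_trans hn hn'))
  refine ⟨N, fun n hn => ⟨?_, ?_⟩⟩
  · apply injective_H0 hL V j n
    intro T hT
    obtain ⟨ι, Y, g, h1, h2, h3⟩ := hV T hT
    refine ⟨ι, Y, g, h1, h2, fun i => ⟨?_, ?_⟩⟩
    · exact limOneIsZero_of_eventually_surjective n
        (fun n' => DZ O (Y i) ⟶ (K n')⟦j - 1⟧)
        (fun n' => Preadditive.rightComp _ ((t n')⟦j - 1⟧'))
        (fun n' hn' => (hbij (Y i) (h3 i) (j - 1) (Or.inr rfl) n' (le_trans hn hn')).2)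
    · exact injective_transition (DZ O (Y i)) j n
        (fun n' hn' => (hbij (Y i) (h3 i) j (Or.inl rfl) n' (le_trans hn hn')).1)
  · intro s
    obtain ⟨T₀, hT₀, hT₀'⟩ := beta_locSurj ((K n)⟦j⟧) V s
    obtain ⟨ι, Y, g, h1, h2, h3⟩ := hV T₀ hT₀
    refine ⟨Sieve.ofArrows Y g, h2, ?_⟩
    intro W f hf
    obtain ⟨i, f', rfl⟩ := (Sieve.mem_ofArrows_iff Y g f).mp hf
    obtain ⟨y, hy⟩ := hT₀' (g i) (h1 i)
    obtain ⟨z, hz⟩ := (hcomp (Y i) (h3 i) n hn).2 y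
    have hz' : z ≫ (a n)⟦j⟧' = y := hz
    refine ⟨((τ O).obj (H0.obj (L⟦j⟧))).obj.map f'.op (beta (L⟦j⟧) (Y i) z), ?_⟩
    rw [sheafHom_nat, ← beta_comp, hz', hy]
    have h4 : ((τ O).obj (H0.obj ((K n)⟦j⟧))).obj.map (f' ≫ g i).op =
        ((τ O).obj (H0.obj ((K n)⟦j⟧))).obj.map (g i).op ≫
          ((τ O).obj (H0.obj ((K n)⟦j⟧))).obj.map f'.op := by
      rw [← Functor.map_comp, ← op_comp]
    exact (congrArg (fun m => m s) (congrArg AddCommGrpCat.Hom.hom h4)).symm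

theorem main9064 (A : ObjectProperty (ModSite.Mod O)) [WSerre.IsWeakSerre A] (B : Set C)
    (hB : ∀ U : C, ∃ (ι : Type u) (Y : ι → C) (g : ∀ i, Y i ⟶ U),
      Sieve.ofArrows Y g ∈ J U ∧ ∀ i, Y i ∈ B)
    (hA : ∀ V ∈ B, ∃ d : ℕ, ∀ T ∈ J V, ∃ (ι : Type u) (Y : ι → C) (g : ∀ i, Y i ⟶ V),
      (∀ i, T.arrows (g i)) ∧ Sieve.ofArrows Y g ∈ J V ∧
      ∀ (i : ι) (F : ModSite.Mod O), A F → ∀ k : ℕ, d < k →
        Subsingleton (ModSite.HU O F k (Y i)))
    (K : ℕ → DerivedCategory (ModSite.Mod O)) (t : ∀ n, K (n + 1) ⟶ K n) [HasProduct K]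
    (hK : ∀ n, WSerre.cohInPlus A (K n))
    (hconst : ∀ j : ℤ, ∃ n₀ : ℕ, ∀ n, n₀ ≤ n →
      IsIso ((homologyFunctor (ModSite.Mod O) j).map (t n)))
    (L : DerivedCategory (ModSite.Mod O)) (a : ∀ n, L ⟶ K n) (hL : CohCx.IsRlimVia K t L a)
    (j : ℤ) :
    ∃ n₀ : ℕ, ∀ n, n₀ ≤ n → IsIso ((homologyFunctor (ModSite.Mod O) j).map (a n)) := by
  obtain ⟨n₀, hn₀⟩ := hconst j
  refine ⟨n₀, fun n hn => ?_⟩
  have htr : ∀ k, IsIso (H0.map ((CohCx.transition K t n k)⟦j⟧')) := by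
    intro k
    induction k with
    | zero =>
      have e : CohCx.transition K t n 0 = 𝟙 _ := rfl
      rw [e, CategoryTheory.Functor.map_id, CategoryTheory.Functor.map_id]
      infer_instance
    | succ k ih =>
      have e : CohCx.transition K t n (k + 1) = t (n + k) ≫ CohCx.transition K t n k := rfl
      haveI := ih
      haveI : IsIso (H0.map ((t (n + k))⟦j⟧')) :=
        (isIso_H0_shift_iff _ j).2 (hn₀ (n + k) (by omega))
      rw [e, CategoryTheory.Functor.map_comp, CategoryTheory.Functor.map_comp]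
      infer_instance
  refine (isIso_H0_shift_iff (a n) j).1 ?_
  suffices IsIso ((τ O).map (H0.map ((a n)⟦j⟧'))) from isIso_of_reflects_iso _ (τ O)
  apply isIso_of_local _ B hB
  intro V hV
  obtain ⟨d, hd⟩ := hA V hV
  obtain ⟨N, hN⟩ := key_local A K t hK hconst hL j V d hd
  have hcomp : a (n + N) ≫ CohCx.transition K t n N = a n := a_comp_transition hL n N
  obtain ⟨hinj, hsurj⟩ := hN (n + N) (by omega)
  haveI := htr N
  have hθ : ∀ (W : C) (x : ((τ O).obj (H0.obj (L⟦j⟧))).obj.obj (op W)),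
      ((τ O).map (H0.map ((a n)⟦j⟧'))).hom.app (op W) x =
        ((τ O).map (H0.map ((CohCx.transition K t n N)⟦j⟧'))).hom.app (op W)
          (((τ O).map (H0.map ((a (n + N))⟦j⟧'))).hom.app (op W) x) := by
    intro W x
    rw [← hcomp, Functor.map_comp, Functor.map_comp, Functor.map_comp]
    rfl
  constructor
  · intro x y hxy
    rw [hθ, hθ] at hxy
    exact hinj (modHom_injective_of_isIso (H0.map ((CohCx.transition K t n N)⟦j⟧')) V hxy)
  · intro s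
    have hs' : ((τ O).map (H0.map ((CohCx.transition K t n N)⟦j⟧'))).hom.app (op V)
        (((τ O).map (inv (H0.map ((CohCx.transition K t n N)⟦j⟧')))).hom.app (op V) s) = s :=
      congrArg (fun g => ((τ O).map g).hom.app (op V) s)
        (IsIso.inv_hom_id (H0.map ((CohCx.transition K t n N)⟦j⟧')))
    obtain ⟨T, hT, hT'⟩ := hsurj
      (((τ O).map (inv (H0.map ((CohCx.transition K t n N)⟦j⟧')))).hom.app (op V) s)
    refine ⟨T, hT, fun {W} f hf => ?_⟩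
    obtain ⟨x, hx⟩ := hT' f hf
    refine ⟨x, ?_⟩
    rw [hθ, hx, sheafHom_nat, hs']

end Groth.Agent.H6.MDw
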