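import Groth.Agent.Lib.Helper6.MDw5
import Groth.Agent.Lib.Lead.SC.Affine

/-! # `E ≅ R lim τ_{≥ -n} E` for complexes of `O_X`-modules with quasi-coherent cohomology -/

universe w u
open CategoryTheory Limits Opposite Pretriangulated AlgebraicGeometry TopologicalSpace

namespace Groth.Agent.H6.MDw

open Groth.Agent.H6.MD
open Groth.Agent.LD.SC

theorem exists_affine_cover (X : Scheme.{u}) (U : X.Opens) :
    ∃ (ι : Type u) (Y : ι → X.Opens) (f : ∀ i, Y i ⟶ U),
      Sieve.ofArrows Y f ∈ Opens.grothendieckTopology X U ∧ ∀ i, IsAffineOpen (Y i) := by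
  refine ⟨{V : X.affineOpens // V.1 ≤ U}, fun i => i.1.1, fun i => homOfLE i.2, ?_, fun i => i.1.2⟩
  intro x hx
  obtain ⟨V, hV, hxV, hVU⟩ :=
    (Opens.isBasis_iff_nbhd.mp X.isBasis_affineOpens) hx
  exact ⟨V, homOfLE hVU, Sieve.ofArrows_mk _ _ (⟨⟨V, hV⟩, hVU⟩ : {V : X.affineOpens // V.1 ≤ U}),
    hxV⟩

theorem main1007 (X : Scheme.{u}) [HasDerivedCategory.{w} (ModSite.Mod X.sheaf)]
    (E : DerivedCategory (ModSite.Mod X.sheaf))
    (hE : ∀ i : ℤ, Coh.IsQCoh (X := X)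
      ((DerivedCategory.homologyFunctor (ModSite.Mod X.sheaf) i).obj E))
    [HasProduct (CohCx.truncTower E)] :
    CohCx.IsRlimVia (CohCx.truncTower E) (CohCx.truncTowerMap E) E (CohCx.toTruncTower E) := by
  refine main_function (O := X.sheaf) E {U | IsAffineOpen U} (exists_affine_cover X)
    (fun _ => 0) ?_
  intro V hV m k hk
  obtain ⟨p, rfl⟩ : ∃ p : ℕ, k = p + 1 := ⟨k - 1, by
    have : (0 : ℤ) < k := hk
    omega⟩
  haveI : SheafOfModules.IsQuasicoherent (R := X.ringCatSheaf)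
    ((DerivedCategory.homologyFunctor (ModSite.Mod X.sheaf) (m - ((p + 1 : ℕ) : ℤ))).obj E) :=
    hE (m - ((p + 1 : ℕ) : ℤ))
  exact Groth.Agent.LD.SC.subsingleton_ext_of_isAffineOpen (X := X)
    ((DerivedCategory.homologyFunctor (ModSite.Mod X.sheaf) (m - ((p + 1 : ℕ) : ℤ))).obj E) p V hV

end Groth.Agent.H6.MDw
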