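import Mathlib
import Groth.Prelude.Def_ARSys
import Groth.Agent.Lib.Helper2.ARSysIm
import Groth.Agent.Lib.Helper6.LCArtinian

/-! Mittag-Leffler for inverse systems of Artinian modules (local cohomology of finite modules). -/

set_option autoImplicit false
universe u
open CategoryTheory CategoryTheory.Limits Opposite

namespace Groth.Agent.H6

namespace MLArt

lemma imLE_of_range_le {A : Type u} [CommRing A] {X Y Z : ModuleCat.{u} A}
    (a : X ⟶ Z) (b : Y ⟶ Z) (hab : LinearMap.range a.hom ≤ LinearMap.range b.hom) :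
    Groth.Agent.H2.AR.ImLE a b := by
  rw [Groth.Agent.H2.AR.imLE_iff_comp_cokernel]
  ext x
  obtain ⟨y, hy⟩ := hab ⟨x, rfl⟩
  change (cokernel.π b).hom (a.hom x) = 0
  rw [← hy]
  have h2 : (b ≫ cokernel.π b).hom y = 0 := by
    rw [cokernel.condition]; rfl
  exact h2

lemma imageSubobject_eq_of_range_eq {A : Type u} [CommRing A] {X Y Z : ModuleCat.{u} A}
    (a : X ⟶ Z) (b : Y ⟶ Z) (h : LinearMap.range a.hom = LinearMap.range b.hom) :
    imageSubobject a = imageSubobject b := by
  rw [Groth.Agent.H2.AR.imageSubobject_eq_iff]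
  exact ⟨imLE_of_range_le a b h.le, imLE_of_range_le b a h.ge⟩

/-- An inverse system of Artinian modules is Mittag-Leffler. -/
theorem isML_of_isArtinian {A : Type u} [CommRing A] (X : ℕᵒᵖ ⥤ ModuleCat.{u} A)
    (hArt : ∀ n : ℕ, IsArtinian A (X.obj (op n))) : ARSys.IsML X := by
  intro n
  have := hArt n
  let f : ℕ →o (Submodule A (X.obj (op n)))ᵒᵈ :=
    { toFun := fun s => OrderDual.toDual (LinearMap.range (ARSys.shiftMap X s n).hom)
      monotone' := by
        intro s t hst
        change LinearMap.range (ARSys.shiftMap X t n).hom ≤ LinearMap.range (ARSys.shiftMap X s n).hom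
        rintro _ ⟨x, rfl⟩
        have h1 : n + s ≤ n + t := by omega
        have h2 : ARSys.shiftMap X t n = ARSys.tr X h1 ≫ ARSys.shiftMap X s n :=
          (Groth.Agent.H2.AR.tr_comp X (Nat.le_add_right n s) h1).symm
        rw [h2]
        exact ⟨(ARSys.tr X h1).hom x, rfl⟩ }
  obtain ⟨r, hr⟩ := IsArtinian.monotone_stabilizes f
  refine ⟨r, fun s hs => ?_⟩
  apply imageSubobject_eq_of_range_eq
  have := hr s hs
  exact (congrArg OrderDual.ofDual this).symm

end MLArt

end Groth.Agent.H6
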