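import Groth.Agent.Lib.Helper6.MDw8
import Groth.Agent.Lib.Helper6.DLim6
import Groth.Agent.Lib.Helper7.Milnor

/-! # Towers of sheaves of modules placed in degree zero: vanishing of `Hom(j_{U!}O_U, L[m])` for the
derived limit `L` and `m ≠ 0` -/

universe w u
open CategoryTheory Limits Opposite Pretriangulated

namespace Groth.Agent.H6.MRl

open Groth.Agent.H6.MD Groth.Agent.H6.MDw Groth.Agent.H6.DLim DerivedCategory

section Abstract

variable {T : Type*} [Category T] [Preadditive T] [HasZeroObject T] [HasShift T ℤ]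
  [∀ n : ℤ, (shiftFunctor T n).Additive] [Pretriangulated T]
  {K : ℕ → T} {t : ∀ n, K (n + 1) ⟶ K n} [HasProduct K] {L : T} {a : ∀ n, L ⟶ K n}

theorem part1_zero (hL : CohCx.IsRlimVia K t L a) {X : T} (x : ∀ n, X ⟶ K n)
    (hx : ∀ n, x (n + 1) ≫ t n = x n) : ∃ y : X ⟶ L, ∀ n, y ≫ a n = x n := by
  obtain ⟨c, hc⟩ := hL
  have h0 : Pi.lift x ≫ (Pi.lift fun n => Pi.π K n - Pi.π K (n + 1) ≫ t n) = 0 := by
    apply Pi.hom_ext
    intro n
    rw [Category.assoc, Pi.lift_π, Preadditive.comp_sub, Pi.lift_π, Pi.lift_π_assoc, hx, sub_self,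
      zero_comp]
  obtain ⟨y, hy⟩ := Triangle.coyoneda_exact₂ _ hc (Pi.lift x) h0
  refine ⟨y, fun n => ?_⟩
  have h : Pi.lift x ≫ Pi.π K n = (y ≫ Pi.lift a) ≫ Pi.π K n :=
    congrArg (fun f => f ≫ Pi.π K n) hy
  rw [Pi.lift_π, Category.assoc, Pi.lift_π] at h
  exact h.symm

theorem part2_zero (hL : CohCx.IsRlimVia K t L a) {X : T}
    (hlim : Function.Surjective (fun (w : ∀ n, X ⟶ (K n)⟦(0 : ℤ) - 1⟧) (n : ℕ) =>
      w n - w (n + 1) ≫ (t n)⟦(0 : ℤ) - 1⟧'))
    (y : X ⟶ L) (hy : ∀ n, y ≫ a n = 0) : y = 0 := by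
  have h := Groth.Agent.H7.Milnor.part2 hL (0 : ℤ) hlim (y ≫ (shiftFunctorZero T ℤ).inv.app L)
    (fun n => by
      have nat : a n ≫ (shiftFunctorZero T ℤ).inv.app (K n) =
          (shiftFunctorZero T ℤ).inv.app L ≫ (a n)⟦(0 : ℤ)⟧' :=
        (shiftFunctorZero T ℤ).inv.naturality (a n)
      rw [Category.assoc, ← nat, reassoc_of% (hy n), zero_comp])
  have h2 := congrArg (fun f => f ≫ (shiftFunctorZero T ℤ).hom.app L) h
  simpa using h2

end Abstract

variable {C : Type u} [SmallCategory C] {J : GrothendieckTopology C} {O : Sheaf J CommRingCat.{u}}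

lemma isZero_of_sections_eq_zero (G : ModSite.Mod O)
    (h : ∀ (V : C) (s : ((τ O).obj G).obj.obj (op V)), s = 0) : IsZero G := by
  rw [IsZero.iff_id_eq_zero]
  apply (τ O).map_injective
  apply Sheaf.hom_ext
  ext X s
  exact (h X.unop _).trans (h X.unop _).symm

/-- the sieve on which a section vanishes -/
def vanSieve (G : Sheaf J AddCommGrpCat.{u}) (V : C) (s : G.obj.obj (op V)) : Sieve V where
  arrows W f := G.obj.map f.op s = 0
  downward_closed := by
    intro W W' f hf g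
    change G.obj.map (g ≫ f).op s = 0
    rw [op_comp, Functor.map_comp]
    change G.obj.map g.op (G.obj.map f.op s) = 0
    rw [hf, map_zero]

variable [HasDerivedCategory.{w} (ModSite.Mod O)]

theorem isZero_H0_of_hom_eq_zero (L : DerivedCategory (ModSite.Mod O)) (B : Set C)
    (hB : ∀ U : C, ∃ (ι : Type u) (Y : ι → C) (f : ∀ i, Y i ⟶ U),
      Sieve.ofArrows Y f ∈ J U ∧ ∀ i, Y i ∈ B)
    (h : ∀ U ∈ B, ∀ y : DZ O U ⟶ L, y = 0) : IsZero (H0.obj L) := by
  apply isZero_of_sections_eq_zero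
  intro V s
  refine (Sheaf.isSeparated ((τ O).obj (H0.obj L))) V (vanSieve ((τ O).obj (H0.obj L)) V s) ?_ s 0 ?_
  · obtain ⟨T, hT, hT'⟩ := beta_locSurj L V s
    refine J.transitive hT _ (fun W f hf => ?_)
    obtain ⟨ι, Y, g, hcov, hYB⟩ := hB W
    refine J.superset_covering ?_ hcov
    intro W' k hk
    obtain ⟨i, k', rfl⟩ := (Sieve.mem_ofArrows_iff Y g k).mp hk
    obtain ⟨y, hy⟩ := hT' f hf
    have h0 : ((τ O).obj (H0.obj L)).obj.map (g i).op
        (((τ O).obj (H0.obj L)).obj.map f.op s) = 0 := by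
      rw [← hy, ← beta_map, h (Y i) (hYB i) (DZmap (g i) ≫ y), beta_zero]
    change ((τ O).obj (H0.obj L)).obj.map ((k' ≫ g i) ≫ f).op s = 0
    rw [op_comp, Functor.map_comp, op_comp, Functor.map_comp]
    change ((τ O).obj (H0.obj L)).obj.map k'.op (((τ O).obj (H0.obj L)).obj.map (g i).op
      (((τ O).obj (H0.obj L)).obj.map f.op s)) = 0
    rw [h0, map_zero]
  · intro W g hg
    have hg' : ((τ O).obj (H0.obj L)).obj.map g.op s = 0 := hg
    rw [hg', map_zero]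

theorem isZero_homology_of_hom_eq_zero (L : DerivedCategory (ModSite.Mod O)) (B : Set C)
    (hB : ∀ U : C, ∃ (ι : Type u) (Y : ι → C) (f : ∀ i, Y i ⟶ U),
      Sieve.ofArrows Y f ∈ J U ∧ ∀ i, Y i ∈ B) (m : ℤ)
    (h : ∀ U ∈ B, ∀ y : DZ O U ⟶ L⟦m⟧, y = 0) :
    IsZero ((homologyFunctor (ModSite.Mod O) m).obj L) :=
  (isZero_H0_of_hom_eq_zero (L⟦m⟧) B hB h).of_iso
    (((homologyFunctor (ModSite.Mod O) 0).shiftIso m 0 m (add_zero m)).app L).symm

end Groth.Agent.H6.MRl
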