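import Groth.Agent.Lib.Helper6.MRl1

/-! # Towers of sheaves of modules placed in degree zero: the Milnor hypotheses -/

universe w u
open CategoryTheory Limits Opposite Pretriangulated

namespace Groth.Agent.H6.MRl

open Groth.Agent.H6.MD Groth.Agent.H6.MDw Groth.Agent.H6.DLim DerivedCategory

variable {C : Type u} [SmallCategory C] {J : GrothendieckTopology C} {O : Sheaf J CommRingCat.{u}}
  [HasDerivedCategory.{w} (ModSite.Mod O)]

variable (O) in
/-- the degree zero embedding -/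
noncomputable abbrev SF : ModSite.Mod O ⥤ DerivedCategory (ModSite.Mod O) :=
  singleFunctor (ModSite.Mod O) 0

lemma SF_preimage_sub {X Y : ModSite.Mod O} (f g : (SF O).obj X ⟶ (SF O).obj Y) :
    (SF O).preimage (f - g) = (SF O).preimage f - (SF O).preimage g := by
  apply (SF O).map_injective
  rw [Functor.map_sub, Functor.map_preimage, Functor.map_preimage, Functor.map_preimage]

lemma SF_preimage_comp_map {X Y Z : ModSite.Mod O} (f : (SF O).obj X ⟶ (SF O).obj Y) (g : Y ⟶ Z) :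
    (SF O).preimage (f ≫ (SF O).map g) = (SF O).preimage f ≫ g := by
  apply (SF O).map_injective
  rw [Functor.map_comp, Functor.map_preimage, Functor.map_preimage]

/-- evaluation `Hom(j_{U!}O_U[0], F[0][0]) → F(U)` -/
noncomputable def ev0 (U : C) (F' : ModSite.Mod O)
    (φ : (SF O).obj (FO O U) ⟶ ((SF O).obj F')⟦(0 : ℤ)⟧) : ((τ O).obj F').obj.obj (op U) :=
  hE U F' ((SF O).preimage (X := FO O U) (Y := F')
    (φ ≫ (shiftFunctorZero (DerivedCategory (ModSite.Mod O)) ℤ).hom.app ((SF O).obj F')))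

lemma ev0_sub (U : C) (F' : ModSite.Mod O) (φ ψ : (SF O).obj (FO O U) ⟶ ((SF O).obj F')⟦(0 : ℤ)⟧) :
    ev0 U F' (φ - ψ) = ev0 U F' φ - ev0 U F' ψ := by
  unfold ev0
  rw [Preadditive.sub_comp, SF_preimage_sub]
  exact (hAE U F').map_sub _ _

lemma ev0_comp (U : C) {F' F'' : ModSite.Mod O} (g : F' ⟶ F'')
    (φ : (SF O).obj (FO O U) ⟶ ((SF O).obj F')⟦(0 : ℤ)⟧) :
    ev0 U F'' (φ ≫ ((SF O).map g)⟦(0 : ℤ)⟧') = ((τ O).map g).hom.app (op U) (ev0 U F' φ) := by
  unfold ev0
  have nat : ((SF O).map g)⟦(0 : ℤ)⟧' ≫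
      (shiftFunctorZero (DerivedCategory (ModSite.Mod O)) ℤ).hom.app ((SF O).obj F'') =
      (shiftFunctorZero (DerivedCategory (ModSite.Mod O)) ℤ).hom.app ((SF O).obj F') ≫
        (SF O).map g :=
    (shiftFunctorZero (DerivedCategory (ModSite.Mod O)) ℤ).hom.naturality ((SF O).map g)
  rw [Category.assoc, nat, ← Category.assoc, SF_preimage_comp_map, hE_comp]

lemma ev0_bijective (U : C) (F' : ModSite.Mod O) : Function.Bijective (ev0 U F') := by
  constructor
  · intro φ ψ h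
    have h1 := (hE U F').injective h
    have h2 := congrArg (SF O).map h1
    rw [Functor.map_preimage, Functor.map_preimage] at h2
    have h3 := congrArg (fun f => f ≫
      (shiftFunctorZero (DerivedCategory (ModSite.Mod O)) ℤ).inv.app ((SF O).obj F')) h2
    simpa using h3
  · intro s
    refine ⟨(SF O).map ((hE U F').symm s) ≫
      (shiftFunctorZero (DerivedCategory (ModSite.Mod O)) ℤ).inv.app ((SF O).obj F'), ?_⟩
    unfold ev0
    rw [Category.assoc, Iso.inv_hom_id_app]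
    have h1 : (SF O).map ((hE U F').symm s) ≫
        𝟙 ((𝟭 (DerivedCategory (ModSite.Mod O))).obj ((SF O).obj F')) =
        (SF O).map ((hE U F').symm s) := Category.comp_id _
    rw [h1, Functor.preimage_map, Equiv.apply_symm_apply]

variable (F : ℕ → ModSite.Mod O) (t : ∀ n, F (n + 1) ⟶ F n)

lemma hom_K_shift_eq_zero (U : C)
    (hU : ∀ (p n : ℕ), Subsingleton (ModSite.HU O (F n) (p + 1) U)) (n : ℕ) (m : ℤ) (hm : m ≠ 0)
    (φ : (SF O).obj (FO O U) ⟶ ((SF O).obj (F n))⟦m⟧) : φ = 0 := by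
  apply hom_single_shift_eq_zero U (F n) 0 m _ φ
  intro k hk
  obtain ⟨p, rfl⟩ : ∃ p, k = p + 1 := ⟨k - 1, by omega⟩
  exact hU p n

theorem hlim (U : C) (hU1 : ∀ (p n : ℕ), Subsingleton (ModSite.HU O (F n) (p + 1) U))
    (hU2 : CohCx.LimOneIsZero (fun n => ((τ O).obj (F n)).obj.obj (op U))
      (fun n => (((τ O).map (t n)).hom.app (op U)).hom)) (q : ℤ) :
    Function.Surjective (fun (w : ∀ n, (SF O).obj (FO O U) ⟶ ((SF O).obj (F n))⟦q⟧) (n : ℕ) =>
      w n - w (n + 1) ≫ ((SF O).map (t n))⟦q⟧') := by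
  by_cases hq : q = 0
  · subst hq
    intro v
    obtain ⟨r, hr⟩ := hU2 (fun n => ev0 U (F n) (v n))
    choose w hw using fun n => (ev0_bijective U (F n)).2 (r n)
    refine ⟨w, ?_⟩
    funext n
    apply (ev0_bijective U (F n)).1
    rw [ev0_sub, ev0_comp, hw, hw]
    exact congrFun hr n
  · intro v
    refine ⟨fun _ => 0, ?_⟩
    funext n
    exact (hom_K_shift_eq_zero F U hU1 n q hq _).trans (hom_K_shift_eq_zero F U hU1 n q hq _).symm

variable [HasProduct fun n => (SF O).obj (F n)] {L : DerivedCategory (ModSite.Mod O)}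
  {a : ∀ n, L ⟶ (SF O).obj (F n)}
  (hL : CohCx.IsRlimVia (fun n => (SF O).obj (F n)) (fun n => (SF O).map (t n)) L a)

include hL in
theorem hom_L_shift_eq_zero (U : C)
    (hU1 : ∀ (p n : ℕ), Subsingleton (ModSite.HU O (F n) (p + 1) U))
    (hU2 : CohCx.LimOneIsZero (fun n => ((τ O).obj (F n)).obj.obj (op U))
      (fun n => (((τ O).map (t n)).hom.app (op U)).hom)) (m : ℤ) (hm : m ≠ 0)
    (y : (SF O).obj (FO O U) ⟶ L⟦m⟧) : y = 0 := by
  apply Groth.Agent.H7.Milnor.part2 hL m (hlim F t U hU1 hU2 (m - 1)) y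
  intro n
  exact hom_K_shift_eq_zero F U hU1 n m hm _

end Groth.Agent.H6.MRl
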