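import Groth.Agent.Lib.Helper6.MRl2
import Groth.Prelude.Def_DCoh2

/-! # `lim F_n` in degree zero is the derived limit of an acyclic Mittag-Leffler-type tower of
sheaves of modules -/

universe w u
open CategoryTheory Limits Opposite Pretriangulated

namespace Groth.Agent.H6.MRl

open Groth.Agent.H6.MD Groth.Agent.H6.MDw Groth.Agent.H6.DLim DerivedCategory

variable {C : Type u} [SmallCategory C] {J : GrothendieckTopology C} {O : Sheaf J CommRingCat.{u}}

section Cone

variable (F : ℕ → ModSite.Mod O) (t : ∀ n, F (n + 1) ⟶ F n)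

/-- the cone over a tower given by compatible maps -/
noncomputable def towerCone {A : ModSite.Mod O} (α : ∀ n, A ⟶ F n)
    (hα : ∀ n, α (n + 1) ≫ t n = α n) : Cone (Functor.ofOpSequence t) where
  pt := A
  π := NatTrans.ofOpSequence (F := (Functor.const ℕᵒᵖ).obj A) (G := Functor.ofOpSequence t)
    (fun n => α n) (fun n => by
      rw [Functor.ofOpSequence_map_homOfLE_succ]
      change 𝟙 A ≫ α n = α (n + 1) ≫ t n
      rw [Category.id_comp, hα])

/-- the projections of the limit of a tower -/
noncomputable def towerπ (n : ℕ) : limit (Functor.ofOpSequence t) ⟶ F n :=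
  limit.π (Functor.ofOpSequence t) (op n)

lemma towerπ_succ (n : ℕ) : towerπ F t (n + 1) ≫ t n = towerπ F t n := by
  have h := limit.w (Functor.ofOpSequence t) (homOfLE (Nat.le_add_right n 1)).op
  rwa [Functor.ofOpSequence_map_homOfLE_succ] at h

lemma towerLift_π {A : ModSite.Mod O} (α : ∀ n, A ⟶ F n)
    (hα : ∀ n, α (n + 1) ≫ t n = α n) (n : ℕ) :
    limit.lift (Functor.ofOpSequence t) (towerCone F t α hα) ≫ towerπ F t n = α n :=
  limit.lift_π (towerCone F t α hα) (op n)

lemma tower_hom_ext {A : ModSite.Mod O} (f g : A ⟶ limit (Functor.ofOpSequence t))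
    (h : ∀ n, f ≫ towerπ F t n = g ≫ towerπ F t n) : f = g := by
  apply limit.hom_ext
  rintro ⟨n⟩
  exact h n

end Cone

variable [HasDerivedCategory.{w} (ModSite.Mod O)]

theorem main_rlim (F : ℕ → ModSite.Mod O) (t : ∀ n, F (n + 1) ⟶ F n)
    [HasProduct fun n => (SF O).obj (F n)] (B : Set C)
    (hB : ∀ U : C, ∃ (ι : Type u) (Y : ι → C) (f : ∀ i, Y i ⟶ U),
      Sieve.ofArrows Y f ∈ J U ∧ ∀ i, Y i ∈ B)
    (h1 : ∀ U ∈ B, ∀ (p n : ℕ), Subsingleton (ModSite.HU O (F n) (p + 1) U))
    (h2 : ∀ U ∈ B, CohCx.LimOneIsZero (fun n => ((τ O).obj (F n)).obj.obj (op U))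
      (fun n => (((τ O).map (t n)).hom.app (op U)).hom)) :
    DCoh.IsRlim (fun n => (SF O).obj (F n)) (fun n => (SF O).map (t n))
      ((SF O).obj (limit (Functor.ofOpSequence t))) := by
  obtain ⟨L, a, hL⟩ := exists_isRlimVia (fun n => (SF O).obj (F n)) (fun n => (SF O).map (t n))
  have hz : ∀ m : ℤ, m ≠ 0 → IsZero ((homologyFunctor (ModSite.Mod O) m).obj L) :=
    fun m hm => isZero_homology_of_hom_eq_zero L B hB m
      (fun U hU y => hom_L_shift_eq_zero F t hL U (h1 U hU) (h2 U hU) m hm y)
  haveI : L.IsGE 0 := (isGE_iff L 0).2 (fun i hi => hz i (by omega))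
  haveI : L.IsLE 0 := (isLE_iff L 0).2 (fun i hi => hz i (by omega))
  obtain ⟨A, ⟨e⟩⟩ := exists_iso_singleFunctor_obj_of_isGE_of_isLE L 0
  let α : ∀ n, A ⟶ F n := fun n => (SF O).preimage (e.inv ≫ a n)
  have hα' : ∀ n, (SF O).map (α n) = e.inv ≫ a n := fun n => Functor.map_preimage _ _
  have hα : ∀ n, α (n + 1) ≫ t n = α n := fun n => by
    apply (SF O).map_injective
    rw [Functor.map_comp, hα', hα', Category.assoc]
    exact congrArg (fun f => e.inv ≫ f) (a_comp_t hL n)
  let θ : A ⟶ limit (Functor.ofOpSequence t) :=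
    limit.lift (Functor.ofOpSequence t) (towerCone F t α hα)
  have hθ : ∀ n, θ ≫ towerπ F t n = α n := fun n => towerLift_π F t α hα n
  haveI : IsIso θ := by
    haveI : IsIso ((τ O).map θ) := by
      apply isIso_of_local ((τ O).map θ) B hB
      intro V hV
      constructor
      · intro x y hxy
        have e1 : hE V (limit (Functor.ofOpSequence t)) ((hE V A).symm x ≫ θ) =
            hE V (limit (Functor.ofOpSequence t)) ((hE V A).symm y ≫ θ) := by
          rw [hE_comp, hE_comp, Equiv.apply_symm_apply, Equiv.apply_symm_apply]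
          exact hxy
        have e2 : (hE V A).symm x ≫ θ = (hE V A).symm y ≫ θ := (hE V _).injective e1
        have e3 : ∀ n, ((hE V A).symm x - (hE V A).symm y) ≫ α n = 0 := fun n => by
          rw [← hθ n, ← Category.assoc, Preadditive.sub_comp, e2, sub_self, zero_comp]
        have hy₀ : ∀ n, ((SF O).map ((hE V A).symm x - (hE V A).symm y) ≫ e.inv) ≫ a n = 0 :=
          fun n => by
            rw [Category.assoc, ← hα', ← Functor.map_comp, e3, Functor.map_zero]
        have h0 : (SF O).map ((hE V A).symm x - (hE V A).symm y) ≫ e.inv = 0 :=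
          part2_zero hL (hlim F t V (h1 V hV) (h2 V hV) ((0 : ℤ) - 1)) _ hy₀
        have e4 : (SF O).map ((hE V A).symm x - (hE V A).symm y) = 0 := by
          rw [← cancel_mono e.inv, h0, zero_comp]
        have e5 : (hE V A).symm x - (hE V A).symm y = 0 :=
          (SF O).map_injective (by rw [e4, Functor.map_zero])
        exact (hE V A).symm.injective (sub_eq_zero.mp e5)
      · intro s
        let ψ := (hE V (limit (Functor.ofOpSequence t))).symm s
        have hx : ∀ n, (SF O).map (ψ ≫ towerπ F t (n + 1)) ≫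
            (SF O).map (t n) = (SF O).map (ψ ≫ towerπ F t n) :=
          fun n => by rw [← Functor.map_comp, Category.assoc, towerπ_succ]
        obtain ⟨y₀, hy₀⟩ := part1_zero hL
          (fun n => (SF O).map (ψ ≫ towerπ F t n)) hx
        let ψ' : FO O V ⟶ A := (SF O).preimage (y₀ ≫ e.hom)
        have e1 : ψ' ≫ θ = ψ := by
          apply tower_hom_ext F t
          intro n
          rw [Category.assoc, hθ]
          apply (SF O).map_injective
          rw [Functor.map_comp, Functor.map_preimage, hα', Category.assoc, e.hom_inv_id_assoc]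
          exact hy₀ n
        refine ⟨⊤, J.top_mem V, fun {W} f _ => ⟨((τ O).obj A).obj.map f.op (hE V A ψ'), ?_⟩⟩
        rw [sheafHom_nat, ← hE_comp, e1, Equiv.apply_symm_apply]
    exact isIso_of_reflects_iso θ (τ O)
  let eL : (SF O).obj (limit (Functor.ofOpSequence t)) ≅ L :=
    ((SF O).mapIso (asIso θ)).symm ≪≫ e.symm
  obtain ⟨c, hc⟩ := isRlimVia_of_iso hL eL
  exact ⟨Pi.lift _, c, hc⟩

end Groth.Agent.H6.MRl
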