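import Groth.Agent.Lib.Helper6.MRl3
import Groth.Agent.Lib.Helper6.TowLim
import Groth.Agent.Lib.Helper6.MDw9
import Groth.Agent.Lib.Helper6.DLim23
import Groth.Agent.Lib.Helper2.AffVan4
import Groth.Agent.Lib.Lead.PS.FormalClosed
import Groth.Agent.Lib.Lead.QC.Closure

/-! # Towers of quasi-coherent modules with eventually surjective transition maps on a scheme -/

universe w u
open CategoryTheory Limits Opposite Pretriangulated AlgebraicGeometry TopologicalSpace

namespace Groth.Agent.H6.MRl

open Groth.Agent.H6.MD Groth.Agent.H6.MDw Groth.Agent.H6.DLim Groth.Agent.LD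

section Part2

variable {X : Scheme.{u}} (F : ℕ → X.Modules) (hF : ∀ n, (F n).IsQuasicoherent)
  (t : ∀ n, F (n + 1) ⟶ F n) (ht : ∀ n, 1 ≤ n → Epi (t n))

include hF ht in
lemma app_surjective (n : ℕ) (hn : 1 ≤ n) (U : X.Opens) (hU : IsAffineOpen U) :
    Function.Surjective ((t n).app U) := by
  haveI := ht n hn
  exact PS.app_surjective_of_epi (t n) (QC.qc_kernel (t n) (hF _) (hF _)) hU

include hF ht in
theorem splits_limit_shift :
    H2.AffVan.Splits
      (limit (Functor.ofOpSequence (X := fun n => F (n + 1)) (fun n => t (n + 1)))) := by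
  letI : X.Over (Spec (CommRingCat.of (ULift.{u} ℤ))) :=
    ⟨X.toSpecΓ ≫ Spec.map (CommRingCat.ofHom
      ((Int.castRingHom _).comp (ULift.ringEquiv : ULift.{u} ℤ ≃+* ℤ).toRingHom))⟩
  intro U hU g h hgh hWg hWh s
  have hSVW : X.basicOpen g ⊓ X.basicOpen h ≤ X.basicOpen (g * h) := (X.basicOpen_mul g h).ge
  have hT : U ≤ X.basicOpen g ⊔ X.basicOpen h := by
    intro x hx
    have hsum : X.presheaf.germ U x hx g + X.presheaf.germ U x hx h = 1 := by
      rw [← map_add, hgh, map_one]
    rcases IsLocalRing.isUnit_or_isUnit_of_add_one hsum with hu | hu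
    · exact Or.inl ((X.mem_basicOpen g x hx).mpr hu)
    · exact Or.inr ((X.mem_basicOpen h x hx).mpr hu)
  refine H2.AffVan.splits_limit_core (ULift.{u} ℤ)
    (Functor.ofOpSequence (X := fun n => F (n + 1)) (fun n => t (n + 1)))
    hWg hWh hSVW (X.basicOpen_le g) (X.basicOpen_le h) hT ?_ ?_ s
  · intro n t'
    haveI : (F (n + 1)).IsQuasicoherent := hF (n + 1)
    exact H2.AffVan.splits_of_isQuasicoherent (F (n + 1)) U hU g h hgh hWg hWh t'
  · intro n
    have h1 : (Functor.ofOpSequence (X := fun n => F (n + 1)) (fun n => t (n + 1))).map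
        (homOfLE (Nat.le_succ n)).op = t (n + 1) :=
      Functor.ofOpSequence_map_homOfLE_succ (X := fun n => F (n + 1)) (fun n => t (n + 1)) n
    rw [h1]
    exact app_surjective F hF t ht (n + 1) (by omega) U hU

include hF ht in
theorem subsingleton_HHon_limit (U : X.Opens) (hU : IsAffineOpen U) (p : ℕ) (hp : 0 < p) :
    Subsingleton (Coh.HHon X (limit (Functor.ofOpSequence t)) U p) := by
  obtain ⟨q, rfl⟩ := Nat.exists_eq_succ_of_ne_zero hp.ne'
  obtain ⟨e⟩ := SC.HH_restrict_equiv U.ι (limit (Functor.ofOpSequence t)) (q + 1)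
  rw [Scheme.Opens.opensRange_ι] at e
  have h1 := H2.AffVan.subsingleton_ext_of_isAffineOpen _ (splits_limit_shift F hF t ht) q U hU
  haveI := subsingleton_ext_of_iso (X := SC.ZU (SC.JX X) U)
    ((SheafOfModules.toSheaf X.ringCatSheaf).mapIso (TowLim.shiftIso F t).symm) (q + 1) h1
  exact e.toEquiv.subsingleton

end Part2

end Groth.Agent.H6.MRl
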