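import Groth.Agent.Lib.Helper6.MRl4

/-! # `R lim F_n = lim F_n` for towers of quasi-coherent modules with eventually surjective
transition maps on a scheme -/

universe w u
open CategoryTheory Limits Opposite Pretriangulated AlgebraicGeometry TopologicalSpace

namespace Groth.Agent.H6.MRl

open Groth.Agent.H6.MD Groth.Agent.H6.MDw Groth.Agent.H6.DLim Groth.Agent.LD

theorem rlim_scheme (X : Scheme.{u}) [HasDerivedCategory.{w} (ModSite.Mod X.sheaf)]
    (F : ℕ → ModSite.Mod X.sheaf) (hF : ∀ n, Coh.IsQCoh (X := X) (F n))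
    (t : ∀ n, F (n + 1) ⟶ F n) (ht : ∀ n, 1 ≤ n → Epi (t n))
    [HasProduct fun n => (SF X.sheaf).obj (F n)] :
    DCoh.IsRlim (fun n => (SF X.sheaf).obj (F n)) (fun n => (SF X.sheaf).map (t n))
      ((SF X.sheaf).obj (limit (Functor.ofOpSequence t))) := by
  refine main_rlim (O := X.sheaf) F t {U | IsAffineOpen U} (exists_affine_cover X) ?_ ?_
  · intro U hU p n
    haveI : SheafOfModules.IsQuasicoherent (R := X.ringCatSheaf) (F n) := hF n
    exact Groth.Agent.LD.SC.subsingleton_ext_of_isAffineOpen (X := X) (F n) p U hU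
  · intro U hU
    refine limOneIsZero_of_eventually_surjective 1 _ _ (fun n hn => ?_)
    intro s
    obtain ⟨x, hx⟩ := app_surjective (X := X) F hF t ht n hn U hU s
    exact ⟨x, hx⟩

end Groth.Agent.H6.MRl
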