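import Mathlib
import Groth.Prelude.Def_W4c3cyccovratcurvTree

set_option autoImplicit false

namespace Groth.Agent.H6.MT

open W4c3cyccovratcurv SimpleGraph

variable {n k : ℕ}

/-- slide: replace the edge `wx` by the edge `rx`. -/
def slide (G : SimpleGraph (Fin n)) (r w x : Fin n) : SimpleGraph (Fin n) :=
  G.deleteEdges {s(w, x)} ⊔ edge r x

lemma slide_adj (G : SimpleGraph (Fin n)) (r w x a b : Fin n) :
    (slide G r w x).Adj a b ↔
      (G.Adj a b ∧ s(a, b) ≠ s(w, x)) ∨ (s(r, x) = s(a, b) ∧ a ≠ b) := by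
  simp only [slide, sup_adj, deleteEdges_adj, Set.mem_singleton_iff, adj_edge]

lemma slide_adj_of_adj {G : SimpleGraph (Fin n)} {r w x a b : Fin n} (h : G.Adj a b)
    (hne : s(a, b) ≠ s(w, x)) : (slide G r w x).Adj a b :=
  (slide_adj G r w x a b).mpr (Or.inl ⟨h, hne⟩)

lemma slide_adj_new {G : SimpleGraph (Fin n)} {r w x : Fin n} (hrx : r ≠ x) :
    (slide G r w x).Adj r x :=
  (slide_adj G r w x r x).mpr (Or.inr ⟨rfl, hrx⟩)

lemma slide_reachable_of_adj {G : SimpleGraph (Fin n)} {r w x : Fin n} (hrw : G.Adj r w)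
    (hwx : G.Adj w x) (hxr : x ≠ r) {a b : Fin n} (h : G.Adj a b) :
    (slide G r w x).Reachable a b := by
  by_cases hne : s(a, b) = s(w, x)
  · have hwr : (slide G r w x).Adj w r := by
      refine slide_adj_of_adj hrw.symm ?_
      intro h'
      rcases Sym2.eq_iff.mp h' with ⟨_, h2⟩ | ⟨_, h2⟩
      · exact hxr h2.symm
      · exact hrw.ne h2
    have hrx : (slide G r w x).Adj r x := slide_adj_new (Ne.symm hxr)
    have hwx' : (slide G r w x).Reachable w x := hwr.reachable.trans hrx.reachable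
    rcases Sym2.eq_iff.mp hne with ⟨h1, h2⟩ | ⟨h1, h2⟩
    · rw [h1, h2]; exact hwx'
    · rw [h1, h2]; exact hwx'.symm
  · exact (slide_adj_of_adj h hne).reachable

lemma slide_reachable {G : SimpleGraph (Fin n)} {r w x : Fin n} (hrw : G.Adj r w)
    (hwx : G.Adj w x) (hxr : x ≠ r) {a b : Fin n} (h : G.Reachable a b) :
    (slide G r w x).Reachable a b := by
  obtain ⟨p⟩ := h
  induction p with
  | nil => exact Reachable.refl _
  | cons hadj _ ih => exact (slide_reachable_of_adj hrw hwx hxr hadj).trans ih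

lemma slide_isTree {G : SimpleGraph (Fin n)} (hG : G.IsTree) {r w x : Fin n} (hrw : G.Adj r w)
    (hwx : G.Adj w x) (hxr : x ≠ r) : (slide G r w x).IsTree := by
  refine ⟨?_, ?_⟩
  · have := hG.connected.nonempty
    exact (connected_iff _).mpr ⟨fun a b => slide_reachable hrw hwx hxr (hG.connected a b), this⟩
  · refine IsAcyclic.sup_edge_of_not_reachable ?_ (hG.isAcyclic.anti (deleteEdges_le _))
    intro hreach
    have hbr : G.IsBridge s(w, x) := isAcyclic_iff_forall_adj_isBridge.mp hG.isAcyclic hwx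
    rw [isBridge_iff] at hbr
    apply hbr
    have hwr : (G.deleteEdges {s(w, x)}).Adj w r := by
      rw [deleteEdges_adj]
      refine ⟨hrw.symm, ?_⟩
      intro h'
      rcases Sym2.eq_iff.mp (Set.mem_singleton_iff.mp h') with ⟨_, h2⟩ | ⟨_, h2⟩
      · exact hxr h2.symm
      · exact hrw.ne h2
    exact hwr.reachable.trans hreach


lemma slide_adj_of_ne {G : SimpleGraph (Fin n)} {r w x p q : Fin n} (hp : p ≠ w) (hq : q ≠ w) :
    (slide G r w x).Adj p q ↔ G.Adj p q ∨ ((r = p ∧ x = q ∨ r = q ∧ x = p) ∧ p ≠ q) := by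
  rw [slide_adj]
  have h1 : s(p, q) ≠ s(w, x) := by
    intro h'
    rcases Sym2.eq_iff.mp h' with ⟨h1, _⟩ | ⟨_, h2⟩
    · exact hp h1
    · exact hq h2
  simp only [ne_eq, h1, not_false_eq_true, and_true, Sym2.eq_iff]

lemma slide_adj_w {G : SimpleGraph (Fin n)} {r w x q : Fin n} (hrw : G.Adj r w)
    (hwx : G.Adj w x) (hq : q ≠ w) :
    (slide G r w x).Adj w q ↔ G.Adj w q ∧ q ≠ x := by
  rw [slide_adj]
  constructor
  · rintro (⟨h1, h2⟩ | ⟨h1, _⟩)
    · refine ⟨h1, ?_⟩
      rintro rfl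
      exact h2 rfl
    · exfalso
      rcases Sym2.eq_iff.mp h1 with ⟨h1, _⟩ | ⟨_, h2⟩
      · exact hrw.ne h1
      · exact hwx.ne h2.symm
  · rintro ⟨h1, h2⟩
    refine Or.inl ⟨h1, ?_⟩
    intro h'
    rcases Sym2.eq_iff.mp h' with ⟨_, h2'⟩ | ⟨_, h2'⟩
    · exact h2 h2'
    · exact hq h2'

lemma conicAdj_slide {G : SimpleGraph (Fin n)} (hG : G.IsTree) (m : Fin k → Fin n)
    {r w x : Fin n} (hrw : G.Adj r w) (hwx : G.Adj w x) (hxr : x ≠ r) :
    ConicAdj (⟨n, G, hG, m⟩ : MarkedTree k)
      ⟨n, slide G r w x, slide_isTree hG hrw hwx hxr, m⟩ := by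
  have hrw' : (slide G r w x).Adj r w := by
    refine slide_adj_of_adj hrw ?_
    intro h'
    rcases Sym2.eq_iff.mp h' with ⟨h1, _⟩ | ⟨h1, _⟩
    · exact hrw.ne h1
    · exact hxr h1.symm
  refine ⟨r, w, r, w, hrw, hrw', ⟨Equiv.refl _, ?_⟩, rfl, fun i => rfl⟩
  rintro ⟨a, ha⟩ ⟨b, hb⟩
  simp only [Equiv.refl_apply, contract, fromRel_adj, ne_eq, Subtype.mk.injEq,
    slide_adj_of_ne ha hb, slide_adj_of_ne hb ha, slide_adj_w hrw hwx ha, slide_adj_w hrw hwx hb]
  grind [SimpleGraph.adj_comm]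


lemma conicAdj_mark {G : SimpleGraph (Fin n)} (hG : G.IsTree) (m : Fin k → Fin n)
    {r w : Fin n} (hrw : G.Adj r w) (i : Fin k) (hi : m i = w) :
    ConicAdj (⟨n, G, hG, m⟩ : MarkedTree k) ⟨n, G, hG, Function.update m i r⟩ := by
  refine ⟨r, w, r, w, hrw, hrw, SimpleGraph.Iso.refl, rfl, fun j => ?_⟩
  change contractMark m r w hrw.ne j = contractMark (Function.update m i r) r w hrw.ne j
  unfold contractMark
  by_cases hj : j = i
  · subst hj
    have h2 : Function.update m j r j ≠ w := by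
      rw [Function.update_self]; exact hrw.ne
    rw [dif_pos hi, dif_neg h2]
    exact Subtype.ext (by simp)
  · simp only [Function.update_of_ne hj]

lemma conicAdj_symm {T₁ T₂ : MarkedTree k} (h : ConicAdj T₁ T₂) : ConicAdj T₂ T₁ := by
  obtain ⟨u₁, w₁, u₂, w₂, h₁, h₂, φ, hφ, hm⟩ := h
  refine ⟨u₂, w₂, u₁, w₁, h₂, h₁, φ.symm, ?_, fun i => ?_⟩
  · rw [← hφ, RelIso.symm_apply_apply]
  · rw [← hm i, RelIso.symm_apply_apply]

/-- the chain relation -/
abbrev Chain (T₁ T₂ : MarkedTree k) : Prop := Relation.ReflTransGen ConicAdj T₁ T₂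

lemma Chain.symm {T₁ T₂ : MarkedTree k} (h : Chain T₁ T₂) : Chain T₂ T₁ := by
  induction h with
  | refl => exact Relation.ReflTransGen.refl
  | tail _ hab ih => exact Relation.ReflTransGen.head (conicAdj_symm hab) ih

open Classical in
/-- phase 1: reach a star centred at `r`. -/
lemma exists_star (r : Fin n) (m : Fin k → Fin n) :
    ∀ (d : ℕ) (G : SimpleGraph (Fin n)) (hG : G.IsTree),
      (Finset.univ.filter (fun v => v ≠ r ∧ ¬ G.Adj r v)).card = d →
      ∃ (G' : SimpleGraph (Fin n)) (hG' : G'.IsTree), (∀ v, v ≠ r → G'.Adj r v) ∧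
        Chain (⟨n, G, hG, m⟩ : MarkedTree k) ⟨n, G', hG', m⟩ := by
  intro d
  induction d using Nat.strong_induction_on with
  | _ d ih =>
    intro G hG hd
    by_cases hstar : ∀ v, v ≠ r → G.Adj r v
    · exact ⟨G, hG, hstar, Relation.ReflTransGen.refl⟩
    · push Not at hstar
      obtain ⟨v, hvr, hv⟩ := hstar
      obtain ⟨p⟩ := hG.connected r v
      let S : Set (Fin n) := {u | u = r ∨ G.Adj r u}
      have hrS : r ∈ S := Or.inl rfl
      have hvS : v ∉ S := by
        rintro (h | h)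
        · exact hvr h
        · exact hv h
      obtain ⟨dd, -, hd1, hd2⟩ := p.exists_boundary_dart S hrS hvS
      have hadj := dd.adj
      set w := dd.fst with hw
      set x := dd.snd with hx
      have hxr : x ≠ r := fun h => hd2 (Or.inl h)
      have hrx : ¬ G.Adj r x := fun h => hd2 (Or.inr h)
      have hrw : G.Adj r w := by
        rcases hd1 with h | h
        · exfalso
          rw [h] at hadj
          exact hrx hadj
        · exact h
      have hlt : (Finset.univ.filter (fun v => v ≠ r ∧ ¬ (slide G r w x).Adj r v)).card < d := by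
        rw [← hd]
        apply Finset.card_lt_card
        rw [Finset.ssubset_iff_of_subset]
        · refine ⟨x, ?_, ?_⟩
          · simp only [Finset.mem_filter, Finset.mem_univ, true_and]
            exact ⟨hxr, hrx⟩
          · simp only [Finset.mem_filter, Finset.mem_univ, true_and, not_and, not_not]
            intro _
            exact slide_adj_new (Ne.symm hxr)
        · intro y
          simp only [Finset.mem_filter, Finset.mem_univ, true_and]
          rintro ⟨hy1, hy2⟩
          refine ⟨hy1, fun hy3 => hy2 ?_⟩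
          refine slide_adj_of_adj hy3 ?_
          intro h'
          rcases Sym2.eq_iff.mp h' with ⟨h1, _⟩ | ⟨h1, _⟩
          · exact hrw.ne h1
          · exact hxr h1.symm
      obtain ⟨G', hG', hstar', hch⟩ := ih _ hlt (slide G r w x) (slide_isTree hG hrw hadj hxr) rfl
      exact ⟨G', hG', hstar', Relation.ReflTransGen.head (conicAdj_slide hG m hrw hadj hxr) hch⟩

open Classical in
/-- phase 2: move all marks to the centre. -/
lemma chain_marks {G : SimpleGraph (Fin n)} (hG : G.IsTree) (r : Fin n)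
    (hstar : ∀ v, v ≠ r → G.Adj r v) :
    ∀ (d : ℕ) (m : Fin k → Fin n), (Finset.univ.filter (fun i => m i ≠ r)).card = d →
      Chain (⟨n, G, hG, m⟩ : MarkedTree k) ⟨n, G, hG, fun _ => r⟩ := by
  intro d
  induction d with
  | zero =>
    intro m hd
    have : m = fun _ => r := by
      funext i
      by_contra hi
      have : i ∈ Finset.univ.filter (fun i => m i ≠ r) := by simp [hi]
      rw [Finset.card_eq_zero.mp hd] at this
      simp at this
    subst this
    exact Relation.ReflTransGen.refl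
  | succ d ih =>
    intro m hd
    have hne : (Finset.univ.filter (fun i => m i ≠ r)).Nonempty := by
      rw [← Finset.card_pos, hd]; omega
    obtain ⟨i, hi⟩ := hne
    simp only [Finset.mem_filter, Finset.mem_univ, true_and] at hi
    have hstep := conicAdj_mark hG m (hstar _ hi) i rfl
    refine Relation.ReflTransGen.head hstep (ih _ ?_)
    have : Finset.univ.filter (fun j => Function.update m i r j ≠ r) =
        (Finset.univ.filter (fun j => m j ≠ r)).erase i := by
      ext j
      simp only [Finset.mem_filter, Finset.mem_univ, true_and, Finset.mem_erase]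
      by_cases hj : j = i
      · subst hj; simp
      · simp [hj]
    rw [this, Finset.card_erase_of_mem (by simp [hi]), hd]
    rfl

/-- two trees that are stars at `r` are equal -/
lemma star_unique {G G' : SimpleGraph (Fin n)} (hG : G.IsTree) (hG' : G'.IsTree) (r : Fin n)
    (h : ∀ v, v ≠ r → G.Adj r v) (h' : ∀ v, v ≠ r → G'.Adj r v) : G = G' := by
  have key : ∀ (H : SimpleGraph (Fin n)), H.IsTree → (∀ v, v ≠ r → H.Adj r v) →
      ∀ a b, H.Adj a b ↔ (a ≠ b ∧ (a = r ∨ b = r)) := by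
    intro H hH hs a b
    constructor
    · intro hab
      refine ⟨hab.ne, ?_⟩
      by_contra hcon
      push Not at hcon
      have hcf : H.CliqueFree 3 := hH.isAcyclic.cliqueFree (le_refl 3)
      have h3 : H.IsNClique 3 {r, a, b} :=
        is3Clique_triple_iff.mpr ⟨hs a hcon.1, hs b hcon.2, hab⟩
      exact hcf _ h3
    · rintro ⟨hab, rfl | rfl⟩
      · exact hs b (Ne.symm hab)
      · exact (hs a hab).symm
  ext a b
  rw [key G hG h, key G' hG' h']

theorem main (T₁ T₂ : MarkedTree k) (h : T₁.n = T₂.n) : Chain T₁ T₂ := by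
  obtain ⟨n₁, G₁, hG₁, m₁⟩ := T₁
  obtain ⟨n₂, G₂, hG₂, m₂⟩ := T₂
  dsimp only at h
  subst h
  obtain ⟨r⟩ := hG₁.connected.nonempty
  obtain ⟨G₁', hG₁', hs₁, c₁⟩ := exists_star r m₁ _ G₁ hG₁ rfl
  obtain ⟨G₂', hG₂', hs₂, c₂⟩ := exists_star r m₂ _ G₂ hG₂ rfl
  have c₁' := chain_marks hG₁' r hs₁ _ m₁ rfl
  have c₂' := chain_marks hG₂' r hs₂ _ m₂ rfl
  have e : G₁' = G₂' := star_unique hG₁' hG₂' r hs₁ hs₂
  subst e
  exact (c₁.trans c₁').trans (Chain.symm (c₂.trans c₂'))

end Groth.Agent.H6.MT
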