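import Groth.Agent.Lib.Helper6.KInjDS
import Groth.Agent.Lib.Helper6.KInjG6
import Groth.Agent.Lib.Helper6.RpRes1
import Groth.Agent.Lib.Lead.QCQS.MV
import Groth.Agent.Lib.Lead.QCQS.Top

/-! # Abstract Mayer–Vietoris triangles from short exact sequences on injectives -/

open CategoryTheory Limits DerivedCategory Pretriangulated

namespace Groth.Agent.H6.MVTri

section General

/-- transporting a distinguished triangle along isomorphisms of its vertices. -/
lemma exists_distinguished_of_isos {C : Type*} [Category C] [HasZeroObject C] [HasShift C ℤ]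
    [Preadditive C] [∀ n : ℤ, (shiftFunctor C n).Additive] [Pretriangulated C]
    (T : Triangle C) (hT : T ∈ distTriang C) {A₁ A₂ A₃ : C}
    (e₁ : T.obj₁ ≅ A₁) (e₂ : T.obj₂ ≅ A₂) (e₃ : T.obj₃ ≅ A₃) :
    ∃ (a : A₁ ⟶ A₂) (b : A₂ ⟶ A₃) (c : A₃ ⟶ A₁⟦(1 : ℤ)⟧),
      Triangle.mk a b c ∈ distTriang C := by
  refine ⟨e₁.inv ≫ T.mor₁ ≫ e₂.hom, e₂.inv ≫ T.mor₂ ≫ e₃.hom,
    e₃.inv ≫ T.mor₃ ≫ e₁.hom⟦(1 : ℤ)⟧', ?_⟩
  refine isomorphic_distinguished _ hT _
    (Triangle.isoMk _ _ e₁.symm e₂.symm e₃.symm ?_ ?_ ?_)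
  · show (e₁.inv ≫ T.mor₁ ≫ e₂.hom) ≫ e₂.inv = e₁.inv ≫ T.mor₁
    rw [Category.assoc, Category.assoc, e₂.hom_inv_id, Category.comp_id]
  · show (e₂.inv ≫ T.mor₂ ≫ e₃.hom) ≫ e₃.inv = e₂.inv ≫ T.mor₂
    rw [Category.assoc, Category.assoc, e₃.hom_inv_id, Category.comp_id]
  · show (e₃.inv ≫ T.mor₃ ≫ (shiftFunctor C (1 : ℤ)).map e₁.hom) ≫
      (shiftFunctor C (1 : ℤ)).map e₁.inv = e₃.inv ≫ T.mor₃
    rw [Category.assoc, Category.assoc, ← Functor.map_comp, e₁.hom_inv_id,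
      CategoryTheory.Functor.map_id, Category.comp_id]

lemma biprod_lift_f_biprodXIso_hom {C ι : Type*} [Category C] [Preadditive C]
    {c : ComplexShape ι} {M K L : HomologicalComplex C c}
    [∀ i, HasBinaryBiproduct (K.X i) (L.X i)] (α : M ⟶ K) (β : M ⟶ L) (i : ι) :
    (biprod.lift α β).f i ≫ (HomologicalComplex.biprodXIso K L i).hom =
      biprod.lift (α.f i) (β.f i) := by
  apply biprod.hom_ext <;> simp

lemma biprodXIso_hom_biprod_desc_f {C ι : Type*} [Category C] [Preadditive C]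
    {c : ComplexShape ι} {M K L : HomologicalComplex C c}
    [∀ i, HasBinaryBiproduct (K.X i) (L.X i)] (α : K ⟶ M) (β : L ⟶ M) (i : ι) :
    (HomologicalComplex.biprodXIso K L i).hom ≫ biprod.desc (α.f i) (β.f i) =
      (biprod.desc α β).f i := by
  rw [← cancel_epi (HomologicalComplex.biprodXIso K L i).inv, Iso.inv_hom_id_assoc]
  apply biprod.hom_ext' <;> simp

end General

section Abstract

variable {A : Type*} [Category A] [Abelian A] [HasDerivedCategory A]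
  {𝒞 : Type*} [Category 𝒞] [Abelian 𝒞] [HasDerivedCategory 𝒞]
  {P₀ P₁ P₂ P₃ : A ⥤ 𝒞} [P₀.Additive] [P₁.Additive] [P₂.Additive] [P₃.Additive]
  (α₁ : P₀ ⟶ P₁) (α₂ : P₀ ⟶ P₂) (β₁ : P₁ ⟶ P₃) (β₂ : P₂ ⟶ P₃)
  (w : α₁ ≫ β₁ = α₂ ≫ β₂)

/-- the objectwise Mayer–Vietoris short complex -/
noncomputable def sc (J : A) : ShortComplex 𝒞 :=
  ShortComplex.mk (biprod.lift (α₁.app J) (α₂.app J)) (biprod.desc (β₁.app J) (-(β₂.app J)))
    (by
      rw [biprod.lift_desc, Preadditive.comp_neg, ← NatTrans.comp_app, ← NatTrans.comp_app, w]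
      exact add_neg_cancel _)

/-- the Mayer–Vietoris short complex of complexes -/
noncomputable def scCx (I : CochainComplex A ℤ) : ShortComplex (CochainComplex 𝒞 ℤ) :=
  ShortComplex.mk
    (biprod.lift ((NatTrans.mapHomologicalComplex α₁ (ComplexShape.up ℤ)).app I)
      ((NatTrans.mapHomologicalComplex α₂ (ComplexShape.up ℤ)).app I))
    (biprod.desc ((NatTrans.mapHomologicalComplex β₁ (ComplexShape.up ℤ)).app I)
      (-((NatTrans.mapHomologicalComplex β₂ (ComplexShape.up ℤ)).app I)))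
    (by
      rw [biprod.lift_desc, Preadditive.comp_neg, ← NatTrans.comp_app, ← NatTrans.comp_app,
        ← NatTrans.mapHomologicalComplex_comp, ← NatTrans.mapHomologicalComplex_comp, w]
      exact add_neg_cancel _)

/-- degreewise comparison -/
noncomputable def scIso (I : CochainComplex A ℤ) (i : ℤ) :
    (scCx α₁ α₂ β₁ β₂ w I).map (HomologicalComplex.eval 𝒞 (ComplexShape.up ℤ) i) ≅
      sc α₁ α₂ β₁ β₂ w (I.X i) :=
  ShortComplex.isoMk (Iso.refl _) (HomologicalComplex.biprodXIso _ _ i) (Iso.refl _)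
    (by
      refine (Category.id_comp _).trans ?_
      exact (biprod_lift_f_biprodXIso_hom
        ((NatTrans.mapHomologicalComplex α₁ (ComplexShape.up ℤ)).app I)
        ((NatTrans.mapHomologicalComplex α₂ (ComplexShape.up ℤ)).app I) i).symm)
    (by
      refine Eq.trans ?_ (Category.comp_id _).symm
      exact biprodXIso_hom_biprod_desc_f
        ((NatTrans.mapHomologicalComplex β₁ (ComplexShape.up ℤ)).app I)
        (-((NatTrans.mapHomologicalComplex β₂ (ComplexShape.up ℤ)).app I)) i)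

lemma scCx_shortExact (I : CochainComplex A ℤ)
    (h : ∀ i, (sc α₁ α₂ β₁ β₂ w (I.X i)).ShortExact) :
    (scCx α₁ α₂ β₁ β₂ w I).ShortExact :=
  HomologicalComplex.shortExact_of_degreewise_shortExact _ (fun i =>
    ShortComplex.shortExact_of_iso (scIso α₁ α₂ β₁ β₂ w I i).symm (h i))

theorem exists_triangle
    (RP₀ RP₁ RP₂ RP₃ : DerivedCategory A ⥤ DerivedCategory 𝒞)
    (hres : ∀ E : DerivedCategory A, ∃ I : CochainComplex A ℤ, I.IsKInjective ∧
      (∀ n, Injective (I.X n)) ∧ Nonempty (E ≅ Q.obj I))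
    (hex : ∀ J : A, Injective J → (sc α₁ α₂ β₁ β₂ w J).ShortExact)
    (h₀ : ∀ I : CochainComplex A ℤ, I.IsKInjective →
      Nonempty (Q.obj ((P₀.mapHomologicalComplex (ComplexShape.up ℤ)).obj I) ≅ RP₀.obj (Q.obj I)))
    (h₁ : ∀ I : CochainComplex A ℤ, I.IsKInjective →
      Nonempty (Q.obj ((P₁.mapHomologicalComplex (ComplexShape.up ℤ)).obj I) ≅ RP₁.obj (Q.obj I)))
    (h₂ : ∀ I : CochainComplex A ℤ, I.IsKInjective →
      Nonempty (Q.obj ((P₂.mapHomologicalComplex (ComplexShape.up ℤ)).obj I) ≅ RP₂.obj (Q.obj I)))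
    (h₃ : ∀ I : CochainComplex A ℤ, I.IsKInjective →
      Nonempty (Q.obj ((P₃.mapHomologicalComplex (ComplexShape.up ℤ)).obj I) ≅ RP₃.obj (Q.obj I)))
    (E : DerivedCategory A) :
    ∃ (a : RP₀.obj E ⟶ RP₁.obj E ⊞ RP₂.obj E) (b : RP₁.obj E ⊞ RP₂.obj E ⟶ RP₃.obj E)
      (c : RP₃.obj E ⟶ (RP₀.obj E)⟦(1 : ℤ)⟧),
      Triangle.mk a b c ∈ distTriang (DerivedCategory 𝒞) := by
  obtain ⟨I, hI, hinj, ⟨e⟩⟩ := hres E
  obtain ⟨e₀⟩ := h₀ I hI
  obtain ⟨e₁⟩ := h₁ I hI
  obtain ⟨e₂⟩ := h₂ I hI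
  obtain ⟨e₃⟩ := h₃ I hI
  have hT := DerivedCategory.triangleOfSES_distinguished
    (scCx_shortExact α₁ α₂ β₁ β₂ w I (fun i => hex _ (hinj i)))
  haveI : PreservesBinaryBiproducts (DerivedCategory.Q (C := 𝒞)) :=
    preservesBinaryBiproducts_of_preservesBiproducts _
  exact exists_distinguished_of_isos _ hT
    (e₀ ≪≫ RP₀.mapIso e.symm)
    ((DerivedCategory.Q).mapBiprod _ _ ≪≫
      biprod.mapIso (e₁ ≪≫ RP₁.mapIso e.symm) (e₂ ≪≫ RP₂.mapIso e.symm))
    (e₃ ≪≫ RP₃.mapIso e.symm)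

end Abstract

section Unit

variable {B : Type*} [Category B] [Abelian B] [HasDerivedCategory B] [KInjDS.HasKInjRes B]
  {𝒞 : Type*} [Category 𝒞] [Abelian 𝒞] [HasDerivedCategory 𝒞]
  (F : B ⥤ 𝒞) [F.Additive]
  [(F.mapHomotopyCategory (ComplexShape.up ℤ) ⋙ Qh).HasRightDerivedFunctor
    (HomotopyCategory.quasiIso B (ComplexShape.up ℤ))]

/-- the total right derived functor of an additive functor -/
noncomputable abbrev RF : DerivedCategory B ⥤ DerivedCategory 𝒞 :=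
  (F.mapHomotopyCategory (ComplexShape.up ℤ) ⋙ Qh).totalRightDerived Qh
    (HomotopyCategory.quasiIso B (ComplexShape.up ℤ))

theorem nonempty_iso_RF (I : CochainComplex B ℤ) [I.IsKInjective] :
    Nonempty (Q.obj ((F.mapHomologicalComplex (ComplexShape.up ℤ)).obj I) ≅
      (RF F).obj (Q.obj I)) := by
  haveI := KInjDS.isIso_app_of_isKInjective
    (F.mapHomotopyCategory (ComplexShape.up ℤ) ⋙ Qh) Qh
    ((F.mapHomotopyCategory (ComplexShape.up ℤ) ⋙ Qh).totalRightDerivedUnit Qh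
      (HomotopyCategory.quasiIso B (ComplexShape.up ℤ))) I
  let e1 := asIso (((F.mapHomotopyCategory (ComplexShape.up ℤ) ⋙ Qh).totalRightDerivedUnit Qh
      (HomotopyCategory.quasiIso B (ComplexShape.up ℤ))).app
        ((HomotopyCategory.quotient B (ComplexShape.up ℤ)).obj I))
  let e2 : Q.obj ((F.mapHomologicalComplex (ComplexShape.up ℤ)).obj I) ≅
      (F.mapHomotopyCategory (ComplexShape.up ℤ) ⋙ Qh).obj
        ((HomotopyCategory.quotient B (ComplexShape.up ℤ)).obj I) :=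
    ((quotientCompQhIso 𝒞).app _).symm ≪≫
      Qh.mapIso ((F.mapHomotopyCategoryFactors (ComplexShape.up ℤ)).app I).symm
  let e3 : (Qh ⋙ RF F).obj ((HomotopyCategory.quotient B (ComplexShape.up ℤ)).obj I) ≅
      (RF F).obj (Q.obj I) := (RF F).mapIso ((quotientCompQhIso B).app I)
  exact ⟨e2 ≪≫ e1 ≪≫ e3⟩

variable {A : Type*} [Category A] [Abelian A] [HasDerivedCategory A]
  (R : A ⥤ B) [R.Additive] [PreservesFiniteLimits R] [PreservesFiniteColimits R]

theorem nonempty_iso_RF_comp (I : CochainComplex A ℤ)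
    (hI : CochainComplex.IsKInjective ((R.mapHomologicalComplex (ComplexShape.up ℤ)).obj I)) :
    Nonempty (Q.obj (((R ⋙ F).mapHomologicalComplex (ComplexShape.up ℤ)).obj I) ≅
      (R.mapDerivedCategory ⋙ RF F).obj (Q.obj I)) := by
  haveI := hI
  obtain ⟨e⟩ := nonempty_iso_RF F ((R.mapHomologicalComplex (ComplexShape.up ℤ)).obj I)
  let e0 : ((R ⋙ F).mapHomologicalComplex (ComplexShape.up ℤ)).obj I ≅
      (F.mapHomologicalComplex (ComplexShape.up ℤ)).obj
        ((R.mapHomologicalComplex (ComplexShape.up ℤ)).obj I) :=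
    ((Functor.mapHomologicalComplexCompIso (Iso.refl (R ⋙ F)) (ComplexShape.up ℤ)).app I).symm
  exact ⟨Q.mapIso e0 ≪≫ e ≪≫ (RF F).mapIso ((R.mapDerivedCategoryFactors).app I).symm⟩

end Unit

end Groth.Agent.H6.MVTri

universe u

namespace Groth.Agent.H6.MVTri

section Sch

open AlgebraicGeometry Groth.Agent.LD.QCQS

attribute [local instance] HasDerivedCategory.standard

lemma hres (X : Scheme.{u}) (E : DCoh.D X) :
    ∃ I : CochainComplex X.Modules ℤ, I.IsKInjective ∧ (∀ n, Injective (I.X n)) ∧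
      Nonempty (E ≅ Q.obj I) := by
  haveI := Groth.Agent.LD.QCGroth.isGrothendieckAbelian_modules X
  obtain ⟨I, g, hI, hg, -, hinj⟩ := KInjG.main (Q.objPreimage E)
  haveI := hg
  exact ⟨I, hI, hinj, ⟨(Q.objObjPreimageIso E).symm ≪≫ asIso (Q.map g)⟩⟩

variable {X Y : Scheme.{u}} (f : X ⟶ Y) (U V : X.Opens)

/-- `f_* ⟶ G_U` -/
noncomputable def a₁ : Scheme.Modules.pushforward f ⟶ G f U :=
  (GTopIso f).inv ≫ resG f le_top

lemma a₁_comp {U' : X.Opens} (h : U' ≤ U) : a₁ f U ≫ resG f h = a₁ f U' := by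
  rw [a₁, a₁, Category.assoc, resG_comp]

lemma w : a₁ f U ≫ resG f (inf_le_left : U ⊓ V ≤ U) = a₁ f V ≫ resG f (inf_le_right : U ⊓ V ≤ V) := by
  rw [a₁_comp, a₁_comp]

lemma resG_refl (O : X.Opens) : resG f (le_refl O) = 𝟙 _ := by
  ext M W : 3
  rw [resG_app_app]
  exact M.presheaf.map_id _

lemma isIso_resG_of_eq {O O' : X.Opens} (h : O' ≤ O) (h' : O = O') : IsIso (resG f h) := by
  subst h'
  rw [resG_refl]
  infer_instance

include V in
lemma shortExact_sc (hUV : U ⊔ V = ⊤) (J : X.Modules) (hJ : Injective J) :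
    (sc (a₁ f U) (a₁ f V) (resG f (inf_le_left : U ⊓ V ≤ U))
      (resG f (inf_le_right : U ⊓ V ≤ V)) (w f U V) J).ShortExact := by
  haveI : IsIso (resG f (le_top : U ⊔ V ≤ ⊤)) := isIso_resG_of_eq f _ hUV.symm
  let e₁ : (Scheme.Modules.pushforward f).obj J ≅ (G f (U ⊔ V)).obj J :=
    (GTopIso f).symm.app J ≪≫ asIso ((resG f (le_top : U ⊔ V ≤ ⊤)).app J)
  have h := shortExact_MV f U V J hJ
  refine ShortComplex.shortExact_of_iso
    (ShortComplex.isoMk (S₁ := ShortComplex.mk ((αMV f U V).app J) ((βMV f U V).app J)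
        (Groth.Agent.LD.SC.FunSES.app_comp_app _ _ (wMV f U V) J))
      (S₂ := sc (a₁ f U) (a₁ f V)
        (resG f (inf_le_left : U ⊓ V ≤ U)) (resG f (inf_le_right : U ⊓ V ≤ V)) (w f U V) J)
      e₁.symm (Iso.refl _) (Iso.refl _) ?_ ?_) h
  · change e₁.inv ≫ biprod.lift ((a₁ f U).app J) ((a₁ f V).app J) =
      biprod.lift ((resG f le_sup_left).app J) ((resG f le_sup_right).app J) ≫
        𝟙 ((G f U).obj J ⊞ (G f V).obj J)
    rw [Category.comp_id, Iso.inv_comp_eq]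
    apply biprod.hom_ext
    · rw [biprod.lift_fst, Category.assoc, biprod.lift_fst]
      change _ = ((GTopIso f).inv.app J ≫ (resG f le_top).app J) ≫ _
      rw [Category.assoc, ← NatTrans.comp_app, resG_comp]
      rfl
    · rw [biprod.lift_snd, Category.assoc, biprod.lift_snd]
      change _ = ((GTopIso f).inv.app J ≫ (resG f le_top).app J) ≫ _
      rw [Category.assoc, ← NatTrans.comp_app, resG_comp]
      rfl
  · change 𝟙 ((G f U).obj J ⊞ (G f V).obj J) ≫
        biprod.desc ((resG f inf_le_left).app J) (-(resG f inf_le_right).app J) =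
      (biprod.fst ≫ (resG f inf_le_left).app J - biprod.snd ≫ (resG f inf_le_right).app J) ≫
        𝟙 ((G f (U ⊓ V)).obj J)
    rw [Category.id_comp, Category.comp_id]
    apply biprod.hom_ext'
    · rw [biprod.inl_desc, Preadditive.comp_sub, biprod.inl_fst_assoc, biprod.inl_snd_assoc,
        zero_comp, sub_zero]
    · rw [biprod.inr_desc, Preadditive.comp_sub, biprod.inr_fst_assoc, biprod.inr_snd_assoc,
        zero_comp, zero_sub]

variable [DCoh.HasRpush f] [DCoh.HasRpush (U.ι ≫ f)] [DCoh.HasRpush (V.ι ≫ f)]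
  [DCoh.HasRpush ((U ⊓ V).ι ≫ f)]
  [PreservesFiniteLimits (Scheme.Modules.restrictFunctor U.ι)]
  [PreservesFiniteLimits (Scheme.Modules.restrictFunctor V.ι)]
  [PreservesFiniteLimits (Scheme.Modules.restrictFunctor (U ⊓ V).ι)]

theorem s6511 (hUV : U ⊔ V = ⊤) (E : DCoh.D X) :
    ∃ (a : (DCoh.Rpush f).obj E ⟶ ((DCoh.Rpush (U.ι ≫ f)).obj ((DCoh.restrictD U.ι).obj E) ⊞
        (DCoh.Rpush (V.ι ≫ f)).obj ((DCoh.restrictD V.ι).obj E)))
      (b : ((DCoh.Rpush (U.ι ≫ f)).obj ((DCoh.restrictD U.ι).obj E) ⊞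
        (DCoh.Rpush (V.ι ≫ f)).obj ((DCoh.restrictD V.ι).obj E)) ⟶
        (DCoh.Rpush ((U ⊓ V).ι ≫ f)).obj ((DCoh.restrictD (U ⊓ V).ι).obj E))
      (c : (DCoh.Rpush ((U ⊓ V).ι ≫ f)).obj ((DCoh.restrictD (U ⊓ V).ι).obj E) ⟶
        ((DCoh.Rpush f).obj E)⟦(1 : ℤ)⟧),
      Pretriangulated.Triangle.mk a b c ∈ Pretriangulated.distinguishedTriangles :=
  exists_triangle (a₁ f U) (a₁ f V) (resG f inf_le_left) (resG f inf_le_right) (w f U V)
    (DCoh.Rpush f) (DCoh.restrictD U.ι ⋙ DCoh.Rpush (U.ι ≫ f))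
    (DCoh.restrictD V.ι ⋙ DCoh.Rpush (V.ι ≫ f))
    (DCoh.restrictD (U ⊓ V).ι ⋙ DCoh.Rpush ((U ⊓ V).ι ≫ f))
    (hres X) (shortExact_sc f U V hUV)
    (fun I hI => by
      haveI := hI
      exact nonempty_iso_RF (Scheme.Modules.pushforward f) I)
    (fun I hI => by
      haveI := hI
      exact nonempty_iso_RF_comp (Scheme.Modules.pushforward (U.ι ≫ f))
        (Scheme.Modules.restrictFunctor U.ι) I (RpRes.isKInjective_restrict U.ι I))
    (fun I hI => by
      haveI := hI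
      exact nonempty_iso_RF_comp (Scheme.Modules.pushforward (V.ι ≫ f))
        (Scheme.Modules.restrictFunctor V.ι) I (RpRes.isKInjective_restrict V.ι I))
    (fun I hI => by
      haveI := hI
      exact nonempty_iso_RF_comp (Scheme.Modules.pushforward ((U ⊓ V).ι ≫ f))
        (Scheme.Modules.restrictFunctor (U ⊓ V).ι) I (RpRes.isKInjective_restrict (U ⊓ V).ι I))
    E

end Sch

end Groth.Agent.H6.MVTri
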