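import Mathlib
import Groth.Prelude.Def_MeroDiv
import Groth.Agent.S12513
import Groth.Agent.Lib.Helper6.DepthOne
import Groth.Agent.Lib.Helper1.Depth2Ext2

/-! Divisors (in the sense of `Mero`) on locally Noetherian schemes and points of depth one. -/

set_option autoImplicit false
universe u
open CategoryTheory AlgebraicGeometry TopologicalSpace Opposite

namespace Groth.Agent.H6.MeroDepth

section Alg

theorem nzd_of_mul {A : Type*} [CommRing A] {a t b : A} (ha : a ∈ nonZeroDivisors A)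
    (h : a = t * b) : t ∈ nonZeroDivisors A := by
  rw [mem_nonZeroDivisors_iff_right]
  intro x hx
  apply (mem_nonZeroDivisors_iff_right.mp ha) x
  rw [h, ← mul_assoc, hx, zero_mul]

variable {R : Type u} [CommRing R] [IsNoetherianRing R]

/-- if `a ∈ b R_Q` for all primes `Q ⊆ P` with `depth R_Q = 1` (`b` regular), then `a ∈ b R_P`. -/
theorem exists_mul_eq_of_forall_depth_one (a b : R) (hb : IsSMulRegular R b) (P : Ideal R)
    [P.IsPrime]
    (h : ∀ (Q : Ideal R) [Q.IsPrime], Q ≤ P →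
      LocCoh.depth (Localization.AtPrime Q) (Localization.AtPrime Q) = 1 →
        ∃ s, s ∉ Q ∧ ∃ c, s * a = c * b) :
    ∃ s, s ∉ P ∧ ∃ c, s * a = c * b := by
  classical
  by_contra hcon
  let m : R ⧸ Ideal.span {b} := Ideal.Quotient.mk _ a
  let N : Submodule R (R ⧸ Ideal.span {b}) := Submodule.span R {m}
  haveI : Module.Finite R N := Module.Finite.span_of_finite R (Set.finite_singleton m)
  have hI : ∀ s : R, s ∈ N.annihilator ↔ ∃ c, s * a = c * b := by
    intro s
    rw [Submodule.mem_annihilator_span_singleton]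
    change s • (Ideal.Quotient.mk (Ideal.span {b}) a) = 0 ↔ _
    rw [Algebra.smul_def, Ideal.Quotient.algebraMap_eq, ← map_mul,
      Ideal.Quotient.eq_zero_iff_mem, Ideal.mem_span_singleton']
    constructor <;> rintro ⟨c, hc⟩ <;> exact ⟨c, hc.symm⟩
  have hIP : N.annihilator ≤ P := by
    intro s hs
    by_contra hsP
    exact hcon ⟨s, hsP, (hI s).mp hs⟩
  obtain ⟨Q, hQmin, hQP⟩ := Ideal.exists_minimalPrimes_le hIP
  haveI : Q.IsPrime := hQmin.1.1
  have hQass : Q ∈ associatedPrimes R N :=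
    Module.associatedPrimes.minimalPrimes_annihilator_subset_associatedPrimes R N hQmin
  have hQass' : Q ∈ associatedPrimes R (R ⧸ Ideal.span {b}) :=
    associatedPrimes.subset_of_injective (f := N.subtype) N.injective_subtype hQass
  have hd := Groth.Agent.H6.DepthOne.depth_eq_one_of_mem_associatedPrimes b hb Q hQass'
  obtain ⟨s, hsQ, c, hc⟩ := h Q hQP hd
  exact hsQ (hQmin.1.2 ((hI s).mpr ⟨c, hc⟩))

end Alg

section Pointwise

variable {X : Scheme.{u}} (y : X)

theorem mk_mul_algebraMap (α : X.presheaf.stalk y) (β : Mero.regStalk X y) :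
    (LocalizedModule.mk α β : Mero.KStalk X y) *
        algebraMap (X.presheaf.stalk y) (Mero.KStalk X y) (β : X.presheaf.stalk y) =
      algebraMap (X.presheaf.stalk y) (Mero.KStalk X y) α := by
  change (LocalizedModule.mk α β : Mero.KStalk X y) *
    LocalizedModule.mk (β : X.presheaf.stalk y) 1 = LocalizedModule.mk α 1
  refine LocalizedModule.mk_mul_mk.trans ?_
  rw [LocalizedModule.mk_eq]
  refine ⟨1, ?_⟩
  simp only [one_smul, Submonoid.smul_def, smul_eq_mul, Submonoid.coe_mul, Submonoid.coe_one]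
  ring

theorem nzd_of_isUnit_algebraMap (α : X.presheaf.stalk y)
    (h : IsUnit (algebraMap (X.presheaf.stalk y) (Mero.KStalk X y) α)) :
    α ∈ nonZeroDivisors (X.presheaf.stalk y) := by
  obtain ⟨w, hw⟩ := h.exists_right_inv
  obtain ⟨c, s, rfl⟩ := IsLocalization.exists_mk'_eq (Mero.regStalk X y) w
  have h1 : algebraMap (X.presheaf.stalk y) (Mero.KStalk X y) (α * c) =
      algebraMap (X.presheaf.stalk y) (Mero.KStalk X y) (s : X.presheaf.stalk y) := by
    have h2 := congrArg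
      (· * algebraMap (X.presheaf.stalk y) (Mero.KStalk X y) (s : X.presheaf.stalk y)) hw
    simp only [one_mul, mul_assoc, IsLocalization.mk'_spec] at h2
    rw [map_mul]
    exact h2
  have h3 := Mero.algebraMap_KStalk_injective y h1
  exact nzd_of_mul (Mero.regStalk_le_nonZeroDivisors y s.2) h3.symm

variable (u : (Mero.KStalk X y)ˣ) (α : X.presheaf.stalk y) (β : Mero.regStalk X y)
  (hval : (u : Mero.KStalk X y) *
      algebraMap (X.presheaf.stalk y) (Mero.KStalk X y) (β : X.presheaf.stalk y) =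
    algebraMap (X.presheaf.stalk y) (Mero.KStalk X y) α)

include hval in
theorem val_eq_of_mul (t : X.presheaf.stalk y) (h : α = t * (β : X.presheaf.stalk y)) :
    (u : Mero.KStalk X y) = algebraMap (X.presheaf.stalk y) (Mero.KStalk X y) t := by
  have hβ : IsUnit (algebraMap (X.presheaf.stalk y) (Mero.KStalk X y)
      (β : X.presheaf.stalk y)) := IsLocalization.map_units _ β
  apply hβ.mul_left_injective
  change (u : Mero.KStalk X y) * _ = algebraMap _ _ t * _
  rw [hval, h, map_mul]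

include hval in
theorem exists_mul_of_mk_eq (c : Mero.regStalk X y)
    (h : (QuotientGroup.mk u : Mero.Germ X y) =
      QuotientGroup.mk (IsLocalization.map_units (Mero.KStalk X y) c).unit) :
    ∃ t, α = t * (β : X.presheaf.stalk y) := by
  have h1 : u⁻¹ * (IsLocalization.map_units (Mero.KStalk X y) c).unit ∈ Mero.stalkUnits X y :=
    QuotientGroup.eq.mp h
  obtain ⟨v, hv⟩ : ∃ v : (X.presheaf.stalk y)ˣ,
      Units.map (algebraMap (X.presheaf.stalk y) (Mero.KStalk X y)).toMonoidHom v =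
        u⁻¹ * (IsLocalization.map_units (Mero.KStalk X y) c).unit := h1
  have hv' : algebraMap (X.presheaf.stalk y) (Mero.KStalk X y) (v : X.presheaf.stalk y) =
      ((u⁻¹ : (Mero.KStalk X y)ˣ) : Mero.KStalk X y) *
        algebraMap (X.presheaf.stalk y) (Mero.KStalk X y) (c : X.presheaf.stalk y) := by
    have := congrArg Units.val hv
    simpa using this
  have h2 : (u : Mero.KStalk X y) *
      algebraMap (X.presheaf.stalk y) (Mero.KStalk X y) (v : X.presheaf.stalk y) =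
      algebraMap (X.presheaf.stalk y) (Mero.KStalk X y) (c : X.presheaf.stalk y) := by
    rw [hv', ← mul_assoc, Units.mul_inv, one_mul]
  have h3 : algebraMap (X.presheaf.stalk y) (Mero.KStalk X y) (α * v) =
      algebraMap (X.presheaf.stalk y) (Mero.KStalk X y)
        ((c : X.presheaf.stalk y) * (β : X.presheaf.stalk y)) := by
    rw [map_mul, map_mul, ← hval, ← h2]
    ring
  have h4 := Mero.algebraMap_KStalk_injective y h3
  refine ⟨c * ((v⁻¹ : (X.presheaf.stalk y)ˣ) : X.presheaf.stalk y), ?_⟩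
  calc α = α * v * ((v⁻¹ : (X.presheaf.stalk y)ˣ) : X.presheaf.stalk y) := by
        rw [mul_assoc, Units.mul_inv, mul_one]
    _ = _ := by rw [h4]; ring

include hval in
theorem mk_eq_of_mul (t : X.presheaf.stalk y) (ht : t ∈ Mero.regStalk X y)
    (h : α = t * (β : X.presheaf.stalk y)) :
    (QuotientGroup.mk u : Mero.Germ X y) =
      QuotientGroup.mk (IsLocalization.map_units (Mero.KStalk X y)
        (⟨t, ht⟩ : Mero.regStalk X y)).unit := by
  congr 1
  apply Units.ext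
  rw [IsUnit.unit_spec]
  exact val_eq_of_mul y u α β hval t h

include hval in
theorem exists_mul_of_mk_eq_one (h : (QuotientGroup.mk u : Mero.Germ X y) = 1) :
    (∃ t, α = t * (β : X.presheaf.stalk y)) ∧ ∃ t, (β : X.presheaf.stalk y) = t * α := by
  have h1 : u ∈ Mero.stalkUnits X y := (QuotientGroup.eq_one_iff u).mp h
  obtain ⟨v, hv⟩ : ∃ v : (X.presheaf.stalk y)ˣ,
      Units.map (algebraMap (X.presheaf.stalk y) (Mero.KStalk X y)).toMonoidHom v = u := h1
  have hv' : algebraMap (X.presheaf.stalk y) (Mero.KStalk X y) (v : X.presheaf.stalk y) =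
      (u : Mero.KStalk X y) := by
    have := congrArg Units.val hv
    simpa using this
  have h3 : algebraMap (X.presheaf.stalk y) (Mero.KStalk X y)
      ((v : X.presheaf.stalk y) * (β : X.presheaf.stalk y)) =
      algebraMap (X.presheaf.stalk y) (Mero.KStalk X y) α := by
    rw [map_mul, hv', hval]
  have h4 := Mero.algebraMap_KStalk_injective y h3
  refine ⟨⟨v, h4.symm⟩, ⟨((v⁻¹ : (X.presheaf.stalk y)ˣ) : X.presheaf.stalk y), ?_⟩⟩
  rw [← h4, ← mul_assoc, Units.inv_mul, one_mul]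

include hval in
theorem mk_eq_one_of_mul (hα : α ∈ nonZeroDivisors (X.presheaf.stalk y))
    (t t' : X.presheaf.stalk y) (h : α = t * (β : X.presheaf.stalk y))
    (h' : (β : X.presheaf.stalk y) = t' * α) :
    (QuotientGroup.mk u : Mero.Germ X y) = 1 := by
  have h0 : α = t * t' * α := by
    rw [mul_assoc, ← h', ← h]
  have h1 : (t * t' - 1) * α = 0 := by
    rw [sub_mul, one_mul, ← h0, sub_self]
  have h2 : t * t' = 1 := sub_eq_zero.mp ((mem_nonZeroDivisors_iff_right.mp hα) _ h1)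
  rw [QuotientGroup.eq_one_iff]
  refine ⟨⟨t, t', h2, by rw [mul_comm]; exact h2⟩, Units.ext ?_⟩
  change algebraMap (X.presheaf.stalk y) (Mero.KStalk X y) t = (u : Mero.KStalk X y)
  exact (val_eq_of_mul y u α β hval t h).symm

/-- a factor of the germ of a regular section by the germ of a regular section is again the germ
of a regular section -/
theorem mem_regStalk_of_mul (t α' : X.presheaf.stalk y) (β' : Mero.regStalk X y)
    (hα : α' ∈ Mero.regStalk X y) (h : α' = t * (β' : X.presheaf.stalk y)) :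
    t ∈ Mero.regStalk X y := by
  obtain ⟨U1, h1, a, ha, rfl⟩ := hα
  obtain ⟨U2, h2, b, hb, hβ⟩ := β'.2
  obtain ⟨U3, h3, τ, rfl⟩ := TopCat.Presheaf.exists_germ_eq X.presheaf t
  have hyU : y ∈ U1 ⊓ U2 ⊓ U3 := ⟨⟨h1, h2⟩, h3⟩
  let i1 : U1 ⊓ U2 ⊓ U3 ⟶ U1 := homOfLE (inf_le_left.trans inf_le_left)
  let i2 : U1 ⊓ U2 ⊓ U3 ⟶ U2 := homOfLE (inf_le_left.trans inf_le_right)
  let i3 : U1 ⊓ U2 ⊓ U3 ⟶ U3 := homOfLE inf_le_right
  have hgerm : X.presheaf.germ (U1 ⊓ U2 ⊓ U3) y hyU (X.presheaf.map i1.op a) =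
      X.presheaf.germ (U1 ⊓ U2 ⊓ U3) y hyU
        (X.presheaf.map i3.op τ * X.presheaf.map i2.op b) := by
    rw [map_mul, TopCat.Presheaf.germ_res_apply, TopCat.Presheaf.germ_res_apply,
      TopCat.Presheaf.germ_res_apply, hβ]
    exact h
  obtain ⟨W, hyW, iU, iV, hW⟩ := TopCat.Presheaf.germ_eq X.presheaf y hyU hyU _ _ hgerm
  refine ⟨W, hyW, X.presheaf.map (iU ≫ i3).op τ, ?_, ?_⟩
  · intro z
    have hz := congrArg (X.presheaf.germ W z.1 z.2) hW
    simp only [map_mul, TopCat.Presheaf.germ_res_apply] at hz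
    change X.presheaf.germ W z.1 z.2 (X.presheaf.map (iU ≫ i3).op τ) ∈ _
    rw [TopCat.Presheaf.germ_res_apply]
    exact nzd_of_mul (ha ⟨z.1, (iU ≫ i1).le z.2⟩) hz
  · rw [TopCat.Presheaf.germ_res_apply]

end Pointwise

section Local

variable {X : Scheme.{u}}

/-- near any point a divisor is `a / b` with `a`, `b` regular sections -/
theorem exists_local_form (D : Mero.Divisor X) (x : X) :
    ∃ (V : X.Opens) (_ : x ∈ V) (a b : Γ(X, V)), a ∈ Mero.regSub X V ∧ b ∈ Mero.regSub X V ∧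
      ∀ y : V, ∃ u : (Mero.KStalk X y.1)ˣ, D.1 y.1 = QuotientGroup.mk u ∧
        (u : Mero.KStalk X y.1) * algebraMap (X.presheaf.stalk y.1) (Mero.KStalk X y.1)
            (X.presheaf.germ V y.1 y.2 b) =
          algebraMap (X.presheaf.stalk y.1) (Mero.KStalk X y.1)
            (X.presheaf.germ V y.1 y.2 a) := by
  have hD : ∀ x : X, ∃ (U : X.Opens) (hx : x ∈ U) (f : (Γ(Mero.kmod X, U))ˣ),
      ∀ y : U, D.1 y.1 = Mero.germOf f y := D.2
  obtain ⟨U, hxU, f, hf⟩ := hD x
  obtain ⟨V, hxV, i, a, b, hab⟩ := f.1.2 ⟨x, hxU⟩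
  have hval : ∀ z : V,
      ((Units.map (Mero.evalK X U (i z)).toMonoidHom f : (Mero.KStalk X z.1)ˣ) :
          Mero.KStalk X z.1) *
        algebraMap (X.presheaf.stalk z.1) (Mero.KStalk X z.1)
          (X.presheaf.germ V z.1 z.2 b.1) =
        algebraMap (X.presheaf.stalk z.1) (Mero.KStalk X z.1)
          (X.presheaf.germ V z.1 z.2 a) := by
    intro z
    have h1 : (f.1.1 (i z) : Mero.KStalk X z.1) =
        LocalizedModule.mk (X.presheaf.germ V z.1 z.2 a) (Mero.regGerm z b) := hab z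
    have h2 : ((Units.map (Mero.evalK X U (i z)).toMonoidHom f : (Mero.KStalk X z.1)ˣ) :
        Mero.KStalk X z.1) = f.1.1 (i z) := rfl
    rw [h2, h1]
    exact mk_mul_algebraMap z.1 _ (Mero.regGerm z b)
  have ha : a ∈ Mero.regSub X V := by
    intro z
    apply nzd_of_isUnit_algebraMap
    rw [← hval z]
    exact (Units.isUnit _).mul (IsLocalization.map_units _ (Mero.regGerm z b))
  exact ⟨V, hxV, a, b.1, ha, b.2, fun y => ⟨_, hf (i y), hval y⟩⟩

theorem isEffectiveAt_iff {D : Mero.Divisor X} {V : X.Opens} {a b : Γ(X, V)}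
    (ha : a ∈ Mero.regSub X V) (hb : b ∈ Mero.regSub X V) (y : V)
    (u : (Mero.KStalk X y.1)ˣ) (hu : D.1 y.1 = QuotientGroup.mk u)
    (hval : (u : Mero.KStalk X y.1) * algebraMap (X.presheaf.stalk y.1) (Mero.KStalk X y.1)
        (X.presheaf.germ V y.1 y.2 b) =
      algebraMap (X.presheaf.stalk y.1) (Mero.KStalk X y.1) (X.presheaf.germ V y.1 y.2 a)) :
    Mero.IsEffectiveAt D y.1 ↔
      ∃ t, X.presheaf.germ V y.1 y.2 a = t * X.presheaf.germ V y.1 y.2 b := by
  constructor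
  · rintro ⟨c, hc⟩
    rw [hu] at hc
    exact exists_mul_of_mk_eq y.1 u _ (Mero.regGerm y ⟨b, hb⟩) hval c hc
  · rintro ⟨t, ht⟩
    have htS : t ∈ Mero.regStalk X y.1 :=
      mem_regStalk_of_mul y.1 t _ (Mero.regGerm y ⟨b, hb⟩) (Mero.germ_mem_regStalk y ha) ht
    exact ⟨⟨t, htS⟩, hu.trans (mk_eq_of_mul y.1 u _ (Mero.regGerm y ⟨b, hb⟩) hval t htS ht)⟩

theorem eq_one_iff {D : Mero.Divisor X} {V : X.Opens} {a b : Γ(X, V)}
    (ha : a ∈ Mero.regSub X V) (hb : b ∈ Mero.regSub X V) (y : V)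
    (u : (Mero.KStalk X y.1)ˣ) (hu : D.1 y.1 = QuotientGroup.mk u)
    (hval : (u : Mero.KStalk X y.1) * algebraMap (X.presheaf.stalk y.1) (Mero.KStalk X y.1)
        (X.presheaf.germ V y.1 y.2 b) =
      algebraMap (X.presheaf.stalk y.1) (Mero.KStalk X y.1) (X.presheaf.germ V y.1 y.2 a)) :
    D.1 y.1 = 1 ↔
      (∃ t, X.presheaf.germ V y.1 y.2 a = t * X.presheaf.germ V y.1 y.2 b) ∧
        ∃ t, X.presheaf.germ V y.1 y.2 b = t * X.presheaf.germ V y.1 y.2 a := by
  constructor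
  · intro h
    rw [hu] at h
    exact exists_mul_of_mk_eq_one y.1 u _ (Mero.regGerm y ⟨b, hb⟩) hval h
  · rintro ⟨⟨t, ht⟩, ⟨t', ht'⟩⟩
    rw [hu]
    exact mk_eq_one_of_mul y.1 u _ (Mero.regGerm y ⟨b, hb⟩) hval (ha y) t t' ht ht'

/-- an affine chart on which the divisor is `a / b` -/
theorem exists_chart (D : Mero.Divisor X) (x : X) :
    ∃ (W : X.Opens) (_ : IsAffineOpen W) (_ : x ∈ W) (a b : Γ(X, W)),
      a ∈ Mero.regSub X W ∧ b ∈ Mero.regSub X W ∧
      (∀ (y : X) (hy : y ∈ W), Mero.IsEffectiveAt D y ↔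
        ∃ t, X.presheaf.germ W y hy a = t * X.presheaf.germ W y hy b) ∧
      (∀ (y : X) (hy : y ∈ W), D.1 y = 1 ↔
        (∃ t, X.presheaf.germ W y hy a = t * X.presheaf.germ W y hy b) ∧
          ∃ t, X.presheaf.germ W y hy b = t * X.presheaf.germ W y hy a) := by
  obtain ⟨V, hxV, a, b, ha, hb, hV⟩ := exists_local_form D x
  obtain ⟨_, ⟨W, hW, rfl⟩, hxW, hWV⟩ :=
    X.isBasis_affineOpens.exists_subset_of_mem_open hxV V.isOpen
  have hWV' : W ≤ V := hWV
  refine ⟨W, hW, hxW, X.presheaf.map (homOfLE hWV').op a, X.presheaf.map (homOfLE hWV').op b,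
    Mero.regSub_res (homOfLE hWV') ha, Mero.regSub_res (homOfLE hWV') hb, ?_, ?_⟩
  · intro y hy
    obtain ⟨u, hu, hval⟩ := hV ⟨y, hWV' hy⟩
    refine (isEffectiveAt_iff ha hb ⟨y, hWV' hy⟩ u hu hval).trans ?_
    simp only [TopCat.Presheaf.germ_res_apply]
  · intro y hy
    obtain ⟨u, hu, hval⟩ := hV ⟨y, hWV' hy⟩
    refine (eq_one_iff ha hb ⟨y, hWV' hy⟩ u hu hval).trans ?_
    simp only [TopCat.Presheaf.germ_res_apply]

end Local

section Affine

variable {X : Scheme.{u}}

theorem fromSpec_mem {W : X.Opens} (hW : IsAffineOpen W) (P : Spec Γ(X, W)) :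
    hW.fromSpec P ∈ W := by
  have : hW.fromSpec P ∈ hW.fromSpec.opensRange := ⟨P, rfl⟩
  rwa [hW.opensRange_fromSpec] at this

theorem primeIdealOf_fromSpec {W : X.Opens} (hW : IsAffineOpen W) (P : Spec Γ(X, W))
    (h : hW.fromSpec P ∈ W) : hW.primeIdealOf ⟨hW.fromSpec P, h⟩ = P := by
  apply hW.fromSpec.isOpenEmbedding.injective
  rw [hW.fromSpec_primeIdealOf]

theorem germ_dvd_iff {W : X.Opens} (hW : IsAffineOpen W) (y : X) (hy : y ∈ W)
    (a b : Γ(X, W)) :
    (∃ t, X.presheaf.germ W y hy a = t * X.presheaf.germ W y hy b) ↔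
      ∃ s, s ∉ (hW.primeIdealOf ⟨y, hy⟩).asIdeal ∧ ∃ c, s * a = c * b := by
  letI := X.presheaf.algebra_section_stalk (⟨y, hy⟩ : W)
  haveI := hW.isLocalization_stalk ⟨y, hy⟩
  have halg : ∀ r : Γ(X, W),
      algebraMap Γ(X, W) (X.presheaf.stalk y) r = X.presheaf.germ W y hy r := fun r => rfl
  constructor
  · rintro ⟨t, ht⟩
    obtain ⟨c, s, rfl⟩ :=
      IsLocalization.exists_mk'_eq (hW.primeIdealOf ⟨y, hy⟩).asIdeal.primeCompl t
    have h1 : algebraMap Γ(X, W) (X.presheaf.stalk y) ((s : Γ(X, W)) * a) =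
        algebraMap Γ(X, W) (X.presheaf.stalk y) (c * b) := by
      rw [map_mul, map_mul, halg a, ht, halg b, ← mul_assoc,
        mul_comm (algebraMap Γ(X, W) (X.presheaf.stalk y) (s : Γ(X, W))),
        IsLocalization.mk'_spec]
    obtain ⟨s', hs'⟩ :=
      (IsLocalization.eq_iff_exists (hW.primeIdealOf ⟨y, hy⟩).asIdeal.primeCompl _).mp h1
    refine ⟨((s' * s : (hW.primeIdealOf ⟨y, hy⟩).asIdeal.primeCompl) : Γ(X, W)),
      (s' * s).2, (s' : Γ(X, W)) * c, ?_⟩
    rw [Submonoid.coe_mul, mul_assoc, hs', mul_assoc]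
  · rintro ⟨s, hs, c, hc⟩
    have hu : IsUnit (X.presheaf.germ W y hy s) :=
      IsLocalization.map_units (X.presheaf.stalk y)
        (⟨s, hs⟩ : (hW.primeIdealOf ⟨y, hy⟩).asIdeal.primeCompl)
    obtain ⟨v, hv⟩ := hu
    have h1 := congrArg (X.presheaf.germ W y hy) hc
    rw [map_mul, map_mul, ← hv] at h1
    refine ⟨((v⁻¹ : (X.presheaf.stalk y)ˣ) : X.presheaf.stalk y) * X.presheaf.germ W y hy c, ?_⟩
    calc X.presheaf.germ W y hy a
        = ((v⁻¹ : (X.presheaf.stalk y)ˣ) : X.presheaf.stalk y) *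
            ((v : X.presheaf.stalk y) * X.presheaf.germ W y hy a) := by
          rw [← mul_assoc, Units.inv_mul, one_mul]
      _ = _ := by rw [h1, mul_assoc]

variable [IsLocallyNoetherian X]

theorem depth_stalk_fromSpec {W : X.Opens} (hW : IsAffineOpen W)
    (Q : PrimeSpectrum Γ(X, W)) :
    LocCoh.depth (X.presheaf.stalk (hW.fromSpec Q)) (X.presheaf.stalk (hW.fromSpec Q)) =
      LocCoh.depth (Localization.AtPrime Q.asIdeal) (Localization.AtPrime Q.asIdeal) := by
  haveI : IsNoetherianRing Γ(X, W) := IsLocallyNoetherian.component_noetherian ⟨W, hW⟩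
  rw [Groth.Agent.H1.Depth2Ext.depth_stalk_eq hW Q (fromSpec_mem hW Q),
    Groth.Agent.H6.DepthOne.depth_self_eq]

/-- divisibility of germs at `x` follows from divisibility at the depth-one generizations of `x` -/
theorem exists_mul_eq_at {W : X.Opens} (hW : IsAffineOpen W) (a b : Γ(X, W))
    (hb : b ∈ Mero.regSub X W) (x : X) (hx : x ∈ W)
    (h : ∀ (z : X) (hz : z ∈ W), z ⤳ x →
      LocCoh.depth (X.presheaf.stalk z) (X.presheaf.stalk z) = 1 →
        ∃ t, X.presheaf.germ W z hz a = t * X.presheaf.germ W z hz b) :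
    ∃ t, X.presheaf.germ W x hx a = t * X.presheaf.germ W x hx b := by
  haveI : IsNoetherianRing Γ(X, W) := IsLocallyNoetherian.component_noetherian ⟨W, hW⟩
  rw [germ_dvd_iff hW x hx a b]
  have hbreg : IsSMulRegular Γ(X, W) b := by
    have hb' : b ∈ nonZeroDivisors Γ(X, W) := by
      rw [← Groth.Agent.S12513.result X W hW]
      exact hb
    intro r s hrs
    have h0 : b * (r - s) = 0 := by
      rw [mul_sub]
      exact sub_eq_zero.mpr hrs
    exact sub_eq_zero.mp ((mem_nonZeroDivisors_iff.mp hb').1 _ h0)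
  apply exists_mul_eq_of_forall_depth_one a b hbreg (hW.primeIdealOf ⟨x, hx⟩).asIdeal
  intro Q hQ hQP hd
  have hzW : hW.fromSpec (⟨Q, hQ⟩ : PrimeSpectrum Γ(X, W)) ∈ W := fromSpec_mem hW _
  have hspec : hW.fromSpec (⟨Q, hQ⟩ : PrimeSpectrum Γ(X, W)) ⤳ x := by
    have h1 : (⟨Q, hQ⟩ : PrimeSpectrum Γ(X, W)) ⤳ hW.primeIdealOf ⟨x, hx⟩ :=
      (PrimeSpectrum.le_iff_specializes _ _).mp hQP
    have h2 := h1.map hW.fromSpec.continuous
    rwa [hW.fromSpec_primeIdealOf ⟨x, hx⟩] at h2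
  have hdz : LocCoh.depth (X.presheaf.stalk (hW.fromSpec (⟨Q, hQ⟩ : PrimeSpectrum Γ(X, W))))
      (X.presheaf.stalk (hW.fromSpec (⟨Q, hQ⟩ : PrimeSpectrum Γ(X, W)))) = 1 := by
    rw [depth_stalk_fromSpec hW ⟨Q, hQ⟩]
    exact hd
  have h3 := h _ hzW hspec hdz
  rw [germ_dvd_iff hW _ hzW a b, primeIdealOf_fromSpec hW _ hzW] at h3
  exact h3

theorem s5098 (X : Scheme.{u}) [IsLocallyNoetherian X] (D : Mero.Divisor X) :
    ((∀ x : X, LocCoh.depth (X.presheaf.stalk x) (X.presheaf.stalk x) = 1 →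
        Mero.IsEffectiveAt D x) → Mero.IsEffective D) ∧
      ((∀ x : X, LocCoh.depth (X.presheaf.stalk x) (X.presheaf.stalk x) = 1 → D.1 x = 1) →
        D = 1) := by
  constructor
  · intro h x
    obtain ⟨W, hW, hxW, a, b, ha, hb, heff, hone⟩ := exists_chart D x
    rw [heff x hxW]
    exact exists_mul_eq_at hW a b hb x hxW (fun z hz _ hd => (heff z hz).mp (h z hd))
  · intro h
    apply Subtype.ext
    funext x
    obtain ⟨W, hW, hxW, a, b, ha, hb, heff, hone⟩ := exists_chart D x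
    change D.1 x = 1
    rw [hone x hxW]
    exact ⟨exists_mul_eq_at hW a b hb x hxW (fun z hz _ hd => ((hone z hz).mp (h z hd)).1),
      exists_mul_eq_at hW b a ha x hxW (fun z hz _ hd => ((hone z hz).mp (h z hd)).2)⟩

theorem s5099 (X : Scheme.{u}) [IsLocallyNoetherian X] (D : Mero.Divisor X)
    (x : X) (hx : x ∈ Mero.supp D) (hmax : ∀ z : X, z ∈ Mero.supp D → z ⤳ x → z = x) :
    LocCoh.depth (X.presheaf.stalk x) (X.presheaf.stalk x) = 1 := by
  by_contra hne
  have hx' : D.1 x ≠ 1 := hx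
  apply hx'
  obtain ⟨W, hW, hxW, a, b, ha, hb, heff, hone⟩ := exists_chart D x
  rw [hone x hxW]
  have key : ∀ (z : X), z ⤳ x →
      LocCoh.depth (X.presheaf.stalk z) (X.presheaf.stalk z) = 1 → D.1 z = 1 := by
    intro z hzx hd
    by_contra hDz
    have hzx' : z = x := hmax z hDz hzx
    rw [hzx'] at hd
    exact hne hd
  exact ⟨exists_mul_eq_at hW a b hb x hxW
      (fun z hz hzx hd => ((hone z hz).mp (key z hzx hd)).1),
    exists_mul_eq_at hW b a ha x hxW
      (fun z hz hzx hd => ((hone z hz).mp (key z hzx hd)).2)⟩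

end Affine

end Groth.Agent.H6.MeroDepth
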