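import Mathlib
import Groth.Prelude.Def_MeroDiv
import Groth.Agent.Lib.Helper6.MeroDepth
import Groth.Agent.Lib.Helper3.DepthAux

/-! Divisors on the spectrum of a Noetherian local ring: trivial iff depth zero. -/

set_option autoImplicit false
universe u
open CategoryTheory AlgebraicGeometry TopologicalSpace Opposite

namespace Groth.Agent.H6.MeroLocal

open Groth.Agent.H6.MeroDepth

variable {X : Scheme.{u}}

/-- the meromorphic function `1 / b` for a regular section `b` -/
noncomputable def invK (U : X.Opens) (b : Mero.regSub X U) : Γ(Mero.kmod X, U) :=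
  ⟨fun y => LocalizedModule.mk 1 (Mero.regGerm y b),
    fun y => ⟨U, y.2, 𝟙 _, 1, b, fun z => Mero.mk_congr (by
      change (1 : X.presheaf.stalk z.1) = X.presheaf.germ U z.1 z.2 (1 : Γ(X, U))
      rw [map_one]) rfl⟩⟩

theorem toK_mul_invK (U : X.Opens) (b : Mero.regSub X U) :
    Mero.toK X U b.1 * invK U b = 1 := by
  refine Subtype.ext (funext fun y => ?_)
  change (LocalizedModule.mk (X.presheaf.germ U y.1 y.2 b.1) 1 : Mero.KStalk X y.1) *
    LocalizedModule.mk 1 (Mero.regGerm y b) = 1
  refine LocalizedModule.mk_mul_mk.trans ?_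
  exact (Mero.mk_congr (mul_one _) (by rw [one_mul])).trans (Mero.mk_self_eq_one (Mero.regGerm y b))

theorem s5082 (A : Type u) [CommRing A] [IsNoetherianRing A] [IsLocalRing A] :
    (∀ D : Mero.Divisor (Spec (CommRingCat.of A)), D = 1) ↔ LocCoh.depth A A = 0 := by
  have hdepth : LocCoh.depth A A = 0 ↔
      ∀ x ∈ IsLocalRing.maximalIdeal A, ¬ IsSMulRegular A x := by
    unfold LocCoh.depth
    rw [Groth.Agent.H3.DepthAux.idealDepth_eq_zero_iff]
    constructor
    · exact fun h => h.2
    · exact fun h =>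
        ⟨(Groth.Agent.H3.DepthAux.smul_top_ne_top_iff_nontrivial (R := A) A).mpr inferInstance, h⟩
  rw [hdepth]
  let e : Γ(Spec (CommRingCat.of A), ⊤) ≃+* A :=
    (Scheme.ΓSpecIso (CommRingCat.of A)).commRingCatIsoToRingEquiv
  have htop : IsAffineOpen (⊤ : (Spec (CommRingCat.of A)).Opens) := isAffineOpen_top _
  let x₀ : ↥(Spec (CommRingCat.of A)) := IsLocalRing.closedPoint A
  constructor
  · intro hall t htm hreg
    have ht'nzd : e.symm t ∈ nonZeroDivisors Γ(Spec (CommRingCat.of A), ⊤) := by
      rw [mem_nonZeroDivisors_iff_right]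
      intro x hx
      have h1 : e x * t = 0 := by
        have := congrArg e hx
        rwa [map_mul, e.apply_symm_apply, map_zero] at this
      have h2 : t • e x = t • (0 : A) := by
        rw [smul_zero, smul_eq_mul, mul_comm]
        exact h1
      have h3 := hreg h2
      exact e.injective (by rw [h3, map_zero])
    have ht' : e.symm t ∈ Mero.regSub (Spec (CommRingCat.of A)) ⊤ := by
      rw [Groth.Agent.S12513.result _ ⊤ htop]
      exact ht'nzd
    have hmul : Mero.toK (Spec (CommRingCat.of A)) ⊤ (e.symm t) *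
        invK ⊤ (⟨e.symm t, ht'⟩ : Mero.regSub (Spec (CommRingCat.of A)) ⊤) = 1 :=
      toK_mul_invK ⊤ ⟨_, ht'⟩
    let u : (Γ(Mero.kmod (Spec (CommRingCat.of A)), ⊤))ˣ :=
      ⟨Mero.toK (Spec (CommRingCat.of A)) ⊤ (e.symm t),
        invK ⊤ (⟨e.symm t, ht'⟩ : Mero.regSub (Spec (CommRingCat.of A)) ⊤), hmul,
        by rw [mul_comm]; exact hmul⟩
    have hD := hall (Mero.div u)
    let u₀ : (Mero.KStalk (Spec (CommRingCat.of A)) x₀)ˣ :=
      Units.map (Mero.evalK (Spec (CommRingCat.of A)) ⊤ ⟨x₀, trivial⟩).toMonoidHom u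
    have hD0 : (QuotientGroup.mk u₀ : Mero.Germ (Spec (CommRingCat.of A)) x₀) = 1 := by
      have : (Mero.div u).1 x₀ = 1 := by rw [hD]; rfl
      exact this
    have hval : (u₀ : Mero.KStalk (Spec (CommRingCat.of A)) x₀) *
        algebraMap ((Spec (CommRingCat.of A)).presheaf.stalk x₀)
          (Mero.KStalk (Spec (CommRingCat.of A)) x₀)
          ((1 : Mero.regStalk (Spec (CommRingCat.of A)) x₀) :
            (Spec (CommRingCat.of A)).presheaf.stalk x₀) =
        algebraMap ((Spec (CommRingCat.of A)).presheaf.stalk x₀)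
          (Mero.KStalk (Spec (CommRingCat.of A)) x₀)
          ((Spec (CommRingCat.of A)).presheaf.germ ⊤ x₀ trivial (e.symm t)) := by
      rw [Submonoid.coe_one, map_one, mul_one]
      rfl
    obtain ⟨-, ⟨t₂, ht₂⟩⟩ := exists_mul_of_mk_eq_one x₀ u₀ _ 1 hval hD0
    have hgu : IsUnit ((Spec (CommRingCat.of A)).presheaf.germ ⊤ x₀ trivial (e.symm t)) :=
      IsUnit.of_mul_eq_one t₂ (by rw [mul_comm]; exact ht₂.symm)
    have hunit : IsUnit (e.symm t) := by
      apply RingedSpace.isUnit_of_isUnit_germ _ ⊤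
      intro y hy
      have hsp : y ⤳ x₀ := IsLocalRing.specializes_closedPoint y
      have h5 := TopCat.Presheaf.germ_stalkSpecializes_apply (Spec (CommRingCat.of A)).presheaf
        (U := ⊤) (y := x₀) trivial hsp (e.symm t)
      have h6 : (Spec (CommRingCat.of A)).presheaf.germ ⊤ y hy (e.symm t) =
          ((Spec (CommRingCat.of A)).presheaf.stalkSpecializes hsp).hom
            ((Spec (CommRingCat.of A)).presheaf.germ ⊤ x₀ trivial (e.symm t)) := h5.symm
      rw [h6]
      exact hgu.map ((Spec (CommRingCat.of A)).presheaf.stalkSpecializes hsp).hom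
    have htu : IsUnit t := by
      have := hunit.map e
      rwa [e.apply_symm_apply] at this
    exact (IsLocalRing.mem_maximalIdeal t).mp htm htu
  · intro hd D
    apply Subtype.ext
    funext y
    change D.1 y = 1
    obtain ⟨V, hxV, a, b, ha, hb, hV⟩ := exists_local_form D x₀
    have hVtop : V = ⊤ := (IsLocalRing.closedPoint_mem_iff V).mp hxV
    subst hVtop
    obtain ⟨u, hu, hval⟩ := hV ⟨y, trivial⟩
    refine (eq_one_iff ha hb ⟨y, trivial⟩ u hu hval).mpr ?_
    have hunit : ∀ r : Γ(Spec (CommRingCat.of A), ⊤),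
        r ∈ Mero.regSub (Spec (CommRingCat.of A)) ⊤ → IsUnit r := by
      intro r hr
      rw [Groth.Agent.S12513.result _ ⊤ htop] at hr
      have h1 : ¬ e r ∈ IsLocalRing.maximalIdeal A := by
        intro hm
        apply hd _ hm
        intro p q hpq
        simp only [smul_eq_mul] at hpq
        have h2 : e.symm (p - q) * r = 0 := by
          apply e.injective
          rw [map_mul, e.apply_symm_apply, map_zero, mul_comm, mul_sub]
          exact sub_eq_zero.mpr hpq
        have h3 := (mem_nonZeroDivisors_iff_right.mp hr) _ h2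
        have h4 : p - q = 0 := by simpa using congrArg e h3
        exact sub_eq_zero.mp h4
      have h5 : IsUnit (e r) := by
        by_contra hnu
        exact h1 ((IsLocalRing.mem_maximalIdeal _).mpr hnu)
      have := h5.map e.symm
      rwa [e.symm_apply_apply] at this
    have hau : IsUnit ((Spec (CommRingCat.of A)).presheaf.germ ⊤ y trivial a) :=
      (hunit a ha).map ((Spec (CommRingCat.of A)).presheaf.germ ⊤ y trivial).hom
    have hbu : IsUnit ((Spec (CommRingCat.of A)).presheaf.germ ⊤ y trivial b) :=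
      (hunit b hb).map ((Spec (CommRingCat.of A)).presheaf.germ ⊤ y trivial).hom
    obtain ⟨va, hva⟩ := hau
    obtain ⟨vb, hvb⟩ := hbu
    refine ⟨⟨(va : (Spec (CommRingCat.of A)).presheaf.stalk y) * ↑vb⁻¹, ?_⟩,
      ⟨(vb : (Spec (CommRingCat.of A)).presheaf.stalk y) * ↑va⁻¹, ?_⟩⟩
    · change (Spec (CommRingCat.of A)).presheaf.germ ⊤ y trivial a =
        (va : (Spec (CommRingCat.of A)).presheaf.stalk y) * ↑vb⁻¹ *
          (Spec (CommRingCat.of A)).presheaf.germ ⊤ y trivial b
      rw [← hva, ← hvb, mul_assoc, Units.inv_mul, mul_one]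
    · change (Spec (CommRingCat.of A)).presheaf.germ ⊤ y trivial b =
        (vb : (Spec (CommRingCat.of A)).presheaf.stalk y) * ↑va⁻¹ *
          (Spec (CommRingCat.of A)).presheaf.germ ⊤ y trivial a
      rw [← hva, ← hvb, mul_assoc, Units.inv_mul, mul_one]

end Groth.Agent.H6.MeroLocal
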