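import Mathlib
import Groth.Prelude
import Groth.Agent.Lib.Helper6.MilCube5

universe u
open CategoryTheory CategoryTheory.Limits AlgebraicGeometry TopologicalSpace

set_option linter.unusedSectionVars false
set_option linter.unusedSimpArgs false
set_option linter.style.haveILetI false
namespace Groth.Agent.H6.MilCube

open Groth.Agent.H9.PIN Groth.Agent.H9.AVD

section Charts

variable {X Y Z P : Scheme.{u}}

/-- `isPinch_of_isPushout`, keeping track of the preimages of the charts. -/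
theorem isPinch_of_isPushout' {i : Z ⟶ X} {j : Z ⟶ Y} {a : X ⟶ P} {b : Y ⟶ P}
    [IsClosedImmersion i] (hcovY : ∀ y : Y, ∃ k : CPair i j, y ∈ k.V)
    (hP : IsPushout i j a b) :
    IsPinch i j a b ∧ ∃ W : CPair i j → P.Opens, (∀ k, IsAffineOpen (W k) ∧
      a ⁻¹ᵁ (W k) = k.U ∧ b ⁻¹ᵁ (W k) = k.V) ∧ ∀ p : P, ∃ k, p ∈ W k := by
  obtain ⟨P₀, a₀, b₀, hp₀, W, hW, hcov⟩ := exists_isPinch hcovY
  let e : P₀ ≅ P := hp₀.isPushout.isoIsPushout _ _ hP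
  have hea : a₀ ≫ e.hom = a := IsPushout.inl_isoIsPushout_hom _ _ _ _
  have heb : b₀ ≫ e.hom = b := IsPushout.inr_isoIsPushout_hom _ _ _ _
  have hp := hp₀.of_iso e
  rw [hea, heb] at hp
  have hea' : a ≫ e.inv = a₀ := by rw [← hea, Category.assoc, e.hom_inv_id, Category.comp_id]
  have heb' : b ≫ e.inv = b₀ := by rw [← heb, Category.assoc, e.hom_inv_id, Category.comp_id]
  refine ⟨hp, fun k => e.inv ⁻¹ᵁ W k, fun k => ⟨?_, ?_, ?_⟩, fun p => ?_⟩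
  · exact (hW k).1.preimage_of_isIso e.inv
  · rw [← Scheme.Hom.comp_preimage, hea', (hW k).2.1]
  · rw [← Scheme.Hom.comp_preimage, heb', (hW k).2.2]
  · obtain ⟨k, hk⟩ := hcov (e.inv p)
    exact ⟨k, hk⟩

/-- compatible affine pairs inside a compatible pair of opens, through a given point of `Y`. -/
theorem exists_cpair_le (i : Z ⟶ X) (j : Z ⟶ Y) [IsClosedImmersion i] [IsClosedImmersion j]
    (X₀ : X.Opens) (Y₀ : Y.Opens) (h₀ : i ⁻¹ᵁ X₀ = j ⁻¹ᵁ Y₀) (y : Y) (hy : y ∈ Y₀) :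
    ∃ k : CPair i j, k.U ≤ X₀ ∧ k.V ≤ Y₀ ∧ y ∈ k.V := by
  by_cases hyr : y ∈ Set.range j
  · obtain ⟨z, rfl⟩ := hyr
    have hz : i z ∈ X₀ := by
      have : z ∈ j ⁻¹ᵁ Y₀ := hy
      rw [← h₀] at this
      exact this
    obtain ⟨U₀, hU₀, hzU₀, hU₀le⟩ := exists_isAffineOpen_mem_and_subset (x := i z) (U := X₀) hz
    obtain ⟨V₀, hV₀, hzV₀, hV₀le⟩ := exists_isAffineOpen_mem_and_subset (x := j z) (U := Y₀) hy
    obtain ⟨f, hf1, hf2⟩ := exists_basicOpen_preimage_le i hU₀ (j ⁻¹ᵁ V₀) z hzU₀ hzV₀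
    have hU₁ : IsAffineOpen (X.basicOpen f) := hU₀.basicOpen f
    obtain ⟨g, hg1, hg2⟩ := exists_basicOpen_preimage_le j hV₀ (i ⁻¹ᵁ X.basicOpen f) z hzV₀ hf2
    have hV₁ : IsAffineOpen (Y.basicOpen g) := hV₀.basicOpen g
    have hN₁ : IsAffineOpen (i ⁻¹ᵁ X.basicOpen f) := hU₁.preimage i
    let gbar : Γ(Z, i ⁻¹ᵁ X.basicOpen f) := Z.presheaf.map (homOfLE hf1).op (j.app V₀ g)
    obtain ⟨f', hf'⟩ := Scheme.Hom.app_surjective i _ hU₁ gbar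
    have hU₂ : IsAffineOpen (X.basicOpen f') := hU₁.basicOpen f'
    refine ⟨⟨X.basicOpen f', Y.basicOpen g, hU₂, hV₁, ?_⟩, ?_, ?_, hg2⟩
    · rw [Scheme.preimage_basicOpen, hf', Scheme.basicOpen_res, ← Scheme.preimage_basicOpen]
      exact inf_eq_right.mpr hg1
    · exact ((X.basicOpen_le f').trans (X.basicOpen_le f)).trans hU₀le
    · exact (Y.basicOpen_le g).trans hV₀le
  · have hO : IsOpen (Set.range j)ᶜ := j.isClosedEmbedding.isClosed_range.isOpen_compl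
    obtain ⟨V, hV, hyV, hVO⟩ := exists_isAffineOpen_mem_and_subset (x := y)
      (U := Y₀ ⊓ ⟨_, hO⟩) ⟨hy, hyr⟩
    refine ⟨⟨⊥, V, isAffineOpen_bot X, hV, ?_⟩, bot_le, fun v hv => (hVO hv).1, hyV⟩
    ext z
    simp only [Scheme.Hom.coe_preimage, Set.mem_preimage, SetLike.mem_coe, Opens.coe_bot,
      Set.mem_empty_iff_false, false_iff]
    intro hz
    exact (hVO hz).2 ⟨z, rfl⟩

/-- compatible affine pairs inside a compatible pair of opens, through a given point of `X`. -/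
theorem exists_cpair_le' (i : Z ⟶ X) (j : Z ⟶ Y) [IsClosedImmersion i] [IsClosedImmersion j]
    (X₀ : X.Opens) (Y₀ : Y.Opens) (h₀ : i ⁻¹ᵁ X₀ = j ⁻¹ᵁ Y₀) (x : X) (hx : x ∈ X₀) :
    ∃ k : CPair i j, k.U ≤ X₀ ∧ k.V ≤ Y₀ ∧ x ∈ k.U := by
  obtain ⟨k, h1, h2, h3⟩ := exists_cpair_le j i Y₀ X₀ h₀.symm x hx
  exact ⟨⟨k.V, k.U, k.hV, k.hU, k.h.symm⟩, h2, h1, h3⟩

end Charts

section GoodCharts

variable {Z X Y P Z' X' Y' P' : Scheme.{u}} {i : Z ⟶ X} {j : Z ⟶ Y} {a : X ⟶ P} {b : Y ⟶ P}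
  {i' : Z' ⟶ X'} {j' : Z' ⟶ Y'} {a' : X' ⟶ P'} {b' : Y' ⟶ P'}
  {f : X' ⟶ X} {g : Y' ⟶ Y} {c : Z' ⟶ Z} {h : P' ⟶ P}

/-- compatible good charts exist around every point, for a morphism of pinchings along closed
immersions. -/
theorem exists_good_charts [IsClosedImmersion i] [IsClosedImmersion j] [IsClosedImmersion i']
    [IsClosedImmersion j'] (hP : IsPushout i j a b) (hP' : IsPushout i' j' a' b') (h : P' ⟶ P) :
    IsPinch i j a b ∧ IsPinch i' j' a' b' ∧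
    ∀ w : P', ∃ (W : P.Opens) (W' : P'.Opens), h w ∈ W ∧ w ∈ W' ∧ W' ≤ h ⁻¹ᵁ W ∧
      Good a b W ∧ Good a' b' W' := by
  obtain ⟨hp, 𝒲, h𝒲, hcov⟩ := isPinch_of_isPushout' (exists_cpair_of_closedImmersions i j) hP
  obtain ⟨hp', 𝒲', h𝒲', hcov'⟩ :=
    isPinch_of_isPushout' (exists_cpair_of_closedImmersions i' j') hP'
  refine ⟨hp, hp', fun w => ?_⟩
  obtain ⟨k, hk⟩ := hcov (h w)
  have hgood : Good a b (𝒲 k) :=
    ⟨(h𝒲 k).1, by rw [(h𝒲 k).2.1]; exact k.hU, by rw [(h𝒲 k).2.2]; exact k.hV⟩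
  let O : P'.Opens := h ⁻¹ᵁ 𝒲 k
  have hcompat : i' ⁻¹ᵁ a' ⁻¹ᵁ O = j' ⁻¹ᵁ b' ⁻¹ᵁ O := by
    rw [← Scheme.Hom.comp_preimage i' a', ← Scheme.Hom.comp_preimage j' b', hp'.w]
  have key : ∀ κ : CPair i' j', κ.U ≤ a' ⁻¹ᵁ O → κ.V ≤ b' ⁻¹ᵁ O → w ∈ 𝒲' κ →
      ∃ (W : P.Opens) (W' : P'.Opens), h w ∈ W ∧ w ∈ W' ∧ W' ≤ h ⁻¹ᵁ W ∧
        Good a b W ∧ Good a' b' W' := by
    intro κ h1 h2 h3
    refine ⟨𝒲 k, 𝒲' κ, hk, h3, ?_, hgood, ?_⟩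
    · intro p hpW
      rcases hp'.surj p with ⟨x, rfl⟩ | ⟨y, rfl⟩
      · have : x ∈ a' ⁻¹ᵁ 𝒲' κ := hpW
        rw [(h𝒲' κ).2.1] at this
        exact h1 this
      · have : y ∈ b' ⁻¹ᵁ 𝒲' κ := hpW
        rw [(h𝒲' κ).2.2] at this
        exact h2 this
    · exact ⟨(h𝒲' κ).1, by rw [(h𝒲' κ).2.1]; exact κ.hU, by rw [(h𝒲' κ).2.2]; exact κ.hV⟩
  rcases hp'.surj w with ⟨x, rfl⟩ | ⟨y, rfl⟩
  · obtain ⟨κ, h1, h2, h3⟩ := exists_cpair_le' i' j' (a' ⁻¹ᵁ O) (b' ⁻¹ᵁ O) hcompat x hk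
    refine key κ h1 h2 ?_
    have : x ∈ a' ⁻¹ᵁ 𝒲' κ := by rw [(h𝒲' κ).2.1]; exact h3
    exact this
  · obtain ⟨κ, h1, h2, h3⟩ := exists_cpair_le i' j' (a' ⁻¹ᵁ O) (b' ⁻¹ᵁ O) hcompat y hk
    refine key κ h1 h2 ?_
    have : y ∈ b' ⁻¹ᵁ 𝒲' κ := by rw [(h𝒲' κ).2.2]; exact h3
    exact this

end GoodCharts

end Groth.Agent.H6.MilCube
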