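import Mathlib
import Groth.Prelude
import Groth.Agent.Lib.Helper6.MilCube6

universe u
open CategoryTheory CategoryTheory.Limits AlgebraicGeometry TopologicalSpace

set_option linter.unusedSectionVars false
set_option linter.unusedSimpArgs false
set_option linter.style.haveILetI false
namespace Groth.Agent.H6.MilCube

open Groth.Agent.H9.PIN Groth.Agent.H9.AVD

section Ring

/-- base change of a ring hom property along an arbitrary pushout square of commutative rings. -/
theorem of_isPushout_ring {Q : ∀ {R S : Type u} [CommRing R] [CommRing S], (R →+* S) → Prop}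
    (hbc : RingHom.IsStableUnderBaseChange @Q) (hri : RingHom.RespectsIso @Q)
    {R R' S S' : CommRingCat.{u}} {α : R ⟶ R'} {r : R ⟶ S} {x : R' ⟶ S'} {α' : S ⟶ S'}
    (hpo : IsPushout α r x α') (hr : Q r.hom) : Q x.hom := by
  have h1 : Q (pushout.inl α r).hom := hbc.pushout_inl hri α r hr
  have h2 : x = pushout.inl α r ≫ hpo.isoPushout.inv := by rw [hpo.inl_isoPushout_inv]
  rw [h2]
  exact (hri.cancel_right_isIso _ _).mpr h1

end Ring

section Gen

variable {Z X Y P Z' X' Y' P' : Scheme.{u}} {i : Z ⟶ X} {j : Z ⟶ Y} {a : X ⟶ P} {b : Y ⟶ P}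
  {i' : Z' ⟶ X'} {j' : Z' ⟶ Y'} {a' : X' ⟶ P'} {b' : Y' ⟶ P'}
  {f : X' ⟶ X} {g : Y' ⟶ Y} {c : Z' ⟶ Z} {h : P' ⟶ P}

variable (ha : a' ≫ h = f ≫ a) (hb : b' ≫ h = g ≫ b)
  (hcharts : ∀ w : P', ∃ (W : P.Opens) (W' : P'.Opens), h w ∈ W ∧ w ∈ W' ∧ W' ≤ h ⁻¹ᵁ W ∧
      Good a b W ∧ Good a' b' W')

include hcharts in
theorem prop_h_of_charts (Pr : MorphismProperty Scheme.{u})
    {Q : ∀ {R S : Type u} [CommRing R] [CommRing S], (R →+* S) → Prop}
    [HasRingHomProperty Pr Q]
    (hQ : RingHom.StableUnderCompositionWithLocalizationAwaySource Q)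
    (H : ∀ {W : P.Opens} {W' : P'.Opens} (_ : Good a b W) (_ : Good a' b' W')
      (hle : W' ≤ h ⁻¹ᵁ W), Q (h.appLE W W' hle).hom) : Pr h := by
  rw [HasRingHomProperty.iff_exists_appLE (P := Pr) hQ]
  intro w
  obtain ⟨W, W', hwW, hwW', hle, hW, hW'⟩ := hcharts w
  exact ⟨⟨W, hW.hW⟩, ⟨W', hW'.hW⟩, hwW', hle, H hW hW' hle⟩

include hcharts in
theorem prop_f_of_charts (Pr : MorphismProperty Scheme.{u})
    {Q : ∀ {R S : Type u} [CommRing R] [CommRing S], (R →+* S) → Prop}
    [HasRingHomProperty Pr Q]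
    (hQ : RingHom.StableUnderCompositionWithLocalizationAwaySource Q)
    (H : ∀ {W : P.Opens} {W' : P'.Opens} (_ : Good a b W) (_ : Good a' b' W')
      (hle : W' ≤ h ⁻¹ᵁ W), Q (f.appLE (a ⁻¹ᵁ W) (a' ⁻¹ᵁ W') (le_f ha hle)).hom) : Pr f := by
  rw [HasRingHomProperty.iff_exists_appLE (P := Pr) hQ]
  intro x
  obtain ⟨W, W', hwW, hwW', hle, hW, hW'⟩ := hcharts (a' x)
  exact ⟨⟨a ⁻¹ᵁ W, hW.ha⟩, ⟨a' ⁻¹ᵁ W', hW'.ha⟩, hwW', le_f ha hle, H hW hW' hle⟩

include hcharts in
theorem prop_g_of_charts (Pr : MorphismProperty Scheme.{u})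
    {Q : ∀ {R S : Type u} [CommRing R] [CommRing S], (R →+* S) → Prop}
    [HasRingHomProperty Pr Q]
    (hQ : RingHom.StableUnderCompositionWithLocalizationAwaySource Q)
    (H : ∀ {W : P.Opens} {W' : P'.Opens} (_ : Good a b W) (_ : Good a' b' W')
      (hle : W' ≤ h ⁻¹ᵁ W), Q (g.appLE (b ⁻¹ᵁ W) (b' ⁻¹ᵁ W') (le_f hb hle)).hom) : Pr g := by
  rw [HasRingHomProperty.iff_exists_appLE (P := Pr) hQ]
  intro y
  obtain ⟨W, W', hwW, hwW', hle, hW, hW'⟩ := hcharts (b' y)
  exact ⟨⟨b ⁻¹ᵁ W, hW.hb⟩, ⟨b' ⁻¹ᵁ W', hW'.hb⟩, hwW', le_f hb hle, H hW hW' hle⟩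

variable (hp : IsPinch i j a b) [IsClosedImmersion i] (hp' : IsPinch i' j' a' b')
  [IsClosedImmersion i'] (hX : IsPullback i' c f i) (hY : IsPullback j' c g j)

include ha hb hp hp' hX hY hcharts in
/-- descent of a local property from the glued morphism to the branches. -/
theorem prop_fg_of_h (Pr : MorphismProperty Scheme.{u})
    {Q : ∀ {R S : Type u} [CommRing R] [CommRing S], (R →+* S) → Prop}
    [HasRingHomProperty Pr Q]
    (hQ : RingHom.StableUnderCompositionWithLocalizationAwaySource Q)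
    (hbc : RingHom.IsStableUnderBaseChange @Q) (hh : Pr h) : Pr f ∧ Pr g := by
  have hri : RingHom.RespectsIso @Q := (HasRingHomProperty.isLocal_ringHomProperty Pr).respectsIso
  constructor
  · refine prop_f_of_charts ha hcharts Pr hQ (fun {W W'} hW hW' hle => ?_)
    exact of_isPushout_ring hbc hri (chart_cube hp hp' hX hY ha hb hW hW' hle).1
      (HasRingHomProperty.appLE (P := Pr) _ hh ⟨W, hW.hW⟩ ⟨W', hW'.hW⟩ hle)
  · refine prop_g_of_charts hb hcharts Pr hQ (fun {W W'} hW hW' hle => ?_)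
    exact of_isPushout_ring hbc hri (chart_cube hp hp' hX hY ha hb hW hW' hle).2.1
      (HasRingHomProperty.appLE (P := Pr) _ hh ⟨W, hW.hW⟩ ⟨W', hW'.hW⟩ hle)

end Gen

section Aux2

theorem sc_finiteType :
    RingHom.StableUnderCompositionWithLocalizationAwaySource @RingHom.FiniteType :=
  (RingHom.finiteType_stableUnderComposition.stableUnderCompositionWithLocalizationAway
    RingHom.finiteType_holdsForLocalizationAway).1

theorem sc_flat : RingHom.StableUnderCompositionWithLocalizationAwaySource @RingHom.Flat :=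
  (RingHom.Flat.stableUnderComposition.stableUnderCompositionWithLocalizationAway
    RingHom.Flat.holdsForLocalizationAway).1

theorem sc_finitePresentation :
    RingHom.StableUnderCompositionWithLocalizationAwaySource @RingHom.FinitePresentation :=
  (RingHom.finitePresentation_stableUnderComposition.stableUnderCompositionWithLocalizationAway
    RingHom.finitePresentation_holdsForLocalizationAway).1

theorem sc_smooth : RingHom.StableUnderCompositionWithLocalizationAwaySource @RingHom.Smooth :=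
  (RingHom.Smooth.stableUnderComposition.stableUnderCompositionWithLocalizationAway
    RingHom.Smooth.holdsForLocalizationAway).1

theorem sc_etale : RingHom.StableUnderCompositionWithLocalizationAwaySource @RingHom.Etale :=
  (RingHom.Etale.stableUnderComposition.stableUnderCompositionWithLocalizationAway
    etale_holdsForLocalizationAway).1

end Aux2

section S7183

variable {X Y Z P X' Y' Z' P' : Scheme.{u}}

/-- **S7183**. -/
theorem s7183 (i : Z ⟶ X) (j : Z ⟶ Y) [IsClosedImmersion i] [IsClosedImmersion j] (a : X ⟶ P)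
    (b : Y ⟶ P) (hP : IsPushout i j a b) (f : X' ⟶ X) (g : Y' ⟶ Y) (i' : Z' ⟶ X')
    (j' : Z' ⟶ Y') (c : Z' ⟶ Z) (hX : IsPullback i' c f i) (hY : IsPullback j' c g j)
    (a' : X' ⟶ P') (b' : Y' ⟶ P') (hP' : IsPushout i' j' a' b') (h : P' ⟶ P)
    (ha : a' ≫ h = f ≫ a) (hb : b' ≫ h = g ≫ b) :
    (LocallyOfFiniteType h ↔ LocallyOfFiniteType f ∧ LocallyOfFiniteType g) ∧
    (Flat h ↔ Flat f ∧ Flat g) ∧
    ((Flat h ∧ LocallyOfFinitePresentation h) ↔
      (Flat f ∧ LocallyOfFinitePresentation f) ∧ (Flat g ∧ LocallyOfFinitePresentation g)) ∧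
    (Smooth h ↔ Smooth f ∧ Smooth g) ∧
    (Etale h ↔ Etale f ∧ Etale g) := by
  haveI : IsClosedImmersion i' :=
    MorphismProperty.of_isPullback (P := @IsClosedImmersion) hX.flip inferInstance
  haveI : IsClosedImmersion j' :=
    MorphismProperty.of_isPullback (P := @IsClosedImmersion) hY.flip inferInstance
  obtain ⟨hp, hp', hcharts⟩ := exists_good_charts hP hP' h
  have hflat : Flat h ↔ Flat f ∧ Flat g := by
    constructor
    · exact prop_fg_of_h ha hb hcharts hp hp' hX hY @Flat sc_flat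
        RingHom.Flat.isStableUnderBaseChange
    · rintro ⟨hf, hg⟩
      refine prop_h_of_charts hcharts @Flat sc_flat (fun {W W'} hW hW' hle => ?_)
      exact (chart_cube hp hp' hX hY ha hb hW hW' hle).2.2.2.2.1
        (HasRingHomProperty.appLE (P := @Flat) _ hf ⟨_, hW.ha⟩ ⟨_, hW'.ha⟩ _)
        (HasRingHomProperty.appLE (P := @Flat) _ hg ⟨_, hW.hb⟩ ⟨_, hW'.hb⟩ _)
  refine ⟨?_, hflat, ?_, ?_, ?_⟩
  · constructor
    · exact prop_fg_of_h ha hb hcharts hp hp' hX hY @LocallyOfFiniteType sc_finiteType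
        RingHom.finiteType_isStableUnderBaseChange
    · rintro ⟨hf, hg⟩
      refine prop_h_of_charts hcharts @LocallyOfFiniteType sc_finiteType
        (fun {W W'} hW hW' hle => ?_)
      exact (chart_cube hp hp' hX hY ha hb hW hW' hle).2.2.2.2.2.1
        (HasRingHomProperty.appLE (P := @LocallyOfFiniteType) _ hf ⟨_, hW.ha⟩ ⟨_, hW'.ha⟩ _)
        (HasRingHomProperty.appLE (P := @LocallyOfFiniteType) _ hg ⟨_, hW.hb⟩ ⟨_, hW'.hb⟩ _)
  · constructor
    · rintro ⟨h1, h2⟩
      obtain ⟨hf1, hg1⟩ := hflat.mp h1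
      obtain ⟨hf2, hg2⟩ := prop_fg_of_h ha hb hcharts hp hp' hX hY
        @LocallyOfFinitePresentation sc_finitePresentation
        RingHom.finitePresentation_isStableUnderBaseChange h2
      exact ⟨⟨hf1, hf2⟩, ⟨hg1, hg2⟩⟩
    · rintro ⟨⟨hf1, hf2⟩, ⟨hg1, hg2⟩⟩
      refine ⟨hflat.mpr ⟨hf1, hg1⟩, ?_⟩
      refine prop_h_of_charts hcharts @LocallyOfFinitePresentation sc_finitePresentation
        (fun {W W'} hW hW' hle => ?_)
      exact (chart_cube hp hp' hX hY ha hb hW hW' hle).2.2.2.2.2.2.1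
        (HasRingHomProperty.appLE (P := @Flat) _ hf1 ⟨_, hW.ha⟩ ⟨_, hW'.ha⟩ _)
        (HasRingHomProperty.appLE (P := @LocallyOfFinitePresentation) _ hf2 ⟨_, hW.ha⟩
          ⟨_, hW'.ha⟩ _)
        (HasRingHomProperty.appLE (P := @Flat) _ hg1 ⟨_, hW.hb⟩ ⟨_, hW'.hb⟩ _)
        (HasRingHomProperty.appLE (P := @LocallyOfFinitePresentation) _ hg2 ⟨_, hW.hb⟩
          ⟨_, hW'.hb⟩ _)
  · constructor
    · exact prop_fg_of_h ha hb hcharts hp hp' hX hY @Smooth sc_smooth
        RingHom.Smooth.isStableUnderBaseChange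
    · rintro ⟨hf, hg⟩
      refine prop_h_of_charts hcharts @Smooth sc_smooth (fun {W W'} hW hW' hle => ?_)
      exact (chart_cube hp hp' hX hY ha hb hW hW' hle).2.2.2.2.2.2.2
        (HasRingHomProperty.appLE (P := @Smooth) _ hf ⟨_, hW.ha⟩ ⟨_, hW'.ha⟩ _)
        (HasRingHomProperty.appLE (P := @Smooth) _ hg ⟨_, hW.hb⟩ ⟨_, hW'.hb⟩ _)
  · constructor
    · exact prop_fg_of_h ha hb hcharts hp hp' hX hY @Etale sc_etale
        RingHom.Etale.isStableUnderBaseChange
    · rintro ⟨hf, hg⟩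
      refine prop_h_of_charts hcharts @Etale sc_etale (fun {W W'} hW hW' hle => ?_)
      exact (chart_cube hp hp' hX hY ha hb hW hW' hle).2.2.2.1
        (HasRingHomProperty.appLE (P := @Etale) _ hf ⟨_, hW.ha⟩ ⟨_, hW'.ha⟩ _)
        (HasRingHomProperty.appLE (P := @Etale) _ hg ⟨_, hW.hb⟩ ⟨_, hW'.hb⟩ _)

end S7183

end Groth.Agent.H6.MilCube
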