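import Mathlib
import Groth.Prelude.Def_GSzMilK

/-! Helper library (helper6) for Milnor K-groups (`Def_GSzMilK`). -/

namespace Groth.Agent.H6

open MilK

universe u v w

section Basic

variable {F : Type u} [Field F]

/-- `mk` respects integer scalar multiplication. -/
theorem milk_mk_zsmul (n : ℕ) (c : ℤ) (t : T F n) : mk F n (c • t) = c • mk F n t := by
  exact map_zsmul (mk F n) c t

/-- The symbol as an integer-multilinear map. -/
noncomputable def symbolML (F : Type u) [Field F] (n : ℕ) :
    MultilinearMap ℤ (fun _ : Fin n => Additive Fˣ) (K F n) where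
  toFun v := mk F n (PiTensorProduct.tprod ℤ v)
  map_update_add' := by
    intro _ v i a b
    rw [(PiTensorProduct.tprod ℤ).map_update_add, map_add]
  map_update_smul' := by
    intro _ v i c a
    rw [(PiTensorProduct.tprod ℤ).map_update_smul, milk_mk_zsmul]

theorem symbolML_apply (n : ℕ) (v : Fin n → Additive Fˣ) :
    symbolML F n v = symbol (fun i => (v i).toMul) := rfl

theorem symbol_eq_symbolML {n : ℕ} (x : Fin n → Fˣ) :
    symbol x = symbolML F n (fun i => Additive.ofMul (x i)) := rfl

/-- The symbols generate `K F n`. -/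
theorem closure_symbol_eq_top (n : ℕ) :
    AddSubgroup.closure (Set.range (symbol : (Fin n → Fˣ) → K F n)) = ⊤ := by
  rw [eq_top_iff]
  rintro x -
  obtain ⟨t, rfl⟩ := mk_surjective F n x
  induction t using PiTensorProduct.induction_on with
  | smul_tprod r f =>
    rw [milk_mk_zsmul]
    refine AddSubgroup.zsmul_mem _ (AddSubgroup.subset_closure ?_) _
    exact ⟨fun i => (f i).toMul, rfl⟩
  | add x y hx hy =>
    rw [map_add]
    exact AddSubgroup.add_mem _ hx hy

/-- Induction principle: a property of elements of `K F n` that holds on symbols and is stable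
under `0`, `+` and `-` holds everywhere. -/
theorem milk_induction {n : ℕ} {P : K F n → Prop} (x : K F n)
    (hs : ∀ a : Fin n → Fˣ, P (symbol a)) (h0 : P 0)
    (hadd : ∀ a b, P a → P b → P (a + b)) (hneg : ∀ a, P a → P (-a)) : P x := by
  have hx : x ∈ AddSubgroup.closure (Set.range (symbol : (Fin n → Fˣ) → K F n)) := by
    rw [closure_symbol_eq_top]; trivial
  induction hx using AddSubgroup.closure_induction with
  | mem y hy => obtain ⟨a, rfl⟩ := hy; exact hs a
  | zero => exact h0
  | add a b _ _ ha hb => exact hadd a b ha hb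
  | neg a _ ha => exact hneg a ha

/-- Two additive maps out of `K F n` agreeing on symbols are equal. -/
theorem milk_hom_ext {n : ℕ} {M : Type w} [AddCommGroup M] {f g : K F n →+ M}
    (h : ∀ a : Fin n → Fˣ, f (symbol a) = g (symbol a)) : f = g := by
  ext x
  refine milk_induction (P := fun x => f x = g x) x h (by simp) ?_ ?_
  · intro a b ha hb; simp [ha, hb]
  · intro a ha; simp [ha]

theorem toMul_update_ofMul {n : ℕ} (x : Fin n → Fˣ) (i : Fin n) (a : Fˣ) :
    (fun k => (Function.update (fun i => Additive.ofMul (x i)) i (Additive.ofMul a) k).toMul) =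
      Function.update x i a := by
  classical
  funext k
  by_cases hk : k = i
  · subst hk; simp
  · simp [Function.update_of_ne hk]

theorem symbol_update_mul {n : ℕ} (x : Fin n → Fˣ) (i : Fin n) (a b : Fˣ) :
    symbol (Function.update x i (a * b)) =
      symbol (Function.update x i a) + symbol (Function.update x i b) := by
  classical
  have h := (symbolML F n).map_update_add (fun i => Additive.ofMul (x i)) i
    (Additive.ofMul a) (Additive.ofMul b)
  rw [← ofMul_mul] at h
  simpa only [symbolML_apply, toMul_update_ofMul] using h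

theorem symbol_update_one {n : ℕ} (x : Fin n → Fˣ) (i : Fin n) :
    symbol (Function.update x i 1) = 0 := by
  classical
  have h := (symbolML F n).map_update_zero (fun i => Additive.ofMul (x i)) i
  rw [← ofMul_one] at h
  simpa only [symbolML_apply, toMul_update_ofMul] using h

theorem symbol_eq_zero_of_eq_one {n : ℕ} (x : Fin n → Fˣ) (i : Fin n) (h : x i = 1) :
    symbol x = 0 := by
  classical
  rw [← Function.update_eq_self i x, h, symbol_update_one]

end Basic

section StSymb

variable {F : Type u} [Field F] {M : Type w} [AddCommGroup M]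

/-- An abstract Steinberg symbol on a field with values in an additive group: a bimultiplicative
map killing pairs `(a, b)` with `a + b = 1`. -/
structure IsStSymb (B : Fˣ → Fˣ → M) : Prop where
  mul_left : ∀ a b c, B (a * b) c = B a c + B b c
  mul_right : ∀ a b c, B a (b * c) = B a b + B a c
  steinberg : ∀ a b : Fˣ, (a : F) + (b : F) = 1 → B a b = 0

namespace IsStSymb

variable {B : Fˣ → Fˣ → M} (hB : IsStSymb B)
include hB

theorem one_left (c : Fˣ) : B 1 c = 0 := by
  have h := hB.mul_left 1 1 c
  rw [mul_one] at h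
  simpa using h

theorem one_right (a : Fˣ) : B a 1 = 0 := by
  have h := hB.mul_right a 1 1
  rw [mul_one] at h
  simpa using h

theorem inv_left (a c : Fˣ) : B a⁻¹ c = -B a c := by
  have h := hB.mul_left a a⁻¹ c
  rw [mul_inv_cancel, hB.one_left] at h
  exact eq_neg_of_add_eq_zero_right h.symm

theorem inv_right (a c : Fˣ) : B a c⁻¹ = -B a c := by
  have h := hB.mul_right a c c⁻¹
  rw [mul_inv_cancel, hB.one_right] at h
  exact eq_neg_of_add_eq_zero_right h.symm

/-- `B(·, c)` as a homomorphism to the additive group. -/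
def homLeft (c : Fˣ) : Fˣ →* Multiplicative M where
  toFun a := Multiplicative.ofAdd (B a c)
  map_one' := by rw [hB.one_left]; rfl
  map_mul' a b := by rw [hB.mul_left]; rfl

def homRight (a : Fˣ) : Fˣ →* Multiplicative M where
  toFun c := Multiplicative.ofAdd (B a c)
  map_one' := by rw [hB.one_right]; rfl
  map_mul' b c := by rw [hB.mul_right]; rfl

theorem zpow_left (a c : Fˣ) (k : ℤ) : B (a ^ k) c = k • B a c := by
  have h := map_zpow (hB.homLeft c) a k
  exact congrArg Multiplicative.toAdd h

theorem zpow_right (a c : Fˣ) (k : ℤ) : B a (c ^ k) = k • B a c := by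
  have h := map_zpow (hB.homRight a) c k
  exact congrArg Multiplicative.toAdd h

theorem pow_left (a c : Fˣ) (k : ℕ) : B (a ^ k) c = k • B a c := by
  have h := map_pow (hB.homLeft c) a k
  exact congrArg Multiplicative.toAdd h

theorem pow_right (a c : Fˣ) (k : ℕ) : B a (c ^ k) = k • B a c := by
  have h := map_pow (hB.homRight a) c k
  exact congrArg Multiplicative.toAdd h

/-- `B(x, -x) = 0`. -/
theorem neg_self (x : Fˣ) : B x (-x) = 0 := by
  by_cases hx : x = 1
  · subst hx; exact hB.one_left _
  · -- `-x = (1 - x) / (1 - x⁻¹)`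
    have h1 : (1 : F) - (x : F) ≠ 0 := by
      intro h
      apply hx
      ext
      rw [Units.val_one]
      exact (sub_eq_zero.mp h).symm
    have h2 : (1 : F) - ((x⁻¹ : Fˣ) : F) ≠ 0 := by
      intro h
      apply hx
      have : (x⁻¹ : Fˣ) = 1 := by
        ext
        rw [Units.val_one]
        exact (sub_eq_zero.mp h).symm
      simpa using this
    set y : Fˣ := Units.mk0 _ h1 with hy
    set z : Fˣ := Units.mk0 _ h2 with hz
    have hxy : B x y = 0 := hB.steinberg x y (by simp [hy])
    have hxz : B x⁻¹ z = 0 := hB.steinberg x⁻¹ z (by simp [hz])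
    have hneg : -x = y * z⁻¹ := by
      ext
      have hxne : (x : F) ≠ 0 := x.ne_zero
      have h2' : (1 : F) - (x : F)⁻¹ ≠ 0 := by
        rw [← Units.val_inv_eq_inv_val]; exact h2
      simp only [Units.val_neg, Units.val_mul, Units.val_inv_eq_inv_val, hy, hz, Units.val_mk0]
      rw [← div_eq_mul_inv, eq_div_iff h2', mul_sub, mul_one, neg_mul, mul_inv_cancel₀ hxne]
      ring
    rw [hneg, hB.mul_right, hxy, zero_add, hB.inv_right]
    rw [hB.inv_left] at hxz
    rw [neg_eq_zero] at hxz ⊢
    exact hxz

/-- Antisymmetry: `B(x, y) = -B(y, x)`. -/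
theorem antisymm (x y : Fˣ) : B x y = -B y x := by
  have h := hB.neg_self (x * y)
  have e1 : -(x * y) = (-x) * y := by rw [neg_mul]
  have e2 : -(x * y) = x * (-y) := by rw [mul_neg]
  rw [hB.mul_left] at h
  nth_rewrite 1 [e1] at h
  rw [e2, hB.mul_right, hB.mul_right, hB.neg_self, hB.neg_self, zero_add, add_zero] at h
  exact eq_neg_of_add_eq_zero_left h

theorem neg_self' (x : Fˣ) : B (-x) x = 0 := by
  rw [hB.antisymm, hB.neg_self, neg_zero]

/-- `B(x, x) = B(x, -1)`. -/
theorem self_eq (x : Fˣ) : B x x = B x (-1) := by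
  have h : x = (-x) * (-1) := by simp
  nth_rewrite 2 [h]
  rw [hB.mul_right, hB.neg_self, zero_add]

theorem two_nsmul_self (x : Fˣ) : 2 • B x x = 0 := by
  rw [hB.self_eq, ← hB.pow_right]
  simp [hB.one_right]

theorem flip : IsStSymb (fun a b => B b a) where
  mul_left a b c := hB.mul_right c a b
  mul_right a b c := hB.mul_left b c a
  steinberg a b h := hB.steinberg b a (by rw [add_comm]; exact h)

end IsStSymb

end StSymb

section Slots

variable {F : Type u} [Field F]

/-- For positions `i < j`, the symbol as a function of the entries in slots `i` and `j` is an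
abstract Steinberg symbol. -/
theorem isStSymb_slots {n : ℕ} (x : Fin n → Fˣ) {i j : Fin n} (hij : i < j) :
    IsStSymb (fun a b => symbol (Function.update (Function.update x i a) j b)) where
  mul_left a b c := by
    have hne : i ≠ j := ne_of_lt hij
    rw [Function.update_comm hne, Function.update_comm hne, Function.update_comm hne]
    exact symbol_update_mul _ i a b
  mul_right a b c := symbol_update_mul _ j b c
  steinberg a b h := by
    refine symbol_eq_zero_of_isSteinberg _ ⟨i, j, hij, ?_⟩
    rw [Function.update_self, Function.update_of_ne (ne_of_lt hij), Function.update_self]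
    exact h

theorem isStSymb_two : IsStSymb (fun a b : Fˣ => (symbol ![a, b] : K F 2)) := by
  have h := isStSymb_slots (F := F) (n := 2) ![1, 1] (i := 0) (j := 1) (by decide)
  convert h using 3 with a b
  congr 1
  funext k
  fin_cases k <;> simp

end Slots

section FiniteField

variable {F : Type u} [Field F] {M : Type w} [AddCommGroup M]

open Polynomial in
/-- In a finite field of odd characteristic there are nonsquares `x`, `y` with `x + y = 1`,
of the form `c s²`, `c t²` for a fixed nonsquare `c`. -/
theorem exists_nonsquare_add_eq_one [Fintype F] (hF : ringChar F ≠ 2) :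
    ∃ c s t : F, ¬IsSquare c ∧ c ≠ 0 ∧ s ≠ 0 ∧ t ≠ 0 ∧ c * s ^ 2 + c * t ^ 2 = 1 := by
  obtain ⟨c, hc⟩ := FiniteField.exists_nonsquare hF
  have hc0 : c ≠ 0 := by
    rintro rfl
    exact hc ⟨0, by simp⟩
  have hf2 : degree (C c * X ^ 2 : F[X]) = 2 := by
    rw [degree_C_mul_X_pow 2 hc0]; rfl
  have hg2 : degree (C c * X ^ 2 - C 1 : F[X]) = 2 := by
    rw [degree_sub_C (by rw [hf2]; norm_num), hf2]
  obtain ⟨s, t, hst⟩ := FiniteField.exists_root_sum_quadratic hf2 hg2
    (FiniteField.odd_card_of_char_ne_two hF)
  simp only [eval_mul, eval_C, eval_pow, eval_X, eval_sub] at hst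
  have hsum : c * s ^ 2 + c * t ^ 2 = 1 := by linear_combination hst
  refine ⟨c, s, t, hc, hc0, ?_, ?_, hsum⟩
  · rintro rfl
    apply hc
    have ht0 : t ≠ 0 := by
      rintro rfl
      simp at hsum
    refine ⟨t⁻¹, ?_⟩
    field_simp
    linear_combination hsum
  · rintro rfl
    apply hc
    have hs0 : s ≠ 0 := by
      rintro rfl
      simp at hsum
    refine ⟨s⁻¹, ?_⟩
    field_simp
    linear_combination hsum

/-- Every abstract Steinberg symbol on a finite field vanishes. -/
theorem IsStSymb.eq_zero_of_finite [Finite F] {B : Fˣ → Fˣ → M} (hB : IsStSymb B) (a b : Fˣ) :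
    B a b = 0 := by
  classical
  haveI := Fintype.ofFinite F
  obtain ⟨g, hg⟩ := IsCyclic.exists_generator (α := Fˣ)
  have hgen : ∀ a b : Fˣ, ∃ k : ℤ, B a b = k • B g g := by
    intro a b
    obtain ⟨k, rfl⟩ := Subgroup.mem_zpowers_iff.mp (hg a)
    obtain ⟨l, rfl⟩ := Subgroup.mem_zpowers_iff.mp (hg b)
    exact ⟨k * l, by rw [hB.zpow_left, hB.zpow_right, mul_smul]⟩
  have hgg : (2 : ℤ) • B g g = 0 := by
    have := hB.two_nsmul_self g
    rw [← natCast_zsmul] at this
    exact_mod_cast this
  have h2 : ∀ a b : Fˣ, (2 : ℤ) • B a b = 0 := by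
    intro a b
    obtain ⟨k, hk⟩ := hgen a b
    rw [hk, smul_comm, hgg, smul_zero]
  suffices key : B g g = 0 by
    obtain ⟨k, hk⟩ := hgen a b
    rw [hk, key, smul_zero]
  by_cases hchar : (-1 : F) = 1
  · have h1 : (-1 : Fˣ) = 1 := Units.ext (by simpa using hchar)
    rw [hB.self_eq, h1, hB.one_right]
  · have hF : ringChar F ≠ 2 := by
      intro h
      apply hchar
      haveI : CharP F 2 := h ▸ ringChar.charP F
      exact CharTwo.neg_eq 1
    obtain ⟨c, s, t, hc, hc0, hs0, ht0, hsum⟩ := exists_nonsquare_add_eq_one hF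
    set cu : Fˣ := Units.mk0 c hc0 with hcu
    set su : Fˣ := Units.mk0 s hs0 with hsu
    set tu : Fˣ := Units.mk0 t ht0 with htu
    have h0 : B (cu * su ^ 2) (cu * tu ^ 2) = 0 :=
      hB.steinberg _ _ (by simpa [hcu, hsu, htu] using hsum)
    rw [hB.mul_left, hB.mul_right, hB.mul_right, hB.pow_left, hB.pow_right, hB.pow_right,
      hB.pow_left] at h0
    have e1 : ((2 : ℕ) • B cu tu) = 0 := by
      rw [← natCast_zsmul]; exact_mod_cast h2 cu tu
    have e2 : ((2 : ℕ) • B su cu) = 0 := by
      rw [← natCast_zsmul]; exact_mod_cast h2 su cu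
    have e3 : ((2 : ℕ) • B su tu) = 0 := by
      rw [← natCast_zsmul]; exact_mod_cast h2 su tu
    rw [e1, e2, e3, smul_zero, add_zero, add_zero, add_zero] at h0
    -- `cu = g ^ k` with `k` odd
    obtain ⟨k, hk⟩ := Subgroup.mem_zpowers_iff.mp (hg cu)
    have hodd : Odd k := by
      rw [← Int.not_even_iff_odd]
      rintro ⟨m, rfl⟩
      apply hc
      refine ⟨((g ^ m : Fˣ) : F), ?_⟩
      have : cu = g ^ m * g ^ m := by rw [← hk, zpow_add]
      have h' := congrArg (fun u : Fˣ => (u : F)) this
      simpa [hcu] using h'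
    rw [← hk, hB.zpow_left, hB.zpow_right, ← mul_smul] at h0
    obtain ⟨m, hm⟩ := (hodd.mul hodd)
    rw [hm, add_smul, mul_smul, smul_comm, hgg, smul_zero, zero_add, one_smul] at h0
    exact h0

end FiniteField

section Perm

variable {F : Type u} [Field F]

theorem symbol_comp_swap {n : ℕ} (x : Fin n → Fˣ) {i j : Fin n} (hij : i ≠ j) :
    symbol (x ∘ Equiv.swap i j) = -symbol x := by
  wlog h : i < j generalizing i j
  · have hji : j < i := lt_of_le_of_ne (not_lt.mp h) (Ne.symm hij)
    rw [Equiv.swap_comm]
    exact this (Ne.symm hij) hji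
  have hB := isStSymb_slots x h
  have e1 : x ∘ Equiv.swap i j = Function.update (Function.update x i (x j)) j (x i) := by
    funext k
    by_cases hkj : k = j
    · subst hkj; simp
    · by_cases hki : k = i
      · subst hki; simp [Function.update_of_ne hkj]
      · simp [Function.update_of_ne hkj, Function.update_of_ne hki, Equiv.swap_apply_of_ne_of_ne hki hkj]
  have e2 : symbol x = symbol (Function.update (Function.update x i (x i)) j (x j)) := by
    simp only [Function.update_eq_self]
  rw [e1, e2]
  exact hB.antisymm (x j) (x i)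

theorem symbol_comp_perm {n : ℕ} (σ : Equiv.Perm (Fin n)) (x : Fin n → Fˣ) :
    symbol (x ∘ σ) = ((Equiv.Perm.sign σ : ℤˣ) : ℤ) • symbol x := by
  induction σ using Equiv.Perm.swap_induction_on generalizing x with
  | one => simp
  | swap_mul τ i j hij ih =>
    have e : x ∘ ⇑(Equiv.swap i j * τ) = (x ∘ Equiv.swap i j) ∘ τ := by
      funext k; simp
    rw [e, ih, symbol_comp_swap x hij, Equiv.Perm.sign_mul, Equiv.Perm.sign_swap hij]
    simp

end Perm

section BlockSwap

theorem finRotate_pow_val (N k : ℕ) (i : Fin N) :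
    (((finRotate N) ^ k) i).val = (i.val + k) % N := by
  induction k with
  | zero => simp [Nat.mod_eq_of_lt i.isLt]
  | succ k ih =>
    cases N with
    | zero => exact i.elim0
    | succ N =>
      rw [pow_succ', Equiv.Perm.mul_apply, finRotate_succ_apply, Fin.val_add, ih, Fin.val_one']
      rw [Nat.add_mod_mod, Nat.mod_add_mod, add_assoc]

theorem append_comp_rotate {α : Type*} {n m : ℕ} (a : Fin n → α) (b : Fin m → α) :
    (Fin.append a b) ∘ ((finRotate (n + m)) ^ n) = (Fin.append b a) ∘ Fin.cast (Nat.add_comm n m) := by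
  funext i
  simp only [Function.comp_apply]
  obtain ⟨i', rfl⟩ : ∃ i' : Fin (m + n), i = Fin.cast (Nat.add_comm m n) i' :=
    ⟨Fin.cast (Nat.add_comm n m) i, by simp⟩
  induction i' using Fin.addCases with
  | left j =>
    have e : ((finRotate (n + m)) ^ n) (Fin.cast (Nat.add_comm m n) (Fin.castAdd n j)) =
        Fin.natAdd n j := by
      apply Fin.ext
      rw [finRotate_pow_val]
      simp only [Fin.val_cast, Fin.val_castAdd, Fin.val_natAdd]
      rw [Nat.mod_eq_of_lt (by have := j.isLt; omega)]
      omega
    rw [e, Fin.append_right]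
    simp
  | right j =>
    have e : ((finRotate (n + m)) ^ n) (Fin.cast (Nat.add_comm m n) (Fin.natAdd m j)) =
        Fin.castAdd m j := by
      apply Fin.ext
      rw [finRotate_pow_val]
      simp only [Fin.val_cast, Fin.val_castAdd, Fin.val_natAdd]
      have hj := j.isLt
      have : m + ↑j + n = (n + m) + j := by omega
      rw [this, Nat.add_mod_left, Nat.mod_eq_of_lt (by omega)]
    rw [e, Fin.append_left]
    simp

theorem sign_finRotate_pow (n m : ℕ) :
    Equiv.Perm.sign ((finRotate (n + m)) ^ n) = (-1) ^ (n * m) := by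
  rw [map_pow, sign_finRotate, ← pow_mul]
  cases n with
  | zero => simp
  | succ n =>
    have e : (n + 1 + m - 1) * (n + 1) = (n + 1) * m + 2 * ((n + 1) * n / 2) := by
      have h2 : 2 ∣ (n + 1) * n := by
        have := Nat.even_mul_succ_self n
        rw [mul_comm] at this
        exact this.two_dvd
      rw [Nat.mul_div_cancel' h2]
      have : n + 1 + m - 1 = n + m := by omega
      rw [this]
      ring
    rw [e, pow_add, pow_mul]
    simp

end BlockSwap

section GradedComm

variable {F : Type u} [Field F]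

theorem symbol_append_comm {n m : ℕ} (a : Fin n → Fˣ) (b : Fin m → Fˣ) :
    symbol (Fin.append a b) =
      ((-1 : ℤ) ^ (n * m)) • symbol ((Fin.append b a) ∘ Fin.cast (Nat.add_comm n m)) := by
  rw [← append_comp_rotate, symbol_comp_perm, sign_finRotate_pow, smul_smul]
  have : ((-1 : ℤ) ^ (n * m)) * (((-1 : ℤˣ) ^ (n * m) : ℤˣ) : ℤ) = 1 := by
    rw [Units.val_pow_eq_pow_val, Units.val_neg, Units.val_one, ← mul_pow]
    simp
  rw [this, one_smul]

theorem milk_mul_comm (n m : ℕ) (x : K F n) (y : K F m) :
    MilK.mul F n m x y =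
      ((-1 : ℤ) ^ (n * m)) • MilK.cast F (Nat.add_comm m n) (MilK.mul F m n y x) := by
  refine milk_induction (P := fun x => MilK.mul F n m x y =
      ((-1 : ℤ) ^ (n * m)) • MilK.cast F (Nat.add_comm m n) (MilK.mul F m n y x)) x ?_ ?_ ?_ ?_
  · intro a
    refine milk_induction (P := fun y => MilK.mul F n m (symbol a) y =
      ((-1 : ℤ) ^ (n * m)) • MilK.cast F (Nat.add_comm m n) (MilK.mul F m n y (symbol a))) y ?_ ?_ ?_ ?_
    · intro b
      rw [mul_symbol_symbol, mul_symbol_symbol, cast_symbol, symbol_append_comm]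
    · simp
    · intro y₁ y₂ h₁ h₂
      simp only [map_add, AddMonoidHom.add_apply, h₁, h₂, smul_add]
    · intro y₁ h₁
      simp only [map_neg, AddMonoidHom.neg_apply, h₁, smul_neg]
  · simp
  · intro x₁ x₂ h₁ h₂
    simp only [map_add, AddMonoidHom.add_apply, h₁, h₂, smul_add]
  · intro x₁ h₁
    simp only [map_neg, AddMonoidHom.neg_apply, h₁, smul_neg]

end GradedComm

section Expand

variable {F : Type u} [Field F]

theorem toMul_piecewise_ofMul {n : ℕ} (s : Finset (Fin n)) (a b : Fin n → Fˣ) :
    (fun i => (s.piecewise (fun i => Additive.ofMul (a i)) (fun i => Additive.ofMul (b i)) i).toMul) =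
      s.piecewise a b := by
  funext i
  by_cases hi : i ∈ s
  · simp [Finset.piecewise_eq_of_mem _ _ _ hi]
  · simp [Finset.piecewise_eq_of_notMem _ _ _ hi]

/-- Multilinear expansion of a symbol whose entries are products. -/
theorem symbol_mul_expand {n : ℕ} (a b : Fin n → Fˣ) :
    symbol (fun i => a i * b i) = ∑ s : Finset (Fin n), symbol (s.piecewise a b) := by
  classical
  have h := (symbolML F n).map_add_univ (fun i => Additive.ofMul (a i)) (fun i => Additive.ofMul (b i))
  simp only [symbolML_apply, toMul_piecewise_ofMul] at h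
  rw [← h]
  rfl

theorem symbol_zpow_piecewise {n : ℕ} (p : Fin n → Fˣ) (e : Fin n → ℤ) (w : Fin n → Fˣ)
    (s : Finset (Fin n)) :
    symbol (s.piecewise (fun i => p i ^ e i) w) = (∏ i ∈ s, e i) • symbol (s.piecewise p w) := by
  classical
  have h := (symbolML F n).map_piecewise_smul e
    (s.piecewise (fun i => Additive.ofMul (p i)) (fun i => Additive.ofMul (w i))) s
  have e1 : s.piecewise (fun i => e i • s.piecewise (fun i => Additive.ofMul (p i))
        (fun i => Additive.ofMul (w i)) i)
      (s.piecewise (fun i => Additive.ofMul (p i)) (fun i => Additive.ofMul (w i))) =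
      s.piecewise (fun i => Additive.ofMul (p i ^ e i)) (fun i => Additive.ofMul (w i)) := by
    funext i
    by_cases hi : i ∈ s
    · simp [Finset.piecewise_eq_of_mem _ _ _ hi, ofMul_zpow]
    · simp [Finset.piecewise_eq_of_notMem _ _ _ hi]
  rw [e1] at h
  simpa only [symbolML_apply, toMul_piecewise_ofMul] using h

/-- Full expansion of a symbol with entries `p i ^ e i * w i`. -/
theorem symbol_zpow_mul_expand {n : ℕ} (p : Fin n → Fˣ) (e : Fin n → ℤ) (w : Fin n → Fˣ) :
    symbol (fun i => p i ^ e i * w i) =
      ∑ s : Finset (Fin n), (∏ i ∈ s, e i) • symbol (s.piecewise p w) := by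
  rw [symbol_mul_expand]
  exact Finset.sum_congr rfl fun s _ => symbol_zpow_piecewise p e w s

end Expand

section Elim

variable {F : Type u} [Field F]

/-- If slots `i < j` of a tuple hold `-p` and `p`, the symbol vanishes. -/
theorem symbol_eq_zero_of_neg_pair {n : ℕ} (z : Fin n → Fˣ) {i j : Fin n} (hij : i < j) (p : Fˣ)
    (hi : z i = -p) (hj : z j = p) : symbol z = 0 := by
  have hB := isStSymb_slots z hij
  have h := hB.neg_self' p
  rw [← hi, ← hj, Function.update_eq_self, Function.update_eq_self] at h
  exact h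

/-- If slots `i < j` of a tuple hold `p` and `-p`, the symbol vanishes. -/
theorem symbol_eq_zero_of_pair_neg {n : ℕ} (z : Fin n → Fˣ) {i j : Fin n} (hij : i < j) (p : Fˣ)
    (hi : z i = p) (hj : z j = -p) : symbol z = 0 := by
  have hB := isStSymb_slots z hij
  have h := hB.neg_self p
  rw [← hj, ← hi, Function.update_eq_self, Function.update_eq_self] at h
  exact h

/-- `{-p, p^{e₁} w₁, …, p^{eₙ} wₙ} = {-p, w₁, …, wₙ}`. -/
theorem symbol_cons_neg_zpow_mul {n : ℕ} (p : Fˣ) (e : Fin n → ℤ) (w : Fin n → Fˣ) :
    symbol (Fin.cons (-p) (fun i => p ^ e i * w i) : Fin (n + 1) → Fˣ) =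
      symbol (Fin.cons (-p) w : Fin (n + 1) → Fˣ) := by
  classical
  have e0 : (Fin.cons (-p) (fun i => p ^ e i * w i) : Fin (n + 1) → Fˣ) =
      fun i => (fun _ => p) i ^ (Fin.cons 0 e : Fin (n + 1) → ℤ) i *
        (Fin.cons (-p) w : Fin (n + 1) → Fˣ) i := by
    funext i
    cases i using Fin.cases <;> simp
  rw [e0, symbol_zpow_mul_expand]
  rw [Finset.sum_eq_single (∅ : Finset (Fin (n + 1)))]
  · simp
  · intro s _ hs
    by_cases h0 : (0 : Fin (n + 1)) ∈ s
    · rw [Finset.prod_eq_zero h0 (by simp), zero_smul]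
    · obtain ⟨j, hj⟩ := Finset.nonempty_iff_ne_empty.mpr hs
      have hj0 : (0 : Fin (n + 1)) < j := by
        rw [Fin.pos_iff_ne_zero]
        rintro rfl
        exact h0 hj
      rw [symbol_eq_zero_of_neg_pair _ hj0 p, smul_zero]
      · rw [Finset.piecewise_eq_of_notMem _ _ _ h0]; simp
      · rw [Finset.piecewise_eq_of_mem _ _ _ hj]
  · intro h; exact absurd (Finset.mem_univ _) h

end Elim

section UpdatePow

variable {F : Type u} [Field F]

theorem symbol_update_pow {n : ℕ} (x : Fin n → Fˣ) (i : Fin n) (a : Fˣ) (k : ℕ) :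
    symbol (Function.update x i (a ^ k)) = k • symbol (Function.update x i a) := by
  induction k with
  | zero => simp [symbol_update_one]
  | succ k ih => rw [pow_succ, symbol_update_mul, ih, succ_nsmul]

end UpdatePow

section AddIdentity

variable {F : Type u} [Field F] {M : Type w} [AddCommGroup M]

/-- `B(b, c) + B(b + c, -b/c) = 0`. -/
theorem IsStSymb.add_identity {B : Fˣ → Fˣ → M} (hB : IsStSymb B) (b c a : Fˣ)
    (ha : (a : F) = (b : F) + (c : F)) : B b c + B a (-(b / c)) = 0 := by
  have h0 : B (b * a⁻¹) (c * a⁻¹) = 0 := by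
    apply hB.steinberg
    simp only [Units.val_mul, Units.val_inv_eq_inv_val]
    rw [← add_mul, ← ha, mul_inv_cancel₀ a.ne_zero]
  rw [hB.mul_left, hB.mul_right, hB.mul_right, hB.inv_right, hB.inv_left, hB.inv_left, hB.inv_right,
    neg_neg, hB.antisymm b a, hB.self_eq a] at h0
  have e : -(b / c) = (-1) * b * c⁻¹ := by
    rw [div_eq_mul_inv]; simp
  rw [e, hB.mul_right, hB.mul_right, hB.inv_right]
  rw [← h0]
  abel

end AddIdentity

section ConsMul

variable {F : Type u} [Field F]

/-- `{a} · {y₁, …, yₙ}`, regarded in degree `n + 1`, is `{a, y₁, …, yₙ}`. -/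
theorem cast_mul_symbol_one {n : ℕ} (a : Fˣ) (y : Fin n → Fˣ) :
    MilK.cast F (Nat.add_comm 1 n) (MilK.mul F 1 n (symbol ![a]) (symbol y)) =
      symbol (Fin.cons a y : Fin (n + 1) → Fˣ) := by
  rw [mul_symbol_symbol, cast_symbol, Fin.append_left_eq_cons]
  congr 1

theorem symbol_cons_cons_swap {n : ℕ} (a b : Fˣ) (y : Fin n → Fˣ) :
    symbol (Fin.cons a (Fin.cons b y) : Fin (n + 1 + 1) → Fˣ) =
      -symbol (Fin.cons b (Fin.cons a y) : Fin (n + 1 + 1) → Fˣ) := by
  have h := symbol_comp_swap (Fin.cons b (Fin.cons a y) : Fin (n + 1 + 1) → Fˣ)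
    (i := 0) (j := 1) (by simp)
  rw [← h]
  congr 1
  funext k
  cases k using Fin.cases with
  | zero =>
    simp only [Fin.cons_zero, Function.comp_apply, Equiv.swap_apply_left]
    exact (Fin.cons_succ (α := fun _ => Fˣ) b (Fin.cons a y) 0).symm
  | succ k =>
    cases k using Fin.cases with
    | zero =>
      show (Fin.cons b y : Fin (n + 1) → Fˣ) 0 =
        (Fin.cons b (Fin.cons a y) : Fin (n + 1 + 1) → Fˣ) (Equiv.swap 0 1 1)
      rw [Equiv.swap_apply_right]
      rfl
    | succ k =>
      have h0 : (k.succ.succ : Fin (n + 1 + 1)) ≠ 0 := Fin.succ_ne_zero _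
      have h1 : (k.succ.succ : Fin (n + 1 + 1)) ≠ 1 := by
        intro h
        have : (Fin.succ (0 : Fin (n + 1)) : Fin (n + 1 + 1)) = 1 := rfl
        rw [← this] at h
        exact Fin.succ_ne_zero k (Fin.succ_injective _ h)
      simp only [Fin.cons_succ, Function.comp_apply, Equiv.swap_apply_of_ne_of_ne h0 h1]

end ConsMul

section Closure

variable {F : Type u} [Field F] {M : Type w} [AddCommGroup M]

theorem symbol_update_inv {n : ℕ} (x : Fin n → Fˣ) (i : Fin n) (a : Fˣ) :
    symbol (Function.update x i a⁻¹) = -symbol (Function.update x i a) := by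
  have h := symbol_update_mul x i a a⁻¹
  rw [mul_inv_cancel, symbol_update_one] at h
  exact eq_neg_of_add_eq_zero_right h.symm

/-- If a subgroup contains all symbols with entries in `T`, it contains all symbols with entries
in the subgroup generated by `T`. -/
theorem symbol_mem_of_closure {n : ℕ} (T : Set Fˣ) (S : AddSubgroup (K F n))
    (hT : ∀ z : Fin n → Fˣ, (∀ j, z j ∈ T) → symbol z ∈ S) (z : Fin n → Fˣ)
    (hz : ∀ j, z j ∈ Subgroup.closure T) : symbol z ∈ S := by
  classical
  have key : ∀ s : Finset (Fin n), ∀ z : Fin n → Fˣ, (∀ j ∈ s, z j ∈ Subgroup.closure T) →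
      (∀ j, j ∉ s → z j ∈ T) → symbol z ∈ S := by
    intro s
    induction s using Finset.induction_on with
    | empty =>
      intro z _ h2
      exact hT z fun j => h2 j (Finset.notMem_empty j)
    | insert i s hi ih =>
      intro z h1 h2
      have hzi : z i ∈ Subgroup.closure T := h1 i (Finset.mem_insert_self i s)
      have hP : ∀ y ∈ Subgroup.closure T, symbol (Function.update z i y) ∈ S := by
        intro y hy
        induction hy using Subgroup.closure_induction with
        | mem y hy =>
          apply ih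
          · intro j hj
            have hji : j ≠ i := by rintro rfl; exact hi hj
            rw [Function.update_of_ne hji]
            exact h1 j (Finset.mem_insert_of_mem hj)
          · intro j hj
            by_cases hji : j = i
            · subst hji; rw [Function.update_self]; exact hy
            · rw [Function.update_of_ne hji]
              exact h2 j (by simp [hji, hj])
        | one => rw [symbol_update_one]; exact S.zero_mem
        | mul a b _ _ ha hb => rw [symbol_update_mul]; exact S.add_mem ha hb
        | inv a _ ha => rw [symbol_update_inv]; exact S.neg_mem ha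
      have := hP (z i) hzi
      rwa [Function.update_eq_self] at this
  exact key Finset.univ z (fun j _ => hz j) (fun j hj => absurd (Finset.mem_univ j) hj)

/-- If a Steinberg symbol takes values in `H` on `T × T`, it does so on the generated subgroup. -/
theorem IsStSymb.mem_of_closure {B : Fˣ → Fˣ → M} (hB : IsStSymb B) (T : Set Fˣ) (H : AddSubgroup M)
    (hT : ∀ x ∈ T, ∀ y ∈ T, B x y ∈ H) {x y : Fˣ} (hx : x ∈ Subgroup.closure T)
    (hy : y ∈ Subgroup.closure T) : B x y ∈ H := by
  have h1 : ∀ x ∈ T, ∀ y ∈ Subgroup.closure T, B x y ∈ H := by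
    intro x hx y hy
    induction hy using Subgroup.closure_induction with
    | mem y hy => exact hT x hx y hy
    | one => rw [hB.one_right]; exact H.zero_mem
    | mul a b _ _ ha hb => rw [hB.mul_right]; exact H.add_mem ha hb
    | inv a _ ha => rw [hB.inv_right]; exact H.neg_mem ha
  induction hx using Subgroup.closure_induction with
  | mem x hx => exact h1 x hx y hy
  | one => rw [hB.one_left]; exact H.zero_mem
  | mul a b _ _ ha hb => rw [hB.mul_left]; exact H.add_mem ha hb
  | inv a _ ha => rw [hB.inv_left]; exact H.neg_mem ha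

/-- If `x + f = y` then `B(x, y) = B(x, f) - B(y, f) + B(y, -1)`. -/
theorem IsStSymb.add_eq {B : Fˣ → Fˣ → M} (hB : IsStSymb B) (x y f : Fˣ)
    (h : (x : F) + (f : F) = (y : F)) : B x y = B x f - B y f + B y (-1) := by
  have h0 : B (x * y⁻¹) (f * y⁻¹) = 0 := by
    apply hB.steinberg
    simp only [Units.val_mul, Units.val_inv_eq_inv_val]
    rw [← add_mul, h, mul_inv_cancel₀ y.ne_zero]
  rw [hB.mul_left, hB.mul_right, hB.mul_right, hB.inv_right, hB.inv_left, hB.inv_left, hB.inv_right,
    neg_neg, hB.self_eq y] at h0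
  have : B x y = B x f - B y f + B y (-1) - (B x f + -B x y + (-B y f + B y (-1))) := by abel
  rw [this, h0, sub_zero]

end Closure

end Groth.Agent.H6
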