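import Mathlib
import Groth.Prelude.Def_GSzMilK
import Groth.Agent.Lib.Helper6.MilKLib

/-! Helper library (helper6): Milnor K-groups of the fraction field of a discrete valuation ring. -/

namespace Groth.Agent.H6

open MilK

universe u v w

section DVR

variable (A : Type u) [CommRing A] [IsDomain A] [IsDiscreteValuationRing A]
  (L : Type v) [Field L] [Algebra A L] [IsFractionRing A L]

theorem unitFrac_mul (a b : A) (ha : a ≠ 0) (hb : b ≠ 0) :
    unitFrac A L (a * b) (mul_ne_zero ha hb) = unitFrac A L a ha * unitFrac A L b hb := by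
  ext; simp [map_mul]

theorem unitFrac_unit (u : Aˣ) : unitFrac A L (u : A) u.ne_zero = unitToFrac A L u := by
  ext; simp [unitToFrac]

theorem unitFrac_neg (a : A) (ha : a ≠ 0) :
    unitFrac A L (-a) (neg_ne_zero.mpr ha) = -unitFrac A L a ha := by
  ext; simp

theorem unitToFrac_neg_one : unitToFrac A L (-1) = -1 := by
  ext; simp [unitToFrac]

theorem unitFrac_mul_unit (a : A) (ha : a ≠ 0) (u : Aˣ) :
    unitFrac A L (a * u) (mul_ne_zero ha u.ne_zero) = unitFrac A L a ha * unitToFrac A L u := by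
  rw [unitFrac_mul A L a u ha u.ne_zero, unitFrac_unit]

theorem coe_unitToFrac (u : Aˣ) : ((unitToFrac A L u : Lˣ) : L) = algebraMap A L u := rfl

/-- Every nonzero element of the fraction field is a power of the uniformizer times a unit. -/
theorem exists_zpow_mul_unit (ϖ : A) (hϖ : Irreducible ϖ) (y : Lˣ) :
    ∃ (e : ℤ) (u : Aˣ), y = unitFrac A L ϖ hϖ.ne_zero ^ e * unitToFrac A L u := by
  obtain ⟨a, b, hb, hab⟩ := IsFractionRing.div_surjective (A := A) (y : L)
  have hb0 : b ≠ 0 := nonZeroDivisors.ne_zero hb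
  have ha0 : a ≠ 0 := by
    rintro rfl
    rw [map_zero, zero_div] at hab
    exact y.ne_zero hab.symm
  obtain ⟨n₁, u₁, h₁⟩ := IsDiscreteValuationRing.eq_unit_mul_pow_irreducible ha0 hϖ
  obtain ⟨n₂, u₂, h₂⟩ := IsDiscreteValuationRing.eq_unit_mul_pow_irreducible hb0 hϖ
  refine ⟨(n₁ : ℤ) - n₂, u₁ * u₂⁻¹, ?_⟩
  ext
  have hP : algebraMap A L ϖ ≠ 0 := (unitFrac A L ϖ hϖ.ne_zero).ne_zero
  have hu₂ : algebraMap A L (u₂ : A) ≠ 0 := (unitToFrac A L u₂).ne_zero
  have hinv : algebraMap A L ((u₂⁻¹ : Aˣ) : A) = (algebraMap A L (u₂ : A))⁻¹ := by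
    apply eq_inv_of_mul_eq_one_left
    rw [← map_mul]; simp
  rw [← hab, h₁, h₂]
  simp only [Units.val_mul, Units.val_zpow_eq_zpow_val, coe_unitFrac, coe_unitToFrac, map_mul,
    map_pow, hinv]
  rw [zpow_sub₀ hP, zpow_natCast, zpow_natCast]
  field_simp

end DVR

section Tame

variable {A : Type u} [CommRing A] [IsDomain A] [IsDiscreteValuationRing A]
  {L : Type v} [Field L] [Algebra A L] [IsFractionRing A L]

theorem irreducible_mul_unit {ϖ : A} (hϖ : Irreducible ϖ) (u : Aˣ) : Irreducible (ϖ * u) :=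
  (irreducible_mul_units u).mpr hϖ

/-- The tame symbol kills symbols all of whose entries are units. -/
theorem IsTameSymbol.unit_symbol {n : ℕ} {d : K L (n + 1) →+ K (IsLocalRing.ResidueField A) n}
    (hd : IsTameSymbol A L n d) (u : Fin (n + 1) → Aˣ) :
    d (symbol fun i => unitToFrac A L (u i)) = 0 := by
  obtain ⟨ϖ, hϖ⟩ := IsDiscreteValuationRing.exists_irreducible A
  set v : Fin n → Aˣ := fun i => u i.succ with hv
  have h1 := hd ϖ hϖ v
  have h2 := hd (ϖ * u 0) (irreducible_mul_unit hϖ (u 0)) v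
  have e0 : (fun i => unitToFrac A L (u i)) =
      Fin.cons (unitToFrac A L (u 0)) (fun i => unitToFrac A L (v i)) := by
    funext i
    cases i using Fin.cases <;> simp [hv]
  have e1 : symbol (Fin.cons (unitFrac A L (ϖ * u 0) (irreducible_mul_unit hϖ (u 0)).ne_zero)
        (fun i => unitToFrac A L (v i))) =
      symbol (Fin.cons (unitFrac A L ϖ hϖ.ne_zero) (fun i => unitToFrac A L (v i))) +
      symbol (Fin.cons (unitToFrac A L (u 0)) (fun i => unitToFrac A L (v i))) := by
    have := symbol_update_mul (Fin.cons (unitToFrac A L (u 0)) (fun i => unitToFrac A L (v i)))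
      (0 : Fin (n + 1)) (unitFrac A L ϖ hϖ.ne_zero) (unitToFrac A L (u 0))
    simp only [Fin.update_cons_zero] at this
    rw [← this, unitFrac_mul_unit]
  rw [e1, map_add, h1] at h2
  rw [e0]
  exact add_eq_left.mp h2

end Tame

section Decomp

variable (A : Type u) [CommRing A] [IsDomain A] [IsDiscreteValuationRing A]
  (L : Type v) [Field L] [Algebra A L] [IsFractionRing A L]

theorem algebraMap_injective_frac : Function.Injective (algebraMap A L) :=
  IsFractionRing.injective A L

theorem residue_irreducible {ϖ : A} (hϖ : Irreducible ϖ) : IsLocalRing.residue A ϖ = 0 := by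
  rw [IsLocalRing.residue_eq_zero_iff, IsLocalRing.mem_maximalIdeal]
  exact hϖ.not_isUnit

/-- The homomorphism `(e, u) ↦ π^e u`. -/
noncomputable def dvrPhi (ϖ : A) (hϖ : Irreducible ϖ) : Multiplicative ℤ × Aˣ →* Lˣ where
  toFun p := unitFrac A L ϖ hϖ.ne_zero ^ (Multiplicative.toAdd p.1) * unitToFrac A L p.2
  map_one' := by simp
  map_mul' p q := by
    simp only [Prod.fst_mul, Prod.snd_mul, toAdd_mul, zpow_add, map_mul]
    exact mul_mul_mul_comm _ _ _ _

theorem dvr_pow_eq_unit (ϖ : A) (hϖ : Irreducible ϖ) (n : ℕ) (u : Aˣ)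
    (h : unitFrac A L ϖ hϖ.ne_zero ^ n = unitToFrac A L u) : n = 0 := by
  by_contra hn
  have h' := congrArg (fun y : Lˣ => (y : L)) h
  simp only [Units.val_pow_eq_pow_val, coe_unitFrac, coe_unitToFrac, ← map_pow] at h'
  have h'' := algebraMap_injective_frac A L h'
  have hu : IsUnit (ϖ ^ n) := h'' ▸ u.isUnit
  exact hϖ.not_isUnit ((isUnit_pow_iff hn).mp hu)

theorem dvr_zpow_mul_eq_one (ϖ : A) (hϖ : Irreducible ϖ) (e : ℤ) (u : Aˣ)
    (h : unitFrac A L ϖ hϖ.ne_zero ^ e * unitToFrac A L u = 1) : e = 0 ∧ u = 1 := by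
  have he : e = 0 := by
    obtain ⟨n, rfl | rfl⟩ := Int.eq_nat_or_neg e
    · have h1 : unitFrac A L ϖ hϖ.ne_zero ^ n = unitToFrac A L u⁻¹ := by
        rw [zpow_natCast] at h
        rw [map_inv]
        exact eq_inv_of_mul_eq_one_left h
      have := dvr_pow_eq_unit A L ϖ hϖ n _ h1
      simp [this]
    · have h1 : unitFrac A L ϖ hϖ.ne_zero ^ n = unitToFrac A L u := by
        rw [zpow_neg, zpow_natCast] at h
        exact (inv_mul_eq_one.mp h)
      have := dvr_pow_eq_unit A L ϖ hϖ n _ h1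
      simp [this]
  refine ⟨he, ?_⟩
  subst he
  rw [zpow_zero, one_mul] at h
  have h' := congrArg (fun y : Lˣ => (y : L)) h
  simp only [coe_unitToFrac, Units.val_one] at h'
  ext
  apply algebraMap_injective_frac A L
  rw [h', Units.val_one, map_one]

theorem dvrPhi_bijective (ϖ : A) (hϖ : Irreducible ϖ) : Function.Bijective (dvrPhi A L ϖ hϖ) := by
  constructor
  · rw [injective_iff_map_eq_one]
    rintro ⟨e, u⟩ h
    obtain ⟨h1, h2⟩ := dvr_zpow_mul_eq_one A L ϖ hϖ (Multiplicative.toAdd e) u h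
    ext
    · exact h1
    · simp [h2]
  · intro y
    obtain ⟨e, u, rfl⟩ := exists_zpow_mul_unit A L ϖ hϖ y
    exact ⟨(Multiplicative.ofAdd e, u), rfl⟩

/-- The decomposition `Lˣ ≃ ℤ × Aˣ` attached to a uniformizer. -/
noncomputable def dvrEquiv (ϖ : A) (hϖ : Irreducible ϖ) : Lˣ ≃* Multiplicative ℤ × Aˣ :=
  (MulEquiv.ofBijective (dvrPhi A L ϖ hϖ) (dvrPhi_bijective A L ϖ hϖ)).symm

theorem dvrEquiv_apply (ϖ : A) (hϖ : Irreducible ϖ) (e : ℤ) (u : Aˣ) :
    dvrEquiv A L ϖ hϖ (unitFrac A L ϖ hϖ.ne_zero ^ e * unitToFrac A L u) =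
      (Multiplicative.ofAdd e, u) := by
  rw [dvrEquiv, MulEquiv.symm_apply_eq]
  rfl

/-- `π^e u ↦ ū`. -/
noncomputable def dvrLam (ϖ : A) (hϖ : Irreducible ϖ) : Lˣ →* (IsLocalRing.ResidueField A)ˣ :=
  (unitResidue A).comp ((MonoidHom.snd _ _).comp (dvrEquiv A L ϖ hϖ).toMonoidHom)

/-- `π^e u ↦ e`. -/
noncomputable def dvrVal (ϖ : A) (hϖ : Irreducible ϖ) : Lˣ →* Multiplicative ℤ :=
  (MonoidHom.fst _ _).comp (dvrEquiv A L ϖ hϖ).toMonoidHom

theorem dvrLam_apply (ϖ : A) (hϖ : Irreducible ϖ) (e : ℤ) (u : Aˣ) :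
    dvrLam A L ϖ hϖ (unitFrac A L ϖ hϖ.ne_zero ^ e * unitToFrac A L u) = unitResidue A u := by
  simp [dvrLam, dvrEquiv_apply]

theorem dvrVal_apply (ϖ : A) (hϖ : Irreducible ϖ) (e : ℤ) (u : Aˣ) :
    dvrVal A L ϖ hϖ (unitFrac A L ϖ hϖ.ne_zero ^ e * unitToFrac A L u) = Multiplicative.ofAdd e := by
  simp [dvrVal, dvrEquiv_apply]

theorem dvrLam_unit (ϖ : A) (hϖ : Irreducible ϖ) (u : Aˣ) :
    dvrLam A L ϖ hϖ (unitToFrac A L u) = unitResidue A u := by
  have := dvrLam_apply A L ϖ hϖ 0 u
  simpa using this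

/-- An element of `Lˣ` whose value is the image of `c ∈ A` with nonzero residue. -/
theorem dvrLam_of_coe (ϖ : A) (hϖ : Irreducible ϖ) (y : Lˣ) (c : A) (hc : IsUnit c)
    (hy : (y : L) = algebraMap A L c) :
    ((dvrLam A L ϖ hϖ y : (IsLocalRing.ResidueField A)ˣ) : IsLocalRing.ResidueField A) =
      IsLocalRing.residue A c := by
  obtain ⟨w, rfl⟩ := hc
  have : y = unitToFrac A L w := by
    ext; rw [hy]; rfl
  rw [this, dvrLam_unit]
  rfl

end Decomp

section LamSteinberg

variable (A : Type u) [CommRing A] [IsDomain A] [IsDiscreteValuationRing A]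
  (L : Type v) [Field L] [Algebra A L] [IsFractionRing A L]

theorem residue_pow_irreducible {ϖ : A} (hϖ : Irreducible ϖ) {n : ℕ} (hn : n ≠ 0) :
    IsLocalRing.residue A (ϖ ^ n) = 0 := by
  rw [map_pow, residue_irreducible A hϖ, zero_pow hn]

theorem dvrLam_pow (ϖ : A) (hϖ : Irreducible ϖ) (e : ℤ) :
    dvrLam A L ϖ hϖ (unitFrac A L ϖ hϖ.ne_zero ^ e) = 1 := by
  have := dvrLam_apply A L ϖ hϖ e 1
  simpa using this

theorem dvrLam_steinberg_pos (ϖ : A) (hϖ : Irreducible ϖ) (a b : Lˣ) (h : (a : L) + (b : L) = 1)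
    (e : ℤ) (u : Aˣ) (ha : a = unitFrac A L ϖ hϖ.ne_zero ^ e * unitToFrac A L u) (he : 0 < e) :
    dvrLam A L ϖ hϖ b = 1 := by
  obtain ⟨n, rfl⟩ := Int.eq_ofNat_of_zero_le he.le
  have hn : n ≠ 0 := by rintro rfl; simp at he
  have hb : (b : L) = algebraMap A L (1 - ϖ ^ n * u) := by
    rw [eq_sub_of_add_eq' h, ha]
    simp only [zpow_natCast, Units.val_mul, Units.val_pow_eq_pow_val, coe_unitFrac, coe_unitToFrac,
      map_sub, map_one, map_mul, map_pow]
  have hres : IsLocalRing.residue A (1 - ϖ ^ n * u) = 1 := by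
    rw [map_sub, map_mul, residue_pow_irreducible A hϖ hn]; simp
  have hunit : IsUnit (1 - ϖ ^ n * (u : A)) := by
    rw [← IsLocalRing.residue_ne_zero_iff_isUnit, hres]; exact one_ne_zero
  ext
  rw [dvrLam_of_coe A L ϖ hϖ b _ hunit hb, hres, Units.val_one]

theorem dvrLam_steinberg_neg (ϖ : A) (hϖ : Irreducible ϖ) (a b : Lˣ) (h : (a : L) + (b : L) = 1)
    (e : ℤ) (u : Aˣ) (ha : a = unitFrac A L ϖ hϖ.ne_zero ^ e * unitToFrac A L u) (he : e < 0) :
    dvrLam A L ϖ hϖ b = -dvrLam A L ϖ hϖ a := by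
  obtain ⟨n, hn⟩ : ∃ n : ℕ, e = -(n : ℤ) := ⟨(-e).toNat, by omega⟩
  subst hn
  have hn : n ≠ 0 := by rintro rfl; simp at he
  set P := unitFrac A L ϖ hϖ.ne_zero with hP
  have hP0 : (P : L) ≠ 0 := P.ne_zero
  have hb : ((P ^ n * b : Lˣ) : L) = algebraMap A L (ϖ ^ n - u) := by
    have hb' : (b : L) = 1 - (a : L) := eq_sub_of_add_eq' h
    rw [Units.val_mul, hb', ha]
    simp only [zpow_neg, zpow_natCast, Units.val_mul, Units.val_pow_eq_pow_val, Units.val_inv_eq_inv_val,
      coe_unitToFrac, map_sub, map_pow, hP, coe_unitFrac]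
    have : (algebraMap A L ϖ) ^ n ≠ 0 := pow_ne_zero _ (by simpa [hP] using hP0)
    field_simp
  have hres : IsLocalRing.residue A (ϖ ^ n - u) = -IsLocalRing.residue A (u : A) := by
    rw [map_sub, residue_pow_irreducible A hϖ hn, zero_sub]
  have hunit : IsUnit (ϖ ^ n - (u : A)) := by
    rw [← IsLocalRing.residue_ne_zero_iff_isUnit, hres, neg_ne_zero,
      IsLocalRing.residue_ne_zero_iff_isUnit]
    exact u.isUnit
  have h1 := dvrLam_of_coe A L ϖ hϖ _ _ hunit hb
  rw [map_mul, ← zpow_natCast, dvrLam_pow, one_mul] at h1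
  ext
  rw [h1, hres, ha, dvrLam_apply]
  rfl

theorem dvrLam_steinberg (ϖ : A) (hϖ : Irreducible ϖ) (a b : Lˣ) (h : (a : L) + (b : L) = 1) :
    dvrLam A L ϖ hϖ a = 1 ∨ dvrLam A L ϖ hϖ b = 1 ∨
      ((dvrLam A L ϖ hϖ a : (IsLocalRing.ResidueField A)ˣ) : IsLocalRing.ResidueField A) +
        ((dvrLam A L ϖ hϖ b : (IsLocalRing.ResidueField A)ˣ) : IsLocalRing.ResidueField A) = 1 ∨
      dvrLam A L ϖ hϖ b = -dvrLam A L ϖ hϖ a := by
  obtain ⟨e, u, ha⟩ := exists_zpow_mul_unit A L ϖ hϖ a
  obtain ⟨e', u', hb⟩ := exists_zpow_mul_unit A L ϖ hϖ b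
  have h' : (b : L) + (a : L) = 1 := by rw [add_comm]; exact h
  rcases lt_trichotomy e 0 with he | he | he
  · exact Or.inr (Or.inr (Or.inr (dvrLam_steinberg_neg A L ϖ hϖ a b h e u ha he)))
  · rcases lt_trichotomy e' 0 with he' | he' | he'
    · refine Or.inr (Or.inr (Or.inr ?_))
      have := dvrLam_steinberg_neg A L ϖ hϖ b a h' e' u' hb he'
      rw [this, neg_neg]
    · refine Or.inr (Or.inr (Or.inl ?_))
      subst he he'
      rw [zpow_zero, one_mul] at ha hb
      rw [ha, hb, dvrLam_unit, dvrLam_unit]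
      rw [ha, hb, coe_unitToFrac, coe_unitToFrac, ← map_add] at h
      have h1 : (u : A) + (u' : A) = 1 := algebraMap_injective_frac A L (by rw [h, map_one])
      have h2 := congrArg (IsLocalRing.residue A) h1
      rw [map_add, map_one] at h2
      exact h2
    · exact Or.inl (dvrLam_steinberg_pos A L ϖ hϖ b a h' e' u' hb he')
  · exact Or.inr (Or.inl (dvrLam_steinberg_pos A L ϖ hϖ a b h e u ha he))

end LamSteinberg

section SpecMap

variable {F : Type u} [Field F] {E : Type v} [Field E]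

/-- Apply a homomorphism of unit groups entrywise and take the symbol: a multilinear map. -/
noncomputable def symbolCompML (φ : Fˣ →* Eˣ) (n : ℕ) :
    MultilinearMap ℤ (fun _ : Fin n => Additive Fˣ) (K E n) :=
  (symbolML E n).compLinearMap (fun _ => (MonoidHom.toAdditive φ).toIntLinearMap)

theorem symbolCompML_apply (φ : Fˣ →* Eˣ) {n : ℕ} (x : Fin n → Fˣ) :
    symbolCompML φ n (fun i => Additive.ofMul (x i)) = symbol (fun i => φ (x i)) := rfl

variable (A : Type u) [CommRing A] [IsDomain A] [IsDiscreteValuationRing A]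
  (L : Type v) [Field L] [Algebra A L] [IsFractionRing A L]

theorem symbol_dvrLam_steinberg (ϖ : A) (hϖ : Irreducible ϖ) {n : ℕ} (x : Fin n → Lˣ)
    (hx : IsSteinberg L x) : symbol (fun i => dvrLam A L ϖ hϖ (x i)) = 0 := by
  obtain ⟨i, j, hij, h⟩ := hx
  rcases dvrLam_steinberg A L ϖ hϖ (x i) (x j) h with h1 | h1 | h1 | h1
  · exact symbol_eq_zero_of_eq_one _ i h1
  · exact symbol_eq_zero_of_eq_one _ j h1
  · exact symbol_eq_zero_of_isSteinberg _ ⟨i, j, hij, h1⟩
  · exact symbol_eq_zero_of_pair_neg _ hij _ rfl h1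

/-- The specialization map attached to a uniformizer. -/
noncomputable def specMap (ϖ : A) (hϖ : Irreducible ϖ) (n : ℕ) :
    K L n →+ K (IsLocalRing.ResidueField A) n :=
  MilK.lift (symbolCompML (dvrLam A L ϖ hϖ) n) (fun x hx => by
    rw [symbolCompML_apply]
    exact symbol_dvrLam_steinberg A L ϖ hϖ x hx)

theorem specMap_symbol (ϖ : A) (hϖ : Irreducible ϖ) {n : ℕ} (x : Fin n → Lˣ) :
    specMap A L ϖ hϖ n (symbol x) = symbol (fun i => dvrLam A L ϖ hϖ (x i)) := by
  rw [specMap, lift_symbol, symbolCompML_apply]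

theorem isSpecMap_specMap (ϖ : A) (hϖ : Irreducible ϖ) (n : ℕ) :
    IsSpecMap A L ϖ hϖ n (specMap A L ϖ hϖ n) := by
  intro e u
  rw [specMap_symbol]
  congr 1
  funext i
  exact dvrLam_apply A L ϖ hϖ (e i) (u i)

variable {A L}

theorem IsSpecMap.symbol_eq {ϖ : A} {hϖ : Irreducible ϖ} {n : ℕ}
    {s : K L n →+ K (IsLocalRing.ResidueField A) n} (hs : IsSpecMap A L ϖ hϖ n s) (x : Fin n → Lˣ) :
    s (symbol x) = symbol (fun i => dvrLam A L ϖ hϖ (x i)) := by
  choose e u hy using fun i => exists_zpow_mul_unit A L ϖ hϖ (x i)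
  have hx : x = fun i => unitFrac A L ϖ hϖ.ne_zero ^ e i * unitToFrac A L (u i) := funext hy
  rw [hx, hs e u]
  congr 1
  funext i
  exact (dvrLam_apply A L ϖ hϖ (e i) (u i)).symm

theorem IsSpecMap.eq_specMap {ϖ : A} {hϖ : Irreducible ϖ} {n : ℕ}
    {s : K L n →+ K (IsLocalRing.ResidueField A) n} (hs : IsSpecMap A L ϖ hϖ n s) :
    s = specMap A L ϖ hϖ n :=
  milk_hom_ext fun x => by rw [IsSpecMap.symbol_eq hs, specMap_symbol]

end SpecMap

section OneUnits

variable {A : Type u} [CommRing A] [IsDomain A] [IsDiscreteValuationRing A]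
  {L : Type v} [Field L] [Algebra A L] [IsFractionRing A L] {M : Type w} [AddCommGroup M]

theorem exists_eq_one_add_mul {ϖ : A} (hϖ : Irreducible ϖ) (u₀ : Aˣ)
    (h₀ : IsLocalRing.residue A (u₀ : A) = 1) : ∃ c : A, (u₀ : A) = 1 + c * ϖ := by
  have hmem : (u₀ : A) - 1 ∈ IsLocalRing.maximalIdeal A := by
    rw [← IsLocalRing.residue_eq_zero_iff, map_sub, h₀, map_one, sub_self]
  rw [hϖ.maximalIdeal_eq, Ideal.mem_span_singleton'] at hmem
  obtain ⟨c, hc⟩ := hmem
  exact ⟨c, by rw [hc]; ring⟩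

/-- Unit-coefficient case: `B(1 + cπ, π) = -B(1 + cπ, -c)`. -/
theorem IsStSymb.one_add_unit_mul {B : Lˣ → Lˣ → M} (hB : IsStSymb B) {ϖ : A} (hϖ : Irreducible ϖ)
    (c x : Aˣ) (hx : (x : A) = 1 + c * ϖ) :
    B (unitToFrac A L x) (unitFrac A L ϖ hϖ.ne_zero) =
      -B (unitToFrac A L x) (unitToFrac A L (-c)) := by
  set P := unitFrac A L ϖ hϖ.ne_zero with hP
  have h1 : B (unitToFrac A L (-c) * P) (unitToFrac A L x) = 0 := by
    apply hB.steinberg
    simp only [Units.val_mul, coe_unitToFrac, hP, coe_unitFrac, hx, Units.val_neg, map_neg, map_add,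
      map_one, map_mul]
    ring
  have h2 := hB.antisymm (unitToFrac A L x) (unitToFrac A L (-c) * P)
  rw [h1, neg_zero, hB.mul_right] at h2
  exact eq_neg_of_add_eq_zero_right h2

/-- For a unit `u₀ ≡ 1` and a Steinberg symbol `B` whose values on pairs of units of `A` lie in a
subgroup `H`, also `B(u₀, π) ∈ H`. -/
theorem IsStSymb.one_unit_mem {B : Lˣ → Lˣ → M} (hB : IsStSymb B) (H : AddSubgroup M)
    (hH : ∀ x y : Aˣ, B (unitToFrac A L x) (unitToFrac A L y) ∈ H) {ϖ : A} (hϖ : Irreducible ϖ)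
    (u₀ : Aˣ) (h₀ : IsLocalRing.residue A (u₀ : A) = 1) :
    B (unitToFrac A L u₀) (unitFrac A L ϖ hϖ.ne_zero) ∈ H := by
  have step1 : ∀ c x : Aˣ, (x : A) = 1 + c * ϖ →
      B (unitToFrac A L x) (unitFrac A L ϖ hϖ.ne_zero) ∈ H := by
    intro c x hx
    rw [hB.one_add_unit_mul hϖ c x hx]
    exact H.neg_mem (hH _ _)
  obtain ⟨c, hc⟩ := exists_eq_one_add_mul hϖ u₀ h₀
  by_cases hcu : IsUnit c
  · obtain ⟨c', rfl⟩ := hcu
    exact step1 c' u₀ hc
  · have hres1 : IsLocalRing.residue A (1 + ϖ) = 1 := by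
      rw [map_add, map_one, residue_irreducible A hϖ, add_zero]
    have hu1 : IsUnit (1 + ϖ) := by
      rw [← IsLocalRing.residue_ne_zero_iff_isUnit, hres1]; exact one_ne_zero
    obtain ⟨x₁, hx₁⟩ := hu1
    set x₂ : Aˣ := u₀ * x₁⁻¹ with hx₂
    have hprod : u₀ = x₁ * x₂ := by rw [hx₂]; simp
    have hcres : IsLocalRing.residue A c = 0 := by
      by_contra h
      exact hcu ((IsLocalRing.residue_ne_zero_iff_isUnit c).mp h)
    have hx₂res : IsLocalRing.residue A (x₂ : A) = 1 := by
      have h1 : (x₂ : A) * (x₁ : A) = u₀ := by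
        rw [← Units.val_mul, hx₂]; simp
      have h2 := congrArg (IsLocalRing.residue A) h1
      rw [map_mul, hx₁, hres1, mul_one, hc, map_add, map_mul, hcres, zero_mul, add_zero,
        map_one] at h2
      exact h2
    have hc'u : IsUnit (c - (x₂ : A)) := by
      rw [← IsLocalRing.residue_ne_zero_iff_isUnit, map_sub, hcres, hx₂res, zero_sub]
      exact neg_ne_zero.mpr one_ne_zero
    obtain ⟨c', hc'⟩ := hc'u
    have hx₂eq : (x₂ : A) = 1 + c' * ϖ := by
      have h1 : (x₂ : A) * (x₁ : A) = u₀ := by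
        rw [← Units.val_mul, hx₂]; simp
      rw [hx₁, hc] at h1
      rw [hc']
      linear_combination h1
    rw [hprod, map_mul, hB.mul_left]
    refine H.add_mem (step1 1 x₁ ?_) (step1 c' x₂ hx₂eq)
    rw [hx₁]; simp

end OneUnits

section UnitSymbols

variable (A : Type u) [CommRing A] [IsDomain A] [IsDiscreteValuationRing A]
  (L : Type v) [Field L] [Algebra A L] [IsFractionRing A L]

/-- The subgroup of `K L n` generated by symbols all of whose entries are units of `A`. -/
def unitSymbols (n : ℕ) : AddSubgroup (K L n) :=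
  AddSubgroup.closure {z : K L n | ∃ u : Fin n → Aˣ, z = symbol (fun i => unitToFrac A L (u i))}

variable {A L}

theorem unitSymbols_mem {n : ℕ} (u : Fin n → Aˣ) :
    symbol (fun i => unitToFrac A L (u i)) ∈ unitSymbols A L n :=
  AddSubgroup.subset_closure ⟨u, rfl⟩

theorem update_unitToFrac {n : ℕ} (W : Fin n → Aˣ) (j : Fin n) (y : Aˣ) :
    Function.update (fun i => unitToFrac A L (W i)) j (unitToFrac A L y) =
      fun i => unitToFrac A L (Function.update W j y i) := by
  funext i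
  by_cases h : i = j
  · subst h; simp
  · simp [Function.update_of_ne h]

theorem update_piecewise_erase {n : ℕ} {α : Type*} (s : Finset (Fin n)) (f g : Fin n → α)
    (b : Fin n) (c : α) :
    Function.update (s.piecewise f g) b c = (s.erase b).piecewise f (Function.update g b c) := by
  funext i
  by_cases h : i = b
  · subst h; simp
  · by_cases hi : i ∈ s
    · simp [Function.update_of_ne h, hi, h]
    · simp [Function.update_of_ne h, hi, h]

/-- Symbols with a unit `≡ 1` in slot `0`, uniformizers in the slots of `s ∌ 0` and units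
elsewhere lie in the subgroup generated by unit symbols. -/
theorem piecewise_mem_unitSymbols {ϖ : A} (hϖ : Irreducible ϖ) {n : ℕ} (k : ℕ) :
    ∀ (s : Finset (Fin (n + 1))), s.card = k → (0 : Fin (n + 1)) ∉ s → ∀ W : Fin (n + 1) → Aˣ,
      IsLocalRing.residue A (W 0 : A) = 1 →
      symbol (s.piecewise (fun _ => unitFrac A L ϖ hϖ.ne_zero) (fun i => unitToFrac A L (W i))) ∈
        unitSymbols A L (n + 1) := by
  classical
  induction k with
  | zero =>
    intro s hs _ W _
    rw [Finset.card_eq_zero] at hs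
    subst hs
    rw [Finset.piecewise_empty]
    exact unitSymbols_mem W
  | succ k ih =>
    intro s hs h0 W hW
    set P := unitFrac A L ϖ hϖ.ne_zero with hP
    set z := s.piecewise (fun _ => P) (fun i => unitToFrac A L (W i)) with hz
    obtain ⟨j, hj⟩ : s.Nonempty := Finset.card_pos.mp (by omega)
    by_cases hex : ∃ i ∈ s, i ≠ j
    · obtain ⟨i, hi, hij⟩ := hex
      -- two slots `a < b` in `s`
      obtain ⟨a, b, ha, hb, hab⟩ : ∃ a b : Fin (n + 1), a ∈ s ∧ b ∈ s ∧ a < b := by
        rcases lt_or_gt_of_ne hij with h | h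
        · exact ⟨i, j, hi, hj, h⟩
        · exact ⟨j, i, hj, hi, h⟩
      have hB := isStSymb_slots z hab
      have hza : z a = P := by rw [hz, Finset.piecewise_eq_of_mem _ _ _ ha]
      have hzb : z b = P := by rw [hz, Finset.piecewise_eq_of_mem _ _ _ hb]
      have h1 := hB.self_eq P
      have e1 : Function.update (Function.update z a P) b P = z := by
        rw [← hza, Function.update_eq_self, hza, ← hzb, Function.update_eq_self]
      have e0 : Function.update z a P = z := by
        rw [← hza, Function.update_eq_self]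
      have e2 : Function.update (Function.update z a P) b (-1) =
          (s.erase b).piecewise (fun _ => P) (fun i => unitToFrac A L (Function.update W b (-1) i)) := by
        rw [e0, hz, update_piecewise_erase, ← unitToFrac_neg_one A L, update_unitToFrac]
      rw [e1, e2] at h1
      rw [h1]
      have hb0 : b ≠ 0 := by rintro rfl; exact h0 hb
      refine ih (s.erase b) ?_ ?_ _ ?_
      · rw [Finset.card_erase_of_mem hb, hs]; rfl
      · intro h; exact h0 (Finset.mem_of_mem_erase h)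
      · rw [Function.update_of_ne (Ne.symm hb0)]; exact hW
    · -- `s = {j}`
      have hj0 : (0 : Fin (n + 1)) < j := by
        rw [Fin.pos_iff_ne_zero]; rintro rfl; exact h0 hj
      have hB := isStSymb_slots z hj0
      have hz0 : z 0 = unitToFrac A L (W 0) := by
        rw [hz, Finset.piecewise_eq_of_notMem _ _ _ h0]
      have hzj : z j = P := by rw [hz, Finset.piecewise_eq_of_mem _ _ _ hj]
      have hs' : s = {j} := by
        ext i
        rw [Finset.mem_singleton]
        constructor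
        · intro hi
          by_contra hne
          exact hex ⟨i, hi, hne⟩
        · rintro rfl; exact hj
      have hmem := hB.one_unit_mem (unitSymbols A L (n + 1)) (fun x y => ?_) hϖ (W 0) hW
      · have e1 : Function.update (Function.update z 0 (unitToFrac A L (W 0))) j P = z := by
          rw [← hz0, Function.update_eq_self, ← hzj, Function.update_eq_self]
        rw [← hP, e1] at hmem
        exact hmem
      · have e2 : Function.update (Function.update z 0 (unitToFrac A L x)) j (unitToFrac A L y) =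
            fun i => unitToFrac A L (Function.update (Function.update W 0 x) j y i) := by
          rw [← update_unitToFrac, ← update_unitToFrac]
          funext i
          by_cases hij : i = j
          · subst hij; simp
          · rw [Function.update_of_ne hij, Function.update_of_ne hij]
            by_cases hi0 : i = 0
            · subst hi0; simp
            · rw [Function.update_of_ne hi0, Function.update_of_ne hi0, hz, hs',
                Finset.piecewise_eq_of_notMem _ _ _ (by simpa using hij)]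
        show symbol (Function.update (Function.update z 0 (unitToFrac A L x)) j (unitToFrac A L y)) ∈ _
        rw [e2]
        exact unitSymbols_mem _

end UnitSymbols

section OneUnitSymbols

variable (A : Type u) [CommRing A] [IsDomain A] [IsDiscreteValuationRing A]
  (L : Type v) [Field L] [Algebra A L] [IsFractionRing A L]

/-- The subgroup of `K L (n+1)` generated by symbols whose first entry is a unit `≡ 1`. -/
def oneUnitSymbols (n : ℕ) : AddSubgroup (K L (n + 1)) :=
  AddSubgroup.closure {z : K L (n + 1) | ∃ (u₀ : Aˣ) (w : Fin n → Lˣ),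
    IsLocalRing.residue A (u₀ : A) = 1 ∧ z = symbol (Fin.cons (unitToFrac A L u₀) w)}

variable {A L}

theorem cons_unit_mem_unitSymbols {n : ℕ} (u₀ : Aˣ) (h₀ : IsLocalRing.residue A (u₀ : A) = 1)
    (w : Fin n → Lˣ) :
    symbol (Fin.cons (unitToFrac A L u₀) w : Fin (n + 1) → Lˣ) ∈ unitSymbols A L (n + 1) := by
  classical
  obtain ⟨ϖ, hϖ⟩ := IsDiscreteValuationRing.exists_irreducible A
  choose e v hw using fun i => exists_zpow_mul_unit A L ϖ hϖ (w i)
  set P := unitFrac A L ϖ hϖ.ne_zero with hP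
  have e0 : (Fin.cons (unitToFrac A L u₀) w : Fin (n + 1) → Lˣ) =
      fun i => (fun _ => P) i ^ (Fin.cons 0 e : Fin (n + 1) → ℤ) i *
        (fun i => unitToFrac A L ((Fin.cons u₀ v : Fin (n + 1) → Aˣ) i)) i := by
    funext i
    cases i using Fin.cases with
    | zero => simp
    | succ i => simp [hw i, hP]
  rw [e0, symbol_zpow_mul_expand]
  refine AddSubgroup.sum_mem _ fun s _ => ?_
  by_cases h0 : (0 : Fin (n + 1)) ∈ s
  · rw [Finset.prod_eq_zero h0 (by simp), zero_smul]
    exact AddSubgroup.zero_mem _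
  · refine AddSubgroup.zsmul_mem _ ?_ _
    exact piecewise_mem_unitSymbols hϖ s.card s rfl h0 _ (by simpa using h₀)

theorem oneUnitSymbols_le_unitSymbols (n : ℕ) :
    oneUnitSymbols A L n ≤ unitSymbols A L (n + 1) := by
  rw [oneUnitSymbols, AddSubgroup.closure_le]
  rintro _ ⟨u₀, w, h₀, rfl⟩
  exact cons_unit_mem_unitSymbols u₀ h₀ w

end OneUnitSymbols

end Groth.Agent.H6
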