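import Mathlib
import Groth.Prelude.Def_GSzMilK
import Groth.Agent.Lib.Helper6.MilKLib
import Groth.Agent.Lib.Helper6.MilKDVR

/-! Helper library (helper6): coresidue-type maps `K_m(κ) → K_N(L) / H` for a DVR. -/

namespace Groth.Agent.H6

open MilK

universe u v w

section MlOfAdd

/-- A function on tuples which is additive in each slot is integer-multilinear. -/
def mlOfAdd {G : Type*} {M : Type*} [AddCommGroup G] [AddCommGroup M] {n : ℕ}
    (f : (Fin n → G) → M)
    (hadd : ∀ (v : Fin n → G) (i : Fin n) (a b : G),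
      f (Function.update v i (a + b)) = f (Function.update v i a) + f (Function.update v i b)) :
    MultilinearMap ℤ (fun _ : Fin n => G) M where
  toFun := f
  map_update_add' := by
    intro dec v i a b
    have : dec = instDecidableEqFin n := Subsingleton.elim _ _
    subst this
    exact hadd v i a b
  map_update_smul' := by
    intro dec v i c a
    have : dec = instDecidableEqFin n := Subsingleton.elim _ _
    subst this
    let φ : G →+ M := AddMonoidHom.mk' (fun a => f (Function.update v i a)) (hadd v i)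
    exact map_zsmul φ c a

@[simp]
theorem mlOfAdd_apply {G : Type*} {M : Type*} [AddCommGroup G] [AddCommGroup M] {n : ℕ}
    (f : (Fin n → G) → M) (hadd) (v : Fin n → G) : mlOfAdd f hadd v = f v := rfl

end MlOfAdd

section SlotEmb

variable (F : Type u) [Field F]

/-- A way of inserting an `m`-tuple into the slots of an `N`-tuple. -/
structure SlotEmb (m N : ℕ) where
  emb : (Fin m → Fˣ) → (Fin N → Fˣ)
  ι : Fin m → Fin N
  mono : StrictMono ι
  emb_update : ∀ (v : Fin m → Fˣ) (i : Fin m) (a : Fˣ),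
    emb (Function.update v i a) = Function.update (emb v) (ι i) a
  emb_apply : ∀ (v : Fin m → Fˣ) (i : Fin m), emb v (ι i) = v i

variable {F}

/-- The identity slot embedding. -/
def SlotEmb.refl (m : ℕ) : SlotEmb F m m where
  emb v := v
  ι := id
  mono := strictMono_id
  emb_update _ _ _ := rfl
  emb_apply _ _ := rfl

/-- Prepending a fixed entry. -/
def SlotEmb.cons (c : Fˣ) (m : ℕ) : SlotEmb F m (m + 1) where
  emb v := Fin.cons c v
  ι := Fin.succ
  mono := Fin.strictMono_succ
  emb_update v i a := Fin.cons_update _ _ _ _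
  emb_apply v i := by simp

end SlotEmb

section Psi

variable {A : Type u} [CommRing A] [IsDomain A] [IsDiscreteValuationRing A]
  {L : Type v} [Field L] [Algebra A L] [IsFractionRing A L]

theorem unitResidue_surjective : Function.Surjective (unitResidue A) := by
  intro x
  obtain ⟨a, ha⟩ := IsLocalRing.residue_surjective (x : IsLocalRing.ResidueField A)
  have hu : IsUnit a := by
    rw [← IsLocalRing.residue_ne_zero_iff_isUnit, ha]; exact x.ne_zero
  obtain ⟨w, rfl⟩ := hu
  exact ⟨w, Units.ext ha⟩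

/-- A set-theoretic section of the reduction of units. -/
noncomputable def unitSection : (IsLocalRing.ResidueField A)ˣ → Aˣ :=
  Function.surjInv (unitResidue_surjective (A := A))

@[simp]
theorem unitResidue_unitSection (x : (IsLocalRing.ResidueField A)ˣ) :
    unitResidue A (unitSection x) = x :=
  Function.surjInv_eq _ x

theorem coe_unitResidue (w : Aˣ) :
    ((unitResidue A w : (IsLocalRing.ResidueField A)ˣ) : IsLocalRing.ResidueField A) =
      IsLocalRing.residue A (w : A) := rfl

/-- `H` contains every symbol one of whose entries is a unit of `A` congruent to `1`. -/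
def OneUnitClosed {N : ℕ} (H : AddSubgroup (K L N)) : Prop :=
  ∀ (z : Fin N → Lˣ) (k : Fin N) (w : Aˣ), IsLocalRing.residue A (w : A) = 1 →
    z k = unitToFrac A L w → symbol z ∈ H

variable {N : ℕ} {H : AddSubgroup (K L N)}

theorem symbol_update_sub_mem (hH : OneUnitClosed (A := A) H) (z : Fin N → Lˣ) (k : Fin N)
    (x y : Aˣ) (hxy : unitResidue A x = unitResidue A y) :
    symbol (Function.update z k (unitToFrac A L x)) -
      symbol (Function.update z k (unitToFrac A L y)) ∈ H := by
  have hw : IsLocalRing.residue A ((y⁻¹ * x : Aˣ) : A) = 1 := by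
    rw [← coe_unitResidue, map_mul, map_inv, hxy, inv_mul_cancel, Units.val_one]
  have hx : x = y * (y⁻¹ * x) := by simp
  have h1 : symbol (Function.update z k (unitToFrac A L x)) =
      symbol (Function.update z k (unitToFrac A L y)) +
        symbol (Function.update z k (unitToFrac A L (y⁻¹ * x))) := by
    nth_rewrite 1 [hx]
    rw [map_mul, symbol_update_mul]
  rw [h1, add_sub_cancel_left]
  exact hH _ k _ hw (by simp)

theorem symbol_emb_sub_mem {m : ℕ} (E : SlotEmb L m N) (hH : OneUnitClosed (A := A) H)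
    (v v' : Fin m → Aˣ) (h : ∀ i, unitResidue A (v i) = unitResidue A (v' i)) :
    symbol (E.emb (fun i => unitToFrac A L (v' i))) -
      symbol (E.emb (fun i => unitToFrac A L (v i))) ∈ H := by
  classical
  have key : ∀ s : Finset (Fin m),
      symbol (E.emb (fun i => unitToFrac A L (s.piecewise v' v i))) -
        symbol (E.emb (fun i => unitToFrac A L (v i))) ∈ H := by
    intro s
    induction s using Finset.induction_on with
    | empty => simp [H.zero_mem]
    | insert i s hi ih =>
      rw [Finset.piecewise_insert, ← update_unitToFrac, E.emb_update]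
      set Z := E.emb (fun i => unitToFrac A L (s.piecewise v' v i)) with hZ
      have hZi : Z (E.ι i) = unitToFrac A L (v i) := by
        rw [hZ, E.emb_apply, Finset.piecewise_eq_of_notMem _ _ _ hi]
      have h1 := symbol_update_sub_mem hH Z (E.ι i) (v' i) (v i) (h i).symm
      rw [← hZi, Function.update_eq_self] at h1
      have := H.add_mem h1 ih
      rwa [sub_add_sub_cancel] at this
  have := key Finset.univ
  simpa using this

variable (H) in
/-- The function underlying the coresidue-type map. -/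
noncomputable def psiFun {m : ℕ} (E : SlotEmb L m N) :
    (Fin m → Additive (IsLocalRing.ResidueField A)ˣ) → K L N ⧸ H :=
  fun x => QuotientAddGroup.mk' H
    (symbol (E.emb (fun i => unitToFrac A L (unitSection (x i).toMul))))

theorem mk'_eq_of_sub_mem {a b : K L N} (h : a - b ∈ H) :
    QuotientAddGroup.mk' H a = QuotientAddGroup.mk' H b := by
  rw [← sub_eq_zero, ← map_sub]
  exact (QuotientAddGroup.eq_zero_iff _).mpr h

theorem psiFun_add {m : ℕ} (E : SlotEmb L m N) (hH : OneUnitClosed (A := A) H)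
    (x : Fin m → Additive (IsLocalRing.ResidueField A)ˣ) (i : Fin m)
    (a b : Additive (IsLocalRing.ResidueField A)ˣ) :
    psiFun H E (Function.update x i (a + b)) =
      psiFun H E (Function.update x i a) + psiFun H E (Function.update x i b) := by
  classical
  have hupd : ∀ c : Additive (IsLocalRing.ResidueField A)ˣ,
      (fun k => unitToFrac A L (unitSection ((Function.update x i c) k).toMul)) =
        Function.update (fun k => unitToFrac A L (unitSection (x k).toMul)) i
          (unitToFrac A L (unitSection c.toMul)) := by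
    intro c
    funext k
    by_cases hk : k = i
    · subst hk; simp
    · simp [Function.update_of_ne hk]
  simp only [psiFun, hupd, E.emb_update]
  set Z := E.emb (fun k => unitToFrac A L (unitSection (x k).toMul)) with hZ
  rw [← map_add]
  have h1 : symbol (Function.update Z (E.ι i) (unitToFrac A L (unitSection a.toMul))) +
      symbol (Function.update Z (E.ι i) (unitToFrac A L (unitSection b.toMul))) =
      symbol (Function.update Z (E.ι i)
        (unitToFrac A L (unitSection a.toMul * unitSection b.toMul))) := by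
    rw [map_mul, symbol_update_mul]
  rw [h1]
  apply mk'_eq_of_sub_mem
  apply symbol_update_sub_mem hH
  rw [map_mul, unitResidue_unitSection, unitResidue_unitSection, unitResidue_unitSection]
  rfl

/-- The multilinear map underlying the coresidue-type map. -/
noncomputable def psiML {m : ℕ} (E : SlotEmb L m N) (hH : OneUnitClosed (A := A) H) :
    MultilinearMap ℤ (fun _ : Fin m => Additive (IsLocalRing.ResidueField A)ˣ) (K L N ⧸ H) :=
  mlOfAdd (psiFun H E) (psiFun_add E hH)

theorem symbol_eq_zero_of_add_eq_one {F : Type*} [Field F] {n : ℕ} (z : Fin n → Fˣ) {i j : Fin n}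
    (hij : i ≠ j) (h : (z i : F) + (z j : F) = 1) : symbol z = 0 := by
  rcases lt_or_gt_of_ne hij with hlt | hlt
  · exact symbol_eq_zero_of_isSteinberg z ⟨i, j, hlt, h⟩
  · exact symbol_eq_zero_of_isSteinberg z ⟨j, i, hlt, by rw [add_comm]; exact h⟩

theorem psiML_steinberg {m : ℕ} (E : SlotEmb L m N) (hH : OneUnitClosed (A := A) H)
    (x : Fin m → (IsLocalRing.ResidueField A)ˣ) (hx : IsSteinberg (IsLocalRing.ResidueField A) x) :
    psiML E hH (fun i => Additive.ofMul (x i)) = 0 := by
  obtain ⟨i, j, hij, hsum⟩ := hx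
  rw [psiML, mlOfAdd_apply, psiFun]
  simp only [toMul_ofMul]
  set Z := E.emb (fun k => unitToFrac A L (unitSection (x k))) with hZ
  set a : Aˣ := unitSection (x i) with ha
  set b : Aˣ := unitSection (x j) with hb
  have hra : IsLocalRing.residue A (a : A) = x i := by
    rw [← coe_unitResidue, ha, unitResidue_unitSection]
  have hrb : IsLocalRing.residue A (b : A) = x j := by
    rw [← coe_unitResidue, hb, unitResidue_unitSection]
  have hres : IsLocalRing.residue A (1 - (a : A)) = x j := by
    rw [map_sub, map_one, hra, ← hsum]; ring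
  have hunit : IsUnit (1 - (a : A)) := by
    rw [← IsLocalRing.residue_ne_zero_iff_isUnit, hres]; exact (x j).ne_zero
  obtain ⟨b', hb'⟩ := hunit
  have hbb' : unitResidue A b = unitResidue A b' := by
    ext
    rw [coe_unitResidue, coe_unitResidue, hrb, hb', hres]
  have hZj : Z (E.ι j) = unitToFrac A L b := by rw [hZ, E.emb_apply]
  have hZi : Z (E.ι i) = unitToFrac A L a := by rw [hZ, E.emb_apply]
  have hne : E.ι i ≠ E.ι j := (E.mono hij).ne
  have h1 := symbol_update_sub_mem hH Z (E.ι j) b b' hbb'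
  rw [← hZj, Function.update_eq_self] at h1
  have h2 : symbol (Function.update Z (E.ι j) (unitToFrac A L b')) = 0 := by
    apply symbol_eq_zero_of_add_eq_one _ hne
    rw [Function.update_self, Function.update_of_ne hne, hZi, coe_unitToFrac, coe_unitToFrac, hb',
      ← map_add]
    simp
  rw [h2, sub_zero] at h1
  exact (QuotientAddGroup.eq_zero_iff _).mpr h1

/-- The coresidue-type map `K_m(κ) → K_N(L) / H`, `{ū₁, …, ū_m} ↦ [{…, u₁, …, u_m, …}]`. -/
noncomputable def psi {m : ℕ} (E : SlotEmb L m N) (hH : OneUnitClosed (A := A) H) :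
    K (IsLocalRing.ResidueField A) m →+ K L N ⧸ H :=
  MilK.lift (psiML E hH) (psiML_steinberg E hH)

theorem psi_symbol {m : ℕ} (E : SlotEmb L m N) (hH : OneUnitClosed (A := A) H) (u : Fin m → Aˣ) :
    psi E hH (symbol (fun i => unitResidue A (u i))) =
      QuotientAddGroup.mk' H (symbol (E.emb (fun i => unitToFrac A L (u i)))) := by
  rw [psi, lift_symbol, psiML, mlOfAdd_apply, psiFun]
  simp only [toMul_ofMul]
  apply mk'_eq_of_sub_mem
  apply symbol_emb_sub_mem E hH
  intro i
  rw [unitResidue_unitSection]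

end Psi

section Generation

variable {A : Type u} [CommRing A] [IsDomain A] [IsDiscreteValuationRing A]
  {L : Type v} [Field L] [Algebra A L] [IsFractionRing A L]

/-- Two uniformizer entries can be traded for one uniformizer and a `-1`. -/
theorem symbol_piecewise_reduce {N : ℕ} (P : Lˣ) (s : Finset (Fin N)) (W : Fin N → Aˣ)
    {a b : Fin N} (ha : a ∈ s) (hb : b ∈ s) (hab : a < b) :
    symbol (s.piecewise (fun _ => P) (fun i => unitToFrac A L (W i))) =
      symbol ((s.erase b).piecewise (fun _ => P)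
        (fun i => unitToFrac A L (Function.update W b (-1) i))) := by
  classical
  set z := s.piecewise (fun _ => P) (fun i => unitToFrac A L (W i)) with hz
  have hB := isStSymb_slots z hab
  have hza : z a = P := by rw [hz, Finset.piecewise_eq_of_mem _ _ _ ha]
  have hzb : z b = P := by rw [hz, Finset.piecewise_eq_of_mem _ _ _ hb]
  have h1 := hB.self_eq P
  have e0 : Function.update z a P = z := by
    rw [← hza, Function.update_eq_self]
  have e1 : Function.update (Function.update z a P) b P = z := by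
    rw [e0, ← hzb, Function.update_eq_self]
  have e2 : Function.update (Function.update z a P) b (-1) =
      (s.erase b).piecewise (fun _ => P) (fun i => unitToFrac A L (Function.update W b (-1) i)) := by
    rw [e0, hz, update_piecewise_erase, ← unitToFrac_neg_one A L, update_unitToFrac]
  rw [e1, e2] at h1
  exact h1

variable (A L) in
/-- The generators `{π, u₁, …, uₙ}` and `{u₀, …, uₙ}` of `K_{n+1}(L)`. -/
def tameGens (ϖ : A) (hϖ : Irreducible ϖ) (n : ℕ) : Set (K L (n + 1)) :=
  {z | ∃ u : Fin n → Aˣ, z = symbol (Fin.cons (unitFrac A L ϖ hϖ.ne_zero)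
      (fun i => unitToFrac A L (u i)))} ∪
  {z | ∃ u : Fin (n + 1) → Aˣ, z = symbol (fun i => unitToFrac A L (u i))}

theorem piecewise_mem_closure_tameGens {ϖ : A} (hϖ : Irreducible ϖ) {n : ℕ} (k : ℕ) :
    ∀ (s : Finset (Fin (n + 1))), s.card = k → ∀ W : Fin (n + 1) → Aˣ,
      symbol (s.piecewise (fun _ => unitFrac A L ϖ hϖ.ne_zero) (fun i => unitToFrac A L (W i))) ∈
        AddSubgroup.closure (tameGens A L ϖ hϖ n) := by
  classical
  induction k with
  | zero =>
    intro s hs W
    rw [Finset.card_eq_zero] at hs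
    subst hs
    rw [Finset.piecewise_empty]
    exact AddSubgroup.subset_closure (Or.inr ⟨W, rfl⟩)
  | succ k ih =>
    intro s hs W
    set P := unitFrac A L ϖ hϖ.ne_zero with hP
    obtain ⟨j, hj⟩ : s.Nonempty := Finset.card_pos.mp (by omega)
    by_cases hex : ∃ i ∈ s, i ≠ j
    · obtain ⟨i, hi, hij⟩ := hex
      obtain ⟨a, b, ha, hb, hab⟩ : ∃ a b : Fin (n + 1), a ∈ s ∧ b ∈ s ∧ a < b := by
        rcases lt_or_gt_of_ne hij with h | h
        · exact ⟨i, j, hi, hj, h⟩
        · exact ⟨j, i, hj, hi, h⟩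
      rw [symbol_piecewise_reduce P s W ha hb hab]
      refine ih (s.erase b) ?_ _
      rw [Finset.card_erase_of_mem hb, hs]; rfl
    · have hs' : s = {j} := by
        ext i
        rw [Finset.mem_singleton]
        constructor
        · intro hi
          by_contra hne
          exact hex ⟨i, hi, hne⟩
        · rintro rfl; exact hj
      set z := s.piecewise (fun _ => P) (fun i => unitToFrac A L (W i)) with hz
      have hz' : z ∘ Equiv.swap 0 j =
          Fin.cons P (fun i => unitToFrac A L (W (Equiv.swap 0 j i.succ))) := by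
        funext i
        cases i using Fin.cases with
        | zero =>
          simp only [Function.comp_apply, Equiv.swap_apply_left, Fin.cons_zero]
          rw [hz, Finset.piecewise_eq_of_mem _ _ _ hj]
        | succ i =>
          simp only [Function.comp_apply, Fin.cons_succ]
          have hne : Equiv.swap 0 j i.succ ∉ s := by
            rw [hs', Finset.mem_singleton]
            intro h
            have := (Equiv.swap 0 j).injective (h.trans (Equiv.swap_apply_left 0 j).symm)
            exact Fin.succ_ne_zero i this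
          rw [hz, Finset.piecewise_eq_of_notMem _ _ _ hne]
      have hmem : symbol (z ∘ Equiv.swap 0 j) ∈ AddSubgroup.closure (tameGens A L ϖ hϖ n) := by
        rw [hz']
        exact AddSubgroup.subset_closure (Or.inl ⟨_, rfl⟩)
      by_cases hj0 : (0 : Fin (n + 1)) = j
      · rw [← hj0, Equiv.swap_self] at hmem
        exact hmem
      · rw [symbol_comp_swap z hj0] at hmem
        exact (AddSubgroup.neg_mem_iff _).mp hmem

theorem closure_tameGens_eq_top {ϖ : A} (hϖ : Irreducible ϖ) (n : ℕ) :
    AddSubgroup.closure (tameGens A L ϖ hϖ n) = ⊤ := by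
  classical
  rw [eq_top_iff, ← closure_symbol_eq_top, AddSubgroup.closure_le]
  rintro _ ⟨x, rfl⟩
  choose e v hw using fun i => exists_zpow_mul_unit A L ϖ hϖ (x i)
  have e0 : x = fun i => (fun _ => unitFrac A L ϖ hϖ.ne_zero) i ^ e i *
      (fun i => unitToFrac A L (v i)) i := funext hw
  rw [e0, symbol_zpow_mul_expand]
  refine AddSubgroup.sum_mem _ fun s _ => ?_
  refine AddSubgroup.zsmul_mem _ ?_ _
  exact piecewise_mem_closure_tameGens hϖ s.card s rfl v

/-- Two additive maps out of `K_{n+1}(L)` agreeing on `{π, u₁, …, uₙ}` and on unit symbols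
are equal. -/
theorem tame_hom_ext {ϖ : A} (hϖ : Irreducible ϖ) {n : ℕ} {M : Type w} [AddCommGroup M]
    {f g : K L (n + 1) →+ M}
    (h1 : ∀ u : Fin n → Aˣ,
      f (symbol (Fin.cons (unitFrac A L ϖ hϖ.ne_zero) (fun i => unitToFrac A L (u i)))) =
      g (symbol (Fin.cons (unitFrac A L ϖ hϖ.ne_zero) (fun i => unitToFrac A L (u i)))))
    (h2 : ∀ u : Fin (n + 1) → Aˣ, f (symbol (fun i => unitToFrac A L (u i))) =
      g (symbol (fun i => unitToFrac A L (u i)))) : f = g := by
  have hle : AddSubgroup.closure (tameGens A L ϖ hϖ n) ≤ (f.eqLocus g) := by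
    rw [AddSubgroup.closure_le]
    rintro z (⟨u, rfl⟩ | ⟨u, rfl⟩)
    · exact h1 u
    · exact h2 u
  rw [closure_tameGens_eq_top] at hle
  ext x
  exact hle (AddSubgroup.mem_top x)

end Generation

section Kernels

variable {A : Type u} [CommRing A] [IsDomain A] [IsDiscreteValuationRing A]
  {L : Type v} [Field L] [Algebra A L] [IsFractionRing A L]

theorem oneUnitClosed_oneUnitSymbols (n : ℕ) :
    OneUnitClosed (A := A) (oneUnitSymbols A L n) := by
  intro z k w hw hz
  have hgen : ∀ y : Fin (n + 1) → Lˣ, y 0 = unitToFrac A L w →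
      symbol y ∈ oneUnitSymbols A L n := by
    intro y hy
    refine AddSubgroup.subset_closure ⟨w, fun i => y i.succ, hw, ?_⟩
    congr 1
    funext i
    cases i using Fin.cases with
    | zero => simpa using hy
    | succ i => simp
  by_cases hk : (0 : Fin (n + 1)) = k
  · subst hk; exact hgen z hz
  · have h1 := hgen (z ∘ Equiv.swap 0 k) (by simp [hz])
    rw [symbol_comp_swap z hk] at h1
    exact (AddSubgroup.neg_mem_iff _).mp h1

theorem oneUnitClosed_unitSymbols (n : ℕ) :
    OneUnitClosed (A := A) (unitSymbols A L (n + 1)) := by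
  intro z k w hw hz
  exact oneUnitSymbols_le_unitSymbols n (oneUnitClosed_oneUnitSymbols n z k w hw hz)

theorem IsTameSymbol.surjective {n : ℕ} {d : K L (n + 1) →+ K (IsLocalRing.ResidueField A) n}
    (hd : IsTameSymbol A L n d) : Function.Surjective d := by
  obtain ⟨ϖ, hϖ⟩ := IsDiscreteValuationRing.exists_irreducible A
  intro y
  refine milk_induction (P := fun y => ∃ x, d x = y) y ?_ ⟨0, map_zero d⟩ ?_ ?_
  · intro x
    refine ⟨_, (hd ϖ hϖ (fun i => unitSection (x i))).trans ?_⟩
    congr 1
    funext i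
    exact unitResidue_unitSection (x i)
  · rintro _ _ ⟨a, rfl⟩ ⟨b, rfl⟩
    exact ⟨a + b, map_add d a b⟩
  · rintro _ ⟨a, rfl⟩
    exact ⟨-a, map_neg d a⟩

theorem IsTameSymbol.ker_eq {n : ℕ} {d : K L (n + 1) →+ K (IsLocalRing.ResidueField A) n}
    (hd : IsTameSymbol A L n d) : d.ker = unitSymbols A L (n + 1) := by
  obtain ⟨ϖ, hϖ⟩ := IsDiscreteValuationRing.exists_irreducible A
  apply le_antisymm
  · intro x hx
    rw [AddMonoidHom.mem_ker] at hx
    set ψ := psi (SlotEmb.cons (unitFrac A L ϖ hϖ.ne_zero) n) (oneUnitClosed_unitSymbols (A := A) (L := L) n)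
      with hψ
    have hcomp : ψ.comp d = QuotientAddGroup.mk' (unitSymbols A L (n + 1)) := by
      apply tame_hom_ext hϖ
      · intro u
        rw [AddMonoidHom.comp_apply, hd ϖ hϖ u, hψ, psi_symbol]
        rfl
      · intro u
        rw [AddMonoidHom.comp_apply, IsTameSymbol.unit_symbol hd u, map_zero]
        exact ((QuotientAddGroup.eq_zero_iff _).mpr (unitSymbols_mem u)).symm
    have h1 := DFunLike.congr_fun hcomp x
    rw [AddMonoidHom.comp_apply, hx, map_zero] at h1
    exact (QuotientAddGroup.eq_zero_iff _).mp h1.symm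
  · rw [unitSymbols, AddSubgroup.closure_le]
    rintro _ ⟨u, rfl⟩
    exact IsTameSymbol.unit_symbol hd u

end Kernels

section SpecTame

variable {A : Type u} [CommRing A] [IsDomain A] [IsDiscreteValuationRing A]
  {L : Type v} [Field L] [Algebra A L] [IsFractionRing A L]

theorem IsSpecMap.unit_symbol {ϖ : A} {hϖ : Irreducible ϖ} {n : ℕ}
    {s : K L n →+ K (IsLocalRing.ResidueField A) n} (hs : IsSpecMap A L ϖ hϖ n s)
    (u : Fin n → Aˣ) :
    s (symbol (fun i => unitToFrac A L (u i))) = symbol (fun i => unitResidue A (u i)) := by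
  rw [IsSpecMap.symbol_eq hs]
  congr 1
  funext i
  exact dvrLam_unit A L ϖ hϖ (u i)

theorem IsSpecMap.cons_uniformizer {ϖ : A} {hϖ : Irreducible ϖ} {n : ℕ}
    {s : K L (n + 1) →+ K (IsLocalRing.ResidueField A) (n + 1)} (hs : IsSpecMap A L ϖ hϖ (n + 1) s)
    (w : Fin n → Lˣ) :
    s (symbol (Fin.cons (unitFrac A L ϖ hϖ.ne_zero) w)) = 0 := by
  rw [IsSpecMap.symbol_eq hs]
  apply symbol_eq_zero_of_eq_one _ 0
  have := dvrLam_pow A L ϖ hϖ 1
  simpa using this

theorem IsSpecMap.cons_one_unit {ϖ : A} {hϖ : Irreducible ϖ} {n : ℕ}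
    {s : K L (n + 1) →+ K (IsLocalRing.ResidueField A) (n + 1)} (hs : IsSpecMap A L ϖ hϖ (n + 1) s)
    (u₀ : Aˣ) (h₀ : IsLocalRing.residue A (u₀ : A) = 1) (w : Fin n → Lˣ) :
    s (symbol (Fin.cons (unitToFrac A L u₀) w)) = 0 := by
  rw [IsSpecMap.symbol_eq hs]
  apply symbol_eq_zero_of_eq_one _ 0
  simp only [Fin.cons_zero]
  rw [dvrLam_unit]
  ext
  rw [coe_unitResidue, h₀, Units.val_one]

theorem spec_tame_comp {ϖ : A} {hϖ : Irreducible ϖ} {n : ℕ}
    {d : K L (n + 1) →+ K (IsLocalRing.ResidueField A) n} (hd : IsTameSymbol A L n d)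
    {s : K L (n + 1) →+ K (IsLocalRing.ResidueField A) (n + 1)} (hs : IsSpecMap A L ϖ hϖ (n + 1) s) :
    (psi (SlotEmb.refl (n + 1)) (oneUnitClosed_oneUnitSymbols (A := A) (L := L) n)).comp s +
      (psi (SlotEmb.cons (unitFrac A L ϖ hϖ.ne_zero) n)
        (oneUnitClosed_oneUnitSymbols (A := A) (L := L) n)).comp d =
      QuotientAddGroup.mk' (oneUnitSymbols A L n) := by
  apply tame_hom_ext hϖ
  · intro u
    rw [AddMonoidHom.add_apply, AddMonoidHom.comp_apply, AddMonoidHom.comp_apply,
      IsSpecMap.cons_uniformizer hs, map_zero, zero_add, hd ϖ hϖ u, psi_symbol]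
    rfl
  · intro u
    rw [AddMonoidHom.add_apply, AddMonoidHom.comp_apply, AddMonoidHom.comp_apply,
      IsTameSymbol.unit_symbol hd u, map_zero, add_zero, IsSpecMap.unit_symbol hs, psi_symbol]
    rfl

theorem spec_tame_ker {ϖ : A} {hϖ : Irreducible ϖ} {n : ℕ}
    {d : K L (n + 1) →+ K (IsLocalRing.ResidueField A) n} (hd : IsTameSymbol A L n d)
    {s : K L (n + 1) →+ K (IsLocalRing.ResidueField A) (n + 1)} (hs : IsSpecMap A L ϖ hϖ (n + 1) s)
    (x : K L (n + 1)) : (s x = 0 ∧ d x = 0) ↔ x ∈ oneUnitSymbols A L n := by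
  constructor
  · rintro ⟨h1, h2⟩
    have h := DFunLike.congr_fun (spec_tame_comp hd hs) x
    rw [AddMonoidHom.add_apply, AddMonoidHom.comp_apply, AddMonoidHom.comp_apply, h1, h2, map_zero,
      map_zero, add_zero] at h
    exact (QuotientAddGroup.eq_zero_iff _).mp h.symm
  · intro hx
    have hle : oneUnitSymbols A L n ≤ s.ker ⊓ d.ker := by
      rw [oneUnitSymbols, AddSubgroup.closure_le]
      rintro _ ⟨u₀, w, h₀, rfl⟩
      refine ⟨IsSpecMap.cons_one_unit hs u₀ h₀ w, ?_⟩
      rw [SetLike.mem_coe, IsTameSymbol.ker_eq hd]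
      exact cons_unit_mem_unitSymbols u₀ h₀ w
    exact hle hx

theorem spec_tame_surjective {ϖ : A} {hϖ : Irreducible ϖ} {n : ℕ}
    {d : K L (n + 1) →+ K (IsLocalRing.ResidueField A) n} (hd : IsTameSymbol A L n d)
    {s : K L (n + 1) →+ K (IsLocalRing.ResidueField A) (n + 1)} (hs : IsSpecMap A L ϖ hϖ (n + 1) s) :
    Function.Surjective (fun x : K L (n + 1) => (s x, d x)) := by
  have h1 : ∀ α : K (IsLocalRing.ResidueField A) (n + 1), ∃ x, s x = α ∧ d x = 0 := by
    intro α
    refine milk_induction (P := fun α => ∃ x, s x = α ∧ d x = 0) α ?_ ⟨0, by simp⟩ ?_ ?_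
    · intro y
      refine ⟨symbol (fun i => unitToFrac A L (unitSection (y i))), ?_,
        IsTameSymbol.unit_symbol hd _⟩
      rw [IsSpecMap.unit_symbol hs]
      congr 1
      funext i
      exact unitResidue_unitSection (y i)
    · rintro _ _ ⟨a, rfl, ha⟩ ⟨b, rfl, hb⟩
      exact ⟨a + b, map_add s a b, by rw [map_add, ha, hb, add_zero]⟩
    · rintro _ ⟨a, rfl, ha⟩
      exact ⟨-a, map_neg s a, by rw [map_neg, ha, neg_zero]⟩
  have h2 : ∀ β : K (IsLocalRing.ResidueField A) n, ∃ x, s x = 0 ∧ d x = β := by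
    intro β
    refine milk_induction (P := fun β => ∃ x, s x = 0 ∧ d x = β) β ?_ ⟨0, by simp⟩ ?_ ?_
    · intro y
      refine ⟨symbol (Fin.cons (unitFrac A L ϖ hϖ.ne_zero)
        (fun i => unitToFrac A L (unitSection (y i)))), IsSpecMap.cons_uniformizer hs _, ?_⟩
      rw [hd ϖ hϖ]
      congr 1
      funext i
      exact unitResidue_unitSection (y i)
    · rintro _ _ ⟨a, ha, rfl⟩ ⟨b, hb, rfl⟩
      exact ⟨a + b, by rw [map_add, ha, hb, add_zero], map_add d a b⟩
    · rintro _ ⟨a, ha, rfl⟩
      exact ⟨-a, by rw [map_neg, ha, neg_zero], map_neg d a⟩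
  rintro ⟨α, β⟩
  obtain ⟨x₁, hx₁, hx₁'⟩ := h1 α
  obtain ⟨x₂, hx₂, hx₂'⟩ := h2 β
  refine ⟨x₁ + x₂, ?_⟩
  simp only [map_add, hx₁, hx₁', hx₂, hx₂', add_zero, zero_add]

end SpecTame

section Divisible

variable {A : Type u} [CommRing A] [IsDomain A] [IsDiscreteValuationRing A]
  {L : Type v} [Field L] [Algebra A L] [IsFractionRing A L]

open Polynomial in
/-- In a complete discrete valuation ring, a unit `≡ 1` is an `m`-th power of a unit as soon as `m`
is invertible in the residue field. -/
theorem exists_unit_pow_eq [IsAdicComplete (IsLocalRing.maximalIdeal A) A] (m : ℕ)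
    (hmκ : IsUnit (m : IsLocalRing.ResidueField A)) (u₀ : Aˣ)
    (h₀ : IsLocalRing.residue A (u₀ : A) = 1) : ∃ v : Aˣ, u₀ = v ^ m := by
  have hm0 : m ≠ 0 := by
    rintro rfl
    simp at hmκ
  have hmonic : (X ^ m - C (u₀ : A) : A[X]).Monic := monic_X_pow_sub_C _ hm0
  have h1 : (X ^ m - C (u₀ : A) : A[X]).eval 1 ∈ IsLocalRing.maximalIdeal A := by
    rw [← IsLocalRing.residue_eq_zero_iff]
    simp [h₀]
  have h2 : IsUnit (Ideal.Quotient.mk (IsLocalRing.maximalIdeal A)
      ((X ^ m - C (u₀ : A) : A[X]).derivative.eval 1)) := by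
    have : (X ^ m - C (u₀ : A) : A[X]).derivative.eval 1 = (m : A) := by
      rw [derivative_sub, derivative_C, sub_zero, derivative_X_pow]
      simp
    rw [this, map_natCast]
    exact hmκ
  obtain ⟨a, ha, ha1⟩ := HenselianRing.is_henselian (I := IsLocalRing.maximalIdeal A)
    (X ^ m - C (u₀ : A) : A[X]) hmonic 1 h1 h2
  have hres : IsLocalRing.residue A a = 1 := by
    rw [← IsLocalRing.residue_eq_zero_iff, map_sub, map_one, sub_eq_zero] at ha1
    exact ha1
  have hunit : IsUnit a := by
    rw [← IsLocalRing.residue_ne_zero_iff_isUnit, hres]; exact one_ne_zero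
  obtain ⟨v, rfl⟩ := hunit
  refine ⟨v, ?_⟩
  ext
  simp only [IsRoot.def, eval_sub, eval_pow, eval_X, eval_C, sub_eq_zero] at ha
  rw [Units.val_pow_eq_pow_val, ha]

theorem oneUnitSymbols_divisible [IsAdicComplete (IsLocalRing.maximalIdeal A) A] (m : ℕ)
    (hmκ : IsUnit (m : IsLocalRing.ResidueField A)) (n : ℕ) (z : K L (n + 1))
    (hz : z ∈ oneUnitSymbols A L n) : ∃ y : K L (n + 1), z = m • y := by
  rw [oneUnitSymbols] at hz
  induction hz using AddSubgroup.closure_induction with
  | mem z hz =>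
    obtain ⟨u₀, w, h₀, rfl⟩ := hz
    obtain ⟨v, rfl⟩ := exists_unit_pow_eq m hmκ u₀ h₀
    refine ⟨symbol (Fin.cons (unitToFrac A L v) w), ?_⟩
    have := symbol_update_pow (Fin.cons (unitToFrac A L v) w : Fin (n + 1) → Lˣ) 0
      (unitToFrac A L v) m
    rw [Fin.update_cons_zero, Fin.update_cons_zero] at this
    rw [map_pow, this]
  | zero => exact ⟨0, by simp⟩
  | add a b _ _ ha hb =>
    obtain ⟨ya, rfl⟩ := ha
    obtain ⟨yb, rfl⟩ := hb
    exact ⟨ya + yb, by rw [smul_add]⟩
  | neg a _ ha =>
    obtain ⟨ya, rfl⟩ := ha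
    exact ⟨-ya, by rw [smul_neg]⟩

theorem spec_tame_divisible [IsAdicComplete (IsLocalRing.maximalIdeal A) A]
    {ϖ : A} {hϖ : Irreducible ϖ} {n : ℕ}
    {d : K L (n + 1) →+ K (IsLocalRing.ResidueField A) n} (hd : IsTameSymbol A L n d)
    {s : K L (n + 1) →+ K (IsLocalRing.ResidueField A) (n + 1)} (hs : IsSpecMap A L ϖ hϖ (n + 1) s)
    (m : ℕ) (hmκ : IsUnit (m : IsLocalRing.ResidueField A)) (x : K L (n + 1))
    (hsx : ∃ a : K (IsLocalRing.ResidueField A) (n + 1), s x = m • a)
    (hdx : ∃ b : K (IsLocalRing.ResidueField A) n, d x = m • b) :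
    ∃ y : K L (n + 1), x = m • y := by
  obtain ⟨a, ha⟩ := hsx
  obtain ⟨b, hb⟩ := hdx
  obtain ⟨y₀, hy₀⟩ := spec_tame_surjective hd hs (a, b)
  simp only [Prod.mk.injEq] at hy₀
  have hker : x - m • y₀ ∈ oneUnitSymbols A L n := by
    rw [← spec_tame_ker hd hs]
    constructor
    · rw [map_sub, map_nsmul, hy₀.1, ha, sub_self]
    · rw [map_sub, map_nsmul, hy₀.2, hb, sub_self]
  obtain ⟨y₁, hy₁⟩ := oneUnitSymbols_divisible m hmκ n _ hker
  refine ⟨y₀ + y₁, ?_⟩
  rw [smul_add, ← hy₁]
  abel

end Divisible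

section PsiGen

variable {F₁ : Type u} [Field F₁] {F₂ : Type v} [Field F₂]

/-- Data making `v ↦ [{…, σ v₁, …, σ v_m, …}]` into a homomorphism `K_m(F₁) → K_N(F₂) / H`. -/
structure IsSectionData {m N : ℕ} (σ : F₁ˣ → F₂ˣ) (E : SlotEmb F₂ m N) (H : AddSubgroup (K F₂ N)) :
    Prop where
  mul : ∀ (v : Fin m → F₁ˣ) (i : Fin m) (a b : F₁ˣ),
    symbol (Function.update (E.emb (fun k => σ (v k))) (E.ι i) (σ (a * b))) -
      symbol (Function.update (E.emb (fun k => σ (v k))) (E.ι i) (σ a)) -
      symbol (Function.update (E.emb (fun k => σ (v k))) (E.ι i) (σ b)) ∈ H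
  steinberg : ∀ v : Fin m → F₁ˣ, IsSteinberg F₁ v → symbol (E.emb (fun k => σ (v k))) ∈ H

variable {m N : ℕ} {σ : F₁ˣ → F₂ˣ} {E : SlotEmb F₂ m N} {H : AddSubgroup (K F₂ N)}

/-- The function underlying `psiGen`. -/
noncomputable def psiGenFun (σ : F₁ˣ → F₂ˣ) (E : SlotEmb F₂ m N) (H : AddSubgroup (K F₂ N)) :
    (Fin m → Additive F₁ˣ) → K F₂ N ⧸ H :=
  fun x => QuotientAddGroup.mk' H (symbol (E.emb (fun i => σ (x i).toMul)))

theorem psiGenFun_add (hσ : IsSectionData σ E H) (x : Fin m → Additive F₁ˣ) (i : Fin m)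
    (a b : Additive F₁ˣ) :
    psiGenFun σ E H (Function.update x i (a + b)) =
      psiGenFun σ E H (Function.update x i a) + psiGenFun σ E H (Function.update x i b) := by
  classical
  have hupd : ∀ c : Additive F₁ˣ,
      (fun k => σ ((Function.update x i c) k).toMul) =
        Function.update (fun k => σ (x k).toMul) i (σ c.toMul) := by
    intro c
    funext k
    by_cases hk : k = i
    · subst hk; simp
    · simp [Function.update_of_ne hk]
  simp only [psiGenFun, hupd, E.emb_update]
  rw [← map_add, ← sub_eq_zero, ← map_sub]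
  refine (QuotientAddGroup.eq_zero_iff _).mpr ?_
  have := hσ.mul (fun k => (x k).toMul) i a.toMul b.toMul
  rw [sub_sub] at this
  exact this

/-- The multilinear map underlying `psiGen`. -/
noncomputable def psiGenML (hσ : IsSectionData σ E H) :
    MultilinearMap ℤ (fun _ : Fin m => Additive F₁ˣ) (K F₂ N ⧸ H) :=
  mlOfAdd (psiGenFun σ E H) (psiGenFun_add hσ)

/-- The homomorphism `K_m(F₁) → K_N(F₂) / H`, `{v₁, …, v_m} ↦ [{…, σ v₁, …, σ v_m, …}]`. -/
noncomputable def psiGen (hσ : IsSectionData σ E H) : K F₁ m →+ K F₂ N ⧸ H :=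
  MilK.lift (psiGenML hσ) (fun v hv => by
    rw [psiGenML, mlOfAdd_apply, psiGenFun]
    simp only [toMul_ofMul]
    exact (QuotientAddGroup.eq_zero_iff _).mpr (hσ.steinberg v hv))

theorem psiGen_symbol (hσ : IsSectionData σ E H) (v : Fin m → F₁ˣ) :
    psiGen hσ (symbol v) = QuotientAddGroup.mk' H (symbol (E.emb (fun k => σ (v k)))) := by
  rw [psiGen, lift_symbol, psiGenML, mlOfAdd_apply, psiGenFun]
  simp only [toMul_ofMul]

end PsiGen

end Groth.Agent.H6
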