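import Mathlib

/-!
# helper6: the Fitting idempotent of an algebra endomorphism of a finite-length algebra
(towards S12759)
-/

set_option autoImplicit false
set_option linter.style.haveILetI false
set_option linter.unusedTactic false
set_option linter.unusedVariables false
set_option linter.unusedSectionVars false

universe u v

namespace Groth.Agent.H6.MinVers

section Fitting

variable {Λ : Type u} [CommRing Λ] {Q : Type v} [CommRing Q] [Algebra Λ Q]

/-- the stable kernel -/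
def Nker (f : Q →ₐ[Λ] Q) : Submodule Λ Q := ⨆ n, LinearMap.ker (f.toLinearMap ^ n)

/-- the stable range -/
def Sran (f : Q →ₐ[Λ] Q) : Submodule Λ Q := ⨅ n, LinearMap.range (f.toLinearMap ^ n)

lemma pow_toLinearMap_apply (f : Q →ₐ[Λ] Q) (n : ℕ) (x : Q) :
    (f.toLinearMap ^ n) x = (f^[n]) x := by
  rw [Module.End.pow_apply]
  rfl

lemma iterate_mul (f : Q →ₐ[Λ] Q) (n : ℕ) (x y : Q) : (f^[n]) (x * y) = (f^[n]) x * (f^[n]) y := by
  induction n generalizing x y with
  | zero => rfl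
  | succ n ih => rw [Function.iterate_succ_apply, Function.iterate_succ_apply,
      Function.iterate_succ_apply, map_mul, ih]

lemma iterate_algebraMap (f : Q →ₐ[Λ] Q) (n : ℕ) (l : Λ) :
    (f^[n]) (algebraMap Λ Q l) = algebraMap Λ Q l := by
  induction n with
  | zero => rfl
  | succ n ih => rw [Function.iterate_succ_apply, f.commutes, ih]

lemma iterate_zero' (f : Q →ₐ[Λ] Q) (n : ℕ) : (f^[n]) (0 : Q) = 0 := by
  induction n with
  | zero => rfl
  | succ n ih => rw [Function.iterate_succ_apply, map_zero, ih]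

lemma mem_Sran_iff (f : Q →ₐ[Λ] Q) (x : Q) : x ∈ Sran f ↔ ∀ n, ∃ y, (f^[n]) y = x := by
  unfold Sran
  rw [Submodule.mem_iInf]
  refine forall_congr' fun n => ?_
  rw [LinearMap.mem_range]
  refine exists_congr fun y => ?_
  rw [pow_toLinearMap_apply]

variable [IsArtinian Λ Q] [IsNoetherian Λ Q]

lemma exists_stable (f : Q →ₐ[Λ] Q) :
    ∃ k : ℕ, Nker f = LinearMap.ker (f.toLinearMap ^ k) ∧
      Sran f = LinearMap.range (f.toLinearMap ^ k) := by
  obtain ⟨k, hk⟩ := Filter.eventually_atTop.mp <|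
    (f.toLinearMap.eventually_iInf_range_pow_eq).and f.toLinearMap.eventually_iSup_ker_pow_eq
  obtain ⟨h₂, h₃⟩ := hk k (le_refl k)
  exact ⟨k, h₃, h₂⟩

lemma isCompl (f : Q →ₐ[Λ] Q) : IsCompl (Sran f) (Nker f) :=
  (f.toLinearMap.isCompl_iSup_ker_pow_iInf_range_pow).symm

lemma mem_Nker_iff (f : Q →ₐ[Λ] Q) (x : Q) : x ∈ Nker f ↔ ∃ n, (f^[n]) x = 0 := by
  constructor
  · intro hx
    obtain ⟨k, hk, -⟩ := exists_stable f
    rw [hk, LinearMap.mem_ker, pow_toLinearMap_apply] at hx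
    exact ⟨k, hx⟩
  · rintro ⟨n, hn⟩
    have : x ∈ LinearMap.ker (f.toLinearMap ^ n) := by
      rw [LinearMap.mem_ker, pow_toLinearMap_apply, hn]
    exact (le_iSup (fun i => LinearMap.ker (f.toLinearMap ^ i)) n) this

/-- the Fitting projection, as a function -/
noncomputable def fitFun (f : Q →ₐ[Λ] Q) (x : Q) : Q :=
  (Submodule.projectionOnto (Sran f) (Nker f) (isCompl f) x : Q)

lemma fitFun_mem (f : Q →ₐ[Λ] Q) (x : Q) : fitFun f x ∈ Sran f :=
  (Submodule.projectionOnto (Sran f) (Nker f) (isCompl f) x).2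

lemma fitFun_eq_of (f : Q →ₐ[Λ] Q) (x y : Q) (hy : y ∈ Sran f) (hxy : x - y ∈ Nker f) :
    fitFun f x = y := by
  unfold fitFun
  have hx : x = y + (x - y) := by ring
  rw [hx, map_add]
  have h1 := Submodule.projectionOnto_apply_left (isCompl f) ⟨y, hy⟩
  have h2 := Submodule.projectionOnto_apply_right (isCompl f) ⟨x - y, hxy⟩
  simp only at h1 h2
  rw [h1, h2, add_zero]

lemma sub_fitFun_mem (f : Q →ₐ[Λ] Q) (x : Q) : x - fitFun f x ∈ Nker f := by
  have h := Submodule.ker_projectionOnto (isCompl f)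
  rw [← h, LinearMap.mem_ker, map_sub]
  have h1 := Submodule.projectionOnto_apply_left (isCompl f)
    (Submodule.projectionOnto (Sran f) (Nker f) (isCompl f) x)
  unfold fitFun
  rw [h1, sub_self]

lemma fitFun_of_mem (f : Q →ₐ[Λ] Q) (x : Q) (hx : x ∈ Sran f) : fitFun f x = x :=
  fitFun_eq_of f x x hx (by rw [sub_self]; exact Submodule.zero_mem _)

lemma Nker_mul_mem (f : Q →ₐ[Λ] Q) (a x : Q) (hx : x ∈ Nker f) : a * x ∈ Nker f := by
  rw [mem_Nker_iff] at hx ⊢
  obtain ⟨n, hn⟩ := hx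
  exact ⟨n, by rw [iterate_mul, hn, mul_zero]⟩

lemma Sran_mul_mem (f : Q →ₐ[Λ] Q) (x y : Q) (hx : x ∈ Sran f) (hy : y ∈ Sran f) :
    x * y ∈ Sran f := by
  rw [mem_Sran_iff] at hx hy ⊢
  intro n
  obtain ⟨a, ha⟩ := hx n
  obtain ⟨b, hb⟩ := hy n
  exact ⟨a * b, by rw [iterate_mul, ha, hb]⟩

lemma algebraMap_mem_Sran (f : Q →ₐ[Λ] Q) (l : Λ) : algebraMap Λ Q l ∈ Sran f := by
  rw [mem_Sran_iff]
  intro n
  exact ⟨algebraMap Λ Q l, iterate_algebraMap f n l⟩

/-- the Fitting projection of an algebra endomorphism, an idempotent algebra endomorphism -/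
noncomputable def fitProj (f : Q →ₐ[Λ] Q) : Q →ₐ[Λ] Q where
  toFun := fitFun f
  map_one' := by
    have h := algebraMap_mem_Sran f 1
    rw [map_one] at h
    exact fitFun_of_mem f 1 h
  map_mul' x y := by
    apply fitFun_eq_of
    · exact Sran_mul_mem f _ _ (fitFun_mem f x) (fitFun_mem f y)
    · have : x * y - fitFun f x * fitFun f y =
          y * (x - fitFun f x) + fitFun f x * (y - fitFun f y) := by ring
      rw [this]
      exact Submodule.add_mem _ (Nker_mul_mem f _ _ (sub_fitFun_mem f x))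
        (Nker_mul_mem f _ _ (sub_fitFun_mem f y))
  map_zero' := by
    unfold fitFun
    rw [map_zero]; rfl
  map_add' x y := by
    unfold fitFun
    rw [map_add]; rfl
  commutes' l := fitFun_of_mem f _ (algebraMap_mem_Sran f l)

lemma fitProj_apply (f : Q →ₐ[Λ] Q) (x : Q) : fitProj f x = fitFun f x := rfl

lemma fitProj_idem (f : Q →ₐ[Λ] Q) (x : Q) : fitProj f (fitProj f x) = fitProj f x :=
  fitFun_of_mem f _ (fitFun_mem f x)

/-- for large `k`, the Fitting projection fixes the image of `f^k`. -/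
lemma exists_fitProj_iterate (f : Q →ₐ[Λ] Q) : ∃ k : ℕ, ∀ x, fitProj f ((f^[k]) x) = (f^[k]) x := by
  obtain ⟨k, -, hk⟩ := exists_stable f
  refine ⟨k, fun x => fitFun_of_mem f _ ?_⟩
  rw [hk]
  exact ⟨x, pow_toLinearMap_apply f k x⟩

/-- if the Fitting projection is the identity then `f` is surjective. -/
lemma surjective_of_fitProj_eq_id (f : Q →ₐ[Λ] Q) (h : ∀ x, fitProj f x = x) :
    Function.Surjective f := by
  intro x
  have hx : x ∈ Sran f := by
    have := fitFun_mem f x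
    rwa [← fitProj_apply, h x] at this
  rw [mem_Sran_iff] at hx
  obtain ⟨y, hy⟩ := hx 1
  exact ⟨y, hy⟩

/-- invariance of maps killed... : an algebra map `ρ` with `ρ ∘ f = ρ` satisfies `ρ ∘ e = ρ`. -/
lemma comp_fitProj {T : Type*} [CommRing T] [Algebra Λ T] (f : Q →ₐ[Λ] Q) (ρ : Q →ₐ[Λ] T)
    (hρ : ∀ x, ρ (f x) = ρ x) (x : Q) : ρ (fitProj f x) = ρ x := by
  have h := sub_fitFun_mem f x
  rw [mem_Nker_iff] at h
  obtain ⟨n, hn⟩ := h
  have hit : ∀ (m : ℕ) (z : Q), ρ ((f^[m]) z) = ρ z := by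
    intro m
    induction m with
    | zero => intro z; rfl
    | succ m ih => intro z; rw [Function.iterate_succ_apply, ih, hρ]
  have h2 : ρ (x - fitFun f x) = 0 := by
    rw [← hit n, hn, map_zero]
  rw [map_sub, sub_eq_zero] at h2
  exact h2.symm

end Fitting

section Equivariance

variable {Λ : Type u} [CommRing Λ] {Q : Type v} [CommRing Q] [Algebra Λ Q]
  [IsArtinian Λ Q] [IsNoetherian Λ Q] {Q' : Type v} [CommRing Q'] [Algebra Λ Q']
  [IsArtinian Λ Q'] [IsNoetherian Λ Q']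

/-- the Fitting projection is compatible with equivariant algebra maps. -/
lemma fitProj_equivariant (f : Q →ₐ[Λ] Q) (f' : Q' →ₐ[Λ] Q') (τ : Q' →ₐ[Λ] Q)
    (h : ∀ x, τ (f' x) = f (τ x)) (x : Q') : τ (fitProj f' x) = fitProj f (τ x) := by
  have hit : ∀ (n : ℕ) (z : Q'), τ ((f'^[n]) z) = (f^[n]) (τ z) := by
    intro n
    induction n with
    | zero => intro z; rfl
    | succ n ih => intro z; rw [Function.iterate_succ_apply, Function.iterate_succ_apply, ih, h]
  symm
  apply fitFun_eq_of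
  · rw [mem_Sran_iff]
    intro n
    have h1 := fitFun_mem f' x
    rw [mem_Sran_iff] at h1
    obtain ⟨y, hy⟩ := h1 n
    exact ⟨τ y, by rw [← hit, hy]; rfl⟩
  · have h1 := sub_fitFun_mem f' x
    rw [mem_Nker_iff] at h1 ⊢
    obtain ⟨n, hn⟩ := h1
    refine ⟨n, ?_⟩
    have : τ x - τ (fitProj f' x) = τ (x - fitFun f' x) := by rw [map_sub]; rfl
    rw [this, ← hit, hn, map_zero]

end Equivariance

end Groth.Agent.H6.MinVers
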