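import Mathlib
import Groth.Prelude
import Groth.Agent.Lib.Helper6.MinVers1
import Groth.Agent.Lib.Helper6.ArtFunLength
import Groth.Agent.Lib.Helper6.ArtFunFormal

/-!
# helper6: the Fitting idempotent on objects of `Art Λ k` (towards S12759)
-/

set_option autoImplicit false
set_option linter.style.haveILetI false
set_option linter.unusedTactic false
set_option linter.unusedVariables false
set_option linter.unusedSectionVars false

universe u v

open CategoryTheory ArtFun ArtFun.Art IsLocalRing

namespace Groth.Agent.H6.MinVers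

variable {Λ : Type u} {k : Type u} [CommRing Λ] [Field k] [Algebra Λ k]

section Length

variable [IsNoetherianRing Λ] [Module.Finite Λ k]

/-- `k` is an Artinian `Λ`-module. -/
theorem isArtinian_residue : IsArtinian Λ k := by
  set p := RingHom.ker (algebraMap Λ k) with hp
  letI : Algebra (Λ ⧸ p) k := (RingHom.kerLift (algebraMap Λ k)).toAlgebra
  haveI : IsScalarTower Λ (Λ ⧸ p) k := IsScalarTower.of_algebraMap_eq (fun x => rfl)
  haveI : Module.Finite (Λ ⧸ p) k := Module.Finite.of_restrictScalars_finite Λ (Λ ⧸ p) k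
  haveI : Algebra.IsIntegral (Λ ⧸ p) k := Algebra.IsIntegral.of_finite (Λ ⧸ p) k
  have hinj : Function.Injective (algebraMap (Λ ⧸ p) k) := RingHom.kerLift_injective _
  have hF : IsField (Λ ⧸ p) :=
    isField_of_isIntegral_of_isField hinj (Field.toIsField k)
  letI := hF.toField
  haveI : IsArtinian (Λ ⧸ p) k := inferInstance
  exact isArtinian_of_surjective_algebraMap (S := Λ) (R := Λ ⧸ p) Ideal.Quotient.mk_surjective

theorem isFiniteLength_art (A : Art Λ k) : IsFiniteLength Λ A := by
  letI : Algebra A k := A.res.toRingHom.toAlgebra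
  haveI : IsScalarTower Λ A k := IsScalarTower.of_algebraMap_eq (fun x => (A.res.commutes x).symm)
  have hres : Function.Surjective (algebraMap A k) := A.res_surjective
  have h := Groth.Agent.H6.ArtLen.length_mul (Λ := Λ) (k := k) A hres A
  haveI := isArtinian_residue (Λ := Λ) (k := k)
  have h1 : Module.length Λ k ≠ ⊤ := Module.length_ne_top
  have h2 : Module.length A A ≠ ⊤ := Module.length_ne_top
  rw [← Module.length_ne_top_iff, ← h]
  exact WithTop.mul_ne_top h1 h2

theorem isArtinian_art (A : Art Λ k) : IsArtinian Λ A :=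
  (isFiniteLength_iff_isNoetherian_isArtinian.mp (isFiniteLength_art A)).2

theorem isNoetherian_art (A : Art Λ k) : IsNoetherian Λ A :=
  (isFiniteLength_iff_isNoetherian_isArtinian.mp (isFiniteLength_art A)).1

end Length

section ArtFit

variable [IsNoetherianRing Λ] [Module.Finite Λ k]

/-- the Fitting idempotent of an endomorphism of an object of `Art Λ k`. -/
noncomputable def artFit {A : Art Λ k} (f : A ⟶ A) : A ⟶ A :=
  haveI := isArtinian_art A
  haveI := isNoetherian_art A
  ⟨fitProj f.toAlgHom, by
    apply AlgHom.ext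
    intro x
    exact comp_fitProj f.toAlgHom A.res (fun y => res_app f y) x⟩

lemma artFit_apply {A : Art Λ k} (f : A ⟶ A) (x : A) :
    haveI := isArtinian_art A
    haveI := isNoetherian_art A
    (artFit f) x = fitProj f.toAlgHom x := rfl

/-- iterates of an endomorphism. -/
noncomputable def artPow {A : Art Λ k} (f : A ⟶ A) : ℕ → (A ⟶ A)
  | 0 => 𝟙 A
  | n + 1 => f ≫ artPow f n

lemma artPow_apply {A : Art Λ k} (f : A ⟶ A) (n : ℕ) (x : A) :
    (artPow f n) x = (f.toAlgHom^[n]) x := by
  induction n generalizing x with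
  | zero => rfl
  | succ n ih =>
    change (artPow f n) (f x) = _
    rw [ih, Function.iterate_succ_apply]

lemma map_artPow {F : Art Λ k ⥤ Type v} {A : Art Λ k} (f : A ⟶ A) (η : F.obj A)
    (h : F.map f η = η) (n : ℕ) : F.map (artPow f n) η = η := by
  induction n with
  | zero => exact FunctorToTypes.map_id_apply F η
  | succ n ih =>
    change F.map (f ≫ artPow f n) η = η
    rw [FunctorToTypes.map_comp_apply, h, ih]

lemma artFit_idem {A : Art Λ k} (f : A ⟶ A) : artFit f ≫ artFit f = artFit f := by
  haveI := isArtinian_art A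
  haveI := isNoetherian_art A
  apply Art.hom_ext
  apply AlgHom.ext
  intro x
  exact fitProj_idem f.toAlgHom x

lemma exists_artPow_comp_artFit {A : Art Λ k} (f : A ⟶ A) :
    ∃ n : ℕ, artPow f n ≫ artFit f = artPow f n := by
  haveI := isArtinian_art A
  haveI := isNoetherian_art A
  obtain ⟨n, hn⟩ := exists_fitProj_iterate f.toAlgHom
  refine ⟨n, ?_⟩
  apply Art.hom_ext
  apply AlgHom.ext
  intro x
  change (artFit f) ((artPow f n) x) = (artPow f n) x
  rw [artPow_apply]
  exact hn x

/-- an element fixed by `f` is fixed by the Fitting idempotent. -/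
lemma map_artFit {F : Art Λ k ⥤ Type v} {A : Art Λ k} (f : A ⟶ A) (η : F.obj A)
    (h : F.map f η = η) : F.map (artFit f) η = η := by
  obtain ⟨n, hn⟩ := exists_artPow_comp_artFit f
  have h1 := map_artPow f η h n
  calc F.map (artFit f) η = F.map (artFit f) (F.map (artPow f n) η) := by rw [h1]
    _ = F.map (artPow f n ≫ artFit f) η := (FunctorToTypes.map_comp_apply F _ _ η).symm
    _ = η := by rw [hn, h1]

lemma artFit_natural {A' A : Art Λ k} (f' : A' ⟶ A') (f : A ⟶ A) (τ : A' ⟶ A)
    (h : f' ≫ τ = τ ≫ f) : artFit f' ≫ τ = τ ≫ artFit f := by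
  haveI := isArtinian_art A
  haveI := isNoetherian_art A
  haveI := isArtinian_art A'
  haveI := isNoetherian_art A'
  apply Art.hom_ext
  apply AlgHom.ext
  intro x
  refine fitProj_equivariant f.toAlgHom f'.toAlgHom τ.toAlgHom ?_ x
  intro y
  exact congrArg (fun t : A' ⟶ A => t y) h

lemma surjective_of_artFit_eq_id {A : Art Λ k} (f : A ⟶ A) (h : artFit f = 𝟙 A) :
    Function.Surjective f := by
  haveI := isArtinian_art A
  haveI := isNoetherian_art A
  apply surjective_of_fitProj_eq_id f.toAlgHom
  intro x
  exact congrArg (fun t : A ⟶ A => t x) h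

end ArtFit

end Groth.Agent.H6.MinVers
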