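import Mathlib
import Groth.Prelude
import Groth.Agent.Lib.Helper6.MinVers2
import Groth.Agent.Lib.Helper6.ArtFunEndo
import Groth.Agent.Lib.Helper6.ArtFunSurj

/-!
# helper6: the limit Fitting idempotent of an endomorphism of a coefficient ring (towards S12759)
-/

set_option autoImplicit false
set_option linter.style.haveILetI false
set_option linter.unusedTactic false
set_option linter.unusedVariables false
set_option linter.unusedSectionVars false
set_option linter.deprecated false

universe u v

open CategoryTheory ArtFun ArtFun.Art IsLocalRing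

namespace Groth.Agent.H6.MinVers

variable {Λ : Type u} {k : Type u} [CommRing Λ] [Field k] [Algebra Λ k]

section Limit

variable [IsNoetherianRing Λ] [Module.Finite Λ k]
variable (R : CRing Λ k) (φ : R.carrier →ₐ[Λ] R.carrier) (hφ : R.res.comp φ = R.res)

/-- the level-`n` Fitting idempotent. -/
noncomputable def eLevel (n : ℕ) : R.trunc n ⟶ R.trunc n := artFit (CRing.truncMapOfHom φ hφ n)

lemma eLevel_compat (n : ℕ) :
    eLevel R φ hφ (n + 1) ≫ R.truncMap n = R.truncMap n ≫ eLevel R φ hφ n :=
  artFit_natural _ _ _ (CRing.truncMapOfHom_truncMap φ hφ n)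

/-- the limit idempotent. -/
theorem exists_idem :
    ∃ (e : R.carrier →ₐ[Λ] R.carrier) (he : R.res.comp e = R.res),
      ∀ n, (R.truncHom n).1.comp e = (eLevel R φ hφ n).toAlgHom.comp (R.truncHom n).1 := by
  obtain ⟨G, hG, hGn⟩ := Groth.Agent.H6.exists_limit_hom R
    (fun n => HomSet.map (eLevel R φ hφ n) (R.truncHom n))
    (fun n => by
      apply Groth.Agent.H6.homSet_ext
      intro r
      have h1 := congrArg (fun t : R.trunc (n + 1) ⟶ R.trunc n => t ((R.truncHom (n + 1)).1 r))
        (eLevel_compat R φ hφ n)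
      exact h1)
  exact ⟨G, hG, hGn⟩

variable (e : R.carrier →ₐ[Λ] R.carrier) (he : R.res.comp e = R.res)
  (hen : ∀ n, (R.truncHom n).1.comp e = (eLevel R φ hφ n).toAlgHom.comp (R.truncHom n).1)

include hen in
theorem idem_comp : e.comp e = e := by
  apply Groth.Agent.H6.cring_hom_ext R
  intro n
  rw [← AlgHom.comp_assoc, hen n, AlgHom.comp_assoc, hen n, ← AlgHom.comp_assoc]
  congr 1
  exact congrArg Art.Hom.toAlgHom (artFit_idem (CRing.truncMapOfHom φ hφ n))

include hen in
theorem along_idem {F : Art Λ k ⥤ Type v} (ξ : Family R.carrier R.res F)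
    (h : ξ.along φ hφ = ξ) : ξ.along e he = ξ := by
  apply Groth.Agent.H6.family_ext_of_toFormalElt
  apply FormalElt.ext'
  intro n
  change ξ.app _ ⟨(R.truncHom n).1.comp e, _⟩ = ξ.app _ (R.truncHom n)
  have h1 : (⟨(R.truncHom n).1.comp e, by rw [← AlgHom.comp_assoc, (R.truncHom n).2, he]⟩ :
      HomSet R.carrier R.res (R.trunc n)) = HomSet.map (eLevel R φ hφ n) (R.truncHom n) :=
    Subtype.ext (hen n)
  rw [h1, ξ.natural]
  apply map_artFit
  rw [← ξ.natural]
  have h2 : HomSet.map (CRing.truncMapOfHom φ hφ n) (R.truncHom n) =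
      (⟨(R.truncHom n).1.comp φ, by rw [← AlgHom.comp_assoc, (R.truncHom n).2, hφ]⟩ :
        HomSet R.carrier R.res (R.trunc n)) :=
    Subtype.ext (AlgHom.ext fun _ => rfl)
  rw [h2]
  have h3 := congrArg (fun ζ : Family R.carrier R.res F => ζ.app _ (R.truncHom n)) h
  exact h3

include hen in
theorem surjective_of_idem_eq_id (hid : e = AlgHom.id Λ R.carrier) : Function.Surjective φ := by
  haveI := R.isAdicComplete
  have htfae := Groth.Agent.H6.surjective_tfae R.res R.res R.res_surjective R.res_surjective φ hφ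
  apply (htfae.out 0 1).2
  apply le_antisymm
  · refine sup_le ?_ (Ideal.pow_le_self two_ne_zero)
    rw [Ideal.map_le_iff_le_comap]
    intro r hr
    rw [Ideal.mem_comap, CRing.mem_maximalIdeal_iff]
    have : R.res (φ r) = R.res r := congrArg (fun t : R.carrier →ₐ[Λ] k => t r) hφ
    rw [this, ← CRing.mem_maximalIdeal_iff]
    exact hr
  · intro x hx
    -- level one
    have h1 : eLevel R φ hφ 1 = 𝟙 _ := by
      apply Art.hom_ext
      apply AlgHom.ext
      intro y
      obtain ⟨a, rfl⟩ := Ideal.Quotient.mk_surjective y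
      have := congrArg (fun t : R.carrier →ₐ[Λ] (R.trunc 1) => t a) (hen 1)
      rw [hid] at this
      exact this.symm
    have hs := surjective_of_artFit_eq_id (CRing.truncMapOfHom φ hφ 1) h1
    obtain ⟨y, hy⟩ := hs ((R.truncHom 1).1 x)
    obtain ⟨a, rfl⟩ := Ideal.Quotient.mk_surjective y
    have h2 : φ a - x ∈ R.mpow 1 := by
      rw [← Ideal.Quotient.eq]
      exact hy
    have h3 : φ a - x ∈ maximalIdeal R.carrier ^ 2 := h2
    have ha : a ∈ maximalIdeal R.carrier := by
      rw [CRing.mem_maximalIdeal_iff]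
      have h4 : R.res (φ a) = R.res a := congrArg (fun t : R.carrier →ₐ[Λ] k => t a) hφ
      have h5 : R.res (φ a - x) = 0 := by
        rw [← CRing.mem_maximalIdeal_iff]
        exact Ideal.pow_le_self two_ne_zero h3
      have h6 : R.res x = 0 := (CRing.mem_maximalIdeal_iff R x).mp hx
      rw [map_sub, h4, h6, sub_zero] at h5
      exact h5
    have : x = φ a - (φ a - x) := by ring
    rw [this]
    exact Ideal.sub_mem _ (Ideal.mem_sup_left (Ideal.mem_map_of_mem _ ha)) (Ideal.mem_sup_right h3)

end Limit

end Groth.Agent.H6.MinVers
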