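import Mathlib
import Groth.Prelude
import Groth.Agent.Lib.Helper6.MinVers3

/-!
# helper6: versal retracts (towards S12759)
-/

set_option autoImplicit false
set_option linter.style.haveILetI false
set_option linter.unusedTactic false
set_option linter.unusedVariables false
set_option linter.unusedSectionVars false
set_option linter.deprecated false

universe u v

open CategoryTheory ArtFun ArtFun.Art IsLocalRing

namespace Groth.Agent.H6.MinVers

variable {Λ : Type u} {k : Type u} [CommRing Λ] [Field k] [Algebra Λ k]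

section Retract

variable {F : Art Λ k ⥤ Type v} (R R' : CRing Λ k)
  (q : R.carrier →ₐ[Λ] R'.carrier) (hq : R'.res.comp q = R.res)
  (g : R'.carrier →ₐ[Λ] R.carrier) (hg : R.res.comp g = R'.res)
  (hqg : q.comp g = AlgHom.id Λ R'.carrier)
  (ξ : Family R.carrier R.res F) (hξ : IsVersal ξ)
  (hfix : (ξ.along q hq).along g hg = ξ)

include hqg hξ hfix in
/-- a retract of a versal family is versal. -/
theorem isVersal_retract : IsVersal (ξ.along q hq) := by
  intro B A μ hμ φ₁ y hy
  have h1 : F.map μ y = ξ.app A ⟨φ₁.1.comp q, by rw [← AlgHom.comp_assoc, φ₁.2, hq]⟩ := hy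
  obtain ⟨ψ, hψ1, hψ2⟩ := hξ μ hμ _ y h1
  refine ⟨⟨ψ.1.comp g, by rw [← AlgHom.comp_assoc, ψ.2, hg]⟩, ?_, ?_⟩
  · apply Groth.Agent.H6.homSet_ext
    intro r
    have h2 := congrArg (fun t : HomSet R.carrier R.res A => t.1 (g r)) hψ1
    have h3 : q (g r) = r := congrArg (fun t : R'.carrier →ₐ[Λ] R'.carrier => t r) hqg
    change μ (ψ.1 (g r)) = φ₁.1 r
    change μ (ψ.1 (g r)) = φ₁.1 (q (g r)) at h2
    rw [h2, h3]
  · have h4 := congrArg (fun ζ : Family R.carrier R.res F => ζ.app B ψ) hfix
    rw [← hψ2]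
    exact h4

include hqg hξ hfix in
/-- the structure map of a versal retract is formally smooth. -/
theorem isVersal_self_along :
    IsVersal ((Family.self R'.carrier R'.res).along g hg) := by
  have key : ∀ ⦃A B : Art Λ k⦄ (μ : B ⟶ A), Function.Surjective μ →
      ∀ (φ : HomSet R.carrier R.res A) (y : HomSet R'.carrier R'.res B),
        (∀ r, μ (y.1 r) = φ.1 (g r)) →
        ∃ ψ : HomSet R.carrier R.res B, HomSet.map μ ψ = φ ∧ ∀ r, ψ.1 (g r) = y.1 r := by
    intro A B μ hμ
    refine Groth.Agent.H6.art_surjective_induction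
      (fun A B μ => ∀ (φ : HomSet R.carrier R.res A) (y : HomSet R'.carrier R'.res B),
        (∀ r, μ (y.1 r) = φ.1 (g r)) →
        ∃ ψ : HomSet R.carrier R.res B, HomSet.map μ ψ = φ ∧ ∀ r, ψ.1 (g r) = y.1 r)
      ?_ ?_ ?_ μ hμ
    · -- isomorphisms
      intro A B e he φ y hy
      refine ⟨HomSet.map (inv e) φ, ?_, ?_⟩
      · apply Groth.Agent.H6.homSet_ext
        intro r
        change (inv e ≫ e) (φ.1 r) = φ.1 r
        rw [IsIso.inv_hom_id]
        rfl
      · intro r
        change (inv e) (φ.1 (g r)) = y.1 r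
        rw [← hy r]
        change (e ≫ inv e) (y.1 r) = y.1 r
        rw [IsIso.hom_inv_id]
        rfl
    · -- small extensions
      intro A B μ hμ φ y hy
      have hker : ∀ m ∈ maximalIdeal B, ∀ i : B, μ i = 0 → m * i = 0 := by
        intro m hm i hi
        have h1 : m * i ∈ maximalIdeal B * RingHom.ker μ.toAlgHom :=
          Ideal.mul_mem_mul hm hi
        rw [hμ.2.2.2] at h1
        exact h1
      -- a first lift
      have h1 : F.map μ ((ξ.along q hq).app B y) = ξ.app A φ := by
        rw [← (ξ.along q hq).natural]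
        have h2 : HomSet.map μ y = (⟨φ.1.comp g, by rw [← AlgHom.comp_assoc, φ.2, hg]⟩ :
            HomSet R'.carrier R'.res A) := Groth.Agent.H6.homSet_ext hy
        rw [h2]
        exact congrArg (fun ζ : Family R.carrier R.res F => ζ.app A φ) hfix
      obtain ⟨ψ₁, hψ1, -⟩ := hξ μ hμ.1 φ _ h1
      have hψ1' : ∀ a, μ (ψ₁.1 a) = φ.1 a := fun a =>
        congrArg (fun t : HomSet R.carrier R.res A => t.1 a) hψ1
      have hresψ₁ : ∀ a, B.res (ψ₁.1 a) = R.res a := fun a =>
        congrArg (fun t : R.carrier →ₐ[Λ] k => t a) ψ₁.2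
      have hresy : ∀ r, B.res (y.1 r) = R'.res r := fun r =>
        congrArg (fun t : R'.carrier →ₐ[Λ] k => t r) y.2
      have hresq : ∀ a, R'.res (q a) = R.res a := fun a =>
        congrArg (fun t : R.carrier →ₐ[Λ] k => t a) hq
      have hresg : ∀ r, R.res (g r) = R'.res r := fun r =>
        congrArg (fun t : R'.carrier →ₐ[Λ] k => t r) hg
      have hqg' : ∀ r, q (g r) = r := fun r =>
        congrArg (fun t : R'.carrier →ₐ[Λ] R'.carrier => t r) hqg
      -- the correction
      have hD : ∀ a, μ (y.1 (q a) - ψ₁.1 (g (q a))) = 0 := by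
        intro a
        rw [map_sub, hy, hψ1', sub_self]
      have hm1 : ∀ a, y.1 (q a) - ψ₁.1 a ∈ maximalIdeal B := by
        intro a
        rw [Art.mem_maximalIdeal_iff, map_sub, hresy, hresψ₁, hresq, sub_self]
      have hm2 : ∀ a, ψ₁.1 (g (q a)) - ψ₁.1 a ∈ maximalIdeal B := by
        intro a
        rw [Art.mem_maximalIdeal_iff, map_sub, hresψ₁, hresψ₁, hresg, hresq, sub_self]
      have hDm : ∀ a, y.1 (q a) - ψ₁.1 (g (q a)) ∈ maximalIdeal B := fun a =>
        Groth.Agent.H6.art_ker_le_maximalIdeal μ (hD a)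
      let ψ : R.carrier →ₐ[Λ] B :=
        { toFun := fun a => ψ₁.1 a + (y.1 (q a) - ψ₁.1 (g (q a)))
          map_one' := by simp
          map_zero' := by simp
          map_add' := fun a b => by simp only [map_add]; ring
          commutes' := fun l => by simp
          map_mul' := fun a b => by
            have e1 := hker _ (hm1 a) _ (hD b)
            have e2 := hker _ (hm2 b) _ (hD a)
            have e3 := hker _ (hDm a) _ (hD b)
            simp only [map_mul]
            linear_combination e1 + e2 - e3 }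
      have hψres : B.res.comp ψ = R.res := by
        apply AlgHom.ext
        intro a
        change B.res (ψ₁.1 a + (y.1 (q a) - ψ₁.1 (g (q a)))) = R.res a
        rw [map_add, hresψ₁, (Art.mem_maximalIdeal_iff B _).mp (hDm a), add_zero]
      refine ⟨⟨ψ, hψres⟩, ?_, ?_⟩
      · apply Groth.Agent.H6.homSet_ext
        intro a
        change μ (ψ₁.1 a + (y.1 (q a) - ψ₁.1 (g (q a)))) = φ.1 a
        rw [map_add, hD, add_zero, hψ1']
      · intro r
        change ψ₁.1 (g r) + (y.1 (q (g r)) - ψ₁.1 (g (q (g r)))) = y.1 r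
        rw [hqg']
        ring
    · -- composition
      intro A B C p p' hp hp' φ y hy
      obtain ⟨ψ₁, h1, h2⟩ := hp' φ (HomSet.map p y) (fun r => hy r)
      obtain ⟨ψ, h3, h4⟩ := hp ψ₁ y (fun r => (h2 r).symm)
      refine ⟨ψ, ?_, h4⟩
      rw [← h1, ← h3]
      rfl
  intro B A μ hμ φ y hy
  have hy' : ∀ r, μ ((y : HomSet R'.carrier R'.res B).1 r) = φ.1 (g r) := fun r =>
    congrArg (fun t : HomSet R'.carrier R'.res A => t.1 r) hy
  obtain ⟨ψ, h1, h2⟩ := key μ hμ φ y hy'
  exact ⟨ψ, h1, Groth.Agent.H6.homSet_ext h2⟩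

end Retract

end Groth.Agent.H6.MinVers
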