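import Mathlib
import Groth.Prelude
import Groth.Agent.Lib.Helper6.MinVers4
import Groth.Agent.Lib.Helper6.CRingCoprod
import Groth.Agent.Lib.Helper8.ArtObs.SmoothPS

/-!
# helper6: every versal family is a power series extension of a minimal versal family (S12759)
-/

set_option autoImplicit false
set_option linter.style.haveILetI false
set_option linter.unusedTactic false
set_option linter.unusedVariables false
set_option linter.unusedSectionVars false
set_option linter.deprecated false

universe u v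

open CategoryTheory ArtFun ArtFun.Art IsLocalRing

namespace Groth.Agent.H6.MinVers

variable {Λ : Type u} {k : Type u} [CommRing Λ] [Field k] [Algebra Λ k]

section Main

variable {F : Art Λ k ⥤ Type v} (R : CRing Λ k) (ξ : Family R.carrier R.res F)

/-- idempotent endomorphisms of the coefficient ring fixing the family. -/
structure IdemFix where
  e : R.carrier →ₐ[Λ] R.carrier
  he : R.res.comp e = R.res
  idem : e.comp e = e
  fix : ξ.along e he = ξ

variable {R ξ}

namespace IdemFix

variable (E : IdemFix R ξ)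

lemma e_e (a : R.carrier) : E.e (E.e a) = E.e a :=
  congrArg (fun t : R.carrier →ₐ[Λ] R.carrier => t a) E.idem

lemma res_e (a : R.carrier) : R.res (E.e a) = R.res a :=
  congrArg (fun t : R.carrier →ₐ[Λ] k => t a) E.he

lemma ker_le : RingHom.ker E.e ≤ maximalIdeal R.carrier := by
  intro a ha
  rw [CRing.mem_maximalIdeal_iff, ← E.res_e, (RingHom.mem_ker).mp ha, map_zero]

/-- the image ring -/
noncomputable def ring : CRing Λ k := Groth.Agent.H6.CRingOps.cquot R (RingHom.ker E.e) E.ker_le

noncomputable def q : R.carrier →ₐ[Λ] E.ring.carrier :=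
  Groth.Agent.H6.CRingOps.cquotMk R (RingHom.ker E.e) E.ker_le

lemma hq : E.ring.res.comp E.q = R.res :=
  Groth.Agent.H6.CRingOps.cquot_res_comp R (RingHom.ker E.e) E.ker_le

lemma q_surjective : Function.Surjective E.q :=
  Groth.Agent.H6.CRingOps.cquotMk_surjective R (RingHom.ker E.e) E.ker_le

lemma q_eq_zero_iff (a : R.carrier) : E.q a = 0 ↔ E.e a = 0 :=
  (Groth.Agent.H6.CRingOps.cquotMk_eq_zero_iff R (RingHom.ker E.e) E.ker_le a).trans RingHom.mem_ker

noncomputable def g : E.ring.carrier →ₐ[Λ] R.carrier :=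
  Groth.Agent.H6.CRingOps.cquotLift R (RingHom.ker E.e) E.ker_le E.e (fun a ha => ha)

lemma g_q (a : R.carrier) : E.g (E.q a) = E.e a :=
  congrArg (fun t : R.carrier →ₐ[Λ] R.carrier => t a)
    (Groth.Agent.H6.CRingOps.cquotLift_comp R (RingHom.ker E.e) E.ker_le E.e (fun a ha => ha))

lemma res_q (a : R.carrier) : E.ring.res (E.q a) = R.res a :=
  congrArg (fun t : R.carrier →ₐ[Λ] k => t a) E.hq

lemma hg : R.res.comp E.g = E.ring.res := by
  apply AlgHom.ext
  intro r
  obtain ⟨a, rfl⟩ := E.q_surjective r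
  change R.res (E.g (E.q a)) = E.ring.res (E.q a)
  rw [E.g_q, E.res_e, E.res_q]

lemma q_g (r : E.ring.carrier) : E.q (E.g r) = r := by
  obtain ⟨a, rfl⟩ := E.q_surjective r
  rw [E.g_q, ← sub_eq_zero, ← map_sub, E.q_eq_zero_iff, map_sub, E.e_e, sub_self]

lemma hqg : E.q.comp E.g = AlgHom.id Λ E.ring.carrier := AlgHom.ext E.q_g

lemma g_injective : Function.Injective E.g :=
  Function.LeftInverse.injective E.q_g

lemma hfix : (ξ.along E.q E.hq).along E.g E.hg = ξ := by
  conv_rhs => rw [← E.fix]
  apply Groth.Agent.H6.family_ext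
  intro A u
  change ξ.app A ⟨(u.1.comp E.g).comp E.q, _⟩ = ξ.app A ⟨u.1.comp E.e, _⟩
  congr 1

end IdemFix

/-- the identity as an idempotent. -/
noncomputable def IdemFix.one : IdemFix R ξ where
  e := AlgHom.id Λ R.carrier
  he := AlgHom.comp_id _
  idem := AlgHom.comp_id _
  fix := Groth.Agent.H6.family_ext fun A u => rfl

variable [IsNoetherianRing Λ] [Module.Finite Λ k]

/-- an idempotent with maximal kernel gives a minimal versal family. -/
theorem isMinimalVersal_of_maximal (h0 : H0 F) (hξ : IsVersal ξ) (E : IdemFix R ξ)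
    (hmax : ∀ E' : IdemFix R ξ, ¬ RingHom.ker E.e < RingHom.ker E'.e) :
    (ξ.along E.q E.hq).IsMinimalVersal := by
  have hv : IsVersal (ξ.along E.q E.hq) :=
    isVersal_retract R E.ring E.q E.hq E.g E.hg E.hqg ξ hξ E.hfix
  refine ⟨hv, ?_⟩
  intro R'' u f hf hpush
  by_contra hns
  have hsurj' := Groth.Agent.H6.versal_surjective_app (ξ.along E.q E.hq) hv h0
  obtain ⟨h, hh, hhu⟩ := Groth.Agent.H6.exists_hom_of_formalElt (ξ.along E.q E.hq) hv hsurj' R'' u
  have hφ' : E.ring.res.comp (f.comp h) = E.ring.res := by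
    rw [← AlgHom.comp_assoc, hf, hh]
  have hfixφ : (ξ.along E.q E.hq).along (f.comp h) hφ' = ξ.along E.q E.hq := by
    apply Groth.Agent.H6.family_ext_of_toFormalElt
    rw [← hpush, ← hhu, Groth.Agent.H6.toFormalElt_push]
    rfl
  have hnsφ : ¬ Function.Surjective (f.comp h) := fun hs => hns (fun x => by
    obtain ⟨y, hy⟩ := hs x
    exact ⟨h y, hy⟩)
  obtain ⟨e', he', hen⟩ := exists_idem E.ring (f.comp h) hφ'
  have hidem := idem_comp E.ring (f.comp h) hφ' e' hen
  have hfixe := along_idem E.ring (f.comp h) hφ' e' he' hen (ξ.along E.q E.hq) hfixφ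
  have hne : e' ≠ AlgHom.id Λ E.ring.carrier := fun hid =>
    hnsφ (surjective_of_idem_eq_id E.ring (f.comp h) hφ' e' hen hid)
  have he'e' : ∀ r, e' (e' r) = e' r := fun r =>
    congrArg (fun t : E.ring.carrier →ₐ[Λ] E.ring.carrier => t r) hidem
  have hrese' : ∀ r, E.ring.res (e' r) = E.ring.res r := fun r =>
    congrArg (fun t : E.ring.carrier →ₐ[Λ] k => t r) he'
  -- the new idempotent
  let E' : IdemFix R ξ :=
    { e := E.g.comp (e'.comp E.q)
      he := by
        apply AlgHom.ext
        intro a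
        change R.res (E.g (e' (E.q a))) = R.res a
        have h1 : R.res (E.g (e' (E.q a))) = E.ring.res (e' (E.q a)) :=
          congrArg (fun t : E.ring.carrier →ₐ[Λ] k => t (e' (E.q a))) E.hg
        rw [h1, hrese', E.res_q]
      idem := by
        apply AlgHom.ext
        intro a
        change E.g (e' (E.q (E.g (e' (E.q a))))) = E.g (e' (E.q a))
        rw [E.q_g, he'e']
      fix := by
        conv_rhs => rw [← E.hfix, ← hfixe]
        apply Groth.Agent.H6.family_ext
        intro A u
        rfl }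
  apply hmax E'
  refine lt_of_le_of_ne ?_ ?_
  · intro a ha
    rw [RingHom.mem_ker] at ha ⊢
    change E.g (e' (E.q a)) = 0
    rw [(E.q_eq_zero_iff a).mpr ha, map_zero, map_zero]
  · intro heq
    apply hne
    apply AlgHom.ext
    intro r
    obtain ⟨a, rfl⟩ := E.q_surjective r
    -- `x = a - lift of e'(q a)`
    obtain ⟨b, hb⟩ := E.q_surjective (e' (E.q a))
    have h1 : a - b ∈ RingHom.ker E'.e := by
      rw [RingHom.mem_ker]
      change E.g (e' (E.q (a - b))) = 0
      rw [map_sub, hb, map_sub, he'e', sub_self, map_zero]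
    rw [← heq, RingHom.mem_ker, ← E.q_eq_zero_iff, map_sub, hb, sub_eq_zero] at h1
    exact h1.symm

/-- existence of an idempotent with maximal kernel. -/
theorem exists_maximal_idemFix (R : CRing Λ k) (ξ : Family R.carrier R.res F) :
    ∃ E : IdemFix R ξ, ∀ E' : IdemFix R ξ, ¬ RingHom.ker E.e < RingHom.ker E'.e := by
  let S : Set (Ideal R.carrier) := {K | ∃ E : IdemFix R ξ, K = RingHom.ker E.e}
  have hS : S.Nonempty := ⟨_, IdemFix.one, rfl⟩
  obtain ⟨K, ⟨E, rfl⟩, hK⟩ := wellFounded_gt.has_min S hS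
  exact ⟨E, fun E' hlt => hK _ ⟨E', rfl⟩ hlt⟩

end Main

end Groth.Agent.H6.MinVers
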