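import Mathlib
import Groth.Prelude
import Groth.Agent.Lib.Helper6.MinVers5

/-!
# helper6: S12759
-/

set_option autoImplicit false
set_option linter.style.haveILetI false
set_option linter.unusedTactic false
set_option linter.unusedVariables false
set_option linter.unusedSectionVars false
set_option linter.deprecated false

universe u v

open CategoryTheory ArtFun ArtFun.Art IsLocalRing

namespace Groth.Agent.H6.MinVers

theorem main12759 {Λ : Type u} {k : Type u} [CommRing Λ] [Field k] [Algebra Λ k]
    [IsNoetherianRing Λ] [Module.Finite Λ k]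
    {F : ArtFun.Art Λ k ⥤ Type v} (h0 : ArtFun.H0 F) (V : ArtFun.VersalPair F) :
    ∃ (R' : ArtFun.CRing Λ k) (ξ' : ArtFun.Family R'.carrier R'.res F), ξ'.IsMinimalVersal ∧
      ∃ (g : R'.carrier →ₐ[Λ] V.ring.carrier) (hg : V.ring.res.comp g = R'.res)
        (n : ℕ) (e : V.ring.carrier ≃ₐ[Λ] MvPowerSeries (Fin n) R'.carrier),
        (∀ a : R'.carrier, e (g a) = algebraMap R'.carrier (MvPowerSeries (Fin n) R'.carrier) a) ∧
        (ξ'.along g hg).toFormalElt = V.family.toFormalElt := by
  obtain ⟨E, hmax⟩ := exists_maximal_idemFix V.ring V.family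
  have hmin := isMinimalVersal_of_maximal h0 V.versal E hmax
  refine ⟨E.ring, V.family.along E.q E.hq, hmin, E.g, E.hg, ?_⟩
  letI : Algebra E.ring.carrier V.ring.carrier := E.g.toRingHom.toAlgebra
  haveI : IsScalarTower Λ E.ring.carrier V.ring.carrier :=
    IsScalarTower.of_algebraMap_eq (fun l => (E.g.commutes l).symm)
  have hRS : V.ring.res.comp (IsScalarTower.toAlgHom Λ E.ring.carrier V.ring.carrier) =
      E.ring.res := by
    apply AlgHom.ext
    intro r
    exact congrArg (fun t : E.ring.carrier →ₐ[Λ] k => t r) E.hg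
  have hv : IsVersal ((Family.self E.ring.carrier E.ring.res).along
      (IsScalarTower.toAlgHom Λ E.ring.carrier V.ring.carrier) hRS) := by
    intro B A μ hμ φ y hy
    exact isVersal_self_along V.ring E.ring E.q E.hq E.g E.hg E.hqg V.family V.versal E.hfix
      μ hμ φ y hy
  obtain ⟨n, ⟨eR⟩⟩ := Groth.Agent.H8.ArtPS.exists_equiv_of_isVersal E.ring V.ring hRS hv
  refine ⟨n, eR.restrictScalars Λ, ?_, ?_⟩
  · intro a
    exact eR.commutes a
  · rw [E.hfix]

end Groth.Agent.H6.MinVers
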