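import Groth.Agent.Lib.Helper6.CL2

/-! # `Ext` into a countable product: the comparison map and dimension shifting -/

set_option autoImplicit false

open CategoryTheory CategoryTheory.Limits Abelian

namespace Groth.Agent.H6.Ml

universe w v u

variable {𝒜 : Type u} [Category.{v} 𝒜] [Abelian 𝒜] [HasExt.{w} 𝒜] (A : 𝒜)

/-- the comparison map `Ext^i(A, ∏ G) → ∏ Ext^i(A, G n)` -/
noncomputable def theta (G : ℕ → 𝒜) [HasProduct G] (i : ℕ) :
    Ext A (∏ᶜ G) i →+ ∀ n, Ext A (G n) i :=
  AddMonoidHom.pi (fun n => (Ext.mk₀ (Limits.Pi.π G n)).postcomp A (add_zero i))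

lemma theta_apply (G : ℕ → 𝒜) [HasProduct G] (i : ℕ) (x : Ext A (∏ᶜ G) i) (n : ℕ) :
    theta A G i x n = x.comp (Ext.mk₀ (Limits.Pi.π G n)) (add_zero i) := rfl

lemma theta_zero_bijective (G : ℕ → 𝒜) [HasProduct G] : Function.Bijective (theta A G 0) := by
  constructor
  · rw [injective_iff_map_eq_zero]
    intro x hx
    obtain ⟨φ, rfl⟩ := (Ext.mk₀_bijective A (∏ᶜ G)).2 x
    have h : φ = 0 := by
      apply Limits.Pi.hom_ext
      intro n
      have h1 := congrFun hx n
      rw [theta_apply, Ext.mk₀_comp_mk₀] at h1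
      have h2 : Ext.mk₀ (φ ≫ Limits.Pi.π G n) = Ext.mk₀ (0 : A ⟶ G n) := by
        rw [Ext.mk₀_zero]; exact h1
      rw [zero_comp]
      exact (Ext.mk₀_bijective A (G n)).1 h2
    rw [h, Ext.mk₀_zero]
  · intro y
    have hy : ∀ n, ∃ φ : A ⟶ G n, Ext.mk₀ φ = y n := fun n => (Ext.mk₀_bijective A (G n)).2 (y n)
    choose φ hφ using hy
    refine ⟨Ext.mk₀ (Limits.Pi.lift φ), ?_⟩
    funext n
    rw [theta_apply, Ext.mk₀_comp_mk₀, Limits.Pi.lift_π, hφ]

section Prod

variable (S : ℕ → ShortComplex 𝒜) [HasProduct (fun n => (S n).X₁)]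
  [HasProduct (fun n => (S n).X₂)] [HasProduct (fun n => (S n).X₃)]

/-- the product of a family of short complexes -/
noncomputable abbrev prodSC : ShortComplex 𝒜 :=
  ShortComplex.mk (Limits.Pi.map (fun n => (S n).f)) (Limits.Pi.map (fun n => (S n).g)) (by
    rw [Limits.Pi.map_comp_map]
    apply Limits.Pi.hom_ext
    intro n
    rw [Limits.Pi.map_π, zero_comp, (S n).zero, comp_zero])

/-- the projections -/
noncomputable def prodSCπ (n : ℕ) : prodSC S ⟶ S n where
  τ₁ := Limits.Pi.π _ n
  τ₂ := Limits.Pi.π _ n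
  τ₃ := Limits.Pi.π _ n
  comm₁₂ := by
    change _ = Limits.Pi.map (fun n => (S n).f) ≫ Limits.Pi.π _ n
    rw [Limits.Pi.map_π]
  comm₂₃ := by
    change _ = Limits.Pi.map (fun n => (S n).g) ≫ Limits.Pi.π _ n
    rw [Limits.Pi.map_π]

instance mono_prodSC_f [∀ n, Mono (S n).f] : Mono (prodSC S).f := by
  change Mono (Limits.Pi.map (fun n => (S n).f))
  infer_instance

/-- the product of left exact sequences is left exact -/
lemma prodSC_exact (hS : ∀ n, (S n).Exact) [∀ n, Mono (S n).f] : (prodSC S).Exact := by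
  apply ShortComplex.exact_of_f_is_kernel
  refine KernelFork.IsLimit.ofι _ _ (fun {T} k hk => Limits.Pi.lift (fun n =>
    (hS n).lift (k ≫ Limits.Pi.π _ n) (by
      have h1 : (k ≫ (prodSC S).g) ≫ Limits.Pi.π _ n = 0 := by rw [hk, zero_comp]
      rw [Category.assoc] at h1
      have h2 : (prodSC S).g ≫ Limits.Pi.π _ n = Limits.Pi.π _ n ≫ (S n).g := by
        change Limits.Pi.map (fun n => (S n).g) ≫ Limits.Pi.π _ n = _
        rw [Limits.Pi.map_π]
      rw [h2] at h1
      rw [Category.assoc]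
      exact h1))) ?_ ?_
  · intro T k hk
    apply Limits.Pi.hom_ext
    intro n
    change (Limits.Pi.lift _ ≫ Limits.Pi.map (fun n => (S n).f)) ≫ Limits.Pi.π _ n = _
    rw [Category.assoc, Limits.Pi.map_π, ← Category.assoc, Limits.Pi.lift_π, ShortComplex.Exact.lift_f]
  · intro T k hk m hm
    rw [← cancel_mono (prodSC S).f]
    apply Limits.Pi.hom_ext
    intro n
    change _ = (Limits.Pi.lift _ ≫ Limits.Pi.map (fun n => (S n).f)) ≫ Limits.Pi.π _ n
    rw [hm, Category.assoc, Limits.Pi.map_π, ← Category.assoc, Limits.Pi.lift_π, ShortComplex.Exact.lift_f]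

end Prod

section Step

open Groth.Agent.H6.CL

variable (S : ℕ → ShortComplex 𝒜) [HasProduct (fun n => (S n).X₁)]
  [HasProduct (fun n => (S n).X₂)] [HasProduct (fun n => (S n).X₃)]
  (hS : ∀ n, (S n).ShortExact) (hP : (prodSC S).ShortExact)

/-- compatibility of the comparison maps with the connecting maps -/
lemma theta_delta (i : ℕ) (x : Ext A (prodSC S).X₃ i) (n : ℕ) :
    theta A (fun n => (S n).X₁) (i + 1) (x.comp hP.extClass rfl) n =
      (theta A (fun n => (S n).X₃) i x n).comp (hS n).extClass rfl := by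
  rw [theta_apply, theta_apply]
  have h := ShortComplex.ShortExact.extClass_naturality hP (hS n) (prodSCπ S n)
  have e1 : (x.comp hP.extClass (rfl : i + 1 = i + 1)).comp
      (Ext.mk₀ (Limits.Pi.π (fun n => (S n).X₁) n)) (add_zero (i + 1)) =
      x.comp (hP.extClass.comp (Ext.mk₀ (prodSCπ S n).τ₁) (add_zero 1)) rfl :=
    Ext.comp_assoc_of_third_deg_zero _ _ _ _
  have e2 : (x.comp (Ext.mk₀ (Limits.Pi.π (fun n => (S n).X₃) n)) (add_zero i)).comp
      (hS n).extClass (rfl : i + 1 = i + 1) =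
      x.comp ((Ext.mk₀ (prodSCπ S n).τ₃).comp (hS n).extClass (zero_add 1)) rfl :=
    Ext.comp_assoc_of_second_deg_zero _ _ _ _
  rw [e1, e2, h]

/-- compatibility of the comparison maps with the maps induced by `g` -/
lemma theta_g (i : ℕ) (x : Ext A (prodSC S).X₂ i) (n : ℕ) :
    theta A (fun n => (S n).X₃) i (x.comp (Ext.mk₀ (prodSC S).g) (add_zero i)) n =
      (theta A (fun n => (S n).X₂) i x n).comp (Ext.mk₀ (S n).g) (add_zero i) := by
  rw [theta_apply, theta_apply, Ext.comp_assoc_of_third_deg_zero,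
    Ext.comp_assoc_of_third_deg_zero, Ext.mk₀_comp_mk₀, Ext.mk₀_comp_mk₀]
  congr 2
  exact ((prodSCπ S n).comm₂₃).symm

variable (hI : ∀ n, Injective (S n).X₂)

include hS hP hI in
lemma theta_one_bijective : Function.Bijective (theta A (fun n => (S n).X₁) 1) := by
  haveI : ∀ n, Injective (S n).X₂ := hI
  haveI : Injective (prodSC S).X₂ := by
    change Injective (∏ᶜ fun n => (S n).X₂)
    infer_instance
  constructor
  · rw [injective_iff_map_eq_zero]
    intro x hx
    obtain ⟨q, hq⟩ := Ext.covariant_sequence_exact₁ A hP x (Ext.eq_zero_of_injective _)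
      (rfl : 0 + 1 = 1)
    have hm : ∀ n, ∃ m : Ext A (S n).X₂ 0, m.comp (Ext.mk₀ (S n).g) (add_zero 0) =
        theta A (fun n => (S n).X₃) 0 q n := by
      intro n
      have h1 := theta_delta A S hS hP 0 q n
      rw [hq] at h1
      have h2 : theta A (fun n => (S n).X₁) (0 + 1) x n = 0 := congrFun hx n
      rw [h2] at h1
      exact Ext.covariant_sequence_exact₃ A (hS n) _ rfl h1.symm
    choose m hm using hm
    obtain ⟨M, hM⟩ := (theta_zero_bijective A (fun n => (S n).X₂)).2 m
    have hMq : M.comp (Ext.mk₀ (prodSC S).g) (add_zero 0) = q := by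
      apply (theta_zero_bijective A (fun n => (S n).X₃)).1
      funext n
      rw [theta_g, hM, hm]
    rw [← hq, ← hMq, Ext.comp_assoc_of_second_deg_zero, hP.comp_extClass, Ext.comp_zero]
  · intro y
    have hq : ∀ n, ∃ q : Ext A (S n).X₃ 0, q.comp (hS n).extClass (rfl : 0 + 1 = 1) = y n :=
      fun n => Ext.covariant_sequence_exact₁ A (hS n) (y n) (Ext.eq_zero_of_injective _) rfl
    choose q hq using hq
    obtain ⟨Q, hQ⟩ := (theta_zero_bijective A (fun n => (S n).X₃)).2 q
    refine ⟨Q.comp hP.extClass rfl, ?_⟩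
    funext n
    rw [theta_delta A S hS hP 0 Q n, hQ, hq]

include hS hP hI in
lemma theta_succ_bijective (i : ℕ)
    (h : Function.Bijective (theta A (fun n => (S n).X₃) (i + 1))) :
    Function.Bijective (theta A (fun n => (S n).X₁) (i + 1 + 1)) := by
  haveI : ∀ n, Injective (S n).X₂ := hI
  haveI : Injective (prodSC S).X₂ := by
    change Injective (∏ᶜ fun n => (S n).X₂)
    infer_instance
  have sub : ∀ (I : 𝒜) [Injective I] (k : ℕ), Subsingleton (Ext A I (k + 1)) := by
    intro I _ k
    exact subsingleton_of_forall_eq 0 (fun x => Ext.eq_zero_of_injective x)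
  constructor
  · rw [injective_iff_map_eq_zero]
    intro x hx
    obtain ⟨q, hq⟩ := δ_surjective_of_subsingleton A hP (sub _ (i + 1)) x
    have hq0 : theta A (fun n => (S n).X₃) (i + 1) q = 0 := by
      funext n
      have h1 := theta_delta A S hS hP (i + 1) q n
      rw [hq] at h1
      have h2 : theta A (fun n => (S n).X₁) (i + 1 + 1) x n = 0 := congrFun hx n
      rw [h2] at h1
      exact δ_injective_of_subsingleton A (hS n) (sub _ i) _ h1.symm
    have : q = 0 := by
      apply h.1
      rw [hq0, map_zero]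
    rw [← hq, this, Ext.zero_comp]
  · intro y
    have hq : ∀ n, ∃ q : Ext A (S n).X₃ (i + 1), q.comp (hS n).extClass rfl = y n :=
      fun n => δ_surjective_of_subsingleton A (hS n) (sub _ (i + 1)) (y n)
    choose q hq using hq
    obtain ⟨Q, hQ⟩ := h.2 q
    refine ⟨Q.comp hP.extClass rfl, ?_⟩
    funext n
    rw [theta_delta A S hS hP (i + 1) Q n, hQ, hq]

end Step

end Groth.Agent.H6.Ml
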