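import Groth.Agent.Lib.Helper6.Ml1
import Groth.Prelude.Def_Formal2

/-! # The Milnor sequence for `Ext` into the limit of a tower -/

set_option autoImplicit false

open CategoryTheory CategoryTheory.Limits Abelian

namespace Groth.Agent.H6.Ml

universe w v u

variable {𝒜 : Type u} [Category.{v} 𝒜] [Abelian 𝒜] [HasExt.{w} 𝒜] (A : 𝒜)
  (F : ℕ → 𝒜) [HasProduct F] (t : ∀ n, F (n + 1) ⟶ F n)

/-- the difference map on the product of a tower -/
noncomputable def dTower : ∏ᶜ F ⟶ ∏ᶜ F :=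
  Limits.Pi.lift (fun n => Limits.Pi.π F n - Limits.Pi.π F (n + 1) ≫ t n)

lemma dTower_π (n : ℕ) :
    dTower F t ≫ Limits.Pi.π F n = Limits.Pi.π F n - Limits.Pi.π F (n + 1) ≫ t n := by
  unfold dTower
  rw [Limits.Pi.lift_π]

/-- the transition maps on `Ext` -/
noncomputable def tExt (i n : ℕ) : Ext A (F (n + 1)) i →+ Ext A (F n) i :=
  (Ext.mk₀ (t n)).postcomp A (add_zero i)

lemma theta_dTower (i : ℕ) (x : Ext A (∏ᶜ F) i) :
    theta A F i (x.comp (Ext.mk₀ (dTower F t)) (add_zero i)) =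
      Formal2.towerDiff (fun n => Ext A (F n) i) (tExt A F t i) (theta A F i x) := by
  funext n
  change _ = theta A F i x n - tExt A F t i n (theta A F i x (n + 1))
  rw [theta_apply, theta_apply, theta_apply, Ext.comp_assoc_of_third_deg_zero, Ext.mk₀_comp_mk₀,
    dTower_π]
  change _ = _ - (x.comp (Ext.mk₀ (Limits.Pi.π F (n + 1))) (add_zero i)).comp (Ext.mk₀ (t n))
    (add_zero i)
  rw [Ext.comp_assoc_of_third_deg_zero, Ext.mk₀_comp_mk₀, eq_sub_iff_add_eq, ← Ext.comp_add,
    ← Ext.mk₀_add, sub_add_cancel]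

section Main

variable {L : 𝒜} (ι : L ⟶ ∏ᶜ F) (w' : ι ≫ dTower F t = 0)
  (hT : (ShortComplex.mk ι (dTower F t) w').ShortExact)

/-- the comparison map from `Ext` into the limit -/
noncomputable def Phi (i : ℕ) : Ext A L i →+ ∀ n, Ext A (F n) i :=
  AddMonoidHom.pi (fun n => (Ext.mk₀ (ι ≫ Limits.Pi.π F n)).postcomp A (add_zero i))

lemma Phi_apply (i : ℕ) (η : Ext A L i) (n : ℕ) :
    Phi A F ι i η n = η.comp (Ext.mk₀ (ι ≫ Limits.Pi.π F n)) (add_zero i) := rfl

lemma Phi_eq (i : ℕ) (η : Ext A L i) :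
    Phi A F ι i η = theta A F i (η.comp (Ext.mk₀ ι) (add_zero i)) := by
  funext n
  rw [Phi_apply, theta_apply, Ext.comp_assoc_of_third_deg_zero, Ext.mk₀_comp_mk₀]

include hT in
/-- compatible families of classes come from the limit -/
theorem exists_of_compatible (i : ℕ) (hθ : Function.Injective (theta A F i))
    (hθs : Function.Surjective (theta A F i))
    (ξ : ∀ n, Ext A (F n) i) (hξ : ∀ n, tExt A F t i n (ξ (n + 1)) = ξ n) :
    ∃ η : Ext A L i, ∀ n, Phi A F ι i η n = ξ n := by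
  obtain ⟨x, hx⟩ := hθs ξ
  have h0 : x.comp (Ext.mk₀ (dTower F t)) (add_zero i) = 0 := by
    apply hθ
    rw [theta_dTower, hx, map_zero]
    funext n
    change ξ n - tExt A F t i n (ξ (n + 1)) = 0
    rw [hξ, sub_self]
  obtain ⟨η, hη⟩ := Ext.covariant_sequence_exact₂ A hT x h0
  refine ⟨η, fun n => ?_⟩
  rw [Phi_eq]
  have : η.comp (Ext.mk₀ ι) (add_zero i) = x := hη
  rw [this, hx]

/-- the connecting map -/
noncomputable def deltaT (i j : ℕ) (hij : j + 1 = i) : Ext A (∏ᶜ F) j →+ Ext A L i :=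
  hT.extClass.postcomp A hij

include hT in
lemma ker_Phi (i j : ℕ) (hij : j + 1 = i) (hθ : Function.Injective (theta A F i)) :
    (Phi A F ι i).ker = (deltaT A F t ι w' hT i j hij).range := by
  ext η
  rw [AddMonoidHom.mem_ker, AddMonoidHom.mem_range]
  constructor
  · intro h
    rw [Phi_eq] at h
    have h1 : η.comp (Ext.mk₀ ι) (add_zero i) = 0 := by
      apply hθ
      rw [h, map_zero]
    obtain ⟨x, hx⟩ := Ext.covariant_sequence_exact₁ A hT η h1 hij
    exact ⟨x, hx⟩
  · rintro ⟨x, rfl⟩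
    rw [Phi_eq]
    change theta A F i ((x.comp hT.extClass hij).comp (Ext.mk₀ ι) (add_zero i)) = 0
    rw [Ext.comp_assoc_of_third_deg_zero]
    have : hT.extClass.comp (Ext.mk₀ ι) (add_zero 1) = 0 := hT.extClass_comp
    rw [this, Ext.comp_zero, map_zero]

include hT in
lemma ker_deltaT (i j : ℕ) (hij : j + 1 = i) :
    (deltaT A F t ι w' hT i j hij).ker =
      ((Ext.mk₀ (dTower F t)).postcomp A (add_zero j)).range := by
  ext x
  rw [AddMonoidHom.mem_ker, AddMonoidHom.mem_range]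
  constructor
  · intro h
    obtain ⟨y, hy⟩ := Ext.covariant_sequence_exact₃ A hT x hij h
    exact ⟨y, hy⟩
  · rintro ⟨y, rfl⟩
    change (y.comp (Ext.mk₀ (dTower F t)) (add_zero j)).comp hT.extClass hij = 0
    rw [Ext.comp_assoc_of_second_deg_zero]
    have : (Ext.mk₀ (dTower F t)).comp hT.extClass (zero_add 1) = 0 := hT.comp_extClass
    rw [this, Ext.comp_zero]

include hT in
/-- the kernel of the comparison map is `lim¹` -/
theorem nonempty_ker_equiv (i j : ℕ) (hij : j + 1 = i) (hθi : Function.Injective (theta A F i))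
    (hθj : Function.Bijective (theta A F j)) :
    Nonempty ((Phi A F ι i).ker ≃+
      Formal2.limOne (fun n => Ext A (F n) j) (tExt A F t j)) := by
  let δ := deltaT A F t ι w' hT i j hij
  let e1 := QuotientAddGroup.quotientKerEquivRange δ
  let e2 : (Phi A F ι i).ker ≃+ δ.range :=
    AddEquiv.addSubgroupCongr (ker_Phi A F t ι w' hT i j hij hθi)
  let θe : Ext A (∏ᶜ F) j ≃+ (∀ n, Ext A (F n) j) := AddEquiv.ofBijective (theta A F j) hθj
  have hmap : AddSubgroup.map (θe : Ext A (∏ᶜ F) j →+ (∀ n, Ext A (F n) j)) δ.ker =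
      (Formal2.towerDiff (fun n => Ext A (F n) j) (tExt A F t j)).range := by
    rw [ker_deltaT A F t ι w' hT i j hij]
    ext y
    constructor
    · rintro ⟨_, ⟨x, rfl⟩, rfl⟩
      refine ⟨theta A F j x, ?_⟩
      exact (theta_dTower A F t j x).symm
    · rintro ⟨z, rfl⟩
      obtain ⟨x, rfl⟩ := hθj.2 z
      refine ⟨x.comp (Ext.mk₀ (dTower F t)) (add_zero j), ⟨x, rfl⟩, ?_⟩
      exact theta_dTower A F t j x
  let e3 := QuotientAddGroup.congr δ.ker
    (Formal2.towerDiff (fun n => Ext A (F n) j) (tExt A F t j)).range θe hmap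
  exact ⟨e2.trans (e1.symm.trans e3)⟩

end Main

end Groth.Agent.H6.Ml
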