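import Groth.Agent.Lib.Helper6.Ml2
import Groth.Agent.Lib.Lead.SC.Basic
import Mathlib.Topology.Sheaves.LocallySurjective
import Mathlib.Topology.Sheaves.Abelian

/-! # `Ext` into a countable product of basis-acyclic abelian sheaves -/

set_option autoImplicit false

open CategoryTheory CategoryTheory.Limits Abelian TopologicalSpace Opposite

namespace Groth.Agent.H6.Ml

open Groth.Agent.LD.SC Groth.Agent.H6.CL

universe u

variable {X : TopCat.{u}}

/-- abelian sheaves on a space -/
abbrev AbX (X : TopCat.{u}) : Type (u + 1) :=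
  Sheaf (Opens.grothendieckTopology X) AddCommGrpCat.{u}

/-- a family of sheaves whose higher cohomology vanishes on the members of `B` -/
def Good (B : Set (Opens X)) (G : ℕ → AbX X) : Prop :=
  ∀ n, ∀ V ∈ B, ∀ i : ℕ, Subsingleton (Ext (ZU (Opens.grothendieckTopology X) V) (G n) (i + 1))

/-- a morphism of sheaves is an epimorphism if sections over members of a basis lift -/
lemma epi_of_lift_on_basis {P Q : AbX X} (φ : P ⟶ Q) (B : Set (Opens X)) (hB : Opens.IsBasis B)
    (h : ∀ V ∈ B, ∀ s : ZU (Opens.grothendieckTopology X) V ⟶ Q,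
      ∃ t : ZU (Opens.grothendieckTopology X) V ⟶ P, t ≫ φ = s) : Epi φ := by
  have key : TopCat.Presheaf.IsLocallySurjective φ.hom := by
    rw [TopCat.Presheaf.isLocallySurjective_iff]
    intro U t x hx
    obtain ⟨V, hVB, hxV, hVU⟩ := Opens.isBasis_iff_nbhd.mp hB hx
    obtain ⟨t', ht'⟩ := h V hVB ((homEquiv V Q).symm (Q.obj.map (homOfLE hVU).op t))
    refine ⟨V, hVU, ⟨homEquiv V P t', ?_⟩, hxV⟩
    have := homEquiv_comp V t' φ
    rw [ht', Equiv.apply_symm_apply] at this
    exact this.symm
  exact (TopCat.Sheaf.isLocallySurjective_iff_epi (X := X)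
    (F := (P : TopCat.Sheaf AddCommGrpCat.{u} X)) (G := (Q : TopCat.Sheaf AddCommGrpCat.{u} X))
    φ).mp key


section GoodFamilies

variable (B : Set (Opens X)) (hB : Opens.IsBasis B)

/-- the family of injective embeddings -/
noncomputable abbrev sesFam (G : ℕ → AbX X) (n : ℕ) : ShortComplex (AbX X) := sesU (G n)

include hB in
lemma epi_prod_g (G : ℕ → AbX X) (hG : Good B G) : Epi (prodSC (𝒜 := AbX X) (sesFam G)).g := by
  apply epi_of_lift_on_basis _ B hB
  intro V hV s
  have ht : ∀ n, ∃ t : ZU (Opens.grothendieckTopology X) V ⟶ (sesFam G n).X₂,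
      t ≫ (sesFam G n).g = s ≫ Limits.Pi.π _ n := by
    intro n
    haveI := hG n V hV 0
    obtain ⟨y, hy⟩ := Ext.covariant_sequence_exact₃ (ZU (Opens.grothendieckTopology X) V)
      (sesU_shortExact (G n)) (Ext.mk₀ (s ≫ Limits.Pi.π _ n)) (rfl : 0 + 1 = 1)
      (Subsingleton.elim _ _)
    obtain ⟨t, rfl⟩ := (Ext.mk₀_bijective _ _).2 y
    refine ⟨t, ?_⟩
    rw [Ext.mk₀_comp_mk₀] at hy
    exact (Ext.mk₀_bijective _ _).1 hy
  choose t ht using ht
  refine ⟨Limits.Pi.lift t, ?_⟩
  apply Limits.Pi.hom_ext
  intro n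
  change (Limits.Pi.lift t ≫ Limits.Pi.map (fun n => (sesFam G n).g)) ≫ Limits.Pi.π _ n = _
  rw [Category.assoc, Limits.Pi.map_π, ← Category.assoc, Limits.Pi.lift_π, ht]

lemma good_X₃ (G : ℕ → AbX X) (hG : Good B G) : Good B (fun n => (sesFam G n).X₃) := by
  intro n V hV i
  haveI : Injective (sesFam G n).X₂ := sesU_injective (G n)
  have h2 : Subsingleton (Ext (ZU (Opens.grothendieckTopology X) V) (sesFam G n).X₂ (i + 1)) :=
    subsingleton_of_forall_eq 0 (fun x => Ext.eq_zero_of_injective x)
  haveI := hG n V hV (i + 1)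
  refine subsingleton_of_forall_eq 0 (fun x => ?_)
  exact δ_injective_of_subsingleton _ (sesU_shortExact (G n)) h2 x (Subsingleton.elim _ _)

include hB in
lemma prod_shortExact (G : ℕ → AbX X) (hG : Good B G) : (prodSC (𝒜 := AbX X) (sesFam G)).ShortExact := by
  haveI : ∀ n, Mono (sesFam G n).f := fun n => (sesU_shortExact (G n)).mono_f
  haveI := epi_prod_g B hB G hG
  exact ShortComplex.ShortExact.mk' (prodSC_exact (𝒜 := AbX X) (sesFam G) (fun n => (sesU_shortExact (G n)).exact))
    inferInstance inferInstance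

include hB in
/-- `Ext` out of any sheaf commutes with countable products of basis-acyclic sheaves -/
theorem theta_bijective_of_good (A : AbX X) (i : ℕ) :
    ∀ (G : ℕ → AbX X), Good B G → Function.Bijective (theta A G (i + 1)) := by
  induction i with
  | zero =>
    intro G hG
    exact theta_one_bijective (𝒜 := AbX X) A (sesFam G) (fun n => sesU_shortExact (G n))
      (prod_shortExact B hB G hG) (fun n => sesU_injective (G n))
  | succ i ih =>
    intro G hG
    exact theta_succ_bijective (𝒜 := AbX X) A (sesFam G) (fun n => sesU_shortExact (G n))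
      (prod_shortExact B hB G hG) (fun n => sesU_injective (G n)) i
      (ih _ (good_X₃ B G hG))

include hB in
theorem theta_bijective_of_good' (A : AbX X) (i : ℕ) (G : ℕ → AbX X) (hG : Good B G) :
    Function.Bijective (theta A G i) := by
  cases i with
  | zero => exact theta_zero_bijective A G
  | succ i => exact theta_bijective_of_good B hB A i G hG

end GoodFamilies

end Groth.Agent.H6.Ml
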