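import Groth.Agent.Lib.Helper6.Ml2

/-! # The Milnor sequence packaged as a short exact sequence -/

set_option autoImplicit false

open CategoryTheory CategoryTheory.Limits Abelian

namespace Groth.Agent.H6.Ml

universe w v u

variable {𝒜 : Type u} [Category.{v} 𝒜] [Abelian 𝒜] [HasExt.{w} 𝒜] (A : 𝒜)
  (F : ℕ → 𝒜) [HasProduct F] (t : ∀ n, F (n + 1) ⟶ F n)
  {L : 𝒜} (ι : L ⟶ ∏ᶜ F) (w' : ι ≫ dTower F t = 0)
  (hT : (ShortComplex.mk ι (dTower F t) w').ShortExact)

include w' in
lemma towerDiff_Phi (i : ℕ) (η : Ext A L i) :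
    Formal2.towerDiff (fun n => Ext A (F n) i) (tExt A F t i) (Phi A F ι i η) = 0 := by
  rw [Phi_eq, ← theta_dTower, Ext.comp_assoc_of_third_deg_zero, Ext.mk₀_comp_mk₀, w',
    Ext.mk₀_zero, Ext.comp_zero, map_zero]

/-- the comparison map with values in the limit -/
noncomputable def PhiLim (i : ℕ) :
    Ext A L i →+ Formal2.limZero (fun n => Ext A (F n) i) (tExt A F t i) :=
  (Phi A F ι i).codRestrict _ (fun η => towerDiff_Phi A F t ι w' i η)

lemma PhiLim_apply (i : ℕ) (η : Ext A L i) (n : ℕ) :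
    (PhiLim A F t ι w' i η : ∀ n, Ext A (F n) i) n =
      η.comp (Ext.mk₀ (ι ≫ Limits.Pi.π F n)) (add_zero i) := rfl

include hT in
theorem milnor_ses (i j : ℕ) (hij : j + 1 = i) (hθi : Function.Bijective (theta A F i))
    (hθj : Function.Bijective (theta A F j)) :
    ∃ (α : Formal2.limOne (fun n => Ext A (F n) j) (tExt A F t j) →+ Ext A L i),
      Function.Injective α ∧ Function.Surjective (PhiLim A F t ι w' i) ∧
        α.range = (PhiLim A F t ι w' i).ker := by
  obtain ⟨e⟩ := nonempty_ker_equiv A F t ι w' hT i j hij hθi.1 hθj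
  refine ⟨((Phi A F ι i).ker.subtype).comp e.symm.toAddMonoidHom, ?_, ?_, ?_⟩
  · intro a b hab
    have h1 : e.symm a = e.symm b := Subtype.ext hab
    exact e.symm.injective h1
  · rintro ⟨ξ, hξ⟩
    have hξ' : ∀ n, tExt A F t i n (ξ (n + 1)) = ξ n := by
      intro n
      have h1 := congrFun hξ n
      change ξ n - tExt A F t i n (ξ (n + 1)) = 0 at h1
      rw [sub_eq_zero] at h1
      exact h1.symm
    obtain ⟨η, hη⟩ := exists_of_compatible A F t ι w' hT i hθi.1 hθi.2 ξ hξ'
    refine ⟨η, ?_⟩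
    apply Subtype.ext
    funext n
    exact hη n
  · ext η
    constructor
    · rintro ⟨a, rfl⟩
      rw [AddMonoidHom.mem_ker]
      apply Subtype.ext
      exact (e.symm a).2
    · intro hη
      rw [AddMonoidHom.mem_ker] at hη
      have h1 : Phi A F ι i η = 0 := congrArg Subtype.val hη
      refine ⟨e ⟨η, h1⟩, ?_⟩
      change ((e.symm (e ⟨η, h1⟩) : (Phi A F ι i).ker) : Ext A L i) = η
      rw [AddEquiv.symm_apply_apply]

end Groth.Agent.H6.Ml
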