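import Groth.Agent.Lib.Helper6.Ml7
import Groth.Agent.Lib.Helper6.Ml4
import Groth.Agent.Lib.Helper2.LimSec3
import Groth.Agent.Lib.Lead.SC.Affine
import Groth.Agent.Lib.Helper3.ModSiteAux

/-! # The Milnor sequence for the limit of a quasi-coherent adic system -/

set_option autoImplicit false

open CategoryTheory CategoryTheory.Limits Abelian TopologicalSpace Opposite AlgebraicGeometry

namespace Groth.Agent.H6.Ml

open Groth.Agent.LD.SC Groth.Agent.H6.CL Groth.Agent.H2.LimSec Groth.Agent.H2.FormalQ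

universe u

variable {A : Type u} [CommRing A] {I : Ideal A} {X : Scheme.{u}}
  [X.Over (Spec (CommRingCat.of A))] (G : ℕᵒᵖ ⥤ X.Modules)

/-- the underlying tower of abelian sheaves -/
noncomputable abbrev FG : ℕᵒᵖ ⥤ AbX X.toTopCat := G ⋙ SheafOfModules.toSheaf X.ringCatSheaf

variable {G}

lemma hsurj_FG (hG : Formal2.IsQCohFormal I G) : ∀ V ∈ X.affineOpens, ∀ n : ℕ,
    Function.Surjective (((FG G).map (homOfLE (Nat.le_succ n)).op).hom.app (op V)).hom := by
  intro V hV n
  haveI : (G.obj (op (n + 1))).IsQuasicoherent := hG.1 (n + 1)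
  have hQ : IsQ (I ^ (n + 1)) (G.map (homOfLE (Nat.le_succ n)).op) := hG.2.2 n
  exact isQ_app_surjective hQ ⟨V, hV⟩

lemma hvan_FG (hG : Formal2.IsQCohFormal I G) :
    Good (X := X.toTopCat) X.affineOpens (Fn (FG G)) := by
  intro n V hV i
  haveI : (G.obj (op n)).IsQuasicoherent := hG.1 n
  exact subsingleton_ext_of_isAffineOpen (G.obj (op n)) i V hV


variable (G)

lemma preservesLimit_toSheaf :
    PreservesLimit G (SheafOfModules.toSheaf X.ringCatSheaf) := by
  have h1 : PreservesLimitsOfSize.{u, u} (SheafOfModules.toSheaf.{u} X.ringCatSheaf) :=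
    Groth.Agent.H3.ModSiteAux.toSheaf_preservesLimitsOfSize X.ringCatSheaf
  have h0 : PreservesLimitsOfSize.{0, 0} (SheafOfModules.toSheaf.{u} X.ringCatSheaf) :=
    @preservesLimitsOfSize_shrink.{0, u, 0, u} _ _ _ _ _ h1
  exact (h0.preservesLimitsOfShape (J := ℕᵒᵖ)).preservesLimit

/-- the comparison of the limit module with the product of the tower -/
noncomputable def ιG : Coh.toAb (limit G) ⟶ ∏ᶜ (Fn (FG G)) :=
  Limits.Pi.lift (fun n => (SheafOfModules.toSheaf X.ringCatSheaf).map (limit.π G (op n)))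

lemma ιG_π (n : ℕ) : ιG G ≫ Limits.Pi.π (Fn (FG G)) n =
    (SheafOfModules.toSheaf X.ringCatSheaf).map (limit.π G (op n)) := by
  unfold ιG
  rw [Limits.Pi.lift_π]

/-- the limit module is the limit of the underlying tower -/
noncomputable def eG : Coh.toAb (limit G) ≅ limit (FG G) :=
  IsLimit.conePointUniqueUpToIso
    ((preservesLimit_toSheaf G).preserves (limit.isLimit G)).some (limit.isLimit (FG G))

lemma eG_hom_π (n : ℕ) : (eG G).hom ≫ limit.π (FG G) (op n) =
    (SheafOfModules.toSheaf X.ringCatSheaf).map (limit.π G (op n)) :=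
  IsLimit.conePointUniqueUpToIso_hom_comp _ _ (op n)

lemma eG_ι : (eG G).hom ≫ ιL (FG G) = ιG G := by
  apply Limits.Pi.hom_ext
  intro n
  rw [Category.assoc, ιL_π, ιG_π]
  exact eG_hom_π G n

lemma ιG_d : ιG G ≫ dTower (Fn (FG G)) (tn (FG G)) = 0 := by
  rw [← eG_ι, Category.assoc, ιL_d, comp_zero]

variable {G}

lemma shortExact_G (hG : Formal2.IsQCohFormal I G) :
    (ShortComplex.mk (ιG G) (dTower (Fn (FG G)) (tn (FG G))) (ιG_d G)).ShortExact := by
  have h := shortExact_tower (FG G) X.affineOpens X.isBasis_affineOpens (hsurj_FG hG)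
  refine ShortComplex.shortExact_of_iso
    (S₁ := ShortComplex.mk (ιL (FG G)) (dTower (Fn (FG G)) (tn (FG G))) (ιL_d (FG G)))
    (S₂ := ShortComplex.mk (ιG G) (dTower (Fn (FG G)) (tn (FG G))) (ιG_d G))
    (ShortComplex.isoMk (eG G).symm (Iso.refl _) (Iso.refl _) ?_ ?_) h
  · change (eG G).inv ≫ ιG G = ιL (FG G) ≫ 𝟙 _
    rw [Category.comp_id, ← eG_ι, Iso.inv_hom_id_assoc]
  · change 𝟙 _ ≫ dTower (Fn (FG G)) (tn (FG G)) = dTower (Fn (FG G)) (tn (FG G)) ≫ 𝟙 _
    rw [Category.comp_id, Category.id_comp]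

theorem s0827 (hG : Formal2.IsQCohFormal I G) (p : ℕ) :
    ∃ (α : Formal2.limOne (fun n => Coh.HH X (G.obj (op n)) p) (Formal2.HHsysMap G p) →+
        Coh.HH X (limit G) (p + 1))
      (β : Coh.HH X (limit G) (p + 1) →+
        Formal2.limZero (fun n => Coh.HH X (G.obj (op n)) (p + 1)) (Formal2.HHsysMap G (p + 1))),
      Function.Injective α ∧ Function.Surjective β ∧ α.range = β.ker ∧
      ∀ (x : Coh.HH X (limit G) (p + 1)) (n : ℕ),
        (β x : ∀ n, Coh.HH X (G.obj (op n)) (p + 1)) n =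
          Sheaf.H.map ((SheafOfModules.toSheaf _).map (limit.π G (op n))) (p + 1) x := by
  let Z : AbX X.toTopCat := (constantSheaf (Opens.grothendieckTopology X) AddCommGrpCat.{u}).obj
    (AddCommGrpCat.of (ULift ℤ))
  have hgood := hvan_FG hG
  have hB : Opens.IsBasis X.affineOpens := X.isBasis_affineOpens
  have hθi := theta_bijective_of_good' (X := X.toTopCat) X.affineOpens hB Z (p + 1) (Fn (FG G)) hgood
  have hθj := theta_bijective_of_good' (X := X.toTopCat) X.affineOpens hB Z p (Fn (FG G)) hgood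
  obtain ⟨α, hα, hβ, hαβ⟩ := milnor_ses Z (Fn (FG G)) (tn (FG G)) (ιG G) (ιG_d G)
    (shortExact_G hG) (p + 1) p rfl hθi hθj
  refine ⟨α, PhiLim Z (Fn (FG G)) (tn (FG G)) (ιG G) (ιG_d G) (p + 1), hα, hβ, hαβ, ?_⟩
  intro x n
  have h1 := PhiLim_apply Z (Fn (FG G)) (tn (FG G)) (ιG G) (ιG_d G) (p + 1) x n
  rw [ιG_π] at h1
  exact h1

end Groth.Agent.H6.Ml
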