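import Mathlib

set_option autoImplicit false
set_option linter.unusedSectionVars false

universe w v u

open CategoryTheory CategoryTheory.Limits

namespace Groth.Agent.H6.MonadHom

variable {C : Type u} [Category.{v} C] [Abelian C]

open Abelian

/-- cycles → X₂ → X₃ -/
noncomputable abbrev scK (M : ShortComplex C) : ShortComplex C :=
  ShortComplex.mk M.iCycles M.g M.iCycles_g

/-- X₁ → cycles → homology -/
noncomputable abbrev scE (M : ShortComplex C) : ShortComplex C :=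
  ShortComplex.mk M.toCycles M.homologyπ M.toCycles_comp_homologyπ

theorem scK_shortExact (M : ShortComplex C) [Epi M.g] : (scK M).ShortExact := by
  have hex : (scK M).Exact := ShortComplex.exact_of_f_is_kernel _ M.cyclesIsKernel
  exact ShortComplex.ShortExact.mk' hex inferInstance inferInstance

theorem scE_shortExact (M : ShortComplex C) [Mono M.f] : (scE M).ShortExact := by
  have hex : (scE M).Exact := ShortComplex.exact_of_g_is_cokernel _ M.homologyIsCokernel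
  have hm : Mono M.toCycles := mono_of_mono_fac M.toCycles_i
  exact ShortComplex.ShortExact.mk' hex hm inferInstance

variable [HasExt.{w} C]

section

variable (M M' : ShortComplex C) [Mono M.f] [Epi M.g] [Mono M'.f] [Epi M'.g]
    (hBA : ∀ f : M.X₂ ⟶ M'.X₁, f = 0) (hCB : ∀ f : M.X₃ ⟶ M'.X₂, f = 0)
    (hCA₁ : Subsingleton (Abelian.Ext M.X₃ M'.X₁ 1)) (hBA₁ : Subsingleton (Abelian.Ext M.X₂ M'.X₁ 1))
    (hCB₁ : Subsingleton (Abelian.Ext M.X₃ M'.X₂ 1)) (hCA₂ : Subsingleton (Abelian.Ext M.X₃ M'.X₁ 2))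

include hBA hCA₁ in
theorem L1 (x : M.cycles ⟶ M'.X₁) : x = 0 := by
  have hS := scK_shortExact M
  obtain ⟨x₂, hx₂⟩ := Ext.contravariant_sequence_exact₁ hS M'.X₁ (Ext.mk₀ x) (n₁ := 1) rfl
    (Subsingleton.elim _ _)
  obtain ⟨b, rfl⟩ := (Ext.mk₀_bijective _ _).2 x₂
  rw [hBA b, Ext.mk₀_zero, Ext.comp_zero] at hx₂
  apply (Ext.mk₀_bijective _ _).1
  rw [← hx₂, Ext.mk₀_zero]

include hBA₁ hCA₂ in
theorem L2 : Subsingleton (Ext M.cycles M'.X₁ 1) := by
  have hS := scK_shortExact M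
  refine ⟨fun x y => ?_⟩
  have key : ∀ z : Ext M.cycles M'.X₁ 1, z = 0 := by
    intro z
    obtain ⟨x₂, hx₂⟩ := Ext.contravariant_sequence_exact₁ hS M'.X₁ z (n₁ := 2) rfl
      (Subsingleton.elim _ _)
    rw [Subsingleton.elim x₂ 0, Ext.comp_zero] at hx₂
    exact hx₂.symm
  rw [key x, key y]

include hBA₁ hCA₂ in
theorem L4 (ε : M.homology ⟶ M'.homology) :
    ∃ κ : M.cycles ⟶ M'.cycles, κ ≫ M'.homologyπ = M.homologyπ ≫ ε := by
  have hS := scE_shortExact M'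
  have := L2 M M' hBA₁ hCA₂
  obtain ⟨x₂, hx₂⟩ := Ext.covariant_sequence_exact₃ M.cycles hS (Ext.mk₀ (M.homologyπ ≫ ε))
    (n₁ := 1) rfl (Subsingleton.elim _ _)
  obtain ⟨κ, rfl⟩ := (Ext.mk₀_bijective _ _).2 x₂
  refine ⟨κ, ?_⟩
  rw [Ext.mk₀_comp_mk₀] at hx₂
  exact (Ext.mk₀_bijective _ _).1 hx₂

include hCB₁ in
theorem L3 (κ : M.cycles ⟶ M'.cycles) :
    ∃ β : M.X₂ ⟶ M'.X₂, M.iCycles ≫ β = κ ≫ M'.iCycles := by
  have hS := scK_shortExact M
  obtain ⟨x₂, hx₂⟩ := Ext.contravariant_sequence_exact₁ hS M'.X₂ (Ext.mk₀ (κ ≫ M'.iCycles))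
    (n₁ := 1) rfl (Subsingleton.elim _ _)
  obtain ⟨β, rfl⟩ := (Ext.mk₀_bijective _ _).2 x₂
  refine ⟨β, ?_⟩
  rw [Ext.mk₀_comp_mk₀] at hx₂
  exact (Ext.mk₀_bijective _ _).1 hx₂

include hBA₁ hCA₂ hCB₁ in
theorem surj (ε : M.homology ⟶ M'.homology) :
    ∃ φ : M ⟶ M', ShortComplex.homologyMap φ = ε := by
  obtain ⟨κ, hκ⟩ := L4 M M' hBA₁ hCA₂ ε
  obtain ⟨β, hβ⟩ := L3 M M' hCB₁ κ
  have hSE := scE_shortExact M'
  have hSK := scK_shortExact M
  have hm : Mono M'.toCycles := hSE.mono_f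
  have h1 : (M.toCycles ≫ κ) ≫ (scE M').g = 0 := by
    change (M.toCycles ≫ κ) ≫ M'.homologyπ = 0
    rw [Category.assoc, hκ, M.toCycles_comp_homologyπ_assoc, zero_comp]
  let α : M.X₁ ⟶ M'.X₁ := hSE.exact.lift (M.toCycles ≫ κ) h1
  have hα : α ≫ M'.toCycles = M.toCycles ≫ κ := hSE.exact.lift_f _ h1
  have h2 : (scK M).f ≫ (β ≫ M'.g) = 0 := by
    change M.iCycles ≫ (β ≫ M'.g) = 0
    rw [← Category.assoc, hβ, Category.assoc, M'.iCycles_g, comp_zero]
  let γ : M.X₃ ⟶ M'.X₃ := hSK.exact.desc (β ≫ M'.g) h2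
  have hγ : M.g ≫ γ = β ≫ M'.g := hSK.exact.g_desc _ h2
  let φ : M ⟶ M' :=
    { τ₁ := α
      τ₂ := β
      τ₃ := γ
      comm₁₂ := by
        rw [← M'.toCycles_i, ← Category.assoc, hα, Category.assoc, ← hβ, M.toCycles_i_assoc]
      comm₂₃ := hγ.symm }
  refine ⟨φ, ?_⟩
  have hc : ShortComplex.cyclesMap φ = κ := by
    rw [← cancel_mono M'.iCycles, ShortComplex.cyclesMap_i]
    exact hβ
  rw [← cancel_epi M.homologyπ, ShortComplex.homologyπ_naturality, hc, hκ]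

include hBA hCB hCA₁ in
theorem inj (ψ : M ⟶ M') (h : ShortComplex.homologyMap ψ = 0) : ψ = 0 := by
  have hSE := scE_shortExact M'
  have hSK := scK_shortExact M
  have hm : Mono M'.toCycles := hSE.mono_f
  have h1 : ShortComplex.cyclesMap ψ ≫ (scE M').g = 0 := by
    change ShortComplex.cyclesMap ψ ≫ M'.homologyπ = 0
    rw [← ShortComplex.homologyπ_naturality, h, comp_zero]
  have hc : ShortComplex.cyclesMap ψ = 0 := by
    have := hSE.exact.lift_f _ h1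
    rw [← this, L1 M M' hBA hCA₁ (hSE.exact.lift _ h1), zero_comp]
  have h2 : (scK M).f ≫ ψ.τ₂ = 0 := by
    change M.iCycles ≫ ψ.τ₂ = 0
    rw [← ShortComplex.cyclesMap_i, hc, zero_comp]
  have h₂ : ψ.τ₂ = 0 := by
    have := hSK.exact.g_desc _ h2
    rw [← this, hCB (hSK.exact.desc _ h2), comp_zero]
  have h₁ : ψ.τ₁ = 0 := by
    rw [← cancel_mono M'.f, ψ.comm₁₂, h₂, comp_zero, zero_comp]
  have h₃ : ψ.τ₃ = 0 := by
    rw [← cancel_epi M.g, ← ψ.comm₂₃, h₂, comp_zero, zero_comp]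
  ext
  · exact h₁
  · exact h₂
  · exact h₃

include hBA hCB hCA₁ hBA₁ hCB₁ hCA₂ in
theorem main : Function.Bijective (fun φ : M ⟶ M' => ShortComplex.homologyMap φ) := by
  constructor
  · intro φ φ' h
    have h' : ShortComplex.homologyMap (φ - φ') = 0 := by
      rw [ShortComplex.homologyMap_sub]
      exact sub_eq_zero.2 h
    exact sub_eq_zero.1 (inj M M' hBA hCB hCA₁ _ h')
  · intro ε
    exact surj M M' hBA₁ hCB₁ hCA₂ ε

end

end Groth.Agent.H6.MonadHom
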