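import Mathlib

/-! UFD part of Murthy's theorem: a nonzero ideal of a Noetherian UFD is isomorphic to an ideal all
of whose primes have height at least two. -/

universe u

namespace Groth.Agent.H6.Murthy

variable {A : Type u} [CommRing A] [IsDomain A] [UniqueFactorizationMonoid A]

theorem two_le_height_of_gcd_eq_one [NormalizedGCDMonoid A] (s : Finset A) (g : A → A)
    (hgcd : s.gcd g = 1) (hne : ∃ b ∈ s, g b ≠ 0)
    (P : Ideal A) [hP : P.IsPrime] (hle : Ideal.span (g '' (s : Set A)) ≤ P) : 2 ≤ P.height := by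
  obtain ⟨b0, hb0, hgb0⟩ := hne
  have hPne : P ≠ ⊥ := by
    intro h
    apply hgb0
    have : g b0 ∈ P := hle (Ideal.subset_span ⟨b0, hb0, rfl⟩)
    rw [h] at this
    exact this
  obtain ⟨π, hπP, hπ⟩ := Ideal.IsPrime.exists_mem_prime_of_ne_bot hP hPne
  haveI hQ : (Ideal.span {π}).IsPrime := by
    rw [Ideal.span_singleton_prime hπ.ne_zero]
    exact hπ
  have hQP : Ideal.span {π} ≤ P := by
    rw [Ideal.span_singleton_le_iff_mem]
    exact hπP
  have hQne : Ideal.span {π} ≠ P := by
    intro h
    have hdvd : ∀ b ∈ s, π ∣ g b := by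
      intro b hb
      have : g b ∈ P := hle (Ideal.subset_span ⟨b, hb, rfl⟩)
      rw [← h] at this
      exact Ideal.mem_span_singleton.mp this
    have := Finset.dvd_gcd hdvd
    rw [hgcd] at this
    exact hπ.not_isUnit (isUnit_of_dvd_one this)
  have hlt : Ideal.span {π} < P := lt_of_le_of_ne hQP hQne
  have hbot : (⊥ : Ideal A) < Ideal.span {π} := by
    rw [bot_lt_iff_ne_bot]
    intro h
    exact hπ.ne_zero (Ideal.span_singleton_eq_bot.mp h)
  haveI : (⊥ : Ideal A).IsPrime := Ideal.isPrime_bot
  have h1 := Ideal.height_add_one_le_of_lt_of_isPrime hbot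
  have h2 := Ideal.height_add_one_le_of_lt_of_isPrime hlt
  calc (2 : ℕ∞) = 0 + 1 + 1 := by norm_num
    _ ≤ (⊥ : Ideal A).height + 1 + 1 := by gcongr; exact zero_le
    _ ≤ (Ideal.span {π}).height + 1 := by gcongr
    _ ≤ P.height := h2

/-- a nonzero finitely generated ideal of a UFD is isomorphic (as a module) to an ideal all of
whose primes have height at least 2 -/
theorem exists_equiv_height_two (J : Ideal A) (hJ : J ≠ ⊥) (hfg : J.FG) :
    ∃ J' : Ideal A, Nonempty (J' ≃ₗ[A] J) ∧
      ∀ (P : Ideal A) [P.IsPrime], J' ≤ P → 2 ≤ P.height := by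
  classical
  letI : StrongNormalizationMonoid A := UniqueFactorizationMonoid.strongNormalizationMonoid
  letI : NormalizedGCDMonoid A := UniqueFactorizationMonoid.toNormalizedGCDMonoid A
  obtain ⟨s, hs⟩ := hfg
  have hsne : s.Nonempty := by
    rw [Finset.nonempty_iff_ne_empty]
    intro h
    apply hJ
    rw [← hs, h]
    simp
  obtain ⟨g, hg, hgcd⟩ := Finset.extract_gcd (id : A → A) hsne
  set a := s.gcd id with ha
  have hex : ∃ b ∈ s, b ≠ 0 := by
    by_contra hcon
    push Not at hcon
    apply hJ
    rw [← hs, Ideal.span_eq_bot]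
    intro x hx
    exact hcon x hx
  obtain ⟨b0, hb0, hb0ne⟩ := hex
  have ha0 : a ≠ 0 := by
    intro h
    apply hb0ne
    have := hg b0 hb0
    rw [h, zero_mul] at this
    exact this
  have hgb0 : g b0 ≠ 0 := by
    intro h
    apply hb0ne
    have := hg b0 hb0
    rw [h, mul_zero] at this
    exact this
  refine ⟨Ideal.span (g '' (s : Set A)), ?_, ?_⟩
  · -- multiplication by `a`
    let μ : A →ₗ[A] A := LinearMap.mulLeft A a
    have hμinj : Function.Injective μ := fun x y h => by
      exact mul_left_cancel₀ ha0 h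
    have hmap : Submodule.map μ (Ideal.span (g '' (s : Set A))) = J := by
      rw [← hs]
      change Submodule.map μ (Submodule.span A (g '' (s : Set A))) = Submodule.span A (s : Set A)
      rw [Submodule.map_span]
      congr 1
      ext x
      constructor
      · rintro ⟨y, ⟨b, hb, rfl⟩, rfl⟩
        have := hg b hb
        simp only [id] at this
        change a * g b ∈ _
        rw [← this]
        exact hb
      · intro hx
        exact ⟨g x, ⟨x, hx, rfl⟩, (hg x hx).symm⟩
    exact ⟨(Submodule.equivMapOfInjective μ hμinj _).trans (LinearEquiv.ofEq _ _ hmap)⟩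
  · intro P _ hle
    exact two_le_height_of_gcd_eq_one s g hgcd ⟨b0, hb0, hgb0⟩ P hle

end Groth.Agent.H6.Murthy
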