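import Mathlib
import Groth.Agent.Lib.Helper6.DepthKit
import Groth.Agent.Lib.Helper6.LCNonvanish
import Groth.Agent.Lib.Helper6.CanGorExt
import Groth.Agent.Lib.Helper6.CanDual

/-! Pieces of Murthy's theorem. -/

universe u
open IsLocalRing

namespace Groth.Agent.H6.Murthy

section Regular

variable (A : Type u) [CommRing A] [IsDomain A] [IsLocalRing A] [IsNoetherianRing A]

/-- a zero-dimensional Noetherian local domain is a regular local ring -/
theorem isRegularLocalRing_of_dim_zero (h : ringKrullDim A = 0) : IsRegularLocalRing A := by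
  haveI : Ring.KrullDimLE 0 A := by
    rw [Ring.krullDimLE_iff, h]
    rfl
  have hmax : (⊥ : Ideal A).IsMaximal := Ideal.IsPrime.isMaximal' (Ideal.isPrime_bot)
  have hm : maximalIdeal A = ⊥ := (IsLocalRing.eq_maximalIdeal hmax).symm
  apply IsRegularLocalRing.of_spanFinrank_maximalIdeal_le
  rw [hm, h]
  simp

end Regular

section Embed

variable {A : Type u} [CommRing A] [IsDomain A] {K : Type u} [AddCommGroup K] [Module A K]
  [Module.Finite A K]

/-- a finitely generated torsion-free module of rank one over a domain is isomorphic to an ideal -/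
theorem exists_equiv_ideal (htf : ∀ (a : A) (x : K), a • x = 0 → a = 0 ∨ x = 0)
    (e₀ : LocalizedModule (⊥ : Ideal A).primeCompl K ≃ₗ[Localization.AtPrime (⊥ : Ideal A)]
      Localization.AtPrime (⊥ : Ideal A)) :
    ∃ J : Ideal A, Nonempty (K ≃ₗ[A] J) := by
  classical
  set S := (⊥ : Ideal A).primeCompl with hS
  set F := Localization.AtPrime (⊥ : Ideal A) with hF
  have hSle : S ≤ nonZeroDivisors A := by
    intro s hs
    rw [mem_nonZeroDivisors_iff_ne_zero]
    intro h0
    exact hs (by rw [h0]; exact Ideal.zero_mem _)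
  haveI : IsDomain F := IsLocalization.isDomain_localization hSle
  have hinjF : Function.Injective (algebraMap A F) := IsLocalization.injective F hSle
  -- the embedding `K → F`
  let ψ : K →ₗ[A] F := (e₀.toLinearMap.restrictScalars A).comp (LocalizedModule.mkLinearMap S K)
  have hψinj : Function.Injective ψ := by
    rw [← LinearMap.ker_eq_bot, Submodule.eq_bot_iff]
    intro x hx
    have h1 : LocalizedModule.mkLinearMap S K x = 0 := by
      apply e₀.injective
      rw [map_zero]
      exact hx
    rw [LocalizedModule.mkLinearMap_apply, ← LocalizedModule.zero_mk 1, LocalizedModule.mk_eq] at h1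
    obtain ⟨c, hcx⟩ := h1
    have hcx' : (c : A) • x = 0 := by
      have := hcx
      simp only [one_smul, smul_zero] at this
      exact this
    rcases htf (c : A) x hcx' with h | h
    · exfalso
      exact c.2 (by rw [h]; exact Ideal.zero_mem _)
    · exact h
  obtain ⟨s, hs⟩ := (Module.Finite.fg_top : (⊤ : Submodule A K).FG)
  obtain ⟨b, hb⟩ := IsLocalization.exist_integer_multiples_of_finset S (s.image ψ)
  have hb0 : (b : A) ≠ 0 := fun h0 => b.2 (by rw [h0]; exact Ideal.zero_mem _)
  let φ : K →ₗ[A] F := (b : A) • ψ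
  have hφinj : Function.Injective φ := by
    intro x y hxy
    apply hψinj
    have : (b : A) • ψ x = (b : A) • ψ y := hxy
    rw [Algebra.smul_def, Algebra.smul_def] at this
    refine mul_left_cancel₀ ?_ this
    rw [Ne, map_eq_zero_iff _ hinjF]
    exact hb0
  have hrange : LinearMap.range φ ≤ LinearMap.range (Algebra.linearMap A F) := by
    rw [LinearMap.range_eq_map, ← hs, Submodule.map_span, Submodule.span_le]
    rintro _ ⟨x, hx, rfl⟩
    obtain ⟨a, ha⟩ := hb (ψ x) (Finset.mem_image_of_mem ψ hx)
    exact ⟨a, ha⟩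
  let ι : A ≃ₗ[A] LinearMap.range (Algebra.linearMap A F) :=
    LinearEquiv.ofInjective (Algebra.linearMap A F) hinjF
  let θ : K →ₗ[A] A := ι.symm.toLinearMap.comp
    (LinearMap.codRestrict (LinearMap.range (Algebra.linearMap A F)) φ
      (fun x => hrange ⟨x, rfl⟩))
  have hθinj : Function.Injective θ := by
    intro x y hxy
    apply hφinj
    have h1 := ι.symm.injective hxy
    exact congrArg Subtype.val h1
  exact ⟨LinearMap.range θ, ⟨LinearEquiv.ofInjective θ hθinj⟩⟩

end Embed

section HeightTwo

variable {A : Type u} [CommRing A] [LocCoh.IsCohenMacaulayLocalRing A]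

/-- in a Cohen–Macaulay local ring of dimension `n`, an ideal all of whose primes have height at
least two and whose local cohomology vanishes below `n` is the unit ideal -/
theorem eq_top_of_height_two (n : ℕ) (hn : ringKrullDim A = n) (J : Ideal A)
    (hht : ∀ (P : Ideal A) [P.IsPrime], J ≤ P → 2 ≤ P.height)
    (hlc : ∀ i < n, Subsingleton (LocCoh.H (maximalIdeal A) i J)) : J = ⊤ := by
  by_contra hJ
  haveI : Nontrivial (A ⧸ J) := Ideal.Quotient.nontrivial_iff.mpr hJ
  haveI : IsLocalRing (A ⧸ J) :=
    IsLocalRing.of_surjective' (Ideal.Quotient.mk J) Ideal.Quotient.mk_surjective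
  obtain ⟨d, hd⟩ := Bass.exists_ringKrullDim_eq (A := A ⧸ J)
  have hfin : J.height ≠ ⊤ := Ideal.height_ne_top hJ
  obtain ⟨g, hg⟩ := ENat.ne_top_iff_exists.mp hfin
  have hcm : LocCoh.IsCohenMacaulayModule A A :=
    LocCoh.IsCohenMacaulayLocalRing.supportDim_eq_depth
  have hsum := CanG.height_add_dim hcm J g d n hg.symm hd hn
  obtain ⟨P, hP, hJP, hPh⟩ := Ideal.exists_isPrime_height_eq hg.symm
  have h2 : (2 : ℕ∞) ≤ g := by
    rw [← hPh]
    exact hht P hJP
  have h2' : 2 ≤ g := by exact_mod_cast h2
  have hdim : Module.supportDim A (A ⧸ J) = d := by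
    rw [Module.supportDim_quotient_eq_ringKrullDim, hd]
  haveI hnt := LC.nontrivial_H_of_supportDim_eq d (A ⧸ J) hdim
  have hsub : Subsingleton (LocCoh.H (maximalIdeal A) d (A ⧸ J)) :=
    Depth.subsingleton_right (J.subtype) (Submodule.mkQ J) (maximalIdeal A) d
      (Submodule.injective_subtype J) (Submodule.mkQ_surjective J)
      (by
        rw [LinearMap.exact_iff]
        simp)
      (Can.lc_vanish_of_cm n hn d (by omega)) (hlc (d + 1) (by omega))
  exact not_subsingleton _ hsub

end HeightTwo

end Groth.Agent.H6.Murthy
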