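import Groth.Agent.Lib.Helper6.MurthyA
import Groth.Agent.Lib.Helper6.MurthyB
import Groth.Agent.Lib.Helper6.CanGQ2
import Groth.Agent.Lib.Helper6.CanLoc3
import Groth.Agent.Lib.Helper6.CanAss
import Groth.Agent.Lib.Helper6.CanInj
import Groth.Agent.Lib.Helper6.CanGor
import Groth.Agent.S0341
import Groth.Agent.S0342

/-! Murthy's theorem: a Cohen–Macaulay UFD which is a quotient of a regular local ring is
Gorenstein. -/

universe u
open IsLocalRing InjHull

namespace Groth.Agent.H6.Murthy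

section TF

variable {A : Type u} [CommRing A] [IsDomain A] [IsNoetherianRing A] [IsLocalRing A]

/-- the canonical module of a local domain is torsion-free -/
theorem can_torsionFree (n : ℕ) (hn : ringKrullDim A = n) (E : Type u) [AddCommGroup E]
    [Module A E] (f : IsLocalRing.ResidueField A →ₗ[A] E) (hf : IsInjectiveHull f)
    (K : Type u) [AddCommGroup K] [Module A K] [Module.Finite A K]
    (eK : (K →ₗ[A] E) ≃ₗ[A] LocCoh.H (IsLocalRing.maximalIdeal A) n A)
    (a : A) (x : K) (hax : a • x = 0) : a = 0 ∨ x = 0 := by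
  by_cases hx : x = 0
  · exact Or.inr hx
  left
  obtain ⟨P, hP, hle⟩ := exists_le_isAssociatedPrime_of_isNoetherianRing (R := A) x hx
  have hass : P ∈ associatedPrimes A K := hP
  rw [CanA.can_ass n hn E f hf K eK] at hass
  obtain ⟨hPprime, hPdim⟩ := hass
  have h1 := Bass.height_add_ringKrullDim_quotient_le (⟨P, hPprime⟩ : PrimeSpectrum A)
  change ringKrullDim (A ⧸ P) + ((P.height : ℕ∞) : WithBot ℕ∞) ≤ _ at h1
  rw [hPdim, hn] at h1
  have h2 : ((n : ℕ∞) : WithBot ℕ∞) + ((P.height : ℕ∞) : WithBot ℕ∞) ≤ ((n : ℕ∞) : WithBot ℕ∞) := h1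
  rw [← WithBot.coe_add, WithBot.coe_le_coe] at h2
  have h3 : P.height ≤ 0 := by
    have h4 : (n : ℕ∞) + P.height ≤ (n : ℕ∞) + 0 := by rw [add_zero]; exact h2
    exact (ENat.add_le_add_iff_left (ENat.coe_ne_top n)).mp h4
  have h5 : P.height = 0 := le_antisymm h3 (zero_le)
  have hPbot : P = ⊥ := Ideal.height_eq_zero_iff_eq_bot.mp h5
  have ha : a ∈ (⊥ : Submodule A K).colon {x} := by
    rw [Submodule.mem_colon_singleton]
    exact hax
  have := hle ha
  rw [hPbot] at this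
  exact this

end TF

theorem main (B : Type u) [CommRing B] [IsRegularLocalRing B] (p : Ideal B) [p.IsPrime]
    [UniqueFactorizationMonoid (B ⧸ p)] [LocCoh.IsCohenMacaulayLocalRing (B ⧸ p)] :
    LocCoh.IsGorensteinLocalRing (B ⧸ p) := by
  haveI : LocCoh.IsGorensteinLocalRing B := Groth.Agent.S0342.result B
  obtain ⟨n, hn⟩ := Bass.exists_ringKrullDim_eq (A := B ⧸ p)
  obtain ⟨E, _, _, f, hf⟩ := IH.exists_injectiveHull (R := B ⧸ p) ((B ⧸ p) ⧸ maximalIdeal (B ⧸ p))
  obtain ⟨K, hKfin, ⟨eK⟩⟩ := CanGQ.exists_canonical (B ⧸ p) n hn E f hf B (Ideal.Quotient.mk p)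
    Ideal.Quotient.mk_surjective
  haveI := hKfin
  have htf := can_torsionFree n hn E f hf K eK
  haveI hKnt : Nontrivial K := Can.can_nontrivial n hn E K eK
  -- localization at the zero ideal
  have hp : Nontrivial (LocalizedModule (⊥ : Ideal (B ⧸ p)).primeCompl K) := by
    obtain ⟨x, hx⟩ := exists_ne (0 : K)
    refine ⟨⟨LocalizedModule.mk x 1, 0, ?_⟩⟩
    intro h1
    rw [← LocalizedModule.zero_mk 1, LocalizedModule.mk_eq] at h1
    obtain ⟨c, hcx⟩ := h1
    have hcx' : (c : B ⧸ p) • x = 0 := by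
      have := hcx
      simp only [one_smul, smul_zero] at this
      exact this
    rcases htf (c : B ⧸ p) x hcx' with h | h
    · exact c.2 (by rw [h]; exact Ideal.zero_mem _)
    · exact hx h
  have hSle : (⊥ : Ideal (B ⧸ p)).primeCompl ≤ nonZeroDivisors (B ⧸ p) := by
    intro s hs
    rw [mem_nonZeroDivisors_iff_ne_zero]
    intro h0
    exact hs (by rw [h0]; exact Ideal.zero_mem _)
  haveI : IsDomain (Localization.AtPrime (⊥ : Ideal (B ⧸ p))) :=
    IsLocalization.isDomain_localization hSle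
  haveI : IsNoetherianRing (Localization.AtPrime (⊥ : Ideal (B ⧸ p))) :=
    IsLocalization.isNoetherianRing (⊥ : Ideal (B ⧸ p)).primeCompl _ inferInstance
  have hh : ringKrullDim (Localization.AtPrime (⊥ : Ideal (B ⧸ p))) = ((0 : ℕ) : WithBot ℕ∞) := by
    rw [IsLocalization.AtPrime.ringKrullDim_eq_height (⊥ : Ideal (B ⧸ p)), Ideal.height_bot]
    rfl
  haveI : IsRegularLocalRing (Localization.AtPrime (⊥ : Ideal (B ⧸ p))) :=
    isRegularLocalRing_of_dim_zero _ (by rw [hh]; rfl)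
  haveI : LocCoh.IsGorensteinLocalRing (Localization.AtPrime (⊥ : Ideal (B ⧸ p))) :=
    Groth.Agent.S0342.result _
  haveI : LocCoh.IsCohenMacaulayLocalRing (Localization.AtPrime (⊥ : Ideal (B ⧸ p))) :=
    Groth.Agent.S0341.result _
  obtain ⟨E', _, _, f', hf'⟩ := IH.exists_injectiveHull
    (R := Localization.AtPrime (⊥ : Ideal (B ⧸ p)))
    (Localization.AtPrime (⊥ : Ideal (B ⧸ p)) ⧸
      maximalIdeal (Localization.AtPrime (⊥ : Ideal (B ⧸ p))))
  obtain ⟨eK'⟩ := CanLoc.can_localization (B ⧸ p) n hn E f hf K eK B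
    (Ideal.Quotient.mk_surjective) (⊥ : Ideal (B ⧸ p)) hp 0 hh E' f' hf'
  obtain ⟨e₀⟩ := (Can.gorenstein_iff_can_equiv_self
    (A := Localization.AtPrime (⊥ : Ideal (B ⧸ p))) 0 hh E'
    (LocalizedModule (⊥ : Ideal (B ⧸ p)).primeCompl K) f' hf' eK').mp inferInstance
  obtain ⟨J, ⟨eJ⟩⟩ := exists_equiv_ideal htf e₀
  have hJne : J ≠ ⊥ := by
    intro h
    obtain ⟨x, hx⟩ := exists_ne (0 : K)
    apply hx
    apply eJ.injective
    rw [map_zero]
    have : (eJ x : B ⧸ p) ∈ (⊥ : Ideal (B ⧸ p)) := h ▸ (eJ x).2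
    exact Subtype.ext this
  obtain ⟨J', ⟨eJ'⟩, hht⟩ := exists_equiv_height_two J hJne (IsNoetherian.noetherian J)
  -- local cohomology of `K`
  obtain ⟨-, -, hcm, hdim⟩ := Can.can_injdim_cm n hn E K f hf eK
  have hdepth : LocCoh.depth (B ⧸ p) K = (n : ℕ∞) := by
    have h := hcm
    unfold LocCoh.IsCohenMacaulayModule at h
    rw [hdim] at h
    have : ((n : ℕ∞) : WithBot ℕ∞) = ((LocCoh.depth (B ⧸ p) K : ℕ∞) : WithBot ℕ∞) := by
      exact_mod_cast h
    exact (WithBot.coe_injective this).symm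
  have hlcK : ∀ i < n, Subsingleton (LocCoh.H (maximalIdeal (B ⧸ p)) i K) :=
    (Depth.le_idealDepth_iff (maximalIdeal (B ⧸ p)) K n).mp (le_of_eq hdepth.symm)
  have hlcJ : ∀ i < n, Subsingleton (LocCoh.H (maximalIdeal (B ⧸ p)) i J') := fun i hi =>
    LC.subsingleton_of_linearEquiv (eJ.trans eJ'.symm) (hlcK i hi)
  have htop : J' = ⊤ := eq_top_of_height_two n hn J' hht hlcJ
  have e : K ≃ₗ[B ⧸ p] (B ⧸ p) :=
    (eJ.trans eJ'.symm).trans ((LinearEquiv.ofEq _ _ htop).trans Submodule.topEquiv)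
  exact (Can.gorenstein_iff_can_equiv_self n hn E K f hf eK).mpr ⟨e⟩

end Groth.Agent.H6.Murthy
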