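import Groth.Agent.Lib.Helper6.MurthyC
import Groth.Agent.Lib.Helper6.CanLoc1
import Groth.Agent.Lib.Helper6.CMKit
import Groth.Agent.Lib.Helper6.ExtCmp

/-! The canonical module `Ext^r_B(A, B)` of a Cohen–Macaulay domain `A = B/p`, `B` regular local, is
`A` or an unmixed height one ideal. -/

universe u
open IsLocalRing InjHull CategoryTheory CategoryTheory.Abelian Opposite TensorProduct

namespace Groth.Agent.H6.Murthy

section Can

variable (A : Type u) [CommRing A] [IsDomain A] [LocCoh.IsCohenMacaulayLocalRing A]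
  (n : ℕ) (hn : ringKrullDim A = n) (E : Type u) [AddCommGroup E] [Module A E]
  (f : IsLocalRing.ResidueField A →ₗ[A] E) (hf : IsInjectiveHull f)
  (K : Type u) [AddCommGroup K] [Module A K] [Module.Finite A K]
  (eK : (K →ₗ[A] E) ≃ₗ[A] LocCoh.H (IsLocalRing.maximalIdeal A) n A)

include hn hf eK in
/-- the canonical module of a Cohen–Macaulay local domain which is a quotient of a Gorenstein
local ring is isomorphic to a nonzero ideal -/
theorem can_equiv_ideal (B : Type u) [CommRing B] [LocCoh.IsGorensteinLocalRing B] [Algebra B A]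
    (hπ : Function.Surjective (algebraMap B A)) :
    ∃ J : Ideal A, J ≠ ⊥ ∧ Nonempty (K ≃ₗ[A] J) := by
  have htf := can_torsionFree n hn E f hf K eK
  haveI hKnt : Nontrivial K := Can.can_nontrivial n hn E K eK
  have hp : Nontrivial (LocalizedModule (⊥ : Ideal A).primeCompl K) := by
    obtain ⟨x, hx⟩ := exists_ne (0 : K)
    refine ⟨⟨LocalizedModule.mk x 1, 0, ?_⟩⟩
    intro h1
    rw [← LocalizedModule.zero_mk 1, LocalizedModule.mk_eq] at h1
    obtain ⟨c, hcx⟩ := h1
    have hcx' : (c : A) • x = 0 := by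
      have := hcx
      simp only [one_smul, smul_zero] at this
      exact this
    rcases htf (c : A) x hcx' with h | h
    · exact c.2 (by rw [h]; exact Ideal.zero_mem _)
    · exact hx h
  have hSle : (⊥ : Ideal A).primeCompl ≤ nonZeroDivisors A := by
    intro s hs
    rw [mem_nonZeroDivisors_iff_ne_zero]
    intro h0
    exact hs (by rw [h0]; exact Ideal.zero_mem _)
  haveI : IsDomain (Localization.AtPrime (⊥ : Ideal A)) :=
    IsLocalization.isDomain_localization hSle
  haveI : IsNoetherianRing (Localization.AtPrime (⊥ : Ideal A)) :=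
    IsLocalization.isNoetherianRing (⊥ : Ideal A).primeCompl _ inferInstance
  have hh : ringKrullDim (Localization.AtPrime (⊥ : Ideal A)) = ((0 : ℕ) : WithBot ℕ∞) := by
    rw [IsLocalization.AtPrime.ringKrullDim_eq_height (⊥ : Ideal A), Ideal.height_bot]
    rfl
  haveI : IsRegularLocalRing (Localization.AtPrime (⊥ : Ideal A)) :=
    isRegularLocalRing_of_dim_zero _ (by rw [hh]; rfl)
  haveI : LocCoh.IsGorensteinLocalRing (Localization.AtPrime (⊥ : Ideal A)) :=
    Groth.Agent.S0342.result _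
  haveI : LocCoh.IsCohenMacaulayLocalRing (Localization.AtPrime (⊥ : Ideal A)) :=
    Groth.Agent.S0341.result _
  obtain ⟨E', _, _, f', hf'⟩ := IH.exists_injectiveHull
    (R := Localization.AtPrime (⊥ : Ideal A))
    (Localization.AtPrime (⊥ : Ideal A) ⧸ maximalIdeal (Localization.AtPrime (⊥ : Ideal A)))
  obtain ⟨eK'⟩ := CanLoc.can_localization A n hn E f hf K eK B hπ (⊥ : Ideal A) hp 0 hh E' f' hf'
  obtain ⟨e₀⟩ := (Can.gorenstein_iff_can_equiv_self
    (A := Localization.AtPrime (⊥ : Ideal A)) 0 hh E'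
    (LocalizedModule (⊥ : Ideal A).primeCompl K) f' hf' eK').mp inferInstance
  obtain ⟨J, ⟨eJ⟩⟩ := exists_equiv_ideal htf e₀
  refine ⟨J, ?_, ⟨eJ⟩⟩
  intro h
  obtain ⟨x, hx⟩ := exists_ne (0 : K)
  apply hx
  apply eJ.injective
  rw [map_zero]
  have : (eJ x : A) ∈ (⊥ : Ideal A) := h ▸ (eJ x).2
  exact Subtype.ext this

omit [IsDomain A] in
include hn hf eK in
/-- vanishing of the local cohomology of the canonical module of a Cohen–Macaulay ring -/
theorem can_lc_vanish : ∀ i < n, Subsingleton (LocCoh.H (maximalIdeal A) i K) := by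
  obtain ⟨-, -, hcm, hdim⟩ := Can.can_injdim_cm n hn E K f hf eK
  have hdepth : LocCoh.depth A K = (n : ℕ∞) := by
    have h := hcm
    unfold LocCoh.IsCohenMacaulayModule at h
    rw [hdim] at h
    have : ((n : ℕ∞) : WithBot ℕ∞) = ((LocCoh.depth A K : ℕ∞) : WithBot ℕ∞) := by
      exact_mod_cast h
    exact (WithBot.coe_injective this).symm
  exact (Depth.le_idealDepth_iff (maximalIdeal A) K n).mp (le_of_eq hdepth.symm)

include hn in
/-- unmixedness of an ideal with maximal depth -/
theorem height_eq_one_of_lc_vanish (J : Ideal A) (hJ0 : J ≠ ⊥)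
    (hlc : ∀ i < n, Subsingleton (LocCoh.H (maximalIdeal A) i J))
    (q : Ideal A) (hq : q ∈ associatedPrimes A (A ⧸ J)) : q.height = 1 := by
  have hqp : q.IsPrime := hq.isPrime
  -- `J ≤ q`
  have hJq : J ≤ q := by
    have h1 := CM.annihilator_le_of_mem_associatedPrimes hq
    rwa [Ideal.annihilator_quotient] at h1
  have hq0 : q ≠ ⊥ := fun h => hJ0 (le_bot_iff.mp (h ▸ hJq))
  have hge : 1 ≤ q.height := by
    rw [Order.one_le_iff_pos, pos_iff_ne_zero, Ne, Ideal.height_eq_zero_iff_eq_bot]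
    exact hq0
  -- depth of the quotient
  have hvan : ∀ i < n - 1, Subsingleton (LocCoh.H (maximalIdeal A) i (A ⧸ J)) := fun i hi =>
    Depth.subsingleton_right (J.subtype) (Submodule.mkQ J) (maximalIdeal A) i
      (Submodule.injective_subtype J) (Submodule.mkQ_surjective J)
      (by
        rw [LinearMap.exact_iff]
        simp)
      (Can.lc_vanish_of_cm n hn i (by omega)) (hlc (i + 1) (by omega))
  have hdepth : ((n - 1 : ℕ) : ℕ∞) ≤ LocCoh.depth A (A ⧸ J) :=
    (Depth.le_idealDepth_iff (maximalIdeal A) (A ⧸ J) (n - 1)).mpr hvan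
  have h2 := CM.depth_le_ringKrullDim_quotient (A ⧸ J) q hq
  have hcm : LocCoh.IsCohenMacaulayModule A A :=
    LocCoh.IsCohenMacaulayLocalRing.supportDim_eq_depth
  obtain ⟨d, hd⟩ := CM.exists_ringKrullDim_quotient_eq q
  have hfin : q.height ≠ ⊤ := Ideal.height_ne_top hqp.ne_top
  obtain ⟨g, hg⟩ := ENat.ne_top_iff_exists.mp hfin
  have hsum := CanG.height_add_dim hcm q g d n hg.symm hd hn
  rw [hd] at h2
  have h3 : ((n - 1 : ℕ) : WithBot ℕ∞) ≤ (d : WithBot ℕ∞) := by
    refine le_trans ?_ h2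
    have : (((n - 1 : ℕ) : ℕ∞) : WithBot ℕ∞) ≤ ((LocCoh.depth A (A ⧸ J) : ℕ∞) : WithBot ℕ∞) :=
      WithBot.coe_le_coe.mpr hdepth
    exact this
  have h4 : n - 1 ≤ d := by exact_mod_cast h3
  have hge' : 1 ≤ g := by
    rw [← hg] at hge
    exact_mod_cast hge
  rw [← hg]
  have : g = 1 := by omega
  rw [this]
  rfl

end Can

end Groth.Agent.H6.Murthy
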