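import Groth.Agent.Lib.Helper6.MurthyD

/-! S17766 -/

universe u
open IsLocalRing InjHull CategoryTheory CategoryTheory.Abelian Opposite TensorProduct

namespace Groth.Agent.H6.Murthy

theorem equiv_tensor_of_smul_eq_zero {B : Type u} [CommRing B] (p : Ideal B) (X : Type u)
    [AddCommGroup X] [Module B X] (h : ∀ s ∈ p, ∀ x : X, s • x = 0) :
    Nonempty (X ≃ₗ[B] (B ⧸ p) ⊗[B] X) := by
  have hbot : (p • ⊤ : Submodule B X) = ⊥ := by
    rw [Submodule.eq_bot_iff]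
    intro x hx
    refine Submodule.smul_induction_on hx (fun s hs y _ => h s hs y) (fun a b ha hb => ?_)
    rw [ha, hb, add_zero]
  exact ⟨((TensorProduct.quotTensorEquivQuotSMul X p).trans
    (Submodule.quotEquivOfEqBot _ hbot)).symm⟩

set_option maxHeartbeats 800000 in
theorem main766 (B : Type u) [CommRing B] [IsRegularLocalRing B] (p : Ideal B) [p.IsPrime]
    [LocCoh.IsCohenMacaulayLocalRing (B ⧸ p)] (r : ℕ) (hr : p.height = r) :
    Nonempty (((Ext B (ModuleCat.{u} B) r).obj (op (ModuleCat.of B (B ⧸ p)))).obj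
      (ModuleCat.of B B) ≃ₗ[B] (B ⧸ p)) ∨
    ∃ I : Ideal (B ⧸ p), I ≠ ⊤ ∧
      (∀ q ∈ associatedPrimes (B ⧸ p) ((B ⧸ p) ⧸ I), q.height = 1) ∧
      Nonempty (((Ext B (ModuleCat.{u} B) r).obj (op (ModuleCat.of B (B ⧸ p)))).obj
        (ModuleCat.of B B) ≃ₗ[B] I) := by
  haveI : LocCoh.IsGorensteinLocalRing B := Groth.Agent.S0342.result B
  haveI hBcm : LocCoh.IsCohenMacaulayLocalRing B := Groth.Agent.S0341.result B
  obtain ⟨n, hn⟩ := Bass.exists_ringKrullDim_eq (A := B ⧸ p)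
  obtain ⟨N, hN⟩ := Bass.exists_ringKrullDim_eq (A := B)
  have hsum : r + n = N := CanG.height_add_dim
    (LocCoh.IsCohenMacaulayLocalRing.supportDim_eq_depth) p r n N hr hn hN
  have hNr : N - n = r := by omega
  subst hNr
  obtain ⟨E, _, _, f, hf⟩ := IH.exists_injectiveHull (R := B ⧸ p) ((B ⧸ p) ⧸ maximalIdeal (B ⧸ p))
  have hπ : Function.Surjective (algebraMap B (B ⧸ p)) := Ideal.Quotient.mk_surjective
  obtain ⟨eK⟩ := CanLoc.can_ext (B ⧸ p) n hn E f hf B hπ N hN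
  haveI : Module.Finite B (B ⧸ p) := Module.Finite.of_surjective (Algebra.linearMap B (B ⧸ p)) hπ
  obtain ⟨J, hJ0, ⟨eJ⟩⟩ := can_equiv_ideal (B ⧸ p) n hn E f hf _ eK B hπ
  have hlcK := can_lc_vanish (B ⧸ p) n hn E f hf _ eK
  have hlcJ : ∀ i < n, Subsingleton (LocCoh.H (maximalIdeal (B ⧸ p)) i J) := fun i hi =>
    LC.subsingleton_of_linearEquiv eJ (hlcK i hi)
  -- the `B`-linear comparison
  have hIX : ∀ s ∈ p, ∀ α : Ext (ModuleCat.of B (B ⧸ p)) (ModuleCat.of B B) (N - n), s • α = 0 :=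
    fun s hs α => Bass.smul_ext_eq_zero (ModuleCat.of B (B ⧸ p)) (ModuleCat.of B B) s (fun x => by
      change s • (x : B ⧸ p) = 0
      rw [Algebra.smul_def]
      have : algebraMap B (B ⧸ p) s = 0 := Ideal.Quotient.eq_zero_iff_mem.mpr hs
      rw [this, zero_mul]) (N - n) α
  obtain ⟨eX⟩ := equiv_tensor_of_smul_eq_zero p _ hIX
  let e1 := (ExtCmp.cmp (N - n) (ModuleCat.of B (B ⧸ p)) (ModuleCat.of B B)).trans
    (eX.trans (eJ.restrictScalars B))
  by_cases hJ : J = ⊤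
  · left
    exact ⟨e1.trans (((LinearEquiv.ofEq _ _ hJ).trans Submodule.topEquiv).restrictScalars B)⟩
  · right
    exact ⟨J, hJ, fun q hq => height_eq_one_of_lc_vanish (B ⧸ p) n hn J hJ0 hlcJ q hq, ⟨e1⟩⟩

end Groth.Agent.H6.Murthy
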