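import Mathlib
import Groth.Agent.Lib.Helper5.Lim.FGSub2
import Groth.Agent.Lib.Helper5.Lim.Model4

set_option autoImplicit false
universe u
open CategoryTheory CategoryTheory.Limits AlgebraicGeometry MorphismProperty Opposite

namespace Groth.Agent.H6.NA

open Groth.Agent.H5.Lim

/-- a morphism from an affine scheme to an affine scheme with finitely generated coordinate ring
factors through all sufficiently large f.g. `ℤ`-subalgebras -/
lemma exists_factor {S S₁ : Scheme.{u}} [IsAffine S] [IsAffine S₁] (g₁ : S ⟶ S₁)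
    (hS₁ : Algebra.FiniteType ℤ Γ(S₁, ⊤)) :
    ∃ i : FGZ Γ(S, ⊤), ∀ j : FGZ Γ(S, ⊤), i ≤ j →
      ∃ a : Spec (CommRingCat.of ↥j.1) ⟶ S₁,
        S.isoSpec.hom ≫ Spec.map (CommRingCat.ofHom (algebraMap (↥j.1) Γ(S, ⊤))) ≫ a = g₁ := by
  let φ : Γ(S₁, ⊤) →ₐ[ℤ] Γ(S, ⊤) := g₁.appTop.hom.toIntAlgHom
  have hfg : φ.range.FG := by
    rw [← Algebra.map_top]
    exact hS₁.out.map φ
  refine ⟨⟨φ.range, hfg⟩, fun j hj => ?_⟩
  let ψ : Γ(S₁, ⊤) →ₐ[ℤ] ↥j.1 := φ.codRestrict j.1 (fun x => hj ⟨x, rfl⟩)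
  refine ⟨Spec.map (CommRingCat.ofHom ψ.toRingHom) ≫ S₁.isoSpec.inv, ?_⟩
  have e1 : CommRingCat.ofHom ψ.toRingHom ≫ CommRingCat.ofHom (algebraMap (↥j.1) Γ(S, ⊤)) =
      g₁.appTop := by
    ext x
    rfl
  rw [← Category.assoc (Spec.map _), ← Spec.map_comp, e1, ← Category.assoc,
    Scheme.isoSpec_hom_naturality, Category.assoc, Iso.hom_inv_id, Category.comp_id]

variable {I : Type u} [SmallCategory I] {D : I ⥤ Scheme.{u}} {c : Cone D}

/-- the model coming from a cartesian square -/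
noncomputable def mkModel {X S X₁ S₁ : Scheme.{u}} (f : X ⟶ S) (e : S ≅ c.pt) (f₁ : X₁ ⟶ S₁)
    (g₁ : S ⟶ S₁) (g₁' : X ⟶ X₁) (h₁ : IsPullback g₁' f f₁ g₁) (i : I) (a : D.obj i ⟶ S₁)
    (ha : e.hom ≫ c.π.app i ≫ a = g₁) [LocallyOfFinitePresentation f₁] [QuasiCompact f₁]
    [QuasiSeparated f₁] : Model D c (f ≫ e.hom) i where
  Y := pullback f₁ a
  p := pullback.snd f₁ a
  g := pullback.lift g₁' (f ≫ e.hom ≫ c.π.app i) (by rw [h₁.w, ← ha]; simp)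
  lfp := inferInstance
  qc := inferInstance
  qs := inferInstance
  pb := by
    refine IsPullback.of_right ?_ (by rw [pullback.lift_snd, Category.assoc])
      (IsPullback.of_hasPullback f₁ a)
    rw [pullback.lift_fst]
    exact IsPullback.of_iso h₁ (Iso.refl _) (Iso.refl _) e (Iso.refl _) (by simp) (by simp)
      (by simp) (by simp [ha])


theorem combine (P Q : MorphismProperty Scheme.{u}) [P.IsStableUnderBaseChange]
    [Q.IsStableUnderBaseChange]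
    {X S : Scheme.{u}} (f : X ⟶ S) [IsAffine X] [IsAffine S]
    {X₁ S₁ X₂ S₂ : Scheme.{u}} [IsAffine X₁] [IsAffine S₁] [IsAffine X₂] [IsAffine S₂]
    (f₁ : X₁ ⟶ S₁) (g₁ : S ⟶ S₁) (g₁' : X ⟶ X₁) (h₁ : IsPullback g₁' f f₁ g₁)
    (f₂ : X₂ ⟶ S₂) (g₂ : S ⟶ S₂) (g₂' : X ⟶ X₂) (h₂ : IsPullback g₂' f f₂ g₂)
    (hS₁ : Algebra.FiniteType ℤ Γ(S₁, ⊤)) (hS₂ : Algebra.FiniteType ℤ Γ(S₂, ⊤))
    [LocallyOfFiniteType f₁] [LocallyOfFiniteType f₂] (hP : P f₁) (hQ : Q f₂) :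
    ∃ (X₀ S₀ : Scheme.{u}) (f₀ : X₀ ⟶ S₀) (g : S ⟶ S₀) (g' : X ⟶ X₀), IsAffine X₀ ∧ IsAffine S₀ ∧
      IsPullback g' f f₀ g ∧
      Algebra.FiniteType ℤ Γ(S₀, ⊤) ∧ LocallyOfFiniteType f₀ ∧ P f₀ ∧ Q f₀ := by
  have hN₁ : IsNoetherianRing Γ(S₁, ⊤) := Algebra.FiniteType.isNoetherianRing ℤ _
  have hN₂ : IsNoetherianRing Γ(S₂, ⊤) := Algebra.FiniteType.isNoetherianRing ℤ _
  have hL₁ : IsLocallyNoetherian S₁ := isLocallyNoetherian_of_isOpenImmersion S₁.isoSpec.hom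
  have hL₂ : IsLocallyNoetherian S₂ := isLocallyNoetherian_of_isOpenImmersion S₂.isoSpec.hom
  have hfp₁ : LocallyOfFinitePresentation f₁ :=
    LocallyOfFinitePresentation.iff_locallyOfFiniteType.mpr inferInstance
  have hfp₂ : LocallyOfFinitePresentation f₂ :=
    LocallyOfFinitePresentation.iff_locallyOfFiniteType.mpr inferInstance
  let D := fgzDiagram Γ(S, ⊤)
  let c := fgzCone Γ(S, ⊤)
  have hc : IsLimit c := isLimitFgzCone Γ(S, ⊤)
  let e : S ≅ c.pt := S.isoSpec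
  obtain ⟨i₁, hi₁⟩ := exists_factor g₁ hS₁
  obtain ⟨i₂, hi₂⟩ := exists_factor g₂ hS₂
  let i₀ : FGZ Γ(S, ⊤) := ⟨i₁.1 ⊔ i₂.1, i₁.2.sup i₂.2⟩
  have h10 : i₁ ≤ i₀ := le_sup_left (a := i₁.1)
  have h20 : i₂ ≤ i₀ := le_sup_right (b := i₂.1)
  obtain ⟨a₁, ha₁⟩ := hi₁ i₀ h10
  obtain ⟨a₂, ha₂⟩ := hi₂ i₀ h20
  let M₁ : Model D c (f ≫ e.hom) (op i₀) := mkModel f e f₁ g₁ g₁' h₁ (op i₀) a₁ ha₁
  let M₂ : Model D c (f ≫ e.hom) (op i₀) := mkModel f e f₂ g₂ g₂' h₂ (op i₀) a₂ ha₂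
  have ht : 𝟙 X ≫ (f ≫ e.hom) = f ≫ e.hom := Category.id_comp _
  obtain ⟨j, φ, ⟨F⟩⟩ := Model.exists_hom hc M₁ M₂ (𝟙 X) ht
  have hcp : CompactSpace (M₂.bc φ).Y := (M₂.bc φ).compactSpace_Y
  obtain ⟨k, hk⟩ := exists_descend_core D c hc affineSystemDescent_isomorphisms j F.α (M₂.bc φ).p
    ⟨F.lfp_α, F.qc_α, F.qs_α⟩
    (descend_in (P := isomorphisms Scheme.{u}) D c F.α (M₂.bc φ).p (M₂.bc φ).pb (F.isPullback ht)
      (by change IsIso (𝟙 X); infer_instance))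
  let N₁ := (M₁.bc φ).bc k.hom
  let N₂ := (M₂.bc φ).bc k.hom
  let G : Model.Hom N₁ N₂ (𝟙 X) := F.bc k.hom ht
  have hG : IsIso G.α := by
    have e' := (F.isPullback_bc k.hom ht).isoPullback_hom_snd
    have : IsIso (pullback.snd F.α (pullback.fst (M₂.bc φ).p (D.map k.hom))) := hk
    change _ ≫ pullback.snd F.α (pullback.fst (M₂.bc φ).p (D.map k.hom)) = G.α at e'
    rw [← e']
    infer_instance
  have hPN : P N₁.p := P.pullback_snd _ _ (P.pullback_snd _ _ (P.pullback_snd _ _ hP))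
  have hQN₂ : Q N₂.p := Q.pullback_snd _ _ (Q.pullback_snd _ _ (Q.pullback_snd _ _ hQ))
  have hQN : Q N₁.p := by
    rw [← G.w_p]
    exact (Q.cancel_left_of_respectsIso G.α N₂.p).mpr hQN₂
  have hft : LocallyOfFiniteType N₁.p := by
    change LocallyOfFiniteType (pullback.snd (pullback.snd (pullback.snd f₁ a₁) (D.map φ))
      (D.map k.hom))
    infer_instance
  have haff : IsAffineHom N₁.p :=
    MorphismProperty.pullback_snd (P := @IsAffineHom) _ _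
      (MorphismProperty.pullback_snd (P := @IsAffineHom) _ _
        (MorphismProperty.pullback_snd (P := @IsAffineHom) _ _ (isAffineHom_of_isAffine f₁)))
  have hS₀ : IsAffine (D.obj k.left) := by
    change IsAffine (Spec _)
    infer_instance
  refine ⟨N₁.Y, D.obj k.left, N₁.p, e.hom ≫ c.π.app k.left, N₁.g, ?_, hS₀, ?_, ?_, hft, hPN, hQN⟩
  · exact isAffine_of_isAffineHom N₁.p
  · exact IsPullback.of_iso N₁.pb (Iso.refl _) (Iso.refl _) e.symm (Iso.refl _) (by simp)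
      (by simp) (by simp) (by simp)
  · change Algebra.FiniteType ℤ Γ(Spec (CommRingCat.of ↥k.left.unop.1), ⊤)
    have hfg : Algebra.FiniteType ℤ ↥k.left.unop.1 := ⟨(Subalgebra.fg_top _).mpr k.left.unop.2⟩
    exact Algebra.FiniteType.equiv hfg
      (Scheme.ΓSpecIso (CommRingCat.of ↥k.left.unop.1)).symm.commRingCatIsoToRingEquiv.toIntAlgEquiv

end Groth.Agent.H6.NA
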