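import Mathlib

namespace Groth.Agent.H6.NFlat

open RingTheory.Sequence Submodule Pointwise

section General
variable {R : Type*} [CommRing R]

theorem isWeaklyRegular_of_subsingleton (M : Type*) [AddCommGroup M] [Module R M] [Subsingleton M]
    (fs : List R) : IsWeaklyRegular M fs := by
  refine ⟨fun i hi => ?_⟩
  haveI : Subsingleton (M ⧸ (Ideal.ofList (fs.take i) • ⊤ : Submodule R M)) :=
    (Submodule.mkQ_surjective _).subsingleton
  intro a b _
  exact Subsingleton.elim a b

/-- weakly regular on sub and quotient ⇒ on the middle (exact-sequence form). -/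
theorem isWeaklyRegular_of_exact (fs : List R) :
    ∀ {N M P : Type*} [AddCommGroup N] [Module R N] [AddCommGroup M] [Module R M]
    [AddCommGroup P] [Module R P]
    (i : N →ₗ[R] M) (p : M →ₗ[R] P) (_ : Function.Injective i) (_ : Function.Surjective p)
    (_ : Function.Exact i p) (_ : IsWeaklyRegular N fs) (_ : IsWeaklyRegular P fs),
    IsWeaklyRegular M fs := by
  induction fs with
  | nil => intro N M P _ _ _ _ _ _ i p _ _ _ _ _; exact IsWeaklyRegular.nil R M
  | cons f fs ih =>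
    intro N M P _ _ _ _ _ _ i p hi hp hip hN hP
    rw [isWeaklyRegular_cons_iff] at hN hP ⊢
    refine ⟨isSMulRegular_of_range_eq_ker hi hip.linearMap_ker_eq.symm hN.1 hP.1, ?_⟩
    refine ih (QuotSMulTop.map f i) (QuotSMulTop.map f p) ?_ (QuotSMulTop.map_surjective f hp)
      (QuotSMulTop.map_exact f hip hp) hN.2 hP.2
    rw [injective_iff_map_eq_zero]
    intro x hx
    obtain ⟨x, rfl⟩ := Submodule.Quotient.mk_surjective _ x
    rw [QuotSMulTop.map_apply_mk, Submodule.Quotient.mk_eq_zero] at hx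
    obtain ⟨m, -, hm⟩ := (Submodule.mem_smul_pointwise_iff_exists _ _ _).mp hx
    have h1 : f • p m = 0 := by
      rw [← map_smul, hm]; exact hip.apply_apply_eq_zero x
    have h2 : p m = 0 := hP.1.right_eq_zero_of_smul h1
    obtain ⟨n, rfl⟩ := (hip m).mp h2
    have h3 : x = f • n := hi (by rw [map_smul]; exact hm.symm)
    rw [Submodule.Quotient.mk_eq_zero, h3]
    exact Submodule.smul_mem_pointwise_smul n f ⊤ trivial

theorem quotSwap (f : R) (I : Ideal R) (M : Type*) [AddCommGroup M] [Module R M] :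
    Nonempty (QuotSMulTop f (M ⧸ (I • (⊤ : Submodule R M))) ≃ₗ[R]
      (QuotSMulTop f M) ⧸ (I • (⊤ : Submodule R (QuotSMulTop f M)))) := by
  set S : Submodule R M := I • ⊤ with hS
  set T : Submodule R M := f • ⊤ with hT
  have h1 : (f • (⊤ : Submodule R (M ⧸ S))) = T.map S.mkQ := by
    rw [hT, Submodule.map_pointwise_smul, Submodule.map_top,
      LinearMap.range_eq_top.mpr (mkQ_surjective S)]
  have h2 : (I • (⊤ : Submodule R (M ⧸ T))) = S.map T.mkQ := by
    rw [hS, Submodule.map_smul'', Submodule.map_top,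
      LinearMap.range_eq_top.mpr (mkQ_surjective T)]
  exact ⟨Submodule.quotEquivOfEq _ _ h1 ≪≫ₗ quotientQuotientEquivQuotientSup S T ≪≫ₗ
    Submodule.quotEquivOfEq _ _ (sup_comm S T) ≪≫ₗ (quotientQuotientEquivQuotientSup T S).symm ≪≫ₗ
    (Submodule.quotEquivOfEq _ _ h2).symm⟩

theorem isWeaklyRegular_of_forall_quotient_pow [IsNoetherianRing R] (J : Ideal R)
    (hJ : J ≤ Ideal.jacobson ⊥) (fs : List R) :
    ∀ {M : Type*} [AddCommGroup M] [Module R M] [Module.Finite R M]
    (_ : ∀ m : ℕ, IsWeaklyRegular (M ⧸ (J ^ m • (⊤ : Submodule R M))) fs),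
    IsWeaklyRegular M fs := by
  induction fs with
  | nil => intro M _ _ _ _; exact IsWeaklyRegular.nil R M
  | cons f fs ih =>
    intro M _ _ _ h
    rw [isWeaklyRegular_cons_iff]
    constructor
    · refine IsSMulRegular.of_right_eq_zero_of_smul ?_
      intro x hx
      have hmem : x ∈ (⨅ i : ℕ, J ^ i • ⊤ : Submodule R M) := by
        rw [Submodule.mem_iInf]
        intro m
        have h1 := ((isWeaklyRegular_cons_iff _ f fs).mp (h m)).1
        have h2 : f • (Submodule.Quotient.mk x : M ⧸ (J ^ m • (⊤ : Submodule R M))) = 0 := by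
          rw [← Submodule.Quotient.mk_smul, hx, Submodule.Quotient.mk_zero]
        have h3 := h1.right_eq_zero_of_smul h2
        exact (Submodule.Quotient.mk_eq_zero _).mp h3
      rw [Ideal.iInf_pow_smul_eq_bot_of_le_jacobson J hJ] at hmem
      exact (Submodule.mem_bot R).mp hmem
    · refine ih (M := QuotSMulTop f M) ?_
      intro m
      have h2 := ((isWeaklyRegular_cons_iff _ f fs).mp (h m)).2
      obtain ⟨e⟩ := quotSwap f (J ^ m) M
      exact (LinearEquiv.isWeaklyRegular_congr e fs).mp h2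

theorem isWeaklyRegular_of_flat_quotient {A : Type*} [CommRing A] (J : Ideal A) (G : Type*)
    [AddCommGroup G] [Module A G] [Module (A ⧸ J) G] [IsScalarTower A (A ⧸ J) G]
    [Module.Flat (A ⧸ J) G] (fs : List A) (hreg : IsWeaklyRegular (A ⧸ J) fs) :
    IsWeaklyRegular G fs := by
  have h1 : IsWeaklyRegular (A ⧸ J) (fs.map (algebraMap A (A ⧸ J))) :=
    (isWeaklyRegular_map_algebraMap_iff (A ⧸ J) (A ⧸ J) fs).mpr hreg
  have h2 := h1.isWeaklyRegular_rTensor (M₂ := G)
  have h3 := (LinearEquiv.isWeaklyRegular_congr (TensorProduct.lid (A ⧸ J) G) _).mp h2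
  exact (isWeaklyRegular_map_algebraMap_iff (A ⧸ J) G fs).mp h3

end General

section Main
variable {A : Type*} [CommRing A] (J : Ideal A)

theorem pow_aux (k m : ℕ) : J ^ (m + 1) * J ^ k = J * J ^ (k + m) := by
  rw [← pow_add, ← pow_succ']; congr 1; omega

/-- the map `G_{k+m} → J^k / J^{m+1} J^k` -/
noncomputable def grIncl (k m : ℕ) :
    (↥(J ^ (k + m)) ⧸ (J • (⊤ : Submodule A ↥(J ^ (k + m))))) →ₗ[A]
      (↥(J ^ k) ⧸ (J ^ (m + 1) • (⊤ : Submodule A ↥(J ^ k)))) :=
  Submodule.mapQ _ _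
    (Submodule.inclusion (Ideal.pow_le_pow_right (Nat.le_add_right k m))) (by
    intro x hx
    rw [Submodule.mem_comap, Submodule.mem_smul_top_iff]
    rw [Submodule.mem_smul_top_iff] at hx
    simp only [Submodule.coe_inclusion, smul_eq_mul] at hx ⊢
    rw [pow_aux]; exact hx)

theorem grIncl_mk (k m : ℕ) (x : ↥(J ^ (k + m))) :
    grIncl J k m (Submodule.Quotient.mk x) = Submodule.Quotient.mk
      (Submodule.inclusion (Ideal.pow_le_pow_right (Nat.le_add_right k m)) x) := rfl

theorem grIncl_injective (k m : ℕ) : Function.Injective (grIncl J k m) := by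
  rw [injective_iff_map_eq_zero]
  intro x hx
  obtain ⟨x, rfl⟩ := Submodule.Quotient.mk_surjective _ x
  rw [grIncl_mk, Submodule.Quotient.mk_eq_zero, Submodule.mem_smul_top_iff] at hx
  rw [Submodule.Quotient.mk_eq_zero, Submodule.mem_smul_top_iff]
  simp only [Submodule.coe_inclusion, smul_eq_mul] at hx ⊢
  rwa [pow_aux] at hx

theorem pow_smul_le (k m : ℕ) : (J ^ (m + 1) • (⊤ : Submodule A ↥(J ^ k))) ≤ J ^ m • ⊤ :=
  Submodule.smul_mono_left (Ideal.pow_le_pow_right (Nat.le_succ m))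

theorem grIncl_exact (k m : ℕ) :
    Function.Exact (grIncl J k m) (Submodule.factor (pow_smul_le J k m)) := by
  intro y
  constructor
  · intro hy
    obtain ⟨x, rfl⟩ := Submodule.Quotient.mk_surjective _ y
    rw [← Submodule.mkQ_apply, Submodule.factor_mk, Submodule.mkQ_apply,
      Submodule.Quotient.mk_eq_zero, Submodule.mem_smul_top_iff] at hy
    have hx : (x : A) ∈ J ^ (k + m) := by
      rwa [Ideal.smul_eq_mul, ← pow_add, add_comm] at hy
    refine ⟨Submodule.Quotient.mk ⟨x, hx⟩, ?_⟩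
    rw [grIncl_mk]
    rfl
  · rintro ⟨z, rfl⟩
    obtain ⟨z, rfl⟩ := Submodule.Quotient.mk_surjective _ z
    rw [grIncl_mk, ← Submodule.mkQ_apply, Submodule.factor_mk, Submodule.mkQ_apply,
      Submodule.Quotient.mk_eq_zero, Submodule.mem_smul_top_iff]
    simp only [Submodule.coe_inclusion, smul_eq_mul]
    rw [← pow_add, add_comm]; exact z.2

theorem isWeaklyRegular_graded
    (hflat : ∀ k : ℕ, Module.Flat (A ⧸ J) (↥(J ^ k) ⧸ (J • (⊤ : Submodule A ↥(J ^ k)))))
    (fs : List A) (hreg : IsWeaklyRegular (A ⧸ J) fs) (k : ℕ) :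
    IsWeaklyRegular (↥(J ^ k) ⧸ (J • (⊤ : Submodule A ↥(J ^ k)))) fs := by
  haveI := hflat k
  exact isWeaklyRegular_of_flat_quotient J _ fs hreg

theorem isWeaklyRegular_quot_pow
    (hflat : ∀ k : ℕ, Module.Flat (A ⧸ J) (↥(J ^ k) ⧸ (J • (⊤ : Submodule A ↥(J ^ k)))))
    (fs : List A) (hreg : IsWeaklyRegular (A ⧸ J) fs) (k m : ℕ) :
    IsWeaklyRegular (↥(J ^ k) ⧸ (J ^ m • (⊤ : Submodule A ↥(J ^ k)))) fs := by
  induction m with
  | zero =>
    haveI : Subsingleton (↥(J ^ k) ⧸ (J ^ 0 • (⊤ : Submodule A ↥(J ^ k)))) := by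
      rw [Submodule.Quotient.subsingleton_iff, pow_zero, Ideal.one_eq_top,
        Submodule.top_smul]
    exact isWeaklyRegular_of_subsingleton _ fs
  | succ m ih =>
    exact isWeaklyRegular_of_exact fs (grIncl J k m) (Submodule.factor (pow_smul_le J k m))
      (grIncl_injective J k m) (Submodule.factor_surjective _) (grIncl_exact J k m)
      (isWeaklyRegular_graded J hflat fs hreg (k + m)) ih

theorem main [IsLocalRing A] [IsNoetherianRing A] (hJ : J ≠ ⊤)
    (hflat : ∀ k : ℕ, Module.Flat (A ⧸ J) (↥(J ^ k) ⧸ (J • (⊤ : Submodule A ↥(J ^ k)))))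
    (fs : List A) (hreg : IsWeaklyRegular (A ⧸ J) fs) (k : ℕ) :
    IsWeaklyRegular (↥(J ^ k)) fs ∧
      IsWeaklyRegular (↥(J ^ k) ⧸ (J • (⊤ : Submodule A ↥(J ^ k)))) fs := by
  refine ⟨?_, isWeaklyRegular_graded J hflat fs hreg k⟩
  refine isWeaklyRegular_of_forall_quotient_pow J ?_ fs
    (fun m => isWeaklyRegular_quot_pow J hflat fs hreg k m)
  exact (IsLocalRing.le_maximalIdeal hJ).trans (IsLocalRing.maximalIdeal_le_jacobson _)

end Main

end Groth.Agent.H6.NFlat
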