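import Mathlib
import Groth.Agent.Lib.Helper6.Nagata

/-! Unique factorization lifts from the homogeneous localization at a prime element of degree
one. -/

universe u v
set_option linter.unusedSectionVars false
open Polynomial

namespace Groth.Agent.H6

namespace Nagata

section Homog

variable {K : Type u} [Field K] {R : Type v} [CommRing R] [IsDomain R] [Algebra K R]
  (𝒜 : ℕ → Submodule K R) [GradedAlgebra 𝒜] {s : R} (hs : s ∈ 𝒜 1)

/-- the map `R_(s)[X] → R[1/s]`, `X ↦ s` -/
noncomputable def psi : (HomogeneousLocalization.Away 𝒜 s)[X] →+* Localization.Away s :=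
  Polynomial.eval₂RingHom (algebraMap (HomogeneousLocalization.Away 𝒜 s) (Localization.Away s))
    (algebraMap R (Localization.Away s) s)

theorem psi_C (a : HomogeneousLocalization.Away 𝒜 s) : psi 𝒜 (C a) = a.val := by
  rw [psi, coe_eval₂RingHom, eval₂_C, HomogeneousLocalization.algebraMap_apply]

theorem psi_X : psi 𝒜 (X : (HomogeneousLocalization.Away 𝒜 s)[X]) =
    algebraMap R (Localization.Away s) s := by
  rw [psi, coe_eval₂RingHom, eval₂_X]

include hs in
/-- homogeneous elements are in the range -/
theorem algebraMap_mem_range_of_mem {i : ℕ} {r : R} (hr : r ∈ 𝒜 i) :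
    algebraMap R (Localization.Away s) r ∈ (psi 𝒜 (s := s)).range := by
  have hr' : r ∈ 𝒜 (i • 1) := by rwa [smul_eq_mul, mul_one]
  refine ⟨C (HomogeneousLocalization.Away.mk 𝒜 hs i r hr') * X ^ i, ?_⟩
  rw [map_mul, map_pow, psi_C, psi_X, HomogeneousLocalization.Away.val_mk, ← map_pow,
    ← Localization.mk_one_eq_algebraMap, ← Localization.mk_one_eq_algebraMap, Localization.mk_mul,
    Localization.mk_eq_mk_iff, Localization.r_iff_exists]
  exact ⟨1, by simp [mul_comm]⟩

include hs in
theorem algebraMap_mem_range (r : R) :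
    algebraMap R (Localization.Away s) r ∈ (psi 𝒜 (s := s)).range := by
  classical
  rw [← DirectSum.sum_support_decompose 𝒜 r, map_sum]
  exact Subring.sum_mem _ fun i _ => algebraMap_mem_range_of_mem 𝒜 hs (DirectSum.decompose 𝒜 r i).2

end Homog


section Inj

variable {K : Type u} [Field K] {R : Type v} [CommRing R] [IsDomain R] [Algebra K R]
  (𝒜 : ℕ → Submodule K R) [GradedAlgebra 𝒜] {s : R} (hs : s ∈ 𝒜 1)

include hs in
theorem psi_injective (hs0 : s ≠ 0) : Function.Injective (psi 𝒜 (s := s)) := by
  classical
  have hinj : Function.Injective (algebraMap R (Localization.Away s)) :=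
    IsLocalization.injective _ (powers_le_nonZeroDivisors_of_noZeroDivisors hs0)
  rw [injective_iff_map_eq_zero]
  intro p hp
  choose n x hx hmk using fun j => HomogeneousLocalization.Away.mk_surjective 𝒜 hs (p.coeff j)
  set N := p.support.sup n with hN
  have hnN : ∀ j ∈ p.support, n j ≤ N := fun j hj => Finset.le_sup hj
  let y : ℕ → R := fun j => x j * s ^ (N - n j + j)
  have hy : ∀ j ∈ p.support, y j ∈ 𝒜 (N + j) := by
    intro j hj
    have h1 : x j ∈ 𝒜 (n j) := by simpa using hx j
    have h2 : s ^ (N - n j + j) ∈ 𝒜 ((N - n j + j) • 1) := SetLike.pow_mem_graded _ hs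
    have h3 := SetLike.GradedMul.mul_mem h1 h2
    have h4 : n j + (N - n j + j) • 1 = N + j := by
      have := hnN j hj
      simp only [smul_eq_mul, mul_one]
      omega
    rw [h4] at h3
    exact h3
  have hterm : ∀ j ∈ p.support, algebraMap R (Localization.Away s) (y j) =
      (p.coeff j).val * algebraMap R (Localization.Away s) s ^ j *
        algebraMap R (Localization.Away s) s ^ N := by
    intro j hj
    have h1 : (p.coeff j).val = Localization.mk (x j) (⟨s ^ n j, n j, rfl⟩ : Submonoid.powers s) := by
      rw [← hmk j, HomogeneousLocalization.Away.val_mk]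
    have h2 : Localization.mk (x j) (⟨s ^ n j, n j, rfl⟩ : Submonoid.powers s) *
        algebraMap R (Localization.Away s) (s ^ n j) = algebraMap R (Localization.Away s) (x j) := by
      rw [Localization.mk_eq_mk']
      exact IsLocalization.mk'_spec _ _ _
    rw [h1, mul_assoc, ← pow_add, ← map_pow]
    have h3 : s ^ (j + N) = s ^ n j * s ^ (N - n j + j) := by
      rw [← pow_add]
      congr 1
      have := hnN j hj
      omega
    rw [h3, map_mul (algebraMap R (Localization.Away s)) (s ^ n j), ← mul_assoc, h2, ← map_mul]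
  have hsum : ∑ j ∈ p.support, y j = 0 := by
    apply hinj
    rw [map_sum, map_zero, Finset.sum_congr rfl hterm, ← Finset.sum_mul]
    have h1 : ∑ j ∈ p.support, (p.coeff j).val * algebraMap R (Localization.Away s) s ^ j =
        psi 𝒜 p := by
      rw [psi, coe_eval₂RingHom, eval₂_eq_sum, Polynomial.sum]
      refine Finset.sum_congr rfl fun j _ => ?_
      rw [HomogeneousLocalization.algebraMap_apply]
    rw [h1, hp, zero_mul]
  have hy0 : ∀ j₀ ∈ p.support, y j₀ = 0 := by
    intro j₀ hj₀
    have h := congrArg (fun z => ((DirectSum.decompose 𝒜 z (N + j₀) : 𝒜 (N + j₀)) : R)) hsum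
    simp only [DirectSum.decompose_sum, DirectSum.decompose_zero, DirectSum.zero_apply,
      ZeroMemClass.coe_zero] at h
    rw [DFinsupp.finsetSum_apply, AddSubmonoidClass.coe_finsetSum,
      Finset.sum_eq_single j₀] at h
    · rwa [DirectSum.decompose_of_mem_same 𝒜 (hy j₀ hj₀)] at h
    · intro j hj hne
      rw [DirectSum.decompose_of_mem_ne 𝒜 (hy j hj)]
      omega
    · intro h'
      exact absurd hj₀ h'
  by_contra hp0
  obtain ⟨j, hj⟩ := Finset.nonempty_of_ne_empty (mt Polynomial.support_eq_empty.mp hp0)
  have hne : p.coeff j ≠ 0 := mem_support_iff.mp hj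
  have h1 := hy0 j hj
  have h2 : x j = 0 := by
    rcases mul_eq_zero.mp h1 with h | h
    · exact h
    · exact absurd h (pow_ne_zero _ hs0)
  apply hne
  rw [← hmk j]
  apply HomogeneousLocalization.val_injective _
  rw [HomogeneousLocalization.Away.val_mk, HomogeneousLocalization.val_zero]
  simp only [h2]
  exact Localization.mk_zero _

end Inj

section Main

variable {K : Type u} [Field K] {R : Type v} [CommRing R] [IsDomain R] [Algebra K R]
  (𝒜 : ℕ → Submodule K R) [GradedAlgebra 𝒜] {s : R} (hs : s ∈ 𝒜 1)

theorem isDomain_away (hs0 : s ≠ 0) : IsDomain (HomogeneousLocalization.Away 𝒜 s) := by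
  haveI : IsDomain (Localization.Away s) :=
    IsLocalization.isDomain_localization (powers_le_nonZeroDivisors_of_noZeroDivisors hs0)
  exact Function.Injective.isDomain
    (algebraMap (HomogeneousLocalization.Away 𝒜 s) (Localization.Away s))
    (HomogeneousLocalization.val_injective _)

include hs in
theorem isLocalization_psi (hs0 : s ≠ 0) :
    letI : Algebra (HomogeneousLocalization.Away 𝒜 s)[X] (Localization.Away s) :=
      (psi 𝒜).toAlgebra
    IsLocalization.Away (X : (HomogeneousLocalization.Away 𝒜 s)[X]) (Localization.Away s) := by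
  letI : Algebra (HomogeneousLocalization.Away 𝒜 s)[X] (Localization.Away s) :=
    (psi 𝒜).toAlgebra
  have halg : ∀ p, algebraMap (HomogeneousLocalization.Away 𝒜 s)[X] (Localization.Away s) p =
      psi 𝒜 p := fun _ => rfl
  have hsu : IsUnit (algebraMap R (Localization.Away s) s) :=
    IsLocalization.map_units (M := Submonoid.powers s) _ ⟨s, Submonoid.mem_powers s⟩
  refine IsLocalization.Away.mk _ ?_ ?_ ?_
  · rw [halg, psi_X]
    exact hsu
  · intro z
    obtain ⟨⟨r, ⟨_, k, rfl⟩⟩, hz⟩ := IsLocalization.surj (Submonoid.powers s) z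
    obtain ⟨q, hq⟩ := algebraMap_mem_range 𝒜 hs r
    refine ⟨k, q, ?_⟩
    rw [halg, halg, psi_X, hq, ← hz]
    simp
  · intro a b hab
    exact ⟨0, by rw [pow_zero, one_mul, one_mul]; exact psi_injective 𝒜 hs hs0 hab⟩

include hs in
theorem ufd_of_ufd_away [IsNoetherianRing R] (hp : Prime s)
    (h : UniqueFactorizationMonoid (HomogeneousLocalization.Away 𝒜 s)) :
    UniqueFactorizationMonoid R := by
  haveI := isDomain_away 𝒜 (s := s) hp.ne_zero
  letI : Algebra (HomogeneousLocalization.Away 𝒜 s)[X] (Localization.Away s) :=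
    (psi 𝒜).toAlgebra
  haveI := isLocalization_psi 𝒜 hs hp.ne_zero
  haveI : UniqueFactorizationMonoid (Localization.Away s) :=
    UniqueFactorizationMonoid.of_isLocalization
      (Submonoid.powers (X : (HomogeneousLocalization.Away 𝒜 s)[X])) (Localization.Away s)
  exact (UniqueFactorizationMonoid.iff_localizationAway_of_prime hp).mpr inferInstance

end Main

end Nagata

end Groth.Agent.H6
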