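import Mathlib
import Groth.Agent.Lib.Helper2.KPid

universe u
open Polynomial

namespace Groth.Agent.H6.Node

variable (k : Type u) [Field k]

/-- the polynomial ring in two variables -/
abbrev R0 : Type u := MvPolynomial (Fin 2) k

/-- the ideal (xy) -/
noncomputable abbrev I0 : Ideal (R0 k) := Ideal.span {(MvPolynomial.X 0 * MvPolynomial.X 1 : MvPolynomial (Fin 2) k)}

/-- the node ring -/
abbrev AA : Type u := R0 k ⧸ I0 k

variable {k}

/-- the class of the `i`-th variable -/
noncomputable abbrev xx (i : Fin 2) : AA k := Ideal.Quotient.mk (I0 k) (MvPolynomial.X i)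

theorem xx_mul : xx (k := k) 0 * xx 1 = 0 := by
  rw [← map_mul, Ideal.Quotient.eq_zero_iff_mem]
  exact Ideal.subset_span rfl

theorem xx_mul' (j : Fin 2) : xx (k := k) j * xx (1 - j) = 0 := by
  fin_cases j
  · simpa using xx_mul (k := k)
  · have := xx_mul (k := k)
    rw [mul_comm] at this
    simpa using this

/-- evaluation keeping the `j`-th variable and killing the other -/
noncomputable def ev0 (j : Fin 2) : R0 k →ₐ[k] k[X] :=
  MvPolynomial.aeval (fun i => if i = j then (X : k[X]) else 0)

theorem ev0_X (j i : Fin 2) : ev0 (k := k) j (MvPolynomial.X i) = if i = j then X else 0 := by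
  simp [ev0]

theorem ev0_I0 (j : Fin 2) : ∀ a ∈ I0 k, ev0 (k := k) j a = 0 := by
  intro a ha
  have : I0 k ≤ RingHom.ker (ev0 (k := k) j).toRingHom := by
    rw [I0, Ideal.span_le]
    rintro _ rfl
    change ev0 j _ = 0
    rw [map_mul, ev0_X, ev0_X]
    fin_cases j <;> simp
  exact this ha

/-- evaluation on the node ring -/
noncomputable def evA (j : Fin 2) : AA k →ₐ[k] k[X] :=
  Ideal.Quotient.liftₐ (I0 k) (ev0 j) (ev0_I0 j)

@[simp] theorem evA_mk (j : Fin 2) (p : R0 k) : evA j (Ideal.Quotient.mk (I0 k) p) = ev0 j p := rfl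

theorem evA_xx (j i : Fin 2) : evA (k := k) j (xx i) = if i = j then X else 0 := by
  simp [xx, ev0_X]

/-- the section `k[T] → A`, `T ↦ x_j` -/
noncomputable def secA (j : Fin 2) : k[X] →ₐ[k] AA k := Polynomial.aeval (xx j)

theorem evA_secA (j : Fin 2) (p : k[X]) : evA j (secA j p) = p := by
  have : (evA (k := k) j).comp (secA j) = AlgHom.id k k[X] := by
    apply Polynomial.algHom_ext
    simp [secA, ev0_X]
  exact congrArg (fun F => F p) this

theorem evA_surjective (j : Fin 2) : Function.Surjective (evA (k := k) j) :=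
  fun p => ⟨secA j p, evA_secA j p⟩

/-- every element is a polynomial in `x_j` modulo `x_{1-j}` -/
theorem sub_secA_mem (j : Fin 2) (a : AA k) :
    a - secA j (evA j a) ∈ Ideal.span {xx (k := k) (1 - j)} := by
  obtain ⟨p, rfl⟩ := Ideal.Quotient.mk_surjective a
  induction p using MvPolynomial.induction_on with
  | C c =>
    have : secA j (evA j (Ideal.Quotient.mk (I0 k) (MvPolynomial.C c))) =
        Ideal.Quotient.mk (I0 k) (MvPolynomial.C c) := by
      simp [secA, ev0]
      rfl
    rw [this, sub_self]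
    exact Ideal.zero_mem _
  | add p q hp hq =>
    have : Ideal.Quotient.mk (I0 k) (p + q) - secA j (evA j (Ideal.Quotient.mk (I0 k) (p + q))) =
      (Ideal.Quotient.mk (I0 k) p - secA j (evA j (Ideal.Quotient.mk (I0 k) p))) +
      (Ideal.Quotient.mk (I0 k) q - secA j (evA j (Ideal.Quotient.mk (I0 k) q))) := by
      simp only [map_add]; ring
    rw [this]
    exact Ideal.add_mem _ hp hq
  | mul_X p i hp =>
    have e : Ideal.Quotient.mk (I0 k) (p * MvPolynomial.X i) -
        secA j (evA j (Ideal.Quotient.mk (I0 k) (p * MvPolynomial.X i))) =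
      (Ideal.Quotient.mk (I0 k) p - secA j (evA j (Ideal.Quotient.mk (I0 k) p))) * xx i +
      secA j (evA j (Ideal.Quotient.mk (I0 k) p)) * (xx i - secA j (evA j (xx i))) := by
      simp only [map_mul, xx]; ring
    rw [e]
    refine Ideal.add_mem _ (Ideal.mul_mem_right _ _ hp) (Ideal.mul_mem_left _ _ ?_)
    rw [evA_xx]
    by_cases hij : i = j
    · subst hij
      simp [secA]
    · have : i = 1 - j := by fin_cases i <;> fin_cases j <;> simp_all
      rw [if_neg hij, map_zero, sub_zero, this]
      exact Ideal.subset_span rfl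

theorem ker_evA (j : Fin 2) :
    RingHom.ker (evA (k := k) j).toRingHom = Ideal.span {xx (k := k) (1 - j)} := by
  apply le_antisymm
  · intro a ha
    have h0 : evA j a = 0 := ha
    have := sub_secA_mem j a
    rwa [h0, map_zero, sub_zero] at this
  · rw [Ideal.span_le]
    rintro _ rfl
    change evA j (xx (1 - j)) = 0
    rw [evA_xx]
    fin_cases j <;> simp


open Groth.Agent.H2.KPid in
/-- the class of `A/(x_i)` -/
noncomputable abbrev cq (k : Type u) [Field k] (i : Fin 2) : KZero.K0sub (Groth.Agent.H2.KPid.P (AA k)) :=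
  KZero.clSub (Groth.Agent.H2.KPid.P (AA k))
    (ModuleCat.of (AA k) (AA k ⧸ Ideal.span {xx (k := k) i}))

section dev

open Groth.Agent.H2.KPid

instance : IsNoetherianRing (AA k) := inferInstance

/-- classes of cyclic modules `A/I` with `x_o ∈ I` -/
theorem cl_quot_ideal (j : Fin 2) (I : Ideal (AA k)) (hI : xx (k := k) (1 - j) ∈ I) :
    ∃ n : ℤ, KZero.clSub (P (AA k)) (ModuleCat.of (AA k) (AA k ⧸ I)) = n • cq k (1 - j) := by
  have hle : Ideal.span {xx (k := k) (1 - j)} ≤ I := by
    rw [Ideal.span_le]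
    rintro _ rfl
    exact hI
  obtain ⟨f, hf⟩ := IsPrincipalIdealRing.principal (Ideal.map (evA (k := k) j) I)
  by_cases hf0 : f = 0
  · -- I = (x_o)
    have hbot : Ideal.map (evA (k := k) j) I = ⊥ := by
      rw [hf, hf0]
      simp
    have hIle : I ≤ Ideal.span {xx (k := k) (1 - j)} := by
      rw [← ker_evA]
      intro b hb
      have : evA j b ∈ Ideal.map (evA (k := k) j) I := Ideal.mem_map_of_mem _ hb
      rw [hbot] at this
      exact this
    have hIeq : I = Ideal.span {xx (k := k) (1 - j)} := le_antisymm hIle hle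
    refine ⟨1, ?_⟩
    rw [one_smul, hIeq]
  · -- I = (x_o, a)
    set a : AA k := secA j f with ha
    have hevA : evA j a = f := evA_secA j f
    have haI : a ∈ I := by
      have hfm : f ∈ Ideal.map (evA (k := k) j) I := by
        rw [hf]
        exact Submodule.mem_span_singleton_self f
      obtain ⟨b, hb, hbf⟩ := (Ideal.mem_map_iff_of_surjective _ (evA_surjective j)).1 hfm
      have : a - b ∈ Ideal.span {xx (k := k) (1 - j)} := by
        rw [← ker_evA]
        change evA j (a - b) = 0
        rw [map_sub, hevA, hbf, sub_self]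
      have h2 : a - b ∈ I := hle this
      have : a = (a - b) + b := by ring
      rw [this]
      exact I.add_mem h2 hb
    have hIdec : ∀ b ∈ I, ∃ d : AA k, b - a * d ∈ Ideal.span {xx (k := k) (1 - j)} := by
      intro b hb
      have : evA j b ∈ Ideal.map (evA (k := k) j) I := Ideal.mem_map_of_mem _ hb
      rw [hf] at this
      obtain ⟨g, hg⟩ := Submodule.mem_span_singleton.1 this
      refine ⟨secA j g, ?_⟩
      rw [← ker_evA]
      change evA j (b - a * secA j g) = 0
      rw [map_sub, map_mul, hevA, evA_secA, ← hg, smul_eq_mul, mul_comm, sub_self]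
    -- the maps
    let Q := AA k ⧸ Ideal.span {xx (k := k) (1 - j)}
    let π : Q →ₗ[AA k] (AA k ⧸ I) := Submodule.factor hle
    have hπs : Function.Surjective π := Submodule.factor_surjective hle
    let μ : Q →ₗ[AA k] Q := LinearMap.lsmul (AA k) Q a
    have hμinj : Function.Injective μ := by
      rw [injective_iff_map_eq_zero]
      intro q hq
      obtain ⟨b, rfl⟩ := Submodule.Quotient.mk_surjective (Ideal.span {xx (k := k) (1 - j)}) q
      have e1 : μ (Submodule.Quotient.mk b) =
          (Submodule.Quotient.mk (a • b) : AA k ⧸ Ideal.span {xx (k := k) (1 - j)}) := rfl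
      rw [e1, Submodule.Quotient.mk_eq_zero, ← ker_evA] at hq
      have h1 : evA j (a * b) = 0 := hq
      rw [map_mul, hevA] at h1
      have h2 : evA j b = 0 := (mul_eq_zero.1 h1).resolve_left hf0
      rw [Submodule.Quotient.mk_eq_zero, ← ker_evA]
      exact h2
    have hrange : LinearMap.range μ = LinearMap.ker π := by
      ext q
      constructor
      · rintro ⟨q', rfl⟩
        obtain ⟨b, rfl⟩ := Submodule.Quotient.mk_surjective (Ideal.span {xx (k := k) (1 - j)}) q'
        change (Submodule.Quotient.mk (a • b) : AA k ⧸ I) = 0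
        rw [Submodule.Quotient.mk_eq_zero]
        exact I.mul_mem_right _ haI
      · intro hq
        obtain ⟨b, rfl⟩ := Submodule.Quotient.mk_surjective (Ideal.span {xx (k := k) (1 - j)}) q
        have hbI : b ∈ I := by
          have : (Submodule.Quotient.mk b : AA k ⧸ I) = 0 := hq
          rwa [Submodule.Quotient.mk_eq_zero] at this
        obtain ⟨d, hd⟩ := hIdec b hbI
        refine ⟨Submodule.Quotient.mk d, ?_⟩
        have e1 : μ (Submodule.Quotient.mk d) =
            (Submodule.Quotient.mk (a • d) : AA k ⧸ Ideal.span {xx (k := k) (1 - j)}) := rfl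
        rw [e1, eq_comm, ← sub_eq_zero, ← Submodule.Quotient.mk_sub,
          Submodule.Quotient.mk_eq_zero]
        exact hd
    have e : Q ≃ₗ[AA k] LinearMap.ker π :=
      (LinearEquiv.ofInjective μ hμinj).trans (LinearEquiv.ofEq _ _ hrange)
    have h := cl_surj π hπs
    rw [← cl_equiv e] at h
    refine ⟨0, ?_⟩
    rw [zero_smul]
    have h' : KZero.clSub (P (AA k)) (ModuleCat.of (AA k) Q) =
        KZero.clSub (P (AA k)) (ModuleCat.of (AA k) Q) +
          KZero.clSub (P (AA k)) (ModuleCat.of (AA k) (AA k ⧸ I)) := h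
    exact add_eq_left.1 h'.symm

theorem cl_killed (j : Fin 2) (n : ℕ) : ∀ (M : Type u) [AddCommGroup M] [Module (AA k) M]
    [Module.Finite (AA k) M] (_ : ∀ m : M, xx (k := k) (1 - j) • m = 0)
    (s : Finset M), s.card ≤ n → Submodule.span (AA k) (s : Set M) = ⊤ →
    ∃ z : ℤ, KZero.clSub (P (AA k)) (ModuleCat.of (AA k) M) = z • cq k (1 - j) := by
  classical
  induction n with
  | zero =>
    intro M _ _ _ hM s hs hspan
    have hs' : s = ∅ := Finset.card_eq_zero.1 (Nat.le_zero.1 hs)
    have : Subsingleton M := by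
      rw [hs'] at hspan
      simp only [Finset.coe_empty, Submodule.span_empty] at hspan
      exact (Submodule.subsingleton_iff (AA k)).1 (subsingleton_of_bot_eq_top hspan)
    exact ⟨0, by rw [cl_subsingleton, zero_smul]⟩
  | succ n ih =>
    intro M _ _ _ hM s hs hspan
    by_cases hse : s = ∅
    · have : Subsingleton M := by
        rw [hse] at hspan
        simp only [Finset.coe_empty, Submodule.span_empty] at hspan
        exact (Submodule.subsingleton_iff (AA k)).1 (subsingleton_of_bot_eq_top hspan)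
      exact ⟨0, by rw [cl_subsingleton, zero_smul]⟩
    · obtain ⟨x, hx⟩ := Finset.nonempty_iff_ne_empty.2 hse
      let N : Submodule (AA k) M := Submodule.span (AA k) {x}
      let s' : Finset (M ⧸ N) := (s.erase x).image N.mkQ
      have hcard : s'.card ≤ n := by
        refine Finset.card_image_le.trans ?_
        rw [Finset.card_erase_of_mem hx]
        omega
      have hspan' : Submodule.span (AA k) (s' : Set (M ⧸ N)) = ⊤ := by
        rw [eq_top_iff]
        have h1 : (⊤ : Submodule (AA k) (M ⧸ N)) =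
            Submodule.map N.mkQ (Submodule.span (AA k) (s : Set M)) := by
          rw [hspan, Submodule.map_top, Submodule.range_mkQ]
        rw [h1, Submodule.map_span, Submodule.span_le]
        rintro _ ⟨y, hy, rfl⟩
        by_cases hyx : y = x
        · have : N.mkQ y = 0 := by
            rw [hyx]
            exact (Submodule.Quotient.mk_eq_zero N).2 (Submodule.mem_span_singleton_self x)
          rw [this]
          exact Submodule.zero_mem _
        · apply Submodule.subset_span
          simp only [s', Finset.coe_image, Set.mem_image, Finset.mem_coe]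
          exact ⟨y, Finset.mem_erase.2 ⟨hyx, hy⟩, rfl⟩
      have hMq : ∀ m : M ⧸ N, xx (k := k) (1 - j) • m = 0 := by
        intro m
        obtain ⟨m, rfl⟩ := Submodule.Quotient.mk_surjective N m
        rw [← Submodule.Quotient.mk_smul, hM, Submodule.Quotient.mk_zero]
      obtain ⟨z, hz⟩ := ih (M ⧸ N) hMq s' hcard hspan'
      have h := cl_surj N.mkQ (Submodule.mkQ_surjective N)
      -- the cyclic part
      let φ := LinearMap.toSpanSingleton (AA k) M x
      have hker : xx (k := k) (1 - j) ∈ LinearMap.ker φ := by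
        change φ (xx (1 - j)) = 0
        simp [φ, hM]
      obtain ⟨z', hz'⟩ := cl_quot_ideal j (LinearMap.ker φ) hker
      have hrange : LinearMap.range φ = N := LinearMap.range_toSpanSingleton (R := AA k) x
      have e1 : (AA k ⧸ LinearMap.ker φ) ≃ₗ[AA k] N :=
        φ.quotKerEquivRange.trans (LinearEquiv.ofEq _ _ hrange)
      have e : LinearMap.ker N.mkQ ≃ₗ[AA k] N := LinearEquiv.ofEq _ _ (Submodule.ker_mkQ N)
      rw [cl_equiv e, ← cl_equiv e1, hz, hz'] at h
      exact ⟨z' + z, by rw [h, add_smul]⟩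

/-- the class of any f.g. module -/
theorem cl_general (M : Type u) [AddCommGroup M] [Module (AA k) M] [Module.Finite (AA k) M] :
    ∃ z₀ z₁ : ℤ, KZero.clSub (P (AA k)) (ModuleCat.of (AA k) M) = z₀ • cq k 0 + z₁ • cq k 1 := by
  -- N = x₀ M
  let μ : M →ₗ[AA k] M := LinearMap.lsmul (AA k) M (xx (k := k) 0)
  let N : Submodule (AA k) M := LinearMap.range μ
  have hN : ∀ m : N, xx (k := k) (1 - 0) • m = 0 := by
    rintro ⟨_, m, rfl⟩
    apply Subtype.ext
    have h0 : xx (k := k) (1 - 0) * xx (k := k) 0 = 0 := by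
      rw [mul_comm]
      exact xx_mul' 0
    have h1 : xx (k := k) (1 - 0) • (xx (k := k) 0 • m) = (0 : M) := by
      rw [smul_smul, h0]
      exact zero_smul (AA k) m
    exact h1
  have hQ : ∀ m : M ⧸ N, xx (k := k) (1 - 1) • m = 0 := by
    intro m
    obtain ⟨m, rfl⟩ := Submodule.Quotient.mk_surjective N m
    rw [← Submodule.Quotient.mk_smul, Submodule.Quotient.mk_eq_zero]
    exact ⟨m, by simp [μ]⟩
  obtain ⟨sN, hsN⟩ := (inferInstance : Module.Finite (AA k) N).fg_top
  obtain ⟨sQ, hsQ⟩ := (inferInstance : Module.Finite (AA k) (M ⧸ N)).fg_top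
  obtain ⟨z₁, hz₁⟩ := cl_killed 0 sN.card N hN sN le_rfl hsN
  obtain ⟨z₀, hz₀⟩ := cl_killed 1 sQ.card (M ⧸ N) hQ sQ le_rfl hsQ
  have h := cl_surj N.mkQ (Submodule.mkQ_surjective N)
  have e : LinearMap.ker N.mkQ ≃ₗ[AA k] N := LinearEquiv.ofEq _ _ (Submodule.ker_mkQ N)
  rw [cl_equiv e, hz₁, hz₀] at h
  refine ⟨z₀, z₁, ?_⟩
  rw [h, add_comm]
  rfl

end dev


section rank

open TensorProduct Groth.Agent.H2.KPid

/-- the function field of the `j`-th line, as an algebra over the node ring -/
def FF (k : Type u) [Field k] (_ : Fin 2) : Type u := FractionRing k[X]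

noncomputable instance (j : Fin 2) : Field (FF k j) := inferInstanceAs (Field (FractionRing k[X]))

noncomputable instance (j : Fin 2) : Algebra (AA k) (FF k j) :=
  ((algebraMap k[X] (FractionRing k[X])).comp (evA (k := k) j).toRingHom).toAlgebra

theorem algebraMap_FF (j : Fin 2) (a : AA k) :
    algebraMap (AA k) (FF k j) a = algebraMap k[X] (FractionRing k[X]) (evA j a) := rfl

/-- the submonoid inverted in `FF k j` -/
noncomputable def SS (k : Type u) [Field k] (j : Fin 2) : Submonoid (AA k) :=
  Submonoid.comap (evA (k := k) j).toRingHom (nonZeroDivisors k[X])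

theorem mem_SS (j : Fin 2) (a : AA k) : a ∈ SS k j ↔ evA j a ≠ 0 := by
  change evA j a ∈ nonZeroDivisors k[X] ↔ _
  rw [mem_nonZeroDivisors_iff_ne_zero]

theorem xx_mem_SS (j : Fin 2) : xx (k := k) j ∈ SS k j := by
  rw [mem_SS, evA_xx, if_pos rfl]
  exact X_ne_zero

instance isLocalization_FF (j : Fin 2) : IsLocalization (SS k j) (FF k j) where
  map_units := by
    rintro ⟨s, hs⟩
    rw [algebraMap_FF]
    rw [mem_SS] at hs
    have h1 : algebraMap k[X] (FractionRing k[X]) (evA j s) ≠ 0 :=
      (map_ne_zero_iff _ (IsFractionRing.injective k[X] (FractionRing k[X]))).2 hs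
    exact IsUnit.mk0 (G₀ := FractionRing k[X]) _ h1
  surj := by
    intro z
    obtain ⟨⟨b, ⟨b', hb'⟩⟩, hz⟩ :=
      IsLocalization.surj (S := FractionRing k[X]) (nonZeroDivisors k[X]) z
    refine ⟨⟨secA j b, ⟨secA j b', ?_⟩⟩, ?_⟩
    · rw [mem_SS, evA_secA]
      exact nonZeroDivisors.ne_zero hb'
    · simp only [algebraMap_FF, evA_secA]
      exact hz
  exists_of_eq := by
    intro a b hab
    rw [algebraMap_FF, algebraMap_FF] at hab
    have h1 : evA j a = evA j b := IsFractionRing.injective k[X] (FractionRing k[X]) hab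
    have h2 : a - b ∈ Ideal.span {xx (k := k) (1 - j)} := by
      rw [← ker_evA]
      change evA j (a - b) = 0
      rw [map_sub, h1, sub_self]
    obtain ⟨c, hc⟩ := Ideal.mem_span_singleton'.1 h2
    refine ⟨⟨xx j, xx_mem_SS j⟩, ?_⟩
    change xx j * a = xx j * b
    rw [← sub_eq_zero, ← mul_sub, ← hc, mul_comm c, ← mul_assoc, xx_mul', zero_mul]

instance flat_FF (j : Fin 2) : Module.Flat (AA k) (FF k j) :=
  IsLocalization.flat (FF k j) (SS k j)

/-- the rank at the generic point of the `j`-th line, on the free abelian group -/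
noncomputable def rk₀ (j : Fin 2) : FreeAbelianGroup (Subtype (P (AA k))) →+ ℤ :=
  FreeAbelianGroup.lift (fun M => (Module.finrank (FF k j) (FF k j ⊗[AA k] M.1) : ℤ))

lemma finrank_ses (j : Fin 2) (S : CategoryTheory.ShortComplex (ModuleCat.{u} (AA k)))
    (hS : S.ShortExact) (h₂ : Module.Finite (AA k) S.X₂) :
    Module.finrank (FF k j) (FF k j ⊗[AA k] S.X₂) =
      Module.finrank (FF k j) (FF k j ⊗[AA k] S.X₁) +
        Module.finrank (FF k j) (FF k j ⊗[AA k] S.X₃) := by
  have hinj : Function.Injective S.f.hom := hS.moduleCat_injective_f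
  have hsurj : Function.Surjective S.g.hom := hS.moduleCat_surjective_g
  have hex : Function.Exact S.f.hom S.g.hom :=
    (CategoryTheory.ShortComplex.ShortExact.moduleCat_exact_iff_function_exact S).1 hS.exact
  let f' : FF k j ⊗[AA k] S.X₁ →ₗ[FF k j] FF k j ⊗[AA k] S.X₂ := S.f.hom.baseChange (FF k j)
  let g' : FF k j ⊗[AA k] S.X₂ →ₗ[FF k j] FF k j ⊗[AA k] S.X₃ := S.g.hom.baseChange (FF k j)
  have hf' : Function.Injective f' := by
    have := Module.Flat.lTensor_preserves_injective_linearMap (M := FF k j) S.f.hom hinj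
    exact this
  have hg' : Function.Surjective g' := LinearMap.lTensor_surjective (FF k j) hsurj
  have hex' : Function.Exact f' g' := lTensor_exact (FF k j) hex hsurj
  have hfin : Module.Finite (FF k j) (FF k j ⊗[AA k] S.X₂) := inferInstance
  have h1 := LinearMap.finrank_range_add_finrank_ker g'
  have h2 : LinearMap.range g' = ⊤ := LinearMap.range_eq_top.2 hg'
  have h3 : LinearMap.ker g' = LinearMap.range f' := (LinearMap.exact_iff.1 hex')
  rw [h2, finrank_top, h3, LinearMap.finrank_range_of_inj hf'] at h1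
  omega

lemma relSub_le_ker (j : Fin 2) : KZero.relSub (P (AA k)) ≤ (rk₀ (k := k) j).ker := by
  unfold KZero.relSub
  rw [AddSubgroup.closure_le]
  rintro x ⟨S, h₁, h₂, h₃, hS, rfl⟩
  change rk₀ j _ = 0
  simp only [rk₀, map_sub, FreeAbelianGroup.lift_apply_of]
  rw [finrank_ses j S hS h₂]
  push_cast
  ring

/-- the rank function on `K₀` -/
noncomputable def rk (j : Fin 2) : KZero.K0sub (P (AA k)) →+ ℤ :=
  QuotientAddGroup.lift _ (rk₀ j) (relSub_le_ker j)

lemma rk_cl (j : Fin 2) (M : Type u) [AddCommGroup M] [Module (AA k) M] [Module.Finite (AA k) M] :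
    rk j (KZero.clSub (P (AA k)) (ModuleCat.of (AA k) M)) =
      (Module.finrank (FF k j) (FF k j ⊗[AA k] M) : ℤ) := by
  have h : Module.Finite (AA k) (ModuleCat.of (AA k) M) := ‹_›
  rw [clSub_eq h]
  change rk₀ j _ = _
  simp only [rk₀, FreeAbelianGroup.lift_apply_of]

lemma algebraMap_xx_ne (j : Fin 2) : algebraMap (AA k) (FF k j) (xx j) ≠ 0 := by
  rw [algebraMap_FF, evA_xx, if_pos rfl]
  exact (map_ne_zero_iff _ (IsFractionRing.injective k[X] (FractionRing k[X]))).2 X_ne_zero

lemma algebraMap_xx_other (j : Fin 2) : algebraMap (AA k) (FF k j) (xx (1 - j)) = 0 := by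
  rw [algebraMap_FF, evA_xx]
  have : (1 - j : Fin 2) ≠ j := by fin_cases j <;> simp
  rw [if_neg this, map_zero]
  rfl

lemma subsingleton_tensor (j : Fin 2) :
    Subsingleton (FF k j ⊗[AA k] (AA k ⧸ Ideal.span {xx (k := k) j})) := by
  refine ⟨fun a b => ?_⟩
  suffices h : ∀ t : FF k j ⊗[AA k] (AA k ⧸ Ideal.span {xx (k := k) j}), t = 0 by
    rw [h a, h b]
  intro t
  induction t using TensorProduct.induction_on with
  | zero => rfl
  | tmul f q =>
    have hu := algebraMap_xx_ne (k := k) j
    have h1 : f = xx (k := k) j • (f * (algebraMap (AA k) (FF k j) (xx j))⁻¹) := by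
      rw [Algebra.smul_def]
      field_simp
    have h2 : xx (k := k) j • q = 0 := by
      obtain ⟨a, rfl⟩ := Submodule.Quotient.mk_surjective (Ideal.span {xx (k := k) j}) q
      rw [← Submodule.Quotient.mk_smul, Submodule.Quotient.mk_eq_zero]
      exact Ideal.mul_mem_right _ _ (Ideal.subset_span rfl)
    rw [h1, TensorProduct.smul_tmul (R := AA k) (R' := AA k) (xx (k := k) j)
      (f * (algebraMap (AA k) (FF k j) (xx j))⁻¹) q, h2, TensorProduct.tmul_zero]
  | add x y hx hy => rw [hx, hy, add_zero]

lemma finrank_tensor_zero (j : Fin 2) :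
    Module.finrank (FF k j) (FF k j ⊗[AA k] (AA k ⧸ Ideal.span {xx (k := k) j})) = 0 := by
  have := subsingleton_tensor (k := k) j
  exact Module.finrank_zero_of_subsingleton

lemma finrank_tensor_one (j : Fin 2) :
    Module.finrank (FF k j) (FF k j ⊗[AA k] (AA k ⧸ Ideal.span {xx (k := k) (1 - j)})) = 1 := by
  let Q := AA k ⧸ Ideal.span {xx (k := k) (1 - j)}
  let gQ : Q →ₗ[AA k] FF k j :=
    Submodule.liftQ _ (Algebra.linearMap (AA k) (FF k j)) (by
      rw [Ideal.span, Submodule.span_le]
      rintro _ rfl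
      change algebraMap (AA k) (FF k j) (xx (1 - j)) = 0
      exact algebraMap_xx_other j)
  let φ : FF k j ⊗[AA k] Q →ₗ[FF k j] FF k j := LinearMap.liftBaseChange (FF k j) gQ
  let ψ : FF k j →ₗ[FF k j] FF k j ⊗[AA k] Q :=
    LinearMap.toSpanSingleton (FF k j) _ ((1 : FF k j) ⊗ₜ[AA k] (Submodule.Quotient.mk 1 : Q))
  have hψ : ∀ f : FF k j, ψ f = f ⊗ₜ[AA k] (Submodule.Quotient.mk 1 : Q) := by
    intro f
    simp only [ψ, LinearMap.toSpanSingleton_apply, TensorProduct.smul_tmul', smul_eq_mul, mul_one]
  have hφψ : ∀ f, φ (ψ f) = f := by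
    intro f
    rw [hψ]
    simp only [φ, LinearMap.liftBaseChange_tmul, gQ]
    change f • (algebraMap (AA k) (FF k j) 1) = f
    rw [map_one, smul_eq_mul, mul_one]
  have hinj : Function.Injective ψ := Function.LeftInverse.injective hφψ
  have hsurj : Function.Surjective ψ := by
    intro t
    induction t using TensorProduct.induction_on with
    | zero => exact ⟨0, map_zero _⟩
    | tmul f q =>
      obtain ⟨a, rfl⟩ := Submodule.Quotient.mk_surjective (Ideal.span {xx (k := k) (1 - j)}) q
      refine ⟨a • f, ?_⟩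
      rw [hψ, TensorProduct.smul_tmul (R := AA k) (R' := AA k) a f
        (Submodule.Quotient.mk 1 : Q)]
      congr 1
      rw [← Submodule.Quotient.mk_smul, smul_eq_mul, mul_one]
    | add x y hx hy =>
      obtain ⟨a, rfl⟩ := hx
      obtain ⟨b, rfl⟩ := hy
      exact ⟨a + b, map_add _ _ _⟩
  have e : FF k j ≃ₗ[FF k j] FF k j ⊗[AA k] Q := LinearEquiv.ofBijective ψ ⟨hinj, hsurj⟩
  rw [← e.finrank_eq, Module.finrank_self]

end rank


section main

open Groth.Agent.H2.KPid

lemma rk_cq_same (j : Fin 2) : rk (k := k) j (cq k j) = 0 := by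
  rw [cq, rk_cl, finrank_tensor_zero]
  rfl

lemma rk_one_cq_zero : rk (k := k) 1 (cq k 0) = 1 := by
  rw [cq, rk_cl]
  have := finrank_tensor_one (k := k) 1
  have h : (1 - 1 : Fin 2) = 0 := rfl
  rw [h] at this
  rw [this]
  rfl

lemma rk_zero_cq_one : rk (k := k) 0 (cq k 1) = 1 := by
  rw [cq, rk_cl]
  have := finrank_tensor_one (k := k) 0
  have h : (1 - 0 : Fin 2) = 1 := rfl
  rw [h] at this
  rw [this]
  rfl

theorem main : Function.Bijective (fun p : ℤ × ℤ => p.1 • cq k 0 + p.2 • cq k 1) := by
  constructor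
  · intro p q h
    have h1 := congrArg (rk (k := k) 1) h
    have h0 := congrArg (rk (k := k) 0) h
    simp only [map_add, map_zsmul, rk_cq_same, rk_one_cq_zero, rk_zero_cq_one, smul_eq_mul,
      mul_one, mul_zero, add_zero, zero_add] at h1 h0
    exact Prod.ext h1 h0
  · intro y
    induction y using QuotientAddGroup.induction_on with
    | H x =>
      induction x using FreeAbelianGroup.induction_on with
      | zero => exact ⟨(0, 0), by simp⟩
      | of M =>
        have : Module.Finite (AA k) M.1 := M.2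
        obtain ⟨z₀, z₁, hz⟩ := cl_general (k := k) M.1
        refine ⟨(z₀, z₁), ?_⟩
        change z₀ • _ + z₁ • _ = _
        rw [← hz]
        exact clSub_eq M.2
      | neg M hM =>
        obtain ⟨p, hp⟩ := hM
        refine ⟨(-p.1, -p.2), ?_⟩
        change (-p.1) • _ + (-p.2) • _ = _
        rw [neg_smul, neg_smul, ← neg_add, QuotientAddGroup.mk_neg]
        exact congrArg Neg.neg hp
      | add x y hx hy =>
        obtain ⟨p, hp⟩ := hx
        obtain ⟨q, hq⟩ := hy
        refine ⟨(p.1 + q.1, p.2 + q.2), ?_⟩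
        change (p.1 + q.1) • _ + (p.2 + q.2) • _ = _
        rw [add_smul, add_smul, QuotientAddGroup.mk_add, ← hp, ← hq]
        exact add_add_add_comm _ _ _ _

end main

end Groth.Agent.H6.Node
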