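import Mathlib
import Groth.Prelude.Def_ArtFun4
import Groth.Agent.Lib.Helper6.DefAff8
import Groth.Agent.S13972
import Groth.Agent.S15821

/-!
# The deformations `xy = a` of the node (helper6)
-/

set_option autoImplicit false
universe u
open CategoryTheory CategoryTheory.Limits AlgebraicGeometry ArtFun ArtFun.Art MvPolynomial

namespace Groth.Agent.H6.NodeDef

open Groth.Agent.H6.DefAff

variable (k : Type u) [Field k]

/-- the coordinate ring of the node -/
abbrev Node : Type u :=
  MvPolynomial (Fin 2) k ⧸ Ideal.span {(X 0 * X 1 : MvPolynomial (Fin 2) k)}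

variable {k}
variable (A : Art k k) (a : A)

/-- the relation `xy - a` -/
noncomputable def nodeRel : MvPolynomial (Fin 2) A := X 0 * X 1 - C a

/-- the ring `A[x,y]/(xy - a)` -/
abbrev NodeE : Type u := MvPolynomial (Fin 2) A ⧸ Ideal.span {nodeRel A a}

theorem map_nodeRel (ha : A.res a = 0) :
    MvPolynomial.map (A.res : A →+* k) (nodeRel A a) = X 0 * X 1 := by
  rw [nodeRel, map_sub, map_mul, map_X, map_X, map_C]
  show X 0 * X 1 - C (A.res a) = _
  rw [ha, map_zero, sub_zero]

/-- the projection `A[x,y]/(xy - a) → k[x,y]/(xy)` -/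
noncomputable def nodePr (ha : A.res a = 0) : NodeE A a →+* Node k :=
  Ideal.Quotient.lift _ ((Ideal.Quotient.mk _).comp (MvPolynomial.map (A.res : A →+* k)))
    (by
      intro x hx
      obtain ⟨c, rfl⟩ := Ideal.mem_span_singleton'.mp hx
      rw [RingHom.comp_apply, map_mul, map_nodeRel A a ha, Ideal.Quotient.eq_zero_iff_mem]
      exact Ideal.mul_mem_left _ _ (Ideal.subset_span rfl))

theorem nodePr_mk (ha : A.res a = 0) (g : MvPolynomial (Fin 2) A) :
    nodePr A a ha (Ideal.Quotient.mk _ g) =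
      Ideal.Quotient.mk _ (MvPolynomial.map (A.res : A →+* k) g) := rfl

/-- the structure map -/
noncomputable def nodeToE : A →+* NodeE A a := (Ideal.Quotient.mk _).comp C

theorem flat_nodeE (ha : A.res a = 0) :
    Module.Flat A (MvPolynomial (Fin 2) A ⧸ Ideal.span {nodeRel A a}) := by
  set I := IsLocalRing.maximalIdeal A with hI
  have hItop : I ≠ ⊤ := Ideal.IsPrime.ne_top'
  letI : Field (A ⧸ I) := Ideal.Quotient.field I
  let S := MvPolynomial (Fin 2) A ⧸ I.map (algebraMap A (MvPolynomial (Fin 2) A))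
  let e : MvPolynomial (Fin 2) (A ⧸ I) ≃ₐ[A] S :=
    MvPolynomial.quotientEquivQuotientMvPolynomial I
  haveI : IsDomain S := e.toRingEquiv.toMulEquiv.symm.isDomain
  let y : S := Ideal.Quotient.mk _ (X 0 * X 1)
  have hX : ∀ i : Fin 2, e (X i) = Ideal.Quotient.mk _ (X i) := by
    intro i
    show (MvPolynomial.quotientEquivQuotientMvPolynomial I) (X i) = _
    simp [MvPolynomial.quotientEquivQuotientMvPolynomial]
    rfl
  have hy : y ≠ 0 := by
    intro h
    have h2 : e (X 0 * X 1) = y := by
      rw [map_mul, hX, hX, ← map_mul]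
    rw [h] at h2
    have h1 : (X 0 * X 1 : MvPolynomial (Fin 2) (A ⧸ I)) = 0 :=
      e.injective (h2.trans (map_zero e).symm)
    rcases mul_eq_zero.mp h1 with h3 | h3
    · exact MvPolynomial.X_ne_zero _ h3
    · exact MvPolynomial.X_ne_zero _ h3
  have hreg : RingTheory.Sequence.IsWeaklyRegular S [y] := by
    rw [RingTheory.Sequence.isWeaklyRegular_singleton_iff]
    exact (IsRegular.of_ne_zero hy).isSMulRegular
  have hK : LCI.IsKoszulRegularSeq S (List.ofFn (fun _ : Fin 1 => y)) := by
    have h1 : List.ofFn (fun _ : Fin 1 => y) = [y] := by simp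
    rw [h1]
    exact (Groth.Agent.S15821.result S [y] hreg).1
  haveI : Module.Flat (A ⧸ I) (S ⧸ Ideal.span (Set.range (fun _ : Fin 1 => y))) := inferInstance
  have h2 := (Groth.Agent.S13972.result (A' := A) I hItop (R' := MvPolynomial (Fin 2) A) 1
    (fun _ => y) hK).1 (fun _ => nodeRel A a) (fun _ => ?_)
  · have h3 : Set.range (fun _ : Fin 1 => nodeRel A a) = {nodeRel A a} := Set.range_const
    rw [h3] at h2
    exact h2.1
  · show Ideal.Quotient.mk _ (nodeRel A a) = Ideal.Quotient.mk _ (X 0 * X 1)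
    rw [Ideal.Quotient.eq, nodeRel, sub_sub_cancel_left, neg_mem_iff]
    refine Ideal.mem_map_of_mem _ ?_
    rw [hI, Art.mem_maximalIdeal_iff]
    exact ha

theorem nodePr_surjective (ha : A.res a = 0) : Function.Surjective (nodePr A a ha) := by
  intro z
  obtain ⟨g₀, rfl⟩ := Ideal.Quotient.mk_surjective z
  obtain ⟨g, rfl⟩ := MvPolynomial.map_surjective (A.res : A →+* k) A.res_surjective g₀
  exact ⟨Ideal.Quotient.mk _ g, rfl⟩

theorem ker_nodePr (ha : A.res a = 0) :
    RingHom.ker (nodePr A a ha) = (IsLocalRing.maximalIdeal A).map (nodeToE A a) := by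
  apply le_antisymm
  · intro z hz
    obtain ⟨g, rfl⟩ := Ideal.Quotient.mk_surjective z
    rw [RingHom.mem_ker, nodePr_mk, Ideal.Quotient.eq_zero_iff_mem] at hz
    obtain ⟨h₀, hh₀⟩ := Ideal.mem_span_singleton'.mp hz
    obtain ⟨h, rfl⟩ := MvPolynomial.map_surjective (A.res : A →+* k) A.res_surjective h₀
    have h1 : g - h * nodeRel A a ∈ RingHom.ker (MvPolynomial.map (A.res : A →+* k)) := by
      rw [RingHom.mem_ker, map_sub, map_mul, map_nodeRel A a ha, hh₀, sub_self]
    rw [MvPolynomial.ker_map] at h1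
    have h2 : RingHom.ker (A.res : A →+* k) = IsLocalRing.maximalIdeal A := by
      ext b
      rw [RingHom.mem_ker]
      exact (Art.mem_maximalIdeal_iff A b).symm
    rw [h2] at h1
    have h3 : Ideal.Quotient.mk (Ideal.span {nodeRel A a}) g =
        Ideal.Quotient.mk (Ideal.span {nodeRel A a}) (g - h * nodeRel A a) := by
      rw [Ideal.Quotient.eq, sub_sub_cancel]
      exact Ideal.mul_mem_left _ _ (Ideal.subset_span rfl)
    rw [h3, nodeToE, ← Ideal.map_map]
    exact Ideal.mem_map_of_mem _ h1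
  · rw [Ideal.map_le_iff_le_comap]
    intro b hb
    rw [Ideal.mem_comap, RingHom.mem_ker]
    show nodePr A a ha (Ideal.Quotient.mk _ (C b)) = 0
    rw [nodePr_mk, map_C]
    have h1 : (A.res : A →+* k) b = 0 := (Art.mem_maximalIdeal_iff A b).mp hb
    rw [h1, map_zero, map_zero]

/-- the deformation `xy = a` of the node over `A` -/
noncomputable def nodeDef (ha : A.res a = 0) : RDef (Node k) A where
  E := NodeE A a
  toE := nodeToE A a
  flat := by
    have h := flat_nodeE A a ha
    have h1 : nodeToE A a = algebraMap A (NodeE A a) := rfl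
    rw [h1, RingHom.flat_algebraMap_iff]
    exact h
  pr := nodePr A a ha
  pr_toE := fun b => by
    show nodePr A a ha (Ideal.Quotient.mk _ (C b)) = _
    rw [nodePr_mk, map_C]
    rfl
  pr_surjective := nodePr_surjective A a ha
  ker_pr := ker_nodePr A a ha

variable {A a}

/-- the polynomial map `x ↦ ux`, `y ↦ y` over `g` -/
noncomputable def polyMap {A' : Art k k} (g : A ⟶ A') (u : A') :
    MvPolynomial (Fin 2) A →+* MvPolynomial (Fin 2) A' :=
  MvPolynomial.eval₂Hom (C.comp (g.toAlgHom : A →+* A'))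
    (fun i : Fin 2 => if i = 0 then C u * X 0 else X 1)

theorem polyMap_nodeRel {A' : Art k k} {a' : A'} (g : A ⟶ A') (u : A') (hg : g a = u * a') :
    polyMap g u (nodeRel A a) = C u * nodeRel A' a' := by
  rw [polyMap, nodeRel, map_sub, map_mul, eval₂Hom_X', eval₂Hom_X', eval₂Hom_C, nodeRel]
  simp only [if_true, Fin.isValue, one_ne_zero, if_false, RingHom.comp_apply]
  have h2 : (g.toAlgHom : A →+* A') a = u * a' := hg
  rw [h2, map_mul]
  ring

theorem map_polyMap {A' : Art k k} (g : A ⟶ A') (u : A') (hu : A'.res u = 1)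
    (p : MvPolynomial (Fin 2) A) :
    MvPolynomial.map (A'.res : A' →+* k) (polyMap g u p) =
      MvPolynomial.map (A.res : A →+* k) p := by
  induction p using MvPolynomial.induction_on with
  | C b =>
    rw [polyMap, eval₂Hom_C, RingHom.comp_apply, map_C, map_C]
    congr 1
    exact Art.res_app g b
  | add p q hp hq => rw [map_add, map_add, map_add, hp, hq]
  | mul_X p i hp =>
    rw [map_mul, map_mul, map_mul, hp, polyMap, eval₂Hom_X', map_X]
    congr 1
    fin_cases i
    · simp only [Fin.zero_eta, Fin.isValue, if_true, map_mul, map_C, map_X]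
      have h1 : (A'.res : A' →+* k) u = 1 := hu
      rw [h1, map_one, one_mul]
    · simp

/-- the induced map `A[x,y]/(xy - a) → A'[x,y]/(xy - a')` -/
noncomputable def nodeMap {A' : Art k k} {a' : A'} (g : A ⟶ A') (u : A') (hg : g a = u * a') :
    NodeE A a →+* NodeE A' a' :=
  Ideal.Quotient.lift _ ((Ideal.Quotient.mk (Ideal.span {nodeRel A' a'})).comp (polyMap g u))
    (by
      intro x hx
      obtain ⟨c, rfl⟩ := Ideal.mem_span_singleton'.mp hx
      rw [RingHom.comp_apply, map_mul, Ideal.Quotient.eq_zero_iff_mem, polyMap_nodeRel g u hg]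
      exact Ideal.mul_mem_left _ _ (Ideal.mul_mem_left _ _ (Ideal.subset_span rfl)))

theorem nodeMap_mk {A' : Art k k} {a' : A'} (g : A ⟶ A') (u : A') (hg : g a = u * a')
    (p : MvPolynomial (Fin 2) A) :
    nodeMap g u hg (Ideal.Quotient.mk _ p) = Ideal.Quotient.mk _ (polyMap g u p) := rfl

/-- `x ↦ ux` induces a morphism from `xy = a` to `xy = a'` over `g` when `g a = u a'` -/
noncomputable def nodeHomOver {A' : Art k k} {a' : A'} (ha : A.res a = 0) (ha' : A'.res a' = 0)
    (g : A ⟶ A') (u : A') (hu : A'.res u = 1) (hg : g a = u * a') :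
    RDef.HomOver g (nodeDef A a ha) (nodeDef A' a' ha') where
  hom := nodeMap g u hg
  hom_toE := fun b => by
    show nodeMap g u hg (Ideal.Quotient.mk _ (C b)) = Ideal.Quotient.mk _ (C (g b))
    rw [nodeMap_mk, polyMap, eval₂Hom_C]
    rfl
  pr_hom := fun e => by
    obtain ⟨p, rfl⟩ := Ideal.Quotient.mk_surjective e
    show nodePr A' a' ha' (nodeMap g u hg (Ideal.Quotient.mk _ p)) =
      nodePr A a ha (Ideal.Quotient.mk _ p)
    rw [nodeMap_mk, nodePr_mk, nodePr_mk, map_polyMap g u hu]

end Groth.Agent.H6.NodeDef
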