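import Mathlib
import Groth.Prelude.Def_ArtFun4
import Groth.Agent.Lib.Helper6.DefAff6
import Groth.Agent.Lib.Helper6.NodeDef1

/-!
# The deformation functor of the node is not pro-representable (helper6)
-/

set_option autoImplicit false
universe u
open CategoryTheory CategoryTheory.Limits AlgebraicGeometry ArtFun ArtFun.Art MvPolynomial

namespace Groth.Agent.H6.NodeDef

open Groth.Agent.H6.DefAff

variable (k : Type u) [Field k]

/-- `k[ε, δ]/(ε², δ²)` -/
abbrev DD : Type u := DualNumber (DualNumber k)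

theorem isLocalRing_DD : IsLocalRing (DD k) := by
  refine IsLocalRing.of_isUnit_or_isUnit_one_sub_self fun x => ?_
  rw [TrivSqZeroExt.isUnit_iff_isUnit_fst (x := x), TrivSqZeroExt.isUnit_iff_isUnit_fst (x := 1 - x),
    TrivSqZeroExt.fst_sub, TrivSqZeroExt.fst_one]
  exact IsLocalRing.isUnit_or_isUnit_one_sub_self (TrivSqZeroExt.fst x)

theorem isArtinianRing_DD : IsArtinianRing (DD k) :=
  haveI : Module.Finite k (DualNumber k) := inferInstanceAs (Module.Finite k (k × k))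
  haveI : Module.Finite k (DD k) := inferInstanceAs (Module.Finite k (DualNumber k × DualNumber k))
  @IsArtinianRing.of_finite k (DD k) _ _ Algebra.toModule IsScalarTower.right _ this

/-- `ε` -/
def a₂ : DD k := TrivSqZeroExt.inl (DualNumber.eps : DualNumber k)

/-- `δ` -/
def δ₂ : DD k := (DualNumber.eps : DD k)

theorem a₂_mul_a₂ : a₂ k * a₂ k = 0 := by
  rw [a₂, ← TrivSqZeroExt.inl_mul, DualNumber.eps_mul_eps, TrivSqZeroExt.inl_zero]

/-- the inner part of `σ` -/
noncomputable def σin : DualNumber k →ₐ[k] DD k :=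
  DualNumber.lift ⟨(Algebra.ofId k (DD k), a₂ k * (1 + δ₂ k)), by
    show (a₂ k * (1 + δ₂ k)) * (a₂ k * (1 + δ₂ k)) = 0
    have h1 : (a₂ k * (1 + δ₂ k)) * (a₂ k * (1 + δ₂ k)) =
        a₂ k * a₂ k * ((1 + δ₂ k) * (1 + δ₂ k)) := by ring
    rw [h1, a₂_mul_a₂, zero_mul],
    fun x => Commute.all (a₂ k * (1 + δ₂ k)) (Algebra.ofId k (DD k) x)⟩

/-- the endomorphism `ε ↦ ε(1+δ)`, `δ ↦ δ` -/
noncomputable def σalg : DD k →ₐ[k] DD k :=
  DualNumber.lift ⟨(σin k, δ₂ k), DualNumber.eps_mul_eps,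
    fun x => Commute.all (δ₂ k) (σin k x)⟩

theorem σalg_apply (z : DD k) :
    σalg k z = algebraMap k (DD k) (TrivSqZeroExt.fst (TrivSqZeroExt.fst z)) +
      algebraMap k (DD k) (TrivSqZeroExt.snd (TrivSqZeroExt.fst z)) * (a₂ k * (1 + δ₂ k)) +
      (algebraMap k (DD k) (TrivSqZeroExt.fst (TrivSqZeroExt.snd z)) +
      algebraMap k (DD k) (TrivSqZeroExt.snd (TrivSqZeroExt.snd z)) * (a₂ k * (1 + δ₂ k))) *
        δ₂ k := by
  unfold σalg
  rw [DualNumber.lift_apply_apply]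
  show σin k _ + σin k _ * δ₂ k = _
  unfold σin
  rw [DualNumber.lift_apply_apply, DualNumber.lift_apply_apply]
  rfl

theorem σalg_snd_snd (z : DD k) :
    TrivSqZeroExt.snd (TrivSqZeroExt.snd (σalg k z)) =
      TrivSqZeroExt.snd (TrivSqZeroExt.snd z) + TrivSqZeroExt.snd (TrivSqZeroExt.fst z) := by
  rw [σalg_apply]
  simp [a₂, δ₂, TrivSqZeroExt.algebraMap_eq_inl']
  exact add_comm _ _

theorem σalg_fst_fst (z : DD k) :
    TrivSqZeroExt.fst (TrivSqZeroExt.fst (σalg k z)) = TrivSqZeroExt.fst (TrivSqZeroExt.fst z) := by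
  rw [σalg_apply]
  simp [a₂, δ₂, TrivSqZeroExt.algebraMap_eq_inl']

theorem σalg_a₂ : σalg k (a₂ k) = (1 + δ₂ k) * a₂ k := by
  rw [σalg_apply]
  simp [a₂, δ₂, TrivSqZeroExt.algebraMap_eq_inl']
  exact mul_comm (TrivSqZeroExt.inl DualNumber.eps : DD k) (1 + DualNumber.eps)

/-- `k[ε, δ]/(ε², δ²)` as an object -/
noncomputable def dd : Art k k :=
  { carrier := DD k
    isLocalRing := isLocalRing_DD k
    isArtinianRing := isArtinianRing_DD k
    res := (TrivSqZeroExt.fstHom k k k).comp (TrivSqZeroExt.fstHom k (DualNumber k) (DualNumber k))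
    res_surjective := fun c => ⟨TrivSqZeroExt.inl (TrivSqZeroExt.inl c), rfl⟩ }

theorem dd_res (z : DD k) : (dd k).res z = TrivSqZeroExt.fst (TrivSqZeroExt.fst z) := rfl

/-- `σ` as a morphism -/
noncomputable def σ : dd k ⟶ dd k :=
  ⟨σalg k, AlgHom.ext fun z => σalg_fst_fst k z⟩

/-- the projection `δ ↦ 0` -/
noncomputable def π : dd k ⟶ Art.dual k k :=
  ⟨TrivSqZeroExt.fstHom k (DualNumber k) (DualNumber k), AlgHom.ext fun _ => rfl⟩

/-- the map `ε ↦ 0` -/
noncomputable def τ : Art.dual k k ⟶ Art.dual k k := toBase _ ≫ ofBase _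

theorem τ_apply (w : Art.dual k k) :
    τ k w = algebraMap k (Art.dual k k) ((Art.dual k k).res w) := rfl

end Groth.Agent.H6.NodeDef
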