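import Mathlib
import Groth.Prelude.Def_ArtFun4
import Groth.Agent.Lib.Helper6.NodeDef2

/-!
# The deformation functor of the node is not pro-representable: main argument (helper6)
-/

set_option autoImplicit false
universe u
open CategoryTheory CategoryTheory.Limits AlgebraicGeometry ArtFun ArtFun.Art MvPolynomial

namespace Groth.Agent.H6.NodeDef

open Groth.Agent.H6.DefAff

variable {k : Type u} [Field k]

/-- evaluation at the origin on the node -/
noncomputable def ev0 : Node k →+* k :=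
  Ideal.Quotient.lift _ (MvPolynomial.eval₂Hom (RingHom.id k) (fun _ : Fin 2 => (0 : k))) (by
    intro x hx
    obtain ⟨c, rfl⟩ := Ideal.mem_span_singleton'.mp hx
    rw [map_mul, map_mul, eval₂Hom_X', zero_mul, mul_zero])

theorem ev0_mk (p : MvPolynomial (Fin 2) k) :
    ev0 (Ideal.Quotient.mk _ p) =
      MvPolynomial.eval₂Hom (RingHom.id k) (fun _ : Fin 2 => (0 : k)) p := rfl

variable (k) in
theorem res_zero : (Art.dual k k).res (0 : (Art.dual k k : Art k k)) = 0 := map_zero _

/-- `x, y ↦ 0` on `k[ε][x,y]/(xy)` -/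
noncomputable def θ : NodeE (Art.dual k k) 0 →+* (Art.dual k k : Art k k) :=
  Ideal.Quotient.lift _ (MvPolynomial.eval₂Hom (RingHom.id _) (fun _ : Fin 2 => 0)) (by
    intro x hx
    obtain ⟨c, rfl⟩ := Ideal.mem_span_singleton'.mp hx
    rw [map_mul, nodeRel, map_sub, map_mul, eval₂Hom_X', zero_mul, map_zero, map_zero, sub_zero,
      mul_zero])

theorem θ_mk (p : MvPolynomial (Fin 2) (Art.dual k k : Art k k)) :
    θ (Ideal.Quotient.mk _ p) =
      MvPolynomial.eval₂Hom (RingHom.id _) (fun _ : Fin 2 => 0) p := rfl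

theorem res_θ (e : NodeE (Art.dual k k) 0) :
    (Art.dual k k).res (θ e) = ev0 (nodePr (Art.dual k k) 0 (res_zero k) e) := by
  obtain ⟨p, rfl⟩ := Ideal.Quotient.mk_surjective e
  rw [θ_mk, nodePr_mk, ev0_mk]
  induction p using MvPolynomial.induction_on with
  | C b =>
    rw [eval₂Hom_C, map_C, eval₂Hom_C]
    rfl
  | add p q hp hq => rw [map_add, map_add, map_add, map_add, hp, hq]
  | mul_X p i hp =>
    rw [map_mul, map_mul, map_mul, map_mul, eval₂Hom_X', map_X, eval₂Hom_X', map_zero, mul_zero,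
      mul_zero]

theorem node_contra
    (h : RDef.Hom (nodeDef (Art.dual k k) (epsD k) (res_epsD k))
      (nodeDef (Art.dual k k) 0 (res_zero k))) : False := by
  let x : NodeE (Art.dual k k) (epsD k) := Ideal.Quotient.mk _ (X 0)
  let y : NodeE (Art.dual k k) (epsD k) := Ideal.Quotient.mk _ (X 1)
  have hxy : x * y = nodeToE (Art.dual k k) (epsD k) (epsD k) := by
    show Ideal.Quotient.mk _ (X 0) * Ideal.Quotient.mk _ (X 1) = Ideal.Quotient.mk _ (C (epsD k))
    rw [← map_mul, Ideal.Quotient.eq]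
    exact Ideal.subset_span rfl
  let hh : NodeE (Art.dual k k) (epsD k) →+* NodeE (Art.dual k k) 0 := h.hom
  have h1 : hh x * hh y = nodeToE (Art.dual k k) 0 (epsD k) := by
    rw [← map_mul, hxy]
    exact h.hom_toE (epsD k)
  have h3 : θ (hh x) * θ (hh y) = epsD k := by
    rw [← map_mul, h1]
    show θ (Ideal.Quotient.mk _ (C (epsD k))) = _
    rw [θ_mk, eval₂Hom_C]
    rfl
  have hx : (Art.dual k k).res (θ (hh x)) = 0 := by
    rw [res_θ]
    have h4 : nodePr (Art.dual k k) 0 (res_zero k) (hh x) =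
        nodePr (Art.dual k k) (epsD k) (res_epsD k) x := h.pr_hom x
    rw [h4]
    show ev0 (nodePr _ _ _ (Ideal.Quotient.mk _ (X 0))) = 0
    rw [nodePr_mk, map_X, ev0_mk, eval₂Hom_X']
  have hy : (Art.dual k k).res (θ (hh y)) = 0 := by
    rw [res_θ]
    have h4 : nodePr (Art.dual k k) 0 (res_zero k) (hh y) =
        nodePr (Art.dual k k) (epsD k) (res_epsD k) y := h.pr_hom y
    rw [h4]
    show ev0 (nodePr _ _ _ (Ideal.Quotient.mk _ (X 1))) = 0
    rw [nodePr_mk, map_X, ev0_mk, eval₂Hom_X']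
  obtain ⟨c, hc⟩ := (mem_maximalIdeal_dual_iff k _).mp
    ((Art.mem_maximalIdeal_iff _ _).mpr hx)
  obtain ⟨c', hc'⟩ := (mem_maximalIdeal_dual_iff k _).mp
    ((Art.mem_maximalIdeal_iff _ _).mpr hy)
  rw [hc, hc'] at h3
  have h5 : algebraMap k (Art.dual k k) c * epsD k * (algebraMap k (Art.dual k k) c' * epsD k) =
      algebraMap k (Art.dual k k) c * algebraMap k (Art.dual k k) c' * (epsD k * epsD k) := by
    ring
  rw [h5, epsD_mul_epsD, mul_zero] at h3
  exact epsD_ne_zero k h3.symm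

variable (k) in
theorem not_isProrepresentable :
    ¬ ArtFun.IsProrepresentable (ArtFun.defFunctor (Λ := k) (Spec (CommRingCat.of (Node k)))
      (Spec.map (CommRingCat.ofHom (algebraMap k (Node k))))) := by
  rintro ⟨⟨S, ξ, huniv⟩⟩
  have ha₂ : (dd k).res (a₂ k) = 0 := rfl
  -- the deformation `xy = ε` over `k[ε, δ]`
  obtain ⟨φ, hφ⟩ := (huniv (dd k)).2 (nodeDef (dd k) (a₂ k) ha₂).toDefSch.cl
  -- `σ` fixes its class
  have hu : (dd k).res (1 + δ₂ k : DD k) = 1 := by
    rw [dd_res]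
    simp [δ₂]
  have h1 := (nodeHomOver ha₂ ha₂ (σ k) (1 + δ₂ k : DD k) hu (σalg_a₂ k)).map_cl
  have h2 : HomSet.map (σ k) φ = φ := by
    apply (huniv (dd k)).1
    rw [ξ.natural, hφ, h1]
  -- its image over `k[ε]` is `xy = ε`
  have hπ : (π k) (a₂ k) = 1 * epsD k := by
    rw [one_mul]
    rfl
  have h3 := (nodeHomOver ha₂ (res_epsD k) (π k) 1 (map_one _) hπ).map_cl
  have h4 : ξ.app _ (HomSet.map (π k) φ) =
      (nodeDef (Art.dual k k) (epsD k) (res_epsD k)).toDefSch.cl := by
    rw [ξ.natural, hφ, h3]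
  by_cases hs : ∀ s : S.carrier,
      TrivSqZeroExt.snd (TrivSqZeroExt.fst (R := DualNumber k) (M := DualNumber k) (φ.1 s)) = 0
  · -- then `xy = ε` over `k[ε]` would be trivial
    have h5 : HomSet.map (τ k) (HomSet.map (π k) φ) = HomSet.map (π k) φ := by
      apply Subtype.ext
      apply AlgHom.ext
      intro s
      show τ k (π k (φ.1 s)) = π k (φ.1 s)
      rw [τ_apply]
      conv_rhs => rw [dual_eq k (π k (φ.1 s))]
      have h6 : TrivSqZeroExt.snd (R := k) (M := k) (π k (φ.1 s)) = 0 := hs s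
      rw [h6, map_zero, zero_mul, add_zero]
    have hτ : (τ k) (epsD k) = 1 * (0 : (Art.dual k k : Art k k)) := by
      rw [mul_zero, τ_apply, res_epsD, map_zero]
    have h7 := (nodeHomOver (res_epsD k) (res_zero k) (τ k) 1 (map_one _) hτ).map_cl
    have h8 : (nodeDef (Art.dual k k) 0 (res_zero k)).toDefSch.cl =
        (nodeDef (Art.dual k k) (epsD k) (res_epsD k)).toDefSch.cl := by
      rw [← h7, ← h4, ← ξ.natural, h5]
    obtain ⟨h⟩ := RDef.nonempty_hom_of_cl_eq h8
    exact node_contra h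
  · push Not at hs
    obtain ⟨s, hs⟩ := hs
    have h9 : σalg k (φ.1 s) = φ.1 s := congrArg (fun ψ => ψ.1 s) h2
    have h10 := congrArg (fun z => TrivSqZeroExt.snd (TrivSqZeroExt.snd z)) h9
    simp only [σalg_snd_snd] at h10
    exact hs (by simpa using h10)

end Groth.Agent.H6.NodeDef
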