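import Mathlib
import Groth.Prelude
import Groth.Agent.Lib.Helper2.IntegralNhd

/-! Hartogs-type extension of integral sections across a closed subset along which the scheme
is normal. -/

set_option autoImplicit false
universe u
set_option linter.style.haveILetI false
open CategoryTheory CategoryTheory.Limits AlgebraicGeometry TopologicalSpace Opposite

namespace Groth.Agent.H6.NormExt

variable {Y : Scheme.{u}}

lemma res_res {A B C : Y.Opens} (h₁ : A ≤ B) (h₂ : B ≤ C) (s : Γ(Y, C)) :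
    Y.presheaf.map (homOfLE h₁).op (Y.presheaf.map (homOfLE h₂).op s) =
      Y.presheaf.map (homOfLE (h₁.trans h₂)).op s := by
  rw [← CommRingCat.comp_apply, ← Functor.map_comp]
  rfl

/-- pointwise version of `exists_affine_domain_nhd`. -/
theorem exists_affine_domain_nhd [IsLocallyNoetherian Y] (y : Y)
    (hy : IsDomain (Y.presheaf.stalk y)) (V : Y.Opens) (hyV : y ∈ V) :
    ∃ N : Y.Opens, IsAffineOpen N ∧ y ∈ N ∧ N ≤ V ∧ IsDomain Γ(Y, N) := by
  haveI := hy
  obtain ⟨U', hxU', hU'int⟩ := Groth.Agent.H2.exists_integral_nhd_of_isDomain_stalk Y y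
  obtain ⟨N, hNaff, hxN, hNle⟩ :=
    exists_isAffineOpen_mem_and_subset (x := y) (U := V ⊓ U') ⟨hyV, hxU'⟩
  refine ⟨N, hNaff, hxN, fun z hz => (hNle hz).1, ?_⟩
  have e : U'.ι ''ᵁ (U'.ι ⁻¹ᵁ N) = N := by
    rw [Scheme.Hom.image_preimage_eq_opensRange_inf, Scheme.Opens.opensRange_ι]
    exact inf_eq_right.mpr (fun z hz => (hNle hz).2)
  haveI : Nonempty (U'.ι ⁻¹ᵁ N) := ⟨⟨⟨y, hxU'⟩, hxN⟩⟩
  have hd : IsDomain Γ((U' : Scheme.{u}), U'.ι ⁻¹ᵁ N) := inferInstance
  have hd' : IsDomain Γ(Y, U'.ι ''ᵁ (U'.ι ⁻¹ᵁ N)) := hd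
  rw [e] at hd'
  exact hd'

/-- on an affine open with integral coordinate ring, sections over an open are determined by
their restriction to a nonempty basic open. -/
theorem res_injective_of_domain {N : Y.Opens} (hN : IsAffineOpen N) [IsDomain Γ(Y, N)]
    (f : Γ(Y, N)) (hf : f ≠ 0) (Ω : Y.Opens) (hΩN : Ω ≤ N) (hfΩ : Y.basicOpen f ≤ Ω) :
    Function.Injective (Y.presheaf.map (homOfLE hfΩ).op) := by
  rw [injective_iff_map_eq_zero]
  intro d hd
  let S : Type u := {g : Γ(Y, N) // g ≠ 0 ∧ Y.basicOpen g ≤ Ω}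
  refine TopCat.Sheaf.eq_of_locally_eq' Y.sheaf (fun g : S => Y.basicOpen g.1) Ω
    (fun g => homOfLE g.2.2) ?_ d 0 ?_
  · intro z hz
    obtain ⟨g, hg, hzg⟩ := hN.exists_basicOpen_le (V := Ω) ⟨z, hz⟩ (hΩN hz)
    have hg0 : g ≠ 0 := by
      rintro rfl
      rw [Scheme.basicOpen_zero] at hzg
      exact hzg
    exact Opens.mem_iSup.mpr ⟨⟨g, hg0, hg⟩, hzg⟩
  · rintro ⟨g, hg0, hg⟩
    change Y.presheaf.map (homOfLE hg).op d = Y.presheaf.map (homOfLE hg).op 0
    rw [map_zero]
    set dg := Y.presheaf.map (homOfLE hg).op d with hdg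
    set fg := Y.presheaf.map (homOfLE (Y.basicOpen_le g)).op f with hfg
    have hle : Y.basicOpen fg ≤ Y.basicOpen f := by
      rw [hfg, Scheme.basicOpen_res]
      exact inf_le_right
    have H : Y.presheaf.map (homOfLE (Y.basicOpen_le fg)).op dg = 0 := by
      rw [hdg, res_res]
      have h1 : Y.presheaf.map (homOfLE ((Y.basicOpen_le fg).trans hg)).op d =
          Y.presheaf.map (homOfLE hle).op (Y.presheaf.map (homOfLE hfΩ).op d) := by
        rw [res_res]
      rw [h1, hd, map_zero]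
    obtain ⟨n, hn⟩ := exists_pow_mul_eq_zero_of_res_basicOpen_eq_zero_of_isAffineOpen Y
      (hN.basicOpen g) dg fg H
    haveI hloc : IsLocalization.Away g Γ(Y, Y.basicOpen g) := hN.isLocalization_basicOpen g
    have hle' : Submonoid.powers g ≤ nonZeroDivisors Γ(Y, N) :=
      powers_le_nonZeroDivisors_of_noZeroDivisors hg0
    haveI : IsDomain Γ(Y, Y.basicOpen g) :=
      IsLocalization.isDomain_of_le_nonZeroDivisors Γ(Y, Y.basicOpen g) hle'
    have hfg0 : fg ≠ 0 := by
      intro h0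
      apply hf
      have hinj := IsLocalization.injective Γ(Y, Y.basicOpen g) hle'
      apply hinj
      rw [map_zero]
      exact h0
    rcases mul_eq_zero.mp hn with h | h
    · exact absurd h (pow_ne_zero n hfg0)
    · exact h


set_option maxHeartbeats 1600000 in
/-- local extension of integral sections at a normal point of an integral affine open. -/
theorem exists_local_extension {N : Y.Opens} (hN : IsAffineOpen N) [IsDomain Γ(Y, N)] (y : Y)
    (hyN : y ∈ N) [hic : IsIntegrallyClosed (Y.presheaf.stalk y)]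
    (Ω : Y.Opens) (hΩN : Ω ≤ N) (hΩ : (Ω : Set Y).Nonempty) (b : Γ(Y, Ω))
    (hb : (Y.presheaf.map (homOfLE hΩN).op).hom.IsIntegralElem b) :
    ∃ (s c : Γ(Y, N)), y ∈ Y.basicOpen s ∧
      Y.presheaf.map (homOfLE hΩN).op c = Y.presheaf.map (homOfLE hΩN).op s * b := by
  obtain ⟨x, hx⟩ := hΩ
  obtain ⟨f, hfΩ, hxf⟩ := hN.exists_basicOpen_le (V := Ω) ⟨x, hx⟩ (hΩN hx)
  have hf0 : f ≠ 0 := by
    rintro rfl
    rw [Scheme.basicOpen_zero] at hxf
    exact hxf
  -- the rings
  let D := Γ(Y, N)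
  let K := FractionRing D
  let Rf := Γ(Y, Y.basicOpen f)
  haveI hlocf : IsLocalization.Away f Rf := hN.isLocalization_basicOpen f
  have hunitf : ∀ t : Submonoid.powers f, IsUnit (algebraMap D K t) := by
    rintro ⟨_, n, rfl⟩
    rw [map_pow]
    exact (IsUnit.mk0 _ ((map_ne_zero_iff _ (IsFractionRing.injective D K)).mpr hf0)).pow n
  let ιf : Rf →+* K := IsLocalization.lift hunitf
  have hιf : ∀ a : D, ιf (algebraMap D Rf a) = algebraMap D K a := IsLocalization.lift_eq hunitf
  have hιfinj : Function.Injective ιf := by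
    rw [IsLocalization.lift_injective_iff]
    intro a a'
    constructor
    · intro h
      have h1 := congrArg ιf h
      rwa [hιf, hιf] at h1
    · intro h
      rw [IsFractionRing.injective D K h]
  let O := Y.presheaf.stalk y
  letI algO : Algebra D O := TopCat.Presheaf.algebra_section_stalk Y.presheaf ⟨y, hyN⟩
  haveI hlocy : IsLocalization.AtPrime O (hN.primeIdealOf ⟨y, hyN⟩).asIdeal :=
    hN.isLocalization_stalk ⟨y, hyN⟩
  set p := (hN.primeIdealOf ⟨y, hyN⟩).asIdeal with hp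
  have hunity : ∀ t : p.primeCompl, IsUnit (algebraMap D K t) := by
    rintro ⟨t, ht⟩
    apply IsUnit.mk0
    rw [map_ne_zero_iff _ (IsFractionRing.injective D K)]
    rintro rfl
    exact ht p.zero_mem
  let ιy : O →+* K := IsLocalization.lift hunity
  have hιy : ∀ a : D, ιy (algebraMap D O a) = algebraMap D K a := IsLocalization.lift_eq hunity
  letI algOK : Algebra O K := ιy.toAlgebra
  haveI : IsScalarTower D O K := IsScalarTower.of_algebraMap_eq (fun a => (hιy a).symm)
  haveI : IsFractionRing O K :=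
    IsFractionRing.isFractionRing_of_isDomain_of_isLocalization p.primeCompl O K
  -- the element `β`
  let bf : Rf := Y.presheaf.map (homOfLE hfΩ).op b
  let β : K := ιf bf
  have hβint : IsIntegral D β := by
    obtain ⟨P, hPm, hP⟩ := hb
    refine ⟨P, hPm, ?_⟩
    let ψ : Γ(Y, Ω) →+* K := ιf.comp (Y.presheaf.map (homOfLE hfΩ).op).hom
    have h1 := congrArg ψ hP
    rw [Polynomial.hom_eval₂, map_zero] at h1
    have h2 : ψ.comp (Y.presheaf.map (homOfLE hΩN).op).hom = algebraMap D K := by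
      ext a
      change ιf (Y.presheaf.map (homOfLE hfΩ).op (Y.presheaf.map (homOfLE hΩN).op a)) = _
      rw [res_res]
      exact hιf a
    rw [h2] at h1
    exact h1
  have hβint' : IsIntegral O β := hβint.tower_top
  obtain ⟨γ, hγ⟩ := IsIntegrallyClosed.isIntegral_iff.mp hβint'
  obtain ⟨⟨c, ⟨s, hs⟩⟩, hcs⟩ := IsLocalization.mk'_surjective p.primeCompl γ
  have h3 : γ * algebraMap D O s = algebraMap D O c := by
    rw [← hcs]
    exact IsLocalization.mk'_spec O c ⟨s, hs⟩
  have h4 : β * algebraMap D K s = algebraMap D K c := by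
    have := congrArg ιy h3
    rw [map_mul, hιy, hιy] at this
    rw [← hγ]
    exact this
  have h5 : bf * algebraMap D Rf s = algebraMap D Rf c := by
    apply hιfinj
    rw [map_mul, hιf, hιf]
    exact h4
  refine ⟨s, c, ?_, ?_⟩
  · rw [Scheme.mem_basicOpen Y s y hyN]
    exact IsLocalization.map_units O (⟨s, hs⟩ : p.primeCompl)
  · apply res_injective_of_domain hN f hf0 Ω hΩN hfΩ
    rw [map_mul, res_res, res_res]
    rw [mul_comm]
    exact h5.symm


section Main

variable [IsLocallyNoetherian Y] (W : Y.Opens) (hW : Dense (W : Set Y))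
  (hN : ∀ y : Y, y ∉ W →
    IsDomain (Y.presheaf.stalk y) ∧ IsIntegrallyClosed (Y.presheaf.stalk y))

include hW hN in
/-- sections are determined on the dense open `W`. -/
theorem res_injective (V : Y.Opens) :
    Function.Injective (Y.presheaf.map (homOfLE (inf_le_left : V ⊓ W ≤ V)).op) := by
  rw [injective_iff_map_eq_zero]
  intro t ht
  have hloc : ∀ y : V, ∃ (O : Y.Opens) (hO : O ≤ V), y.1 ∈ O ∧
      Y.presheaf.map (homOfLE hO).op t = 0 := by
    rintro ⟨y, hyV⟩
    by_cases hyW : y ∈ W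
    · exact ⟨V ⊓ W, inf_le_left, ⟨hyV, hyW⟩, ht⟩
    · obtain ⟨N, hNaff, hyN, hNV, hNd⟩ := exists_affine_domain_nhd y (hN y hyW).1 V hyV
      haveI := hNd
      obtain ⟨x, hxN, hxW⟩ := hW.inter_open_nonempty N N.2 ⟨y, hyN⟩
      obtain ⟨f, hfle, hxf⟩ := hNaff.exists_basicOpen_le (V := N ⊓ W) ⟨x, ⟨hxN, hxW⟩⟩ hxN
      have hf0 : f ≠ 0 := by
        rintro rfl
        rw [Scheme.basicOpen_zero] at hxf
        exact hxf
      refine ⟨N, hNV, hyN, ?_⟩
      apply res_injective_of_domain hNaff f hf0 N le_rfl (Y.basicOpen_le f)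
      rw [res_res, map_zero]
      have h1 : Y.presheaf.map (homOfLE ((Y.basicOpen_le f).trans hNV)).op t =
          Y.presheaf.map (homOfLE (hfle.trans (inf_le_inf_right W hNV))).op
            (Y.presheaf.map (homOfLE (inf_le_left : V ⊓ W ≤ V)).op t) := by
        rw [res_res]
      rw [h1, ht, map_zero]
  choose O hO hyO hOt using hloc
  refine TopCat.Sheaf.eq_of_locally_eq' Y.sheaf O V (fun y => homOfLE (hO y)) ?_ t 0 ?_
  · intro y hy
    exact Opens.mem_iSup.mpr ⟨⟨y, hy⟩, hyO ⟨y, hy⟩⟩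
  · intro y
    change Y.presheaf.map (homOfLE (hO y)).op t = Y.presheaf.map (homOfLE (hO y)).op 0
    rw [map_zero]
    exact hOt y

include hW hN in
/-- **Lemma N**: a section over `V ⊓ W` which is integral over `Γ(V)` extends to `V`. -/
theorem exists_extension_of_isIntegral (V : Y.Opens) (b : Γ(Y, V ⊓ W))
    (hb : (Y.presheaf.map (homOfLE (inf_le_left : V ⊓ W ≤ V)).op).hom.IsIntegralElem b) :
    ∃ c : Γ(Y, V), Y.presheaf.map (homOfLE (inf_le_left : V ⊓ W ≤ V)).op c = b := by
  have hloc : ∀ y : V, ∃ (O : Y.Opens) (hO : O ≤ V) (_ : y.1 ∈ O) (c : Γ(Y, O)),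
      Y.presheaf.map (homOfLE (inf_le_left : O ⊓ W ≤ O)).op c =
        Y.presheaf.map (homOfLE (inf_le_inf_right W hO)).op b := by
    rintro ⟨y, hyV⟩
    by_cases hyW : y ∈ W
    · refine ⟨V ⊓ W, inf_le_left, ⟨hyV, hyW⟩, b, ?_⟩
      rfl
    · obtain ⟨N, hNaff, hyN, hNV, hNd⟩ := exists_affine_domain_nhd y (hN y hyW).1 V hyV
      haveI := hNd
      haveI := (hN y hyW).2
      obtain ⟨x, hxN, hxW⟩ := hW.inter_open_nonempty N N.2 ⟨y, hyN⟩
      set bN : Γ(Y, N ⊓ W) := Y.presheaf.map (homOfLE (inf_le_inf_right W hNV)).op b with hbN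
      have hbNint : (Y.presheaf.map (homOfLE (inf_le_left : N ⊓ W ≤ N)).op).hom.IsIntegralElem
          bN := by
        obtain ⟨P, hPm, hP⟩ := hb
        refine ⟨P.map (Y.presheaf.map (homOfLE hNV).op).hom, hPm.map _, ?_⟩
        rw [Polynomial.eval₂_map]
        have h1 := congrArg (Y.presheaf.map (homOfLE (inf_le_inf_right W hNV)).op).hom hP
        rw [Polynomial.hom_eval₂, map_zero] at h1
        have h2 : (Y.presheaf.map (homOfLE (inf_le_inf_right W hNV)).op).hom.comp
            (Y.presheaf.map (homOfLE (inf_le_left : V ⊓ W ≤ V)).op).hom =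
            (Y.presheaf.map (homOfLE (inf_le_left : N ⊓ W ≤ N)).op).hom.comp
              (Y.presheaf.map (homOfLE hNV).op).hom := by
          ext a
          change Y.presheaf.map _ (Y.presheaf.map _ a) = Y.presheaf.map _ (Y.presheaf.map _ a)
          rw [res_res, res_res]
        rw [h2] at h1
        exact h1
      obtain ⟨s, c, hys, hsc⟩ := exists_local_extension hNaff y hyN (N ⊓ W) inf_le_left
        ⟨x, hxN, hxW⟩ bN hbNint
      have hsN : Y.basicOpen s ≤ N := Y.basicOpen_le s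
      have hu : IsUnit (Y.presheaf.map (homOfLE hsN).op s) :=
        RingedSpace.isUnit_res_basicOpen _ s
      obtain ⟨u, hu'⟩ := hu
      refine ⟨Y.basicOpen s, hsN.trans hNV, hys,
        (↑u⁻¹ : Γ(Y, Y.basicOpen s)) * Y.presheaf.map (homOfLE hsN).op c, ?_⟩
      have hsW : Y.basicOpen s ⊓ W ≤ N ⊓ W := inf_le_inf_right W hsN
      have h3 := congrArg (Y.presheaf.map (homOfLE hsW).op) hsc
      rw [map_mul, res_res, res_res, hbN, res_res] at h3
      -- restrict the unit
      have h4 : Y.presheaf.map (homOfLE (inf_le_left : Y.basicOpen s ⊓ W ≤ Y.basicOpen s)).op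
          (↑u : Γ(Y, Y.basicOpen s)) =
          Y.presheaf.map (homOfLE (hsW.trans inf_le_left)).op s := by
        rw [hu', res_res]
      rw [map_mul, res_res]
      have h5 : Y.presheaf.map (homOfLE (inf_le_left : Y.basicOpen s ⊓ W ≤ Y.basicOpen s)).op
          (↑u⁻¹ : Γ(Y, Y.basicOpen s)) *
          Y.presheaf.map (homOfLE (inf_le_left : Y.basicOpen s ⊓ W ≤ Y.basicOpen s)).op
          (↑u : Γ(Y, Y.basicOpen s)) = 1 := by
        rw [← map_mul, Units.inv_mul, map_one]
      calc Y.presheaf.map (homOfLE (inf_le_left : Y.basicOpen s ⊓ W ≤ Y.basicOpen s)).op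
            (↑u⁻¹ : Γ(Y, Y.basicOpen s)) *
            Y.presheaf.map (homOfLE (inf_le_left.trans hsN)).op c
          = Y.presheaf.map (homOfLE (inf_le_left : Y.basicOpen s ⊓ W ≤ Y.basicOpen s)).op
            (↑u⁻¹ : Γ(Y, Y.basicOpen s)) *
            (Y.presheaf.map (homOfLE (hsW.trans inf_le_left)).op s *
              Y.presheaf.map (homOfLE (hsW.trans (inf_le_inf_right W hNV))).op b) := by
            rw [← h3]
        _ = (Y.presheaf.map (homOfLE (inf_le_left : Y.basicOpen s ⊓ W ≤ Y.basicOpen s)).op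
            (↑u⁻¹ : Γ(Y, Y.basicOpen s)) *
            Y.presheaf.map (homOfLE (inf_le_left : Y.basicOpen s ⊓ W ≤ Y.basicOpen s)).op
            (↑u : Γ(Y, Y.basicOpen s))) *
              Y.presheaf.map (homOfLE (hsW.trans (inf_le_inf_right W hNV))).op b := by
            rw [h4, mul_assoc]
        _ = Y.presheaf.map (homOfLE (inf_le_inf_right W (hsN.trans hNV))).op b := by
            rw [h5, one_mul]
  choose O hO hyO c hc using hloc
  have hcompat : ∀ i j : V,
      Y.presheaf.map (homOfLE (inf_le_left : O i ⊓ O j ≤ O i)).op (c i) =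
        Y.presheaf.map (homOfLE (inf_le_right : O i ⊓ O j ≤ O j)).op (c j) := by
    intro i j
    apply res_injective W hW hN (O i ⊓ O j)
    rw [res_res, res_res]
    have e1 : (O i ⊓ O j) ⊓ W ≤ O i ⊓ W := inf_le_inf_right W inf_le_left
    have e2 : (O i ⊓ O j) ⊓ W ≤ O j ⊓ W := inf_le_inf_right W inf_le_right
    have h1 := congrArg (Y.presheaf.map (homOfLE e1).op) (hc i)
    have h2 := congrArg (Y.presheaf.map (homOfLE e2).op) (hc j)
    rw [res_res, res_res] at h1 h2
    exact h1.trans h2.symm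
  obtain ⟨s, hs, -⟩ := TopCat.Sheaf.existsUnique_gluing' Y.sheaf O V
    (fun i => homOfLE (hO i)) (fun y hy => Opens.mem_iSup.mpr ⟨⟨y, hy⟩, hyO ⟨y, hy⟩⟩) c
    (fun i j => hcompat i j)
  refine ⟨s, ?_⟩
  refine TopCat.Sheaf.eq_of_locally_eq' Y.sheaf (fun i : V => O i ⊓ W) (V ⊓ W)
    (fun i => homOfLE (inf_le_inf_right W (hO i))) ?_ _ _ ?_
  · rintro y ⟨hyV, hyW⟩
    exact Opens.mem_iSup.mpr ⟨⟨y, hyV⟩, hyO ⟨y, hyV⟩, hyW⟩
  · intro i
    change Y.presheaf.map (homOfLE (inf_le_inf_right W (hO i))).op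
      (Y.presheaf.map (homOfLE (inf_le_left : V ⊓ W ≤ V)).op s) =
      Y.presheaf.map (homOfLE (inf_le_inf_right W (hO i))).op b
    rw [res_res, ← hc i]
    have hsi : Y.presheaf.map (homOfLE (hO i)).op s = c i := hs i
    rw [← hsi, res_res]

end Main

end Groth.Agent.H6.NormExt
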