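import Mathlib
import Groth.Prelude
import Groth.Agent.Lib.Helper6.NormExt1
import Groth.Agent.Lib.Helper1.AffExt
import Groth.Agent.Lib.Helper1.FEtDepth2
import Groth.Agent.Lib.Helper1.EtStalk

/-! Extension of sections of integral morphisms across closed subsets along which the scheme is
normal, and full faithfulness of restriction of finite étale covers. -/

set_option autoImplicit false
universe u
set_option backward.isDefEq.respectTransparency.types false
set_option linter.style.haveILetI false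
open CategoryTheory CategoryTheory.Limits AlgebraicGeometry TopologicalSpace Opposite

namespace Groth.Agent.H6.NormExt

section Sch

variable {X : Scheme.{u}} [IsLocallyNoetherian X] (U : X.Opens) (hU : Dense (U : Set X))
  (hN : ∀ x : X, x ∉ U →
    IsDomain (X.presheaf.stalk x) ∧ IsIntegrallyClosed (X.presheaf.stalk x))

omit [IsLocallyNoetherian X] in
theorem top_inf_eq_image : (⊤ : X.Opens) ⊓ U = U.ι ''ᵁ ⊤ := by
  rw [top_inf_eq, Scheme.Opens.ι_image_top]

omit [IsLocallyNoetherian X] in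
theorem ι_appTop_eq : U.ι.appTop = X.presheaf.map (homOfLE (inf_le_left : ⊤ ⊓ U ≤ ⊤)).op ≫
    X.presheaf.map (eqToHom (top_inf_eq_image U).symm).op := by
  rw [Scheme.Opens.ι_appTop, ← Functor.map_comp]
  rfl

include hU hN in
theorem ι_appTop_injective : Function.Injective U.ι.appTop := by
  have h1 := res_injective U hU hN ⊤
  rw [ι_appTop_eq U]
  have h3 : Function.Bijective (X.presheaf.map (eqToHom (top_inf_eq_image U).symm).op) :=
    ConcreteCategory.bijective_of_isIso _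
  exact h3.1.comp h1

include hU hN in
theorem exists_appTop_eq (b : Γ((U : Scheme.{u}), ⊤)) (hb : U.ι.appTop.hom.IsIntegralElem b) :
    ∃ c, U.ι.appTop c = b := by
  let E := X.presheaf.map (eqToHom (top_inf_eq_image U).symm).op
  let E' := X.presheaf.map (eqToHom (top_inf_eq_image U)).op
  have hEE' : ∀ t, E (E' t) = t := by
    intro t
    change (E' ≫ E) t = t
    rw [← Functor.map_comp]
    have : (eqToHom (top_inf_eq_image U)).op ≫ (eqToHom (top_inf_eq_image U).symm).op = 𝟙 _ :=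
      rfl
    rw [this, X.presheaf.map_id]
    rfl
  have hE'E : ∀ t, E' (E t) = t := by
    intro t
    change (E ≫ E') t = t
    rw [← Functor.map_comp]
    have : (eqToHom (top_inf_eq_image U).symm).op ≫ (eqToHom (top_inf_eq_image U)).op = 𝟙 _ :=
      rfl
    rw [this, X.presheaf.map_id]
    rfl
  have hr : ∀ t, E' (U.ι.appTop t) =
      X.presheaf.map (homOfLE (inf_le_left : ⊤ ⊓ U ≤ ⊤)).op t := by
    intro t
    rw [ι_appTop_eq U]
    exact hE'E _
  obtain ⟨P, hP, hPb⟩ := hb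
  have hb' : (X.presheaf.map (homOfLE (inf_le_left : (⊤ : X.Opens) ⊓ U ≤ ⊤)).op).hom.IsIntegralElem
      (E' b) := by
    refine ⟨P, hP, ?_⟩
    have h1 : Polynomial.eval₂ (E'.hom.comp U.ι.appTop.hom) (E'.hom b) P = 0 :=
      (Polynomial.hom_eval₂ P U.ι.appTop.hom E'.hom b).symm.trans
        ((congrArg E'.hom hPb).trans (map_zero _))
    have h2 : E'.hom.comp U.ι.appTop.hom =
        (X.presheaf.map (homOfLE (inf_le_left : (⊤ : X.Opens) ⊓ U ≤ ⊤)).op).hom := by
      ext t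
      exact hr t
    rw [h2] at h1
    exact h1
  obtain ⟨c, hc⟩ := exists_extension_of_isIntegral U hU hN ⊤ (E' b) hb'
  refine ⟨c, ?_⟩
  rw [ι_appTop_eq U]
  change E (X.presheaf.map (homOfLE (inf_le_left : (⊤ : X.Opens) ⊓ U ≤ ⊤)).op c) = b
  rw [hc, hEE']

include hU hN in
/-- morphisms to an affine scheme defined on `U`, with integral coordinate functions, extend. -/
theorem exists_extension (Y : Scheme.{u}) [IsAffine Y] (f : (U : Scheme.{u}) ⟶ Y)
    (hf : ∀ a : Γ(Y, ⊤), U.ι.appTop.hom.IsIntegralElem (f.appTop a)) :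
    ∃ g : X ⟶ Y, U.ι ≫ g = f := by
  have hinj := ι_appTop_injective U hU hN
  choose c hc using fun a => exists_appTop_eq U hU hN (f.appTop a) (hf a)
  let ψ : Γ(Y, ⊤) →+* Γ(X, ⊤) :=
    { toFun := c
      map_one' := hinj (by rw [hc, map_one, map_one])
      map_mul' := fun a b => hinj (by rw [hc, map_mul, map_mul, hc, hc])
      map_zero' := hinj (by rw [hc, map_zero, map_zero])
      map_add' := fun a b => hinj (by rw [hc, map_add, map_add, hc, hc]) }
  have hψ : CommRingCat.ofHom ψ ≫ U.ι.appTop = f.appTop := by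
    ext a
    exact hc a
  refine ⟨X.toSpecΓ ≫ Spec.map (CommRingCat.ofHom ψ) ≫ Y.isoSpec.inv, ?_⟩
  rw [Scheme.toSpecΓ_naturality_assoc, ← Spec.map_comp_assoc, hψ,
    ← Scheme.toSpecΓ_naturality_assoc]
  have : Y.toSpecΓ = Y.isoSpec.hom := rfl
  rw [this, Iso.hom_inv_id, Category.comp_id]

include hU hN in
theorem extension_unique (Y : Scheme.{u}) [IsAffine Y] (g g' : X ⟶ Y)
    (h : U.ι ≫ g = U.ι ≫ g') : g = g' := by
  have hinj := ι_appTop_injective U hU hN
  apply ext_of_isAffine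
  have h1 : (U.ι ≫ g).appTop = (U.ι ≫ g').appTop := by rw [h]
  rw [Scheme.Hom.comp_appTop, Scheme.Hom.comp_appTop] at h1
  ext a
  apply hinj
  have := congrArg (fun φ => φ a) (congrArg (fun φ => ⇑(CommRingCat.Hom.hom φ)) h1)
  exact this

end Sch

section Ext

variable {Y : Scheme.{u}} [IsLocallyNoetherian Y] (W : Y.Opens) (hW : Dense (W : Set Y))
  (hN : ∀ y : Y, y ∉ W →
    IsDomain (Y.presheaf.stalk y) ∧ IsIntegrallyClosed (Y.presheaf.stalk y))
  {Z : Scheme.{u}} (p : Z ⟶ Y) [IsIntegralHom p] (g : (W : Scheme.{u}) ⟶ Z) (hg : g ≫ p = W.ι)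

include hW hN hg in
theorem exists_local (V : Y.Opens) (hV : IsAffineOpen V) :
    ∃ t : (V : Scheme.{u}) ⟶ Z, t ≫ p = V.ι ∧ (V.ι ⁻¹ᵁ W).ι ≫ t = (V.ι ∣_ W) ≫ g := by
  have hZV : IsAffineOpen (p ⁻¹ᵁ V) := hV.preimage p
  haveI : IsAffine ((p ⁻¹ᵁ V : Z.Opens) : Scheme.{u}) := hZV
  haveI : IsAffine (V : Scheme.{u}) := hV
  have hrange : Set.range ((V.ι ∣_ W) ≫ g).base ⊆ Set.range (p ⁻¹ᵁ V).ι.base := by
    rintro _ ⟨x, rfl⟩
    rw [Scheme.Opens.range_ι]
    change p (((V.ι ∣_ W) ≫ g) x) ∈ V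
    rw [← Scheme.Hom.comp_apply, Category.assoc, hg, morphismRestrict_ι, Scheme.Hom.comp_apply]
    exact (x.1).2
  let gV : ((V.ι ⁻¹ᵁ W : (V : Scheme.{u}).Opens) : Scheme.{u}) ⟶
      ((p ⁻¹ᵁ V : Z.Opens) : Scheme.{u}) :=
    IsOpenImmersion.lift (p ⁻¹ᵁ V).ι ((V.ι ∣_ W) ≫ g) hrange
  have hgV : gV ≫ (p ⁻¹ᵁ V).ι = (V.ι ∣_ W) ≫ g := IsOpenImmersion.lift_fac _ _ _
  have hU' : Dense ((V.ι ⁻¹ᵁ W : (V : Scheme.{u}).Opens) : Set (V : Scheme.{u})) :=
    hW.preimage V.ι.isOpenEmbedding.isOpenMap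
  have h' : ∀ z : (V : Scheme.{u}), z ∉ V.ι ⁻¹ᵁ W →
      IsDomain ((V : Scheme.{u}).presheaf.stalk z) ∧
        IsIntegrallyClosed ((V : Scheme.{u}).presheaf.stalk z) := by
    intro z hz
    obtain ⟨h1, h2⟩ := hN z.1 hz
    let e : (V : Scheme.{u}).presheaf.stalk z ≃+* Y.presheaf.stalk z.1 :=
      (V.stalkIso z).commRingCatIsoToRingEquiv
    exact ⟨e.toMulEquiv.isDomain, IsIntegrallyClosed.of_equiv e.symm⟩
  have hgp : gV ≫ (p ∣_ V) = (V.ι ⁻¹ᵁ W).ι := by
    rw [← cancel_mono V.ι, Category.assoc, morphismRestrict_ι, reassoc_of% hgV, hg,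
      morphismRestrict_ι]
  have hint : ∀ a : Γ(((p ⁻¹ᵁ V : Z.Opens) : Scheme.{u}), ⊤),
      (V.ι ⁻¹ᵁ W).ι.appTop.hom.IsIntegralElem (gV.appTop a) := by
    intro a
    haveI : IsIntegralHom (p ∣_ V) := IsZariskiLocalAtTarget.restrict ‹_› V
    have h1 : ((p ∣_ V).app ⊤).hom.IsIntegral :=
      IsIntegralHom.isIntegral_app (p ∣_ V) ⊤ (isAffineOpen_top _)
    obtain ⟨P, hP, hPa⟩ := h1 a
    refine ⟨P, hP, ?_⟩
    have h2 : Polynomial.eval₂ (gV.appTop.hom.comp ((p ∣_ V).app ⊤).hom) (gV.appTop.hom a) P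
        = 0 :=
      (Polynomial.hom_eval₂ P ((p ∣_ V).app ⊤).hom gV.appTop.hom a).symm.trans
        ((congrArg gV.appTop.hom hPa).trans (map_zero _))
    have h3 : gV.appTop.hom.comp ((p ∣_ V).app ⊤).hom = (V.ι ⁻¹ᵁ W).ι.appTop.hom := by
      rw [← hgp, Scheme.Hom.comp_appTop]
      rfl
    rw [h3] at h2
    exact h2
  obtain ⟨sV, hsV⟩ := exists_extension (X := (V : Scheme.{u})) (V.ι ⁻¹ᵁ W) hU' h'
    ((p ⁻¹ᵁ V : Z.Opens) : Scheme.{u}) gV hint
  have h1 : sV ≫ (p ∣_ V) = 𝟙 _ := by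
    apply extension_unique (X := (V : Scheme.{u})) (V.ι ⁻¹ᵁ W) hU' h' (V : Scheme.{u})
    rw [reassoc_of% hsV, hgp, Category.comp_id]
  refine ⟨sV ≫ (p ⁻¹ᵁ V).ι, ?_, ?_⟩
  · rw [Category.assoc, ← morphismRestrict_ι, reassoc_of% h1]
  · rw [reassoc_of% hsV, hgV]

include hW hN in
theorem isSchemeTheoreticallyDominant_ι : IsSchemeTheoreticallyDominant W.ι :=
  ⟨Groth.Agent.H5.AlgSp.ker_eq_bot_of_isSchematicallyDense
    (fun V => res_injective W hW hN V)⟩

include hW hN hg in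
/-- a section over a dense open `W` of an integral morphism extends to a section, if the base
is normal at the points outside `W`. -/
theorem exists_section : ∃ s : Y ⟶ Z, s ≫ p = 𝟙 Y ∧ W.ι ≫ s = g := by
  have hloc := fun V : Y.affineOpens => exists_local W hW hN p g hg V.1 V.2
  choose t ht1 ht2 using hloc
  have key : ∀ (V : Y.affineOpens) {T : Scheme.{u}} (a : T ⟶ (V.1 : Scheme.{u}))
      (b : T ⟶ (W : Scheme.{u})), a ≫ V.1.ι = b ≫ W.ι → a ≫ t V = b ≫ g := by
    intro V T a b hab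
    have sq := isPullback_morphismRestrict V.1.ι W
    have h1 : sq.lift b a hab.symm ≫ (V.1.ι ⁻¹ᵁ W).ι = a := sq.lift_snd _ _ _
    have h2 : sq.lift b a hab.symm ≫ (V.1.ι ∣_ W) = b := sq.lift_fst _ _ _
    rw [← h1, Category.assoc, ht2 V, reassoc_of% h2]
  haveI := isSchemeTheoreticallyDominant_ι W hW hN
  have hcompat : ∀ i j : Y.affineOpens,
      pullback.fst i.1.ι j.1.ι ≫ t i = pullback.snd i.1.ι j.1.ι ≫ t j := by
    intro i j
    have hq : Flat (pullback.fst i.1.ι j.1.ι ≫ i.1.ι) := inferInstance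
    refine Groth.Agent.H1.AffExt.ext_of_isSchemeTheoreticallyDominant_of_isSeparated p ?_
      (pullback.fst (pullback.fst i.1.ι j.1.ι ≫ i.1.ι) W.ι) ?_
    · rw [Category.assoc, Category.assoc, ht1 i, ht1 j]
      exact pullback.condition
    · rw [← Category.assoc, ← Category.assoc]
      rw [key i (pullback.fst (pullback.fst i.1.ι j.1.ι ≫ i.1.ι) W.ι ≫
          pullback.fst i.1.ι j.1.ι)
        (pullback.snd (pullback.fst i.1.ι j.1.ι ≫ i.1.ι) W.ι) ?_,
        key j (pullback.fst (pullback.fst i.1.ι j.1.ι ≫ i.1.ι) W.ι ≫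
          pullback.snd i.1.ι j.1.ι)
        (pullback.snd (pullback.fst i.1.ι j.1.ι ≫ i.1.ι) W.ι) ?_]
      · rw [Category.assoc]
        have h1 : pullback.snd i.1.ι j.1.ι ≫ j.1.ι = pullback.fst i.1.ι j.1.ι ≫ i.1.ι :=
          pullback.condition.symm
        rw [h1]
        exact pullback.condition
      · rw [Category.assoc]
        exact pullback.condition
  let 𝒰 : Y.OpenCover := Y.openCoverOfIsOpenCover (fun V : Y.affineOpens => V.1)
    (iSup_affineOpens_eq_top Y)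
  refine ⟨𝒰.glueMorphisms t hcompat, ?_, ?_⟩
  · refine Scheme.Cover.hom_ext 𝒰 _ _ fun i => ?_
    rw [Scheme.Cover.ι_glueMorphisms_assoc, Category.comp_id]
    exact ht1 i
  · refine Scheme.Cover.hom_ext (𝒰.pullback₁ W.ι) _ _ fun i => ?_
    change pullback.fst W.ι (𝒰.f i) ≫ W.ι ≫ 𝒰.glueMorphisms t hcompat =
      pullback.fst W.ι (𝒰.f i) ≫ g
    rw [pullback.condition_assoc, Scheme.Cover.ι_glueMorphisms]
    exact key i _ _ pullback.condition.symm

end Ext

theorem exists_section_of_etale {X P T : Scheme.{u}} [IsLocallyNoetherian X] (U : X.Opens)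
    (hU : Dense (U : Set X))
    (h : ∀ x : X, x ∉ U →
      IsDomain (X.presheaf.stalk x) ∧ IsIntegrallyClosed (X.presheaf.stalk x))
    (π : P ⟶ X) [Etale π] (q : T ⟶ X) [IsIntegralHom q]
    (σ : pullback π U.ι ⟶ pullback π q) (hσ : σ ≫ pullback.fst π q = pullback.fst π U.ι) :
    ∃ s : P ⟶ pullback π q, s ≫ pullback.fst π q = 𝟙 _ ∧ pullback.fst π U.ι ≫ s = σ := by
  haveI : IsLocallyNoetherian P := LocallyOfFiniteType.isLocallyNoetherian π
  have sq := isPullback_morphismRestrict π U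
  have hd : Dense ((π ⁻¹ᵁ U : P.Opens) : Set P) := hU.preimage π.isOpenMap
  have hnorm : ∀ y : P, y ∉ π ⁻¹ᵁ U →
      IsDomain (P.presheaf.stalk y) ∧ IsIntegrallyClosed (P.presheaf.stalk y) := by
    intro y hy
    obtain ⟨h1, h2⟩ := h (π y) hy
    exact Groth.Agent.H1.EtStalk.normal_stalk_of_etale π y
  have hcond : (π ⁻¹ᵁ U).ι ≫ π = (π ∣_ U) ≫ U.ι := sq.w.symm
  have hg : (pullback.lift (π ⁻¹ᵁ U).ι (π ∣_ U) hcond ≫ σ) ≫
      pullback.fst π q = (π ⁻¹ᵁ U).ι := by
    rw [Category.assoc, hσ, pullback.lift_fst]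
  haveI : IsIntegralHom (pullback.fst π q) :=
    MorphismProperty.pullback_fst (P := @IsIntegralHom) π q inferInstance
  obtain ⟨s, hs1, hs2⟩ := exists_section (π ⁻¹ᵁ U) hd hnorm
    (pullback.fst π q) _ hg
  refine ⟨s, hs1, ?_⟩
  have h1 : sq.lift (pullback.snd π U.ι) (pullback.fst π U.ι) pullback.condition.symm ≫
      (π ⁻¹ᵁ U).ι = pullback.fst π U.ι := sq.lift_snd _ _ _
  have h2 : sq.lift (pullback.snd π U.ι) (pullback.fst π U.ι) pullback.condition.symm ≫
      (π ∣_ U) = pullback.snd π U.ι := sq.lift_fst _ _ _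
  have h3 : sq.lift (pullback.snd π U.ι) (pullback.fst π U.ι) pullback.condition.symm ≫
      pullback.lift (π ⁻¹ᵁ U).ι (π ∣_ U) hcond = 𝟙 _ := by
    apply pullback.hom_ext
    · rw [Category.assoc, pullback.lift_fst, h1, Category.id_comp]
    · rw [Category.assoc, pullback.lift_snd, h2, Category.id_comp]
  rw [← h1, Category.assoc, hs2, reassoc_of% h3]

/-- **NF**: restriction of finite étale covers to a dense open is full when the scheme is
normal at the points of the complement. -/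
theorem full_restrict {X : Scheme.{u}} [IsLocallyNoetherian X] (U : X.Opens)
    (hU : Dense (U : Set X))
    (h : ∀ x : X, x ∉ U →
      IsDomain (X.presheaf.stalk x) ∧ IsIntegrallyClosed (X.presheaf.stalk x)) :
    (FEt.restrict U.ι).Full := by
  apply Groth.Agent.Lib.Helper1.FEtFull.full_restrict_of_sections
  intro P Q σ hσ
  haveI : IsFinite (show P.left ⟶ X from P.hom) := P.prop.1
  haveI : Etale (show P.left ⟶ X from P.hom) := P.prop.2
  haveI : IsFinite (show Q.left ⟶ X from Q.hom) := Q.prop.1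
  exact exists_section_of_etale U hU h (show P.left ⟶ X from P.hom)
    (show Q.left ⟶ X from Q.hom) σ hσ

theorem fullyFaithful_restrict {X : Scheme.{u}} [IsLocallyNoetherian X] (U : X.Opens)
    (hU : Dense (U : Set X))
    (h : ∀ x : X, x ∉ U →
      IsDomain (X.presheaf.stalk x) ∧ IsIntegrallyClosed (X.presheaf.stalk x)) :
    (FEt.restrict U.ι).Full ∧ (FEt.restrict U.ι).Faithful :=
  ⟨full_restrict U hU h, Groth.Agent.H1.FEtDepth2.faithful_restrict U hU⟩

end Groth.Agent.H6.NormExt
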