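import Mathlib
import Groth.Prelude
import Groth.Agent.Lib.Helper6.NormExt1

/-! Lemma N for open immersions with dense image, and the integral closure of a ring in the
sections over the dense open. -/

set_option autoImplicit false
universe u
set_option backward.isDefEq.respectTransparency.types false
set_option linter.style.haveILetI false
open CategoryTheory CategoryTheory.Limits AlgebraicGeometry TopologicalSpace Opposite

namespace Groth.Agent.H6.NormExt

section Gen

variable {Y : Scheme.{u}} [IsLocallyNoetherian Y] (W : Y.Opens) (hW : Dense (W : Set Y))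
  (hN : ∀ y : Y, y ∉ W →
    IsDomain (Y.presheaf.stalk y) ∧ IsIntegrallyClosed (Y.presheaf.stalk y))

include hW hN in
theorem res_injective' (V O : Y.Opens) (hOV : O ≤ V) (hO : O = V ⊓ W) :
    Function.Injective (Y.presheaf.map (homOfLE hOV).op) := by
  subst hO
  exact res_injective W hW hN V

include hW hN in
theorem exists_extension_of_isIntegral' (V O : Y.Opens) (hOV : O ≤ V) (hO : O = V ⊓ W)
    (b : Γ(Y, O)) (hb : (Y.presheaf.map (homOfLE hOV).op).hom.IsIntegralElem b) :
    ∃ c : Γ(Y, V), Y.presheaf.map (homOfLE hOV).op c = b := by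
  subst hO
  exact exists_extension_of_isIntegral W hW hN V b hb

end Gen

section OI

variable {Y W' : Scheme.{u}} [IsLocallyNoetherian Y] (f : W' ⟶ Y) [IsOpenImmersion f]
  (hW : Dense (Set.range f))
  (hN : ∀ y : Y, y ∉ Set.range f →
    IsDomain (Y.presheaf.stalk y) ∧ IsIntegrallyClosed (Y.presheaf.stalk y))

omit [IsLocallyNoetherian Y] in
theorem app_eq (V : Y.Opens) :
    f.app V = Y.presheaf.map (homOfLE (f.image_preimage_le V)).op ≫
      (f.appIso (f ⁻¹ᵁ V)).hom := by
  exact (Iso.comp_inv_eq _).mp (Scheme.Hom.app_appIso_inv f V)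

include hW hN in
theorem app_injective (V : Y.Opens) : Function.Injective (f.app V) := by
  have h1 := res_injective' f.opensRange hW hN V (f ''ᵁ f ⁻¹ᵁ V) (f.image_preimage_le V)
    ((f.image_preimage_eq_opensRange_inf V).trans (inf_comm _ _))
  rw [app_eq f V]
  have h3 : Function.Bijective (f.appIso (f ⁻¹ᵁ V)).hom :=
    ConcreteCategory.bijective_of_isIso _
  exact h3.1.comp h1

include hW hN in
theorem exists_app_eq (V : Y.Opens) (b : Γ(W', f ⁻¹ᵁ V))
    (hb : (f.app V).hom.IsIntegralElem b) : ∃ c : Γ(Y, V), f.app V c = b := by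
  let E := (f.appIso (f ⁻¹ᵁ V)).hom
  let E' := (f.appIso (f ⁻¹ᵁ V)).inv
  have hEE' : ∀ t, E (E' t) = t := by
    intro t
    change (E' ≫ E) t = t
    rw [Iso.inv_hom_id]
    rfl
  have hr : ∀ t, E' (f.app V t) = Y.presheaf.map (homOfLE (f.image_preimage_le V)).op t := by
    intro t
    change (f.app V ≫ E') t = _
    rw [Scheme.Hom.app_appIso_inv]
    rfl
  obtain ⟨P, hP, hPb⟩ := hb
  have hb' : (Y.presheaf.map (homOfLE (f.image_preimage_le V)).op).hom.IsIntegralElem
      (E' b) := by
    refine ⟨P, hP, ?_⟩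
    have h1 : Polynomial.eval₂ (E'.hom.comp (f.app V).hom) (E'.hom b) P = 0 :=
      (Polynomial.hom_eval₂ P (f.app V).hom E'.hom b).symm.trans
        ((congrArg E'.hom hPb).trans (map_zero _))
    have h2 : E'.hom.comp (f.app V).hom =
        (Y.presheaf.map (homOfLE (f.image_preimage_le V)).op).hom := by
      ext t
      exact hr t
    rw [h2] at h1
    exact h1
  obtain ⟨c, hc⟩ := exists_extension_of_isIntegral' f.opensRange hW hN V (f ''ᵁ f ⁻¹ᵁ V)
    (f.image_preimage_le V) ((f.image_preimage_eq_opensRange_inf V).trans (inf_comm _ _)) (E' b) hb'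
  refine ⟨c, ?_⟩
  rw [app_eq f V]
  change E (Y.presheaf.map (homOfLE (f.image_preimage_le V)).op c) = b
  rw [hc, hEE']

end OI

section Alg

/-- the integral closure of `A` in `B` is finite étale over `A`. -/
def IntClFEt {A B : Type u} [CommRing A] [CommRing B] (φ : A →+* B) : Prop :=
  letI := φ.toAlgebra
  Module.Finite A (integralClosure A B) ∧ Algebra.Etale A (integralClosure A B)

theorem intClFEt_comp {A C B : Type u} [CommRing A] [CommRing C] [CommRing B]
    (α : A →+* C) (γ : C →+* B) (hα₁ : α.Finite) (hα₂ : α.Etale)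
    (hγ : Function.Injective γ)
    (hcl : ∀ b : B, γ.IsIntegralElem b → b ∈ γ.range) : IntClFEt (γ.comp α) := by
  letI := α.toAlgebra
  letI := γ.toAlgebra
  letI := (γ.comp α).toAlgebra
  haveI : IsScalarTower A C B := IsScalarTower.of_algebraMap_eq (fun _ => rfl)
  haveI : Module.Finite A C := hα₁
  haveI : Algebra.Etale A C := hα₂
  let γ' : C →ₐ[A] B := IsScalarTower.toAlgHom A C B
  have hγ' : Function.Injective γ' := hγ
  have hrange : γ'.range = integralClosure A B := by
    apply le_antisymm
    · rintro _ ⟨c, rfl⟩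
      exact (Algebra.IsIntegral.isIntegral (R := A) c).map γ'
    · intro b hb
      have h1 : IsIntegral C b := hb.tower_top
      obtain ⟨c, hc⟩ := hcl b h1
      exact ⟨c, hc⟩
  let e : C ≃ₐ[A] integralClosure A B :=
    (AlgEquiv.ofInjective γ' hγ').trans (Subalgebra.equivOfEq _ _ hrange)
  exact ⟨Module.Finite.equiv e.toLinearEquiv, Algebra.Etale.of_equiv e⟩

end Alg

end Groth.Agent.H6.NormExt
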