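import Mathlib
import Groth.Agent.Lib.Helper8.Length
import Groth.Agent.Lib.Helper9.Misc.RSL1

/-!
# Lower bound for the length of `A/(N u_1, …, N u_n)` (norms of a weakly admissible system)
-/

set_option autoImplicit false
universe u v

namespace Groth.Agent.H6.NormLen

open Module

section Length

variable {R : Type*} [CommRing R]

/-- `ℓ(A/(I + (ab))) = ℓ(A/(I + (a))) + ℓ(A/(I + (b)))` when `a` is regular modulo `I`. -/
lemma length_quotient_sup_span_mul_eq (I : Ideal R) (a b : R) (ha : ∀ y, a * y ∈ I → y ∈ I) :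
    Module.length R (R ⧸ (I ⊔ Ideal.span {a * b})) =
      Module.length R (R ⧸ (I ⊔ Ideal.span {a})) + Module.length R (R ⧸ (I ⊔ Ideal.span {b})) := by
  have hle : I ⊔ Ideal.span {a * b} ≤ I ⊔ Ideal.span {a} :=
    sup_le_sup_left (Ideal.span_singleton_le_span_singleton.mpr (dvd_mul_right a b)) I
  have hmul : I ⊔ Ideal.span {b} ≤
      Submodule.comap (LinearMap.mulLeft R a) (I ⊔ Ideal.span {a * b}) := by
    intro x hx
    rw [Submodule.mem_comap, LinearMap.mulLeft_apply]
    obtain ⟨i, hi, y, hy, rfl⟩ := Submodule.mem_sup.mp hx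
    obtain ⟨c, rfl⟩ := Ideal.mem_span_singleton.mp hy
    rw [mul_add]
    refine Ideal.add_mem _ (Ideal.mem_sup_left (Ideal.mul_mem_left _ _ hi)) (Ideal.mem_sup_right ?_)
    rw [← mul_assoc]
    exact Ideal.mul_mem_right _ _ (Ideal.mem_span_singleton_self _)
  let f : (R ⧸ (I ⊔ Ideal.span {b})) →ₗ[R] (R ⧸ (I ⊔ Ideal.span {a * b})) :=
    Submodule.mapQ _ _ (LinearMap.mulLeft R a) hmul
  let g : (R ⧸ (I ⊔ Ideal.span {a * b})) →ₗ[R] (R ⧸ (I ⊔ Ideal.span {a})) :=
    Submodule.mapQ _ _ LinearMap.id hle
  have hg : Function.Surjective g := by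
    intro y
    obtain ⟨y, rfl⟩ := Submodule.Quotient.mk_surjective _ y
    exact ⟨Submodule.Quotient.mk y, rfl⟩
  have H : Function.Exact f g := by
    intro y
    obtain ⟨y, rfl⟩ := Submodule.Quotient.mk_surjective _ y
    constructor
    · intro hy
      have hy' : y ∈ I ⊔ Ideal.span {a} := by
        have : g (Submodule.Quotient.mk y) = Submodule.Quotient.mk y := rfl
        rw [this, Submodule.Quotient.mk_eq_zero] at hy
        exact hy
      obtain ⟨i, hi, z, hz, rfl⟩ := Submodule.mem_sup.mp hy'
      obtain ⟨c, rfl⟩ := Ideal.mem_span_singleton.mp hz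
      refine ⟨Submodule.Quotient.mk c, ?_⟩
      have : f (Submodule.Quotient.mk c) = Submodule.Quotient.mk (a * c) := rfl
      rw [this, eq_comm, ← sub_eq_zero, ← Submodule.Quotient.mk_sub, Submodule.Quotient.mk_eq_zero]
      simpa using Ideal.mem_sup_left hi
    · rintro ⟨c, hc⟩
      obtain ⟨c, rfl⟩ := Submodule.Quotient.mk_surjective _ c
      have h1 : f (Submodule.Quotient.mk c) = Submodule.Quotient.mk (a * c) := rfl
      rw [← hc, h1]
      have : g (Submodule.Quotient.mk (a * c)) = Submodule.Quotient.mk (a * c) := rfl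
      rw [this, Submodule.Quotient.mk_eq_zero]
      exact Ideal.mem_sup_right (Ideal.mul_mem_right _ _ (Ideal.mem_span_singleton_self _))
  have hf : Function.Injective f := by
    rw [injective_iff_map_eq_zero]
    intro c hc
    obtain ⟨c, rfl⟩ := Submodule.Quotient.mk_surjective _ c
    have h1 : f (Submodule.Quotient.mk c) = Submodule.Quotient.mk (a * c) := rfl
    rw [h1, Submodule.Quotient.mk_eq_zero] at hc
    obtain ⟨i, hi, z, hz, hsum⟩ := Submodule.mem_sup.mp hc
    obtain ⟨t, rfl⟩ := Ideal.mem_span_singleton.mp hz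
    have h2 : a * (c - b * t) ∈ I := by
      have h3 : a * (c - b * t) = i := by
        rw [mul_sub, ← hsum]; ring
      rw [h3]; exact hi
    have hc' := ha _ h2
    rw [Submodule.Quotient.mk_eq_zero]
    have h4 : c = (c - b * t) + b * t := by ring
    rw [h4]
    exact Ideal.add_mem _ (Ideal.mem_sup_left hc')
      (Ideal.mem_sup_right (Ideal.mul_mem_right _ _ (Ideal.mem_span_singleton_self _)))
  rw [add_comm]
  exact Module.length_eq_add_of_exact f g hf hg H

/-- `∑ ℓ(A/(I + (a_σ))) ≤ ℓ(A/(I + (∏ a_σ)))` when all `a_σ` are regular modulo `I`. -/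
lemma sum_le_length_quotient_sup_span_prod {κ : Type*} (I : Ideal R) (s : Finset κ) (a : κ → R)
    (ha : ∀ σ ∈ s, ∀ y, a σ * y ∈ I → y ∈ I) :
    ∑ σ ∈ s, Module.length R (R ⧸ (I ⊔ Ideal.span {a σ})) ≤
      Module.length R (R ⧸ (I ⊔ Ideal.span {∏ σ ∈ s, a σ})) := by
  classical
  induction s using Finset.induction_on with
  | empty => simp
  | insert x s hx ih =>
    rw [Finset.prod_insert hx, Finset.sum_insert hx,
      length_quotient_sup_span_mul_eq I _ _ (ha x (Finset.mem_insert_self x s))]
    gcongr
    exact ih fun σ hσ => ha σ (Finset.mem_insert_of_mem hσ)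

end Length

/-- a quotient of a local ring by a proper ideal whose radical contains the maximal ideal has
dimension zero. -/
lemma ringKrullDim_quotient_eq_zero_of_le_radical (A : Type*) [CommRing A] [IsLocalRing A]
    (J : Ideal A) (hJ : J ≠ ⊤) (hrad : IsLocalRing.maximalIdeal A ≤ J.radical) :
    ringKrullDim (A ⧸ J) = 0 := by
  haveI : Nontrivial (A ⧸ J) := Ideal.Quotient.nontrivial_iff.mpr hJ
  haveI : Ring.KrullDimLE 0 (A ⧸ J) := Ring.krullDimLE_zero_iff.mpr fun P prime ↦
    Ideal.isMaximal_of_isIntegral_of_isMaximal_comap _ <| by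
      have hc := prime.comap (algebraMap A (A ⧸ J))
      have h1 : P.comap (algebraMap A (A ⧸ J)) = IsLocalRing.maximalIdeal A := by
        refine le_antisymm (IsLocalRing.le_maximalIdeal hc.ne_top) (hrad.trans ?_)
        rw [hc.radical_le_iff]
        exact .trans (by simp) (Ideal.ker_le_comap _)
      rw [h1]
      exact IsLocalRing.maximalIdeal.isMaximal A
  exact (ringKrullDimZero_iff_ringKrullDim_eq_zero).mp ‹_›

/-- in a regular local ring, each member of a system of parameters is regular modulo the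
others. -/
theorem regular_mod_of_sop (A : Type u) [CommRing A] [IsRegularLocalRing A] (n : ℕ)
    (hn : ringKrullDim A = n) (y : Fin n → A) (hy : ∀ i, y i ∈ IsLocalRing.maximalIdeal A)
    (hrad : IsLocalRing.maximalIdeal A ≤ (Ideal.span (Set.range y)).radical) (j : Fin n) :
    ∀ x, y j * x ∈ Ideal.span (y '' {i | i ≠ j}) → x ∈ Ideal.span (y '' {i | i ≠ j}) := by
  classical
  set L : List A := ((List.finRange n).erase j).map y with hL
  have hLmem : ∀ a, a ∈ L ↔ a ∈ y '' {i | i ≠ j} := by
    intro a
    simp only [hL, List.mem_map, Set.mem_image]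
    constructor
    · rintro ⟨i, hi, rfl⟩
      exact ⟨i, ((List.nodup_finRange n).mem_erase_iff.mp hi).1, rfl⟩
    · rintro ⟨i, hi, rfl⟩
      exact ⟨i, (List.nodup_finRange n).mem_erase_iff.mpr ⟨hi, List.mem_finRange i⟩, rfl⟩
  have hIL : Ideal.ofList L = Ideal.span (y '' {i | i ≠ j}) := by
    unfold Ideal.ofList
    congr 1
    ext a
    exact hLmem a
  have hlen : (L ++ [y j]).length = n := by
    rw [List.length_append, hL, List.length_map,
      List.length_erase_of_mem (List.mem_finRange j), List.length_finRange, List.length_singleton]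
    have := j.pos
    omega
  have hIall : Ideal.ofList (L ++ [y j]) = Ideal.span (Set.range y) := by
    rw [Ideal.ofList_append, hIL, Ideal.ofList_singleton, ← Ideal.span_union]
    congr 1
    ext a
    simp only [Set.mem_union, Set.mem_image, Set.mem_singleton_iff, Set.mem_range]
    constructor
    · rintro (⟨i, _, rfl⟩ | rfl)
      · exact ⟨i, rfl⟩
      · exact ⟨j, rfl⟩
    · rintro ⟨i, rfl⟩
      by_cases h : i = j
      · right; rw [h]
      · left; exact ⟨i, h, rfl⟩
  have hJtop : Ideal.span (Set.range y) ≠ ⊤ := by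
    intro htop
    have h1 : Ideal.span (Set.range y) ≤ IsLocalRing.maximalIdeal A := by
      rw [Ideal.span_le]; rintro _ ⟨i, rfl⟩; exact hy i
    rw [htop, top_le_iff] at h1
    exact (IsLocalRing.maximalIdeal.isMaximal A).ne_top h1
  have hdim0 : ringKrullDim (A ⧸ Ideal.span (Set.range y)) = 0 :=
    ringKrullDim_quotient_eq_zero_of_le_radical A _ hJtop hrad
  have hreg : RingTheory.Sequence.IsRegular A (L ++ [y j]) := by
    refine Groth.Agent.H9.RSL.isRegular_of_dim A (L ++ [y j]) ?_ ?_
    · intro x hx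
      rw [List.mem_append, List.mem_singleton] at hx
      rcases hx with hx | rfl
      · obtain ⟨i, -, rfl⟩ := (hLmem x).mp hx
        exact hy i
      · exact hy j
    · rw [hIall, hdim0, hlen, hn, zero_add]
  have h1 := ((RingTheory.Sequence.isWeaklyRegular_append_iff A L [y j]).mp
    hreg.toIsWeaklyRegular).2
  have h2 : IsSMulRegular (A ⧸ (Ideal.ofList L • ⊤ : Submodule A A)) (y j) :=
    ((RingTheory.Sequence.isWeaklyRegular_cons_iff _ (y j) []).mp h1).1
  have hsm : (Ideal.ofList L • (⊤ : Submodule A A)) = Ideal.ofList L := by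
    rw [smul_eq_mul, Ideal.mul_top]
  intro x hx
  rw [← hIL] at hx ⊢
  have h3 : (y j) • (Submodule.Quotient.mk x : A ⧸ (Ideal.ofList L • ⊤ : Submodule A A)) =
      (y j) • 0 := by
    rw [smul_zero, ← Submodule.Quotient.mk_smul, Submodule.Quotient.mk_eq_zero, hsm]
    exact hx
  have h4 := h2 h3
  rw [Submodule.Quotient.mk_eq_zero, hsm] at h4
  exact h4

theorem main15797 (A : Type u) [CommRing A] [IsRegularLocalRing A]
    (G : Type v) [Group G] [Fintype G] [MulSemiringAction G A]
    (n : ℕ) (hn : ringKrullDim A = n) (u : Fin n → A)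
    (hu : Ideal.span (Set.range u) = IsLocalRing.maximalIdeal A)
    (hwa : ∀ τ : Fin n → G,
      IsLocalRing.maximalIdeal A ≤ (Ideal.span (Set.range fun i => τ i • u i)).radical) :
    ((Fintype.card G ^ n : ℕ) : ℕ∞) ≤
      Module.length A (A ⧸ Ideal.span (Set.range fun i => ∏ σ : G, σ • u i)) := by
  classical
  have hspan : ∀ (f : Fin n → A) (j : Fin n),
      Ideal.span (Set.range f) = Ideal.span (f '' {i | i ≠ j}) ⊔ Ideal.span {f j} := by
    intro f j
    rw [← Ideal.span_union]
    congr 1
    ext x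
    simp only [Set.mem_range, Set.union_singleton, Set.mem_insert_iff, Set.mem_image]
    constructor
    · rintro ⟨i, rfl⟩
      by_cases hij : i = j
      · left; rw [hij]
      · right; exact ⟨i, hij, rfl⟩
    · rintro (rfl | ⟨i, _, rfl⟩)
      · exact ⟨j, rfl⟩
      · exact ⟨i, rfl⟩
  have hum : ∀ (σ : G) (i : Fin n), σ • u i ∈ IsLocalRing.maximalIdeal A := by
    intro σ i
    have h1 : u i ∈ IsLocalRing.maximalIdeal A := hu ▸ Ideal.subset_span ⟨i, rfl⟩
    rw [IsLocalRing.mem_maximalIdeal, mem_nonunits_iff] at h1 ⊢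
    intro hunit
    apply h1
    have h2 := hunit.map (MulSemiringAction.toRingHom G A σ⁻¹)
    simpa using h2
  set w : Finset (Fin n) → (Fin n → G) → Fin n → A := fun S τ i =>
    if i ∈ S then ∏ σ : G, σ • u i else τ i • u i with hw
  have hwm : ∀ S τ i, w S τ i ∈ IsLocalRing.maximalIdeal A := by
    intro S τ i
    simp only [hw]
    split_ifs
    · exact Ideal.mem_of_dvd _ (Finset.dvd_prod_of_mem (fun σ : G => σ • u i)
        (Finset.mem_univ (1 : G))) (hum 1 i)
    · exact hum _ _
  have hsop : ∀ S τ, IsLocalRing.maximalIdeal A ≤ (Ideal.span (Set.range (w S τ))).radical := by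
    intro S τ
    rw [Ideal.radical_eq_sInf]
    refine le_sInf fun P hPs => ?_
    obtain ⟨hJP, hP⟩ := hPs
    have hex : ∀ i, ∃ σ : G, σ • u i ∈ P := by
      intro i
      have hi : w S τ i ∈ P := hJP (Ideal.subset_span ⟨i, rfl⟩)
      simp only [hw] at hi
      split_ifs at hi with hiS
      · obtain ⟨σ, -, hσ⟩ := (hP.prod_mem_iff).mp hi
        exact ⟨σ, hσ⟩
      · exact ⟨τ i, hi⟩
    choose ρ hρ using hex
    have h1 : Ideal.span (Set.range fun i => ρ i • u i) ≤ P := by
      rw [Ideal.span_le]; rintro _ ⟨i, rfl⟩; exact hρ i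
    exact (hwa ρ).trans ((Ideal.radical_mono h1).trans hP.radical.le)
  have key : ∀ (S : Finset (Fin n)) (τ : Fin n → G),
      ((Fintype.card G ^ S.card : ℕ) : ℕ∞) ≤
        Module.length A (A ⧸ Ideal.span (Set.range (w S τ))) := by
    intro S
    induction S using Finset.induction_on with
    | empty =>
      intro τ
      simp only [Finset.card_empty, pow_zero, Nat.cast_one]
      rw [Order.one_le_iff_ne_zero, Ne, Module.length_eq_zero_iff, not_subsingleton_iff_nontrivial]
      refine Ideal.Quotient.nontrivial_iff.mpr fun htop => ?_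
      have h1 : Ideal.span (Set.range (w ∅ τ)) ≤ IsLocalRing.maximalIdeal A := by
        rw [Ideal.span_le]; rintro _ ⟨i, rfl⟩; exact hwm ∅ τ i
      rw [htop, top_le_iff] at h1
      exact (IsLocalRing.maximalIdeal.isMaximal A).ne_top h1
    | insert j S hj ih =>
      intro τ
      rw [hspan _ j]
      have hwj : w (insert j S) τ j = ∏ σ : G, σ • u j := by simp [hw]
      rw [hwj]
      have himg : ∀ σ : G, ((w (insert j S) τ) '' {i | i ≠ j}) =
          ((w S (Function.update τ j σ)) '' {i | i ≠ j}) := by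
        intro σ
        apply Set.image_congr
        intro i hi
        have hi' : i ≠ j := hi
        simp only [hw, Finset.mem_insert, hi', false_or, Function.update_of_ne hi']
      have hwj' : ∀ σ : G, w S (Function.update τ j σ) j = σ • u j := by
        intro σ
        simp [hw, hj]
      have hterm : ∀ σ : G, ((Fintype.card G ^ S.card : ℕ) : ℕ∞) ≤
          Module.length A (A ⧸ (Ideal.span ((w (insert j S) τ) '' {i | i ≠ j}) ⊔
            Ideal.span {σ • u j})) := by
        intro σ
        have h1 := ih (Function.update τ j σ)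
        rw [hspan _ j, hwj' σ, ← himg σ] at h1
        exact h1
      have hregσ : ∀ σ ∈ (Finset.univ : Finset G), ∀ y,
          (σ • u j) * y ∈ Ideal.span ((w (insert j S) τ) '' {i | i ≠ j}) →
            y ∈ Ideal.span ((w (insert j S) τ) '' {i | i ≠ j}) := by
        intro σ _
        have h1 := regular_mod_of_sop A n hn (w S (Function.update τ j σ)) (hwm _ _)
          (hsop _ _) j
        rw [hwj' σ, ← himg σ] at h1
        exact h1
      refine le_trans ?_ (sum_le_length_quotient_sup_span_prod _ Finset.univ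
        (fun σ : G => σ • u j) hregσ)
      calc ((Fintype.card G ^ (insert j S).card : ℕ) : ℕ∞)
          = ∑ _σ : G, ((Fintype.card G ^ S.card : ℕ) : ℕ∞) := by
            rw [Finset.sum_const, Finset.card_univ, Finset.card_insert_of_notMem hj, pow_succ,
              nsmul_eq_mul]
            push_cast
            rw [mul_comm]
        _ ≤ _ := Finset.sum_le_sum (fun σ _ => hterm σ)
  have h := key Finset.univ (fun _ => 1)
  have h1 : w Finset.univ (fun _ => 1) = fun i => ∏ σ : G, σ • u i := by
    funext i; simp [hw]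
  rw [h1] at h
  simpa using h

end Groth.Agent.H6.NormLen
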