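import Mathlib
set_option autoImplicit false
universe u
namespace Groth.Agent.H6.OI

open IsLocalRing in
/-- Noetherian local ring modulo a positive power of the maximal ideal is Artinian local. -/
theorem artinian_quot (R : Type u) [CommRing R] [IsNoetherianRing R] [IsLocalRing R] (n : ℕ) :
    IsArtinianRing (R ⧸ maximalIdeal R ^ (n + 1)) ∧ IsLocalRing (R ⧸ maximalIdeal R ^ (n + 1)) := by
  have hne : maximalIdeal R ^ (n + 1) ≠ ⊤ := by
    intro h
    have : maximalIdeal R ^ (n + 1) ≤ maximalIdeal R := Ideal.pow_le_self (by omega)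
    rw [h] at this
    exact (maximalIdeal.isMaximal R).ne_top (top_le_iff.mp this)
  have : Nontrivial (R ⧸ maximalIdeal R ^ (n + 1)) := Ideal.Quotient.nontrivial_iff.mpr hne
  refine ⟨?_, IsLocalRing.of_surjective' (Ideal.Quotient.mk _) Ideal.Quotient.mk_surjective⟩
  apply IsLocalRing.quotient_artinian_of_mem_minimalPrimes_of_isLocalRing
  refine ⟨⟨inferInstance, Ideal.pow_le_self (by omega)⟩, ?_⟩
  rintro q ⟨hq, hq'⟩ _
  exact hq.le_of_pow_le hq'

theorem ring_core {B C : Type u} [CommRing B] [CommRing C] [IsNoetherianRing B]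
    (φ : B →+* C)
    (H : ∀ (A : Type u) [CommRing A] [IsArtinianRing A] [IsLocalRing A] (γ : B →+* A),
      RingHom.ker φ ≤ RingHom.ker ((IsLocalRing.residue A).comp γ) →
        RingHom.ker φ ≤ RingHom.ker γ) :
    ∃ e, IsIdempotentElem e ∧ RingHom.ker φ = Ideal.span {e} := by
  set J := RingHom.ker φ with hJ
  -- Step A
  have stepA : ∀ (p : Ideal B) [p.IsPrime], J ≤ p → ∀ b ∈ J, ∃ f, f ∉ p ∧ f * b = 0 := by
    intro p _ hJp b hb
    let Bp := Localization.AtPrime p
    let m := IsLocalRing.maximalIdeal Bp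
    have hall : ∀ n : ℕ, algebraMap B Bp b ∈ m ^ (n + 1) := by
      intro n
      obtain ⟨hA, hL⟩ := artinian_quot Bp n
      let γ : B →+* (Bp ⧸ m ^ (n + 1)) := (Ideal.Quotient.mk _).comp (algebraMap B Bp)
      have h1 : J ≤ RingHom.ker ((IsLocalRing.residue (Bp ⧸ m ^ (n + 1))).comp γ) := by
        intro x hx
        rw [RingHom.mem_ker, RingHom.comp_apply, IsLocalRing.residue_eq_zero_iff]
        have hxm : algebraMap B Bp x ∈ m := by
          rw [← Localization.AtPrime.under_maximalIdeal (I := p)] at hJp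
          exact hJp hx
        have hloc : IsLocalHom (Ideal.Quotient.mk (m ^ (n + 1))) :=
          IsLocalHom.of_surjective _ Ideal.Quotient.mk_surjective
        intro hu
        have hu' : IsUnit (algebraMap B Bp x) := by
          exact (isUnit_map_iff (Ideal.Quotient.mk (m ^ (n + 1))) _).mp hu
        exact hxm hu'
      have h2 := H _ γ h1 hb
      rw [RingHom.mem_ker] at h2
      exact Ideal.Quotient.eq_zero_iff_mem.mp h2
    have hzero : algebraMap B Bp b = 0 := by
      have hbot := Ideal.iInf_pow_eq_bot_of_isLocalRing m (IsLocalRing.maximalIdeal.isMaximal Bp).ne_top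
      have : algebraMap B Bp b ∈ ⨅ i : ℕ, m ^ i := by
        rw [Ideal.mem_iInf]
        intro i
        exact Ideal.pow_le_pow_right (Nat.le_succ i) (hall i)
      rw [hbot] at this
      exact this
    rw [IsLocalization.map_eq_zero_iff p.primeCompl] at hzero
    obtain ⟨f, hf⟩ := hzero
    exact ⟨f.1, f.2, hf⟩
  -- Step B : J idempotent
  have stepB : IsIdempotentElem J := by
    refine le_antisymm Ideal.mul_le_right ?_
    intro j hj
    by_contra hcon
    let Q : Ideal B := (J * J).colon {j}
    have hQ : Q ≠ ⊤ := by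
      intro h
      have : (1 : B) ∈ Q := by rw [h]; trivial
      rw [Submodule.mem_colon_singleton] at this
      exact hcon (by simpa using this)
    obtain ⟨p, hp, hQp⟩ := Ideal.exists_le_maximal Q hQ
    have _ := hp.isPrime
    by_cases hJp : J ≤ p
    · obtain ⟨f, hfp, hf⟩ := stepA p hJp j hj
      apply hfp
      apply hQp
      rw [Submodule.mem_colon_singleton, smul_eq_mul, hf]
      exact zero_mem _
    · obtain ⟨a, haJ, hap⟩ := SetLike.not_le_iff_exists.mp hJp
      apply hap
      apply hQp
      rw [Submodule.mem_colon_singleton, smul_eq_mul]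
      exact Ideal.mul_mem_mul haJ hj
  exact (Ideal.isIdempotentElem_iff_of_fg J (IsNoetherian.noetherian J)).mp stepB

end Groth.Agent.H6.OI
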