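import Mathlib
import Groth.Prelude.Def_ArtFun4

/-!
# Obstruction theory for deformations of an affine scheme: the trivial deformation rings
`B₀ ⊗_k C` (helper6)
-/

set_option autoImplicit false
universe u
open CategoryTheory ArtFun ArtFun.Art TensorProduct

namespace Groth.Agent.H6.ObsAff

variable {k : Type u} [Field k] (B₀ : Type u) [CommRing B₀] [Algebra k B₀]

/-- the trivial deformation ring `B₀ ⊗_k C` -/
abbrev Tr (C : Art k k) : Type u := B₀ ⊗[k] C

variable {B₀}

/-- functoriality of `B₀ ⊗_k C` in `C` -/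
noncomputable def trMap {C' C : Art k k} (p : C' ⟶ C) : Tr B₀ C' →ₐ[B₀] Tr B₀ C :=
  Algebra.TensorProduct.map (AlgHom.id B₀ B₀) p.toAlgHom

@[simp] theorem trMap_tmul {C' C : Art k k} (p : C' ⟶ C) (b : B₀) (c : C') :
    trMap p (b ⊗ₜ[k] c) = b ⊗ₜ[k] p c := rfl

/-- the augmentation `B₀ ⊗_k C → B₀` -/
noncomputable def trRes (C : Art k k) : Tr B₀ C →ₐ[B₀] B₀ :=
  (Algebra.TensorProduct.rid k B₀ B₀).toAlgHom.comp
    (Algebra.TensorProduct.map (AlgHom.id B₀ B₀) C.res)

@[simp] theorem trRes_tmul (C : Art k k) (b : B₀) (c : C) :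
    trRes C (b ⊗ₜ[k] c) = C.res c • b := by
  simp [trRes]

theorem trRes_trMap {C' C : Art k k} (p : C' ⟶ C) (w : Tr B₀ C') :
    trRes C (trMap p w) = trRes C' w := by
  induction w using TensorProduct.induction_on with
  | zero => simp
  | tmul b c => rw [trMap_tmul, trRes_tmul, trRes_tmul, Art.res_app]
  | add x y hx hy => rw [map_add, map_add, map_add, hx, hy]

theorem trMap_eq_lTensor {C' C : Art k k} (p : C' ⟶ C) (w : Tr B₀ C') :
    trMap p w = (p.toAlgHom.toLinearMap.lTensor B₀) w := by
  induction w using TensorProduct.induction_on with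
  | zero => simp
  | tmul b c => rfl
  | add x y hx hy => rw [map_add, map_add, hx, hy]

/-- the inclusion of the kernel -/
noncomputable abbrev inclJ {C' C : Art k k} (p : C' ⟶ C) : ↥(RingHom.ker p.toAlgHom) →ₗ[k] C' :=
  (RingHom.ker p.toAlgHom).subtype.restrictScalars k

/-- `B₀ ⊗ J → B₀ ⊗ C'` -/
noncomputable def epsJ {C' C : Art k k} (p : C' ⟶ C) :
    B₀ ⊗[k] ↥(RingHom.ker p.toAlgHom) →ₗ[B₀] Tr B₀ C' :=
  TensorProduct.AlgebraTensorModule.lTensor B₀ B₀ (inclJ p)

@[simp] theorem epsJ_tmul {C' C : Art k k} (p : C' ⟶ C) (b : B₀) (j : ↥(RingHom.ker p.toAlgHom)) :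
    epsJ p (b ⊗ₜ[k] j) = b ⊗ₜ[k] (j : C') := rfl

theorem epsJ_injective {C' C : Art k k} (p : C' ⟶ C) : Function.Injective (epsJ (B₀ := B₀) p) := by
  have h : Function.Injective ((inclJ p).lTensor B₀) :=
    Module.Flat.lTensor_preserves_injective_linearMap _ Subtype.val_injective
  intro x y hxy
  apply h
  exact hxy

theorem exact_inclJ {C' C : Art k k} (p : C' ⟶ C) :
    Function.Exact (inclJ p) (p.toAlgHom.toLinearMap) := by
  intro c
  constructor
  · intro h
    exact ⟨⟨c, h⟩, rfl⟩
  · rintro ⟨j, rfl⟩
    exact j.2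

theorem trMap_epsJ {C' C : Art k k} (p : C' ⟶ C) (z : B₀ ⊗[k] ↥(RingHom.ker p.toAlgHom)) :
    trMap p (epsJ p z) = 0 := by
  induction z using TensorProduct.induction_on with
  | zero => simp
  | tmul b j =>
    rw [epsJ_tmul, trMap_tmul]
    have : p (j : C') = 0 := j.2
    rw [this, TensorProduct.tmul_zero]
  | add x y hx hy => rw [map_add, map_add, hx, hy, add_zero]

theorem exists_epsJ_eq {C' C : Art k k} (p : C' ⟶ C) (hp : Function.Surjective p)
    (w : Tr B₀ C') (hw : trMap p w = 0) : ∃ z, epsJ p z = w := by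
  have hex' := lTensor_exact B₀ (exact_inclJ p) hp
  rw [trMap_eq_lTensor] at hw
  obtain ⟨z, hz⟩ := (hex' w).mp hw
  exact ⟨z, hz⟩

theorem mul_epsJ {C' C : Art k k} (p : C' ⟶ C) (hp : IsSemismallExt p)
    (u : Tr B₀ C') (z : B₀ ⊗[k] ↥(RingHom.ker p.toAlgHom)) :
    u * epsJ p z = trRes C' u • epsJ p z := by
  induction z using TensorProduct.induction_on with
  | zero => simp
  | add x y hx hy => rw [map_add, mul_add, smul_add, hx, hy]
  | tmul b j =>
    rw [epsJ_tmul]
    induction u using TensorProduct.induction_on with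
    | zero => simp
    | add x y hx hy => rw [add_mul, map_add, add_smul, hx, hy]
    | tmul b' c =>
      rw [Algebra.TensorProduct.tmul_mul_tmul, trRes_tmul]
      have h1 : c * (j : C') = C'.res c • (j : C') := by
        have h2 : (c - algebraMap k C' (C'.res c)) * (j : C') = 0 := by
          have hm : c - algebraMap k C' (C'.res c) ∈ IsLocalRing.maximalIdeal C' := by
            rw [Art.mem_maximalIdeal_iff, map_sub, AlgHom.commutes, sub_eq_zero]
            rfl
          have : (c - algebraMap k C' (C'.res c)) * (j : C') ∈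
              IsLocalRing.maximalIdeal C' * RingHom.ker p.toAlgHom := Ideal.mul_mem_mul hm j.2
          rwa [hp.2] at this
        rw [sub_mul, sub_eq_zero] at h2
        rw [h2, Algebra.smul_def]
      rw [h1, TensorProduct.tmul_smul, TensorProduct.smul_tmul', TensorProduct.smul_tmul',
        smul_eq_mul, smul_mul_assoc]

/-- the key multiplication rule: elements over the kernel of a semismall extension are multiplied
through the augmentation -/
theorem mul_eq_res_smul {C' C : Art k k} (p : C' ⟶ C) (hp : IsSemismallExt p)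
    (u w : Tr B₀ C') (hw : trMap p w = 0) : u * w = trRes C' u • w := by
  obtain ⟨z, rfl⟩ := exists_epsJ_eq p hp.1 w hw
  exact mul_epsJ p hp u z

section Poly

variable {ι : Type u}

/-- reduction of polynomials modulo the maximal ideal -/
noncomputable def redP (C : Art k k) : MvPolynomial ι C →+* MvPolynomial ι k :=
  MvPolynomial.map (C.res : C →+* k)

/-- base change of polynomials -/
noncomputable def mapP {C' C : Art k k} (p : C' ⟶ C) : MvPolynomial ι C' →+* MvPolynomial ι C :=
  MvPolynomial.map (p.toAlgHom : C' →+* C)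

/-- constant polynomials -/
noncomputable def constP (C : Art k k) : MvPolynomial ι k →+* MvPolynomial ι C :=
  MvPolynomial.map (algebraMap k C)

theorem redP_mapP {C' C : Art k k} (p : C' ⟶ C) (G : MvPolynomial ι C') :
    redP C (mapP p G) = redP C' G := by
  unfold redP mapP
  rw [MvPolynomial.map_map]
  have : (C.res : C →+* k).comp (p.toAlgHom : C' →+* C) = (C'.res : C' →+* k) := by
    ext c
    exact Art.res_app p c
  rw [this]

theorem redP_constP (C : Art k k) (h : MvPolynomial ι k) : redP C (constP C h) = h := by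
  unfold redP constP
  rw [MvPolynomial.map_map]
  have : ((C.res : C →+* k).comp (algebraMap k C)) = RingHom.id k := by
    ext c
    exact C.res.commutes c
  rw [this, MvPolynomial.map_id]

theorem mapP_constP {C' C : Art k k} (p : C' ⟶ C) (h : MvPolynomial ι k) :
    mapP p (constP C' h) = constP C h := by
  unfold mapP constP
  rw [MvPolynomial.map_map]
  have : (p.toAlgHom : C' →+* C).comp (algebraMap k C') = algebraMap k C := by
    ext c
    exact p.toAlgHom.commutes c
  rw [this]

theorem mapP_surjective {C' C : Art k k} (p : C' ⟶ C) (hp : Function.Surjective p) :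
    Function.Surjective (mapP (ι := ι) p) :=
  MvPolynomial.map_surjective _ hp

theorem redP_surjective (C : Art k k) : Function.Surjective (redP (ι := ι) C) :=
  MvPolynomial.map_surjective _ C.res_surjective

variable (val : ι → B₀)

/-- evaluation of polynomials in the trivial deformation -/
noncomputable def thetaP (C : Art k k) : MvPolynomial ι C →+* Tr B₀ C :=
  MvPolynomial.eval₂Hom
    ((Algebra.TensorProduct.includeRight : C →ₐ[k] B₀ ⊗[k] C) : C →+* B₀ ⊗[k] C)
    (fun i => val i ⊗ₜ[k] (1 : C))

@[simp] theorem thetaP_C (C : Art k k) (c : C) :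
    thetaP val C (MvPolynomial.C c) = (1 : B₀) ⊗ₜ[k] c := by
  unfold thetaP
  rw [MvPolynomial.coe_eval₂Hom, MvPolynomial.eval₂_C]
  rfl

@[simp] theorem thetaP_X (C : Art k k) (i : ι) :
    thetaP val C (MvPolynomial.X i) = val i ⊗ₜ[k] (1 : C) := by
  unfold thetaP
  rw [MvPolynomial.coe_eval₂Hom, MvPolynomial.eval₂_X]

theorem trMap_thetaP {C' C : Art k k} (p : C' ⟶ C) (G : MvPolynomial ι C') :
    trMap p (thetaP val C' G) = thetaP val C (mapP p G) := by
  have : ((trMap (B₀ := B₀) p : Tr B₀ C' →+* Tr B₀ C).comp (thetaP val C')) =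
      (thetaP val C).comp (mapP p) := by
    apply MvPolynomial.ringHom_ext
    · intro c
      show trMap p (thetaP val C' (MvPolynomial.C c)) = thetaP val C (mapP p (MvPolynomial.C c))
      unfold mapP
      rw [MvPolynomial.map_C, thetaP_C, thetaP_C, trMap_tmul]
      rfl
    · intro i
      show trMap p (thetaP val C' (MvPolynomial.X i)) = thetaP val C (mapP p (MvPolynomial.X i))
      unfold mapP
      rw [MvPolynomial.map_X, thetaP_X, thetaP_X, trMap_tmul, map_one]
  exact DFunLike.congr_fun this G

theorem trRes_thetaP (C : Art k k) (G : MvPolynomial ι C) :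
    trRes C (thetaP val C G) = MvPolynomial.aeval val (redP C G) := by
  have : ((trRes (B₀ := B₀) C : Tr B₀ C →+* B₀).comp (thetaP val C)) =
      ((MvPolynomial.aeval val : MvPolynomial ι k →ₐ[k] B₀) : MvPolynomial ι k →+* B₀).comp
        (redP C) := by
    apply MvPolynomial.ringHom_ext
    · intro c
      show trRes C (thetaP val C (MvPolynomial.C c)) =
        MvPolynomial.aeval val (redP C (MvPolynomial.C c))
      unfold redP
      rw [MvPolynomial.map_C, thetaP_C, trRes_tmul, MvPolynomial.aeval_C, Algebra.smul_def,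
        mul_one]
      rfl
    · intro i
      show trRes C (thetaP val C (MvPolynomial.X i)) =
        MvPolynomial.aeval val (redP C (MvPolynomial.X i))
      unfold redP
      rw [MvPolynomial.map_X, thetaP_X, trRes_tmul, MvPolynomial.aeval_X, map_one, one_smul]
  exact DFunLike.congr_fun this G

theorem thetaP_constP (C : Art k k) (h : MvPolynomial ι k) :
    thetaP val C (constP C h) = MvPolynomial.aeval val h ⊗ₜ[k] (1 : C) := by
  have : ((thetaP val C).comp (constP C)) =
      ((Algebra.TensorProduct.includeLeft : B₀ →ₐ[k] B₀ ⊗[k] C) : B₀ →+* B₀ ⊗[k] C).comp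
        ((MvPolynomial.aeval val : MvPolynomial ι k →ₐ[k] B₀) : MvPolynomial ι k →+* B₀) := by
    apply MvPolynomial.ringHom_ext
    · intro c
      show thetaP val C (constP C (MvPolynomial.C c)) =
        (MvPolynomial.aeval val (MvPolynomial.C c : MvPolynomial ι k)) ⊗ₜ[k] (1 : C)
      unfold constP
      rw [MvPolynomial.map_C, thetaP_C, MvPolynomial.aeval_C, Algebra.algebraMap_eq_smul_one,
        Algebra.algebraMap_eq_smul_one, TensorProduct.tmul_smul, TensorProduct.smul_tmul']
    · intro i
      show thetaP val C (constP C (MvPolynomial.X i)) =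
        (MvPolynomial.aeval val (MvPolynomial.X i : MvPolynomial ι k)) ⊗ₜ[k] (1 : C)
      unfold constP
      rw [MvPolynomial.map_X, thetaP_X, MvPolynomial.aeval_X]
  exact DFunLike.congr_fun this h

end Poly

end Groth.Agent.H6.ObsAff
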