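import Mathlib
import Groth.Prelude.Def_ArtFun4
import Groth.Prelude.Def_CotT
import Groth.Agent.Lib.Helper6.ObsAff1
import Groth.Agent.Lib.Helper6.DefGlue3
import Groth.Agent.Lib.Helper7.ArtFlat
import Groth.Agent.Lib.Helper1.ArtinFlatReg
import Groth.Agent.Lib.Helper1.FlatNilpotent

/-!
# Obstruction theory for deformations of an affine scheme: presented deformations (helper6)
-/

set_option autoImplicit false
universe u
open CategoryTheory ArtFun ArtFun.Art TensorProduct

namespace Groth.Agent.H6.ObsAff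

open Groth.Agent.H6.DefAff

variable {k : Type u} [Field k] {B₀ : Type u} [CommRing B₀] [Algebra k B₀] {ι σ : Type u}

/-- evaluation of polynomials at chosen elements of a deformation -/
noncomputable def evP {C : Art k k} (R : RDef B₀ C) (v : ι → R.E) : MvPolynomial ι C →+* R.E :=
  MvPolynomial.eval₂Hom R.toE v

theorem evP_C {C : Art k k} (R : RDef B₀ C) (v : ι → R.E) (c : C) :
    evP R v (MvPolynomial.C c) = R.toE c := by
  unfold evP
  rw [MvPolynomial.coe_eval₂Hom, MvPolynomial.eval₂_C]

theorem evP_X {C : Art k k} (R : RDef B₀ C) (v : ι → R.E) (i : ι) :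
    evP R v (MvPolynomial.X i) = v i := by
  unfold evP
  rw [MvPolynomial.coe_eval₂Hom, MvPolynomial.eval₂_X]

variable (P : Algebra.Presentation k B₀ ι σ)

theorem pr_evP {C : Art k k} (R : RDef B₀ C) (v : ι → R.E) (hv : ∀ i, R.pr (v i) = P.val i)
    (G : MvPolynomial ι C) : R.pr (evP R v G) = MvPolynomial.aeval P.val (redP C G) := by
  have : (R.pr.comp (evP R v)) =
      ((MvPolynomial.aeval P.val : MvPolynomial ι k →ₐ[k] B₀) : MvPolynomial ι k →+* B₀).comp
        (redP C) := by
    apply MvPolynomial.ringHom_ext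
    · intro c
      show R.pr (evP R v (MvPolynomial.C c)) = MvPolynomial.aeval P.val (redP C (MvPolynomial.C c))
      unfold redP
      rw [evP_C, MvPolynomial.map_C, MvPolynomial.aeval_C, R.pr_toE]
      rfl
    · intro i
      show R.pr (evP R v (MvPolynomial.X i)) = MvPolynomial.aeval P.val (redP C (MvPolynomial.X i))
      unfold redP
      rw [evP_X, MvPolynomial.map_X, MvPolynomial.aeval_X, hv]
  exact DFunLike.congr_fun this G

theorem aeval_val_surjective : Function.Surjective (MvPolynomial.aeval P.val : MvPolynomial ι k → B₀) := by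
  intro b
  obtain ⟨x, hx⟩ := P.algebraMap_surjective b
  exact ⟨x, by rw [← hx]; exact (P.algebraMap_apply x).symm⟩

theorem evP_surjective {C : Art k k} (R : RDef B₀ C) (v : ι → R.E)
    (hv : ∀ i, R.pr (v i) = P.val i) : Function.Surjective (evP R v) := by
  letI : Algebra C R.E := R.toE.toAlgebra
  let ψ : MvPolynomial ι C →ₐ[C] R.E := MvPolynomial.aeval v
  have hψ : ∀ G, ψ G = evP R v G := by
    intro G
    rfl
  have h := surjective_of_nilpotent (IsLocalRing.maximalIdeal C) ψ R.pr
    (R.pr.comp (evP R v)) (isNilpotent_maximalIdeal C) (fun y => by rw [hψ]; rfl) (by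
      intro b
      obtain ⟨g, rfl⟩ := aeval_val_surjective P b
      obtain ⟨G, rfl⟩ := redP_surjective C g
      exact ⟨G, pr_evP P R v hv G⟩) (by
      intro b hb
      rw [Ideal.smul_top_eq_map, Submodule.restrictScalars_mem]
      have h1 : b ∈ RingHom.ker R.pr := hb
      rw [R.ker_pr] at h1
      exact h1)
  intro e
  obtain ⟨G, hG⟩ := h e
  exact ⟨G, (hψ G).symm.trans hG⟩

theorem redP_C_of_mem {C : Art k k} (a : C) (ha : a ∈ IsLocalRing.maximalIdeal C) :
    redP (ι := ι) C (MvPolynomial.C a) = 0 := by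
  unfold redP
  rw [MvPolynomial.map_C]
  have : C.res a = 0 := (Art.mem_maximalIdeal_iff C a).mp ha
  show MvPolynomial.C (C.res a) = 0
  rw [this, map_zero]

theorem exists_of_pr_eq_zero {C : Art k k} (R : RDef B₀ C) (v : ι → R.E)
    (hv : ∀ i, R.pr (v i) = P.val i) (e : R.E) (he : R.pr e = 0) :
    ∃ G : MvPolynomial ι C, redP C G = 0 ∧ evP R v G = e := by
  have h1 : e ∈ RingHom.ker R.pr := he
  rw [R.ker_pr, Ideal.map] at h1
  refine Submodule.span_induction ?_ ?_ ?_ ?_ h1
  · rintro _ ⟨a, ha, rfl⟩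
    exact ⟨MvPolynomial.C a, redP_C_of_mem a ha, evP_C R v a⟩
  · exact ⟨0, map_zero _, map_zero _⟩
  · rintro x y _ _ ⟨G, hG1, hG2⟩ ⟨H, hH1, hH2⟩
    exact ⟨G + H, by rw [map_add, hG1, hH1, add_zero], by rw [map_add, hG2, hH2]⟩
  · rintro x y _ ⟨G, hG1, hG2⟩
    obtain ⟨H, rfl⟩ := evP_surjective P R v hv x
    exact ⟨H * G, by rw [map_mul, hG1, mul_zero], by rw [map_mul, hG2, smul_eq_mul]⟩

theorem exists_lift_of_mem_ker {C : Art k k} (R : RDef B₀ C) (v : ι → R.E)
    (hv : ∀ i, R.pr (v i) = P.val i) (f : MvPolynomial ι k)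
    (hf : MvPolynomial.aeval P.val f = 0) :
    ∃ F : MvPolynomial ι C, evP R v F = 0 ∧ redP C F = f := by
  obtain ⟨F₀, hF₀⟩ := redP_surjective C f
  have h1 : R.pr (evP R v F₀) = 0 := by rw [pr_evP P R v hv, hF₀, hf]
  obtain ⟨G, hG1, hG2⟩ := exists_of_pr_eq_zero P R v hv _ h1
  exact ⟨F₀ - G, by rw [map_sub, hG2, sub_self], by rw [map_sub, hF₀, hG1, sub_zero]⟩

/-- a presented deformation: a deformation with chosen lifts of the generators and of the
relations -/
structure PDef (C : Art k k) where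
  /-- the deformation -/
  R : RDef B₀ C
  /-- lifts of the generators -/
  v : ι → R.E
  pr_v : ∀ i, R.pr (v i) = P.val i
  /-- lifts of the relations -/
  F : σ → MvPolynomial ι C
  ev_F : ∀ s, evP R v (F s) = 0
  red_F : ∀ s, redP C (F s) = P.relation s

theorem aeval_val_relation (s : σ) : MvPolynomial.aeval P.val (P.relation s) = 0 := by
  have h := P.relation_mem_ker s
  rw [← P.algebraMap_apply]
  exact h

theorem exists_pdef {C : Art k k} (R : RDef B₀ C) : ∃ D : PDef P C, D.R = R := by
  choose v hv using fun i => R.pr_surjective (P.val i)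
  choose F hF1 hF2 using fun s => exists_lift_of_mem_ker P R v hv (P.relation s)
    (aeval_val_relation P s)
  exact ⟨⟨R, v, hv, F, hF1, hF2⟩, rfl⟩

end Groth.Agent.H6.ObsAff
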