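import Mathlib
import Groth.Prelude.Def_ArtFun4
import Groth.Prelude.Def_CotT
import Groth.Agent.Lib.Helper6.ObsAff1
import Groth.Agent.Lib.Helper6.ObsAff2
import Groth.Agent.Lib.Helper6.DefGlue3
import Groth.Agent.Lib.Helper7.ArtFlat
import Groth.Agent.Lib.Helper1.ArtinFlatReg
import Groth.Agent.Lib.Helper1.FlatNilpotent

set_option autoImplicit false
universe u
open CategoryTheory ArtFun ArtFun.Art TensorProduct

namespace Groth.Agent.H6.ObsAff

open Groth.Agent.H6.DefAff

section General

variable {A : Type*} [CommRing A]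

/-- `Tor₁(A/I, E) = 0` in elementwise form -/
theorem mem_smul_top_of_exact_of_flat (I : Ideal A) {K N E : Type*} [AddCommGroup K] [Module A K]
    [AddCommGroup N] [Module A N] [AddCommGroup E] [Module A E] [Module.Flat A E]
    (ι : K →ₗ[A] N) (π : N →ₗ[A] E) (hι : Function.Injective ι) (hex : Function.Exact ι π)
    (hπ : Function.Surjective π) (x : K) (hx : ι x ∈ I • (⊤ : Submodule A N)) :
    x ∈ I • (⊤ : Submodule A K) :=
  (Groth.Agent.H1.ArtinFlatReg.lTensor_quotient_injective_iff ι I).mp
    (Groth.Agent.H1.lTensor_injective_of_exact_of_flat ι π hι hex hπ (A ⧸ I)) x hx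

/-- nilpotent Nakayama -/
theorem le_of_le_sup_smul_of_isNilpotent {M : Type*} [AddCommGroup M] [Module A M]
    (I : Ideal A) (hI : IsNilpotent I) (K N : Submodule A M) (h : K ≤ N ⊔ I • K) : K ≤ N := by
  have key : ∀ n : ℕ, K ≤ N ⊔ I ^ n • K := by
    intro n
    induction n with
    | zero => rw [pow_zero, Ideal.one_eq_top, Submodule.top_smul]; exact le_sup_right
    | succ n ih =>
      refine ih.trans (sup_le le_sup_left ?_)
      calc I ^ n • K ≤ I ^ n • (N ⊔ I • K) := Submodule.smul_mono le_rfl h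
        _ = I ^ n • N ⊔ I ^ n • (I • K) := Submodule.smul_sup _ _ _
        _ ≤ N ⊔ I ^ (n + 1) • K := by
          refine sup_le_sup Submodule.smul_le_right ?_
          rw [← Submodule.mul_smul, ← pow_succ]
  obtain ⟨n, hn⟩ := hI
  have := key n
  rwa [hn, Ideal.zero_eq_bot, Submodule.bot_smul, sup_bot_eq] at this

theorem map_mem_smul_top {M N : Type*} [AddCommGroup M] [Module A M] [AddCommGroup N] [Module A N]
    (I : Ideal A) (f : M →ₗ[A] N) (x : M) (hx : x ∈ I • (⊤ : Submodule A M)) :
    f x ∈ I • (⊤ : Submodule A N) := by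
  have h1 : f x ∈ (I • (⊤ : Submodule A M)).map f := Submodule.mem_map_of_mem hx
  rw [Submodule.map_smul''] at h1
  exact Submodule.smul_mono le_rfl le_top h1

theorem mem_smul_of_mem_smul_top {M : Type*} [AddCommGroup M] [Module A M] (I : Ideal A)
    (K : Submodule A M) (x : K) (hx : x ∈ I • (⊤ : Submodule A K)) : (x : M) ∈ I • K := by
  have h1 : K.subtype x ∈ (I • (⊤ : Submodule A K)).map K.subtype := Submodule.mem_map_of_mem hx
  rw [Submodule.map_smul'', Submodule.map_top, Submodule.range_subtype] at h1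
  exact h1

end General

variable {k : Type u} [Field k] {B₀ : Type u} [CommRing B₀] [Algebra k B₀] {ι σ : Type u}

theorem mem_smul_top_of_redP_eq_zero {C : Art k k} (G : MvPolynomial ι C) (hG : redP C G = 0) :
    G ∈ IsLocalRing.maximalIdeal C • (⊤ : Submodule C (MvPolynomial ι C)) := by
  rw [Ideal.smul_top_eq_map, Submodule.restrictScalars_mem]
  have h1 : G ∈ RingHom.ker (redP (ι := ι) C) := hG
  unfold redP at h1
  rw [MvPolynomial.ker_map] at h1
  have h2 : RingHom.ker (C.res : C →+* k) = IsLocalRing.maximalIdeal C := RDef.ker_res C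
  rw [h2] at h1
  exact h1

theorem redP_eq_zero_of_mem_smul_top {C : Art k k} (G : MvPolynomial ι C)
    (hG : G ∈ IsLocalRing.maximalIdeal C • (⊤ : Submodule C (MvPolynomial ι C))) :
    redP C G = 0 := by
  rw [Ideal.smul_top_eq_map, Submodule.restrictScalars_mem] at hG
  have h2 : RingHom.ker (C.res : C →+* k) = IsLocalRing.maximalIdeal C := RDef.ker_res C
  rw [← h2] at hG
  have h1 : G ∈ RingHom.ker (redP (ι := ι) C) := by
    unfold redP
    rw [MvPolynomial.ker_map]
    exact hG
  exact h1

end Groth.Agent.H6.ObsAff
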