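import Mathlib
import Groth.Prelude.Def_ArtFun4
import Groth.Prelude.Def_CotT
import Groth.Agent.Lib.Helper6.ObsAff1
import Groth.Agent.Lib.Helper6.ObsAff2
import Groth.Agent.Lib.Helper6.ObsAff3
import Groth.Agent.Lib.Helper6.DefGlue3
import Groth.Agent.Lib.Helper7.ArtFlat
import Groth.Agent.Lib.Helper1.ArtinFlatReg
import Groth.Agent.Lib.Helper1.FlatNilpotent

set_option autoImplicit false
universe u
open CategoryTheory ArtFun ArtFun.Art TensorProduct

namespace Groth.Agent.H6.ObsAff

open Groth.Agent.H6.DefAff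

variable {k : Type u} [Field k] {B₀ : Type u} [CommRing B₀] [Algebra k B₀] {ι σ : Type u}
variable {P : Algebra.Presentation k B₀ ι σ} {C : Art k k} (D : PDef P C)

namespace PDef

/-- the evaluation map of a presented deformation -/
noncomputable abbrev ev : MvPolynomial ι C →+* D.R.E := evP D.R D.v

theorem ev_surjective : Function.Surjective D.ev := evP_surjective P D.R D.v D.pr_v

theorem pr_ev (G : MvPolynomial ι C) : D.R.pr (D.ev G) = MvPolynomial.aeval P.val (redP C G) :=
  pr_evP P D.R D.v D.pr_v G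

/-- the kernel of the evaluation map, as a module over the base -/
noncomputable abbrev kerC : Submodule C (MvPolynomial ι C) :=
  (RingHom.ker D.ev).restrictScalars C

/-- the ideal generated by the lifted relations, as a module over the base -/
noncomputable abbrev spanC : Submodule C (MvPolynomial ι C) :=
  (Ideal.span (Set.range D.F)).restrictScalars C

theorem mem_smul_kerC_of_mem_map (I : Ideal C) (G : MvPolynomial ι C) (hG : D.ev G = 0)
    (hI : G ∈ I.map (MvPolynomial.C : C →+* MvPolynomial ι C)) : G ∈ I • D.kerC := by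
  letI : Algebra C D.R.E := D.R.toE.toAlgebra
  haveI : Module.Flat C D.R.E := D.R.flat
  let evL : MvPolynomial ι C →ₗ[C] D.R.E := (MvPolynomial.aeval D.v).toLinearMap
  have hevL : ∀ G, evL G = D.ev G := fun G => rfl
  have hex : Function.Exact D.kerC.subtype evL := by
    intro G
    constructor
    · intro h
      exact ⟨⟨G, h⟩, rfl⟩
    · rintro ⟨x, rfl⟩
      exact x.2
  have hI' : G ∈ I • (⊤ : Submodule C (MvPolynomial ι C)) := by
    rw [Ideal.smul_top_eq_map, Submodule.restrictScalars_mem]
    exact hI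
  have h := mem_smul_top_of_exact_of_flat I D.kerC.subtype evL
    Subtype.val_injective hex (fun e => D.ev_surjective e) ⟨G, hG⟩ hI'
  exact mem_smul_of_mem_smul_top _ D.kerC ⟨G, hG⟩ h

theorem mem_smul_kerC (G : MvPolynomial ι C) (hG : D.ev G = 0) (hred : redP C G = 0) :
    G ∈ IsLocalRing.maximalIdeal C • D.kerC := by
  refine D.mem_smul_kerC_of_mem_map _ G hG ?_
  have h1 := mem_smul_top_of_redP_eq_zero G hred
  rw [Ideal.smul_top_eq_map, Submodule.restrictScalars_mem] at h1
  exact h1

variable [Fintype σ]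

theorem redP_mem_span (G : MvPolynomial ι C) (hG : D.ev G = 0) :
    ∃ h : σ → MvPolynomial ι k, ∑ s, h s * P.relation s = redP C G := by
  have h1 : MvPolynomial.aeval P.val (redP C G) = 0 := by rw [← D.pr_ev, hG, map_zero]
  have h2 : redP C G ∈ P.ker := by
    show algebraMap P.toExtension.Ring B₀ (redP C G) = 0
    rw [CotT.algebraMap_toExtension]
    exact h1
  rw [← P.span_range_relation_eq_ker] at h2
  exact (Ideal.mem_span_range_iff_exists_fun).mp h2

theorem ker_ev_eq_span : RingHom.ker D.ev = Ideal.span (Set.range D.F) := by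
  refine le_antisymm ?_ ?_
  · have h : D.kerC ≤ D.spanC := by
      refine le_of_le_sup_smul_of_isNilpotent (IsLocalRing.maximalIdeal C)
        (isNilpotent_maximalIdeal C) D.kerC D.spanC ?_
      intro G hG
      have hG' : D.ev G = 0 := hG
      obtain ⟨h, hh⟩ := D.redP_mem_span G hG'
      choose H hH using fun s => redP_surjective (ι := ι) C (h s)
      have h1 : D.ev (G - ∑ s, H s * D.F s) = 0 := by
        rw [map_sub, hG', map_sum, zero_sub, neg_eq_zero]
        refine Finset.sum_eq_zero fun s _ => ?_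
        rw [map_mul, D.ev_F, mul_zero]
      have h2 : redP C (G - ∑ s, H s * D.F s) = 0 := by
        rw [map_sub, map_sum, ← hh, sub_eq_zero]
        refine Finset.sum_congr rfl fun s _ => ?_
        rw [map_mul, hH, D.red_F]
      have h3 := D.mem_smul_kerC _ h1 h2
      have h4 : ∑ s, H s * D.F s ∈ D.spanC := by
        refine Submodule.sum_mem _ fun s _ => ?_
        exact Ideal.mul_mem_left _ _ (Ideal.subset_span ⟨s, rfl⟩)
      have h5 : G = ∑ s, H s * D.F s + (G - ∑ s, H s * D.F s) := by ring
      rw [h5]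
      exact Submodule.add_mem_sup h4 h3
    exact fun G hG => h hG
  · rw [Ideal.span_le]
    rintro _ ⟨s, rfl⟩
    exact D.ev_F s

theorem exists_of_mem_smul_spanC' (I : Ideal C) (G : MvPolynomial ι C)
    (hG : G ∈ I • D.spanC) :
    ∃ M : σ → MvPolynomial ι C,
      (∀ s, M s ∈ I.map (MvPolynomial.C : C →+* MvPolynomial ι C)) ∧ G = ∑ s, M s * D.F s := by
  refine Submodule.smul_induction_on hG ?_ ?_
  · intro a ha x hx
    have hx' : x ∈ Ideal.span (Set.range D.F) := hx
    obtain ⟨c, rfl⟩ := (Ideal.mem_span_range_iff_exists_fun).mp hx'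
    refine ⟨fun s => MvPolynomial.C a * c s, fun s => ?_, ?_⟩
    · exact Ideal.mul_mem_right _ _ (Ideal.mem_map_of_mem _ ha)
    · rw [Finset.smul_sum]
      refine Finset.sum_congr rfl fun s _ => ?_
      rw [MvPolynomial.smul_eq_C_mul, mul_assoc]
  · rintro x y ⟨M, hM1, rfl⟩ ⟨M', hM'1, rfl⟩
    refine ⟨fun s => M s + M' s, fun s => Ideal.add_mem _ (hM1 s) (hM'1 s), ?_⟩
    rw [← Finset.sum_add_distrib]
    exact Finset.sum_congr rfl fun s _ => by ring

theorem mem_ker_redP_iff (G : MvPolynomial ι C) :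
    redP C G = 0 ↔ G ∈ (IsLocalRing.maximalIdeal C).map
      (MvPolynomial.C : C →+* MvPolynomial ι C) := by
  constructor
  · intro h
    have h1 := mem_smul_top_of_redP_eq_zero G h
    rw [Ideal.smul_top_eq_map, Submodule.restrictScalars_mem] at h1
    exact h1
  · intro h
    apply redP_eq_zero_of_mem_smul_top
    rw [Ideal.smul_top_eq_map, Submodule.restrictScalars_mem]
    exact h

theorem exists_of_mem_smul_spanC (G : MvPolynomial ι C)
    (hG : G ∈ IsLocalRing.maximalIdeal C • D.spanC) :
    ∃ M : σ → MvPolynomial ι C, (∀ s, redP C (M s) = 0) ∧ G = ∑ s, M s * D.F s := by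
  obtain ⟨M, hM1, hM2⟩ := D.exists_of_mem_smul_spanC' _ G hG
  exact ⟨M, fun s => (mem_ker_redP_iff _).mpr (hM1 s), hM2⟩

/-- relations among the `relation s` lift to relations among the `F s` -/
theorem exists_lift_relation (q : σ → MvPolynomial ι k) (hq : ∑ s, q s * P.relation s = 0) :
    ∃ Q : σ → MvPolynomial ι C, (∀ s, redP C (Q s) = q s) ∧ ∑ s, Q s * D.F s = 0 := by
  choose Q₀ hQ₀ using fun s => redP_surjective (ι := ι) C (q s)
  have h1 : D.ev (∑ s, Q₀ s * D.F s) = 0 := by
    rw [map_sum]
    refine Finset.sum_eq_zero fun s _ => ?_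
    rw [map_mul, D.ev_F, mul_zero]
  have h2 : redP C (∑ s, Q₀ s * D.F s) = 0 := by
    rw [map_sum, ← hq]
    refine Finset.sum_congr rfl fun s _ => ?_
    rw [map_mul, hQ₀, D.red_F]
  have h3 := D.mem_smul_kerC _ h1 h2
  have h4 : D.kerC = D.spanC := by
    show (RingHom.ker D.ev).restrictScalars C = _
    rw [D.ker_ev_eq_span]
  rw [h4] at h3
  obtain ⟨M, hM1, hM2⟩ := D.exists_of_mem_smul_spanC _ h3
  refine ⟨fun s => Q₀ s - M s, fun s => by rw [map_sub, hQ₀, hM1, sub_zero], ?_⟩
  have : ∑ s, (Q₀ s - M s) * D.F s = ∑ s, Q₀ s * D.F s - ∑ s, M s * D.F s := by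
    rw [← Finset.sum_sub_distrib]
    exact Finset.sum_congr rfl fun s _ => by ring
  rw [this, ← hM2, sub_self]

/-- the sum map -/
noncomputable def sumF : (σ → MvPolynomial ι C) →ₗ[C] MvPolynomial ι C :=
  (Fintype.linearCombination (MvPolynomial ι C) D.F).restrictScalars C

theorem sumF_apply (S : σ → MvPolynomial ι C) : D.sumF S = ∑ s, S s * D.F s := by
  show Fintype.linearCombination (MvPolynomial ι C) D.F S = _
  rw [Fintype.linearCombination_apply]
  rfl

/-- the module of relations among the `F s` -/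
noncomputable def relC : Submodule C (σ → MvPolynomial ι C) := LinearMap.ker D.sumF

theorem mem_relC (S : σ → MvPolynomial ι C) : S ∈ D.relC ↔ ∑ s, S s * D.F s = 0 := by
  rw [relC, LinearMap.mem_ker, sumF_apply]

theorem flat_kerC : Module.Flat C D.kerC := by
  letI : Algebra C D.R.E := D.R.toE.toAlgebra
  haveI : Module.Flat C D.R.E := D.R.flat
  let evL : MvPolynomial ι C →ₗ[C] D.R.E := (MvPolynomial.aeval D.v).toLinearMap
  have hex : Function.Exact D.kerC.subtype evL := by
    intro G
    constructor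
    · intro h
      exact ⟨⟨G, h⟩, rfl⟩
    · rintro ⟨x, rfl⟩
      exact x.2
  exact Groth.Agent.H7.ArtFlat.flat_ker_of_flat C D.kerC.subtype evL Subtype.val_injective
    (fun e => D.ev_surjective e) hex

/-- relations with vanishing reduction are combinations of relations with coefficients in the
maximal ideal -/
theorem mem_smul_relC [DecidableEq σ] (S : σ → MvPolynomial ι C) (hS : ∑ s, S s * D.F s = 0)
    (hred : ∀ s, redP C (S s) = 0) : S ∈ IsLocalRing.maximalIdeal C • D.relC := by
  haveI := D.flat_kerC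
  have hmem : ∀ S, D.sumF S ∈ D.kerC := by
    intro S
    rw [sumF_apply]
    show D.ev _ = 0
    rw [map_sum]
    refine Finset.sum_eq_zero fun s _ => ?_
    rw [map_mul, D.ev_F, mul_zero]
  let π : (σ → MvPolynomial ι C) →ₗ[C] D.kerC := LinearMap.codRestrict D.kerC D.sumF hmem
  have hπ : Function.Surjective π := by
    rintro ⟨G, hG⟩
    have hG' : G ∈ Ideal.span (Set.range D.F) := by
      rw [← D.ker_ev_eq_span]
      exact hG
    obtain ⟨c, hc⟩ := (Ideal.mem_span_range_iff_exists_fun).mp hG'
    refine ⟨c, Subtype.ext ?_⟩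
    show D.sumF c = G
    rw [sumF_apply, hc]
  have hex : Function.Exact D.relC.subtype π := by
    intro S
    constructor
    · intro h
      have h1 : D.sumF S = 0 := congrArg Subtype.val h
      exact ⟨⟨S, h1⟩, rfl⟩
    · rintro ⟨x, rfl⟩
      exact Subtype.ext x.2
  have hS' : S ∈ D.relC := (D.mem_relC S).mpr hS
  have hx : D.relC.subtype ⟨S, hS'⟩ ∈
      IsLocalRing.maximalIdeal C • (⊤ : Submodule C (σ → MvPolynomial ι C)) := by
    show S ∈ _
    have h1 : S = ∑ s, (LinearMap.single C (fun _ : σ => MvPolynomial ι C) s) (S s) := by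
      funext t
      rw [Finset.sum_apply]
      simp [Pi.single_apply]
    rw [h1]
    refine Submodule.sum_mem _ fun s _ => ?_
    exact map_mem_smul_top _ _ _ (mem_smul_top_of_redP_eq_zero _ (hred s))
  have h := mem_smul_top_of_exact_of_flat (IsLocalRing.maximalIdeal C) D.relC.subtype π
    Subtype.val_injective hex hπ ⟨S, hS'⟩ hx
  exact mem_smul_of_mem_smul_top _ D.relC ⟨S, hS'⟩ h

end PDef

end Groth.Agent.H6.ObsAff
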