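import Mathlib
import Groth.Prelude.Def_ArtFun4
import Groth.Prelude.Def_CotT
import Groth.Agent.Lib.Helper6.ObsAff4

set_option autoImplicit false
universe u
open CategoryTheory ArtFun ArtFun.Art TensorProduct

namespace Groth.Agent.H6.ObsAff

open Groth.Agent.H6.DefAff

variable {k : Type u} [Field k] {B₀ : Type u} [CommRing B₀] [Algebra k B₀] {ι σ : Type u}

section K

variable {C' C : Art k k} (p : C' ⟶ C)

theorem ker_mapP : RingHom.ker (mapP (ι := ι) p) =
    (RingHom.ker (p.toAlgHom : C' →+* C)).map (MvPolynomial.C : C' →+* MvPolynomial ι C') :=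
  MvPolynomial.ker_map _

theorem mul_eq_zero_of_redP_of_mapP (hp : IsSemismallExt p) (G g : MvPolynomial ι C')
    (hG : redP C' G = 0) (hg : mapP p g = 0) : G * g = 0 := by
  have h1 : G ∈ (IsLocalRing.maximalIdeal C').map
      (MvPolynomial.C : C' →+* MvPolynomial ι C') := (PDef.mem_ker_redP_iff G).mp hG
  have h2 : g ∈ (RingHom.ker (p.toAlgHom : C' →+* C)).map
      (MvPolynomial.C : C' →+* MvPolynomial ι C') := by
    rw [← ker_mapP]
    exact hg
  have h3 := Ideal.mul_mem_mul h1 h2
  rw [← Ideal.map_mul] at h3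
  have h4 : IsLocalRing.maximalIdeal C' * RingHom.ker (p.toAlgHom : C' →+* C) = ⊥ := hp.2
  rw [h4, Ideal.map_bot] at h3
  exact h3

theorem mul_eq_constP_mul (hp : IsSemismallExt p) (G g : MvPolynomial ι C')
    (hg : mapP p g = 0) : G * g = constP C' (redP C' G) * g := by
  have h := mul_eq_zero_of_redP_of_mapP p hp (G - constP C' (redP C' G)) g
    (by rw [map_sub, redP_constP, sub_self]) hg
  rw [sub_mul, sub_eq_zero] at h
  exact h

theorem redP_eq_zero_of_mapP (g : MvPolynomial ι C') (hg : mapP p g = 0) : redP C' g = 0 := by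
  rw [← redP_mapP p, hg, map_zero]

end K

section Triv

variable (B₀)

/-- the trivial deformation -/
noncomputable def trivR (C : Art k k) : RDef B₀ C where
  E := C ⊗[k] B₀
  toE := algebraMap C (C ⊗[k] B₀)
  flat := RingHom.flat_algebraMap_iff.mpr inferInstance
  pr := ((Algebra.TensorProduct.lid k B₀).toAlgHom.comp
    (Algebra.TensorProduct.map C.res (AlgHom.id k B₀)) : C ⊗[k] B₀ →+* B₀)
  pr_toE := fun a => by
    show (Algebra.TensorProduct.lid k B₀) ((Algebra.TensorProduct.map C.res (AlgHom.id k B₀))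
      (a ⊗ₜ[k] (1 : B₀))) = _
    rw [Algebra.TensorProduct.map_tmul, Algebra.TensorProduct.lid_tmul, AlgHom.id_apply,
      Algebra.algebraMap_eq_smul_one]
  pr_surjective := fun b => ⟨(1 : C) ⊗ₜ[k] b, by
    show (Algebra.TensorProduct.lid k B₀) ((Algebra.TensorProduct.map C.res (AlgHom.id k B₀))
      ((1 : C) ⊗ₜ[k] b)) = _
    rw [Algebra.TensorProduct.map_tmul, Algebra.TensorProduct.lid_tmul, AlgHom.id_apply,
      map_one, one_smul]⟩
  ker_pr := by
    have h1 : RingHom.ker (((Algebra.TensorProduct.lid k B₀).toAlgHom.comp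
        (Algebra.TensorProduct.map C.res (AlgHom.id k B₀)) : C ⊗[k] B₀ →+* B₀)) =
        RingHom.ker (Algebra.TensorProduct.map C.res (AlgHom.id k B₀)) := by
      ext x
      rw [RingHom.mem_ker, RingHom.mem_ker]
      show (Algebra.TensorProduct.lid k B₀) _ = 0 ↔ _
      rw [EmbeddingLike.map_eq_zero_iff]
      rfl
    rw [h1, Algebra.TensorProduct.rTensor_ker _ C.res_surjective]
    have h2 : RingHom.ker C.res = IsLocalRing.maximalIdeal C := RDef.ker_res C
    rw [h2]
    rfl

variable {B₀} (P : Algebra.Presentation k B₀ ι σ)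

theorem evP_trivR_constP (C : Art k k) (h : MvPolynomial ι k) :
    evP (trivR B₀ C) (fun i => (1 : C) ⊗ₜ[k] P.val i) (constP C h) =
      (1 : C) ⊗ₜ[k] MvPolynomial.aeval P.val h := by
  have : ((evP (trivR B₀ C) (fun i => (1 : C) ⊗ₜ[k] P.val i)).comp (constP C)) =
      ((Algebra.TensorProduct.includeRight : B₀ →ₐ[k] C ⊗[k] B₀) : B₀ →+* C ⊗[k] B₀).comp
        ((MvPolynomial.aeval P.val : MvPolynomial ι k →ₐ[k] B₀) : MvPolynomial ι k →+* B₀) := by
    apply MvPolynomial.ringHom_ext
    · intro c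
      show evP (trivR B₀ C) _ (constP C (MvPolynomial.C c)) =
        (1 : C) ⊗ₜ[k] (MvPolynomial.aeval P.val (MvPolynomial.C c : MvPolynomial ι k))
      unfold constP
      rw [MvPolynomial.map_C, evP_C, MvPolynomial.aeval_C]
      show (algebraMap k C c) ⊗ₜ[k] (1 : B₀) = (1 : C) ⊗ₜ[k] algebraMap k B₀ c
      rw [Algebra.algebraMap_eq_smul_one, Algebra.algebraMap_eq_smul_one, TensorProduct.smul_tmul]
    · intro i
      show evP (trivR B₀ C) _ (constP C (MvPolynomial.X i)) =
        (1 : C) ⊗ₜ[k] (MvPolynomial.aeval P.val (MvPolynomial.X i : MvPolynomial ι k))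
      unfold constP
      rw [MvPolynomial.map_X, evP_X, MvPolynomial.aeval_X]
  exact DFunLike.congr_fun this h

/-- the trivial presented deformation -/
noncomputable def trivD (C : Art k k) : PDef P C where
  R := trivR B₀ C
  v := fun i => (1 : C) ⊗ₜ[k] P.val i
  pr_v := fun i => by
    show (Algebra.TensorProduct.lid k B₀) ((Algebra.TensorProduct.map C.res (AlgHom.id k B₀))
      ((1 : C) ⊗ₜ[k] P.val i)) = _
    rw [Algebra.TensorProduct.map_tmul, Algebra.TensorProduct.lid_tmul, AlgHom.id_apply,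
      map_one, one_smul]
  F := fun s => constP C (P.relation s)
  ev_F := fun s => by
    rw [evP_trivR_constP, aeval_val_relation, TensorProduct.tmul_zero]
    rfl
  red_F := fun s => redP_constP C _

theorem comm_thetaP (C : Art k k) (G : MvPolynomial ι C) :
    Algebra.TensorProduct.comm k B₀ C (thetaP P.val C G) = (trivD P C).ev G := by
  have : (((Algebra.TensorProduct.comm k B₀ C : B₀ ⊗[k] C ≃ₐ[k] C ⊗[k] B₀) :
        B₀ ⊗[k] C →+* C ⊗[k] B₀).comp (thetaP P.val C)) = (trivD P C).ev := by
    apply MvPolynomial.ringHom_ext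
    · intro c
      show Algebra.TensorProduct.comm k B₀ C (thetaP P.val C (MvPolynomial.C c)) =
        evP (trivR B₀ C) _ (MvPolynomial.C c)
      rw [thetaP_C, evP_C, Algebra.TensorProduct.comm_tmul]
      rfl
    · intro i
      show Algebra.TensorProduct.comm k B₀ C (thetaP P.val C (MvPolynomial.X i)) =
        evP (trivR B₀ C) _ (MvPolynomial.X i)
      rw [thetaP_X, evP_X, Algebra.TensorProduct.comm_tmul]
      rfl
  exact DFunLike.congr_fun this G

theorem exists_of_thetaP_eq_zero [Fintype σ] {C' C : Art k k} (p : C' ⟶ C)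
    (g : MvPolynomial ι C') (hg : mapP p g = 0) (hθ : thetaP P.val C' g = 0) :
    ∃ d : σ → MvPolynomial ι C', (∀ s, mapP p (d s) = 0) ∧
      g = ∑ s, d s * constP C' (P.relation s) := by
  have hev : (trivD P C').ev g = 0 := by
    rw [← comm_thetaP, hθ, map_zero]
    rfl
  have hI : g ∈ (RingHom.ker (p.toAlgHom : C' →+* C)).map
      (MvPolynomial.C : C' →+* MvPolynomial ι C') := by
    rw [← ker_mapP]
    exact hg
  have h1 := (trivD P C').mem_smul_kerC_of_mem_map _ g hev hI
  have h2 : (trivD P C').kerC = (trivD P C').spanC := by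
    show (RingHom.ker (trivD P C').ev).restrictScalars C' = _
    rw [(trivD P C').ker_ev_eq_span]
  rw [h2] at h1
  obtain ⟨M, hM1, hM2⟩ := (trivD P C').exists_of_mem_smul_spanC' _ g h1
  refine ⟨M, fun s => ?_, hM2⟩
  have := hM1 s
  rw [← ker_mapP] at this
  exact this

end Triv

end Groth.Agent.H6.ObsAff
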