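import Mathlib
import Groth.Prelude.Def_ArtFun4
import Groth.Prelude.Def_CotT
import Groth.Agent.Lib.Helper6.ObsAff5

set_option autoImplicit false
universe u
open CategoryTheory ArtFun ArtFun.Art TensorProduct

namespace Groth.Agent.H6.ObsAff

open Groth.Agent.H6.DefAff

variable {k : Type u} [Field k] {B₀ : Type u} [CommRing B₀] [Algebra k B₀] {ι σ : Type u}
variable {P : Algebra.Presentation k B₀ ι σ} {C' C : Art k k} (p : C' ⟶ C) (D : PDef P C)
variable [Fintype σ]

/-- a valid lift of a relation -/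
def IsLiftRel (q : σ → MvPolynomial ι k) (R' : σ → MvPolynomial ι C') : Prop :=
  (∀ s, redP C' (R' s) = q s) ∧ ∑ s, mapP p (R' s) * D.F s = 0

theorem exists_isLiftRel (hp : Function.Surjective p) (q : σ → MvPolynomial ι k)
    (hq : ∑ s, q s * P.relation s = 0) : ∃ R', IsLiftRel p D q R' := by
  obtain ⟨Q, hQ1, hQ2⟩ := D.exists_lift_relation q hq
  choose R' hR' using fun s => mapP_surjective (ι := ι) p hp (Q s)
  refine ⟨R', fun s => ?_, ?_⟩
  · rw [← redP_mapP p, hR', hQ1]
  · rw [← hQ2]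
    exact Finset.sum_congr rfl fun s _ => by rw [hR']

/-- the polynomial whose image is the value of the obstruction cochain -/
noncomputable def cochP (F' R' : σ → MvPolynomial ι C') : MvPolynomial ι C' := ∑ s, R' s * F' s

theorem cochP_add (F' R' R'' : σ → MvPolynomial ι C') :
    cochP F' (fun s => R' s + R'' s) = cochP F' R' + cochP F' R'' := by
  unfold cochP
  rw [← Finset.sum_add_distrib]
  exact Finset.sum_congr rfl fun s _ => by ring

theorem cochP_sub (F' R' R'' : σ → MvPolynomial ι C') :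
    cochP F' (fun s => R' s - R'' s) = cochP F' R' - cochP F' R'' := by
  unfold cochP
  rw [← Finset.sum_sub_distrib]
  exact Finset.sum_congr rfl fun s _ => by ring

theorem cochP_mul (F' R' : σ → MvPolynomial ι C') (G : MvPolynomial ι C') :
    cochP F' (fun s => G * R' s) = G * cochP F' R' := by
  unfold cochP
  rw [Finset.mul_sum]
  exact Finset.sum_congr rfl fun s _ => by ring

variable {p D} (F' : σ → MvPolynomial ι C') (hF' : ∀ s, mapP p (F' s) = D.F s)

include hF' in
theorem mapP_cochP (R' : σ → MvPolynomial ι C') :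
    mapP p (cochP F' R') = ∑ s, mapP p (R' s) * D.F s := by
  unfold cochP
  rw [map_sum]
  exact Finset.sum_congr rfl fun s _ => by rw [map_mul, hF']

include hF' in
theorem redP_F' (s : σ) : redP C' (F' s) = P.relation s := by
  rw [← redP_mapP p, hF', D.red_F]

include hF' in
theorem thetaP_mul_F' (hp : IsSemismallExt p) (e : MvPolynomial ι C') (he : mapP p e = 0)
    (s : σ) : thetaP P.val C' (e * F' s) = 0 := by
  rw [mul_comm, mul_eq_constP_mul p hp (F' s) e he, redP_F' F' hF', map_mul, thetaP_constP,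
    aeval_val_relation, TensorProduct.zero_tmul, zero_mul]

include hF' in
theorem thetaP_cochP_eq_zero_of_mem (hp : IsSemismallExt p) (T : σ → MvPolynomial ι C)
    (hT : T ∈ IsLocalRing.maximalIdeal C • D.relC) :
    ∀ S' : σ → MvPolynomial ι C', (∀ s, mapP p (S' s) = T s) →
      thetaP P.val C' (cochP F' S') = 0 := by
  refine Submodule.smul_induction_on hT ?_ ?_
  · intro a ha S₀ hS₀ S' hS'
    obtain ⟨a', rfl⟩ := hp.1 a
    have ha' : redP (ι := ι) C' (MvPolynomial.C a') = 0 := by
      apply redP_C_of_mem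
      rw [Art.mem_maximalIdeal_iff, ← Art.res_app p]
      exact (Art.mem_maximalIdeal_iff _ _).mp ha
    choose S₀' hS₀' using fun s => mapP_surjective (ι := ι) p hp.1 (S₀ s)
    have he : ∀ s, mapP p (S' s - MvPolynomial.C a' * S₀' s) = 0 := by
      intro s
      rw [map_sub, map_mul, hS', hS₀']
      show (p a' • S₀) s - mapP p (MvPolynomial.C a') * S₀ s = 0
      unfold mapP
      rw [MvPolynomial.map_C, Pi.smul_apply, MvPolynomial.smul_eq_C_mul]
      exact sub_self _
    have h1 : cochP F' S' = MvPolynomial.C a' * cochP F' S₀' +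
        cochP F' (fun s => S' s - MvPolynomial.C a' * S₀' s) := by
      rw [cochP_sub, cochP_mul]
      ring
    have h2 : MvPolynomial.C a' * cochP F' S₀' = 0 := by
      refine mul_eq_zero_of_redP_of_mapP p hp _ _ ha' ?_
      rw [mapP_cochP F' hF']
      have := (D.mem_relC S₀).mp hS₀
      rw [← this]
      exact Finset.sum_congr rfl fun s _ => by rw [hS₀']
    rw [h1, h2, zero_add]
    unfold cochP
    rw [map_sum]
    exact Finset.sum_eq_zero fun s _ => thetaP_mul_F' F' hF' hp _ (he s) s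
  · intro T₁ T₂ h₁ h₂ S' hS'
    choose S₁' hS₁' using fun s => mapP_surjective (ι := ι) p hp.1 (T₁ s)
    have h3 : cochP F' S' = cochP F' S₁' + cochP F' (fun s => S' s - S₁' s) := by
      rw [cochP_sub]
      ring
    rw [h3, map_add, h₁ S₁' hS₁', h₂ _ (fun s => by rw [map_sub, hS', hS₁']; simp), add_zero]

include hF' in
theorem thetaP_cochP_eq (hp : IsSemismallExt p) (q : σ → MvPolynomial ι k)
    (R' R'' : σ → MvPolynomial ι C') (h' : IsLiftRel p D q R') (h'' : IsLiftRel p D q R'') :
    thetaP P.val C' (cochP F' R') = thetaP P.val C' (cochP F' R'') := by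
  classical
  have hT : (fun s => mapP p (R' s - R'' s)) ∈ IsLocalRing.maximalIdeal C • D.relC := by
    apply D.mem_smul_relC
    · have : ∑ s, mapP p (R' s - R'' s) * D.F s =
          ∑ s, mapP p (R' s) * D.F s - ∑ s, mapP p (R'' s) * D.F s := by
        rw [← Finset.sum_sub_distrib]
        exact Finset.sum_congr rfl fun s _ => by rw [map_sub]; ring
      rw [this, h'.2, h''.2, sub_zero]
    · intro s
      rw [redP_mapP, map_sub, h'.1, h''.1, sub_self]
  have h1 := thetaP_cochP_eq_zero_of_mem F' hF' hp _ hT (fun s => R' s - R'' s) (fun s => rfl)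
  rw [cochP_sub, map_sub, sub_eq_zero] at h1
  exact h1

include hF' in
theorem exists_cochain (hp : IsSemismallExt p) (q : σ → MvPolynomial ι k)
    (hq : ∑ s, q s * P.relation s = 0) :
    ∃ z : B₀ ⊗[k] ↥(RingHom.ker p.toAlgHom), ∀ R', IsLiftRel p D q R' →
      epsJ p z = thetaP P.val C' (cochP F' R') := by
  obtain ⟨R₀', hR₀'⟩ := exists_isLiftRel p D hp.1 q hq
  have h0 : trMap p (thetaP P.val C' (cochP F' R₀')) = 0 := by
    rw [trMap_thetaP, mapP_cochP F' hF', hR₀'.2, map_zero]
  obtain ⟨z, hz⟩ := exists_epsJ_eq p hp.1 _ h0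
  exact ⟨z, fun R' hR' => hz.trans (thetaP_cochP_eq F' hF' hp q R₀' R' hR₀' hR')⟩

/-- the obstruction cochain -/
noncomputable def cochain (hp : IsSemismallExt p) (q : σ → MvPolynomial ι k)
    (hq : ∑ s, q s * P.relation s = 0) : B₀ ⊗[k] ↥(RingHom.ker p.toAlgHom) :=
  (exists_cochain F' hF' hp q hq).choose

theorem epsJ_cochain (hp : IsSemismallExt p) (q : σ → MvPolynomial ι k)
    (hq : ∑ s, q s * P.relation s = 0) (R' : σ → MvPolynomial ι C') (hR' : IsLiftRel p D q R') :
    epsJ p (cochain F' hF' hp q hq) = thetaP P.val C' (cochP F' R') :=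
  (exists_cochain F' hF' hp q hq).choose_spec R' hR'


theorem IsLiftRel.add {q₁ q₂ : σ → MvPolynomial ι k} {R₁ R₂ : σ → MvPolynomial ι C'}
    (h₁ : IsLiftRel p D q₁ R₁) (h₂ : IsLiftRel p D q₂ R₂) :
    IsLiftRel p D (fun s => q₁ s + q₂ s) (fun s => R₁ s + R₂ s) := by
  refine ⟨fun s => by rw [map_add, h₁.1, h₂.1], ?_⟩
  have : ∑ s, mapP p (R₁ s + R₂ s) * D.F s =
      ∑ s, mapP p (R₁ s) * D.F s + ∑ s, mapP p (R₂ s) * D.F s := by
    rw [← Finset.sum_add_distrib]
    exact Finset.sum_congr rfl fun s _ => by rw [map_add]; ring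
  rw [this, h₁.2, h₂.2, add_zero]

theorem IsLiftRel.const_mul {q : σ → MvPolynomial ι k} {R' : σ → MvPolynomial ι C'}
    (h : IsLiftRel p D q R') (g : MvPolynomial ι k) :
    IsLiftRel p D (fun s => g * q s) (fun s => constP C' g * R' s) := by
  refine ⟨fun s => by rw [map_mul, redP_constP, h.1], ?_⟩
  have : ∑ s, mapP p (constP C' g * R' s) * D.F s =
      constP C g * ∑ s, mapP p (R' s) * D.F s := by
    rw [Finset.mul_sum]
    exact Finset.sum_congr rfl fun s _ => by rw [map_mul, mapP_constP]; ring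
  rw [this, h.2, mul_zero]

theorem cochain_add (hp : IsSemismallExt p) (q₁ q₂ : σ → MvPolynomial ι k)
    (hq₁ : ∑ s, q₁ s * P.relation s = 0) (hq₂ : ∑ s, q₂ s * P.relation s = 0)
    (hq : ∑ s, (q₁ s + q₂ s) * P.relation s = 0) :
    cochain F' hF' hp (fun s => q₁ s + q₂ s) hq =
      cochain F' hF' hp q₁ hq₁ + cochain F' hF' hp q₂ hq₂ := by
  apply epsJ_injective p
  obtain ⟨R₁, hR₁⟩ := exists_isLiftRel p D hp.1 q₁ hq₁
  obtain ⟨R₂, hR₂⟩ := exists_isLiftRel p D hp.1 q₂ hq₂
  rw [map_add, epsJ_cochain F' hF' hp _ _ _ (hR₁.add hR₂), epsJ_cochain F' hF' hp _ _ _ hR₁,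
    epsJ_cochain F' hF' hp _ _ _ hR₂, cochP_add, map_add]

theorem cochain_smul (hp : IsSemismallExt p) (g : MvPolynomial ι k) (q : σ → MvPolynomial ι k)
    (hq : ∑ s, q s * P.relation s = 0) (hq' : ∑ s, (g * q s) * P.relation s = 0) :
    cochain F' hF' hp (fun s => g * q s) hq' =
      (MvPolynomial.aeval P.val g) • cochain F' hF' hp q hq := by
  apply epsJ_injective p
  obtain ⟨R', hR'⟩ := exists_isLiftRel p D hp.1 q hq
  rw [map_smul, epsJ_cochain F' hF' hp _ _ _ (hR'.const_mul g), epsJ_cochain F' hF' hp _ _ _ hR',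
    cochP_mul, map_mul, thetaP_constP, Algebra.smul_def, Algebra.TensorProduct.algebraMap_apply]
  rfl

theorem cochain_congr (hp : IsSemismallExt p) (q q' : σ → MvPolynomial ι k) (h : q = q')
    (hq : ∑ s, q s * P.relation s = 0) (hq' : ∑ s, q' s * P.relation s = 0) :
    cochain F' hF' hp q hq = cochain F' hF' hp q' hq' := by
  subst h
  rfl

theorem cochain_triv (hp : IsSemismallExt p) (a b : σ → MvPolynomial ι k)
    (hq : ∑ s, ((∑ t, a t * P.relation t) * b s - (∑ t, b t * P.relation t) * a s) *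
      P.relation s = 0) :
    cochain F' hF' hp
      (fun s => (∑ t, a t * P.relation t) * b s - (∑ t, b t * P.relation t) * a s) hq = 0 := by
  apply epsJ_injective p
  choose A' hA' using fun s => redP_surjective (ι := ι) C' (a s)
  choose B' hB' using fun s => redP_surjective (ι := ι) C' (b s)
  have h0 : cochP F' (fun s => (∑ t, A' t * F' t) * B' s - (∑ t, B' t * F' t) * A' s) = 0 := by
    rw [cochP_sub, cochP_mul, cochP_mul]
    unfold cochP
    ring
  have hR' : IsLiftRel p D
      (fun s => (∑ t, a t * P.relation t) * b s - (∑ t, b t * P.relation t) * a s)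
      (fun s => (∑ t, A' t * F' t) * B' s - (∑ t, B' t * F' t) * A' s) := by
    refine ⟨fun s => ?_, ?_⟩
    · rw [map_sub, map_mul, map_mul, map_sum, map_sum, hA', hB']
      congr 2
      · exact Finset.sum_congr rfl fun t _ => by rw [map_mul, hA', redP_F' F' hF']
      · exact Finset.sum_congr rfl fun t _ => by rw [map_mul, hB', redP_F' F' hF']
    · rw [← mapP_cochP F' hF', h0, map_zero]
  rw [epsJ_cochain F' hF' hp _ _ _ hR', h0, map_zero, map_zero]

theorem cochain_sub_cochain (hp : IsSemismallExt p) (F'' : σ → MvPolynomial ι C')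
    (hF'' : ∀ s, mapP p (F'' s) = D.F s) (h : σ → B₀ ⊗[k] ↥(RingHom.ker p.toAlgHom))
    (hh : ∀ s, epsJ p (h s) = thetaP P.val C' (F' s - F'' s)) (q : σ → MvPolynomial ι k)
    (hq : ∑ s, q s * P.relation s = 0) :
    cochain F' hF' hp q hq - cochain F'' hF'' hp q hq =
      ∑ s, MvPolynomial.aeval P.val (q s) • h s := by
  apply epsJ_injective p
  obtain ⟨R', hR'⟩ := exists_isLiftRel p D hp.1 q hq
  rw [map_sub, epsJ_cochain F' hF' hp _ _ _ hR', epsJ_cochain F'' hF'' hp _ _ _ hR', map_sum,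
    ← map_sub]
  have h1 : cochP F' R' - cochP F'' R' = ∑ s, R' s * (F' s - F'' s) := by
    unfold cochP
    rw [← Finset.sum_sub_distrib]
    exact Finset.sum_congr rfl fun s _ => by ring
  rw [h1, map_sum]
  refine Finset.sum_congr rfl fun s _ => ?_
  have hw : trMap p (thetaP P.val C' (F' s - F'' s)) = 0 := by
    rw [trMap_thetaP, map_sub, hF', hF'', sub_self, map_zero]
  rw [map_mul, mul_eq_res_smul p hp _ _ hw, trRes_thetaP, hR'.1, map_smul, hh]

end Groth.Agent.H6.ObsAff
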