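import Mathlib
import Groth.Prelude.Def_ArtFun4
import Groth.Prelude.Def_CotT
import Groth.Agent.Lib.Helper6.ObsAff6

set_option autoImplicit false
universe u
open CategoryTheory ArtFun ArtFun.Art TensorProduct

namespace Groth.Agent.H6.ObsAff

open Groth.Agent.H6.DefAff

variable {k : Type u} [Field k] {B₀ : Type u} [CommRing B₀] [Algebra k B₀] {ι σ : Type u}
variable {P : Algebra.Presentation k B₀ ι σ}

theorem mapP_mapP {C' C'' C : Art k k} (r : C' ⟶ C'') (p'' : C'' ⟶ C) (G : MvPolynomial ι C') :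
    mapP p'' (mapP r G) = mapP (r ≫ p'') G := by
  unfold mapP
  rw [MvPolynomial.map_map]
  rfl

section Quot

variable {C' C'' C : Art k k} (r : C' ⟶ C'') (p'' : C'' ⟶ C) (p : C' ⟶ C) (hrp : r ≫ p'' = p)
  (κ : ↥(RingHom.ker p.toAlgHom) →ₗ[k] ↥(RingHom.ker p''.toAlgHom))
  (hκ : ∀ j, ((κ j : ↥(RingHom.ker p''.toAlgHom)) : C'') = r (j : C'))

include hκ in
theorem epsJ_lTensor (z : B₀ ⊗[k] ↥(RingHom.ker p.toAlgHom)) :
    epsJ p'' (LinearMap.lTensor B₀ κ z) = trMap r (epsJ p z) := by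
  induction z using TensorProduct.induction_on with
  | zero => simp
  | tmul b j => rw [LinearMap.lTensor_tmul, epsJ_tmul, epsJ_tmul, trMap_tmul, hκ]
  | add x y hx hy => rw [map_add, map_add, map_add, map_add, hx, hy]

variable [Fintype σ] {D : PDef P C} (F' : σ → MvPolynomial ι C')
  (hF' : ∀ s, mapP p (F' s) = D.F s)

include hrp hF' in
theorem mapP_mapP_F' (s : σ) : mapP p'' (mapP r (F' s)) = D.F s := by
  rw [mapP_mapP, hrp, hF']

include hrp hκ in
theorem cochain_quot (hp : IsSemismallExt p) (hp'' : IsSemismallExt p'')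
    (q : σ → MvPolynomial ι k) (hq : ∑ s, q s * P.relation s = 0) :
    cochain (fun s => mapP r (F' s)) (mapP_mapP_F' r p'' p hrp F' hF') hp'' q hq =
      LinearMap.lTensor B₀ κ (cochain F' hF' hp q hq) := by
  apply epsJ_injective p''
  obtain ⟨R', hR'⟩ := exists_isLiftRel p D hp.1 q hq
  have hR'' : IsLiftRel p'' D q (fun s => mapP r (R' s)) := by
    refine ⟨fun s => by rw [redP_mapP, hR'.1], ?_⟩
    rw [← hR'.2]
    exact Finset.sum_congr rfl fun s _ => by rw [mapP_mapP, hrp]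
  rw [epsJ_lTensor r p'' p κ hκ, epsJ_cochain _ _ hp'' _ _ _ hR'', epsJ_cochain F' hF' hp _ _ _ hR',
    trMap_thetaP]
  congr 1
  unfold cochP
  rw [map_sum]
  exact Finset.sum_congr rfl fun s _ => by rw [map_mul]

end Quot

end Groth.Agent.H6.ObsAff
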