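import Mathlib
import Groth.Prelude.Def_ArtFun4
import Groth.Prelude.Def_CotT
import Groth.Agent.Lib.Helper6.ObsAff7
import Groth.Agent.Lib.Helper6.CotTL2

set_option autoImplicit false
universe u
open CategoryTheory ArtFun ArtFun.Art TensorProduct

namespace Groth.Agent.H6.ObsAff

open Groth.Agent.H6.DefAff

variable {k : Type u} [Field k] {B₀ : Type u} [CommRing B₀] [Algebra k B₀] {ι σ : Type u}
variable {P : Algebra.Presentation k B₀ ι σ}

section Lin

variable [Fintype σ]

/-- the components of an element of the free module on the relations, as polynomials -/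
noncomputable def relFun (f : CotT.relMod P) : σ → MvPolynomial ι k := fun s => f s

theorem relFun_add (f g : CotT.relMod P) :
    relFun (f + g) = fun s => relFun f s + relFun g s := rfl

theorem relFun_sub (f g : CotT.relMod P) :
    relFun (f - g) = fun s => relFun f s - relFun g s := rfl

theorem relFun_smul (a : P.toExtension.Ring) (f : CotT.relMod P) :
    relFun (a • f) = fun s => (show MvPolynomial ι k from a) * relFun f s := rfl

theorem jmap_eq_sum (f : CotT.relMod P) :
    (show MvPolynomial ι k from CotT.jmap P f) = ∑ s, relFun f s * P.relation s := by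
  unfold CotT.jmap
  rw [Finsupp.linearCombination_apply, Finsupp.sum_fintype]
  · rfl
  · intro s
    exact zero_smul _ _

theorem sum_eq_zero_of_mem_relKer (q : CotT.relKer P) :
    ∑ s, relFun (q : CotT.relMod P) s * P.relation s = 0 := by
  rw [← jmap_eq_sum]
  exact q.2

variable {C' C : Art k k} {p : C' ⟶ C} {D : PDef P C} (F' : σ → MvPolynomial ι C')
  (hF' : ∀ s, mapP p (F' s) = D.F s) (hp : IsSemismallExt p)

/-- the obstruction cochain on the relation module -/
noncomputable def cochainQ (q : CotT.relKer P) : B₀ ⊗[k] ↥(RingHom.ker p.toAlgHom) :=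
  cochain F' hF' hp (relFun (q : CotT.relMod P)) (sum_eq_zero_of_mem_relKer q)

/-- the obstruction cochain as a linear map on the relation module -/
noncomputable def cochainLin :
    CotT.relKer P →ₗ[P.toExtension.Ring] (B₀ ⊗[k] ↥(RingHom.ker p.toAlgHom)) where
  toFun := cochainQ F' hF' hp
  map_add' q₁ q₂ := by
    unfold cochainQ
    rw [← cochain_add F' hF' hp _ _ (sum_eq_zero_of_mem_relKer q₁) (sum_eq_zero_of_mem_relKer q₂)
      (by
        have := sum_eq_zero_of_mem_relKer (q₁ + q₂)
        rw [Submodule.coe_add, relFun_add] at this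
        exact this)]
    apply cochain_congr
    rw [Submodule.coe_add, relFun_add]
  map_smul' g q := by
    have h1 : (g • cochainQ F' hF' hp q) =
        (MvPolynomial.aeval P.val (show MvPolynomial ι k from g)) • cochainQ F' hF' hp q := by
      rw [← algebraMap_smul B₀ g, CotT.algebraMap_toExtension]
    rw [RingHom.id_apply, h1]
    unfold cochainQ
    rw [← cochain_smul F' hF' hp g _ (sum_eq_zero_of_mem_relKer q)
      (by
        have := sum_eq_zero_of_mem_relKer (g • q)
        rw [Submodule.coe_smul, relFun_smul] at this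
        exact this)]
    apply cochain_congr
    rw [Submodule.coe_smul, relFun_smul]

theorem cochainLin_apply (q : CotT.relKer P) :
    cochainLin F' hF' hp q = cochainQ F' hF' hp q := rfl

theorem cochainLin_eq_zero_of_mem_trivRel (y : CotT.relKer P)
    (hy : (y : CotT.relMod P) ∈ CotT.trivRel P) : cochainLin F' hF' hp y = 0 := by
  have hle : CotT.trivRel P ≤
      (LinearMap.ker (cochainLin F' hF' hp)).map (CotT.relKer P).subtype := by
    refine Submodule.span_le.mpr ?_
    rintro _ ⟨a, b, rfl⟩
    have hmem : CotT.jmap P a • b - CotT.jmap P b • a ∈ CotT.relKer P :=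
      CotT.trivRel_le_relKer P (Submodule.subset_span ⟨a, b, rfl⟩)
    refine ⟨⟨_, hmem⟩, ?_, rfl⟩
    show cochainLin F' hF' hp ⟨_, hmem⟩ = 0
    rw [cochainLin_apply]
    unfold cochainQ
    have hrel : relFun (CotT.jmap P a • b - CotT.jmap P b • a) =
        fun s => (∑ t, relFun a t * P.relation t) * relFun b s -
          (∑ t, relFun b t * P.relation t) * relFun a s := by
      rw [relFun_sub, relFun_smul, relFun_smul, jmap_eq_sum, jmap_eq_sum]
    have hq0 : ∑ s, ((∑ t, relFun a t * P.relation t) * relFun b s -
        (∑ t, relFun b t * P.relation t) * relFun a s) * P.relation s = 0 := by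
      have := sum_eq_zero_of_mem_relKer (P := P) ⟨_, hmem⟩
      rw [hrel] at this
      exact this
    rw [← cochain_triv F' hF' hp (relFun a) (relFun b) hq0]
    apply cochain_congr
    exact hrel
  obtain ⟨y', hy', hyy'⟩ := hle hy
  have : y' = y := Subtype.ext hyy'
  rw [← this]
  exact hy'

/-- the obstruction cochain as a linear map on `L₂` -/
noncomputable def cochainL2 : CotT.L2 P →ₗ[B₀] (B₀ ⊗[k] ↥(RingHom.ker p.toAlgHom)) :=
  Submodule.liftQ _ (LinearMap.liftBaseChange B₀ (cochainLin F' hF' hp)) (by
    rw [LinearMap.range_le_ker_iff]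
    refine TensorProduct.AlgebraTensorModule.ext fun b y => ?_
    rw [LinearMap.comp_apply, LinearMap.baseChange_tmul, LinearMap.liftBaseChange_tmul,
      LinearMap.zero_apply]
    have : cochainLin F' hF' hp ((CotT.trivRelKer P).subtype y) = 0 :=
      cochainLin_eq_zero_of_mem_trivRel F' hF' hp _ y.2
    rw [this, smul_zero])

theorem cochainL2_mk (q : CotT.relKer P) :
    cochainL2 F' hF' hp (Submodule.Quotient.mk ((1 : B₀) ⊗ₜ q)) = cochainQ F' hF' hp q := by
  unfold cochainL2
  rw [Submodule.liftQ_apply, LinearMap.liftBaseChange_tmul, one_smul, cochainLin_apply]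

end Lin

end Groth.Agent.H6.ObsAff
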