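import Mathlib
import Groth.Prelude.Def_ArtFun4
import Groth.Prelude.Def_CotT
import Groth.Agent.Lib.Helper6.ObsAff8
import Groth.Agent.Lib.Helper6.CotTL2

set_option autoImplicit false
universe u
open CategoryTheory ArtFun ArtFun.Art TensorProduct

namespace Groth.Agent.H6.ObsAff

open Groth.Agent.H6.DefAff

variable {k : Type u} [Field k] {B₀ : Type u} [CommRing B₀] [Algebra k B₀] {ι σ : Type u}
variable {P : Algebra.Presentation k B₀ ι σ}

section T2

variable [Fintype σ] {M : Type u} [AddCommGroup M] [Module B₀ M]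

theorem one_tmul_eq_sum [DecidableEq σ] (f : CotT.relMod P) :
    ((1 : B₀) ⊗ₜ[P.toExtension.Ring] f : CotT.L1 P) =
      ∑ s, MvPolynomial.aeval P.val (relFun f s) • CotT.L1basis P s := by
  have h1 : f = ∑ s, (f s) • Finsupp.single s (1 : P.toExtension.Ring) := by
    conv_lhs => rw [← Finsupp.univ_sum_single f]
    refine Finset.sum_congr rfl fun s _ => ?_
    rw [Finsupp.smul_single, smul_eq_mul, mul_one]
  conv_lhs => rw [h1]
  rw [TensorProduct.tmul_sum]
  refine Finset.sum_congr rfl fun s _ => ?_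
  rw [CotT.L1basis_apply, TensorProduct.tmul_smul, ← algebraMap_smul B₀ (f s),
    CotT.algebraMap_toExtension]
  rfl

theorem mem_range_d2Star_iff (φ : CotT.L2 P →ₗ[B₀] M) :
    φ ∈ LinearMap.range (CotT.d2Star P M) ↔ ∃ h : σ → M, ∀ q : CotT.relKer P,
      φ (Submodule.Quotient.mk ((1 : B₀) ⊗ₜ q)) =
        ∑ s, MvPolynomial.aeval P.val (relFun (q : CotT.relMod P) s) • h s := by
  classical
  constructor
  · rintro ⟨ψ, rfl⟩
    refine ⟨fun s => ψ (CotT.L1basis P s), fun q => ?_⟩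
    rw [CotT.d2Star_apply, LinearMap.comp_apply, CotT.d2_mk_tmul, one_tmul_eq_sum, map_sum]
    exact Finset.sum_congr rfl fun s _ => by rw [map_smul]
  · rintro ⟨h, hh⟩
    refine ⟨(CotT.L1basis P).constr B₀ h, ?_⟩
    apply LinearMap.ext
    intro z
    obtain ⟨q, rfl⟩ := Groth.Agent.H6.CotTT2.exists_mk_one_tmul P z
    rw [CotT.d2Star_apply, LinearMap.comp_apply, CotT.d2_mk_tmul, one_tmul_eq_sum, map_sum, hh]
    exact Finset.sum_congr rfl fun s _ => by rw [map_smul, Module.Basis.constr_basis]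

theorem toT2_eq_zero_iff (φ : CotT.L2 P →ₗ[B₀] M) :
    CotT.toT2 P M φ = 0 ↔ ∃ h : σ → M, ∀ q : CotT.relKer P,
      φ (Submodule.Quotient.mk ((1 : B₀) ⊗ₜ q)) =
        ∑ s, MvPolynomial.aeval P.val (relFun (q : CotT.relMod P) s) • h s := by
  rw [← mem_range_d2Star_iff]
  unfold CotT.toT2
  rw [Submodule.mkQ_apply, Submodule.Quotient.mk_eq_zero]

theorem toT2_eq_of_forall (φ φ' : CotT.L2 P →ₗ[B₀] M) (h : σ → M)
    (hh : ∀ q : CotT.relKer P, φ (Submodule.Quotient.mk ((1 : B₀) ⊗ₜ q)) -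
      φ' (Submodule.Quotient.mk ((1 : B₀) ⊗ₜ q)) =
        ∑ s, MvPolynomial.aeval P.val (relFun (q : CotT.relMod P) s) • h s) :
    CotT.toT2 P M φ = CotT.toT2 P M φ' := by
  rw [← sub_eq_zero, ← map_sub, toT2_eq_zero_iff]
  exact ⟨h, fun q => by rw [LinearMap.sub_apply, hh]⟩

theorem T2map_toT2 {N : Type u} [AddCommGroup N] [Module B₀ N] (g : M →ₗ[B₀] N)
    (φ : CotT.L2 P →ₗ[B₀] M) : CotT.T2map P g (CotT.toT2 P M φ) = CotT.toT2 P N (g ∘ₗ φ) := rfl

end T2

section Class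

variable [Fintype σ] {C' C : Art k k} {p : C' ⟶ C} {D : PDef P C} (F' : σ → MvPolynomial ι C')
  (hF' : ∀ s, mapP p (F' s) = D.F s) (hp : IsSemismallExt p)

/-- the obstruction class of a lift of the relations -/
noncomputable def obsClass : CotT.T2 P (B₀ ⊗[k] ↥(RingHom.ker p.toAlgHom)) :=
  CotT.toT2 P _ (cochainL2 F' hF' hp)

theorem obsClass_eq_zero_iff : obsClass F' hF' hp = 0 ↔
    ∃ h : σ → B₀ ⊗[k] ↥(RingHom.ker p.toAlgHom), ∀ q : CotT.relKer P,
      cochainQ F' hF' hp q =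
        ∑ s, MvPolynomial.aeval P.val (relFun (q : CotT.relMod P) s) • h s := by
  unfold obsClass
  rw [toT2_eq_zero_iff]
  constructor
  · rintro ⟨h, hh⟩
    exact ⟨h, fun q => by rw [← cochainL2_mk, hh]⟩
  · rintro ⟨h, hh⟩
    exact ⟨h, fun q => by rw [cochainL2_mk, hh]⟩

/-- the obstruction class does not depend on the lift of the relations -/
theorem obsClass_eq (F'' : σ → MvPolynomial ι C') (hF'' : ∀ s, mapP p (F'' s) = D.F s) :
    obsClass F' hF' hp = obsClass F'' hF'' hp := by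
  have hw : ∀ s, trMap p (thetaP P.val C' (F' s - F'' s)) = 0 := by
    intro s
    rw [trMap_thetaP, map_sub, hF', hF'', sub_self, map_zero]
  choose h hh using fun s => exists_epsJ_eq p hp.1 _ (hw s)
  unfold obsClass
  refine toT2_eq_of_forall _ _ h fun q => ?_
  rw [cochainL2_mk, cochainL2_mk]
  exact cochain_sub_cochain F' hF' hp F'' hF'' h hh _ _

end Class

section QuotClass

variable [Fintype σ] {C' C'' C : Art k k} (r : C' ⟶ C'') (p'' : C'' ⟶ C) (p : C' ⟶ C)
  (hrp : r ≫ p'' = p)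
  (κ : ↥(RingHom.ker p.toAlgHom) →ₗ[k] ↥(RingHom.ker p''.toAlgHom))
  (hκ : ∀ j, ((κ j : ↥(RingHom.ker p''.toAlgHom)) : C'') = r (j : C'))
  {D : PDef P C} (F' : σ → MvPolynomial ι C') (hF' : ∀ s, mapP p (F' s) = D.F s)

include hrp hκ in
/-- compatibility of the obstruction class with quotients of the kernel -/
theorem obsClass_quot (hp : IsSemismallExt p) (hp'' : IsSemismallExt p'')
    (F'' : σ → MvPolynomial ι C'') (hF'' : ∀ s, mapP p'' (F'' s) = D.F s) :
    obsClass F'' hF'' hp'' =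
      CotT.T2map P (TensorProduct.AlgebraTensorModule.lTensor B₀ B₀ κ) (obsClass F' hF' hp) := by
  rw [obsClass_eq F'' hF'' hp'' (fun s => mapP r (F' s)) (mapP_mapP_F' r p'' p hrp F' hF')]
  unfold obsClass
  rw [T2map_toT2]
  congr 1
  apply LinearMap.ext
  intro z
  obtain ⟨q, rfl⟩ := Groth.Agent.H6.CotTT2.exists_mk_one_tmul P z
  rw [LinearMap.comp_apply, cochainL2_mk, cochainL2_mk]
  unfold cochainQ
  rw [cochain_quot r p'' p hrp κ hκ F' hF' hp hp'']
  rfl

end QuotClass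

end Groth.Agent.H6.ObsAff
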