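import Mathlib
import Groth.Prelude.Def_ArtFun4
import Groth.Prelude.Def_CotT
import Groth.Agent.Lib.Helper6.ObsAff9
import Groth.Agent.Lib.Helper6.DefGlue1

set_option autoImplicit false
universe u
open CategoryTheory ArtFun ArtFun.Art TensorProduct

namespace Groth.Agent.H6.ObsAff

open Groth.Agent.H6.DefAff

variable {k : Type u} [Field k] {B₀ : Type u} [CommRing B₀] [Algebra k B₀] {ι σ : Type u}
variable {P : Algebra.Presentation k B₀ ι σ}

section LiftZero

variable [Fintype σ] {C' C : Art k k} {p : C' ⟶ C} {D : PDef P C}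

theorem hom_evP (R' : RDef B₀ C') (h : RDef.HomOver p R' D.R) (v' : ι → R'.E)
    (hv' : ∀ i, h.hom (v' i) = D.v i) (G : MvPolynomial ι C') :
    h.hom (evP R' v' G) = D.ev (mapP p G) := by
  have : h.hom.comp (evP R' v') = D.ev.comp (mapP p) := by
    apply MvPolynomial.ringHom_ext
    · intro c
      show h.hom (evP R' v' (MvPolynomial.C c)) = D.ev (mapP p (MvPolynomial.C c))
      unfold mapP
      rw [evP_C, MvPolynomial.map_C, h.hom_toE]
      exact (evP_C D.R D.v _).symm
    · intro i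
      show h.hom (evP R' v' (MvPolynomial.X i)) = D.ev (mapP p (MvPolynomial.X i))
      unfold mapP
      rw [evP_X, MvPolynomial.map_X, hv']
      exact (evP_X D.R D.v _).symm
  exact DFunLike.congr_fun this G

theorem exists_mapP_eq_zero_of_mem (R' : RDef B₀ C') (v' : ι → R'.E)
    (hsurj : Function.Surjective (evP R' v')) (x : R'.E)
    (hx : x ∈ (RingHom.ker (p.toAlgHom : C' →+* C)).map R'.toE) :
    ∃ g : MvPolynomial ι C', mapP p g = 0 ∧ evP R' v' g = x := by
  rw [Ideal.map] at hx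
  refine Submodule.span_induction ?_ ?_ ?_ ?_ hx
  · rintro _ ⟨j, hj, rfl⟩
    refine ⟨MvPolynomial.C j, ?_, evP_C R' v' j⟩
    unfold mapP
    rw [MvPolynomial.map_C]
    have : p j = 0 := hj
    show MvPolynomial.C (p j) = 0
    rw [this, map_zero]
  · exact ⟨0, map_zero _, map_zero _⟩
  · rintro x y _ _ ⟨g, hg1, hg2⟩ ⟨g', hg'1, hg'2⟩
    exact ⟨g + g', by rw [map_add, hg1, hg'1, add_zero], by rw [map_add, hg2, hg'2]⟩
  · rintro a x _ ⟨g, hg1, hg2⟩
    obtain ⟨Ga, rfl⟩ := hsurj a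
    exact ⟨Ga * g, by rw [map_mul, hg1, mul_zero], by rw [map_mul, hg2, smul_eq_mul]⟩

/-- if the deformation lifts, the obstruction class vanishes -/
theorem obsClass_eq_zero_of_lift (hp : IsSemismallExt p) (F' : σ → MvPolynomial ι C')
    (hF' : ∀ s, mapP p (F' s) = D.F s) (R' : RDef B₀ C') (h : RDef.HomOver p R' D.R) :
    obsClass F' hF' hp = 0 := by
  have hsurj : Function.Surjective h.hom := h.surjective hp.1
  choose v' hv' using fun i => hsurj (D.v i)
  have hprv' : ∀ i, R'.pr (v' i) = P.val i := by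
    intro i
    rw [← h.pr_hom, hv', D.pr_v]
  have hev'surj : Function.Surjective (evP R' v') := evP_surjective P R' v' hprv'
  have hF₁ : ∀ s, ∃ F₁ : MvPolynomial ι C', mapP p F₁ = D.F s ∧ evP R' v' F₁ = 0 := by
    intro s
    obtain ⟨G', hG'⟩ := mapP_surjective (ι := ι) p hp.1 (D.F s)
    have h1 : evP R' v' G' ∈ RingHom.ker h.hom := by
      rw [RingHom.mem_ker, hom_evP R' h v' hv', hG', D.ev_F]
    rw [h.ker_hom hp.1] at h1
    obtain ⟨g, hg1, hg2⟩ := exists_mapP_eq_zero_of_mem R' v' hev'surj _ h1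
    exact ⟨G' - g, by rw [map_sub, hG', hg1, sub_zero], by rw [map_sub, hg2, sub_self]⟩
  choose F₁ hF₁a hF₁b using hF₁
  let D' : PDef P C' :=
    { R := R'
      v := v'
      pr_v := hprv'
      F := F₁
      ev_F := hF₁b
      red_F := fun s => by rw [← redP_mapP p, hF₁a, D.red_F] }
  rw [obsClass_eq F' hF' hp F₁ hF₁a, obsClass_eq_zero_iff]
  refine ⟨fun _ => 0, fun q => ?_⟩
  rw [Finset.sum_eq_zero (fun s _ => smul_zero _)]
  apply epsJ_injective p
  obtain ⟨Q', hQ'1, hQ'2⟩ := D'.exists_lift_relation (relFun (q : CotT.relMod P))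
    (sum_eq_zero_of_mem_relKer q)
  have h0 : cochP F₁ Q' = 0 := hQ'2
  have hlift : IsLiftRel p D (relFun (q : CotT.relMod P)) Q' := by
    refine ⟨hQ'1, ?_⟩
    rw [← mapP_cochP F₁ hF₁a, h0, map_zero]
  unfold cochainQ
  rw [epsJ_cochain F₁ hF₁a hp _ _ _ hlift, h0, map_zero, map_zero]

end LiftZero

end Groth.Agent.H6.ObsAff
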