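import Mathlib
import Groth.Prelude.Def_ArtFun4
import Groth.Prelude.Def_CotT
import Groth.Agent.Lib.Helper6.ObsAff10

set_option autoImplicit false
universe u
open CategoryTheory ArtFun ArtFun.Art TensorProduct

namespace Groth.Agent.H6.ObsAff

open Groth.Agent.H6.DefAff

variable {k : Type u} [Field k] {B₀ : Type u} [CommRing B₀] [Algebra k B₀] {ι σ : Type u}
variable {P : Algebra.Presentation k B₀ ι σ}

section ZeroLift

variable {C' C : Art k k} {p : C' ⟶ C}

variable (P) in
theorem exists_thetaP_eq_epsJ (p : C' ⟶ C) (z : B₀ ⊗[k] ↥(RingHom.ker p.toAlgHom)) :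
    ∃ d : MvPolynomial ι C', mapP p d = 0 ∧ thetaP P.val C' d = epsJ p z := by
  induction z using TensorProduct.induction_on with
  | zero => exact ⟨0, map_zero _, by rw [map_zero, map_zero]⟩
  | tmul b j =>
    obtain ⟨g, rfl⟩ := aeval_val_surjective P b
    refine ⟨MvPolynomial.C (j : C') * constP C' g, ?_, ?_⟩
    · rw [map_mul]
      unfold mapP
      rw [MvPolynomial.map_C]
      have : p (j : C') = 0 := j.2
      show MvPolynomial.C (p (j : C')) * _ = 0
      rw [this, map_zero, zero_mul]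
    · rw [map_mul, thetaP_C, thetaP_constP, epsJ_tmul, Algebra.TensorProduct.tmul_mul_tmul,
        one_mul, mul_one]
  | add x y hx hy =>
    obtain ⟨d, hd1, hd2⟩ := hx
    obtain ⟨d', hd'1, hd'2⟩ := hy
    exact ⟨d + d', by rw [map_add, hd1, hd'1, add_zero], by rw [map_add, map_add, hd2, hd'2]⟩

variable [Fintype σ]

variable (P) in
theorem exists_relKer (q : σ → MvPolynomial ι k) (hq : ∑ s, q s * P.relation s = 0) :
    ∃ q' : CotT.relKer P, relFun (q' : CotT.relMod P) = q := by
  let f : CotT.relMod P := Finsupp.equivFunOnFinite.symm q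
  have hf : relFun f = q := rfl
  have hmem : f ∈ CotT.relKer P := by
    show CotT.jmap P f = 0
    have := jmap_eq_sum f
    rw [hf, hq] at this
    exact this
  exact ⟨⟨f, hmem⟩, hf⟩

variable {D : PDef P C} (F₂ : σ → MvPolynomial ι C') (hF₂ : ∀ s, mapP p (F₂ s) = D.F s)
  (hp : IsSemismallExt p)

theorem exists_true_relation (hz : ∀ q : CotT.relKer P, cochainQ F₂ hF₂ hp q = 0)
    (q : σ → MvPolynomial ι k) (hq : ∑ s, q s * P.relation s = 0) :
    ∃ Q'' : σ → MvPolynomial ι C', (∀ s, redP C' (Q'' s) = q s) ∧ ∑ s, Q'' s * F₂ s = 0 := by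
  obtain ⟨q', rfl⟩ := exists_relKer P q hq
  obtain ⟨R', hR'⟩ := exists_isLiftRel p D hp.1 _ hq
  have h1 : mapP p (cochP F₂ R') = 0 := by rw [mapP_cochP F₂ hF₂, hR'.2]
  have h2 : thetaP P.val C' (cochP F₂ R') = 0 := by
    have := epsJ_cochain F₂ hF₂ hp _ hq R' hR'
    rw [← this]
    have h3 : cochain F₂ hF₂ hp (relFun (q' : CotT.relMod P)) hq = 0 := hz q'
    rw [h3, map_zero]
  obtain ⟨d, hd1, hd2⟩ := exists_of_thetaP_eq_zero P p _ h1 h2
  have h4 : cochP F₂ R' = ∑ s, d s * F₂ s := by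
    rw [hd2]
    refine Finset.sum_congr rfl fun s _ => ?_
    rw [mul_comm (d s) (F₂ s), mul_eq_constP_mul p hp (F₂ s) (d s) (hd1 s), redP_F' F₂ hF₂,
      mul_comm]
  refine ⟨fun s => R' s - d s, fun s => ?_, ?_⟩
  · rw [map_sub, hR'.1, redP_eq_zero_of_mapP p _ (hd1 s), sub_zero]
  · have : ∑ s, (R' s - d s) * F₂ s = cochP F₂ R' - ∑ s, d s * F₂ s := by
      unfold cochP
      rw [← Finset.sum_sub_distrib]
      exact Finset.sum_congr rfl fun s _ => by ring
    rw [this, h4, sub_self]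

omit [Fintype σ] in
theorem mul_mem_smul_restrictScalars (I' : Ideal (MvPolynomial ι C')) (b : MvPolynomial ι C')
    (hb : redP C' b = 0) :
    ∀ y ∈ I', b * y ∈ IsLocalRing.maximalIdeal C' • (I'.restrictScalars C') := by
  have hb' := (PDef.mem_ker_redP_iff b).mp hb
  rw [Ideal.map] at hb'
  refine Submodule.span_induction ?_ ?_ ?_ ?_ hb'
  · rintro _ ⟨c, hc, rfl⟩ y hy
    rw [← MvPolynomial.smul_eq_C_mul]
    exact Submodule.smul_mem_smul hc hy
  · intro y _
    rw [zero_mul]
    exact Submodule.zero_mem _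
  · intro x x' _ _ hx hx' y hy
    rw [add_mul]
    exact Submodule.add_mem _ (hx y hy) (hx' y hy)
  · intro a x _ hx y hy
    rw [smul_eq_mul, mul_assoc, mul_comm a, mul_assoc]
    exact hx _ (Ideal.mul_mem_right _ _ hy)

theorem mem_smul_top_subtype {A M : Type*} [CommRing A] [AddCommGroup M] [Module A M]
    (I : Ideal A) (K : Submodule A M) (x : M) (hx : x ∈ K) (h : x ∈ I • K) :
    (⟨x, hx⟩ : K) ∈ I • (⊤ : Submodule A K) := by
  have h1 : (I • (⊤ : Submodule A K)).map K.subtype = I • K := by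
    rw [Submodule.map_smul'', Submodule.map_top, Submodule.range_subtype]
  rw [← h1] at h
  obtain ⟨y, hy, hyx⟩ := h
  have : y = ⟨x, hx⟩ := Subtype.ext hyx
  rw [← this]
  exact hy

include hF₂ in
theorem flat_quotient
    (htrue : ∀ q : σ → MvPolynomial ι k, ∑ s, q s * P.relation s = 0 →
      ∃ Q'' : σ → MvPolynomial ι C', (∀ s, redP C' (Q'' s) = q s) ∧ ∑ s, Q'' s * F₂ s = 0) :
    Module.Flat C' (MvPolynomial ι C' ⧸ Ideal.span (Set.range F₂)) := by
  set I' : Ideal (MvPolynomial ι C') := Ideal.span (Set.range F₂) with hI'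
  let f : ↥(I'.restrictScalars C') →ₗ[C'] MvPolynomial ι C' := (I'.restrictScalars C').subtype
  let g : MvPolynomial ι C' →ₗ[C'] (MvPolynomial ι C' ⧸ I') :=
    (Ideal.Quotient.mkₐ C' I').toLinearMap
  have hg : Function.Surjective g := Ideal.Quotient.mk_surjective
  have hfg : Function.Exact f g := by
    intro x
    constructor
    · intro h
      have : x ∈ I' := Ideal.Quotient.eq_zero_iff_mem.mp h
      exact ⟨⟨x, this⟩, rfl⟩
    · rintro ⟨y, rfl⟩
      exact Ideal.Quotient.eq_zero_iff_mem.mpr y.2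
  refine Groth.Agent.H7.ArtFlat.flat_of_lTensor_residue_injective C' f g hg hfg ?_
  show Function.Injective (f.lTensor (C' ⧸ IsLocalRing.maximalIdeal C'))
  rw [Groth.Agent.H1.ArtinFlatReg.lTensor_quotient_injective_iff]
  rintro ⟨x, hx⟩ hxm
  have hxm' : x ∈ IsLocalRing.maximalIdeal C' • (⊤ : Submodule C' (MvPolynomial ι C')) := hxm
  have hred : redP C' x = 0 := redP_eq_zero_of_mem_smul_top x hxm'
  have hx' : x ∈ Ideal.span (Set.range F₂) := hx
  obtain ⟨a, rfl⟩ := (Ideal.mem_span_range_iff_exists_fun).mp hx'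
  have hq : ∑ s, redP C' (a s) * P.relation s = 0 := by
    rw [← hred, map_sum]
    exact Finset.sum_congr rfl fun s _ => by rw [map_mul, redP_F' F₂ hF₂]
  obtain ⟨Q'', hQ1, hQ2⟩ := htrue _ hq
  apply mem_smul_top_subtype
  have h1 : ∑ s, a s * F₂ s = ∑ s, (a s - Q'' s) * F₂ s := by
    have : ∑ s, (a s - Q'' s) * F₂ s = ∑ s, a s * F₂ s - ∑ s, Q'' s * F₂ s := by
      rw [← Finset.sum_sub_distrib]
      exact Finset.sum_congr rfl fun s _ => by ring
    rw [this, hQ2, sub_zero]
  rw [h1]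
  refine Submodule.sum_mem _ fun s _ => ?_
  exact mul_mem_smul_restrictScalars I' _ (by rw [map_sub, hQ1, sub_self]) _
    (Ideal.subset_span ⟨s, rfl⟩)

include hF₂ hp in
theorem exists_lift_of_true_relations
    (htrue : ∀ q : σ → MvPolynomial ι k, ∑ s, q s * P.relation s = 0 →
      ∃ Q'' : σ → MvPolynomial ι C', (∀ s, redP C' (Q'' s) = q s) ∧ ∑ s, Q'' s * F₂ s = 0) :
    ∃ R' : RDef B₀ C', Nonempty (RDef.HomOver p R' D.R) := by
  haveI := flat_quotient F₂ hF₂ htrue
  set I' : Ideal (MvPolynomial ι C') := Ideal.span (Set.range F₂) with hI'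
  let toE' : C' →+* (MvPolynomial ι C' ⧸ I') := algebraMap C' (MvPolynomial ι C' ⧸ I')
  have htoE' : ∀ a, toE' a = Ideal.Quotient.mk I' (MvPolynomial.C a) := fun a => rfl
  have hflat : toE'.Flat := RingHom.flat_algebraMap_iff.mpr inferInstance
  have hkill : ∀ x ∈ I', (D.ev.comp (mapP p)) x = 0 := by
    intro x hx
    have hle : I' ≤ RingHom.ker (D.ev.comp (mapP p)) := by
      rw [hI', Ideal.span_le]
      rintro _ ⟨s, rfl⟩
      show D.ev (mapP p (F₂ s)) = 0
      rw [hF₂, D.ev_F]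
    exact hle hx
  let q' : (MvPolynomial ι C' ⧸ I') →+* D.R.E := Ideal.Quotient.lift I' (D.ev.comp (mapP p)) hkill
  have hq'mk : ∀ G, q' (Ideal.Quotient.mk I' G) = D.ev (mapP p G) := fun G => rfl
  have hq' : Function.Surjective q' := by
    intro e
    obtain ⟨G, rfl⟩ := D.ev_surjective e
    obtain ⟨G', rfl⟩ := mapP_surjective (ι := ι) p hp.1 G
    exact ⟨Ideal.Quotient.mk I' G', hq'mk G'⟩
  have hqt : ∀ a, q' (toE' a) = D.R.toE (p a) := by
    intro a
    rw [htoE', hq'mk]
    unfold mapP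
    rw [MvPolynomial.map_C]
    exact evP_C D.R D.v _
  have hker : RingHom.ker q' = (RingHom.ker (p.toAlgHom : C' →+* C)).map toE' := by
    refine le_antisymm ?_ ?_
    · intro x hx
      obtain ⟨G, rfl⟩ := Ideal.Quotient.mk_surjective x
      have h1 : D.ev (mapP p G) = 0 := hx
      have h2 : mapP p G ∈ Ideal.span (Set.range D.F) := by
        rw [← D.ker_ev_eq_span]
        exact h1
      obtain ⟨H, hH⟩ := (Ideal.mem_span_range_iff_exists_fun).mp h2
      choose H' hH' using fun s => mapP_surjective (ι := ι) p hp.1 (H s)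
      have h3 : mapP p (G - ∑ s, H' s * F₂ s) = 0 := by
        rw [map_sub, map_sum, ← hH, sub_eq_zero]
        exact Finset.sum_congr rfl fun s _ => by rw [map_mul, hH', hF₂]
      have h4 : G - ∑ s, H' s * F₂ s ∈ (RingHom.ker (p.toAlgHom : C' →+* C)).map
          (MvPolynomial.C : C' →+* MvPolynomial ι C') := by
        rw [← ker_mapP]
        exact h3
      have h5 : Ideal.Quotient.mk I' G = Ideal.Quotient.mk I' (G - ∑ s, H' s * F₂ s) := by
        rw [map_sub, eq_comm, sub_eq_self, Ideal.Quotient.eq_zero_iff_mem]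
        refine Ideal.sum_mem _ fun s _ => ?_
        exact Ideal.mul_mem_left _ _ (Ideal.subset_span ⟨s, rfl⟩)
      rw [h5]
      have h6 := Ideal.mem_map_of_mem (Ideal.Quotient.mk I') h4
      rw [Ideal.map_map] at h6
      exact h6
    · rw [Ideal.map_le_iff_le_comap]
      intro a ha
      rw [Ideal.mem_comap, RingHom.mem_ker, hqt]
      have : p a = 0 := ha
      rw [this, map_zero]
  exact ⟨RDef.ofLift p D.R toE' hflat q' hq' hqt hker hp.1,
    ⟨RDef.ofLiftHom p D.R toE' hflat q' hq' hqt hker hp.1⟩⟩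

/-- if the obstruction class vanishes, the deformation lifts -/
theorem exists_lift_of_obsClass_eq_zero (F' : σ → MvPolynomial ι C')
    (hF' : ∀ s, mapP p (F' s) = D.F s) (h0 : obsClass F' hF' hp = 0) :
    ∃ R' : RDef B₀ C', Nonempty (RDef.HomOver p R' D.R) := by
  obtain ⟨h, hh⟩ := (obsClass_eq_zero_iff F' hF' hp).mp h0
  choose d hd1 hd2 using fun s => exists_thetaP_eq_epsJ P p (h s)
  have hF₂ : ∀ s, mapP p (F' s - d s) = D.F s := by
    intro s
    rw [map_sub, hF', hd1, sub_zero]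
  have hz : ∀ q : CotT.relKer P, cochainQ (fun s => F' s - d s) hF₂ hp q = 0 := by
    intro q
    have h1 := cochain_sub_cochain F' hF' hp (fun s => F' s - d s) hF₂ h
      (fun s => by rw [sub_sub_cancel, hd2]) (relFun (q : CotT.relMod P))
      (sum_eq_zero_of_mem_relKer q)
    have h2 := hh q
    unfold cochainQ at h2 ⊢
    rw [← h2, sub_eq_self] at h1
    exact h1
  exact exists_lift_of_true_relations (fun s => F' s - d s) hF₂ hp
    (exists_true_relation (fun s => F' s - d s) hF₂ hp hz)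

end ZeroLift

end Groth.Agent.H6.ObsAff
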