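import Mathlib
import Groth.Prelude.Def_CotT

/-!
# `T²(P, B₀) ⊗ W ≅ T²(P, B₀ ⊗ W)` for a finite-dimensional vector space `W` (helper6)
-/

set_option autoImplicit false
universe u
open TensorProduct

namespace Groth.Agent.H6.ObsAff

variable {k : Type u} [Field k] {B₀ : Type u} [CommRing B₀] [Algebra k B₀] {ι σ : Type u}
variable (P : Algebra.Presentation k B₀ ι σ)

section T2map

variable {M N L : Type u} [AddCommGroup M] [Module B₀ M] [AddCommGroup N] [Module B₀ N]
  [AddCommGroup L] [Module B₀ L]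

theorem T2map_mk (g : M →ₗ[B₀] N) (φ : CotT.L2 P →ₗ[B₀] M) :
    CotT.T2map P g (Submodule.Quotient.mk φ) = Submodule.Quotient.mk (g ∘ₗ φ) := rfl

theorem T2map_add (g g' : M →ₗ[B₀] N) : CotT.T2map P (g + g') = CotT.T2map P g + CotT.T2map P g' := by
  apply LinearMap.ext
  intro t
  obtain ⟨φ, rfl⟩ := Submodule.Quotient.mk_surjective _ t
  rw [LinearMap.add_apply, T2map_mk, T2map_mk, T2map_mk, LinearMap.add_comp]
  rfl

theorem T2map_zero : CotT.T2map P (0 : M →ₗ[B₀] N) = 0 := by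
  apply LinearMap.ext
  intro t
  obtain ⟨φ, rfl⟩ := Submodule.Quotient.mk_surjective _ t
  rw [T2map_mk, LinearMap.zero_comp]
  rfl

theorem T2map_sum {α : Type*} (s : Finset α) (g : α → M →ₗ[B₀] N) :
    CotT.T2map P (∑ i ∈ s, g i) = ∑ i ∈ s, CotT.T2map P (g i) := by
  classical
  induction s using Finset.induction_on with
  | empty => simp [T2map_zero]
  | insert a s ha ih => rw [Finset.sum_insert ha, Finset.sum_insert ha, T2map_add, ih]

theorem T2map_smul (c : B₀) (g : M →ₗ[B₀] N) : CotT.T2map P (c • g) = c • CotT.T2map P g := by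
  apply LinearMap.ext
  intro t
  obtain ⟨φ, rfl⟩ := Submodule.Quotient.mk_surjective _ t
  rw [LinearMap.smul_apply, T2map_mk, T2map_mk, LinearMap.smul_comp]
  rfl

theorem T2map_id : CotT.T2map P (LinearMap.id : M →ₗ[B₀] M) = LinearMap.id := by
  apply LinearMap.ext
  intro t
  obtain ⟨φ, rfl⟩ := Submodule.Quotient.mk_surjective _ t
  rw [T2map_mk, LinearMap.id_comp]
  rfl

theorem T2map_comp (g : N →ₗ[B₀] L) (f : M →ₗ[B₀] N) (t : CotT.T2 P M) :
    CotT.T2map P g (CotT.T2map P f t) = CotT.T2map P (g ∘ₗ f) t := by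
  obtain ⟨φ, rfl⟩ := Submodule.Quotient.mk_surjective _ t
  rw [T2map_mk, T2map_mk, T2map_mk, LinearMap.comp_assoc]

end T2map

section Psi

variable (W : Type u) [AddCommGroup W] [Module k W]

variable (k B₀) in
/-- `b ↦ b ⊗ w` -/
noncomputable def iotaW {W : Type u} [AddCommGroup W] [Module k W] (w : W) :
    B₀ →ₗ[B₀] B₀ ⊗[k] W where
  toFun b := b ⊗ₜ[k] w
  map_add' := fun b b' => TensorProduct.add_tmul b b' w
  map_smul' := fun c b => by
    rw [RingHom.id_apply, TensorProduct.smul_tmul']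

@[simp] theorem iotaW_apply {W : Type u} [AddCommGroup W] [Module k W] (w : W) (b : B₀) :
    iotaW k B₀ w b = b ⊗ₜ[k] w := rfl

theorem iotaW_add {W : Type u} [AddCommGroup W] [Module k W] (w w' : W) :
    iotaW k B₀ (w + w') = iotaW k B₀ w + iotaW k B₀ w' := by
  apply LinearMap.ext
  intro b
  simp [TensorProduct.tmul_add]

theorem iotaW_smul {W : Type u} [AddCommGroup W] [Module k W] (c : k) (w : W) :
    iotaW k B₀ (c • w) = (algebraMap k B₀ c) • iotaW k B₀ w := by
  apply LinearMap.ext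
  intro b
  rw [LinearMap.smul_apply, iotaW_apply, iotaW_apply, TensorProduct.tmul_smul, algebraMap_smul]

/-- the comparison map `T²(B₀) ⊗ W → T²(B₀ ⊗ W)` -/
noncomputable def Psi : CotT.T2 P B₀ ⊗[k] W →ₗ[k] CotT.T2 P (B₀ ⊗[k] W) :=
  TensorProduct.lift (LinearMap.mk₂ k (fun t w => CotT.T2map P (iotaW k B₀ w) t)
    (fun t t' w => map_add _ t t')
    (fun c t w => LinearMap.map_smul_of_tower _ c t)
    (fun t w w' => by rw [iotaW_add, T2map_add, LinearMap.add_apply])
    (fun c t w => by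
      rw [iotaW_smul, T2map_smul, LinearMap.smul_apply, algebraMap_smul]))

@[simp] theorem Psi_tmul (t : CotT.T2 P B₀) (w : W) :
    Psi P W (t ⊗ₜ[k] w) = CotT.T2map P (iotaW k B₀ w) t := rfl

section Nat

variable {W W' : Type u} [AddCommGroup W] [Module k W] [AddCommGroup W'] [Module k W']

/-- the map `B₀ ⊗ W → B₀ ⊗ W'` induced by a linear map `W → W'` -/
noncomputable abbrev lTB (κ : W →ₗ[k] W') : B₀ ⊗[k] W →ₗ[B₀] B₀ ⊗[k] W' :=
  TensorProduct.AlgebraTensorModule.lTensor B₀ B₀ κ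

theorem lTB_comp_iotaW (κ : W →ₗ[k] W') (w : W) :
    (lTB κ) ∘ₗ iotaW k B₀ w = iotaW k B₀ (κ w) := by
  apply LinearMap.ext
  intro b
  rfl

/-- naturality of the comparison map -/
theorem Psi_natural (κ : W →ₗ[k] W') (z : CotT.T2 P B₀ ⊗[k] W) :
    CotT.T2map P (lTB κ) (Psi P W z) = Psi P W' (LinearMap.lTensor (CotT.T2 P B₀) κ z) := by
  have h : ((CotT.T2map P (lTB κ)).restrictScalars k) ∘ₗ Psi P W =
      Psi P W' ∘ₗ LinearMap.lTensor (CotT.T2 P B₀) κ := by
    refine TensorProduct.ext' fun t w => ?_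
    show CotT.T2map P (lTB κ) (Psi P W (t ⊗ₜ[k] w)) =
      Psi P W' (LinearMap.lTensor (CotT.T2 P B₀) κ (t ⊗ₜ[k] w))
    rw [Psi_tmul, LinearMap.lTensor_tmul, Psi_tmul, T2map_comp, lTB_comp_iotaW]
  exact LinearMap.congr_fun h z

end Nat

section Bij

variable {W : Type u} [AddCommGroup W] [Module k W]

/-- the map `B₀ ⊗ W → B₀` induced by a functional on `W` -/
noncomputable def coordB (l : W →ₗ[k] k) : B₀ ⊗[k] W →ₗ[B₀] B₀ :=
  (TensorProduct.AlgebraTensorModule.rid k B₀ B₀).toLinearMap ∘ₗ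
    (TensorProduct.AlgebraTensorModule.lTensor B₀ B₀ l)

@[simp] theorem coordB_tmul (l : W →ₗ[k] k) (b : B₀) (w : W) :
    coordB l (b ⊗ₜ[k] w) = l w • b := by
  simp [coordB]

theorem coordB_comp_iotaW (l : W →ₗ[k] k) (w : W) :
    coordB l ∘ₗ iotaW k B₀ w = (algebraMap k B₀ (l w)) • LinearMap.id := by
  apply LinearMap.ext
  intro b
  rw [LinearMap.comp_apply, iotaW_apply, coordB_tmul, LinearMap.smul_apply, LinearMap.id_apply,
    algebraMap_smul]

variable {n : Type} [Fintype n] (b : Module.Basis n k W)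

theorem sum_iotaW_comp_coordB [DecidableEq n] :
    ∑ i, iotaW k B₀ (b i) ∘ₗ coordB (b.coord i) = LinearMap.id := by
  refine TensorProduct.AlgebraTensorModule.ext fun b' w => ?_
  rw [LinearMap.sum_apply, LinearMap.id_apply]
  have : ∀ i, (iotaW k B₀ (b i) ∘ₗ coordB (b.coord i)) (b' ⊗ₜ[k] w) =
      b' ⊗ₜ[k] (b.repr w i • b i) := by
    intro i
    rw [LinearMap.comp_apply, coordB_tmul, iotaW_apply, Module.Basis.coord_apply,
      TensorProduct.smul_tmul]
  rw [Finset.sum_congr rfl fun i _ => this i, ← TensorProduct.tmul_sum, b.sum_repr]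

/-- the inverse of the comparison map, in coordinates -/
noncomputable def Phi : CotT.T2 P (B₀ ⊗[k] W) →ₗ[k] CotT.T2 P B₀ ⊗[k] W :=
  ∑ i, (TensorProduct.mk k (CotT.T2 P B₀) W).flip (b i) ∘ₗ
    (CotT.T2map P (coordB (b.coord i))).restrictScalars k

theorem Phi_apply (t : CotT.T2 P (B₀ ⊗[k] W)) :
    Phi P b t = ∑ i, CotT.T2map P (coordB (b.coord i)) t ⊗ₜ[k] b i := by
  unfold Phi
  rw [LinearMap.sum_apply]
  rfl

theorem Phi_Psi [DecidableEq n] (z : CotT.T2 P B₀ ⊗[k] W) : Phi P b (Psi P W z) = z := by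
  have h : Phi P b ∘ₗ Psi P W = LinearMap.id := by
    refine TensorProduct.ext' fun t w => ?_
    show Phi P b (Psi P W (t ⊗ₜ[k] w)) = t ⊗ₜ[k] w
    rw [Psi_tmul, Phi_apply]
    have : ∀ i, CotT.T2map P (coordB (b.coord i)) (CotT.T2map P (iotaW k B₀ w) t) ⊗ₜ[k] b i =
        t ⊗ₜ[k] (b.repr w i • b i) := by
      intro i
      rw [T2map_comp, coordB_comp_iotaW, T2map_smul, T2map_id, LinearMap.smul_apply,
        LinearMap.id_apply, algebraMap_smul, Module.Basis.coord_apply, TensorProduct.smul_tmul]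
    rw [Finset.sum_congr rfl fun i _ => this i, ← TensorProduct.tmul_sum, b.sum_repr]
  exact LinearMap.congr_fun h z

theorem Psi_Phi [DecidableEq n] (t : CotT.T2 P (B₀ ⊗[k] W)) : Psi P W (Phi P b t) = t := by
  rw [Phi_apply, map_sum]
  have : ∀ i, Psi P W (CotT.T2map P (coordB (b.coord i)) t ⊗ₜ[k] b i) =
      CotT.T2map P (iotaW k B₀ (b i) ∘ₗ coordB (b.coord i)) t := by
    intro i
    rw [Psi_tmul, T2map_comp]
  rw [Finset.sum_congr rfl fun i _ => this i, ← LinearMap.sum_apply, ← T2map_sum,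
    sum_iotaW_comp_coordB, T2map_id, LinearMap.id_apply]

end Bij

theorem Psi_bijective (W : Type u) [AddCommGroup W] [Module k W] [Module.Finite k W] :
    Function.Bijective (Psi P W) := by
  classical
  let b := Module.finBasis k W
  exact ⟨Function.LeftInverse.injective (Phi_Psi P b),
    Function.RightInverse.surjective (Psi_Phi P b)⟩

end Psi

end Groth.Agent.H6.ObsAff
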