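import Mathlib
import Groth.Prelude.Def_ArtFun4
import Groth.Prelude.Def_CotT
import Groth.Agent.Lib.Helper6.ObsAff11
import Groth.Agent.Lib.Helper6.ObsAff12
import Groth.Agent.Lib.Helper8.ArtObs.Tiny

set_option autoImplicit false
universe u
open CategoryTheory ArtFun ArtFun.Art TensorProduct

namespace Groth.Agent.H6.ObsAff

open Groth.Agent.H6.DefAff

variable {k : Type u} [Field k] {B₀ : Type u} [CommRing B₀] [Algebra k B₀] {ι σ : Type u}

theorem finite_ker {C' C : Art k k} (p : C' ⟶ C) (hp : IsSemismallExt p) :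
    Module.Finite k ↥(RingHom.ker p.toAlgHom) := by
  set J : Ideal C' := RingHom.ker p.toAlgHom with hJ
  have hfg : J.FG := IsNoetherian.noetherian J
  obtain ⟨s, hs⟩ := hfg
  have hsJ : (s : Set C') ⊆ J := by
    rw [← hs]
    exact Submodule.subset_span
  have h1 : (J.restrictScalars k).FG := by
    refine ⟨s, le_antisymm ?_ ?_⟩
    · rw [Submodule.span_le]
      exact hsJ
    · intro x hx
      have hx' : x ∈ Submodule.span C' (s : Set C') := by
        have : x ∈ Ideal.span (s : Set C') := by
          rw [hs]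
          exact hx
        exact this
      refine Submodule.span_induction (p := fun x _ => x ∈ Submodule.span k (s : Set C'))
        ?_ ?_ ?_ ?_ hx'
      · intro y hy
        exact Submodule.subset_span hy
      · exact Submodule.zero_mem _
      · intro y z _ _ hy hz
        exact Submodule.add_mem _ hy hz
      · intro c y hy hy'
        have hyJ : y ∈ RingHom.ker p.toAlgHom := by
          have : y ∈ Ideal.span (s : Set C') := hy
          rw [hs] at this
          exact this
        rw [smul_eq_mul, Groth.Agent.H8.ArtObs.mul_ker_eq p hp c hyJ]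
        exact Submodule.smul_mem _ _ hy'
  have h2 : Module.Finite k ↥(J.restrictScalars k) := Module.Finite.iff_fg.mpr h1
  exact Module.Finite.equiv ((Submodule.restrictScalarsEquiv k C' C' J).restrictScalars k)

variable (P : Algebra.Presentation k B₀ ι σ)

theorem exists_pdef_of_cl {C : Art k k} (u : (DefF k k B₀).obj C) :
    ∃ D : PDef P C, D.R.toDefSch.cl = u := by
  obtain ⟨R, hR⟩ := RDef.exists_cl_eq u
  obtain ⟨D, hD⟩ := exists_pdef P R
  exact ⟨D, by rw [hD, hR]⟩

/-- a chosen presented deformation in a given class -/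
noncomputable def chosenD {C : Art k k} (u : (DefF k k B₀).obj C) : PDef P C :=
  (exists_pdef_of_cl P u).choose

theorem chosenD_cl {C : Art k k} (u : (DefF k k B₀).obj C) :
    (chosenD P u).R.toDefSch.cl = u := (exists_pdef_of_cl P u).choose_spec

variable {P}

theorem exists_liftF {C' C : Art k k} (p : C' ⟶ C) (hp : Function.Surjective p) (D : PDef P C) :
    ∃ F' : σ → MvPolynomial ι C', ∀ s, mapP p (F' s) = D.F s := by
  choose F' hF' using fun s => mapP_surjective (ι := ι) p hp (D.F s)
  exact ⟨F', hF'⟩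

/-- a chosen lift of the relations -/
noncomputable def chosenF {C' C : Art k k} (p : C' ⟶ C) (hp : Function.Surjective p)
    (D : PDef P C) : σ → MvPolynomial ι C' := (exists_liftF p hp D).choose

theorem chosenF_spec {C' C : Art k k} (p : C' ⟶ C) (hp : Function.Surjective p)
    (D : PDef P C) (s : σ) : mapP p (chosenF p hp D s) = D.F s :=
  (exists_liftF p hp D).choose_spec s

variable [Fintype σ]

/-- the obstruction class of a presented deformation along a semismall extension -/
noncomputable def obsClassD {C' C : Art k k} (p : C' ⟶ C) (hp : IsSemismallExt p) (D : PDef P C) :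
    CotT.T2 P (B₀ ⊗[k] ↥(RingHom.ker p.toAlgHom)) :=
  obsClass (chosenF p hp.1 D) (chosenF_spec p hp.1 D) hp

theorem obsClassD_eq {C' C : Art k k} (p : C' ⟶ C) (hp : IsSemismallExt p) (D : PDef P C)
    (F' : σ → MvPolynomial ι C') (hF' : ∀ s, mapP p (F' s) = D.F s) :
    obsClassD p hp D = obsClass F' hF' hp := obsClass_eq _ _ hp F' hF'

theorem obsClassD_eq_zero_iff {C' C : Art k k} (p : C' ⟶ C) (hp : IsSemismallExt p)
    (D : PDef P C) :
    obsClassD p hp D = 0 ↔ ∃ u' : (DefF k k B₀).obj C', (DefF k k B₀).map p u' = D.R.toDefSch.cl := by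
  constructor
  · intro h
    obtain ⟨R', ⟨hom⟩⟩ := exists_lift_of_obsClass_eq_zero hp _ _ h
    exact ⟨R'.toDefSch.cl, hom.map_cl⟩
  · rintro ⟨u', hu'⟩
    obtain ⟨R', rfl⟩ := RDef.exists_cl_eq u'
    obtain ⟨hom⟩ := RDef.nonempty_homOver_of_map_cl hu'
    exact obsClass_eq_zero_of_lift hp _ _ R' hom

variable (P) in
/-- the obstruction element -/
noncomputable def obsElt {C' C : Art k k} (p : C' ⟶ C) (hp : IsSemismallExt p)
    (u : (DefF k k B₀).obj C) : CotT.T2 P B₀ ⊗[k] ↥(RingHom.ker p.toAlgHom) :=
  haveI := finite_ker p hp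
  (LinearEquiv.ofBijective (Psi P ↥(RingHom.ker p.toAlgHom)) (Psi_bijective P _)).symm
    (obsClassD p hp (chosenD P u))

theorem Psi_obsElt {C' C : Art k k} (p : C' ⟶ C) (hp : IsSemismallExt p)
    (u : (DefF k k B₀).obj C) :
    Psi P ↥(RingHom.ker p.toAlgHom) (obsElt P p hp u) = obsClassD p hp (chosenD P u) := by
  haveI := finite_ker p hp
  exact (LinearEquiv.ofBijective (Psi P ↥(RingHom.ker p.toAlgHom))
    (Psi_bijective P _)).apply_symm_apply _

theorem obsElt_eq_zero_iff {C' C : Art k k} (p : C' ⟶ C) (hp : IsSemismallExt p)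
    (u : (DefF k k B₀).obj C) :
    obsElt P p hp u = 0 ↔ ∃ u' : (DefF k k B₀).obj C', (DefF k k B₀).map p u' = u := by
  haveI := finite_ker p hp
  have h1 : obsElt P p hp u = 0 ↔ obsClassD p hp (chosenD P u) = 0 := by
    rw [← Psi_obsElt]
    constructor
    · intro h
      rw [h, map_zero]
    · intro h
      exact (Psi_bijective P _).1 (by rw [h, map_zero])
  rw [h1, obsClassD_eq_zero_iff, chosenD_cl]

theorem obsElt_quot {C' C : Art k k} (p : C' ⟶ C) (hp : IsSemismallExt p) (K : Ideal C')
    (hK : K ≤ IsLocalRing.maximalIdeal C') (hKJ : K ≤ RingHom.ker p.toAlgHom)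
    (hq : IsSemismallExt (quotFactor hK p hKJ)) (u : (DefF k k B₀).obj C) :
    obsElt P (quotFactor hK p hKJ) hq u =
      LinearMap.lTensor (CotT.T2 P B₀) ((kerToQuot hK p hKJ).restrictScalars k)
        (obsElt P p hp u) := by
  haveI := finite_ker (quotFactor hK p hKJ) hq
  apply (Psi_bijective P ↥(RingHom.ker (quotFactor hK p hKJ).toAlgHom)).1
  rw [Psi_obsElt, ← Psi_natural, Psi_obsElt]
  exact obsClass_quot (quotMk C' K hK) (quotFactor hK p hKJ) p (quotMk_quotFactor hK p hKJ)
    ((kerToQuot hK p hKJ).restrictScalars k) (fun j => rfl) _ _ hp hq _ _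

end Groth.Agent.H6.ObsAff
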