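import Mathlib
import Groth.Prelude.Def_ArtFun4
import Groth.Prelude.Def_CotT
import Groth.Agent.Lib.Helper6.ObsAff13

set_option autoImplicit false
universe u
open CategoryTheory ArtFun ArtFun.Art TensorProduct

namespace Groth.Agent.H6.ObsAff

open Groth.Agent.H6.DefAff

variable {k : Type u} [Field k] {B₀ : Type u} [CommRing B₀] [Algebra k B₀] {ι σ : Type u}

/-- the obstruction theory of the deformation functor of an affine scheme with values in `T²` -/
noncomputable def obsTheory [Finite σ] (P : Algebra.Presentation k B₀ ι σ) :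
    ObsTheory (DefF k k B₀) (CotT.T2 P B₀) :=
  letI := Fintype.ofFinite σ
  { obs := fun p hp u => obsElt P p hp u
    obs_eq_zero_iff := fun p hp u => obsElt_eq_zero_iff p hp u
    obs_quot := fun p hp K hK hKJ hq u => obsElt_quot p hp K hK hKJ hq u }

/-- if `T² = 0` then deformations lift along semismall extensions -/
theorem surjective_of_T2_subsingleton [Finite σ] (P : Algebra.Presentation k B₀ ι σ)
    (hT2 : Subsingleton (CotT.T2 P B₀)) {C' C : Art k k} (p : C' ⟶ C) (hp : IsSemismallExt p) :
    Function.Surjective ((DefF k k B₀).map p) := by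
  intro u
  apply ((obsTheory P).obs_eq_zero_iff p hp u).mp
  haveI : Subsingleton (CotT.T2 P B₀ ⊗[k] ↥(RingHom.ker p.toAlgHom)) := by
    refine ⟨fun x y => ?_⟩
    have h0 : ∀ z : CotT.T2 P B₀ ⊗[k] ↥(RingHom.ker p.toAlgHom), z = 0 := by
      intro z
      induction z using TensorProduct.induction_on with
      | zero => rfl
      | tmul t j => rw [Subsingleton.elim t 0, TensorProduct.zero_tmul]
      | add x y hx hy => rw [hx, hy, add_zero]
    rw [h0 x, h0 y]
  exact Subsingleton.elim _ _

end Groth.Agent.H6.ObsAff
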