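import Mathlib
import Groth.Prelude.Def_ArtFun4
import Groth.Prelude.Def_CotT
import Groth.Agent.Lib.Helper6.DefTan2
import Groth.Agent.Lib.Helper6.CotTHom2

set_option autoImplicit false
universe u
open CategoryTheory ArtFun ArtFun.Art TensorProduct

namespace Groth.Agent.H6.DefAff

open ExalT1

variable {Λ k : Type u} [CommRing Λ] [Field k] [Algebra Λ k]
variable {B₀ : Type u} [CommRing B₀] [Algebra k B₀] {ι : Type u} {P : Algebra.Generators k B₀ ι}

theorem sub_mem_of_betaPre_eq {φ φ' : P.toExtension.Cotangent →ₗ[B₀] B₀}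
    (h : betaPre Λ P φ = betaPre Λ P φ') :
    φ - φ' ∈ LinearMap.range (LinearMap.lcomp B₀ B₀ P.toExtension.cotangentComplex) := by
  have h' : (RDef.ofK Λ (ExtDual.rdef (Xof φ))).toDefSch.cl =
      (RDef.ofK Λ (ExtDual.rdef (Xof φ'))).toDefSch.cl := h
  obtain ⟨hom⟩ := RDef.nonempty_hom_of_cl_eq h'
  let hom' : RDef.Hom (ExtDual.rdef (Xof φ')) (ExtDual.rdef (Xof φ)) :=
    ⟨hom.hom, hom.hom_toE, hom.pr_hom⟩
  have e := ExtDual.equivOfHom hom'
  have h1 : clsMap P B₀ (Submodule.Quotient.mk φ') = clsMap P B₀ (Submodule.Quotient.mk φ) := by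
    rw [clsMap_mk, clsMap_mk]
    exact Quotient.sound ⟨e⟩
  have h2 := clsMap_injective P B₀ h1
  rw [eq_comm, Submodule.Quotient.eq] at h2
  exact h2

theorem betaBar_injective [T : TangentStr (DefF Λ k B₀)] :
    Function.Injective (betaBar Λ P) := by
  intro t t' h
  obtain ⟨φ, rfl⟩ := Submodule.Quotient.mk_surjective _ t
  obtain ⟨φ', rfl⟩ := Submodule.Quotient.mk_surjective _ t'
  have h1 : betaPre Λ P φ = betaPre Λ P φ' := h
  rw [Submodule.Quotient.eq]
  exact sub_mem_of_betaPre_eq h1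

end Groth.Agent.H6.DefAff
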