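import Mathlib
import Groth.Prelude.Def_ArtFun4
import Groth.Agent.Lib.Helper8.ArtObs.MinPres

/-!
# The tangent space of a functor with a hull has the dimension of the cotangent space of the hull
(helper6)
-/

set_option autoImplicit false
universe u v
open CategoryTheory ArtFun ArtFun.Art IsLocalRing

namespace Groth.Agent.H6.TanEmb

variable {k : Type u} [Field k] {S : Type u} [CommRing S] [Algebra k S] [IsLocalRing S]
  (res : S →ₐ[k] k)

include res in
theorem res_eq_zero_iff (a : S) : res a = 0 ↔ a ∈ maximalIdeal S := by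
  have hsurj : Function.Surjective (res : S →+* k) := fun c =>
    ⟨algebraMap k S c, by show res (algebraMap k S c) = c; rw [AlgHom.commutes]; rfl⟩
  have hmax : (RingHom.ker (res : S →+* k)).IsMaximal :=
    RingHom.ker_isMaximal_of_surjective (res : S →+* k) hsurj
  rw [← IsLocalRing.eq_maximalIdeal hmax, RingHom.mem_ker]
  rfl

/-- the projection onto the maximal ideal -/
noncomputable def pm : S →ₗ[k] ↥(maximalIdeal S) where
  toFun r := ⟨r - algebraMap k S (res r), by
    rw [← res_eq_zero_iff res, map_sub, AlgHom.commutes, sub_eq_zero]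
    rfl⟩
  map_add' r s := Subtype.ext (by
    show r + s - algebraMap k S (res (r + s)) = (r - algebraMap k S (res r)) +
      (s - algebraMap k S (res s))
    rw [map_add, map_add]
    ring)
  map_smul' c r := Subtype.ext (by
    show c • r - algebraMap k S (res (c • r)) = c • (r - algebraMap k S (res r))
    rw [map_smul, smul_sub, Algebra.smul_def c (algebraMap k S (res r)), ← map_mul]
    rfl)

theorem pm_coe (r : S) : ((pm res r : ↥(maximalIdeal S)) : S) = r - algebraMap k S (res r) := rfl

theorem pm_of_mem (x : ↥(maximalIdeal S)) : pm res (x : S) = x := by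
  apply Subtype.ext
  rw [pm_coe, (res_eq_zero_iff res _).mpr x.2, map_zero, sub_zero]

/-- the map to the cotangent space -/
noncomputable def toV : S →ₗ[k] CotangentSpace S :=
  ((maximalIdeal S).toCotangent.restrictScalars k) ∘ₗ pm res

theorem toV_apply (r : S) : toV res r = (maximalIdeal S).toCotangent (pm res r) := rfl

theorem toV_surjective : Function.Surjective (toV res) := by
  intro v
  obtain ⟨x, rfl⟩ := Ideal.toCotangent_surjective _ v
  exact ⟨(x : S), by rw [toV_apply, pm_of_mem]⟩

theorem toV_algebraMap (c : k) : toV res (algebraMap k S c) = 0 := by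
  rw [toV_apply]
  have : pm res (algebraMap k S c) = 0 := by
    apply Subtype.ext
    rw [pm_coe, AlgHom.commutes]
    show algebraMap k S c - algebraMap k S c = 0
    exact sub_self _
  rw [this, map_zero]

theorem toV_eq_zero_iff (r : S) :
    toV res r = 0 ↔ r - algebraMap k S (res r) ∈ maximalIdeal S ^ 2 := by
  rw [toV_apply, Ideal.toCotangent_eq_zero, pm_coe]

theorem toV_mul (r s : S) : toV res (r * s) = res r • toV res s + res s • toV res r := by
  have h1 : toV res ((r - algebraMap k S (res r)) * (s - algebraMap k S (res s))) = 0 := by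
    rw [toV_eq_zero_iff]
    have hm : (r - algebraMap k S (res r)) * (s - algebraMap k S (res s)) ∈ maximalIdeal S ^ 2 := by
      rw [pow_two]
      exact Ideal.mul_mem_mul (pm res r).2 (pm res s).2
    have h0 : res ((r - algebraMap k S (res r)) * (s - algebraMap k S (res s))) = 0 := by
      rw [res_eq_zero_iff]
      exact Ideal.pow_le_self two_ne_zero hm
    rw [h0, map_zero, sub_zero]
    exact hm
  have h2 : r * s = (r - algebraMap k S (res r)) * (s - algebraMap k S (res s)) +
      (res r • s + res s • r) - algebraMap k S (res r * res s) := by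
    rw [Algebra.smul_def, Algebra.smul_def, map_mul]
    ring
  rw [h2, map_sub, map_add, h1, zero_add, toV_algebraMap, sub_zero, map_add, map_smul, map_smul]

section TsHom

variable {W : Type u} [AddCommGroup W] [Module k W] [Module kᵐᵒᵖ W] [IsCentralScalar k W]

/-- the algebra map `S → k ⊕ W` attached to a functional on the cotangent space -/
noncomputable def tsHom (μ : CotangentSpace S →ₗ[k] W) : S →ₐ[k] TrivSqZeroExt k W where
  toFun r := (res r, μ (toV res r))
  map_one' := TrivSqZeroExt.ext (map_one res) (by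
    show μ (toV res 1) = 0
    have : (1 : S) = algebraMap k S 1 := (map_one _).symm
    rw [this, toV_algebraMap, map_zero])
  map_mul' r s := TrivSqZeroExt.ext (map_mul res r s) (by
    show μ (toV res (r * s)) = res r • μ (toV res s) + MulOpposite.op (res s) • μ (toV res r)
    rw [toV_mul, map_add, map_smul, map_smul, op_smul_eq_smul])
  map_zero' := TrivSqZeroExt.ext (map_zero res) (by
    show μ (toV res 0) = 0
    rw [map_zero, map_zero])
  map_add' r s := TrivSqZeroExt.ext (map_add res r s) (by
    show μ (toV res (r + s)) = μ (toV res r) + μ (toV res s)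
    rw [map_add, map_add])
  commutes' c := TrivSqZeroExt.ext (by
    show res (algebraMap k S c) = (algebraMap k (TrivSqZeroExt k W) c).fst
    rw [AlgHom.commutes, TrivSqZeroExt.algebraMap_eq_inl', TrivSqZeroExt.fst_inl]) (by
    show μ (toV res (algebraMap k S c)) = (algebraMap k (TrivSqZeroExt k W) c).snd
    rw [toV_algebraMap, map_zero, TrivSqZeroExt.algebraMap_eq_inl', TrivSqZeroExt.snd_inl])

theorem tsHom_fst (μ : CotangentSpace S →ₗ[k] W) (r : S) : (tsHom res μ r).fst = res r := rfl

theorem tsHom_snd (μ : CotangentSpace S →ₗ[k] W) (r : S) :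
    (tsHom res μ r).snd = μ (toV res r) := rfl

theorem tszeMap_tsHom {W' : Type u} [AddCommGroup W'] [Module k W'] [Module kᵐᵒᵖ W']
    [IsCentralScalar k W'] (g : W →ₗ[k] W') (μ : CotangentSpace S →ₗ[k] W) :
    (tszeMap (Λ := k) g).comp (tsHom res μ) = tsHom res (g ∘ₗ μ) := by
  apply AlgHom.ext
  intro r
  rfl

end TsHom

section HS

variable (R : CRing k k)

/-- the point of `h_R(k[ε])` attached to a functional on the cotangent space -/
noncomputable def hs (μ : CotangentSpace R.carrier →ₗ[k] k) :
    HomSet R.carrier R.res (dual k k) :=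
  ⟨tsHom R.res μ, AlgHom.ext fun _ => rfl⟩

/-- the point of `h_R(k[ε₁, ε₂])` attached to a pair of functionals on the cotangent space -/
noncomputable def hs2 (μ : CotangentSpace R.carrier →ₗ[k] k × k) :
    HomSet R.carrier R.res (dual2 k k) :=
  ⟨tsHom R.res μ, AlgHom.ext fun _ => rfl⟩

theorem map_pr₁_hs2 (μ₁ μ₂ : CotangentSpace R.carrier →ₗ[k] k) :
    HomSet.map pr₁ (hs2 R (μ₁.prod μ₂)) = hs R μ₁ := by
  apply Subtype.ext
  show (tszeMap (Λ := k) (LinearMap.fst k k k)).comp (tsHom R.res (μ₁.prod μ₂)) = tsHom R.res μ₁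
  rw [tszeMap_tsHom, LinearMap.fst_prod]

theorem map_pr₂_hs2 (μ₁ μ₂ : CotangentSpace R.carrier →ₗ[k] k) :
    HomSet.map pr₂ (hs2 R (μ₁.prod μ₂)) = hs R μ₂ := by
  apply Subtype.ext
  show (tszeMap (Λ := k) (LinearMap.snd k k k)).comp (tsHom R.res (μ₁.prod μ₂)) = tsHom R.res μ₂
  rw [tszeMap_tsHom, LinearMap.snd_prod]

theorem map_plus_hs2 (μ₁ μ₂ : CotangentSpace R.carrier →ₗ[k] k) :
    HomSet.map plus (hs2 R (μ₁.prod μ₂)) = hs R (μ₁ + μ₂) := by
  apply Subtype.ext
  show (tszeMap (Λ := k) (LinearMap.fst k k k + LinearMap.snd k k k)).comp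
    (tsHom R.res (μ₁.prod μ₂)) = tsHom R.res (μ₁ + μ₂)
  rw [tszeMap_tsHom, LinearMap.add_comp, LinearMap.fst_prod, LinearMap.snd_prod]

theorem map_scale_hs (c : k) (μ : CotangentSpace R.carrier →ₗ[k] k) :
    HomSet.map (scale c) (hs R μ) = hs R (c • μ) := by
  apply Subtype.ext
  show (tszeMap (Λ := k) (c • LinearMap.id)).comp (tsHom R.res μ) = tsHom R.res (c • μ)
  rw [tszeMap_tsHom, LinearMap.smul_comp, LinearMap.id_comp]

theorem hs_injective : Function.Injective (hs R) := by
  intro μ μ' h
  apply LinearMap.ext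
  intro v
  obtain ⟨r, rfl⟩ := toV_surjective R.res v
  have h1 : (hs R μ).1 r = (hs R μ').1 r := by rw [h]
  exact congrArg TrivSqZeroExt.snd h1

theorem tsze_mul_eq_zero (x y : TrivSqZeroExt k k) (hx : x.fst = 0) (hy : y.fst = 0) :
    x * y = 0 := by
  apply TrivSqZeroExt.ext
  · rw [TrivSqZeroExt.fst_mul, hx, zero_mul, TrivSqZeroExt.fst_zero]
  · rw [TrivSqZeroExt.snd_mul, hx, hy, zero_smul, MulOpposite.op_zero, zero_smul, add_zero,
      TrivSqZeroExt.snd_zero]

theorem sq_le_ker (φ : HomSet R.carrier R.res (dual k k)) (y : R.carrier)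
    (hy : y ∈ maximalIdeal R.carrier ^ 2) : φ.1 y = 0 := by
  have hle : maximalIdeal R.carrier ^ 2 ≤ RingHom.ker (φ.1 : R.carrier →+* (dual k k : Art k k)) := by
    rw [pow_two, Ideal.mul_le]
    intro a ha b hb
    rw [RingHom.mem_ker]
    show φ.1 (a * b) = 0
    rw [map_mul]
    have hfst : ∀ r : R.carrier, TrivSqZeroExt.fst (φ.1 r) = R.res r := fun r =>
      congrArg (fun g : R.carrier →ₐ[k] k => g r) φ.2
    have ha' : TrivSqZeroExt.fst (φ.1 a) = 0 := by rw [hfst, res_eq_zero_iff]; exact ha
    have hb' : TrivSqZeroExt.fst (φ.1 b) = 0 := by rw [hfst, res_eq_zero_iff]; exact hb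
    exact tsze_mul_eq_zero _ _ ha' hb'
  exact hle hy

theorem hs_surjective : Function.Surjective (hs R) := by
  intro φ
  let l : R.carrier →ₗ[k] k := (TrivSqZeroExt.sndHom k k) ∘ₗ φ.1.toLinearMap
  have hl : ∀ r, l r = TrivSqZeroExt.snd (φ.1 r) := fun r => rfl
  have hle : LinearMap.ker (toV R.res) ≤ LinearMap.ker l := by
    intro r hr
    rw [LinearMap.mem_ker, toV_eq_zero_iff] at hr
    rw [LinearMap.mem_ker, hl]
    have h1 := sq_le_ker R φ _ hr
    rw [map_sub, sub_eq_zero] at h1
    rw [h1, AlgHom.commutes]
    show TrivSqZeroExt.snd (algebraMap k (TrivSqZeroExt k k) (R.res r)) = 0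
    rw [TrivSqZeroExt.algebraMap_eq_inl', TrivSqZeroExt.snd_inl]
  let μ : CotangentSpace R.carrier →ₗ[k] k :=
    ((LinearMap.ker (toV R.res)).liftQ l hle) ∘ₗ
      ((toV R.res).quotKerEquivOfSurjective (toV_surjective R.res)).symm.toLinearMap
  have hμ : ∀ r, μ (toV R.res r) = l r := by
    intro r
    have : ((toV R.res).quotKerEquivOfSurjective (toV_surjective R.res)).symm (toV R.res r) =
        Submodule.Quotient.mk r := by
      rw [LinearEquiv.symm_apply_eq]
      rfl
    show (LinearMap.ker (toV R.res)).liftQ l hle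
      (((toV R.res).quotKerEquivOfSurjective (toV_surjective R.res)).symm (toV R.res r)) = l r
    rw [this, Submodule.liftQ_apply]
  refine ⟨μ, ?_⟩
  apply Subtype.ext
  apply AlgHom.ext
  intro r
  apply TrivSqZeroExt.ext
  · show R.res r = TrivSqZeroExt.fst (φ.1 r)
    exact (congrArg (fun g : R.carrier →ₐ[k] k => g r) φ.2).symm
  · show μ (toV R.res r) = TrivSqZeroExt.snd (φ.1 r)
    rw [hμ, hl]

variable {F : Art k k ⥤ Type v} [T : TangentStr F] (ξ : Family R.carrier R.res F)

/-- the characteristic map on functionals, linear -/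
noncomputable def thetaL : (CotangentSpace R.carrier →ₗ[k] k) →ₗ[k] TangentSpace F where
  toFun μ := (ξ.app (dual k k) (hs R μ) : TangentSpace F)
  map_add' μ₁ μ₂ := by
    have h := T.add_eq (ξ.app (dual2 k k) (hs2 R (μ₁.prod μ₂)))
    rw [← ξ.natural, ← ξ.natural, ← ξ.natural, map_pr₁_hs2, map_pr₂_hs2, map_plus_hs2] at h
    exact h.symm
  map_smul' c μ := by
    have h := T.smul_eq c (ξ.app (dual k k) (hs R μ))
    rw [← ξ.natural, map_scale_hs] at h
    exact h.symm

theorem thetaL_bijective (hb : Function.Bijective (ξ.app (dual k k))) :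
    Function.Bijective (thetaL R ξ) :=
  hb.comp ⟨hs_injective R, hs_surjective R⟩

theorem isScalarTower_cot : IsScalarTower k (ResidueField R.carrier) (CotangentSpace R.carrier) := by
  refine ⟨fun c a v => ?_⟩
  obtain ⟨a₀, rfl⟩ := IsLocalRing.residue_surjective a
  have h1 : ∀ (r : R.carrier) (w : CotangentSpace R.carrier),
      (IsLocalRing.residue R.carrier r) • w = r • w := by
    intro r w
    have : IsLocalRing.residue R.carrier r = r • (1 : ResidueField R.carrier) := by
      rw [Algebra.smul_def, mul_one]
      rfl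
    rw [this, smul_assoc, one_smul]
  have h2 : c • IsLocalRing.residue R.carrier a₀ = IsLocalRing.residue R.carrier (c • a₀) := by
    rw [Algebra.smul_def, Algebra.smul_def, map_mul]
    rfl
  rw [h2, h1, h1, smul_assoc]

theorem finrank_residueField : Module.finrank k (ResidueField R.carrier) = 1 := by
  have hbij : Function.Bijective (Algebra.linearMap k (ResidueField R.carrier)) := by
    constructor
    · exact (algebraMap k (ResidueField R.carrier)).injective
    · exact Groth.Agent.H8.ArtObs.residue_comp_algebraMap_surjective R.carrier R.res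
  rw [← (LinearEquiv.ofBijective _ hbij).finrank_eq, Module.finrank_self]

theorem finrank_cot :
    Module.finrank k (CotangentSpace R.carrier) =
      Module.finrank (ResidueField R.carrier) (CotangentSpace R.carrier) := by
  haveI := isScalarTower_cot R
  rw [← Module.finrank_mul_finrank k (ResidueField R.carrier) (CotangentSpace R.carrier),
    finrank_residueField, one_mul]

theorem finite_cot : Module.Finite k (CotangentSpace R.carrier) := by
  haveI := isScalarTower_cot R
  haveI : Module.Finite k (ResidueField R.carrier) :=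
    Module.finite_of_finrank_pos (by rw [finrank_residueField]; exact one_pos)
  exact Module.Finite.trans (ResidueField R.carrier) (CotangentSpace R.carrier)

/-- the tangent space of a functor with a hull has the dimension of the cotangent space of the
hull -/
theorem finrank_tangentSpace (hb : Function.Bijective (ξ.app (dual k k))) :
    Module.finrank k (TangentSpace F) =
      Module.finrank (ResidueField R.carrier) (CotangentSpace R.carrier) := by
  haveI := finite_cot R
  have e := LinearEquiv.ofBijective (thetaL R ξ) (thetaL_bijective R ξ hb)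
  rw [← e.finrank_eq, ← finrank_cot]
  exact Subspace.dual_finrank_eq

end HS

end Groth.Agent.H6.TanEmb
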