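import Mathlib
import Groth.Prelude.Def_ArtFun4
import Groth.Prelude.Def_CotT
import Groth.Agent.Lib.Helper6.ObsAff14
import Groth.Agent.Lib.Helper6.ObsAff15
import Groth.Agent.Lib.Helper6.TanEmb
import Groth.Agent.Lib.Helper6.DefTan4
import Groth.Agent.Lib.Helper6.CotTHom2
import Groth.Agent.Lib.Helper6.ArtFun
import Groth.Agent.S12327
import Groth.Agent.Lib.Helper8.ArtObs.SmoothLambda
import Groth.Agent.Lib.Helper5.CA.PSRegular
import Groth.Agent.Lib.Helper5.FSm.PSReg

set_option autoImplicit false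
universe u v
open CategoryTheory ArtFun ArtFun.Art TensorProduct IsLocalRing

namespace Groth.Agent.H6.ObsAff

open Groth.Agent.H6.DefAff

section Smooth

variable {k : Type u} [Field k] {F : Art k k ⥤ Type v}

theorem smooth_hR_of_smooth (H : Hull F) (hF : IsSmoothFunctor F) :
    IsSmoothFunctor (hR H.ring.carrier H.ring.res) := by
  intro B A μ hμ φ
  obtain ⟨y, hy⟩ := hF μ hμ (H.family.app A φ)
  obtain ⟨ψ, h1, -⟩ := H.miniversal.1 μ hμ φ y hy
  exact ⟨ψ, h1⟩

theorem smooth_of_smooth_hR (H : Hull F) (h0 : H0 F)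
    (hR' : IsSmoothFunctor (hR H.ring.carrier H.ring.res)) : IsSmoothFunctor F := by
  intro B A μ hμ x
  obtain ⟨φ, rfl⟩ := Groth.Agent.H6.versal_surjective_app H.family H.miniversal.1 h0 A x
  obtain ⟨ψ, hψ⟩ := hR' μ hμ φ
  refine ⟨H.family.app B ψ, ?_⟩
  rw [← H.family.natural]
  exact congrArg _ hψ

theorem isRegularLocalRing_iff_smooth_hR (R : CRing k k) :
    IsRegularLocalRing R.carrier ↔ IsSmoothFunctor (hR R.carrier R.res) := by
  haveI : IsAdicComplete (maximalIdeal k) k := by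
    rw [IsLocalRing.maximalIdeal_eq_bot]
    infer_instance
  have hk : Function.Surjective (algebraMap k k) := fun x => ⟨x, rfl⟩
  rw [Groth.Agent.H8.ArtPS.smooth_iff_powerSeries hk R]
  constructor
  · intro hreg
    haveI := hreg
    haveI := R.isAdicComplete
    have hbij : Function.Bijective (algebraMap k (ResidueField R.carrier)) :=
      ⟨(algebraMap k (ResidueField R.carrier)).injective,
        Groth.Agent.H8.ArtObs.residue_comp_algebraMap_surjective R.carrier R.res⟩
    exact Groth.Agent.H5.CA.exists_algEquiv_mvPowerSeries_of_regular R.carrier k hbij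
  · rintro ⟨n, ⟨e⟩⟩
    haveI := (Groth.Agent.H5.FSm.isRegularLocalRing_mvPowerSeries k n).1
    exact IsRegularLocalRing.of_ringEquiv e.symm.toRingEquiv

end Smooth

section Main

variable {k : Type u} [Field k] (B₀ : Type u) [CommRing B₀] [Algebra k B₀] {ι σ : Type u}
  (P : Algebra.Presentation k B₀ ι σ)

theorem finrank_T1_eq_tangent [T : TangentStr (DefF k k B₀)] :
    Module.finrank k (CotT.T1 P B₀) = Module.finrank k (TangentSpace (DefF k k B₀)) := by
  have e1 : CotT.T1 P B₀ ≃ₗ[k] CotTHom.T1E P.toExtension B₀ :=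
    (CotTHom.T1equivT1E P B₀).restrictScalars k
  have e2 : CotTHom.T1E P.toExtension B₀ ≃ₗ[k] TangentSpace (DefF k k B₀) :=
    LinearEquiv.ofBijective (betaBar k P.toGenerators) ⟨betaBar_injective, betaBar_surjective⟩
  rw [e1.finrank_eq, e2.finrank_eq]

theorem finrank_T1_eq_cot (H : Hull (DefF k k B₀)) :
    Module.finrank k (CotT.T1 P B₀) =
      Module.finrank (ResidueField H.ring.carrier) (CotangentSpace H.ring.carrier) := by
  letI := Groth.Agent.H6.tangentStr (defF_h0 k k B₀) (defF_heps k k B₀)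
  rw [finrank_T1_eq_tangent B₀ P]
  exact Groth.Agent.H6.TanEmb.finrank_tangentSpace H.ring H.family H.miniversal.2

theorem main12268 [Finite σ] [Module.Finite k (CotT.T1 P B₀)] (H : Hull (DefF k k B₀)) :
    ringKrullDim H.ring.carrier ≤ ((Module.finrank k (CotT.T1 P B₀) : ℕ∞) : WithBot ℕ∞) ∧
      (Module.Finite k (CotT.T2 P B₀) →
        ((Module.finrank k (CotT.T1 P B₀) : ℕ∞) : WithBot ℕ∞) ≤
          ringKrullDim H.ring.carrier + ((Module.finrank k (CotT.T2 P B₀) : ℕ∞) : WithBot ℕ∞)) ∧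
      (ringKrullDim H.ring.carrier = ((Module.finrank k (CotT.T1 P B₀) : ℕ∞) : WithBot ℕ∞) ↔
        IsSmoothFunctor (DefF k k B₀)) := by
  have hE := finrank_T1_eq_cot B₀ P H
  have hcast : ∀ n : ℕ, ((n : ℕ∞) : WithBot ℕ∞) = (n : WithBot ℕ∞) := fun n => rfl
  rw [hcast, hcast, hE]
  refine ⟨?_, ?_, ?_⟩
  · rw [← IsLocalRing.spanFinrank_maximalIdeal_eq_finrank_cotangentSpace]
    exact ringKrullDim_le_spanFinrank_maximalIdeal H.ring.carrier
  · intro hfin
    haveI := hfin
    exact (Groth.Agent.S12327.result (CotT.T2 P B₀) (obsTheory P) H).2.1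
  · rw [eq_comm, ← IsRegularLocalRing.iff_finrank_cotangentSpace, isRegularLocalRing_iff_smooth_hR]
    exact ⟨smooth_of_smooth_hR H (defF_h0 k k B₀), smooth_hR_of_smooth H⟩

end Main

end Groth.Agent.H6.ObsAff
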