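import Groth.Agent.Lib.Helper6.RFTri2

/-! # Cohomological amplitude of `RF` on bounded complexes with cohomology in a class -/

open CategoryTheory Limits DerivedCategory Pretriangulated ZeroObject

namespace Groth.Agent.H6.RFTri

open Groth.Agent.H6.MVTri Groth.Agent.H6.KI Groth.Agent.H2.RDer

variable {B : Type*} [Category B] [Abelian B] [HasDerivedCategory B] [KInjDS.HasKInjRes B]
  {𝒞 : Type*} [Category 𝒞] [Abelian 𝒞] [HasDerivedCategory 𝒞]
  (F : B ⥤ 𝒞) [F.Additive] [HasInjectiveResolutions B]
  [(F.mapHomotopyCategory (ComplexShape.up ℤ) ⋙ Qh).HasRightDerivedFunctor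
    (HomotopyCategory.quasiIso B (ComplexShape.up ℤ))]

omit [KInjDS.HasKInjRes B] [HasInjectiveResolutions B] in
lemma isZero_of_homology_bounds (E : DerivedCategory B) (a b : ℤ) (hba : b < a)
    (hab : ∀ i : ℤ, i < a ∨ b < i → IsZero ((homologyFunctor B i).obj E)) : IsZero E := by
  haveI : E.IsLE b := (isLE_iff E b).2 (fun j hj => hab j (Or.inr hj))
  haveI : E.IsGE (b + 1) := (isGE_iff E (b + 1)).2 (fun j hj => hab j (Or.inl (by omega)))
  exact TStructure.t.isZero E b (b + 1)

omit [HasInjectiveResolutions B] in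
lemma isZero_homology_RF_of_isZero (E : DerivedCategory B) (hE : IsZero E) (i : ℤ) :
    IsZero ((homologyFunctor 𝒞 i).obj ((RF F).obj E)) := by
  haveI : (0 : CochainComplex B ℤ).IsKInjective :=
    ⟨fun {K} f _ => ⟨Homotopy.ofEq ((isZero_zero _).eq_of_tgt _ _)⟩⟩
  have e : E ≅ Q.obj (0 : CochainComplex B ℤ) := hE.iso (Q.map_isZero (isZero_zero _))
  refine IsZero.of_iso ?_ ((homologyFunctor 𝒞 i).mapIso ((RF F).mapIso e))
  rw [isZero_homology_RF_iff F 0 i]
  exact ShortComplex.exact_of_isZero_X₂ _
    (F.map_isZero ((HomologicalComplex.eval B (ComplexShape.up ℤ) i).map_isZero (isZero_zero _)))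

omit [KInjDS.HasKInjRes B] [HasInjectiveResolutions B] in
/-- `Hᵇ(Y[-b]) ≅ Y` -/
noncomputable def homologySingleIso (Y : B) (b : ℤ) :
    (homologyFunctor B b).obj ((singleFunctor B b).obj Y) ≅ Y :=
  (homologyFunctorFactors B b).app ((HomologicalComplex.single B (ComplexShape.up ℤ) b).obj Y) ≪≫
    HomologicalComplex.singleObjHomologySelfIso (ComplexShape.up ℤ) b Y

theorem isZero_homology_RF_of_bounded (P : ObjectProperty B) [P.IsClosedUnderIsomorphisms]
    (N : ℕ) (hF : ∀ G : B, P G → ∀ p : ℕ, N ≤ p → IsZero ((F.rightDerived p).obj G)) :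
    ∀ (n : ℕ) (E : DerivedCategory B) (a b : ℤ), b - a < n →
      (∀ j, a ≤ j → j ≤ b → P ((homologyFunctor B j).obj E)) →
      (∀ i : ℤ, i < a ∨ b < i → IsZero ((homologyFunctor B i).obj E)) →
      ∀ i : ℤ, i < a ∨ b + N - 1 < i →
        IsZero ((homologyFunctor 𝒞 i).obj ((RF F).obj E)) := by
  intro n
  induction n with
  | zero =>
    intro E a b hn hP hab i hi
    have hE : IsZero E := isZero_of_homology_bounds E a b (by omega) hab
    exact isZero_homology_RF_of_isZero F E hE i
  | succ n ih =>
    intro E a b hn hP hab i hi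
    by_cases hba : b < a
    · have hE : IsZero E := isZero_of_homology_bounds E a b hba hab
      exact isZero_homology_RF_of_isZero F E hE i
    let T := (TStructure.t.triangleLTGE b).obj E
    have hT : T ∈ distTriang _ := TStructure.t.triangleLTGE_distinguished b E
    haveI i1 : T.obj₁.IsLE (b - 1) :=
      inferInstanceAs (TStructure.t.IsLE ((TStructure.t.triangleLTGE b).obj E).obj₁ (b - 1))
    haveI i3 : T.obj₃.IsGE b :=
      inferInstanceAs (TStructure.t.IsGE ((TStructure.t.triangleLTGE b).obj E).obj₃ b)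
    have z1 : ∀ j, b ≤ j → IsZero ((homologyFunctor B j).obj T.obj₁) :=
      fun j hj => isZero_of_isLE T.obj₁ (b - 1) j (by omega)
    have z3 : ∀ j, j < b → IsZero ((homologyFunctor B j).obj T.obj₃) :=
      fun j hj => isZero_of_isGE T.obj₃ b j hj
    -- `Hʲ(τ_{<b}E) ≅ Hʲ(E)` for `j < b`
    have h1iso : ∀ j, j < b → IsIso ((homologyFunctor B j).map T.mor₁) := by
      intro j hj
      haveI : Mono ((homologyFunctor B j).map T.mor₁) :=
        (HomologySequence.mono_homologyMap_mor₁_iff T hT (j - 1) j (by omega)).2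
          ((z3 (j - 1) (by omega)).eq_of_src _ _)
      haveI : Epi ((homologyFunctor B j).map T.mor₁) :=
        (HomologySequence.epi_homologyMap_mor₁_iff T hT j).2 ((z3 j hj).eq_of_tgt _ _)
      exact isIso_of_mono_of_epi _
    -- `Hʲ(E) ≅ Hʲ(τ_{≥b}E)` for `b ≤ j`
    have h3iso : ∀ j, b ≤ j → IsIso ((homologyFunctor B j).map T.mor₂) := by
      intro j hj
      haveI : Mono ((homologyFunctor B j).map T.mor₂) :=
        (HomologySequence.mono_homologyMap_mor₂_iff T hT j).2 ((z1 j hj).eq_of_src _ _)
      haveI : Epi ((homologyFunctor B j).map T.mor₂) :=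
        (HomologySequence.epi_homologyMap_mor₂_iff T hT j (j + 1) rfl).2
          ((z1 (j + 1) (by omega)).eq_of_tgt _ _)
      exact isIso_of_mono_of_epi _
    apply isZero_homology_RF_obj₂ F T hT i
    · refine ih T.obj₁ a (b - 1) (by omega) ?_ ?_ i (by omega)
      · intro j hj1 hj2
        haveI := h1iso j (by omega)
        exact P.prop_of_iso (asIso ((homologyFunctor B j).map T.mor₁)).symm (hP j hj1 (by omega))
      · intro j hj
        by_cases hjb : j < b
        · haveI := h1iso j hjb
          have hja : j < a := by omega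
          have e1 := asIso ((homologyFunctor B j).map T.mor₁)
          exact (hab j (Or.inl hja)).of_iso e1
        · exact z1 j (by omega)
    · haveI : T.obj₃.IsLE b := (isLE_iff T.obj₃ b).2 (fun j hj => by
        haveI := h3iso j (by omega)
        exact (hab j (Or.inr hj)).of_iso (asIso ((homologyFunctor B j).map T.mor₂)).symm)
      obtain ⟨Y, ⟨e⟩⟩ := exists_iso_singleFunctor_obj_of_isGE_of_isLE T.obj₃ b
      haveI := h3iso b le_rfl
      have hPY : P Y := P.prop_of_iso
        (asIso ((homologyFunctor B b).map T.mor₂) ≪≫ (homologyFunctor B b).mapIso e ≪≫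
          homologySingleIso Y b) (hP b (by omega) le_rfl)
      refine IsZero.of_iso ?_ ((homologyFunctor 𝒞 i).mapIso ((RF F).mapIso e))
      refine isZero_homology_RF_single F Y b i (fun p hp => ?_)
      exact hF Y hPY p (by omega)

end Groth.Agent.H6.RFTri
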