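import Mathlib
import Groth.Agent.Lib.Lead.MV.ApproxExt
import Groth.Agent.Lib.Helper6.RpRes1
import Groth.Agent.Lib.Helper6.RFTri3
import Groth.Agent.Lib.Helper7.LR4

/-!
# `Rj_*` of a perfect complex whose support is closed in the ambient scheme (S6519)
-/

set_option autoImplicit false
universe u
open CategoryTheory CategoryTheory.Limits AlgebraicGeometry TopologicalSpace Opposite DerivedCategory
open Groth.Agent.H4.PSch1 Groth.Agent.H4.PSch2 Groth.Agent.H4.PSch3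
open scoped ZeroObject

attribute [local instance] HasDerivedCategory.standard

namespace Groth.Agent.H6.OpenPerf

open Groth.Agent.H6.MVTri Groth.Agent.LD.MV Groth.Agent.LD

/-- the counit `j^* Rj_* E ⟶ E` is an isomorphism for an open immersion `j` (on objects). -/
lemma nonempty_RD_Rpush_iso {U X : Scheme.{u}} (j : U ⟶ X) [IsOpenImmersion j] [DCoh.HasRpush j]
    (E : DCoh.D U) : Nonempty ((RD j).obj ((DCoh.Rpush j).obj E) ≅ E) := by
  obtain ⟨I, hI, -, ⟨e⟩⟩ := hres U E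
  haveI := hI
  obtain ⟨e1⟩ := nonempty_iso_RF (Scheme.Modules.pushforward j) I
  let c : (resCx j).obj (((Scheme.Modules.pushforward j).mapHomologicalComplex
      (ComplexShape.up ℤ)).obj I) ≅ I :=
    HomologicalComplex.Hom.isoOfComponents
      (fun n => @asIso _ _ _ _ ((Scheme.Modules.restrictAdjunction j).counit.app (I.X n))
        (NatIso.isIso_app_of_isIso (Scheme.Modules.restrictAdjunction j).counit (I.X n)))
      (fun m n _ => ((Scheme.Modules.restrictAdjunction j).counit.naturality (I.d m n)).symm)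
  exact ⟨(RD j).mapIso ((DCoh.Rpush j).mapIso e ≪≫ e1.symm) ≪≫ RDfac j _ ≪≫ Q.mapIso c ≪≫ e.symm⟩

/-- **S6519**. -/
theorem s6519 {X : Scheme.{u}} (U : X.Opens) [DCoh.HasRpush U.ι]
    (E : DCoh.D (U : Scheme.{u})) (hE : DCoh.IsPerfect E) (T : Set (U : Scheme.{u}))
    (_hT : IsClosed T) (hjT : IsClosed ((fun x : (U : Scheme.{u}) => U.ι.base x) '' T))
    (hsupp : ∀ i : ℤ, CohB1.support (DCoh.HD E i) ⊆ T) :
    DCoh.IsPerfect ((DCoh.Rpush U.ι).obj E) := by
  rw [isPerfect_iff_perfAt]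
  intro x
  by_cases hxU : x ∈ U
  · obtain ⟨W, i, hi, E₀, hx', hE₀, ⟨e1⟩⟩ := (isPerfect_iff_perfAt E).mp hE ⟨x, hxU⟩
    haveI := hi
    obtain ⟨e2⟩ := nonempty_RD_comp_obj i U.ι ((DCoh.Rpush U.ι).obj E)
    obtain ⟨eC⟩ := nonempty_RD_Rpush_iso U.ι E
    refine ⟨W, i ≫ U.ι, inferInstance, E₀, ?_, hE₀, ⟨e2 ≪≫ (RD i).mapIso eC ≪≫ e1⟩⟩
    obtain ⟨w, hw⟩ := hx'
    refine ⟨w, ?_⟩
    rw [Scheme.Hom.comp_apply, hw]
    rfl
  · let V : X.Opens := ⟨((fun x : (U : Scheme.{u}) => U.ι.base x) '' T)ᶜ, hjT.isOpen_compl⟩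
    have hxV : x ∈ V := by
      rintro ⟨t, -, rfl⟩
      apply hxU
      have : U.ι.base t ∈ Set.range U.ι.base := ⟨t, rfl⟩
      rw [Scheme.Opens.range_ι] at this
      exact this
    haveI := Groth.Agent.Helper7.LR4.hasRpush (U.ι ∣_ V)
    obtain ⟨eBC⟩ := Groth.Agent.H6.RpRes.main U.ι V
    refine ⟨↑V, V.ι, inferInstance, 0, ?_, Groth.Agent.H4.PSch5.isStrictlyPerfect_zero, ⟨?_⟩⟩
    · rw [Scheme.Opens.range_ι]
      exact hxV
    · have hz0 : IsZero ((RD (U.ι ⁻¹ᵁ V).ι).obj E) := by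
        refine isZero_of_Hd _ (fun n => ?_)
        obtain ⟨e⟩ := Groth.Agent.H4.PSch4.nonempty_homology_RD_iso (U.ι ⁻¹ᵁ V).ι E n
        refine IsZero.of_iso ?_ e
        rw [QC.isZero_restrict_iff]
        intro t ht htV
        exact htV ⟨t, hsupp n ht, rfl⟩
      have hz1 : IsZero ((DCoh.Rpush (U.ι ∣_ V)).obj ((RD (U.ι ⁻¹ᵁ V).ι).obj E)) :=
        isZero_of_Hd _ (fun n =>
          Groth.Agent.H6.RFTri.isZero_homology_RF_of_isZero
            (Scheme.Modules.pushforward (U.ι ∣_ V)) _ hz0 n)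
      have hz : IsZero ((RD V.ι).obj ((DCoh.Rpush U.ι).obj E)) :=
        IsZero.of_iso hz1 (eBC.app E)
      exact hz.iso (DerivedCategory.Q.map_isZero (isZero_zero _))

end Groth.Agent.H6.OpenPerf
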