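import Mathlib
import Groth.Agent.Lib.Helper2.OrdIso
set_option autoImplicit false
set_option linter.unusedSectionVars false
universe u
open CategoryTheory AlgebraicGeometry
namespace Groth.Agent.H6.OrdOpen

variable {X : Scheme.{u}} [IsIntegral X] [IsLocallyNoetherian X] (U : X.Opens) [Nonempty U]

/-- generic point of an open subscheme maps to the generic point -/
theorem ι_genericPoint : U.ι (genericPoint U.toScheme) = genericPoint X :=
  genericPoint_eq_of_isOpenImmersion U.ι

/-- the canonical map of function fields `K(X) → K(U)`. -/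
noncomputable def resK : X.functionField →+* (U : Scheme.{u}).functionField :=
  (X.presheaf.stalkSpecializes (specializes_of_eq (ι_genericPoint U)) ≫
    U.ι.stalkMap (genericPoint U.toScheme)).hom

theorem resK_bijective : Function.Bijective (resK U) := by
  have h1 : IsIso (X.presheaf.stalkSpecializes (specializes_of_eq (ι_genericPoint U))) := by
    refine ⟨X.presheaf.stalkSpecializes (specializes_of_eq (ι_genericPoint U).symm), ?_, ?_⟩
    · rw [TopCat.Presheaf.stalkSpecializes_comp, TopCat.Presheaf.stalkSpecializes_refl]
    · rw [TopCat.Presheaf.stalkSpecializes_comp, TopCat.Presheaf.stalkSpecializes_refl]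
  have h2 : IsIso (X.presheaf.stalkSpecializes (specializes_of_eq (ι_genericPoint U)) ≫
      U.ι.stalkMap (genericPoint U.toScheme)) := inferInstance
  exact ConcreteCategory.bijective_of_isIso _

theorem coheight_val (u : U.toScheme) : Order.coheight (U.ι u) = Order.coheight u :=
  coheight_eq_of_isOpenImmersion U.ι

theorem ordHom_resK (u : U.toScheme) (hu : Order.coheight u = 1)
    (hu' : Order.coheight (U.ι u) = 1) (z : X.functionField) :
    Scheme.ordHom u hu (resK U z) = Scheme.ordHom (U.ι u) hu' z := by
  have _ : Ring.KrullDimLE 1 (X.presheaf.stalk (U.ι u)) := krullDimLE_of_coheight_le hu'.le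
  have _ : Ring.KrullDimLE 1 (U.toScheme.presheaf.stalk u) := krullDimLE_of_coheight_le hu.le
  let e : X.presheaf.stalk (U.ι u) ≃+* U.toScheme.presheaf.stalk u :=
    (asIso (U.ι.stalkMap u)).commRingCatIsoToRingEquiv
  refine Groth.Agent.H2.OrdIso.ordFrac_ringEquiv e (resK U) ?_ z
  intro r
  have hspec : genericPoint U.toScheme ⤳ u := (genericPoint_spec U.toScheme).specializes trivial
  have h1 := U.ι.stalkSpecializes_stalkMap_apply (genericPoint U.toScheme) u hspec r
  change U.ι.stalkMap (genericPoint U.toScheme) (X.presheaf.stalkSpecializes _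
    (X.presheaf.stalkSpecializes _ r)) = U.toScheme.presheaf.stalkSpecializes _ (U.ι.stalkMap u r)
  rw [← h1]
  congr 1
  rw [← CommRingCat.comp_apply, TopCat.Presheaf.stalkSpecializes_comp]

theorem ord_resK (u : U.toScheme) (z : X.functionField) :
    Scheme.ord (resK U z) u = Scheme.ord z (U.ι u) := by
  by_cases hu : Order.coheight u = 1
  · have hu' : Order.coheight (U.ι u) = 1 := by rw [coheight_val]; exact hu
    rw [Scheme.ord_eq_ordHom_of_coheight_eq_one hu, Scheme.ord_eq_ordHom_of_coheight_eq_one hu',
      ordHom_resK U u hu hu']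
  · have hu' : Order.coheight (U.ι u) ≠ 1 := by rw [coheight_val]; exact hu
    rw [Scheme.ord_eq_zero_of_coheight_neq_one hu, Scheme.ord_eq_zero_of_coheight_neq_one hu']

end Groth.Agent.H6.OrdOpen
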