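import Mathlib
import Groth.Prelude.Def_W4c1stackycurvesGalP1

set_option autoImplicit false
set_option linter.dupNamespace false

namespace Groth.Agent.H6.P1

open W4c1stackycurves Matrix

universe u

variable {k K : Type u} [Field k] [Field K] [Algebra k K]

local notation "ℙ¹" => Projectivization K (Fin 2 → K)

/-- determinant of two vectors -/
def dt (v w : Fin 2 → K) : K := v 0 * w 1 - v 1 * w 0

theorem dt_smul_smul (a b : K) (v w : Fin 2 → K) : dt (a • v) (b • w) = a * b * dt v w := by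
  simp only [dt, Pi.smul_apply, smul_eq_mul]; ring

theorem dt_self (v : Fin 2 → K) : dt v v = 0 := by
  simp only [dt]; ring

theorem dt_eq_zero_iff {v w : Fin 2 → K} (hw : w ≠ 0) : dt v w = 0 ↔ ∃ a : K, v = a • w := by
  constructor
  · intro h
    simp only [dt] at h
    by_cases h0 : w 0 = 0
    · have h1 : w 1 ≠ 0 := by
        intro h1
        apply hw
        funext i
        fin_cases i <;> simp [h0, h1]
      refine ⟨v 1 / w 1, ?_⟩
      funext i
      fin_cases i
      · simp only [Fin.zero_eta, Pi.smul_apply, smul_eq_mul, h0, mul_zero]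
        rw [h0, mul_zero, sub_zero] at h
        exact (mul_eq_zero.mp h).resolve_right h1
      · simp only [Fin.mk_one, Pi.smul_apply, smul_eq_mul]
        field_simp
    · refine ⟨v 0 / w 0, ?_⟩
      funext i
      fin_cases i
      · simp only [Fin.zero_eta, Pi.smul_apply, smul_eq_mul]
        field_simp
      · simp only [Fin.mk_one, Pi.smul_apply, smul_eq_mul]
        field_simp
        linear_combination (-1 : K) * h
  · rintro ⟨a, rfl⟩
    simp only [dt, Pi.smul_apply, smul_eq_mul]; ring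

theorem mk_eq_mk_iff_dt {v w : Fin 2 → K} (hv : v ≠ 0) (hw : w ≠ 0) :
    Projectivization.mk K v hv = Projectivization.mk K w hw ↔ dt v w = 0 := by
  rw [Projectivization.mk_eq_mk_iff', dt_eq_zero_iff hw]
  constructor
  · rintro ⟨a, ha⟩
    exact ⟨a, ha.symm⟩
  · rintro ⟨a, ha⟩
    exact ⟨a, ha.symm⟩

theorem dt_mulVec (A : Matrix (Fin 2) (Fin 2) K) (v w : Fin 2 → K) :
    dt (A *ᵥ v) (A *ᵥ w) = A.det * dt v w := by
  simp only [dt, Matrix.mulVec, dotProduct, Fin.sum_univ_two, Matrix.det_fin_two]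
  ring

theorem eq_zero_of_mulVec_eq_zero (A : Matrix (Fin 2) (Fin 2) K) (v w : Fin 2 → K)
    (hv : A *ᵥ v = 0) (hw : A *ᵥ w = 0) (h : dt v w ≠ 0) : A = 0 := by
  have h0 := congrFun hv 0
  have h1 := congrFun hv 1
  have h2 := congrFun hw 0
  have h3 := congrFun hw 1
  simp only [Matrix.mulVec, dotProduct, Fin.sum_univ_two, Pi.zero_apply] at h0 h1 h2 h3
  simp only [dt] at h
  ext i j
  fin_cases i <;> fin_cases j
  · show A 0 0 = 0
    have : A 0 0 * (v 0 * w 1 - v 1 * w 0) = 0 := by linear_combination w 1 * h0 - v 1 * h2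
    exact (mul_eq_zero.mp this).resolve_right h
  · show A 0 1 = 0
    have : A 0 1 * (v 0 * w 1 - v 1 * w 0) = 0 := by linear_combination (-w 0) * h0 + v 0 * h2
    exact (mul_eq_zero.mp this).resolve_right h
  · show A 1 0 = 0
    have : A 1 0 * (v 0 * w 1 - v 1 * w 0) = 0 := by linear_combination w 1 * h1 - v 1 * h3
    exact (mul_eq_zero.mp this).resolve_right h
  · show A 1 1 = 0
    have : A 1 1 * (v 0 * w 1 - v 1 * w 0) = 0 := by linear_combination (-w 0) * h1 + v 0 * h3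
    exact (mul_eq_zero.mp this).resolve_right h

/-- the condition that `g` maps `x` into the line `y` -/
def Cnd (g : Matrix (Fin 2) (Fin 2) K) (x y : ℙ¹) : Prop := dt (g *ᵥ x.rep) y.rep = 0

theorem cnd_iff (g : Matrix (Fin 2) (Fin 2) K) {v w : Fin 2 → K} (hv : v ≠ 0) (hw : w ≠ 0) :
    Cnd g (Projectivization.mk K v hv) (Projectivization.mk K w hw) ↔ dt (g *ᵥ v) w = 0 := by
  unfold Cnd
  obtain ⟨a, ha⟩ := Projectivization.exists_smul_eq_mk_rep K v hv
  obtain ⟨b, hb⟩ := Projectivization.exists_smul_eq_mk_rep K w hw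
  rw [← ha, ← hb, Units.smul_def, Units.smul_def, Matrix.mulVec_smul, dt_smul_smul]
  constructor
  · intro h
    rcases mul_eq_zero.mp h with h | h
    · exact absurd h (mul_ne_zero a.ne_zero b.ne_zero)
    · exact h
  · intro h
    rw [h, mul_zero]

theorem galVec_ne_zero (σ : K ≃ₐ[k] K) {v : Fin 2 → K} (hv : v ≠ 0) : galVec σ (Fin 2) v ≠ 0 := by
  intro h
  apply hv
  apply galVec_injective σ (Fin 2)
  rw [h, map_zero]

theorem galP_mk (σ : K ≃ₐ[k] K) (v : Fin 2 → K) (hv : v ≠ 0) :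
    galP σ (Projectivization.mk K v hv) = Projectivization.mk K (galVec σ (Fin 2) v)
      (galVec_ne_zero σ hv) := rfl

theorem dt_gal (σ : K ≃ₐ[k] K) (g : Matrix (Fin 2) (Fin 2) K) (v w : Fin 2 → K) :
    dt ((g.map σ) *ᵥ (galVec σ (Fin 2) v)) (galVec σ (Fin 2) w) = σ (dt (g *ᵥ v) w) := by
  simp only [dt, Matrix.mulVec, dotProduct, Fin.sum_univ_two, Matrix.map_apply, galVec_apply,
    map_sub, map_mul, map_add]

theorem cnd_gal (σ : K ≃ₐ[k] K) (g : Matrix (Fin 2) (Fin 2) K) (x y : ℙ¹) (h : Cnd g x y) :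
    Cnd (g.map σ) (galP σ x) (galP σ y) := by
  induction x using Projectivization.ind with
  | h v hv =>
    induction y using Projectivization.ind with
    | h w hw =>
      rw [cnd_iff] at h
      rw [galP_mk, galP_mk, cnd_iff, dt_gal, h, map_zero]

theorem galP_symm (σ : K ≃ₐ[k] K) (x : ℙ¹) : galP σ (galP σ.symm x) = x := by
  induction x using Projectivization.ind with
  | h v hv =>
    rw [galP_mk, galP_mk]
    congr 1
    funext i
    simp [galVec_apply]

theorem cnd_add (g g' : Matrix (Fin 2) (Fin 2) K) (x y : ℙ¹) (h : Cnd g x y) (h' : Cnd g' x y) :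
    Cnd (g + g') x y := by
  unfold Cnd at *
  rw [Matrix.add_mulVec]
  simp only [dt, Pi.add_apply] at *
  linear_combination h + h'

theorem cnd_zero (x y : ℙ¹) : Cnd (0 : Matrix (Fin 2) (Fin 2) K) x y := by
  unfold Cnd
  rw [Matrix.zero_mulVec]
  simp [dt]

theorem cnd_sum {ι : Type*} (s : Finset ι) (g : ι → Matrix (Fin 2) (Fin 2) K) (x y : ℙ¹)
    (h : ∀ i ∈ s, Cnd (g i) x y) : Cnd (∑ i ∈ s, g i) x y := by
  classical
  induction s using Finset.induction_on with
  | empty => simpa using cnd_zero x y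
  | insert a s ha ih =>
    rw [Finset.sum_insert ha]
    exact cnd_add _ _ _ _ (h a (Finset.mem_insert_self a s))
      (ih (fun i hi => h i (Finset.mem_insert_of_mem hi)))

theorem cnd_smul (c : K) (g : Matrix (Fin 2) (Fin 2) K) (x y : ℙ¹) (h : Cnd g x y) :
    Cnd (c • g) x y := by
  unfold Cnd at *
  rw [Matrix.smul_mulVec]
  have := dt_smul_smul c 1 (g *ᵥ x.rep) y.rep
  rw [one_smul] at this
  rw [this, h, mul_zero]

/-- the linear map whose kernel consists of matrices mapping each `x ∈ S` into the line `f x` -/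
noncomputable def Phi (S : Finset ℙ¹) (f : ℙ¹ → ℙ¹) :
    Matrix (Fin 2) (Fin 2) K →ₗ[K] (S → K) where
  toFun g x := dt (g *ᵥ x.1.rep) (f x.1).rep
  map_add' g g' := by
    funext x
    simp only [Matrix.add_mulVec, dt, Pi.add_apply]
    ring
  map_smul' c g := by
    funext x
    simp only [Matrix.smul_mulVec, dt, Pi.smul_apply, smul_eq_mul, RingHom.id_apply]
    ring

theorem exists_ne_zero_cnd (S : Finset ℙ¹) (hS : S.card ≤ 3) (f : ℙ¹ → ℙ¹) :
    ∃ w : Matrix (Fin 2) (Fin 2) K, w ≠ 0 ∧ ∀ x ∈ S, Cnd w x (f x) := by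
  have hlt : Module.finrank K (S → K) < Module.finrank K (Matrix (Fin 2) (Fin 2) K) := by
    rw [Module.finrank_fintype_fun_eq_card, Module.finrank_matrix]
    simp only [Fintype.card_coe, Fintype.card_fin, Module.finrank_self, mul_one]
    omega
  have := LinearMap.ker_ne_bot_of_finrank_lt (f := Phi S f) hlt
  obtain ⟨w, hw, hw0⟩ := Submodule.exists_mem_ne_zero_of_ne_bot this
  refine ⟨w, hw0, fun x hx => ?_⟩
  have := congrFun (LinearMap.mem_ker.mp hw) ⟨x, hx⟩
  exact this

theorem exists_rational_cnd [FiniteDimensional k K] [IsGalois k K]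
    (S : Finset ℙ¹) (hS3 : S.card ≤ 3) (f : ℙ¹ → ℙ¹)
    (hS : ∀ (σ : K ≃ₐ[k] K) (x : ℙ¹), x ∈ S → galP σ x ∈ S)
    (hf : ∀ (σ : K ≃ₐ[k] K) (x : ℙ¹), x ∈ S → f (galP σ x) = galP σ (f x)) :
    ∃ T : Matrix (Fin 2) (Fin 2) k, T ≠ 0 ∧
      ∀ x ∈ S, Cnd (T.map (algebraMap k K)) x (f x) := by
  obtain ⟨w, hw0, hw⟩ := exists_ne_zero_cnd S hS3 f
  obtain ⟨i, j, hij⟩ : ∃ i j, w i j ≠ 0 := by
    by_contra hcon
    push Not at hcon
    apply hw0
    ext a b
    exact hcon a b
  obtain ⟨c, hc⟩ : ∃ c : K, Algebra.trace k K (w i j * c) ≠ 0 := by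
    by_contra hcon
    push Not at hcon
    exact hij ((traceForm_nondegenerate k K).1 (w i j) hcon)
  refine ⟨Matrix.of (fun a b => Algebra.trace k K (w a b * c)), ?_, ?_⟩
  · intro h0
    apply hc
    have := congrFun (congrFun h0 i) j
    simpa using this
  · have hsum : (Matrix.of (fun a b => Algebra.trace k K (w a b * c))).map (algebraMap k K) =
        ∑ σ : K ≃ₐ[k] K, (c • w).map σ := by
      ext a b
      rw [Matrix.sum_apply]
      simp only [Matrix.map_apply, Matrix.of_apply, Matrix.smul_apply, smul_eq_mul]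
      rw [trace_eq_sum_automorphisms]
      apply Finset.sum_congr rfl
      intro σ _
      rw [mul_comm]
    intro x hx
    rw [hsum]
    apply cnd_sum
    intro σ _
    have h1 : galP σ.symm x ∈ S := hS σ.symm x hx
    have h2 := cnd_gal σ (c • w) _ _ (cnd_smul c w _ _ (hw _ h1))
    rw [← hf σ _ h1, galP_symm] at h2
    exact h2

theorem mulVec_ne_zero_of_det {A : Matrix (Fin 2) (Fin 2) K} (hA : A.det ≠ 0) {v : Fin 2 → K}
    (hv : v ≠ 0) : A *ᵥ v ≠ 0 := fun h => hv (Matrix.eq_zero_of_mulVec_eq_zero hA h)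

theorem smul_mk_eq (g : Matrix.GeneralLinearGroup (Fin 2) k) (v : Fin 2 → K) (hv : v ≠ 0)
    (hv' : (g.1.map (algebraMap k K)) *ᵥ v ≠ 0) :
    (Matrix.GeneralLinearGroup.toLin ((Matrix.GeneralLinearGroup.map (algebraMap k K)) g)) •
      Projectivization.mk K v hv =
    Projectivization.mk K ((g.1.map (algebraMap k K)) *ᵥ v) hv' := by
  rw [Projectivization.smul_mk]
  congr 1

theorem mk_mulVec_eq_of_cnd {A : Matrix (Fin 2) (Fin 2) K} {x y : ℙ¹} (h : Cnd A x y)
    (hne : A *ᵥ x.rep ≠ 0) : Projectivization.mk K (A *ᵥ x.rep) hne = y := by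
  conv_rhs => rw [← Projectivization.mk_rep y]
  rw [mk_eq_mk_iff_dt]
  exact h

theorem dt_rep_ne_zero {x y : ℙ¹} (h : x ≠ y) : dt x.rep y.rep ≠ 0 := by
  intro h0
  apply h
  rw [← Projectivization.mk_rep x, ← Projectivization.mk_rep y, mk_eq_mk_iff_dt]
  exact h0

theorem main3 [FiniteDimensional k K] [IsGalois k K]
    (S : Finset ℙ¹) (hS3 : S.card = 3) (f : ℙ¹ → ℙ¹)
    (hS : ∀ (σ : K ≃ₐ[k] K) (x : ℙ¹), x ∈ S → galP σ x ∈ S)
    (hf : ∀ (σ : K ≃ₐ[k] K) (x : ℙ¹), x ∈ S → f (galP σ x) = galP σ (f x))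
    (hinj : Set.InjOn f S) :
    ∃ g : Matrix.GeneralLinearGroup (Fin 2) k, ∀ x ∈ S,
      (Matrix.GeneralLinearGroup.toLin ((Matrix.GeneralLinearGroup.map (algebraMap k K)) g)) • x
        = f x := by
  classical
  obtain ⟨T, hT0, hT⟩ := exists_rational_cnd S hS3.le f hS hf
  set A := T.map (algebraMap k K) with hA
  have hdetA : A.det = algebraMap k K T.det := by
    rw [hA, ← RingHom.mapMatrix_apply, ← RingHom.map_det]
  have hdet : T.det ≠ 0 := by
    intro h0
    have hA0 : A.det = 0 := by rw [hdetA, h0, map_zero]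
    -- at most one element of S not killed
    have hpair : ∀ x ∈ S, ∀ x' ∈ S, x ≠ x' → A *ᵥ x.rep = 0 ∨ A *ᵥ x'.rep = 0 := by
      intro x hx x' hx' hne
      by_contra hcon
      push Not at hcon
      have h1 := mk_mulVec_eq_of_cnd (hT x hx) hcon.1
      have h2 := mk_mulVec_eq_of_cnd (hT x' hx') hcon.2
      have h3 : f x ≠ f x' := fun h => hne (hinj hx hx' h)
      rw [← h1, ← h2, Ne, mk_eq_mk_iff_dt, dt_mulVec, hA0, zero_mul] at h3
      exact h3 rfl
    obtain ⟨x₁, x₂, x₃, h12, h13, h23, rfl⟩ := Finset.card_eq_three.mp hS3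
    have hx₁ : x₁ ∈ ({x₁, x₂, x₃} : Finset ℙ¹) := by simp
    have hx₂ : x₂ ∈ ({x₁, x₂, x₃} : Finset ℙ¹) := by simp
    have hx₃ : x₃ ∈ ({x₁, x₂, x₃} : Finset ℙ¹) := by simp
    have hkill : ∃ x x' : ℙ¹, x ≠ x' ∧ A *ᵥ x.rep = 0 ∧ A *ᵥ x'.rep = 0 := by
      by_cases h1 : A *ᵥ x₁.rep = 0
      · rcases hpair x₂ hx₂ x₃ hx₃ h23 with h | h
        · exact ⟨x₁, x₂, h12, h1, h⟩
        · exact ⟨x₁, x₃, h13, h1, h⟩
      · have h2 := (hpair x₁ hx₁ x₂ hx₂ h12).resolve_left h1
        have h3 := (hpair x₁ hx₁ x₃ hx₃ h13).resolve_left h1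
        exact ⟨x₂, x₃, h23, h2, h3⟩
    obtain ⟨x, x', hne, hk, hk'⟩ := hkill
    have hAz : A = 0 := eq_zero_of_mulVec_eq_zero A _ _ hk hk' (dt_rep_ne_zero hne)
    apply hT0
    ext a b
    have := congrFun (congrFun hAz a) b
    simp only [hA, Matrix.map_apply, Matrix.zero_apply] at this
    exact (map_eq_zero_iff _ (algebraMap k K).injective).mp this
  refine ⟨Matrix.GeneralLinearGroup.mkOfDetNeZero T hdet, fun x hx => ?_⟩
  have hdetA' : A.det ≠ 0 := by
    rw [hdetA]
    exact (map_ne_zero_iff _ (algebraMap k K).injective).mpr hdet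
  have hne : A *ᵥ x.rep ≠ 0 := mulVec_ne_zero_of_det hdetA' x.rep_nonzero
  conv_lhs => rw [← Projectivization.mk_rep x]
  rw [smul_mk_eq _ _ _ hne]
  exact mk_mulVec_eq_of_cnd (hT x hx) hne

/-- the three standard rational points -/
def e0 : ℙ¹ := Projectivization.mk K ![1, 0] (by intro h; simpa using congrFun h 0)
def e1 : ℙ¹ := Projectivization.mk K ![0, 1] (by intro h; simpa using congrFun h 1)
def e2 : ℙ¹ := Projectivization.mk K ![1, 1] (by intro h; simpa using congrFun h 0)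

theorem e0_ne_e1 : (e0 : ℙ¹) ≠ e1 := by
  unfold e0 e1
  rw [Ne, mk_eq_mk_iff_dt]
  simp [dt]

theorem e0_ne_e2 : (e0 : ℙ¹) ≠ e2 := by
  unfold e0 e2
  rw [Ne, mk_eq_mk_iff_dt]
  simp [dt]

theorem e1_ne_e2 : (e1 : ℙ¹) ≠ e2 := by
  unfold e1 e2
  rw [Ne, mk_eq_mk_iff_dt]
  simp [dt]

theorem galP_e0 (σ : K ≃ₐ[k] K) : galP σ (e0 : ℙ¹) = e0 := by
  unfold e0
  rw [galP_mk]
  congr 1
  funext i
  fin_cases i <;> simp [galVec_apply]

theorem galP_e1 (σ : K ≃ₐ[k] K) : galP σ (e1 : ℙ¹) = e1 := by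
  unfold e1
  rw [galP_mk]
  congr 1
  funext i
  fin_cases i <;> simp [galVec_apply]

theorem galP_e2 (σ : K ≃ₐ[k] K) : galP σ (e2 : ℙ¹) = e2 := by
  unfold e2
  rw [galP_mk]
  congr 1
  funext i
  fin_cases i <;> simp [galVec_apply]

theorem exists_fixed_notMem (k : Type u) [Field k] [Algebra k K] (S : Finset ℙ¹) (hS : S.card ≤ 2) :
    ∃ p : ℙ¹, p ∉ S ∧ ∀ σ : K ≃ₐ[k] K, galP σ p = p := by
  classical
  have hE : ({e0, e1, e2} : Finset ℙ¹).card = 3 := by
    rw [Finset.card_insert_of_notMem, Finset.card_insert_of_notMem, Finset.card_singleton]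
    · simpa using e1_ne_e2
    · simp only [Finset.mem_insert, Finset.mem_singleton, not_or]
      exact ⟨e0_ne_e1, e0_ne_e2⟩
  obtain ⟨p, hpE, hpS⟩ := Finset.exists_mem_notMem_of_card_lt_card (s := S)
    (t := ({e0, e1, e2} : Finset ℙ¹)) (by omega)
  refine ⟨p, hpS, fun σ => ?_⟩
  simp only [Finset.mem_insert, Finset.mem_singleton] at hpE
  rcases hpE with rfl | rfl | rfl
  · exact galP_e0 σ
  · exact galP_e1 σ
  · exact galP_e2 σ

theorem mainLe [FiniteDimensional k K] [IsGalois k K] :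
    ∀ (n : ℕ) (S : Finset ℙ¹), S.card + n = 3 → ∀ (f : ℙ¹ → ℙ¹),
    (∀ (σ : K ≃ₐ[k] K) (x : ℙ¹), x ∈ S → galP σ x ∈ S) →
    (∀ (σ : K ≃ₐ[k] K) (x : ℙ¹), x ∈ S → f (galP σ x) = galP σ (f x)) →
    Set.InjOn f S →
    ∃ g : Matrix.GeneralLinearGroup (Fin 2) k, ∀ x ∈ S,
      (Matrix.GeneralLinearGroup.toLin ((Matrix.GeneralLinearGroup.map (algebraMap k K)) g)) • x
        = f x := by
  classical
  intro n
  induction n with
  | zero =>
    intro S hS f hst hf hinj
    exact main3 S (by omega) f hst hf hinj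
  | succ n ih =>
    intro S hS f hst hf hinj
    obtain ⟨p, hpS, hp⟩ := exists_fixed_notMem k S (by omega)
    obtain ⟨q, hqS, hq⟩ := exists_fixed_notMem k (S.image f) (by
      have := Finset.card_image_le (s := S) (f := f)
      omega)
    have hqS' : ∀ x ∈ S, f x ≠ q := fun x hx h => hqS (h ▸ Finset.mem_image_of_mem f hx)
    obtain ⟨g, hg⟩ := ih (insert p S) (by rw [Finset.card_insert_of_notMem hpS]; omega)
      (Function.update f p q)
      (by
        intro σ x hx
        rcases Finset.mem_insert.mp hx with rfl | hx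
        · rw [hp σ]; exact Finset.mem_insert_self _ _
        · exact Finset.mem_insert_of_mem (hst σ x hx))
      (by
        intro σ x hx
        rcases Finset.mem_insert.mp hx with rfl | hx
        · rw [hp σ, Function.update_self, hq σ]
        · have h1 : x ≠ p := fun h => hpS (h ▸ hx)
          have h2 : galP σ x ≠ p := fun h => hpS (h ▸ hst σ x hx)
          rw [Function.update_of_ne h1, Function.update_of_ne h2]
          exact hf σ x hx)
      (by
        intro x hx y hy hxy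
        have hx0 := Finset.mem_insert.mp hx
        have hy0 := Finset.mem_insert.mp hy
        clear hx hy
        rcases hx0 with hxp | hxS
        · rcases hy0 with hyp | hyS
          · rw [hxp, hyp]
          · have h1 : y ≠ p := fun h => hpS (h ▸ hyS)
            rw [hxp, Function.update_self, Function.update_of_ne h1] at hxy
            exact absurd hxy.symm (hqS' y hyS)
        · have h1 : x ≠ p := fun h => hpS (h ▸ hxS)
          rcases hy0 with hyp | hyS
          · rw [hyp, Function.update_self, Function.update_of_ne h1] at hxy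
            exact absurd hxy (hqS' x hxS)
          · have h2 : y ≠ p := fun h => hpS (h ▸ hyS)
            rw [Function.update_of_ne h1, Function.update_of_ne h2] at hxy
            exact hinj hxS hyS hxy)
    refine ⟨g, fun x hx => ?_⟩
    have h1 : x ≠ p := fun h => hpS (h ▸ hx)
    rw [hg x (Finset.mem_insert_of_mem hx), Function.update_of_ne h1]

theorem final [FiniteDimensional k K] [IsGalois k K]
    (S S' : Set ℙ¹) (hfin : S.Finite) (h3 : S.ncard ≤ 3)
    (hS : ∀ (σ : K ≃ₐ[k] K) (x : ℙ¹), x ∈ S → galP σ x ∈ S)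
    (b : S ≃ S')
    (hb : ∀ (σ : K ≃ₐ[k] K) (x : S),
      (b ⟨galP σ x.1, hS σ x.1 x.2⟩ : ℙ¹) = galP σ (b x).1) :
    ∃ g : Matrix.GeneralLinearGroup (Fin 2) k,
      (fun x => (Matrix.GeneralLinearGroup.toLin
        ((Matrix.GeneralLinearGroup.map (algebraMap k K)) g)) • x) '' S = S' := by
  classical
  let f : ℙ¹ → ℙ¹ := fun x => if h : x ∈ S then (b ⟨x, h⟩).1 else x
  have hfS : ∀ x (h : x ∈ S), f x = (b ⟨x, h⟩).1 := fun x h => dif_pos h
  have hcard : hfin.toFinset.card ≤ 3 := by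
    rw [← Set.ncard_eq_toFinset_card S hfin]
    exact h3
  obtain ⟨g, hg⟩ := mainLe (k := k) (3 - hfin.toFinset.card) hfin.toFinset (by omega) f
    (by
      intro σ x hx
      rw [Set.Finite.mem_toFinset] at hx ⊢
      exact hS σ x hx)
    (by
      intro σ x hx
      rw [Set.Finite.mem_toFinset] at hx
      rw [hfS _ (hS σ x hx), hfS _ hx]
      exact hb σ ⟨x, hx⟩)
    (by
      intro x hx y hy hxy
      rw [Finset.mem_coe, Set.Finite.mem_toFinset] at hx hy
      rw [hfS _ hx, hfS _ hy] at hxy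
      have := b.injective (Subtype.ext hxy)
      exact congrArg Subtype.val this)
  refine ⟨g, ?_⟩
  ext y
  constructor
  · rintro ⟨x, hx, rfl⟩
    show (Matrix.GeneralLinearGroup.toLin ((Matrix.GeneralLinearGroup.map (algebraMap k K)) g)) • x
      ∈ S'
    rw [hg x (hfin.mem_toFinset.mpr hx), hfS _ hx]
    exact (b ⟨x, hx⟩).2
  · intro hy
    refine ⟨(b.symm ⟨y, hy⟩).1, (b.symm ⟨y, hy⟩).2, ?_⟩
    show (Matrix.GeneralLinearGroup.toLin ((Matrix.GeneralLinearGroup.map (algebraMap k K)) g)) •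
      (b.symm ⟨y, hy⟩).1 = y
    rw [hg _ (hfin.mem_toFinset.mpr (b.symm ⟨y, hy⟩).2), hfS _ (b.symm ⟨y, hy⟩).2]
    simp

end Groth.Agent.H6.P1
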