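import Mathlib
import Groth.Prelude.Def_W4bk4bump814p2PDiff

set_option autoImplicit false
universe u v
open MvPolynomial W4bk4bump814p2

namespace Groth.Agent.H6.PDiff

theorem witt_identity (p : ℕ) [hp : Fact p.Prime] :
    ∃ S : ℕ → MvPolynomial (Fin 2) ℤ, S 0 = X 0 + X 1 ∧
      ∀ n : ℕ, ∑ j ∈ Finset.range (n + 1), (p : MvPolynomial (Fin 2) ℤ) ^ j * (S j) ^ (p ^ (n - j))
        = X 0 ^ (p ^ n) + X 1 ^ (p ^ n) := by
  have hp0 : p ≠ 0 := hp.out.ne_zero
  let e : MvPolynomial (Fin 2 × ℕ) ℤ →ₐ[ℤ] MvPolynomial (Fin 2) ℤ :=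
    aeval (fun bk : Fin 2 × ℕ => if bk.2 = 0 then X bk.1 else 0)
  refine ⟨fun j => e (WittVector.wittAdd p j), ?_, ?_⟩
  · simp [WittVector.wittAdd_zero, e]
  · intro n
    have h := congrArg e (wittStructureInt_prop p (X 0 + X 1 : MvPolynomial (Fin 2) ℤ) n)
    have hL : e (bind₁ (wittStructureInt p (X 0 + X 1)) (wittPolynomial p ℤ n))
        = ∑ j ∈ Finset.range (n + 1), (p : MvPolynomial (Fin 2) ℤ) ^ j * (e (WittVector.wittAdd p j)) ^ (p ^ (n - j)) := by
      rw [wittPolynomial_eq_sum_C_mul_X_pow, map_sum, map_sum]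
      refine Finset.sum_congr rfl fun j _ => ?_
      simp [WittVector.wittAdd]
    have hR : e (bind₁ (fun i => rename (Prod.mk i) (wittPolynomial p ℤ n)) (X 0 + X 1 : MvPolynomial (Fin 2) ℤ))
        = X 0 ^ (p ^ n) + X 1 ^ (p ^ n) := by
      have key : ∀ b : Fin 2, e (rename (Prod.mk b) (wittPolynomial p ℤ n)) = X b ^ (p ^ n) := by
        intro b
        rw [wittPolynomial_eq_sum_C_mul_X_pow, map_sum, map_sum, Finset.sum_eq_single 0]
        · simp [e]
        · intro j _ hj
          have : p ^ (n - j) ≠ 0 := pow_ne_zero _ hp0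
          simp [e, hj, hp0]
        · intro h; exact absurd (Finset.mem_range.2 (Nat.succ_pos n)) h
      simp only [map_add, bind₁_X_right, key]
    rw [← hL, h, hR]

theorem smul_inj_P (c : MvPolynomial (Fin 2) ℤ) (hc : c ≠ 0) (ω η : Ω[MvPolynomial (Fin 2) ℤ⁄ℤ]) (h : c • ω = c • η) : ω = η := by
  let b := KaehlerDifferential.mvPolynomialBasis ℤ (Fin 2)
  have h2 : b.repr (c • ω) = b.repr (c • η) := by rw [h]
  rw [map_smul, map_smul] at h2
  have := smul_right_injective (Fin 2 →₀ MvPolynomial (Fin 2) ℤ) hc h2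
  exact b.repr.injective this

theorem deltaZ_identity (p : ℕ) [hp : Fact p.Prime] :
    ∃ S : ℕ → MvPolynomial (Fin 2) ℤ, S 0 = X 0 + X 1 ∧
      ∀ n : ℕ, delta ℤ (MvPolynomial (Fin 2) ℤ) p n (X 0) + delta ℤ (MvPolynomial (Fin 2) ℤ) p n (X 1)
        = ∑ j ∈ Finset.range (n + 1), delta ℤ (MvPolynomial (Fin 2) ℤ) p (n - j) (S j) := by
  obtain ⟨S, hS0, hS⟩ := witt_identity p
  refine ⟨S, hS0, fun n => ?_⟩
  have h := congrArg (KaehlerDifferential.D ℤ (MvPolynomial (Fin 2) ℤ)) (hS n)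
  have hpP : (p : MvPolynomial (Fin 2) ℤ) ^ n ≠ 0 := by
    apply pow_ne_zero
    have : ((p : ℤ) : MvPolynomial (Fin 2) ℤ) ≠ 0 := by
      rw [Ne, Int.cast_eq_zero]; exact_mod_cast hp.out.ne_zero
    exact_mod_cast this
  apply smul_inj_P _ hpP
  have hpow : ∀ (z : MvPolynomial (Fin 2) ℤ) (m : ℕ), KaehlerDifferential.D ℤ (MvPolynomial (Fin 2) ℤ) (z ^ m)
      = (m : MvPolynomial (Fin 2) ℤ) • z ^ (m - 1) • KaehlerDifferential.D ℤ (MvPolynomial (Fin 2) ℤ) z := by
    intro z m
    rw [Derivation.leibniz_pow, Nat.cast_smul_eq_nsmul]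
  have hconst : ∀ j : ℕ, KaehlerDifferential.D ℤ (MvPolynomial (Fin 2) ℤ) ((p : MvPolynomial (Fin 2) ℤ) ^ j) = 0 := by
    intro j
    have : (p : MvPolynomial (Fin 2) ℤ) ^ j = algebraMap ℤ _ ((p : ℤ) ^ j) := by
      rw [map_pow, map_natCast]
    rw [this, Derivation.map_algebraMap]
  rw [map_add, hpow, hpow, map_sum] at h
  rw [smul_add, Finset.smul_sum]
  convert h.symm using 2
  · unfold delta
    push_cast
    rfl
  · unfold delta
    push_cast
    rfl
  · rename_i j hj
    rw [Finset.mem_range] at hj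
    unfold delta
    rw [Derivation.leibniz, hconst, smul_zero, add_zero, hpow]
    conv_rhs => rw [smul_smul]
    congr 1
    push_cast
    rw [← pow_add]
    congr 1
    omega

theorem delta_add (K : Type u) (A : Type v) [CommRing K] [CommRing A] [Algebra K A] (p : ℕ) [Fact p.Prime]
    (x y : A) : ∃ s : ℕ → A, s 0 = x + y ∧ ∀ n : ℕ,
      delta K A p n x + delta K A p n y = ∑ j ∈ Finset.range (n + 1), delta K A p (n - j) (s j) := by
  obtain ⟨S, hS0, hS⟩ := deltaZ_identity p
  let φ : MvPolynomial (Fin 2) ℤ →ₐ[ℤ] A := aeval ![x, y]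
  let _ : Algebra (MvPolynomial (Fin 2) ℤ) A := φ.toRingHom.toAlgebra
  have hφ : ∀ z, algebraMap (MvPolynomial (Fin 2) ℤ) A z = φ z := fun z => rfl
  let m := KaehlerDifferential.map ℤ K (MvPolynomial (Fin 2) ℤ) A
  have hm : ∀ (i : ℕ) (z : MvPolynomial (Fin 2) ℤ), m (delta ℤ _ p i z) = delta K A p i (φ z) := by
    intro i z
    unfold delta
    rw [map_smul, KaehlerDifferential.map_D, ← map_pow, ← hφ (z ^ _), algebraMap_smul, hφ z]
  refine ⟨fun j => φ (S j), ?_, fun n => ?_⟩
  · simp [hS0, φ]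
  · have := congrArg m (hS n)
    rw [map_add, map_sum, hm, hm] at this
    simp only [hm] at this
    simpa [φ] using this

/-- The additive subgroup generated by `δ_j(x)`, `j < i`. -/
noncomputable def G (K : Type u) (A : Type v) [CommRing K] [CommRing A] [Algebra K A] (p : ℕ) (i : ℕ) :
    AddSubgroup (Ω[A⁄K]) :=
  AddSubgroup.closure (⋃ j ∈ Finset.range i, Set.range (delta K A p j))

variable (K : Type u) (A : Type v) [CommRing K] [CommRing A] [Algebra K A] (p : ℕ)

theorem delta_mem_G {i j : ℕ} (hj : j < i) (z : A) : delta K A p j z ∈ G K A p i := by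
  apply AddSubgroup.subset_closure
  simp only [Set.mem_iUnion, Set.mem_range, Finset.mem_range]
  exact ⟨j, hj, z, rfl⟩

theorem G_mono {i i' : ℕ} (h : i ≤ i') : G K A p i ≤ G K A p i' := by
  apply AddSubgroup.closure_mono
  intro ω
  simp only [Set.mem_iUnion, Set.mem_range, Finset.mem_range]
  rintro ⟨j, hj, z, rfl⟩
  exact ⟨j, lt_of_lt_of_le hj h, z, rfl⟩

theorem delta_zero' (i : ℕ) : delta K A p i (0 : A) = 0 := by
  unfold delta
  rw [map_zero, smul_zero]

theorem defect_mem [Fact p.Prime] (i : ℕ) (x y : A) :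
    delta K A p i x + delta K A p i y - delta K A p i (x + y) ∈ G K A p i := by
  obtain ⟨s, hs0, hs⟩ := delta_add K A p x y
  rw [hs i, Finset.sum_range_succ', Nat.sub_zero, hs0, add_sub_cancel_right]
  apply AddSubgroup.sum_mem
  intro j hj
  rw [Finset.mem_range] at hj
  exact delta_mem_G K A p (by omega) _

/-- `δ_i(A) + G_i` as an additive subgroup. -/
noncomputable def T [Fact p.Prime] (i : ℕ) : AddSubgroup (Ω[A⁄K]) where
  carrier := {ω | ∃ x : A, ω - delta K A p i x ∈ G K A p i}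
  zero_mem' := by
    refine ⟨0, ?_⟩
    rw [delta_zero', sub_zero]
    exact (G K A p i).zero_mem
  add_mem' := by
    rintro ω₁ ω₂ ⟨x₁, h₁⟩ ⟨x₂, h₂⟩
    refine ⟨x₁ + x₂, ?_⟩
    have h3 := defect_mem K A p i x₁ x₂
    have := (G K A p i).add_mem ((G K A p i).add_mem h₁ h₂) h3
    convert this using 1
    abel
  neg_mem' := by
    rintro ω ⟨x, h⟩
    refine ⟨-x, ?_⟩
    have h3 := defect_mem K A p i x (-x)
    rw [add_neg_cancel, delta_zero', sub_zero] at h3
    have := (G K A p i).sub_mem ((G K A p i).neg_mem h) h3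
    convert this using 1
    abel

theorem sigma_eq_G [Fact p.Prime] (i : ℕ) : sigma K A p i = (G K A p i : Set (Ω[A⁄K])) := by
  induction i with
  | zero =>
    simp [G]
  | succ i ih =>
    rw [sigma_succ, ih]
    apply Set.eq_of_subset_of_subset
    · rintro ω ⟨x, hx⟩
      have h1 : ω - delta K A p i x ∈ G K A p (i + 1) := G_mono K A p (Nat.le_succ i) hx
      have h2 := delta_mem_G K A p (Nat.lt_succ_self i) x
      have := (G K A p (i + 1)).add_mem h1 h2
      simpa using this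
    · have hle : G K A p (i + 1) ≤ T K A p i := by
        unfold G
        rw [AddSubgroup.closure_le]
        intro ω h
        simp only [Set.mem_iUnion, Set.mem_range, Finset.mem_range] at h
        obtain ⟨j, hj, z, rfl⟩ := h
        rcases Nat.lt_succ_iff_lt_or_eq.1 hj with hlt | rfl
        · refine ⟨0, ?_⟩
          rw [delta_zero', sub_zero]
          exact delta_mem_G K A p hlt z
        · refine ⟨z, ?_⟩
          rw [sub_self]
          exact (G K A p j).zero_mem
      exact fun ω hω => hle hω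

/-- S12623. -/
theorem defect_mem_sigma [Fact p.Prime] (i : ℕ) (x y : A) :
    delta K A p i (x + y) - delta K A p i x - delta K A p i y ∈ sigma K A p i := by
  rw [sigma_eq_G, SetLike.mem_coe]
  have := (G K A p i).neg_mem (defect_mem K A p i x y)
  have e : delta K A p i (x + y) - delta K A p i x - delta K A p i y
      = -(delta K A p i x + delta K A p i y - delta K A p i (x + y)) := by abel
  rw [e]
  exact this

theorem smul_delta_eq (e : K) (j : ℕ) (hp : 0 < p) (z : A) :
    delta K A p j (e • z) = (e ^ (p ^ j)) • delta K A p j z := by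
  unfold delta
  have h1 : p ^ j - 1 + 1 = p ^ j := Nat.sub_add_cancel (Nat.one_le_pow _ _ hp)
  rw [Derivation.map_smul, smul_pow, smul_assoc, smul_comm (z ^ (p ^ j - 1)) e, smul_smul, ← pow_succ, h1]

theorem G_smul_mem {K : Type u} {A : Type v} [Field K] [PerfectField K] [CommRing A] [Algebra K A]
    (p : ℕ) [Fact p.Prime] [CharP K p] (i : ℕ) (c : K) {ω : Ω[A⁄K]} (h : ω ∈ G K A p i) :
    c • ω ∈ G K A p i := by
  unfold G at h
  induction h using AddSubgroup.closure_induction with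
  | mem ω h =>
    simp only [Set.mem_iUnion, Set.mem_range, Finset.mem_range] at h
    obtain ⟨j, hj, z, rfl⟩ := h
    obtain ⟨e, he⟩ := (bijective_iterateFrobenius K p j).2 c
    rw [iterateFrobenius_def] at he
    rw [← he, ← smul_delta_eq K A p e j (Fact.out : p.Prime).pos z]
    exact delta_mem_G K A p hj _
  | zero => rw [smul_zero]; exact (G K A p i).zero_mem
  | add ω₁ ω₂ _ _ h₁ h₂ => rw [smul_add]; exact (G K A p i).add_mem h₁ h₂
  | neg ω _ h => rw [smul_neg]; exact (G K A p i).neg_mem h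

theorem D_pow_p_pow {K : Type u} {A : Type v} [Field K] [CommRing A] [Algebra K A]
    (p : ℕ) [CharP K p] (x : A) (k : ℕ) (hk : 0 < k) :
    KaehlerDifferential.D K A (x ^ (p ^ k)) = 0 := by
  obtain ⟨k, rfl⟩ : ∃ k', k = k' + 1 := ⟨k - 1, by omega⟩
  rw [pow_succ, pow_mul, Derivation.leibniz_pow, ← Nat.cast_smul_eq_nsmul K, CharP.cast_eq_zero, zero_smul]

theorem pow_smul_delta {K : Type u} {A : Type v} [Field K] [CommRing A] [Algebra K A]
    (p : ℕ) [Fact p.Prime] [CharP K p] {i j : ℕ} (hj : j < i) (x z : A) :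
    (x ^ (p ^ i)) • delta K A p j z = delta K A p j (x ^ (p ^ (i - j)) * z) := by
  unfold delta
  have h1 : p ^ j - 1 + 1 = p ^ j := Nat.sub_add_cancel (Nat.one_le_pow _ _ (Fact.out : p.Prime).pos)
  rw [Derivation.leibniz, D_pow_p_pow p x (i - j) (by omega), smul_zero, add_zero, smul_smul, smul_smul,
    mul_pow, mul_assoc, mul_comm (z ^ _), ← mul_assoc, ← pow_succ, h1, ← pow_mul, ← pow_add,
    Nat.sub_add_cancel hj.le]

theorem G_pow_smul_mem {K : Type u} {A : Type v} [Field K] [CommRing A] [Algebra K A]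
    (p : ℕ) [Fact p.Prime] [CharP K p] (i : ℕ) (x : A) {ω : Ω[A⁄K]} (h : ω ∈ G K A p i) :
    (x ^ (p ^ i)) • ω ∈ G K A p i := by
  unfold G at h
  induction h using AddSubgroup.closure_induction with
  | mem ω h =>
    simp only [Set.mem_iUnion, Set.mem_range, Finset.mem_range] at h
    obtain ⟨j, hj, z, rfl⟩ := h
    rw [pow_smul_delta p hj]
    exact delta_mem_G K A p hj _
  | zero => rw [smul_zero]; exact (G K A p i).zero_mem
  | add ω₁ ω₂ _ _ h₁ h₂ => rw [smul_add]; exact (G K A p i).add_mem h₁ h₂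
  | neg ω _ h => rw [smul_neg]; exact (G K A p i).neg_mem h

end Groth.Agent.H6.PDiff
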