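import Mathlib
set_option autoImplicit false
universe u
namespace Groth.Agent.H6.PF

section Ring
variable {A C B : Type u} [CommRing A] [CommRing C] [CommRing B]

theorem expChar_of_natCast_eq_zero (R : Type*) [CommRing R] [Nontrivial R] (p : ℕ) (hp : p.Prime)
    (h0 : (p : R) = 0) : ExpChar R p := by
  have hdvd : ringChar R ∣ p := (CharP.cast_eq_zero_iff R (ringChar R) p).mp h0
  have h1 : ringChar R ≠ 1 := CharP.ringChar_ne_one
  have h2 : ringChar R = p := by
    rcases (Nat.dvd_prime hp).mp hdvd with h | h
    · exact absurd h h1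
    · exact h
  have : CharP R p := h2 ▸ ringChar.charP R
  exact ExpChar.prime hp

theorem pow_injective_of (p : ℕ) {R : Type*} [CommRing R]
    (hA : Function.Injective fun s : R => s ^ p) (n : ℕ) :
    Function.Injective fun s : R => s ^ (p ^ n) := by
  induction n with
  | zero => intro a b h; simpa using h
  | succ n ih =>
    intro a b h
    apply ih
    apply hA
    show (a ^ p ^ n) ^ p = (b ^ p ^ n) ^ p
    rw [← pow_mul, ← pow_mul, ← pow_succ]
    exact h

theorem pow_surjective_of (p : ℕ) {R : Type*} [CommRing R]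
    (hA : Function.Surjective fun s : R => s ^ p) (n : ℕ) :
    Function.Surjective fun s : R => s ^ (p ^ n) := by
  induction n with
  | zero => intro a; exact ⟨a, by simp⟩
  | succ n ih =>
    intro a
    obtain ⟨b, hb⟩ := hA a
    obtain ⟨c, hc⟩ := ih b
    refine ⟨c, ?_⟩
    show c ^ p ^ (n + 1) = a
    have hc : c ^ p ^ n = b := hc
    have hb : b ^ p = a := hb
    rw [pow_succ, pow_mul, hc, hb]

/-- Key ring-level lemma: if `A` is perfect of characteristic `p`, `C` is flat over `A`,
`B` is perfect and `φ : C → B` has nil kernel and `p`-power-surjective image, then `B` is flat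
over `A`. -/
theorem flat_of_uh_perfect (p : ℕ) (hp : p.Prime) [Algebra A C] [Algebra C B] [Algebra A B]
    [IsScalarTower A C B] (h0 : (p : A) = 0)
    (hA : Function.Bijective fun a : A => a ^ p)
    (hB : Function.Bijective fun b : B => b ^ p)
    [Module.Flat A C]
    (hker : ∀ c : C, algebraMap C B c = 0 → IsNilpotent c)
    (hrange : ∀ b : B, ∃ (n : ℕ) (c : C), algebraMap C B c = b ^ p ^ n) :
    Module.Flat A B := by
  rcases subsingleton_or_nontrivial B with hBs | hBn
  · infer_instance
  have : Nontrivial C := (algebraMap C B).domain_nontrivial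
  have : Nontrivial A := (algebraMap A C).domain_nontrivial
  have h0C : (p : C) = 0 := by rw [← map_natCast (algebraMap A C), h0, map_zero]
  have h0B : (p : B) = 0 := by rw [← map_natCast (algebraMap A B), h0, map_zero]
  have := expChar_of_natCast_eq_zero A p hp h0
  have := expChar_of_natCast_eq_zero C p hp h0C
  have := expChar_of_natCast_eq_zero B p hp h0B
  apply Module.Flat.of_forall_isTrivialRelation
  intro l f x hfx
  -- common exponent
  choose n₀ c₀ hc₀ using fun i => hrange (x i)
  let n : ℕ := ∑ i, n₀ i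
  have hn₀ : ∀ i, n₀ i ≤ n := fun i => Finset.single_le_sum (fun _ _ => Nat.zero_le _) (Finset.mem_univ i)
  let c : Fin l → C := fun i => (c₀ i) ^ p ^ (n - n₀ i)
  have hc : ∀ i, algebraMap C B (c i) = x i ^ p ^ n := by
    intro i
    simp only [c]
    rw [map_pow, hc₀, ← pow_mul, ← pow_add, Nat.add_sub_cancel' (hn₀ i)]
  -- the element z
  let z : C := ∑ i, (f i ^ p ^ n) • c i
  have hz : algebraMap C B z = 0 := by
    simp only [z]
    rw [map_sum]
    have : ∀ i, algebraMap C B ((f i ^ p ^ n) • c i) = (f i • x i) ^ p ^ n := by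
      intro i
      rw [Algebra.smul_def, map_mul, hc, ← IsScalarTower.algebraMap_apply, Algebra.smul_def,
        mul_pow, map_pow]
    simp_rw [this]
    rw [← sum_pow_char_pow, hfx, zero_pow (pow_pos hp.pos n).ne']
  obtain ⟨k, hk⟩ := hker z hz
  have hkle : k ≤ p ^ k := (Nat.lt_pow_self hp.one_lt).le
  have hzk : z ^ p ^ k = 0 := by
    rw [← Nat.sub_add_cancel hkle, pow_add, hk, mul_zero]
  -- the relation in C
  let N : ℕ := p ^ (n + k)
  have hNpos : N ≠ 0 := (pow_pos hp.pos _).ne'
  let α : Fin l → A := fun i => f i ^ N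
  let γ : Fin l → C := fun i => c i ^ p ^ k
  have hrel : ∑ i, α i • γ i = 0 := by
    have : ∀ i, α i • γ i = ((f i ^ p ^ n) • c i) ^ p ^ k := by
      intro i
      show (f i ^ p ^ (n + k)) • (c i ^ p ^ k) = ((f i ^ p ^ n) • c i) ^ p ^ k
      rw [Algebra.smul_def, Algebra.smul_def, mul_pow, map_pow, map_pow]
      congr 1
      rw [← pow_mul, ← pow_add]
    simp_rw [this]
    rw [← sum_pow_char_pow]
    exact hzk
  obtain ⟨m, a, y, hy1, hy2⟩ :=
    Module.Flat.isTrivialRelation_of_sum_smul_eq_zero (R := A) (M := C) (f := α) (x := γ) hrel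
  -- roots
  have hAinj : Function.Injective fun s : A => s ^ N := pow_injective_of p hA.1 (n + k)
  have hAsurj : Function.Surjective fun s : A => s ^ N := pow_surjective_of p hA.2 (n + k)
  have hBinj : Function.Injective fun s : B => s ^ N := pow_injective_of p hB.1 (n + k)
  have hBsurj : Function.Surjective fun s : B => s ^ N := pow_surjective_of p hB.2 (n + k)
  choose a' ha' using fun i j => hAsurj (a i j)
  choose y' hy' using fun j => hBsurj (algebraMap C B (y j))
  have ha'' : ∀ i j, a' i j ^ N = a i j := ha'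
  have hy'' : ∀ j, y' j ^ N = algebraMap C B (y j) := hy'
  refine ⟨m, a', y', ?_, ?_⟩
  · intro i
    apply hBinj
    show x i ^ N = (∑ j, a' i j • y' j) ^ N
    simp only [N]
    rw [sum_pow_char_pow]
    have h1 : x i ^ p ^ (n + k) = algebraMap C B (γ i) := by
      simp only [γ]
      rw [map_pow, hc, ← pow_mul, ← pow_add]
    rw [h1, hy1 i, map_sum]
    refine Finset.sum_congr rfl fun j _ => ?_
    rw [Algebra.smul_def, map_mul, ← IsScalarTower.algebraMap_apply, Algebra.smul_def, mul_pow]
    change _ = algebraMap A B (a' i j) ^ N * y' j ^ N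
    rw [← map_pow, ha'', hy'']
  · intro j
    apply hAinj
    show (∑ i, f i * a' i j) ^ N = 0 ^ N
    simp only [N]
    rw [sum_pow_char_pow, zero_pow (pow_pos hp.pos _).ne']
    have : ∀ i, (f i * a' i j) ^ p ^ (n + k) = α i * a i j := by
      intro i
      rw [mul_pow]
      change f i ^ N * a' i j ^ N = _
      rw [ha'']
    simp_rw [this]
    exact hy2 j

end Ring

end Groth.Agent.H6.PF
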