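import Mathlib
import Groth.Agent.Lib.Helper6.PF1
import Groth.Agent.H4.PerfImm
set_option autoImplicit false
universe u
open CategoryTheory CategoryTheory.Limits AlgebraicGeometry TensorProduct
open Groth.Agent.H4.PerfAWN Groth.Agent.H4.PerfUH Groth.Agent.H4.UHFactor Groth.Agent.H4.AWNSch
  Groth.Agent.H4.AWNSch2 Groth.Agent.H4.PerfImm
namespace Groth.Agent.H6.PF

variable (p : ℕ) [Fact p.Prime]

lemma flat_comp_uh_affine {XP Z YP : Scheme.{u}} [IsAffine XP] [IsAffine Z] [IsAffine YP]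
    [FrobSch.IsCharP YP p] (k : XP ⟶ Z) (g : Z ⟶ YP) [Flat g] (hk : FlatMor.IsUnivHomeo k)
    (hXP : HTop.IsAWN XP) (hYP : HTop.IsAWN YP) : Flat (k ≫ g) := by
  have hp : p.Prime := Fact.out
  rw [HasRingHomProperty.iff_of_isAffine (P := @Flat)]
  have hg : RingHom.Flat g.appTop.hom := (HasRingHomProperty.iff_of_isAffine (P := @Flat)).mp inferInstance
  rw [Scheme.Hom.comp_appTop]
  have hUH : FlatMor.IsUnivHomeo (Spec.map k.appTop) :=
    (MorphismProperty.arrow_mk_iso_iff (FlatMor.IsUnivHomeo.{u}) (arrowIsoSpecΓOfIsAffine k)).mp hk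
  have h0A : (p : Γ(YP, ⊤)) = 0 := FrobSch.natCast_eq_zero_app YP p ⊤
  have h0C : (p : Γ(Z, ⊤)) = 0 := natCast_eq_zero_of_hom p g ⊤
  have h0B : (p : Γ(XP, ⊤)) = 0 := natCast_eq_zero_of_hom p (k ≫ g) ⊤
  have hA : Function.Bijective fun s : Γ(YP, ⊤) => s ^ p :=
    perfect_of_isAWNRing p hp h0A ((Groth.Agent.S7420.result YP).2.mp hYP ⟨⊤, isAffineOpen_top YP⟩)
  have hB : Function.Bijective fun s : Γ(XP, ⊤) => s ^ p :=
    perfect_of_isAWNRing p hp h0B ((Groth.Agent.S7420.result XP).2.mp hXP ⟨⊤, isAffineOpen_top XP⟩)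
  obtain ⟨h1, h2⟩ := (uh_iff_of_p_eq_zero p hp k.appTop.hom h0C).mp hUH
  let _ := g.appTop.hom.toAlgebra
  let _ := k.appTop.hom.toAlgebra
  let _ := (g.appTop ≫ k.appTop).hom.toAlgebra
  have : IsScalarTower Γ(YP, ⊤) Γ(Z, ⊤) Γ(XP, ⊤) := IsScalarTower.of_algebraMap_eq' rfl
  have : Module.Flat Γ(YP, ⊤) Γ(Z, ⊤) := hg
  show Module.Flat Γ(YP, ⊤) Γ(XP, ⊤)
  refine flat_of_uh_perfect (A := Γ(YP, ⊤)) (C := Γ(Z, ⊤)) (B := Γ(XP, ⊤)) p hp h0A hA hB ?_ ?_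
  · intro c hc
    exact h1 c hc
  · intro b
    obtain ⟨n, c, hc⟩ := h2 b
    exact ⟨n, c, hc⟩

set_option backward.isDefEq.respectTransparency false in
lemma flat_comp_uh_affineTarget {XP Z YP : Scheme.{u}} [IsAffine YP]
    [FrobSch.IsCharP YP p] (k : XP ⟶ Z) (g : Z ⟶ YP) [Flat g] (hk : FlatMor.IsUnivHomeo k)
    (hXP : HTop.IsAWN XP) (hYP : HTop.IsAWN YP) : Flat (k ≫ g) := by
  have : IsIntegralHom k := uh_integral k hk
  refine IsZariskiLocalAtSource.of_iSup_eq_top (P := @AlgebraicGeometry.Flat.{u})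
    (fun W : Z.affineOpens => k ⁻¹ᵁ W.1) ?_ fun W => ?_
  · rw [eq_top_iff]
    intro x _
    obtain ⟨_, ⟨W, hW, rfl⟩, hxW, -⟩ :=
      Z.isBasis_affineOpens.exists_subset_of_mem_open (Set.mem_univ (k x)) isOpen_univ
    exact TopologicalSpace.Opens.mem_iSup.mpr ⟨⟨W, hW⟩, hxW⟩
  · have e : (k ⁻¹ᵁ W.1).ι ≫ k ≫ g = (k ∣_ W.1) ≫ (W.1.ι ≫ g) := by
      rw [← Category.assoc, ← morphismRestrict_ι, Category.assoc]
    rw [e]
    have : IsAffine ((k ⁻¹ᵁ W.1 : XP.Opens) : Scheme.{u}) := W.2.preimage k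
    have : IsAffine ((W.1 : Z.Opens) : Scheme.{u}) := W.2
    have hUH : FlatMor.IsUnivHomeo (k ∣_ W.1) := IsZariskiLocalAtTarget.restrict hk _
    exact flat_comp_uh_affine p (k ∣_ W.1) (W.1.ι ≫ g) hUH
      (isAWN_of_isOpenImmersion (k ⁻¹ᵁ W.1).ι hXP) hYP

set_option backward.isDefEq.respectTransparency false in
lemma flat_comp_uh {XP Z YP : Scheme.{u}}
    [FrobSch.IsCharP YP p] (k : XP ⟶ Z) (g : Z ⟶ YP) [Flat g] (hk : FlatMor.IsUnivHomeo k)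
    (hXP : HTop.IsAWN XP) (hYP : HTop.IsAWN YP) : Flat (k ≫ g) := by
  refine IsZariskiLocalAtTarget.of_iSup_eq_top (P := @AlgebraicGeometry.Flat.{u})
    (fun V : YP.affineOpens => V.1) (iSup_affineOpens_eq_top YP) fun V => ?_
  rw [morphismRestrict_comp]
  have : IsAffine ((V.1 : YP.Opens) : Scheme.{u}) := V.2
  have : FrobSch.IsCharP ((V.1 : YP.Opens) : Scheme.{u}) p := FrobSch.IsCharP.of_hom V.1.ι p
  have hUH : FlatMor.IsUnivHomeo (k ∣_ (g ⁻¹ᵁ V.1)) := IsZariskiLocalAtTarget.restrict hk _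
  exact flat_comp_uh_affineTarget p (k ∣_ (g ⁻¹ᵁ V.1)) (g ∣_ V.1) hUH
    (isAWN_of_isOpenImmersion (k ⁻¹ᵁ (g ⁻¹ᵁ V.1)).ι hXP) (isAWN_of_isOpenImmersion V.1.ι hYP)

theorem flat_perfection {X Y XP YP : Scheme.{u}}
    [FrobSch.IsCharP X p] [FrobSch.IsCharP Y p] [FrobSch.IsCharP XP p] [FrobSch.IsCharP YP p]
    (πX : XP ⟶ X) (πY : YP ⟶ Y) (hX : FrobSch.IsPerfection πX p) (hY : FrobSch.IsPerfection πY p)
    (f : X ⟶ Y) (fP : XP ⟶ YP) (w : fP ≫ πY = πX ≫ f)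
    [AlgebraicGeometry.Flat f] : AlgebraicGeometry.Flat fP := by
  obtain ⟨hπX, hXP⟩ := uh_of_isPerfection p πX hX
  obtain ⟨hπY, hYP⟩ := uh_of_isPerfection p πY hY
  have hfst : FlatMor.IsUnivHomeo (pullback.fst f πY) := MorphismProperty.pullback_fst _ _ hπY
  have hk1 : pullback.lift πX fP w.symm ≫ pullback.fst f πY = πX := pullback.lift_fst _ _ _
  have hk2 : pullback.lift πX fP w.symm ≫ pullback.snd f πY = fP := pullback.lift_snd _ _ _
  have hk : FlatMor.IsUnivHomeo (pullback.lift πX fP w.symm) :=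
    (Groth.Agent.H1.isUnivHomeo_two_out_of_three _ (pullback.fst f πY)).2
      (by rw [hk1]; exact hπX) hfst
  rw [← hk2]
  exact flat_comp_uh p _ (pullback.snd f πY) hk hXP hYP

theorem surjective_perfection {X Y XP YP : Scheme.{u}}
    [FrobSch.IsCharP X p] [FrobSch.IsCharP Y p] [FrobSch.IsCharP XP p] [FrobSch.IsCharP YP p]
    (πX : XP ⟶ X) (πY : YP ⟶ Y) (hX : FrobSch.IsPerfection πX p) (hY : FrobSch.IsPerfection πY p)
    (f : X ⟶ Y) (fP : XP ⟶ YP) (w : fP ≫ πY = πX ≫ f)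
    [AlgebraicGeometry.Surjective f] : AlgebraicGeometry.Surjective fP := by
  obtain ⟨hπX, hXP⟩ := uh_of_isPerfection p πX hX
  obtain ⟨hπY, hYP⟩ := uh_of_isPerfection p πY hY
  have hsX : Surjective πX := uh_surj πX hπX
  have hiY : UniversallyInjective πY := uh_univInj πY hπY
  constructor
  intro y'
  obtain ⟨x, hx⟩ := f.surjective (πY y')
  obtain ⟨x', rfl⟩ := πX.surjective x
  refine ⟨x', ?_⟩
  apply πY.injective
  have := congrArg (fun φ : XP ⟶ Y => φ x') w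
  simpa using this.trans hx

end Groth.Agent.H6.PF
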