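import Mathlib
import Groth.Agent.Lib.Helper6.PInsRed

/-! Helper6: `K ⊗ k^{perf}` is Artinian iff the reduction of `k' ⊗ K` is geometrically reduced for
some finite purely inseparable `k'/k`. -/

set_option autoImplicit false
universe u
open TensorProduct

namespace Groth.Agent.H6.PInsRed

theorem isNoetherianRing_tensor_of_finite (k k' K : Type u) [Field k] [Field k'] [Field K]
    [Algebra k k'] [Algebra k K] [Module.Finite k k'] : IsNoetherianRing (k' ⊗[k] K) := by
  haveI : IsNoetherianRing (K ⊗[k] k') := IsNoetherianRing.of_finite K (K ⊗[k] k')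
  exact isNoetherianRing_of_ringEquiv (K ⊗[k] k') (Algebra.TensorProduct.comm k K k').toRingEquiv

/-- S5061. -/
theorem s5061 (p : ℕ) [Fact p.Prime]
    (k K : Type u) [Field k] [CharP k p] [Field K] [Algebra k K]
    (P : Type u) [Field P] [Algebra k P] [PerfectRing P p] [IsPRadical (algebraMap k P) p] :
    IsArtinianRing (K ⊗[k] P) ↔
      ∃ (k' : Type u) (_ : Field k') (_ : Algebra k k'), Module.Finite k k' ∧
        IsPurelyInseparable k k' ∧
        Algebra.IsGeometricallyReduced k' ((k' ⊗[k] K) ⧸ nilradical (k' ⊗[k] K)) := by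
  haveI : ExpChar k p := .prime Fact.out
  haveI : IsPurelyInseparable k P := IsPRadical.isPurelyInseparable k P p
  constructor
  · intro hart
    haveI : IsArtinianRing (P ⊗[k] K) :=
      (Algebra.TensorProduct.comm k K P).toRingEquiv.isArtinianRing
    obtain ⟨E, _, _, hE, hpi, hgr⟩ := exists_finite_isGeometricallyReduced k P K p
      (IsNoetherian.noetherian _)
    exact ⟨E, inferInstance, inferInstance, hE, hpi, hgr⟩
  · rintro ⟨k', _, _, hfin, hpi, hgr⟩
    haveI : ExpChar k' p := expChar_of_injective_algebraMap (algebraMap k k').injective p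
    haveI : ExpChar P p := expChar_of_injective_algebraMap (algebraMap k P).injective p
    letI : Algebra k' P := (PerfectRing.lift (algebraMap k k') (algebraMap k P) p).toAlgebra
    haveI : IsScalarTower k k' P :=
      IsScalarTower.of_algebraMap_eq' (PerfectRing.lift_comp _ _ p).symm
    haveI : IsPurelyInseparable k' P := IsPurelyInseparable.tower_top k k' P
    haveI : Algebra.IsAlgebraic k' P := inferInstance
    haveI : IsReduced (P ⊗[k'] ((k' ⊗[k] K) ⧸ nilradical (k' ⊗[k] K))) := inferInstance
    have hN := nilradical_eq_map k k' P K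
    haveI : IsNoetherianRing (k' ⊗[k] K) := isNoetherianRing_tensor_of_finite k k' K
    have hfg : (nilradical (P ⊗[k] K)).FG := by
      rw [hN]
      exact Ideal.FG.map (IsNoetherian.noetherian _) _
    haveI : IsNoetherianRing (P ⊗[k] K) := by
      apply IsNoetherianRing.of_prime
      intro I hI
      rw [eq_nilradical_of_isPrime k P K I]
      exact hfg
    haveI : Ring.KrullDimLE 0 (P ⊗[k] K) := by
      apply Ring.KrullDimLE.mk₀
      intro I hI
      obtain ⟨M, hM, hIM⟩ := Ideal.exists_le_maximal I hI.ne_top
      haveI := hM.isPrime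
      have : I = M :=
        (eq_nilradical_of_isPrime k P K I).trans (eq_nilradical_of_isPrime k P K M).symm
      exact this ▸ hM
    haveI : IsArtinianRing (P ⊗[k] K) :=
      isArtinianRing_iff_isNoetherianRing_krullDimLE_zero.mpr ⟨inferInstance, inferInstance⟩
    exact (Algebra.TensorProduct.comm k P K).toRingEquiv.isArtinianRing

end Groth.Agent.H6.PInsRed
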