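import Mathlib
set_option autoImplicit false
universe u
namespace Groth.Agent.H6.PN

open HomogeneousLocalization in
theorem key_div {A : Type u} [CommRing A] (𝒜 : ℕ → AddSubgroup A) [GradedRing 𝒜]
    (p : Ideal A) [p.IsPrime]
    (a b : HomogeneousLocalization.AtPrime 𝒜 p) (r : Localization.AtPrime p)
    (h : a.val = r * b.val) : ∃ c : HomogeneousLocalization.AtPrime 𝒜 p, a = c * b := by
  obtain ⟨⟨d, ⟨a₁, ha₁⟩, ⟨s₁, hs₁⟩, hs₁p⟩, rfl⟩ := mk_surjective a
  obtain ⟨⟨e, ⟨b₁, hb₁⟩, ⟨s₂, hs₂⟩, hs₂p⟩, rfl⟩ := mk_surjective b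
  induction r using Localization.induction_on with
  | H ct =>
  obtain ⟨c, t⟩ := ct
  rw [val_mk, val_mk, Localization.mk_mul, Localization.mk_eq_mk_iff, Localization.r_iff_exists] at h
  obtain ⟨u, hu⟩ := h
  simp only [Submonoid.coe_mul] at hu
  -- t' = u * t ∉ p
  have ht' : (u : A) * t ∉ p := (u * t).2
  obtain ⟨k, hk⟩ : ∃ k, (DirectSum.decompose 𝒜 ((u : A) * t) k : A) ∉ p := by
    by_contra hcon
    push Not at hcon
    apply ht'
    classical
    rw [← DirectSum.sum_support_decompose 𝒜 ((u : A) * t)]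
    exact Ideal.sum_mem _ fun i _ => hcon i
  refine ⟨mk ⟨k, ⟨DirectSum.decompose 𝒜 ((u : A) * c) k, SetLike.coe_mem _⟩,
    ⟨DirectSum.decompose 𝒜 ((u : A) * t) k, SetLike.coe_mem _⟩, hk⟩, ?_⟩
  rw [ext_iff_val, val_mul, val_mk, val_mk, val_mk, Localization.mk_mul, Localization.mk_eq_mk_iff,
    Localization.r_iff_exists]
  refine ⟨1, ?_⟩
  simp only [Submonoid.coe_mul, OneMemClass.coe_one, one_mul]
  have hdeg1 : a₁ * s₂ ∈ 𝒜 (d + e) := SetLike.GradedMul.mul_mem ha₁ hs₂
  have hdeg2 : b₁ * s₁ ∈ 𝒜 (d + e) := by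
    rw [add_comm]; exact SetLike.GradedMul.mul_mem hb₁ hs₁
  have e1 := DirectSum.coe_decompose_mul_add_of_left_mem 𝒜 (b := (u : A) * t) (j := k) hdeg1
  have e2 := DirectSum.coe_decompose_mul_add_of_left_mem 𝒜 (b := (u : A) * c) (j := k) hdeg2
  have e3 : a₁ * s₂ * ((u : A) * t) = b₁ * s₁ * ((u : A) * c) := by
    linear_combination hu
  rw [e3, e2] at e1
  linear_combination -e1
end Groth.Agent.H6.PN

namespace Groth.Agent.H6.PN

/-- Descent of integral closedness along an injective ring map along which divisibility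
descends. -/
theorem isIntegrallyClosed_of_div_descends {R₀ R : Type u} [CommRing R₀] [CommRing R]
    [IsDomain R₀] [IsDomain R] [IsIntegrallyClosed R] [Algebra R₀ R]
    (hinj : Function.Injective (algebraMap R₀ R))
    (hdiv : ∀ (a b : R₀) (r : R), algebraMap R₀ R a = r * algebraMap R₀ R b → ∃ c, a = c * b) :
    IsIntegrallyClosed R₀ := by
  let K₀ := FractionRing R₀
  let K := FractionRing R
  have hinjK : Function.Injective (algebraMap R₀ K) := by
    rw [IsScalarTower.algebraMap_eq R₀ R K]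
    exact (IsFractionRing.injective R K).comp hinj
  let f : K₀ →ₐ[R₀] K := IsFractionRing.liftAlgHom (g := Algebra.ofId R₀ K) hinjK
  rw [isIntegrallyClosed_iff K₀]
  intro z hz
  obtain ⟨a, b, hb, rfl⟩ := IsFractionRing.div_surjective R₀ z
  have hb0 : b ≠ 0 := nonZeroDivisors.ne_zero hb
  have h1 : IsIntegral R₀ (f (algebraMap R₀ K₀ a / algebraMap R₀ K₀ b)) := hz.map f
  have h2 : IsIntegral R (f (algebraMap R₀ K₀ a / algebraMap R₀ K₀ b)) := h1.tower_top
  obtain ⟨r, hr⟩ := (isIntegrallyClosed_iff K).mp ‹_› h2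
  rw [map_div₀, AlgHom.commutes, AlgHom.commutes, IsScalarTower.algebraMap_apply R₀ R K,
    IsScalarTower.algebraMap_apply R₀ R K] at hr
  have hb1 : algebraMap R K (algebraMap R₀ R b) ≠ 0 := by
    intro h
    apply hb0
    apply hinj
    apply IsFractionRing.injective R K
    rw [h, map_zero, map_zero]
  rw [eq_div_iff hb1, ← map_mul] at hr
  have hr' := IsFractionRing.injective R K hr
  obtain ⟨c, hc⟩ := hdiv a b r hr'.symm
  refine ⟨c, ?_⟩
  rw [hc, map_mul, mul_div_assoc, div_self, mul_one]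
  intro h
  apply hb0
  apply IsFractionRing.injective R₀ K₀
  rw [h, map_zero]

theorem normal_atPrime {A : Type u} [CommRing A] (𝒜 : ℕ → AddSubgroup A) [GradedRing 𝒜]
    (p : Ideal A) [p.IsPrime] [IsDomain (Localization.AtPrime p)]
    [IsIntegrallyClosed (Localization.AtPrime p)] :
    IsDomain (HomogeneousLocalization.AtPrime 𝒜 p) ∧
      IsIntegrallyClosed (HomogeneousLocalization.AtPrime 𝒜 p) := by
  have hinj : Function.Injective
      (algebraMap (HomogeneousLocalization.AtPrime 𝒜 p) (Localization.AtPrime p)) :=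
    HomogeneousLocalization.val_injective _
  have hdom : IsDomain (HomogeneousLocalization.AtPrime 𝒜 p) :=
    Function.Injective.isDomain (algebraMap _ (Localization.AtPrime p)) hinj
  refine ⟨hdom, ?_⟩
  apply isIntegrallyClosed_of_div_descends (R := Localization.AtPrime p) hinj
  intro a b r h
  exact key_div 𝒜 p a b r h

end Groth.Agent.H6.PN
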