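import Groth.Agent.Lib.Helper6.ResAug

set_option autoImplicit false

universe u

namespace Groth.Agent.H6.PSCot

open IsLocalRing

variable {k : Type u} [Field k] {d : ℕ}

/-- constant coefficient as a `k`-algebra hom. -/
noncomputable def ccₐ : MvPowerSeries (Fin d) k →ₐ[k] k :=
  { toRingHom := MvPowerSeries.constantCoeff (σ := Fin d) (R := k)
    commutes' := fun c => by
      show MvPowerSeries.constantCoeff (algebraMap k (MvPowerSeries (Fin d) k) c) = c
      rw [MvPowerSeries.algebraMap_apply]
      simp }

theorem ccₐ_apply (f : MvPowerSeries (Fin d) k) : ccₐ f = MvPowerSeries.constantCoeff f := rfl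

instance isAdicComplete_maximalIdeal :
    IsAdicComplete (maximalIdeal (MvPowerSeries (Fin d) k)) (MvPowerSeries (Fin d) k) := by
  rw [Groth.Agent.H4.MvPSVars.maximalIdeal_eq_span_range_X]
  infer_instance

section Cot

variable {R : Type u} [CommRing R] [IsLocalRing R] [Algebra k R]

/-- If cotangent classes of `b i ∈ m` span the cotangent space, then `m ≤ (b) + m²`. -/
theorem le_span_sup_sq (b : Fin d → R) (hb : ∀ i, b i ∈ maximalIdeal R)
    (hsp : Submodule.span (ResidueField R)
      (Set.range (fun i : Fin d => (maximalIdeal R).toCotangent ⟨b i, hb i⟩)) = ⊤) :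
    maximalIdeal R ≤ Ideal.span (Set.range b) ⊔ maximalIdeal R ^ 2 := by
  intro x hx
  have h1 : (maximalIdeal R).toCotangent ⟨x, hx⟩ ∈ Submodule.span R
      (Set.range (fun i : Fin d => (maximalIdeal R).toCotangent ⟨b i, hb i⟩)) := by
    rw [← Submodule.restrictScalars_span R (ResidueField R) Ideal.Quotient.mk_surjective, hsp]
    trivial
  have h2 : Set.range (fun i : Fin d => (maximalIdeal R).toCotangent ⟨b i, hb i⟩) =
      (maximalIdeal R).toCotangent '' Set.range (fun i : Fin d => (⟨b i, hb i⟩ : maximalIdeal R)) := by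
    rw [← Set.range_comp]
    rfl
  rw [h2, ← Submodule.map_span] at h1
  obtain ⟨y, hy, hyx⟩ := h1
  rw [Ideal.toCotangent_eq] at hyx
  have h3 : (y : R) ∈ Ideal.span (Set.range b) := by
    have := Submodule.apply_mem_span_image_of_mem_span (maximalIdeal R).subtype hy
    rw [← Set.range_comp] at this
    exact this
  have : x = (y : R) - ((y : R) - x) := by ring
  rw [this]
  exact Submodule.sub_mem _ (Submodule.mem_sup_left h3) (Submodule.mem_sup_right hyx)

end Cot

end Groth.Agent.H6.PSCot
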