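import Groth.Agent.Lib.Helper6.PSCotA

set_option autoImplicit false

universe u

namespace Groth.Agent.H6.PSCot

open IsLocalRing

variable {k : Type u} [Field k] {d : ℕ}

section Psi

variable {R : Type u} [CommRing R] [IsLocalRing R] [IsNoetherianRing R] [Algebra k R]
  [IsAdicComplete (maximalIdeal R) R]

theorem C_eq_algebraMap (a : k) :
    (MvPowerSeries.C a : MvPowerSeries (Fin d) k) = algebraMap k _ a := by
  rw [MvPowerSeries.algebraMap_apply]
  simp

theorem X_mem_maximalIdeal (i : Fin d) :
    (MvPowerSeries.X i : MvPowerSeries (Fin d) k) ∈ maximalIdeal (MvPowerSeries (Fin d) k) := by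
  rw [ResAug.mem_maximalIdeal_iff ccₐ, ccₐ_apply]
  simp

omit [IsAdicComplete (maximalIdeal R) R] in
theorem psi_surjective (χR : R →ₐ[k] k) (ψ : MvPowerSeries (Fin d) k →ₐ[k] R)
    (hψ : ∀ i, ψ (MvPowerSeries.X i) ∈ maximalIdeal R)
    (hsp : Submodule.span (ResidueField R)
      (Set.range (fun i : Fin d => (maximalIdeal R).toCotangent ⟨ψ (MvPowerSeries.X i), hψ i⟩)) = ⊤) :
    Function.Surjective ψ := by
  rw [ResAug.surjective_iff ccₐ χR ψ]
  refine (le_span_sup_sq _ hψ hsp).trans (sup_le_sup_right ?_ _)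
  rw [Ideal.span_le]
  rintro _ ⟨i, rfl⟩
  exact Ideal.mem_map_of_mem _ (X_mem_maximalIdeal i)

omit [IsNoetherianRing R] [IsAdicComplete (maximalIdeal R) R] in
theorem ker_le_sq (χR : R →ₐ[k] k) (ψ : MvPowerSeries (Fin d) k →ₐ[k] R)
    (hψ : ∀ i, ψ (MvPowerSeries.X i) ∈ maximalIdeal R)
    (hb : LinearIndependent (ResidueField R)
      (fun i : Fin d => (maximalIdeal R).toCotangent ⟨ψ (MvPowerSeries.X i), hψ i⟩)) :
    RingHom.ker ψ.toRingHom ≤ maximalIdeal (MvPowerSeries (Fin d) k) ^ 2 := by
  classical
  intro f hf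
  have hf0 : ψ f = 0 := hf
  set c : Fin d → k := fun i => MvPowerSeries.coeff (Finsupp.single i 1) f with hc
  set g : MvPowerSeries (Fin d) k := f - ∑ i, MvPowerSeries.C (c i) * MvPowerSeries.X i with hg
  have hcc : MvPowerSeries.constantCoeff f = 0 := by
    have := ResAug.algHom_unique (χR.comp ψ) ccₐ
    have h2 := DFunLike.congr_fun this f
    rw [AlgHom.comp_apply, hf0, map_zero, ccₐ_apply] at h2
    exact h2.symm
  have hgm : g ∈ maximalIdeal (MvPowerSeries (Fin d) k) ^ 2 := by
    rw [pow_two, Groth.Agent.H4.MvPSVars.maximalIdeal_eq_span_range_X]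
    apply Groth.Agent.H4.MvPSVars.mem_sq_of_coeff
    intro e he
    rcases Groth.Agent.H4.MvPSVars.degree_le_one he with rfl | ⟨a, rfl⟩
    · rw [MvPowerSeries.coeff_zero_eq_constantCoeff_apply, hg, map_sub, hcc, map_sum]
      simp
    · rw [hg, map_sub, map_sum]
      have : ∀ i, MvPowerSeries.coeff (Finsupp.single a 1) (MvPowerSeries.C (c i) * MvPowerSeries.X i
          : MvPowerSeries (Fin d) k) = if i = a then c i else 0 := by
        intro i
        rw [MvPowerSeries.coeff_C_mul, MvPowerSeries.coeff_X]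
        by_cases hia : i = a
        · subst hia; simp
        · rw [if_neg hia, if_neg, mul_zero]
          intro h
          apply hia
          have := Finsupp.single_left_injective (one_ne_zero) h
          exact this.symm
      simp only [this]
      simp [hc]
  have hψg : ψ g ∈ maximalIdeal R ^ 2 := by
    have h1 : ψ g ∈ Ideal.map ψ (maximalIdeal (MvPowerSeries (Fin d) k) ^ 2) :=
      Ideal.mem_map_of_mem _ hgm
    rw [Ideal.map_pow] at h1
    exact Ideal.pow_right_mono (ResAug.map_maximalIdeal_le χR ψ) 2 h1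
  have hsum : ∑ i, algebraMap k R (c i) * ψ (MvPowerSeries.X i) ∈ maximalIdeal R ^ 2 := by
    have : ψ g = - ∑ i, algebraMap k R (c i) * ψ (MvPowerSeries.X i) := by
      rw [hg, map_sub, hf0, zero_sub, map_sum]
      congr 1
      refine Finset.sum_congr rfl fun i _ => ?_
      rw [map_mul, C_eq_algebraMap, ψ.commutes]
    have h2 := Submodule.neg_mem _ hψg
    rw [this, neg_neg] at h2
    exact h2
  -- linear independence
  have hlin : ∑ i, (residue R (algebraMap k R (c i))) •
      (maximalIdeal R).toCotangent ⟨ψ (MvPowerSeries.X i), hψ i⟩ = 0 := by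
    have h3 : ∀ i, (residue R (algebraMap k R (c i))) •
        (maximalIdeal R).toCotangent ⟨ψ (MvPowerSeries.X i), hψ i⟩ =
        (maximalIdeal R).toCotangent (algebraMap k R (c i) • ⟨ψ (MvPowerSeries.X i), hψ i⟩) := by
      intro i
      rw [map_smul]
      exact algebraMap_smul (ResidueField R) _ _
    simp only [h3]
    rw [← map_sum, Ideal.toCotangent_eq_zero]
    convert hsum using 1
    simp [Algebra.smul_def]
  have hc0 : ∀ i, c i = 0 := by
    intro i
    have := Fintype.linearIndependent_iff.1 hb _ hlin i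
    have hinj : Function.Injective ((residue R).comp (algebraMap k R)) := RingHom.injective _
    exact hinj (by rw [RingHom.comp_apply, this, map_zero])
  have : f = g := by
    rw [hg]
    simp [hc0]
  rw [this]
  exact hgm

end Psi

end Groth.Agent.H6.PSCot
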