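import Mathlib
import Groth.Prelude.Def_Wider
import Groth.Agent.Lib.Helper6.GorReg
import Groth.Agent.Lib.Helper1.AusBuchReg
import Groth.Agent.Lib.Helper6.FlatDepth

universe u
open CategoryTheory CategoryTheory.Limits CategoryTheory.Abelian

namespace Groth.Agent.H6

namespace Bass

variable {A : Type u} [CommRing A]

theorem ext_subsingleton_of_subsingleton_right (X Y : ModuleCat.{u} A) [Subsingleton Y] (i : ℕ) :
    Subsingleton (Ext X Y i) := by
  refine ⟨fun α β => ?_⟩
  have h0 : 𝟙 Y = 0 := by
    ext x
    exact Subsingleton.elim _ _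
  have key : ∀ α : Ext X Y i, α = 0 := by
    intro α
    rw [← Ext.comp_mk₀_id α, h0, Ext.mk₀_zero, Ext.comp_zero]
  rw [key α, key β]

theorem ext_subsingleton_of_shortExact_right {S : ShortComplex (ModuleCat.{u} A)}
    (hS : S.ShortExact) (X : ModuleCat.{u} A) (i : ℕ) (h1 : Subsingleton (Ext X S.X₁ i))
    (h3 : Subsingleton (Ext X S.X₃ i)) : Subsingleton (Ext X S.X₂ i) := by
  refine ⟨fun α β => ?_⟩
  have key : ∀ γ : Ext X S.X₂ i, γ = 0 := by
    intro γ
    obtain ⟨x₁, hx₁⟩ := Ext.covariant_sequence_exact₂ X hS γ (Subsingleton.elim _ _)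
    rw [← hx₁, Subsingleton.elim x₁ 0, Ext.zero_comp]
  rw [key α, key β]

/-- `Ext` into a finite power vanishes when `Ext` into the module does -/
theorem ext_pi_subsingleton (X : ModuleCat.{u} A) (Y : Type u) [AddCommGroup Y] [Module A Y]
    (j : ℕ) (h : Subsingleton (Ext X (ModuleCat.of A Y) j)) :
    ∀ m : ℕ, Subsingleton (Ext X (ModuleCat.of A (Fin m → Y)) j) := by
  intro m
  induction m with
  | zero => exact ext_subsingleton_of_subsingleton_right X _ j
  | succ m ih =>
    let f : Y →ₗ[A] (Fin (m + 1) → Y) := LinearMap.single A (fun _ => Y) 0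
    let g : (Fin (m + 1) → Y) →ₗ[A] (Fin m → Y) :=
      LinearMap.pi (fun i => LinearMap.proj i.succ)
    have hex : Function.Exact f g := by
      intro v
      constructor
      · intro hv
        refine ⟨v 0, ?_⟩
        funext i
        refine Fin.cases ?_ (fun i' => ?_) i
        · simp [f]
        · have := congrFun hv i'
          simp only [g, LinearMap.pi_apply, LinearMap.proj_apply, Pi.zero_apply] at this
          simp [f, this]
      · rintro ⟨y, rfl⟩
        funext i
        simp [f, g]
    have hf : Function.Injective f := by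
      intro a b hab
      have := congrFun hab 0
      simpa [f] using this
    have hg : Function.Surjective g := by
      intro w
      refine ⟨Fin.cons 0 w, ?_⟩
      funext i
      simp [g]
    have hS : (ShortComplex.mk (ModuleCat.ofHom f) (ModuleCat.ofHom g) (by
        apply ModuleCat.hom_ext
        apply LinearMap.ext
        intro y
        exact hex.apply_apply_eq_zero y)).ShortExact :=
      ModuleCat.shortComplex_shortExact _ hex hf hg
    exact ext_subsingleton_of_shortExact_right hS X j h ih

/-- the top nonvanishing `Ext` of a finite module of finite projective dimension is seen by `A` -/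
theorem ext_self_nontrivial_of_pd [IsNoetherianRing A] (M : Type u) [AddCommGroup M] [Module A M]
    [Module.Finite A M] (e : ℕ) (h1 : HasProjectiveDimensionLT (ModuleCat.of A M) (e + 1))
    (h2 : ¬ HasProjectiveDimensionLT (ModuleCat.of A M) e) :
    Nontrivial (Ext (ModuleCat.of A M) (ModuleCat.of A A) e) := by
  by_contra hcon
  rw [not_nontrivial_iff_subsingleton] at hcon
  apply h2
  haveI : Module.Finite A (ModuleCat.of A M) := ‹Module.Finite A M›
  apply ModuleCat.hasProjectiveDimensionLT_of_forall_finite
  intro L hL
  obtain ⟨m, π, hπ⟩ := Module.Finite.exists_fin' A L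
  have hex : Function.Exact (LinearMap.ker π).subtype π := by
    intro v
    constructor
    · intro hv
      exact ⟨⟨v, hv⟩, rfl⟩
    · rintro ⟨w, rfl⟩
      exact w.2
  have hS : (ShortComplex.mk (ModuleCat.ofHom (LinearMap.ker π).subtype) (ModuleCat.ofHom π) (by
      apply ModuleCat.hom_ext
      apply LinearMap.ext
      intro y
      exact hex.apply_apply_eq_zero y)).ShortExact :=
    ModuleCat.shortComplex_shortExact _ hex (Submodule.injective_subtype _) hπ
  have hm := ext_pi_subsingleton (ModuleCat.of A M) A e hcon m
  refine ⟨fun α β => ?_⟩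
  have key : ∀ γ : Ext (ModuleCat.of A M) L e, γ = 0 := by
    intro γ
    have h0 : γ.comp hS.extClass (rfl : e + 1 = e + 1) = 0 :=
      @Subsingleton.elim _ (HasProjectiveDimensionLT.subsingleton (ModuleCat.of A M) (e + 1) (e + 1)
        le_rfl _) _ _
    obtain ⟨x₂, hx₂⟩ := Ext.covariant_sequence_exact₃ (ModuleCat.of A M) hS γ rfl h0
    rw [← hx₂, @Subsingleton.elim _ hm x₂ 0, Ext.zero_comp]
  rw [key α, key β]

/-- S12051 -/
theorem serre_ext_criterion (A : Type u) [CommRing A] [IsRegularLocalRing A]
    (n : ℕ) (hn : ringKrullDim A = n) (M : Type u) [AddCommGroup M] [Module A M]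
    [Module.Finite A M] (k c : ℕ) :
    ((min k (n - c) : ℕ) : ℕ∞) ≤ LocCoh.depth A M ↔
      ∀ q : ℕ, c < q → Nontrivial (Abelian.Ext (ModuleCat.of A M) (ModuleCat.of A A) q) →
        q + k ≤ n := by
  by_cases hM : Subsingleton M
  · have htop : LocCoh.depth A M = ⊤ := (FlatDepth.depth_eq_top_iff M).mpr hM
    rw [htop]
    refine ⟨fun _ q _ hq => ?_, fun _ => le_top⟩
    haveI : Subsingleton (ModuleCat.of A M) := hM
    haveI := ext_subsingleton_of_subsingleton (ModuleCat.of A M) (ModuleCat.of A A) q
    exact absurd hq (not_nontrivial _)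
  · rw [not_subsingleton_iff_nontrivial] at hM
    obtain ⟨e, hen, h1, h2⟩ := Groth.Agent.H1.AB.exists_pd n hn M
    have hAB := Groth.Agent.H1.AB.auslander_buchsbaum M e h1 h2
    rw [Groth.Agent.H1.AB.depth_eq_of_isRegularLocalRing n hn] at hAB
    obtain ⟨dM, hdM, -⟩ := Depth.exists_depth_eq (R := A) M
    rw [hdM] at hAB ⊢
    have hsum : n = e + dM := by exact_mod_cast hAB
    have hnon := ext_self_nontrivial_of_pd M e h1 h2
    have hvan : ∀ q, e < q → Subsingleton (Ext (ModuleCat.of A M) (ModuleCat.of A A) q) :=
      fun q hq => HasProjectiveDimensionLT.subsingleton (ModuleCat.of A M) (e + 1) q (by omega) _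
    rw [Nat.cast_le]
    constructor
    · intro hmin q hcq hq
      have hqe : q ≤ e := by
        by_contra hcon
        haveI := hvan q (by omega)
        exact not_nontrivial _ hq
      have : k ≤ dM := by
        rcases min_le_iff.mp hmin with h | h
        · exact h
        · omega
      omega
    · intro hall
      by_cases hec : e ≤ c
      · exact (min_le_right _ _).trans (by omega)
      · have := hall e (by omega) hnon
        exact (min_le_left _ _).trans (by omega)

end Bass

end Groth.Agent.H6
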