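import Mathlib

/-! Perfect-closure extension of a henselian DVR, part 1: adjoining a `p`-th root of a residually
non-`p`-th-power to a "DVR-like" ring. -/

universe u

namespace Groth.Agent.H6.PerfExt

open Polynomial

section Step
variable {S : Type u} [CommRing S] [IsDomain S] (π : S)

/-- a ring all of whose non-multiples of `π` are units has `(π)` maximal -/
theorem span_isMaximal (hloc : ∀ x : S, (∃ y, x = π * y) ∨ IsUnit x) (hπ : ¬ IsUnit π) :
    (Ideal.span {π}).IsMaximal := by
  rw [Ideal.isMaximal_iff]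
  refine ⟨?_, ?_⟩
  · rw [Ideal.mem_span_singleton]
    intro h
    exact hπ (isUnit_of_dvd_one h)
  · intro J x _ hx hxJ
    rcases hloc x with ⟨y, rfl⟩ | hu
    · exact absurd (Ideal.mem_span_singleton.mpr (dvd_mul_right π y)) hx
    · obtain ⟨v, hv⟩ := hu.exists_left_inv
      rw [← hv]
      exact J.mul_mem_left v hxJ

variable (hloc : ∀ x : S, (∃ y, x = π * y) ∨ IsUnit x) (hπ : ¬ IsUnit π)
  (p : ℕ) (hp : p.Prime) (y : S) (hy : ∀ z w : S, z ^ p - y ≠ π * w)

include hloc hπ hp hy in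
theorem map_span_isMaximal :
    ((Ideal.span {π}).map (AdjoinRoot.of (X ^ p - C y : S[X]))).IsMaximal := by
  haveI hmax := span_isMaximal π hloc hπ
  letI : Field (S ⧸ Ideal.span {π}) := Ideal.Quotient.field _
  have hirr : Irreducible ((X ^ p - C y : S[X]).map (Ideal.Quotient.mk (Ideal.span {π}))) := by
    rw [Polynomial.map_sub, Polynomial.map_pow, Polynomial.map_X, Polynomial.map_C]
    apply X_pow_sub_C_irreducible_of_prime hp
    intro b hb
    obtain ⟨z, rfl⟩ := Ideal.Quotient.mk_surjective b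
    rw [← map_pow, Ideal.Quotient.eq, Ideal.mem_span_singleton] at hb
    obtain ⟨w, hw⟩ := hb
    exact hy z w hw
  have hF : IsField ((S ⧸ Ideal.span {π})[X] ⧸
      Ideal.span {(X ^ p - C y : S[X]).map (Ideal.Quotient.mk (Ideal.span {π}))}) := by
    haveI : Fact (Irreducible ((X ^ p - C y : S[X]).map
      (Ideal.Quotient.mk (Ideal.span {π})))) := ⟨hirr⟩
    haveI := AdjoinRoot.span_maximal_of_irreducible
      (f := (X ^ p - C y : S[X]).map (Ideal.Quotient.mk (Ideal.span {π})))
    exact (Ideal.Quotient.maximal_ideal_iff_isField_quotient _).mp inferInstance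
  apply Ideal.Quotient.maximal_of_isField
  exact MulEquiv.isField hF
    (AdjoinRoot.quotAdjoinRootEquivQuotPolynomialQuot (Ideal.span {π})
      (X ^ p - C y : S[X])).toMulEquiv


include hp in
theorem monic_aux : (X ^ p - C y : S[X]).Monic := monic_X_pow_sub_C y hp.ne_zero

include hloc hπ hp hy in
/-- `B = S[X]/(X^p - y)` is local with maximal ideal `πB` -/
theorem loc_B (b : AdjoinRoot (X ^ p - C y : S[X])) :
    (∃ b', b = AdjoinRoot.of (X ^ p - C y : S[X]) π * b') ∨ IsUnit b := by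
  by_cases hb : IsUnit b
  · exact Or.inr hb
  left
  obtain ⟨M, hM, hbM⟩ := exists_max_ideal_of_mem_nonunits hb
  have hmon := monic_aux p hp y
  haveI : Module.Finite S (AdjoinRoot (X ^ p - C y : S[X])) := hmon.finite_adjoinRoot
  haveI : Algebra.IsIntegral S (AdjoinRoot (X ^ p - C y : S[X])) := Algebra.IsIntegral.of_finite _ _
  have hcm : (M.comap (algebraMap S (AdjoinRoot (X ^ p - C y : S[X])))).IsMaximal :=
    Ideal.isMaximal_comap_of_isIntegral_of_isMaximal M
  have hle : M.comap (algebraMap S (AdjoinRoot (X ^ p - C y : S[X]))) ≤ Ideal.span {π} := by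
    intro x hx
    rcases hloc x with ⟨x', rfl⟩ | hu
    · exact Ideal.mem_span_singleton.mpr (dvd_mul_right π x')
    · exact absurd (Ideal.eq_top_of_isUnit_mem _ hx hu) hcm.ne_top
  have hmaxπ := span_isMaximal π hloc hπ
  have heq := hcm.eq_of_le hmaxπ.ne_top hle
  have hπM : AdjoinRoot.of (X ^ p - C y : S[X]) π ∈ M := by
    have : π ∈ M.comap (algebraMap S (AdjoinRoot (X ^ p - C y : S[X]))) := by
      rw [heq]; exact Ideal.subset_span (Set.mem_singleton π)
    exact this
  have hle2 : (Ideal.span {π}).map (AdjoinRoot.of (X ^ p - C y : S[X])) ≤ M := by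
    rw [Ideal.map_span, Set.image_singleton, Ideal.span_singleton_le_iff_mem]
    exact hπM
  have heq2 := (map_span_isMaximal π hloc hπ p hp y hy).eq_of_le hM.ne_top hle2
  rw [← heq2, Ideal.map_span, Set.image_singleton, Ideal.mem_span_singleton] at hbM
  obtain ⟨b', hb'⟩ := hbM
  exact ⟨b', hb'⟩

include hp in
theorem sep_B (hsep : ∀ x : S, (∀ n : ℕ, ∃ z, x = π ^ n * z) → x = 0)
    (b : AdjoinRoot (X ^ p - C y : S[X]))
    (hb : ∀ n : ℕ, ∃ b', b = AdjoinRoot.of (X ^ p - C y : S[X]) π ^ n * b') : b = 0 := by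
  have hmon := monic_aux p hp y
  set bas := (AdjoinRoot.powerBasis' hmon).basis with hbas
  apply bas.repr.map_eq_zero_iff.mp
  ext i
  apply hsep
  intro n
  obtain ⟨b', hb'⟩ := hb n
  refine ⟨bas.repr b' i, ?_⟩
  have : b = (π ^ n) • b' := by
    rw [hb', Algebra.smul_def, AdjoinRoot.algebraMap_eq, map_pow]
  rw [this, map_smul, Finsupp.smul_apply, smul_eq_mul]

include hloc hπ hp hy in
theorem decomp_B (hsep : ∀ x : S, (∀ n : ℕ, ∃ z, x = π ^ n * z) → x = 0)
    (b : AdjoinRoot (X ^ p - C y : S[X])) (hb : b ≠ 0) :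
    ∃ (n : ℕ) (u : AdjoinRoot (X ^ p - C y : S[X])), IsUnit u ∧
      b = AdjoinRoot.of (X ^ p - C y : S[X]) π ^ n * u := by
  by_contra hcon
  push Not at hcon
  apply hb
  apply sep_B π p hp y hsep
  intro n
  induction n with
  | zero => exact ⟨b, by simp⟩
  | succ n ih =>
    obtain ⟨b', hb'⟩ := ih
    rcases loc_B π hloc hπ p hp y hy b' with ⟨b'', hb''⟩ | hu
    · exact ⟨b'', by rw [hb', hb'', pow_succ]; ring⟩
    · exact absurd hb' (hcon n b' hu)

include hloc hπ hp hy in
/-- any ring hom from `B` to a field extending an injective map on `S` is injective -/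
theorem inj_lift (hsep : ∀ x : S, (∀ n : ℕ, ∃ z, x = π ^ n * z) → x = 0)
    {Ω : Type*} [Field Ω] (φ : AdjoinRoot (X ^ p - C y : S[X]) →+* Ω)
    (hφ : Function.Injective (φ.comp (AdjoinRoot.of (X ^ p - C y : S[X])))) :
    Function.Injective φ := by
  rw [injective_iff_map_eq_zero]
  intro b hb
  by_contra hne
  obtain ⟨n, u, hu, rfl⟩ := decomp_B π hloc hπ p hp y hy hsep b hne
  rw [map_mul, map_pow] at hb
  rcases mul_eq_zero.mp hb with h | h
  · have h1 : φ.comp (AdjoinRoot.of (X ^ p - C y : S[X])) (π ^ n) = 0 := by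
      rw [RingHom.comp_apply, map_pow, map_pow, h]
    have h2 := (injective_iff_map_eq_zero _).mp hφ _ h1
    apply hne
    rw [← map_pow, h2, map_zero, zero_mul]
  · exact (hu.map φ).ne_zero h


include hloc hπ hp hy in
/-- `p`-th powers in `B` are congruent to elements of `S` modulo `π` -/
theorem frob_B (hpπ : ∃ c : S, (p : S) = π * c) (b : AdjoinRoot (X ^ p - C y : S[X])) :
    ∃ (s : S) (b' : AdjoinRoot (X ^ p - C y : S[X])),
      b ^ p = AdjoinRoot.of (X ^ p - C y : S[X]) s + AdjoinRoot.of (X ^ p - C y : S[X]) π * b' := by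
  set I : Ideal (AdjoinRoot (X ^ p - C y : S[X])) :=
    (Ideal.span {π}).map (AdjoinRoot.of (X ^ p - C y : S[X])) with hI
  haveI hImax : I.IsMaximal := map_span_isMaximal π hloc hπ p hp y hy
  letI : Field (AdjoinRoot (X ^ p - C y : S[X]) ⧸ I) := Ideal.Quotient.field I
  haveI : Fact p.Prime := ⟨hp⟩
  have hπI : AdjoinRoot.of (X ^ p - C y : S[X]) π ∈ I :=
    Ideal.mem_map_of_mem _ (Ideal.subset_span (Set.mem_singleton π))
  haveI : CharP (AdjoinRoot (X ^ p - C y : S[X]) ⧸ I) p := by
    rw [CharP.charP_iff_prime_eq_zero hp]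
    obtain ⟨c, hc⟩ := hpπ
    have h1 : ((p : S) : AdjoinRoot (X ^ p - C y : S[X])) ∈ I := by
      have : (AdjoinRoot.of (X ^ p - C y : S[X])) (p : S) ∈ I := by
        rw [hc, map_mul]
        exact I.mul_mem_right _ hπI
      simpa using this
    have h2 := Ideal.Quotient.eq_zero_iff_mem.mpr h1
    simpa using h2
  obtain ⟨q, rfl⟩ := AdjoinRoot.mk_surjective b
  have hroot : (AdjoinRoot.root (X ^ p - C y : S[X])) ^ p =
      AdjoinRoot.of (X ^ p - C y : S[X]) y := by
    have h := AdjoinRoot.mk_self (f := (X ^ p - C y : S[X]))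
    rw [map_sub, map_pow, AdjoinRoot.mk_X, AdjoinRoot.mk_C, sub_eq_zero] at h
    exact h
  set s : S := ∑ i ∈ Finset.range (q.natDegree + 1), q.coeff i ^ p * y ^ i with hs
  have key : Ideal.Quotient.mk I ((AdjoinRoot.mk (X ^ p - C y : S[X]) q) ^ p) =
      Ideal.Quotient.mk I (AdjoinRoot.of (X ^ p - C y : S[X]) s) := by
    rw [← AdjoinRoot.aeval_eq, Polynomial.aeval_eq_sum_range, map_pow, map_sum, sum_pow_char,
      hs, map_sum, map_sum]
    refine Finset.sum_congr rfl fun i _ => ?_
    rw [Algebra.smul_def, AdjoinRoot.algebraMap_eq, map_mul, mul_pow, map_mul, map_mul,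
      map_pow, map_pow, map_pow, map_pow, ← hroot, map_pow, ← pow_mul]
    congr 1
    rw [map_pow, ← pow_mul, mul_comm]

  rw [Ideal.Quotient.eq, hI, Ideal.map_span, Set.image_singleton, Ideal.mem_span_singleton] at key
  obtain ⟨b', hb'⟩ := key
  exact ⟨s, b', by rw [← hb']; ring⟩

end Step

end Groth.Agent.H6.PerfExt
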