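import Mathlib
import Groth.Agent.Lib.Helper6.PerfExt1

/-! Perfect-closure extension of a henselian DVR, part 2: good subalgebras of an algebraically
closed field. -/

universe u

namespace Groth.Agent.H6.PerfExt

open Polynomial

section Good
variable (R : Type u) [CommRing R] [IsDomain R] [IsDiscreteValuationRing R]
  (K : Type u) [Field K] [Algebra R K] [IsFractionRing R K]
  (Ω : Type u) [Field Ω] [Algebra R Ω] [Algebra K Ω] [IsScalarTower R K Ω]
  (ϖ : R) (p : ℕ)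

/-- the good subalgebras -/
structure Good (S : Subalgebra R Ω) : Prop where
  fin : ∀ s : Finset Ω, (↑s : Set Ω) ⊆ S → ∃ S₀ : Subalgebra R Ω, S₀ ≤ S ∧ (↑s : Set Ω) ⊆ S₀ ∧
    Module.Finite R S₀ ∧ Module.Free R S₀ ∧ ∃ m : ℕ, Module.finrank R S₀ = p ^ m
  loc : ∀ x ∈ S, (∃ y ∈ S, x = algebraMap R Ω ϖ * y) ∨ (∃ y ∈ S, x * y = 1)
  pi : ∀ x ∈ S, ∃ (m : ℕ) (z : R), ∃ w ∈ S,
    x ^ (p ^ m) = algebraMap R Ω z + algebraMap R Ω ϖ * w

variable {R Ω ϖ p}

theorem Good.isIntegral {S : Subalgebra R Ω} (hS : Good R Ω ϖ p S) (x : Ω) (hx : x ∈ S) :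
    IsIntegral R x := by
  obtain ⟨S₀, _, hs, hfin, _, _⟩ := hS.fin {x} (by simpa using hx)
  have hx0 : x ∈ S₀ := hs (by simp)
  haveI := hfin
  have : IsIntegral R (⟨x, hx0⟩ : S₀) := Algebra.IsIntegral.isIntegral _
  exact this.map S₀.val

include K in
theorem injective_algebraMap : Function.Injective (algebraMap R Ω) := by
  rw [IsScalarTower.algebraMap_eq R K Ω]
  exact (algebraMap K Ω).injective.comp (IsFractionRing.injective R K)

include K in
/-- an element of `R` which is divisible by `ϖ^n` in the integral closure is divisible in `R` -/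
theorem dvd_of_integral (hϖ : Irreducible ϖ) (r : R) (n : ℕ) (z : Ω) (hz : IsIntegral R z)
    (h : algebraMap R Ω r = algebraMap R Ω ϖ ^ n * z) : ϖ ^ n ∣ r := by
  have hϖ0 : algebraMap R K ϖ ≠ 0 := by
    rw [Ne, map_eq_zero_iff _ (IsFractionRing.injective R K)]
    exact hϖ.ne_zero
  have hz' : z = algebraMap K Ω (algebraMap R K r / algebraMap R K ϖ ^ n) := by
    rw [map_div₀, map_pow, ← IsScalarTower.algebraMap_apply, ← IsScalarTower.algebraMap_apply, h,
      mul_div_assoc, mul_comm, div_mul_cancel₀]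
    have : algebraMap R Ω ϖ ≠ 0 := by
      rw [IsScalarTower.algebraMap_apply R K Ω]
      simpa using hϖ0
    exact pow_ne_zero _ this
  rw [hz', isIntegral_algebraMap_iff (algebraMap K Ω).injective,
    IsIntegrallyClosed.isIntegral_iff] at hz
  obtain ⟨a, ha⟩ := hz
  refine ⟨a, ?_⟩
  apply IsFractionRing.injective R K
  rw [map_mul, map_pow, ha, mul_div_cancel₀]
  exact pow_ne_zero _ hϖ0

include K in
theorem Good.sep (hϖ : Irreducible ϖ) {S : Subalgebra R Ω} (hS : Good R Ω ϖ p S) (x : Ω)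
    (hx : x ∈ S) (h : ∀ n : ℕ, ∃ y ∈ S, x = algebraMap R Ω ϖ ^ n * y) : x = 0 := by
  by_contra hx0
  have hxi := hS.isIntegral x hx
  have halg : IsAlgebraic R x⁻¹ := hxi.isAlgebraic.inv
  obtain ⟨r, hr, hri⟩ := halg.exists_integral_multiple
  have hfm : FiniteMultiplicity ϖ r := FiniteMultiplicity.of_not_isUnit hϖ.not_isUnit hr
  rw [FiniteMultiplicity.def] at hfm
  obtain ⟨n, hn⟩ := hfm
  apply hn
  obtain ⟨y, hy, hxy⟩ := h (n + 1)
  apply dvd_of_integral K hϖ r (n + 1) (r • x⁻¹ * y) (hri.mul (hS.isIntegral y hy))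
  rw [Algebra.smul_def]
  have : x⁻¹ * x = 1 := inv_mul_cancel₀ hx0
  calc algebraMap R Ω r = algebraMap R Ω r * (x⁻¹ * x) := by rw [this, mul_one]
    _ = algebraMap R Ω r * (x⁻¹ * (algebraMap R Ω ϖ ^ (n + 1) * y)) := by rw [← hxy]
    _ = algebraMap R Ω ϖ ^ (n + 1) * (algebraMap R Ω r * x⁻¹ * y) := by ring

include K in
theorem Good.not_unit (hϖ : Irreducible ϖ) {S : Subalgebra R Ω} (hS : Good R Ω ϖ p S) (y : Ω)
    (hy : y ∈ S) : algebraMap R Ω ϖ * y ≠ 1 := by
  intro h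
  have := dvd_of_integral K hϖ 1 1 y (hS.isIntegral y hy) (by rw [map_one, pow_one, h])
  rw [pow_one] at this
  exact hϖ.not_isUnit (isUnit_of_dvd_one this)


include K in
theorem good_bot (hϖ : Irreducible ϖ) : Good R Ω ϖ p ⊥ := by
  have hinj := injective_algebraMap (R := R) K (Ω := Ω)
  refine ⟨?_, ?_, ?_⟩
  · intro s hs
    refine ⟨⊥, le_rfl, hs, inferInstance, ?_, 0, ?_⟩
    · exact Module.Free.of_equiv (Algebra.botEquivOfInjective hinj).symm.toLinearEquiv
    · rw [LinearEquiv.finrank_eq (Algebra.botEquivOfInjective hinj).toLinearEquiv,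
        Module.finrank_self, pow_zero]
  · intro x hx
    obtain ⟨r, rfl⟩ := Algebra.mem_bot.mp hx
    by_cases hr : IsUnit r
    · right
      obtain ⟨r', hr'⟩ := hr.exists_right_inv
      exact ⟨algebraMap R Ω r', Subalgebra.algebraMap_mem _ _, by rw [← map_mul, hr', map_one]⟩
    · left
      have : r ∈ IsLocalRing.maximalIdeal R := hr
      rw [hϖ.maximalIdeal_eq, Ideal.mem_span_singleton] at this
      obtain ⟨r', rfl⟩ := this
      exact ⟨algebraMap R Ω r', Subalgebra.algebraMap_mem _ _, by rw [map_mul]⟩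
  · intro x hx
    obtain ⟨r, rfl⟩ := Algebra.mem_bot.mp hx
    exact ⟨0, r, 0, Subalgebra.zero_mem _, by simp⟩

theorem mem_sSup_chain {c : Set (Subalgebra R Ω)} (hc : IsChain (· ≤ ·) c) (hne : c.Nonempty)
    (x : Ω) : x ∈ sSup c ↔ ∃ S ∈ c, x ∈ S := by
  haveI : Nonempty c := hne.to_subtype
  have hdir : Directed (· ≤ ·) (fun i : c => (i : Subalgebra R Ω)) := hc.directed
  rw [sSup_eq_iSup', ← SetLike.mem_coe, Subalgebra.coe_iSup_of_directed hdir]
  simp

theorem exists_mem_chain_of_finset {c : Set (Subalgebra R Ω)} (hc : IsChain (· ≤ ·) c)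
    (hne : c.Nonempty) (s : Finset Ω)
    (hs : (↑s : Set Ω) ⊆ ((sSup c : Subalgebra R Ω) : Set Ω)) :
    ∃ S ∈ c, (↑s : Set Ω) ⊆ S := by
  classical
  induction s using Finset.induction_on with
  | empty =>
    obtain ⟨S, hS⟩ := hne
    exact ⟨S, hS, by simp⟩
  | insert a s _ ih =>
    have ha : a ∈ sSup c := hs (Finset.mem_coe.mpr (Finset.mem_insert_self a s))
    obtain ⟨S₁, hS₁, ha₁⟩ := (mem_sSup_chain hc hne a).mp ha
    obtain ⟨S₂, hS₂, hs₂⟩ := ih (fun x hx =>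
      hs (Finset.mem_coe.mpr (Finset.mem_insert_of_mem (Finset.mem_coe.mp hx))))
    rcases hc.total hS₁ hS₂ with h | h
    · refine ⟨S₂, hS₂, ?_⟩
      intro x hx
      rcases Finset.mem_insert.mp (Finset.mem_coe.mp hx) with rfl | hx'
      · exact h ha₁
      · exact hs₂ hx'
    · refine ⟨S₁, hS₁, ?_⟩
      intro x hx
      rcases Finset.mem_insert.mp (Finset.mem_coe.mp hx) with rfl | hx'
      · exact ha₁
      · exact h (hs₂ hx')

theorem good_sSup {c : Set (Subalgebra R Ω)} (hc : IsChain (· ≤ ·) c) (hne : c.Nonempty)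
    (hgood : ∀ S ∈ c, Good R Ω ϖ p S) : Good R Ω ϖ p (sSup c) := by
  refine ⟨?_, ?_, ?_⟩
  · intro s hs
    obtain ⟨S, hSc, hsS⟩ := exists_mem_chain_of_finset hc hne s hs
    obtain ⟨S₀, h1, h2, h3⟩ := (hgood S hSc).fin s hsS
    exact ⟨S₀, h1.trans (le_sSup hSc), h2, h3⟩
  · intro x hx
    obtain ⟨S, hSc, hxS⟩ := (mem_sSup_chain hc hne x).mp hx
    rcases (hgood S hSc).loc x hxS with ⟨y, hy, h⟩ | ⟨y, hy, h⟩
    · exact Or.inl ⟨y, le_sSup hSc hy, h⟩
    · exact Or.inr ⟨y, le_sSup hSc hy, h⟩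
  · intro x hx
    obtain ⟨S, hSc, hxS⟩ := (mem_sSup_chain hc hne x).mp hx
    obtain ⟨m, z, w, hw, h⟩ := (hgood S hSc).pi x hxS
    exact ⟨m, z, w, le_sSup hSc hw, h⟩

end Good

end Groth.Agent.H6.PerfExt
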