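import Mathlib
import Groth.Agent.Lib.Helper6.PerfExt2

/-! Perfect-closure extension of a henselian DVR, part 3: the extension step. -/

universe u

namespace Groth.Agent.H6.PerfExt

open Polynomial

theorem pow_add_mul {A : Type*} [CommRing A] (a c π : A) (n : ℕ) :
    ∃ c', (a + π * c) ^ n = a ^ n + π * c' := by
  induction n with
  | zero => exact ⟨0, by simp⟩
  | succ n ih =>
    obtain ⟨c', hc'⟩ := ih
    exact ⟨a ^ n * c + c' * a + π * c' * c, by rw [pow_succ, hc', pow_succ]; ring⟩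

section Step
variable {R : Type u} [CommRing R] [IsDomain R] [IsDiscreteValuationRing R]
  (K : Type u) [Field K] [Algebra R K] [IsFractionRing R K]
  {Ω : Type u} [Field Ω] [Algebra R Ω] [Algebra K Ω] [IsScalarTower R K Ω]
  {ϖ : R} {p : ℕ}

theorem Good.hloc {S : Subalgebra R Ω} (hS : Good R Ω ϖ p S) (x : S) :
    (∃ y : S, x = algebraMap R S ϖ * y) ∨ IsUnit x := by
  rcases hS.loc x.1 x.2 with ⟨y, hy, h⟩ | ⟨y, hy, h⟩
  · exact Or.inl ⟨⟨y, hy⟩, Subtype.ext h⟩
  · exact Or.inr (IsUnit.of_mul_eq_one ⟨y, hy⟩ (Subtype.ext h))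

include K in
theorem Good.hπ (hϖ : Irreducible ϖ) {S : Subalgebra R Ω} (hS : Good R Ω ϖ p S) :
    ¬ IsUnit (algebraMap R S ϖ) := by
  intro hu
  obtain ⟨v, hv⟩ := hu.exists_right_inv
  exact hS.not_unit K hϖ v.1 v.2 (congrArg Subtype.val hv)

include K in
theorem Good.hsep (hϖ : Irreducible ϖ) {S : Subalgebra R Ω} (hS : Good R Ω ϖ p S) (x : S)
    (h : ∀ n : ℕ, ∃ z : S, x = algebraMap R S ϖ ^ n * z) : x = 0 := by
  apply Subtype.ext
  apply hS.sep K hϖ x.1 x.2
  intro n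
  obtain ⟨z, hz⟩ := h n
  exact ⟨z.1, z.2, by rw [hz]; rfl⟩


section Ext
variable (hϖ : Irreducible ϖ) (hp : p.Prime) (hpϖ : ∃ c : R, (p : R) = ϖ * c)
  {S : Subalgebra R Ω} (hS : Good R Ω ϖ p S) (y : S)
  (hny : ∀ z w : S, z ^ p - y ≠ algebraMap R S ϖ * w) (t : Ω) (ht : t ^ p = (y : Ω))

include ht in
theorem eval_t : (X ^ p - C y : S[X]).eval₂ (S.val : S →+* Ω) t = 0 := by
  rw [eval₂_sub, eval₂_pow, eval₂_X, eval₂_C, ht]
  exact sub_self _

/-- the map `S[X]/(X^p - y) → Ω` -/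
noncomputable def extMap : AdjoinRoot (X ^ p - C y : S[X]) →ₐ[R] Ω :=
  AdjoinRoot.liftAlgHom (X ^ p - C y : S[X]) S.val t (eval_t y t ht)

theorem extMap_of (x : S) : extMap y t ht (AdjoinRoot.of _ x) = (x : Ω) :=
  AdjoinRoot.liftAlgHom_of _ _ _ _ _

theorem extMap_root : extMap y t ht (AdjoinRoot.root _) = t :=
  AdjoinRoot.liftAlgHom_root _ _ _ _

theorem extMap_mk (q : S[X]) :
    extMap y t ht (AdjoinRoot.mk _ q) = ∑ i ∈ Finset.range (q.natDegree + 1), (q.coeff i : Ω) * t ^ i := by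
  rw [← AdjoinRoot.aeval_eq, Polynomial.aeval_eq_sum_range, map_sum]
  refine Finset.sum_congr rfl fun i _ => ?_
  rw [Algebra.smul_def, map_mul, map_pow, AdjoinRoot.algebraMap_eq, extMap_of, extMap_root]

include K hϖ hp hS hny in
theorem extMap_injective : Function.Injective (extMap y t ht) := by
  have h := inj_lift (algebraMap R S ϖ) hS.hloc (hS.hπ K hϖ) p hp y hny (hS.hsep K hϖ)
    ((extMap y t ht : AdjoinRoot (X ^ p - C y : S[X]) →ₐ[R] Ω) :
      AdjoinRoot (X ^ p - C y : S[X]) →+* Ω) ?_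
  · exact h
  · intro a b hab
    simp only [RingHom.comp_apply] at hab
    have ha : (extMap y t ht : AdjoinRoot (X ^ p - C y : S[X]) →+* Ω) (AdjoinRoot.of _ a) = (a : Ω) :=
      extMap_of y t ht a
    have hb : (extMap y t ht : AdjoinRoot (X ^ p - C y : S[X]) →+* Ω) (AdjoinRoot.of _ b) = (b : Ω) :=
      extMap_of y t ht b
    rw [ha, hb] at hab
    exact Subtype.ext hab


theorem of_mem_range (x : S) : (x : Ω) ∈ (extMap y t ht).range :=
  ⟨AdjoinRoot.of _ x, extMap_of y t ht x⟩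

theorem t_mem_range : t ∈ (extMap y t ht).range := ⟨AdjoinRoot.root _, extMap_root y t ht⟩

include K hϖ hp hS hny in
theorem step_fin (s : Finset Ω) (hs : (↑s : Set Ω) ⊆ ((extMap y t ht).range : Set Ω)) :
    ∃ S₀ : Subalgebra R Ω, S₀ ≤ (extMap y t ht).range ∧ (↑s : Set Ω) ⊆ S₀ ∧ Module.Finite R S₀ ∧
      Module.Free R S₀ ∧ ∃ m : ℕ, Module.finrank R S₀ = p ^ m := by
  classical
  have h1 : ∀ x : Ω, x ∈ s → ∃ q : S[X], extMap y t ht (AdjoinRoot.mk _ q) = x := by
    intro x hx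
    obtain ⟨b, hb⟩ := hs hx
    obtain ⟨q, rfl⟩ := AdjoinRoot.mk_surjective b
    exact ⟨q, hb⟩
  choose! q hq using h1
  set c : Finset Ω := (s.biUnion fun x => (Finset.range ((q x).natDegree + 1)).image
    fun i => (((q x).coeff i : S) : Ω)) ∪ {(y : Ω)} with hc
  have hcS : (↑c : Set Ω) ⊆ S := by
    intro a ha
    rw [hc, Finset.coe_union, Set.mem_union] at ha
    rcases ha with ha | ha
    · simp only [Finset.coe_biUnion, Set.mem_iUnion, Finset.coe_image, Set.mem_image] at ha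
      obtain ⟨x, _, i, _, rfl⟩ := ha
      exact ((q x).coeff i).2
    · simp only [Finset.coe_singleton, Set.mem_singleton_iff] at ha
      rw [ha]; exact y.2
  obtain ⟨S₀, hS₀S, hcS₀, hfin, hfree, m, hm⟩ := hS.fin c hcS
  have hy₀ : (y : Ω) ∈ S₀ := hcS₀ (by simp [hc])
  have hcoef : ∀ x ∈ s, ∀ i, (((q x).coeff i : S) : Ω) ∈ S₀ := by
    intro x hx i
    by_cases hi : i < (q x).natDegree + 1
    · apply hcS₀
      rw [hc, Finset.coe_union]
      left
      simp only [Finset.coe_biUnion, Set.mem_iUnion, Finset.coe_image, Set.mem_image]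
      exact ⟨x, hx, i, Finset.mem_coe.mpr (Finset.mem_range.mpr hi), rfl⟩
    · have : (q x).coeff i = 0 := Polynomial.coeff_eq_zero_of_natDegree_lt (by omega)
      rw [this]
      exact S₀.zero_mem
  set y₀ : S₀ := ⟨y, hy₀⟩ with hy₀def
  have ht₀ : t ^ p = (y₀ : Ω) := ht
  have hmon₀ : (X ^ p - C y₀ : S₀[X]).Monic := monic_X_pow_sub_C y₀ hp.ne_zero
  have hmon : (X ^ p - C y : S[X]).Monic := monic_X_pow_sub_C y hp.ne_zero
  -- injectivity of the small map
  have hinj₀ : Function.Injective (extMap y₀ t ht₀) := by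
    have hinj := extMap_injective K hϖ hp hS y hny t ht
    rw [injective_iff_map_eq_zero]
    intro b₀ hb₀
    obtain ⟨q₀, rfl⟩ := AdjoinRoot.mk_surjective b₀
    set incl : S₀ →+* S := (Subalgebra.inclusion hS₀S).toRingHom with hincl
    have hincl_inj : Function.Injective incl := Subalgebra.inclusion_injective hS₀S
    have e1 : extMap y t ht (AdjoinRoot.mk _ (q₀.map incl)) = extMap y₀ t ht₀ (AdjoinRoot.mk _ q₀) := by
      rw [extMap_mk, extMap_mk, Polynomial.natDegree_map_eq_of_injective hincl_inj]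
      refine Finset.sum_congr rfl fun i _ => ?_
      rw [Polynomial.coeff_map]
      rfl
    rw [hb₀, ← map_zero (extMap y t ht)] at e1
    have e2 := hinj e1
    rw [AdjoinRoot.mk_eq_zero] at e2 ⊢
    have hfmap : (X ^ p - C y₀ : S₀[X]).map incl = (X ^ p - C y : S[X]) := by
      rw [Polynomial.map_sub, Polynomial.map_pow, Polynomial.map_X, Polynomial.map_C]
      rfl
    rw [← Polynomial.modByMonic_eq_zero_iff_dvd hmon, ← hfmap,
      ← Polynomial.map_modByMonic incl hmon₀] at e2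
    rw [← Polynomial.modByMonic_eq_zero_iff_dvd hmon₀]
    exact Polynomial.map_injective incl hincl_inj (by rw [e2, Polynomial.map_zero])
  refine ⟨(extMap y₀ t ht₀).range, ?_, ?_, ?_⟩
  · rintro x ⟨b₀, rfl⟩
    obtain ⟨q₀, rfl⟩ := AdjoinRoot.mk_surjective b₀
    change extMap y₀ t ht₀ _ ∈ _
    rw [extMap_mk]
    refine Subalgebra.sum_mem _ fun i _ => ?_
    refine Subalgebra.mul_mem _ ?_ (Subalgebra.pow_mem _ (t_mem_range y t ht) i)
    exact of_mem_range y t ht ⟨_, hS₀S (q₀.coeff i).2⟩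
  · intro x hx
    have hx' : x ∈ s := Finset.mem_coe.mp hx
    rw [← hq x hx', extMap_mk]
    refine Subalgebra.sum_mem _ fun i _ => ?_
    refine Subalgebra.mul_mem _ ?_ (Subalgebra.pow_mem _ (t_mem_range y₀ t ht₀) i)
    exact of_mem_range y₀ t ht₀ ⟨_, hcoef x hx' i⟩
  · haveI := hfin
    haveI := hfree
    haveI : Module.Finite S₀ (AdjoinRoot (X ^ p - C y₀ : S₀[X])) := hmon₀.finite_adjoinRoot
    haveI : Module.Free S₀ (AdjoinRoot (X ^ p - C y₀ : S₀[X])) := hmon₀.free_adjoinRoot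
    haveI : Module.Finite R (AdjoinRoot (X ^ p - C y₀ : S₀[X])) := Module.Finite.trans S₀ _
    haveI : Module.Free R (AdjoinRoot (X ^ p - C y₀ : S₀[X])) := Module.Free.trans (S := S₀)
    have hrank : Module.finrank R (AdjoinRoot (X ^ p - C y₀ : S₀[X])) = p ^ (m + 1) := by
      rw [← Module.finrank_mul_finrank R S₀, hm, (AdjoinRoot.powerBasis' hmon₀).finrank,
        AdjoinRoot.powerBasis'_dim, natDegree_X_pow_sub_C, pow_succ]
    let e := AlgEquiv.ofInjective (extMap y₀ t ht₀) hinj₀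
    exact ⟨Module.Finite.equiv e.toLinearEquiv, Module.Free.of_equiv e.toLinearEquiv, m + 1,
      by rw [← LinearEquiv.finrank_eq e.toLinearEquiv, hrank]⟩

include K hϖ hp hpϖ hS hny in
theorem good_range : Good R Ω ϖ p (extMap y t ht).range := by
  refine ⟨step_fin K hϖ hp hS y hny t ht, ?_, ?_⟩
  · rintro x ⟨b, rfl⟩
    rcases loc_B (algebraMap R S ϖ) hS.hloc (hS.hπ K hϖ) p hp y hny b with ⟨b', hb'⟩ | hu
    · left
      refine ⟨extMap y t ht b', ⟨b', rfl⟩, ?_⟩
      change extMap y t ht b = _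
      rw [hb', map_mul, extMap_of]
      rfl
    · right
      obtain ⟨c, hc⟩ := hu.exists_right_inv
      refine ⟨extMap y t ht c, ⟨c, rfl⟩, ?_⟩
      change extMap y t ht b * _ = 1
      rw [← map_mul, hc, map_one]
  · rintro x ⟨b, rfl⟩
    have hpS : ∃ c : S, (p : S) = algebraMap R S ϖ * c := by
      obtain ⟨c, hc⟩ := hpϖ
      exact ⟨algebraMap R S c, by rw [← map_mul, ← hc, map_natCast]⟩
    obtain ⟨s, b', hb'⟩ := frob_B (algebraMap R S ϖ) hS.hloc (hS.hπ K hϖ) p hp y hny hpS b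
    obtain ⟨m, z, w, hw, hzw⟩ := hS.pi s.1 s.2
    obtain ⟨c', hc'⟩ := pow_add_mul (AdjoinRoot.of (X ^ p - C y : S[X]) s) b'
      (AdjoinRoot.of (X ^ p - C y : S[X]) (algebraMap R S ϖ)) (p ^ m)
    refine ⟨m + 1, z, extMap y t ht (AdjoinRoot.of _ ⟨w, hw⟩ + c'), ⟨_, rfl⟩, ?_⟩
    change (extMap y t ht b) ^ (p ^ (m + 1)) = _
    rw [← map_pow, pow_succ', pow_mul, hb', hc', map_add, map_mul, map_pow, extMap_of, extMap_of,
      hzw, map_add, extMap_of]
    change _ = _ + algebraMap R Ω ϖ * (w + _)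
    have : ((algebraMap R S ϖ : S) : Ω) = algebraMap R Ω ϖ := rfl
    rw [this]
    ring

end Ext

end Step

end Groth.Agent.H6.PerfExt
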