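import Mathlib
import Groth.Agent.Lib.Helper6.PerfExt3
import Groth.Agent.Lib.Helper8.Hens.IntegralHens

/-! Perfect-closure extension of a henselian DVR, part 4: Zorn and the final statement. -/

universe u

namespace Groth.Agent.H6.PerfExt

open Polynomial IsLocalRing

section Abstract
variable {S : Type*} [CommRing S] [IsDomain S] (π : S)
  (hloc : ∀ x : S, (∃ y, x = π * y) ∨ IsUnit x) (hπ : ¬ IsUnit π)
  (hsep : ∀ x : S, (∀ n : ℕ, ∃ z, x = π ^ n * z) → x = 0)

include hloc hsep in
theorem decomp_of_loc (x : S) (hx : x ≠ 0) : ∃ (n : ℕ) (u : S), IsUnit u ∧ x = π ^ n * u := by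
  by_contra hcon
  push Not at hcon
  apply hx
  apply hsep
  intro n
  induction n with
  | zero => exact ⟨x, by simp⟩
  | succ n ih =>
    obtain ⟨b', hb'⟩ := ih
    rcases hloc b' with ⟨b'', hb''⟩ | hu
    · exact ⟨b'', by rw [hb', hb'', pow_succ]; ring⟩
    · exact absurd hb' (hcon n b' hu)

include hloc hπ in
theorem irreducible_of_loc (hπ0 : π ≠ 0) : Irreducible π := by
  rw [irreducible_iff]
  refine ⟨hπ, fun a b hab => ?_⟩
  by_contra hcon
  push Not at hcon
  obtain ⟨a', ha'⟩ := (hloc a).resolve_right hcon.1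
  obtain ⟨b', hb'⟩ := (hloc b).resolve_right hcon.2
  apply hπ
  have h1 : π * 1 = π * (π * (a' * b')) := by
    rw [mul_one]
    conv_lhs => rw [hab, ha', hb']
    ring
  have h2 := mul_left_cancel₀ hπ0 h1
  exact IsUnit.of_mul_eq_one (a' * b') h2.symm

include hloc hπ hsep in
theorem dvr_of_loc (hπ0 : π ≠ 0) : IsDiscreteValuationRing S := by
  apply IsDiscreteValuationRing.ofHasUnitMulPowIrreducibleFactorization
  refine ⟨π, irreducible_of_loc π hloc hπ hπ0, ?_⟩
  intro x hx
  obtain ⟨n, u, hu, rfl⟩ := decomp_of_loc π hloc hsep x hx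
  exact ⟨n, hu.unit, rfl⟩

end Abstract


section Zorn
variable {R : Type u} [CommRing R] [IsDomain R] [IsDiscreteValuationRing R]
  (K : Type u) [Field K] [Algebra R K] [IsFractionRing R K]
  {Ω : Type u} [Field Ω] [Algebra R Ω] [Algebra K Ω] [IsScalarTower R K Ω]
  {ϖ : R} {p : ℕ}

include K in
theorem exists_maximal_good (hϖ : Irreducible ϖ) :
    ∃ S : Subalgebra R Ω, Good R Ω ϖ p S ∧
      ∀ S' : Subalgebra R Ω, Good R Ω ϖ p S' → S ≤ S' → S' ≤ S := by
  obtain ⟨S, -, hS⟩ := zorn_le_nonempty₀ {S : Subalgebra R Ω | Good R Ω ϖ p S}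
    (fun c hcs hc y hy => ⟨sSup c, good_sSup hc ⟨y, hy⟩ (fun S hS => hcs hS),
      fun z hz => le_sSup hz⟩) ⊥ (good_bot K hϖ)
  exact ⟨S, hS.1, fun S' hS' hle => hS.2 hS' hle⟩

include K in
theorem perfect_of_maximal [IsAlgClosed Ω] (hϖ : Irreducible ϖ) (hp : p.Prime)
    (hpϖ : ∃ c : R, (p : R) = ϖ * c) {S : Subalgebra R Ω} (hS : Good R Ω ϖ p S)
    (hmax : ∀ S' : Subalgebra R Ω, Good R Ω ϖ p S' → S ≤ S' → S' ≤ S) (y : S) :
    ∃ z w : S, z ^ p - y = algebraMap R S ϖ * w := by
  by_contra hcon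
  push Not at hcon
  obtain ⟨t, ht⟩ := IsAlgClosed.exists_pow_nat_eq (y : Ω) hp.pos
  have hgood := good_range K hϖ hp hpϖ hS y hcon t ht
  have hle : S ≤ (extMap y t ht).range := fun x hx => of_mem_range y t ht ⟨x, hx⟩
  have htS : t ∈ S := hmax _ hgood hle (t_mem_range y t ht)
  apply hcon ⟨t, htS⟩ 0
  rw [mul_zero, sub_eq_zero]
  exact Subtype.ext ht

end Zorn

section Main

theorem main_prime (R : Type u) [CommRing R] [IsDomain R] [IsDiscreteValuationRing R]
    [HenselianLocalRing R] (p : ℕ) (hp : p.Prime) (hchar : CharP (ResidueField R) p) :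
    ∃ (R' : Type u) (_ : CommRing R') (_ : IsDomain R') (_ : IsDiscreteValuationRing R')
      (_ : HenselianLocalRing R') (_ : Algebra R R'),
      Function.Injective (algebraMap R R') ∧
      Ideal.map (algebraMap R R') (maximalIdeal R) = maximalIdeal R' ∧
      (∀ s : Finset R', ∃ S : Subalgebra R R', (↑s : Set R') ⊆ ↑S ∧ Module.Finite R S ∧
        Module.Free R S ∧ ∃ m : ℕ, Module.finrank R S = p ^ m) ∧
      (∀ y : R', ∃ z : R', z ^ p - y ∈ maximalIdeal R') ∧
      (∀ y : R', ∃ (m : ℕ) (z : R), algebraMap R R' z - y ^ (p ^ m) ∈ maximalIdeal R') := by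
  obtain ⟨ϖ, hϖ⟩ := IsDiscreteValuationRing.exists_irreducible R
  have hpϖ : ∃ c : R, (p : R) = ϖ * c := by
    have h1 : (p : R) ∈ maximalIdeal R := by
      have h2 : residue R (p : R) = 0 := by
        rw [map_natCast]
        exact CharP.cast_eq_zero _ p
      exact (residue_eq_zero_iff _).mp h2
    rw [hϖ.maximalIdeal_eq, Ideal.mem_span_singleton] at h1
    exact h1
  obtain ⟨S, hS, hmax⟩ := exists_maximal_good (Ω := AlgebraicClosure (FractionRing R)) (p := p)
    (FractionRing R) hϖ
  have hloc := hS.hloc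
  have hπ := hS.hπ (FractionRing R) hϖ
  have hsep := hS.hsep (FractionRing R) hϖ
  have hinjΩ := injective_algebraMap (R := R) (FractionRing R)
    (Ω := AlgebraicClosure (FractionRing R))
  have hinj : Function.Injective (algebraMap R S) := by
    intro a b hab
    exact hinjΩ (congrArg Subtype.val hab)
  have hπ0 : algebraMap R S ϖ ≠ 0 := by
    rw [Ne, map_eq_zero_iff _ hinj]
    exact hϖ.ne_zero
  haveI hdvr : IsDiscreteValuationRing S := dvr_of_loc _ hloc hπ hsep hπ0
  have hirr : Irreducible (algebraMap R S ϖ) := irreducible_of_loc _ hloc hπ hπ0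
  haveI : Algebra.IsIntegral R S := ⟨fun x =>
    (isIntegral_algHom_iff S.val Subtype.val_injective).mp (hS.isIntegral x.1 x.2)⟩
  haveI : HenselianLocalRing S := Groth.Agent.H8.Hens.henselianLocalRing_of_isIntegral R S
  have hmaxS : maximalIdeal S = Ideal.span {algebraMap R S ϖ} := hirr.maximalIdeal_eq
  refine ⟨S, inferInstance, inferInstance, hdvr, inferInstance, inferInstance, hinj, ?_, ?_, ?_, ?_⟩
  · rw [hϖ.maximalIdeal_eq, Ideal.map_span, Set.image_singleton, hmaxS]
  · intro s
    classical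
    obtain ⟨S₀, hS₀S, hsS₀, hfin, hfree, m, hm⟩ := hS.fin (s.image Subtype.val) (by
      intro x hx
      simp only [Finset.coe_image, Set.mem_image] at hx
      obtain ⟨a, _, rfl⟩ := hx
      exact a.2)
    let e := AlgEquiv.ofInjective (Subalgebra.inclusion hS₀S) (Subalgebra.inclusion_injective hS₀S)
    refine ⟨(Subalgebra.inclusion hS₀S).range, ?_, ?_, ?_, m, ?_⟩
    · intro x hx
      have hx0 : (x : AlgebraicClosure (FractionRing R)) ∈ S₀ := by
        apply hsS₀
        simp only [Finset.coe_image, Set.mem_image]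
        exact ⟨x, hx, rfl⟩
      exact ⟨⟨x.1, hx0⟩, Subtype.ext rfl⟩
    · haveI := hfin
      exact Module.Finite.equiv e.toLinearEquiv
    · haveI := hfree
      exact Module.Free.of_equiv e.toLinearEquiv
    · rw [← LinearEquiv.finrank_eq e.toLinearEquiv, hm]
  · intro y
    obtain ⟨z, w, hzw⟩ := perfect_of_maximal (FractionRing R) hϖ hp hpϖ hS hmax y
    refine ⟨z, ?_⟩
    rw [hmaxS, hzw, Ideal.mem_span_singleton]
    exact dvd_mul_right _ _
  · intro y
    obtain ⟨m, z, w, hw, hzw⟩ := hS.pi y.1 y.2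
    refine ⟨m, z, ?_⟩
    rw [hmaxS, Ideal.mem_span_singleton]
    refine ⟨-⟨w, hw⟩, ?_⟩
    apply Subtype.ext
    have : ((y ^ (p ^ m) : S) : AlgebraicClosure (FractionRing R)) = (y : _) ^ (p ^ m) := rfl
    simp only [Subalgebra.coe_sub, Subalgebra.coe_mul, Subalgebra.coe_neg, this, hzw]
    change _ = algebraMap R (AlgebraicClosure (FractionRing R)) ϖ * _
    change algebraMap R (AlgebraicClosure (FractionRing R)) z - _ = _
    ring


theorem s16360 (R : Type u) [CommRing R] [IsDomain R]
    [IsDiscreteValuationRing R] [HenselianLocalRing R] :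
    ∃ (R' : Type u) (_ : CommRing R') (_ : IsDomain R') (_ : IsDiscreteValuationRing R')
      (_ : HenselianLocalRing R') (_ : Algebra R R'),
      Function.Injective (algebraMap R R') ∧
      Ideal.map (algebraMap R R') (IsLocalRing.maximalIdeal R) = IsLocalRing.maximalIdeal R' ∧
      (∀ s : Finset R', ∃ S : Subalgebra R R', (↑s : Set R') ⊆ ↑S ∧ Module.Finite R S ∧ Module.Free R S ∧
        ∃ m : ℕ, Module.finrank R S = ringExpChar (IsLocalRing.ResidueField R) ^ m) ∧
      (∀ y : R', ∃ z : R', z ^ ringExpChar (IsLocalRing.ResidueField R) - y ∈ IsLocalRing.maximalIdeal R') ∧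
      (∀ y : R', ∃ (m : ℕ) (z : R),
        algebraMap R R' z - y ^ (ringExpChar (IsLocalRing.ResidueField R) ^ m) ∈ IsLocalRing.maximalIdeal R') := by
  have hexp : ExpChar (ResidueField R) (ringExpChar (ResidueField R)) := inferInstance
  generalize ringExpChar (ResidueField R) = q at hexp ⊢
  cases hexp with
  | zero =>
    refine ⟨R, inferInstance, inferInstance, inferInstance, inferInstance, Algebra.id R,
      Function.injective_id, ?_, ?_, ?_, ?_⟩
    · simp
    · intro s
      refine ⟨⊤, by simp, ?_, ?_, 0, ?_⟩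
      · exact Module.Finite.equiv (Subalgebra.topEquiv (R := R) (A := R)).symm.toLinearEquiv
      · exact Module.Free.of_equiv (Subalgebra.topEquiv (R := R) (A := R)).symm.toLinearEquiv
      · rw [LinearEquiv.finrank_eq (Subalgebra.topEquiv (R := R) (A := R)).toLinearEquiv,
          Module.finrank_self, pow_zero]
    · intro y
      exact ⟨y, by simp⟩
    · intro y
      exact ⟨0, y, by simp⟩
  | prime hq => exact main_prime R q hq inferInstance

end Main

end Groth.Agent.H6.PerfExt
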