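import Mathlib
import Groth.Prelude
import Groth.Agent.Lib.Helper6.MilCube7

universe u
open CategoryTheory CategoryTheory.Limits AlgebraicGeometry TopologicalSpace

set_option linter.unusedSectionVars false
set_option linter.unusedSimpArgs false
set_option linter.style.haveILetI false
namespace Groth.Agent.H6.PinLqf

open Groth.Agent.H9.PIN Groth.Agent.H9.AVD

section Clean

variable {M Q N V : Scheme.{u}}

/-- the global sections of `M` coming from global sections of `N` whose basic open lies in `O`. -/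
def imSub (φ : Γ(N, ⊤) →+* Γ(M, ⊤)) (O : N.Opens) : AddSubmonoid Γ(M, ⊤) where
  carrier := {s | ∃ c : Γ(N, ⊤), N.basicOpen c ≤ O ∧ φ c = s}
  zero_mem' := ⟨0, by simp, map_zero _⟩
  add_mem' := by
    rintro _ _ ⟨c₁, h₁, rfl⟩ ⟨c₂, h₂, rfl⟩
    exact ⟨c₁ + c₂, (N.basicOpen_add_le c₁ c₂).trans (sup_le h₁ h₂), map_add _ _ _⟩

theorem exists_extend_im [IsAffine M] [IsAffine N] (iM : M ⟶ Q) [IsClosedImmersion iM]
    (t : Q ⟶ N) [IsOpenImmersion t] (c : Γ(N, ⊤)) (hc : N.basicOpen c ≤ t.opensRange)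
    (d : Γ(M, ⊤)) :
    ∃ (n : ℕ) (c' : Γ(N, ⊤)), N.basicOpen c' ≤ t.opensRange ∧
      (iM ≫ t).appTop c' = ((iM ≫ t).appTop c) ^ n * d := by
  set φ := (iM ≫ t).appTop with hφ
  have hD : IsAffineOpen (N.basicOpen c) := (isAffineOpen_top N).basicOpen c
  have hD' : IsAffineOpen (t ⁻¹ᵁ N.basicOpen c) := hD.preimage_of_isOpenImmersion t hc
  have surj1 : Function.Surjective (iM.app (t ⁻¹ᵁ N.basicOpen c)) := iM.app_surjective _ hD'
  have bij : Function.Bijective (t.app (N.basicOpen c)) := by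
    rw [Scheme.Hom.app_eq_appLE]
    refine appLE_bijective_of_image_eq t _ _ ?_ le_rfl
    rw [t.image_preimage_eq_opensRange_inf, inf_eq_right.mpr hc]
  have surj : Function.Surjective ((iM ≫ t).app (N.basicOpen c)) := by
    rw [Scheme.Hom.comp_app]
    exact surj1.comp bij.2
  have hE : (iM ≫ t) ⁻¹ᵁ N.basicOpen c = M.basicOpen (φ c) := Scheme.preimage_basicOpen _ _
  obtain ⟨e, he⟩ := surj (M.presheaf.map (homOfLE le_top).op d)
  haveI locN := (isAffineOpen_top N).isLocalization_basicOpen c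
  obtain ⟨⟨c'', ⟨_, n, rfl⟩⟩, hsurj⟩ := IsLocalization.surj (Submonoid.powers c) e
  have hsurj' : e * (N.presheaf.map (homOfLE le_top).op c) ^ n =
      N.presheaf.map (homOfLE le_top).op c'' := by
    simpa [RingHom.algebraMap_toAlgebra] using hsurj
  have key0 := congrArg ((iM ≫ t).app (N.basicOpen c)) hsurj'
  rw [map_mul, map_pow, he, app_res, app_res] at key0
  have locM := (isAffineOpen_top M).isLocalization_of_eq_basicOpen (φ c)
    (homOfLE le_top : (iM ≫ t) ⁻¹ᵁ N.basicOpen c ⟶ ⊤) hE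
  letI := (M.presheaf.map (homOfLE (le_top : (iM ≫ t) ⁻¹ᵁ N.basicOpen c ≤ ⊤)).op).hom.toAlgebra
  have key : algebraMap Γ(M, ⊤) Γ(M, (iM ≫ t) ⁻¹ᵁ N.basicOpen c) (d * (φ c) ^ n) =
      algebraMap Γ(M, ⊤) Γ(M, (iM ≫ t) ⁻¹ᵁ N.basicOpen c) (φ c'') := by
    simp only [RingHom.algebraMap_toAlgebra]
    rw [map_mul, map_pow]
    exact key0
  obtain ⟨⟨_, m, rfl⟩, hm⟩ := (IsLocalization.eq_iff_exists
    (Submonoid.powers (φ c)) Γ(M, (iM ≫ t) ⁻¹ᵁ N.basicOpen c)).mp key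
  refine ⟨m + 1 + n, c ^ (m + 1) * c'', ?_, ?_⟩
  · rw [Scheme.basicOpen_mul, N.basicOpen_pow c (Nat.succ_pos m)]
    exact inf_le_left.trans hc
  · rw [map_mul, map_pow]
    simp only at hm
    calc (φ c) ^ (m + 1) * φ c'' = φ c * ((φ c) ^ m * φ c'') := by ring
      _ = φ c * ((φ c) ^ m * (d * (φ c) ^ n)) := by rw [hm]
      _ = _ := by ring


theorem span_imSub [IsAffine M] [IsAffine N] (iM : M ⟶ Q) (t : Q ⟶ N) [IsOpenImmersion t] :
    Ideal.span (imSub (iM ≫ t).appTop.hom t.opensRange : Set Γ(M, ⊤)) = ⊤ := by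
  rw [← (isAffineOpen_top M).self_le_iSup_basicOpen_iff]
  intro z _
  have hz : (iM ≫ t) z ∈ t.opensRange := ⟨iM z, by simp⟩
  obtain ⟨c, hc₁, hc₂⟩ := (isAffineOpen_top N).exists_basicOpen_le (V := t.opensRange)
    ⟨(iM ≫ t) z, hz⟩ trivial
  have hmem : (iM ≫ t).appTop c ∈ (imSub (iM ≫ t).appTop.hom t.opensRange : Set Γ(M, ⊤)) :=
    ⟨c, hc₁, rfl⟩
  refine Opens.mem_iSup.mpr ⟨⟨_, hmem⟩, ?_⟩
  have hE : (iM ≫ t) ⁻¹ᵁ N.basicOpen c = M.basicOpen ((iM ≫ t).appTop c) :=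
    Scheme.preimage_basicOpen _ _
  rw [← hE]
  exact hc₂

/-- prime avoidance: a basic open of `N` inside the open subscheme `Q` containing the image of a
whole fibre of the integral morphism `jM`. -/
theorem exists_basicOpen_avoid [IsAffine M] [IsAffine N] [IsAffine V] (iM : M ⟶ Q)
    [IsClosedImmersion iM] (t : Q ⟶ N) [IsOpenImmersion t] (jM : M ⟶ V) [IsIntegralHom jM]
    (y : V) :
    ∃ c : Γ(N, ⊤), N.basicOpen c ≤ t.opensRange ∧
      jM ⁻¹' {y} ⊆ ((iM ≫ t) ⁻¹ᵁ N.basicOpen c : Set M) := by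
  have hint : (jM.appLE ⊤ ⊤ le_top).hom.IsIntegral := by
    have := jM.isIntegral_app ⊤ (isAffineOpen_top V)
    rwa [Scheme.Hom.app_eq_appLE] at this
  letI := (jM.appLE ⊤ ⊤ le_top).hom.toAlgebra
  haveI : Algebra.IsIntegral Γ(V, ⊤) Γ(M, ⊤) := ⟨hint⟩
  haveI := ((isAffineOpen_top V).primeIdealOf ⟨y, trivial⟩).isPrime
  obtain ⟨s, hsS, hs⟩ := exists_avoid ((isAffineOpen_top V).primeIdealOf ⟨y, trivial⟩).asIdeal
    (imSub (iM ≫ t).appTop.hom t.opensRange)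
    (by
      rintro s ⟨c, hc, rfl⟩ d
      obtain ⟨n, c', hc', e⟩ := exists_extend_im iM t c hc d
      exact ⟨n, c', hc', e⟩)
    (span_imSub iM t)
  obtain ⟨c, hc, rfl⟩ := hsS
  refine ⟨c, hc, ?_⟩
  have hE : (iM ≫ t) ⁻¹ᵁ N.basicOpen c = M.basicOpen ((iM ≫ t).appTop c) :=
    Scheme.preimage_basicOpen _ _
  rw [hE]
  exact fibre_subset_basicOpen jM (isAffineOpen_top V) (isAffineOpen_top M) rfl y trivial _ hs

end Clean


section Main

variable {X' X Z' Y' : Scheme.{u}}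

/-- a compact open between a compact set and an open of a scheme. -/
theorem exists_compact_open_between (K : Set X') (hK : IsCompact K) (O : X'.Opens)
    (hKO : K ⊆ (O : Set X')) :
    ∃ Q : X'.Opens, IsCompact (Q : Set X') ∧ Q ≤ O ∧ K ⊆ (Q : Set X') := by
  have hex : ∀ x : X', ∃ W : X'.Opens, IsCompact (W : Set X') ∧ W ≤ O ∧ (x ∈ K → x ∈ W) := by
    intro x
    by_cases hx : x ∈ K
    · obtain ⟨W, hW, hxW, hWO⟩ := exists_isAffineOpen_mem_and_subset (x := x) (U := O) (hKO hx)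
      exact ⟨W, hW.isCompact, hWO, fun _ => hxW⟩
    · exact ⟨⊥, by simp, bot_le, fun h => (hx h).elim⟩
  choose W hW1 hW2 hW3 using hex
  obtain ⟨T, hT1, hT2⟩ := hK.elim_nhds_subcover (fun x => (W x : Set X'))
    (fun x hx => (W x).isOpen.mem_nhds (hW3 x hx))
  refine ⟨⨆ x ∈ T, W x, ?_, ?_, ?_⟩
  · have : ((⨆ x ∈ T, W x : X'.Opens) : Set X') = ⋃ x ∈ T, (W x : Set X') := by
      simp
    rw [this]
    exact T.isCompact_biUnion fun x _ => hW1 x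
  · exact iSup₂_le fun x _ => hW2 x
  · intro x hx
    have := hT2 hx
    simpa using this

/-- **affine neighbourhoods of fibres**: for a separated locally quasi-finite morphism `f` to a
scheme with affine open `U`, a closed immersion `i'` into the source and an integral morphism `j'`,
every fibre of `j'` mapping into `f ⁻¹ U` lies in (the preimage of) an affine open of `f ⁻¹ U`. -/
theorem exists_affine_of_lqf (f : X' ⟶ X) [IsSeparated f] [LocallyQuasiFinite f]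
    [LocallyOfFiniteType f] (i' : Z' ⟶ X') [IsClosedImmersion i'] (j' : Z' ⟶ Y')
    [IsIntegralHom j'] (U : X.Opens) (hU : IsAffineOpen U) (y' : Y')
    (hfib : j' ⁻¹' {y'} ⊆ (i' ⁻¹ᵁ f ⁻¹ᵁ U : Set Z')) :
    ∃ U' : X'.Opens, IsAffineOpen U' ∧ U' ≤ f ⁻¹ᵁ U ∧ j' ⁻¹' {y'} ⊆ (i' ⁻¹ᵁ U' : Set Z') := by
  obtain ⟨V', hyV', hV'⟩ := exists_open_of_fibre_subset j' y' (i' ⁻¹ᵁ f ⁻¹ᵁ U) hfib
  obtain ⟨V₀, hV₀, hyV₀, hV₀V'⟩ := exists_isAffineOpen_mem_and_subset (x := y') (U := V') hyV'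
  have hM : IsAffineOpen (j' ⁻¹ᵁ V₀) := hV₀.preimage j'
  have hMle : j' ⁻¹ᵁ V₀ ≤ i' ⁻¹ᵁ f ⁻¹ᵁ U :=
    (j'.preimage_mono (show V₀ ≤ V' from hV₀V')).trans hV'
  -- the open of `X'` meeting `Z'` in `M`
  have hcl : IsClosed (i' '' ((j' ⁻¹ᵁ V₀ : Z'.Opens) : Set Z')ᶜ) :=
    i'.isClosedEmbedding.isClosedMap _ (j' ⁻¹ᵁ V₀).isOpen.isClosed_compl
  let X'' : X'.Opens := f ⁻¹ᵁ U ⊓ ⟨_, hcl.isOpen_compl⟩
  have h1 : i' ⁻¹ᵁ X'' ≤ j' ⁻¹ᵁ V₀ := by
    intro z hz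
    by_contra hzM
    exact hz.2 ⟨z, hzM, rfl⟩
  have h2 : i' '' ((j' ⁻¹ᵁ V₀ : Z'.Opens) : Set Z') ⊆ (X'' : Set X') := by
    rintro _ ⟨z, hz, rfl⟩
    refine ⟨hMle hz, ?_⟩
    rintro ⟨z₂, hz₂, e⟩
    exact hz₂ (i'.isClosedEmbedding.injective e ▸ hz)
  obtain ⟨Q, hQc, hQle, hMQ'⟩ := exists_compact_open_between _
    (hM.isCompact.image i'.continuous) X'' h2
  have hMQ : j' ⁻¹ᵁ V₀ ≤ i' ⁻¹ᵁ Q := fun z hz => hMQ' ⟨z, hz, rfl⟩
  have hMeq : j' ⁻¹ᵁ V₀ = i' ⁻¹ᵁ Q := le_antisymm hMQ ((i'.preimage_mono hQle).trans h1)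
  have hQU : Q ≤ f ⁻¹ᵁ U := hQle.trans inf_le_left
  -- the quasi-finite morphism `Q ⟶ U`
  haveI : IsAffine U.toScheme := hU
  haveI : IsAffine V₀.toScheme := hV₀
  haveI : IsAffine (j' ⁻¹ᵁ V₀).toScheme := hM
  haveI : CompactSpace Q.toScheme := isCompact_iff_compactSpace.mp hQc
  haveI : QuasiCompact (f.resLE U Q hQU) :=
    (HasAffineProperty.iff_of_isAffine (P := @QuasiCompact)).mpr inferInstance
  haveI : IsAffine (f.resLE U Q hQU).normalization :=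
    isAffine_of_isAffineHom (f.resLE U Q hQU).fromNormalization
  haveI : IsClosedImmersion (i'.resLE Q (j' ⁻¹ᵁ V₀) hMQ) := by
    refine (Scheme.Hom.resLE_congr i' hMQ rfl hMeq @IsClosedImmersion).mpr ?_
    rw [Scheme.Hom.resLE_eq_morphismRestrict]
    infer_instance
  haveI : IsIntegralHom (j'.resLE V₀ (j' ⁻¹ᵁ V₀) le_rfl) := by
    rw [Scheme.Hom.resLE_eq_morphismRestrict]
    infer_instance
  obtain ⟨c, hc, hfibc⟩ := exists_basicOpen_avoid (i'.resLE Q (j' ⁻¹ᵁ V₀) hMQ)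
    (f.resLE U Q hQU).toNormalization (j'.resLE V₀ (j' ⁻¹ᵁ V₀) le_rfl) ⟨y', hyV₀⟩
  have hD : IsAffineOpen ((f.resLE U Q hQU).normalization.basicOpen c) :=
    (isAffineOpen_top _).basicOpen c
  refine ⟨Q.ι ''ᵁ ((f.resLE U Q hQU).toNormalization ⁻¹ᵁ
    (f.resLE U Q hQU).normalization.basicOpen c), ?_, ?_, ?_⟩
  · exact (hD.preimage_of_isOpenImmersion _ hc).image_of_isOpenImmersion Q.ι
  · exact (Q.ι_image_le _).trans hQU
  · intro z hz
    have hzy : j' z = y' := hz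
    have hzM : z ∈ j' ⁻¹ᵁ V₀ := by
      change j' z ∈ V₀
      rw [hzy]
      exact hyV₀
    have hzfib : (⟨z, hzM⟩ : (j' ⁻¹ᵁ V₀).toScheme) ∈
        (j'.resLE V₀ (j' ⁻¹ᵁ V₀) le_rfl) ⁻¹' {⟨y', hyV₀⟩} := by
      change (j'.resLE V₀ (j' ⁻¹ᵁ V₀) le_rfl) ⟨z, hzM⟩ = ⟨y', hyV₀⟩
      apply Subtype.ext
      rw [Scheme.Hom.coe_resLE_apply]
      exact hzy
    have h3 := hfibc hzfib
    refine ⟨(i'.resLE Q (j' ⁻¹ᵁ V₀) hMQ) ⟨z, hzM⟩, ?_, ?_⟩
    · exact h3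
    · exact Scheme.Hom.coe_resLE_apply i' hMQ ⟨z, hzM⟩

end Main

end Groth.Agent.H6.PinLqf
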