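import Mathlib
import Groth.Prelude
import Groth.Agent.Lib.Helper6.PinLqf1

universe u
open CategoryTheory CategoryTheory.Limits AlgebraicGeometry TopologicalSpace

set_option linter.unusedSectionVars false
set_option linter.unusedSimpArgs false
set_option linter.style.haveILetI false
namespace Groth.Agent.H6.PinLqf

open Groth.Agent.H9.PIN Groth.Agent.H9.AVD Groth.Agent.H6.MilCube

section Pair

variable {X Y Z : Scheme.{u}}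

/-- `exists_affine_pair` with bounds on the two opens. -/
theorem exists_affine_pair_le (i : Z ⟶ X) [IsClosedImmersion i] (j : Z ⟶ Y)
    [IsIntegralHom j] (y : Y) (U₀ : X.Opens) (hU₀ : IsAffineOpen U₀)
    (hfib : j ⁻¹' {y} ⊆ (i ⁻¹ᵁ U₀ : Set Z)) (Y₀ : Y.Opens) (hyY₀ : y ∈ Y₀) :
    ∃ (U : X.Opens) (V : Y.Opens), IsAffineOpen U ∧ IsAffineOpen V ∧ y ∈ V ∧
      i ⁻¹ᵁ U = j ⁻¹ᵁ V ∧ U ≤ U₀ ∧ V ≤ Y₀ := by
  have hN₀ : IsAffineOpen (i ⁻¹ᵁ U₀) := hU₀.preimage i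
  obtain ⟨V', hyV', hV'⟩ := exists_open_of_fibre_subset j y (i ⁻¹ᵁ U₀) hfib
  obtain ⟨V₀, hV₀, hyV₀, hV₀V'⟩ := exists_isAffineOpen_mem_and_subset (x := y) (U := V' ⊓ Y₀)
    ⟨hyV', hyY₀⟩
  have hV₀V'1 : V₀ ≤ V' := fun v hv => (hV₀V' hv).1
  have hV₀Y₀ : V₀ ≤ Y₀ := fun v hv => (hV₀V' hv).2
  have hM₀ : IsAffineOpen (j ⁻¹ᵁ V₀) := hV₀.preimage j
  have hMN : j ⁻¹ᵁ V₀ ≤ i ⁻¹ᵁ U₀ := (j.preimage_mono hV₀V'1).trans hV'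
  -- the algebra
  have hint : (j.appLE V₀ (j ⁻¹ᵁ V₀) le_rfl).hom.IsIntegral := by
    rw [← Scheme.Hom.app_eq_appLE]
    exact j.isIntegral_app V₀ hV₀
  letI := (j.appLE V₀ (j ⁻¹ᵁ V₀) le_rfl).hom.toAlgebra
  haveI : Algebra.IsIntegral Γ(Y, V₀) Γ(Z, j ⁻¹ᵁ V₀) := ⟨hint⟩
  haveI := (hV₀.primeIdealOf ⟨y, hyV₀⟩).isPrime
  obtain ⟨s, hsS, hs⟩ := exists_avoid (hV₀.primeIdealOf ⟨y, hyV₀⟩).asIdeal (resSub Z hMN)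
    (by
      rintro s ⟨c, hc, rfl⟩ d
      obtain ⟨n, c', hc', e⟩ := exists_extend hN₀ hM₀ hMN c hc d
      exact ⟨n + 1, c', hc', e⟩)
    (span_resSub hN₀ hM₀ hMN)
  obtain ⟨c, hc, rfl⟩ := hsS
  have hfib' : j ⁻¹' {y} ⊆ (Z.basicOpen c : Set Z) := by
    refine (fibre_subset_basicOpen j hV₀ hM₀ rfl y hyV₀ _ hs).trans ?_
    rw [Scheme.basicOpen_res]
    exact fun z hz => hz.2
  -- second shrinking
  obtain ⟨V'', hyV'', hV''⟩ := exists_open_of_fibre_subset j y (Z.basicOpen c) hfib'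
  obtain ⟨b, hb₁, hb₂⟩ := hV₀.exists_basicOpen_le (V := V'') ⟨y, hyV''⟩ hyV₀
  have hpre : j ⁻¹ᵁ Y.basicOpen b = Z.basicOpen (j.app V₀ b) := Scheme.preimage_basicOpen j b
  have hle : Z.basicOpen (j.app V₀ b) ≤ Z.basicOpen c := by
    rw [← hpre]
    exact (j.preimage_mono hb₁).trans hV''
  obtain ⟨n, c', hc', e⟩ := exists_extend hN₀ hM₀ hMN c hc (j.app V₀ b)
  obtain ⟨f, hf⟩ := i.app_surjective U₀ hU₀ (c * c')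
  refine ⟨X.basicOpen f, Y.basicOpen b, hU₀.basicOpen f, hV₀.basicOpen b, hb₂, ?_,
    X.basicOpen_le f, (Y.basicOpen_le b).trans hV₀Y₀⟩
  rw [hpre, Scheme.preimage_basicOpen, hf, Scheme.basicOpen_mul]
  have e1 : Z.basicOpen c' = Z.basicOpen (Z.presheaf.map (homOfLE hMN).op c') := by
    rw [Scheme.basicOpen_res]
    exact (inf_eq_right.mpr hc').symm
  have e2 : Z.basicOpen (Z.presheaf.map (homOfLE hMN).op c) = Z.basicOpen c := by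
    rw [Scheme.basicOpen_res]
    exact inf_eq_right.mpr hc
  rw [e1, e, Scheme.basicOpen_mul, Z.basicOpen_pow _ (Nat.succ_pos n), e2, ← inf_assoc, inf_idem]
  exact inf_eq_right.mpr hle

/-- compatible affine pairs inside a compatible pair of opens, through a given point of `Y`, for an
integral `j`, given an affine open of `X₀` containing the fibre. -/
theorem exists_cpair_le_int (i : Z ⟶ X) (j : Z ⟶ Y) [IsClosedImmersion i] [IsIntegralHom j]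
    (X₀ : X.Opens) (Y₀ : Y.Opens) (y : Y) (hy : y ∈ Y₀)
    (haff : ∃ U₀ : X.Opens, IsAffineOpen U₀ ∧ U₀ ≤ X₀ ∧ j ⁻¹' {y} ⊆ (i ⁻¹ᵁ U₀ : Set Z)) :
    ∃ k : CPair i j, k.U ≤ X₀ ∧ k.V ≤ Y₀ ∧ y ∈ k.V := by
  obtain ⟨U₀, hU₀, hU₀le, hfib⟩ := haff
  obtain ⟨U, V, hU, hV, hyV, e, hUle, hVle⟩ := exists_affine_pair_le i j y U₀ hU₀ hfib Y₀ hy
  exact ⟨⟨U, V, hU, hV, e⟩, hUle.trans hU₀le, hVle, hyV⟩

/-- compatible affine pairs inside a compatible pair of opens, through a given point of `X`. -/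
theorem exists_cpair_le_int' (i : Z ⟶ X) (j : Z ⟶ Y) [IsClosedImmersion i] [IsIntegralHom j]
    (X₀ : X.Opens) (Y₀ : Y.Opens) (h₀ : i ⁻¹ᵁ X₀ = j ⁻¹ᵁ Y₀) (x : X) (hx : x ∈ X₀)
    (haff : ∀ y ∈ Y₀, ∃ U₀ : X.Opens, IsAffineOpen U₀ ∧ U₀ ≤ X₀ ∧
      j ⁻¹' {y} ⊆ (i ⁻¹ᵁ U₀ : Set Z)) :
    ∃ k : CPair i j, k.U ≤ X₀ ∧ k.V ≤ Y₀ ∧ x ∈ k.U := by
  by_cases hxr : x ∈ Set.range i
  · obtain ⟨z, rfl⟩ := hxr
    have hz : j z ∈ Y₀ := by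
      have : z ∈ i ⁻¹ᵁ X₀ := hx
      rw [h₀] at this
      exact this
    obtain ⟨k, h1, h2, h3⟩ := exists_cpair_le_int i j X₀ Y₀ (j z) hz (haff _ hz)
    refine ⟨k, h1, h2, ?_⟩
    have : z ∈ j ⁻¹ᵁ k.V := h3
    rw [← k.h] at this
    exact this
  · have hO : IsOpen (Set.range i)ᶜ := i.isClosedEmbedding.isClosed_range.isOpen_compl
    obtain ⟨U, hU, hxU, hUO⟩ := exists_isAffineOpen_mem_and_subset (x := x)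
      (U := X₀ ⊓ ⟨_, hO⟩) ⟨hx, hxr⟩
    refine ⟨⟨U, ⊥, hU, isAffineOpen_bot Y, ?_⟩, fun v hv => (hUO hv).1, bot_le, hxU⟩
    ext z
    simp only [Scheme.Hom.coe_preimage, Set.mem_preimage, SetLike.mem_coe, Opens.coe_bot,
      Set.mem_empty_iff_false, iff_false]
    intro hz
    exact (hUO hz).2 ⟨z, rfl⟩

end Pair


section GoodCharts

variable {Z X Y P Z' X' Y' P' : Scheme.{u}} {i : Z ⟶ X} {j : Z ⟶ Y} {a : X ⟶ P} {b : Y ⟶ P}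
  {i' : Z' ⟶ X'} {j' : Z' ⟶ Y'} {a' : X' ⟶ P'} {b' : Y' ⟶ P'}
  {f : X' ⟶ X} {g : Y' ⟶ Y} {c : Z' ⟶ Z} {h : P' ⟶ P}

/-- compatible good charts exist around every point, for a morphism of pinchings along a closed
immersion and an integral morphism, given affine neighbourhoods of the fibres of `j'` relative to
`f`. -/
theorem exists_good_charts_int [IsClosedImmersion i] [IsIntegralHom j] [IsClosedImmersion i']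
    [IsIntegralHom j'] (𝒲 : CPair i j → P.Opens)
    (h𝒲 : ∀ k, IsAffineOpen (𝒲 k) ∧ a ⁻¹ᵁ (𝒲 k) = k.U ∧ b ⁻¹ᵁ (𝒲 k) = k.V)
    (hcov : ∀ p : P, ∃ k, p ∈ 𝒲 k)
    (hp' : IsPinch i' j' a' b') (𝒲' : CPair i' j' → P'.Opens)
    (h𝒲' : ∀ k, IsAffineOpen (𝒲' k) ∧ a' ⁻¹ᵁ (𝒲' k) = k.U ∧ b' ⁻¹ᵁ (𝒲' k) = k.V)
    (h : P' ⟶ P) (ha : a' ≫ h = f ≫ a) (hb : b' ≫ h = g ≫ b)
    (hw : i' ≫ f = c ≫ i) (hw2 : j' ≫ g = c ≫ j)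
    (haff' : ∀ (U : X.Opens), IsAffineOpen U → ∀ y' : Y',
      j' ⁻¹' {y'} ⊆ (i' ⁻¹ᵁ f ⁻¹ᵁ U : Set Z') →
      ∃ U' : X'.Opens, IsAffineOpen U' ∧ U' ≤ f ⁻¹ᵁ U ∧ j' ⁻¹' {y'} ⊆ (i' ⁻¹ᵁ U' : Set Z')) :
    ∀ w : P', ∃ (W : P.Opens) (W' : P'.Opens), h w ∈ W ∧ w ∈ W' ∧ W' ≤ h ⁻¹ᵁ W ∧
      Good a b W ∧ Good a' b' W' := by
  intro w
  obtain ⟨k, hk⟩ := hcov (h w)
  have hgood : Good a b (𝒲 k) :=
    ⟨(h𝒲 k).1, by rw [(h𝒲 k).2.1]; exact k.hU, by rw [(h𝒲 k).2.2]; exact k.hV⟩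
  let O : P'.Opens := h ⁻¹ᵁ 𝒲 k
  have hcompat : i' ⁻¹ᵁ a' ⁻¹ᵁ O = j' ⁻¹ᵁ b' ⁻¹ᵁ O := by
    rw [← Scheme.Hom.comp_preimage i' a', ← Scheme.Hom.comp_preimage j' b', hp'.w]
  have hOa : a' ⁻¹ᵁ O = f ⁻¹ᵁ k.U := by
    change a' ⁻¹ᵁ h ⁻¹ᵁ 𝒲 k = _
    rw [← Scheme.Hom.comp_preimage a' h, ha, Scheme.Hom.comp_preimage, (h𝒲 k).2.1]
  have hOb : b' ⁻¹ᵁ O = g ⁻¹ᵁ k.V := by
    change b' ⁻¹ᵁ h ⁻¹ᵁ 𝒲 k = _
    rw [← Scheme.Hom.comp_preimage b' h, hb, Scheme.Hom.comp_preimage, (h𝒲 k).2.2]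
  have haffO : ∀ y' ∈ b' ⁻¹ᵁ O, ∃ U₀ : X'.Opens, IsAffineOpen U₀ ∧ U₀ ≤ a' ⁻¹ᵁ O ∧
      j' ⁻¹' {y'} ⊆ (i' ⁻¹ᵁ U₀ : Set Z') := by
    intro y' hy'
    rw [hOb] at hy'
    rw [hOa]
    refine haff' k.U k.hU y' ?_
    intro z' hz'
    have hz'y : j' z' = y' := hz'
    change f (i' z') ∈ k.U
    have e1 : f (i' z') = i (c z') := by
      rw [← Scheme.Hom.comp_apply, ← Scheme.Hom.comp_apply, hw]
    have e2 : j (c z') = g (j' z') := by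
      rw [← Scheme.Hom.comp_apply, ← Scheme.Hom.comp_apply, hw2]
    rw [e1]
    have : c z' ∈ j ⁻¹ᵁ k.V := by
      change j (c z') ∈ k.V
      rw [e2, hz'y]
      exact hy'
    rw [← k.h] at this
    exact this
  have key : ∀ κ : CPair i' j', κ.U ≤ a' ⁻¹ᵁ O → κ.V ≤ b' ⁻¹ᵁ O → w ∈ 𝒲' κ →
      ∃ (W : P.Opens) (W' : P'.Opens), h w ∈ W ∧ w ∈ W' ∧ W' ≤ h ⁻¹ᵁ W ∧
        Good a b W ∧ Good a' b' W' := by
    intro κ h1 h2 h3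
    refine ⟨𝒲 k, 𝒲' κ, hk, h3, ?_, hgood, ?_⟩
    · intro p hpW
      rcases hp'.surj p with ⟨x, rfl⟩ | ⟨y, rfl⟩
      · have : x ∈ a' ⁻¹ᵁ 𝒲' κ := hpW
        rw [(h𝒲' κ).2.1] at this
        exact h1 this
      · have : y ∈ b' ⁻¹ᵁ 𝒲' κ := hpW
        rw [(h𝒲' κ).2.2] at this
        exact h2 this
    · exact ⟨(h𝒲' κ).1, by rw [(h𝒲' κ).2.1]; exact κ.hU, by rw [(h𝒲' κ).2.2]; exact κ.hV⟩
  rcases hp'.surj w with ⟨x, rfl⟩ | ⟨y, rfl⟩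
  · obtain ⟨κ, h1, h2, h3⟩ := exists_cpair_le_int' i' j' (a' ⁻¹ᵁ O) (b' ⁻¹ᵁ O) hcompat x hk haffO
    refine key κ h1 h2 ?_
    have : x ∈ a' ⁻¹ᵁ 𝒲' κ := by rw [(h𝒲' κ).2.1]; exact h3
    exact this
  · obtain ⟨κ, h1, h2, h3⟩ := exists_cpair_le_int i' j' (a' ⁻¹ᵁ O) (b' ⁻¹ᵁ O) y hk (haffO y hk)
    refine key κ h1 h2 ?_
    have : y ∈ b' ⁻¹ᵁ 𝒲' κ := by rw [(h𝒲' κ).2.2]; exact h3
    exact this

end GoodCharts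

end Groth.Agent.H6.PinLqf
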