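import Mathlib
import Groth.Prelude
import Groth.Agent.Lib.Helper6.PinLqf3

universe u v
open CategoryTheory CategoryTheory.Limits AlgebraicGeometry TopologicalSpace

set_option linter.unusedSectionVars false
set_option linter.unusedSimpArgs false
set_option linter.style.haveILetI false
namespace Groth.Agent.H6.PinLqf

open Groth.Agent.H9.PIN Groth.Agent.H9.AVD Groth.Agent.H6.MilCube

section Cat

variable {C : Type u} [Category.{v} C] [HasPullbacks C] {X P X' P' : C} {a : X ⟶ P} {a' : X' ⟶ P'}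
  {f : X' ⟶ X} {h : P' ⟶ P}

/-- if `X' = X ×_P P'`, then `X' ×_X X' = X ×_P (P' ×_P P')`. -/
theorem isPullback_map_of_isPullback (hpb : IsPullback a' f h a) :
    IsPullback (pullback.fst f f ≫ f) (pullback.map f f h h a' a' a hpb.w.symm hpb.w.symm) a
      (pullback.fst h h ≫ h) := by
  refine ⟨⟨?_⟩, ⟨PullbackCone.IsLimit.mk _ (fun s => ?_) (fun s => ?_) (fun s => ?_)
    (fun s m hm1 hm2 => ?_)⟩⟩
  · rw [pullback.map, pullback.lift_fst_assoc, Category.assoc, Category.assoc, hpb.w]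
  · have w1 : (s.snd ≫ pullback.fst h h) ≫ h = s.fst ≫ a := by
      rw [Category.assoc, ← s.condition]
    have w2 : (s.snd ≫ pullback.snd h h) ≫ h = s.fst ≫ a := by
      rw [Category.assoc, ← pullback.condition, ← s.condition]
    exact pullback.lift (hpb.lift _ _ w1) (hpb.lift _ _ w2) (by rw [hpb.lift_snd, hpb.lift_snd])
  · have w1 : (s.snd ≫ pullback.fst h h) ≫ h = s.fst ≫ a := by
      rw [Category.assoc, ← s.condition]
    simp only
    rw [pullback.lift_fst_assoc, hpb.lift_snd]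
  · have w1 : (s.snd ≫ pullback.fst h h) ≫ h = s.fst ≫ a := by
      rw [Category.assoc, ← s.condition]
    have w2 : (s.snd ≫ pullback.snd h h) ≫ h = s.fst ≫ a := by
      rw [Category.assoc, ← pullback.condition, ← s.condition]
    simp only
    apply pullback.hom_ext
    · rw [Category.assoc, pullback.map, pullback.lift_fst, pullback.lift_fst_assoc, hpb.lift_fst]
    · rw [Category.assoc, pullback.map, pullback.lift_snd, pullback.lift_snd_assoc, hpb.lift_fst]
  · have w1 : (s.snd ≫ pullback.fst h h) ≫ h = s.fst ≫ a := by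
      rw [Category.assoc, ← s.condition]
    have w2 : (s.snd ≫ pullback.snd h h) ≫ h = s.fst ≫ a := by
      rw [Category.assoc, ← pullback.condition, ← s.condition]
    simp only at hm1 hm2 ⊢
    apply pullback.hom_ext
    · rw [pullback.lift_fst]
      apply hpb.hom_ext
      · rw [hpb.lift_fst, ← hm2, Category.assoc, Category.assoc, pullback.map, pullback.lift_fst]
      · rw [hpb.lift_snd, ← hm1, Category.assoc]
    · rw [pullback.lift_snd]
      apply hpb.hom_ext
      · rw [hpb.lift_fst, ← hm2, Category.assoc, Category.assoc, pullback.map, pullback.lift_snd]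
      · rw [hpb.lift_snd, ← hm1, Category.assoc]
        exact congrArg (m ≫ ·) pullback.condition.symm

theorem diagonal_comp_map (hpb : IsPullback a' f h a) :
    pullback.diagonal f ≫ pullback.map f f h h a' a' a hpb.w.symm hpb.w.symm =
      a' ≫ pullback.diagonal h := by
  apply pullback.hom_ext
  · rw [Category.assoc, pullback.map, pullback.lift_fst, pullback.diagonal_fst_assoc,
      Category.assoc, pullback.diagonal_fst, Category.comp_id]
  · rw [Category.assoc, pullback.map, pullback.lift_snd, pullback.diagonal_snd_assoc,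
      Category.assoc, pullback.diagonal_snd, Category.comp_id]

end Cat


section Sep

variable {X Y P X' Y' P' : Scheme.{u}} {a : X ⟶ P} {b : Y ⟶ P} {a' : X' ⟶ P'} {b' : Y' ⟶ P'}
  {f : X' ⟶ X} {g : Y' ⟶ Y} {h : P' ⟶ P}

/-- separatedness of a morphism, checked after base change along two jointly surjective integral
morphisms. -/
theorem isSeparated_of_cover (hpbX : IsPullback a' f h a) (hpbY : IsPullback b' g h b)
    [IsIntegralHom a] [IsIntegralHom b] [IsSeparated f] [IsSeparated g]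
    (hsurj : ∀ w : P', (∃ x, a' x = w) ∨ (∃ y, b' y = w)) : IsSeparated h := by
  haveI : IsIntegralHom (pullback.map f f h h a' a' a hpbX.w.symm hpbX.w.symm) :=
    MorphismProperty.of_isPullback (P := @IsIntegralHom) (isPullback_map_of_isPullback hpbX)
      inferInstance
  haveI : IsIntegralHom (pullback.map g g h h b' b' b hpbY.w.symm hpbY.w.symm) :=
    MorphismProperty.of_isPullback (P := @IsIntegralHom) (isPullback_map_of_isPullback hpbY)
      inferInstance
  have hrange : Set.range (pullback.diagonal h) =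
      (pullback.map f f h h a' a' a hpbX.w.symm hpbX.w.symm) '' Set.range (pullback.diagonal f) ∪
      (pullback.map g g h h b' b' b hpbY.w.symm hpbY.w.symm) ''
        Set.range (pullback.diagonal g) := by
    ext t
    constructor
    · rintro ⟨w, rfl⟩
      rcases hsurj w with ⟨x, rfl⟩ | ⟨y, rfl⟩
      · left
        refine ⟨pullback.diagonal f x, ⟨x, rfl⟩, ?_⟩
        rw [← Scheme.Hom.comp_apply, diagonal_comp_map hpbX, Scheme.Hom.comp_apply]
      · right
        refine ⟨pullback.diagonal g y, ⟨y, rfl⟩, ?_⟩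
        rw [← Scheme.Hom.comp_apply, diagonal_comp_map hpbY, Scheme.Hom.comp_apply]
    · rintro (⟨_, ⟨x, rfl⟩, rfl⟩ | ⟨_, ⟨y, rfl⟩, rfl⟩)
      · refine ⟨a' x, ?_⟩
        rw [← Scheme.Hom.comp_apply, ← diagonal_comp_map hpbX, Scheme.Hom.comp_apply]
      · refine ⟨b' y, ?_⟩
        rw [← Scheme.Hom.comp_apply, ← diagonal_comp_map hpbY, Scheme.Hom.comp_apply]
  have hclosed : IsClosed (Set.range (pullback.diagonal h)) := by
    rw [hrange]
    refine IsClosed.union ?_ ?_
    · exact (pullback.map f f h h a' a' a hpbX.w.symm hpbX.w.symm).isClosedMap _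
        (pullback.diagonal f).isClosedEmbedding.isClosed_range
    · exact (pullback.map g g h h b' b' b hpbY.w.symm hpbY.w.symm).isClosedMap _
        (pullback.diagonal g).isClosedEmbedding.isClosed_range
  exact ⟨IsClosedImmersion.of_isPreimmersion _ hclosed⟩

end Sep


section Lqf

variable {X Y P X' Y' P' : Scheme.{u}} {a : X ⟶ P} {b : Y ⟶ P} {a' : X' ⟶ P'} {b' : Y' ⟶ P'}
  {f : X' ⟶ X} {g : Y' ⟶ Y} {h : P' ⟶ P}

/-- finiteness of the part of a fibre of `h` inside a chart, over a point coming from `X`. -/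
theorem finite_fibre_chart (hpbX : IsPullback a' f h a) [LocallyQuasiFinite f] {W : P.Opens}
    {W' : P'.Opens} (hle : W' ≤ h ⁻¹ᵁ W) (hU : IsAffineOpen (a ⁻¹ᵁ W))
    (hU' : IsAffineOpen (a' ⁻¹ᵁ W')) (x₀ : X) : {w : P' | w ∈ W' ∧ h w = a x₀}.Finite := by
  have hlef : a' ⁻¹ᵁ W' ≤ f ⁻¹ᵁ a ⁻¹ᵁ W := le_f hpbX.w hle
  have hS₀ : {x' : X' | x' ∈ a' ⁻¹ᵁ W' ∧ f x' = x₀}.Finite := by
    by_cases hx₀ : x₀ ∈ a ⁻¹ᵁ W
    · haveI : IsAffine (a ⁻¹ᵁ W).toScheme := hU
      haveI : IsAffine (a' ⁻¹ᵁ W').toScheme := hU'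
      haveI : QuasiCompact (f.resLE (a ⁻¹ᵁ W) (a' ⁻¹ᵁ W') hlef) :=
        (HasAffineProperty.iff_of_isAffine (P := @QuasiCompact)).mpr inferInstance
      have hfin := (f.resLE (a ⁻¹ᵁ W) (a' ⁻¹ᵁ W') hlef).finite_preimage_singleton ⟨x₀, hx₀⟩
      refine (hfin.image (a' ⁻¹ᵁ W').ι).subset ?_
      rintro x' ⟨hx'1, hx'2⟩
      refine ⟨⟨x', hx'1⟩, ?_, rfl⟩
      change (f.resLE (a ⁻¹ᵁ W) (a' ⁻¹ᵁ W') hlef) ⟨x', hx'1⟩ = ⟨x₀, hx₀⟩
      apply Subtype.ext
      rw [Scheme.Hom.coe_resLE_apply]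
      exact hx'2
    · convert Set.finite_empty
      ext x'
      simp only [Set.mem_ofPred_eq, Set.mem_empty_iff_false, iff_false, not_and]
      intro hx'1 hx'2
      apply hx₀
      rw [← hx'2]
      exact hlef hx'1
  refine (hS₀.image a').subset ?_
  rintro w ⟨hw1, hw2⟩
  obtain ⟨z, hz1, hz2⟩ := Scheme.Pullback.exists_preimage_pullback w x₀ hw2
  refine ⟨hpbX.isoPullback.inv z, ⟨?_, ?_⟩, ?_⟩
  · change a' (hpbX.isoPullback.inv z) ∈ W'
    rw [← Scheme.Hom.comp_apply, hpbX.isoPullback_inv_fst, hz1]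
    exact hw1
  · rw [← Scheme.Hom.comp_apply, hpbX.isoPullback_inv_snd, hz2]
  · rw [← Scheme.Hom.comp_apply, hpbX.isoPullback_inv_fst, hz1]

/-- local quasi-finiteness of a morphism of pinchings, from that of its two branches. -/
theorem locallyQuasiFinite_of_cover (hpbX : IsPullback a' f h a) (hpbY : IsPullback b' g h b)
    [LocallyQuasiFinite f] [LocallyQuasiFinite g] [LocallyOfFiniteType h]
    (hsurjP : ∀ p : P, (∃ x, a x = p) ∨ (∃ y, b y = p))
    (hcharts : ∀ w : P', ∃ (W : P.Opens) (W' : P'.Opens), h w ∈ W ∧ w ∈ W' ∧ W' ≤ h ⁻¹ᵁ W ∧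
      Good a b W ∧ Good a' b' W') : LocallyQuasiFinite h := by
  choose W W' h1 h2 h3 h4 h5 using hcharts
  have hsup : iSup W' = ⊤ := top_le_iff.mp fun w _ => Opens.mem_iSup.mpr ⟨w, h2 w⟩
  rw [IsZariskiLocalAtSource.iff_of_iSup_eq_top (P := @LocallyQuasiFinite) W' hsup]
  intro w
  refine LocallyQuasiFinite.of_finite_preimage_singleton _ (fun p => ?_)
  have key : {w' : P' | w' ∈ W' w ∧ h w' = p}.Finite := by
    rcases hsurjP p with ⟨x₀, rfl⟩ | ⟨y₀, rfl⟩
    · exact finite_fibre_chart hpbX (h3 w) (h4 w).ha (h5 w).ha x₀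
    · exact finite_fibre_chart hpbY (h3 w) (h4 w).hb (h5 w).hb y₀
  refine (key.preimage (Set.injOn_of_injective (W' w).ι.isOpenEmbedding.injective)).subset ?_
  intro z hz
  refine ⟨z.2, ?_⟩
  have : ((W' w).ι ≫ h) z = p := hz
  rwa [Scheme.Hom.comp_apply] at this

end Lqf

end Groth.Agent.H6.PinLqf
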