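import Mathlib
import Groth.Prelude
import Groth.Agent.Lib.Helper6.PinLqf4

universe u
open CategoryTheory CategoryTheory.Limits AlgebraicGeometry TopologicalSpace

set_option linter.unusedSectionVars false
set_option linter.unusedSimpArgs false
set_option linter.style.haveILetI false
namespace Groth.Agent.H6.PinLqf

open Groth.Agent.H9.PIN Groth.Agent.H9.AVD Groth.Agent.H6.MilCube

section Main

variable {X Y Z X' Y' Z' : Scheme.{u}}

/-- **S1465** in the conventions of the pinching library. -/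
theorem s1465 (i : Z ⟶ X) [IsClosedImmersion i] (j : Z ⟶ Y) [IsIntegralHom j]
    (haff : ∀ y : Y, ∃ U : X.Opens, IsAffineOpen U ∧ j ⁻¹' {y} ⊆ (i ⁻¹ᵁ U : Set ↑Z))
    (i' : Z' ⟶ X') (j' : Z' ⟶ Y') (f : X' ⟶ X) (g : Y' ⟶ Y) (c : Z' ⟶ Z)
    (hX : IsPullback i' c f i) (hY : IsPullback j' c g j)
    [IsSeparated f] [LocallyQuasiFinite f] [LocallyOfFiniteType f]
    [IsSeparated g] [LocallyQuasiFinite g] [LocallyOfFiniteType g] :
    ∃ (P P' : Scheme.{u}) (a : X ⟶ P) (b : Y ⟶ P) (a' : X' ⟶ P') (b' : Y' ⟶ P') (k : P' ⟶ P),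
      IsPushout i j a b ∧ IsPushout i' j' a' b' ∧ a' ≫ k = f ≫ a ∧ b' ≫ k = g ≫ b ∧
      IsSeparated k ∧ LocallyQuasiFinite k ∧ LocallyOfFiniteType k ∧
      IsPullback a' f k a ∧ IsPullback b' g k b := by
  obtain ⟨P, a, b, hp, 𝒲, h𝒲, hcov⟩ := exists_isPinch (exists_cpair_of_integral i j haff)
  haveI : IsClosedImmersion i' :=
    MorphismProperty.of_isPullback (P := @IsClosedImmersion) hX.flip inferInstance
  haveI : IsIntegralHom j' :=
    MorphismProperty.of_isPullback (P := @IsIntegralHom) hY.flip inferInstance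
  have haffgen : ∀ (U : X.Opens), IsAffineOpen U → ∀ y' : Y',
      j' ⁻¹' {y'} ⊆ (i' ⁻¹ᵁ f ⁻¹ᵁ U : Set Z') →
      ∃ U' : X'.Opens, IsAffineOpen U' ∧ U' ≤ f ⁻¹ᵁ U ∧ j' ⁻¹' {y'} ⊆ (i' ⁻¹ᵁ U' : Set Z') :=
    fun U hU y' hfib => exists_affine_of_lqf f i' j' U hU y' hfib
  have haff' : ∀ y' : Y', ∃ U' : X'.Opens, IsAffineOpen U' ∧
      j' ⁻¹' {y'} ⊆ (i' ⁻¹ᵁ U' : Set ↑Z') := by
    intro y'
    obtain ⟨U, hU, hfib⟩ := haff (g y')
    obtain ⟨U', hU', -, hfib'⟩ := haffgen U hU y' (by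
      intro z' hz'
      have hz'y : j' z' = y' := hz'
      change f (i' z') ∈ U
      have e1 : f (i' z') = i (c z') := by
        rw [← Scheme.Hom.comp_apply, ← Scheme.Hom.comp_apply, hX.w]
      have e2 : j (c z') = g (j' z') := by
        rw [← Scheme.Hom.comp_apply, ← Scheme.Hom.comp_apply, hY.w]
      rw [e1]
      exact hfib (show j (c z') = g y' by rw [e2, hz'y]))
    exact ⟨U', hU', hfib'⟩
  obtain ⟨P', a', b', hp', 𝒲', h𝒲', hcov'⟩ :=
    exists_isPinch (exists_cpair_of_integral i' j' haff')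
  have hcomm : i' ≫ f ≫ a = j' ≫ g ≫ b := by
    rw [reassoc_of% hX.w, reassoc_of% hY.w, hp.w]
  let k : P' ⟶ P := hp'.isPushout.desc (f ≫ a) (g ≫ b) hcomm
  have ha : a' ≫ k = f ≫ a := hp'.isPushout.inl_desc _ _ _
  have hb : b' ≫ k = g ≫ b := hp'.isPushout.inr_desc _ _ _
  have hcharts := exists_good_charts_int 𝒲 h𝒲 hcov hp' 𝒲' h𝒲' k ha hb hX.w hY.w haffgen
  haveI hlft : LocallyOfFiniteType k := by
    refine prop_h_of_charts hcharts @LocallyOfFiniteType sc_finiteType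
      (fun {W W'} hW hW' hle => ?_)
    exact (chart_cube hp hp' hX hY ha hb hW hW' hle).2.2.2.2.2.1
      (HasRingHomProperty.appLE (P := @LocallyOfFiniteType) _ inferInstance ⟨_, hW.ha⟩
        ⟨_, hW'.ha⟩ _)
      (HasRingHomProperty.appLE (P := @LocallyOfFiniteType) _ inferInstance ⟨_, hW.hb⟩
        ⟨_, hW'.hb⟩ _)
  have hpb : IsPullback a' f k a ∧ IsPullback b' g k b := by
    choose W W' h1 h2 h3 h4 h5 using hcharts
    constructor
    · refine isPullback_of_isPushout_charts' ha W W' h3 (fun p' => ⟨p', h2 p'⟩)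
        (fun w => (h4 w).hW) (fun w => (h4 w).ha) (fun w => (h5 w).hW) (fun w => (h5 w).ha)
        (fun w => ?_)
      exact (chart_cube hp hp' hX hY ha hb (h4 w) (h5 w) (h3 w)).1
    · refine isPullback_of_isPushout_charts' hb W W' h3 (fun p' => ⟨p', h2 p'⟩)
        (fun w => (h4 w).hW) (fun w => (h4 w).hb) (fun w => (h5 w).hW) (fun w => (h5 w).hb)
        (fun w => ?_)
      exact (chart_cube hp hp' hX hY ha hb (h4 w) (h5 w) (h3 w)).2.1
  have hW' : ∀ k, IsAffineOpen (𝒲 k) ∧ IsAffineOpen (a ⁻¹ᵁ 𝒲 k) ∧ IsAffineOpen (b ⁻¹ᵁ 𝒲 k) :=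
    fun k => ⟨(h𝒲 k).1, by rw [(h𝒲 k).2.1]; exact k.hU, by rw [(h𝒲 k).2.2]; exact k.hV⟩
  haveI hbcl : IsClosedImmersion b := hp.isClosedImmersion_b 𝒲 hcov hW'
  haveI haint : IsIntegralHom a := hp.isIntegralHom_a 𝒲 hcov hW'
  refine ⟨P, P', a, b, a', b', k, hp.isPushout, hp'.isPushout, ha, hb, ?_, ?_, hlft,
    hpb.1, hpb.2⟩
  · exact isSeparated_of_cover hpb.1 hpb.2 hp'.surj
  · exact locallyQuasiFinite_of_cover hpb.1 hpb.2 hp.surj hcharts

end Main

end Groth.Agent.H6.PinLqf
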