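import Mathlib

set_option autoImplicit false
open MvPolynomial

namespace Groth.Agent.H6.PlaneDiff

/-- chain rule for a derivation applied to a polynomial expression -/
theorem chain_rule {σ : Type*} [Fintype σ] {R S M : Type*} [CommRing R] [CommRing S]
    [Algebra R S] [AddCommGroup M] [Module S M] [Module R M] [IsScalarTower R S M]
    (D : Derivation R S M) (v : σ → S) (f : MvPolynomial σ R) :
    D (aeval v f) = ∑ i, aeval v (pderiv i f) • D (v i) := by
  classical
  induction f using MvPolynomial.induction_on with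
  | C a => simp
  | add p q hp hq => simp only [map_add, hp, hq, add_smul, Finset.sum_add_distrib]
  | mul_X p n hp =>
    rw [map_mul, aeval_X, Derivation.leibniz, hp]
    simp only [Derivation.leibniz, pderiv_X, map_add, smul_eq_mul, map_mul, aeval_X, add_smul,
      Finset.sum_add_distrib, mul_smul]
    congr 1
    · rw [Finset.sum_eq_single n]
      · simp
      · intro b _ hb
        simp [hb.symm]
      · simp
    · rw [Finset.smul_sum]

/-- scaling of evaluation of a homogeneous polynomial -/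
theorem aeval_smul_of_isHomogeneous {σ : Type*} [Fintype σ] {R S : Type*} [CommRing R]
    [CommRing S] [Algebra R S] (q : MvPolynomial σ R) (d : ℕ) (hq : q.IsHomogeneous d)
    (c : S) (v : σ → S) : aeval (c • v) q = c ^ d * aeval v q := by
  rw [aeval_def, aeval_def, eval₂_eq', eval₂_eq', Finset.mul_sum]
  refine Finset.sum_congr rfl fun m hm => ?_
  have hdeg : ∑ i, m i = d := by
    have := hq (mem_support_iff.mp hm)
    rw [Finsupp.weight_apply] at this
    simpa [Finsupp.sum_fintype] using this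
  simp only [Pi.smul_apply, smul_eq_mul, mul_pow, Finset.prod_mul_distrib, Finset.prod_pow_eq_pow_sum,
    hdeg]
  ring

theorem core {K M : Type*} [Field K] [AddCommGroup M] [Module K M]
    (a : Fin 3 → Fin 3 → K) (u g : Fin 3 → K) (du : Fin 3 → M) (x y : K)
    (h0 : ∑ j, a 0 j * u j = 1) (hx : ∑ j, a 1 j * u j = x) (hy : ∑ j, a 2 j * u j = y)
    (d0 : ∑ j, a 0 j • du j = 0)
    (E : g 0 + x * g 1 + y * g 2 = 0)
    (Dr : g 1 • (∑ j, a 1 j • du j) + g 2 • (∑ j, a 2 j • du j) = 0) :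
    (∑ i, a i 2 * g i) • (∑ j, a 1 j • du j) =
      (Matrix.det (Matrix.of a) * g 2) • (u 0 • du 1 - u 1 • du 0) := by
  rw [Matrix.det_fin_three]
  simp only [Fin.sum_univ_three, Matrix.of_apply] at *
  subst hx hy
  -- R1 : Σ_j g'_j • du_j = 0
  have R1 : (a 0 0 * g 0 + a 1 0 * g 1 + a 2 0 * g 2) • du 0 +
      (a 0 1 * g 0 + a 1 1 * g 1 + a 2 1 * g 2) • du 1 +
      (a 0 2 * g 0 + a 1 2 * g 1 + a 2 2 * g 2) • du 2 = 0 := by
    linear_combination (norm := module) g 0 • d0 + Dr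
  have R2 : (a 0 0 * g 0 + a 1 0 * g 1 + a 2 0 * g 2) * u 0 +
      (a 0 1 * g 0 + a 1 1 * g 1 + a 2 1 * g 2) * u 1 +
      (a 0 2 * g 0 + a 1 2 * g 1 + a 2 2 * g 2) * u 2 = 0 := by
    linear_combination E + g 0 * h0
  linear_combination (norm := module)
    (-(a 0 2 * g 0 + a 1 2 * g 1 + a 2 2 * g 2)) •
      (h0 • (a 1 0 • du 0 + a 1 1 • du 1 + a 1 2 • du 2)) +
    ((a 0 2 * g 0 + a 1 2 * g 1 + a 2 2 * g 2) * (a 1 0 * u 0 + a 1 1 * u 1 + a 1 2 * u 2)) • d0 +
    (a 0 1 * a 1 2 - a 0 2 * a 1 1) • (u 1 • R1 - R2 • du 1) +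
    (a 0 2 * a 1 0 - a 0 0 * a 1 2) • (-(u 0 • R1) + R2 • du 0)


theorem main (k K : Type*) [Field k] [Field K] [Algebra k K]
    (f : MvPolynomial (Fin 3) k) (e : ℕ) (hf : f.IsHomogeneous e)
    (x y : K) (hfxy : MvPolynomial.aeval ![(1 : K), x, y] f = 0)
    (A : Matrix (Fin 3) (Fin 3) k) (hA : A.det ≠ 0)
    (u : Fin 3 → K) (hu : ∀ i, ∑ j, algebraMap k K (A i j) * u j = ![(1 : K), x, y] i)
    (hu0 : u 0 ≠ 0)
    (hfy : MvPolynomial.aeval ![(1 : K), x, y] (MvPolynomial.pderiv 2 f) ≠ 0)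
    (hfy' : MvPolynomial.aeval ![(1 : K), u 1 / u 0, u 2 / u 0]
      (MvPolynomial.pderiv 2
        (MvPolynomial.aeval (fun i : Fin 3 => ∑ j, MvPolynomial.C (A i j) * MvPolynomial.X j) f)) ≠ 0) :
    (MvPolynomial.aeval ![(1 : K), x, y] (MvPolynomial.pderiv 2 f))⁻¹ • KaehlerDifferential.D k K x =
      (algebraMap k K A.det * (u 0)⁻¹ ^ ((e : ℤ) - 3) *
        (MvPolynomial.aeval ![(1 : K), u 1 / u 0, u 2 / u 0]
          (MvPolynomial.pderiv 2
            (MvPolynomial.aeval (fun i : Fin 3 => ∑ j, MvPolynomial.C (A i j) * MvPolynomial.X j) f)))⁻¹) •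
        KaehlerDifferential.D k K (u 1 / u 0) := by
  classical
  set P : Fin 3 → K := ![(1 : K), x, y] with hP
  set D := KaehlerDifferential.D k K with hD
  set a : Fin 3 → Fin 3 → K := fun i j => algebraMap k K (A i j) with ha
  set g : Fin 3 → K := fun i => aeval P (pderiv i f) with hg
  set L : Fin 3 → MvPolynomial (Fin 3) k := fun i => ∑ j, C (A i j) * X j with hL
  have h0 : ∑ j, a 0 j * u j = 1 := hu 0
  have hx : ∑ j, a 1 j * u j = x := hu 1
  have hy : ∑ j, a 2 j * u j = y := hu 2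
  have hDsum : ∀ i, D (∑ j, a i j * u j) = ∑ j, a i j • D (u j) := by
    intro i
    rw [map_sum]
    refine Finset.sum_congr rfl fun j _ => ?_
    rw [Derivation.leibniz, Derivation.map_algebraMap, smul_zero, add_zero]
  have d0 : ∑ j, a 0 j • D (u j) = 0 := by
    rw [← hDsum, h0, Derivation.map_one_eq_zero]
  have hDx : D x = ∑ j, a 1 j • D (u j) := by rw [← hDsum, hx]
  have hDy : D y = ∑ j, a 2 j • D (u j) := by rw [← hDsum, hy]
  -- Euler
  have E : g 0 + x * g 1 + y * g 2 = 0 := by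
    have := congrArg (aeval P) hf.sum_X_mul_pderiv
    rw [map_sum, Fin.sum_univ_three] at this
    simp only [map_mul, aeval_X, map_nsmul, hfxy, smul_zero] at this
    simpa [hP] using this
  -- differentiate f(1,x,y) = 0
  have Dr : g 1 • (∑ j, a 1 j • D (u j)) + g 2 • (∑ j, a 2 j • D (u j)) = 0 := by
    have := chain_rule D P f
    rw [hfxy, map_zero, Fin.sum_univ_three] at this
    rw [← hDx, ← hDy]
    have hP0 : D (P 0) = 0 := by simp [hP]
    have hP1 : D (P 1) = D x := by simp [hP]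
    have hP2 : D (P 2) = D y := by simp [hP]
    rw [hP0, hP1, hP2, smul_zero, zero_add] at this
    exact this.symm
  have key := core a u g (fun j => D (u j)) x y h0 hx hy d0 E Dr
  have hdet : Matrix.det (Matrix.of a) = algebraMap k K A.det := by
    rw [RingHom.map_det]
    rfl
  -- degree at least one
  have he : 1 ≤ e := by
    by_contra hcon
    have he0 : e = 0 := by omega
    subst he0
    have hc : f = C (coeff 0 f) := by
      have := (totalDegree_eq_zero_iff_eq_C (p := f)).mp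
        ((MvPolynomial.totalDegree_zero_iff_isHomogeneous _).mpr hf)
      exact this
    apply hfy
    rw [hc, pderiv_C, map_zero]
  -- the derivative of the transformed polynomial
  have hpd : pderiv 2 (aeval L f) = ∑ i, aeval L (pderiv i f) * C (A i 2) := by
    have := chain_rule (pderiv (2 : Fin 3) : Derivation k (MvPolynomial (Fin 3) k) _) L f
    rw [this]
    refine Finset.sum_congr rfl fun i _ => ?_
    rw [smul_eq_mul]
    congr 1
    simp [hL, Fin.sum_univ_three, Pi.single_apply]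
  set P' : Fin 3 → K := ![(1 : K), u 1 / u 0, u 2 / u 0] with hP'
  have hP'u : P' = (u 0)⁻¹ • u := by
    ext i; fin_cases i
    · simp [hP', hu0]
    · simp [hP', div_eq_inv_mul]
    · simp [hP', div_eq_inv_mul]
  have hLP : (fun i => aeval P' (L i)) = (u 0)⁻¹ • P := by
    ext i
    simp only [hL, map_sum, map_mul, aeval_C, aeval_X, hP'u, Pi.smul_apply, smul_eq_mul]
    rw [← hu i, Finset.mul_sum]
    refine Finset.sum_congr rfl fun j _ => ?_
    ring
  have hg' : aeval P' (pderiv 2 (aeval L f)) = (u 0)⁻¹ ^ (e - 1) * ∑ i, a i 2 * g i := by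
    rw [hpd, map_sum, Finset.mul_sum]
    refine Finset.sum_congr rfl fun i _ => ?_
    rw [map_mul, aeval_C, comp_aeval_apply, hLP,
      aeval_smul_of_isHomogeneous _ (e - 1) hf.pderiv]
    ring
  set G' : K := ∑ i, a i 2 * g i with hG'def
  have hv : (u 0)⁻¹ ≠ 0 := inv_ne_zero hu0
  have hG' : G' ≠ 0 := by
    intro h0'
    apply hfy'
    change aeval P' (pderiv 2 (aeval L f)) = 0
    rw [hg', h0', mul_zero]
  have hg2 : g 2 ≠ 0 := hfy
  have hscal : (u 0)⁻¹ ^ ((e : ℤ) - 3) * ((u 0)⁻¹ ^ (e - 1))⁻¹ * (u 0)⁻¹ ^ 2 = 1 := by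
    rw [← zpow_natCast (u 0)⁻¹ (e - 1), ← zpow_natCast (u 0)⁻¹ 2, ← zpow_neg, ← zpow_add₀ hv,
      ← zpow_add₀ hv]
    have : ((e : ℤ) - 3 + -((e - 1 : ℕ) : ℤ) + ((2 : ℕ) : ℤ)) = 0 := by
      push_cast [Nat.cast_sub he]; ring
    rw [this, zpow_zero]
  change (g 2)⁻¹ • D x = (algebraMap k K A.det * (u 0)⁻¹ ^ ((e : ℤ) - 3) *
    (aeval P' (pderiv 2 (aeval L f)))⁻¹) • D (u 1 / u 0)
  rw [hg', Derivation.leibniz_div, smul_smul]
  rw [← hDx, hdet] at key
  change G' • D x = _ at key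
  calc (g 2)⁻¹ • D x = (g 2)⁻¹ • (G'⁻¹ • (G' • D x)) := by
        rw [smul_smul G'⁻¹, inv_mul_cancel₀ hG', one_smul]
    _ = (g 2)⁻¹ • (G'⁻¹ • ((algebraMap k K A.det * g 2) • (u 0 • D (u 1) - u 1 • D (u 0)))) := by
        rw [key]
    _ = _ := by
        rw [smul_smul, smul_smul]
        congr 1
        have h1 : (g 2)⁻¹ * G'⁻¹ * (algebraMap k K A.det * g 2) = algebraMap k K A.det * G'⁻¹ := by
          field_simp
        rw [h1, mul_inv]
        calc algebraMap k K A.det * G'⁻¹ = algebraMap k K A.det * G'⁻¹ *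
              ((u 0)⁻¹ ^ ((e : ℤ) - 3) * ((u 0)⁻¹ ^ (e - 1))⁻¹ * (u 0)⁻¹ ^ 2) := by
              rw [hscal, mul_one]
          _ = _ := by ring

end Groth.Agent.H6.PlaneDiff
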