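import Mathlib

set_option autoImplicit false
set_option linter.unusedSectionVars false
universe u v w
open scoped TensorProduct
open MvPolynomial LinearMap

namespace Groth.Agent.H6.PolyLawRestr

variable {A : Type u} [CommRing A] {M : Type v} [AddCommGroup M] [Module A M]
  {N : Type w} [AddCommGroup N] [Module A N]

/-- families of maps on polynomial rings -/
abbrev Fam (A : Type u) [CommRing A] (M : Type v) [AddCommGroup M] [Module A M]
    (N : Type w) [AddCommGroup N] [Module A N] :=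
  ∀ n : ℕ, MvPolynomial (Fin n) A ⊗[A] M → MvPolynomial (Fin n) A ⊗[A] N

/-- compatibility with all algebra maps between polynomial rings -/
def Compat (T : Fam A M N) : Prop :=
  ∀ (n m : ℕ) (φ : MvPolynomial (Fin n) A →ₐ[A] MvPolynomial (Fin m) A),
    φ.toLinearMap.rTensor N ∘ T n = T m ∘ φ.toLinearMap.rTensor M

section

variable {T : Fam A M N} (hT : Compat T)

include hT

theorem compat_apply {n m : ℕ} (φ : MvPolynomial (Fin n) A →ₐ[A] MvPolynomial (Fin m) A)
    (p : MvPolynomial (Fin n) A ⊗[A] M) :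
    φ.toLinearMap.rTensor N (T n p) = T m (φ.toLinearMap.rTensor M p) :=
  congrFun (hT n m φ) p

theorem push_comp {S : Type u} [CommSemiring S] [Algebra A S] {n m : ℕ}
    (Ψ : MvPolynomial (Fin m) A →ₐ[A] S)
    (α : MvPolynomial (Fin n) A →ₐ[A] MvPolynomial (Fin m) A) (p : MvPolynomial (Fin n) A ⊗[A] M) :
    (Ψ.comp α).toLinearMap.rTensor N (T n p) =
      Ψ.toLinearMap.rTensor N (T m (α.toLinearMap.rTensor M p)) := by
  rw [AlgHom.comp_toLinearMap, rTensor_comp, LinearMap.comp_apply, compat_apply hT]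

theorem roby_one {S : Type u} [CommSemiring S] [Algebra A S] {n : ℕ}
    (Ψ : MvPolynomial (Fin n) A →ₐ[A] S) (i : MvPolynomial (Fin n) A) (hi : Ψ i = 0) (m : M)
    (P' : MvPolynomial (Fin n) A ⊗[A] M) :
    Ψ.toLinearMap.rTensor N (T n (P' + i ⊗ₜ[A] m)) = Ψ.toLinearMap.rTensor N (T n P') := by
  let ι : MvPolynomial (Fin n) A →ₐ[A] MvPolynomial (Fin (n + 1)) A := rename Fin.succ
  let α : MvPolynomial (Fin (n + 1)) A →ₐ[A] MvPolynomial (Fin n) A :=
    aeval (Fin.cons i (fun j => X j) : Fin (n + 1) → MvPolynomial (Fin n) A)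
  let β : MvPolynomial (Fin (n + 1)) A →ₐ[A] MvPolynomial (Fin n) A :=
    aeval (Fin.cons 0 (fun j => X j) : Fin (n + 1) → MvPolynomial (Fin n) A)
  let Q : MvPolynomial (Fin (n + 1)) A ⊗[A] M := ι.toLinearMap.rTensor M P' + (X 0) ⊗ₜ[A] m
  have hαι : α.comp ι = AlgHom.id A _ := by
    apply MvPolynomial.algHom_ext
    intro j
    simp [α, ι]
  have hβι : β.comp ι = AlgHom.id A _ := by
    apply MvPolynomial.algHom_ext
    intro j
    simp [β, ι]
  have hα : α.toLinearMap.rTensor M Q = P' + i ⊗ₜ[A] m := by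
    simp only [Q, map_add, rTensor_tmul, AlgHom.toLinearMap_apply]
    rw [← LinearMap.comp_apply, ← rTensor_comp, ← AlgHom.comp_toLinearMap, hαι]
    simp [α]
  have hβ : β.toLinearMap.rTensor M Q = P' := by
    simp only [Q, map_add, rTensor_tmul, AlgHom.toLinearMap_apply]
    rw [← LinearMap.comp_apply, ← rTensor_comp, ← AlgHom.comp_toLinearMap, hβι]
    simp [β]
  have hΨ : Ψ.comp α = Ψ.comp β := by
    apply MvPolynomial.algHom_ext
    intro j
    refine Fin.cases ?_ (fun j => ?_) j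
    · simp [α, β, hi]
    · simp [α, β]
  rw [← hα, ← push_comp hT, hΨ, push_comp hT, hβ]

theorem roby {S : Type u} [CommSemiring S] [Algebra A S] {n : ℕ}
    (Ψ : MvPolynomial (Fin n) A →ₐ[A] S)
    (D : ((RingHom.ker Ψ).restrictScalars A) ⊗[A] M) :
    ∀ P' : MvPolynomial (Fin n) A ⊗[A] M,
      Ψ.toLinearMap.rTensor N (T n (P' + (((RingHom.ker Ψ).restrictScalars A).subtype).rTensor M D)) =
        Ψ.toLinearMap.rTensor N (T n P') := by
  induction D using TensorProduct.induction_on with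
  | zero => intro P'; simp
  | tmul i m =>
    intro P'
    rw [rTensor_tmul]
    exact roby_one hT Ψ i.1 i.2 m P'
  | add a b ha hb =>
    intro P'
    rw [map_add, ← add_assoc, hb, ha]

theorem wd_quot {S : Type u} [CommSemiring S] [Algebra A S] {n : ℕ}
    (Ψ : MvPolynomial (Fin n) A →ₐ[A] S) (P P' : MvPolynomial (Fin n) A ⊗[A] M)
    (h : (Ideal.Quotient.mkₐ A (RingHom.ker Ψ)).toLinearMap.rTensor M P =
      (Ideal.Quotient.mkₐ A (RingHom.ker Ψ)).toLinearMap.rTensor M P') :
    Ψ.toLinearMap.rTensor N (T n P) = Ψ.toLinearMap.rTensor N (T n P') := by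
  have hfg : Function.Exact (((RingHom.ker Ψ).restrictScalars A).subtype)
      (Ideal.Quotient.mkₐ A (RingHom.ker Ψ)).toLinearMap := by
    intro y
    constructor
    · intro hy
      have : y ∈ RingHom.ker Ψ := Ideal.Quotient.eq_zero_iff_mem.1 hy
      exact ⟨⟨y, this⟩, rfl⟩
    · rintro ⟨z, rfl⟩
      exact Ideal.Quotient.eq_zero_iff_mem.2 z.2
  have hg : Function.Surjective (Ideal.Quotient.mkₐ A (RingHom.ker Ψ)).toLinearMap :=
    Ideal.Quotient.mkₐ_surjective A _
  have hex := rTensor_exact M hfg hg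
  have h0 : (Ideal.Quotient.mkₐ A (RingHom.ker Ψ)).toLinearMap.rTensor M (P - P') = 0 := by
    rw [map_sub, h, sub_self]
  obtain ⟨D, hD⟩ := (hex (P - P')).1 h0
  have : P = P' + (((RingHom.ker Ψ).restrictScalars A).subtype).rTensor M D := by
    rw [hD]; abel
  rw [this]
  exact roby hT Ψ D P'

theorem wd_range {S : Type u} [CommSemiring S] [Algebra A S] {n : ℕ}
    (Ψ : MvPolynomial (Fin n) A →ₐ[A] S) (P P' : MvPolynomial (Fin n) A ⊗[A] M)
    (h : Ψ.rangeRestrict.toLinearMap.rTensor M P = Ψ.rangeRestrict.toLinearMap.rTensor M P') :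
    Ψ.toLinearMap.rTensor N (T n P) = Ψ.toLinearMap.rTensor N (T n P') := by
  apply wd_quot hT
  let e := Ideal.quotientKerEquivRange Ψ
  have he : e.symm.toLinearMap ∘ₗ Ψ.rangeRestrict.toLinearMap =
      (Ideal.Quotient.mkₐ A (RingHom.ker Ψ)).toLinearMap := by
    ext x
    simp only [LinearMap.comp_apply, AlgHom.toLinearMap_apply, AlgEquiv.toLinearMap_apply]
    apply e.injective
    rw [AlgEquiv.apply_symm_apply]
    rfl
  rw [← he, rTensor_comp, LinearMap.comp_apply, LinearMap.comp_apply, h]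


/-- combined evaluation map -/
noncomputable def comb {S : Type u} [CommSemiring S] [Algebra A S] {n k : ℕ}
    (Ψ : MvPolynomial (Fin n) A →ₐ[A] S) (Φ : MvPolynomial (Fin k) A →ₐ[A] S) :
    MvPolynomial (Fin (n + k)) A →ₐ[A] S :=
  aeval (Fin.append (fun i => Ψ (X i)) (fun j => Φ (X j)))

omit hT in
theorem comb_left {S : Type u} [CommSemiring S] [Algebra A S] {n k : ℕ}
    (Ψ : MvPolynomial (Fin n) A →ₐ[A] S) (Φ : MvPolynomial (Fin k) A →ₐ[A] S) :
    (comb Ψ Φ).comp (rename (Fin.castAdd k)) = Ψ := by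
  apply MvPolynomial.algHom_ext
  intro i
  simp [comb]

omit hT in
theorem comb_right {S : Type u} [CommSemiring S] [Algebra A S] {n k : ℕ}
    (Ψ : MvPolynomial (Fin n) A →ₐ[A] S) (Φ : MvPolynomial (Fin k) A →ₐ[A] S) :
    (comb Ψ Φ).comp (rename (Fin.natAdd n)) = Φ := by
  apply MvPolynomial.algHom_ext
  intro i
  simp [comb]

theorem wd_same {S : Type u} [CommSemiring S] [Algebra A S] {n : ℕ}
    (Ψ : MvPolynomial (Fin n) A →ₐ[A] S) (P P' : MvPolynomial (Fin n) A ⊗[A] M)
    (h : Ψ.toLinearMap.rTensor M P = Ψ.toLinearMap.rTensor M P') :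
    Ψ.toLinearMap.rTensor N (T n P) = Ψ.toLinearMap.rTensor N (T n P') := by
  have hFG : Subalgebra.FG (R := A) Ψ.range := by
    rw [← Algebra.map_top]
    exact Subalgebra.FG.map _ Algebra.FiniteType.out
  have h' : rTensor M Ψ.range.val.toLinearMap (Ψ.rangeRestrict.toLinearMap.rTensor M P) =
      rTensor M Ψ.range.val.toLinearMap (Ψ.rangeRestrict.toLinearMap.rTensor M P') := by
    simp only [← LinearMap.comp_apply, ← rTensor_comp, ← AlgHom.comp_toLinearMap,
      AlgHom.val_comp_rangeRestrict]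
    exact h
  obtain ⟨B, hAB, ⟨s, hs⟩, hB⟩ := TensorProduct.Algebra.eq_of_fg_of_subtype_eq hFG h'
  let Φ := PolynomialLaw.φ A s
  have hΦ : Φ.range = B := by rw [PolynomialLaw.range_φ, hs]
  let Ψ₂ := comb Ψ Φ
  let ι₁ : MvPolynomial (Fin n) A →ₐ[A] MvPolynomial (Fin (n + s.card)) A :=
    rename (Fin.castAdd s.card)
  have h1 : Ψ₂.comp ι₁ = Ψ := comb_left Ψ Φ
  have hBle : B ≤ Ψ₂.range := by
    rw [← hΦ, ← comb_right Ψ Φ]
    rintro _ ⟨x, rfl⟩
    exact ⟨_, rfl⟩
  have hcomp : ((Subalgebra.inclusion hBle).comp ((Subalgebra.inclusion hAB).comp Ψ.rangeRestrict)) =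
      Ψ₂.rangeRestrict.comp ι₁ := by
    ext x
    simp only [AlgHom.comp_apply]
    change Ψ (X x) = Ψ₂ (ι₁ (X x))
    rw [← AlgHom.comp_apply, h1]
  have h2 : Ψ₂.rangeRestrict.toLinearMap.rTensor M (ι₁.toLinearMap.rTensor M P) =
      Ψ₂.rangeRestrict.toLinearMap.rTensor M (ι₁.toLinearMap.rTensor M P') := by
    have := congrArg (rTensor M (Subalgebra.inclusion hBle).toLinearMap) hB
    simp only [← LinearMap.comp_apply, ← rTensor_comp, ← AlgHom.comp_toLinearMap] at this ⊢
    rw [← hcomp]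
    exact this
  have h3 := wd_range hT Ψ₂ _ _ h2
  rw [← push_comp hT, ← push_comp hT, h1] at h3
  exact h3

theorem wd {S : Type u} [CommSemiring S] [Algebra A S] {n n' : ℕ}
    (ψ : MvPolynomial (Fin n) A →ₐ[A] S) (ψ' : MvPolynomial (Fin n') A →ₐ[A] S)
    (p : MvPolynomial (Fin n) A ⊗[A] M) (p' : MvPolynomial (Fin n') A ⊗[A] M)
    (h : ψ.toLinearMap.rTensor M p = ψ'.toLinearMap.rTensor M p') :
    ψ.toLinearMap.rTensor N (T n p) = ψ'.toLinearMap.rTensor N (T n' p') := by
  let Ψ := comb ψ ψ'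
  have h1 : Ψ.comp (rename (Fin.castAdd n')) = ψ := comb_left ψ ψ'
  have h2 : Ψ.comp (rename (Fin.natAdd n)) = ψ' := comb_right ψ ψ'
  have h3 : Ψ.toLinearMap.rTensor M ((rename (Fin.castAdd n') : _ →ₐ[A] _).toLinearMap.rTensor M p) =
      Ψ.toLinearMap.rTensor M ((rename (Fin.natAdd n) : _ →ₐ[A] _).toLinearMap.rTensor M p') := by
    simp only [← LinearMap.comp_apply, ← rTensor_comp, ← AlgHom.comp_toLinearMap]
    rw [h1, h2]
    exact h
  have h4 := wd_same hT Ψ _ _ h3
  rw [← push_comp hT, ← push_comp hT, h1, h2] at h4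
  exact h4

/-- the polynomial law attached to a compatible family -/
noncomputable def law : M →ₚₗ[A] N where
  toFun' S _ _ t :=
    (PolynomialLaw.exists_lift t).choose_spec.choose.toLinearMap.rTensor N
      (T (PolynomialLaw.exists_lift t).choose
        (PolynomialLaw.exists_lift t).choose_spec.choose_spec.choose)
  isCompat' {S _ _ S' _ _} φ := by
    funext t
    simp only [Function.comp_apply]
    have ht := (PolynomialLaw.exists_lift t).choose_spec.choose_spec.choose_spec
    have ht' := (PolynomialLaw.exists_lift (φ.toLinearMap.rTensor M t)).choose_spec.choose_spec.choose_spec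
    rw [← LinearMap.comp_apply, ← rTensor_comp, ← AlgHom.comp_toLinearMap]
    apply wd hT
    rw [ht', AlgHom.comp_toLinearMap, rTensor_comp, LinearMap.comp_apply, ht]

theorem law_apply {S : Type u} [CommSemiring S] [Algebra A S] {n : ℕ}
    (ψ : MvPolynomial (Fin n) A →ₐ[A] S) (p : MvPolynomial (Fin n) A ⊗[A] M) :
    (law hT).toFun' S (ψ.toLinearMap.rTensor M p) = ψ.toLinearMap.rTensor N (T n p) := by
  have ht := (PolynomialLaw.exists_lift (ψ.toLinearMap.rTensor M p)).choose_spec.choose_spec.choose_spec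
  exact wd hT _ _ _ _ ht

theorem law_restrict (n : ℕ) : (law hT).toFun' (MvPolynomial (Fin n) A) = T n := by
  funext p
  have := law_apply hT (AlgHom.id A (MvPolynomial (Fin n) A)) p
  simpa using this

end

theorem main : Function.Bijective (fun F : M →ₚₗ[A] N =>
      (⟨fun n => F.toFun' (MvPolynomial (Fin n) A), fun n m φ => F.isCompat' φ⟩ :
        {T : ∀ n : ℕ, MvPolynomial (Fin n) A ⊗[A] M → MvPolynomial (Fin n) A ⊗[A] N //
          ∀ (n m : ℕ) (φ : MvPolynomial (Fin n) A →ₐ[A] MvPolynomial (Fin m) A),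
            φ.toLinearMap.rTensor N ∘ T n = T m ∘ φ.toLinearMap.rTensor M})) := by
  constructor
  · intro F G h
    have h' : ∀ n, F.toFun' (MvPolynomial (Fin n) A) = G.toFun' (MvPolynomial (Fin n) A) := by
      intro n
      exact congrFun (congrArg Subtype.val h) n
    ext S _ _ t
    obtain ⟨n, ψ, p, rfl⟩ := PolynomialLaw.exists_lift t
    rw [← PolynomialLaw.isCompat_apply', ← PolynomialLaw.isCompat_apply', h']
  · rintro ⟨T, hT⟩
    refine ⟨law hT, ?_⟩
    apply Subtype.ext
    funext n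
    exact law_restrict hT n

end Groth.Agent.H6.PolyLawRestr
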