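import Mathlib

/-! Primes of a polynomial ring lying over a given prime: heights. -/

universe u
set_option linter.style.haveILetI false
open Polynomial Ideal

namespace Groth.Agent.H6

namespace PolyPrimes

attribute [local instance] Polynomial.algebra Polynomial.isLocalization

/-- a nonzero prime of `D[X]` (D a domain) meeting `D` trivially has height one -/
theorem height_eq_one_of_comap_C_eq_bot {D : Type u} [CommRing D] [IsDomain D] (Q : Ideal D[X])
    [hQ : Q.IsPrime] (h0 : Q ≠ ⊥) (hC : Q.comap (C : D →+* D[X]) = ⊥) : Q.height = 1 := by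
  let K := FractionRing D
  have disj : Disjoint (((nonZeroDivisors D).map (C : D →+* D[X]) : Submonoid D[X]) : Set D[X])
      (Q : Set D[X]) := by
    rw [Set.disjoint_left]
    rintro _ ⟨a, ha, rfl⟩ haQ
    have : a ∈ Q.comap (C : D →+* D[X]) := haQ
    rw [hC] at this
    exact nonZeroDivisors.ne_zero ha ((Ideal.mem_bot).mp this)
  have h1 := IsLocalization.height_map_of_disjoint (S := K[X])
    ((nonZeroDivisors D).map (C : D →+* D[X])) Q disj
  rw [← h1]
  haveI : (Q.map (algebraMap D[X] K[X])).IsPrime :=
    IsLocalization.isPrime_of_isPrime_disjoint _ K[X] Q hQ disj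
  have hne : Q.map (algebraMap D[X] K[X]) ≠ ⊥ := by
    intro hbot
    apply h0
    rw [Submodule.eq_bot_iff]
    intro f hf
    have : algebraMap D[X] K[X] f ∈ Q.map (algebraMap D[X] K[X]) := Ideal.mem_map_of_mem _ hf
    rw [hbot, Ideal.mem_bot] at this
    have hinj : Function.Injective (algebraMap D[X] K[X]) :=
      Polynomial.map_injective _ (IsFractionRing.injective D K)
    exact hinj (this.trans (map_zero _).symm)
  haveI : (Q.map (algebraMap D[X] K[X])).IsMaximal :=
    IsPrime.isMaximal inferInstance hne
  exact IsPrincipalIdealRing.height_eq_one_of_isMaximal _ (Polynomial.not_isField K)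

variable {A : Type u} [CommRing A] (p : Ideal A)

theorem comap_C_map_C : (p.map (C : A →+* A[X])).comap (C : A →+* A[X]) = p := by
  ext a
  rw [Ideal.mem_comap, Ideal.mem_map_C_iff]
  constructor
  · intro h
    simpa using h 0
  · intro h n
    rw [coeff_C]
    split_ifs
    · exact h
    · exact p.zero_mem

instance liesOver_map_C : (p.map (C : A →+* A[X])).LiesOver p :=
  ⟨(comap_C_map_C p).symm⟩

variable [IsNoetherianRing A] [hp : p.IsPrime]

/-- the image of a prime `q` over `p` in `(A/p)[X]` -/
noncomputable def bar (q : Ideal A[X]) : Ideal (A ⧸ p)[X] :=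
  (q.map (Ideal.Quotient.mk (p.map (C : A →+* A[X])))).map
    (polynomialQuotientEquivQuotientPolynomial p).symm

theorem height_bar (q : Ideal A[X]) :
    (bar p q).height = (q.map (Ideal.Quotient.mk (p.map (C : A →+* A[X])))).height :=
  RingEquiv.height_map (polynomialQuotientEquivQuotientPolynomial p).symm _

theorem height_eq_add_bar (q : Ideal A[X]) [q.IsPrime] [q.LiesOver p] :
    q.height = p.height + (bar p q).height := by
  rw [height_bar]
  exact Ideal.height_eq_height_add_of_liesOver_of_hasGoingDown p q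

omit [IsNoetherianRing A] hp in
theorem bar_eq (q : Ideal A[X]) :
    bar p q = q.map (Polynomial.mapRingHom (Ideal.Quotient.mk p)) := by
  unfold bar
  apply le_antisymm
  · rw [Ideal.map_le_iff_le_comap, Ideal.map_le_iff_le_comap]
    intro f hf
    rw [Ideal.mem_comap, Ideal.mem_comap,
      Ideal.polynomialQuotientEquivQuotientPolynomial_symm_mk p f]
    exact Ideal.mem_map_of_mem (Polynomial.mapRingHom (Ideal.Quotient.mk p)) hf
  · rw [Ideal.map_le_iff_le_comap]
    intro f hf
    rw [Ideal.mem_comap]
    have h1 : Polynomial.mapRingHom (Ideal.Quotient.mk p) f =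
        (polynomialQuotientEquivQuotientPolynomial p).symm
          (Ideal.Quotient.mk (p.map (C : A →+* A[X])) f) :=
      (Ideal.polynomialQuotientEquivQuotientPolynomial_symm_mk p f).symm
    rw [h1]
    exact Ideal.mem_map_of_mem _ (Ideal.mem_map_of_mem _ hf)

omit [IsNoetherianRing A] hp in
theorem pi_surjective : Function.Surjective (Polynomial.mapRingHom (Ideal.Quotient.mk p)) :=
  Polynomial.map_surjective _ Ideal.Quotient.mk_surjective

omit [IsNoetherianRing A] hp in
theorem ker_pi : RingHom.ker (Polynomial.mapRingHom (Ideal.Quotient.mk p)) =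
    p.map (C : A →+* A[X]) := by
  rw [Polynomial.ker_mapRingHom, Ideal.mk_ker]

omit [IsNoetherianRing A] hp in
theorem map_C_le (q : Ideal A[X]) [q.LiesOver p] : p.map (C : A →+* A[X]) ≤ q := by
  rw [Ideal.map_le_iff_le_comap]
  intro a ha
  have := Ideal.LiesOver.over (P := q) (p := p)
  rw [this] at ha
  exact ha

omit [IsNoetherianRing A] hp in
theorem mem_iff_map_mem_bar (q : Ideal A[X]) [q.LiesOver p] (f : A[X]) :
    f ∈ q ↔ Polynomial.mapRingHom (Ideal.Quotient.mk p) f ∈ bar p q := by
  rw [bar_eq, ← Ideal.mem_comap, Ideal.comap_map_of_surjective' _ (pi_surjective p), ker_pi,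
    sup_eq_left.mpr (map_C_le p q)]

omit [IsNoetherianRing A] hp in
instance bar_isPrime (q : Ideal A[X]) [hq : q.IsPrime] [q.LiesOver p] : (bar p q).IsPrime := by
  rw [bar_eq]
  exact Ideal.map_isPrime_of_surjective (pi_surjective p) (by rw [ker_pi]; exact map_C_le p q)

omit [IsNoetherianRing A] hp in
theorem bar_eq_bot_iff (q : Ideal A[X]) [q.LiesOver p] :
    bar p q = ⊥ ↔ q = p.map (C : A →+* A[X]) := by
  rw [bar_eq, Ideal.map_eq_bot_iff_le_ker, ker_pi]
  exact ⟨fun h => le_antisymm h (map_C_le p q), fun h => h.le⟩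

omit [IsNoetherianRing A] hp in
theorem comap_C_bar (q : Ideal A[X]) [q.LiesOver p] :
    (bar p q).comap (C : (A ⧸ p) →+* (A ⧸ p)[X]) = ⊥ := by
  rw [Submodule.eq_bot_iff]
  intro b hb
  obtain ⟨a, rfl⟩ := Ideal.Quotient.mk_surjective b
  rw [Ideal.mem_comap] at hb
  have h1 : Polynomial.mapRingHom (Ideal.Quotient.mk p) (C a) = C (Ideal.Quotient.mk p a) := by
    simp
  rw [← h1, ← mem_iff_map_mem_bar] at hb
  have h2 : a ∈ q.under A := hb
  rw [← Ideal.LiesOver.over (P := q) (p := p)] at h2
  exact Ideal.Quotient.eq_zero_iff_mem.mpr h2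

/-- `ht (p A[X]) = ht p` -/
theorem height_map_C : (p.map (C : A →+* A[X])).height = p.height := by
  have h := height_eq_add_bar p (p.map (C : A →+* A[X]))
  rw [(bar_eq_bot_iff p _).mpr rfl] at h
  haveI : IsDomain (A ⧸ p) := Ideal.Quotient.isDomain p
  rw [h, Ideal.height_bot, add_zero]

/-- `ht q = ht p + 1` for a prime `q ≠ p A[X]` over `p` -/
theorem height_eq_add_one (q : Ideal A[X]) [q.IsPrime] [q.LiesOver p]
    (hq : q ≠ p.map (C : A →+* A[X])) : q.height = p.height + 1 := by
  haveI : IsDomain (A ⧸ p) := Ideal.Quotient.isDomain p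
  rw [height_eq_add_bar p q, height_eq_one_of_comap_C_eq_bot (bar p q)
    (fun h => hq ((bar_eq_bot_iff p q).mp h)) (comap_C_bar p q)]

/-- **`A[X]` inherits regularity in codimension one** (principal maximal ideal form) -/
theorem isPrincipal_maximalIdeal_of_height_one {A : Type u} [CommRing A] [IsDomain A]
    [IsNoetherianRing A]
    (hR1 : ∀ (p : Ideal A) [p.IsPrime], p.height = 1 →
      IsDiscreteValuationRing (Localization.AtPrime p))
    (P : Ideal A[X]) [hPp : P.IsPrime] (hP : P.height = 1) :
    (IsLocalRing.maximalIdeal (Localization.AtPrime P)).IsPrincipal := by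
  rw [← Localization.AtPrime.map_eq_maximalIdeal]
  set p : Ideal A := P.comap (C : A →+* A[X]) with hp
  haveI : p.IsPrime := Ideal.comap_isPrime _ _
  haveI : P.LiesOver p := ⟨rfl⟩
  by_cases hp0 : p = ⊥
  · -- `P` meets `A` trivially: use `K[X]`
    let K := FractionRing A
    have hunit : ∀ y : ((nonZeroDivisors A).map (C : A →+* A[X]) : Submonoid A[X]),
        IsUnit (algebraMap A[X] (Localization.AtPrime P) y) := by
      rintro ⟨_, a, ha, rfl⟩
      apply IsLocalization.map_units (Localization.AtPrime P) (⟨C a, ?_⟩ : P.primeCompl)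
      intro hmem
      have : a ∈ p := hmem
      rw [hp0] at this
      exact nonZeroDivisors.ne_zero ha ((Ideal.mem_bot).mp this)
    let ψ : K[X] →+* Localization.AtPrime P := IsLocalization.lift (S := K[X]) hunit
    have hψ : ψ.comp (algebraMap A[X] K[X]) = algebraMap A[X] (Localization.AtPrime P) :=
      IsLocalization.lift_comp hunit
    obtain ⟨g, hg⟩ := (IsPrincipalIdealRing.principal (P.map (algebraMap A[X] K[X]))).principal
    refine ⟨⟨ψ g, ?_⟩⟩
    rw [← hψ, ← Ideal.map_map, hg]
    change Ideal.map ψ (Ideal.span {g}) = Ideal.span {ψ g}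
    rw [Ideal.map_span, Set.image_singleton]
  · -- `P = p A[X]` with `ht p = 1`
    have hpos : 1 ≤ p.height := by
      have hlt : (⊥ : Ideal A) < p := bot_lt_iff_ne_bot.mpr hp0
      have := Ideal.height_add_one_le_of_lt_of_isPrime hlt
      rw [Ideal.height_bot, zero_add] at this
      exact this
    have hPeq : P = p.map (C : A →+* A[X]) := by
      by_contra hne
      have h2 := height_eq_add_one p P hne
      rw [hP] at h2
      have h3 : (1 : ℕ∞) + 1 ≤ p.height + 1 := by gcongr
      rw [← h2] at h3
      exact absurd h3 (by norm_num)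
    have hp1 : p.height = 1 := by
      rw [← height_map_C p, ← hPeq, hP]
    haveI := hR1 p hp1
    obtain ⟨π, hπ⟩ := (IsPrincipalIdealRing.principal
      (IsLocalRing.maximalIdeal (Localization.AtPrime p))).principal
    let φ : Localization.AtPrime p →+* Localization.AtPrime P :=
      Localization.localRingHom p P (C : A →+* A[X]) rfl
    have hφ : φ.comp (algebraMap A (Localization.AtPrime p)) =
        (algebraMap A[X] (Localization.AtPrime P)).comp (C : A →+* A[X]) := by
      ext a
      exact Localization.localRingHom_to_map p P (C : A →+* A[X]) rfl a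
    refine ⟨⟨φ π, ?_⟩⟩
    rw [congrArg (Ideal.map (algebraMap A[X] (Localization.AtPrime P))) hPeq]
    rw [Ideal.map_map, ← hφ, ← Ideal.map_map, Localization.AtPrime.map_eq_maximalIdeal, hπ]
    change Ideal.map φ (Ideal.span {π}) = Ideal.span {φ π}
    rw [Ideal.map_span, Set.image_singleton]

end PolyPrimes

end Groth.Agent.H6
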