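import Mathlib

set_option autoImplicit false
set_option linter.unusedSectionVars false
universe u

namespace Groth.Agent.H6.PrePerf

variable (p : ℕ) [Fact p.Prime] (k : Type u) [Field k] [IsAlgClosed k] [CharP k p]
    (A : Type u) [CommRing A] [Algebra k A] [Algebra.FiniteType k A] [Nontrivial A]

/-- annihilator of `x - c` -/
noncomputable abbrev ann (x : A) (c : k) : Ideal A :=
  (Ideal.span {x - algebraMap k A c}).annihilator

theorem mem_ann {x : A} {c : k} {s : A} : s ∈ ann k A x c ↔ s * (x - algebraMap k A c) = 0 := by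
  rw [ann, Submodule.mem_annihilator_span_singleton, smul_eq_mul]

theorem step1 (x : A) (hx : ∀ n : ℕ, ∃ a : A, a ^ p ^ n = x) (m : Ideal A) [hm : m.IsMaximal] :
    ∃ (c : k) (s : A), s ∉ m ∧ s ∈ ann k A x c := by
  have hnoeth : IsNoetherianRing A := Algebra.FiniteType.isNoetherianRing k A
  have hcharA : CharP A p := charP_of_injective_algebraMap (algebraMap k A).injective p
  let _ := Ideal.Quotient.field m
  have hfin : Module.Finite k (A ⧸ m) := finite_of_finite_type_of_isJacobsonRing k (A ⧸ m)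
  have hbij : Function.Bijective (algebraMap k (A ⧸ m)) :=
    IsAlgClosed.algebraMap_bijective_of_isIntegral
  obtain ⟨c, hc⟩ := hbij.2 (Ideal.Quotient.mk m x)
  have hxc : x - algebraMap k A c ∈ m := by
    rw [← Ideal.Quotient.eq_zero_iff_mem, map_sub, ← hc]
    rw [IsScalarTower.algebraMap_apply k A (A ⧸ m)]
    simp
  have hpow : ∀ n : ℕ, x - algebraMap k A c ∈ m ^ n := by
    intro n
    obtain ⟨a, ha⟩ := hx n
    obtain ⟨d, hd⟩ := IsAlgClosed.exists_pow_nat_eq c (pow_pos (Fact.out : p.Prime).pos n)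
    have h1 : x - algebraMap k A c = (a - algebraMap k A d) ^ p ^ n := by
      rw [sub_pow_char_pow, ha, ← map_pow, hd]
    have h2 : a - algebraMap k A d ∈ m := by
      apply hm.isPrime.mem_of_pow_mem (p ^ n)
      rw [← h1]; exact hxc
    have h3 : x - algebraMap k A c ∈ m ^ (p ^ n) := by
      rw [h1]; exact Ideal.pow_mem_pow h2 _
    exact Ideal.pow_le_pow_right (Nat.lt_pow_self (Fact.out : p.Prime).one_lt).le h3
  have hinf : x - algebraMap k A c ∈ (⨅ i : ℕ, m ^ i • ⊤ : Submodule A A) := by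
    rw [Submodule.mem_iInf]
    intro i
    rw [smul_eq_mul, Ideal.mul_top]
    exact hpow i
  obtain ⟨r, hr⟩ := (Ideal.mem_iInf_smul_pow_eq_bot_iff m _).1 hinf
  refine ⟨c, 1 - r, ?_, ?_⟩
  · intro h
    have : (1 : A) ∈ m := by
      have := m.add_mem h r.2
      simpa using this
    exact hm.ne_top ((Ideal.eq_top_iff_one m).2 this)
  · rw [mem_ann, sub_mul, one_mul, ← smul_eq_mul (r : A), hr, sub_self]

theorem iSup_ann (x : A) (hx : ∀ n : ℕ, ∃ a : A, a ^ p ^ n = x) : (⨆ c : k, ann k A x c) = ⊤ := by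
  by_contra h
  obtain ⟨m, hm, hle⟩ := Ideal.exists_le_maximal _ h
  obtain ⟨c, s, hs, hsc⟩ := step1 p k A x hx m
  exact hs (hle (Ideal.mem_iSup_of_mem c hsc))

theorem main
    (hconn : ∀ e : A, IsIdempotentElem e → e = 0 ∨ e = 1)
    (x : A) (hx : ∀ n : ℕ, ∃ a : A, a ^ p ^ n = x) :
    x ∈ (algebraMap k A).range := by
  have h1 : (1 : A) ∈ (⨆ c : k, ann k A x c) := by
    rw [iSup_ann p k A x hx]; trivial
  obtain ⟨f, hf, hsum⟩ := (Submodule.mem_iSup_iff_exists_finsupp _ _).1 h1
  have horth : ∀ c c' : k, c ≠ c' → f c * f c' = 0 := by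
    intro c c' hcc'
    have h2 : f c * f c' * algebraMap k A (c - c') = 0 := by
      have hc := mem_ann k A |>.1 (hf c)
      have hc' := mem_ann k A |>.1 (hf c')
      have : algebraMap k A (c - c') = (x - algebraMap k A c') - (x - algebraMap k A c) := by
        rw [map_sub]; ring
      rw [this, mul_sub, mul_assoc, hc', mul_zero, mul_comm (f c) (f c'), mul_assoc, hc, mul_zero,
        sub_zero]
    have h3 : algebraMap k A (c - c') * algebraMap k A (c - c')⁻¹ = 1 := by
      rw [← map_mul, mul_inv_cancel₀ (sub_ne_zero.2 hcc'), map_one]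
    calc f c * f c' = f c * f c' * (algebraMap k A (c - c') * algebraMap k A (c - c')⁻¹) := by
          rw [h3, mul_one]
      _ = 0 := by rw [← mul_assoc, h2, zero_mul]
  have hidem : ∀ c : k, IsIdempotentElem (f c) := by
    intro c
    have : f c = f c * 1 := (mul_one _).symm
    rw [← hsum, Finsupp.sum, Finset.mul_sum] at this
    by_cases hc : c ∈ f.support
    · rw [Finset.sum_eq_single_of_mem c hc (fun c' _ hc' => horth c c' (Ne.symm hc'))] at this
      exact this.symm
    · rw [Finsupp.notMem_support_iff.1 hc]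
      exact IsIdempotentElem.zero
  have hex : ∃ c : k, f c ≠ 0 := by
    by_contra hcon
    push Not at hcon
    have : f = 0 := Finsupp.ext hcon
    rw [this] at hsum
    simp at hsum
  obtain ⟨c, hc⟩ := hex
  have hc1 : f c = 1 := (hconn _ (hidem c)).resolve_left hc
  have := (mem_ann k A).1 (hf c)
  rw [hc1, one_mul, sub_eq_zero] at this
  exact ⟨c, this.symm⟩

end Groth.Agent.H6.PrePerf
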