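import Mathlib

/-! The ring `R[α]/(uα, α² - v²)`: coordinates. -/

set_option autoImplicit false
universe u

namespace Groth.Agent.H6.PrePerf

open Polynomial

section Bq

variable {R : Type u} [CommRing R]

/-- the defining ideal -/
noncomputable abbrev J (u v : R) : Ideal R[X] := Ideal.span {(C u * X : R[X]), X ^ 2 - C (v ^ 2)}

/-- `R[α]/(uα, α² - v²)` -/
abbrev Bq (u v : R) : Type u := R[X] ⧸ J u v

/-- the class of `α` -/
noncomputable def al (u v : R) : Bq u v := Ideal.Quotient.mk (J u v) X

theorem u_al (u v : R) : algebraMap R (Bq u v) u * al u v = 0 := by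
  have : algebraMap R (Bq u v) u * al u v = Ideal.Quotient.mk (J u v) (C u * X) := by
    rw [map_mul]; rfl
  rw [this, Ideal.Quotient.eq_zero_iff_mem]
  exact Ideal.subset_span (Set.mem_insert _ _)

theorem al_sq (u v : R) : al u v ^ 2 = algebraMap R (Bq u v) (v ^ 2) := by
  have : al u v ^ 2 - algebraMap R (Bq u v) (v ^ 2) = Ideal.Quotient.mk (J u v) (X ^ 2 - C (v ^ 2)) := by
    rw [map_sub (Ideal.Quotient.mk (J u v)), map_pow (Ideal.Quotient.mk (J u v))]; rfl
  rw [← sub_eq_zero, this, Ideal.Quotient.eq_zero_iff_mem]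
  exact Ideal.subset_span (Set.mem_insert_of_mem _ rfl)

theorem al_pow_odd (u v : R) (k : ℕ) :
    al u v ^ (2 * k + 1) = algebraMap R (Bq u v) (v ^ (2 * k)) * al u v := by
  rw [pow_succ, pow_mul, al_sq, ← map_pow, ← pow_mul]

/-- every element is `a + b α` -/
theorem exists_repr (u v : R) (y : Bq u v) :
    ∃ a b : R, y = algebraMap R (Bq u v) a + algebraMap R (Bq u v) b * al u v := by
  rcases subsingleton_or_nontrivial R with h | h
  · haveI : Subsingleton (Bq u v) := by
      have : (1 : Bq u v) = 0 := by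
        have h1 : (1 : R) = 0 := Subsingleton.elim _ _
        rw [← map_one (algebraMap R (Bq u v)), h1, map_zero]
      exact subsingleton_of_zero_eq_one this.symm
    exact ⟨0, 0, Subsingleton.elim _ _⟩
  obtain ⟨f, rfl⟩ := Ideal.Quotient.mk_surjective y
  set g : R[X] := X ^ 2 - C (v ^ 2) with hg
  have hmonic : g.Monic := monic_X_pow_sub_C _ (by norm_num)
  have hdeg : g.natDegree = 2 := natDegree_X_pow_sub_C
  have hgJ : g ∈ J u v := Ideal.subset_span (Set.mem_insert_of_mem _ rfl)
  have h1 : Ideal.Quotient.mk (J u v) f = Ideal.Quotient.mk (J u v) (f %ₘ g) := by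
    rw [Ideal.Quotient.eq]
    have := modByMonic_add_div f g
    have e : f - f %ₘ g = g * (f /ₘ g) := by
      rw [sub_eq_iff_eq_add, add_comm]
      exact this.symm
    rw [e]
    exact Ideal.mul_mem_right _ _ hgJ
  have h2 : (f %ₘ g).natDegree ≤ 1 := by
    have := natDegree_modByMonic_lt f hmonic (by
      intro h1
      rw [h1, natDegree_one] at hdeg
      omega)
    omega
  have h3 := eq_X_add_C_of_natDegree_le_one h2
  refine ⟨(f %ₘ g).coeff 0, (f %ₘ g).coeff 1, ?_⟩
  rw [h1]
  conv_lhs => rw [h3]
  rw [map_add, map_mul, add_comm]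
  rfl

theorem J_le_ker_eval (u v w : R) (huw : u * w = 0) (hw : w ^ 2 = v ^ 2) :
    J u v ≤ RingHom.ker (evalRingHom w) := by
  unfold J
  rw [Ideal.span_le]
  rintro x (rfl | rfl)
  · simp [huw]
  · simp [hw]

/-- evaluation at `v` -/
noncomputable def rhoP (u v : R) (huv : u * v = 0) : Bq u v →+* R :=
  Ideal.Quotient.lift (J u v) (evalRingHom v)
    (fun f hf => RingHom.mem_ker.mp (J_le_ker_eval u v v huv rfl hf))

/-- evaluation at `-v` -/
noncomputable def rhoM (u v : R) (huv : u * v = 0) : Bq u v →+* R :=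
  Ideal.Quotient.lift (J u v) (evalRingHom (-v))
    (fun f hf => RingHom.mem_ker.mp
      (J_le_ker_eval u v (-v) (by rw [mul_neg, huv, neg_zero]) (by ring) hf))

theorem rhoP_apply (u v : R) (huv : u * v = 0) (a b : R) :
    rhoP u v huv (algebraMap R (Bq u v) a + algebraMap R (Bq u v) b * al u v) = a + b * v := by
  have : algebraMap R (Bq u v) a + algebraMap R (Bq u v) b * al u v =
      Ideal.Quotient.mk (J u v) (C a + C b * X) := by
    rw [map_add, map_mul]; rfl
  rw [this]
  unfold rhoP
  rw [Ideal.Quotient.lift_mk]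
  simp

theorem rhoM_apply (u v : R) (huv : u * v = 0) (a b : R) :
    rhoM u v huv (algebraMap R (Bq u v) a + algebraMap R (Bq u v) b * al u v) = a - b * v := by
  have : algebraMap R (Bq u v) a + algebraMap R (Bq u v) b * al u v =
      Ideal.Quotient.mk (J u v) (C a + C b * X) := by
    rw [map_add, map_mul]; rfl
  rw [this]
  unfold rhoM
  rw [Ideal.Quotient.lift_mk]
  simp
  ring

/-- uniqueness of the coordinates -/
theorem coord_zero (u v : R) (huv : u * v = 0) (h2 : IsUnit (2 : R)) (a b : R)
    (h : algebraMap R (Bq u v) a + algebraMap R (Bq u v) b * al u v = 0) :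
    a = 0 ∧ b ∈ Ideal.span {u} := by
  constructor
  · have h1 := rhoP_apply u v huv a b
    have h2' := rhoM_apply u v huv a b
    rw [h, map_zero] at h1 h2'
    have : (2 : R) * a = 0 := by linear_combination -h1 - h2'
    exact (h2.mul_right_eq_zero).mp this
  · by_cases htop : Ideal.span {u} = (⊤ : Ideal R)
    · rw [htop]; trivial
    haveI : Nontrivial (R ⧸ Ideal.span {u}) := Ideal.Quotient.nontrivial_iff.mpr htop
    set Rb := R ⧸ Ideal.span {u} with hRb
    set π : R →+* Rb := Ideal.Quotient.mk _ with hπ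
    set g : Rb[X] := X ^ 2 - C (π v ^ 2) with hg
    have hmonic : g.Monic := monic_X_pow_sub_C _ (by norm_num)
    have hdeg : g.natDegree = 2 := natDegree_X_pow_sub_C
    let τ₀ : R[X] →+* Rb[X] ⧸ Ideal.span {g} := (Ideal.Quotient.mk _).comp (mapRingHom π)
    have hle : J u v ≤ RingHom.ker τ₀ := by
      unfold J
      rw [Ideal.span_le]
      rintro x (rfl | rfl)
      · rw [SetLike.mem_coe, RingHom.mem_ker]
        have : π u = 0 := Ideal.Quotient.eq_zero_iff_mem.mpr (Ideal.subset_span rfl)
        simp [τ₀, this]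
      · rw [SetLike.mem_coe, RingHom.mem_ker]
        have : mapRingHom π (X ^ 2 - C (v ^ 2)) = g := by simp [hg]
        show Ideal.Quotient.mk _ (mapRingHom π (X ^ 2 - C (v ^ 2))) = 0
        rw [this, Ideal.Quotient.eq_zero_iff_mem]
        exact Ideal.subset_span rfl
    have hmem : C a + C b * X ∈ J u v := by
      rw [← Ideal.Quotient.eq_zero_iff_mem]
      rw [← h, map_add, map_mul]
      rfl
    have h3 := hle hmem
    rw [RingHom.mem_ker] at h3
    have h4 : (C (π a) + C (π b) * X : Rb[X]) ∈ Ideal.span {g} := by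
      rw [← Ideal.Quotient.eq_zero_iff_mem]
      have : τ₀ (C a + C b * X) = Ideal.Quotient.mk _ (C (π a) + C (π b) * X : Rb[X]) := by
        simp [τ₀]
      rw [← this]
      exact h3
    rw [Ideal.mem_span_singleton] at h4
    have h5 : (C (π a) + C (π b) * X : Rb[X]) = 0 := by
      by_contra hne
      apply hmonic.not_dvd_of_natDegree_lt hne _ h4
      rw [hdeg]
      have : (C (π a) + C (π b) * X : Rb[X]).natDegree ≤ 1 := by
        refine (natDegree_add_le _ _).trans ?_
        rw [natDegree_C]
        simp only [zero_le, sup_of_le_right]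
        exact (natDegree_C_mul_le _ _).trans (by rw [natDegree_X])
      omega
    have h6 := congrArg (fun q => coeff q 1) h5
    simp at h6
    exact Ideal.Quotient.eq_zero_iff_mem.mp h6

end Bq

end Groth.Agent.H6.PrePerf
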