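import Groth.Agent.Lib.Helper6.PrePerf1
import Groth.Prelude.Def_W4c1imperftorsorsPerf

/-! The preperfection of `R[α]/(uα, α² - v²)`. -/

set_option autoImplicit false
universe u

namespace Groth.Agent.H6.PrePerf

open Polynomial TensorProduct W4c1imperftorsors

section Tw

variable (p : ℕ) [Fact p.Prime] {R : Type u} [CommRing R] [CharP R p] (u v : R)

omit [Fact p.Prime] [CharP R p] in
theorem J_le {K : Ideal R[X]} (h1 : C u * X ∈ K) (h2 : X ^ 2 - C (v ^ 2) ∈ K) : J u v ≤ K := by
  refine Ideal.span_le.mpr ?_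
  rintro x (rfl | rfl)
  exacts [h1, h2]

/-- the Frobenius-semilinear comparison `B → B_j` -/
noncomputable def theta (j : ℕ) : Bq u v →+* Bq (u ^ p ^ j) (v ^ p ^ j) :=
  Ideal.Quotient.lift (J u v)
    (eval₂RingHom ((algebraMap R (Bq (u ^ p ^ j) (v ^ p ^ j))).comp (iterateFrobenius R p j))
      (al (u ^ p ^ j) (v ^ p ^ j)))
    (by
      intro f hf
      have hle : J u v ≤ RingHom.ker
          (eval₂RingHom ((algebraMap R (Bq (u ^ p ^ j) (v ^ p ^ j))).comp (iterateFrobenius R p j))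
            (al (u ^ p ^ j) (v ^ p ^ j))) := by
        apply J_le
        · rw [RingHom.mem_ker]
          simp only [coe_eval₂RingHom, eval₂_mul, eval₂_C, eval₂_X, RingHom.comp_apply,
            iterateFrobenius_def]
          exact u_al _ _
        · rw [RingHom.mem_ker]
          simp only [coe_eval₂RingHom, eval₂_sub, eval₂_pow, eval₂_C, eval₂_X, RingHom.comp_apply,
            iterateFrobenius_def]
          rw [al_sq, sub_eq_zero]
          congr 1
          ring
      exact RingHom.mem_ker.mp (hle hf))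

theorem theta_algebraMap (j : ℕ) (s : R) :
    theta p u v j (algebraMap R (Bq u v) s) = algebraMap R _ (s ^ p ^ j) := by
  have : algebraMap R (Bq u v) s = Ideal.Quotient.mk (J u v) (C s) := rfl
  rw [this]
  unfold theta
  rw [Ideal.Quotient.lift_mk]
  simp [iterateFrobenius_def]

theorem theta_al (j : ℕ) : theta p u v j (al u v) = al (u ^ p ^ j) (v ^ p ^ j) := by
  have : al u v = Ideal.Quotient.mk (J u v) X := rfl
  rw [this]
  unfold theta
  rw [Ideal.Quotient.lift_mk]
  simp

end Tw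

section Main

variable (p : ℕ) [Fact p.Prime] {R : Type u} [CommRing R] [CharP R p] (u v : R)

/-- the bi-additive map underlying `psi` -/
noncomputable def psiAux (j : ℕ) :
    R →+ ASrc p R (Bq u v) j →+ Bq (u ^ p ^ j) (v ^ p ^ j) where
  toFun r :=
    { toFun := fun b => algebraMap R _ r * theta p u v j (aEquiv p R (Bq u v) j b)
      map_zero' := by rw [map_zero, map_zero, mul_zero]
      map_add' := fun b b' => by rw [map_add, map_add, mul_add] }
  map_zero' := by
    ext b
    simp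
  map_add' r r' := by
    ext b
    simp [add_mul]

/-- the comparison `R ⊗_{F^j} B → B_j`, `r ⊗ b ↦ r θ_j(b)` -/
noncomputable def psi (j : ℕ) : Twist p R (Bq u v) j →+ Bq (u ^ p ^ j) (v ^ p ^ j) :=
  TensorProduct.liftAddHom (psiAux p u v j) (by
    intro s r b
    show algebraMap R _ (s • r) * theta p u v j (aEquiv p R (Bq u v) j b) =
      algebraMap R _ r * theta p u v j (aEquiv p R (Bq u v) j (s • b))
    have h1 : (s • r : R) = (srcEquiv p R j s) ^ p ^ j * r := by
      rw [Algebra.smul_def, algebraMap_src]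
    have h2 : aEquiv p R (Bq u v) j (s • b) =
        algebraMap R (Bq u v) (srcEquiv p R j s) * aEquiv p R (Bq u v) j b := by
      rw [Algebra.smul_def, algebraMap_aSrc, map_mul, RingEquiv.apply_symm_apply]
    rw [h1, h2, map_mul, map_mul, theta_algebraMap]
    ring)

theorem psi_tmul (j : ℕ) (r : R) (b : ASrc p R (Bq u v) j) :
    psi p u v j (r ⊗ₜ b) = algebraMap R _ r * theta p u v j (aEquiv p R (Bq u v) j b) := rfl

/-- `α` in the copy of `B` -/
noncomputable def alS (j : ℕ) : ASrc p R (Bq u v) j := (aEquiv p R (Bq u v) j).symm (al u v)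

theorem psi_repr (j : ℕ) (a b : R) :
    psi p u v j (a ⊗ₜ 1 + b ⊗ₜ alS p u v j) =
      algebraMap R _ a + algebraMap R _ b * al (u ^ p ^ j) (v ^ p ^ j) := by
  rw [map_add, psi_tmul, psi_tmul, map_one, map_one, mul_one]
  unfold alS
  rw [RingEquiv.apply_symm_apply, theta_al]

/-- moving scalars across the tensor sign -/
theorem tmul_algebraMap_mul (j : ℕ) (r s : R) (b : Bq u v) :
    (r ⊗ₜ[Src p R j] ((aEquiv p R (Bq u v) j).symm (algebraMap R (Bq u v) s * b)) :
      Twist p R (Bq u v) j) = (s ^ p ^ j * r) ⊗ₜ ((aEquiv p R (Bq u v) j).symm b) := by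
  have h1 : (aEquiv p R (Bq u v) j).symm (algebraMap R (Bq u v) s * b) =
      ((srcEquiv p R j).symm s) • ((aEquiv p R (Bq u v) j).symm b) := by
    rw [Algebra.smul_def, algebraMap_aSrc, RingEquiv.apply_symm_apply, map_mul]
  have h2 : s ^ p ^ j * r = ((srcEquiv p R j).symm s) • r := by
    rw [Algebra.smul_def, algebraMap_src, RingEquiv.apply_symm_apply]
  rw [h1, h2, TensorProduct.smul_tmul]

/-- every element of the twist is `a ⊗ 1 + b ⊗ α` -/
theorem exists_repr_tw (j : ℕ) (x : Twist p R (Bq u v) j) :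
    ∃ a b : R, x = a ⊗ₜ 1 + b ⊗ₜ alS p u v j := by
  induction x using TensorProduct.induction_on with
  | zero => exact ⟨0, 0, by rw [TensorProduct.zero_tmul, TensorProduct.zero_tmul, add_zero]⟩
  | tmul r y =>
    obtain ⟨s, s', hy⟩ := exists_repr u v (aEquiv p R (Bq u v) j y)
    have hy' : y = (aEquiv p R (Bq u v) j).symm
        (algebraMap R (Bq u v) s * 1) + (aEquiv p R (Bq u v) j).symm
          (algebraMap R (Bq u v) s' * al u v) := by
      rw [← map_add, mul_one, ← hy, RingEquiv.symm_apply_apply]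
    refine ⟨s ^ p ^ j * r, s' ^ p ^ j * r, ?_⟩
    rw [hy', TensorProduct.tmul_add, tmul_algebraMap_mul, tmul_algebraMap_mul, map_one]
    rfl
  | add x y hx hy =>
    obtain ⟨a, b, rfl⟩ := hx
    obtain ⟨a', b', rfl⟩ := hy
    refine ⟨a + a', b + b', ?_⟩
    rw [TensorProduct.add_tmul, TensorProduct.add_tmul]
    abel

theorem tmul_alS_eq_zero (j : ℕ) (b : R) (hb : b ∈ Ideal.span {u ^ p ^ j}) :
    (b ⊗ₜ[Src p R j] alS p u v j : Twist p R (Bq u v) j) = 0 := by
  obtain ⟨c, rfl⟩ := Ideal.mem_span_singleton'.mp hb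
  have := tmul_algebraMap_mul p u v j c u (al u v)
  rw [u_al, map_zero, TensorProduct.tmul_zero] at this
  unfold alS
  rw [mul_comm c, ← this]

end Main

section Final

variable (p : ℕ) [Fact p.Prime] {R : Type u} [CommRing R] [CharP R p] (u v : R)
  [CharP (Bq u v) p]

theorem relFrob_tmul (j : ℕ) (r : R) (b : ASrc p R (Bq u v) (j + 1)) :
    relFrob p R (Bq u v) j (r ⊗ₜ b) =
      r ⊗ₜ (aEquiv p R (Bq u v) j).symm ((aEquiv p R (Bq u v) (j + 1) b) ^ p) := by
  show relFrobAux p R (Bq u v) j (r ⊗ₜ b) = _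
  unfold relFrobAux
  rw [Algebra.TensorProduct.lift_tmul]
  show algebraMap R (Twist p R (Bq u v) j) r * ((1 : R) ⊗ₜ _) = _
  rw [Algebra.TensorProduct.algebraMap_apply, Algebra.algebraMap_self, RingHom.id_apply,
    Algebra.TensorProduct.tmul_mul_tmul, mul_one, one_mul]
  rfl

theorem relFrob_repr (hp : p ≠ 2) (j : ℕ) (a b : R) :
    relFrob p R (Bq u v) j (a ⊗ₜ 1 + b ⊗ₜ alS p u v (j + 1)) =
      a ⊗ₜ 1 + ((v ^ (p - 1)) ^ p ^ j * b) ⊗ₜ alS p u v j := by
  rw [map_add, relFrob_tmul, relFrob_tmul, map_one, one_pow, map_one]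
  congr 1
  unfold alS
  rw [RingEquiv.apply_symm_apply]
  obtain ⟨k, hk⟩ : ∃ k, p = 2 * k + 1 := (Fact.out : p.Prime).odd_of_ne_two hp
  have : al u v ^ p = algebraMap R (Bq u v) (v ^ (p - 1)) * al u v := by
    conv_lhs => rw [hk]
    rw [al_pow_odd]
    congr 3
    omega
  rw [this, tmul_algebraMap_mul]

theorem isUnit_two (hp : p ≠ 2) : IsUnit (2 : R) := by
  obtain ⟨k, hk⟩ : ∃ k, p = 2 * k + 1 := (Fact.out : p.Prime).odd_of_ne_two hp
  refine isUnit_iff_exists_inv.mpr ⟨((k + 1 : ℕ) : R), ?_⟩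
  have h1 : ((2 * (k + 1) : ℕ) : R) = ((p + 1 : ℕ) : R) := by
    congr 1
    omega
  push_cast at h1
  rw [CharP.cast_eq_zero R p, zero_add] at h1
  push_cast
  exact h1

theorem mem_prePerf_iff (x : Π j : ℕ, Twist p R (Bq u v) j) :
    x ∈ prePerf p R (Bq u v) ↔ ∀ j, relFrob p R (Bq u v) j (x (j + 1)) = x j := by
  unfold prePerf
  rw [Algebra.mem_iInf]
  exact Iff.rfl

theorem algebraMap_prePerf_apply (a : R) (j : ℕ) :
    (algebraMap R (prePerf p R (Bq u v)) a).1 j = a ⊗ₜ 1 := by
  show algebraMap R (Twist p R (Bq u v) j) a = _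
  rw [Algebra.TensorProduct.algebraMap_apply, Algebra.algebraMap_self, RingHom.id_apply]

theorem bijective (hp : p ≠ 2) (huv : u * v = 0)
    (hsep : ∀ N : ℕ, 1 ≤ N → ∀ g : R,
      (∀ n : ℕ, g ∈ Ideal.span {v ^ n} ⊔ Ideal.span {u ^ N}) → g ∈ Ideal.span {u ^ N}) :
    Function.Bijective (algebraMap R (prePerf p R (Bq u v))) := by
  have h2 := isUnit_two p (R := R) hp
  have huvj : ∀ j : ℕ, u ^ p ^ j * v ^ p ^ j = 0 := fun j => by
    rw [← mul_pow, huv, zero_pow (pow_pos (Fact.out : p.Prime).pos j).ne']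
  constructor
  · intro a a' h
    have h0 := congrArg (fun y => psi p u v 0 (y.1 0)) h
    simp only [algebraMap_prePerf_apply, psi_tmul, map_one, mul_one] at h0
    have h1 : algebraMap R (Bq (u ^ p ^ 0) (v ^ p ^ 0)) (a - a') +
        algebraMap R (Bq (u ^ p ^ 0) (v ^ p ^ 0)) 0 * al (u ^ p ^ 0) (v ^ p ^ 0) = 0 := by
      rw [map_sub, h0, sub_self, map_zero, zero_mul, add_zero]
    exact sub_eq_zero.mp (coord_zero _ _ (huvj 0) h2 _ _ h1).1
  · rintro ⟨x, hx⟩
    rw [mem_prePerf_iff] at hx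
    choose a b hab using fun j => exists_repr_tw p u v j (x j)
    -- compare coordinates
    have key : ∀ j, a j = a (j + 1) ∧
        b j - (v ^ (p - 1)) ^ p ^ j * b (j + 1) ∈ Ideal.span {u ^ p ^ j} := by
      intro j
      have h1 := congrArg (psi p u v j) (hx j)
      rw [hab (j + 1), relFrob_repr p u v hp, psi_repr] at h1
      conv_rhs at h1 => rw [hab j, psi_repr]
      have h3 : algebraMap R (Bq (u ^ p ^ j) (v ^ p ^ j)) (a j - a (j + 1)) +
          algebraMap R (Bq (u ^ p ^ j) (v ^ p ^ j)) (b j - (v ^ (p - 1)) ^ p ^ j * b (j + 1)) *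
            al (u ^ p ^ j) (v ^ p ^ j) = 0 := by
        rw [map_sub, map_sub, sub_mul]
        linear_combination -h1
      obtain ⟨e1, e2⟩ := coord_zero _ _ (huvj j) h2 _ _ h3
      exact ⟨sub_eq_zero.mp e1, e2⟩
    have ha : ∀ j, a j = a 0 := by
      intro j
      induction j with
      | zero => rfl
      | succ j ih => rw [← (key j).1, ih]
    have hb : ∀ n j, b j ∈ Ideal.span {v ^ n} ⊔ Ideal.span {u ^ p ^ j} := by
      intro n
      induction n with
      | zero =>
        intro j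
        rw [pow_zero, Ideal.span_singleton_one, top_sup_eq]
        trivial
      | succ n ih =>
        intro j
        obtain ⟨y, hy, z, hz, hyz⟩ := Submodule.mem_sup.mp (ih (j + 1))
        obtain ⟨y', rfl⟩ := Ideal.mem_span_singleton'.mp hy
        obtain ⟨z', rfl⟩ := Ideal.mem_span_singleton'.mp hz
        obtain ⟨w', hw'⟩ := Ideal.mem_span_singleton'.mp (key j).2
        have hpos : 1 ≤ (p - 1) * p ^ j := by
          have h2p : 2 ≤ p := (Fact.out : p.Prime).two_le
          have h1 : 1 ≤ p - 1 := by omega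
          have h2 : 1 ≤ p ^ j := Nat.one_le_pow _ _ (by omega)
          calc 1 = 1 * 1 := rfl
            _ ≤ (p - 1) * p ^ j := Nat.mul_le_mul h1 h2
        obtain ⟨m, hm⟩ : ∃ m, (p - 1) * p ^ j = m + 1 := ⟨(p - 1) * p ^ j - 1, by omega⟩
        have hc : (v ^ (p - 1)) ^ p ^ j = v ^ m * v := by
          rw [← pow_mul, hm, pow_succ]
        have hbj : b j = (v ^ m * y') * v ^ (n + 1) +
            (w' + v ^ m * v * z' * u ^ (p ^ j * (p - 1))) * u ^ p ^ j := by
          have e1 : u ^ p ^ (j + 1) = u ^ (p ^ j * (p - 1)) * u ^ p ^ j := by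
            rw [← pow_add]
            congr 1
            rw [pow_succ]
            have : 1 ≤ p := (Fact.out : p.Prime).one_le
            obtain ⟨q, hq⟩ : ∃ q, p = q + 1 := ⟨p - 1, by omega⟩
            rw [hq]
            simp
            ring
          have e2 : b j = (v ^ (p - 1)) ^ p ^ j * b (j + 1) + w' * u ^ p ^ j := by
            rw [hw']
            ring
          rw [e2, ← hyz, hc, e1, pow_succ]
          ring
        rw [hbj]
        exact Submodule.add_mem_sup (Ideal.mem_span_singleton'.mpr ⟨_, rfl⟩)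
          (Ideal.mem_span_singleton'.mpr ⟨_, rfl⟩)
    have hb0 : ∀ j, b j ∈ Ideal.span {u ^ p ^ j} := fun j =>
      hsep (p ^ j) (Nat.one_le_pow _ _ (Fact.out : p.Prime).pos) (b j) (fun n => hb n j)
    refine ⟨a 0, ?_⟩
    apply Subtype.ext
    funext j
    rw [algebraMap_prePerf_apply]
    show _ = x j
    rw [hab j, tmul_alS_eq_zero p u v j (b j) (hb0 j), add_zero, ha j]

end Final

end Groth.Agent.H6.PrePerf
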