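import Mathlib
set_option autoImplicit false
set_option linter.style.haveILetI false
universe u

namespace Groth.Agent.H6.ProCompl
open CategoryTheory ProfiniteGrp ProfiniteGrp.ProfiniteCompletion

variable {G : Type u} [Group G]

/-- coordinates of an element of the completion -/
def proj (H : FiniteIndexNormalSubgroup G) (x : completion (GrpCat.of G)) : G ⧸ H.toSubgroup :=
  x.1 H

lemma proj_eta (H : FiniteIndexNormalSubgroup G) (g : G) :
    proj H (etaFn (GrpCat.of G) g) = QuotientGroup.mk g := rfl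

lemma proj_one (H : FiniteIndexNormalSubgroup G) : proj H (1 : completion (GrpCat.of G)) = 1 := rfl

lemma ext_proj {x y : completion (GrpCat.of G)} (h : ∀ H, proj H x = proj H y) : x = y :=
  Subtype.ext (funext h)

lemma proj_compat {H K : FiniteIndexNormalSubgroup G} (h : H ≤ K) (x : completion (GrpCat.of G)) :
    QuotientGroup.map H.toSubgroup K.toSubgroup (MonoidHom.id G) h (proj H x) = proj K x :=
  x.2 (homOfLE h)

lemma proj_of_le {H K : FiniteIndexNormalSubgroup G} (h : H ≤ K) (x : completion (GrpCat.of G))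
    (a : G) (ha : proj H x = QuotientGroup.mk a) : proj K x = QuotientGroup.mk a := by
  rw [← proj_compat h x, ha]; rfl

lemma isOpen_proj_eq (H : FiniteIndexNormalSubgroup G) (a : G ⧸ H.toSubgroup) :
    IsOpen {x : completion (GrpCat.of G) | proj H x = a} := by
  have h1 : Continuous (fun x : completion (GrpCat.of G) => x.1 H) :=
    (continuous_apply H).comp continuous_subtype_val
  haveI : DiscreteTopology ((ProfiniteCompletion.diagram (GrpCat.of G)).obj H) := ⟨rfl⟩
  exact h1.isOpen_preimage {a} (isOpen_discrete _)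


section map
variable {G₁ G₂ : Type u} [Group G₁] [Group G₂] (f : G₁ →* G₂)

/-- the induced map on completions -/
noncomputable def cmap : completion (GrpCat.of G₁) →ₜ* completion (GrpCat.of G₂) :=
  (profiniteCompletion.map (GrpCat.ofHom f)).hom

lemma cmap_eta (g : G₁) :
    cmap f (etaFn (GrpCat.of G₁) g) = etaFn (GrpCat.of G₂) (f g) := by
  have h := lift_eta (GrpCat.ofHom f ≫ eta (GrpCat.of G₂))
  exact ConcreteCategory.congr_hom h g

lemma continuous_cmap : Continuous (cmap f) := (cmap f).continuous_toFun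

/-- coordinates of the image -/
lemma proj_cmap (K : FiniteIndexNormalSubgroup G₂) (x : completion (GrpCat.of G₁)) :
    proj K (cmap f x) =
      QuotientGroup.map (K.comap f).toSubgroup K.toSubgroup f (fun _ h => h) (proj (K.comap f) x) := by
  haveI : DiscreteTopology ((ProfiniteCompletion.diagram (GrpCat.of G₂)).obj K) := ⟨rfl⟩
  haveI : DiscreteTopology ((ProfiniteCompletion.diagram (GrpCat.of G₁)).obj (K.comap f)) := ⟨rfl⟩
  have h1 : Continuous (fun x : completion (GrpCat.of G₁) => (cmap f x).1 K) :=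
    ((continuous_apply K).comp continuous_subtype_val).comp (continuous_cmap f)
  let F : ((ProfiniteCompletion.diagram (GrpCat.of G₁)).obj (K.comap f)) →
      ((ProfiniteCompletion.diagram (GrpCat.of G₂)).obj K) :=
    fun a => QuotientGroup.map (K.comap f).toSubgroup K.toSubgroup f (fun _ h => h) a
  have hF : Continuous F := continuous_of_discreteTopology
  have h3 : Continuous (fun x : completion (GrpCat.of G₁) => x.1 (K.comap f)) :=
    (continuous_apply (K.comap f)).comp continuous_subtype_val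
  have h2 : Continuous (fun x : completion (GrpCat.of G₁) => F (x.1 (K.comap f))) := hF.comp h3
  have := (denseRange (G := GrpCat.of G₁)).equalizer h1 h2 (by
    funext g
    show proj K (cmap f (etaFn _ g)) = _
    rw [cmap_eta]
    rfl)
  exact congrFun this x

lemma proj_cmap_mk (K : FiniteIndexNormalSubgroup G₂) (x : completion (GrpCat.of G₁)) (a : G₁)
    (ha : proj (K.comap f) x = QuotientGroup.mk a) :
    proj K (cmap f x) = QuotientGroup.mk (f a) := by
  rw [proj_cmap, ha]; rfl

lemma cmap_surjective (hf : Function.Surjective f) : Function.Surjective (cmap f) := by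
  have hcl : IsClosed (Set.range (cmap f)) := (isCompact_range (continuous_cmap f)).isClosed
  have hdense : Dense (Set.range (cmap f)) := by
    refine (denseRange (G := GrpCat.of G₂)).mono ?_
    rintro _ ⟨g, rfl⟩
    obtain ⟨g₁, rfl⟩ := hf g
    exact ⟨etaFn _ g₁, cmap_eta f g₁⟩
  rw [← Set.range_eq_univ, ← hcl.closure_eq, hdense.closure_eq]

end map

section exact
variable {G : Type u} [Group G] (N : Subgroup G) [N.Normal]

lemma cmap_comp_eq_one (y : completion (GrpCat.of N)) :
    cmap (QuotientGroup.mk' N) (cmap N.subtype y) = 1 := by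
  have hcl : IsClosed {y : completion (GrpCat.of N) |
      cmap (QuotientGroup.mk' N) (cmap N.subtype y) = 1} :=
    isClosed_eq ((continuous_cmap _).comp (continuous_cmap _)) continuous_const
  have hsub : Set.range (etaFn (GrpCat.of N)) ⊆ {y : completion (GrpCat.of N) |
      cmap (QuotientGroup.mk' N) (cmap N.subtype y) = 1} := by
    rintro _ ⟨n, rfl⟩
    show cmap (QuotientGroup.mk' N) (cmap N.subtype (etaFn _ n)) = 1
    rw [cmap_eta, cmap_eta]
    have : (QuotientGroup.mk' N) (N.subtype n) = 1 := by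
      rw [QuotientGroup.mk'_apply, QuotientGroup.eq_one_iff]; exact n.2
    rw [this]
    rfl
  have := (denseRange (G := GrpCat.of N)).closure_eq ▸ hcl.closure_subset_iff.mpr hsub
  exact this (Set.mem_univ y)

/-- coordinates of an element of the kernel come from `N` -/
lemma exists_mem_of_ker (x : completion (GrpCat.of G)) (hx : cmap (QuotientGroup.mk' N) x = 1)
    (H : FiniteIndexNormalSubgroup G) : ∃ n : N, proj H x = QuotientGroup.mk (n : G) := by
  obtain ⟨a, ha⟩ := QuotientGroup.mk_surjective (proj H x)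
  set q := QuotientGroup.mk' N with hq
  have hqs : Function.Surjective q := QuotientGroup.mk'_surjective N
  haveI : (Subgroup.map q H.toSubgroup).Normal := Subgroup.Normal.map inferInstance q hqs
  haveI : (Subgroup.map q H.toSubgroup).FiniteIndex := by
    constructor
    intro h0
    have := Subgroup.index_map_dvd H.toSubgroup hqs
    rw [h0, zero_dvd_iff] at this
    exact Subgroup.FiniteIndex.index_ne_zero this
  set K : FiniteIndexNormalSubgroup (G ⧸ N) :=
    FiniteIndexNormalSubgroup.ofSubgroup (Subgroup.map q H.toSubgroup) with hK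
  have hle : H ≤ K.comap q := by
    intro g hg
    show q g ∈ Subgroup.map q H.toSubgroup
    exact Subgroup.mem_map_of_mem q hg
  have h1 := proj_cmap_mk q K x a (proj_of_le hle x a ha.symm)
  rw [hx, proj_one] at h1
  have h2 : q a ∈ Subgroup.map q H.toSubgroup := by
    have := (QuotientGroup.eq_one_iff (N := K.toSubgroup) (q a)).mp h1.symm
    exact this
  obtain ⟨h, hh, hqa⟩ := h2
  have hn : a * h⁻¹ ∈ N := by
    rw [← QuotientGroup.eq_one_iff, QuotientGroup.mk_mul, QuotientGroup.mk_inv]
    have : (QuotientGroup.mk h : G ⧸ N) = QuotientGroup.mk a := hqa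
    rw [this, mul_inv_cancel]
  refine ⟨⟨a * h⁻¹, hn⟩, ?_⟩
  rw [← ha]
  show (QuotientGroup.mk a : G ⧸ H.toSubgroup) = QuotientGroup.mk (a * h⁻¹)
  rw [QuotientGroup.eq]
  have : a⁻¹ * (a * h⁻¹) = h⁻¹ := by group
  rw [this]
  exact inv_mem hh

lemma mem_range_of_ker (x : completion (GrpCat.of G)) (hx : cmap (QuotientGroup.mk' N) x = 1) :
    ∃ y : completion (GrpCat.of N), cmap N.subtype y = x := by
  let t : FiniteIndexNormalSubgroup G → Set (completion (GrpCat.of N)) :=
    fun H => {y | proj H (cmap N.subtype y) = proj H x}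
  have hcl : ∀ H, IsClosed (t H) := by
    intro H
    have hopen : IsOpen {z : completion (GrpCat.of G) | proj H z = proj H x} := isOpen_proj_eq H _
    have hclosed : IsClosed {z : completion (GrpCat.of G) | proj H z = proj H x} := by
      rw [← isOpen_compl_iff]
      have : {z : completion (GrpCat.of G) | proj H z = proj H x}ᶜ =
          ⋃ a ∈ {a : G ⧸ H.toSubgroup | a ≠ proj H x}, {z | proj H z = a} := by
        ext z
        simp
      rw [this]
      exact isOpen_biUnion (fun a _ => isOpen_proj_eq H a)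
    exact hclosed.preimage (continuous_cmap N.subtype)
  have hne : ∀ H, (t H).Nonempty := by
    intro H
    obtain ⟨n, hn⟩ := exists_mem_of_ker N x hx H
    refine ⟨etaFn _ n, ?_⟩
    show proj H (cmap N.subtype (etaFn _ n)) = proj H x
    rw [cmap_eta, hn]
    rfl
  have hdir : Directed (· ⊇ ·) t := by
    intro H₁ H₂
    refine ⟨H₁ ⊓ H₂, ?_, ?_⟩
    · intro y hy
      show proj H₁ (cmap N.subtype y) = proj H₁ x
      rw [← proj_compat (inf_le_left : H₁ ⊓ H₂ ≤ H₁), ← proj_compat (inf_le_left : H₁ ⊓ H₂ ≤ H₁) x]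
      exact congrArg _ hy
    · intro y hy
      show proj H₂ (cmap N.subtype y) = proj H₂ x
      rw [← proj_compat (inf_le_right : H₁ ⊓ H₂ ≤ H₂), ← proj_compat (inf_le_right : H₁ ⊓ H₂ ≤ H₂) x]
      exact congrArg _ hy
  haveI : Nonempty (FiniteIndexNormalSubgroup G) := ⟨FiniteIndexNormalSubgroup.ofSubgroup ⊤⟩
  obtain ⟨y, hy⟩ := IsCompact.nonempty_iInter_of_directed_nonempty_isCompact_isClosed t hdir hne
    (fun H => (hcl H).isCompact) hcl
  refine ⟨y, ext_proj (fun H => ?_)⟩
  exact Set.mem_iInter.mp hy H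

end exact


theorem main13379 (A : Type u) [CommGroup A] (A' : Subgroup A) :
    Function.Surjective (ProfiniteGrp.profiniteCompletion.map (GrpCat.ofHom (QuotientGroup.mk' A'))).hom ∧
      (ProfiniteGrp.profiniteCompletion.map (GrpCat.ofHom (QuotientGroup.mk' A'))).hom.toMonoidHom.ker =
        (ProfiniteGrp.profiniteCompletion.map (GrpCat.ofHom A'.subtype)).hom.toMonoidHom.range := by
  refine ⟨cmap_surjective (QuotientGroup.mk' A') (QuotientGroup.mk'_surjective A'), ?_⟩
  ext x
  constructor
  · intro hx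
    obtain ⟨y, hy⟩ := mem_range_of_ker A' x hx
    exact ⟨y, hy⟩
  · rintro ⟨y, rfl⟩
    exact cmap_comp_eq_one A' y

section inj


/-- separating a nontrivial element of an abelian group of finite exponent by a finite-index
subgroup -/
lemma char_sep (E : Type u) [CommGroup E] (M : ℕ) (hM : 0 < M) (hexp : ∀ e : E, e ^ M = 1)
    (x : E) (hx : x ≠ 1) : ∃ H : Subgroup E, H.FiniteIndex ∧ x ∉ H := by
  have hx' : Additive.ofMul x ≠ (0 : Additive E) := fun h => hx (by simpa using h)
  obtain ⟨c, hc⟩ := CharacterModule.exists_character_apply_ne_zero_of_ne_zero hx'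
  let c' : Additive E →+ AddCircle (1 : ℚ) := c
  let φ : E →* Multiplicative (AddCircle (1 : ℚ)) := AddMonoidHom.toMultiplicativeRight c'
  have hfin : (Set.range φ).Finite := by
    have h1 := AddCircle.finite_torsion (1 : ℚ) hM
    refine (h1.image Multiplicative.ofAdd).subset ?_
    rintro _ ⟨e, rfl⟩
    refine ⟨c' (Additive.ofMul e), ?_, rfl⟩
    show M • c' (Additive.ofMul e) = 0
    rw [← map_nsmul, ← ofMul_pow, hexp e]
    simp
  haveI : Finite φ.range := hfin.to_subtype
  refine ⟨φ.ker, inferInstance, ?_⟩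
  intro hmem
  apply hc
  have : φ x = 1 := hmem
  exact Multiplicative.ofAdd.injective this


/-- a finite subgroup `F` of an abelian group `B` such that the torsion of `B ⧸ F` has bounded
exponent meets some finite-index subgroup trivially -/
lemma exists_finiteIndex_disjoint (B : Type u) [CommGroup B] (F : Subgroup B) [Finite F]
    (N : ℕ) (hN : 0 < N) (htors : ∀ b : B, (∃ k : ℕ, 0 < k ∧ b ^ k ∈ F) → b ^ N ∈ F) :
    ∃ H : Subgroup B, H.FiniteIndex ∧ ∀ x ∈ F, x ∈ H → x = 1 := by
  classical
  set m := Nat.card F with hm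
  have hmpos : 0 < m := Nat.card_pos
  set M := N * m with hMdef
  have hM : 0 < M := Nat.mul_pos hN hmpos
  have hFpow : ∀ x ∈ F, x ^ m = 1 := by
    intro x hx
    have h1 : (⟨x, hx⟩ : F) ^ Nat.card F = 1 := pow_card_eq_one'
    have h2 : (((⟨x, hx⟩ : F) ^ Nat.card F : F) : B) = ((1 : F) : B) := congrArg Subtype.val h1
    rwa [Subgroup.coe_pow, Subgroup.coe_one] at h2
  -- separate each nontrivial element of `F`
  have hsep : ∀ x : F, (x : B) ≠ 1 → ∃ H : Subgroup B, H.FiniteIndex ∧ (x : B) ∉ H := by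
    intro x hx
    set R : Subgroup B := (powMonoidHom M : B →* B).range with hR
    have hxR : (x : B) ∉ R := by
      rintro ⟨y, hy⟩
      apply hx
      have hy' : y ^ M = (x : B) := hy
      have h1 : y ^ N ∈ F := htors y ⟨M, hM, by rw [hy']; exact x.2⟩
      have h2 := hFpow _ h1
      rw [← hy', hMdef, pow_mul]
      exact h2
    have hexp : ∀ e : B ⧸ R, e ^ M = 1 := by
      intro e
      obtain ⟨b, rfl⟩ := QuotientGroup.mk_surjective e
      rw [← QuotientGroup.mk_pow, QuotientGroup.eq_one_iff]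
      exact ⟨b, rfl⟩
    have hx1 : (QuotientGroup.mk (x : B) : B ⧸ R) ≠ 1 := by
      rw [Ne, QuotientGroup.eq_one_iff]; exact hxR
    obtain ⟨H, hH, hxH⟩ := char_sep (B ⧸ R) M hM hexp _ hx1
    refine ⟨H.comap (QuotientGroup.mk' R), ⟨?_⟩, hxH⟩
    rw [Subgroup.index_comap_of_surjective H (QuotientGroup.mk'_surjective R)]
    exact hH.index_ne_zero
  choose Hx hHx1 hHx2 using hsep
  set Hbar : Subgroup B := ⨅ x : {x : F // (x : B) ≠ 1}, Hx x.1 x.2 with hHbar
  refine ⟨Hbar, Subgroup.finiteIndex_iInf (fun x => hHx1 x.1 x.2), ?_⟩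
  intro x hxF hxH
  by_contra hne
  have : x ∈ Hx ⟨x, hxF⟩ hne := by
    rw [hHbar, Subgroup.mem_iInf] at hxH
    exact hxH ⟨⟨x, hxF⟩, hne⟩
  exact hHx2 ⟨x, hxF⟩ hne this


/-- cofinality of the restricted finite-index subgroups -/
lemma exists_comap_le (A : Type u) [CommGroup A] (A' : Subgroup A)
    (htors : ∃ N : ℕ, 0 < N ∧ ∀ x : A ⧸ A', IsOfFinOrder x → x ^ N = 1)
    (H' : FiniteIndexNormalSubgroup A') :
    ∃ H : FiniteIndexNormalSubgroup A, H.comap A'.subtype ≤ H' := by
  classical
  obtain ⟨N, hN, hNt⟩ := htors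
  set P : Subgroup A := H'.toSubgroup.map A'.subtype with hP
  have hPle : P ≤ A' := by
    rintro _ ⟨h, -, rfl⟩
    exact h.2
  set π : A →* A ⧸ P := QuotientGroup.mk' P with hπ
  set F : Subgroup (A ⧸ P) := A'.map π with hF
  set ρ : A ⧸ P →* A ⧸ A' := QuotientGroup.map P A' (MonoidHom.id A) hPle with hρ
  have hρF : ∀ b : A ⧸ P, b ∈ F ↔ ρ b = 1 := by
    intro b
    obtain ⟨a, rfl⟩ := QuotientGroup.mk_surjective b
    have h1 : ρ (QuotientGroup.mk a) = QuotientGroup.mk a := rfl
    rw [h1, QuotientGroup.eq_one_iff]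
    constructor
    · rintro ⟨a', ha', h⟩
      have h2 : (QuotientGroup.mk a' : A ⧸ P) = QuotientGroup.mk a := h
      rw [QuotientGroup.eq] at h2
      have := mul_mem ha' (hPle h2)
      rwa [mul_inv_cancel_left] at this
    · intro ha
      exact ⟨a, ha, rfl⟩
  haveI : Finite F := by
    -- `F` is the image of the finite group `A' ⧸ H'`
    let ψ : A' →* A ⧸ P := π.comp A'.subtype
    have hker : H'.toSubgroup ≤ ψ.ker := by
      intro h hh
      rw [MonoidHom.mem_ker]
      show (QuotientGroup.mk (h : A) : A ⧸ P) = 1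
      rw [QuotientGroup.eq_one_iff]
      exact ⟨h, hh, rfl⟩
    let L : A' ⧸ H'.toSubgroup →* A ⧸ P := QuotientGroup.lift H'.toSubgroup ψ hker
    have hsub : (F : Set (A ⧸ P)) ⊆ Set.range L := by
      rintro _ ⟨a', ha', rfl⟩
      exact ⟨QuotientGroup.mk ⟨a', ha'⟩, rfl⟩
    exact ((Set.finite_range L).subset hsub).to_subtype
  obtain ⟨Hbar, hfi, hdisj⟩ := exists_finiteIndex_disjoint (A ⧸ P) F N hN (by
    rintro b ⟨k, hk, hbk⟩
    rw [hρF] at hbk ⊢
    rw [map_pow] at hbk ⊢
    exact hNt _ (isOfFinOrder_iff_pow_eq_one.mpr ⟨k, hk, hbk⟩))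
  haveI : (Hbar.comap π).FiniteIndex := ⟨by
    rw [Subgroup.index_comap_of_surjective Hbar (QuotientGroup.mk'_surjective P)]
    exact hfi.index_ne_zero⟩
  refine ⟨FiniteIndexNormalSubgroup.ofSubgroup (Hbar.comap π), ?_⟩
  intro a' ha'
  have h1 : π (a' : A) ∈ Hbar := ha'
  have h2 : π (a' : A) ∈ F := ⟨a', a'.2, rfl⟩
  have h3 := hdisj _ h2 h1
  have h4 : (a' : A) ∈ P := by
    rw [← QuotientGroup.eq_one_iff]; exact h3
  obtain ⟨h, hh, hha⟩ := h4
  have : h = a' := Subtype.ext hha
  rw [← this]
  exact hh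


theorem main13378 (A : Type u) [CommGroup A] (A' : Subgroup A)
    (htors : ∃ N : ℕ, 0 < N ∧ ∀ x : A ⧸ A', IsOfFinOrder x → x ^ N = 1) :
    Function.Injective (ProfiniteGrp.profiniteCompletion.map (GrpCat.ofHom A'.subtype)).hom := by
  show Function.Injective (cmap A'.subtype)
  rw [injective_iff_map_eq_one]
  intro y hy
  apply ext_proj
  intro H'
  rw [proj_one]
  obtain ⟨H, hH⟩ := exists_comap_le A A' htors H'
  have h1 := proj_cmap A'.subtype H y
  rw [hy, proj_one] at h1
  obtain ⟨a', ha'⟩ := QuotientGroup.mk_surjective (proj (H.comap A'.subtype) y)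
  have h2 : proj (H.comap A'.subtype) y = 1 := by
    rw [← ha'] at h1 ⊢
    have h3 : (QuotientGroup.mk (a' : A) : A ⧸ H.toSubgroup) = 1 := h1.symm
    rw [QuotientGroup.eq_one_iff] at h3 ⊢
    exact h3
  rw [← proj_compat hH y, h2, map_one]

end inj

end Groth.Agent.H6.ProCompl
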