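import Mathlib
import Groth.Prelude.Def_ArtFun4
import Groth.Agent.S0543
import Groth.Agent.Lib.Helper6.ArtFun

/-!
# The completion of a Noetherian `k`-algebra at a `k`-point pro-represents the local functor
(helper6)
-/

set_option autoImplicit false
universe u
open ArtFun ArtFun.Art

namespace Groth.Agent.H6.ProRepPt

variable {k : Type u} [Field k] (S : Type u) [CommRing S] [IsNoetherianRing S] [Algebra k S]
  (r₀ : S →ₐ[k] k)

theorem r₀_surjective : Function.Surjective r₀ := fun c => ⟨algebraMap k S c, r₀.commutes c⟩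

/-- the kernel of the point -/
def pt : Ideal S := RingHom.ker (r₀ : S →+* k)

instance : (pt S r₀).IsMaximal :=
  RingHom.ker_isMaximal_of_surjective (r₀ : S →+* k) (r₀_surjective S r₀)

/-- the completion -/
abbrev Rhat : Type u := AdicCompletion (pt S r₀) S

theorem fg_pt : (pt S r₀).FG := (pt S r₀).fg_of_isNoetherianRing

instance : ((pt S r₀).map (algebraMap S (Rhat S r₀))).IsMaximal :=
  AdicCompletion.isMaximal_map_of_le _ _ le_rfl (fg_pt S r₀)

instance : IsAdicComplete ((pt S r₀).map (algebraMap S (Rhat S r₀))) (Rhat S r₀) :=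
  AdicCompletion.isAdicComplete_self _ (fg_pt S r₀)

instance : IsLocalRing (Rhat S r₀) :=
  isLocalRing_of_isAdicComplete_maximal
    ((pt S r₀).map (algebraMap S (Rhat S r₀)))

instance : IsNoetherianRing (Rhat S r₀) := Groth.Agent.S0543.result S (pt S r₀)

theorem maximalIdeal_Rhat :
    IsLocalRing.maximalIdeal (Rhat S r₀) = (pt S r₀).map (algebraMap S (Rhat S r₀)) :=
  (IsLocalRing.eq_maximalIdeal inferInstance).symm

/-- the residue map of `S ⧸ pt` -/
noncomputable def rbar : (S ⧸ pt S r₀) →ₐ[k] k :=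
  Ideal.Quotient.liftₐ (pt S r₀) r₀ (fun a ha => ha)

/-- the augmentation of the completion -/
noncomputable def resHat : Rhat S r₀ →ₐ[k] k :=
  (rbar S r₀).comp ((AdicCompletion.evalOneₐ (pt S r₀)).restrictScalars k)

theorem resHat_of (s : S) : resHat S r₀ (algebraMap S (Rhat S r₀) s) = r₀ s := rfl

/-- the completion as a coefficient ring -/
noncomputable def cring : CRing k k where
  carrier := Rhat S r₀
  res := resHat S r₀
  res_surjective := fun c => ⟨algebraMap k (Rhat S r₀) c, (resHat S r₀).commutes c⟩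
  isAdicComplete := by
    rw [maximalIdeal_Rhat]
    infer_instance


section Ext

variable {S r₀}

/-- density of `S` in its completion -/
theorem exists_sub_mem (x : Rhat S r₀) (N : ℕ) :
    ∃ s : S, x - algebraMap S (Rhat S r₀) s ∈ (pt S r₀ ^ N • ⊤ : Submodule S (Rhat S r₀)) := by
  obtain ⟨s, hs⟩ := Ideal.Quotient.mk_surjective (AdicCompletion.evalₐ (pt S r₀) N x)
  refine ⟨s, ?_⟩
  rw [AdicCompletion.pow_smul_top_eq_ker_eval (fg_pt S r₀), LinearMap.mem_ker]
  have h1 : AdicCompletion.evalₐ (pt S r₀) N (x - algebraMap S (Rhat S r₀) s) = 0 := by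
    rw [map_sub]
    have h2 : AdicCompletion.evalₐ (pt S r₀) N (algebraMap S (Rhat S r₀) s) =
        Ideal.Quotient.mk _ s := AdicCompletion.evalₐ_of (pt S r₀) N s
    rw [h2, hs, sub_self]
  have h3 := AdicCompletion.factor_evalₐ_eq_eval (pt S r₀)
    (x - algebraMap S (Rhat S r₀) s) (n := N) (by simp)
  rw [← h3, h1, map_zero]

/-- a ring map out of the completion sending `pt` into `J` sends `pt ^ N • ⊤` into `J ^ N` -/
theorem map_mem_pow {T : Type u} [CommRing T] (θ : Rhat S r₀ →+* T) (J : Ideal T)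
    (hJ : ∀ a ∈ pt S r₀, θ (algebraMap S (Rhat S r₀) a) ∈ J) (N : ℕ) (y : Rhat S r₀)
    (hy : y ∈ (pt S r₀ ^ N • ⊤ : Submodule S (Rhat S r₀))) : θ y ∈ J ^ N := by
  have h1 : ∀ a ∈ pt S r₀ ^ N, θ (algebraMap S (Rhat S r₀) a) ∈ J ^ N := by
    intro a ha
    have h2 : (pt S r₀ ^ N).map (θ.comp (algebraMap S (Rhat S r₀))) ≤ J ^ N := by
      rw [Ideal.map_pow]
      refine Ideal.pow_right_mono ?_ N
      rw [Ideal.map_le_iff_le_comap]
      exact fun a ha => hJ a ha
    exact h2 (Ideal.mem_map_of_mem _ ha)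
  refine Submodule.smul_induction_on hy ?_ ?_
  · intro a ha z _
    rw [Algebra.smul_def, map_mul]
    exact Ideal.mul_mem_right _ _ (h1 a ha)
  · intro z w hz hw
    rw [map_add]
    exact Ideal.add_mem _ hz hw

variable (A : Art k k)

theorem map_pt_mem (ψ : S →ₐ[k] A) (hψ : A.res.comp ψ = r₀) (a : S) (ha : a ∈ pt S r₀) :
    ψ a ∈ IsLocalRing.maximalIdeal A := by
  rw [Art.mem_maximalIdeal_iff]
  have h1 : A.res (ψ a) = r₀ a := congrArg (fun f => f a) hψ
  rw [h1]
  exact ha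

/-- a pointed map out of the completion is determined by its restriction to `S` -/
theorem ext_of_comp (φ φ' : Rhat S r₀ →ₐ[k] A) (hφ : A.res.comp φ = resHat S r₀)
    (h : ∀ s, φ (algebraMap S (Rhat S r₀) s) = φ' (algebraMap S (Rhat S r₀) s)) : φ = φ' := by
  obtain ⟨N, hN⟩ := art_maximalIdeal_pow_eq_bot A
  have hpt : ∀ a ∈ pt S r₀, φ (algebraMap S (Rhat S r₀) a) ∈ IsLocalRing.maximalIdeal A := by
    intro a ha
    rw [Art.mem_maximalIdeal_iff]
    have h1 : A.res (φ (algebraMap S (Rhat S r₀) a)) = resHat S r₀ (algebraMap S (Rhat S r₀) a) :=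
      congrArg (fun f => f (algebraMap S (Rhat S r₀) a)) hφ
    rw [h1, resHat_of]
    exact ha
  have hpt' : ∀ a ∈ pt S r₀, φ' (algebraMap S (Rhat S r₀) a) ∈ IsLocalRing.maximalIdeal A := by
    intro a ha
    rw [← h a]
    exact hpt a ha
  apply AlgHom.ext
  intro x
  obtain ⟨s, hs⟩ := exists_sub_mem x N
  have h1 := map_mem_pow (φ : Rhat S r₀ →+* A) _ hpt N _ hs
  have h2 := map_mem_pow (φ' : Rhat S r₀ →+* A) _ hpt' N _ hs
  rw [hN, Ideal.mem_bot] at h1 h2
  have h3 : φ (x - algebraMap S (Rhat S r₀) s) = 0 := h1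
  have h4 : φ' (x - algebraMap S (Rhat S r₀) s) = 0 := h2
  rw [map_sub, sub_eq_zero] at h3 h4
  rw [h3, h4, h s]

/-- every pointed map out of `S` extends to the completion -/
theorem exists_extension (ψ : S →ₐ[k] A) (hψ : A.res.comp ψ = r₀) :
    ∃ φ : Rhat S r₀ →ₐ[k] A, A.res.comp φ = resHat S r₀ ∧
      ∀ s, φ (algebraMap S (Rhat S r₀) s) = ψ s := by
  obtain ⟨N, hN⟩ := art_maximalIdeal_pow_eq_bot A
  have hkill : ∀ a ∈ pt S r₀ ^ N, ψ a = 0 := by
    intro a ha
    have h2 : (pt S r₀ ^ N).map (ψ : S →+* A) ≤ IsLocalRing.maximalIdeal A ^ N := by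
      rw [Ideal.map_pow]
      refine Ideal.pow_right_mono ?_ N
      rw [Ideal.map_le_iff_le_comap]
      exact fun a ha => map_pt_mem A ψ hψ a ha
    have h3 := h2 (Ideal.mem_map_of_mem _ ha)
    rw [hN, Ideal.mem_bot] at h3
    exact h3
  let ψbar : (S ⧸ pt S r₀ ^ N) →ₐ[k] A := Ideal.Quotient.liftₐ (pt S r₀ ^ N) ψ hkill
  let φ : Rhat S r₀ →ₐ[k] A :=
    ψbar.comp ((AdicCompletion.evalₐ (pt S r₀) N).restrictScalars k)
  have hφof : ∀ s, φ (algebraMap S (Rhat S r₀) s) = ψ s := by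
    intro s
    show ψbar (AdicCompletion.evalₐ (pt S r₀) N (algebraMap S (Rhat S r₀) s)) = ψ s
    have h2 : AdicCompletion.evalₐ (pt S r₀) N (algebraMap S (Rhat S r₀) s) =
        Ideal.Quotient.mk _ s := AdicCompletion.evalₐ_of (pt S r₀) N s
    rw [h2]
    rfl
  refine ⟨φ, ?_, hφof⟩
  apply AlgHom.ext
  intro x
  obtain ⟨s, hs⟩ := exists_sub_mem x 1
  have hres : ∀ a ∈ pt S r₀, (A.res.comp φ : Rhat S r₀ →+* k) (algebraMap S (Rhat S r₀) a) ∈
      (⊥ : Ideal k) := by
    intro a ha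
    rw [Ideal.mem_bot]
    show A.res (φ (algebraMap S (Rhat S r₀) a)) = 0
    rw [hφof]
    have h1 : A.res (ψ a) = r₀ a := congrArg (fun f => f a) hψ
    rw [h1]
    exact ha
  have hres' : ∀ a ∈ pt S r₀, (resHat S r₀ : Rhat S r₀ →+* k) (algebraMap S (Rhat S r₀) a) ∈
      (⊥ : Ideal k) := by
    intro a ha
    rw [Ideal.mem_bot]
    show resHat S r₀ (algebraMap S (Rhat S r₀) a) = 0
    rw [resHat_of]
    exact ha
  have h1 := map_mem_pow (A.res.comp φ : Rhat S r₀ →+* k) _ hres 1 _ hs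
  have h2 := map_mem_pow (resHat S r₀ : Rhat S r₀ →+* k) _ hres' 1 _ hs
  rw [pow_one, Ideal.mem_bot] at h1 h2
  have h3 : (A.res.comp φ) (x - algebraMap S (Rhat S r₀) s) = 0 := h1
  have h4 : (resHat S r₀) (x - algebraMap S (Rhat S r₀) s) = 0 := h2
  rw [map_sub, sub_eq_zero] at h3 h4
  rw [h3, h4, resHat_of]
  show A.res (φ (algebraMap S (Rhat S r₀) s)) = r₀ s
  rw [hφof]
  exact congrArg (fun f => f s) hψ

end Ext

end Groth.Agent.H6.ProRepPt
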