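import Mathlib
import Groth.Prelude.Def_ArtFun4
import Groth.Agent.Lib.Helper6.ProRepPt1

/-!
# The local functor of a locally Noetherian scheme at a rational point is pro-representable
(helper6)
-/

set_option autoImplicit false
universe u
open CategoryTheory CategoryTheory.Limits AlgebraicGeometry ArtFun ArtFun.Art

namespace Groth.Agent.H6.ProRepPt

section Aff

variable {M : Scheme.{u}} {U : M.Opens} (hU : IsAffineOpen U)

theorem exists_eq_SpecMap_comp_fromSpec {A' : CommRingCat.{u}} (g : Spec A' ⟶ M)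
    (hg : Set.range g.base ⊆ (U : Set M)) : ∃ ψ : Γ(M, U) ⟶ A', Spec.map ψ ≫ hU.fromSpec = g := by
  have h1 : Set.range g.base ⊆ Set.range hU.fromSpec.base := by
    rw [hU.range_fromSpec]
    exact hg
  refine ⟨Spec.preimage (IsOpenImmersion.lift hU.fromSpec g h1), ?_⟩
  rw [Spec.map_preimage, IsOpenImmersion.lift_fac]

theorem SpecMap_comp_fromSpec_injective {A' : CommRingCat.{u}} (ψ ψ' : Γ(M, U) ⟶ A')
    (h : Spec.map ψ ≫ hU.fromSpec = Spec.map ψ' ≫ hU.fromSpec) : ψ = ψ' := by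
  apply Spec.map_injective
  exact (cancel_mono hU.fromSpec).mp h

end Aff


theorem subsingleton_primeSpectrum {k : Type u} [Field k] (A : Art k k) :
    Subsingleton (PrimeSpectrum A) := by
  refine ⟨fun p q => PrimeSpectrum.ext ?_⟩
  rw [IsLocalRing.eq_maximalIdeal (IsArtinianRing.isMaximal_of_isPrime p.asIdeal),
    IsLocalRing.eq_maximalIdeal (IsArtinianRing.isMaximal_of_isPrime q.asIdeal)]

theorem main {k : Type u} [Field k] (M : Scheme.{u}) (m : M ⟶ Spec (CommRingCat.of k))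
    [IsLocallyNoetherian M] (x₀ : Spec (CommRingCat.of k) ⟶ M) (hx₀ : x₀ ≫ m = 𝟙 _) :
    ∃ (R : ArtFun.CRing k k)
      (e : ∀ A : ArtFun.Art k k, ArtFun.HomSet R.carrier R.res A ≃
        {g : ArtFun.Art.spec A ⟶ M // g ≫ m = ArtFun.Art.specMap (ArtFun.Art.ofBase A) ∧
          ArtFun.Art.specRes A ≫ g = x₀}),
      ∀ (A B : ArtFun.Art k k) (h : A ⟶ B) (φ : ArtFun.HomSet R.carrier R.res A),
        ((e B) (ArtFun.HomSet.map h φ)).1 = ArtFun.Art.specMap h ≫ ((e A) φ).1 := by
  classical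
  let pt0 : Spec (CommRingCat.of k) := (⊥ : PrimeSpectrum k)
  have hpt0 : ∀ y : Spec (CommRingCat.of k), y = pt0 := fun y =>
    Subsingleton.elim (α := PrimeSpectrum k) y pt0
  let x : M := x₀.base pt0
  obtain ⟨U, hU, hxU, -⟩ :=
    exists_isAffineOpen_mem_and_subset (X := M) (x := x) (U := ⊤) trivial
  let S : Type u := Γ(M, U)
  haveI : IsNoetherianRing S := IsLocallyNoetherian.component_noetherian ⟨U, hU⟩
  let a : CommRingCat.of k ⟶ Γ(M, U) := Spec.preimage (hU.fromSpec ≫ m)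
  have ha : Spec.map a = hU.fromSpec ≫ m := Spec.map_preimage _
  letI : Algebra k S := a.hom.toAlgebra
  have halg : ∀ c : k, algebraMap k S c = a.hom c := fun c => rfl
  have hrange : Set.range x₀.base ⊆ (U : Set M) := by
    rintro _ ⟨y, rfl⟩
    rw [hpt0 y]
    exact hxU
  obtain ⟨ρ, hρ⟩ := exists_eq_SpecMap_comp_fromSpec hU x₀ hrange
  have haρ : a ≫ ρ = 𝟙 _ := by
    apply Spec.map_injective
    rw [Spec.map_comp, ha, ← Category.assoc, hρ, hx₀, Spec.map_id]
  let r₀ : S →ₐ[k] k :=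
    { toRingHom := ρ.hom
      commutes' := fun c => congrArg (fun f => f.hom c) haρ }
  have hr₀ : ∀ s : S, r₀ s = ρ.hom s := fun s => rfl
  -- the forward map
  have key1 : ∀ (A : Art k k) (ψ : S →ₐ[k] A),
      (Spec.map (CommRingCat.ofHom (ψ : S →+* A)) ≫ hU.fromSpec) ≫ m =
        Art.specMap (Art.ofBase A) := by
    intro A ψ
    rw [Category.assoc, ← ha, ← Spec.map_comp]
    congr 1
    ext c
    exact ψ.commutes c
  have key2 : ∀ (A : Art k k) (ψ : S →ₐ[k] A), A.res.comp ψ = r₀ →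
      Art.specRes A ≫ Spec.map (CommRingCat.ofHom (ψ : S →+* A)) ≫ hU.fromSpec = x₀ := by
    intro A ψ hψ
    rw [← Category.assoc, ← Spec.map_comp, ← hρ]
    congr 2
    ext s
    exact congrArg (fun f => f s) hψ
  let ofS : S →ₐ[k] Rhat S r₀ := IsScalarTower.toAlgHom k S (Rhat S r₀)
  have hofS : ∀ s, ofS s = algebraMap S (Rhat S r₀) s := fun s => rfl
  let fwd : ∀ A : Art k k, HomSet (cring S r₀).carrier (cring S r₀).res A →
      {g : Art.spec A ⟶ M // g ≫ m = Art.specMap (Art.ofBase A) ∧ Art.specRes A ≫ g = x₀} :=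
    fun A φ => ⟨Spec.map (CommRingCat.ofHom ((φ.1.comp ofS : S →ₐ[k] A) : S →+* A)) ≫ hU.fromSpec,
      key1 A _, key2 A _ (by
        have h1 : A.res.comp φ.1 = resHat S r₀ := φ.2
        rw [← AlgHom.comp_assoc, h1]
        ext s
        exact resHat_of S r₀ s)⟩
  have hinj : ∀ A, Function.Injective (fwd A) := by
    intro A φ φ' h
    have h1 := congrArg Subtype.val h
    have h2 := SpecMap_comp_fromSpec_injective hU _ _ h1
    apply Subtype.ext
    refine ext_of_comp A φ.1 φ'.1 φ.2 fun s => ?_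
    exact congrArg (fun f => f.hom s) h2
  have hsurj : ∀ A, Function.Surjective (fwd A) := by
    rintro A ⟨g, hg1, hg2⟩
    haveI := subsingleton_primeSpectrum A
    have hgr : Set.range g.base ⊆ (U : Set M) := by
      rintro _ ⟨y, rfl⟩
      have h1 : y = (Art.specRes A).base pt0 := Subsingleton.elim (α := PrimeSpectrum A) _ _
      rw [h1]
      have h2 : g.base ((Art.specRes A).base pt0) = x₀.base pt0 := by
        rw [← hg2]
        rfl
      rw [h2]
      exact hxU
    obtain ⟨ψ, hψ⟩ := exists_eq_SpecMap_comp_fromSpec hU g hgr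
    have h1 : a ≫ ψ = CommRingCat.ofHom (algebraMap k A) := by
      apply Spec.map_injective
      rw [Spec.map_comp, ha, ← Category.assoc, hψ, hg1]
      rfl
    let ψ' : S →ₐ[k] A :=
      { toRingHom := ψ.hom
        commutes' := fun c => congrArg (fun f => f.hom c) h1 }
    have h2 : ψ ≫ CommRingCat.ofHom (A.res : A →+* k) = ρ := by
      apply SpecMap_comp_fromSpec_injective hU
      rw [Spec.map_comp, Category.assoc, hψ, hρ]
      exact hg2
    have h3 : A.res.comp ψ' = r₀ := by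
      ext s
      exact congrArg (fun f => f.hom s) h2
    obtain ⟨φ, hφ1, hφ2⟩ := exists_extension A ψ' h3
    refine ⟨⟨φ, hφ1⟩, Subtype.ext ?_⟩
    show Spec.map (CommRingCat.ofHom ((φ.comp ofS : S →ₐ[k] A) : S →+* A)) ≫ hU.fromSpec = g
    rw [← hψ]
    congr 2
    ext s
    exact hφ2 s
  refine ⟨cring S r₀, fun A => Equiv.ofBijective (fwd A) ⟨hinj A, hsurj A⟩, ?_⟩
  intro A B h φ
  show Spec.map (CommRingCat.ofHom (((HomSet.map h φ).1.comp ofS : S →ₐ[k] B) : S →+* B)) ≫
      hU.fromSpec = Art.specMap h ≫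
      Spec.map (CommRingCat.ofHom ((φ.1.comp ofS : S →ₐ[k] A) : S →+* A)) ≫ hU.fromSpec
  rw [← Category.assoc, ← Spec.map_comp]
  rfl

end Groth.Agent.H6.ProRepPt
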