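import Mathlib

set_option autoImplicit false
set_option linter.unusedSectionVars false
universe u

namespace Groth.Agent.H6.ProjPlane

variable {A : Type u} [CommRing A]

def d3 (u v w : Fin 3 → A) : A :=
  u 0 * (v 1 * w 2 - v 2 * w 1) - u 1 * (v 0 * w 2 - v 2 * w 0) + u 2 * (v 0 * w 1 - v 1 * w 0)

theorem det_eq (u v w : Fin 3 → A) : Matrix.det (Matrix.of ![u, v, w]) = d3 u v w := by
  rw [Matrix.det_fin_three]
  simp [d3]
  ring

def dt (X n : Fin 3 → A) : A := X 0 * n 0 + X 1 * n 1 + X 2 * n 2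

theorem dot_eq (X n : Fin 3 → A) : dotProduct X n = dt X n := by
  simp [dotProduct, Fin.sum_univ_three, dt]

def UC (v : Fin 3 → A) : Prop := ∃ i, IsUnit (v i)

def cr (P Q : Fin 3 → A) : Fin 3 → A :=
  ![P 1 * Q 2 - P 2 * Q 1, P 2 * Q 0 - P 0 * Q 2, P 0 * Q 1 - P 1 * Q 0]

@[simp] theorem cr_zero (P Q : Fin 3 → A) : cr P Q 0 = P 1 * Q 2 - P 2 * Q 1 := rfl
@[simp] theorem cr_one (P Q : Fin 3 → A) : cr P Q 1 = P 2 * Q 0 - P 0 * Q 2 := rfl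
@[simp] theorem cr_two (P Q : Fin 3 → A) : cr P Q 2 = P 0 * Q 1 - P 1 * Q 0 := rfl

def Sim (X Y : Fin 3 → A) : Prop := ∃ μ : A, IsUnit μ ∧ X = μ • Y

theorem dt_comm (X Y : Fin 3 → A) : dt X Y = dt Y X := by
  simp only [dt]; ring

theorem dt_smul_left (a : A) (X Y : Fin 3 → A) : dt (a • X) Y = a * dt X Y := by
  simp only [dt, Pi.smul_apply, smul_eq_mul]; ring

theorem dt_smul_right (a : A) (X Y : Fin 3 → A) : dt X (a • Y) = a * dt X Y := by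
  simp only [dt, Pi.smul_apply, smul_eq_mul]; ring

theorem prop_of_perp (n P Q : Fin 3 → A) (hn : UC n) (hP : dt P n = 0) (hQ : dt Q n = 0)
    (hc : UC (cr P Q)) : Sim n (cr P Q) := by
  have h01 : n 0 * cr P Q 1 = n 1 * cr P Q 0 := by
    simp only [dt] at hP hQ
    simp only [cr_zero, cr_one]
    linear_combination (P 2) * hQ - (Q 2) * hP
  have h12 : n 1 * cr P Q 2 = n 2 * cr P Q 1 := by
    simp only [dt] at hP hQ
    simp only [cr_two, cr_one]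
    linear_combination (P 0) * hQ - (Q 0) * hP
  have h20 : n 2 * cr P Q 0 = n 0 * cr P Q 2 := by
    simp only [dt] at hP hQ
    simp only [cr_zero, cr_two]
    linear_combination (P 1) * hQ - (Q 1) * hP
  have hall : ∀ i j : Fin 3, n i * cr P Q j = n j * cr P Q i := by
    intro i j
    fin_cases i <;> fin_cases j <;> first | rfl | assumption | (symm; assumption)
  obtain ⟨j, hj⟩ := hc
  obtain ⟨c', hc'⟩ := hj.exists_left_inv
  have hrep : ∀ i, n i = (n j * c') * cr P Q i := by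
    intro i
    calc n i = c' * (n i * cr P Q j) := by rw [mul_comm (n i), ← mul_assoc, hc', one_mul]
      _ = _ := by rw [hall i j]; ring
  refine ⟨n j * c', ?_, funext fun i => by rw [hrep i]; rfl⟩
  obtain ⟨i, hi⟩ := hn
  rw [hrep i] at hi
  exact isUnit_of_mul_isUnit_left hi

theorem line_eq (n P Q P' Q' X : Fin 3 → A) (hn : UC n) (hP : dt P n = 0) (hQ : dt Q n = 0)
    (hX : dt X n = 0) (hPP : Sim P P') (hQQ : Sim Q Q') (hc : UC (cr P' Q')) :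
    dt X (cr P' Q') = 0 := by
  obtain ⟨a, ha, rfl⟩ := hPP
  obtain ⟨b, hb, rfl⟩ := hQQ
  rw [dt_smul_left] at hP hQ
  have hP' : dt P' n = 0 := (ha.mul_right_eq_zero).mp hP
  have hQ' : dt Q' n = 0 := (hb.mul_right_eq_zero).mp hQ
  obtain ⟨μ, hμ, hnμ⟩ := prop_of_perp n P' Q' hn hP' hQ' hc
  rw [hnμ, dt_smul_right] at hX
  exact (hμ.mul_right_eq_zero).mp hX

theorem meet_eq (X c c' : Fin 3 → A) (hX : UC X) (h1 : dt X c = 0) (h2 : dt X c' = 0)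
    (hm : UC (cr c c')) : Sim X (cr c c') :=
  prop_of_perp X c c' hX (by rw [dt_comm]; exact h1) (by rw [dt_comm]; exact h2) hm


theorem Sim.of_smul {X Y : Fin 3 → A} (a : A) (ha : IsUnit a) (h : Sim X (a • Y)) : Sim X Y := by
  obtain ⟨μ, hμ, rfl⟩ := h
  exact ⟨μ * a, hμ.mul ha, by rw [smul_smul]⟩

structure Good (p : ℕ) (σ : (Fin 3 → ZMod p) → (Fin 3 → A)) : Prop where
  pt : ∀ v, v ≠ 0 → UC (σ v)
  col : ∀ u v w, u ≠ 0 → v ≠ 0 → w ≠ 0 → d3 u v w = 0 →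
    ∃ n, UC n ∧ dt (σ u) n = 0 ∧ dt (σ v) n = 0 ∧ dt (σ w) n = 0

variable {p : ℕ} {σ : (Fin 3 → ZMod p) → (Fin 3 → A)}

theorem Good.meet (hσ : Good p σ) (T P Q P' Q' : Fin 3 → ZMod p) (hT : T ≠ 0) (hP : P ≠ 0)
    (hQ : Q ≠ 0) (hP' : P' ≠ 0) (hQ' : Q' ≠ 0) (h1 : d3 P Q T = 0) (h2 : d3 P' Q' T = 0)
    (a b a' b' : Fin 3 → A) (ha : Sim (σ P) a) (hb : Sim (σ Q) b) (ha' : Sim (σ P') a')
    (hb' : Sim (σ Q') b') (hc : UC (cr a b)) (hc' : UC (cr a' b'))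
    (hm : UC (cr (cr a b) (cr a' b'))) : Sim (σ T) (cr (cr a b) (cr a' b')) := by
  obtain ⟨n, hn, hnP, hnQ, hnT⟩ := hσ.col P Q T hP hQ hT h1
  obtain ⟨n', hn', hnP', hnQ', hnT'⟩ := hσ.col P' Q' T hP' hQ' hT h2
  exact meet_eq (σ T) _ _ (hσ.pt T hT) (line_eq n _ _ a b _ hn hnP hnQ hnT ha hb hc)
    (line_eq n' _ _ a' b' _ hn' hnP' hnQ' hnT' ha' hb' hc') hm

section core
variable [Fact p.Prime]

theorem ne0 (x y z : ZMod p) (h : x = 1 ∨ y = 1 ∨ z = 1) : (![x, y, z] : Fin 3 → ZMod p) ≠ 0 := by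
  intro h0
  have h0' := congrFun h0 0
  have h1' := congrFun h0 1
  have h2' := congrFun h0 2
  simp at h0' h1' h2'
  rcases h with h | h | h
  · rw [h] at h0'; exact one_ne_zero h0'
  · rw [h] at h1'; exact one_ne_zero h1'
  · rw [h] at h2'; exact one_ne_zero h2'

theorem core (hσ : Good p σ)
    (h0 : Sim (σ ![1, 0, 0]) ![1, 0, 0]) (h1 : Sim (σ ![0, 1, 0]) ![0, 1, 0])
    (h2 : Sim (σ ![0, 0, 1]) ![0, 0, 1]) (h3 : Sim (σ ![1, 1, 1]) ![1, 1, 1]) :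
    (p : A) = 0 := by
  -- σ(1,1,0) ~ (1,1,0)
  have h110 : Sim (σ ![1, 1, 0]) ![1, 1, 0] := by
    have := hσ.meet ![1, 1, 0] ![1, 0, 0] ![0, 1, 0] ![0, 0, 1] ![1, 1, 1]
      (ne0 _ _ _ (by simp)) (ne0 _ _ _ (by simp)) (ne0 _ _ _ (by simp)) (ne0 _ _ _ (by simp))
      (ne0 _ _ _ (by simp)) (by simp [d3]) (by simp [d3])
      ![1, 0, 0] ![0, 1, 0] ![0, 0, 1] ![1, 1, 1] h0 h1 h2 h3
      ⟨2, by simp⟩ ⟨1, by simp⟩ ⟨0, by simp⟩
    refine Sim.of_smul (-1) isUnit_one.neg ?_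
    convert this using 1
    ext i; fin_cases i <;> simp
  -- σ(0,1,1) ~ (0,1,1)
  have h011 : Sim (σ ![0, 1, 1]) ![0, 1, 1] := by
    have := hσ.meet ![0, 1, 1] ![0, 1, 0] ![0, 0, 1] ![1, 0, 0] ![1, 1, 1]
      (ne0 _ _ _ (by simp)) (ne0 _ _ _ (by simp)) (ne0 _ _ _ (by simp)) (ne0 _ _ _ (by simp))
      (ne0 _ _ _ (by simp)) (by simp [d3]) (by simp [d3])
      ![0, 1, 0] ![0, 0, 1] ![1, 0, 0] ![1, 1, 1] h1 h2 h0 h3
      ⟨0, by simp⟩ ⟨1, by simp⟩ ⟨1, by simp⟩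
    refine Sim.of_smul (-1) isUnit_one.neg ?_
    convert this using 1
    ext i; fin_cases i <;> simp
  -- induction
  have hind : ∀ n : ℕ, Sim (σ ![(n : ZMod p), 0, 1]) ![(n : A), 0, 1] := by
    intro n
    induction n with
    | zero => simpa using h2
    | succ n ih =>
      have hQ : Sim (σ ![((n + 1 : ℕ) : ZMod p), 1, 1]) ![((n + 1 : ℕ) : A), 1, 1] := by
        have := hσ.meet ![((n + 1 : ℕ) : ZMod p), 1, 1] ![(n : ZMod p), 0, 1] ![1, 1, 0]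
          ![0, 1, 1] ![1, 0, 0]
          (ne0 _ _ _ (by simp)) (ne0 _ _ _ (by simp)) (ne0 _ _ _ (by simp)) (ne0 _ _ _ (by simp))
          (ne0 _ _ _ (by simp)) (by simp [d3]) (by simp [d3])
          ![(n : A), 0, 1] ![1, 1, 0] ![0, 1, 1] ![1, 0, 0] ih h110 h011 h0
          ⟨0, by simp⟩ ⟨1, by simp⟩ ⟨1, by simp⟩
        refine Sim.of_smul (-1) isUnit_one.neg ?_
        convert this using 1
        ext i; fin_cases i <;> simp <;> ring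
      have := hσ.meet ![((n + 1 : ℕ) : ZMod p), 0, 1] ![((n + 1 : ℕ) : ZMod p), 1, 1] ![0, 1, 0]
          ![0, 0, 1] ![1, 0, 0]
          (ne0 _ _ _ (by simp)) (ne0 _ _ _ (by simp)) (ne0 _ _ _ (by simp)) (ne0 _ _ _ (by simp))
          (ne0 _ _ _ (by simp)) (by simp [d3]) (by simp [d3])
          ![((n + 1 : ℕ) : A), 1, 1] ![0, 1, 0] ![0, 0, 1] ![1, 0, 0] hQ h1 h2 h0
          ⟨0, by simp⟩ ⟨1, by simp⟩ ⟨2, by simp⟩
      refine Sim.of_smul (-1) isUnit_one.neg ?_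
      convert this using 1
      ext i; fin_cases i <;> simp
  have hp := hind p
  rw [ZMod.natCast_self] at hp
  obtain ⟨μ, hμ, hμe⟩ := hp
  obtain ⟨ν, hν, hνe⟩ := h2
  rw [hνe] at hμe
  have := congrFun hμe 0
  simp at this
  exact (hμ.mul_right_eq_zero).mp this.symm

end core


section normalize
variable [IsLocalRing A]

theorem nonunit_iff (x : A) : ¬ IsUnit x ↔ x ∈ IsLocalRing.maximalIdeal A := by
  rw [IsLocalRing.mem_maximalIdeal, mem_nonunits_iff]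

theorem not_UC_iff (v : Fin 3 → A) : ¬ UC v ↔ ∀ i, v i ∈ IsLocalRing.maximalIdeal A := by
  simp only [UC, not_exists, nonunit_iff]

theorem mem_of_unit_mul {d x : A} (hd : IsUnit d) (h : d * x ∈ IsLocalRing.maximalIdeal A) :
    x ∈ IsLocalRing.maximalIdeal A := by
  obtain ⟨d', hd'⟩ := hd.exists_left_inv
  have : x = d' * (d * x) := by rw [← mul_assoc, hd', one_mul]
  rw [this]
  exact Ideal.mul_mem_left _ _ h

theorem cramer (f₀ f₁ f₂ X : Fin 3 → A) (j : Fin 3) :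
    d3 f₀ f₁ f₂ * X j = d3 f₁ f₂ X * f₀ j - d3 f₀ f₂ X * f₁ j + d3 f₀ f₁ X * f₂ j := by
  fin_cases j <;> simp [d3] <;> ring

theorem cramer_dt (f₀ f₁ f₂ X n : Fin 3 → A) :
    d3 f₀ f₁ f₂ * dt X n = d3 f₁ f₂ X * dt f₀ n - d3 f₀ f₂ X * dt f₁ n + d3 f₀ f₁ X * dt f₂ n := by
  simp [d3, dt]; ring

theorem cramer_dual (f₀ f₁ f₂ n : Fin 3 → A) (j : Fin 3) :
    d3 f₀ f₁ f₂ * n j = dt f₀ n * cr f₁ f₂ j + dt f₁ n * cr f₂ f₀ j + dt f₂ n * cr f₀ f₁ j := by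
  fin_cases j <;> simp [d3, dt] <;> ring

/-- the normalized map -/
def nrm (f₀ f₁ f₂ : Fin 3 → A) (u₀ u₁ u₂ : A) (X : Fin 3 → A) : Fin 3 → A :=
  ![d3 f₁ f₂ X * u₀, d3 f₀ f₂ X * u₁, d3 f₀ f₁ X * u₂]

theorem good_normalize (ρ : (Fin 3 → ZMod p) → (Fin 3 → A)) (hρ : Good p ρ)
    (f₀ f₁ f₂ : Fin 3 → A) (hD : IsUnit (d3 f₀ f₁ f₂)) (u₀ u₁ u₂ : A)
    (h₀ : IsUnit u₀) (h₁ : IsUnit u₁) (h₂ : IsUnit u₂) :
    Good p (fun v => nrm f₀ f₁ f₂ u₀ u₁ u₂ (ρ v)) := by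
  constructor
  · intro v hv
    by_contra hcon
    rw [not_UC_iff] at hcon
    have hX := hρ.pt v hv
    apply (not_UC_iff _).mpr _ hX
    have e0 : d3 f₁ f₂ (ρ v) ∈ IsLocalRing.maximalIdeal A :=
      mem_of_unit_mul h₀ (by have := hcon 0; simpa [nrm, mul_comm] using this)
    have e1 : d3 f₀ f₂ (ρ v) ∈ IsLocalRing.maximalIdeal A :=
      mem_of_unit_mul h₁ (by have := hcon 1; simpa [nrm, mul_comm] using this)
    have e2 : d3 f₀ f₁ (ρ v) ∈ IsLocalRing.maximalIdeal A :=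
      mem_of_unit_mul h₂ (by have := hcon 2; simpa [nrm, mul_comm] using this)
    intro j
    apply mem_of_unit_mul hD
    rw [cramer]
    exact Ideal.add_mem _ (Ideal.sub_mem _ (Ideal.mul_mem_right _ _ e0)
      (Ideal.mul_mem_right _ _ e1)) (Ideal.mul_mem_right _ _ e2)
  · intro u v w hu hv hw hd
    obtain ⟨n, hn, hnu, hnv, hnw⟩ := hρ.col u v w hu hv hw hd
    obtain ⟨d₀, hd₀⟩ := h₀.exists_right_inv
    obtain ⟨d₁, hd₁⟩ := h₁.exists_right_inv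
    obtain ⟨d₂, hd₂⟩ := h₂.exists_right_inv
    have key : ∀ X : Fin 3 → A, dt X n = 0 →
        dt (nrm f₀ f₁ f₂ u₀ u₁ u₂ X) ![dt f₀ n * d₀, - dt f₁ n * d₁, dt f₂ n * d₂] = 0 := by
      intro X hX
      have hc := cramer_dt f₀ f₁ f₂ X n
      rw [hX, mul_zero] at hc
      have : dt (nrm f₀ f₁ f₂ u₀ u₁ u₂ X) ![dt f₀ n * d₀, - dt f₁ n * d₁, dt f₂ n * d₂] =
          d3 f₁ f₂ X * dt f₀ n * (u₀ * d₀) - d3 f₀ f₂ X * dt f₁ n * (u₁ * d₁)
            + d3 f₀ f₁ X * dt f₂ n * (u₂ * d₂) := by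
        have v0 : ∀ a b c : A, (![a, b, c] : Fin 3 → A) 0 = a := fun _ _ _ => rfl
        have v1 : ∀ a b c : A, (![a, b, c] : Fin 3 → A) 1 = b := fun _ _ _ => rfl
        have v2 : ∀ a b c : A, (![a, b, c] : Fin 3 → A) 2 = c := fun _ _ _ => rfl
        simp only [dt, nrm, v0, v1, v2]
        ring
      rw [this, hd₀, hd₁, hd₂]
      linear_combination -hc
    refine ⟨_, ?_, key _ hnu, key _ hnv, key _ hnw⟩
    by_contra hcon
    rw [not_UC_iff] at hcon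
    apply (not_UC_iff _).mpr _ hn
    have hd₀u : IsUnit d₀ := IsUnit.of_mul_eq_one _ (by rw [mul_comm]; exact hd₀)
    have hd₁u : IsUnit d₁ := IsUnit.of_mul_eq_one _ (by rw [mul_comm]; exact hd₁)
    have hd₂u : IsUnit d₂ := IsUnit.of_mul_eq_one _ (by rw [mul_comm]; exact hd₂)
    have e0 : dt f₀ n ∈ IsLocalRing.maximalIdeal A :=
      mem_of_unit_mul hd₀u (by have := hcon 0; simpa [mul_comm] using this)
    have e1 : dt f₁ n ∈ IsLocalRing.maximalIdeal A := by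
      have := hcon 1
      have h' : d₁ * dt f₁ n ∈ IsLocalRing.maximalIdeal A := by
        have := Ideal.neg_mem_iff _ |>.mpr this
        simpa [mul_comm] using this
      exact mem_of_unit_mul hd₁u h'
    have e2 : dt f₂ n ∈ IsLocalRing.maximalIdeal A :=
      mem_of_unit_mul hd₂u (by have := hcon 2; simpa [mul_comm] using this)
    intro j
    apply mem_of_unit_mul hD
    rw [cramer_dual]
    exact Ideal.add_mem _ (Ideal.add_mem _ (Ideal.mul_mem_right _ _ e0)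
      (Ideal.mul_mem_right _ _ e1)) (Ideal.mul_mem_right _ _ e2)

end normalize


theorem single0 (R : Type*) [Zero R] [One R] : (Pi.single 0 1 : Fin 3 → R) = ![1, 0, 0] := by
  ext i; fin_cases i <;> simp
theorem single1 (R : Type*) [Zero R] [One R] : (Pi.single 1 1 : Fin 3 → R) = ![0, 1, 0] := by
  ext i; fin_cases i <;> simp
theorem single2 (R : Type*) [Zero R] [One R] : (Pi.single 2 1 : Fin 3 → R) = ![0, 0, 1] := by
  ext i; fin_cases i <;> simp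
theorem const1 (R : Type*) [One R] : (fun _ => 1 : Fin 3 → R) = ![1, 1, 1] := by
  ext i; fin_cases i <;> simp

theorem main (p : ℕ) [Fact p.Prime] (A : Type u) [CommRing A] [IsLocalRing A]
    (ρ : (Fin 3 → ZMod p) → (Fin 3 → A))
    (hpt : ∀ v : Fin 3 → ZMod p, v ≠ 0 → ∃ i, IsUnit (ρ v i))
    (hcol : ∀ u v w : Fin 3 → ZMod p, u ≠ 0 → v ≠ 0 → w ≠ 0 →
      Matrix.det (Matrix.of ![u, v, w]) = 0 →
      ∃ n : Fin 3 → A, (∃ i, IsUnit (n i)) ∧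
        dotProduct (ρ u) n = 0 ∧ dotProduct (ρ v) n = 0 ∧ dotProduct (ρ w) n = 0)
    (hgen : IsUnit (Matrix.det (Matrix.of ![ρ (Pi.single 0 1), ρ (Pi.single 1 1), ρ (Pi.single 2 1)])) ∧
      IsUnit (Matrix.det (Matrix.of ![ρ (Pi.single 0 1), ρ (Pi.single 1 1), ρ (fun _ => 1)])) ∧
      IsUnit (Matrix.det (Matrix.of ![ρ (Pi.single 0 1), ρ (Pi.single 2 1), ρ (fun _ => 1)])) ∧
      IsUnit (Matrix.det (Matrix.of ![ρ (Pi.single 1 1), ρ (Pi.single 2 1), ρ (fun _ => 1)]))) :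
    (p : A) = 0 := by
  have hρ : Good p ρ := by
    refine ⟨hpt, ?_⟩
    intro u v w hu hv hw hd
    rw [← det_eq] at hd
    obtain ⟨n, hn, h1, h2, h3⟩ := hcol u v w hu hv hw hd
    rw [dot_eq] at h1 h2 h3
    exact ⟨n, hn, h1, h2, h3⟩
  simp only [det_eq, single0, single1, single2, const1] at hgen
  obtain ⟨hD, hg2, hg1, hg0⟩ := hgen
  set f₀ := ρ ![1, 0, 0] with hf₀
  set f₁ := ρ ![0, 1, 0] with hf₁
  set f₂ := ρ ![0, 0, 1] with hf₂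
  set f₃ := ρ ![1, 1, 1] with hf₃
  obtain ⟨u₀, hu₀⟩ := hg0.exists_right_inv
  obtain ⟨u₁, hu₁⟩ := hg1.exists_right_inv
  obtain ⟨u₂, hu₂⟩ := hg2.exists_right_inv
  have hu₀u : IsUnit u₀ := IsUnit.of_mul_eq_one _ (by rw [mul_comm]; exact hu₀)
  have hu₁u : IsUnit u₁ := IsUnit.of_mul_eq_one _ (by rw [mul_comm]; exact hu₁)
  have hu₂u : IsUnit u₂ := IsUnit.of_mul_eq_one _ (by rw [mul_comm]; exact hu₂)
  have hσ := good_normalize ρ hρ f₀ f₁ f₂ hD u₀ u₁ u₂ hu₀u hu₁u hu₂u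
  have c0 : d3 f₁ f₂ f₀ = d3 f₀ f₁ f₂ := by simp only [d3]; ring
  have c1 : d3 f₀ f₂ f₁ = - d3 f₀ f₁ f₂ := by simp only [d3]; ring
  have z1 : d3 f₀ f₂ f₀ = 0 := by simp only [d3]; ring
  have z2 : d3 f₀ f₁ f₀ = 0 := by simp only [d3]; ring
  have z3 : d3 f₁ f₂ f₁ = 0 := by simp only [d3]; ring
  have z4 : d3 f₀ f₁ f₁ = 0 := by simp only [d3]; ring
  have z5 : d3 f₁ f₂ f₂ = 0 := by simp only [d3]; ring
  have z6 : d3 f₀ f₂ f₂ = 0 := by simp only [d3]; ring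
  refine core hσ ?_ ?_ ?_ ?_
  · refine ⟨d3 f₀ f₁ f₂ * u₀, hD.mul hu₀u, ?_⟩
    change nrm f₀ f₁ f₂ u₀ u₁ u₂ f₀ = _
    ext i; fin_cases i <;> simp [nrm, c0, z1, z2]
  · refine ⟨- d3 f₀ f₁ f₂ * u₁, hD.neg.mul hu₁u, ?_⟩
    change nrm f₀ f₁ f₂ u₀ u₁ u₂ f₁ = _
    ext i; fin_cases i <;> simp [nrm, c1, z3, z4]
  · refine ⟨d3 f₀ f₁ f₂ * u₂, hD.mul hu₂u, ?_⟩
    change nrm f₀ f₁ f₂ u₀ u₁ u₂ f₂ = _
    ext i; fin_cases i <;> simp [nrm, z5, z6]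
  · refine ⟨1, isUnit_one, ?_⟩
    change nrm f₀ f₁ f₂ u₀ u₁ u₂ f₃ = _
    ext i; fin_cases i <;> simp [nrm, hu₀, hu₁, hu₂]

end Groth.Agent.H6.ProjPlane
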