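import Groth.Agent.Lib.Helper6.ArtFunFormal

/-!
# helper6: adding a tangent vector along a socle element of an Artinian ring

For `T : Art Λ k` and `x ∈ m_T` with `m_T · x = 0`, and a fibre product `P = T ×_k k[ε]`, the map
`P → T`, `(a, u) ↦ a - snd(u) · x`.
-/

set_option autoImplicit false
set_option linter.style.haveILetI false
set_option linter.unusedTactic false
set_option linter.unusedVariables false

universe u v

open CategoryTheory

namespace Groth.Agent.H6.ProrepGen

open ArtFun ArtFun.Art IsLocalRing

variable {Λ : Type u} {k : Type u} [CommRing Λ] [Field k] [Algebra Λ k]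

section KX

variable (T : Art Λ k) (x : T) (hx : ∀ a ∈ maximalIdeal T, a * x = 0)

/-- multiplication of `x` by a residue class -/
noncomputable def kx (c : k) : T := Function.surjInv T.res_surjective c * x

include hx in
lemma kx_res (a : T) : kx T x (T.res a) = a * x := by
  unfold kx
  have h0 : T.res (Function.surjInv T.res_surjective (T.res a)) = T.res a :=
    Function.surjInv_eq T.res_surjective (T.res a)
  have h1 : Function.surjInv T.res_surjective (T.res a) - a ∈ maximalIdeal T := by
    rw [Art.mem_maximalIdeal_iff, map_sub, h0, sub_self]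
  have h2 := hx _ h1
  rw [sub_mul, sub_eq_zero] at h2
  exact h2

include hx in
lemma kx_zero : kx T x 0 = 0 := by
  have := kx_res T x hx 0
  rwa [map_zero, zero_mul] at this

include hx in
lemma kx_one : kx T x 1 = x := by
  have := kx_res T x hx 1
  rwa [map_one, one_mul] at this

include hx in
lemma kx_add (c c' : k) : kx T x (c + c') = kx T x c + kx T x c' := by
  obtain ⟨a, rfl⟩ := T.res_surjective c
  obtain ⟨a', rfl⟩ := T.res_surjective c'
  rw [← map_add, kx_res T x hx, kx_res T x hx, kx_res T x hx, add_mul]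

include hx in
lemma kx_sub (c c' : k) : kx T x (c - c') = kx T x c - kx T x c' := by
  obtain ⟨a, rfl⟩ := T.res_surjective c
  obtain ⟨a', rfl⟩ := T.res_surjective c'
  rw [← map_sub, kx_res T x hx, kx_res T x hx, kx_res T x hx, sub_mul]

include hx in
lemma mul_kx (a : T) (c : k) : a * kx T x c = kx T x (T.res a * c) := by
  obtain ⟨a', rfl⟩ := T.res_surjective c
  rw [← map_mul, kx_res T x hx, kx_res T x hx, mul_assoc]

include hx in
lemma kx_mul_kx (hxm : x ∈ maximalIdeal T) (c c' : k) : kx T x c * kx T x c' = 0 := by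
  obtain ⟨a, rfl⟩ := T.res_surjective c
  obtain ⟨a', rfl⟩ := T.res_surjective c'
  rw [kx_res T x hx, kx_res T x hx]
  have : x * x = 0 := hx x hxm
  calc a * x * (a' * x) = a * a' * (x * x) := by ring
    _ = 0 := by rw [this, mul_zero]

lemma res_kx (hxm : x ∈ maximalIdeal T) (c : k) : T.res (kx T x c) = 0 := by
  unfold kx
  rw [map_mul, (Art.mem_maximalIdeal_iff _ _).1 hxm, mul_zero]

end KX

section SndD

/-- the `ε`-coefficient of a dual number -/
def sndD (u : dual Λ k) : k := TrivSqZeroExt.snd (show TrivSqZeroExt k k from u)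

lemma sndD_one : sndD (1 : dual Λ k) = 0 := rfl

lemma sndD_zero : sndD (0 : dual Λ k) = 0 := rfl

lemma sndD_add (u v : dual Λ k) : sndD (u + v) = sndD u + sndD v := rfl

lemma sndD_mul (u v : dual Λ k) :
    sndD (u * v) = (dual Λ k).res u * sndD v + (dual Λ k).res v * sndD u := by
  change TrivSqZeroExt.snd ((show TrivSqZeroExt k k from u) * (show TrivSqZeroExt k k from v)) = _
  rw [TrivSqZeroExt.snd_mul, op_smul_eq_smul, smul_eq_mul, smul_eq_mul]
  rfl

lemma sndD_algebraMap (l : Λ) : sndD (algebraMap Λ (dual Λ k) l) = 0 := by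
  change TrivSqZeroExt.snd (algebraMap Λ (TrivSqZeroExt k k) l) = 0
  rw [TrivSqZeroExt.algebraMap_eq_inl', TrivSqZeroExt.snd_inl]

lemma dual_ext {u v : dual Λ k} (h1 : (dual Λ k).res u = (dual Λ k).res v) (h2 : sndD u = sndD v) :
    u = v :=
  TrivSqZeroExt.ext h1 h2

end SndD

section Sum

variable {T P : Art Λ k} (x : T) (hx : ∀ a ∈ maximalIdeal T, a * x = 0)
  (hxm : x ∈ maximalIdeal T)
  {p' : P ⟶ T} {p'' : P ⟶ dual Λ k}
  (h : IsFibreProd p' p'' (toBase T) (toBase (dual Λ k)))

include h in
lemma res_fst (b : P) : T.res (p' b) = (dual Λ k).res (p'' b) := h.w_apply b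

/-- the map `T ×_k k[ε] → T`, `(a, u) ↦ a - snd(u) x` -/
noncomputable def sumHom : P ⟶ T :=
  ⟨{ toFun := fun b => p' b - kx T x (sndD (p'' b))
     map_one' := by
       have e1 : p' (1 : P) = 1 := map_one p'.toAlgHom
       have e2 : p'' (1 : P) = 1 := map_one p''.toAlgHom
       rw [e1, e2, sndD_one, kx_zero T x hx, sub_zero]
     map_mul' := by
       intro b b'
       have e1 : p' (b * b') = p' b * p' b' := map_mul p'.toAlgHom b b'
       have e2 : p'' (b * b') = p'' b * p'' b' := map_mul p''.toAlgHom b b'
       rw [e1, e2, sndD_mul, kx_add T x hx, ← res_fst h b, ← res_fst h b',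
         ← mul_kx T x hx, ← mul_kx T x hx]
       have e3 := kx_mul_kx T x hx hxm (sndD (p'' b)) (sndD (p'' b'))
       linear_combination (-1 : T.carrier) * e3
     map_zero' := by
       have e1 : p' (0 : P) = 0 := map_zero p'.toAlgHom
       have e2 : p'' (0 : P) = 0 := map_zero p''.toAlgHom
       rw [e1, e2, sndD_zero, kx_zero T x hx, sub_zero]
     map_add' := by
       intro b b'
       have e1 : p' (b + b') = p' b + p' b' := map_add p'.toAlgHom b b'
       have e2 : p'' (b + b') = p'' b + p'' b' := map_add p''.toAlgHom b b'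
       rw [e1, e2, sndD_add, kx_add T x hx]
       ring
     commutes' := by
       intro l
       have e1 : p' (algebraMap Λ P l) = algebraMap Λ T l := p'.toAlgHom.commutes l
       have e2 : p'' (algebraMap Λ P l) = algebraMap Λ (dual Λ k) l := p''.toAlgHom.commutes l
       change p' (algebraMap Λ P l) - kx T x (sndD (p'' (algebraMap Λ P l))) = _
       rw [e1, e2, sndD_algebraMap, kx_zero T x hx, sub_zero] }, by
    apply AlgHom.ext
    intro b
    change T.res (p' b - kx T x (sndD (p'' b))) = P.res b
    rw [map_sub, res_kx T x hxm, sub_zero]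
    exact Art.res_app p' b⟩

lemma sumHom_apply (b : P) :
    sumHom x hx hxm h b = p' b - kx T x (sndD (p'' b)) := rfl

end Sum

end Groth.Agent.H6.ProrepGen
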