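import Groth.Agent.Lib.Helper6.ProrepGen1
import Groth.Agent.Lib.Helper6.ArtFunEndo
import Groth.Prelude.Def_W4sfdMinVersal

/-!
# helper6: the tangent map of a minimal versal family is injective modulo derivations of `k`
-/

set_option autoImplicit false
set_option linter.style.haveILetI false
set_option linter.unusedTactic false
set_option linter.unusedVariables false
set_option linter.deprecated false

universe u v

open CategoryTheory

namespace Groth.Agent.H6.ProrepGen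

open ArtFun ArtFun.Art IsLocalRing

variable {Λ : Type u} {k : Type u} [CommRing Λ] [Field k] [Algebra Λ k]

lemma dual_sq : maximalIdeal (dual Λ k) ^ 2 = ⊥ := by
  rw [pow_two, eq_bot_iff, Ideal.mul_le]
  intro a ha b hb
  rw [Ideal.mem_bot]
  rw [Art.mem_maximalIdeal_iff] at ha hb
  apply dual_ext
  · rw [map_mul, ha, zero_mul, map_zero]
  · rw [sndD_mul, ha, hb, zero_mul, zero_mul, add_zero]
    rfl

section Factor

variable (R : CRing Λ k)

/-- maps to an object with `m^(n+1) = 0` factor through the `n`-th truncation -/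
theorem trunc_factor {A : Art Λ k} (u : HomSet R.carrier R.res A) (n : ℕ)
    (hA : maximalIdeal A ^ (n + 1) = ⊥) :
    ∃ f : R.trunc n ⟶ A, HomSet.map f (R.truncHom n) = u := by
  have hker : R.mpow n ≤ RingHom.ker u.1 := homSet_pow_le_ker R.res_surjective u hA
  refine ⟨⟨Ideal.Quotient.liftₐ (R.mpow n) u.1 (fun a ha => hker ha), ?_⟩, ?_⟩
  · apply AlgHom.ext
    intro x
    obtain ⟨a, rfl⟩ := Ideal.Quotient.mk_surjective x
    exact congrArg (fun g : R.carrier →ₐ[Λ] k => g a) u.2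
  · exact homSet_ext fun _ => rfl

end Factor

section Tower

variable {F : Art Λ k ⥤ Type v} {R : CRing Λ k} (ξ : Family R.carrier R.res F)

/-- lifts to level `n + 1` fixing the formal element -/
def Lev (n : ℕ) : Type u :=
  {g : HomSet R.carrier R.res (R.trunc (n + 1)) // ξ.app _ g = ξ.app _ (R.truncHom (n + 1))}

lemma lev_succ (hξ : IsVersal ξ) (n : ℕ) (g : Lev ξ n) :
    ∃ g' : Lev ξ (n + 1), HomSet.map (R.truncMap (n + 1)) g'.1 = g.1 := by
  obtain ⟨ψ, h1, h2⟩ := hξ (R.truncMap (n + 1)) (truncMap_surjective R (n + 1)) g.1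
    (ξ.app _ (R.truncHom (n + 2)))
    (by rw [← ξ.natural, CRing.truncMap_truncHom, g.2])
  exact ⟨⟨ψ, h2⟩, h1⟩

/-- the sequence of lifts -/
noncomputable def levSeq
    (hs : ∀ (n : ℕ) (g : Lev ξ n), ∃ g' : Lev ξ (n + 1), HomSet.map (R.truncMap (n + 1)) g'.1 = g.1)
    (g₀ : Lev ξ 0) : (n : ℕ) → Lev ξ n
  | 0 => g₀
  | n + 1 => Classical.choose (hs n (levSeq hs g₀ n))

/-- all levels -/
noncomputable def levAll
    (hs : ∀ (n : ℕ) (g : Lev ξ n), ∃ g' : Lev ξ (n + 1), HomSet.map (R.truncMap (n + 1)) g'.1 = g.1)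
    (g₀ : Lev ξ 0) : (n : ℕ) → HomSet R.carrier R.res (R.trunc n)
  | 0 => HomSet.map (R.truncMap 0) g₀.1
  | n + 1 => (levSeq ξ hs g₀ n).1

/-- an endomorphism of `R/m²` fixing the family extends to an endomorphism of `R` fixing it -/
theorem exists_endo_of_level_one (hξ : IsVersal ξ)
    (e : R.trunc 1 ⟶ R.trunc 1) (he : F.map e (ξ.app _ (R.truncHom 1)) = ξ.app _ (R.truncHom 1)) :
    ∃ (G : R.carrier →ₐ[Λ] R.carrier) (hG : R.res.comp G = R.res),
      (R.truncHom 1).1.comp G = e.toAlgHom.comp (R.truncHom 1).1 ∧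
      (ξ.along G hG).toFormalElt = ξ.toFormalElt := by
  have hs := lev_succ ξ hξ
  let g₀ : Lev ξ 0 := ⟨HomSet.map e (R.truncHom 1), by rw [ξ.natural, he]⟩
  obtain ⟨G, hG, hGn⟩ := exists_limit_hom R (levAll ξ hs g₀) (by
    intro n
    cases n with
    | zero => rfl
    | succ m => exact Classical.choose_spec (hs m (levSeq ξ hs g₀ m)))
  refine ⟨G, hG, hGn 1, ?_⟩
  apply FormalElt.ext'
  intro n
  change ξ.app _ ⟨(R.truncHom n).1.comp G, _⟩ = ξ.app _ (R.truncHom n)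
  have h1 : (⟨(R.truncHom n).1.comp G, by rw [← AlgHom.comp_assoc, (R.truncHom n).2, hG]⟩ :
      HomSet R.carrier R.res (R.trunc n)) = levAll ξ hs g₀ n := Subtype.ext (hGn n)
  rw [h1]
  cases n with
  | zero =>
    change ξ.app _ (HomSet.map (R.truncMap 0) g₀.1) = _
    rw [ξ.natural, g₀.2, ← ξ.natural, CRing.truncMap_truncHom]
  | succ m => exact (levSeq ξ hs g₀ m).2

end Tower

section Main

variable [IsNoetherianRing Λ] [Module.Finite Λ k]
  {F : Art Λ k ⥤ Type v} {R : CRing Λ k} (ξ : Family R.carrier R.res F)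

omit [IsNoetherianRing Λ] [Module.Finite Λ k] in
lemma res_homSet_dual (ψ : HomSet R.carrier R.res (dual Λ k)) (r : R.carrier) :
    (dual Λ k).res (ψ.1 r) = R.res r :=
  congrArg (fun g : R.carrier →ₐ[Λ] k => g r) ψ.2

/-- For a minimal versal family, a tangent vector of `R` with the same image as the zero vector
kills the maximal ideal. -/
theorem snd_eq_zero_of_minimal (hmin : ξ.IsMinimalVersal)
    (hinj : ∀ ⦃B A A₁ A₂ : Art Λ k⦄ (p₁ : B ⟶ A₁) (p₂ : B ⟶ A₂) (f₁ : A₁ ⟶ A) (f₂ : A₂ ⟶ A)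
        (h : IsFibreProd p₁ p₂ f₁ f₂), Function.Surjective f₂ → Function.Injective (cmp F h))
    (ψ ψ₀ : HomSet R.carrier R.res (dual Λ k)) (hψ₀ : ∀ r, sndD (ψ₀.1 r) = 0)
    (hξ : ξ.app _ ψ = ξ.app _ ψ₀) (x : R.carrier) (hx : x ∈ maximalIdeal R.carrier) :
    sndD (ψ.1 x) = 0 := by
  by_contra hne
  obtain ⟨y, hy⟩ := R.res_surjective (sndD (ψ.1 x))⁻¹
  have hx0 : R.res x = 0 := (CRing.mem_maximalIdeal_iff R x).1 hx
  have hx' : y * x ∈ maximalIdeal R.carrier := Ideal.mul_mem_left _ _ hx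
  have hsnd : sndD (ψ.1 (y * x)) = 1 := by
    rw [map_mul, sndD_mul, res_homSet_dual, res_homSet_dual, hy, hx0, zero_mul, add_zero]
    exact inv_mul_cancel₀ hne
  -- the first truncation
  set T : Art Λ k := R.trunc 1 with hT
  let tr : HomSet R.carrier R.res T := R.truncHom 1
  let xb : T := tr.1 (y * x)
  have hxbm : xb ∈ maximalIdeal T := by
    rw [Art.mem_maximalIdeal_iff]
    change R.res (y * x) = 0
    rw [map_mul, hx0, mul_zero]
  have hxb : ∀ a ∈ maximalIdeal T, a * xb = 0 := by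
    intro a ha
    obtain ⟨a', rfl⟩ := truncHom_surjective R 1 a
    have ha' : a' ∈ maximalIdeal R.carrier := by
      rw [Art.mem_maximalIdeal_iff] at ha
      exact (CRing.mem_maximalIdeal_iff R a').2 ha
    change Ideal.Quotient.mk (R.mpow 1) a' * Ideal.Quotient.mk (R.mpow 1) (y * x) = 0
    rw [← map_mul, Ideal.Quotient.eq_zero_iff_mem]
    change a' * (y * x) ∈ maximalIdeal R.carrier ^ (1 + 1)
    rw [pow_two]
    exact Ideal.mul_mem_mul ha' hx'
  obtain ⟨ψb, hψb⟩ := trunc_factor R ψ 1 dual_sq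
  obtain ⟨ψb₀, hψb₀⟩ := trunc_factor R ψ₀ 1 dual_sq
  have hψb' : ∀ r, ψb (tr.1 r) = ψ.1 r := fun r =>
    congrArg (fun g : HomSet R.carrier R.res (dual Λ k) => g.1 r) hψb
  have hψb₀' : ∀ r, ψb₀ (tr.1 r) = ψ₀.1 r := fun r =>
    congrArg (fun g : HomSet R.carrier R.res (dual Λ k) => g.1 r) hψb₀
  have hsurj : Function.Surjective (toBase (dual Λ k)) := (dual Λ k).res_surjective
  obtain ⟨P, p', p'', hP⟩ := art_exists_isFibreProd (toBase T) (toBase (dual Λ k)) hsurj
  obtain ⟨α, hα1, hα2⟩ := fp_exists_lift hP (𝟙 T) ψb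
    (by rw [eq_toBase (𝟙 T ≫ _), eq_toBase (ψb ≫ _)])
  obtain ⟨α₀, hα₀1, hα₀2⟩ := fp_exists_lift hP (𝟙 T) ψb₀
    (by rw [eq_toBase (𝟙 T ≫ _), eq_toBase (ψb₀ ≫ _)])
  have hα1' : ∀ a, p' (α a) = a := fun a => congrArg (fun g : T ⟶ T => g a) hα1
  have hα2' : ∀ a, p'' (α a) = ψb a := fun a => congrArg (fun g : T ⟶ dual Λ k => g a) hα2
  have hα₀1' : ∀ a, p' (α₀ a) = a := fun a => congrArg (fun g : T ⟶ T => g a) hα₀1
  have hα₀2' : ∀ a, p'' (α₀ a) = ψb₀ a := fun a => congrArg (fun g : T ⟶ dual Λ k => g a) hα₀2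
  let s : P ⟶ T := sumHom xb hxb hxbm hP
  have hs0 : α₀ ≫ s = 𝟙 T := by
    apply Art.hom_ext
    apply AlgHom.ext
    intro a
    change s (α₀ a) = a
    rw [sumHom_apply, hα₀1', hα₀2']
    obtain ⟨r, rfl⟩ := truncHom_surjective R 1 a
    rw [hψb₀', hψ₀, kx_zero T xb hxb, sub_zero]
  let ξ₁ : F.obj T := ξ.app T tr
  have hα : F.map α ξ₁ = F.map α₀ ξ₁ := by
    apply (cmp_injective_iff F hP).1 (hinj p' p'' _ _ hP hsurj)
    · rw [← map_comp_apply', ← map_comp_apply', hα1, hα₀1]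
    · rw [← map_comp_apply', ← map_comp_apply', hα2, hα₀2]
      change F.map ψb (ξ.app T tr) = F.map ψb₀ (ξ.app T tr)
      rw [← ξ.natural, ← ξ.natural, hψb, hψb₀, hξ]
  have hfix : F.map (α ≫ s) ξ₁ = ξ₁ := by
    rw [map_comp_apply', hα, ← map_comp_apply', hs0, map_id_apply']
  have hexb : (α ≫ s) xb = 0 := by
    change s (α xb) = 0
    rw [sumHom_apply, hα1', hα2', hψb', hsnd, kx_one T xb hxb, sub_self]
  have hxb0 : xb ≠ 0 := by
    intro h0
    have h1 : ψb xb = ψ.1 (y * x) := hψb' (y * x)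
    rw [h0] at h1
    have h2 : ψb (0 : T) = 0 := map_zero ψb.toAlgHom
    rw [h2] at h1
    rw [← h1] at hsnd
    exact zero_ne_one hsnd
  obtain ⟨G, hG, hG1, hGf⟩ := exists_endo_of_level_one ξ hmin.1 (α ≫ s) hfix
  have hGs : Function.Surjective G :=
    hmin.2 R ξ.toFormalElt G hG (by rw [toFormalElt_push, hGf])
  have hes : Function.Surjective (α ≫ s).toAlgHom.toRingHom := by
    intro t
    obtain ⟨r, rfl⟩ := truncHom_surjective R 1 t
    obtain ⟨r', rfl⟩ := hGs r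
    refine ⟨tr.1 r', ?_⟩
    exact (congrArg (fun g : R.carrier →ₐ[Λ] R.trunc 1 => g r') hG1).symm
  have hei := injective_of_surjective_ringEnd _ hes
  apply hxb0
  apply hei
  rw [map_zero]
  exact hexb

end Main

end Groth.Agent.H6.ProrepGen
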