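import Groth.Agent.Lib.Helper6.ProrepGen2
import Groth.Agent.Lib.Helper6.MinVers6
import Groth.Agent.Lib.Helper6.ArtFunProrep
import Groth.Agent.Lib.Helper6.ArtFunSchlessinger

/-!
# helper6: the general criterion of prorepresentability (possibly inseparable residue field)
-/

set_option autoImplicit false
set_option linter.style.haveILetI false
set_option linter.unusedTactic false
set_option linter.unusedVariables false
set_option linter.deprecated false

universe u v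

open CategoryTheory

namespace Groth.Agent.H6.ProrepGen

open ArtFun ArtFun.Art IsLocalRing

variable {Λ : Type u} {k : Type u} [CommRing Λ] [Field k] [Algebra Λ k]

/-- `(a, b₁, b₂) ↦ a + (b₁ - b₂) ε` -/
def minus : dual2 Λ k ⟶ dual Λ k :=
  ⟨tszeMap (LinearMap.fst k k k - LinearMap.snd k k k), AlgHom.ext fun _ => rfl⟩

lemma sndD_minus (u : dual2 Λ k) :
    sndD (minus u) = sndD (pr₁ u) - sndD (pr₂ u) := rfl

lemma sndD_baseToDual (c : k) : sndD ((baseToDual : base Λ k ⟶ dual Λ k) c) = 0 := by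
  change TrivSqZeroExt.snd (algebraMap k (TrivSqZeroExt k k) c) = 0
  rw [TrivSqZeroExt.algebraMap_eq_inl, TrivSqZeroExt.snd_inl]

variable [IsNoetherianRing Λ] [Module.Finite Λ k] {F : Art Λ k ⥤ Type v}

/-- The tangent map of a minimal versal family is injective when the derivations of `k` act
freely on the tangent space. -/
theorem tangent_injective_of_minimal {R : CRing Λ k} (ξ : Family R.carrier R.res F)
    (hmin : ξ.IsMinimalVersal)
    (hinj : ∀ ⦃B A A₁ A₂ : Art Λ k⦄ (p₁ : B ⟶ A₁) (p₂ : B ⟶ A₂) (f₁ : A₁ ⟶ A) (f₂ : A₂ ⟶ A)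
        (h : IsFibreProd p₁ p₂ f₁ f₂), Function.Surjective f₂ → Function.Injective (cmp F h))
    (hc : ∀ x₀ : F.obj (base Λ k),
      Function.Injective (fun σ : base Λ k ⟶ dual Λ k => F.map σ x₀)) :
    Function.Injective (ξ.app (dual Λ k)) := by
  intro φ₁ φ₂ h12
  have hsurj : Function.Surjective (toBase (dual Λ k)) := (dual Λ k).res_surjective
  obtain ⟨χ, hχ1, hχ2⟩ := fp_exists_homSet isFibreProd_dual2 φ₁ φ₂ (homSet_base_eq _ _)
  obtain ⟨χ', hχ'1, hχ'2⟩ := fp_exists_homSet isFibreProd_dual2 φ₂ φ₂ (homSet_base_eq _ _)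
  have hχχ : ξ.app _ χ = ξ.app _ χ' := by
    apply (cmp_injective_iff F isFibreProd_dual2).1 (hinj pr₁ pr₂ _ _ isFibreProd_dual2 hsurj)
    · rw [← ξ.natural, ← ξ.natural, hχ1, hχ'1, h12]
    · rw [← ξ.natural, ← ξ.natural, hχ2, hχ'2]
  let ψ : HomSet R.carrier R.res (dual Λ k) := HomSet.map minus χ
  let ψ₀ : HomSet R.carrier R.res (dual Λ k) := HomSet.map minus χ'
  have hψψ : ξ.app _ ψ = ξ.app _ ψ₀ := by
    change ξ.app _ (HomSet.map minus χ) = ξ.app _ (HomSet.map minus χ')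
    rw [ξ.natural, ξ.natural, hχχ]
  have hpr1 : ∀ r, pr₁ (χ.1 r) = φ₁.1 r := fun r =>
    congrArg (fun g : HomSet R.carrier R.res (dual Λ k) => g.1 r) hχ1
  have hpr2 : ∀ r, pr₂ (χ.1 r) = φ₂.1 r := fun r =>
    congrArg (fun g : HomSet R.carrier R.res (dual Λ k) => g.1 r) hχ2
  have hpr'1 : ∀ r, pr₁ (χ'.1 r) = φ₂.1 r := fun r =>
    congrArg (fun g : HomSet R.carrier R.res (dual Λ k) => g.1 r) hχ'1
  have hpr'2 : ∀ r, pr₂ (χ'.1 r) = φ₂.1 r := fun r =>
    congrArg (fun g : HomSet R.carrier R.res (dual Λ k) => g.1 r) hχ'2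
  have hψ : ∀ r, sndD (ψ.1 r) = sndD (φ₁.1 r) - sndD (φ₂.1 r) := by
    intro r
    change sndD (minus (χ.1 r)) = _
    rw [sndD_minus, hpr1, hpr2]
  have hψ₀ : ∀ r, sndD (ψ₀.1 r) = 0 := by
    intro r
    change sndD (minus (χ'.1 r)) = _
    rw [sndD_minus, hpr'1, hpr'2, sub_self]
  have hkill := snd_eq_zero_of_minimal ξ hmin hinj ψ ψ₀ hψ₀ hψψ
  -- `ψ` factors through the residue field
  have hker : RingHom.ker R.res.toRingHom ≤ RingHom.ker ψ.1.toRingHom := by
    intro x hx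
    have hx0 : R.res x = 0 := hx
    have hxm : x ∈ maximalIdeal R.carrier := (CRing.mem_maximalIdeal_iff R x).2 hx0
    change ψ.1 x = 0
    apply dual_ext
    · rw [res_homSet_dual, hx0, map_zero]
    · rw [hkill x hxm]
      rfl
  let σ' : k →ₐ[Λ] dual Λ k := AlgHom.liftOfSurjective R.res R.res_surjective ψ.1 hker
  have hσ' : ∀ r, σ' (R.res r) = ψ.1 r := fun r =>
    AlgHom.liftOfSurjective_apply R.res R.res_surjective ψ.1 hker r
  let σ : base Λ k ⟶ dual Λ k := ⟨σ', by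
    apply AlgHom.ext
    intro c
    obtain ⟨r, rfl⟩ := R.res_surjective c
    change (dual Λ k).res (σ' (R.res r)) = R.res r
    rw [hσ', res_homSet_dual]⟩
  let ρ₀ : HomSet R.carrier R.res (base Λ k) := homSetBase R.carrier R.res
  have e1 : HomSet.map σ ρ₀ = ψ := homSet_ext fun r => hσ' r
  have e2 : HomSet.map baseToDual ρ₀ = ψ₀ := by
    apply homSet_ext
    intro r
    apply dual_ext
    · rw [res_homSet_dual, res_homSet_dual]
    · rw [hψ₀]
      exact sndD_baseToDual (R.res r)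
  have hσ : σ = baseToDual := by
    apply hc (ξ.app _ ρ₀)
    change F.map σ (ξ.app _ ρ₀) = F.map baseToDual (ξ.app _ ρ₀)
    rw [← ξ.natural, ← ξ.natural, e1, e2, hψψ]
  apply homSet_ext
  intro r
  apply dual_ext
  · rw [res_homSet_dual, res_homSet_dual]
  · have h1 : sndD (ψ.1 r) = 0 := by
      rw [← hσ' r]
      change sndD (σ (R.res r)) = 0
      rw [hσ]
      exact sndD_baseToDual (R.res r)
    rw [hψ] at h1
    exact sub_eq_zero.1 h1

/-- The general criterion of prorepresentability. -/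
theorem main12734 (F : Art Λ k ⥤ Type v) [TangentStr F] :
    IsProrepresentable F ↔
      ((H0 F ∧ (∀ ⦃B A A' A'' : Art Λ k⦄ (p' : B ⟶ A') (p'' : B ⟶ A'') (f' : A' ⟶ A) (f'' : A'' ⟶ A)
        (h : IsFibreProd p' p'' f' f''), Function.Surjective f'' → Function.Bijective (cmp F h))) ∧
        Hfin F ∧
        ∀ x₀ : F.obj (base Λ k),
          Function.Injective (fun σ : base Λ k ⟶ dual Λ k => F.map σ x₀)) := by
  constructor
  · rintro ⟨⟨R, ξ, hξ⟩⟩
    have h0 : H0 F := h0_of_isUniversal ξ hξ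
    refine ⟨⟨h0, fun B A A' A'' p' p'' f' f'' h _ =>
      isLeftExact_of_isUniversal ξ hξ p' p'' f' f'' h⟩, hfin_of_tangent_bijective R ξ (hξ _), ?_⟩
    intro x₀ σ σ' hσ
    haveI := h0.2
    let ρ₀ : HomSet R.carrier R.res (base Λ k) := homSetBase R.carrier R.res
    have hx₀ : x₀ = ξ.app _ ρ₀ := Subsingleton.elim _ _
    change F.map σ x₀ = F.map σ' x₀ at hσ
    rw [hx₀, ← ξ.natural, ← ξ.natural] at hσ
    have h1 := (hξ _).1 hσ
    apply Art.hom_ext
    apply AlgHom.ext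
    intro c
    obtain ⟨r, rfl⟩ := R.res_surjective c
    exact congrArg (fun g : HomSet R.carrier R.res (dual Λ k) => g.1 r) h1
  · rintro ⟨⟨h0, hrs⟩, h3, hc⟩
    have hRS : RS F := hrs
    haveI : Algebra.FiniteType Λ k := inferInstance
    obtain ⟨m, f, hf⟩ := Algebra.FiniteType.iff_quotient_mvPolynomial''.mp ‹Algebra.FiniteType Λ k›
    obtain ⟨R₀, ξ₀, hξ₀, -⟩ := Groth.Agent.H6.exists_versal_aux h0 hRS.s1 hRS.heps h3 f hf
    obtain ⟨R, ξ, hmin, -⟩ := Groth.Agent.H6.MinVers.main12759 h0 ⟨R₀, ξ₀, hξ₀⟩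
    have hinj : ∀ ⦃B A A₁ A₂ : Art Λ k⦄ (p₁ : B ⟶ A₁) (p₂ : B ⟶ A₂) (f₁ : A₁ ⟶ A) (f₂ : A₂ ⟶ A)
        (h : IsFibreProd p₁ p₂ f₁ f₂), Function.Surjective f₂ → Function.Injective (cmp F h) :=
      fun B A A₁ A₂ p₁ p₂ f₁ f₂ h hs => (hrs p₁ p₂ f₁ f₂ h hs).1
    exact ⟨⟨R, ξ, isUniversal_of_isVersal_of_hsq ξ hmin.1 h0
      (fun B A A' p₁ p₂ f h hf => hinj p₁ p₂ f f h hf.1)
      (tangent_injective_of_minimal ξ hmin hinj hc)⟩⟩

end Groth.Agent.H6.ProrepGen
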