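import Mathlib

set_option autoImplicit false
set_option linter.dupNamespace false

namespace Groth.Agent.H6.Prf

universe u

section geom
variable {L : Type*} [Field L] {Γ : Type*} [LinearOrderedCommGroupWithZero Γ] (v : Valuation L Γ)

/-- geometric sum `1 + x + ... + x^(s-1)` -/
def gs (x : L) (s : ℕ) : L := ∑ i ∈ Finset.range s, x ^ i

theorem gs_zero (x : L) : gs x 0 = 0 := by simp [gs]

theorem gs_one (x : L) : gs x 1 = 1 := by simp [gs]

theorem gs_succ (x : L) (s : ℕ) : gs x (s + 1) = gs x s + x ^ s := by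
  simp [gs, Finset.sum_range_succ]

theorem gs_succ' (x : L) (s : ℕ) : gs x (s + 1) = 1 + x * gs x s := by
  unfold gs
  rw [Finset.sum_range_succ', Finset.mul_sum, pow_zero, add_comm]
  congr 1
  apply Finset.sum_congr rfl
  intro i _
  rw [pow_succ']

theorem gs_add (x : L) (a b : ℕ) : gs x (a + b) = gs x a + x ^ a * gs x b := by
  induction b with
  | zero => simp [gs_zero]
  | succ b ih =>
    rw [← add_assoc, gs_succ, ih, gs_succ]
    ring

theorem gs_mul (x : L) (s q : ℕ) : gs x (q * s) = gs x s * gs (x ^ s) q := by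
  induction q with
  | zero => simp [gs_zero]
  | succ q ih =>
    rw [Nat.succ_mul, gs_add, ih, gs_succ]
    ring

theorem val_gs_le_one {x : L} (hx : v x ≤ 1) (s : ℕ) : v (gs x s) ≤ 1 := by
  unfold gs
  apply v.map_sum_le
  intro i _
  rw [map_pow]
  exact pow_le_one₀ zero_le hx

theorem val_gs_of_gt {x : L} (hx : 1 < v x) (s : ℕ) : v (gs x (s + 1)) = v x ^ s := by
  induction s with
  | zero => simp [gs_one]
  | succ s ih =>
    rw [gs_succ]
    have : v (gs x (s + 1)) < v (x ^ (s + 1)) := by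
      rw [ih, map_pow]
      exact pow_lt_pow_right₀ hx (Nat.lt_succ_self s)
    rw [Valuation.map_add_eq_of_lt_right v this, map_pow]

theorem exists_period (x : L) : ∃ N : ℕ, 1 ≤ N ∧ ∀ q : ℕ, 1 ≤ q →
    1 ≤ v (gs x (q * N + 1)) ∧ v x ≤ v (gs x (q * N + 1)) := by
  rcases lt_or_ge 1 (v x) with hx | hx
  · refine ⟨1, le_rfl, fun q hq => ?_⟩
    rw [mul_one, val_gs_of_gt v hx]
    have h1 : v x ≤ v x ^ q := le_self_pow₀ hx.le (by omega)
    exact ⟨hx.le.trans h1, h1⟩
  · by_cases hex : ∃ s₀ : ℕ, 1 ≤ s₀ ∧ v (gs x s₀) < 1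
    · obtain ⟨s₀, hs₀, hlt⟩ := hex
      refine ⟨s₀, hs₀, fun q _ => ?_⟩
      have h1 : v (gs x (q * s₀ + 1)) = 1 := by
        rw [gs_succ', gs_mul]
        apply Valuation.map_one_add_of_lt
        rw [map_mul, map_mul]
        calc v x * (v (gs x s₀) * v (gs (x ^ s₀) q)) ≤ 1 * (v (gs x s₀) * 1) := by
              apply mul_le_mul' hx
              apply mul_le_mul' le_rfl
              apply val_gs_le_one
              rw [map_pow]
              exact pow_le_one₀ zero_le hx
          _ < 1 := by rw [one_mul, mul_one]; exact hlt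
      rw [h1]
      exact ⟨le_rfl, hx⟩
    · push Not at hex
      refine ⟨1, le_rfl, fun q hq => ?_⟩
      have := hex (q * 1 + 1) (by omega)
      exact ⟨this, hx.trans this⟩

end geom

section abstract
variable {L : Type u} [Field L] (K : Subfield L) {ι : Type*} [Finite ι] [Nonempty ι]
  (V : ι → ValuationSubring L)

theorem exists_gs (x : L) : ∃ s : ℕ, gs x s ≠ 0 ∧
    ∀ i, 1 ≤ (V i).valuation (gs x s) ∧ (V i).valuation x ≤ (V i).valuation (gs x s) := by
  classical
  have : Fintype ι := Fintype.ofFinite ι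
  choose N hN1 hN using fun i => exists_period (V i).valuation x
  have key : ∀ i, 1 ≤ (V i).valuation (gs x ((∏ j, N j) + 1)) ∧
      (V i).valuation x ≤ (V i).valuation (gs x ((∏ j, N j) + 1)) := by
    intro i
    have h1 : ∏ j, N j = (∏ j ∈ Finset.univ.erase i, N j) * N i :=
      (Finset.prod_erase_mul _ _ (Finset.mem_univ i)).symm
    rw [h1]
    apply hN i
    exact Nat.one_le_iff_ne_zero.mpr (Finset.prod_ne_zero_iff.mpr
      (fun j _ => Nat.one_le_iff_ne_zero.mp (hN1 j)))
  refine ⟨(∏ j, N j) + 1, ?_, key⟩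
  obtain ⟨i₀⟩ := ‹Nonempty ι›
  intro h0
  have := (key i₀).1
  rw [h0, map_zero] at this
  exact not_le.mpr zero_lt_one this

omit [Finite ι] [Nonempty ι] in
theorem gs_mem_K {x : L} (hx : x ∈ K) (s : ℕ) : gs x s ∈ K := by
  unfold gs
  exact sum_mem (fun i _ => pow_mem hx i)

variable (D : Subring L) (hD : ∀ x, x ∈ D ↔ x ∈ K ∧ ∀ i, x ∈ V i)
include hD

/-- Lemma 1: denominators -/
theorem exists_denominator {x : L} (hx : x ∈ K) :
    ∃ y : L, y ≠ 0 ∧ y ∈ D ∧ x * y ∈ D ∧ ∀ i, x ∈ V i → (V i).valuation y = 1 := by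
  obtain ⟨s, hs0, hs⟩ := exists_gs V x
  refine ⟨(gs x s)⁻¹, inv_ne_zero hs0, ?_, ?_, ?_⟩
  · rw [hD]
    refine ⟨inv_mem (gs_mem_K K hx s), fun i => ?_⟩
    rw [← ValuationSubring.valuation_le_one_iff, map_inv₀]
    exact inv_le_one_of_one_le₀ (hs i).1
  · rw [hD]
    refine ⟨mul_mem hx (inv_mem (gs_mem_K K hx s)), fun i => ?_⟩
    rw [← ValuationSubring.valuation_le_one_iff, map_mul, map_inv₀]
    have hpos : 0 < (V i).valuation (gs x s) := lt_of_lt_of_le zero_lt_one (hs i).1
    rw [mul_inv_le_iff₀ hpos, one_mul]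
    exact (hs i).2
  · intro i hxi
    rw [map_inv₀, inv_eq_one]
    apply le_antisymm _ (hs i).1
    apply val_gs_le_one
    exact (ValuationSubring.valuation_le_one_iff _ _).mpr hxi

/-- the prime ideals of `D` cut out by the valuations -/
def PP (i : ι) : Ideal D where
  carrier := {d | (V i).valuation (d : L) < 1}
  add_mem' {a b} ha hb := by
    show (V i).valuation ((a : L) + (b : L)) < 1
    exact Valuation.map_add_lt _ ha hb
  zero_mem' := by
    show (V i).valuation ((0 : D) : L) < 1
    simp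
  smul_mem' c {d} hd := by
    show (V i).valuation ((c : L) * (d : L)) < 1
    rw [map_mul]
    have hc : (V i).valuation (c : L) ≤ 1 :=
      (ValuationSubring.valuation_le_one_iff _ _).mpr (((hD c).mp c.2).2 i)
    calc (V i).valuation (c : L) * (V i).valuation (d : L) ≤ 1 * (V i).valuation (d : L) :=
          mul_le_mul' hc le_rfl
      _ < 1 := by rw [one_mul]; exact hd

theorem mem_PP (i : ι) (d : D) : d ∈ PP K V D hD i ↔ (V i).valuation (d : L) < 1 := Iff.rfl

theorem val_le_one (i : ι) (d : D) : (V i).valuation (d : L) ≤ 1 :=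
  (ValuationSubring.valuation_le_one_iff _ _).mpr (((hD d).mp d.2).2 i)

instance PP_isPrime (i : ι) : (PP K V D hD i).IsPrime where
  ne_top' := by
    intro h
    have : (1 : D) ∈ PP K V D hD i := h ▸ Submodule.mem_top
    rw [mem_PP] at this
    simp at this
  mem_or_mem' {a b} hab := by
    rw [mem_PP] at hab ⊢
    rw [mem_PP]
    by_contra hcon
    push Not at hcon
    have ha : (V i).valuation (a : L) = 1 := le_antisymm (val_le_one K V D hD i a) hcon.1
    have hb : (V i).valuation (b : L) = 1 := le_antisymm (val_le_one K V D hD i b) hcon.2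
    have : (V i).valuation ((a : L) * (b : L)) = 1 := by rw [map_mul, ha, hb, one_mul]
    have h2 : (V i).valuation (((a * b : D) : D) : L) < 1 := hab
    rw [Subring.coe_mul, this] at h2
    exact lt_irrefl _ h2

/-- Lemma 2: an ideal not contained in any `PP i` is the unit ideal -/
theorem eq_top_of_not_le (I : Ideal D) (h : ∀ i, ¬ I ≤ PP K V D hD i) : I = ⊤ := by
  classical
  have : Fintype ι := Fintype.ofFinite ι
  obtain ⟨i₀⟩ := ‹Nonempty ι›
  have h1 : ¬ ((I : Set D) ⊆ ⋃ i ∈ ((Finset.univ : Finset ι) : Set ι), (PP K V D hD i : Set D)) := by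
    rw [Ideal.subset_union_prime i₀ i₀ (fun i _ _ _ => PP_isPrime K V D hD i)]
    rintro ⟨i, _, hi⟩
    exact h i hi
  rw [Set.not_subset] at h1
  obtain ⟨a, haI, ha⟩ := h1
  simp only [Finset.coe_univ, Set.mem_univ, Set.iUnion_true, Set.mem_iUnion, SetLike.mem_coe,
    not_exists] at ha
  have hval : ∀ i, (V i).valuation (a : L) = 1 := fun i =>
    le_antisymm (val_le_one K V D hD i a) (not_lt.mp (ha i))
  have ha0 : (a : L) ≠ 0 := by
    intro h0
    have := hval i₀
    rw [h0, map_zero] at this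
    exact zero_ne_one this
  have hinv : (a : L)⁻¹ ∈ D := by
    rw [hD]
    refine ⟨inv_mem ((hD a).mp a.2).1, fun i => ?_⟩
    rw [← ValuationSubring.valuation_le_one_iff, map_inv₀, hval i, inv_one]
  rw [Ideal.eq_top_iff_one]
  have : (1 : D) = (⟨(a : L)⁻¹, hinv⟩ : D) * a := by
    apply Subtype.ext
    show (1 : L) = (a : L)⁻¹ * (a : L)
    rw [inv_mul_cancel₀ ha0]
  rw [this]
  exact I.mul_mem_left _ haI

theorem exists_le_PP (p : Ideal D) (hp : p ≠ ⊤) : ∃ i, p ≤ PP K V D hD i := by
  by_contra hcon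
  push Not at hcon
  exact hp (eq_top_of_not_le K V D hD p hcon)

theorem finite_maximalSpectrum : Finite (MaximalSpectrum D) := by
  classical
  choose g hg using fun m : MaximalSpectrum D => exists_le_PP K V D hD m.asIdeal m.isMaximal.ne_top
  have heq : ∀ m : MaximalSpectrum D, m.asIdeal = PP K V D hD (g m) := fun m =>
    m.isMaximal.eq_of_le (PP_isPrime K V D hD (g m)).ne_top (hg m)
  apply Finite.of_injective g
  intro m m' h
  apply MaximalSpectrum.ext
  rw [heq m, heq m', h]

theorem fraction (x : L) (hx : x ∈ K) : ∃ a b : L, a ∈ D ∧ b ∈ D ∧ b ≠ 0 ∧ x = a / b := by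
  obtain ⟨y, hy0, hyD, hxyD, -⟩ := exists_denominator K V D hD hx
  exact ⟨x * y, y, hxyD, hyD, hy0, by field_simp⟩

theorem exists_frac_notMem (p : Ideal D) [hp : p.IsPrime] (x : L) (hx : x ∈ K) :
    (∃ u t : D, t ∉ p ∧ x * (t : L) = (u : L)) ∨ (∃ u t : D, t ∉ p ∧ x⁻¹ * (t : L) = (u : L)) := by
  obtain ⟨i, hi⟩ := exists_le_PP K V D hD p hp.ne_top
  have aux : ∀ z : L, z ∈ K → z ∈ V i → ∃ u t : D, t ∉ p ∧ z * (t : L) = (u : L) := by
    intro z hzK hzV
    obtain ⟨y, _, hyD, hzyD, hval⟩ := exists_denominator K V D hD hzK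
    refine ⟨⟨z * y, hzyD⟩, ⟨y, hyD⟩, ?_, rfl⟩
    intro hyp
    have := hi hyp
    rw [mem_PP, hval i hzV] at this
    exact lt_irrefl _ this
  rcases (V i).mem_or_inv_mem x with h | h
  · exact Or.inl (aux x hx h)
  · exact Or.inr (aux x⁻¹ (inv_mem hx) h)

theorem valuationRing_localization (p : Ideal D) [hp : p.IsPrime] :
    ValuationRing (Localization.AtPrime p) := by
  refine { cond' := fun a b => ?_ }
  obtain ⟨a₁, s₁, rfl⟩ := IsLocalization.exists_mk'_eq p.primeCompl a
  obtain ⟨b₁, s₂, rfl⟩ := IsLocalization.exists_mk'_eq p.primeCompl b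
  by_cases ha : a₁ = 0
  · refine ⟨0, Or.inr ?_⟩
    rw [ha, IsLocalization.mk'_zero, mul_zero]
  by_cases hb : b₁ = 0
  · refine ⟨0, Or.inl ?_⟩
    rw [hb, IsLocalization.mk'_zero, mul_zero]
  have ha' : (a₁ : L) ≠ 0 := fun h => ha (Subtype.ext h)
  have hb' : (b₁ : L) ≠ 0 := fun h => hb (Subtype.ext h)
  have hxK : (a₁ : L) / (b₁ : L) ∈ K := div_mem ((hD a₁).mp a₁.2).1 ((hD b₁).mp b₁.2).1
  rcases exists_frac_notMem K V D hD p _ hxK with ⟨u, t, htp, hut⟩ | ⟨u, t, htp, hut⟩
  · -- a₁ t = u b₁ : b * c = a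
    have hD1 : a₁ * t = u * b₁ := by
      apply Subtype.ext
      show (a₁ : L) * (t : L) = (u : L) * (b₁ : L)
      rw [← hut]
      field_simp
    refine ⟨IsLocalization.mk' _ (u * s₂) (⟨t, htp⟩ * s₁), Or.inr ?_⟩
    rw [← IsLocalization.mk'_mul, IsLocalization.mk'_eq_iff_eq]
    congr 1
    simp only [Submonoid.coe_mul]
    linear_combination ((s₁ : D) * (s₂ : D)) * hD1.symm
  · have hD1 : b₁ * t = u * a₁ := by
      apply Subtype.ext
      show (b₁ : L) * (t : L) = (u : L) * (a₁ : L)
      rw [← hut]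
      field_simp
    refine ⟨IsLocalization.mk' _ (u * s₁) (⟨t, htp⟩ * s₂), Or.inl ?_⟩
    rw [← IsLocalization.mk'_mul, IsLocalization.mk'_eq_iff_eq]
    congr 1
    simp only [Submonoid.coe_mul]
    linear_combination ((s₁ : D) * (s₂ : D)) * hD1.symm

end abstract

section concrete
variable (R L : Type u) [CommRing R] [IsDomain R] [Field L] [Algebra R L] [IsFractionRing R L]

theorem phi_hg (m : MaximalSpectrum R) :
    ∀ y : m.asIdeal.primeCompl, IsUnit (algebraMap R L (y : R)) := by
  intro y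
  apply IsUnit.mk0
  intro h0
  have : (y : R) = 0 := (IsFractionRing.injective R L) (by rw [h0, map_zero])
  exact y.2 (this ▸ m.asIdeal.zero_mem)

/-- the canonical map from the localization at a maximal ideal to the fraction field -/
noncomputable def phi (m : MaximalSpectrum R) : Localization.AtPrime m.asIdeal →+* L :=
  IsLocalization.lift (M := m.asIdeal.primeCompl) (g := algebraMap R L) (phi_hg R L m)

theorem mem_range_phi (m : MaximalSpectrum R) (x : L) :
    x ∈ (phi R L m).range ↔ ∃ r s : R, s ∉ m.asIdeal ∧ x * algebraMap R L s = algebraMap R L r := by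
  constructor
  · rintro ⟨c, rfl⟩
    obtain ⟨r, s, rfl⟩ := IsLocalization.exists_mk'_eq m.asIdeal.primeCompl c
    refine ⟨r, s, s.2, ?_⟩
    have := (IsLocalization.lift_mk'_spec (S := Localization.AtPrime m.asIdeal)
      (phi_hg R L m) r (phi R L m (IsLocalization.mk' _ r s)) s).mp rfl
    rw [this, mul_comm]
  · rintro ⟨r, s, hs, h⟩
    refine ⟨IsLocalization.mk' _ r (⟨s, hs⟩ : m.asIdeal.primeCompl), ?_⟩
    apply (IsLocalization.lift_mk'_spec (S := Localization.AtPrime m.asIdeal)
      (phi_hg R L m) r x ⟨s, hs⟩).mpr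
    rw [← h, mul_comm]

/-- the valuation subring of `L` attached to a maximal ideal of a Prüfer domain -/
noncomputable def VV (hR : ∀ (p : Ideal R) [p.IsPrime], ValuationRing (Localization.AtPrime p))
    (m : MaximalSpectrum R) : ValuationSubring L :=
  { (phi R L m).range with
    mem_or_inv_mem' := by
      intro x
      obtain ⟨a, b, hb, rfl⟩ := IsFractionRing.div_surjective (A := R) x
      have hb0 : algebraMap R L b ≠ 0 := by
        intro h0
        have : b = 0 := (IsFractionRing.injective R L) (by rw [h0, map_zero])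
        exact nonZeroDivisors.ne_zero hb this
      by_cases ha : a = 0
      · left
        rw [ha, map_zero, zero_div]
        exact Subring.zero_mem _
      have ha0 : algebraMap R L a ≠ 0 := by
        intro h0
        exact ha ((IsFractionRing.injective R L) (by rw [h0, map_zero]))
      have : ValuationRing (Localization.AtPrime m.asIdeal) := hR m.asIdeal
      obtain ⟨c, hc | hc⟩ := ValuationRing.cond
        (algebraMap R (Localization.AtPrime m.asIdeal) a)
        (algebraMap R (Localization.AtPrime m.asIdeal) b)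
      · right
        refine ⟨c, ?_⟩
        have := congrArg (phi R L m) hc
        rw [map_mul] at this
        simp only [phi, IsLocalization.lift_eq] at this
        rw [inv_div, eq_div_iff ha0, mul_comm]
        exact this
      · left
        refine ⟨c, ?_⟩
        have := congrArg (phi R L m) hc
        rw [map_mul] at this
        simp only [phi, IsLocalization.lift_eq] at this
        rw [eq_div_iff hb0, mul_comm]
        exact this }

theorem mem_VV (hR : ∀ (p : Ideal R) [p.IsPrime], ValuationRing (Localization.AtPrime p))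
    (m : MaximalSpectrum R) (x : L) :
    x ∈ VV R L hR m ↔ ∃ r s : R, s ∉ m.asIdeal ∧ x * algebraMap R L s = algebraMap R L r :=
  mem_range_phi R L m x

theorem mem_range_iff (hR : ∀ (p : Ideal R) [p.IsPrime], ValuationRing (Localization.AtPrime p))
    (x : L) : x ∈ (algebraMap R L).range ↔ ∀ m : MaximalSpectrum R, x ∈ VV R L hR m := by
  constructor
  · rintro ⟨r, rfl⟩ m
    rw [mem_VV]
    exact ⟨r, 1, fun h => m.isMaximal.ne_top (m.asIdeal.eq_top_iff_one.mpr h), by simp⟩
  · intro h
    let I : Ideal R :=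
      { carrier := {t | ∃ r, x * algebraMap R L t = algebraMap R L r}
        add_mem' := by
          rintro t t' ⟨r, hr⟩ ⟨r', hr'⟩
          exact ⟨r + r', by rw [map_add, mul_add, hr, hr', map_add]⟩
        zero_mem' := ⟨0, by simp⟩
        smul_mem' := by
          rintro c t ⟨r, hr⟩
          refine ⟨c * r, ?_⟩
          rw [smul_eq_mul, map_mul, map_mul, ← hr]
          ring }
    have hI : I = ⊤ := by
      by_contra hne
      obtain ⟨m, hm, hle⟩ := Ideal.exists_le_maximal I hne
      obtain ⟨r, s, hs, hrs⟩ := (mem_VV R L hR ⟨m, hm⟩ x).mp (h ⟨m, hm⟩)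
      exact hs (hle ⟨r, hrs⟩)
    have h1 : (1 : R) ∈ I := hI ▸ Submodule.mem_top
    obtain ⟨r, hr⟩ := h1
    exact ⟨r, by rw [← hr]; simp⟩

theorem main (hR : ∀ (p : Ideal R) [p.IsPrime], ValuationRing (Localization.AtPrime p))
    (hfin : Finite (MaximalSpectrum R)) (K : Subfield L) :
    (∀ (p : Ideal ↥((algebraMap R L).range ⊓ K.toSubring)) [p.IsPrime],
        ValuationRing (Localization.AtPrime p)) ∧
      Finite (MaximalSpectrum ↥((algebraMap R L).range ⊓ K.toSubring)) ∧
      ∀ x : L, x ∈ K → ∃ a b : L, a ∈ (algebraMap R L).range ⊓ K.toSubring ∧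
        b ∈ (algebraMap R L).range ⊓ K.toSubring ∧ b ≠ 0 ∧ x = a / b := by
  have hne : Nonempty (MaximalSpectrum R) := by
    obtain ⟨m, hm⟩ := Ideal.exists_maximal R
    exact ⟨⟨m, hm⟩⟩
  have hD : ∀ x, x ∈ (algebraMap R L).range ⊓ K.toSubring ↔
      x ∈ K ∧ ∀ m : MaximalSpectrum R, x ∈ VV R L hR m := by
    intro x
    rw [Subring.mem_inf, mem_range_iff R L hR]
    exact ⟨fun h => ⟨h.2, h.1⟩, fun h => ⟨h.2, h.1⟩⟩
  refine ⟨fun p _ => valuationRing_localization K (VV R L hR) _ hD p,
    finite_maximalSpectrum K (VV R L hR) _ hD, fun x hx => fraction K (VV R L hR) _ hD x hx⟩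

end concrete

end Groth.Agent.H6.Prf
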