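import Mathlib
set_option autoImplicit false
universe u
namespace Groth.Agent.H6.VH

variable {K : Type u} [Field K]

/-- the full value group `K^× / B^×` written additively -/
abbrev MM (B : ValuationSubring K) : Type u :=
  Additive Kˣ ⧸ Subgroup.toAddSubgroup B.unitGroup

theorem sum_zsmul_mk {ι : Type*} [Fintype ι] (H : Subgroup Kˣ) (x : ι → Kˣ) (g : ι → ℤ) :
    ∑ i, g i • (QuotientAddGroup.mk (Additive.ofMul (x i)) :
      Additive Kˣ ⧸ Subgroup.toAddSubgroup H) =
      QuotientAddGroup.mk (Additive.ofMul (∏ i, (x i) ^ (g i))) := by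
  rw [ofMul_prod, QuotientAddGroup.mk_sum]
  rfl

theorem linearIndependent_of_chain (B : ValuationSubring K) (r : ℕ)
    (p : Fin (r + 1) → PrimeSpectrum B) (hp : StrictMono p) :
    ∃ x : Fin r → Kˣ, LinearIndependent ℤ
      (fun i => (QuotientAddGroup.mk (Additive.ofMul (x i)) : MM B)) := by
  have hex : ∀ i : Fin r, ∃ b : B, b ∈ (p i.succ).asIdeal ∧ b ∉ (p i.castSucc).asIdeal := by
    intro i
    have hlt : (p i.castSucc).asIdeal < (p i.succ).asIdeal := hp (Fin.castSucc_lt_succ)
    exact SetLike.exists_of_lt hlt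
  choose b hb1 hb2 using hex
  have hb0 : ∀ i, ((b i : B) : K) ≠ 0 := by
    intro i h
    apply hb2 i
    have : b i = 0 := Subtype.ext h
    rw [this]; exact zero_mem _
  refine ⟨fun i => Units.mk0 _ (hb0 i), ?_⟩
  rw [Fintype.linearIndependent_iff]
  intro g hg
  rw [sum_zsmul_mk, QuotientAddGroup.eq_zero_iff] at hg
  have hz : (∏ i, (Units.mk0 _ (hb0 i)) ^ (g i) : Kˣ) ∈ B.unitGroup := hg
  -- strong induction on the index
  suffices H : ∀ n : ℕ, ∀ i : Fin r, i.val = n → g i = 0 from fun i => H i.val i rfl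
  intro n
  induction n using Nat.strong_induction_on with
  | _ n ih =>
    intro i hi
    let P := (p i.succ).asIdeal
    let w := (B.ofPrime P).valuation
    have hzw : w ((∏ j, (Units.mk0 _ (hb0 j)) ^ (g j) : Kˣ) : K) = 1 := by
      have hle : B.unitGroup ≤ (B.ofPrime P).unitGroup :=
        ValuationSubring.unitGroup_le_unitGroup.mpr (B.le_ofPrime P)
      exact (ValuationSubring.mem_unitGroup_iff _ _).mp (hle hz)
    rw [Units.coe_prod, map_prod] at hzw
    have hfac : ∀ j : Fin r, j ≠ i →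
        w (((Units.mk0 _ (hb0 j)) ^ (g j) : Kˣ) : K) = 1 := by
      intro j hji
      rw [Units.val_zpow_eq_zpow_val, map_zpow₀]
      rcases lt_or_gt_of_ne hji with hlt | hgt
      · rw [ih j.val (hi ▸ hlt) j rfl, zpow_zero]
      · have hnot : b j ∉ P := by
          intro hmem
          apply hb2 j
          have hle : p i.succ ≤ p j.castSucc := hp.monotone (by
            rw [Fin.le_def]; simp only [Fin.val_succ, Fin.val_castSucc]; exact hgt)
          exact hle hmem
        have : w ((b j : B) : K) = 1 :=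
          (ValuationSubring.ofPrime_valuation_eq_one_iff_mem_primeCompl B P (b j)).mpr hnot
        change w ((b j : B) : K) ^ (g j) = 1
        rw [this, one_zpow]
    rw [Finset.prod_eq_single i (fun j _ hji => hfac j hji) (fun h => absurd (Finset.mem_univ i) h),
      Units.val_zpow_eq_zpow_val, map_zpow₀] at hzw
    have hne1 : w ((b i : B) : K) ≠ 1 := by
      intro h1
      exact ((ValuationSubring.ofPrime_valuation_eq_one_iff_mem_primeCompl B P (b i)).mp h1)
        (hb1 i)
    exact (zpow_eq_one_iff_right₀ zero_le hne1).mp hzw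

end Groth.Agent.H6.VH

namespace Groth.Agent.H6.VH

variable {K : Type u} [Field K]

theorem rank_le_add_one (B : ValuationSubring K) (G₀ : Subgroup Kˣ) (c : Kˣ)
    (hc : ∀ z ∈ G₀, ∃ n : ℤ, z * c ^ n ∈ B.unitGroup) :
    Module.rank ℤ (MM B) ≤
      Module.rank ℤ (Additive Kˣ ⧸ Subgroup.toAddSubgroup (B.unitGroup ⊔ G₀)) + 1 := by
  have hle : Subgroup.toAddSubgroup B.unitGroup ≤
      (Subgroup.toAddSubgroup (B.unitGroup ⊔ G₀)).comap (AddMonoidHom.id (Additive Kˣ)) := by
    intro y hy
    exact (le_sup_left : B.unitGroup ≤ B.unitGroup ⊔ G₀) hy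
  let f : MM B →+ Additive Kˣ ⧸ Subgroup.toAddSubgroup (B.unitGroup ⊔ G₀) :=
    QuotientAddGroup.map _ _ (AddMonoidHom.id _) hle
  let fL : MM B →ₗ[ℤ] (Additive Kˣ ⧸ Subgroup.toAddSubgroup (B.unitGroup ⊔ G₀)) :=
    AddMonoidHom.toIntLinearMap f
  have h1 := LinearMap.rank_range_add_rank_ker fL
  have h2 : Module.rank ℤ (LinearMap.range fL) ≤
      Module.rank ℤ (Additive Kˣ ⧸ Subgroup.toAddSubgroup (B.unitGroup ⊔ G₀)) :=
    Submodule.rank_le _
  have h3 : LinearMap.ker fL ≤
      Submodule.span ℤ {(QuotientAddGroup.mk (Additive.ofMul c) : MM B)} := by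
    intro m hm
    obtain ⟨y, rfl⟩ := QuotientAddGroup.mk_surjective m
    rw [LinearMap.mem_ker] at hm
    have hm' : (QuotientAddGroup.mk y :
        Additive Kˣ ⧸ Subgroup.toAddSubgroup (B.unitGroup ⊔ G₀)) = 0 := hm
    rw [QuotientAddGroup.eq_zero_iff] at hm'
    have hy : Additive.toMul y ∈ B.unitGroup ⊔ G₀ := hm'
    obtain ⟨u, hu, z, hz, huz⟩ := Subgroup.mem_sup.mp hy
    obtain ⟨n, hn⟩ := hc z hz
    rw [Submodule.mem_span_singleton]
    refine ⟨-n, ?_⟩
    rw [← QuotientAddGroup.mk_zsmul, QuotientAddGroup.eq]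
    change (Additive.toMul (-(-n • Additive.ofMul c) + y) : Kˣ) ∈ B.unitGroup
    have e1 : (Additive.toMul (-(-n • Additive.ofMul c) + y) : Kˣ) = u * (z * c ^ n) := by
      simp only [neg_smul, neg_neg, toMul_add, toMul_zsmul, toMul_ofMul]
      rw [← huz, mul_comm (c ^ n), mul_assoc]
    rw [e1]
    exact mul_mem hu hn
  have h4 : Module.rank ℤ (LinearMap.ker fL) ≤ 1 := by
    refine (Submodule.rank_mono h3).trans ?_
    refine (rank_span_le _).trans ?_
    rw [Cardinal.mk_singleton]
  calc Module.rank ℤ (MM B) = Module.rank ℤ (LinearMap.range fL) +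
        Module.rank ℤ (LinearMap.ker fL) := h1.symm
    _ ≤ _ := add_le_add h2 h4

end Groth.Agent.H6.VH
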