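import Mathlib
set_option autoImplicit false
universe u
namespace Groth.Agent.H6.VH

variable {K : Type u} [Field K]

theorem exists_int_div_of_mem_bot (z : K) (hz : z ∈ (⊥ : Subfield K)) :
    ∃ a b : ℤ, (b : K) ≠ 0 ∧ z = a / b := by
  rw [← Subfield.closure_empty] at hz
  induction hz using Subfield.closure_induction with
  | mem x hx => exact absurd hx (Set.notMem_empty x)
  | one => exact ⟨1, 1, by simp, by simp⟩
  | add x y _ _ hx hy =>
    obtain ⟨a, b, hb, rfl⟩ := hx
    obtain ⟨a', b', hb', rfl⟩ := hy
    refine ⟨a * b' + a' * b, b * b', by push_cast; exact mul_ne_zero hb hb', ?_⟩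
    push_cast
    field_simp
  | neg x _ hx =>
    obtain ⟨a, b, hb, rfl⟩ := hx
    exact ⟨-a, b, hb, by push_cast; ring⟩
  | inv x _ hx =>
    obtain ⟨a, b, hb, rfl⟩ := hx
    by_cases ha : (a : K) = 0
    · exact ⟨0, 1, by simp, by simp [ha]⟩
    · exact ⟨b, a, ha, by rw [inv_div]⟩
  | mul x y _ _ hx hy =>
    obtain ⟨a, b, hb, rfl⟩ := hx
    obtain ⟨a', b', hb', rfl⟩ := hy
    refine ⟨a * a', b * b', by push_cast; exact mul_ne_zero hb hb', ?_⟩
    push_cast
    field_simp

/-- values of integers under a valuation with valuation ring `B` are powers of one value -/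
theorem exists_val_int (B : ValuationSubring K) :
    ∃ c : Kˣ, ∀ m : ℤ, (m : K) ≠ 0 → ∃ k : ℕ, B.valuation (m : K) = B.valuation (c : K) ^ k := by
  let P : Ideal ℤ := (IsLocalRing.maximalIdeal B).comap (Int.castRingHom B)
  have hPne : P ≠ ⊤ := Ideal.comap_ne_top _ (IsLocalRing.maximalIdeal.isMaximal B).ne_top
  let c₀ : ℤ := Submodule.IsPrincipal.generator P
  have hc₀ : P = Ideal.span {c₀} := (Ideal.span_singleton_generator P).symm
  by_cases hcK : (c₀ : K) = 0
  · -- then every nonzero integer is a unit of B
    refine ⟨1, fun m hm => ⟨0, ?_⟩⟩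
    rw [pow_zero]
    have hmP : m ∉ P := by
      intro hmem
      rw [hc₀, Ideal.mem_span_singleton'] at hmem
      obtain ⟨a, rfl⟩ := hmem
      apply hm
      push_cast
      rw [hcK, mul_zero]
    have hunit : IsUnit (Int.castRingHom B m) := by
      by_contra hnu
      exact hmP ((IsLocalRing.mem_maximalIdeal _).mpr hnu)
    have := (ValuationSubring.valuation_eq_one_iff B (Int.castRingHom B m)).mp hunit
    simpa using this
  · refine ⟨Units.mk0 (c₀ : K) hcK, ?_⟩
    have hc₀0 : c₀ ≠ 0 := by rintro h; apply hcK; rw [h]; simp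
    have hc₀1 : c₀.natAbs ≠ 1 := by
      intro h1
      apply hPne
      rw [hc₀, Ideal.span_singleton_eq_top]
      exact Int.isUnit_iff_natAbs_eq.mpr h1
    have hc₀2 : 2 ≤ c₀.natAbs := by
      have : c₀.natAbs ≠ 0 := Int.natAbs_ne_zero.mpr hc₀0
      omega
    intro m
    induction hn : m.natAbs using Nat.strong_induction_on generalizing m with
    | _ n ih =>
      intro hm
      by_cases hmP : m ∈ P
      · rw [hc₀, Ideal.mem_span_singleton'] at hmP
        obtain ⟨m', rfl⟩ := hmP
        have hm'K : (m' : K) ≠ 0 := by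
          intro h; apply hm; push_cast; rw [h, zero_mul]
        have hm'0 : m' ≠ 0 := by rintro rfl; exact hm'K (by simp)
        have hlt : m'.natAbs < n := by
          rw [← hn, Int.natAbs_mul]
          have : 0 < m'.natAbs := Int.natAbs_pos.mpr hm'0
          nlinarith
        obtain ⟨k, hk⟩ := ih m'.natAbs hlt m' rfl hm'K
        refine ⟨k + 1, ?_⟩
        push_cast
        rw [map_mul, hk, pow_succ]
        rfl
      · refine ⟨0, ?_⟩
        rw [pow_zero]
        have hunit : IsUnit (Int.castRingHom B m) := by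
          by_contra hnu
          exact hmP ((IsLocalRing.mem_maximalIdeal _).mpr hnu)
        have := (ValuationSubring.valuation_eq_one_iff B (Int.castRingHom B m)).mp hunit
        simpa using this

end Groth.Agent.H6.VH
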