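import Mathlib
import Groth.Agent.Lib.Helper6.VH1
import Groth.Agent.Lib.Helper6.VH2
import Groth.Agent.Lib.Helper8.Abh2.Main
set_option autoImplicit false
universe u
namespace Groth.Agent.H6.VH

variable {K : Type u} [Field K]

theorem exists_c (B : ValuationSubring K) :
    ∃ c : Kˣ, ∀ z ∈ (Units.map (algebraMap (⊥ : Subfield K) K).toMonoidHom).range,
      ∃ n : ℤ, z * c ^ n ∈ B.unitGroup := by
  obtain ⟨c, hc⟩ := exists_val_int B
  refine ⟨c, ?_⟩
  rintro z ⟨w, rfl⟩
  obtain ⟨a, b, hb, hab⟩ := exists_int_div_of_mem_bot ((w : (⊥ : Subfield K)) : K)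
    (w : (⊥ : Subfield K)).2
  have ha : (a : K) ≠ 0 := by
    intro h
    have : ((w : (⊥ : Subfield K)) : K) = 0 := by rw [hab, h, zero_div]
    exact w.ne_zero (Subtype.ext this)
  obtain ⟨k, hk⟩ := hc a ha
  obtain ⟨l, hl⟩ := hc b hb
  refine ⟨(l : ℤ) - k, ?_⟩
  rw [ValuationSubring.mem_unitGroup_iff]
  have hcne : B.valuation (c : K) ≠ 0 := (Valuation.ne_zero_iff _).mpr c.ne_zero
  have e : ((Units.map (algebraMap (⊥ : Subfield K) K).toMonoidHom w * c ^ ((l : ℤ) - k) : Kˣ) : K)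
      = (a / b) * (c : K) ^ ((l : ℤ) - k) := by
    rw [Units.val_mul, Units.val_zpow_eq_zpow_val, ← hab]
    rfl
  rw [e, map_mul, map_div₀, map_zpow₀, hk, hl, zpow_sub₀ hcne, zpow_natCast, zpow_natCast]
  have h1 : B.valuation (c : K) ^ k ≠ 0 := pow_ne_zero _ hcne
  have h2 : B.valuation (c : K) ^ l ≠ 0 := pow_ne_zero _ hcne
  field_simp

theorem krullDim_le (A : ValuationSubring K) (d : ℕ)
    (hd : Algebra.trdeg (⊥ : Subfield K) K = d) :
    ringKrullDim A ≤ ((d + 1 : ℕ) : WithBot ℕ∞) := by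
  let vL : Valuation K A.ValueGroup := A.valuation
  let vK : Valuation (⊥ : Subfield K) A.ValueGroup := vL.comap (algebraMap (⊥ : Subfield K) K)
  have : vK.HasExtension vL := ⟨Valuation.IsEquiv.refl⟩
  have h := Groth.Agent.H8.Abh2.main vK vL
  have hA : vL.valuationSubring = A := ValuationSubring.valuationSubring_valuation A
  have h1 : Module.rank ℤ (Additive Kˣ ⧸ Subgroup.toAddSubgroup
        (vL.valuationSubring.unitGroup ⊔
          (Units.map (algebraMap (⊥ : Subfield K) K).toMonoidHom).range)) ≤ d := by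
    rw [← hd]
    exact le_trans (le_add_right le_rfl) h
  rw [hA] at h1
  obtain ⟨c, hc⟩ := exists_c A
  have h2 := rank_le_add_one A _ c hc
  have h3 : Module.rank ℤ (MM A) ≤ ((d + 1 : ℕ) : Cardinal) := by
    refine h2.trans ?_
    push_cast
    exact add_le_add h1 le_rfl
  unfold ringKrullDim Order.krullDim
  refine iSup_le fun p => ?_
  obtain ⟨x, hx⟩ := linearIndependent_of_chain A p.length p.toFun p.strictMono
  have h4 := hx.cardinal_lift_le_rank
  rw [Cardinal.mk_fin, Cardinal.lift_natCast, Cardinal.lift_id'] at h4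
  have h5 : p.length ≤ d + 1 := by
    exact_mod_cast h4.trans h3
  exact_mod_cast h5

end Groth.Agent.H6.VH
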