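import Mathlib
import Groth.Agent.Lib.Helper6.VH3
set_option autoImplicit false
universe u
namespace Groth.Agent.H6.VH

variable {K : Type u} [Field K]

theorem exists_c' {K₀ : Type u} [Field K₀] [Algebra K₀ K]
    (hK₀ : ∀ w : K₀, ∃ a b : ℤ, (b : K₀) ≠ 0 ∧ w = a / b) (B : ValuationSubring K) :
    ∃ c : Kˣ, ∀ z ∈ (Units.map (algebraMap K₀ K).toMonoidHom).range,
      ∃ n : ℤ, z * c ^ n ∈ B.unitGroup := by
  obtain ⟨c, hc⟩ := exists_val_int B
  refine ⟨c, ?_⟩
  rintro z ⟨w, rfl⟩
  obtain ⟨a, b, hb, hab⟩ := hK₀ (w : K₀)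
  have hbK : (b : K) ≠ 0 := by
    intro h
    apply hb
    apply (algebraMap K₀ K).injective
    rw [map_intCast, h, map_zero]
  have habK : algebraMap K₀ K (w : K₀) = (a : K) / (b : K) := by
    rw [hab, map_div₀, map_intCast, map_intCast]
  have ha : (a : K) ≠ 0 := by
    intro h
    have : algebraMap K₀ K (w : K₀) = 0 := by rw [habK, h, zero_div]
    exact w.ne_zero ((algebraMap K₀ K).injective (by rw [this, map_zero]))
  obtain ⟨k, hk⟩ := hc a ha
  obtain ⟨l, hl⟩ := hc b hbK
  refine ⟨(l : ℤ) - k, ?_⟩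
  rw [ValuationSubring.mem_unitGroup_iff]
  have hcne : B.valuation (c : K) ≠ 0 := (Valuation.ne_zero_iff _).mpr c.ne_zero
  have e : ((Units.map (algebraMap K₀ K).toMonoidHom w * c ^ ((l : ℤ) - k) : Kˣ) : K)
      = (a / b) * (c : K) ^ ((l : ℤ) - k) := by
    rw [Units.val_mul, Units.val_zpow_eq_zpow_val, ← habK]
    rfl
  rw [e, map_mul, map_div₀, map_zpow₀, hk, hl, zpow_sub₀ hcne, zpow_natCast, zpow_natCast]
  have h1 : B.valuation (c : K) ^ k ≠ 0 := pow_ne_zero _ hcne
  have h2 : B.valuation (c : K) ^ l ≠ 0 := pow_ne_zero _ hcne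
  field_simp

theorem krullDim_le' {K₀ : Type u} [Field K₀] [Algebra K₀ K]
    (hK₀ : ∀ w : K₀, ∃ a b : ℤ, (b : K₀) ≠ 0 ∧ w = a / b)
    (A : ValuationSubring K) (d : ℕ)
    (hd : Algebra.trdeg K₀ K = d) :
    ringKrullDim A ≤ ((d + 1 : ℕ) : WithBot ℕ∞) := by
  let vL : Valuation K A.ValueGroup := A.valuation
  let vK : Valuation K₀ A.ValueGroup := vL.comap (algebraMap K₀ K)
  have : vK.HasExtension vL := ⟨Valuation.IsEquiv.refl⟩
  have h := Groth.Agent.H8.Abh2.main vK vL
  have hA : vL.valuationSubring = A := ValuationSubring.valuationSubring_valuation A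
  have h1 : Module.rank ℤ (Additive Kˣ ⧸ Subgroup.toAddSubgroup
        (vL.valuationSubring.unitGroup ⊔
          (Units.map (algebraMap K₀ K).toMonoidHom).range)) ≤ d := by
    rw [← hd]
    exact le_trans (le_add_right le_rfl) h
  rw [hA] at h1
  obtain ⟨c, hc⟩ := exists_c' hK₀ A
  have h2 := rank_le_add_one A _ c hc
  have h3 : Module.rank ℤ (MM A) ≤ ((d + 1 : ℕ) : Cardinal) := by
    refine h2.trans ?_
    push_cast
    exact add_le_add h1 le_rfl
  unfold ringKrullDim Order.krullDim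
  refine iSup_le fun p => ?_
  obtain ⟨x, hx⟩ := linearIndependent_of_chain A p.length p.toFun p.strictMono
  have h4 := hx.cardinal_lift_le_rank
  rw [Cardinal.mk_fin, Cardinal.lift_natCast, Cardinal.lift_id'] at h4
  have h5 : p.length ≤ d + 1 := by
    exact_mod_cast h4.trans h3
  exact_mod_cast h5

theorem finite_of_krullDim_le {α : Type*} [LinearOrder α] (n : ℕ)
    (h : Order.krullDim α ≤ n) : Finite α := by
  by_contra hinf
  rw [not_finite_iff_infinite] at hinf
  obtain ⟨s, hs⟩ := Infinite.exists_subset_card_eq α (n + 2)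
  let e := s.orderEmbOfFin hs
  let p : LTSeries α := ⟨n + 1, e, fun i => e.strictMono (Fin.castSucc_lt_succ)⟩
  have h1 := Order.LTSeries.length_le_krullDim p
  have h2 := h1.trans h
  have h3 : ((n + 1 : ℕ) : WithBot ℕ∞) ≤ (n : WithBot ℕ∞) := h2
  have h4 : n + 1 ≤ n := by exact_mod_cast h3
  omega

theorem finite_of_total {α : Type*} [PartialOrder α] (htot : ∀ a b : α, a ≤ b ∨ b ≤ a)
    (n : ℕ) (h : Order.krullDim α ≤ n) : Finite α := by
  classical
  let _ : LinearOrder α :=
    { (inferInstance : PartialOrder α) with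
      le_total := htot
      toDecidableLE := Classical.decRel _ }
  exact finite_of_krullDim_le n h

theorem finite_primeSpectrum_of_krullDim_le (A : Type*) [CommRing A] [IsDomain A]
    [ValuationRing A] (n : ℕ) (h : ringKrullDim A ≤ n) : Finite (PrimeSpectrum A) := by
  refine finite_of_total ?_ n h
  intro p q
  rcases (ValuationRing.le_total_ideal (A := A)).total p.asIdeal q.asIdeal with h1 | h1
  · exact Or.inl h1
  · exact Or.inr h1

end Groth.Agent.H6.VH
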