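import Mathlib
import Groth.Agent.Lib.Helper6.VH4
set_option autoImplicit false
universe u
namespace Groth.Agent.H6.VH

theorem prime_field_frac {K : Type u} [Field K] (w : (⊥ : Subfield K)) :
    ∃ a b : ℤ, (b : (⊥ : Subfield K)) ≠ 0 ∧ w = a / b := by
  obtain ⟨a, b, hb, hab⟩ := exists_int_div_of_mem_bot (w : K) w.2
  refine ⟨a, b, ?_, ?_⟩
  · intro h
    apply hb
    have := congrArg (Subtype.val) h
    simpa using this
  · apply Subtype.ext
    rw [hab]
    simp

section
variable (R : Type u) [CommRing R] [IsDomain R] [ValuationRing R]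

/-- the valuation subring of the fraction field corresponding to `R` -/
noncomputable def AK : ValuationSubring (FractionRing R) :=
  (ValuationRing.valuation R (FractionRing R)).valuationSubring

theorem mem_AK (x : FractionRing R) : x ∈ AK R ↔ ∃ a : R, algebraMap R (FractionRing R) a = x :=
  ValuationRing.mem_integer_iff R (FractionRing R) x

/-- the finitely generated subfield -/
noncomputable def LL (s : Finset R) :
    IntermediateField (⊥ : Subfield (FractionRing R)) (FractionRing R) :=
  IntermediateField.adjoin (⊥ : Subfield (FractionRing R))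
    ((algebraMap R (FractionRing R)) '' (s : Set R))

/-- the subring of `R` -/
noncomputable def FF (s : Finset R) : Subring R :=
  (LL R s).toSubfield.toSubring.comap (algebraMap R (FractionRing R))

theorem mem_FF (s : Finset R) (x : R) : x ∈ FF R s ↔ algebraMap R (FractionRing R) x ∈ LL R s :=
  Iff.rfl

theorem LL_mono {s t : Finset R} (h : s ≤ t) : LL R s ≤ LL R t := by
  apply IntermediateField.adjoin.mono
  exact Set.image_mono (by exact_mod_cast h)

theorem FF_mono : Monotone (FF R) := by
  intro s t h x hx
  rw [mem_FF] at hx ⊢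
  exact LL_mono R h hx

theorem mem_FF_singleton (x : R) : x ∈ FF R {x} := by
  rw [mem_FF]
  apply IntermediateField.subset_adjoin
  exact ⟨x, by simp, rfl⟩

theorem iSup_FF : (⨆ s, FF R s) = ⊤ := by
  rw [eq_top_iff]
  intro x _
  exact (le_iSup (FF R) {x}) (mem_FF_singleton R x)

/-- the valuation subring of `LL R s` -/
noncomputable def AA (s : Finset R) : ValuationSubring (LL R s) :=
  (AK R).comap (algebraMap (LL R s) (FractionRing R))

/-- the comparison map -/
noncomputable def toAA (s : Finset R) : FF R s →+* AA R s where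
  toFun x := ⟨⟨algebraMap R (FractionRing R) x, x.2⟩, by
    change algebraMap (LL R s) (FractionRing R) _ ∈ AK R
    rw [mem_AK]
    exact ⟨x, rfl⟩⟩
  map_one' := by
    apply Subtype.ext; apply Subtype.ext
    simp
  map_mul' x y := by
    apply Subtype.ext; apply Subtype.ext
    simp
  map_zero' := by
    apply Subtype.ext; apply Subtype.ext
    simp
  map_add' x y := by
    apply Subtype.ext; apply Subtype.ext
    simp

theorem toAA_bijective (s : Finset R) : Function.Bijective (toAA R s) := by
  constructor
  · intro x y h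
    have h1 : (((toAA R s x : AA R s) : LL R s) : FractionRing R) =
        (((toAA R s y : AA R s) : LL R s) : FractionRing R) := by rw [h]
    apply Subtype.ext
    exact IsFractionRing.injective R (FractionRing R) h1
  · intro y
    have hy : algebraMap (LL R s) (FractionRing R) (y : LL R s) ∈ AK R := y.2
    rw [mem_AK] at hy
    obtain ⟨a, ha⟩ := hy
    have haF : a ∈ FF R s := by
      rw [mem_FF, ha]
      exact (y : LL R s).2
    refine ⟨⟨a, haF⟩, ?_⟩
    apply Subtype.ext; apply Subtype.ext
    exact ha

theorem trdeg_LL (s : Finset R) : ∃ d : ℕ,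
    Algebra.trdeg (⊥ : Subfield (FractionRing R)) (LL R s) = d := by
  have hfg : (LL R s).FG :=
    IntermediateField.fg_adjoin_of_finite ((Finset.finite_toSet s).image _)
  have : Algebra.EssFiniteType (⊥ : Subfield (FractionRing R)) (LL R s) :=
    IntermediateField.essFiniteType_iff.mpr hfg
  have h := trdeg_lt_aleph0 (⊥ : Subfield (FractionRing R)) (LL R s)
  obtain ⟨d, hd⟩ := Cardinal.lt_aleph0.mp h
  exact ⟨d, hd⟩

theorem main :
    ∃ (ι : Type u) (_ : Preorder ι) (_ : IsDirected ι (fun a b ↦ a ≤ b)) (_ : Nonempty ι)
      (F : ι → Subring R), Monotone F ∧ (⨆ i, F i) = ⊤ ∧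
        ∀ i, ValuationRing (F i) ∧ Finite (PrimeSpectrum (F i)) := by
  classical
  refine ⟨Finset R, inferInstance, inferInstance, inferInstance, FF R, FF_mono R, iSup_FF R, ?_⟩
  intro s
  let e : FF R s ≃+* AA R s := RingEquiv.ofBijective (toAA R s) (toAA_bijective R s)
  have hv : ValuationRing (FF R s) :=
    Function.Surjective.valuationRing (e.symm : AA R s →+* FF R s) e.symm.surjective
  refine ⟨hv, ?_⟩
  obtain ⟨d, hd⟩ := trdeg_LL R s
  have h1 := krullDim_le' (K := LL R s) (K₀ := (⊥ : Subfield (FractionRing R)))
    prime_field_frac (AA R s) d hd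
  have h2 : ringKrullDim (FF R s) ≤ ((d + 1 : ℕ) : WithBot ℕ∞) := by
    rw [ringKrullDim_eq_of_ringEquiv e]
    exact h1
  exact finite_primeSpectrum_of_krullDim_le (FF R s) (d + 1) h2

end

end Groth.Agent.H6.VH
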