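import Mathlib
import Groth.Agent.Lib.Helper6.Prufer1
import Groth.Agent.Lib.Helper6.VH5

set_option autoImplicit false
set_option linter.dupNamespace false

namespace Groth.Agent.H6.Prf

universe u

section abstract
variable {L : Type u} [Field L] (K : Subfield L) {ι : Type*} [Finite ι] [Nonempty ι]
  (V : ι → ValuationSubring L)
variable (D : Subring L) (hD : ∀ x, x ∈ D ↔ x ∈ K ∧ ∀ i, x ∈ V i)

/-- the valuation subring of `K` -/
def WW (i : ι) : ValuationSubring K := (V i).comap K.subtype

omit [Finite ι] [Nonempty ι] in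
theorem mem_WW (i : ι) (x : K) : x ∈ WW K V i ↔ (x : L) ∈ V i := Iff.rfl

include hD

/-- the inclusion `D → W_i` -/
def toWW (i : ι) : D →+* WW K V i where
  toFun d := ⟨⟨(d : L), ((hD d).mp d.2).1⟩, ((hD d).mp d.2).2 i⟩
  map_one' := rfl
  map_mul' _ _ := rfl
  map_zero' := rfl
  map_add' _ _ := rfl

omit [Finite ι] [Nonempty ι] in
theorem toWW_coe (i : ι) (d : D) : (((toWW K V D hD i d : WW K V i) : K) : L) = (d : L) := rfl

theorem isLocalization_WW (i : ι) :
    @IsLocalization.AtPrime D _ (WW K V i) _ (toWW K V D hD i).toAlgebra (PP K V D hD i) _ := by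
  let _ : Algebra D (WW K V i) := (toWW K V D hD i).toAlgebra
  have halg : ∀ d : D, algebraMap D (WW K V i) d = toWW K V D hD i d := fun _ => rfl
  show IsLocalization (PP K V D hD i).primeCompl (WW K V i)
  rw [isLocalization_iff]
  refine ⟨?_, ?_, ?_⟩
  · rintro ⟨y, hy⟩
    have hy1 : (V i).valuation (y : L) = 1 := by
      apply le_antisymm (val_le_one K V D hD i y)
      by_contra hlt
      push Not at hlt
      exact hy ((mem_PP K V D hD i y).mpr hlt)
    have hy0 : (y : L) ≠ 0 := by
      intro h0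
      rw [h0, map_zero] at hy1
      exact zero_ne_one hy1
    have hyK : (y : L) ∈ K := ((hD y).mp y.2).1
    have hinvV : (y : L)⁻¹ ∈ V i := by
      rw [← ValuationSubring.valuation_le_one_iff, map_inv₀, hy1, inv_one]
    rw [isUnit_iff_exists_inv]
    refine ⟨⟨⟨(y : L)⁻¹, inv_mem hyK⟩, hinvV⟩, ?_⟩
    apply Subtype.ext
    apply Subtype.ext
    show (y : L) * (y : L)⁻¹ = 1
    exact mul_inv_cancel₀ hy0
  · intro z
    obtain ⟨y, hy0, hyD, hzyD, hval⟩ := exists_denominator K V D hD (z : K).2
    have hyP : (⟨y, hyD⟩ : D) ∉ PP K V D hD i := by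
      intro h
      rw [mem_PP] at h
      have := hval i z.2
      simp only at h
      rw [this] at h
      exact lt_irrefl _ h
    refine ⟨(⟨((z : K) : L) * y, hzyD⟩, ⟨⟨y, hyD⟩, hyP⟩), ?_⟩
    apply Subtype.ext
    apply Subtype.ext
    rfl
  · intro a b hab
    refine ⟨1, ?_⟩
    have : ((((algebraMap D (WW K V i) a : WW K V i) : K) : L)) =
        ((((algebraMap D (WW K V i) b : WW K V i) : K) : L)) := by rw [hab]
    simp only [OneMemClass.coe_one, one_mul]
    exact Subtype.ext this

theorem ringKrullDim_le {K₀ : Type u} [Field K₀] [Algebra K₀ K]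
    (hK₀ : ∀ w : K₀, ∃ a b : ℤ, (b : K₀) ≠ 0 ∧ w = a / b) (d : ℕ)
    (hd : Algebra.trdeg K₀ K = d) :
    ringKrullDim D ≤ ((d + 1 : ℕ) : WithBot ℕ∞) := by
  rw [ringKrullDim_le_iff_isMaximal_height_le]
  intro m hm
  obtain ⟨i, hi⟩ := exists_le_PP K V D hD m hm.ne_top
  have hmeq : m = PP K V D hD i := hm.eq_of_le (PP_isPrime K V D hD i).ne_top hi
  rw [hmeq]
  let _ : Algebra D (WW K V i) := (toWW K V D hD i).toAlgebra
  have : IsLocalization.AtPrime (WW K V i) (PP K V D hD i) := isLocalization_WW K V D hD i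
  rw [← IsLocalization.AtPrime.ringKrullDim_eq_height (PP K V D hD i) (WW K V i)]
  exact Groth.Agent.H6.VH.krullDim_le' hK₀ (WW K V i) d hd

end abstract

section transfer

theorem prufer_of_ringEquiv {A B : Type*} [CommRing A] [CommRing B] [IsDomain A] [IsDomain B]
    (e : A ≃+* B)
    (hB : ∀ (q : Ideal B) [q.IsPrime], ValuationRing (Localization.AtPrime q)) :
    ∀ (p : Ideal A) [p.IsPrime], ValuationRing (Localization.AtPrime p) := by
  intro p hp
  let q : Ideal B := p.comap (e.symm : B →+* A)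
  have hq : q.IsPrime := Ideal.comap_isPrime _ _
  have H : p.primeCompl.map e.toMonoidHom = q.primeCompl := by
    ext b
    constructor
    · rintro ⟨a, ha, rfl⟩
      intro hb
      apply ha
      have : e.symm (e a) ∈ p := hb
      simpa using this
    · intro hb
      refine ⟨e.symm b, ?_, by simp⟩
      exact hb
  let E : Localization.AtPrime p ≃+* Localization.AtPrime q :=
    IsLocalization.ringEquivOfRingEquiv _ _ e H
  have := hB q
  exact Function.Surjective.valuationRing (E.symm : Localization.AtPrime q →+* _) E.symm.surjective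

theorem finite_maximalSpectrum_of_ringEquiv {A B : Type*} [CommRing A] [CommRing B]
    (e : A ≃+* B) (hB : Finite (MaximalSpectrum B)) : Finite (MaximalSpectrum A) := by
  let g : MaximalSpectrum A → MaximalSpectrum B := fun m =>
    ⟨m.asIdeal.comap (e.symm : B →+* A),
      have := m.isMaximal
      Ideal.comap_isMaximal_of_surjective (e.symm : B →+* A) e.symm.surjective⟩
  apply Finite.of_injective g
  intro m m' h
  apply MaximalSpectrum.ext
  have h1 : m.asIdeal.comap (e.symm : B →+* A) = m'.asIdeal.comap (e.symm : B →+* A) :=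
    congrArg MaximalSpectrum.asIdeal h
  ext a
  have := SetLike.ext_iff.mp h1 (e a)
  simpa using this

end transfer

section concrete
variable (R L : Type u) [CommRing R] [IsDomain R] [Field L] [Algebra R L] [IsFractionRing R L]

theorem main_dim (hR : ∀ (p : Ideal R) [p.IsPrime], ValuationRing (Localization.AtPrime p))
    (hfin : Finite (MaximalSpectrum R)) (K : Subfield L)
    {K₀ : Type u} [Field K₀] [Algebra K₀ K]
    (hK₀ : ∀ w : K₀, ∃ a b : ℤ, (b : K₀) ≠ 0 ∧ w = a / b) (d : ℕ)
    (hd : Algebra.trdeg K₀ K = d) :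
    ringKrullDim ↥((algebraMap R L).range ⊓ K.toSubring) ≤ ((d + 1 : ℕ) : WithBot ℕ∞) := by
  have hne : Nonempty (MaximalSpectrum R) := by
    obtain ⟨m, hm⟩ := Ideal.exists_maximal R
    exact ⟨⟨m, hm⟩⟩
  have hD : ∀ x, x ∈ (algebraMap R L).range ⊓ K.toSubring ↔
      x ∈ K ∧ ∀ m : MaximalSpectrum R, x ∈ VV R L hR m := by
    intro x
    rw [Subring.mem_inf, mem_range_iff R L hR]
    exact ⟨fun h => ⟨h.2, h.1⟩, fun h => ⟨h.2, h.1⟩⟩
  exact ringKrullDim_le K (VV R L hR) _ hD hK₀ d hd

/-- the subring of `R` cut out by a subfield of the fraction field -/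
def RK (K : Subfield L) : Subring R := K.toSubring.comap (algebraMap R L)

omit [IsDomain R] [IsFractionRing R L] in
theorem mem_RK (K : Subfield L) (x : R) : x ∈ RK R L K ↔ algebraMap R L x ∈ K := Iff.rfl

/-- comparison map -/
def toD (K : Subfield L) : RK R L K →+* ↥((algebraMap R L).range ⊓ K.toSubring) where
  toFun x := ⟨algebraMap R L x, ⟨⟨x, rfl⟩, x.2⟩⟩
  map_one' := by apply Subtype.ext; simp
  map_mul' x y := by apply Subtype.ext; simp
  map_zero' := by apply Subtype.ext; simp
  map_add' x y := by apply Subtype.ext; simp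

omit [IsDomain R] in
theorem toD_bijective (K : Subfield L) : Function.Bijective (toD R L K) := by
  constructor
  · intro x y h
    have h1 : algebraMap R L x = algebraMap R L y := congrArg Subtype.val h
    apply Subtype.ext
    exact IsFractionRing.injective R L h1
  · rintro ⟨y, ⟨a, rfl⟩, hy⟩
    exact ⟨⟨a, hy⟩, rfl⟩

theorem main2 (hR : ∀ (p : Ideal R) [p.IsPrime], ValuationRing (Localization.AtPrime p))
    (hfin : Finite (MaximalSpectrum R)) (K : Subfield L)
    {K₀ : Type u} [Field K₀] [Algebra K₀ K]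
    (hK₀ : ∀ w : K₀, ∃ a b : ℤ, (b : K₀) ≠ 0 ∧ w = a / b) (d : ℕ)
    (hd : Algebra.trdeg K₀ K = d) :
    (∀ (p : Ideal (RK R L K)) [p.IsPrime], ValuationRing (Localization.AtPrime p)) ∧
      Finite (MaximalSpectrum (RK R L K)) ∧ ringKrullDim (RK R L K) < ⊤ := by
  let e : RK R L K ≃+* ↥((algebraMap R L).range ⊓ K.toSubring) :=
    RingEquiv.ofBijective (toD R L K) (toD_bijective R L K)
  obtain ⟨h1, h2, -⟩ := main R L hR hfin K
  refine ⟨prufer_of_ringEquiv e h1, finite_maximalSpectrum_of_ringEquiv e h2, ?_⟩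
  rw [ringKrullDim_eq_of_ringEquiv e]
  refine lt_of_le_of_lt (main_dim R L hR hfin K hK₀ d hd) ?_
  exact WithBot.coe_lt_coe.mpr (ENat.natCast_lt_top _)

end concrete

section final
variable (R : Type u) [CommRing R] [IsDomain R]

theorem final (hR : ∀ (p : Ideal R) [p.IsPrime], ValuationRing (Localization.AtPrime p))
    (hfin : Finite (MaximalSpectrum R)) (s : Finset R) :
    ∃ R' : Subring R, (↑s : Set R) ⊆ R' ∧
      (∀ (p : Ideal R') [p.IsPrime], ValuationRing (Localization.AtPrime p)) ∧
      Finite (MaximalSpectrum R') ∧ ringKrullDim R' < ⊤ := by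
  let L := FractionRing R
  let P : Subfield L := ⊥
  let KK : IntermediateField P L := IntermediateField.adjoin P ((algebraMap R L) '' (s : Set R))
  let K : Subfield L := KK.toSubfield
  let _ : Algebra P ↥K := (inferInstance : Algebra P ↥KK)
  have hfg : KK.FG := IntermediateField.fg_adjoin_of_finite ((Finset.finite_toSet s).image _)
  have hess : Algebra.EssFiniteType P KK := IntermediateField.essFiniteType_iff.mpr hfg
  have h := trdeg_lt_aleph0 P KK
  obtain ⟨d, hd⟩ := Cardinal.lt_aleph0.mp h
  have hd' : Algebra.trdeg P ↥K = d := hd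
  refine ⟨RK R L K, ?_, main2 R L hR hfin K (K₀ := P) Groth.Agent.H6.VH.prime_field_frac d hd'⟩
  intro x hx
  show algebraMap R L x ∈ KK
  apply IntermediateField.subset_adjoin
  exact ⟨x, hx, rfl⟩

end final

end Groth.Agent.H6.Prf
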