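import Mathlib

/-!
# Semilocal Prüfer domains of finite Krull dimension have finite spectrum
-/

set_option autoImplicit false
set_option linter.unusedSectionVars false
set_option linter.unusedVariables false
universe u

namespace Groth.Agent.H6.PruferFin

open PrimeSpectrum

variable {R : Type u} [CommRing R] [IsDomain R]

theorem le_or_le_of_le
    (hR : ∀ (p : Ideal R) [p.IsPrime], ValuationRing (Localization.AtPrime p))
    (m : Ideal R) [hm : m.IsPrime] (p q : Ideal R) [hp : p.IsPrime] [hq : q.IsPrime]
    (hpm : p ≤ m) (hqm : q ≤ m) : p ≤ q ∨ q ≤ p := by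
  haveI := hR m
  have hdisj : ∀ J : Ideal R, J ≤ m → Disjoint (m.primeCompl : Set R) (J : Set R) := by
    intro J hJ
    rw [Set.disjoint_left]
    intro x hx hxJ
    exact hx (hJ hxJ)
  have hcp := IsLocalization.under_map_of_isPrime_disjoint m.primeCompl
    (Localization.AtPrime m) hp (hdisj p hpm)
  have hcq := IsLocalization.under_map_of_isPrime_disjoint m.primeCompl
    (Localization.AtPrime m) hq (hdisj q hqm)
  rcases (ValuationRing.le_total_ideal (Localization.AtPrime m)).total
    (p.map (algebraMap R (Localization.AtPrime m)))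
    (q.map (algebraMap R (Localization.AtPrime m))) with h | h
  · left; exact hcp.symm.le.trans ((Ideal.comap_mono h).trans hcq.le)
  · right; exact hcq.symm.le.trans ((Ideal.comap_mono h).trans hcp.le)

theorem finite_primeSpectrum
    (hR : ∀ (p : Ideal R) [p.IsPrime], ValuationRing (Localization.AtPrime p))
    (hfin : Finite (MaximalSpectrum R)) (hdim : ringKrullDim R < ⊤) :
    Finite (PrimeSpectrum R) := by
  haveI := hfin
  have hne : ringKrullDim R ≠ ⊥ := by
    intro h
    have h0 := ringKrullDim_nonneg_of_nontrivial (R := R)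
    rw [h] at h0
    exact absurd h0 (not_le.mpr (WithBot.bot_lt_coe (0 : ℕ∞)))
  obtain ⟨n, hn⟩ := WithBot.ne_bot_iff_exists.mp hne
  have hnt : n ≠ ⊤ := by
    rintro rfl
    rw [← hn] at hdim
    exact lt_irrefl _ hdim
  obtain ⟨d, hd⟩ := ENat.ne_top_iff_exists.mp hnt
  have hht : ∀ p : PrimeSpectrum R, Order.height p ≤ (d : ℕ∞) := by
    intro p
    have h1 : (Order.height p : WithBot ℕ∞) ≤ ringKrullDim R := Order.height_le_krullDim p
    rw [← hn, ← hd] at h1
    exact_mod_cast h1
  have hPm : ∀ m : MaximalSpectrum R,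
      {p : PrimeSpectrum R | p.asIdeal ≤ m.asIdeal}.Finite := by
    intro m
    haveI := m.isMaximal.isPrime
    refine Set.Finite.of_finite_image (f := fun p => (Order.height p).toNat)
      ((Set.finite_Iic d).subset ?_) ?_
    · rintro _ ⟨p, -, rfl⟩
      exact ENat.toNat_le_of_le_natCast (hht p)
    · intro p hp q hq hpq
      have hpq' : (Order.height p).toNat = (Order.height q).toNat := hpq
      have hp' : Order.height p = Order.height q := by
        have h1 := ENat.natCast_toNat (ne_top_of_le_ne_top (ENat.natCast_ne_top d) (hht p))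
        have h2 := ENat.natCast_toNat (ne_top_of_le_ne_top (ENat.natCast_ne_top d) (hht q))
        rw [← h1, ← h2, hpq']
      by_contra hne'
      haveI := p.isPrime
      haveI := q.isPrime
      rcases le_or_le_of_le hR m.asIdeal p.asIdeal q.asIdeal hp hq with h | h
      · have hlt : p < q := lt_of_le_of_ne h hne'
        have := Order.height_strictMono hlt (lt_of_le_of_lt (hht p) (ENat.natCast_lt_top d))
        exact absurd hp' this.ne
      · have hlt : q < p := lt_of_le_of_ne h (Ne.symm hne')
        have := Order.height_strictMono hlt (lt_of_le_of_lt (hht q) (ENat.natCast_lt_top d))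
        exact absurd hp'.symm this.ne
  have : (Set.univ : Set (PrimeSpectrum R)).Finite := by
    refine (Set.finite_iUnion hPm).subset ?_
    intro p _
    obtain ⟨M, hM, hpM⟩ := Ideal.exists_le_maximal p.asIdeal p.isPrime.ne_top
    exact Set.mem_iUnion.mpr ⟨⟨M, hM⟩, hpM⟩
  exact Set.finite_univ_iff.mp this

theorem main14738
    (hR : ∀ (p : Ideal R) [p.IsPrime], ValuationRing (Localization.AtPrime p))
    (hfin : Finite (MaximalSpectrum R)) (hdim : ringKrullDim R < ⊤)
    (m : Ideal R) [hm : m.IsMaximal] :
    (∃ a : R, ∀ (p : Ideal R), p.IsPrime → (a ∈ p ↔ p = m)) ∧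
      ∃ b : R, b ∉ m ∧ IsLocalization.AtPrime (Localization.Away b) m := by
  haveI : Finite (PrimeSpectrum R) := finite_primeSpectrum hR hfin hdim
  classical
  haveI := Fintype.ofFinite (PrimeSpectrum R)
  let pm : PrimeSpectrum R := ⟨m, hm.isPrime⟩
  constructor
  · let s : Finset (PrimeSpectrum R) := Finset.univ.filter (fun p => p ≠ pm)
    have hns : ∃ a ∈ m, ∀ i ∈ s, a ∉ i.asIdeal := by
      by_contra hcon
      push Not at hcon
      have hsub : ((m : Set R) ⊆ ⋃ i ∈ (↑s : Set (PrimeSpectrum R)),
          ((fun i : PrimeSpectrum R => i.asIdeal) i : Set R)) := by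
        intro a ha
        obtain ⟨i, hi, hai⟩ := hcon a ha
        exact Set.mem_biUnion (Finset.mem_coe.mpr hi) hai
      obtain ⟨i, hi, hmi⟩ := (Ideal.subset_union_prime (s := s)
        (f := fun i : PrimeSpectrum R => i.asIdeal) pm pm (fun i _ _ _ => i.isPrime)).mp hsub
      have h1 : m = i.asIdeal := hm.eq_of_le i.isPrime.ne_top hmi
      exact (Finset.mem_filter.mp hi).2 (PrimeSpectrum.ext h1.symm)
    obtain ⟨a, ham, hau⟩ := hns
    refine ⟨a, fun p hp => ⟨fun hap => ?_, fun h => h ▸ ham⟩⟩
    by_contra hne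
    exact hau ⟨p, hp⟩ (Finset.mem_filter.mpr ⟨Finset.mem_univ _,
      fun h => hne (congrArg PrimeSpectrum.asIdeal h)⟩) hap
  · let s : Finset (PrimeSpectrum R) := Finset.univ.filter (fun q => ¬ q.asIdeal ≤ m)
    have hJ : ¬ s.inf (fun q => q.asIdeal) ≤ m := by
      rw [Ideal.IsPrime.inf_le' hm.isPrime]
      rintro ⟨q, hq, hqm⟩
      exact (Finset.mem_filter.mp hq).2 hqm
    obtain ⟨b, hbJ, hbm⟩ := SetLike.not_le_iff_exists.mp hJ
    refine ⟨b, hbm, ?_⟩
    have hbq : ∀ q : PrimeSpectrum R, ¬ q.asIdeal ≤ m → b ∈ q.asIdeal := by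
      intro q hq
      exact (Finset.inf_le (f := fun q : PrimeSpectrum R => q.asIdeal)
        (Finset.mem_filter.mpr ⟨Finset.mem_univ q, hq⟩)) hbJ
    refine IsLocalization.of_le (S := Localization.Away b) (Submonoid.powers b) m.primeCompl ?_ ?_
    · rintro _ ⟨n, rfl⟩
      exact fun h => hbm (hm.isPrime.mem_of_pow_mem n h)
    · intro r hr
      by_contra hnu
      obtain ⟨𝔑, h𝔑, hr𝔑⟩ := exists_max_ideal_of_mem_nonunits (mem_nonunits_iff.mpr hnu)
      haveI := h𝔑.isPrime
      let P : PrimeSpectrum R :=
        ⟨𝔑.comap (algebraMap R (Localization.Away b)), Ideal.comap_isPrime _ _⟩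
      have hbP : b ∉ P.asIdeal := by
        intro hb
        have hu : IsUnit (algebraMap R (Localization.Away b) b) :=
          IsLocalization.map_units _ (⟨b, Submonoid.mem_powers b⟩ : Submonoid.powers b)
        exact h𝔑.ne_top (Ideal.eq_top_of_isUnit_mem _ hb hu)
      have hPm : P.asIdeal ≤ m := by
        by_contra h
        exact hbP (hbq P h)
      exact hr (hPm hr𝔑)

theorem main14739
    (hR : ∀ (p : Ideal R) [p.IsPrime], ValuationRing (Localization.AtPrime p))
    (hfin : Finite (MaximalSpectrum R)) (hdim : ringKrullDim R < ⊤)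
    (S : Type u) [CommRing S] [Algebra R S] [Algebra.FiniteType R S]
    (M : Submonoid S) (T : Type u) [CommRing T] [Algebra S T] [IsLocalization M T] :
    TopologicalSpace.NoetherianSpace (PrimeSpectrum S) ∧
      TopologicalSpace.NoetherianSpace (PrimeSpectrum T) := by
  haveI : Finite (PrimeSpectrum R) := finite_primeSpectrum hR hfin hdim
  have hS : TopologicalSpace.NoetherianSpace (PrimeSpectrum S) := by
    rw [← TopologicalSpace.noetherian_univ_iff]
    have hcov : (Set.univ : Set (PrimeSpectrum S)) =
        ⋃ p : PrimeSpectrum R, (PrimeSpectrum.comap (algebraMap R S)) ⁻¹' {p} := by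
      ext q; simp
    rw [hcov]
    haveI : ∀ p : PrimeSpectrum R, TopologicalSpace.NoetherianSpace
        ((PrimeSpectrum.comap (algebraMap R S)) ⁻¹' {p}) := by
      intro p
      haveI : IsNoetherianRing (p.asIdeal.Fiber S) :=
        Algebra.FiniteType.isNoetherianRing p.asIdeal.ResidueField _
      exact (TopologicalSpace.noetherianSpace_iff_of_homeomorph
        (PrimeSpectrum.preimageHomeomorphFiber R S p)).mpr inferInstance
    exact TopologicalSpace.NoetherianSpace.iUnion _
  refine ⟨hS, ?_⟩
  haveI := hS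
  exact (PrimeSpectrum.localization_comap_isEmbedding T M).isInducing.noetherianSpace

end Groth.Agent.H6.PruferFin
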