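import Mathlib
import Groth.Agent.Lib.Helper1.PunctAff4

/-! Helper6: S12210 — variant of helper1's `PunctAff.dim_stalk_eq_one` with `ξ ∈ closure U`
instead of density of `U`. -/

universe u
open CategoryTheory AlgebraicGeometry TopologicalSpace Opposite

namespace Groth.Agent.H6.PunctCl

/-- a point without proper generizations, having a Noetherian quasi-sober open neighbourhood, lies
in every open set in whose closure it lies. -/
theorem mem_of_mem_closure_of_no_generization {T : Type*} [TopologicalSpace T] (W : Set T)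
    (hW : IsOpen W) [NoetherianSpace W] [QuasiSober W] (ξ : T) (hξW : ξ ∈ W)
    (hgen : ∀ y : T, y ⤳ ξ → y = ξ) (U : Set T) (hU : IsOpen U) (hd : ξ ∈ closure U) : ξ ∈ U := by
  classical
  let ξ' : W := ⟨ξ, hξW⟩
  have hfin : (irreducibleComponents W).Finite := NoetherianSpace.finite_irreducibleComponents
  let F : Set (Set W) := {C | C ∈ irreducibleComponents W ∧ ξ' ∉ C}
  have hFfin : F.Finite := hfin.subset fun C hC => hC.1
  let T' : Set W := ⋃ C ∈ F, C
  have hT'closed : IsClosed T' :=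
    hFfin.isClosed_biUnion fun C hC => isClosed_of_mem_irreducibleComponents C hC.1
  have hξT' : ξ' ∉ T' := by
    intro h
    simp only [T', Set.mem_iUnion] at h
    obtain ⟨C, hC, hξC⟩ := h
    exact hC.2 hξC
  have hopen : IsOpen (Subtype.val '' T'ᶜ : Set T) :=
    hW.isOpenMap_subtype_val _ hT'closed.isOpen_compl
  have hne : ξ ∈ (Subtype.val '' T'ᶜ : Set T) := ⟨ξ', hξT', rfl⟩
  obtain ⟨y, ⟨y', hy', rfl⟩, hyU⟩ := (mem_closure_iff.mp hd) _ hopen hne
  have hC := irreducibleComponent_mem_irreducibleComponents y'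
  have hξC : ξ' ∈ irreducibleComponent y' := by
    by_contra hcon
    apply hy'
    simp only [T', Set.mem_iUnion]
    exact ⟨irreducibleComponent y', ⟨hC, hcon⟩, mem_irreducibleComponent⟩
  obtain ⟨η, hη⟩ := QuasiSober.sober (isIrreducible_irreducibleComponent (x := y'))
    (isClosed_irreducibleComponent (x := y'))
  have h1 : η ⤳ ξ' := by
    rw [specializes_iff_mem_closure, hη.def]
    exact hξC
  have h2 : (η : T) ⤳ ξ := h1.map continuous_subtype_val
  have h3 : η = ξ' := Subtype.ext (hgen _ h2)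
  have h4 : ξ' ⤳ y' := by
    rw [specializes_iff_mem_closure, ← h3, hη.def]
    exact mem_irreducibleComponent
  have h5 : ξ ⤳ (y' : T) := h4.map continuous_subtype_val
  exact h5.mem_open hU hyU

theorem mem_of_mem_closure_of_dim_le_zero (X : Scheme.{u}) [IsLocallyNoetherian X] (ξ : X)
    (h0 : ringKrullDim (X.presheaf.stalk ξ) ≤ 0) (U : X.Opens) (hd : ξ ∈ closure (U : Set X)) :
    ξ ∈ U := by
  obtain ⟨_, ⟨W, hW : IsAffineOpen W, rfl⟩, hξW, -⟩ :=
    X.isBasis_affineOpens.exists_subset_of_mem_open (Set.mem_univ ξ) isOpen_univ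
  have hN : IsNoetherianRing Γ(X, W) := IsLocallyNoetherian.component_noetherian ⟨W, hW⟩
  have h1 : NoetherianSpace W := noetherianSpace_of_isAffineOpen W hW
  have h2 : QuasiSober W := inferInstanceAs (QuasiSober (W : Scheme.{u}))
  exact @mem_of_mem_closure_of_no_generization _ _ (W : Set X) W.2 h1 h2 ξ hξW
    (Groth.Agent.H1.PunctAff.eq_of_specializes_of_dim_le_zero X ξ h0) U U.2 hd

theorem main (X : Scheme.{u}) [IsLocallyNoetherian X]
    (U : X.Opens) [IsAffineHom U.ι] (ξ : X) (hξ : ξ ∉ U) (hgen : ∀ y : X, y ∉ U → y ⤳ ξ → y = ξ)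
    (hcl : ξ ∈ closure (U : Set X)) :
    ringKrullDim (X.presheaf.stalk ξ) = 1 := by
  have h1 := (Groth.Agent.H1.PunctAff.dim_stalk_eq_one X U ξ hξ hgen).1
  refine le_antisymm h1 ?_
  by_contra hlt
  rw [not_le] at hlt
  exact hξ (mem_of_mem_closure_of_dim_le_zero X ξ
    (Groth.Agent.H1.CurveFin.le_zero_of_lt_one hlt) U hcl)

end Groth.Agent.H6.PunctCl
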