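import Mathlib
import Groth.Prelude.Def_FEt
import Groth.Agent.Lib.Helper6.FEtFF2

/-!
# Faithfulness of restriction of finite étale covers to a punctured hypersurface (helper6)
-/

universe u
open CategoryTheory CategoryTheory.Limits AlgebraicGeometry TopologicalSpace Opposite

namespace Groth.Agent.H6.PunctFaith

/-- in a Noetherian local ring, a non-maximal minimal prime `p` with `dim A/p ≥ 2` (or containing
`f`) is contained in a non-maximal prime containing `f ∈ 𝔪`. -/
theorem exists_prime_ge (A : Type u) [CommRing A] [IsNoetherianRing A] [IsLocalRing A] (f : A)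
    (hf : f ∈ IsLocalRing.maximalIdeal A) (p : Ideal A) [hp : p.IsPrime]
    (hpm : p ≠ IsLocalRing.maximalIdeal A)
    (hdim : f ∉ p → (2 : WithBot ℕ∞) ≤ ringKrullDim (A ⧸ p)) :
    ∃ q : Ideal A, q.IsPrime ∧ p ≤ q ∧ f ∈ q ∧ q ≠ IsLocalRing.maximalIdeal A := by
  by_cases hfp : f ∈ p
  · exact ⟨p, hp, le_rfl, hfp, hpm⟩
  have hd := hdim hfp
  let B := A ⧸ p
  let mk : A →+* B := Ideal.Quotient.mk p
  have hmk : Function.Surjective mk := Ideal.Quotient.mk_surjective
  haveI : IsLocalRing B := IsLocalRing.of_surjective' mk hmk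
  haveI : IsLocalHom mk := hmk.isLocalHom mk
  let J : Ideal B := Ideal.span {mk f}
  have hJ : J ≠ ⊤ := by
    intro h
    have h1 : IsUnit (mk f) := Ideal.span_singleton_eq_top.mp h
    have h2 : IsUnit f := (isUnit_map_iff mk f).mp h1
    exact (IsLocalRing.mem_maximalIdeal f).mp hf h2
  obtain ⟨⟨qb, hqb⟩⟩ := Ideal.nonempty_minimalPrimes hJ
  haveI hqbprime : qb.IsPrime := hqb.1.1
  have hht : qb.height ≤ 1 := Ideal.height_le_one_of_isPrincipal_of_mem_minimalPrimes J qb hqb
  have hqbm : qb ≠ IsLocalRing.maximalIdeal B := by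
    intro h
    rw [h] at hht
    have h3 : ((IsLocalRing.maximalIdeal B).height : WithBot ℕ∞) = ringKrullDim B :=
      IsLocalRing.maximalIdeal_height_eq_ringKrullDim
    have h4 : ((IsLocalRing.maximalIdeal B).height : WithBot ℕ∞) ≤ ((1 : ℕ∞) : WithBot ℕ∞) :=
      WithBot.coe_le_coe.mpr hht
    rw [h3] at h4
    have h5 : (2 : WithBot ℕ∞) ≤ ((1 : ℕ∞) : WithBot ℕ∞) := hd.trans h4
    have h6 : ((2 : ℕ∞) : WithBot ℕ∞) ≤ ((1 : ℕ∞) : WithBot ℕ∞) := h5
    rw [WithBot.coe_le_coe] at h6
    exact absurd h6 (by decide)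
  refine ⟨qb.comap mk, inferInstance, ?_, ?_, ?_⟩
  · intro a ha
    change mk a ∈ qb
    rw [show mk a = 0 from Ideal.Quotient.eq_zero_iff_mem.mpr ha]
    exact qb.zero_mem
  · change mk f ∈ qb
    exact hqb.1.2 (Ideal.subset_span rfl)
  · intro h
    apply hqbm
    have h1 : (IsLocalRing.maximalIdeal B).comap mk = IsLocalRing.maximalIdeal A := by
      ext a
      simp only [Ideal.mem_comap, IsLocalRing.mem_maximalIdeal, mem_nonunits_iff]
      rw [isUnit_map_iff mk a]
    exact Ideal.comap_injective_of_surjective mk hmk (h.trans h1.symm)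

end Groth.Agent.H6.PunctFaith
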