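import Mathlib
import Groth.Agent.Lib.Helper6.PunctFaith1

universe u
open CategoryTheory CategoryTheory.Limits AlgebraicGeometry TopologicalSpace Opposite

namespace Groth.Agent.H6.PunctFaith

open Groth.Agent.H6.FEtFF

/-- **S9485**. -/
theorem s9485 (A : Type u) [CommRing A] [IsNoetherianRing A] [IsLocalRing A] (f : A)
    (hf : f ∈ IsLocalRing.maximalIdeal A)
    (U' : (Spec (CommRingCat.of A)).Opens) (hU' : U' ≤ FEt.puncturedSpec A)
    (u' : pullback (FEt.puncturedSpec A).ι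
      (Spec.map (CommRingCat.ofHom (Ideal.Quotient.mk (Ideal.span {f})))) ⟶ (U' : Scheme.{u}))
    (hu' : u' ≫ U'.ι = (pullback.fst (FEt.puncturedSpec A).ι
      (Spec.map (CommRingCat.ofHom (Ideal.Quotient.mk (Ideal.span {f})))) ≫
        (FEt.puncturedSpec A).ι))
    (hdim : ∀ p : PrimeSpectrum A, p.asIdeal ∈ minimalPrimes A → p ∈ U' → f ∉ p.asIdeal →
      (2 : WithBot ℕ∞) ≤ ringKrullDim (A ⧸ p.asIdeal)) :
    (FEt.restrict u').Faithful := by
  apply faithful_of_clopenInj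
  intro Y Z hZ hrange
  by_contra hne
  obtain ⟨y, hy⟩ : ∃ y, y ∉ Z := by
    by_contra h
    push Not at h
    exact hne (Set.eq_univ_of_forall h)
  let π : Y.left ⟶ (U' : Scheme.{u}) := Y.hom
  haveI : IsFinite π := Y.prop.1
  haveI : Etale π := Y.prop.2
  have hDo : IsOpen (π '' Zᶜ) := π.isOpenMap _ hZ.compl.isOpen
  have hDc : IsClosed (π '' Zᶜ) := π.isClosedMap _ hZ.compl.isClosed
  let x : (U' : Scheme.{u}) := π y
  have hxD : x ∈ π '' Zᶜ := ⟨y, hy, rfl⟩
  let xP : PrimeSpectrum A := x.1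
  obtain ⟨p, hpmin, hple⟩ := Ideal.exists_minimalPrimes_le (bot_le : ⊥ ≤ xP.asIdeal)
  haveI hpprime : p.IsPrime := hpmin.1.1
  let pP : PrimeSpectrum A := ⟨p, hpprime⟩
  have hspec1 : pP ⤳ xP := (PrimeSpectrum.le_iff_specializes pP xP).mp hple
  have hpU' : pP ∈ U' := hspec1.mem_open U'.2 x.2
  let p' : (U' : Scheme.{u}) := ⟨pP, hpU'⟩
  have hspec1' : p' ⤳ x := (subtype_specializes_iff p' x).mpr hspec1
  have hp'D : p' ∈ π '' Zᶜ := hspec1'.mem_open hDo hxD
  -- the prime `q₀`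
  have hpm : p ≠ IsLocalRing.maximalIdeal A := by
    intro h
    have h1 : pP ∈ FEt.puncturedSpec A := hU' hpU'
    apply h1
    change pP = IsLocalRing.closedPoint A
    exact PrimeSpectrum.ext h
  obtain ⟨q, hqprime, hpq, hfq, hqm⟩ := exists_prime_ge A f hf p hpm
    (fun hfp => hdim pP hpmin hpU' hfp)
  let qP : PrimeSpectrum A := ⟨q, hqprime⟩
  have hqpunct : qP ∈ FEt.puncturedSpec A := by
    intro h
    apply hqm
    exact congrArg PrimeSpectrum.asIdeal h
  -- `q` comes from the punctured hypersurface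
  obtain ⟨b, hb⟩ : qP ∈ Set.range (Spec.map (CommRingCat.ofHom
      (Ideal.Quotient.mk (Ideal.span {f})))) := by
    have h1 : Set.range (PrimeSpectrum.comap (Ideal.Quotient.mk (Ideal.span {f}))) =
        PrimeSpectrum.zeroLocus (RingHom.ker (Ideal.Quotient.mk (Ideal.span {f}))) :=
      range_comap_of_surjective _ _ Ideal.Quotient.mk_surjective
    have h2 : qP ∈ PrimeSpectrum.zeroLocus (RingHom.ker (Ideal.Quotient.mk (Ideal.span {f}))) := by
      rw [Ideal.mk_ker, PrimeSpectrum.mem_zeroLocus, SetLike.coe_subset_coe,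
        Ideal.span_singleton_le_iff_mem]
      exact hfq
    rw [← h1] at h2
    exact h2
  let a : ((FEt.puncturedSpec A : (Spec (CommRingCat.of A)).Opens) : Scheme.{u}) := ⟨qP, hqpunct⟩
  obtain ⟨z, hz1, -⟩ := Scheme.Pullback.exists_preimage_pullback
    (f := (FEt.puncturedSpec A).ι)
    (g := Spec.map (CommRingCat.ofHom (Ideal.Quotient.mk (Ideal.span {f})))) a b hb.symm
  let q' : (U' : Scheme.{u}) := u' z
  have hq'val : q'.1 = qP := by
    have h1 := congrArg (fun m : _ ⟶ Spec (CommRingCat.of A) => m z) hu'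
    have h2 : (U'.ι (u' z)) = (FEt.puncturedSpec A).ι ((pullback.fst (FEt.puncturedSpec A).ι
      (Spec.map (CommRingCat.ofHom (Ideal.Quotient.mk (Ideal.span {f}))))) z) := h1
    rw [hz1] at h2
    exact h2
  have hspec2 : p' ⤳ q' := by
    refine (subtype_specializes_iff p' q').mpr ?_
    rw [hq'val]
    exact (PrimeSpectrum.le_iff_specializes pP qP).mp hpq
  have hq'D : q' ∈ π '' Zᶜ := hspec2.mem_closed hDc hp'D
  obtain ⟨y', hy'Z, hy'⟩ := hq'D
  obtain ⟨w, hw1, -⟩ := Scheme.Pullback.exists_preimage_pullback (f := Y.hom) (g := u') y' z hy'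
  exact hy'Z (hrange ⟨w, hw1⟩)

end Groth.Agent.H6.PunctFaith
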