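import Mathlib
import Groth.Prelude

set_option autoImplicit false
universe u
open CategoryTheory CategoryTheory.Limits AlgebraicGeometry TopologicalSpace Opposite

namespace Groth.Agent.H6.PurGl

variable (X : Scheme.{u}) (x : X)

/-- affine open neighbourhoods of `x` -/
abbrev AffNhd : Type u := {O : X.affineOpens // x ∈ O.1}

lemma exists_affNhd_le (U : X.Opens) (hx : x ∈ U) : ∃ O : AffNhd X x, O.1.1 ≤ U := by
  obtain ⟨O, hO, hxO, hOU⟩ := Opens.isBasis_iff_nbhd.mp X.isBasis_affineOpens hx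
  exact ⟨⟨⟨O, hO⟩, hxO⟩, hOU⟩

instance : Nonempty (AffNhd X x) := by
  obtain ⟨O, -⟩ := exists_affNhd_le X x ⊤ (Opens.mem_top x)
  exact ⟨O⟩

instance : IsDirected (AffNhd X x) (· ≥ ·) :=
  ⟨fun O₁ O₂ => by
    obtain ⟨O, hO⟩ := exists_affNhd_le X x (O₁.1.1 ⊓ O₂.1.1) ⟨O₁.2, O₂.2⟩
    exact ⟨O, (le_trans hO inf_le_left : O.1.1 ≤ O₁.1.1), (le_trans hO inf_le_right : O.1.1 ≤ O₂.1.1)⟩⟩

instance : IsCofiltered (AffNhd X x) := inferInstance

/-- the sections functor on affine neighbourhoods -/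
noncomputable def secFunctor : (AffNhd X x)ᵒᵖ ⥤ CommRingCat.{u} :=
  (Monotone.functor (f := fun O : AffNhd X x => O.1.1) (fun _ _ h => h)).op ⋙ X.presheaf

/-- the cocone of germs -/
noncomputable def germCocone : Cocone (secFunctor X x) where
  pt := X.presheaf.stalk x
  ι :=
    { app := fun O => X.presheaf.germ O.unop.1.1 x O.unop.2
      naturality := fun O O' h => by
        change X.presheaf.map _ ≫ X.presheaf.germ _ x _ = X.presheaf.germ _ x _ ≫ 𝟙 _
        rw [Category.comp_id]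
        exact X.presheaf.germ_res' _ x _ }

noncomputable def isColimitGermCocone : IsColimit (germCocone X x) := by
  haveI : PreservesColimitsOfShape (AffNhd X x)ᵒᵖ (forget CommRingCat.{u}) :=
    PreservesFilteredColimitsOfSize.preserves_filtered_colimits _
  haveI : ReflectsColimit (secFunctor X x) (forget CommRingCat) :=
    reflectsColimit_of_reflectsIsomorphisms _ _
  apply isColimitOfReflects (forget CommRingCat)
  refine Types.FilteredColimit.isColimitOf' _ _ ?_ ?_
  · intro (t : X.presheaf.stalk x)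
    obtain ⟨U, hxU, hU, s, hs⟩ :=
      TopCat.Presheaf.exists_mem_germ_eq_of_isBasis X.isBasis_affineOpens X.presheaf x t
    exact ⟨op ⟨⟨U, hU⟩, hxU⟩, s, hs.symm⟩
  · intro O s t hst
    obtain ⟨W, hxW, hW, hWU, hWV, e⟩ :=
      TopCat.Presheaf.germ_eq_of_isBasis X.isBasis_affineOpens X.presheaf x O.unop.2 O.unop.2 hst
    exact ⟨op ⟨⟨W, hW⟩, hxW⟩, (homOfLE hWU).op, e⟩


/-- the system `Spec Γ(X, O)` -/
noncomputable def specDiagram : AffNhd X x ⥤ Scheme.{u} :=
  (secFunctor X x).rightOp ⋙ Scheme.Spec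

noncomputable def specCone : Cone (specDiagram X x) :=
  Scheme.Spec.mapCone (coneRightOpOfCocone (germCocone X x))

noncomputable def isLimitSpecCone : IsLimit (specCone X x) :=
  isLimitOfPreserves Scheme.Spec (isLimitConeRightOpOfCocone _ (isColimitGermCocone X x))

lemma specCone_π_app (O : AffNhd X x) :
    (specCone X x).π.app O = Spec.map (X.presheaf.germ O.1.1 x O.2) := rfl

lemma specDiagram_map {O O' : AffNhd X x} (h : O ⟶ O') :
    (specDiagram X x).map h = Spec.map (X.presheaf.map (homOfLE (leOfHom h : O.1.1 ≤ O'.1.1)).op) := rfl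

/-- the system of affine open neighbourhoods as schemes -/
noncomputable def nhdDiagram : AffNhd X x ⥤ Scheme.{u} where
  obj O := O.1.1
  map {O O'} h := X.homOfLE (leOfHom h : O.1.1 ≤ O'.1.1)
  map_id O := by simp
  map_comp h h' := by simp

/-- comparison with the system `Spec Γ(X, O)` -/
noncomputable def nhdDiagramIso : nhdDiagram X x ≅ specDiagram X x :=
  NatIso.ofComponents (fun O => O.1.2.isoSpec) (fun {O O'} h => by
    change X.homOfLE (leOfHom h : O.1.1 ≤ O'.1.1) ≫ O'.1.1.toSpecΓ =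
      O.1.1.toSpecΓ ≫ Spec.map (X.presheaf.map (homOfLE (leOfHom h : O.1.1 ≤ O'.1.1)).op)
    exact (Scheme.Opens.toSpecΓ_SpecMap_presheaf_map _ _ _).symm)

/-- the cone with vertex `Spec 𝒪_{X,x}` -/
noncomputable def nhdCone : Cone (nhdDiagram X x) where
  pt := Spec (X.presheaf.stalk x)
  π :=
    { app := fun O => O.1.1.fromSpecStalkOfMem x O.2
      naturality := fun O O' h => by
        change 𝟙 _ ≫ O'.1.1.fromSpecStalkOfMem x O'.2 =
          O.1.1.fromSpecStalkOfMem x O.2 ≫ X.homOfLE (leOfHom h : O.1.1 ≤ O'.1.1)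
        rw [Category.id_comp, ← cancel_mono O'.1.1.ι, Category.assoc, Scheme.homOfLE_ι,
          Scheme.Opens.fromSpecStalkOfMem_ι, Scheme.Opens.fromSpecStalkOfMem_ι] }

noncomputable def isLimitNhdCone : IsLimit (nhdCone X x) := by
  have h := (IsLimit.postcomposeInvEquiv (nhdDiagramIso X x) (specCone X x)).symm
    (isLimitSpecCone X x)
  refine IsLimit.ofIsoLimit h (Cone.ext (Iso.refl _) (fun O => ?_))
  change Spec.map (X.presheaf.germ O.1.1 x O.2) ≫ O.1.2.isoSpec.inv =
    𝟙 _ ≫ O.1.1.fromSpecStalkOfMem x O.2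
  rw [Category.id_comp, ← Scheme.Opens.fromSpecStalkOfMem_toSpecΓ, Category.assoc,
    IsAffineOpen.toSpecΓ_isoSpec_inv, Category.comp_id]

lemma nhdCone_π_app (O : AffNhd X x) :
    (nhdCone X x).π.app O = O.1.1.fromSpecStalkOfMem x O.2 := rfl

lemma nhdDiagram_map {O O' : AffNhd X x} (h : O ⟶ O') :
    (nhdDiagram X x).map h = X.homOfLE (leOfHom h : O.1.1 ≤ O'.1.1) := rfl

instance (O : AffNhd X x) : IsAffine ((nhdDiagram X x).obj O) := O.1.2

instance (O O' : AffNhd X x) (h : O ⟶ O') : IsAffineHom ((nhdDiagram X x).map h) :=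
  isAffineHom_of_isAffine _

instance (O : AffNhd X x) : CompactSpace ((nhdDiagram X x).obj O) :=
  inferInstanceAs (CompactSpace O.1.1.toScheme)

instance (O : AffNhd X x) : QuasiSeparatedSpace ((nhdDiagram X x).obj O) :=
  inferInstanceAs (QuasiSeparatedSpace O.1.1.toScheme)

end Groth.Agent.H6.PurGl
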