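import Mathlib
import Groth.Prelude
import Groth.Agent.Lib.Helper5.Lim.FEtLimit
import Groth.Agent.Lib.Helper5.Lim.DescendIso
import Groth.Agent.Lib.Helper5.EtSrc.OfComp

set_option autoImplicit false
universe u
open CategoryTheory CategoryTheory.Limits AlgebraicGeometry TopologicalSpace Opposite

namespace Groth.Agent.H6.PurGl

open Groth.Agent.H5.Lim

theorem isPullback_of_restrict_iso {X Y : Scheme.{u}} (g : X ⟶ Y) (W : FEt.Cat Y)
    (V : FEt.Cat X) (e : (FEt.restrict g).obj W ≅ V) :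
    IsPullback (e.inv.left ≫ pullback.fst W.hom g) V.hom W.hom g := by
  let eL : pullback W.hom g ≅ V.left :=
    (MorphismProperty.Over.forget _ _ _ ⋙ Over.forget _).mapIso e
  have heL : eL.hom ≫ V.hom = pullback.snd W.hom g := Over.w e.hom.hom
  change IsPullback (eL.inv ≫ pullback.fst W.hom g) V.hom W.hom g
  refine IsPullback.of_iso_pullback ⟨?_⟩ eL.symm ?_ ?_
  · rw [Category.assoc, pullback.condition, ← Category.assoc, ← heL, Iso.inv_hom_id_assoc]
  · rfl
  · change eL.inv ≫ pullback.snd W.hom g = V.hom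
    rw [← heL, Iso.inv_hom_id_assoc]

section General

variable {I : Type u} [SmallCategory I] [IsCofiltered I]
    (D : I ⥤ Scheme.{u}) (c : Limits.Cone D) (hc : Limits.IsLimit c)
    [∀ (i j : I) (f : i ⟶ j), IsAffineHom (D.map f)] [∀ i, CompactSpace (D.obj i)]
    [∀ i, QuasiSeparatedSpace (D.obj i)]

include hc in
/-- finite étale covers of the limit come from a finite stage (pullback-square form) -/
theorem exists_fet_spread {Y : Scheme.{u}} (π : Y ⟶ c.pt) [IsFinite π] [Etale π] :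
    ∃ (i : I) (Y₁ : Scheme.{u}) (π₁ : Y₁ ⟶ D.obj i) (b : Y ⟶ Y₁), IsFinite π₁ ∧ Etale π₁ ∧
      IsPullback b π π₁ (c.π.app i) := by
  let V : FEt.Cat c.pt := MorphismProperty.Over.mk ⊤ π ⟨inferInstance, inferInstance⟩
  obtain ⟨i, Vi, ⟨e⟩⟩ := fet_essSurj D c hc V
  exact ⟨i, Vi.left, Vi.hom, _, Vi.prop.1, Vi.prop.2, isPullback_of_restrict_iso (c.π.app i) Vi V e⟩

include hc in
theorem exists_hom_descend (i : I) {V W : Scheme.{u}} (v : V ⟶ D.obj i) (w : W ⟶ D.obj i)
    [CompactSpace V] [QuasiSeparatedSpace V] [LocallyOfFinitePresentation w]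
    (φ : pullback v (c.π.app i) ⟶ W)
    (hφ : φ ≫ w = pullback.snd v (c.π.app i) ≫ c.π.app i) :
    ∃ (k : Over i) (ψ : pullback v (D.map k.hom) ⟶ W),
      ψ ≫ w = pullback.snd v (D.map k.hom) ≫ D.map k.hom ∧ bcProj D c v k ≫ ψ = φ := by
  have hDaff : ∀ {i j : I} (f : i ⟶ j), IsAffineHom (D.map f) := fun f => inferInstance
  haveI : ∀ j, CompactSpace ((bcDiagram D v).obj j) := fun j =>
    compactSpace_bcDiagram_obj D v j (hDaff _)
  haveI : ∀ j, QuasiSeparatedSpace ((bcDiagram D v).obj j) := fun j =>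
    quasiSeparatedSpace_bcDiagram_obj D v j (hDaff _)
  haveI : ∀ {j k : Over i} (f : j ⟶ k), IsAffineHom ((bcDiagram D v).map f) := fun f =>
    isAffineHom_bcMap D v f (hDaff _)
  let tt : bcDiagram D v ⟶ (Functor.const (Over i)).obj (D.obj i) :=
    bcDiagramFst D v ≫ (Functor.const (Over i)).map v
  obtain ⟨k, g, h1, h2⟩ := Scheme.exists_π_app_comp_eq_of_locallyOfFinitePresentation
    (bcDiagram D v) tt w (bcCone D c v) (isLimitBcCone D c v hc) φ (by
      ext k
      change bcProj D c v k ≫ pullback.fst v (D.map k.hom) ≫ v = φ ≫ w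
      rw [bcProj_fst_assoc, hφ, pullback.condition])
  refine ⟨k, g, ?_, h1⟩
  refine h2.trans ?_
  change pullback.fst v (D.map k.hom) ≫ v = _
  exact pullback.condition

include hc in
/-- isomorphisms over the limit between finitely presented schemes over a stage descend -/
theorem exists_iso_descend (i : I) {V W : Scheme.{u}} (v : V ⟶ D.obj i) (w : W ⟶ D.obj i)
    [CompactSpace V] [QuasiSeparatedSpace V] [CompactSpace W] [QuasiSeparatedSpace W]
    [LocallyOfFinitePresentation v] [LocallyOfFinitePresentation w]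
    (θ : pullback v (c.π.app i) ≅ pullback w (c.π.app i))
    (hθ : θ.hom ≫ pullback.snd w (c.π.app i) = pullback.snd v (c.π.app i)) :
    ∃ (j : I) (a : j ⟶ i) (Vj Wj : Scheme.{u}) (pv : Vj ⟶ V) (qv : Vj ⟶ D.obj j) (pw : Wj ⟶ W)
      (qw : Wj ⟶ D.obj j) (ψ : Vj ≅ Wj), IsPullback pv qv v (D.map a) ∧
      IsPullback pw qw w (D.map a) ∧ ψ.hom ≫ qw = qv := by
  have hDaff : ∀ {i j : I} (f : i ⟶ j), IsAffineHom (D.map f) := fun f => inferInstance
  obtain ⟨k, ψ₁, hψ₁, hψ₁'⟩ := exists_hom_descend D c hc i v w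
    (θ.hom ≫ pullback.fst w (c.π.app i))
    (by rw [Category.assoc, pullback.condition, ← Category.assoc, hθ])
  let Ψ : pullback v (D.map k.hom) ⟶ pullback w (D.map k.hom) :=
    pullback.lift ψ₁ (pullback.snd _ _) hψ₁
  have hΨ₁ : Ψ ≫ pullback.fst _ _ = ψ₁ := pullback.lift_fst _ _ _
  have hΨ₂ : Ψ ≫ pullback.snd _ _ = pullback.snd _ _ := pullback.lift_snd _ _ _
  haveI : CompactSpace ↥(pullback w (D.map k.hom)) := compactSpace_bcDiagram_obj D w k (hDaff _)
  haveI : CompactSpace ↥(pullback v (D.map k.hom)) := compactSpace_bcDiagram_obj D v k (hDaff _)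
  haveI : QuasiSeparatedSpace ↥(pullback w (D.map k.hom)) :=
    quasiSeparatedSpace_bcDiagram_obj D w k (hDaff _)
  haveI : QuasiSeparatedSpace ↥(pullback v (D.map k.hom)) :=
    quasiSeparatedSpace_bcDiagram_obj D v k (hDaff _)
  have hΦ : (@LocallyOfFinitePresentation ⊓ (@QuasiCompact ⊓ @QuasiSeparated) :
      MorphismProperty Scheme.{u}) Ψ := by
    refine ⟨?_, inferInstance, inferInstance⟩
    refine Groth.Agent.H5.EtSrc.locallyOfFinitePresentation_of_comp Ψ
      (pullback.snd w (D.map k.hom)) ?_ inferInstance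
    rw [hΨ₂]
    infer_instance
  have hcomm : bcProj D c v k ≫ Ψ = θ.hom ≫ bcProj D c w k := by
    apply pullback.hom_ext
    · rw [Category.assoc, hΨ₁, hψ₁', Category.assoc, bcProj_fst]
    · rw [Category.assoc, hΨ₂, bcProj_snd, Category.assoc, bcProj_snd, ← Category.assoc, hθ]
  have hX : IsPullback (bcProj D c v k) θ.hom Ψ (bcProj D c w k) := by
    refine IsPullback.of_bot ?_ hcomm (isPullback_bcProj D c w k)
    rw [hθ, hΨ₂]
    exact isPullback_bcProj D c v k
  obtain ⟨j, φ', Xi, Yi, fi, gi, pY, pX, h1, h2, h3⟩ := exists_descend D c hc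
    affineSystemDescent_isomorphisms k.left Ψ (pullback.snd w (D.map k.hom)) hΦ θ.hom
    (pullback.snd w (c.π.app i)) (bcProj D c w k) (bcProj D c v k) (isPullback_bcProj D c w k) hX
    (inferInstanceAs (IsIso θ.hom))
  haveI : IsIso fi := h3
  have h4 : IsPullback pX (fi ≫ gi) (Ψ ≫ pullback.snd w (D.map k.hom)) (D.map φ') :=
    h2.paste_vert h1
  rw [hΨ₂] at h4
  refine ⟨j, φ' ≫ k.hom, Xi, Yi, pX ≫ pullback.fst _ _, fi ≫ gi, pY ≫ pullback.fst _ _, gi,
    asIso fi, ?_, ?_, rfl⟩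
  · rw [D.map_comp]
    exact h4.paste_horiz (IsPullback.of_hasPullback v (D.map k.hom))
  · rw [D.map_comp]
    exact h1.paste_horiz (IsPullback.of_hasPullback w (D.map k.hom))

end General

end Groth.Agent.H6.PurGl
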