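import Mathlib
import Groth.Prelude

set_option autoImplicit false
universe u
open CategoryTheory CategoryTheory.Limits AlgebraicGeometry TopologicalSpace Opposite

namespace Groth.Agent.H6.PurGl

section PO

variable {S T₁ T₂ T₁₂ Y₁ Y₂ Y₁₂ : Scheme.{u}}
  (j₁ : T₁ ⟶ S) (j₂ : T₂ ⟶ S) (q₁ : T₁₂ ⟶ T₁) (q₂ : T₁₂ ⟶ T₂)
  [IsOpenImmersion j₁] [IsOpenImmersion j₂] [IsOpenImmersion q₁] [IsOpenImmersion q₂]
  (hT : IsPullback q₁ q₂ j₁ j₂)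
  (p₁ : Y₁ ⟶ T₁) (p₂ : Y₂ ⟶ T₂) (a₁ : Y₁₂ ⟶ Y₁) (a₂ : Y₁₂ ⟶ Y₂) (r : Y₁₂ ⟶ T₁₂)
  (h₁ : IsPullback a₁ r p₁ q₁) (h₂ : IsPullback a₂ r p₂ q₂)

include h₁ in
lemma isOpenImmersion_a₁ : IsOpenImmersion a₁ :=
  MorphismProperty.of_isPullback (P := @IsOpenImmersion) h₁.flip inferInstance

instance spanOpenImm [IsOpenImmersion a₁] [IsOpenImmersion a₂] :
    ∀ {i j : WalkingSpan} (f : i ⟶ j), IsOpenImmersion ((span a₁ a₂).map f) := by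
  rintro i j (_ | (_ | _))
  · rw [show (WidePushoutShape.Hom.id i : i ⟶ i) = 𝟙 i from rfl, (span a₁ a₂).map_id]
    infer_instance
  · exact inferInstanceAs (IsOpenImmersion a₁)
  · exact inferInstanceAs (IsOpenImmersion a₂)


section

variable [IsOpenImmersion a₁] [IsOpenImmersion a₂]

instance : HasPushout a₁ a₂ := inferInstanceAs (HasColimit (span a₁ a₂))

instance : IsOpenImmersion (pushout.inl a₁ a₂) :=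
  inferInstanceAs (IsOpenImmersion (colimit.ι (span a₁ a₂) WalkingSpan.left))

instance : IsOpenImmersion (pushout.inr a₁ a₂) :=
  inferInstanceAs (IsOpenImmersion (colimit.ι (span a₁ a₂) WalkingSpan.right))

lemma po_jointly_surjective (y : ↥(pushout a₁ a₂)) :
    (∃ y₁, pushout.inl a₁ a₂ y₁ = y) ∨ (∃ y₂, pushout.inr a₁ a₂ y₂ = y) := by
  obtain ⟨i, xi, hxi⟩ := Scheme.IsLocallyDirected.ι_jointly_surjective (span a₁ a₂) y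
  rcases i with _ | (_ | _)
  · left
    refine ⟨a₁ xi, ?_⟩
    rw [← hxi, ← Scheme.Hom.comp_apply]
    have : a₁ ≫ pushout.inl a₁ a₂ = colimit.ι (span a₁ a₂) none :=
      colimit.w (span a₁ a₂) (WidePushoutShape.Hom.init WalkingPair.left)
    rw [this]
    rfl
  · exact Or.inl ⟨xi, hxi⟩
  · exact Or.inr ⟨xi, hxi⟩


include hT h₂ in
theorem isPullback_inl (p : pushout a₁ a₂ ⟶ S) (hp₁ : pushout.inl a₁ a₂ ≫ p = p₁ ≫ j₁)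
    (hp₂ : pushout.inr a₁ a₂ ≫ p = p₂ ≫ j₂) :
    IsPullback (pushout.inl a₁ a₂) p₁ p j₁ := by
  have key : ∀ y : ↥(pushout a₁ a₂), p y ∈ Set.range j₁ →
      y ∈ Set.range (pushout.inl a₁ a₂) := by
    intro y hy
    rcases po_jointly_surjective a₁ a₂ y with ⟨y₁, rfl⟩ | ⟨y₂, rfl⟩
    · exact ⟨y₁, rfl⟩
    · obtain ⟨t₁, ht₁⟩ := hy
      have e1 : j₁ t₁ = j₂ (p₂ y₂) := by
        rw [ht₁, ← Scheme.Hom.comp_apply, hp₂, Scheme.Hom.comp_apply]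
      obtain ⟨t₁₂, ht1, ht2⟩ := Scheme.exists_preimage_of_isPullback hT t₁ (p₂ y₂) e1
      obtain ⟨y₁₂, hy1, hy2⟩ := Scheme.exists_preimage_of_isPullback h₂ y₂ t₁₂ ht2.symm
      refine ⟨a₁ y₁₂, ?_⟩
      rw [← hy1, ← Scheme.Hom.comp_apply, ← Scheme.Hom.comp_apply, pushout.condition]
  have hlift : ∀ s : PullbackCone p j₁, Set.range s.fst ⊆ Set.range (pushout.inl a₁ a₂) := by
    rintro s _ ⟨x, rfl⟩
    refine key _ ⟨s.snd x, ?_⟩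
    rw [← Scheme.Hom.comp_apply, ← s.condition, Scheme.Hom.comp_apply]
  refine ⟨⟨hp₁⟩, ⟨PullbackCone.IsLimit.mk _
    (fun s => IsOpenImmersion.lift (pushout.inl a₁ a₂) s.fst (hlift s)) ?_ ?_ ?_⟩⟩
  · intro s
    exact IsOpenImmersion.lift_fac _ _ _
  · intro s
    rw [← cancel_mono j₁, Category.assoc, ← hp₁, IsOpenImmersion.lift_fac_assoc, s.condition]
  · intro s m h1 h2
    rw [← cancel_mono (pushout.inl a₁ a₂), h1, IsOpenImmersion.lift_fac]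


include hT h₁ in
theorem isPullback_inr (p : pushout a₁ a₂ ⟶ S) (hp₁ : pushout.inl a₁ a₂ ≫ p = p₁ ≫ j₁)
    (hp₂ : pushout.inr a₁ a₂ ≫ p = p₂ ≫ j₂) :
    IsPullback (pushout.inr a₁ a₂) p₂ p j₂ := by
  have key : ∀ y : ↥(pushout a₁ a₂), p y ∈ Set.range j₂ →
      y ∈ Set.range (pushout.inr a₁ a₂) := by
    intro y hy
    rcases po_jointly_surjective a₁ a₂ y with ⟨y₁, rfl⟩ | ⟨y₂, rfl⟩
    · obtain ⟨t₂, ht₂⟩ := hy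
      have e1 : j₁ (p₁ y₁) = j₂ t₂ := by
        rw [ht₂, ← Scheme.Hom.comp_apply, ← Scheme.Hom.comp_apply, hp₁]
      obtain ⟨t₁₂, ht1, ht2⟩ := Scheme.exists_preimage_of_isPullback hT (p₁ y₁) t₂ e1
      obtain ⟨y₁₂, hy1, hy2⟩ := Scheme.exists_preimage_of_isPullback h₁ y₁ t₁₂ ht1.symm
      refine ⟨a₂ y₁₂, ?_⟩
      rw [← hy1, ← Scheme.Hom.comp_apply, ← Scheme.Hom.comp_apply, pushout.condition]
    · exact ⟨y₂, rfl⟩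
  have hlift : ∀ s : PullbackCone p j₂, Set.range s.fst ⊆ Set.range (pushout.inr a₁ a₂) := by
    rintro s _ ⟨x, rfl⟩
    refine key _ ⟨s.snd x, ?_⟩
    rw [← Scheme.Hom.comp_apply, ← s.condition, Scheme.Hom.comp_apply]
  refine ⟨⟨hp₂⟩, ⟨PullbackCone.IsLimit.mk _
    (fun s => IsOpenImmersion.lift (pushout.inr a₁ a₂) s.fst (hlift s)) ?_ ?_ ?_⟩⟩
  · intro s
    exact IsOpenImmersion.lift_fac _ _ _
  · intro s
    rw [← cancel_mono j₂, Category.assoc, ← hp₂, IsOpenImmersion.lift_fac_assoc, s.condition]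
  · intro s m h1 h2
    rw [← cancel_mono (pushout.inr a₁ a₂), h1, IsOpenImmersion.lift_fac]

end

end PO

lemma prop_of_isPullback_openImm {P : MorphismProperty Scheme.{u}} [IsZariskiLocalAtTarget P]
    {Y S T₁ Y₁ : Scheme.{u}} (p : Y ⟶ S) (j₁ : T₁ ⟶ S) [IsOpenImmersion j₁] (p₁ : Y₁ ⟶ T₁)
    (g₁ : Y₁ ⟶ Y) (sq : IsPullback g₁ p₁ p j₁) (hp₁ : P p₁) : P (p ∣_ j₁.opensRange) := by
  rw [P.arrow_mk_iso_iff (morphismRestrictOpensRange p j₁)]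
  have : p₁ = sq.isoPullback.hom ≫ pullback.snd p j₁ := (sq.isoPullback_hom_snd).symm
  rw [this] at hp₁
  exact (P.cancel_left_of_respectsIso _ _).mp hp₁

lemma prop_of_isPullback_cover {P : MorphismProperty Scheme.{u}} [IsZariskiLocalAtTarget P]
    {Y S T₁ T₂ Y₁ Y₂ : Scheme.{u}} (p : Y ⟶ S) (j₁ : T₁ ⟶ S) (j₂ : T₂ ⟶ S)
    [IsOpenImmersion j₁] [IsOpenImmersion j₂]
    (hcov : ∀ s : S, s ∈ Set.range j₁ ∨ s ∈ Set.range j₂)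
    (p₁ : Y₁ ⟶ T₁) (p₂ : Y₂ ⟶ T₂) (g₁ : Y₁ ⟶ Y) (g₂ : Y₂ ⟶ Y)
    (sq₁ : IsPullback g₁ p₁ p j₁) (sq₂ : IsPullback g₂ p₂ p j₂) (hp₁ : P p₁) (hp₂ : P p₂) :
    P p := by
  refine IsZariskiLocalAtTarget.of_forall_exists_morphismRestrict (fun s => ?_)
  rcases hcov s with hs | hs
  · exact ⟨j₁.opensRange, hs, prop_of_isPullback_openImm p j₁ p₁ g₁ sq₁ hp₁⟩
  · exact ⟨j₂.opensRange, hs, prop_of_isPullback_openImm p j₂ p₂ g₂ sq₂ hp₂⟩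

section PO2

variable {S T₁ T₂ T₁₂ Y₁ Y₂ Y₁₂ : Scheme.{u}}
  (j₁ : T₁ ⟶ S) (j₂ : T₂ ⟶ S) (q₁ : T₁₂ ⟶ T₁) (q₂ : T₁₂ ⟶ T₂)
  [IsOpenImmersion j₁] [IsOpenImmersion j₂] [IsOpenImmersion q₁] [IsOpenImmersion q₂]
  (hT : IsPullback q₁ q₂ j₁ j₂)
  (p₁ : Y₁ ⟶ T₁) (p₂ : Y₂ ⟶ T₂) (a₁ : Y₁₂ ⟶ Y₁) (a₂ : Y₁₂ ⟶ Y₂) (r : Y₁₂ ⟶ T₁₂)
  (h₁ : IsPullback a₁ r p₁ q₁) (h₂ : IsPullback a₂ r p₂ q₂)

include hT h₁ h₂ in
/-- gluing two finite étale covers along an isomorphism over the intersection -/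
theorem exists_glue_PO (hcov : ∀ s : S, s ∈ Set.range j₁ ∨ s ∈ Set.range j₂)
    [IsFinite p₁] [Etale p₁] [IsFinite p₂] [Etale p₂] :
    ∃ (Y : Scheme.{u}) (p : Y ⟶ S) (g₁ : Y₁ ⟶ Y) (g₂ : Y₂ ⟶ Y), IsFinite p ∧ Etale p ∧
      IsPullback g₁ p₁ p j₁ ∧ IsPullback g₂ p₂ p j₂ := by
  haveI : IsOpenImmersion a₁ := isOpenImmersion_a₁ q₁ p₁ a₁ r h₁
  haveI : IsOpenImmersion a₂ := isOpenImmersion_a₁ q₂ p₂ a₂ r h₂
  have hcomm : a₁ ≫ p₁ ≫ j₁ = a₂ ≫ p₂ ≫ j₂ := by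
    rw [← Category.assoc, h₁.w, Category.assoc, hT.w, ← Category.assoc, ← h₂.w, Category.assoc]
  let p : pushout a₁ a₂ ⟶ S := pushout.desc (p₁ ≫ j₁) (p₂ ≫ j₂) hcomm
  have hp₁ : pushout.inl a₁ a₂ ≫ p = p₁ ≫ j₁ := pushout.inl_desc _ _ _
  have hp₂ : pushout.inr a₁ a₂ ≫ p = p₂ ≫ j₂ := pushout.inr_desc _ _ _
  have sq₁ := isPullback_inl j₁ j₂ q₁ q₂ hT p₁ p₂ a₁ a₂ r h₂ p hp₁ hp₂
  have sq₂ := isPullback_inr j₁ j₂ q₁ q₂ hT p₁ p₂ a₁ a₂ r h₁ p hp₁ hp₂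
  exact ⟨_, p, _, _,
    prop_of_isPullback_cover (P := @IsFinite) p j₁ j₂ hcov p₁ p₂ _ _ sq₁ sq₂ inferInstance
      inferInstance,
    prop_of_isPullback_cover (P := @Etale) p j₁ j₂ hcov p₁ p₂ _ _ sq₁ sq₂ inferInstance
      inferInstance, sq₁, sq₂⟩

end PO2

lemma mem_range_homOfLE {X : Scheme.{u}} {U W : X.Opens} (h : U ≤ W) (s : ↥(W : Scheme.{u}))
    (hs : s.1 ∈ U) : s ∈ Set.range (X.homOfLE h) :=
  ⟨⟨s.1, hs⟩, Subtype.ext (X.homOfLE_apply h ⟨s.1, hs⟩)⟩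

/-- gluing two finite étale covers of opens `U₁`, `U₂` of `X` to a finite étale cover of
`U₁ ⊔ U₂` -/
theorem exists_glue {X : Scheme.{u}} (U₁ U₂ : X.Opens) {Y₁ Y₂ Y₁₂ : Scheme.{u}}
    (p₁ : Y₁ ⟶ U₁) (p₂ : Y₂ ⟶ U₂) [IsFinite p₁] [Etale p₁] [IsFinite p₂] [Etale p₂]
    (a₁ : Y₁₂ ⟶ Y₁) (a₂ : Y₁₂ ⟶ Y₂) (r : Y₁₂ ⟶ (U₁ ⊓ U₂ : X.Opens))
    (h₁ : IsPullback a₁ r p₁ (X.homOfLE inf_le_left))
    (h₂ : IsPullback a₂ r p₂ (X.homOfLE inf_le_right)) :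
    ∃ (Y : Scheme.{u}) (p : Y ⟶ (U₁ ⊔ U₂ : X.Opens)) (g₁ : Y₁ ⟶ Y) (g₂ : Y₂ ⟶ Y),
      IsFinite p ∧ Etale p ∧ IsPullback g₁ p₁ p (X.homOfLE le_sup_left) ∧
      IsPullback g₂ p₂ p (X.homOfLE le_sup_right) := by
  refine exists_glue_PO (X.homOfLE le_sup_left) (X.homOfLE le_sup_right) (X.homOfLE inf_le_left)
    (X.homOfLE inf_le_right) (isPullback_opens_inf_le le_sup_left le_sup_right) p₁ p₂ a₁ a₂ r
    h₁ h₂ (fun s => ?_)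
  rcases s.2 with hs | hs
  · exact Or.inl (mem_range_homOfLE _ s hs)
  · exact Or.inr (mem_range_homOfLE _ s hs)

end Groth.Agent.H6.PurGl
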