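import Mathlib
import Groth.Prelude
import Groth.Agent.Lib.Helper6.PurGl1
import Groth.Agent.Lib.Helper6.PurGl2
import Groth.Agent.Lib.Helper6.PurGl3

set_option autoImplicit false
universe u
open CategoryTheory CategoryTheory.Limits AlgebraicGeometry TopologicalSpace Opposite

namespace Groth.Agent.H6.PurGl

section Punct

variable {X : Scheme.{u}} (U' : X.Opens) (x : X) (hx : x ∉ U')
  (hgen : ∀ y : X, y ⤳ x → y ≠ x → y ∈ U')

include hgen in
lemma range_punct_subset :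
    Set.range ((FEt.puncturedSpec (X.presheaf.stalk x)).ι ≫ X.fromSpecStalk x) ⊆
      Set.range U'.ι := by
  rintro _ ⟨z, rfl⟩
  rw [Scheme.Opens.range_ι]
  refine hgen _ ?_ ?_
  · have : (X.fromSpecStalk x) ((FEt.puncturedSpec (X.presheaf.stalk x)).ι z) ∈
        Set.range (X.fromSpecStalk x) := ⟨_, rfl⟩
    rw [Scheme.range_fromSpecStalk] at this
    exact this
  · intro h
    have h2 : (X.fromSpecStalk x) ((FEt.puncturedSpec (X.presheaf.stalk x)).ι z) =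
        (X.fromSpecStalk x) (IsLocalRing.closedPoint (X.presheaf.stalk x)) := by
      rw [Scheme.fromSpecStalk_closedPoint]
      exact h
    have h3 := (X.fromSpecStalk x).isEmbedding.injective h2
    exact z.2 h3

/-- the map from the punctured spectrum of the local ring at `x` to `U'` -/
noncomputable def punctMap :
    ((FEt.puncturedSpec (X.presheaf.stalk x) : (Spec (X.presheaf.stalk x)).Opens) : Scheme.{u}) ⟶
      (U' : Scheme.{u}) :=
  IsOpenImmersion.lift U'.ι ((FEt.puncturedSpec (X.presheaf.stalk x)).ι ≫ X.fromSpecStalk x)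
    (range_punct_subset U' x hgen)

lemma punctMap_ι : punctMap U' x hgen ≫ U'.ι =
    (FEt.puncturedSpec (X.presheaf.stalk x)).ι ≫ X.fromSpecStalk x :=
  IsOpenImmersion.lift_fac _ _ _

include hx in
lemma isPullback_punctMap : IsPullback (punctMap U' x hgen)
    (FEt.puncturedSpec (X.presheaf.stalk x)).ι U'.ι (X.fromSpecStalk x) := by
  refine IsOpenImmersion.isPullback _ _ _ _ (punctMap_ι U' x hgen).symm ?_
  ext z
  simp only [Scheme.Opens.opensRange_ι]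
  constructor
  · intro hz
    change z ∈ ({IsLocalRing.closedPoint (X.presheaf.stalk x)}ᶜ : Set _)
    intro hzc
    apply hx
    have : (X.fromSpecStalk x) z ∈ U' := hz
    rw [Set.mem_singleton_iff.mp hzc, Scheme.fromSpecStalk_closedPoint] at this
    exact this
  · intro hz
    have := range_punct_subset U' x hgen ⟨⟨z, hz⟩, rfl⟩
    rw [Scheme.Opens.range_ι] at this
    exact this

end Punct


lemma isPullback_iso_comp {C : Type*} [Category C] {P P' A B Z : C} {f : P ⟶ A} {g : P ⟶ B}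
    {h : A ⟶ Z} {k : B ⟶ Z} (sq : IsPullback f g h k) (e : P' ≅ P) :
    IsPullback (e.hom ≫ f) (e.hom ≫ g) h k :=
  IsPullback.of_iso sq e.symm (Iso.refl _) (Iso.refl _) (Iso.refl _) (by simp) (by simp)
    (by simp) (by simp)

lemma isPullback_homOfLE_of_eq {X : Scheme.{u}} {U V W T : X.Opens} (hU : U ≤ T) (hV : V ≤ T)
    (hWU : W ≤ U) (hWV : W ≤ V) (hW : U ⊓ V ≤ W) :
    IsPullback (X.homOfLE hWU) (X.homOfLE hWV) (X.homOfLE hU) (X.homOfLE hV) := by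
  obtain rfl : W = U ⊓ V := le_antisymm (le_inf hWU hWV) hW
  exact isPullback_opens_inf_le hU hV

/-- finite étale covers of `Spec 𝒪_{X,x}` spread out to an affine neighbourhood -/
theorem exists_spread_stalk (X : Scheme.{u}) (x : X) {Y : Scheme.{u}}
    (π : Y ⟶ Spec (X.presheaf.stalk x)) (hf : IsFinite π) (he : Etale π) :
    ∃ (O : AffNhd X x) (Y₁ : Scheme.{u}) (π₁ : Y₁ ⟶ (O.1.1 : Scheme.{u})) (b : Y ⟶ Y₁),
      IsFinite π₁ ∧ Etale π₁ ∧ IsPullback b π π₁ (O.1.1.fromSpecStalkOfMem x O.2) :=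
  @exists_fet_spread _ _ _ (nhdDiagram X x) (nhdCone X x) (isLimitNhdCone X x) _ _ _ Y π hf he

/-- isomorphisms over `Spec 𝒪_{X,x}` spread out to an affine neighbourhood -/
theorem exists_iso_descend_stalk (X : Scheme.{u}) (x : X) (O₀ : AffNhd X x) {V W : Scheme.{u}}
    (v : V ⟶ (O₀.1.1 : Scheme.{u})) (w : W ⟶ (O₀.1.1 : Scheme.{u}))
    (hcV : CompactSpace V) (hqV : QuasiSeparatedSpace V) (hcW : CompactSpace W)
    (hqW : QuasiSeparatedSpace W) (hv : LocallyOfFinitePresentation v)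
    (hw : LocallyOfFinitePresentation w)
    (θ : pullback v (O₀.1.1.fromSpecStalkOfMem x O₀.2) ≅
      pullback w (O₀.1.1.fromSpecStalkOfMem x O₀.2))
    (hθ : θ.hom ≫ pullback.snd w (O₀.1.1.fromSpecStalkOfMem x O₀.2) =
      pullback.snd v (O₀.1.1.fromSpecStalkOfMem x O₀.2)) :
    ∃ (O : AffNhd X x) (hO : O.1.1 ≤ O₀.1.1) (Vj Wj : Scheme.{u}) (pv : Vj ⟶ V)
      (qv : Vj ⟶ (O.1.1 : Scheme.{u})) (pw : Wj ⟶ W) (qw : Wj ⟶ (O.1.1 : Scheme.{u}))
      (ψ : Vj ≅ Wj), IsPullback pv qv v (X.homOfLE hO) ∧ IsPullback pw qw w (X.homOfLE hO) ∧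
      ψ.hom ≫ qw = qv := by
  obtain ⟨O, a, Vj, Wj, pv, qv, pw, qw, ψ, h1, h2, h3⟩ :=
    @exists_iso_descend _ _ _ (nhdDiagram X x) (nhdCone X x) (isLimitNhdCone X x) _ _ _ O₀ V W
      v w hcV hqV hcW hqW hv hw θ hθ
  exact ⟨O, leOfHom a, Vj, Wj, pv, qv, pw, qw, ψ, h1, h2, h3⟩

section Core

variable {X : Scheme.{u}} [IsNoetherian X] (U' : X.Opens) {Y' : Scheme.{u}} (π' : Y' ⟶ U')
  [IsFinite π'] [Etale π'] (x : X) (hx : x ∉ U') (hgen : ∀ y : X, y ⤳ x → y ≠ x → y ∈ U')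
  (hpur : FEt.PurityHolds (X.presheaf.stalk x))

instance compactSpace_opens (Q : X.Opens) : CompactSpace ↥(Q : Scheme.{u}) :=
  isCompact_iff_compactSpace.mp (NoetherianSpace.isCompact (Q : Set X))

include hx hgen hpur in
theorem exists_local_extension :
    ∃ (U'' : X.Opens) (hle : U' ≤ U'') (_ : x ∈ U'') (Y'' : Scheme.{u}) (π'' : Y'' ⟶ U'')
      (g : Y' ⟶ Y''), IsFinite π'' ∧ Etale π'' ∧ IsPullback g π' π'' (X.homOfLE hle) := by
  let Punct := FEt.puncturedSpec (X.presheaf.stalk x)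
  let ρ := punctMap U' x hgen
  have hρ : IsPullback ρ Punct.ι U'.ι (X.fromSpecStalk x) := isPullback_punctMap U' x hx hgen
  -- Step 1: local extension
  let Z := pullback π' ρ
  let z₁ : Z ⟶ Y' := pullback.fst π' ρ
  let z₂ : Z ⟶ Punct := pullback.snd π' ρ
  have hZ : IsPullback z₁ z₂ π' ρ := IsPullback.of_hasPullback _ _
  let VP : FEt.Cat (Punct : Scheme.{u}) :=
    MorphismProperty.Over.mk ⊤ z₂ ⟨inferInstance, inferInstance⟩
  haveI : (FEt.restrict Punct.ι).EssSurj := hpur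
  let Yh : FEt.Cat (Spec (X.presheaf.stalk x)) := (FEt.restrict Punct.ι).objPreimage VP
  let e : (FEt.restrict Punct.ι).obj Yh ≅ VP := (FEt.restrict Punct.ι).objObjPreimageIso VP
  obtain ⟨Yhl, πh, hπhf, hπhe, β, hβ⟩ : ∃ (Yhl : Scheme.{u})
      (πh : Yhl ⟶ Spec (X.presheaf.stalk x)) (_ : IsFinite πh) (_ : Etale πh) (β : Z ⟶ Yhl),
      IsPullback β z₂ πh Punct.ι :=
    ⟨Yh.left, Yh.hom, Yh.prop.1, Yh.prop.2, _, isPullback_of_restrict_iso Punct.ι Yh VP e⟩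
  -- Step 2: spread out
  obtain ⟨O₀, Y₁, π₁, b, hπ₁f, hπ₁e, hb⟩ := exists_spread_stalk X x πh hπhf hπhe
  -- Step 3: the two schemes over `O₀`
  let Q : X.Opens := O₀.1.1 ⊓ U'
  let q₀ : (Q : Scheme.{u}) ⟶ (O₀.1.1 : Scheme.{u}) := X.homOfLE inf_le_left
  let q' : (Q : Scheme.{u}) ⟶ (U' : Scheme.{u}) := X.homOfLE inf_le_right
  have hQ : IsPullback q₀ q' O₀.1.1.ι U'.ι := isPullback_opens_inf _ _
  let c₀ : Spec (X.presheaf.stalk x) ⟶ (O₀.1.1 : Scheme.{u}) :=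
    O₀.1.1.fromSpecStalkOfMem x O₀.2
  have hc₀ : c₀ ≫ O₀.1.1.ι = X.fromSpecStalk x := Scheme.Opens.fromSpecStalkOfMem_ι _ _ _
  let ρ₀ : (Punct : Scheme.{u}) ⟶ (Q : Scheme.{u}) := hQ.lift (Punct.ι ≫ c₀) ρ
    (by rw [Category.assoc, hc₀, punctMap_ι])
  have hρ₀q₀ : ρ₀ ≫ q₀ = Punct.ι ≫ c₀ := hQ.lift_fst _ _ _
  have hρ₀q' : ρ₀ ≫ q' = ρ := hQ.lift_snd _ _ _
  have hρ₀ : IsPullback ρ₀ Punct.ι q₀ c₀ := by
    refine IsPullback.of_right ?_ hρ₀q₀ hQ.flip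
    rw [hρ₀q', hc₀]
    exact hρ
  let E₁ := pullback π₁ q₀
  let E₂ := pullback π' q'
  let v : E₁ ⟶ (O₀.1.1 : Scheme.{u}) := pullback.snd π₁ q₀ ≫ q₀
  let w : E₂ ⟶ (O₀.1.1 : Scheme.{u}) := pullback.snd π' q' ≫ q₀
  -- Step 4: both base changes to `Spec 𝒪_{X,x}` are `Z`
  let ζ₂ : Z ⟶ E₂ := pullback.lift z₁ (z₂ ≫ ρ₀) (by rw [Category.assoc, hρ₀q', hZ.w])
  have hζ₂fst : ζ₂ ≫ pullback.fst π' q' = z₁ := pullback.lift_fst _ _ _
  have hζ₂snd : ζ₂ ≫ pullback.snd π' q' = z₂ ≫ ρ₀ := pullback.lift_snd _ _ _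
  have hA1 : IsPullback ζ₂ z₂ (pullback.snd π' q') ρ₀ := by
    refine IsPullback.of_right ?_ hζ₂snd (IsPullback.of_hasPullback π' q')
    rw [hζ₂fst, hρ₀q']
    exact hZ
  have hA : IsPullback ζ₂ (z₂ ≫ Punct.ι) w c₀ := hA1.paste_vert hρ₀
  have hbig : IsPullback (β ≫ b) z₂ π₁ (Punct.ι ≫ c₀) := hβ.paste_horiz hb
  let ζ₁ : Z ⟶ E₁ := pullback.lift (β ≫ b) (z₂ ≫ ρ₀) (by rw [Category.assoc z₂ ρ₀ q₀, hρ₀q₀]; exact hbig.w)
  have hζ₁fst : ζ₁ ≫ pullback.fst π₁ q₀ = β ≫ b := pullback.lift_fst _ _ _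
  have hζ₁snd : ζ₁ ≫ pullback.snd π₁ q₀ = z₂ ≫ ρ₀ := pullback.lift_snd _ _ _
  have hB1 : IsPullback ζ₁ z₂ (pullback.snd π₁ q₀) ρ₀ := by
    refine IsPullback.of_right ?_ hζ₁snd (IsPullback.of_hasPullback π₁ q₀)
    rw [hζ₁fst, hρ₀q₀]
    exact hbig
  have hB : IsPullback ζ₁ (z₂ ≫ Punct.ι) v c₀ := hB1.paste_vert hρ₀
  let θ : pullback v c₀ ≅ pullback w c₀ := hB.isoPullback.symm ≪≫ hA.isoPullback
  have hθ : θ.hom ≫ pullback.snd w c₀ = pullback.snd v c₀ := by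
    change (hB.isoPullback.inv ≫ hA.isoPullback.hom) ≫ pullback.snd w c₀ = pullback.snd v c₀
    rw [Category.assoc, hA.isoPullback_hom_snd, hB.isoPullback_inv_snd]
  -- Step 5: descend the isomorphism
  haveI : IsFinite π₁ := hπ₁f
  haveI : Etale π₁ := hπ₁e
  have hcE₁ : CompactSpace ↥E₁ := inferInstanceAs (CompactSpace ↥(pullback π₁ q₀))
  have hcE₂ : CompactSpace ↥E₂ := inferInstanceAs (CompactSpace ↥(pullback π' q'))
  have hqE₁ : QuasiSeparatedSpace ↥E₁ := quasiSeparatedSpace_of_quasiSeparated (pullback.snd π₁ q₀)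
  have hqE₂ : QuasiSeparatedSpace ↥E₂ := quasiSeparatedSpace_of_quasiSeparated (pullback.snd π' q')
  have hv : LocallyOfFinitePresentation v :=
    inferInstanceAs (LocallyOfFinitePresentation (pullback.snd π₁ q₀ ≫ q₀))
  have hw : LocallyOfFinitePresentation w :=
    inferInstanceAs (LocallyOfFinitePresentation (pullback.snd π' q' ≫ q₀))
  obtain ⟨O, hO, Vj, Wj, pv, qv, pw, qw, ψ, hVj, hWj, hψ⟩ :=
    exists_iso_descend_stalk X x O₀ v w hcE₁ hqE₁ hcE₂ hqE₂ hv hw θ hθ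
  -- Step 6: glue
  let ι₀ : (O.1.1 : Scheme.{u}) ⟶ (O₀.1.1 : Scheme.{u}) := X.homOfLE hO
  let T : X.Opens := Q ⊓ O.1.1
  let tQ : (T : Scheme.{u}) ⟶ (Q : Scheme.{u}) := X.homOfLE inf_le_left
  let tO : (T : Scheme.{u}) ⟶ (O.1.1 : Scheme.{u}) := X.homOfLE inf_le_right
  have hT : IsPullback tQ tO q₀ ι₀ := isPullback_opens_inf_le inf_le_left hO
  have hTU : T ≤ U' := inf_le_left.trans inf_le_right
  let q₁ : (T : Scheme.{u}) ⟶ (U' : Scheme.{u}) := X.homOfLE hTU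
  have htQq' : tQ ≫ q' = q₁ := X.homOfLE_homOfLE _ _
  have hT' : IsPullback q₁ tO (X.homOfLE (le_sup_left : U' ≤ U' ⊔ O.1.1))
      (X.homOfLE (le_sup_right : O.1.1 ≤ U' ⊔ O.1.1)) :=
    isPullback_homOfLE_of_eq le_sup_left le_sup_right hTU inf_le_right
      (le_inf (le_inf (inf_le_right.trans hO) inf_le_left) inf_le_right)
  -- the `W` side
  have hWw : (pw ≫ pullback.snd π' q') ≫ q₀ = qw ≫ ι₀ := by
    rw [Category.assoc]
    exact hWj.w
  let rW : Wj ⟶ (T : Scheme.{u}) := hT.lift (pw ≫ pullback.snd π' q') qw hWw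
  have hrWQ : rW ≫ tQ = pw ≫ pullback.snd π' q' := hT.lift_fst _ _ _
  have hrWO : rW ≫ tO = qw := hT.lift_snd _ _ _
  have hLW : IsPullback pw rW (pullback.snd π' q') tQ := by
    refine IsPullback.of_bot ?_ hrWQ.symm hT
    rw [hrWO]
    exact hWj
  have hS1 : IsPullback (pw ≫ pullback.fst π' q') rW π' q₁ := by
    have := hLW.paste_horiz (IsPullback.of_hasPullback π' q')
    rwa [htQq'] at this
  -- the `V` side
  have hVv : (pv ≫ pullback.snd π₁ q₀) ≫ q₀ = qv ≫ ι₀ := by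
    rw [Category.assoc]
    exact hVj.w
  let rV : Vj ⟶ (T : Scheme.{u}) := hT.lift (pv ≫ pullback.snd π₁ q₀) qv hVv
  have hrVQ : rV ≫ tQ = pv ≫ pullback.snd π₁ q₀ := hT.lift_fst _ _ _
  have hrVO : rV ≫ tO = qv := hT.lift_snd _ _ _
  have hLV : IsPullback pv rV (pullback.snd π₁ q₀) tQ := by
    refine IsPullback.of_bot ?_ hrVQ.symm hT
    rw [hrVO]
    exact hVj
  have hS2' : IsPullback (pv ≫ pullback.fst π₁ q₀) rV π₁ (tO ≫ ι₀) := by
    have := hLV.paste_horiz (IsPullback.of_hasPullback π₁ q₀)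
    rwa [hT.w] at this
  let a₂ : Vj ⟶ pullback π₁ ι₀ := pullback.lift (pv ≫ pullback.fst π₁ q₀) (rV ≫ tO)
    (by rw [Category.assoc rV tO ι₀]; exact hS2'.w)
  have ha₂fst : a₂ ≫ pullback.fst π₁ ι₀ = pv ≫ pullback.fst π₁ q₀ := pullback.lift_fst _ _ _
  have ha₂snd : a₂ ≫ pullback.snd π₁ ι₀ = rV ≫ tO := pullback.lift_snd _ _ _
  have hS2 : IsPullback a₂ rV (pullback.snd π₁ ι₀) tO := by
    refine IsPullback.of_right ?_ ha₂snd (IsPullback.of_hasPullback π₁ ι₀)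
    rw [ha₂fst]
    exact hS2'
  have hrVW : ψ.hom ≫ rW = rV := by
    apply hT.hom_ext
    · rw [Category.assoc, hrWQ, hrVQ, ← cancel_mono q₀, hVv, ← hψ]
      calc (ψ.hom ≫ pw ≫ pullback.snd π' q') ≫ q₀
          = ψ.hom ≫ (pw ≫ pullback.snd π' q') ≫ q₀ := by simp only [Category.assoc]
        _ = (ψ.hom ≫ qw) ≫ ι₀ := by rw [hWw, Category.assoc]
    · rw [Category.assoc, hrWO, hrVO, hψ]
  have hS1V : IsPullback (ψ.hom ≫ pw ≫ pullback.fst π' q') rV π' q₁ := by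
    have := isPullback_iso_comp hS1 ψ
    rwa [hrVW] at this
  obtain ⟨Y, p, g₁, g₂, hpf, hpe, hg₁, -⟩ := exists_glue_PO
    (X.homOfLE (le_sup_left : U' ≤ U' ⊔ O.1.1)) (X.homOfLE (le_sup_right : O.1.1 ≤ U' ⊔ O.1.1))
    q₁ tO hT' π' (pullback.snd π₁ ι₀) (ψ.hom ≫ pw ≫ pullback.fst π' q') a₂ rV hS1V hS2
    (fun s => by
      rcases s.2 with hs | hs
      · exact Or.inl (mem_range_homOfLE _ s hs)
      · exact Or.inr (mem_range_homOfLE _ s hs))
  exact ⟨U' ⊔ O.1.1, le_sup_left, Or.inr O.2, Y, p, g₁, hpf, hpe, hg₁⟩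

end Core

end Groth.Agent.H6.PurGl
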