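import Mathlib
import Groth.Prelude
import Groth.Agent.Lib.Helper6.PurGl4

set_option autoImplicit false
universe u
open CategoryTheory CategoryTheory.Limits AlgebraicGeometry TopologicalSpace Opposite

namespace Groth.Agent.H6.PurGl

lemma exists_max_point {α : Type*} [TopologicalSpace α] [NoetherianSpace α] [QuasiSober α]
    [T0Space α] (U : Opens α) (hU : U ≠ ⊤) :
    ∃ x, x ∉ U ∧ ∀ y, y ⤳ x → y ≠ x → y ∈ U := by
  obtain ⟨S, hSf, hSc, hSi, hSU⟩ := NoetherianSpace.exists_finite_set_isClosed_irreducible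
    (s := (U : Set α)ᶜ) U.isOpen.isClosed_compl
  have hne : S.Nonempty := by
    by_contra h
    rw [Set.not_nonempty_iff_eq_empty] at h
    rw [h, Set.sUnion_empty, Set.compl_empty_iff] at hSU
    exact hU (Opens.ext hSU)
  obtain ⟨T, hT⟩ := hSf.exists_maximal hne
  have hTS : T ∈ S := hT.prop
  let x := (hSi T hTS).genericPoint
  have hx : closure {x} = T := (hSi T hTS).closure_genericPoint (hSc T hTS)
  refine ⟨x, ?_, ?_⟩
  · have h1 : x ∈ T := hx ▸ subset_closure rfl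
    have h2 : x ∈ (U : Set α)ᶜ := hSU ▸ Set.mem_sUnion.mpr ⟨T, hTS, h1⟩
    exact h2
  · intro y hyx hne'
    by_contra hyU
    have h1 : y ∈ ⋃₀ S := hSU ▸ (show y ∈ (U : Set α)ᶜ from hyU)
    obtain ⟨T', hT'S, hyT'⟩ := Set.mem_sUnion.mp h1
    have hxT' : x ∈ T' :=
      ((hSc T' hT'S).closure_subset_iff.mpr (Set.singleton_subset_iff.mpr hyT'))
        (specializes_iff_mem_closure.mp hyx)
    have hTT' : T ≤ T' := by
      rw [← hx]
      exact (hSc T' hT'S).closure_subset_iff.mpr (Set.singleton_subset_iff.mpr hxT')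
    have hT'T : T' ≤ T := hT.le_of_ge hT'S hTT'
    have hyT : y ∈ closure {x} := hx ▸ hT'T hyT'
    have hxy : x ⤳ y := specializes_iff_mem_closure.mpr hyT
    exact hne' (hyx.antisymm hxy).eq


/-- **Extension of finite étale covers under local purity** (morphism form of S0250). -/
theorem exists_extension_of_purity {X : Scheme.{u}} [IsNoetherian X] (U : X.Opens)
    (h : ∀ x : X, x ∉ U → FEt.PurityHolds (X.presheaf.stalk x))
    {W : Scheme.{u}} (w : W ⟶ (U : Scheme.{u})) [IsFinite w] [Etale w] :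
    ∃ (Y : Scheme.{u}) (π : Y ⟶ X) (g : W ⟶ Y), IsFinite π ∧ Etale π ∧ IsPullback g w π U.ι := by
  let S : Set X.Opens := {U' | ∃ (hle : U ≤ U') (Y' : Scheme.{u}) (π' : Y' ⟶ (U' : Scheme.{u}))
    (g : W ⟶ Y'), IsFinite π' ∧ Etale π' ∧ IsPullback g w π' (X.homOfLE hle)}
  have hU : U ∈ S := ⟨le_rfl, W, w, 𝟙 W, inferInstance, inferInstance, by
    rw [X.homOfLE_rfl]
    exact IsPullback.id_horiz w⟩
  obtain ⟨U', hU'S, hmax⟩ := (wellFounded_gt (α := X.Opens)).has_min S ⟨U, hU⟩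
  obtain ⟨hle, Y', π', g, hf, he, hsq⟩ := hU'S
  by_cases htop : U' = ⊤
  · subst htop
    refine ⟨Y', π' ≫ (Scheme.topIso X).hom, g, inferInstance, inferInstance, ?_⟩
    have h2 : IsPullback (𝟙 Y') π' (π' ≫ (Scheme.topIso X).hom) (Scheme.topIso X).hom :=
      IsPullback.of_horiz_isIso ⟨by simp⟩
    have h3 := hsq.paste_horiz h2
    rw [Category.comp_id] at h3
    have h4 : X.homOfLE hle ≫ (Scheme.topIso X).hom = U.ι := X.homOfLE_ι _
    rwa [h4] at h3
  · exfalso
    obtain ⟨x, hxU', hgen⟩ := exists_max_point U' htop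
    obtain ⟨U'', hle', hxU'', Y'', π'', g', hf', he', hsq'⟩ :=
      exists_local_extension U' π' x hxU' hgen (h x (fun hxU => hxU' (hle hxU)))
    refine hmax U'' ⟨hle.trans hle', Y'', π'', g ≫ g', hf', he', ?_⟩ ?_
    · have := hsq.paste_horiz hsq'
      rwa [X.homOfLE_homOfLE] at this
    · exact lt_of_le_of_ne hle' (fun heq => hxU' (heq ▸ hxU''))

/-- **S0250**. -/
theorem s0250 {X : Scheme.{u}} [IsNoetherian X] (U : X.Opens)
    (h : ∀ x : X, x ∉ U → FEt.PurityHolds (X.presheaf.stalk x)) : (FEt.restrict U.ι).EssSurj := by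
  refine ⟨fun V => ?_⟩
  haveI : IsFinite V.hom := V.prop.1
  haveI : Etale V.hom := V.prop.2
  obtain ⟨Y, π, g, hπf, hπe, hsq⟩ := exists_extension_of_purity U h V.hom
  refine ⟨MorphismProperty.Over.mk ⊤ π ⟨hπf, hπe⟩,
    ⟨MorphismProperty.Over.isoMk hsq.isoPullback.symm ?_⟩⟩
  exact hsq.isoPullback_inv_snd

end Groth.Agent.H6.PurGl
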