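import Mathlib
import Groth.Prelude
import Groth.Agent.Lib.Helper9.Misc.FlatDense

/-! Points of small codimension lie in every dense open. -/

set_option autoImplicit false
universe u
open CategoryTheory CategoryTheory.Limits AlgebraicGeometry TopologicalSpace Opposite

namespace Groth.Agent.H6.PurGl

lemma no_chain_of_dim_le_one {R : Type*} [CommRing R] (h : ringKrullDim R ≤ 1)
    (q p m : Ideal R) [q.IsPrime] [p.IsPrime] [m.IsPrime] (h1 : q < p) (h2 : p < m) : False := by
  have hm : (m.height : WithBot ℕ∞) ≤ 1 := (Ideal.height_le_ringKrullDim_of_isPrime).trans h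
  have hm' : m.height ≤ 1 := by exact_mod_cast hm
  have e1 : q.height + 1 ≤ p.height := Ideal.height_add_one_le_of_lt_of_isPrime h1
  have e2 : p.height + 1 ≤ m.height := Ideal.height_add_one_le_of_lt_of_isPrime h2
  have e3 : q.height + 1 + 1 ≤ 1 := (add_le_add_left e1 1).trans (e2.trans hm')
  have e4 : (1 : ℕ∞) + 1 ≤ q.height + 1 + 1 := by
    have : (1 : ℕ∞) ≤ q.height + 1 := le_add_self
    exact add_le_add_left this 1
  have e5 : (1 : ℕ∞) + 1 ≤ 1 := e4.trans e3
  exact absurd e5 (by decide)

variable {X : Scheme.{u}}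

/-- a generization `y` of `x` comes from a unique point of `Spec 𝒪_{X,x}`. -/
lemma exists_prime_of_specializes {x y : X} (h : y ⤳ x) :
    ∃ p : Spec (X.presheaf.stalk x), (X.fromSpecStalk x) p = y := by
  have : y ∈ Set.range (X.fromSpecStalk x) := by
    rw [Scheme.range_fromSpecStalk]
    exact h
  exact this

lemma fromSpecStalk_specializes_iff (x : X) (p q : Spec (X.presheaf.stalk x)) :
    (X.fromSpecStalk x) p ⤳ (X.fromSpecStalk x) q ↔ p ⤳ q :=
  (X.fromSpecStalk x).isEmbedding.toIsInducing.specializes_iff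

open Groth.Agent.H9.FlatDense in
/-- in a locally Noetherian scheme, a dense open contains the proper generizations of points of
codimension at most one. -/
theorem mem_of_specializes_of_dim_le_one [IsLocallyNoetherian X] (U : X.Opens)
    (hU : Dense (U : Set X)) (x : X) (hdim : ringKrullDim (X.presheaf.stalk x) ≤ 1)
    (y : X) (hyx : y ⤳ x) (hne : y ≠ x) : y ∈ U := by
  obtain ⟨ξ, hξy, hξmax⟩ := exists_maxPt y
  have hξU : ξ ∈ U := maxPt_mem_of_dense_scheme hξmax U hU
  by_cases hξ : ξ = y
  · exact hξ ▸ hξU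
  exfalso
  obtain ⟨p, hp⟩ := exists_prime_of_specializes hyx
  obtain ⟨q, hq⟩ := exists_prime_of_specializes (hξy.trans hyx)
  have hqp : q ⤳ p := by
    rw [← fromSpecStalk_specializes_iff, hp, hq]
    exact hξy
  have hqp' : q.asIdeal ≤ p.asIdeal := (PrimeSpectrum.le_iff_specializes q p).mpr hqp
  have hqp'' : q.asIdeal < p.asIdeal := by
    refine lt_of_le_of_ne hqp' (fun heq => hξ ?_)
    rw [← hp, ← hq, PrimeSpectrum.ext heq]
  have hpm : p.asIdeal ≤ IsLocalRing.maximalIdeal (X.presheaf.stalk x) :=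
    IsLocalRing.le_maximalIdeal p.2.ne_top
  have hpm' : p.asIdeal < IsLocalRing.maximalIdeal (X.presheaf.stalk x) := by
    refine lt_of_le_of_ne hpm (fun heq => hne ?_)
    have : p = IsLocalRing.closedPoint (X.presheaf.stalk x) := PrimeSpectrum.ext heq
    rw [← hp, this, Scheme.fromSpecStalk_closedPoint]
  exact no_chain_of_dim_le_one hdim q.asIdeal p.asIdeal _ hqp'' hpm'

open Groth.Agent.H9.FlatDense in
/-- in a locally Noetherian scheme, a dense open contains the points of codimension zero. -/
theorem mem_of_dim_le_zero [IsLocallyNoetherian X] (U : X.Opens)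
    (hU : Dense (U : Set X)) (x : X) (hdim : ringKrullDim (X.presheaf.stalk x) ≤ 0) : x ∈ U := by
  obtain ⟨ξ, hξx, hξmax⟩ := exists_maxPt x
  have hξU : ξ ∈ U := maxPt_mem_of_dense_scheme hξmax U hU
  obtain ⟨q, hq⟩ := exists_prime_of_specializes hξx
  haveI : Ring.KrullDimLE 0 (X.presheaf.stalk x) := (Ring.krullDimLE_iff).mpr (by simpa using hdim)
  have hss : Subsingleton (PrimeSpectrum (X.presheaf.stalk x)) :=
    Ring.KrullDimLE.subsingleton_primeSpectrum (X.presheaf.stalk x)
  have : q = IsLocalRing.closedPoint (X.presheaf.stalk x) := hss.elim _ _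
  rw [this, Scheme.fromSpecStalk_closedPoint] at hq
  exact hq ▸ hξU

end Groth.Agent.H6.PurGl
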