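import Mathlib
import Groth.Prelude.Def_CAlg
import Groth.Agent.Lib.Helper6.DepthInf
import Groth.Agent.Lib.Helper2.DepthFlat

/-! Algebra behind the depth of the `S₂`-extension: a module glued along the complement of `V(I)`
has a regular pair in `I`. -/

universe u
set_option linter.style.haveILetI false
set_option autoImplicit false

namespace Groth.Agent.H6.S2ExtDepthAlg
open scoped Pointwise

section Mod

variable {A : Type u} [CommRing A] [IsNoetherianRing A] {B : Type u} [AddCommGroup B] [Module A B]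
  [Module.Finite A B]

/-- a regular pair in `I` from the Hartogs property for `Hom(I, B)`. -/
theorem exists_pair_of_hartogs (I : Ideal A)
    (htf : ∀ b : B, (∀ c ∈ I, c • b = 0) → b = 0)
    (hex : ∀ φ : ↥I →ₗ[A] B, ∃ s : B, ∀ c : ↥I, φ c = (c : A) • s) :
    ∃ x ∈ I, ∃ y ∈ I, IsSMulRegular B x ∧ ∀ b b' : B, y • b = x • b' → ∃ w, b = x • w := by
  obtain ⟨x, hxI, hx⟩ : ∃ x ∈ I, IsSMulRegular B x := by
    rcases Groth.Agent.H2.exists_isSMulRegular_or_exists_ne_zero I B with h | ⟨m, hm, hIm⟩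
    · exact h
    · exact absurd (htf m hIm) hm
  have htf' : ∀ q : QuotSMulTop x B, (∀ c ∈ I, c • q = 0) → q = 0 := by
    intro q hq
    obtain ⟨m, rfl⟩ := Submodule.Quotient.mk_surjective _ q
    have h1 : ∀ c : ↥I, ∃ m' : B, x • m' = (c : A) • m := by
      intro c
      have := hq c.1 c.2
      rw [← Submodule.Quotient.mk_smul, Submodule.Quotient.mk_eq_zero,
        Submodule.mem_smul_pointwise_iff_exists] at this
      obtain ⟨m', -, hm'⟩ := this
      exact ⟨m', hm'⟩
    choose φf hφf using h1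
    let φ : ↥I →ₗ[A] B :=
      { toFun := φf
        map_add' := fun c c' => by
          apply hx
          show x • φf (c + c') = x • (φf c + φf c')
          rw [smul_add, hφf, hφf, hφf, Submodule.coe_add, add_smul]
        map_smul' := fun r c => by
          apply hx
          show x • φf (r • c) = x • (r • φf c)
          rw [smul_comm x r, hφf, hφf, Submodule.coe_smul, smul_eq_mul, mul_smul] }
    obtain ⟨s, hs⟩ := hex φ
    have h2 : m = x • s := by
      have h3 : m - x • s = 0 := by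
        apply htf
        intro c hc
        have h4 : φf ⟨c, hc⟩ = c • s := hs ⟨c, hc⟩
        rw [smul_sub, ← hφf ⟨c, hc⟩, h4, smul_comm, sub_self]
      exact sub_eq_zero.mp h3
    rw [Submodule.Quotient.mk_eq_zero, h2]
    exact Submodule.smul_mem_pointwise_smul s x ⊤ Submodule.mem_top
  obtain ⟨y, hyI, hy⟩ : ∃ y ∈ I, IsSMulRegular (QuotSMulTop x B) y := by
    rcases Groth.Agent.H2.exists_isSMulRegular_or_exists_ne_zero I (QuotSMulTop x B) with
      h | ⟨q, hq, hIq⟩
    · exact h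
    · exact absurd (htf' q hIq) hq
  refine ⟨x, hxI, y, hyI, hx, fun b b' hbb' => ?_⟩
  have h2 : y • (Submodule.Quotient.mk b : QuotSMulTop x B) = y • 0 := by
    rw [smul_zero]
    change (Submodule.Quotient.mk (y • b) : B ⧸ (x • (⊤ : Submodule A B))) = 0
    rw [hbb', Submodule.Quotient.mk_eq_zero]
    exact Submodule.smul_mem_pointwise_smul b' x ⊤ Submodule.mem_top
  have h3 : (Submodule.Quotient.mk b : B ⧸ (x • (⊤ : Submodule A B))) = 0 := hy h2
  rw [Submodule.Quotient.mk_eq_zero, Submodule.mem_smul_pointwise_iff_exists] at h3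
  obtain ⟨w, -, hw⟩ := h3
  exact ⟨w, hw.symm⟩

end Mod

section Pair

variable {R : Type u} [CommRing R] {M : Type u} [AddCommGroup M] [Module R M]

theorem isWeaklyRegular_of_pair (x y : R) (hx : IsSMulRegular M x)
    (hy : ∀ b b' : M, y • b = x • b' → ∃ w, b = x • w) :
    RingTheory.Sequence.IsWeaklyRegular M [x, y] := by
  rw [RingTheory.Sequence.isWeaklyRegular_cons_iff,
    RingTheory.Sequence.isWeaklyRegular_singleton_iff]
  refine ⟨hx, ?_⟩
  rw [isSMulRegular_iff_right_eq_zero_of_smul]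
  intro q hq
  obtain ⟨m, rfl⟩ := Submodule.Quotient.mk_surjective _ q
  rw [← Submodule.Quotient.mk_smul, Submodule.Quotient.mk_eq_zero,
    Submodule.mem_smul_pointwise_iff_exists] at hq
  obtain ⟨m', -, hm'⟩ := hq
  obtain ⟨w, hw⟩ := hy m m' hm'.symm
  rw [Submodule.Quotient.mk_eq_zero, hw]
  exact Submodule.smul_mem_pointwise_smul w x ⊤ Submodule.mem_top

theorem two_le_idealDepth_of_pair (J : Ideal R) (x y : R) (hxJ : x ∈ J) (hyJ : y ∈ J)
    (hx : IsSMulRegular M x) (hy : ∀ b b' : M, y • b = x • b' → ∃ w, b = x • w) :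
    2 ≤ LocCoh.idealDepth J M := by
  unfold LocCoh.idealDepth
  split_ifs with h
  · exact le_top
  · refine le_iSup₂_of_le [x, y] ⟨isWeaklyRegular_of_pair x y hx hy, ?_⟩ ?_
    · intro r hr
      simp only [List.mem_cons, List.not_mem_nil, or_false] at hr
      rcases hr with rfl | rfl <;> assumption
    · simp

end Pair

section RingHom

/-- regular pair from separation and gluing, ring homomorphism form. -/
theorem exists_pair_ringHom {A B : Type u} [CommRing A] [IsNoetherianRing A] [CommRing B]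
    (ψ : A →+* B) (hfin : ψ.Finite) {ι : Type*} (g : ι → A)
    (hsep : ∀ b : B, (∀ i, ∃ n : ℕ, ψ (g i) ^ n * b = 0) → b = 0)
    (hglue : ∀ b : ι → B, (∀ i j, ψ (g j) * b i = ψ (g i) * b j) →
      ∃ s : B, ∀ i, ∃ k : ℕ, ψ (g i) ^ k * (ψ (g i) * s - b i) = 0) :
    ∃ x ∈ Ideal.span (Set.range g), ∃ y ∈ Ideal.span (Set.range g),
      IsSMulRegular B (ψ x) ∧ ∀ b b' : B, ψ y * b = ψ x * b' → ∃ w, b = ψ x * w := by
  letI : Algebra A B := ψ.toAlgebra
  haveI : Module.Finite A B := hfin
  set I : Ideal A := Ideal.span (Set.range g) with hI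
  have hgI : ∀ i, g i ∈ I := fun i => Ideal.subset_span ⟨i, rfl⟩
  have hsm : ∀ (a : A) (b : B), a • b = ψ a * b := fun a b => Algebra.smul_def a b
  have htf : ∀ b : B, (∀ c ∈ I, c • b = 0) → b = 0 := by
    intro b hb
    apply hsep
    intro i
    refine ⟨1, ?_⟩
    rw [pow_one, ← hsm]
    exact hb (g i) (hgI i)
  have hex : ∀ φ : ↥I →ₗ[A] B, ∃ s : B, ∀ c : ↥I, φ c = (c : A) • s := by
    intro φ
    let gi : ι → ↥I := fun i => ⟨g i, hgI i⟩
    obtain ⟨s, hs⟩ := hglue (fun i => φ (gi i)) (by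
      intro i j
      have h1 : ψ (g j) * φ (gi i) = φ (g j • gi i) := by rw [map_smul, hsm]
      have h2 : ψ (g i) * φ (gi j) = φ (g i • gi j) := by rw [map_smul, hsm]
      rw [h1, h2]
      congr 1
      apply Subtype.ext
      show g j * g i = g i * g j
      ring)
    refine ⟨s, fun c => ?_⟩
    have h0 : (c : A) • s - φ c = 0 := by
      apply hsep
      intro i
      obtain ⟨k, hk⟩ := hs i
      refine ⟨k + 1, ?_⟩
      have h3 : ψ (g i) * φ c = ψ (c : A) * φ (gi i) := by
        have hcg : g i • c = (c : A) • gi i :=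
          Subtype.ext (by show g i * (c : A) = (c : A) * g i; ring)
        rw [← hsm, ← hsm, ← map_smul, ← map_smul, hcg]
      have h4 : ψ (g i) ^ (k + 1) * ((c : A) • s - φ c) =
          ψ (c : A) * (ψ (g i) ^ k * (ψ (g i) * s - φ (gi i))) := by
        rw [hsm, pow_succ, mul_assoc, mul_sub, h3]
        ring
      rw [h4, hk, mul_zero]
    exact (sub_eq_zero.mp h0).symm
  obtain ⟨x, hxI, y, hyI, hx, hy⟩ := exists_pair_of_hartogs I htf hex
  refine ⟨x, hxI, y, hyI, ?_, ?_⟩
  · intro b b' h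
    apply hx
    show x • b = x • b'
    rw [hsm, hsm]
    exact h
  · intro b b' h
    obtain ⟨w, hw⟩ := hy b b' (by rw [hsm, hsm]; exact h)
    exact ⟨w, by rw [hw, hsm]⟩

/-- transfer along a ring isomorphism and conclusion on depth. -/
theorem two_le_depth_of_pair_ringHom {A B B' : Type u} [CommRing A] [CommRing B] [CommRing B']
    [IsNoetherianRing B'] (ψ : A →+* B) (ψ' : A →+* B') (σ : B' →+* B)
    (hσ : Function.Bijective σ) (hσψ : σ.comp ψ' = ψ)
    (I : Ideal A) (x y : A) (hx : x ∈ I) (hy : y ∈ I)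
    (hreg : IsSMulRegular B (ψ x)) (hpair : ∀ b b' : B, ψ y * b = ψ x * b' → ∃ w, b = ψ x * w)
    (q : PrimeSpectrum B') (hq : I.map ψ' ≤ q.asIdeal) :
    (2 : ℕ∞) ≤ LocCoh.depth (Localization.AtPrime q.asIdeal)
      (LocalizedModule q.asIdeal.primeCompl B') := by
  have hσx : ∀ a : A, σ (ψ' a) = ψ a := fun a => by rw [← hσψ]; rfl
  have hreg' : IsSMulRegular B' (ψ' x) := by
    intro b b' h
    apply hσ.1
    apply hreg
    show ψ x * σ b = ψ x * σ b'
    have h' : ψ' x * b = ψ' x * b' := h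
    rw [← hσx, ← map_mul, ← map_mul, h']
  have hpair' : ∀ b b' : B', ψ' y • b = ψ' x • b' → ∃ w, b = ψ' x • w := by
    intro b b' h
    have h' : ψ' y * b = ψ' x * b' := h
    obtain ⟨w, hw⟩ := hpair (σ b) (σ b') (by rw [← hσx, ← hσx, ← map_mul, ← map_mul, h'])
    obtain ⟨w', rfl⟩ := hσ.2 w
    refine ⟨w', hσ.1 ?_⟩
    rw [hw, smul_eq_mul, map_mul, hσx]
  have h2 : 2 ≤ LocCoh.idealDepth (I.map ψ') B' :=
    two_le_idealDepth_of_pair (I.map ψ') (ψ' x) (ψ' y) (Ideal.mem_map_of_mem _ hx)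
      (Ideal.mem_map_of_mem _ hy) hreg' hpair'
  rw [Groth.Agent.H6.Depth.idealDepth_eq_iInf] at h2
  exact (le_iInf₂_iff.mp h2) q hq

end RingHom

end Groth.Agent.H6.S2ExtDepthAlg
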