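import Mathlib
import Groth.Prelude.Def_CAlg
import Groth.Agent.Lib.Helper6.ZClosedDepth
import Groth.Agent.Lib.Helper6.DepthInf
import Groth.Agent.Lib.Helper2.DepthFlat

/-! Algebra behind the `S₂`-extension of a finite étale cover across a closed subset of depth at
least two: finiteness of the sections, and depth of the extension. -/

universe u
set_option linter.style.haveILetI false
set_option autoImplicit false

namespace Groth.Agent.H6.S2ExtAlg

section Pair

variable {R : Type u} [CommRing R] {M : Type u} [AddCommGroup M] [Module R M]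

/-- powers of a regular pair -/
theorem pair_pow (x y : R) (hx : IsSMulRegular M x)
    (hy : ∀ m m' : M, y • m = x • m' → ∃ w, m = x • w) :
    ∀ (k l : ℕ) (m m' : M), y ^ l • m = x ^ k • m' → ∃ w, m = x ^ k • w := by
  have h1 : ∀ (k : ℕ) (m m' : M), y • m = x ^ k • m' → ∃ w, m = x ^ k • w := by
    intro k
    induction k with
    | zero => intro m m' _; exact ⟨m, by simp⟩
    | succ k ih =>
      intro m m' h
      obtain ⟨w0, hw0⟩ := hy m (x ^ k • m') (by rw [h, pow_succ, mul_smul, smul_comm])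
      have h2 : y • w0 = x ^ k • m' := by
        apply hx
        show x • y • w0 = x • x ^ k • m'
        rw [smul_comm x y w0, ← hw0, h, pow_succ, mul_smul, smul_comm]
      obtain ⟨w, hw⟩ := ih w0 m' h2
      exact ⟨w, by rw [hw0, hw, pow_succ, mul_smul, smul_comm]⟩
  intro k l
  induction l with
  | zero => intro m m' h; exact ⟨m', by simpa using h⟩
  | succ l ih =>
    intro m m' h
    obtain ⟨w', hw'⟩ := h1 k (y ^ l • m) m' (by rw [← h, pow_succ, mul_smul, smul_comm])
    exact ih m w' hw'

/-- Hartogs for `Hom(I ^ N, M)` from a regular pair in `I`. -/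
theorem hartogs_of_pair (I : Ideal R) (x y : R) (hxI : x ∈ I) (hyI : y ∈ I)
    (hx : IsSMulRegular M x) (hy : ∀ m m' : M, y • m = x • m' → ∃ w, m = x • w)
    (N : ℕ) (φ : ↥(I ^ N) →ₗ[R] M) : ∃! m : M, ∀ c : ↥(I ^ N), φ c = (c : R) • m := by
  let xN : ↥(I ^ N) := ⟨x ^ N, Ideal.pow_mem_pow hxI N⟩
  let yN : ↥(I ^ N) := ⟨y ^ N, Ideal.pow_mem_pow hyI N⟩
  have hxy : y ^ N • φ xN = x ^ N • φ yN := by
    rw [← map_smul, ← map_smul]
    congr 1
    apply Subtype.ext
    show y ^ N * x ^ N = x ^ N * y ^ N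
    ring
  obtain ⟨m, hm⟩ := pair_pow x y hx hy N N (φ xN) (φ yN) hxy
  have hxN : IsSMulRegular M (x ^ N) := hx.pow N
  refine ⟨m, fun c => ?_, fun m' hm' => ?_⟩
  · apply hxN
    show x ^ N • φ c = x ^ N • (c : R) • m
    rw [← map_smul, smul_comm, ← hm, ← map_smul]
    congr 1
    apply Subtype.ext
    show x ^ N * (c : R) = (c : R) * x ^ N
    ring
  · apply hxN
    show x ^ N • m' = x ^ N • m
    rw [← hm, ← hm' xN]

end Pair

section Ring

variable {A : Type u} [CommRing A] [IsNoetherianRing A]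

/-- Hartogs for the ring itself from `depth_I A ≥ 2`. -/
theorem hartogs_ring (I : Ideal A) (h : 2 ≤ LocCoh.idealDepth I A) (N : ℕ)
    (φ : ↥(I ^ N) →ₗ[A] A) : ∃! a : A, ∀ c : ↥(I ^ N), φ c = (c : A) * a := by
  obtain ⟨x, hxI, y, hyI, hx, hy⟩ := Groth.Agent.H6.ZCl.exists_regular_pair I A h
  exact hartogs_of_pair I x y hxI hyI hx hy N φ

end Ring

section Fin

variable {A : Type u} [CommRing A] [IsNoetherianRing A] {B : Type u} [AddCommGroup B] [Module A B]

/-- local generation: if the localization of `B` at `f` is finite over the localization of `A`,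
there is a finite subset of `B` whose span contains a power-of-`f` multiple of every element. -/
theorem exists_finset_local (f : A) {A' B' : Type u} [CommRing A'] [Algebra A A']
    [AddCommGroup B'] [Module A B'] [Module A' B'] [IsScalarTower A A' B'] (l : B →ₗ[A] B')
    [IsLocalization.Away f A'] [IsLocalizedModule (Submonoid.powers f) l] [Module.Finite A' B'] :
    ∃ G : Finset B, ∀ b : B, ∃ n : ℕ, f ^ n • b ∈ Submodule.span A (G : Set B) := by
  classical
  obtain ⟨T, hT⟩ := (Module.Finite.fg_top : (⊤ : Submodule A' B').FG)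
  choose bt hbt using fun t : B' => IsLocalizedModule.surj (Submonoid.powers f) l t
  let G : Finset B := T.image (fun t => (bt t).1)
  have hspan : Submodule.span A' (l '' (G : Set B)) = ⊤ := by
    rw [eq_top_iff, ← hT, Submodule.span_le]
    intro t ht
    have h1 : l (bt t).1 ∈ Submodule.span A' (l '' (G : Set B)) := by
      apply Submodule.subset_span
      refine ⟨(bt t).1, ?_, rfl⟩
      exact Finset.mem_coe.mpr (Finset.mem_image.mpr ⟨t, ht, rfl⟩)
    have hu : IsUnit (algebraMap A A' ((bt t).2 : A)) :=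
      IsLocalization.map_units A' (bt t).2
    have h2 : (algebraMap A A' ((bt t).2 : A)) • t = l (bt t).1 := by
      rw [algebraMap_smul]
      exact hbt t
    have h3 : t = (hu.unit⁻¹ : A'ˣ) • l (bt t).1 := by
      rw [← h2, Units.smul_def, smul_smul]
      simp
    rw [h3]
    exact Submodule.smul_mem _ _ h1
  refine ⟨G, fun b => ?_⟩
  have hb : l b ∈ (Submodule.span A (G : Set B)).localized' A' (Submonoid.powers f) l := by
    rw [Submodule.localized'_span, hspan]
    exact Submodule.mem_top
  obtain ⟨m, hm, s, hs⟩ := (Submodule.mem_localized' A' (Submonoid.powers f) l _ _).mp hb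
  rw [IsLocalizedModule.mk'_eq_iff] at hs
  have h4 : l m = l ((s : A) • b) := by rw [hs, map_smul]; rfl
  obtain ⟨c, hc⟩ := (IsLocalizedModule.eq_iff_exists (Submonoid.powers f) l).mp h4
  obtain ⟨n, hn⟩ := (c * s).2
  have hn' : f ^ n = ((c * s : Submonoid.powers f) : A) := hn
  refine ⟨n, ?_⟩
  have h5 : f ^ n • b = c • m := by
    rw [hn', Submonoid.coe_mul, mul_smul]
    exact hc.symm
  rw [h5]
  exact Submodule.smul_mem _ _ hm

/-- separation by functionals, locally: an element of a finite submodule `M'` killed by all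
functionals `M' → A` maps to zero in a projective localization. -/
theorem map_eq_zero_of_forall_dual (f : A) {A' B' : Type u} [CommRing A'] [Algebra A A']
    [AddCommGroup B'] [Module A B'] [Module A' B'] [IsScalarTower A A' B'] (l : B →ₗ[A] B')
    [IsLocalization.Away f A'] [Module.Projective A' B']
    (M' : Submodule A B) [Module.Finite A M'] (m : M')
    (hm : ∀ δ : M' →ₗ[A] A, δ m = 0) : l (m : B) = 0 := by
  haveI : Module.FinitePresentation A M' := Module.finitePresentation_of_finite A M'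
  rw [← Module.forall_dual_apply_eq_zero_iff A']
  intro lam
  let g : M' →ₗ[A] A' := (lam.restrictScalars A).comp (l.comp M'.subtype)
  obtain ⟨h, s, hs⟩ := Module.FinitePresentation.exists_lift_of_isLocalizedModule
    (Submonoid.powers f) (Algebra.linearMap A A') g
  have h1 : (s • g) m = 0 := by
    rw [← hs, LinearMap.comp_apply, hm h, map_zero]
  have h2 : (s : A) • g m = 0 := h1
  have hu : IsUnit (algebraMap A A' (s : A)) := IsLocalization.map_units A' s
  rw [Algebra.smul_def] at h2
  have h3 : g m = 0 := (hu.mul_right_eq_zero).mp h2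
  exact h3

variable {ι : Type*} [Finite ι] (g : ι → A)

/-- **Finiteness.** -/
theorem finite_of_local
    (hH : ∀ (N : ℕ) (φ : ↥(Ideal.span (Set.range g) ^ N) →ₗ[A] A),
      ∃! a : A, ∀ c : ↥(Ideal.span (Set.range g) ^ N), φ c = (c : A) * a)
    (hsep : ∀ b : B, (∀ i, ∃ n : ℕ, g i ^ n • b = 0) → b = 0)
    (hloc : ∀ i, ∃ (A' B' : Type u) (_ : CommRing A') (_ : Algebra A A') (_ : AddCommGroup B')
      (_ : Module A B') (_ : Module A' B') (_ : IsScalarTower A A' B') (l : B →ₗ[A] B'),
      IsLocalization.Away (g i) A' ∧ IsLocalizedModule (Submonoid.powers (g i)) l ∧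
        Module.Finite A' B' ∧ Module.Projective A' B') :
    Module.Finite A B := by
  classical
  haveI := Fintype.ofFinite ι
  set I : Ideal A := Ideal.span (Set.range g) with hI
  have hgI : ∀ i, g i ∈ I := fun i => Ideal.subset_span ⟨i, rfl⟩
  -- Step 1: the finite submodule
  have h1 : ∀ i, ∃ G : Finset B, ∀ b : B, ∃ n : ℕ, g i ^ n • b ∈ Submodule.span A (G : Set B) := by
    intro i
    obtain ⟨A', B', _, _, _, _, _, _, l, hA', hl, hfin, -⟩ := hloc i
    haveI := hA'
    haveI := hl
    haveI := hfin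
    exact exists_finset_local (A' := A') (g i) l
  choose G hG using h1
  let M' : Submodule A B := Submodule.span A ((Finset.univ.biUnion G : Finset B) : Set B)
  haveI : Module.Finite A M' := Module.Finite.span_of_finite A (Finset.finite_toSet _)
  have hGM : ∀ i (b : B), ∃ n : ℕ, g i ^ n • b ∈ M' := by
    intro i b
    obtain ⟨n, hn⟩ := hG i b
    refine ⟨n, Submodule.span_mono ?_ hn⟩
    intro x hx
    exact Finset.mem_coe.mpr (Finset.mem_biUnion.mpr ⟨i, Finset.mem_univ i, Finset.mem_coe.mp hx⟩)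
  have hpow : ∀ b : B, ∃ N : ℕ, ∀ c ∈ I ^ N, c • b ∈ M' := by
    intro b
    have hfg : I.FG := ⟨Finset.univ.image g, by rw [hI]; congr 1; ext x; simp⟩
    have hle : I ≤ (M'.colon ({b} : Set B)).radical := by
      rw [hI, Ideal.span_le]
      rintro _ ⟨i, rfl⟩
      obtain ⟨n, hn⟩ := hGM i b
      exact ⟨n, Submodule.mem_colon_singleton.mpr hn⟩
    obtain ⟨N, hN⟩ := Ideal.exists_pow_le_of_le_radical_of_fg hle hfg
    exact ⟨N, fun c hc => Submodule.mem_colon_singleton.mp (hN hc)⟩
  -- Step 5: separation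
  have hsepM : ∀ m : M', (∀ δ : M' →ₗ[A] A, δ m = 0) → (m : B) = 0 := by
    intro m hm
    apply hsep
    intro i
    obtain ⟨A', B', _, _, _, _, _, _, l, hA', hl, -, hproj⟩ := hloc i
    haveI := hA'
    haveI := hl
    haveI := hproj
    have h0 : l (m : B) = 0 := map_eq_zero_of_forall_dual (A' := A') (g i) l M' m hm
    obtain ⟨c, hc⟩ := (IsLocalizedModule.eq_zero_iff (Submonoid.powers (g i)) l).mp h0
    obtain ⟨n, hn⟩ := c.2
    have hn' : g i ^ n = (c : A) := hn
    exact ⟨n, by rw [hn']; exact hc⟩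
  -- Step 4: the graph submodule
  let Gam : Submodule A (B × ((M' →ₗ[A] A) →ₗ[A] A)) :=
    { carrier := {p | ∃ N : ℕ, ∀ c ∈ I ^ N, ∃ m : M', (m : B) = c • p.1 ∧
        ∀ δ : M' →ₗ[A] A, δ m = c * p.2 δ}
      zero_mem' := ⟨0, fun c _ => ⟨0, by simp, fun δ => by simp⟩⟩
      add_mem' := by
        rintro p q ⟨N₁, h₁⟩ ⟨N₂, h₂⟩
        refine ⟨max N₁ N₂, fun c hc => ?_⟩
        obtain ⟨m₁, hm₁, hd₁⟩ := h₁ c (Ideal.pow_le_pow_right (le_max_left _ _) hc)
        obtain ⟨m₂, hm₂, hd₂⟩ := h₂ c (Ideal.pow_le_pow_right (le_max_right _ _) hc)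
        refine ⟨m₁ + m₂, ?_, fun δ => ?_⟩
        · rw [Submodule.coe_add, hm₁, hm₂, Prod.fst_add, smul_add]
        · rw [map_add, hd₁, hd₂, Prod.snd_add, LinearMap.add_apply, mul_add]
      smul_mem' := by
        rintro r p ⟨N, h⟩
        refine ⟨N, fun c hc => ?_⟩
        obtain ⟨m, hm, hd⟩ := h c hc
        refine ⟨r • m, ?_, fun δ => ?_⟩
        · rw [Submodule.coe_smul, hm, Prod.smul_fst, smul_comm]
        · rw [map_smul, hd, Prod.smul_snd, LinearMap.smul_apply, smul_eq_mul, smul_eq_mul]
          ring }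
  have hGam : ∀ p, p ∈ Gam ↔ ∃ N : ℕ, ∀ c ∈ I ^ N, ∃ m : M', (m : B) = c • p.1 ∧
      ∀ δ : M' →ₗ[A] A, δ m = c * p.2 δ := fun p => Iff.rfl
  -- (c) injectivity of the second projection
  have hinj : Function.Injective ((LinearMap.snd A B ((M' →ₗ[A] A) →ₗ[A] A)).comp Gam.subtype) := by
    rw [injective_iff_map_eq_zero]
    rintro ⟨p, hp⟩ hker
    have hp2 : p.2 = 0 := hker
    obtain ⟨N, hN⟩ := (hGam p).mp hp
    have hp1 : p.1 = 0 := by
      apply hsep
      intro i
      refine ⟨N, ?_⟩
      obtain ⟨m, hm, hd⟩ := hN (g i ^ N) (Ideal.pow_mem_pow (hgI i) N)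
      rw [← hm]
      apply hsepM
      intro δ
      rw [hd δ, hp2, LinearMap.zero_apply, mul_zero]
    apply Subtype.ext
    exact Prod.ext hp1 hp2
  -- (b) surjectivity of the first projection
  have hsurj : Function.Surjective ((LinearMap.fst A B ((M' →ₗ[A] A) →ₗ[A] A)).comp Gam.subtype) := by
    intro b
    obtain ⟨N, hN⟩ := hpow b
    let κ : ↥(I ^ N) →ₗ[A] M' :=
      LinearMap.codRestrict M' ((LinearMap.toSpanSingleton A B b).comp (Submodule.subtype (I ^ N)))
        (fun c => by
          show (c : A) • b ∈ M'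
          exact hN c.1 c.2)
    have hκ : ∀ c : ↥(I ^ N), ((κ c : M') : B) = (c : A) • b := fun c => rfl
    have hex : ∀ δ : M' →ₗ[A] A, ∃ a : A, ∀ c : ↥(I ^ N), (δ.comp κ) c = (c : A) * a :=
      fun δ => (hH N (δ.comp κ)).exists
    choose θ hθ using hex
    have huniq : ∀ (φ : ↥(I ^ N) →ₗ[A] A) (a a' : A), (∀ c, φ c = (c : A) * a) →
        (∀ c, φ c = (c : A) * a') → a = a' := fun φ a a' h h' => (hH N φ).unique h h'
    let θl : (M' →ₗ[A] A) →ₗ[A] A :=
      { toFun := θ
        map_add' := by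
          intro δ₁ δ₂
          apply huniq ((δ₁ + δ₂).comp κ) _ _ (hθ (δ₁ + δ₂))
          intro c
          rw [LinearMap.add_comp, LinearMap.add_apply, hθ δ₁ c, hθ δ₂ c, mul_add]
        map_smul' := by
          intro r δ
          apply huniq ((r • δ).comp κ) _ _ (hθ (r • δ))
          intro c
          rw [LinearMap.smul_comp, LinearMap.smul_apply, hθ δ c, RingHom.id_apply, smul_eq_mul,
            smul_eq_mul]
          ring }
    have hmem : ((b, θl) : B × ((M' →ₗ[A] A) →ₗ[A] A)) ∈ Gam := by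
      rw [hGam]
      refine ⟨N, fun c hc => ⟨κ ⟨c, hc⟩, hκ ⟨c, hc⟩, fun δ => ?_⟩⟩
      exact hθ δ ⟨c, hc⟩
    exact ⟨⟨(b, θl), hmem⟩, rfl⟩
  haveI : Module.Finite A (M' →ₗ[A] A) := inferInstance
  haveI : IsNoetherian A ((M' →ₗ[A] A) →ₗ[A] A) := isNoetherian_of_isNoetherianRing_of_finite A _
  haveI : Module.Finite A Gam := Module.Finite.of_injective _ hinj
  exact Module.Finite.of_surjective _ hsurj

end Fin

section RingHom

/-- **Finiteness**, ring homomorphism form. -/
theorem finite_of_local_ringHom {A B : Type u} [CommRing A] [IsNoetherianRing A] [CommRing B]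
    (ψ : A →+* B) {ι : Type*} [Finite ι] (g : ι → A)
    (hd : 2 ≤ LocCoh.idealDepth (Ideal.span (Set.range g)) A)
    (hsep : ∀ b : B, (∀ i, ∃ n : ℕ, ψ (g i) ^ n * b = 0) → b = 0)
    (hloc : ∀ i, ∃ (A' B' : Type u) (_ : CommRing A') (_ : CommRing B') (ρA : A →+* A')
      (ρB : B →+* B') (φ' : A' →+* B'),
      φ'.comp ρA = ρB.comp ψ ∧ @IsLocalization.Away A _ (g i) A' _ ρA.toAlgebra ∧
        @IsLocalization.Away B _ (ψ (g i)) B' _ ρB.toAlgebra ∧ φ'.Finite ∧ φ'.Flat) :
    ψ.Finite := by
  letI : Algebra A B := ψ.toAlgebra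
  show Module.Finite A B
  refine finite_of_local g (fun N φ => hartogs_ring _ hd N φ) ?_ ?_
  · intro b hb
    apply hsep b
    intro i
    obtain ⟨n, hn⟩ := hb i
    refine ⟨n, ?_⟩
    rw [Algebra.smul_def, map_pow] at hn
    exact hn
  · intro i
    obtain ⟨A', B', _, _, ρA, ρB, φ', hcomm, hA', hB', hfin, hflat⟩ := hloc i
    letI : Algebra A A' := ρA.toAlgebra
    letI : Algebra B B' := ρB.toAlgebra
    letI : Algebra A' B' := φ'.toAlgebra
    letI : Algebra A B' := (ρB.comp ψ).toAlgebra
    haveI : IsScalarTower A B B' := IsScalarTower.of_algebraMap_eq (fun _ => rfl)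
    haveI : IsScalarTower A A' B' := IsScalarTower.of_algebraMap_eq (fun a => by
      show (ρB.comp ψ) a = φ' (ρA a)
      rw [← hcomm]; rfl)
    haveI : IsLocalization.Away (g i) A' := hA'
    haveI : IsLocalization (Algebra.algebraMapSubmonoid B (Submonoid.powers (g i))) B' := by
      have : Algebra.algebraMapSubmonoid B (Submonoid.powers (g i)) =
          Submonoid.powers (ψ (g i)) := by
        show Submonoid.map (algebraMap A B) (Submonoid.powers (g i)) = _
        rw [Submonoid.map_powers]; rfl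
      rw [this]; exact hB'
    haveI : IsNoetherianRing A' :=
      IsLocalization.isNoetherianRing (Submonoid.powers (g i)) A' inferInstance
    haveI : Module.Finite A' B' := hfin
    haveI : Module.Flat A' B' := hflat
    haveI : Module.FinitePresentation A' B' := Module.finitePresentation_of_finite A' B'
    haveI : Module.Projective A' B' := Module.Flat.projective_of_finitePresentation
    exact ⟨A', B', inferInstance, inferInstance, inferInstance, inferInstance, inferInstance,
      inferInstance, (IsScalarTower.toAlgHom A B B').toLinearMap, inferInstance, inferInstance,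
      inferInstance, inferInstance⟩

end RingHom

end Groth.Agent.H6.S2ExtAlg
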