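import Mathlib
import Groth.Prelude.Def_CAlg
import Groth.Agent.Lib.Helper6.S2ExtAlg
import Groth.Agent.Lib.Helper6.Hartogs2
import Groth.Agent.Lib.Helper1.Depth2Ext2

/-! Finiteness of the sections of a finite locally free cover of an open whose complement has
depth at least two. -/

universe u
set_option linter.style.haveILetI false
set_option autoImplicit false
open CategoryTheory CategoryTheory.Limits AlgebraicGeometry TopologicalSpace

namespace Groth.Agent.H6.S2ExtGeo

variable {X : Scheme.{u}} [IsLocallyNoetherian X] (U : X.Opens)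
  (hU : ∀ x : X, x ∉ U → (2 : ℕ∞) ≤ LocCoh.depth (X.presheaf.stalk x) (X.presheaf.stalk x))

omit [IsLocallyNoetherian X] in
/-- a finite cover of `U ⊓ O` by basic opens of the affine open `O`. -/
theorem exists_cover [QuasiCompact U.ι] (O : X.Opens) (hO : IsAffineOpen O) :
    ∃ (T : Finset ↥(U ⊓ O)) (f : ↥(U ⊓ O) → Γ(X, O)),
      (∀ x, X.basicOpen (f x) ≤ U ⊓ O) ∧ ∀ y ∈ U ⊓ O, ∃ i : T, y ∈ X.basicOpen (f i.1) := by
  have hV : IsCompact ((U ⊓ O : X.Opens) : Set X) := by
    have h1 : IsCompact ((U.ι ''ᵁ U.ι ⁻¹ᵁ O : X.Opens) : Set X) :=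
      (U.ι.isCompact_preimage hO.isCompact).image U.ι.continuous
    have h2 : U.ι ''ᵁ U.ι ⁻¹ᵁ O = U ⊓ O := by
      rw [Scheme.Hom.image_preimage_eq_opensRange_inf, Scheme.Opens.opensRange_ι]
    rwa [h2] at h1
  choose f hfV hxf using fun x : ↥(U ⊓ O) => hO.exists_basicOpen_le x (inf_le_right (a := U) x.2)
  obtain ⟨T, hT⟩ := hV.elim_finite_subcover (fun x : ↥(U ⊓ O) => (X.basicOpen (f x) : Set X))
    (fun x => (X.basicOpen (f x)).isOpen)
    (fun y hy => Set.mem_iUnion.mpr ⟨⟨y, hy⟩, hxf ⟨y, hy⟩⟩)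
  refine ⟨T, f, hfV, fun y hy => ?_⟩
  obtain ⟨x, hx, hyx⟩ := Set.mem_iUnion₂.mp (hT hy)
  exact ⟨⟨x, hx⟩, hyx⟩

include hU in
/-- **Finiteness of the sections.** -/
theorem app_finite {W : Scheme.{u}} (w : W ⟶ (U : Scheme.{u})) [IsFinite w] [Flat w]
    (O : X.Opens) (hO : IsAffineOpen O) : ((w ≫ U.ι).app O).hom.Finite := by
  obtain ⟨g, hg⟩ : ∃ g : W ⟶ X, g = w ≫ U.ι := ⟨_, rfl⟩
  rw [← hg]
  haveI : QuasiCompact g := hg ▸ inferInstance
  haveI : QuasiSeparated g := hg ▸ inferInstance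
  haveI : IsNoetherianRing Γ(X, O) := IsLocallyNoetherian.component_noetherian ⟨O, hO⟩
  have hgU : ∀ y : W, g y ∈ U := by
    intro y
    rw [hg]
    exact (w y).2
  obtain ⟨T, f, hfV, hcovT⟩ := exists_cover U O hO
  have hΩc : IsCompact ((g ⁻¹ᵁ O : W.Opens) : Set W) := g.isCompact_preimage hO.isCompact
  have hΩqs : IsQuasiSeparated ((g ⁻¹ᵁ O : W.Opens) : Set W) :=
    g.isQuasiSeparated_preimage hO.isQuasiSeparated
  refine S2ExtAlg.finite_of_local_ringHom (g.app O).hom (fun i : T => f i.1) ?_ ?_ ?_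
  · -- depth
    rw [Groth.Agent.H6.Depth.idealDepth_eq_iInf]
    refine le_iInf₂ fun p hp => ?_
    have hz : hO.fromSpec p ∈ O := (hO.isoSpec.inv _).2
    have hzU : hO.fromSpec p ∉ U := by
      intro hzU
      obtain ⟨i, hi⟩ := hcovT _ ⟨hzU, hz⟩
      exact Hartogs2.not_mem_of_fromSpec_mem_basicOpen hO p.asIdeal (f i.1) hi
        (hp (Ideal.subset_span ⟨i, rfl⟩))
    rw [← Groth.Agent.H1.Depth2Ext.depth_stalk_eq hO p hz]
    exact hU _ hzU
  · -- separation
    intro b hb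
    refine W.IsSheaf.section_ext fun y hy => ?_
    have hyV : g y ∈ U ⊓ O := ⟨hgU y, hy⟩
    obtain ⟨i, hi⟩ := hcovT _ hyV
    have hle : W.basicOpen ((g.app O).hom (f i.1)) ≤ g ⁻¹ᵁ O := W.basicOpen_le _
    have hmem : y ∈ W.basicOpen ((g.app O).hom (f i.1)) := by
      have : y ∈ g ⁻¹ᵁ X.basicOpen (f i.1) := hi
      rwa [Scheme.preimage_basicOpen] at this
    refine ⟨_, hle, hmem, ?_⟩
    rw [map_zero]
    obtain ⟨n, hn⟩ := hb i
    have hunit : IsUnit ((W.presheaf.map (homOfLE hle).op).hom ((g.app O).hom (f i.1))) :=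
      RingedSpace.isUnit_res_basicOpen _ _
    have h1 := congrArg (W.presheaf.map (homOfLE hle).op).hom hn
    rw [map_mul, map_pow, map_zero] at h1
    exact (hunit.pow n).mul_right_eq_zero.mp h1
  · -- localizations
    intro i
    have hDU : X.basicOpen (f i.1) ≤ U := (hfV i.1).trans inf_le_left
    have hE : W.basicOpen ((g.app O).hom (f i.1)) ≤ g ⁻¹ᵁ X.basicOpen (f i.1) := by
      rw [Scheme.preimage_basicOpen]
    have hD : IsAffineOpen (X.basicOpen (f i.1)) := hO.basicOpen _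
    refine ⟨Γ(X, X.basicOpen (f i.1)), Γ(W, W.basicOpen ((g.app O).hom (f i.1))), inferInstance,
      inferInstance, (X.presheaf.map (homOfLE (X.basicOpen_le (f i.1))).op).hom,
      (W.presheaf.map (homOfLE (W.basicOpen_le ((g.app O).hom (f i.1)))).op).hom,
      (g.appLE (X.basicOpen (f i.1)) (W.basicOpen ((g.app O).hom (f i.1))) hE).hom,
      ?_, ?_, ?_, ?_⟩
    · rw [← CommRingCat.hom_comp, ← CommRingCat.hom_comp]
      congr 1
      rw [Scheme.Hom.map_appLE]
      rfl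
    · exact hO.isLocalization_basicOpen (f i.1)
    · exact isLocalization_basicOpen_of_qcqs hΩc hΩqs _
    · subst hg
      have key : ((w ≫ U.ι).app (X.basicOpen (f i.1))).hom.Finite ∧
          ((w ≫ U.ι).app (X.basicOpen (f i.1))).hom.Flat := by
        have hc : (w ≫ U.ι).app (X.basicOpen (f i.1)) = U.ι.app (X.basicOpen (f i.1)) ≫
            w.app (U.ι ⁻¹ᵁ X.basicOpen (f i.1)) := Scheme.Hom.comp_app _ _ _
        haveI : IsIso (U.ι.app (X.basicOpen (f i.1))) :=
          U.ι.isIso_app _ (by rw [Scheme.Opens.opensRange_ι]; exact hDU)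
        have hD' : IsAffineOpen (U.ι ⁻¹ᵁ X.basicOpen (f i.1)) := by
          rw [← Scheme.Hom.isAffineOpen_iff_of_isOpenImmersion U.ι]
          have : U.ι ''ᵁ (U.ι ⁻¹ᵁ X.basicOpen (f i.1)) = X.basicOpen (f i.1) := by
            rw [Scheme.Hom.image_preimage_eq_opensRange_inf, Scheme.Opens.opensRange_ι]
            exact inf_eq_right.mpr hDU
          rw [this]; exact hD
        have hb1 : Function.Bijective (U.ι.app (X.basicOpen (f i.1))).hom :=
          ConcreteCategory.bijective_of_isIso _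
        have hfin : (w.app (U.ι ⁻¹ᵁ X.basicOpen (f i.1))).hom.Finite :=
          IsFinite.finite_app w _ hD'
        have hflat : (w.app (U.ι ⁻¹ᵁ X.basicOpen (f i.1))).hom.Flat := by
          rw [Scheme.Hom.app_eq_appLE]
          exact w.flat_appLE hD' (hD'.preimage w) le_rfl
        have e1 : ((w ≫ U.ι).app (X.basicOpen (f i.1))).hom =
            (w.app (U.ι ⁻¹ᵁ X.basicOpen (f i.1))).hom.comp
              (U.ι.app (X.basicOpen (f i.1))).hom := congrArg CommRingCat.Hom.hom hc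
        rw [e1]
        exact ⟨RingHom.Finite.comp hfin (RingHom.Finite.of_surjective _ hb1.2),
          RingHom.Flat.comp (RingHom.Flat.of_bijective hb1) hflat⟩
      rw [Scheme.Hom.app_eq_appLE] at key
      have hEq : (w ≫ U.ι) ⁻¹ᵁ X.basicOpen (f i.1) =
          W.basicOpen (((w ≫ U.ι).app O).hom (f i.1)) :=
        Scheme.preimage_basicOpen (w ≫ U.ι) (f i.1)
      exact (Scheme.Hom.appLE_congr (w ≫ U.ι) le_rfl rfl hEq
        (fun φ => φ.hom.Finite ∧ φ.hom.Flat)).mp key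

end Groth.Agent.H6.S2ExtGeo
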