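import Mathlib
import Groth.Prelude.Def_CAlg
import Groth.Agent.Lib.Helper6.S2ExtGeo
import Groth.Agent.Lib.Helper6.S2ExtDepthAlg

/-! Gluing sections along basic opens, and a regular pair on the sections of a finite locally free
cover of an open whose complement has depth at least two. -/

universe u
set_option linter.style.haveILetI false
set_option autoImplicit false
open CategoryTheory CategoryTheory.Limits AlgebraicGeometry TopologicalSpace

namespace Groth.Agent.H6.S2ExtDepthGeo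

theorem cancel_aux {R : Type*} [CommRing R] (ai aj βi βj wi wj : R) (h1 : wi * ai = 1)
    (h2 : wj * aj = 1) (h3 : aj * βi = ai * βj) : βi * wi = βj * wj := by
  linear_combination (-(βi * wi)) * h2 + (βj * wj) * h1 + (wi * wj) * h3

/-- gluing fractions `b i / t i` on the cover of `Ω` by the basic opens of the `t i`. -/
theorem glue_basicOpen {W : Scheme.{u}} (Ω : W.Opens) (hΩ : IsCompact (Ω : Set W)) {ι : Type*}
    (t : ι → Γ(W, Ω)) (hcov : Ω ≤ ⨆ i, W.basicOpen (t i)) (b : ι → Γ(W, Ω))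
    (hcompat : ∀ i j, t j * b i = t i * b j) :
    ∃ s : Γ(W, Ω), ∀ i, ∃ k : ℕ, t i ^ k * (t i * s - b i) = 0 := by
  have hE : ∀ i, W.basicOpen (t i) ≤ Ω := fun i => W.basicOpen_le _
  have hu : ∀ i, IsUnit ((W.presheaf.map (homOfLE (hE i)).op).hom (t i)) :=
    fun i => RingedSpace.isUnit_res_basicOpen _ _
  choose v hv using fun i => (hu i).exists_right_inv
  let sf : ∀ i, Γ(W, W.basicOpen (t i)) := fun i =>
    (W.presheaf.map (homOfLE (hE i)).op).hom (b i) * v i
  have hcompat' : TopCat.Presheaf.IsCompatible W.sheaf.1 (fun i => W.basicOpen (t i)) sf := by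
    intro i j
    show (W.presheaf.map (homOfLE (inf_le_left :
        W.basicOpen (t i) ⊓ W.basicOpen (t j) ≤ W.basicOpen (t i))).op).hom (sf i) =
      (W.presheaf.map (homOfLE (inf_le_right :
        W.basicOpen (t i) ⊓ W.basicOpen (t j) ≤ W.basicOpen (t j))).op).hom (sf j)
    have hij : W.basicOpen (t i) ⊓ W.basicOpen (t j) ≤ Ω := inf_le_left.trans (hE i)
    simp only [sf, map_mul]
    rw [Hartogs2.res_res (hE i) inf_le_left, Hartogs2.res_res (hE j) inf_le_right]
    refine cancel_aux ((W.presheaf.map (homOfLE hij).op).hom (t i))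
      ((W.presheaf.map (homOfLE hij).op).hom (t j)) _ _ _ _ ?_ ?_ ?_
    · rw [← Hartogs2.res_res (hE i) inf_le_left, ← map_mul, mul_comm, hv i, map_one]
    · rw [← Hartogs2.res_res (hE j) inf_le_right, ← map_mul, mul_comm, hv j, map_one]
    · rw [← map_mul, ← map_mul, hcompat i j]
  obtain ⟨s0, hs, -⟩ := W.sheaf.existsUnique_gluing' (fun i => W.basicOpen (t i)) Ω
    (fun i => homOfLE (hE i)) hcov sf hcompat'
  let s : Γ(W, Ω) := s0
  refine ⟨s, fun i => ?_⟩
  apply exists_pow_mul_eq_zero_of_res_basicOpen_eq_zero_of_isCompact W hΩ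
  show (W.presheaf.map (homOfLE (hE i)).op).hom (t i * s - b i) = 0
  have hsi : (W.presheaf.map (homOfLE (hE i)).op).hom s = sf i := hs i
  rw [map_sub, map_mul, hsi]
  simp only [sf]
  linear_combination ((W.presheaf.map (homOfLE (hE i)).op).hom (b i)) * hv i

variable {X : Scheme.{u}} [IsLocallyNoetherian X] (U : X.Opens)
  (hU : ∀ x : X, x ∉ U → (2 : ℕ∞) ≤ LocCoh.depth (X.presheaf.stalk x) (X.presheaf.stalk x))

include hU in
/-- a regular pair on the sections of the cover, inside the ideal of the complement. -/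
theorem exists_pair {W : Scheme.{u}} (w : W ⟶ (U : Scheme.{u})) [IsFinite w] [Flat w]
    (O : X.Opens) (hO : IsAffineOpen O) :
    ∃ (T : Finset ↥(U ⊓ O)) (f : ↥(U ⊓ O) → Γ(X, O)), (∀ x, X.basicOpen (f x) ≤ U ⊓ O) ∧
      ∃ x ∈ Ideal.span (Set.range fun i : T => f i.1),
        ∃ y ∈ Ideal.span (Set.range fun i : T => f i.1),
          IsSMulRegular Γ(W, (w ≫ U.ι) ⁻¹ᵁ O) (((w ≫ U.ι).app O).hom x) ∧
            ∀ b b' : Γ(W, (w ≫ U.ι) ⁻¹ᵁ O),
              ((w ≫ U.ι).app O).hom y * b = ((w ≫ U.ι).app O).hom x * b' →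
                ∃ c, b = ((w ≫ U.ι).app O).hom x * c := by
  have hfin := S2ExtGeo.app_finite U hU w O hO
  obtain ⟨g, hg⟩ : ∃ g : W ⟶ X, g = w ≫ U.ι := ⟨_, rfl⟩
  rw [← hg] at hfin ⊢
  haveI : QuasiCompact g := hg ▸ inferInstance
  haveI : IsNoetherianRing Γ(X, O) := IsLocallyNoetherian.component_noetherian ⟨O, hO⟩
  have hgU : ∀ y : W, g y ∈ U := by
    intro y
    rw [hg]
    exact (w y).2
  obtain ⟨T, f, hfV, hcovT⟩ := S2ExtGeo.exists_cover U O hO
  have hΩc : IsCompact ((g ⁻¹ᵁ O : W.Opens) : Set W) := g.isCompact_preimage hO.isCompact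
  have hcov : g ⁻¹ᵁ O ≤ ⨆ i : T, W.basicOpen ((g.app O).hom (f i.1)) := by
    intro y hy
    have hyV : g y ∈ U ⊓ O := ⟨hgU y, hy⟩
    obtain ⟨i, hi⟩ := hcovT _ hyV
    rw [Opens.mem_iSup]
    refine ⟨i, ?_⟩
    have : y ∈ g ⁻¹ᵁ X.basicOpen (f i.1) := hi
    rwa [Scheme.preimage_basicOpen] at this
  refine ⟨T, f, hfV, S2ExtDepthAlg.exists_pair_ringHom (g.app O).hom hfin (fun i : T => f i.1)
    ?_ ?_⟩
  · intro b hb
    refine W.IsSheaf.section_ext fun y hy => ?_
    obtain ⟨i, hmem⟩ := Opens.mem_iSup.mp (hcov hy)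
    have hle : W.basicOpen ((g.app O).hom (f i.1)) ≤ g ⁻¹ᵁ O := W.basicOpen_le _
    refine ⟨_, hle, hmem, ?_⟩
    rw [map_zero]
    obtain ⟨n, hn⟩ := hb i
    have hunit : IsUnit ((W.presheaf.map (homOfLE hle).op).hom ((g.app O).hom (f i.1))) :=
      RingedSpace.isUnit_res_basicOpen _ _
    have h1 := congrArg (W.presheaf.map (homOfLE hle).op).hom hn
    rw [map_mul, map_pow, map_zero] at h1
    exact (hunit.pow n).mul_right_eq_zero.mp h1
  · intro b hb
    exact glue_basicOpen (g ⁻¹ᵁ O) hΩc (fun i : T => (g.app O).hom (f i.1)) hcov b hb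

end Groth.Agent.H6.S2ExtDepthGeo
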