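import Mathlib

/-! Descent of "finite étale" along a finite jointly surjective family of flat ring maps. -/

universe u
set_option linter.style.haveILetI false
open TensorProduct

namespace Groth.Agent.H6.PurePairAlg

section Pi

variable {ι : Type u} [Finite ι] (T : ι → Type u) [∀ i, CommRing (T i)]
  (C : ι → Type u) [∀ i, CommRing (C i)] [∀ i, Algebra (T i) (C i)]

/-- the componentwise ring map `Π Tᵢ → Π Cᵢ`. -/
def piMap : (∀ i, T i) →+* ∀ i, C i :=
  RingHom.pi fun i => (algebraMap (T i) (C i)).comp (Pi.evalRingHom T i)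

theorem piMap_finite_etale (h : ∀ i, Module.Finite (T i) (C i))
    (h' : ∀ i, Algebra.Etale (T i) (C i)) : (piMap T C).Finite ∧ (piMap T C).Etale := by
  classical
  letI alg1 : ∀ i, Algebra (∀ i, T i) (T i) := fun i => (Pi.evalRingHom T i).toAlgebra
  letI alg2 : ∀ i, Algebra (∀ i, T i) (C i) := fun i =>
    ((algebraMap (T i) (C i)).comp (Pi.evalRingHom T i)).toAlgebra
  haveI : ∀ i, IsScalarTower (∀ i, T i) (T i) (C i) := fun i => .of_algebraMap_eq' rfl
  haveI : ∀ i, IsLocalization.Away (Pi.single i 1 : ∀ a, T a) (T i) := by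
    intro i
    refine IsLocalization.away_of_isIdempotentElem ?_ (RingHom.ker_evalRingHom _ _)
      ((Pi.evalRingHom T i).surjective)
    simp [IsIdempotentElem, ← Pi.single_mul_left]
  haveI : ∀ i, Algebra.Etale (∀ i, T i) (T i) := fun i =>
    Algebra.Etale.of_isLocalizationAway (Pi.single i 1 : ∀ a, T a)
  haveI : ∀ i, Algebra.Etale (∀ i, T i) (C i) := fun i =>
    Algebra.Etale.comp (∀ i, T i) (T i) (C i)
  haveI : ∀ i, Module.Finite (∀ i, T i) (T i) := fun i =>
    Module.Finite.of_surjective (Algebra.linearMap (∀ i, T i) (T i))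
      (Pi.evalRingHom T i).surjective
  haveI : ∀ i, Module.Finite (∀ i, T i) (C i) := fun i => Module.Finite.trans (T i) (C i)
  have e : piMap T C = algebraMap (∀ i, T i) (∀ i, C i) := rfl
  rw [e]
  have f1 : @Module.Finite (∀ i, T i) (∀ i, C i) _ _ (Pi.module ι C (∀ i, T i)) :=
    Module.Finite.pi
  have f2 : @Algebra.Etale (∀ i, T i) (∀ i, C i) _ _ (Pi.algebra ι C) := inferInstance
  exact ⟨(@RingHom.finite_algebraMap (∀ i, T i) (∀ i, C i) _ _ (Pi.algebra ι C)).mpr f1,
    (@RingHom.etale_algebraMap (∀ i, T i) (∀ i, C i) _ _ (Pi.algebra ι C)).mpr f2⟩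

end Pi

section Descent

variable {A B : Type u} [CommRing A] [CommRing B] [Algebra A B]
  {ι : Type u} [Finite ι] (A' : ι → Type u) [∀ i, CommRing (A' i)] [∀ i, Algebra A (A' i)]

theorem flat_pi [∀ i, Module.Flat A (A' i)] : Module.Flat A (∀ i, A' i) := by
  classical
  cases nonempty_fintype ι
  exact Module.Flat.of_linearEquiv (DFinsupp.linearEquivFunOnFintype (R := A) (M := A')).symm

theorem faithfullyFlat_pi [∀ i, Module.Flat A (A' i)]
    (hsurj : ∀ p : PrimeSpectrum A, ∃ i,
      p ∈ Set.range (PrimeSpectrum.comap (algebraMap A (A' i)))) :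
    Module.FaithfullyFlat A (∀ i, A' i) := by
  haveI := flat_pi (A := A) A'
  refine Module.FaithfullyFlat.of_comap_surjective fun p => ?_
  obtain ⟨i, q, hq⟩ := hsurj p
  refine ⟨PrimeSpectrum.comap (Pi.evalRingHom A' i) q, ?_⟩
  rw [← hq]
  rfl

/-- the ring isomorphism `(Π A'ᵢ) ⊗ B ≃ Π (A'ᵢ ⊗ B)`. -/
noncomputable def piTensorEquiv [Fintype ι] [DecidableEq ι] :
    (∀ i, A' i) ⊗[A] B ≃ₐ[A] ∀ i, A' i ⊗[A] B :=
  (Algebra.TensorProduct.comm A (∀ i, A' i) B).trans
    ((Algebra.TensorProduct.piRight A A B A').trans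
      (AlgEquiv.piCongrRight fun i => Algebra.TensorProduct.comm A B (A' i)))

theorem piTensorEquiv_tmul [Fintype ι] [DecidableEq ι] (t : ∀ i, A' i) (b : B) (i : ι) :
    piTensorEquiv (A := A) (B := B) A' (t ⊗ₜ b) i = t i ⊗ₜ b := by
  simp [piTensorEquiv]

/-- **Descent of finite étale** along a finite family of flat ring maps which is jointly
surjective on spectra. -/
theorem finite_etale_of_flat_cover [∀ i, Module.Flat A (A' i)]
    (hsurj : ∀ p : PrimeSpectrum A, ∃ i,
      p ∈ Set.range (PrimeSpectrum.comap (algebraMap A (A' i))))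
    (hfin : ∀ i, Module.Finite (A' i) (A' i ⊗[A] B))
    (het : ∀ i, Algebra.Etale (A' i) (A' i ⊗[A] B)) :
    Module.Finite A B ∧ Algebra.Etale A B := by
  classical
  cases nonempty_fintype ι
  haveI := faithfullyFlat_pi (A := A) A' hsurj
  obtain ⟨h1, h2⟩ := piMap_finite_etale A' (fun i => A' i ⊗[A] B) hfin het
  let e := piTensorEquiv (A := A) (B := B) A'
  have hcomp : algebraMap (∀ i, A' i) ((∀ i, A' i) ⊗[A] B) =
      (e.symm : (∀ i, A' i ⊗[A] B) →+* (∀ i, A' i) ⊗[A] B).comp
        (piMap A' (fun i => A' i ⊗[A] B)) := by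
    ext t
    simp only [RingHom.coe_comp, Function.comp_apply, RingHom.coe_coe]
    rw [AlgEquiv.eq_symm_apply]
    funext i
    rw [Algebra.TensorProduct.algebraMap_apply, Algebra.algebraMap_self, RingHom.id_apply,
      piTensorEquiv_tmul]
    rfl
  haveI : Module.Finite (∀ i, A' i) ((∀ i, A' i) ⊗[A] B) := by
    rw [← RingHom.finite_algebraMap, hcomp]
    exact RingHom.Finite.comp (RingHom.Finite.of_surjective _ e.symm.surjective) h1
  haveI : Algebra.Etale (∀ i, A' i) ((∀ i, A' i) ⊗[A] B) := by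
    rw [← RingHom.etale_algebraMap, hcomp]
    exact RingHom.Etale.stableUnderComposition _ _ h2 (RingHom.Etale.of_bijective e.symm.bijective)
  exact ⟨Module.Finite.of_finite_tensorProduct_of_faithfullyFlat (∀ i, A' i),
    Algebra.Etale.of_etale_tensorProduct_of_faithfullyFlat (∀ i, A' i)⟩

end Descent


section Cat

open CategoryTheory CategoryTheory.Limits

/-- **Descent of finite étale**, categorical form. -/
theorem finite_etale_of_pushouts {A B : CommRingCat.{u}} (φ : A ⟶ B) {ι : Type u} [Finite ι]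
    (A' : ι → CommRingCat.{u}) (ψ : ∀ i, A ⟶ A' i) (hψ : ∀ i, (ψ i).hom.Flat)
    (hsurj : ∀ p : PrimeSpectrum A, ∃ i, p ∈ Set.range (PrimeSpectrum.comap (ψ i).hom))
    (C : ι → CommRingCat.{u}) (γ : ∀ i, B ⟶ C i) (β : ∀ i, A' i ⟶ C i)
    (hpo : ∀ i, IsPushout φ (ψ i) (γ i) (β i))
    (hβ : ∀ i, (β i).hom.Finite ∧ (β i).hom.Etale) : φ.hom.Finite ∧ φ.hom.Etale := by
  letI : Algebra A B := φ.hom.toAlgebra
  letI : ∀ i, Algebra A (A' i) := fun i => (ψ i).hom.toAlgebra
  haveI : ∀ i, Module.Flat A (A' i) := fun i => hψ i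
  have key : ∀ i, (algebraMap (A' i) (A' i ⊗[A] B)).Finite ∧
      (algebraMap (A' i) (A' i ⊗[A] B)).Etale := by
    intro i
    have t : IsPushout (ψ i) φ
        (CommRingCat.ofHom (S := A' i ⊗[A] B) Algebra.TensorProduct.includeLeftRingHom)
        (CommRingCat.ofHom (S := A' i ⊗[A] B) Algebra.TensorProduct.includeRight.toRingHom) :=
      CommRingCat.isPushout_tensorProduct A (A' i) B
    let e := (hpo i).flip.isoIsPushout _ _ t
    have he : β i ≫ e.hom =
        CommRingCat.ofHom (S := A' i ⊗[A] B) Algebra.TensorProduct.includeLeftRingHom :=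
      IsPushout.inl_isoIsPushout_hom _ _ (hpo i).flip t
    have hmap : algebraMap (A' i) (A' i ⊗[A] B) = (β i ≫ e.hom).hom := by
      rw [he]; rfl
    rw [hmap, CommRingCat.hom_comp]
    have hbij : Function.Bijective e.hom.hom :=
      ConcreteCategory.bijective_of_isIso e.hom
    exact ⟨RingHom.Finite.comp (RingHom.Finite.of_surjective _ hbij.2) (hβ i).1,
      RingHom.Etale.stableUnderComposition _ _ (hβ i).2 (RingHom.Etale.of_bijective hbij)⟩
  have hsurj' : ∀ p : PrimeSpectrum A, ∃ i,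
      p ∈ Set.range (PrimeSpectrum.comap (algebraMap A (A' i))) := hsurj
  obtain ⟨h1, h2⟩ := finite_etale_of_flat_cover (A := A) (B := B) (fun i => A' i) hsurj'
    (fun i => RingHom.finite_algebraMap.mp (key i).1)
    (fun i => RingHom.etale_algebraMap.mp (key i).2)
  exact ⟨RingHom.finite_algebraMap.mpr h1, RingHom.etale_algebraMap.mpr h2⟩

end Cat

end Groth.Agent.H6.PurePairAlg
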