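import Mathlib

/-! Flat base change computations for the descent of pure pairs. -/

universe u
set_option linter.style.haveILetI false
open CategoryTheory CategoryTheory.Limits AlgebraicGeometry TopologicalSpace

namespace Groth.Agent.H6.PurePairKP

/-- **Key comparison**: see the file documentation. -/
theorem kp {X X₁ W P Y₁ : Scheme.{u}} [IsLocallyNoetherian X] (f : X₁ ⟶ X) [Flat f]
    (U : X.Opens)
    (hHart : ∀ O : X.Opens, IsAffineOpen O → IsIso (U.ι.app O))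
    (g : W ⟶ X) [QuasiCompact g] [QuasiSeparated g]
    (p₁ : P ⟶ W) (p₂ : P ⟶ X₁) (H : IsPullback p₁ p₂ g f)
    (q : Y₁ ⟶ X₁) [Flat q] (τ : P ⟶ Y₁) (hτ : τ ≫ q = p₂) (r : P ⟶ (U : Scheme.{u}))
    (HR : IsPullback τ r (q ≫ f) U.ι)
    (O : X.Opens) (hO : IsAffineOpen O) (O₁ : X₁.Opens) (hO₁ : IsAffineOpen O₁)
    (e : O₁ ≤ f ⁻¹ᵁ O) (hΩ : IsAffineOpen (q ⁻¹ᵁ O₁)) :
    ∃ (UY : P.Opens) (e₁ : UY ≤ p₁ ⁻¹ᵁ (g ⁻¹ᵁ O)) (e₂ : UY ≤ p₂ ⁻¹ᵁ O₁)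
      (e₃ : UY ≤ τ ⁻¹ᵁ (q ⁻¹ᵁ O₁)),
      IsPushout (g.app O) (f.appLE O O₁ e) (p₁.appLE (g ⁻¹ᵁ O) UY e₁) (p₂.appLE O₁ UY e₂) ∧
      IsIso (τ.appLE (q ⁻¹ᵁ O₁) UY e₃) ∧
      p₂.appLE O₁ UY e₂ = q.app O₁ ≫ τ.appLE (q ⁻¹ᵁ O₁) UY e₃ := by
  subst hτ
  -- first flat base change
  have hUX : IsCompact ((g ⁻¹ᵁ O : W.Opens) : Set W) := g.isCompact_preimage hO.isCompact
  have hUX' : IsQuasiSeparated ((g ⁻¹ᵁ O : W.Opens) : Set W) :=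
    g.isQuasiSeparated_preimage hO.isQuasiSeparated
  have iso1 := isIso_pushoutSection_of_isQuasiSeparated_of_flat_right H e
    (le_refl (g ⁻¹ᵁ O)) rfl hO hO₁ hUX hUX'
  have po1 := (isIso_pushoutSection_iff H e (le_refl (g ⁻¹ᵁ O)) rfl).mp iso1
  -- second flat base change
  have hVX : IsCompact ((U.ι ⁻¹ᵁ O : (U : Scheme.{u}).Opens) : Set (U : Scheme.{u})) :=
    U.ι.isCompact_preimage hO.isCompact
  have hVX' : IsQuasiSeparated ((U.ι ⁻¹ᵁ O : (U : Scheme.{u}).Opens) : Set (U : Scheme.{u})) :=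
    IsQuasiSeparated.of_quasiSeparatedSpace _
  have eΩ : q ⁻¹ᵁ O₁ ≤ (q ≫ f) ⁻¹ᵁ O := by
    intro y hy
    exact e hy
  have iso2 := isIso_pushoutSection_of_isQuasiSeparated_of_flat_right HR.flip eΩ
    (le_refl (U.ι ⁻¹ᵁ O)) rfl hO hΩ hVX hVX'
  have po2 := (isIso_pushoutSection_iff HR.flip eΩ (le_refl (U.ι ⁻¹ᵁ O)) rfl).mp iso2
  haveI : IsIso (U.ι.appLE O (U.ι ⁻¹ᵁ O) (le_refl _)) := by
    rw [Scheme.Hom.appLE_eq_app]; exact hHart O hO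
  have hiso := po2.isIso_inr_of_isIso
  -- the two opens agree
  have hop : p₁ ⁻¹ᵁ (g ⁻¹ᵁ O) ⊓ (τ ≫ q) ⁻¹ᵁ O₁ = r ⁻¹ᵁ (U.ι ⁻¹ᵁ O) ⊓ τ ⁻¹ᵁ (q ⁻¹ᵁ O₁) := by
    apply le_antisymm
    · rintro y ⟨-, hy2⟩
      refine ⟨?_, hy2⟩
      change (r ≫ U.ι) y ∈ O
      rw [← HR.w]
      exact e hy2
    · rintro y ⟨-, hy2⟩
      refine ⟨?_, hy2⟩
      change (p₁ ≫ g) y ∈ O
      rw [H.w]
      exact e hy2
  refine ⟨p₁ ⁻¹ᵁ (g ⁻¹ᵁ O) ⊓ (τ ≫ q) ⁻¹ᵁ O₁, inf_le_left, inf_le_right, inf_le_right, ?_, ?_, ?_⟩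
  · rw [Scheme.Hom.app_eq_appLE]
    exact po1
  · exact (Scheme.Hom.appLE_congr τ _ rfl hop.symm (fun φ => IsIso φ)).mp hiso
  · rw [Scheme.Hom.app_eq_appLE, Scheme.Hom.appLE_comp_appLE]

end Groth.Agent.H6.PurePairKP
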