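import Mathlib
import Groth.Prelude.Def_SGA2
import Groth.Prelude.Def_FlatMod2
import Groth.Agent.Lib.Helper6.PurePairAlg
import Groth.Agent.Lib.Helper6.PurePairKP
import Groth.Agent.Lib.Helper6.PiDepth

/-! Descent of pure pairs along fpqc morphisms: the ring of sections of a finite étale cover of
`V ∩ U` over an affine open of `V` is finite étale. -/

universe u
set_option linter.style.haveILetI false
open CategoryTheory CategoryTheory.Limits AlgebraicGeometry TopologicalSpace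

namespace Groth.Agent.H6.PurePairDesc

section Hart

variable {X : Scheme.{u}} [IsLocallyNoetherian X] (U : X.Opens)
  (hU : ∀ x : X, x ∉ U → (2 : ℕ∞) ≤ LocCoh.depth (X.presheaf.stalk x) (X.presheaf.stalk x))

include hU in
theorem isIso_ι_app (O : X.Opens) (hO : IsAffineOpen O) : IsIso (U.ι.app O) := by
  have hZ : ∀ z : X, z ∉ U → ∃ a b : X.presheaf.stalk z,
      a ∈ IsLocalRing.maximalIdeal (X.presheaf.stalk z) ∧
      b ∈ IsLocalRing.maximalIdeal (X.presheaf.stalk z) ∧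
      RingTheory.Sequence.IsWeaklyRegular (X.presheaf.stalk z) [a, b] :=
    fun z hz => PiDepth.exists_weaklyRegular_pair _ (hU z hz)
  have := Hartogs2.ι_app_bijective X U hZ O hO
  exact (ConcreteCategory.isIso_iff_bijective _).mpr this

end Hart

section Main

variable {X X₁ : Scheme.{u}} [IsLocallyNoetherian X] (U : X.Opens)
  (hU : ∀ x : X, x ∉ U → (2 : ℕ∞) ≤ LocCoh.depth (X.presheaf.stalk x) (X.presheaf.stalk x))
  (f : X₁ ⟶ X) [Flat f]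
  (h : SGA2.IsPurePair X₁ (f ⁻¹ᵁ U)) (V : X.Opens)
  (W' : FEt.Cat ((V ⊓ U : X.Opens) : Scheme.{u}))

include hU h in
theorem local_claim (O : X.Opens) (hO : IsAffineOpen O) (hOV : O ≤ V) (O₁ : X₁.Opens)
    (hO₁ : IsAffineOpen O₁) (e : O₁ ≤ f ⁻¹ᵁ O) :
    ∃ (C : CommRingCat.{u}) (γ : Γ(W'.left, (W'.hom ≫ (V ⊓ U).ι) ⁻¹ᵁ O) ⟶ C)
      (β : Γ(X₁, O₁) ⟶ C),
      IsPushout ((W'.hom ≫ (V ⊓ U).ι).app O) (f.appLE O O₁ e) γ β ∧
        β.hom.Finite ∧ β.hom.Etale := by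
  classical
  haveI hfin' : IsFinite W'.hom := W'.prop.1
  haveI het' : Etale W'.hom := W'.prop.2
  let j₁ : ((f ⁻¹ᵁ V ⊓ f ⁻¹ᵁ U : X₁.Opens) : Scheme.{u}) ⟶ ((f ⁻¹ᵁ V : X₁.Opens) : Scheme.{u}) :=
    X₁.homOfLE inf_le_left
  have e' : f ⁻¹ᵁ V ⊓ f ⁻¹ᵁ U ≤ f ⁻¹ᵁ (V ⊓ U) := fun x hx => hx
  let f' : ((f ⁻¹ᵁ V ⊓ f ⁻¹ᵁ U : X₁.Opens) : Scheme.{u}) ⟶ ((V ⊓ U : X.Opens) : Scheme.{u}) :=
    f.resLE (V ⊓ U) (f ⁻¹ᵁ V ⊓ f ⁻¹ᵁ U) e'
  let E : FEt.Cat ((f ⁻¹ᵁ V ⊓ f ⁻¹ᵁ U : X₁.Opens) : Scheme.{u}) := (FEt.restrict f').obj W'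
  haveI : (FEt.restrict j₁).IsEquivalence := h (f ⁻¹ᵁ V)
  let W₁ := (FEt.restrict j₁).objPreimage E
  let θ : (FEt.restrict j₁).obj W₁ ≅ E := (FEt.restrict j₁).objObjPreimageIso E
  haveI : IsFinite W₁.hom := W₁.prop.1
  haveI : Etale W₁.hom := W₁.prop.2
  let g : W'.left ⟶ X := W'.hom ≫ (V ⊓ U).ι
  let p₁ : pullback W'.hom f' ⟶ W'.left := pullback.fst W'.hom f'
  let p₂ : pullback W'.hom f' ⟶ X₁ := pullback.snd W'.hom f' ≫ (f ⁻¹ᵁ V ⊓ f ⁻¹ᵁ U).ι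
  have sqf : IsPullback f' (f ⁻¹ᵁ V ⊓ f ⁻¹ᵁ U).ι (V ⊓ U).ι f :=
    IsOpenImmersion.isPullback f' _ _ f (f.resLE_comp_ι e').symm
      (by rw [Scheme.Opens.opensRange_ι, Scheme.Opens.opensRange_ι]; rfl)
  have H : IsPullback p₁ p₂ g f :=
    (((IsPullback.of_hasPullback W'.hom f').flip).paste_horiz sqf.flip).flip
  let q : W₁.left ⟶ X₁ := W₁.hom ≫ (f ⁻¹ᵁ V).ι
  let a : pullback W'.hom f' ⟶ pullback W₁.hom j₁ := θ.inv.left
  haveI : IsIso a := by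
    change IsIso ((MorphismProperty.Over.forget _ _ _ ⋙ Over.forget _).map θ.inv)
    infer_instance
  have ha : a ≫ pullback.snd W₁.hom j₁ = pullback.snd W'.hom f' :=
    MorphismProperty.Over.w θ.inv
  let τ : pullback W'.hom f' ⟶ W₁.left := a ≫ pullback.fst W₁.hom j₁
  have hτ : τ ≫ q = p₂ := by
    change (a ≫ pullback.fst W₁.hom j₁) ≫ W₁.hom ≫ (f ⁻¹ᵁ V).ι =
      pullback.snd W'.hom f' ≫ (f ⁻¹ᵁ V ⊓ f ⁻¹ᵁ U).ι
    rw [Category.assoc, pullback.condition_assoc, ← Category.assoc, ha]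
    congr 1
    exact Scheme.homOfLE_ι _ _
  let ρ : ((f ⁻¹ᵁ V ⊓ f ⁻¹ᵁ U : X₁.Opens) : Scheme.{u}) ⟶ (U : Scheme.{u}) :=
    f.resLE U (f ⁻¹ᵁ V ⊓ f ⁻¹ᵁ U) inf_le_right
  let r : pullback W'.hom f' ⟶ (U : Scheme.{u}) := pullback.snd W'.hom f' ≫ ρ
  have sq2 : IsPullback ρ j₁ U.ι ((f ⁻¹ᵁ V).ι ≫ f) := by
    refine IsOpenImmersion.isPullback ρ j₁ U.ι ((f ⁻¹ᵁ V).ι ≫ f) ?_ ?_
    · rw [← Category.assoc, Scheme.homOfLE_ι]
      exact (f.resLE_comp_ι _).symm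
    · rw [Scheme.Opens.opensRange_ι, Scheme.opensRange_homOfLE]
      ext x
      constructor
      · intro hx
        exact ⟨x.2, hx⟩
      · intro hx
        exact hx.2
  have HR0 : IsPullback (pullback.fst W₁.hom j₁) (pullback.snd W₁.hom j₁ ≫ ρ)
      (W₁.hom ≫ (f ⁻¹ᵁ V).ι ≫ f) U.ι :=
    (((IsPullback.of_hasPullback W₁.hom j₁).flip).paste_horiz sq2).flip
  have HR : IsPullback τ r (q ≫ f) U.ι := by
    have hl : IsPullback a (a ≫ pullback.snd W₁.hom j₁ ≫ ρ) (pullback.snd W₁.hom j₁ ≫ ρ)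
        (𝟙 _) := IsPullback.of_horiz_isIso ⟨by simp⟩
    have hp := hl.paste_horiz HR0
    have e1 : a ≫ pullback.snd W₁.hom j₁ ≫ ρ = r := by
      rw [← Category.assoc, ha]
    have e2 : W₁.hom ≫ (f ⁻¹ᵁ V).ι ≫ f = q ≫ f := (Category.assoc _ _ _).symm
    rw [e1, e2, Category.id_comp] at hp
    exact hp
  haveI : Flat q := inferInstance
  have hO₁V : O₁ ≤ f ⁻¹ᵁ V := e.trans (fun x hx => hOV hx)
  have hO₁' : IsAffineOpen ((f ⁻¹ᵁ V).ι ⁻¹ᵁ O₁) := by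
    rw [← Scheme.Hom.isAffineOpen_iff_of_isOpenImmersion (f ⁻¹ᵁ V).ι]
    have : (f ⁻¹ᵁ V).ι ''ᵁ ((f ⁻¹ᵁ V).ι ⁻¹ᵁ O₁) = O₁ := by
      rw [Scheme.Hom.image_preimage_eq_opensRange_inf, Scheme.Opens.opensRange_ι]
      exact inf_eq_right.mpr hO₁V
    rw [this]; exact hO₁
  have hΩ : IsAffineOpen (q ⁻¹ᵁ O₁) := hO₁'.preimage W₁.hom
  obtain ⟨UY, e₁, e₂, e₃, po, hiso, hβ⟩ := PurePairKP.kp f U (isIso_ι_app U hU) g p₁ p₂ H q τ hτ
    r HR O hO O₁ hO₁ e hΩ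
  refine ⟨_, _, _, po, ?_⟩
  have hq : q.app O₁ = (f ⁻¹ᵁ V).ι.app O₁ ≫ W₁.hom.app ((f ⁻¹ᵁ V).ι ⁻¹ᵁ O₁) :=
    Scheme.Hom.comp_app _ _ _
  haveI : IsIso ((f ⁻¹ᵁ V).ι.app O₁) :=
    (f ⁻¹ᵁ V).ι.isIso_app O₁ (by rw [Scheme.Opens.opensRange_ι]; exact hO₁V)
  have hfinW : (W₁.hom.app ((f ⁻¹ᵁ V).ι ⁻¹ᵁ O₁)).hom.Finite :=
    IsFinite.finite_app W₁.hom _ hO₁'
  have hetW : (W₁.hom.app ((f ⁻¹ᵁ V).ι ⁻¹ᵁ O₁)).hom.Etale := by
    rw [Scheme.Hom.app_eq_appLE]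
    exact W₁.hom.etale_appLE hO₁' (hO₁'.preimage W₁.hom) le_rfl
  have hb1 : Function.Bijective ((f ⁻¹ᵁ V).ι.app O₁).hom :=
    ConcreteCategory.bijective_of_isIso _
  have hb2 : Function.Bijective (τ.appLE (q ⁻¹ᵁ O₁) UY e₃).hom :=
    ConcreteCategory.bijective_of_isIso _
  rw [hβ, hq]
  simp only [CommRingCat.hom_comp]
  constructor
  · exact RingHom.Finite.comp (RingHom.Finite.of_surjective _ hb2.2)
      (RingHom.Finite.comp hfinW (RingHom.Finite.of_surjective _ hb1.2))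
  · exact RingHom.Etale.stableUnderComposition _ _
      (RingHom.Etale.stableUnderComposition _ _ (RingHom.Etale.of_bijective hb1) hetW)
      (RingHom.Etale.of_bijective hb2)

include hU h in
theorem app_finite_etale [Surjective f] [QuasiCompact f] (O : X.Opens) (hO : IsAffineOpen O)
    (hOV : O ≤ V) :
    ((W'.hom ≫ (V ⊓ U).ι).app O).hom.Finite ∧ ((W'.hom ≫ (V ⊓ U).ι).app O).hom.Etale := by
  obtain ⟨I, hI, hcov⟩ := isCompact_iff_finite_and_eq_biUnion_affineOpens.mp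
    (f.isCompact_preimage hO.isCompact)
  haveI : Finite I := hI.to_subtype
  have hle : ∀ i : I, (i.1 : X₁.Opens) ≤ f ⁻¹ᵁ O := fun i => by
    rw [hcov]; exact le_iSup₂_of_le i.1 i.2 le_rfl
  choose C γ β hpo hβ using fun i : I =>
    local_claim U hU f h V W' O hO hOV i.1.1 i.1.2 (hle i)
  refine PurePairAlg.finite_etale_of_pushouts _ (fun i : I => Γ(X₁, i.1.1))
    (fun i => f.appLE O i.1.1 (hle i)) (fun i => f.flat_appLE hO i.1.2 (hle i)) ?_ C γ β hpo hβ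
  intro p
  obtain ⟨x₁, hx₁⟩ := f.surjective (hO.fromSpec p)
  have hpO : hO.fromSpec p ∈ O := by
    have : hO.fromSpec p ∈ Set.range hO.fromSpec := ⟨p, rfl⟩
    rw [hO.range_fromSpec] at this
    exact this
  have hx₁O : x₁ ∈ f ⁻¹ᵁ O := by
    change f x₁ ∈ O
    rw [hx₁]; exact hpO
  rw [hcov] at hx₁O
  simp only [Opens.mem_iSup] at hx₁O
  obtain ⟨i, hi, hxi⟩ := hx₁O
  refine ⟨⟨i, hi⟩, i.2.primeIdealOf ⟨x₁, hxi⟩, ?_⟩
  have hc := IsAffineOpen.comap_primeIdealOf_appLE O hO i.1 i.2 (hle ⟨i, hi⟩) hxi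
  refine hc.trans ?_
  apply hO.fromSpec.isOpenEmbedding.injective
  rw [hO.fromSpec_primeIdealOf]
  exact hx₁

end Main

end Groth.Agent.H6.PurePairDesc
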