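import Mathlib
import Groth.Prelude.Def_SGA2
import Groth.Prelude.Def_FlatMod2
import Groth.Prelude.Def_CInt
import Groth.Agent.Lib.Helper6.PurePairDesc
import Groth.Agent.Lib.Helper1.FEtDepth2
import Groth.Agent.Lib.Helper1.RatExt
import Groth.Agent.Lib.Helper3.SchDenseDepth

/-! Descent of pure pairs along fpqc morphisms (S2937): the final assembly. -/

universe u
set_option linter.style.haveILetI false
open CategoryTheory CategoryTheory.Limits AlgebraicGeometry TopologicalSpace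

namespace Groth.Agent.H6.PurePairMain

/-- A schematically dense open is topologically dense. -/
theorem dense_of_schDense {X : Scheme.{u}} {V : X.Opens} (hV : CInt.IsSchematicallyDense V) :
    Dense (V : Set X) := by
  rw [dense_iff_inter_open]
  intro O hO hne
  by_contra hcon
  rw [Set.not_nonempty_iff_eq_empty] at hcon
  obtain ⟨x, hx⟩ := hne
  let O' : X.Opens := ⟨O, hO⟩
  have hbot : O' ⊓ V = ⊥ := by
    ext y
    simp only [TopologicalSpace.Opens.coe_inf, TopologicalSpace.Opens.coe_bot,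
      Set.mem_empty_iff_false, iff_false]
    intro hy
    have : y ∈ O ∩ (V : Set X) := hy
    rw [hcon] at this
    exact this
  have hsub : Subsingleton Γ(X, O' ⊓ V) := by rw [hbot]; infer_instance
  have h10 : (1 : Γ(X, O')) = 0 := hV O' (Subsingleton.elim _ _)
  have := congrArg (X.presheaf.germ O' x hx) h10
  rw [map_one, map_zero] at this
  exact one_ne_zero this

theorem dense_of_depth {X : Scheme.{u}} [IsLocallyNoetherian X] (U : X.Opens)
    (hU : ∀ x : X, x ∉ U → (2 : ℕ∞) ≤ LocCoh.depth (X.presheaf.stalk x) (X.presheaf.stalk x)) :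
    Dense (U : Set X) :=
  dense_of_schDense ((Groth.Agent.H3.SchDenseDepth.main X U).mpr
    fun x hx => le_trans (by norm_num) (hU x hx))

theorem etale_of_app {X Y : Scheme.{u}} (π : Y ⟶ X) [IsAffineHom π]
    (h : ∀ W : X.Opens, IsAffineOpen W → (π.app W).hom.Etale) : Etale π := by
  refine ⟨fun {W} hW {V} hV e => ?_⟩
  have h1 : (Y.presheaf.map (homOfLE e).op).hom.Etale := by
    have := Etale.etale_appLE (𝟙 Y) (hW.preimage π) hV e
    exact this
  rw [Scheme.Hom.appLE, CommRingCat.hom_comp]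
  exact RingHom.Etale.stableUnderComposition _ _ (h W hW) h1

/-- A finite étale cover `w` of an open subscheme `j : Us ⟶ Vs` whose direct image algebra is finite
étale over every affine open of `Vs` extends to a finite étale cover of `Vs`. -/
theorem exists_extension {Vs Us W : Scheme.{u}} [IsLocallyNoetherian Vs] (j : Us ⟶ Vs)
    [IsOpenImmersion j] (w : W ⟶ Us) [IsFinite w] [Etale w]
    (hB : ∀ O' : Vs.Opens, IsAffineOpen O' →
      ((w ≫ j).app O').hom.Finite ∧ ((w ≫ j).app O').hom.Etale) :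
    ∃ (Y : Scheme.{u}) (π : Y ⟶ Vs) (_ : IsFinite π) (_ : Etale π) (e : pullback π j ≅ W),
      e.hom ≫ w = pullback.snd π j := by
  obtain ⟨g, hg⟩ : ∃ g : W ⟶ Vs, g = w ≫ j := ⟨_, rfl⟩
  haveI : QuasiCompact g := hg ▸ inferInstance
  haveI : QuasiSeparated g := hg ▸ inferInstance
  have hB' : ∀ O' : Vs.Opens, IsAffineOpen O' →
      (g.app O').hom.Finite ∧ (g.app O').hom.Etale := by
    rw [hg]; exact hB
  have hπapp : ∀ O' : Vs.Opens, IsAffineOpen O' →
      (g.fromNormalization.app O').hom.Finite ∧ (g.fromNormalization.app O').hom.Etale := by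
    intro O' hO'
    obtain ⟨hfin, het⟩ := hB' O' hO'
    rw [g.fromNormalization_app hO']
    letI alg : Algebra Γ(Vs, O') Γ(W, g ⁻¹ᵁ O') := (g.app O').hom.toAlgebra
    haveI : Module.Finite Γ(Vs, O') Γ(W, g ⁻¹ᵁ O') := hfin
    haveI : Algebra.Etale Γ(Vs, O') Γ(W, g ⁻¹ᵁ O') := het
    have htop : integralClosure Γ(Vs, O') Γ(W, g ⁻¹ᵁ O') = ⊤ :=
      integralClosure_eq_top_iff.mpr inferInstance
    let e : integralClosure Γ(Vs, O') Γ(W, g ⁻¹ᵁ O') ≃ₐ[Γ(Vs, O')] Γ(W, g ⁻¹ᵁ O') :=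
      (Subalgebra.equivOfEq _ _ htop).trans Subalgebra.topEquiv
    haveI : Module.Finite Γ(Vs, O') (integralClosure Γ(Vs, O') Γ(W, g ⁻¹ᵁ O')) :=
      Module.Finite.equiv e.symm.toLinearEquiv
    haveI : Algebra.Etale Γ(Vs, O') (integralClosure Γ(Vs, O') Γ(W, g ⁻¹ᵁ O')) :=
      Algebra.Etale.of_equiv e.symm
    have h1 : (algebraMap Γ(Vs, O') (integralClosure Γ(Vs, O') Γ(W, g ⁻¹ᵁ O'))).Finite :=
      RingHom.finite_algebraMap.mpr inferInstance
    have h2 : (algebraMap Γ(Vs, O') (integralClosure Γ(Vs, O') Γ(W, g ⁻¹ᵁ O'))).Etale :=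
      RingHom.etale_algebraMap.mpr inferInstance
    have hb : Function.Bijective (g.normalizationObjIso hO').inv.hom :=
      ConcreteCategory.bijective_of_isIso _
    simp only [CommRingCat.hom_comp, CommRingCat.hom_ofHom]
    exact ⟨RingHom.Finite.comp (RingHom.Finite.of_surjective _ hb.2) h1,
      RingHom.Etale.stableUnderComposition _ _ h2 (RingHom.Etale.of_bijective hb)⟩
  haveI : IsFinite g.fromNormalization := ⟨fun O' hO' => (hπapp O' hO').1⟩
  haveI : Etale g.fromNormalization := etale_of_app _ (fun O' hO' => (hπapp O' hO').2)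
  have hs : pullback.fst g j ≫ w = pullback.snd g j := by
    rw [← cancel_mono j, Category.assoc, ← hg]; exact pullback.condition
  haveI : IsIso (pullback.fst g j) := by
    refine ⟨⟨pullback.lift (𝟙 W) w (by rw [Category.id_comp, hg]), ?_, pullback.lift_fst _ _ _⟩⟩
    apply pullback.hom_ext
    · rw [Category.assoc, pullback.lift_fst, Category.comp_id, Category.id_comp]
    · rw [Category.assoc, pullback.lift_snd, Category.id_comp]; exact hs
  haveI : IsIntegralHom (pullback.snd g j) := by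
    rw [← hs]; infer_instance
  let e : pullback g.fromNormalization j ≅ W :=
    (asIso (g.normalizationPullback j)).symm ≪≫
      (asIso (pullback.snd g j).toNormalization).symm ≪≫ asIso (pullback.fst g j)
  have he : e.hom ≫ w = pullback.snd g.fromNormalization j := by
    change (inv (g.normalizationPullback j) ≫ inv (pullback.snd g j).toNormalization ≫
      pullback.fst g j) ≫ w = _
    rw [Category.assoc, Category.assoc, hs, IsIso.inv_comp_eq, IsIso.inv_comp_eq,
      Scheme.Hom.normalizationPullback_snd, Scheme.Hom.toNormalization_fromNormalization]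
  exact ⟨_, g.fromNormalization, inferInstance, inferInstance, e, he⟩

section Geo

variable {X : Scheme.{u}} [IsLocallyNoetherian X] (U : X.Opens)
  (hU : ∀ x : X, x ∉ U → (2 : ℕ∞) ≤ LocCoh.depth (X.presheaf.stalk x) (X.presheaf.stalk x))
  (V : X.Opens)

include hU in
theorem depth_restrict (z : (V : Scheme.{u})) (hz : z ∉ V.ι ⁻¹ᵁ U) :
    (2 : ℕ∞) ≤ LocCoh.depth ((V : Scheme.{u}).presheaf.stalk z)
      ((V : Scheme.{u}).presheaf.stalk z) := by
  rw [Groth.Agent.H1.RatExt.depth_stalk_opens V z]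
  exact hU _ hz

theorem range_homOfLE :
    Set.range (X.homOfLE (inf_le_left : V ⊓ U ≤ V)) =
      ((V.ι ⁻¹ᵁ U : (V : Scheme.{u}).Opens) : Set (V : Scheme.{u})) := by
  rw [← Scheme.Hom.coe_opensRange, Scheme.opensRange_homOfLE]
  ext x
  exact ⟨fun h => h.2, fun h => ⟨x.2, h⟩⟩

include hU in
theorem faithful_restrict :
    (FEt.restrict (X.homOfLE (inf_le_left : V ⊓ U ≤ V))).Faithful := by
  haveI : IsLocallyNoetherian (V : Scheme.{u}) := isLocallyNoetherian_of_isOpenImmersion V.ι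
  apply Groth.Agent.Lib.Helper1.FEtFaithful.faithful_restrict_of_clopen
  intro S hS hne
  have hd := dense_of_depth (V.ι ⁻¹ᵁ U) (depth_restrict U hU V)
  rw [range_homOfLE]
  exact hd.inter_open_nonempty S hS.isOpen hne

include hU in
theorem exists_section_homOfLE {P T : Scheme.{u}} (π : P ⟶ (V : Scheme.{u}))
    [LocallyOfFiniteType π] [Flat π] (q : T ⟶ (V : Scheme.{u})) [IsAffineHom q]
    (σ : pullback π (X.homOfLE (inf_le_left : V ⊓ U ≤ V)) ⟶ pullback π q)
    (hσ : σ ≫ pullback.fst π q = pullback.fst π (X.homOfLE (inf_le_left : V ⊓ U ≤ V))) :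
    ∃ s : P ⟶ pullback π q, s ≫ pullback.fst π q = 𝟙 _ ∧
      pullback.fst π (X.homOfLE (inf_le_left : V ⊓ U ≤ V)) ≫ s = σ := by
  haveI : IsLocallyNoetherian (V : Scheme.{u}) := isLocallyNoetherian_of_isOpenImmersion V.ι
  let U' : (V : Scheme.{u}).Opens := V.ι ⁻¹ᵁ U
  let κ : ((V ⊓ U : X.Opens) : Scheme.{u}) ≅ (U' : Scheme.{u}) :=
    IsOpenImmersion.isoOfRangeEq (X.homOfLE (inf_le_left : V ⊓ U ≤ V)) U'.ι
      (by rw [range_homOfLE, Scheme.Opens.range_ι])
  have hκ : κ.hom ≫ U'.ι = X.homOfLE (inf_le_left : V ⊓ U ≤ V) :=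
    IsOpenImmersion.isoOfRangeEq_hom_fac _ _ _
  have hκ' : κ.inv ≫ X.homOfLE (inf_le_left : V ⊓ U ≤ V) = U'.ι := by
    rw [← hκ, Iso.inv_hom_id_assoc]
  let m : pullback π U'.ι ⟶ pullback π (X.homOfLE (inf_le_left : V ⊓ U ≤ V)) :=
    pullback.lift (pullback.fst π U'.ι) (pullback.snd π U'.ι ≫ κ.inv)
      (by rw [Category.assoc, hκ', pullback.condition])
  let m' : pullback π (X.homOfLE (inf_le_left : V ⊓ U ≤ V)) ⟶ pullback π U'.ι :=
    pullback.lift (pullback.fst π _) (pullback.snd π _ ≫ κ.hom)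
      (by rw [Category.assoc, hκ, pullback.condition])
  have hm : m ≫ pullback.fst π _ = pullback.fst π U'.ι := pullback.lift_fst _ _ _
  have hm' : m' ≫ pullback.fst π U'.ι = pullback.fst π _ := pullback.lift_fst _ _ _
  have hmm : m' ≫ m = 𝟙 _ := by
    apply pullback.hom_ext
    · rw [Category.assoc, hm, hm', Category.id_comp]
    · have hms : m ≫ pullback.snd π _ = pullback.snd π U'.ι ≫ κ.inv := pullback.lift_snd _ _ _
      have hms' : m' ≫ pullback.snd π U'.ι = pullback.snd π _ ≫ κ.hom := pullback.lift_snd _ _ _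
      rw [Category.assoc, hms, ← Category.assoc, hms', Category.assoc, Iso.hom_inv_id,
        Category.comp_id, Category.id_comp]
  obtain ⟨s, hs1, hs2⟩ := Groth.Agent.H1.FEtDepth2.exists_section_of_finite U'
    (depth_restrict U hU V) π q (m ≫ σ) (by rw [Category.assoc, hσ, hm])
  refine ⟨s, hs1, ?_⟩
  rw [← hm', Category.assoc, hs2, ← Category.assoc, hmm, Category.id_comp]

include hU in
theorem full_restrict :
    (FEt.restrict (X.homOfLE (inf_le_left : V ⊓ U ≤ V))).Full := by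
  apply Groth.Agent.Lib.Helper1.FEtFull.full_restrict_of_sections
  intro P Q σ hσ
  haveI : IsFinite (show P.left ⟶ (V : Scheme.{u}) from P.hom) := P.prop.1
  haveI : Etale (show P.left ⟶ (V : Scheme.{u}) from P.hom) := P.prop.2
  haveI : IsFinite (show Q.left ⟶ (V : Scheme.{u}) from Q.hom) := Q.prop.1
  exact exists_section_homOfLE U hU V (show P.left ⟶ (V : Scheme.{u}) from P.hom)
    (show Q.left ⟶ (V : Scheme.{u}) from Q.hom) σ hσ

/-- Transport of finiteness/étaleness of sections along `V.ι`. -/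
theorem app_of_comp_ι {W : Scheme.{u}} (g : W ⟶ (V : Scheme.{u}))
    (O' : (V : Scheme.{u}).Opens)
    (hfe : ((g ≫ V.ι).app (V.ι ''ᵁ O')).hom.Finite ∧ ((g ≫ V.ι).app (V.ι ''ᵁ O')).hom.Etale) :
    (g.app O').hom.Finite ∧ (g.app O').hom.Etale := by
  have hOO : V.ι ⁻¹ᵁ (V.ι ''ᵁ O') = O' := V.ι.preimage_image_eq O'
  haveI : IsIso (V.ι.app (V.ι ''ᵁ O')) :=
    V.ι.isIso_app _ (V.ι.image_le_opensRange O')
  have hf : ((g.app (V.ι ⁻¹ᵁ (V.ι ''ᵁ O'))).hom.comp (V.ι.app (V.ι ''ᵁ O')).hom).Finite := by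
    have := hfe.1
    rw [Scheme.Hom.comp_app] at this
    exact this
  have he : ((g.app (V.ι ⁻¹ᵁ (V.ι ''ᵁ O'))).hom.comp (V.ι.app (V.ι ''ᵁ O')).hom).Etale := by
    have := hfe.2
    rw [Scheme.Hom.comp_app] at this
    exact this
  have h2 : (g.app (V.ι ⁻¹ᵁ (V.ι ''ᵁ O'))).hom.Finite ∧
      (g.app (V.ι ⁻¹ᵁ (V.ι ''ᵁ O'))).hom.Etale :=
    ⟨(RingHom.finite_respectsIso.cancel_left_isIso _ _).mp hf,
      (RingHom.Etale.respectsIso.cancel_left_isIso _ _).mp he⟩
  rw [hOO] at h2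
  exact h2

include hU in
theorem essSurj_restrict {X₁ : Scheme.{u}} (f : X₁ ⟶ X) [Flat f] [Surjective f] [QuasiCompact f]
    (h : SGA2.IsPurePair X₁ (f ⁻¹ᵁ U)) :
    (FEt.restrict (X.homOfLE (inf_le_left : V ⊓ U ≤ V))).EssSurj := by
  haveI : IsLocallyNoetherian (V : Scheme.{u}) := isLocallyNoetherian_of_isOpenImmersion V.ι
  refine ⟨fun W' => ?_⟩
  haveI hfin' : IsFinite W'.hom := W'.prop.1
  haveI het' : Etale W'.hom := W'.prop.2
  have hB : ∀ O' : (V : Scheme.{u}).Opens, IsAffineOpen O' →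
      ((W'.hom ≫ X.homOfLE (inf_le_left : V ⊓ U ≤ V)).app O').hom.Finite ∧
        ((W'.hom ≫ X.homOfLE (inf_le_left : V ⊓ U ≤ V)).app O').hom.Etale := by
    intro O' hO'
    have hO : IsAffineOpen (V.ι ''ᵁ O') := hO'.image_of_isOpenImmersion V.ι
    have hOV : V.ι ''ᵁ O' ≤ V := by
      have := V.ι.image_le_opensRange O'
      rwa [Scheme.Opens.opensRange_ι] at this
    have key := PurePairDesc.app_finite_etale U hU f h V W' (V.ι ''ᵁ O') hO hOV
    have hcomp : W'.hom ≫ (V ⊓ U).ι =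
        (W'.hom ≫ X.homOfLE (inf_le_left : V ⊓ U ≤ V)) ≫ V.ι := by
      rw [Category.assoc, Scheme.homOfLE_ι]
    rw [hcomp] at key
    exact app_of_comp_ι V _ O' key
  obtain ⟨Y, π, hπf, hπe, e, he⟩ :=
    exists_extension (X.homOfLE (inf_le_left : V ⊓ U ≤ V)) W'.hom hB
  exact ⟨MorphismProperty.Over.mk ⊤ π ⟨hπf, hπe⟩,
    ⟨MorphismProperty.Over.isoMk e he⟩⟩

end Geo

theorem main (X X₁ : Scheme.{u}) [IsLocallyNoetherian X] (U : X.Opens)
    (hU : ∀ x : X, x ∉ U → (2 : ℕ∞) ≤ LocCoh.depth (X.presheaf.stalk x) (X.presheaf.stalk x))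
    (f : X₁ ⟶ X) [Flat f] [Surjective f] [QuasiCompact f]
    (h : SGA2.IsPurePair X₁ (f ⁻¹ᵁ U)) : SGA2.IsPurePair X U := by
  intro V
  haveI := faithful_restrict U hU V
  haveI := full_restrict U hU V
  haveI := essSurj_restrict U hU V f h
  exact { }

end Groth.Agent.H6.PurePairMain
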