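import Mathlib
import Groth.Prelude.Def_CAlg
import Groth.Prelude.Def_FEt
import Groth.Agent.Lib.Helper6.S2ExtGeo
import Groth.Agent.Lib.Helper6.PurePairMain
import Groth.Agent.Lib.Helper6.PiDepth
import Groth.Agent.Lib.Helper1.FEtDepth2
import Groth.Agent.Lib.Helper2.PicCodim2

/-! S1185: finite étale covers of the punctured spectrum of a normal local domain. -/

universe u
set_option linter.style.haveILetI false
set_option autoImplicit false
open CategoryTheory CategoryTheory.Limits AlgebraicGeometry TopologicalSpace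

namespace Groth.Agent.H6.S2ExtPunct

/-- an open of the spectrum of a local ring containing the closed point is everything. -/
theorem eq_top_of_closedPoint_mem (A : Type u) [CommRing A] [IsLocalRing A]
    (O' : (Spec (CommRingCat.of A)).Opens) (h : IsLocalRing.closedPoint A ∈ O') : O' = ⊤ := by
  rw [eq_top_iff]
  intro x _
  exact (IsLocalRing.specializes_closedPoint x).mem_open O'.isOpen h

/-- the sections of a finite étale cover of an open `U` over an affine open contained in `U`
are étale. -/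
theorem app_etale_of_le {X : Scheme.{u}} (U : X.Opens) {W : Scheme.{u}}
    (w : W ⟶ (U : Scheme.{u})) [IsFinite w] [Etale w] (O : X.Opens) (hO : IsAffineOpen O)
    (hOU : O ≤ U) :
    ((w ≫ U.ι).app O).hom.Etale := by
  have hc : (w ≫ U.ι).app O = U.ι.app O ≫ w.app (U.ι ⁻¹ᵁ O) := Scheme.Hom.comp_app _ _ _
  haveI : IsIso (U.ι.app O) :=
    U.ι.isIso_app _ (by rw [Scheme.Opens.opensRange_ι]; exact hOU)
  have hO' : IsAffineOpen (U.ι ⁻¹ᵁ O) := by
    rw [← Scheme.Hom.isAffineOpen_iff_of_isOpenImmersion U.ι]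
    have : U.ι ''ᵁ (U.ι ⁻¹ᵁ O) = O := by
      rw [Scheme.Hom.image_preimage_eq_opensRange_inf, Scheme.Opens.opensRange_ι]
      exact inf_eq_right.mpr hOU
    rw [this]; exact hO
  have hb1 : Function.Bijective (U.ι.app O).hom := ConcreteCategory.bijective_of_isIso _
  have het : (w.app (U.ι ⁻¹ᵁ O)).hom.Etale := by
    rw [Scheme.Hom.app_eq_appLE]
    exact w.etale_appLE hO' (hO'.preimage w) le_rfl
  have e1 : ((w ≫ U.ι).app O).hom = (w.app (U.ι ⁻¹ᵁ O)).hom.comp (U.ι.app O).hom :=
    congrArg CommRingCat.Hom.hom hc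
  rw [e1]
  exact RingHom.Etale.stableUnderComposition _ _ (RingHom.Etale.of_bijective hb1) het

/-- **S1185**. -/
theorem s1185 (A : Type u) [CommRing A] [IsDomain A] [IsNoetherianRing A]
    [IsLocalRing A] [IsIntegrallyClosed A] (hdim : (2 : WithBot ℕ∞) ≤ ringKrullDim A)
    (V : FEt.Cat (FEt.puncturedSpec A : Scheme.{u})) :
    (((V.hom ≫ (FEt.puncturedSpec A).ι).appTop).hom.comp
      (Scheme.ΓSpecIso (CommRingCat.of A)).inv.hom).Finite ∧
    ((∃ Y : FEt.Cat (Spec (CommRingCat.of A)),
        Nonempty ((FEt.restrict (FEt.puncturedSpec A).ι).obj Y ≅ V)) ↔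
      (((V.hom ≫ (FEt.puncturedSpec A).ι).appTop).hom.comp
        (Scheme.ΓSpecIso (CommRingCat.of A)).inv.hom).Etale) := by
  have hA : (2 : ℕ∞) ≤ LocCoh.depth A A :=
    Groth.Agent.H2.PicCodim2.two_le_depth_of_normal A hdim
  have hU : ∀ x : Spec (CommRingCat.of A), x ∉ FEt.puncturedSpec A →
      (2 : ℕ∞) ≤ LocCoh.depth ((Spec (CommRingCat.of A)).presheaf.stalk x)
        ((Spec (CommRingCat.of A)).presheaf.stalk x) := by
    intro x hx
    have hxc : x = IsLocalRing.closedPoint A := by
      by_contra hne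
      exact hx hne
    subst hxc
    rw [Groth.Agent.H1.FEtDepth2.depth_stalk_closedPoint]
    exact hA
  haveI : IsFinite V.hom := V.prop.1
  haveI : Etale V.hom := V.prop.2
  have hfin : ∀ O' : (Spec (CommRingCat.of A)).Opens, IsAffineOpen O' →
      ((V.hom ≫ (FEt.puncturedSpec A).ι).app O').hom.Finite :=
    fun O' hO' => S2ExtGeo.app_finite (FEt.puncturedSpec A) hU V.hom O' hO'
  have hb : Function.Bijective (Scheme.ΓSpecIso (CommRingCat.of A)).inv.hom :=
    ConcreteCategory.bijective_of_isIso _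
  refine ⟨RingHom.Finite.comp (hfin ⊤ (isAffineOpen_top _)) (RingHom.Finite.of_surjective _ hb.2),
    ?_, ?_⟩
  · intro hV
    exact (PiDepth.s0263 A hA V hV).2
  · intro hE
    have hEt : ((V.hom ≫ (FEt.puncturedSpec A).ι).app ⊤).hom.Etale :=
      (RingHom.Etale.respectsIso.cancel_left_isIso (Scheme.ΓSpecIso (CommRingCat.of A)).inv
        ((V.hom ≫ (FEt.puncturedSpec A).ι).app ⊤)).mp hE
    have hB : ∀ O' : (Spec (CommRingCat.of A)).Opens, IsAffineOpen O' →
        ((V.hom ≫ (FEt.puncturedSpec A).ι).app O').hom.Finite ∧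
          ((V.hom ≫ (FEt.puncturedSpec A).ι).app O').hom.Etale := by
      intro O' hO'
      refine ⟨hfin O' hO', ?_⟩
      by_cases hc : IsLocalRing.closedPoint A ∈ O'
      · have hO'top : O' = ⊤ := eq_top_of_closedPoint_mem A O' hc
        subst hO'top
        exact hEt
      · refine app_etale_of_le (FEt.puncturedSpec A) V.hom O' hO' ?_
        intro x hx hxc
        apply hc
        have : x = IsLocalRing.closedPoint A := hxc
        rw [← this]; exact hx
    obtain ⟨Y, π, hπf, hπe, e, he⟩ :=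
      PurePairMain.exists_extension (FEt.puncturedSpec A).ι V.hom hB
    exact ⟨MorphismProperty.Over.mk ⊤ π ⟨hπf, hπe⟩,
      ⟨MorphismProperty.Over.isoMk e he⟩⟩

end Groth.Agent.H6.S2ExtPunct
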