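import Mathlib
import Groth.Prelude

set_option autoImplicit false
universe u v
open IsLocalRing

set_option linter.unusedSectionVars false
set_option linter.unusedSimpArgs false
set_option linter.style.haveILetI false
namespace Groth.Agent.H6.ZN

variable {A : Type u} [CommRing A] (I : Ideal A) (M : Type v) [AddCommGroup M] [Module A M]

/-- no nonzero element of `M` is killed by a power of `I`. -/
def TorsFree : Prop := ∀ b : M, (∃ N : ℕ, ∀ a ∈ I ^ N, a • b = 0) → b = 0

/-- `M/tM` has no `I`-power torsion (elementwise form). -/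
def Sat (t : A) : Prop :=
  ∀ b : M, (∃ N : ℕ, ∀ a ∈ I ^ N, ∃ c : M, a • b = t • c) → ∃ c : M, b = t • c

variable {I M}

theorem torsFree_of_regular (t : A) (ht : t ∈ I) (hreg : IsSMulRegular M t) : TorsFree I M := by
  intro b ⟨N, hN⟩
  have h1 := hN (t ^ N) (Ideal.pow_mem_pow ht N)
  exact (hreg.pow N) (by show t ^ N • b = t ^ N • 0; rw [h1, smul_zero])

theorem Sat.pow {t : A} (hreg : IsSMulRegular M t) (h : Sat I M t) (k : ℕ) : Sat I M (t ^ k) := by
  induction k with
  | zero =>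
    intro b _
    exact ⟨b, by rw [pow_zero, one_smul]⟩
  | succ k ih =>
    intro b ⟨N, hN⟩
    obtain ⟨c, rfl⟩ := h b ⟨N, fun a ha => by
      obtain ⟨c, hc⟩ := hN a ha
      exact ⟨t ^ k • c, by rw [hc, pow_succ', mul_smul]⟩⟩
    obtain ⟨c', rfl⟩ := ih c ⟨N, fun a ha => by
      obtain ⟨d, hd⟩ := hN a ha
      refine ⟨d, hreg ?_⟩
      show t • a • c = t • t ^ k • d
      rw [smul_comm t a c, hd, pow_succ', mul_smul]⟩
    exact ⟨c', by rw [pow_succ', mul_smul]⟩

/-- independence of the regular element. -/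
theorem Sat.indep {s t : A} (ht : t ∈ I) (hs : IsSMulRegular M s) (ht' : IsSMulRegular M t)
    (h : Sat I M t) : Sat I M s := by
  intro b ⟨N, hN⟩
  obtain ⟨c, hc⟩ := hN (t ^ N) (Ideal.pow_mem_pow ht N)
  obtain ⟨c', rfl⟩ := h.pow ht' N c ⟨N, fun a ha => by
    obtain ⟨d, hd⟩ := hN a ha
    refine ⟨d, hs ?_⟩
    show s • a • c = s • t ^ N • d
    rw [smul_comm s a c, ← hc, smul_comm a (t ^ N) b, hd, smul_comm (t ^ N) s d]⟩
  refine ⟨c', (ht'.pow N) ?_⟩
  show t ^ N • b = t ^ N • s • c'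
  rw [hc, smul_comm s (t ^ N) c']

/-- the colon ideal. -/
def colon (P : Submodule A M) (b : M) : Ideal A where
  carrier := {a | a • b ∈ P}
  add_mem' := fun {a a'} ha ha' => by
    show (a + a') • b ∈ P
    rw [add_smul]; exact P.add_mem ha ha'
  zero_mem' := by
    show (0 : A) • b ∈ P
    rw [zero_smul]; exact P.zero_mem
  smul_mem' := fun c a ha => by
    show (c • a) • b ∈ P
    rw [smul_eq_mul, mul_smul]; exact P.smul_mem c ha

theorem mem_colon {P : Submodule A M} {b : M} {a : A} : a ∈ colon P b ↔ a • b ∈ P := Iff.rfl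

/-- powers of a finitely generated ideal: elementwise condition on generators suffices. -/
theorem exists_pow_of_forall_gen (hI : I.FG) (P : Submodule A M) (b : M) (S : Set A)
    (hS : Ideal.span S = I) (h : ∀ g ∈ S, ∃ N : ℕ, g ^ N • b ∈ P) :
    ∃ N : ℕ, ∀ a ∈ I ^ N, a • b ∈ P := by
  have h1 : I ≤ (colon P b).radical := by
    rw [← hS, Ideal.span_le]
    intro g hg
    obtain ⟨N, hN⟩ := h g hg
    exact ⟨N, hN⟩
  obtain ⟨k, hk⟩ := Ideal.exists_pow_le_of_le_radical_of_fg h1 hI
  exact ⟨k, fun a ha => hk ha⟩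

end Groth.Agent.H6.ZN
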