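import Mathlib
import Groth.Prelude
import Groth.Agent.Lib.Helper6.ZN1

set_option autoImplicit false
universe u v
open IsLocalRing

set_option linter.unusedSectionVars false
set_option linter.unusedSimpArgs false
set_option linter.style.haveILetI false
namespace Groth.Agent.H6.ZN

variable {A : Type u} [CommRing A] (M : Type v) [AddCommGroup M] [Module A M]

/-- `x, y` is a (weakly) regular sequence on `M`, elementwise. -/
def RegPair (x y : A) : Prop :=
  IsSMulRegular M x ∧ ∀ b c : M, y • b = x • c → ∃ b' : M, b = x • b'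

/-- `x, y, z` is a (weakly) regular sequence on `M`, elementwise. -/
def RegTriple (x y z : A) : Prop :=
  RegPair M x y ∧ ∀ v a b : M, z • v = x • a + y • b → ∃ a' b' : M, v = x • a' + y • b'

variable {M}

theorem RegPair.pow_left {x y : A} (h : RegPair M x y) (n : ℕ) : RegPair M (x ^ n) y := by
  refine ⟨h.1.pow n, ?_⟩
  induction n with
  | zero =>
    intro b c _
    exact ⟨b, by rw [pow_zero, one_smul]⟩
  | succ n ih =>
    intro b c hbc
    obtain ⟨b', rfl⟩ := h.2 b (x ^ n • c) (by rw [hbc, pow_succ', mul_smul])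
    obtain ⟨b'', rfl⟩ := ih b' c (h.1 (by
      show x • y • b' = x • x ^ n • c
      rw [smul_comm x y b', hbc, pow_succ', mul_smul]))
    exact ⟨b'', by rw [pow_succ', mul_smul]⟩

theorem RegPair.pow_right {x y : A} (h : RegPair M x y) (k : ℕ) : RegPair M x (y ^ k) := by
  refine ⟨h.1, ?_⟩
  induction k with
  | zero =>
    intro b c hbc
    exact ⟨c, by rw [← hbc, pow_zero, one_smul]⟩
  | succ k ih =>
    intro b c hbc
    obtain ⟨b', hb'⟩ := h.2 (y ^ k • b) c (by rw [← hbc, pow_succ', mul_smul])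
    exact ih b b' hb'

theorem RegPair.pow {x y : A} (h : RegPair M x y) (n k : ℕ) : RegPair M (x ^ n) (y ^ k) :=
  (h.pow_left n).pow_right k

/-- `y` is regular on `M/xM` in the sense needed. -/
theorem RegPair.regular_right {x y : A} (h : RegPair M x y) (b : M) (hb : ∃ c, y • b = x • c) :
    ∃ b', b = x • b' := by
  obtain ⟨c, hc⟩ := hb
  exact h.2 b c hc

theorem RegTriple.pow_left {x y z : A} (h : RegTriple M x y z) (n : ℕ) :
    RegTriple M (x ^ n) y z := by
  refine ⟨h.1.pow_left n, ?_⟩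
  induction n with
  | zero =>
    intro v a b _
    exact ⟨v, 0, by rw [pow_zero, one_smul, smul_zero, add_zero]⟩
  | succ n ih =>
    intro v a b hv
    obtain ⟨v₁, v₂, rfl⟩ := h.2 v (x ^ n • a) b (by rw [hv, pow_succ', mul_smul])
    -- x (z v₁ - x^n a) = y (b - z v₂)
    have h1 : y • (b - z • v₂) = x • (z • v₁ - x ^ n • a) := by
      have : z • (x • v₁ + y • v₂) = x • (x ^ n • a) + y • b := by
        rw [hv, pow_succ', mul_smul]
      rw [smul_sub, smul_sub, smul_comm x z v₁, smul_comm y z v₂]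
      rw [smul_add] at this
      rw [sub_eq_sub_iff_add_eq_add, this, add_comm]
    obtain ⟨w, hw⟩ := h.1.2 _ _ h1
    have h2 : z • v₁ = x ^ n • a + y • w := by
      have h3 : x • (z • v₁ - x ^ n • a) = x • (y • w) := by
        rw [← h1, hw, smul_comm y x w]
      have h4 := h.1.1 h3
      rw [sub_eq_iff_eq_add] at h4
      rw [h4, add_comm]
    obtain ⟨a', b', rfl⟩ := ih v₁ a w h2
    refine ⟨a', x • b' + v₂, ?_⟩
    rw [smul_add, smul_add, pow_succ', mul_smul, smul_comm x y b', add_assoc]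

theorem RegTriple.pow_mid {x y z : A} (h : RegTriple M x y z) (k : ℕ) :
    RegTriple M x (y ^ k) z := by
  refine ⟨h.1.pow_right k, ?_⟩
  induction k with
  | zero =>
    intro v a b _
    exact ⟨0, v, by rw [pow_zero, one_smul, smul_zero, zero_add]⟩
  | succ k ih =>
    intro v a b hv
    obtain ⟨v₁, v₂, rfl⟩ := h.2 v a (y ^ k • b) (by rw [hv, pow_succ', mul_smul])
    -- x (z v₁ - a) = y (y^k b - z v₂)
    have h1 : y • (y ^ k • b - z • v₂) = x • (z • v₁ - a) := by
      have : z • (x • v₁ + y • v₂) = x • a + y • (y ^ k • b) := by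
        rw [hv, pow_succ', mul_smul]
      rw [smul_sub, smul_sub, smul_comm x z v₁, smul_comm y z v₂]
      rw [smul_add] at this
      rw [sub_eq_sub_iff_add_eq_add, this, add_comm]
    obtain ⟨w, hw⟩ := h.1.2 _ _ h1
    have h2 : z • v₂ = x • (-w) + y ^ k • b := by
      rw [sub_eq_iff_eq_add] at hw
      rw [smul_neg]
      have := hw
      rw [this]
      abel
    obtain ⟨a', b', rfl⟩ := ih v₂ (-w) b h2
    refine ⟨v₁ + y • a', b', ?_⟩
    rw [smul_add, smul_add, pow_succ', mul_smul, smul_comm x y a', add_assoc]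

theorem RegTriple.pow {x y z : A} (h : RegTriple M x y z) (n k : ℕ) :
    RegTriple M (x ^ n) (y ^ k) z :=
  (h.pow_left n).pow_mid k

/-- `M/(x,y)M` has no `I`-torsion if `z ∈ I`. -/
theorem RegTriple.mem_of_pow_smul_mem {x y z : A} (h : RegTriple M x y z) (N : ℕ) (v : M)
    (hv : ∃ a b : M, z ^ N • v = x • a + y • b) : ∃ a b : M, v = x • a + y • b := by
  induction N with
  | zero =>
    obtain ⟨a, b, hab⟩ := hv
    exact ⟨a, b, by rw [← hab, pow_zero, one_smul]⟩
  | succ N ih =>
    obtain ⟨a, b, hab⟩ := hv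
    apply ih
    obtain ⟨a', b', h'⟩ := h.2 (z ^ N • v) a b (by rw [← hab, pow_succ', mul_smul])
    exact ⟨a', b', h'⟩

end Groth.Agent.H6.ZN
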