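import Mathlib
import Groth.Prelude
import Groth.Agent.Lib.Helper6.ZN2

set_option autoImplicit false
universe u v
open IsLocalRing RingTheory.Sequence

set_option linter.unusedSectionVars false
set_option linter.unusedSimpArgs false
set_option linter.style.haveILetI false
namespace Groth.Agent.H6.ZN

variable {A : Type u} [CommRing A] {M : Type v} [AddCommGroup M] [Module A M]

theorem quotSMulTop_mk_eq_zero (x : A) (b : M) :
    (Submodule.Quotient.mk b : QuotSMulTop x M) = 0 ↔ ∃ c : M, b = x • c := by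
  rw [Submodule.Quotient.mk_eq_zero, Submodule.mem_smul_pointwise_iff_exists]
  constructor
  · rintro ⟨c, -, hc⟩
    exact ⟨c, hc.symm⟩
  · rintro ⟨c, hc⟩
    exact ⟨c, trivial, hc.symm⟩

theorem regPair_of_regular (x y : A) (hx : IsSMulRegular M x)
    (hy : IsSMulRegular (QuotSMulTop x M) y) : RegPair M x y := by
  refine ⟨hx, ?_⟩
  intro b c hbc
  have h1 : y • (Submodule.Quotient.mk b : QuotSMulTop x M) = 0 := by
    rw [← Submodule.Quotient.mk_smul, hbc, quotSMulTop_mk_eq_zero]
    exact ⟨c, rfl⟩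
  have h2 : (Submodule.Quotient.mk b : QuotSMulTop x M) = 0 := hy (by
    show y • (Submodule.Quotient.mk b : QuotSMulTop x M) = y • 0
    rw [h1, smul_zero])
  exact (quotSMulTop_mk_eq_zero x b).mp h2

theorem regPair_of_isWeaklyRegular {x y : A} (h : IsWeaklyRegular M [x, y]) : RegPair M x y := by
  rw [isWeaklyRegular_cons_iff, isWeaklyRegular_singleton_iff] at h
  exact regPair_of_regular x y h.1 h.2

theorem regTriple_of_isWeaklyRegular {x y z : A} (h : IsWeaklyRegular M [x, y, z]) :
    RegTriple M x y z := by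
  rw [isWeaklyRegular_cons_iff, isWeaklyRegular_cons_iff, isWeaklyRegular_singleton_iff] at h
  obtain ⟨hx, hy, hz⟩ := h
  refine ⟨regPair_of_regular x y hx hy, ?_⟩
  intro v a b hv
  have h1 : z • (Submodule.Quotient.mk (Submodule.Quotient.mk v : QuotSMulTop x M) :
      QuotSMulTop y (QuotSMulTop x M)) = 0 := by
    rw [← Submodule.Quotient.mk_smul, ← Submodule.Quotient.mk_smul, hv, quotSMulTop_mk_eq_zero]
    refine ⟨Submodule.Quotient.mk b, ?_⟩
    rw [Submodule.Quotient.mk_add, Submodule.Quotient.mk_smul _ y b, add_eq_right,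
      quotSMulTop_mk_eq_zero]
    exact ⟨a, rfl⟩
  have h2 : (Submodule.Quotient.mk (Submodule.Quotient.mk v : QuotSMulTop x M) :
      QuotSMulTop y (QuotSMulTop x M)) = 0 := hz (by
    show z • _ = z • 0
    rw [h1, smul_zero])
  obtain ⟨w, hw⟩ := (quotSMulTop_mk_eq_zero y _).mp h2
  obtain ⟨w', rfl⟩ := Submodule.Quotient.mk_surjective _ w
  rw [← Submodule.Quotient.mk_smul, ← sub_eq_zero, ← Submodule.Quotient.mk_sub,
    quotSMulTop_mk_eq_zero] at hw
  obtain ⟨a', ha'⟩ := hw
  exact ⟨a', w', by rw [← ha']; abel⟩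

/-- A weakly regular sequence of the ring is weakly regular on every flat module. -/
theorem isWeaklyRegular_of_flat (M : Type v) [AddCommGroup M]
    [Module A M] [Module.Flat A M] (rs : List A) (h : IsWeaklyRegular A rs) :
    IsWeaklyRegular M rs :=
  ((TensorProduct.lid A M).isWeaklyRegular_congr rs).mp (h.isWeaklyRegular_rTensor (M₂ := M))

end Groth.Agent.H6.ZN
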