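import Mathlib
import Groth.Prelude
import Groth.Agent.Lib.Helper6.ZN2b

set_option autoImplicit false
universe u v
open IsLocalRing

set_option linter.unusedSectionVars false
set_option linter.unusedSimpArgs false
set_option linter.style.haveILetI false
namespace Groth.Agent.H6.ZN

theorem algebraMap_mem_nonZeroDivisors {R : Type u} [CommRing R] {S : Type u} [CommRing S]
    [Algebra R S] {y : R} (hy : IsSMulRegular S y) : algebraMap R S y ∈ nonZeroDivisors S := by
  have h1 : IsSMulRegular S (algebraMap R S y) := (isSMulRegular_algebraMap_iff S).mpr hy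
  have h2 : IsLeftRegular (algebraMap R S y) := h1.isLeftRegular
  rw [← isRegular_iff_mem_nonZeroDivisors]
  exact isLeftRegular_iff_isRegular.mp h2

variable {R : Type u} [CommRing R] (I : Ideal R) (S : Type u) [CommRing S] [Algebra R S] (y : R)

/-- sections over the complement of `V(I)`, inside the localization at `y`. -/
def Gam : Subalgebra R (Localization.Away (algebraMap R S y)) where
  carrier := {β | ∀ g ∈ I, ∃ N : ℕ,
    g ^ N • β ∈ Set.range (algebraMap S (Localization.Away (algebraMap R S y)))}
  mul_mem' := by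
    intro β γ hβ hγ g hg
    obtain ⟨N, s, hs⟩ := hβ g hg
    obtain ⟨N', s', hs'⟩ := hγ g hg
    refine ⟨N + N', s * s', ?_⟩
    rw [map_mul, hs, hs', pow_add, smul_mul_smul_comm]
  add_mem' := by
    intro β γ hβ hγ g hg
    obtain ⟨N, s, hs⟩ := hβ g hg
    obtain ⟨N', s', hs'⟩ := hγ g hg
    refine ⟨N + N', g ^ N' • s + g ^ N • s', ?_⟩
    rw [map_add, smul_add, Algebra.smul_def (g ^ N') s, Algebra.smul_def (g ^ N) s', map_mul,
      map_mul, hs, hs', ← IsScalarTower.algebraMap_apply, ← IsScalarTower.algebraMap_apply,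
      ← Algebra.smul_def, ← Algebra.smul_def, smul_smul, smul_smul, pow_add, mul_comm]
  algebraMap_mem' := by
    intro r g _
    refine ⟨0, algebraMap R S r, ?_⟩
    rw [pow_zero, one_smul, ← IsScalarTower.algebraMap_apply]

variable {I S y}

theorem mem_Gam {β : Localization.Away (algebraMap R S y)} : β ∈ Gam I S y ↔ ∀ g ∈ I, ∃ N : ℕ,
    g ^ N • β ∈ Set.range (algebraMap S (Localization.Away (algebraMap R S y))) := Iff.rfl

variable (I S y)

/-- the map `S → Γ`. -/
noncomputable def toGam : S →ₐ[R] Gam I S y :=
  (IsScalarTower.toAlgHom R S (Localization.Away (algebraMap R S y))).codRestrict (Gam I S y)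
    (fun s g _ => ⟨0, s, by rw [pow_zero, one_smul]; rfl⟩)

theorem toGam_coe (s : S) : ((toGam I S y s : Gam I S y) : Localization.Away (algebraMap R S y)) =
    algebraMap S _ s := rfl

theorem toGam_injective (hy : IsSMulRegular S y) : Function.Injective (toGam I S y) := by
  intro s s' h
  have h1 : algebraMap S (Localization.Away (algebraMap R S y)) s = algebraMap S _ s' := by
    rw [← toGam_coe I S y s, ← toGam_coe I S y s', h]
  refine IsLocalization.injective (Localization.Away (algebraMap R S y))
    (M := Submonoid.powers (algebraMap R S y)) ?_ h1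
  rintro _ ⟨n, rfl⟩
  exact pow_mem (algebraMap_mem_nonZeroDivisors hy) n

theorem exists_pow_smul_eq (β : Gam I S y) (g : R) (hg : g ∈ I) :
    ∃ (N : ℕ) (s : S), g ^ N • β = toGam I S y s := by
  obtain ⟨N, s, hs⟩ := β.2 g hg
  exact ⟨N, s, Subtype.ext hs.symm⟩


theorem isUnit_algebraMap_y : IsUnit (algebraMap R (Localization.Away (algebraMap R S y)) y) := by
  rw [IsScalarTower.algebraMap_apply R S (Localization.Away (algebraMap R S y))]
  exact IsLocalization.Away.algebraMap_isUnit _

theorem isSMulRegular_Gam : IsSMulRegular (Gam I S y) y := by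
  intro β β' h
  apply Subtype.ext
  have h1 : y • (β : Localization.Away (algebraMap R S y)) = y • (β' : _) :=
    congrArg Subtype.val h
  rw [Algebra.smul_def, Algebra.smul_def] at h1
  exact (isUnit_algebraMap_y S y).mul_left_cancel h1

theorem sat_Gam : Sat I (Gam I S y) y := by
  rintro b ⟨N, hN⟩
  obtain ⟨u, hu⟩ := isUnit_algebraMap_y S y
  have hγ : (↑u⁻¹ * (b : Localization.Away (algebraMap R S y))) ∈ Gam I S y := by
    intro g hg
    obtain ⟨c, hc⟩ := hN (g ^ N) (Ideal.pow_mem_pow hg N)
    have hc' : g ^ N • (b : Localization.Away (algebraMap R S y)) = y • (c : _) :=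
      congrArg Subtype.val hc
    obtain ⟨N', s, hs⟩ := c.2 g hg
    refine ⟨N' + N, s, ?_⟩
    rw [hs, pow_add, mul_smul, ← mul_smul_comm, hc', Algebra.smul_def y, ← hu, ← mul_assoc,
      Units.inv_mul, one_mul]
  refine ⟨⟨_, hγ⟩, Subtype.ext ?_⟩
  show (b : Localization.Away (algebraMap R S y)) = y • (↑u⁻¹ * (b : _))
  rw [Algebra.smul_def, ← hu, ← mul_assoc, Units.mul_inv, one_mul]


/-- if `S → T` is injective and an isomorphism up to `g`-power torsion then `S_g ≅ T_g`; transfer
of étaleness. -/
theorem etale_away_of_iso_up_to {T : Type u} [CommRing T] [Algebra R T] (φ : S →ₐ[R] T)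
    (hφ : Function.Injective φ) (g : R) (hT : ∀ t : T, ∃ (N : ℕ) (s : S), g ^ N • t = φ s)
    [Algebra.Etale R (Localization.Away (algebraMap R S g))] :
    Algebra.Etale R (Localization.Away (algebraMap R T g)) := by
  letI alg : Algebra S (Localization.Away (algebraMap R T g)) :=
    ((algebraMap T (Localization.Away (algebraMap R T g))).comp φ.toRingHom).toAlgebra
  have halg : ∀ s : S, algebraMap S (Localization.Away (algebraMap R T g)) s =
      algebraMap T _ (φ s) := fun s => rfl
  haveI : IsScalarTower R S (Localization.Away (algebraMap R T g)) :=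
    IsScalarTower.of_algebraMap_eq (fun r => by
      rw [halg, φ.commutes, ← IsScalarTower.algebraMap_apply])
  haveI : IsLocalization.Away (algebraMap R S g) (Localization.Away (algebraMap R T g)) := by
    refine IsLocalization.Away.mk _ ?_ ?_ ?_
    · rw [halg, φ.commutes]
      exact IsLocalization.Away.algebraMap_isUnit _
    · intro ξ
      obtain ⟨n, t, ht⟩ := IsLocalization.Away.surj (algebraMap R T g) ξ
      obtain ⟨N, s, hs⟩ := hT t
      refine ⟨n + N, s, ?_⟩
      rw [halg, halg, ← hs, pow_add, ← mul_assoc, φ.commutes, ht, Algebra.smul_def, map_mul,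
        map_pow, mul_comm, map_pow]
    · intro a b hab
      rw [halg, halg] at hab
      obtain ⟨n, hn⟩ := IsLocalization.Away.exists_of_eq (algebraMap R T g) hab
      refine ⟨n, hφ ?_⟩
      rw [map_mul, map_mul, map_pow, φ.commutes, hn]
  let e : Localization.Away (algebraMap R S g) ≃ₐ[S] Localization.Away (algebraMap R T g) :=
    IsLocalization.algEquiv (Submonoid.powers (algebraMap R S g)) _ _
  exact Algebra.Etale.of_equiv (e.restrictScalars R)

end Groth.Agent.H6.ZN
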