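import Mathlib
import Groth.Prelude
import Groth.Agent.Lib.Helper6.ZN3

set_option autoImplicit false
universe u v
open IsLocalRing

set_option linter.unusedSectionVars false
set_option linter.unusedSimpArgs false
set_option linter.style.haveILetI false
namespace Groth.Agent.H6.ZN

/-- If `M_x` is projective then a power of `x` on `M` factors through a finite free module. -/
theorem exists_factor_through_free (A : Type u) [CommRing A] (M : Type u) [AddCommGroup M]
    [Module A M] [Module.FinitePresentation A M] (x : A) (hx : IsSMulRegular M x)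
    [hproj : Module.Projective (Localization (Submonoid.powers x))
      (LocalizedModule (Submonoid.powers x) M)] :
    ∃ (r : ℕ) (α : M →ₗ[A] (Fin r → A)) (β : (Fin r → A) →ₗ[A] M) (N : ℕ),
      ∀ m, β (α m) = x ^ N • m := by
  classical
  set S := Submonoid.powers x with hS
  set Ax := Localization S
  set P := LocalizedModule S M
  obtain ⟨n, f, hf⟩ := Module.Finite.exists_fin' Ax P
  obtain ⟨g, hg⟩ := Module.projective_lifting_property f LinearMap.id hf
  -- the localisation map on `Fin n → A`
  let loc : (Fin n → A) →ₗ[A] (Fin n → Ax) :=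
    LinearMap.pi fun i => (Algebra.linearMap A Ax) ∘ₗ LinearMap.proj i
  haveI : IsLocalizedModule S loc :=
    IsLocalizedModule.pi (S := S) (fun _ : Fin n => Algebra.linearMap A Ax)
  let g' : M →ₗ[A] (Fin n → Ax) := (g.restrictScalars A) ∘ₗ (LocalizedModule.mkLinearMap S M)
  obtain ⟨α, ⟨_, J, rfl⟩, hα⟩ :=
    Module.FinitePresentation.exists_lift_of_isLocalizedModule S loc g'
  -- β
  have hsurj : ∀ i : Fin n, ∃ (k : ℕ) (m : M),
      (x ^ k) • f (Pi.single i 1) = LocalizedModule.mkLinearMap S M m := by
    intro i
    obtain ⟨⟨m, ⟨_, k, rfl⟩⟩, hm⟩ := IsLocalizedModule.surj S (LocalizedModule.mkLinearMap S M)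
      (f (Pi.single i 1))
    exact ⟨k, m, hm⟩
  choose k m hm using hsurj
  set K := ∑ i, k i with hK
  let m' : Fin n → M := fun i => x ^ (K - k i) • m i
  have hm' : ∀ i, (x ^ K) • f (Pi.single i 1) = LocalizedModule.mkLinearMap S M (m' i) := by
    intro i
    have hle : k i ≤ K := Finset.single_le_sum (f := k) (fun _ _ => Nat.zero_le _)
      (Finset.mem_univ i)
    rw [map_smul, ← hm i, smul_smul, ← pow_add, Nat.sub_add_cancel hle]
  let β : (Fin n → A) →ₗ[A] M := Fintype.linearCombination A m'
  refine ⟨n, α, β, K + J, fun b => ?_⟩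
  have hinj : Function.Injective (LocalizedModule.mkLinearMap S M) := by
    intro a a' h
    rw [← sub_eq_zero, ← map_sub, IsLocalizedModule.eq_zero_iff S] at h
    obtain ⟨⟨_, j, rfl⟩, hj⟩ := h
    have := (hx.pow j) (by
      show x ^ j • (a - a') = x ^ j • 0
      rw [smul_zero]; exact hj)
    exact sub_eq_zero.mp this
  apply hinj
  -- compute
  have h1 : ∀ i, algebraMap A Ax (α b i) = (x ^ J) • (g (LocalizedModule.mkLinearMap S M b) i) := by
    intro i
    have := congrArg (fun v => v i) (LinearMap.congr_fun hα b)
    exact this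
  show LocalizedModule.mkLinearMap S M (Fintype.linearCombination A m' (α b)) = _
  rw [Fintype.linearCombination_apply, map_sum]
  have h2 : ∀ i, LocalizedModule.mkLinearMap S M (α b i • m' i) =
      (x ^ K) • ((algebraMap A Ax (α b i)) • f (Pi.single i 1)) := by
    intro i
    rw [map_smul, ← hm' i, smul_comm, algebraMap_smul]
  rw [Finset.sum_congr rfl (fun i _ => h2 i), ← Finset.smul_sum]
  have h3 : ∑ i, (algebraMap A Ax (α b i)) • f (Pi.single i 1) =
      (x ^ J) • f (g (LocalizedModule.mkLinearMap S M b)) := by
    have h4 : g (LocalizedModule.mkLinearMap S M b) =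
        ∑ i, (g (LocalizedModule.mkLinearMap S M b) i) • (Pi.single i 1 : Fin n → Ax) := by
      ext j
      simp [Finset.sum_apply, Pi.single_apply]
    conv_rhs => rw [h4, map_sum, Finset.smul_sum]
    refine Finset.sum_congr rfl (fun i _ => ?_)
    rw [h1 i, map_smul, smul_assoc]
  rw [h3, ← LinearMap.comp_apply, hg, LinearMap.id_apply, smul_smul, ← pow_add, map_smul]

end Groth.Agent.H6.ZN
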