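import Mathlib
import Groth.Prelude
import Groth.Agent.Lib.Helper6.ZN4

set_option autoImplicit false
universe u v
open IsLocalRing

set_option linter.unusedSectionVars false
set_option linter.unusedSimpArgs false
set_option linter.style.haveILetI false
namespace Groth.Agent.H6.ZN

theorem projective_localizedModule_of_flat (A : Type u) [CommRing A] [IsNoetherianRing A]
    (B : Type u) [CommRing B] [Algebra A B] [Module.Finite A B] (x : A)
    [Module.Flat A (Localization.Away (algebraMap A B x))] :
    Module.Projective (Localization (Submonoid.powers x))
      (LocalizedModule (Submonoid.powers x) B) := by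
  haveI : Module.FinitePresentation A B := Module.finitePresentation_of_finite A B
  let e : LocalizedModule (Submonoid.powers x) B ≃ₗ[A] Localization.Away (algebraMap A B x) :=
    IsLocalizedModule.iso (Submonoid.powers x)
      (IsScalarTower.toAlgHom A B (Localization.Away (algebraMap A B x))).toLinearMap
  haveI : Module.Flat A (LocalizedModule (Submonoid.powers x) B) :=
    Module.Flat.of_linearEquiv e
  haveI : Module.Flat (Localization (Submonoid.powers x))
      (LocalizedModule (Submonoid.powers x) B) :=
    (Module.flat_iff_of_isLocalization (Localization (Submonoid.powers x))
      (Submonoid.powers x) _).mpr inferInstance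
  exact Module.Flat.projective_of_finitePresentation

theorem exists_factor_of_flat (A : Type u) [CommRing A] [IsNoetherianRing A]
    (B : Type u) [CommRing B] [Algebra A B] [Module.Finite A B] (x : A)
    (hx : IsSMulRegular B x)
    [Module.Flat A (Localization.Away (algebraMap A B x))] :
    ∃ (r : ℕ) (α : B →ₗ[A] (Fin r → A)) (β : (Fin r → A) →ₗ[A] B) (N : ℕ),
      ∀ m, β (α m) = x ^ N • m := by
  haveI : Module.FinitePresentation A B := Module.finitePresentation_of_finite A B
  haveI := projective_localizedModule_of_flat A B x
  exact exists_factor_through_free A B x hx

end Groth.Agent.H6.ZN
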