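import Mathlib
import Groth.Prelude
import Groth.Agent.Lib.Helper6.ZN4b

set_option autoImplicit false
universe u v
open IsLocalRing

set_option linter.unusedSectionVars false
set_option linter.unusedSimpArgs false
set_option linter.style.haveILetI false
namespace Groth.Agent.H6.ZN

variable {A : Type u} [CommRing A]

theorem RegPair.pi {ι : Type*} {M : Type v} [AddCommGroup M] [Module A M] {x y : A}
    (h : RegPair M x y) : RegPair (ι → M) x y := by
  classical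
  refine ⟨fun v w hvw => funext fun i => h.1 (congrFun hvw i), ?_⟩
  intro b c hbc
  have h1 : ∀ i, ∃ b', b i = x • b' := fun i => h.2 (b i) (c i) (congrFun hbc i)
  choose b' hb' using h1
  exact ⟨b', funext hb'⟩

theorem RegTriple.pi {ι : Type*} {M : Type v} [AddCommGroup M] [Module A M] {x y z : A}
    (h : RegTriple M x y z) : RegTriple (ι → M) x y z := by
  classical
  refine ⟨h.1.pi, ?_⟩
  intro v a b hv
  have h1 : ∀ i, ∃ a' b', v i = x • a' + y • b' := fun i =>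
    h.2 (v i) (a i) (b i) (congrFun hv i)
  choose a' b' hab using h1
  exact ⟨a', b', funext hab⟩

/-- the uniform annihilation argument. -/
theorem mem_of_pow_smul_mem_of_factor {x y z : A} (hA : RegTriple A x y z)
    {B : Type u} [AddCommGroup B] [Module A B] (hB : RegPair B x y)
    {r : ℕ} (α : B →ₗ[A] (Fin r → A)) (β : (Fin r → A) →ₗ[A] B) (N₀ : ℕ)
    (hαβ : ∀ m, β (α m) = x ^ N₀ • m) (n k : ℕ) (hn : N₀ < n) (b : B)
    (hb : ∃ (N : ℕ) (b₁ b₂ : B), z ^ N • b = x ^ n • b₁ + y ^ k • b₂) :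
    ∃ b₁ b₃ : B, b = x • b₁ + y ^ k • b₃ := by
  obtain ⟨N, b₁, b₂, hb⟩ := hb
  have h1 : z ^ N • α b = x ^ n • α b₁ + y ^ k • α b₂ := by
    rw [← map_smul, hb, map_add, map_smul, map_smul]
  obtain ⟨v₁, v₂, hv⟩ := ((hA.pi (ι := Fin r)).pow n k).mem_of_pow_smul_mem N (α b) ⟨_, _, h1⟩
  have h2 : x ^ N₀ • b = x ^ n • β v₁ + y ^ k • β v₂ := by
    rw [← hαβ, hv, map_add, map_smul, map_smul]
  obtain ⟨j, rfl⟩ := Nat.exists_eq_add_of_lt hn
  -- x^N₀ (b - x^(j+1) β v₁) = y^k β v₂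
  have h3 : y ^ k • β v₂ = x ^ N₀ • (b - x ^ (j + 1) • β v₁) := by
    rw [smul_sub, h2, smul_smul, ← pow_add, add_assoc]
    abel
  obtain ⟨b₃, hb₃⟩ := (hB.pow N₀ k).2 _ _ h3
  have h4 : x ^ N₀ • (b - x ^ (j + 1) • β v₁) = x ^ N₀ • (y ^ k • b₃) := by
    rw [← h3, hb₃, smul_comm]
  have h5 := (hB.1.pow N₀) h4
  refine ⟨x ^ j • β v₁, b₃, ?_⟩
  rw [sub_eq_iff_eq_add] at h5
  rw [h5, smul_smul, ← pow_succ', add_comm]

end Groth.Agent.H6.ZN
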