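import Mathlib
import Groth.Prelude
import Groth.Agent.Lib.Helper6.ZN5

set_option autoImplicit false
universe u v
open IsLocalRing

set_option linter.unusedSectionVars false
set_option linter.unusedSimpArgs false
set_option linter.style.haveILetI false
namespace Groth.Agent.H6.ZN

section Away

variable {A : Type u} [CommRing A]

/-- `X[1/a]` for an `A`-algebra `X` and `a : A`. -/
abbrev Aw (X : Type u) [CommRing X] [Algebra A X] (a : A) : Type u :=
  Localization.Away (algebraMap A X a)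

variable (X : Type u) [CommRing X] [Algebra A X] (a : A)

theorem aw_isUnit : IsUnit (algebraMap A (Aw X a) a) := isUnit_algebraMap_y X a

/-- the lift. -/
noncomputable def awLift {P : Type u} [CommRing P] [Algebra A P] (f : X →ₐ[A] P)
    (h : IsUnit (algebraMap A P a)) : Aw X a →ₐ[A] P :=
  IsLocalization.liftAlgHom (M := Submonoid.powers (algebraMap A X a)) (f := f) (fun y => by
    obtain ⟨_, n, rfl⟩ := y
    show IsUnit (f ((algebraMap A X a) ^ n))
    rw [map_pow, f.commutes]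
    exact h.pow n)

theorem awLift_algebraMap {P : Type u} [CommRing P] [Algebra A P] (f : X →ₐ[A] P)
    (h : IsUnit (algebraMap A P a)) (s : X) :
    awLift X a f h (algebraMap X (Aw X a) s) = f s :=
  IsLocalization.lift_eq _ s

theorem aw_algHom_ext {P : Type u} [CommRing P] [Algebra A P] (f₁ f₂ : Aw X a →ₐ[A] P)
    (h : ∀ s : X, f₁ (algebraMap X _ s) = f₂ (algebraMap X _ s)) : f₁ = f₂ := by
  apply AlgHom.coe_ringHom_injective
  apply IsLocalization.ringHom_ext (Submonoid.powers (algebraMap A X a))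
  ext s
  exact h s

theorem aw_surj (ξ : Aw X a) : ∃ (N : ℕ) (s : X), a ^ N • ξ = algebraMap X (Aw X a) s := by
  obtain ⟨N, s, hs⟩ := IsLocalization.Away.surj (algebraMap A X a) ξ
  refine ⟨N, s, ?_⟩
  rw [← hs, Algebra.smul_def, map_pow, IsScalarTower.algebraMap_apply A X (Aw X a), mul_comm]

theorem aw_eq_zero (s : X) (h : algebraMap X (Aw X a) s = 0) : ∃ N : ℕ, a ^ N • s = 0 := by
  rw [← map_zero (algebraMap X (Aw X a))] at h
  obtain ⟨N, hN⟩ := IsLocalization.Away.exists_of_eq (algebraMap A X a) h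
  refine ⟨N, ?_⟩
  rw [Algebra.smul_def, map_pow, hN, mul_zero]

variable {X}

/-- functoriality. -/
noncomputable def awMap {Y : Type u} [CommRing Y] [Algebra A Y] (π : X →ₐ[A] Y) (a : A) :
    Aw X a →ₐ[A] Aw Y a :=
  awLift X a ((IsScalarTower.toAlgHom A Y (Aw Y a)).comp π) (aw_isUnit Y a)

theorem awMap_algebraMap {Y : Type u} [CommRing Y] [Algebra A Y] (π : X →ₐ[A] Y) (a : A)
    (s : X) : awMap π a (algebraMap X (Aw X a) s) = algebraMap Y (Aw Y a) (π s) :=
  awLift_algebraMap X a _ _ s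

theorem awMap_surjective {Y : Type u} [CommRing Y] [Algebra A Y] (π : X →ₐ[A] Y) (a : A)
    (hπ : Function.Surjective π) : Function.Surjective (awMap π a) := by
  intro ξ
  obtain ⟨N, s, hs⟩ := aw_surj Y a ξ
  obtain ⟨t, rfl⟩ := hπ s
  obtain ⟨u, hu⟩ := aw_isUnit X a
  refine ⟨↑(u⁻¹ ^ N) * algebraMap X (Aw X a) t, ?_⟩
  obtain ⟨w, hw⟩ := aw_isUnit Y a
  have h1 : awMap π a (↑(u⁻¹ ^ N)) * (algebraMap A (Aw Y a) a) ^ N = 1 := by
    rw [← (awMap π a).commutes, ← map_pow, ← map_mul, ← hu, ← Units.val_pow_eq_pow_val,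
      ← Units.val_mul, ← mul_pow, inv_mul_cancel, one_pow, Units.val_one, map_one]
  rw [map_mul, awMap_algebraMap, ← hs, Algebra.smul_def, map_pow, ← mul_assoc, h1, one_mul]

theorem awMap_ker_nilpotent {Y : Type u} [CommRing Y] [Algebra A Y] (π : X →ₐ[A] Y) (a : A)
    (hπ : IsNilpotent (RingHom.ker (π : X →+* Y))) :
    IsNilpotent (RingHom.ker (awMap π a : Aw X a →+* Aw Y a)) := by
  obtain ⟨n, hn⟩ := hπ
  have h1 : RingHom.ker (awMap π a : Aw X a →+* Aw Y a) ≤
      Ideal.map (algebraMap X (Aw X a)) (RingHom.ker (π : X →+* Y)) := by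
    intro ξ hξ
    rw [RingHom.mem_ker] at hξ
    obtain ⟨N, s, hs⟩ := aw_surj X a ξ
    have h2 : algebraMap Y (Aw Y a) (π s) = 0 := by
      rw [← awMap_algebraMap, ← hs, map_smul]
      have : (awMap π a) ξ = 0 := hξ
      rw [this, smul_zero]
    obtain ⟨N', hN'⟩ := aw_eq_zero Y a _ h2
    have h3 : a ^ N' • s ∈ RingHom.ker (π : X →+* Y) := by
      rw [RingHom.mem_ker]
      show π (a ^ N' • s) = 0
      rw [map_smul, hN']
    obtain ⟨u, hu⟩ := aw_isUnit X a
    have h4 : ξ = ↑(u⁻¹ ^ (N' + N)) * algebraMap X (Aw X a) (a ^ N' • s) := by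
      have key : ((u⁻¹ ^ (N' + N) : (Aw X a)ˣ) : Aw X a) * (u : Aw X a) ^ (N' + N) = 1 := by
        rw [← Units.val_pow_eq_pow_val, ← Units.val_mul, ← mul_pow, inv_mul_cancel, one_pow,
          Units.val_one]
      rw [Algebra.smul_def, map_mul, ← IsScalarTower.algebraMap_apply, ← hs, Algebra.smul_def,
        map_pow, map_pow, ← hu, ← mul_assoc, ← mul_assoc,
        mul_assoc _ ((u : Aw X a) ^ N') ((u : Aw X a) ^ N), ← pow_add, key, one_mul]
    rw [h4]
    exact Ideal.mul_mem_left _ _ (Ideal.mem_map_of_mem _ h3)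
  refine ⟨n, ?_⟩
  rw [Ideal.zero_eq_bot, ← le_bot_iff]
  refine (Ideal.pow_right_mono h1 n).trans ?_
  rw [← Ideal.map_pow, hn, Ideal.zero_eq_bot, Ideal.map_bot]

end Away

end Groth.Agent.H6.ZN
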