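import Mathlib
import Groth.Prelude
import Groth.Agent.Lib.Helper6.ZN6a

set_option autoImplicit false
universe u v
open IsLocalRing

set_option linter.unusedSectionVars false
set_option linter.unusedSimpArgs false
set_option linter.style.haveILetI false
namespace Groth.Agent.H6.ZN

section Away2

variable {A : Type u} [CommRing A] (X : Type u) [CommRing X] [Algebra A X] (g y : A)

theorem aw_isUnit_right : IsUnit (algebraMap A (Aw X (g * y)) y) := by
  have h := aw_isUnit X (g * y)
  rw [map_mul (algebraMap A (Aw X (g * y))) g y] at h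
  exact isUnit_of_mul_isUnit_right h

theorem aw_isUnit_left : IsUnit (algebraMap A (Aw X (g * y)) g) := by
  have h := aw_isUnit X (g * y)
  rw [map_mul (algebraMap A (Aw X (g * y))) g y] at h
  exact isUnit_of_mul_isUnit_left h

theorem aw_algebraMap_smul (a b : A) (s : X) :
    algebraMap X (Aw X b) (a • s) = a • algebraMap X (Aw X b) s := by
  rw [Algebra.smul_def, Algebra.smul_def, map_mul, ← IsScalarTower.algebraMap_apply]

/-- `X[1/y] → X[1/(gy)]`. -/
noncomputable def awIncR : Aw X y →ₐ[A] Aw X (g * y) :=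
  awLift X y (IsScalarTower.toAlgHom A X (Aw X (g * y))) (aw_isUnit_right X g y)

/-- `X[1/g] → X[1/(gy)]`. -/
noncomputable def awIncL : Aw X g →ₐ[A] Aw X (g * y) :=
  awLift X g (IsScalarTower.toAlgHom A X (Aw X (g * y))) (aw_isUnit_left X g y)

theorem awIncR_algebraMap (s : X) :
    awIncR X g y (algebraMap X (Aw X y) s) = algebraMap X (Aw X (g * y)) s :=
  awLift_algebraMap X y _ _ s

theorem awIncL_algebraMap (s : X) :
    awIncL X g y (algebraMap X (Aw X g) s) = algebraMap X (Aw X (g * y)) s :=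
  awLift_algebraMap X g _ _ s

theorem awIncR_ker (ξ : Aw X y) (h : awIncR X g y ξ = 0) : ∃ N : ℕ, g ^ N • ξ = 0 := by
  obtain ⟨n, s, hs⟩ := aw_surj X y ξ
  have h1 : algebraMap X (Aw X (g * y)) s = 0 := by
    rw [← awIncR_algebraMap, ← hs, map_smul, h, smul_zero]
  obtain ⟨m, hm⟩ := aw_eq_zero X (g * y) s h1
  refine ⟨m, ?_⟩
  obtain ⟨u, hu⟩ := aw_isUnit X y
  have h2 : g ^ m • (y ^ (m + n) • ξ) = 0 := by
    rw [pow_add, mul_smul, hs, ← aw_algebraMap_smul, ← aw_algebraMap_smul, smul_smul, ← mul_pow,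
      hm, map_zero]
  rw [smul_comm, Algebra.smul_def (y ^ (m + n)), map_pow, ← hu] at h2
  exact (u ^ (m + n)).isUnit.mul_left_cancel (by rw [Units.val_pow_eq_pow_val, h2, mul_zero])

variable {X}

theorem awMap_awIncR {Y : Type u} [CommRing Y] [Algebra A Y] (π : X →ₐ[A] Y) :
    (awMap π (g * y)).comp (awIncR X g y) = (awIncR Y g y).comp (awMap π y) := by
  apply aw_algHom_ext
  intro s
  rw [AlgHom.comp_apply, AlgHom.comp_apply, awIncR_algebraMap, awMap_algebraMap, awMap_algebraMap,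
    awIncR_algebraMap]

theorem awMap_awIncL {Y : Type u} [CommRing Y] [Algebra A Y] (π : X →ₐ[A] Y) :
    (awMap π (g * y)).comp (awIncL X g y) = (awIncL Y g y).comp (awMap π g) := by
  apply aw_algHom_ext
  intro s
  rw [AlgHom.comp_apply, AlgHom.comp_apply, awIncL_algebraMap, awMap_algebraMap, awMap_algebraMap,
    awIncL_algebraMap]

end Away2

/-- **Lifting sections** (Lemma J). -/
theorem exists_lift_sections {A : Type u} [CommRing A] {R Rb : Type u} [CommRing R] [CommRing Rb]
    [Algebra A R] [Algebra A Rb] (π : R →ₐ[A] Rb) (hπ : Function.Surjective π)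
    (hker : IsNilpotent (RingHom.ker (π : R →+* Rb))) (g y : A)
    {E : Type u} [CommRing E] [Algebra A E] [Algebra.FormallyEtale A E]
    (θ : E →ₐ[A] Aw Rb y) (θg : E →ₐ[A] Aw Rb g)
    (hθ : (awIncR Rb g y).comp θ = (awIncL Rb g y).comp θg)
    (Ψ : E →ₐ[A] Aw R y) (hΨ : (awMap π y).comp Ψ = θ) (e : E) :
    ∃ (N : ℕ) (s : R), g ^ N • Ψ e = algebraMap R (Aw R y) s := by
  let Ψg : E →ₐ[A] Aw R g := Algebra.FormallySmooth.liftOfSurjective θg (awMap π g)
    (awMap_surjective π g hπ) (awMap_ker_nilpotent π g hker)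
  have hΨg : (awMap π g).comp Ψg = θg := Algebra.FormallySmooth.comp_liftOfSurjective _ _ _ _
  have h1 : (awIncR R g y).comp Ψ = (awIncL R g y).comp Ψg := by
    apply Algebra.FormallyUnramified.lift_unique' (awMap π (g * y))
      (awMap_ker_nilpotent π (g * y) hker)
    rw [← AlgHom.comp_assoc, ← AlgHom.comp_assoc, awMap_awIncR, awMap_awIncL, AlgHom.comp_assoc,
      AlgHom.comp_assoc, hΨ, hΨg, hθ]
  obtain ⟨N, s, hs⟩ := aw_surj R g (Ψg e)
  have h2 : awIncR R g y (g ^ N • Ψ e - algebraMap R (Aw R y) s) = 0 := by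
    rw [map_sub, map_smul, awIncR_algebraMap, ← AlgHom.comp_apply, h1, AlgHom.comp_apply,
      ← map_smul, hs, awIncL_algebraMap, sub_self]
  obtain ⟨m, hm⟩ := awIncR_ker R g y _ h2
  refine ⟨m + N, g ^ m • s, ?_⟩
  rw [smul_sub, sub_eq_zero] at hm
  rw [pow_add, mul_smul, hm, aw_algebraMap_smul]

end Groth.Agent.H6.ZN
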