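import Mathlib
import Groth.Prelude
import Groth.Agent.Lib.Helper6.ZN6b

set_option autoImplicit false
universe u v
open IsLocalRing

set_option linter.unusedSectionVars false
set_option linter.unusedSimpArgs false
set_option linter.style.haveILetI false
namespace Groth.Agent.H6.ZN

variable {A : Type u} [CommRing A]

/-- if `S → T` is injective and an isomorphism up to `g`-power torsion then `S_g → T_g` is
bijective. -/
theorem awMap_bijective_of_iso_up_to {S T : Type u} [CommRing S] [CommRing T] [Algebra A S]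
    [Algebra A T] (φ : S →ₐ[A] T) (hφ : Function.Injective φ) (g : A)
    (hT : ∀ t : T, ∃ (N : ℕ) (s : S), g ^ N • t = φ s) : Function.Bijective (awMap φ g) := by
  constructor
  · rw [injective_iff_map_eq_zero]
    intro ξ hξ
    obtain ⟨N, s, hs⟩ := aw_surj S g ξ
    have h1 : algebraMap T (Aw T g) (φ s) = 0 := by
      rw [← awMap_algebraMap, ← hs, map_smul, hξ, smul_zero]
    obtain ⟨N', hN'⟩ := aw_eq_zero T g _ h1
    have h2 : g ^ N' • s = 0 := hφ (by rw [map_smul, hN', map_zero])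
    obtain ⟨u, hu⟩ := aw_isUnit S g
    have h3 : g ^ (N' + N) • ξ = 0 := by
      rw [pow_add, mul_smul, hs, ← aw_algebraMap_smul, h2, map_zero]
    rw [Algebra.smul_def, map_pow, ← hu] at h3
    exact (u ^ (N' + N)).isUnit.mul_left_cancel (by rw [Units.val_pow_eq_pow_val, h3, mul_zero])
  · intro η
    obtain ⟨N, t, ht⟩ := aw_surj T g η
    obtain ⟨N', s, hs⟩ := hT t
    obtain ⟨u, hu⟩ := aw_isUnit S g
    obtain ⟨w, hw⟩ := aw_isUnit T g
    refine ⟨↑(u⁻¹ ^ (N' + N)) * algebraMap S (Aw S g) s, ?_⟩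
    have h1 : awMap φ g (↑(u⁻¹ ^ (N' + N))) * (algebraMap A (Aw T g) g) ^ (N' + N) = 1 := by
      rw [← (awMap φ g).commutes, ← map_pow, ← map_mul, ← hu, ← Units.val_pow_eq_pow_val,
        ← Units.val_mul, ← mul_pow, inv_mul_cancel, one_pow, Units.val_one, map_one]
    have h2 : (algebraMap A (Aw T g) g) ^ (N' + N) * η = algebraMap T (Aw T g) (φ s) := by
      rw [← hs, aw_algebraMap_smul, ← ht, smul_smul, ← pow_add, Algebra.smul_def, map_pow]
    rw [map_mul, awMap_algebraMap, ← h2, ← mul_assoc, h1, one_mul]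

/-- two algebra maps out of `T` agreeing on `S` agree, if `g` is invertible in the target. -/
theorem algHom_ext_of_iso_up_to {S T P : Type u} [CommRing S] [CommRing T] [CommRing P]
    [Algebra A S] [Algebra A T] [Algebra A P] (φ : S →ₐ[A] T) (g : A)
    (hT : ∀ t : T, ∃ (N : ℕ) (s : S), g ^ N • t = φ s) (hg : IsUnit (algebraMap A P g))
    (f₁ f₂ : T →ₐ[A] P) (h : ∀ s, f₁ (φ s) = f₂ (φ s)) : f₁ = f₂ := by
  ext t
  obtain ⟨N, s, hs⟩ := hT t
  have h1 : g ^ N • f₁ t = g ^ N • f₂ t := by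
    rw [← map_smul, ← map_smul, hs, h]
  rw [Algebra.smul_def, Algebra.smul_def, map_pow] at h1
  exact (hg.pow N).mul_left_cancel h1

/-- the map `T → S[1/g]` when `S → T` is an isomorphism up to `g`-power torsion. -/
theorem exists_toAway_of_iso_up_to {S T : Type u} [CommRing S] [CommRing T] [Algebra A S]
    [Algebra A T] (φ : S →ₐ[A] T) (hφ : Function.Injective φ) (g : A)
    (hT : ∀ t : T, ∃ (N : ℕ) (s : S), g ^ N • t = φ s) :
    ∃ σ : T →ₐ[A] Aw S g, ∀ s, σ (φ s) = algebraMap S (Aw S g) s := by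
  let e : Aw S g ≃ₐ[A] Aw T g :=
    AlgEquiv.ofBijective (awMap φ g) (awMap_bijective_of_iso_up_to φ hφ g hT)
  refine ⟨(e.symm : Aw T g →ₐ[A] Aw S g).comp (IsScalarTower.toAlgHom A T (Aw T g)), ?_⟩
  intro s
  show e.symm (algebraMap T (Aw T g) (φ s)) = _
  rw [← awMap_algebraMap]
  exact e.symm_apply_apply _

end Groth.Agent.H6.ZN
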