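import Mathlib
import Groth.Prelude
import Groth.Agent.Lib.Helper6.ZN6c
import Groth.Agent.Lib.Helper5.EtSrc.Lifting

set_option autoImplicit false
universe u v
open IsLocalRing

set_option linter.unusedSectionVars false
set_option linter.unusedSimpArgs false
set_option linter.style.haveILetI false
namespace Groth.Agent.H6.ZN

/-- `y` is regular on `B/tB` if `(t, y)` is a regular pair. -/
theorem isSMulRegular_quotient_of_regPair {A : Type u} [CommRing A] {B : Type u} [CommRing B]
    [Algebra A B] {t y : A} (hB : RegPair B t y) {Q : Type u} [CommRing Q] [Algebra A Q]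
    (q : B →ₐ[A] Q) (hq : Function.Surjective q)
    (hqker : RingHom.ker (q : B →+* Q) = Ideal.span {algebraMap A B t}) : IsSMulRegular Q y := by
  intro a a' h
  obtain ⟨b, rfl⟩ := hq a
  obtain ⟨b', rfl⟩ := hq a'
  have h1 : q (y • (b - b')) = 0 := by
    rw [map_smul, map_sub, smul_sub, sub_eq_zero]
    exact h
  have h2 : y • (b - b') ∈ RingHom.ker (q : B →+* Q) := h1
  rw [hqker, Ideal.mem_span_singleton'] at h2
  obtain ⟨c, hc⟩ := h2
  obtain ⟨d, hd⟩ := hB.2 (b - b') c (by rw [← hc, Algebra.smul_def, mul_comm])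
  have h3 : q (b - b') = 0 := by
    have : b - b' ∈ RingHom.ker (q : B →+* Q) := by
      rw [hqker, hd, Algebra.smul_def]
      exact Ideal.mul_mem_right _ _ (Ideal.subset_span rfl)
    exact this
  rw [map_sub, sub_eq_zero] at h3
  exact h3


/-- **Theorem L**: if the ring of sections of `B/xB` over the punctured spectrum is étale over
`A/x`, then it is equal to `B/xB`. -/
theorem toGam_surjective_of_etale
    (A : Type u) [CommRing A] [IsNoetherianRing A] (I : Ideal A)
    (x y z : A) (hzI : z ∈ I) (hA : RegTriple A x y z)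
    (B : Type u) [CommRing B] [Algebra A B] [Module.Finite A B] (hB : RegPair B x y)
    [Module.Flat A (Aw B x)]
    (Bb : Type u) [CommRing Bb] [Algebra A Bb] (q : B →ₐ[A] Bb) (hq : Function.Surjective q)
    (hqker : RingHom.ker (q : B →+* Bb) = Ideal.span {algebraMap A B x})
    (Ab : Type u) [CommRing Ab] [Algebra A Ab] (hAb : Function.Surjective (algebraMap A Ab))
    [Algebra Ab (Gam I Bb y)] [IsScalarTower A Ab (Gam I Bb y)] [Algebra.Etale Ab (Gam I Bb y)] :
    Function.Surjective (toGam I Bb y) := by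
  obtain ⟨r, α, β, N₀, hαβ⟩ := exists_factor_of_flat A B x hB.1
  obtain ⟨E, _, _, _, ψ, hψ, -⟩ := Groth.Agent.H5.EtSrc.exists_etale_lift (R := A) (B := Ab)
    (C := Gam I Bb y) hAb
  set n := N₀ + 1 with hn
  -- the thickening
  let J : Ideal B := Ideal.span {(algebraMap A B x) ^ n}
  have hJq : ∀ a ∈ J, q a = 0 := by
    intro a ha
    obtain ⟨c, rfl⟩ := Ideal.mem_span_singleton'.mp ha
    have hx0 : q (algebraMap A B x) = 0 := by
      have : algebraMap A B x ∈ RingHom.ker (q : B →+* Bb) := by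
        rw [hqker]; exact Ideal.subset_span rfl
      exact this
    rw [map_mul, map_pow, hx0, hn, pow_succ, mul_zero, mul_zero]
  let π : (B ⧸ J) →ₐ[A] Bb := Ideal.Quotient.liftₐ J q hJq
  have hπmk : ∀ b : B, π (Ideal.Quotient.mk J b) = q b := fun b => rfl
  have hπ : Function.Surjective π := by
    intro b
    obtain ⟨b', rfl⟩ := hq b
    exact ⟨Ideal.Quotient.mk J b', rfl⟩
  have hker : IsNilpotent (RingHom.ker (π : (B ⧸ J) →+* Bb)) := by
    refine ⟨n, ?_⟩
    rw [Ideal.zero_eq_bot, ← le_bot_iff]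
    have h1 : RingHom.ker (π : (B ⧸ J) →+* Bb) ≤
        Ideal.span {Ideal.Quotient.mk J (algebraMap A B x)} := by
      intro c hc
      obtain ⟨b, rfl⟩ := Ideal.Quotient.mk_surjective c
      have h2 : b ∈ RingHom.ker (q : B →+* Bb) := hc
      rw [hqker] at h2
      obtain ⟨d, rfl⟩ := Ideal.mem_span_singleton'.mp h2
      rw [map_mul]
      exact Ideal.mul_mem_left _ _ (Ideal.subset_span rfl)
    refine (Ideal.pow_right_mono h1 n).trans ?_
    rw [Ideal.span_singleton_pow, ← map_pow, Ideal.span_le, Set.singleton_subset_iff]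
    have : Ideal.Quotient.mk J (algebraMap A B x ^ n) = 0 :=
      Ideal.Quotient.eq_zero_iff_mem.mpr (Ideal.subset_span rfl)
    rw [this]
    exact Ideal.zero_mem _
  -- regularity of y
  have hyBb : IsSMulRegular Bb y := isSMulRegular_quotient_of_regPair hB q hq hqker
  have hyR : IsSMulRegular (B ⧸ J) y := by
    refine isSMulRegular_quotient_of_regPair (t := x ^ n) (hB.pow_left n) (Ideal.Quotient.mkₐ A J)
      Ideal.Quotient.mk_surjective ?_
    show RingHom.ker (Ideal.Quotient.mk J) = _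
    rw [Ideal.mk_ker, map_pow]
  -- the maps
  have hinj : Function.Injective (toGam I Bb y) := toGam_injective I Bb y hyBb
  obtain ⟨σ, hσ⟩ := exists_toAway_of_iso_up_to (toGam I Bb y) hinj z
    (fun t => exists_pow_smul_eq I Bb y t z hzI)
  let θ : E →ₐ[A] Aw Bb y := (Gam I Bb y).val.comp ψ
  let θz : E →ₐ[A] Aw Bb z := σ.comp ψ
  have hθ : (awIncR Bb z y).comp θ = (awIncL Bb z y).comp θz := by
    have h1 : (awIncR Bb z y).comp (Gam I Bb y).val = (awIncL Bb z y).comp σ := by
      apply algHom_ext_of_iso_up_to (toGam I Bb y) z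
        (fun t => exists_pow_smul_eq I Bb y t z hzI) (aw_isUnit_left Bb z y)
      intro s
      rw [AlgHom.comp_apply, AlgHom.comp_apply, hσ, awIncL_algebraMap]
      show awIncR Bb z y (algebraMap Bb (Aw Bb y) s) = _
      rw [awIncR_algebraMap]
    show (awIncR Bb z y).comp ((Gam I Bb y).val.comp ψ) = (awIncL Bb z y).comp (σ.comp ψ)
    rw [← AlgHom.comp_assoc, ← AlgHom.comp_assoc, h1]
  let Ψ : E →ₐ[A] Aw (B ⧸ J) y := Algebra.FormallySmooth.liftOfSurjective θ (awMap π y)
    (awMap_surjective π y hπ) (awMap_ker_nilpotent π y hker)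
  have hΨ : (awMap π y).comp Ψ = θ := Algebra.FormallySmooth.comp_liftOfSurjective _ _ _ _
  -- the main argument
  intro c
  obtain ⟨e, rfl⟩ := hψ c
  obtain ⟨N, s, hs⟩ := exists_lift_sections π hπ hker z y θ θz hθ Ψ hΨ e
  obtain ⟨k, r₀, hr₀⟩ := aw_surj (B ⧸ J) y (Ψ e)
  obtain ⟨b, rfl⟩ := Ideal.Quotient.mk_surjective r₀
  obtain ⟨b₂, rfl⟩ := Ideal.Quotient.mk_surjective s
  -- z^N b - y^k b₂ ∈ J
  have h1 : algebraMap (B ⧸ J) (Aw (B ⧸ J) y)
      (z ^ N • Ideal.Quotient.mk J b - y ^ k • Ideal.Quotient.mk J b₂) = 0 := by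
    rw [map_sub, aw_algebraMap_smul, aw_algebraMap_smul, ← hr₀, ← hs, smul_comm, sub_self]
  obtain ⟨j, hj⟩ := aw_eq_zero (B ⧸ J) y _ h1
  have h2 : z ^ N • Ideal.Quotient.mk J b - y ^ k • Ideal.Quotient.mk J b₂ = 0 :=
    (hyR.pow j) (by
      show y ^ j • _ = y ^ j • 0
      rw [hj, smul_zero])
  have h3 : z ^ N • b - y ^ k • b₂ ∈ J := by
    rw [← Ideal.Quotient.eq_zero_iff_mem, map_sub]
    exact h2
  obtain ⟨b₁, hb₁⟩ := Ideal.mem_span_singleton'.mp h3
  have h4 : z ^ N • b = x ^ n • b₁ + y ^ k • b₂ := by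
    rw [Algebra.smul_def (x ^ n), map_pow, mul_comm, hb₁, sub_add_cancel]
  obtain ⟨b₁', b₃, hb⟩ := mem_of_pow_smul_mem_of_factor hA hB α β N₀ hαβ n k (by omega) b
    ⟨N, b₁, b₂, h4⟩
  refine ⟨q b₃, ?_⟩
  apply Subtype.ext
  -- compare in Aw Bb y
  have h5 : y ^ k • ((ψ e : Gam I Bb y) : Aw Bb y) = y ^ k • algebraMap Bb (Aw Bb y) (q b₃) := by
    have h6 : ((ψ e : Gam I Bb y) : Aw Bb y) = awMap π y (Ψ e) := by
      rw [← AlgHom.comp_apply, hΨ]
      rfl
    rw [h6, ← map_smul, hr₀, awMap_algebraMap, hπmk, hb, map_add, map_smul, map_smul,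
      ← aw_algebraMap_smul]
    have hx0 : x • q b₁' = 0 := by
      rw [← map_smul]
      have : x • b₁' ∈ RingHom.ker (q : B →+* Bb) := by
        rw [hqker, Algebra.smul_def]
        exact Ideal.mul_mem_right _ _ (Ideal.subset_span rfl)
      exact this
    rw [hx0, zero_add]
  obtain ⟨u, hu⟩ := aw_isUnit Bb y
  rw [Algebra.smul_def, Algebra.smul_def, map_pow, ← hu] at h5
  have h7 : ((ψ e : Gam I Bb y) : Aw Bb y) = algebraMap Bb (Aw Bb y) (q b₃) :=
    (u ^ k).isUnit.mul_left_cancel (by rw [Units.val_pow_eq_pow_val]; exact h5)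
  rw [toGam_coe]
  exact h7.symm

end Groth.Agent.H6.ZN
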