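import Mathlib
import Groth.Prelude
import Groth.Agent.Lib.Helper6.ZN7
import Groth.Agent.Lib.Helper1.FlatRegularElement
import Groth.Agent.Lib.Helper9.Misc.PFD1

set_option autoImplicit false
universe u v
open IsLocalRing TensorProduct

set_option linter.unusedSectionVars false
set_option linter.unusedSimpArgs false
set_option linter.style.haveILetI false
namespace Groth.Agent.H6.ZN

theorem flat_localizedModule_of_flat (A : Type u) [CommRing A]
    (B : Type u) [CommRing B] [Algebra A B] (x : A)
    [Module.Flat A (Aw B x)] :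
    Module.Flat (Localization.Away x) (LocalizedModule (Submonoid.powers x) B) := by
  let e : LocalizedModule (Submonoid.powers x) B ≃ₗ[A] Localization.Away (algebraMap A B x) :=
    IsLocalizedModule.iso (Submonoid.powers x)
      (IsScalarTower.toAlgHom A B (Localization.Away (algebraMap A B x))).toLinearMap
  haveI : Module.Flat A (LocalizedModule (Submonoid.powers x) B) :=
    Module.Flat.of_linearEquiv e
  exact (Module.flat_iff_of_isLocalization (Localization (Submonoid.powers x))
      (Submonoid.powers x) _).mpr inferInstance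

/-- lifting flatness from `B/xB` to `B`. -/
theorem flat_of_toGam_bijective (A : Type u) [CommRing A] (I : Ideal A) (x y : A)
    (hxA : IsSMulRegular A x) (B : Type u) [CommRing B] [Algebra A B] (hxB : IsSMulRegular B x)
    [Module.Flat A (Aw B x)]
    (hbij : Function.Bijective (toGam I (B ⧸ (Ideal.span {x}).map (algebraMap A B)) y))
    [Algebra (A ⧸ Ideal.span {x}) (Gam I (B ⧸ (Ideal.span {x}).map (algebraMap A B)) y)]
    [IsScalarTower A (A ⧸ Ideal.span {x})
      (Gam I (B ⧸ (Ideal.span {x}).map (algebraMap A B)) y)]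
    [Module.Flat (A ⧸ Ideal.span {x}) (Gam I (B ⧸ (Ideal.span {x}).map (algebraMap A B)) y)] :
    Module.Flat A B := by
  set Bb := B ⧸ (Ideal.span {x}).map (algebraMap A B)
  let e₀ : Bb ≃ₗ[A] Gam I Bb y := LinearEquiv.ofBijective (toGam I Bb y).toLinearMap hbij
  let e₁ : Bb ≃ₗ[A ⧸ Ideal.span {x}] Gam I Bb y :=
    e₀.extendScalarsOfSurjective Ideal.Quotient.mk_surjective
  haveI : Module.Flat (A ⧸ Ideal.span {x}) Bb := Module.Flat.of_linearEquiv e₁
  let e₂ : (A ⧸ Ideal.span {x}) ⊗[A] B ≃ₗ[A ⧸ Ideal.span {x}] Bb :=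
    (Algebra.TensorProduct.quotIdealMapEquivQuotTensor B (Ideal.span {x})).symm.toLinearEquiv
  haveI : Module.Flat (A ⧸ Ideal.span {x}) ((A ⧸ Ideal.span {x}) ⊗[A] B) :=
    Module.Flat.of_linearEquiv e₂
  haveI := flat_localizedModule_of_flat A B x
  refine Groth.Agent.H1.flat_of_flat_away_of_flat_quotient x ?_ hxB
  have h2 : IsLeftRegular x := hxA.isLeftRegular
  rw [← isRegular_iff_mem_nonZeroDivisors]
  exact isLeftRegular_iff_isRegular.mp h2

theorem etale_of_flat (A : Type u) [CommRing A] [IsNoetherianRing A] [IsLocalRing A]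
    (hdim : (2 : WithBot ℕ∞) ≤ ringKrullDim A) (B : Type u) [CommRing B] [Algebra A B]
    [Module.Finite A B] [Module.Flat A B]
    (het : ∀ g ∈ maximalIdeal A, Algebra.FormallyEtale A (Aw B g)) : Algebra.Etale A B := by
  apply Groth.Agent.H9.PFD.main A B hdim
  intro q hq
  have h1 : ∃ g ∈ maximalIdeal A, g ∉ q.asIdeal.comap (algebraMap A B) := by
    by_contra hcon
    push Not at hcon
    apply hq
    exact ((IsLocalRing.le_maximalIdeal (Ideal.IsPrime.ne_top inferInstance)).antisymm
      (fun g hg => hcon g hg)).symm ▸ rfl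
  obtain ⟨g, hg, hgq⟩ := h1
  have h2 := (Algebra.basicOpen_subset_etaleLocus_iff (R := A) (A := B)
    (f := algebraMap A B g)).mpr (het g hg)
  have h3 : q ∈ Algebra.etaleLocus A B := h2 hgq
  rw [Algebra.mem_etaleLocus_iff] at h3
  show Algebra.FormallyUnramified A (Localization.AtPrime q.asIdeal)
  infer_instance

end Groth.Agent.H6.ZN
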