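import Mathlib
import Groth.Prelude
import Groth.Agent.Lib.Helper6.ZN8

set_option autoImplicit false
universe u v
open IsLocalRing TensorProduct

set_option linter.unusedSectionVars false
set_option linter.unusedSimpArgs false
set_option linter.style.haveILetI false
namespace Groth.Agent.H6.ZN

theorem awMap_ker_le {A : Type u} [CommRing A] {X Y : Type u} [CommRing X] [Algebra A X]
    [CommRing Y] [Algebra A Y] (π : X →ₐ[A] Y) (a : A) :
    RingHom.ker (awMap π a : Aw X a →+* Aw Y a) ≤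
      Ideal.map (algebraMap X (Aw X a)) (RingHom.ker (π : X →+* Y)) := by
  intro ξ hξ
  rw [RingHom.mem_ker] at hξ
  obtain ⟨N, s, hs⟩ := aw_surj X a ξ
  have h2 : algebraMap Y (Aw Y a) (π s) = 0 := by
    rw [← awMap_algebraMap, ← hs, map_smul]
    have : (awMap π a) ξ = 0 := hξ
    rw [this, smul_zero]
  obtain ⟨N', hN'⟩ := aw_eq_zero Y a _ h2
  have h3 : a ^ N' • s ∈ RingHom.ker (π : X →+* Y) := by
    rw [RingHom.mem_ker]
    show π (a ^ N' • s) = 0
    rw [map_smul, hN']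
  obtain ⟨u, hu⟩ := aw_isUnit X a
  have h4 : ξ = ↑(u⁻¹ ^ (N' + N)) * algebraMap X (Aw X a) (a ^ N' • s) := by
    have key : ((u⁻¹ ^ (N' + N) : (Aw X a)ˣ) : Aw X a) * (u : Aw X a) ^ (N' + N) = 1 := by
      rw [← Units.val_pow_eq_pow_val, ← Units.val_mul, ← mul_pow, inv_mul_cancel, one_pow,
        Units.val_one]
    rw [Algebra.smul_def, map_mul, ← IsScalarTower.algebraMap_apply, ← hs, Algebra.smul_def,
      map_pow, map_pow, ← hu, ← mul_assoc, ← mul_assoc,
      mul_assoc _ ((u : Aw X a) ^ N') ((u : Aw X a) ^ N), ← pow_add, key, one_mul]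
  rw [h4]
  exact Ideal.mul_mem_left _ _ (Ideal.mem_map_of_mem _ h3)

/-- base change of étaleness along a quotient of the base, in "kernel" form. -/
theorem etale_of_surjective_of_ker_le {A : Type u} [CommRing A] (I : Ideal A)
    (C : Type u) [CommRing C] [Algebra A C]
    (D : Type u) [CommRing D] [Algebra A D] [Algebra (A ⧸ I) D] [IsScalarTower A (A ⧸ I) D]
    (φ : C →ₐ[A] D) (hφ : Function.Surjective φ)
    (hker : RingHom.ker φ ≤ I.map (algebraMap A C)) [Algebra.Etale A C] :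
    Algebra.Etale (A ⧸ I) D := by
  have hker' : RingHom.ker φ = I.map (algebraMap A C) := by
    refine le_antisymm hker ?_
    rw [Ideal.map_le_iff_le_comap]
    intro a ha
    rw [Ideal.mem_comap, RingHom.mem_ker, φ.commutes, IsScalarTower.algebraMap_apply A (A ⧸ I) D,
      Ideal.Quotient.algebraMap_eq, Ideal.Quotient.eq_zero_iff_mem.mpr ha, map_zero]
  let e₁ : (C ⧸ RingHom.ker φ) ≃ₐ[A] D := Ideal.quotientKerAlgEquivOfSurjective hφ
  let e₂ : (C ⧸ I.map (algebraMap A C)) ≃ₐ[A] (C ⧸ RingHom.ker φ) :=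
    Ideal.quotientEquivAlgOfEq A hker'.symm
  let e : (C ⧸ I.map (algebraMap A C)) ≃ₐ[A ⧸ I] D :=
    AlgEquiv.extendScalarsOfSurjective Ideal.Quotient.mk_surjective (e₂.trans e₁)
  haveI : Algebra.Etale (A ⧸ I) (C ⧸ I.map (algebraMap A C)) :=
    Algebra.Etale.of_equiv (Algebra.TensorProduct.quotIdealMapEquivQuotTensor C I).symm
  exact Algebra.Etale.of_equiv e

/-- the sections over the punctured spectrum have bounded denominators. -/
theorem exists_pow_smul_mem_range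
    (A : Type u) [CommRing A] [IsNoetherianRing A] (I : Ideal A)
    (x y z : A) (hzI : z ∈ I) (hA : RegTriple A x y z)
    (B : Type u) [CommRing B] [Algebra A B] [Module.Finite A B] (hB : RegPair B x y)
    (hyB : IsSMulRegular B y) [Module.Flat A (Aw B y)]
    (Bb : Type u) [CommRing Bb] [Algebra A Bb] (q : B →ₐ[A] Bb) (hq : Function.Surjective q)
    (hqker : RingHom.ker (q : B →+* Bb) = Ideal.span {algebraMap A B x}) :
    ∃ N₀ : ℕ, ∀ γ ∈ Gam I Bb y, ∃ c : Bb, y ^ N₀ • γ = algebraMap Bb (Aw Bb y) c := by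
  obtain ⟨r, α, β, N₀, hαβ⟩ := exists_factor_of_flat A B y hyB
  refine ⟨N₀, fun γ hγ => ?_⟩
  have hyBb : IsSMulRegular Bb y := isSMulRegular_quotient_of_regPair hB q hq hqker
  obtain ⟨k₀, b₀, hb₀⟩ := aw_surj Bb y γ
  obtain ⟨b, hb⟩ := hq (y ^ N₀ • b₀)
  have hk : y ^ (N₀ + k₀) • γ = algebraMap Bb (Aw Bb y) (q b) := by
    rw [hb, pow_add, mul_smul, hb₀, aw_algebraMap_smul]
  obtain ⟨N, s', hs'⟩ := hγ z hzI
  obtain ⟨s, rfl⟩ := hq s'
  have h1 : algebraMap Bb (Aw Bb y) (z ^ N • q b - y ^ (N₀ + k₀) • q s) = 0 := by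
    rw [map_sub, aw_algebraMap_smul, aw_algebraMap_smul, ← hk, hs', smul_comm, sub_self]
  obtain ⟨M, hM⟩ := aw_eq_zero Bb y _ h1
  have h2 : z ^ N • q b - y ^ (N₀ + k₀) • q s = 0 := (hyBb.pow M) (by
    show y ^ M • _ = y ^ M • 0
    rw [hM, smul_zero])
  have h3 : z ^ N • b - y ^ (N₀ + k₀) • s ∈ RingHom.ker (q : B →+* Bb) := by
    rw [RingHom.mem_ker]
    show q (z ^ N • b - y ^ (N₀ + k₀) • s) = 0
    rw [map_sub, map_smul, map_smul, h2]
  rw [hqker, Ideal.mem_span_singleton'] at h3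
  obtain ⟨b₁, hb₁⟩ := h3
  have h4 : z ^ N • b = x • b₁ + y ^ (N₀ + k₀) • s := by
    rw [Algebra.smul_def x b₁, mul_comm, hb₁]; abel
  have h5 : z ^ N • α b = x • α b₁ + y ^ (N₀ + k₀) • α s := by
    rw [← map_smul, h4, map_add, map_smul, map_smul]
  have hR : RegTriple (Fin r → A) x (y ^ (N₀ + k₀)) z := (hA.pow_mid (N₀ + k₀)).pi
  obtain ⟨v₁, v₂, hv⟩ := hR.mem_of_pow_smul_mem N (α b) ⟨_, _, h5⟩
  have h6 : y ^ N₀ • b = x • β v₁ + y ^ (N₀ + k₀) • β v₂ := by
    rw [← hαβ, hv, map_add, map_smul, map_smul]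
  have h7 : y ^ N₀ • (b - y ^ k₀ • β v₂) = x • β v₁ := by
    rw [smul_sub, h6, smul_smul, ← pow_add]; abel
  obtain ⟨b', hb'⟩ := (hB.pow_right N₀).2 _ _ h7
  refine ⟨q (β v₂), ?_⟩
  have h8 : q b = y ^ k₀ • q (β v₂) := by
    have h9 : q (b - y ^ k₀ • β v₂) = 0 := by
      have h10 : b - y ^ k₀ • β v₂ ∈ RingHom.ker (q : B →+* Bb) := by
        rw [hqker, Ideal.mem_span_singleton', hb']
        exact ⟨b', by rw [Algebra.smul_def, mul_comm]⟩
      exact h10
    rw [map_sub, map_smul, sub_eq_zero] at h9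
    exact h9
  have h9 : y ^ k₀ • (y ^ N₀ • γ) = y ^ k₀ • algebraMap Bb (Aw Bb y) (q (β v₂)) := by
    rw [smul_smul, ← pow_add, add_comm k₀ N₀, hk, h8, aw_algebraMap_smul]
  rw [Algebra.smul_def, Algebra.smul_def (y ^ k₀), map_pow] at h9
  exact ((aw_isUnit Bb y).pow k₀).mul_left_cancel h9

end Groth.Agent.H6.ZN
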