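import Mathlib
import Groth.Prelude
import Groth.Agent.Lib.Helper6.ZN9

set_option autoImplicit false
universe u v
open IsLocalRing TensorProduct

set_option linter.unusedSectionVars false
set_option linter.unusedSimpArgs false
set_option linter.style.haveILetI false
namespace Groth.Agent.H6.ZN

/-- finiteness of the ring of sections over the punctured spectrum. -/
theorem finite_Gam
    (A : Type u) [CommRing A] [IsNoetherianRing A] (I : Ideal A)
    (x y z : A) (hzI : z ∈ I) (hA : RegTriple A x y z)
    (B : Type u) [CommRing B] [Algebra A B] [Module.Finite A B] (hB : RegPair B x y)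
    (hyB : IsSMulRegular B y) [Module.Flat A (Aw B y)]
    (Bb : Type u) [CommRing Bb] [Algebra A Bb] (q : B →ₐ[A] Bb) (hq : Function.Surjective q)
    (hqker : RingHom.ker (q : B →+* Bb) = Ideal.span {algebraMap A B x}) :
    Module.Finite A (Gam I Bb y) := by
  obtain ⟨N₀, hN₀⟩ := exists_pow_smul_mem_range A I x y z hzI hA B hB hyB Bb q hq hqker
  obtain ⟨u, hu⟩ := aw_isUnit Bb y
  haveI : Module.Finite A Bb := Module.Finite.of_surjective q.toLinearMap hq
  let L : Bb →ₗ[A] Aw Bb y :=
    (LinearMap.mulLeft A ((↑(u⁻¹ ^ N₀) : Aw Bb y))).comp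
      (IsScalarTower.toAlgHom A Bb (Aw Bb y)).toLinearMap
  have hle : Subalgebra.toSubmodule (Gam I Bb y) ≤ LinearMap.range L := by
    intro γ hγ
    obtain ⟨c, hc⟩ := hN₀ γ hγ
    refine ⟨c, ?_⟩
    show (↑(u⁻¹ ^ N₀) : Aw Bb y) * algebraMap Bb (Aw Bb y) c = γ
    rw [← hc, Algebra.smul_def, map_pow, ← hu, ← mul_assoc, ← Units.val_pow_eq_pow_val,
      ← Units.val_mul, ← mul_pow, inv_mul_cancel, one_pow, Units.val_one, one_mul]
  haveI : IsNoetherian A (LinearMap.range L) := isNoetherian_of_isNoetherianRing_of_finite A _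
  have hinj : Function.Injective (Submodule.inclusion hle) := Submodule.inclusion_injective hle
  exact Module.Finite.of_injective (Submodule.inclusion hle) hinj

end Groth.Agent.H6.ZN
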