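import Mathlib
import Groth.Prelude
import Groth.Agent.Lib.Helper6.ZN9b

set_option autoImplicit false
universe u v
open IsLocalRing TensorProduct

set_option linter.unusedSectionVars false
set_option linter.unusedSimpArgs false
set_option linter.style.haveILetI false
namespace Groth.Agent.H6.ZN

/-- transport of `Sat` along a quotient of the base. -/
theorem Sat.of_tower {A : Type u} [CommRing A] {Ab : Type u} [CommRing Ab] [Algebra A Ab]
    {M : Type v} [AddCommGroup M] [Module A M] [Module Ab M] [IsScalarTower A Ab M]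
    {I : Ideal A} {J : Ideal Ab} (hIJ : I.map (algebraMap A Ab) ≤ J) {y : A}
    (h : Sat I M y) : Sat J M (algebraMap A Ab y) := by
  intro b ⟨N, hN⟩
  obtain ⟨c, hc⟩ := h b ⟨N, fun a ha => by
    have h1 : algebraMap A Ab a ∈ J ^ N :=
      Ideal.pow_right_mono hIJ N (by rw [← Ideal.map_pow]; exact Ideal.mem_map_of_mem _ ha)
    obtain ⟨c, hc⟩ := hN _ h1
    exact ⟨c, by rw [← algebraMap_smul Ab a b, hc, algebraMap_smul]⟩⟩
  exact ⟨c, by rw [algebraMap_smul]; exact hc⟩

theorem mem_maximalIdeal_of_mk_mem {A : Type u} [CommRing A] [IsLocalRing A] (I : Ideal A)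
    [IsLocalRing (A ⧸ I)] (g : A) (hg : Ideal.Quotient.mk I g ∈ maximalIdeal (A ⧸ I)) :
    g ∈ maximalIdeal A := by
  rw [mem_maximalIdeal, mem_nonunits_iff] at hg ⊢
  exact fun h => hg (h.map _)

theorem mk_mem_maximalIdeal {A : Type u} [CommRing A] [IsLocalRing A] (I : Ideal A)
    [IsLocalRing (A ⧸ I)] (g : A) (hg : g ∈ maximalIdeal A) :
    Ideal.Quotient.mk I g ∈ maximalIdeal (A ⧸ I) := by
  have h1 : Ideal.comap (Ideal.Quotient.mk I) (maximalIdeal (A ⧸ I)) = maximalIdeal A :=
    eq_maximalIdeal (Ideal.comap_isMaximal_of_surjective _ Ideal.Quotient.mk_surjective)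
  rw [← h1] at hg
  exact hg


/-- the inductive step of Zariski–Nagata purity, in abstract form. -/
theorem purity_step (A : Type u) [CommRing A] [IsNoetherianRing A] [IsLocalRing A]
    (hdim : (2 : WithBot ℕ∞) ≤ ringKrullDim A)
    (x y z : A) (hz : z ∈ maximalIdeal A) (hA : RegTriple A x y z)
    [IsLocalRing (A ⧸ Ideal.span {x})]
    (B : Type u) [CommRing B] [Algebra A B] [Module.Finite A B] (hB : RegPair B x y)
    (hyB : IsSMulRegular B y)
    (het : ∀ g ∈ maximalIdeal A, Algebra.Etale A (Aw B g))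
    (hxm : x ∈ maximalIdeal A) (hym : y ∈ maximalIdeal A)
    (IH : ∀ (Γ : Type u) [CommRing Γ] [Algebra (A ⧸ Ideal.span {x}) Γ]
      [Module.Finite (A ⧸ Ideal.span {x}) Γ] (t : A ⧸ Ideal.span {x}),
      t ∈ maximalIdeal (A ⧸ Ideal.span {x}) → IsSMulRegular Γ t →
      Sat (maximalIdeal (A ⧸ Ideal.span {x})) Γ t →
      (∀ g ∈ maximalIdeal (A ⧸ Ideal.span {x}), Algebra.Etale (A ⧸ Ideal.span {x})
        (Localization.Away (algebraMap (A ⧸ Ideal.span {x}) Γ g))) →
      Algebra.Etale (A ⧸ Ideal.span {x}) Γ) :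
    Algebra.Etale A B := by
  let q : B →ₐ[A] (B ⧸ (Ideal.span {x}).map (algebraMap A B)) := Ideal.Quotient.mkₐ A _
  have hq : Function.Surjective q := Ideal.Quotient.mkₐ_surjective A _
  have hqker0 : RingHom.ker (q : B →+* (B ⧸ (Ideal.span {x}).map (algebraMap A B))) =
      (Ideal.span {x}).map (algebraMap A B) := Ideal.mk_ker
  have hqker : RingHom.ker (q : B →+* (B ⧸ (Ideal.span {x}).map (algebraMap A B))) =
      Ideal.span {algebraMap A B x} := by
    rw [hqker0, Ideal.map_span, Set.image_singleton]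
  have hlift : ∀ a ∈ Ideal.span {x}, algebraMap A (Gam (maximalIdeal A)
      (B ⧸ (Ideal.span {x}).map (algebraMap A B)) y) a = 0 := by
    intro a ha
    rw [← (toGam (maximalIdeal A) (B ⧸ (Ideal.span {x}).map (algebraMap A B)) y).commutes a]
    have : algebraMap A (B ⧸ (Ideal.span {x}).map (algebraMap A B)) a = 0 := by
      rw [IsScalarTower.algebraMap_apply A B (B ⧸ (Ideal.span {x}).map (algebraMap A B)),
        Ideal.Quotient.algebraMap_eq, Ideal.Quotient.eq_zero_iff_mem]
      exact Ideal.mem_map_of_mem _ ha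
    rw [this, map_zero]
  letI algΓ : Algebra (A ⧸ Ideal.span {x}) (Gam (maximalIdeal A)
      (B ⧸ (Ideal.span {x}).map (algebraMap A B)) y) :=
    (Ideal.Quotient.lift (Ideal.span {x}) (algebraMap A (Gam (maximalIdeal A)
      (B ⧸ (Ideal.span {x}).map (algebraMap A B)) y)) hlift).toAlgebra
  haveI tower : IsScalarTower A (A ⧸ Ideal.span {x}) (Gam (maximalIdeal A)
      (B ⧸ (Ideal.span {x}).map (algebraMap A B)) y) :=
    IsScalarTower.of_algebraMap_eq (fun a => rfl)
  haveI : Module.Flat A (Aw B x) := by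
    haveI := het x hxm
    infer_instance
  haveI : Module.Flat A (Aw B y) := by
    haveI := het y hym
    infer_instance
  have hyBb : IsSMulRegular (B ⧸ (Ideal.span {x}).map (algebraMap A B)) y :=
    isSMulRegular_quotient_of_regPair hB q hq hqker
  haveI finA : Module.Finite A (Gam (maximalIdeal A)
      (B ⧸ (Ideal.span {x}).map (algebraMap A B)) y) :=
    finite_Gam A (maximalIdeal A) x y z hz hA B hB hyB _ q hq hqker
  haveI finAb : Module.Finite (A ⧸ Ideal.span {x}) (Gam (maximalIdeal A)
      (B ⧸ (Ideal.span {x}).map (algebraMap A B)) y) :=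
    Module.Finite.of_restrictScalars_finite A _ _
  have hmap : (maximalIdeal A).map (algebraMap A (A ⧸ Ideal.span {x})) ≤
      maximalIdeal (A ⧸ Ideal.span {x}) := by
    rw [Ideal.map_le_iff_le_comap]
    intro g hg
    exact mk_mem_maximalIdeal _ g hg
  have hetΓ : Algebra.Etale (A ⧸ Ideal.span {x}) (Gam (maximalIdeal A)
      (B ⧸ (Ideal.span {x}).map (algebraMap A B)) y) := by
    apply IH _ (algebraMap A (A ⧸ Ideal.span {x}) y) (mk_mem_maximalIdeal _ y hym)
    · exact (isSMulRegular_algebraMap_iff (A ⧸ Ideal.span {x})).mpr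
        (isSMulRegular_Gam (maximalIdeal A) _ y)
    · exact Sat.of_tower hmap (sat_Gam (maximalIdeal A) _ y)
    · intro g' hg'
      obtain ⟨g, rfl⟩ := Ideal.Quotient.mk_surjective g'
      have hg : g ∈ maximalIdeal A := mem_maximalIdeal_of_mk_mem _ g hg'
      show Algebra.Etale (A ⧸ Ideal.span {x}) (Aw (Gam (maximalIdeal A)
        (B ⧸ (Ideal.span {x}).map (algebraMap A B)) y) g)
      haveI := het g hg
      have hinj := toGam_injective (maximalIdeal A) _ y hyBb
      have hbij := awMap_bijective_of_iso_up_to (toGam (maximalIdeal A)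
        (B ⧸ (Ideal.span {x}).map (algebraMap A B)) y) hinj g
        (fun t => exists_pow_smul_eq (maximalIdeal A) _ y t g hg)
      refine etale_of_surjective_of_ker_le (Ideal.span {x}) (Aw B g) _
        ((awMap (toGam (maximalIdeal A) (B ⧸ (Ideal.span {x}).map (algebraMap A B)) y) g).comp
          (awMap q g)) ?_ ?_
      · exact hbij.2.comp (awMap_surjective q g hq)
      · intro ξ hξ
        rw [RingHom.mem_ker, AlgHom.comp_apply] at hξ
        have h1 : awMap q g ξ = 0 := hbij.1 (by rw [hξ, map_zero])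
        have h2 := awMap_ker_le q g h1
        rw [hqker0, Ideal.map_map, ← IsScalarTower.algebraMap_eq] at h2
        exact h2
  haveI := hetΓ
  have hsurj := toGam_surjective_of_etale A (maximalIdeal A) x y z hz hA B hB _ q hq hqker
    (A ⧸ Ideal.span {x}) Ideal.Quotient.mk_surjective
  have hbij : Function.Bijective (toGam (maximalIdeal A)
      (B ⧸ (Ideal.span {x}).map (algebraMap A B)) y) :=
    ⟨toGam_injective _ _ y hyBb, hsurj⟩
  haveI : Module.Flat (A ⧸ Ideal.span {x}) (Gam (maximalIdeal A)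
      (B ⧸ (Ideal.span {x}).map (algebraMap A B)) y) := inferInstance
  haveI : Module.Flat A B := flat_of_toGam_bijective A (maximalIdeal A) x y hA.1.1 B hB.1 hbij
  exact etale_of_flat A hdim B (fun g hg => by
    haveI := het g hg
    infer_instance)

end Groth.Agent.H6.ZN
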