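import Mathlib
import Groth.Prelude
import Groth.Agent.Lib.Helper6.ZN10a

set_option autoImplicit false
universe u v
open IsLocalRing TensorProduct RingTheory.Sequence

set_option linter.unusedSectionVars false
set_option linter.unusedSimpArgs false
set_option linter.style.haveILetI false
namespace Groth.Agent.H6.ZN

theorem isWeaklyRegular_of_regPair {A : Type u} [CommRing A] {M : Type v} [AddCommGroup M]
    [Module A M] {x y : A} (h : RegPair M x y) : IsWeaklyRegular M [x, y] := by
  rw [isWeaklyRegular_cons_iff, isWeaklyRegular_singleton_iff]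
  refine ⟨h.1, ?_⟩
  intro a a' haa
  obtain ⟨b, rfl⟩ := Submodule.Quotient.mk_surjective _ a
  obtain ⟨b', rfl⟩ := Submodule.Quotient.mk_surjective _ a'
  have h1 : (Submodule.Quotient.mk (y • (b - b')) : QuotSMulTop x M) = 0 := by
    rw [smul_sub, Submodule.Quotient.mk_sub, Submodule.Quotient.mk_smul,
      Submodule.Quotient.mk_smul, sub_eq_zero]
    exact haa
  obtain ⟨c, hc⟩ := (quotSMulTop_mk_eq_zero x _).mp h1
  obtain ⟨b'', hb''⟩ := h.2 _ _ hc
  rw [← sub_eq_zero, ← Submodule.Quotient.mk_sub, quotSMulTop_mk_eq_zero]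
  exact ⟨b'', hb''⟩

/-- flatness preserves regularity of an element. -/
theorem isSMulRegular_of_flat {A : Type u} [CommRing A] (M : Type v) [AddCommGroup M]
    [Module A M] [Module.Flat A M] {a : A} (ha : IsSMulRegular A a) : IsSMulRegular M a := by
  have h1 : IsWeaklyRegular A [a] := (isWeaklyRegular_singleton_iff A a).mpr ha
  exact (isWeaklyRegular_singleton_iff M a).mp (isWeaklyRegular_of_flat M [a] h1)

/-- Lemma R1. -/
theorem isSMulRegular_of_punctured_flat (A : Type u) [CommRing A] [IsNoetherianRing A]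
    [IsLocalRing A] (B : Type u) [CommRing B] [Algebra A B]
    (hTF : TorsFree (maximalIdeal A) B)
    (hfl : ∀ g ∈ maximalIdeal A, Module.Flat A (Aw B g)) (a : A) (ha : IsSMulRegular A a) :
    IsSMulRegular B a := by
  intro b b' hbb
  have h0 : a • (b - b') = 0 := by
    rw [smul_sub, sub_eq_zero]
    exact hbb
  have h1 : ∀ g ∈ ((maximalIdeal A : Ideal A) : Set A), ∃ N : ℕ, g ^ N • (b - b') ∈
      (⊥ : Submodule A B) := by
    intro g hg
    haveI := hfl g hg
    have h2 : IsSMulRegular (Aw B g) a := isSMulRegular_of_flat (Aw B g) ha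
    have h3 : algebraMap B (Aw B g) (b - b') = 0 := h2 (by
      show a • algebraMap B (Aw B g) (b - b') = a • 0
      rw [← aw_algebraMap_smul, h0, map_zero, smul_zero])
    obtain ⟨N, hN⟩ := aw_eq_zero B g _ h3
    exact ⟨N, by rw [hN]; exact Submodule.zero_mem _⟩
  obtain ⟨N, hN⟩ := exists_pow_of_forall_gen (IsNoetherian.noetherian (maximalIdeal A))
    (⊥ : Submodule A B) (b - b') _ (Ideal.span_eq _) h1
  have h4 : b - b' = 0 := hTF _ ⟨N, fun c hc => by
    have := hN c hc
    rwa [Submodule.mem_bot] at this⟩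
  exact sub_eq_zero.mp h4

/-- Lemma R2. -/
theorem regPair_of_punctured_flat (A : Type u) [CommRing A] [IsNoetherianRing A]
    [IsLocalRing A] (B : Type u) [CommRing B] [Algebra A B] (x y : A) (hA : RegPair A x y)
    (hxB : IsSMulRegular B x) (hsat : Sat (maximalIdeal A) B x)
    (hfl : ∀ g ∈ maximalIdeal A, Module.Flat A (Aw B g)) : RegPair B x y := by
  refine ⟨hxB, fun b c hbc => ?_⟩
  let P : Submodule A B := LinearMap.range (LinearMap.lsmul A B x)
  have hP : ∀ v : B, v ∈ P ↔ ∃ c, x • c = v := fun v => Iff.rfl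
  have h1 : ∀ g ∈ ((maximalIdeal A : Ideal A) : Set A), ∃ N : ℕ, g ^ N • b ∈ P := by
    intro g hg
    haveI := hfl g hg
    have h2 : RegPair (Aw B g) x y :=
      regPair_of_isWeaklyRegular (isWeaklyRegular_of_flat (Aw B g) [x, y]
        (isWeaklyRegular_of_regPair hA))
    obtain ⟨β', hβ'⟩ := h2.2 (algebraMap B (Aw B g) b) (algebraMap B (Aw B g) c) (by
      rw [← aw_algebraMap_smul, ← aw_algebraMap_smul, hbc])
    obtain ⟨k, b'', hb''⟩ := aw_surj B g β'
    have h3 : algebraMap B (Aw B g) (g ^ k • b - x • b'') = 0 := by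
      rw [map_sub, aw_algebraMap_smul, aw_algebraMap_smul, hβ', ← hb'', smul_comm, sub_self]
    obtain ⟨M, hM⟩ := aw_eq_zero B g _ h3
    refine ⟨M + k, (hP _).mpr ⟨g ^ M • b'', ?_⟩⟩
    rw [smul_sub, sub_eq_zero] at hM
    rw [pow_add, mul_smul, hM, smul_comm]
  obtain ⟨N, hN⟩ := exists_pow_of_forall_gen (IsNoetherian.noetherian (maximalIdeal A))
    P b _ (Ideal.span_eq _) h1
  exact hsat b ⟨N, fun a ha => by
    obtain ⟨c', hc'⟩ := (hP _).mp (hN a ha)
    exact ⟨c', hc'.symm⟩⟩

end Groth.Agent.H6.ZN
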