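import Mathlib
import Groth.Prelude
import Groth.Agent.Lib.Helper6.ZN10b
import Groth.Agent.Lib.Helper1.ReflFree
import Groth.Agent.Lib.Helper1.AusBuchReg
import Groth.Agent.Lib.Helper1.RegSeq
import Groth.Agent.Lib.Helper1.RegPd
import Groth.Agent.Lib.Helper7.Reg1

set_option autoImplicit false
universe u v
open IsLocalRing TensorProduct RingTheory.Sequence

set_option linter.unusedSectionVars false
set_option linter.unusedSimpArgs false
set_option linter.style.haveILetI false
namespace Groth.Agent.H6.ZN

/-- Zariski–Nagata purity, module-theoretic core: a finite algebra over a regular local ring of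
dimension `≥ 2` that has depth `≥ 2` along the closed point and is étale over the punctured
spectrum is étale. -/
theorem purity_aux : ∀ (n : ℕ) (A : Type u) [CommRing A] [IsRegularLocalRing A],
    ringKrullDim A = ((n + 2 : ℕ) : WithBot ℕ∞) →
    ∀ (B : Type u) [CommRing B] [Algebra A B] [Module.Finite A B] (t : A),
      t ∈ maximalIdeal A → IsSMulRegular B t → Sat (maximalIdeal A) B t →
      (∀ g ∈ maximalIdeal A, Algebra.Etale A (Aw B g)) → Algebra.Etale A B := by
  intro n
  induction n with
  | zero =>
    intro A _ _ hd B _ _ _ t ht htB hsat het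
    obtain ⟨x, hx⟩ := Groth.Agent.H1.Reg.exists_fin_span_eq_maximalIdeal A 2 hd
    have hreg := Groth.Agent.H1.Reg.isRegular_ofFn 2 hd x hx
    have hlist : List.ofFn x = [x 0, x 1] := by
      simp [List.ofFn_succ]
    have hApair : RegPair A (x 0) (x 1) :=
      regPair_of_isWeaklyRegular (hlist ▸ hreg.toIsWeaklyRegular)
    have hfl : ∀ g ∈ maximalIdeal A, Module.Flat A (Aw B g) := fun g hg => by
      haveI := het g hg
      infer_instance
    have hTF : TorsFree (maximalIdeal A) B := torsFree_of_regular t ht htB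
    have hx0B : IsSMulRegular B (x 0) :=
      isSMulRegular_of_punctured_flat A B hTF hfl (x 0) hApair.1
    have hxm : ∀ i, x i ∈ maximalIdeal A := fun i => hx ▸ Ideal.subset_span ⟨i, rfl⟩
    have hsat0 : Sat (maximalIdeal A) B (x 0) := Sat.indep ht hx0B htB hsat
    have hBpair : RegPair B (x 0) (x 1) :=
      regPair_of_punctured_flat A B (x 0) (x 1) hApair hx0B hsat0 hfl
    have hdepth : ((2 : ℕ) : ℕ∞) ≤ LocCoh.depth A B := by
      have := Groth.Agent.H1.AB.le_depth_of_isWeaklyRegular (R := A) B [x 0, x 1]
        (isWeaklyRegular_of_regPair hBpair) (by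
          intro r hr
          simp only [List.mem_cons, List.not_mem_nil, or_false] at hr
          rcases hr with rfl | rfl
          · exact hxm 0
          · exact hxm 1)
      simpa using this
    haveI : Module.Free A B := Groth.Agent.H1.ReflFree.free_of_depth_ge A 2 hd B hdepth
    exact etale_of_flat A (by rw [hd]; norm_num) B (fun g hg => by
      haveI := het g hg
      infer_instance)
  | succ n ih =>
    intro A _ _ hd B _ _ _ t ht htB hsat het
    obtain ⟨x, hx⟩ := Groth.Agent.H1.Reg.exists_fin_span_eq_maximalIdeal A (n + 1 + 2) hd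
    have hreg := Groth.Agent.H1.Reg.isRegular_ofFn (n + 1 + 2) hd x hx
    have hxm : ∀ i, x i ∈ maximalIdeal A := fun i => hx ▸ Ideal.subset_span ⟨i, rfl⟩
    have hsf : (maximalIdeal A).spanFinrank = n + 2 + 1 :=
      Groth.Agent.H7.Reg.spanFinrank_eq_of_dim (n + 2 + 1) (by exact_mod_cast hd)
    have hx0sq : x 0 ∉ maximalIdeal A ^ 2 := by
      intro h0
      have h1 := Groth.Agent.H1.Reg.span_tail_eq_of_mem_sq (d := n + 2) x hx h0
      have h2 : (maximalIdeal A).spanFinrank ≤ n + 2 := by
        rw [← h1]
        refine (Submodule.spanFinrank_span_le_ncard_of_finite (Set.finite_range _)).trans ?_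
        rw [← Set.image_univ]
        refine (Set.ncard_image_le (Set.finite_univ)).trans ?_
        simp
      omega
    obtain ⟨hregq, hdimq⟩ := Groth.Agent.H7.Reg.quotient_regular (x 0) (hxm 0) hx0sq (n + 2)
      (by exact_mod_cast hd)
    haveI := hregq
    have hlist : List.ofFn x = [x 0, x 1, x 2] ++ List.ofFn (fun i : Fin n => x i.succ.succ.succ) := by
      simp [List.ofFn_succ]
    have hAtriple : RegTriple A (x 0) (x 1) (x 2) :=
      regTriple_of_isWeaklyRegular
        ((isWeaklyRegular_append_iff A _ _).mp (hlist ▸ hreg.toIsWeaklyRegular)).1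
    have hfl : ∀ g ∈ maximalIdeal A, Module.Flat A (Aw B g) := fun g hg => by
      haveI := het g hg
      infer_instance
    have hTF : TorsFree (maximalIdeal A) B := torsFree_of_regular t ht htB
    have hx0B : IsSMulRegular B (x 0) :=
      isSMulRegular_of_punctured_flat A B hTF hfl (x 0) hAtriple.1.1
    haveI : IsDomain A := Groth.Agent.H7.Reg.isDomain A
    have hx1ne : x 1 ≠ 0 := by
      intro h
      obtain ⟨b', hb'⟩ := hAtriple.1.2 1 0 (by rw [h, zero_smul, smul_zero])
      have h1 : IsUnit (x 0) := IsUnit.of_mul_eq_one b' (by rw [← smul_eq_mul, ← hb'])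
      exact (mem_maximalIdeal _).mp (hxm 0) h1
    have hx1A : IsSMulRegular A (x 1) := by
      refine isSMulRegular_iff_right_eq_zero_of_smul.mpr ?_
      intro y hy
      rw [smul_eq_mul] at hy
      exact (mul_eq_zero.mp hy).resolve_left hx1ne
    have hx1B : IsSMulRegular B (x 1) :=
      isSMulRegular_of_punctured_flat A B hTF hfl (x 1) hx1A
    have hsat0 : Sat (maximalIdeal A) B (x 0) := Sat.indep ht hx0B htB hsat
    have hBpair : RegPair B (x 0) (x 1) :=
      regPair_of_punctured_flat A B (x 0) (x 1) hAtriple.1 hx0B hsat0 hfl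
    have hdim2 : (2 : WithBot ℕ∞) ≤ ringKrullDim A := by
      rw [hd]
      exact_mod_cast (by omega : 2 ≤ n + 1 + 2)
    exact purity_step A hdim2 (x 0) (x 1) (x 2) (hxm 2) hAtriple B hBpair hx1B het (hxm 0) (hxm 1)
      (fun Γ _ _ _ t' ht' htΓ hsatΓ hetΓ =>
        ih (A ⧸ Ideal.span {x 0}) hdimq Γ t' ht' htΓ hsatΓ hetΓ)

end Groth.Agent.H6.ZN
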