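import Mathlib
import Groth.Prelude
import Groth.Agent.Lib.Helper6.ZN10c
import Groth.Agent.Lib.Helper6.SerreNormal
import Groth.Agent.Lib.Helper9.Misc.GDH

set_option autoImplicit false
universe u v
open IsLocalRing TensorProduct RingTheory.Sequence

set_option linter.unusedSectionVars false
set_option linter.unusedSimpArgs false
set_option linter.style.haveILetI false
namespace Groth.Agent.H6.ZN

/-- a finite normal domain over a normal local domain of dimension `≥ 2` has depth `≥ 2` along
the closed point (elementwise form). -/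
theorem sat_of_normal (A B : Type u) [CommRing A] [IsDomain A] [IsLocalRing A]
    [IsNoetherianRing A] [IsIntegrallyClosed A]
    (hA : (2 : WithBot ℕ∞) ≤ ringKrullDim A) [CommRing B] [IsDomain B] [IsIntegrallyClosed B]
    [Algebra A B] [Module.Finite A B] (hinj : Function.Injective (algebraMap A B))
    (t : A) (ht0 : t ≠ 0) : Sat (maximalIdeal A) B t := by
  haveI : IsNoetherianRing B := Algebra.FiniteType.isNoetherianRing A B
  haveI : FaithfulSMul A B := (faithfulSMul_iff_algebraMap_injective A B).mpr hinj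
  haveI : Algebra.IsIntegral A B := inferInstance
  intro b ⟨N, hN⟩
  by_contra hcon
  have ht'0 : algebraMap A B t ≠ 0 := fun h => ht0 (hinj (h.trans (map_zero _).symm))
  have h0 : Ideal.Quotient.mk (Ideal.span {algebraMap A B t}) b ≠ 0 := by
    rw [Ne, Ideal.Quotient.eq_zero_iff_mem, Ideal.mem_span_singleton']
    rintro ⟨c, hc⟩
    exact hcon ⟨c, by rw [Algebra.smul_def, ← hc, mul_comm]⟩
  obtain ⟨P, hP, hle⟩ := exists_le_isAssociatedPrime_of_isNoetherianRing B
    (Ideal.Quotient.mk (Ideal.span {algebraMap A B t}) b) h0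
  haveI := hP.isPrime
  have hht := Groth.Agent.H6.SerreNormal.height_eq_one_of_mem_associatedPrimes B
    (algebraMap A B t) ht'0 P hP
  have hmP : maximalIdeal A ≤ P.under A := by
    intro a ha
    obtain ⟨c, hc⟩ := hN _ (Ideal.pow_mem_pow ha N)
    have h1 : algebraMap A B (a ^ N) ∈ P := hle (by
      rw [Submodule.mem_colon_singleton, Submodule.mem_bot]
      show algebraMap A B (a ^ N) • (Ideal.Quotient.mk (Ideal.span {algebraMap A B t}) b) = 0
      rw [Algebra.smul_def, Ideal.Quotient.algebraMap_eq, ← map_mul,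
        Ideal.Quotient.eq_zero_iff_mem, Ideal.mem_span_singleton']
      exact ⟨c, by rw [← Algebra.smul_def, hc, Algebra.smul_def, mul_comm]⟩)
    rw [map_pow] at h1
    have h5 : algebraMap A B a ∈ P := Ideal.IsPrime.mem_of_pow_mem inferInstance N h1
    exact h5
  have hPm : P.under A = maximalIdeal A :=
    ((IsLocalRing.maximalIdeal.isMaximal A).eq_of_le (Ideal.IsPrime.ne_top inferInstance) hmP).symm
  have h2 : (P.under A).height ≤ P.height := Groth.Agent.H9.GDH.height_under_le_height P
  rw [hPm, hht] at h2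
  have h3 : ((maximalIdeal A).height : WithBot ℕ∞) ≤ ((1 : ℕ∞) : WithBot ℕ∞) := by
    exact_mod_cast h2
  rw [IsLocalRing.maximalIdeal_height_eq_ringKrullDim] at h3
  have h4 := hA.trans h3
  norm_num at h4

/-- **S0248**: Zariski–Nagata purity for finite normal algebras. -/
theorem s0248 (A B : Type u) [CommRing A] [IsRegularLocalRing A]
    (hA : (2 : WithBot ℕ∞) ≤ ringKrullDim A) [CommRing B] [IsDomain B] [IsIntegrallyClosed B]
    [Algebra A B] [Module.Finite A B] (hinj : Function.Injective (algebraMap A B))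
    (h : ∀ (q : Ideal B) (_ : q.IsPrime), q.comap (algebraMap A B) ≠ IsLocalRing.maximalIdeal A →
      Algebra.IsEtaleAt A q) : Algebra.Etale A B := by
  obtain ⟨d, hd⟩ : ∃ d : ℕ, ringKrullDim A = d :=
    ⟨(maximalIdeal A).spanFinrank, (IsRegularLocalRing.spanFinrank_maximalIdeal).symm⟩
  have hd2 : 2 ≤ d := by
    rw [hd] at hA
    exact_mod_cast hA
  obtain ⟨n, rfl⟩ : ∃ n, d = n + 2 := ⟨d - 2, by omega⟩
  haveI : IsDomain A := Groth.Agent.H7.Reg.isDomain A
  haveI : IsIntegrallyClosed A := Groth.Agent.H1.Reg.isIntegrallyClosed A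
  obtain ⟨t, htm, ht0⟩ : ∃ t ∈ maximalIdeal A, t ≠ 0 := by
    by_contra hcon
    push Not at hcon
    have h1 : maximalIdeal A = ⊥ := by
      rw [eq_bot_iff]
      intro a ha
      exact hcon a ha
    have hf : IsField A := IsLocalRing.isField_iff_maximalIdeal_eq.mpr h1
    have h2 := ringKrullDim_eq_zero_of_isField hf
    rw [h2] at hA
    norm_num at hA
  have htB : IsSMulRegular B t := by
    have ht'0 : algebraMap A B t ≠ 0 := fun h => ht0 (hinj (h.trans (map_zero _).symm))
    intro b b' hbb
    have : algebraMap A B t * b = algebraMap A B t * b' := by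
      rw [← Algebra.smul_def, ← Algebra.smul_def]
      exact hbb
    exact mul_left_cancel₀ ht'0 this
  refine purity_aux n A hd B t htm htB (sat_of_normal A B hA hinj t ht0) ?_
  intro g hg
  haveI : Algebra.FinitePresentation A B :=
    Algebra.FinitePresentation.of_finiteType.mp inferInstance
  rw [← Algebra.basicOpen_subset_etaleLocus_iff_etale]
  intro q hq
  rw [Algebra.mem_etaleLocus_iff]
  apply h q.asIdeal q.isPrime
  intro hcon
  apply hq
  have h1 : g ∈ q.asIdeal.comap (algebraMap A B) := hcon ▸ hg
  exact h1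

end Groth.Agent.H6.ZN
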