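import Mathlib
import Groth.Prelude
import Groth.Agent.Lib.Helper6.ZN11

set_option autoImplicit false
universe u v
open IsLocalRing TensorProduct RingTheory.Sequence

set_option linter.unusedSectionVars false
set_option linter.unusedSimpArgs false
set_option linter.style.haveILetI false
namespace Groth.Agent.H6.ZN

/-- Lemma E. -/
theorem etale_away_of_isLocalization {A B B' : Type u} [CommRing A] [CommRing B] [CommRing B']
    [Algebra A B] (g : A) (ρ : B →+* B')
    (hloc : @IsLocalization.Away B _ (algebraMap A B g) B' _ ρ.toAlgebra)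
    (het : (ρ.comp (algebraMap A B)).Etale) :
    Algebra.Etale A (Localization.Away (algebraMap A B g)) := by
  letI := ρ.toAlgebra
  letI : Algebra A B' := (ρ.comp (algebraMap A B)).toAlgebra
  haveI : IsScalarTower A B B' := IsScalarTower.of_algebraMap_eq (fun _ => rfl)
  haveI : Algebra.Etale A B' := het
  haveI := hloc
  let e : Localization.Away (algebraMap A B g) ≃ₐ[B] B' :=
    IsLocalization.algEquiv (Submonoid.powers (algebraMap A B g)) _ _
  exact Algebra.Etale.of_equiv (e.symm.restrictScalars A)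

theorem sat_of_regPair {A : Type u} [CommRing A] (I : Ideal A) {M : Type v} [AddCommGroup M]
    [Module A M] {x y : A} (hy : y ∈ I) (h : RegPair M x y) : Sat I M x := by
  intro b ⟨N, hN⟩
  obtain ⟨c, hc⟩ := hN (y ^ N) (Ideal.pow_mem_pow hy N)
  exact (h.pow_right N).2 b c hc

/-- Lemma F: ring-hom form of purity for "S2-ified" covers. -/
theorem purity_ringHom (A : Type u) [CommRing A] [IsRegularLocalRing A]
    (hA : (2 : WithBot ℕ∞) ≤ ringKrullDim A) (B : Type u) [CommRing B] (ψ : A →+* B)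
    (hfin : ψ.Finite) (x y : A) (hx : x ∈ maximalIdeal A) (hy : y ∈ maximalIdeal A)
    (hxB : IsSMulRegular B (ψ x))
    (hpair : ∀ b b' : B, ψ y * b = ψ x * b' → ∃ c, b = ψ x * c)
    (hloc : ∀ g ∈ maximalIdeal A, ∃ (B' : Type u) (_ : CommRing B') (ρ : B →+* B'),
      @IsLocalization.Away B _ (ψ g) B' _ ρ.toAlgebra ∧ (ρ.comp ψ).Etale) :
    ψ.Etale := by
  letI := ψ.toAlgebra
  haveI : Module.Finite A B := hfin
  obtain ⟨d, hd⟩ : ∃ d : ℕ, ringKrullDim A = d :=
    ⟨(maximalIdeal A).spanFinrank, (IsRegularLocalRing.spanFinrank_maximalIdeal).symm⟩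
  have hd2 : 2 ≤ d := by
    rw [hd] at hA
    exact_mod_cast hA
  obtain ⟨n, rfl⟩ : ∃ n, d = n + 2 := ⟨d - 2, by omega⟩
  have hxB' : IsSMulRegular B x := by
    intro b b' hbb
    exact hxB hbb
  have hpair' : RegPair B x y := ⟨hxB', fun b c hbc => by
    obtain ⟨c', hc'⟩ := hpair b c hbc
    exact ⟨c', hc'⟩⟩
  show Algebra.Etale A B
  refine purity_aux n A hd B x hx hxB' (sat_of_regPair _ hy hpair') ?_
  intro g hg
  obtain ⟨B', _, ρ, hρ, het⟩ := hloc g hg
  exact etale_away_of_isLocalization g ρ hρ het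

end Groth.Agent.H6.ZN
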