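import Mathlib
import Groth.Prelude
import Groth.Agent.Lib.Helper6.ZN12
import Groth.Agent.Lib.Helper6.S2ExtPunct
import Groth.Agent.Lib.Helper6.S2ExtDepthGeo

set_option autoImplicit false
universe u v
open CategoryTheory CategoryTheory.Limits AlgebraicGeometry TopologicalSpace

set_option linter.unusedSectionVars false
set_option linter.unusedSimpArgs false
set_option linter.style.haveILetI false
namespace Groth.Agent.H6.ZN

/-- **S0247**: purity holds for regular local rings of dimension at least two. -/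
theorem s0247 (A : Type u) [CommRing A] [IsRegularLocalRing A]
    (h : (2 : WithBot ℕ∞) ≤ ringKrullDim A) : FEt.PurityHolds A := by
  haveI : IsDomain A := Groth.Agent.H7.Reg.isDomain A
  haveI : IsIntegrallyClosed A := Groth.Agent.H1.Reg.isIntegrallyClosed A
  refine ⟨fun V => ?_⟩
  apply (S2ExtPunct.s1185 A h V).2.mpr
  have hfin := (S2ExtPunct.s1185 A h V).1
  haveI : IsFinite V.hom := V.prop.1
  haveI : Etale V.hom := V.prop.2
  have hdepthA : (2 : ℕ∞) ≤ LocCoh.depth A A :=
    Groth.Agent.H2.PicCodim2.two_le_depth_of_normal A h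
  have hU : ∀ x : Spec (CommRingCat.of A), x ∉ FEt.puncturedSpec A →
      (2 : ℕ∞) ≤ LocCoh.depth ((Spec (CommRingCat.of A)).presheaf.stalk x)
        ((Spec (CommRingCat.of A)).presheaf.stalk x) := by
    intro x hx
    have hxc : x = IsLocalRing.closedPoint A := by
      by_contra hne
      exact hx hne
    subst hxc
    rw [Groth.Agent.H1.FEtDepth2.depth_stalk_closedPoint]
    exact hdepthA
  obtain ⟨T, f, hfU, x₀, hx₀, y₀, hy₀, hreg, hpair⟩ :=
    S2ExtDepthGeo.exists_pair (FEt.puncturedSpec A) hU V.hom ⊤ (isAffineOpen_top _)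
  have hb : Function.Bijective (Scheme.ΓSpecIso (CommRingCat.of A)).inv.hom :=
    ConcreteCategory.bijective_of_isIso _
  have hm : ∀ z ∈ Ideal.span (Set.range fun i : T => f i.1),
      ∃ a ∈ IsLocalRing.maximalIdeal A, (Scheme.ΓSpecIso (CommRingCat.of A)).inv.hom a = z := by
    intro z hz
    have hle : Ideal.span (Set.range fun i : T => f i.1) ≤
        Ideal.map (Scheme.ΓSpecIso (CommRingCat.of A)).inv.hom (IsLocalRing.maximalIdeal A) := by
      rw [Ideal.span_le]
      rintro _ ⟨i, rfl⟩
      obtain ⟨a, ha⟩ := hb.2 (f i.1)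
      show f i.1 ∈ _
      rw [← ha]
      refine Ideal.mem_map_of_mem _ ?_
      by_contra hau
      have hmem : IsLocalRing.closedPoint A ∈ (Spec (CommRingCat.of A)).basicOpen (f i.1) := by
        rw [← ha, basicOpen_eq_of_affine]
        exact hau
      exact (hfU i.1 hmem).1 rfl
    exact (Ideal.mem_map_iff_of_surjective _ hb.2).mp (hle hz)
  obtain ⟨x, hxm, hxx⟩ := hm x₀ hx₀
  obtain ⟨y, hym, hyy⟩ := hm y₀ hy₀
  subst hxx hyy
  refine purity_ringHom A h Γ(V.left, ⊤) _ hfin x y hxm hym ?_ ?_ ?_
  · exact hreg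
  · intro b b' hbb
    exact hpair b b' hbb
  · intro g hg
    have hΩc : IsCompact (((V.hom ≫ (FEt.puncturedSpec A).ι) ⁻¹ᵁ ⊤ : V.left.Opens) : Set V.left) :=
      (V.hom ≫ (FEt.puncturedSpec A).ι).isCompact_preimage (isAffineOpen_top _).isCompact
    have hΩqs : IsQuasiSeparated
        (((V.hom ≫ (FEt.puncturedSpec A).ι) ⁻¹ᵁ ⊤ : V.left.Opens) : Set V.left) :=
      (V.hom ≫ (FEt.puncturedSpec A).ι).isQuasiSeparated_preimage
        (isAffineOpen_top _).isQuasiSeparated
    have hD : IsAffineOpen ((Spec (CommRingCat.of A)).basicOpen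
        ((Scheme.ΓSpecIso (CommRingCat.of A)).inv.hom g)) := (isAffineOpen_top _).basicOpen _
    have hDU : (Spec (CommRingCat.of A)).basicOpen
        ((Scheme.ΓSpecIso (CommRingCat.of A)).inv.hom g) ≤ FEt.puncturedSpec A := by
      intro p hp hpc
      rw [basicOpen_eq_of_affine] at hp
      have hpc' : p = IsLocalRing.closedPoint A := hpc
      subst hpc'
      exact hp hg
    have hE : V.left.basicOpen (((V.hom ≫ (FEt.puncturedSpec A).ι).app ⊤).hom
        ((Scheme.ΓSpecIso (CommRingCat.of A)).inv.hom g)) ≤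
        (V.hom ≫ (FEt.puncturedSpec A).ι) ⁻¹ᵁ (Spec (CommRingCat.of A)).basicOpen
          ((Scheme.ΓSpecIso (CommRingCat.of A)).inv.hom g) :=
      le_of_eq (Scheme.preimage_basicOpen _ _).symm
    refine ⟨Γ(V.left, V.left.basicOpen (((V.hom ≫ (FEt.puncturedSpec A).ι).app ⊤).hom
        ((Scheme.ΓSpecIso (CommRingCat.of A)).inv.hom g))), inferInstance,
      (V.left.presheaf.map (homOfLE (V.left.basicOpen_le _)).op).hom, ?_, ?_⟩
    · exact isLocalization_basicOpen_of_qcqs hΩc hΩqs _
    · have hcomm : ((V.hom ≫ (FEt.puncturedSpec A).ι).appLE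
            ((Spec (CommRingCat.of A)).basicOpen ((Scheme.ΓSpecIso (CommRingCat.of A)).inv.hom g))
            (V.left.basicOpen (((V.hom ≫ (FEt.puncturedSpec A).ι).app ⊤).hom
              ((Scheme.ΓSpecIso (CommRingCat.of A)).inv.hom g))) hE).hom.comp
          ((Spec (CommRingCat.of A)).presheaf.map (homOfLE ((Spec (CommRingCat.of A)).basicOpen_le
            ((Scheme.ΓSpecIso (CommRingCat.of A)).inv.hom g))).op).hom =
          (V.left.presheaf.map (homOfLE (V.left.basicOpen_le
            (((V.hom ≫ (FEt.puncturedSpec A).ι).app ⊤).hom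
              ((Scheme.ΓSpecIso (CommRingCat.of A)).inv.hom g)))).op).hom.comp
            ((V.hom ≫ (FEt.puncturedSpec A).ι).app ⊤).hom := by
        rw [← CommRingCat.hom_comp, ← CommRingCat.hom_comp]
        congr 1
        rw [Scheme.Hom.map_appLE]
        rfl
      have het1 : ((V.hom ≫ (FEt.puncturedSpec A).ι).appLE
            ((Spec (CommRingCat.of A)).basicOpen ((Scheme.ΓSpecIso (CommRingCat.of A)).inv.hom g))
            (V.left.basicOpen (((V.hom ≫ (FEt.puncturedSpec A).ι).app ⊤).hom
              ((Scheme.ΓSpecIso (CommRingCat.of A)).inv.hom g))) hE).hom.Etale := by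
        have key := S2ExtPunct.app_etale_of_le (FEt.puncturedSpec A) V.hom _ hD hDU
        rw [Scheme.Hom.app_eq_appLE] at key
        exact (Scheme.Hom.appLE_congr (V.hom ≫ (FEt.puncturedSpec A).ι) le_rfl rfl
          (Scheme.preimage_basicOpen (V.hom ≫ (FEt.puncturedSpec A).ι)
            ((Scheme.ΓSpecIso (CommRingCat.of A)).inv.hom g))
          (fun φ => φ.hom.Etale)).mp key
      have het2 : ((Spec (CommRingCat.of A)).presheaf.map
          (homOfLE ((Spec (CommRingCat.of A)).basicOpen_le
            ((Scheme.ΓSpecIso (CommRingCat.of A)).inv.hom g))).op).hom.Etale := by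
        have hloc := (isAffineOpen_top (Spec (CommRingCat.of A))).isLocalization_basicOpen
          ((Scheme.ΓSpecIso (CommRingCat.of A)).inv.hom g)
        exact @Algebra.Etale.of_isLocalizationAway _ _ _ _ _
          ((Scheme.ΓSpecIso (CommRingCat.of A)).inv.hom g) hloc
      have het3 : (Scheme.ΓSpecIso (CommRingCat.of A)).inv.hom.Etale :=
        RingHom.Etale.of_bijective hb
      have hfac : (V.left.presheaf.map (homOfLE (V.left.basicOpen_le
            (((V.hom ≫ (FEt.puncturedSpec A).ι).app ⊤).hom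
              ((Scheme.ΓSpecIso (CommRingCat.of A)).inv.hom g)))).op).hom.comp
          ((V.hom ≫ (FEt.puncturedSpec A).ι).appTop.hom.comp
            (Scheme.ΓSpecIso (CommRingCat.of A)).inv.hom) =
          (((V.hom ≫ (FEt.puncturedSpec A).ι).appLE
            ((Spec (CommRingCat.of A)).basicOpen ((Scheme.ΓSpecIso (CommRingCat.of A)).inv.hom g))
            (V.left.basicOpen (((V.hom ≫ (FEt.puncturedSpec A).ι).app ⊤).hom
              ((Scheme.ΓSpecIso (CommRingCat.of A)).inv.hom g))) hE).hom.comp
          ((Spec (CommRingCat.of A)).presheaf.map (homOfLE ((Spec (CommRingCat.of A)).basicOpen_le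
            ((Scheme.ΓSpecIso (CommRingCat.of A)).inv.hom g))).op).hom).comp
            (Scheme.ΓSpecIso (CommRingCat.of A)).inv.hom := by
        rw [hcomm]
        rfl
      have hfinal := RingHom.Etale.stableUnderComposition _ _ het3
        (RingHom.Etale.stableUnderComposition _ _ het2 het1)
      rw [← hfac] at hfinal
      exact hfinal

end Groth.Agent.H6.ZN
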