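import Mathlib
import Groth.Prelude
import Groth.Agent.Lib.Helper6.PurGl5
import Groth.Agent.Lib.Helper6.PurGl6
import Groth.Agent.Lib.Helper6.PurGl7a
import Groth.Agent.Lib.Helper6.ZN13

/-! Extension of finite étale covers over regular points, unramified in codimension one:
local hypothesis and the induction over an affine open. -/

set_option autoImplicit false
universe u
open CategoryTheory CategoryTheory.Limits AlgebraicGeometry TopologicalSpace Opposite

namespace Groth.Agent.H6.PurGl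

section Loc

variable {X : Scheme.{u}} [IsLocallyNoetherian X] (U : X.Opens) (hU : Dense (U : Set X))
  {W : Scheme.{u}} (w : W ⟶ (U : Scheme.{u})) [IsFinite w] [Etale w]
  (hreg : ∀ x : X, x ∉ U → IsRegularLocalRing (X.presheaf.stalk x))
  (hunr : ∀ ξ : X, ξ ∉ U → ringKrullDim (X.presheaf.stalk ξ) = 1 →
     ∃ (Yξ : Scheme.{u}) (πξ : Yξ ⟶ Spec (X.presheaf.stalk ξ)) (_ : IsFinite πξ) (_ : Etale πξ)
       (β : pullback w (pullback.fst U.ι (X.fromSpecStalk ξ)) ⟶ Yξ),
       IsPullback β (pullback.snd w (pullback.fst U.ι (X.fromSpecStalk ξ))) πξ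
         (pullback.snd U.ι (X.fromSpecStalk ξ)))

include hU hreg hunr in
theorem exists_hloc (U' : X.Opens) (hle : U ≤ U') {Y' : Scheme.{u}} (π' : Y' ⟶ U')
    [IsFinite π'] [Etale π'] (g : W ⟶ Y') (hsq : IsPullback g w π' (X.homOfLE hle)) (x : X)
    (hx : x ∉ U') (hgen : ∀ y : X, y ⤳ x → y ≠ x → y ∈ U') :
    ∃ (Yhl : Scheme.{u}) (πh : Yhl ⟶ Spec (X.presheaf.stalk x)) (_ : IsFinite πh)
      (_ : Etale πh) (β : pullback π' (punctMap U' x hgen) ⟶ Yhl),
      IsPullback β (pullback.snd π' (punctMap U' x hgen)) πh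
        (FEt.puncturedSpec (X.presheaf.stalk x)).ι := by
  have hxU : x ∉ U := fun h => hx (hle h)
  haveI := hreg x hxU
  let Punct := FEt.puncturedSpec (X.presheaf.stalk x)
  obtain ⟨n, hn⟩ : ∃ n : ℕ, ringKrullDim (X.presheaf.stalk x) = n :=
    ⟨_, (IsRegularLocalRing.spanFinrank_maximalIdeal (R := X.presheaf.stalk x)).symm⟩
  rcases Nat.lt_or_ge n 2 with h2 | h2
  · interval_cases n
    · -- dimension zero: impossible
      exact absurd (mem_of_dim_le_zero U hU x (by rw [hn]; rfl)) hxU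
    · -- dimension one
      have hdim : ringKrullDim (X.presheaf.stalk x) = 1 := by rw [hn]; rfl
      have hgenU : ∀ y : X, y ⤳ x → y ≠ x → y ∈ U :=
        mem_of_specializes_of_dim_le_one U hU x (le_of_eq hdim)
      let ρU := punctMap U x hgenU
      let ρ' := punctMap U' x hgen
      have hρ : ρU ≫ X.homOfLE hle = ρ' := by
        rw [← cancel_mono U'.ι, Category.assoc, X.homOfLE_ι, punctMap_ι, punctMap_ι]
      have hP : IsPullback ρU Punct.ι U.ι (X.fromSpecStalk x) :=
        isPullback_punctMap U x hxU hgenU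
      let κ := hP.isoPullback
      have hκ1 : κ.hom ≫ pullback.fst U.ι (X.fromSpecStalk x) = ρU := hP.isoPullback_hom_fst
      have hκ2 : κ.hom ≫ pullback.snd U.ι (X.fromSpecStalk x) = Punct.ι :=
        hP.isoPullback_hom_snd
      obtain ⟨Yξ, πξ, hf, he, β₀, hβ₀⟩ := hunr x hxU hdim
      have hc1 : pullback.fst π' ρ' ≫ π' = (pullback.snd π' ρ' ≫ ρU) ≫ X.homOfLE hle := by
        rw [Category.assoc, hρ]
        exact pullback.condition
      let t : pullback π' ρ' ⟶ W := hsq.lift (pullback.fst π' ρ') (pullback.snd π' ρ' ≫ ρU) hc1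
      have ht1 : t ≫ g = pullback.fst π' ρ' := hsq.lift_fst _ _ _
      have ht2 : t ≫ w = pullback.snd π' ρ' ≫ ρU := hsq.lift_snd _ _ _
      let θ : pullback π' ρ' ⟶ pullback w (pullback.fst U.ι (X.fromSpecStalk x)) :=
        pullback.lift t (pullback.snd π' ρ' ≫ κ.hom) (by rw [ht2, Category.assoc, hκ1])
      have hθ1 : θ ≫ pullback.fst w (pullback.fst U.ι (X.fromSpecStalk x)) = t :=
        pullback.lift_fst _ _ _
      have hθ2 : θ ≫ pullback.snd w (pullback.fst U.ι (X.fromSpecStalk x)) =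
          pullback.snd π' ρ' ≫ κ.hom := pullback.lift_snd _ _ _
      have hR := (IsPullback.of_hasPullback w (pullback.fst U.ι (X.fromSpecStalk x))).paste_horiz
        hsq
      have hL : IsPullback θ (pullback.snd π' ρ')
          (pullback.snd w (pullback.fst U.ι (X.fromSpecStalk x))) κ.hom := by
        refine IsPullback.of_right ?_ hθ2 hR
        rw [reassoc_of% hθ1, ht1, reassoc_of% hκ1, hρ]
        exact IsPullback.of_hasPullback π' ρ'
      have hfin := hL.paste_horiz hβ₀
      rw [hκ2] at hfin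
      exact ⟨Yξ, πξ, hf, he, θ ≫ β₀, hfin⟩
  · -- dimension at least two: purity
    have hpur : FEt.PurityHolds (X.presheaf.stalk x) := by
      apply Groth.Agent.H6.ZN.s0247
      rw [hn]
      exact_mod_cast h2
    let z₂ := pullback.snd π' (punctMap U' x hgen)
    let VP : FEt.Cat (Punct : Scheme.{u}) :=
      MorphismProperty.Over.mk ⊤ z₂ ⟨inferInstance, inferInstance⟩
    haveI : (FEt.restrict Punct.ι).EssSurj := hpur
    let Yh : FEt.Cat (Spec (X.presheaf.stalk x)) := (FEt.restrict Punct.ι).objPreimage VP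
    let e : (FEt.restrict Punct.ι).obj Yh ≅ VP := (FEt.restrict Punct.ι).objObjPreimageIso VP
    exact ⟨Yh.left, Yh.hom, Yh.prop.1, Yh.prop.2, _,
      isPullback_of_restrict_iso Punct.ι Yh VP e⟩

end Loc

end Groth.Agent.H6.PurGl

namespace Groth.Agent.H6.PurGl

section Ind

variable {X : Scheme.{u}} [IsLocallyNoetherian X] (U : X.Opens) (hU : Dense (U : Set X))
  {W : Scheme.{u}} (w : W ⟶ (U : Scheme.{u})) [IsFinite w] [Etale w]
  (hreg : ∀ x : X, x ∉ U → IsRegularLocalRing (X.presheaf.stalk x))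
  (hunr : ∀ ξ : X, ξ ∉ U → ringKrullDim (X.presheaf.stalk ξ) = 1 →
     ∃ (Yξ : Scheme.{u}) (πξ : Yξ ⟶ Spec (X.presheaf.stalk ξ)) (_ : IsFinite πξ) (_ : Etale πξ)
       (β : pullback w (pullback.fst U.ι (X.fromSpecStalk ξ)) ⟶ Yξ),
       IsPullback β (pullback.snd w (pullback.fst U.ι (X.fromSpecStalk ξ))) πξ
         (pullback.snd U.ι (X.fromSpecStalk ξ)))

include hU hreg hunr in
/-- the cover `w` of `U` extends over an open containing any given affine open. -/
theorem exists_extension_over_affine (O : X.Opens) (hO : IsAffineOpen O) :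
    ∃ (U' : X.Opens) (hle : U ≤ U') (_ : O ≤ U') (Y' : Scheme.{u})
      (π' : Y' ⟶ (U' : Scheme.{u})) (g : W ⟶ Y'),
      IsFinite π' ∧ Etale π' ∧ IsPullback g w π' (X.homOfLE hle) := by
  let S : Set X.Opens := {U' | ∃ (hle : U ≤ U') (Y' : Scheme.{u}) (π' : Y' ⟶ (U' : Scheme.{u}))
    (g : W ⟶ Y'), IsFinite π' ∧ Etale π' ∧ IsPullback g w π' (X.homOfLE hle)}
  have hUS : U ∈ S := ⟨le_rfl, W, w, 𝟙 W, inferInstance, inferInstance, by
    rw [X.homOfLE_rfl]
    exact IsPullback.id_horiz w⟩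
  haveI : IsNoetherianRing Γ(X, O) := IsLocallyNoetherian.component_noetherian ⟨O, hO⟩
  haveI hns : NoetherianSpace ↥(O : Scheme.{u}) := noetherianSpace_of_isAffineOpen O hO
  let f : X.Opens → (O : Scheme.{u}).Opens := fun U' => O.ι ⁻¹ᵁ U'
  obtain ⟨U', hU'S, hmax⟩ :=
    (InvImage.wf f (wellFounded_gt (α := (O : Scheme.{u}).Opens))).has_min S ⟨U, hUS⟩
  obtain ⟨hle, Y', π', g, hf, he, hsq⟩ := hU'S
  by_cases hOU' : O ≤ U'
  · exact ⟨U', hle, hOU', Y', π', g, hf, he, hsq⟩
  · exfalso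
    have hne : f U' ≠ ⊤ := by
      intro h
      apply hOU'
      intro z hz
      have : (⟨z, hz⟩ : ↥(O : Scheme.{u})) ∈ f U' := h ▸ trivial
      exact this
    obtain ⟨z, hzU', hzgen⟩ := exists_max_point (α := ↥(O : Scheme.{u})) (f U') hne
    have hx : (O.ι z) ∉ U' := hzU'
    have hgen : ∀ y : X, y ⤳ (O.ι z) → y ≠ O.ι z → y ∈ U' := by
      intro y hy hyne
      have hyO : y ∈ O := hy.mem_open O.2 z.2
      let y' : ↥(O : Scheme.{u}) := ⟨y, hyO⟩
      have hy' : O.ι y' = y := rfl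
      have h1 : y' ⤳ z := by
        apply (O.ι.isEmbedding.toIsInducing.specializes_iff).mp
        rw [hy']
        exact hy
      have h2 : y' ≠ z := by
        intro h
        exact hyne (by rw [← h, hy'])
      exact hzgen y' h1 h2
    obtain ⟨U'', hle', hxU'', Y'', π'', g', hf', he', hsq'⟩ :=
      exists_local_extension' U' π' (O.ι z) hx hgen
        (exists_hloc U hU w hreg hunr U' hle π' g hsq (O.ι z) hx hgen)
    refine hmax U'' ⟨hle.trans hle', Y'', π'', g ≫ g', hf', he', ?_⟩ ?_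
    · have := hsq.paste_horiz hsq'
      rwa [X.homOfLE_homOfLE] at this
    · change f U'' > f U'
      refine lt_of_le_of_ne (fun a ha => hle' ha) (fun heq => hzU' ?_)
      rw [heq]
      exact hxU''

end Ind

end Groth.Agent.H6.PurGl
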