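import Mathlib
import Groth.Prelude
import Groth.Agent.Lib.Helper6.NormExt3
import Groth.Agent.Lib.Helper6.PurGl7b
import Groth.Agent.Lib.Helper6.PurePairMain
import Groth.Agent.Lib.Helper1.EtStalk
import Groth.Agent.Lib.Helper1.RegNormal
import Groth.Agent.Lib.Helper7.Reg1

/-! Extension of finite étale covers across regular points, unramified in codimension one
(S0287). -/

set_option autoImplicit false
universe u
set_option backward.isDefEq.respectTransparency.types false
set_option linter.style.haveILetI false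
open CategoryTheory CategoryTheory.Limits AlgebraicGeometry TopologicalSpace Opposite

namespace Groth.Agent.H6.PurGl

open Groth.Agent.H6.NormExt Groth.Agent.H6.PurePairMain

/-- A finite étale cover `w` of an open subscheme `j : Us ⟶ Vs` such that over every affine open
of `Vs` the integral closure in the direct image algebra is finite étale extends to a finite
étale cover of `Vs`. -/
theorem exists_extension_of_intClFEt {Vs Us W : Scheme.{u}} [IsLocallyNoetherian Vs]
    (j : Us ⟶ Vs) [IsOpenImmersion j] (w : W ⟶ Us) [IsFinite w] [Etale w]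
    (hB : ∀ O' : Vs.Opens, IsAffineOpen O' → IntClFEt ((w ≫ j).app O').hom) :
    ∃ (Y : Scheme.{u}) (π : Y ⟶ Vs) (_ : IsFinite π) (_ : Etale π) (e : pullback π j ≅ W),
      e.hom ≫ w = pullback.snd π j := by
  obtain ⟨g, hg⟩ : ∃ g : W ⟶ Vs, g = w ≫ j := ⟨_, rfl⟩
  haveI : QuasiCompact g := hg ▸ inferInstance
  haveI : QuasiSeparated g := hg ▸ inferInstance
  have hB' : ∀ O' : Vs.Opens, IsAffineOpen O' → IntClFEt (g.app O').hom := by
    rw [hg]; exact hB
  have hπapp : ∀ O' : Vs.Opens, IsAffineOpen O' →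
      (g.fromNormalization.app O').hom.Finite ∧ (g.fromNormalization.app O').hom.Etale := by
    intro O' hO'
    rw [g.fromNormalization_app hO']
    letI alg : Algebra Γ(Vs, O') Γ(W, g ⁻¹ᵁ O') := (g.app O').hom.toAlgebra
    obtain ⟨hfin, het⟩ : Module.Finite Γ(Vs, O') (integralClosure Γ(Vs, O') Γ(W, g ⁻¹ᵁ O')) ∧
      Algebra.Etale Γ(Vs, O') (integralClosure Γ(Vs, O') Γ(W, g ⁻¹ᵁ O')) := hB' O' hO'
    have h1 : (algebraMap Γ(Vs, O') (integralClosure Γ(Vs, O') Γ(W, g ⁻¹ᵁ O'))).Finite :=
      RingHom.finite_algebraMap.mpr hfin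
    have h2 : (algebraMap Γ(Vs, O') (integralClosure Γ(Vs, O') Γ(W, g ⁻¹ᵁ O'))).Etale :=
      RingHom.etale_algebraMap.mpr het
    have hb : Function.Bijective (g.normalizationObjIso hO').inv.hom :=
      ConcreteCategory.bijective_of_isIso _
    simp only [CommRingCat.hom_comp, CommRingCat.hom_ofHom]
    exact ⟨RingHom.Finite.comp (RingHom.Finite.of_surjective _ hb.2) h1,
      RingHom.Etale.stableUnderComposition _ _ h2 (RingHom.Etale.of_bijective hb)⟩
  haveI : IsFinite g.fromNormalization := ⟨fun O' hO' => (hπapp O' hO').1⟩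
  haveI : Etale g.fromNormalization := etale_of_app _ (fun O' hO' => (hπapp O' hO').2)
  have hs : pullback.fst g j ≫ w = pullback.snd g j := by
    rw [← cancel_mono j, Category.assoc, ← hg]; exact pullback.condition
  haveI : IsIso (pullback.fst g j) := by
    refine ⟨⟨pullback.lift (𝟙 W) w (by rw [Category.id_comp, hg]), ?_, pullback.lift_fst _ _ _⟩⟩
    apply pullback.hom_ext
    · rw [Category.assoc, pullback.lift_fst, Category.comp_id, Category.id_comp]
    · rw [Category.assoc, pullback.lift_snd, Category.id_comp]; exact hs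
  haveI : IsIntegralHom (pullback.snd g j) := by
    rw [← hs]; infer_instance
  let e : pullback g.fromNormalization j ≅ W :=
    (asIso (g.normalizationPullback j)).symm ≪≫
      (asIso (pullback.snd g j).toNormalization).symm ≪≫ asIso (pullback.fst g j)
  have he : e.hom ≫ w = pullback.snd g.fromNormalization j := by
    change (inv (g.normalizationPullback j) ≫ inv (pullback.snd g j).toNormalization ≫
      pullback.fst g j) ≫ w = _
    rw [Category.assoc, Category.assoc, hs, IsIso.inv_comp_eq, IsIso.inv_comp_eq,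
      Scheme.Hom.normalizationPullback_snd, Scheme.Hom.toNormalization_fromNormalization]
  exact ⟨_, g.fromNormalization, inferInstance, inferInstance, e, he⟩

section Final

variable {X : Scheme.{u}} [IsLocallyNoetherian X] (U : X.Opens) (hU : Dense (U : Set X))
  {W : Scheme.{u}} (w : W ⟶ (U : Scheme.{u})) [IsFinite w] [Etale w]
  (hreg : ∀ x : X, x ∉ U → IsRegularLocalRing (X.presheaf.stalk x))
  (hunr : ∀ ξ : X, ξ ∉ U → ringKrullDim (X.presheaf.stalk ξ) = 1 →
     ∃ (Yξ : Scheme.{u}) (πξ : Yξ ⟶ Spec (X.presheaf.stalk ξ)) (_ : IsFinite πξ) (_ : Etale πξ)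
       (β : pullback w (pullback.fst U.ι (X.fromSpecStalk ξ)) ⟶ Yξ),
       IsPullback β (pullback.snd w (pullback.fst U.ι (X.fromSpecStalk ξ))) πξ
         (pullback.snd U.ι (X.fromSpecStalk ξ)))

include hU hreg hunr in
theorem intClFEt_app (O' : X.Opens) (hO' : IsAffineOpen O') :
    IntClFEt ((w ≫ U.ι).app O').hom := by
  obtain ⟨U', hle, hOU', Y', π', g, hf, he, hsq⟩ :=
    exists_extension_over_affine U hU w hreg hunr O' hO'
  haveI := hf
  haveI := he
  let p : Y' ⟶ X := π' ≫ U'.ι
  have hgp : g ≫ p = w ≫ U.ι := by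
    change g ≫ π' ≫ U'.ι = w ≫ U.ι
    rw [← Category.assoc, hsq.w, Category.assoc, X.homOfLE_ι]
  haveI : IsOpenImmersion g :=
    MorphismProperty.of_isPullback (P := @IsOpenImmersion) hsq.flip inferInstance
  haveI : IsLocallyNoetherian Y' := LocallyOfFiniteType.isLocallyNoetherian π'
  have hrange : Set.range g = π' ⁻¹' (Set.range (X.homOfLE hle)) := by
    have hs : Function.Surjective hsq.isoPullback.hom := hsq.isoPullback.hom.surjective
    rw [← Scheme.Pullback.range_fst π' (X.homOfLE hle), ← hsq.isoPullback_hom_fst,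
      Scheme.Hom.comp_base, TopCat.coe_comp, Set.range_comp, hs.range_eq, Set.image_univ]
  have hrange' : Set.range (X.homOfLE hle) =
      ((U'.ι ⁻¹ᵁ U : (U' : Scheme.{u}).Opens) : Set (U' : Scheme.{u})) := by
    rw [← Scheme.Hom.coe_opensRange, Scheme.opensRange_homOfLE]
  have hdense : Dense (Set.range g) := by
    rw [hrange, hrange']
    exact (hU.preimage U'.ι.isOpenEmbedding.isOpenMap).preimage π'.isOpenMap
  have hnorm : ∀ y : Y', y ∉ Set.range g →
      IsDomain (Y'.presheaf.stalk y) ∧ IsIntegrallyClosed (Y'.presheaf.stalk y) := by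
    intro y hy
    have h1 : (π' y).1 ∉ U := by
      intro h
      apply hy
      rw [hrange, hrange']
      exact h
    haveI := hreg _ h1
    have hd : IsDomain (X.presheaf.stalk (π' y).1) := Groth.Agent.H7.Reg.isDomain _
    have hic : IsIntegrallyClosed (X.presheaf.stalk (π' y).1) :=
      Groth.Agent.H1.Reg.isIntegrallyClosed _
    let e : (U' : Scheme.{u}).presheaf.stalk (π' y) ≃+* X.presheaf.stalk (π' y).1 :=
      (U'.stalkIso (π' y)).commRingCatIsoToRingEquiv
    haveI : IsDomain ((U' : Scheme.{u}).presheaf.stalk (π' y)) := e.toMulEquiv.isDomain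
    haveI : IsIntegrallyClosed ((U' : Scheme.{u}).presheaf.stalk (π' y)) :=
      IsIntegrallyClosed.of_equiv e.symm
    exact Groth.Agent.H1.EtStalk.normal_stalk_of_etale π' y
  -- `α` is finite étale
  have hOr : O' ≤ U'.ι.opensRange := by
    rw [Scheme.Opens.opensRange_ι]
    exact hOU'
  have hA : IsAffineOpen (U'.ι ⁻¹ᵁ O') := hO'.preimage_of_isOpenImmersion U'.ι hOr
  have hiso : IsIso (U'.ι.app O') := Scheme.Hom.isIso_app U'.ι O' hOr
  have hb : Function.Bijective (U'.ι.app O').hom := ConcreteCategory.bijective_of_isIso _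
  have h2f : (π'.app (U'.ι ⁻¹ᵁ O')).hom.Finite := π'.finite_app _ hA
  have h2e : (π'.app (U'.ι ⁻¹ᵁ O')).hom.Etale := by
    have := π'.etale_appLE hA (hA.preimage π') le_rfl
    rwa [← Scheme.Hom.app_eq_appLE] at this
  have hpapp : (p.app O').hom = (π'.app (U'.ι ⁻¹ᵁ O')).hom.comp (U'.ι.app O').hom := rfl
  have hα1 : (p.app O').hom.Finite := by
    rw [hpapp]
    exact RingHom.Finite.comp h2f (RingHom.Finite.of_surjective _ hb.2)
  have hα2 : (p.app O').hom.Etale := by
    rw [hpapp]
    exact RingHom.Etale.stableUnderComposition _ _ (RingHom.Etale.of_bijective hb) h2e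
  have key : ∀ (G : W ⟶ X), G = g ≫ p → IntClFEt (G.app O').hom := by
    rintro _ rfl
    have h3 : ((g ≫ p).app O').hom = (g.app (p ⁻¹ᵁ O')).hom.comp (p.app O').hom := rfl
    rw [h3]
    exact intClFEt_comp _ _ hα1 hα2 (app_injective g hdense hnorm (p ⁻¹ᵁ O'))
      (fun b hb => exists_app_eq g hdense hnorm (p ⁻¹ᵁ O') b hb)
  exact key _ hgp.symm

include hU hreg hunr in
/-- **S0287** (morphism form). -/
theorem exists_extension_of_unramified :
    ∃ (Y : Scheme.{u}) (π : Y ⟶ X) (_ : IsFinite π) (_ : Etale π) (e : pullback π U.ι ≅ W),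
      e.hom ≫ w = pullback.snd π U.ι :=
  exists_extension_of_intClFEt U.ι w (intClFEt_app U hU w hreg hunr)

end Final

/-- **S0287**. -/
theorem s0287 {X : Scheme.{u}} [IsLocallyNoetherian X] (U : X.Opens) (hU : Dense (U : Set X))
    (Y : FEt.Cat (U : Scheme.{u}))
    (hreg : ∀ x : X, x ∉ U → IsRegularLocalRing (X.presheaf.stalk x))
    (hunr : ∀ ξ : X, ξ ∉ U → ringKrullDim (X.presheaf.stalk ξ) = 1 →
      ∃ Yξ : FEt.Cat (Spec (X.presheaf.stalk ξ)),
        Nonempty ((FEt.restrict (pullback.snd U.ι (X.fromSpecStalk ξ))).obj Yξ ≅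
          (FEt.restrict (pullback.fst U.ι (X.fromSpecStalk ξ))).obj Y)) :
    ∃ Y' : FEt.Cat X, Nonempty ((FEt.restrict U.ι).obj Y' ≅ Y) := by
  haveI : IsFinite Y.hom := Y.prop.1
  haveI : Etale Y.hom := Y.prop.2
  have hunr' : ∀ ξ : X, ξ ∉ U → ringKrullDim (X.presheaf.stalk ξ) = 1 →
     ∃ (Yξ : Scheme.{u}) (πξ : Yξ ⟶ Spec (X.presheaf.stalk ξ)) (_ : IsFinite πξ) (_ : Etale πξ)
       (β : pullback Y.hom (pullback.fst U.ι (X.fromSpecStalk ξ)) ⟶ Yξ),
       IsPullback β (pullback.snd Y.hom (pullback.fst U.ι (X.fromSpecStalk ξ))) πξ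
         (pullback.snd U.ι (X.fromSpecStalk ξ)) := by
    intro ξ hξ hdim
    obtain ⟨Yξ, ⟨e⟩⟩ := hunr ξ hξ hdim
    exact ⟨Yξ.left, Yξ.hom, Yξ.prop.1, Yξ.prop.2, _,
      isPullback_of_restrict_iso (pullback.snd U.ι (X.fromSpecStalk ξ)) Yξ
        ((FEt.restrict (pullback.fst U.ι (X.fromSpecStalk ξ))).obj Y) e⟩
  obtain ⟨Y', π, hπf, hπe, e, he⟩ := exists_extension_of_unramified U hU Y.hom hreg hunr'
  exact ⟨MorphismProperty.Over.mk ⊤ π ⟨hπf, hπe⟩, ⟨MorphismProperty.Over.isoMk e he⟩⟩

end Groth.Agent.H6.PurGl
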