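import Mathlib
import Groth.Prelude.Def_CAlg
import Groth.Agent.Lib.Helper9.Misc.PFD1
import Groth.Agent.Lib.Helper6.PiDepth

set_option autoImplicit false
universe u

open AlgebraicGeometry CategoryTheory CategoryTheory.Limits TopologicalSpace TensorProduct

namespace Groth.Agent.H6.PurityFlat

/-! ### Ring lemmas -/

/-- An ideal containing powers of both members of a regular sequence of length two is not
generated by a non-unit. -/
theorem isUnit_of_pow_mem {R : Type*} [CommRing R] (a b d : R) (ha : IsSMulRegular R a)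
    (hb : ∀ y c : R, b * y = a * c → ∃ c', y = a * c')
    (k l : ℕ) (hk : a ^ k ∈ Ideal.span {d}) (hl : b ^ l ∈ Ideal.span {d}) : IsUnit d := by
  obtain ⟨r, hr⟩ := Ideal.mem_span_singleton'.mp hk
  obtain ⟨r', hr'⟩ := Ideal.mem_span_singleton'.mp hl
  have h1 : b ^ l * r = a ^ k * r' := by rw [← hr, ← hr']; ring
  obtain ⟨c, hc⟩ := Hartogs2.exists_eq_pow_mul a b ha hb k l r r' h1
  have hak : IsSMulRegular R (a ^ k) := ha.pow k
  have h2 : a ^ k * (d * c) = a ^ k * 1 := by
    rw [mul_one]
    calc a ^ k * (d * c) = (a ^ k * c) * d := by ring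
      _ = r * d := by rw [← hc]
      _ = a ^ k := hr
  have h3 : d * c = 1 := by
    apply hak
    show a ^ k • (d * c) = a ^ k • (1 : R)
    rw [smul_eq_mul, smul_eq_mul]
    exact h2
  exact isUnit_iff_exists_inv.mpr ⟨c, h3⟩

/-- If `d` becomes a unit after inverting `t`, then a power of `t` is a multiple of `d`. -/
theorem exists_pow_mem_span_of_isUnit {R : Type*} [CommRing R] (t d : R)
    (h : IsUnit (algebraMap R (Localization (Submonoid.powers t)) d)) :
    ∃ n : ℕ, t ^ n ∈ Ideal.span {d} := by
  by_contra hcon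
  have hdisj : Disjoint (Submonoid.powers t : Set R) (Ideal.span {d} : Set R) := by
    rw [Set.disjoint_left]
    rintro _ ⟨n, rfl⟩ hn
    exact hcon ⟨n, hn⟩
  have hne := (IsLocalization.map_algebraMap_ne_top_iff_disjoint (Submonoid.powers t)
    (Localization (Submonoid.powers t)) (Ideal.span {d})).mpr hdisj
  apply hne
  exact Ideal.eq_top_of_isUnit_mem _
    (Ideal.mem_map_of_mem _ (Ideal.mem_span_singleton_self d)) h

theorem isUnramifiedAt_congr {A B : Type*} [CommRing A] [CommRing B] [Algebra A B]
    {q q' : Ideal B} [q.IsPrime] [q'.IsPrime] (h : q = q')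
    (hu : Algebra.IsUnramifiedAt A q) : Algebra.IsUnramifiedAt A q' := by
  subst h
  exact hu

/-- Unramifiedness at a prime can be tested on any model of the local ring. -/
theorem isUnramifiedAt_of_isLocalization {A B L : Type*} [CommRing A] [CommRing B] [CommRing L]
    [Algebra A B] [Algebra B L] (q : Ideal B) [q.IsPrime] [IsLocalization.AtPrime L q]
    (h : ((algebraMap B L).comp (algebraMap A B)).FormallyUnramified) :
    Algebra.IsUnramifiedAt A q := by
  letI : Algebra A L := ((algebraMap B L).comp (algebraMap A B)).toAlgebra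
  haveI : IsScalarTower A B L := IsScalarTower.of_algebraMap_eq (fun _ => rfl)
  haveI : Algebra.FormallyUnramified A L := h
  let e : L ≃ₐ[B] Localization.AtPrime q := IsLocalization.algEquiv q.primeCompl _ _
  exact Algebra.FormallyUnramified.of_equiv (e.restrictScalars A)

/-- Unramifiedness at a prime of a localization of `B` is the same as at its contraction. -/
theorem isUnramifiedAt_comap_iff {A B B' : Type*} [CommRing A] [CommRing B] [CommRing B']
    [Algebra A B] [Algebra A B'] [Algebra B B'] [IsScalarTower A B B']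
    (M : Submonoid B) [IsLocalization M B'] (Q' : Ideal B') [Q'.IsPrime] :
    Algebra.IsUnramifiedAt A (Q'.comap (algebraMap B B')) ↔ Algebra.IsUnramifiedAt A Q' := by
  haveI : IsLocalization.AtPrime (Localization.AtPrime Q') (Q'.comap (algebraMap B B')) :=
    IsLocalization.isLocalization_isLocalization_atPrime_isLocalization M
      (Localization.AtPrime Q') Q'
  let e : Localization.AtPrime (Q'.comap (algebraMap B B')) ≃ₐ[B] Localization.AtPrime Q' :=
    IsLocalization.algEquiv (Q'.comap (algebraMap B B')).primeCompl _ _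
  exact Algebra.FormallyUnramified.iff_of_equiv (e.restrictScalars A)

theorem isUnramifiedAt_of_comap {A B A' B' : Type*} [CommRing A] [CommRing B] [CommRing A']
    [CommRing B'] [Algebra A B] [Algebra A A'] [Algebra A B'] [Algebra B B'] [Algebra A' B']
    [IsScalarTower A B B'] [IsScalarTower A A' B']
    (M : Submonoid B) [IsLocalization M B'] (Q' : Ideal B') [Q'.IsPrime]
    (h : Algebra.IsUnramifiedAt A (Q'.comap (algebraMap B B'))) :
    Algebra.IsUnramifiedAt A' Q' := by
  haveI : Algebra.FormallyUnramified A (Localization.AtPrime Q') :=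
    (isUnramifiedAt_comap_iff M Q').mp h
  exact Algebra.FormallyUnramified.of_restrictScalars A A' (Localization.AtPrime Q')

/-- The local step: if `B` is unramified over all primes strictly contained in `p` and `A_p` has a
regular sequence of length two, then the finite flat algebra `B` is unramified over `p`. -/
theorem local_step {A B A' B' : Type u} [CommRing A] [CommRing B] [CommRing A'] [CommRing B']
    [Algebra A B] [Algebra A A'] [Algebra A B'] [Algebra B B'] [Algebra A' B']
    [IsScalarTower A B B'] [IsScalarTower A A' B']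
    (p : Ideal A) [hp : p.IsPrime] [IsLocalization.AtPrime A' p]
    [IsLocalization (Algebra.algebraMapSubmonoid B p.primeCompl) B']
    [Module.Finite A' B'] [Module.Flat A' B']
    (hunr : ∀ Q : PrimeSpectrum B, Q.asIdeal.comap (algebraMap A B) < p →
      Algebra.IsUnramifiedAt A Q.asIdeal)
    (a b : A') (ha : a ∈ p.map (algebraMap A A')) (hb : b ∈ p.map (algebraMap A A'))
    (hreg : IsSMulRegular A' a) (hcol : ∀ y c : A', b * y = a * c → ∃ c', y = a * c')
    (q : Ideal B) [hq : q.IsPrime] (hqp : q.comap (algebraMap A B) = p) :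
    Algebra.IsUnramifiedAt A q := by
  classical
  haveI : IsLocalRing A' := IsLocalization.AtPrime.isLocalRing A' p
  haveI : Module.Free A' B' := Module.free_of_flat_of_isLocalRing
  let bs := Module.Free.chooseBasis A' B'
  have hunder : (IsLocalRing.maximalIdeal A').comap (algebraMap A A') = p :=
    IsLocalization.AtPrime.under_maximalIdeal A' p
  have hmax : p.map (algebraMap A A') = IsLocalRing.maximalIdeal A' := by
    have h1 := IsLocalization.map_under p.primeCompl A' (IsLocalRing.maximalIdeal A')
    have hunder' : (IsLocalRing.maximalIdeal A').under A = p := hunder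
    rw [hunder'] at h1
    exact h1
  have hkey : ∀ t ∈ IsLocalRing.maximalIdeal A',
      ∃ n : ℕ, t ^ n ∈ Ideal.span {Algebra.discr A' bs} := by
    intro t ht
    apply exists_pow_mem_span_of_isUnit
    apply Groth.Agent.H9.PFD.isUnit_discr_away bs t
    intro Q' hQ'
    apply isUnramifiedAt_of_comap (A := A) (B := B) (Algebra.algebraMapSubmonoid B p.primeCompl)
    refine hunr ⟨Q'.asIdeal.comap (algebraMap B B'), inferInstance⟩ ?_
    show (Q'.asIdeal.comap (algebraMap B B')).comap (algebraMap A B) < p
    have hcc : (Q'.asIdeal.comap (algebraMap B B')).comap (algebraMap A B) =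
        (Q'.asIdeal.comap (algebraMap A' B')).comap (algebraMap A A') := by
      rw [Ideal.comap_comap, Ideal.comap_comap, ← IsScalarTower.algebraMap_eq,
        ← IsScalarTower.algebraMap_eq]
    rw [hcc]
    have hP'prime : (Q'.asIdeal.comap (algebraMap A' B')).IsPrime := inferInstance
    have hle : Q'.asIdeal.comap (algebraMap A' B') ≤ IsLocalRing.maximalIdeal A' :=
      IsLocalRing.le_maximalIdeal hP'prime.ne_top
    have htP' : t ∉ Q'.asIdeal.comap (algebraMap A' B') := hQ'
    refine lt_of_le_of_ne ?_ ?_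
    · calc (Q'.asIdeal.comap (algebraMap A' B')).comap (algebraMap A A')
          ≤ (IsLocalRing.maximalIdeal A').comap (algebraMap A A') := Ideal.comap_mono hle
        _ = p := hunder
    · intro heq
      apply htP'
      have h3 := IsLocalization.map_under p.primeCompl A'
        (Q'.asIdeal.comap (algebraMap A' B'))
      have heq' : (Q'.asIdeal.comap (algebraMap A' B')).under A = p := heq
      rw [heq', hmax] at h3
      rw [← h3]
      exact ht
  have hd : IsUnit (Algebra.discr A' bs) := by
    obtain ⟨k, hk⟩ := hkey a (hmax ▸ ha)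
    obtain ⟨l, hl⟩ := hkey b (hmax ▸ hb)
    exact isUnit_of_pow_mem a b _ hreg hcol k l hk hl
  haveI : Algebra.Etale A' B' := (H5QFDual.etale_iff_isUnit_discr bs).mpr hd
  haveI : Algebra.FormallyUnramified A' B' := inferInstance
  haveI : Algebra.FormallyUnramified A A' :=
    Algebra.FormallyUnramified.of_isLocalization p.primeCompl
  haveI hAB' : Algebra.FormallyUnramified A B' := Algebra.FormallyUnramified.comp A A' B'
  have hdisj : Disjoint (Algebra.algebraMapSubmonoid B p.primeCompl : Set B) (q : Set B) := by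
    rw [Set.disjoint_left]
    rintro _ ⟨s, hs, rfl⟩ hsq
    have hs' : s ∉ p := hs
    apply hs'
    rw [← hqp]
    exact hsq
  have hQ'prime : (q.map (algebraMap B B')).IsPrime :=
    IsLocalization.isPrime_of_isPrime_disjoint (Algebra.algebraMapSubmonoid B p.primeCompl) B' q
      hq hdisj
  have hcomap : (q.map (algebraMap B B')).comap (algebraMap B B') = q :=
    IsLocalization.under_map_of_isPrime_disjoint (Algebra.algebraMapSubmonoid B p.primeCompl) B'
      hq hdisj
  have h5 : Algebra.IsUnramifiedAt A (q.map (algebraMap B B')) :=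
    (Algebra.formallyUnramified_iff_forall.mp hAB') ⟨_, hQ'prime⟩
  have h6 : Algebra.IsUnramifiedAt A ((q.map (algebraMap B B')).comap (algebraMap B B')) :=
    (isUnramifiedAt_comap_iff (Algebra.algebraMapSubmonoid B p.primeCompl) _).mpr h5
  exact isUnramifiedAt_congr hcomap h6

attribute [local instance] Algebra.TensorProduct.rightAlgebra in
/-- Zariski–Nagata purity in the flat case, ring form: a finite flat algebra over a Noetherian
ring which is unramified over a set `S` of primes, such that the local rings at the primes outside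
`S` have a regular sequence of length two, is unramified. -/
theorem formallyUnramified_of_depth {A B : Type u} [CommRing A] [CommRing B] [Algebra A B]
    [IsNoetherianRing A] [Module.Finite A B] [Module.Flat A B]
    (S : Set (PrimeSpectrum A))
    (hS : ∀ q : PrimeSpectrum B,
      (⟨q.asIdeal.comap (algebraMap A B), inferInstance⟩ : PrimeSpectrum A) ∈ S →
      ∃ (L : Type u) (_ : CommRing L) (_ : Algebra B L) (_ : IsLocalization.AtPrime L q.asIdeal),
        ((algebraMap B L).comp (algebraMap A B)).FormallyUnramified)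
    (hdepth : ∀ (p : Ideal A) [hp : p.IsPrime], (⟨p, hp⟩ : PrimeSpectrum A) ∉ S →
      ∃ (R : Type u) (_ : CommRing R) (_ : Algebra A R) (_ : IsLocalization.AtPrime R p)
        (a b : R), a ∈ p.map (algebraMap A R) ∧ b ∈ p.map (algebraMap A R) ∧
        IsSMulRegular R a ∧ ∀ y c : R, b * y = a * c → ∃ c', y = a * c') :
    Algebra.FormallyUnramified A B := by
  rw [Algebra.formallyUnramified_iff_forall]
  have key : ∀ (n : ℕ) (q : Ideal B) [hq : q.IsPrime],
      (q.comap (algebraMap A B)).height = (n : ℕ∞) → Algebra.IsUnramifiedAt A q := by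
    intro n
    induction n using Nat.strong_induction_on with
    | _ n ih =>
      intro q hq hn
      by_cases hmem : (⟨q.comap (algebraMap A B), inferInstance⟩ : PrimeSpectrum A) ∈ S
      · obtain ⟨L, _, _, _, hL⟩ := hS ⟨q, hq⟩ hmem
        exact isUnramifiedAt_of_isLocalization q hL
      · obtain ⟨R, _, _, _, a, b, ha, hb, hreg, hcol⟩ := hdepth (q.comap (algebraMap A B)) hmem
        refine local_step (A' := R) (B' := R ⊗[A] B) (q.comap (algebraMap A B)) ?_ a b ha hb
          hreg hcol q rfl
        intro Q hQ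
        have h1 : (Q.asIdeal.comap (algebraMap A B)).height <
            (q.comap (algebraMap A B)).height :=
          Ideal.height_strict_mono_of_isPrime_of_isPrime hQ
        rw [hn] at h1
        obtain ⟨m, hm⟩ := ENat.ne_top_iff_exists.mp (ne_top_of_lt h1)
        rw [← hm] at h1
        exact ih m (by exact_mod_cast h1) Q.asIdeal hm.symm
  intro q
  obtain ⟨n, hn⟩ := ENat.ne_top_iff_exists.mp
    (Ideal.height_ne_top_of_isPrime (I := q.asIdeal.comap (algebraMap A B)))
  exact key n q.asIdeal hn.symm

/-! ### Geometry -/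

section Geo

variable {X Y : Scheme.{u}}

/-- The stalk maps of `π` at points over `U` are formally unramified when `π` is étale over
`U`. -/
theorem formallyUnramified_stalkMap (π : Y ⟶ X) (U : X.Opens)
    [Etale (pullback.snd π U.ι)] (y : Y) (hy : π y ∈ U) :
    (π.stalkMap y).hom.FormallyUnramified := by
  haveI h1 : Etale (π ∣_ U) := by
    rw [← MorphismProperty.cancel_left_of_respectsIso @Etale (pullbackRestrictIsoRestrict π U).hom,
      pullbackRestrictIsoRestrict_hom_morphismRestrict]
    infer_instance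
  haveI h2 : Etale ((π ⁻¹ᵁ U).ι ≫ π) := by
    rw [← morphismRestrict_ι]
    infer_instance
  haveI h3 : FormallyUnramified ((π ⁻¹ᵁ U).ι ≫ π) := inferInstance
  let y' : ((π ⁻¹ᵁ U : Y.Opens) : Scheme.{u}) := ⟨y, hy⟩
  haveI : IsIso ((π ⁻¹ᵁ U).ι.stalkMap y') := inferInstance
  have h4 := FormallyUnramified.stalkMap ((π ⁻¹ᵁ U).ι ≫ π) y'
  rw [Scheme.Hom.stalkMap_comp] at h4
  exact (RingHom.FormallyUnramified.respectsIso.cancel_right_isIso
    (π.stalkMap ((π ⁻¹ᵁ U).ι y')) ((π ⁻¹ᵁ U).ι.stalkMap y')).mp h4

theorem exists_stalk_unramified (π : Y ⟶ X) (U : X.Opens) [Etale (pullback.snd π U.ι)]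
    (W : X.Opens) (hW : IsAffineOpen W) (hV : IsAffineOpen (π ⁻¹ᵁ W))
    (q : PrimeSpectrum Γ(Y, π ⁻¹ᵁ W)) (hq : π (hV.fromSpec q) ∈ U) :
    ∃ (L : Type u) (_ : CommRing L) (_ : Algebra Γ(Y, π ⁻¹ᵁ W) L)
      (_ : IsLocalization.AtPrime L q.asIdeal),
      ((algebraMap Γ(Y, π ⁻¹ᵁ W) L).comp (π.app W).hom).FormallyUnramified := by
  have hy : hV.fromSpec q ∈ π ⁻¹ᵁ W := (hV.isoSpec.inv _).2
  have hx : π (hV.fromSpec q) ∈ W := hy
  refine ⟨Y.presheaf.stalk (hV.fromSpec q), inferInstance,
    TopCat.Presheaf.algebra_section_stalk Y.presheaf ⟨hV.fromSpec q, hy⟩,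
    hV.isLocalization_stalk' q hy, ?_⟩
  have h1 : (π.stalkMap (hV.fromSpec q)).hom.FormallyUnramified :=
    formallyUnramified_stalkMap π U _ hq
  have h2 : (X.presheaf.germ W (π (hV.fromSpec q)) hx).hom.FormallyUnramified := by
    letI : Algebra Γ(X, W) (X.presheaf.stalk (π (hV.fromSpec q))) :=
      TopCat.Presheaf.algebra_section_stalk X.presheaf ⟨π (hV.fromSpec q), hx⟩
    haveI := hW.isLocalization_stalk ⟨π (hV.fromSpec q), hx⟩
    exact RingHom.formallyUnramified_algebraMap.mpr
      (Algebra.FormallyUnramified.of_isLocalization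
        (hW.primeIdealOf ⟨π (hV.fromSpec q), hx⟩).asIdeal.primeCompl)
  have h3 := RingHom.FormallyUnramified.comp h2 h1
  have h4 : (π.stalkMap (hV.fromSpec q)).hom.comp
      (X.presheaf.germ W (π (hV.fromSpec q)) hx).hom =
      (Y.presheaf.germ (π ⁻¹ᵁ W) (hV.fromSpec q) hy).hom.comp (π.app W).hom := by
    rw [← CommRingCat.hom_comp, ← CommRingCat.hom_comp, Scheme.Hom.germ_stalkMap]
  rw [h4] at h3
  exact h3

/-- The ring maps on affine opens of the base are étale. -/
theorem etale_app [IsLocallyNoetherian X] (U : X.Opens)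
    (hU : ∀ x : X, x ∉ U → (2 : ℕ∞) ≤ LocCoh.depth (X.presheaf.stalk x) (X.presheaf.stalk x))
    (π : Y ⟶ X) [IsFinite π] [Etale (pullback.snd π U.ι)] [Flat π]
    (W : X.Opens) (hW : IsAffineOpen W) : (π.app W).hom.Etale := by
  have hV : IsAffineOpen (π ⁻¹ᵁ W) := hW.preimage π
  haveI : IsNoetherianRing Γ(X, W) := IsLocallyNoetherian.component_noetherian ⟨W, hW⟩
  letI : Algebra Γ(X, W) Γ(Y, π ⁻¹ᵁ W) := (π.app W).hom.toAlgebra
  haveI : Module.Finite Γ(X, W) Γ(Y, π ⁻¹ᵁ W) := IsFinite.finite_app π W hW
  haveI : Module.Flat Γ(X, W) Γ(Y, π ⁻¹ᵁ W) := by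
    have := π.flat_appLE hW hV le_rfl
    rw [Scheme.Hom.appLE_eq_app] at this
    exact this
  haveI : Algebra.FormallyUnramified Γ(X, W) Γ(Y, π ⁻¹ᵁ W) := by
    refine formallyUnramified_of_depth {p | hW.fromSpec p ∈ U} ?_ ?_
    · intro q hq
      refine exists_stalk_unramified π U W hW hV q ?_
      have h1 := IsAffineOpen.SpecMap_appLE_fromSpec π hW hV le_rfl
      have h2 : π (hV.fromSpec q) =
          hW.fromSpec (Spec.map (π.appLE W (π ⁻¹ᵁ W) le_rfl) q) := by
        rw [← Scheme.Hom.comp_apply, ← Scheme.Hom.comp_apply, h1]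
      rw [h2, Scheme.Hom.appLE_eq_app]
      exact hq
    · intro p hp hmem
      have hx : hW.fromSpec ⟨p, hp⟩ ∉ U := hmem
      obtain ⟨a, b, ha, hb, hreg⟩ := PiDepth.exists_weaklyRegular_pair _ (hU _ hx)
      exact Hartogs2.geo_depth hW p a b ha hb hreg
  haveI : Algebra.FinitePresentation Γ(X, W) Γ(Y, π ⁻¹ᵁ W) :=
    Algebra.FinitePresentation.of_finiteType.mp inferInstance
  exact RingHom.etale_algebraMap.mpr Algebra.Etale.of_formallyUnramified_of_flat

theorem etale_of_app (π : Y ⟶ X) [IsAffineHom π]
    (h : ∀ W : X.Opens, IsAffineOpen W → (π.app W).hom.Etale) : Etale π := by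
  refine ⟨fun {W} hW {V} hV e => ?_⟩
  have h1 : (Y.presheaf.map (homOfLE e).op).hom.Etale := by
    have := Etale.etale_appLE (𝟙 Y) (hW.preimage π) hV e
    exact this
  rw [Scheme.Hom.appLE, CommRingCat.hom_comp]
  exact RingHom.Etale.stableUnderComposition _ _ (h W hW) h1

/-- S0293. -/
theorem s0293 [IsLocallyNoetherian X] (U : X.Opens)
    (hU : ∀ x : X, x ∉ U → (2 : ℕ∞) ≤ LocCoh.depth (X.presheaf.stalk x) (X.presheaf.stalk x))
    (π : Y ⟶ X) [IsFinite π] [Etale (pullback.snd π U.ι)] : Etale π ↔ Flat π := by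
  constructor
  · intro h
    infer_instance
  · intro h
    exact etale_of_app π (fun W hW => etale_app U hU π W hW)

end Geo

end Groth.Agent.H6.PurityFlat
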