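import Groth.Agent.Lib.Helper6.AcySum4

/-! # Total right derived functors and coproducts of uniformly bounded below families -/

namespace Groth.Agent.H6.PushSum

open CategoryTheory Limits DerivedCategory ZeroObject
open Groth.Agent.H6.MVTri Groth.Agent.H6.RFTri Groth.Agent.H6.LerayBB Groth.Agent.H6.DerSt
open Groth.Agent.H2.CoprodCx Groth.Agent.H2.DCoprod Groth.Agent.H2

universe w

section Model

variable {A : Type*} [Category A] [Abelian A] [HasDerivedCategory A] [EnoughInjectives A]

/-- an object of `D^{≥ n}` is represented by a complex of injectives which is strictly `≥ n`. -/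
lemma exists_injective_model (E : DerivedCategory A) (n : ℤ) [E.IsGE n] :
    ∃ (I : CochainComplex A ℤ), I.IsStrictlyGE n ∧ (∀ j, Injective (I.X j)) ∧
      Nonempty (Q.obj I ≅ E) := by
  obtain ⟨G, hG, ⟨e⟩⟩ := E.exists_iso_Q_obj_of_isGE n
  obtain ⟨Z, hZ⟩ := HasZeroObject.zero (C := A)
  have hZinj : Injective Z := ⟨fun {X Y} g f _ => ⟨0, hZ.eq_of_tgt _ _⟩⟩
  obtain ⟨L, α, hL, hLI, -, hα⟩ := Resol.exists_resolution (fun Y : A => Injective Y)
    (fun Y => ⟨Injective.under Y, Injective.ι Y, inferInstance, inferInstance⟩) G n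
    ⟨Z, hZ, hZinj⟩
  haveI : IsIso (Q.map α) := (isIso_Q_map_iff_quasiIso _ α).2 hα
  exact ⟨L, hL, hLI, ⟨(asIso (Q.map α)).symm ≪≫ e.symm⟩⟩

end Model

variable {A : Type*} [Category A] [Abelian A] [HasDerivedCategory A] [KInjDS.HasKInjRes A]
  [EnoughInjectives A]
  {B : Type*} [Category B] [Abelian B] [HasDerivedCategory B]
  (F : A ⥤ B) [F.Additive] [PreservesFiniteLimits F]
  [(F.mapHomotopyCategory (ComplexShape.up ℤ) ⋙ Qh).HasRightDerivedFunctor
    (HomotopyCategory.quasiIso A (ComplexShape.up ℤ))]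
  {ι : Type w} [HasColimitsOfShape (Discrete ι) A] [HasExactColimitsOfShape (Discrete ι) A]
  [HasColimitsOfShape (Discrete ι) B] [HasExactColimitsOfShape (Discrete ι) B]
  [PreservesColimitsOfShape (Discrete ι) F]

/-- if `F` commutes with coproducts of shape `ι` and coproducts of shape `ι` of injectives are
right `F`-acyclic, then `RF` preserves the coproduct of any family of shape `ι` of objects of
`D^{≥ n}`. -/
theorem preservesColimit_RF_of_isGE (K : ι → DerivedCategory A) (n : ℤ) [∀ i, (K i).IsGE n]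
    (hsum : ∀ (M : ι → A), (∀ i, Injective (M i)) → acycP F (∐ M)) :
    PreservesColimit (Discrete.functor K) (RF F) := by
  choose I hI hIinj hIe using fun i => exists_injective_model (K i) n
  let e : ∀ i, Q.obj (I i) ≅ K i := fun i => (hIe i).some
  haveI : ∀ i, (I i).IsStrictlyGE n := hI
  haveI : ∀ i j, Injective ((I i).X j) := hIinj
  have hc : IsColimit (Cofan.mk (Q.obj (sig I)) (fun i => Q.map (sigι I i))) :=
    isColimitMapCofan (isColimitSigCofan I)
  suffices h : IsColimit (Cofan.mk ((RF F).obj (Q.obj (sig I)))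
      (fun i => (RF F).map (Q.map (sigι I i)))) by
    haveI : PreservesColimit (Discrete.functor (fun i => Q.obj (I i))) (RF F) :=
      preservesColimit_of_preserves_colimit_cocone hc
        ((isColimitMapCoconeCofanMkEquiv _ _ _).symm h)
    exact preservesColimit_of_iso_diagram _ (Discrete.natIso (fun ⟨i⟩ => e i) :
      Discrete.functor (fun i => Q.obj (I i)) ≅ Discrete.functor K)
  haveI : CochainComplex.IsStrictlyGE (sig I) n := by
    rw [CochainComplex.isStrictlyGE_iff]
    intro j hj
    change IsZero (∐ (fun i => (I i).X j))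
    have hz : ∀ i, IsZero ((I i).X j) := fun i => (I i).isZero_of_isStrictlyGE n j hj
    rw [IsZero.iff_id_eq_zero]
    apply Sigma.hom_ext
    intro i
    exact (hz i).eq_of_src _ _
  have hacyc : ∀ j, acycP F ((sig I).X j) := fun j =>
    hsum (fun i => (I i).X j) (fun i => hIinj i j)
  have hinj : ∀ i j, acycP F ((I i).X j) := by
    intro i j p hp
    obtain ⟨k, rfl⟩ : ∃ k, p = k + 1 := ⟨p - 1, by omega⟩
    exact F.isZero_rightDerived_obj_injective_succ k _
  haveI hθ : IsIso (theta F (sig I)) := isIso_theta_of_isStrictlyGE F (sig I) n hacyc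
  haveI hθi : ∀ i, IsIso (theta F (I i)) := fun i =>
    isIso_theta_of_isStrictlyGE F (I i) n (hinj i)
  have hc₀ : IsColimit (Cofan.mk (Q.obj ((F.mapHomologicalComplex (ComplexShape.up ℤ)).obj (sig I)))
      (fun i => Q.map ((F.mapHomologicalComplex (ComplexShape.up ℤ)).map (sigι I i)))) := by
    refine isColimitMapCofan (c := Cofan.mk ((F.mapHomologicalComplex (ComplexShape.up ℤ)).obj (sig I))
      (fun i => (F.mapHomologicalComplex (ComplexShape.up ℤ)).map (sigι I i))) ?_
    exact isColimitMapCoconeCofanMkEquiv _ _ _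
      (isColimitOfPreserves (F.mapHomologicalComplex (ComplexShape.up ℤ)) (isColimitSigCofan I))
  refine (IsColimit.equivOfNatIsoOfIso
    (Discrete.natIso (fun ⟨i⟩ => asIso (theta F (I i)))) _ _
    (Cocone.ext (asIso (theta F (sig I))) ?_)) hc₀
  rintro ⟨i⟩
  change (inv (theta F (I i)) ≫
    Q.map ((F.mapHomologicalComplex (ComplexShape.up ℤ)).map (sigι I i))) ≫
    theta F (sig I) = (RF F).map (Q.map (sigι I i))
  rw [Category.assoc, theta_naturality, IsIso.inv_hom_id_assoc]

end Groth.Agent.H6.PushSum
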