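import Groth.Agent.Lib.Helper6.PushSum1
import Groth.Agent.S0800
import Groth.Agent.H4.DirImgSigma
import Groth.Agent.Lib.Lead.RP.Compare2
import Groth.Agent.Lib.Lead.QCGroth

/-! # Direct images along quasi-compact quasi-separated morphisms and direct sums -/

set_option autoImplicit false

namespace Groth.Agent.H6.PushSum

open CategoryTheory Limits AlgebraicGeometry TopologicalSpace DerivedCategory
open Groth.Agent.LD.RP Groth.Agent.H6.DerSt Groth.Agent.H6.MVTri

universe u

attribute [local instance] HasDerivedCategory.standard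

lemma instGrothendieckModules (X : Scheme.{u}) : IsGrothendieckAbelian.{u} X.Modules :=
  Groth.Agent.LD.QCGroth.isGrothendieckAbelian_modules X

attribute [local instance] instGrothendieckModules

variable {X Y : Scheme.{u}} (f : X ⟶ Y) [QuasiCompact f] [QuasiSeparated f]

/-- `R^p f_*` on abelian sheaves preserves direct sums. -/
lemma preservesColimitsOfShape_discrete_RpushAb (p : ℕ) (ι : Type u) :
    PreservesColimitsOfShape (Discrete ι) (Coh.RpushAb f p) := by
  constructor
  intro F
  haveI : PreservesColimitsOfShape (Finset (Discrete ι)) (Coh.RpushAb f p) :=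
    Groth.Agent.S0800.result f p _
  exact Groth.Agent.H4.DirImgSigma.preservesColimit_discrete (Coh.RpushAb f p) F

/-- `f_*` on abelian sheaves preserves direct sums. -/
lemma preservesColimitsOfShape_discrete_pushAb (ι : Type u) :
    PreservesColimitsOfShape (Discrete ι) (Coh.pushAb f) := by
  haveI := preservesColimitsOfShape_discrete_RpushAb f 0 ι
  exact preservesColimitsOfShape_of_natIso (Functor.rightDerivedZeroIsoSelf (Coh.pushAb f))

/-- `f_*` on modules preserves direct sums. -/
lemma preservesColimitsOfShape_discrete_pushforward (ι : Type u) :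
    PreservesColimitsOfShape (Discrete ι) (Scheme.Modules.pushforward f) := by
  haveI := preservesColimitsOfShape_discrete_pushAb f ι
  haveI : PreservesColimitsOfSize.{u, u} (τ X) := Groth.Agent.LD.MS.toSheaf_preservesColimits _
  haveI : PreservesColimitsOfSize.{u, u} (τ Y) := Groth.Agent.LD.MS.toSheaf_preservesColimits _
  haveI : PreservesColimitsOfShape (Discrete ι) (τ X ⋙ Coh.pushAb f) := inferInstance
  haveI : PreservesColimitsOfShape (Discrete ι) (Scheme.Modules.pushforward f ⋙ τ Y) :=
    preservesColimitsOfShape_of_natIso (τPushIso f)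
  haveI : ReflectsColimitsOfShape (Discrete ι) (τ Y) :=
    reflectsColimitsOfShape_of_reflectsIsomorphisms
  exact preservesColimitsOfShape_of_reflects_of_preserves (Scheme.Modules.pushforward f) (τ Y)

lemma isZero_of_isZero_τ (M : Y.Modules) (h : IsZero ((τ Y).obj M)) : IsZero M := by
  rw [IsZero.iff_id_eq_zero]
  apply (τ Y).map_injective
  rw [CategoryTheory.Functor.map_id, Functor.map_zero]
  exact (IsZero.iff_id_eq_zero _).1 h

lemma isZero_sigma {C : Type*} [Category C] [HasZeroMorphisms C] {ι : Type*} (M : ι → C)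
    [HasCoproduct M] (h : ∀ i, IsZero (M i)) : IsZero (∐ M) := by
  rw [IsZero.iff_id_eq_zero]
  apply Sigma.hom_ext
  intro i
  exact (h i).eq_of_src _ _

/-- direct sums of right `f_*`-acyclic modules are right `f_*`-acyclic. -/
lemma acycP_sigma {ι : Type u} (M : ι → X.Modules)
    (hM : ∀ i, acycP (Scheme.Modules.pushforward f) (M i)) :
    acycP (Scheme.Modules.pushforward f) (∐ M) := by
  intro p hp
  haveI : PreservesColimitsOfSize.{u, u} (τ X) := Groth.Agent.LD.MS.toSheaf_preservesColimits _
  haveI := preservesColimitsOfShape_discrete_RpushAb f p ι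
  obtain ⟨e⟩ := nonempty_toAb_Rpush_iso f (∐ M) p
  have hz : ∀ i, IsZero ((τ X ⋙ Coh.RpushAb f p).obj (M i)) := fun i => by
    obtain ⟨ei⟩ := nonempty_toAb_Rpush_iso f (M i) p
    exact ((τ Y).map_isZero (hM i p hp)).of_iso ei.symm
  have h1 : IsZero ((τ X ⋙ Coh.RpushAb f p).obj (∐ M)) :=
    (isZero_sigma _ hz).of_iso (PreservesCoproduct.iso (τ X ⋙ Coh.RpushAb f p) M)
  exact isZero_of_isZero_τ _ (h1.of_iso e)

end Groth.Agent.H6.PushSum
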