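import Groth.Agent.Lib.Helper6.PushSum2

/-! # S11116: `Rf_*` commutes with direct sums of uniformly bounded below families -/

set_option autoImplicit false

namespace Groth.Agent.H6.PushSum

open CategoryTheory Limits AlgebraicGeometry TopologicalSpace DerivedCategory
open Groth.Agent.LD.RP Groth.Agent.H6.DerSt Groth.Agent.H6.MVTri

universe u

attribute [local instance] HasDerivedCategory.standard
attribute [local instance] instGrothendieckModules

theorem s11116 {X S : Scheme.{u}} (f : X ⟶ S) [QuasiCompact f]
    [QuasiSeparated f] [DCoh.HasRpush f] {ι : Type u} (K : ι → DCoh.D X) (n : ℤ) (hK : ∀ i, (K i).IsGE n)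
    [HasCoproduct K] [HasCoproduct (fun i => (DCoh.Rpush f).obj (K i))] :
    IsIso (Sigma.desc (fun i => (DCoh.Rpush f).map (Sigma.ι K i))) := by
  haveI : HasExactColimitsOfShape (Discrete ι) X.Modules :=
    (IsGrothendieckAbelian.ab4OfSize.{u} (C := X.Modules)).ofShape ι
  haveI : HasExactColimitsOfShape (Discrete ι) S.Modules :=
    (IsGrothendieckAbelian.ab4OfSize.{u} (C := S.Modules)).ofShape ι
  haveI := preservesColimitsOfShape_discrete_pushforward f ι
  haveI : ∀ i, (K i).IsGE n := hK
  haveI : PreservesColimit (Discrete.functor K) (DCoh.Rpush f) :=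
    preservesColimit_RF_of_isGE (Scheme.Modules.pushforward f) K n (fun M hM => by
      refine acycP_sigma f M (fun i p hp => ?_)
      haveI := hM i
      obtain ⟨k, rfl⟩ : ∃ k, p = k + 1 := ⟨p - 1, by omega⟩
      exact (Scheme.Modules.pushforward f).isZero_rightDerived_obj_injective_succ k _)
  exact (inferInstance : IsIso (sigmaComparison (DCoh.Rpush f) K))

end Groth.Agent.H6.PushSum
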