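import Groth.Agent.Lib.Helper6.QcVan6
import Groth.Agent.Lib.Helper7.LR6

/-! # `Rf_*` preserves `D_QCoh` for `f` qcqs -/

universe u
open CategoryTheory Limits Opposite Pretriangulated AlgebraicGeometry TopologicalSpace

namespace Groth.Agent.H6.QcVan

open DerivedCategory

attribute [local instance] HasDerivedCategory.standard

theorem s0998 {X S : Scheme.{u}} (f : X ⟶ S) [QuasiCompact f] [QuasiSeparated f]
    [DCoh.HasRpush f] (K : DCoh.D X) (hK : DCoh.IsQCohD K) :
    DCoh.IsQCohD ((DCoh.Rpush f).obj K) := by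
  intro m
  refine Groth.Agent.LD.QC.isQuasicoherent_of_isOpenCover _ (fun V : S.affineOpens => V.1)
    (iSup_affineOpens_eq_top S) (fun V => ?_)
  haveI : DCoh.HasRpush (f ∣_ V.1) := Groth.Agent.Helper7.LR4.hasRpush _
  obtain ⟨e⟩ := Groth.Agent.H6.RpRes.main f V.1
  have e1 := Groth.Agent.H7.DRec.homologyMapDerivedIso
    (Scheme.Modules.restrictFunctor V.1.ι) ((DCoh.Rpush f).obj K) m
  haveI : IsAffine V.1.toScheme := V.2
  have hK' : DCoh.IsQCohD ((DCoh.restrictD (f ⁻¹ᵁ V.1).ι).obj K) := by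
    intro j
    have e2 := Groth.Agent.H7.DRec.homologyMapDerivedIso
      (Scheme.Modules.restrictFunctor (f ⁻¹ᵁ V.1).ι) K j
    haveI : (DCoh.HD K j).IsQuasicoherent := hK j
    refine Groth.Agent.LD.QC.qc_of_iso e2.symm ?_
    exact inferInstanceAs ((DCoh.HD K j).restrict (f ⁻¹ᵁ V.1).ι).IsQuasicoherent
  have h2 := isQCohD_Rpush_of_compact (f ∣_ V.1) _ hK' m
  exact Groth.Agent.LD.QC.qc_of_iso
    ((homologyFunctor _ m).mapIso (e.app K).symm ≪≫ e1) h2

end Groth.Agent.H6.QcVan
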