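import Groth.Agent.Lib.Helper6.PushSum3
import Groth.Agent.Lib.Helper6.QcVan7
import Groth.Agent.S6593
import Groth.Agent.H4.DSum1

/-! # `Rf_*` commutes with direct sums on `D_QCoh` over a quasi-compact base (cohomologywise) -/

set_option autoImplicit false

namespace Groth.Agent.H6.PushSum

open CategoryTheory Limits AlgebraicGeometry TopologicalSpace DerivedCategory Pretriangulated
open Groth.Agent.LD.RP Groth.Agent.H6.DerSt Groth.Agent.H6.MVTri Groth.Agent.H6.RFTri

universe u

section Gen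

variable {B : Type*} [Category B] [Abelian B] [HasDerivedCategory B] [KInjDS.HasKInjRes B]
  {𝒞 : Type*} [Category 𝒞] [Abelian 𝒞] [HasDerivedCategory 𝒞]
  (F : B ⥤ 𝒞) [F.Additive]
  [(F.mapHomotopyCategory (ComplexShape.up ℤ) ⋙ Qh).HasRightDerivedFunctor
    (HomotopyCategory.quasiIso B (ComplexShape.up ℤ))]

/-- `Hᵐ(RF(-))` inverts the second map of a distinguished triangle as soon as `Hᵐ(RF(-))` and
`Hᵐ⁺¹(RF(-))` vanish on the first vertex. -/
lemma isIso_homology_RF_mor₂ (T : Triangle (DerivedCategory B)) (hT : T ∈ distTriang _) (m : ℤ)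
    (h1 : IsZero ((homologyFunctor 𝒞 m).obj ((RF F).obj T.obj₁)))
    (h2 : IsZero ((homologyFunctor 𝒞 (m + 1)).obj ((RF F).obj T.obj₁))) :
    IsIso ((homologyFunctor 𝒞 m).map ((RF F).map T.mor₂)) := by
  obtain ⟨T', hT', u₁, u₂, u₃, c₁, c₂⟩ := exists_distTriang_RF' F T hT
  have z1 : IsZero ((homologyFunctor 𝒞 m).obj T'.obj₁) :=
    h1.of_iso ((homologyFunctor 𝒞 m).mapIso u₁)
  have z2 : IsZero ((homologyFunctor 𝒞 (m + 1)).obj T'.obj₁) :=
    h2.of_iso ((homologyFunctor 𝒞 (m + 1)).mapIso u₁)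
  haveI : Mono ((homologyFunctor 𝒞 m).map T'.mor₂) :=
    (HomologySequence.mono_homologyMap_mor₂_iff T' hT' m).2 (z1.eq_of_src _ _)
  haveI : Epi ((homologyFunctor 𝒞 m).map T'.mor₂) :=
    (HomologySequence.epi_homologyMap_mor₂_iff T' hT' m (m + 1) rfl).2 (z2.eq_of_tgt _ _)
  haveI : IsIso ((homologyFunctor 𝒞 m).map T'.mor₂) := isIso_of_mono_of_epi _
  have e : (RF F).map T.mor₂ = u₂.inv ≫ T'.mor₂ ≫ u₃.hom := by
    rw [c₂, Iso.inv_hom_id_assoc]
  rw [e, Functor.map_comp, Functor.map_comp]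
  infer_instance

end Gen

section Cat

variable {C : Type*} [Category C] {D : Type*} [Category D] {E : Type*} [Category E]

lemma isIso_map_sigmaComparison (Φ : C ⥤ D) (Ψ : D ⥤ E) {ι : Type*} (K : ι → C) [HasCoproduct K]
    [HasCoproduct (fun i => Φ.obj (K i))] [HasCoproduct (fun i => Ψ.obj (Φ.obj (K i)))]
    [PreservesColimit (Discrete.functor (fun i => Φ.obj (K i))) Ψ]
    [PreservesColimit (Discrete.functor K) (Φ ⋙ Ψ)] :
    IsIso (Ψ.map (sigmaComparison Φ K)) := by
  haveI : HasCoproduct (fun i => (Φ ⋙ Ψ).obj (K i)) := ‹HasCoproduct (fun i => Ψ.obj (Φ.obj (K i)))›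
  have h : sigmaComparison (Φ ⋙ Ψ) K =
      sigmaComparison Ψ (fun i => Φ.obj (K i)) ≫ Ψ.map (sigmaComparison Φ K) := by
    apply Sigma.hom_ext
    intro i
    rw [ι_comp_sigmaComparison]
    change (Φ ⋙ Ψ).map (Sigma.ι K i) = Sigma.ι (fun b => Ψ.obj (Φ.obj (K b))) i ≫
      sigmaComparison Ψ (fun i => Φ.obj (K i)) ≫ Ψ.map (sigmaComparison Φ K)
    rw [ι_comp_sigmaComparison_assoc, ← Ψ.map_comp, ι_comp_sigmaComparison]
    rfl
  haveI : IsIso (sigmaComparison Ψ (fun i => Φ.obj (K i)) ≫ Ψ.map (sigmaComparison Φ K)) := by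
    rw [← h]
    infer_instance
  exact IsIso.of_isIso_comp_left (sigmaComparison Ψ (fun i => Φ.obj (K i))) _

lemma preservesColimit_of_family_iso (H : C ⥤ E) {ι : Type*} (K G : ι → C) [HasCoproduct K]
    [HasCoproduct G] (π : ∀ i, K i ⟶ G i) [∀ i, IsIso (H.map (π i))]
    [IsIso (H.map (Limits.Sigma.map π))] [PreservesColimit (Discrete.functor G) H] :
    PreservesColimit (Discrete.functor K) H := by
  apply preservesColimit_of_preserves_colimit_cocone (coproductIsCoproduct K)
  refine (isColimitMapCoconeCofanMkEquiv _ _ _).symm ?_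
  have hG : IsColimit (Cofan.mk (H.obj (∐ G)) (fun i => H.map (Sigma.ι G i))) :=
    isColimitMapCoconeCofanMkEquiv _ _ _ (isColimitOfPreserves H (coproductIsCoproduct G))
  refine (IsColimit.equivOfNatIsoOfIso
    (Discrete.natIso (fun ⟨i⟩ => asIso (H.map (π i)))) _ _
    (Cocone.ext (asIso (H.map (Limits.Sigma.map π))) ?_)).symm hG
  rintro ⟨i⟩
  change (inv (H.map (π i)) ≫ H.map (Sigma.ι K i)) ≫ H.map (Limits.Sigma.map π) =
    H.map (Sigma.ι G i)
  rw [Category.assoc, ← H.map_comp, Sigma.ι_map, H.map_comp, IsIso.inv_hom_id_assoc]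

end Cat

attribute [local instance] HasDerivedCategory.standard
attribute [local instance] instGrothendieckModules

/-- `Rf_*` preserves direct sums of uniformly bounded below families. -/
lemma preservesColimit_Rpush_of_isGE {X S : Scheme.{u}} (f : X ⟶ S) [QuasiCompact f]
    [QuasiSeparated f] [DCoh.HasRpush f] {ι : Type u} (K : ι → DCoh.D X) (n : ℤ)
    (hK : ∀ i, (K i).IsGE n) : PreservesColimit (Discrete.functor K) (DCoh.Rpush f) := by
  haveI : HasExactColimitsOfShape (Discrete ι) X.Modules :=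
    (IsGrothendieckAbelian.ab4OfSize.{u} (C := X.Modules)).ofShape ι
  haveI : HasExactColimitsOfShape (Discrete ι) S.Modules :=
    (IsGrothendieckAbelian.ab4OfSize.{u} (C := S.Modules)).ofShape ι
  haveI := preservesColimitsOfShape_discrete_pushforward f ι
  haveI : ∀ i, (K i).IsGE n := hK
  exact preservesColimit_RF_of_isGE (Scheme.Modules.pushforward f) K n (fun M hM => by
    refine acycP_sigma f M (fun i p hp => ?_)
    haveI := hM i
    obtain ⟨k, rfl⟩ : ∃ k, p = k + 1 := ⟨p - 1, by omega⟩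
    exact (Scheme.Modules.pushforward f).isZero_rightDerived_obj_injective_succ k _)

/-- over a quasi-compact base, `Hᵐ(Rf_*(-))` preserves direct sums of objects of `D_QCoh`. -/
theorem preservesColimit_Rpush_homology_of_compact {X S : Scheme.{u}} (f : X ⟶ S)
    [QuasiCompact f] [QuasiSeparated f] [CompactSpace ↥S] [DCoh.HasRpush f] {ι : Type u}
    (K : ι → DCoh.D X) (hK : ∀ i, DCoh.IsQCohD (K i)) (m : ℤ) :
    PreservesColimit (Discrete.functor K) (DCoh.Rpush f ⋙ homologyFunctor S.Modules m) := by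
  haveI : HasExactColimitsOfShape (Discrete ι) X.Modules :=
    (IsGrothendieckAbelian.ab4OfSize.{u} (C := X.Modules)).ofShape ι
  haveI : HasExactColimitsOfShape (Discrete ι) S.Modules :=
    (IsGrothendieckAbelian.ab4OfSize.{u} (C := S.Modules)).ofShape ι
  haveI : HasColimitsOfShape (Discrete ι) (DerivedCategory X.Modules) :=
    Groth.Agent.H2.DCoprod.hasColimitsOfShape_discrete X.Modules ι
  haveI := Groth.Agent.H6.RpRes.hasKInjRes_modules X
  obtain ⟨D, hD⟩ := Groth.Agent.H6.QcVan.exists_vanishing_bound f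
  choose T hT hT2 z1 z3 h1iso h3iso using fun i => exists_trunc_triangle (K i) (m - D)
  obtain rfl : K = fun i => (T i).obj₂ := funext (fun i => (hT2 i).symm)
  -- quasi-coherence of the truncations
  let P : ObjectProperty X.Modules := fun M => M.IsQuasicoherent
  haveI : P.IsClosedUnderIsomorphisms := ⟨fun e h => Groth.Agent.LD.QC.qc_of_iso e h⟩
  haveI : WSerre.IsWeakSerre P := Groth.Agent.H6.QcVan.wserre_isQCoh X
  have hQ1 : ∀ i, DCoh.IsQCohD (T i).obj₁ := by
    intro i j
    by_cases hj : j < m - D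
    · obtain ⟨e⟩ := h1iso i j hj
      exact Groth.Agent.LD.QC.qc_of_iso e.symm (hK i j)
    · exact P.prop_of_isZero (z1 i j (by omega))
  -- vanishing
  have hv : ∀ i j, m ≤ j → IsZero (DCoh.HD ((DCoh.Rpush f).obj (T i).obj₁) j) := fun i j hj =>
    hD (T i).obj₁ (hQ1 i) (m - D - 1) (fun q hq => z1 i q (by omega)) j (by omega)
  have hQS : DCoh.IsQCohD (∐ fun i => (T i).obj₁) :=
    Groth.Agent.H4.DSum1.S1040 X (fun i => (T i).obj₁) hQ1
  have hzS : ∀ q, m - D ≤ q → IsZero (DCoh.HD (∐ fun i => (T i).obj₁) q) := by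
    intro q hq
    haveI : PreservesColimitsOfShape (Discrete ι) (homologyFunctor X.Modules q) :=
      Groth.Agent.H6.AcySum.preservesColimitsOfShape_homologyFunctor q
    exact (isZero_sigma _ (fun i => z1 i q hq)).of_iso
      (PreservesCoproduct.iso (homologyFunctor X.Modules q) (fun i => (T i).obj₁))
  have hvS : ∀ j, m ≤ j →
      IsZero (DCoh.HD ((DCoh.Rpush f).obj (∐ fun i => (T i).obj₁)) j) := fun j hj =>
    hD _ hQS (m - D - 1) (fun q hq => hzS q (by omega)) j (by omega)
  -- the triangles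
  have hTS := Groth.Agent.S6593.result T hT
  haveI : ∀ i, IsIso ((DCoh.Rpush f ⋙ homologyFunctor S.Modules m).map (T i).mor₂) := fun i =>
    isIso_homology_RF_mor₂ (Scheme.Modules.pushforward f) (T i) (hT i) m (hv i m le_rfl)
      (hv i (m + 1) (by omega))
  haveI : IsIso ((DCoh.Rpush f ⋙ homologyFunctor S.Modules m).map
      (Limits.Sigma.map (fun i => (T i).mor₂))) :=
    isIso_homology_RF_mor₂ (Scheme.Modules.pushforward f) _ hTS m (hvS m le_rfl)
      (hvS (m + 1) (by omega))
  -- the bounded below family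
  haveI : ∀ i, ((T i).obj₃).IsGE (m - D) := fun i =>
    (isGE_iff (T i).obj₃ (m - D)).2 (fun j hj => z3 i j hj)
  haveI : PreservesColimit (Discrete.functor (fun i => (T i).obj₃)) (DCoh.Rpush f) :=
    preservesColimit_Rpush_of_isGE f _ (m - D) inferInstance
  haveI : PreservesColimitsOfShape (Discrete ι) (homologyFunctor S.Modules m) :=
    Groth.Agent.H6.AcySum.preservesColimitsOfShape_homologyFunctor m
  haveI : PreservesColimit (Discrete.functor (fun i => (T i).obj₃))
      (DCoh.Rpush f ⋙ homologyFunctor S.Modules m) := inferInstance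
  exact preservesColimit_of_family_iso (DCoh.Rpush f ⋙ homologyFunctor S.Modules m)
    (fun i => (T i).obj₂) (fun i => (T i).obj₃) (fun i => (T i).mor₂)

end Groth.Agent.H6.PushSum
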