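import Groth.Agent.Lib.Helper6.PushSum4

/-! # S1000: `Rf_*` commutes with direct sums on `D_QCoh` -/

set_option autoImplicit false

namespace Groth.Agent.H6.PushSum

open CategoryTheory Limits AlgebraicGeometry TopologicalSpace DerivedCategory Pretriangulated
open Groth.Agent.H2.CoprodCx Groth.Agent.H2.DCoprod

universe u

section Abstract

variable {A : Type*} [Category A] [Abelian A] [HasDerivedCategory A]
  {B : Type*} [Category B] [Abelian B] [HasDerivedCategory B]
  (F : A ⥤ B) [F.Additive] [PreservesFiniteLimits F] [PreservesFiniteColimits F]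

/-- exact functors commute with the homology of complexes, naturally. -/
noncomputable def cxHomologyNatIso (n : ℤ) :
    F.mapHomologicalComplex (ComplexShape.up ℤ) ⋙
        HomologicalComplex.homologyFunctor B (ComplexShape.up ℤ) n ≅
      HomologicalComplex.homologyFunctor A (ComplexShape.up ℤ) n ⋙ F :=
  NatIso.ofComponents (fun K => (K.sc n).mapHomologyIso F)
    (fun f => ShortComplex.mapHomologyIso_hom_naturality
      ((HomologicalComplex.shortComplexFunctor A (ComplexShape.up ℤ) n).map f) F)

/-- exact functors commute with the homology functors of derived categories, naturally. -/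
noncomputable def homologyMapDerivedNatIso (n : ℤ) :
    F.mapDerivedCategory ⋙ homologyFunctor B n ≅ homologyFunctor A n ⋙ F :=
  Localization.liftNatIso Q (HomologicalComplex.quasiIso A (ComplexShape.up ℤ))
    (Q ⋙ F.mapDerivedCategory ⋙ homologyFunctor B n) (Q ⋙ homologyFunctor A n ⋙ F) _ _
    ((Functor.associator _ _ _).symm ≪≫
      Functor.isoWhiskerRight F.mapDerivedCategoryFactors (homologyFunctor B n) ≪≫
      Functor.associator _ _ _ ≪≫
      Functor.isoWhiskerLeft _ (homologyFunctorFactors B n) ≪≫ cxHomologyNatIso F n ≪≫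
      Functor.isoWhiskerRight (homologyFunctorFactors A n).symm F ≪≫ Functor.associator _ _ _)

variable {ι : Type*} [HasColimitsOfShape (Discrete ι) A] [HasExactColimitsOfShape (Discrete ι) A]
  [HasColimitsOfShape (Discrete ι) B] [HasExactColimitsOfShape (Discrete ι) B]
  [PreservesColimitsOfShape (Discrete ι) F]

/-- the functor induced on derived categories by an exact functor which commutes with exact
coproducts commutes with coproducts. -/
lemma preservesColimitsOfShape_mapDerivedCategory :
    PreservesColimitsOfShape (Discrete ι) F.mapDerivedCategory := by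
  constructor
  intro G
  let K : ι → CochainComplex A ℤ := fun j => Q.objPreimage (G.obj ⟨j⟩)
  let e : Discrete.functor (fun j => Q.obj (K j)) ≅ G :=
    Discrete.natIso (fun ⟨j⟩ => Q.objObjPreimageIso (G.obj ⟨j⟩))
  have hc : IsColimit (Cofan.mk (Q.obj (sig K)) (fun j => Q.map (sigι K j))) :=
    isColimitMapCofan (isColimitSigCofan K)
  have h1 : IsColimit ((F.mapHomologicalComplex (ComplexShape.up ℤ) ⋙ Q).mapCocone
      (Cofan.mk (sig K) (sigι K))) := by
    refine (isColimitMapCoconeCofanMkEquiv _ _ _).symm ?_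
    exact isColimitMapCofan
      (c := Cofan.mk ((F.mapHomologicalComplex (ComplexShape.up ℤ)).obj (sig K))
        (fun j => (F.mapHomologicalComplex (ComplexShape.up ℤ)).map (sigι K j)))
      (isColimitMapCoconeCofanMkEquiv _ _ _
        (isColimitOfPreserves (F.mapHomologicalComplex (ComplexShape.up ℤ))
          (isColimitSigCofan K)))
  have h2 : IsColimit ((Q ⋙ F.mapDerivedCategory).mapCocone (Cofan.mk (sig K) (sigι K))) :=
    IsColimit.mapCoconeEquiv F.mapDerivedCategoryFactors.symm h1
  have h3 : IsColimit (F.mapDerivedCategory.mapCocone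
      (Cofan.mk (Q.obj (sig K)) (fun j => Q.map (sigι K j)))) :=
    (isColimitMapCoconeCofanMkEquiv _ _ _).symm
      (isColimitMapCoconeCofanMkEquiv (Q ⋙ F.mapDerivedCategory) _ _ h2)
  have : PreservesColimit (Discrete.functor (fun j => Q.obj (K j))) F.mapDerivedCategory :=
    preservesColimit_of_preserves_colimit_cocone hc h3
  exact preservesColimit_of_iso_diagram _ e

end Abstract

/-- a functor to modules preserves a coproduct as soon as it does so after restriction to all
affine opens. -/
lemma preservesColimit_of_restrict {S : Scheme.{u}} {C : Type*} [Category C] (Ψ : C ⥤ S.Modules)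
    {ι : Type u} (K : ι → C) [HasCoproduct K]
    (h : ∀ V : S.affineOpens, PreservesColimit (Discrete.functor K)
      (Ψ ⋙ Scheme.Modules.restrictFunctor V.1.ι)) :
    PreservesColimit (Discrete.functor K) Ψ := by
  suffices IsIso (sigmaComparison Ψ K) from PreservesCoproduct.of_iso_comparison Ψ K
  apply Groth.Agent.LD.QC.isIso_of_bijective_affine
  intro V
  haveI := h V
  haveI : IsIso ((Scheme.Modules.restrictFunctor V.1.ι).map (sigmaComparison Ψ K)) :=
    isIso_map_sigmaComparison Ψ (Scheme.Modules.restrictFunctor V.1.ι) K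
  have h1 := (Scheme.Modules.Hom.isIso_iff_isIso_app).1 this ⊤
  rw [ConcreteCategory.isIso_iff_bijective] at h1
  have key : ∀ W : S.Opens, W = V.1.ι ''ᵁ ⊤ →
      Function.Bijective ((sigmaComparison Ψ K).app W) := by
    rintro _ rfl
    exact h1
  exact key _ (V.1.ι_image_top).symm

attribute [local instance] HasDerivedCategory.standard
attribute [local instance] instGrothendieckModules

/-- `Hᵐ(Rf_*(-))` preserves direct sums of objects of `D_QCoh`, for `f` quasi-compact and
quasi-separated. -/
theorem preservesColimit_Rpush_homology {X S : Scheme.{u}} (f : X ⟶ S)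
    [QuasiCompact f] [QuasiSeparated f] [DCoh.HasRpush f] {ι : Type u}
    (K : ι → DCoh.D X) (hK : ∀ i, DCoh.IsQCohD (K i)) [HasCoproduct K] (m : ℤ) :
    PreservesColimit (Discrete.functor K) (DCoh.Rpush f ⋙ homologyFunctor S.Modules m) := by
  apply preservesColimit_of_restrict
  intro V
  haveI : DCoh.HasRpush (f ∣_ V.1) := Groth.Agent.Helper7.LR4.hasRpush _
  obtain ⟨e⟩ := Groth.Agent.H6.RpRes.main f V.1
  haveI : IsAffine V.1.toScheme := V.2
  have hK' : ∀ i, DCoh.IsQCohD ((DCoh.restrictD (f ⁻¹ᵁ V.1).ι).obj (K i)) := by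
    intro i j
    have e2 := Groth.Agent.H7.DRec.homologyMapDerivedIso
      (Scheme.Modules.restrictFunctor (f ⁻¹ᵁ V.1).ι) (K i) j
    haveI : (DCoh.HD (K i) j).IsQuasicoherent := hK i j
    refine Groth.Agent.LD.QC.qc_of_iso e2.symm ?_
    exact inferInstanceAs ((DCoh.HD (K i) j).restrict (f ⁻¹ᵁ V.1).ι).IsQuasicoherent
  have hcpt := preservesColimit_Rpush_homology_of_compact (f ∣_ V.1)
    (fun i => (DCoh.restrictD (f ⁻¹ᵁ V.1).ι).obj (K i)) hK' m
  haveI : PreservesColimit (Discrete.functor ((DCoh.restrictD (f ⁻¹ᵁ V.1).ι).obj ∘ K))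
      (DCoh.Rpush (f ∣_ V.1) ⋙ homologyFunctor V.1.toScheme.Modules m) := hcpt
  haveI : HasExactColimitsOfShape (Discrete ι) X.Modules :=
    (IsGrothendieckAbelian.ab4OfSize.{u} (C := X.Modules)).ofShape ι
  haveI : HasExactColimitsOfShape (Discrete ι) (f ⁻¹ᵁ V.1).toScheme.Modules :=
    (IsGrothendieckAbelian.ab4OfSize.{u} (C := (f ⁻¹ᵁ V.1).toScheme.Modules)).ofShape ι
  haveI : PreservesColimitsOfShape (Discrete ι) (DCoh.restrictD (f ⁻¹ᵁ V.1).ι) :=
    preservesColimitsOfShape_mapDerivedCategory _
  haveI : PreservesColimit (Discrete.functor K) (DCoh.restrictD (f ⁻¹ᵁ V.1).ι ⋙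
      (DCoh.Rpush (f ∣_ V.1) ⋙ homologyFunctor V.1.toScheme.Modules m)) := by
    haveI : PreservesColimit (Discrete.functor K ⋙ DCoh.restrictD (f ⁻¹ᵁ V.1).ι)
        (DCoh.Rpush (f ∣_ V.1) ⋙ homologyFunctor V.1.toScheme.Modules m) :=
      preservesColimit_of_iso_diagram _ (Discrete.compNatIsoDiscrete K _).symm
    infer_instance
  let ν := homologyMapDerivedNatIso (Scheme.Modules.restrictFunctor V.1.ι) m
  let α : (DCoh.Rpush f ⋙ homologyFunctor S.Modules m) ⋙
        Scheme.Modules.restrictFunctor V.1.ι ≅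
      DCoh.restrictD (f ⁻¹ᵁ V.1).ι ⋙
        (DCoh.Rpush (f ∣_ V.1) ⋙ homologyFunctor V.1.toScheme.Modules m) :=
    Functor.associator _ _ _ ≪≫ Functor.isoWhiskerLeft (DCoh.Rpush f) ν.symm ≪≫
      (Functor.associator _ _ _).symm ≪≫ Functor.isoWhiskerRight e _ ≪≫
      Functor.associator _ _ _
  exact preservesColimit_of_natIso _ α.symm

theorem s1000 {X S : Scheme.{u}} (f : X ⟶ S) [QuasiCompact f] [QuasiSeparated f] [DCoh.HasRpush f]
    {ι : Type u} (K : ι → DCoh.D X) (hK : ∀ i, DCoh.IsQCohD (K i)) [HasCoproduct K]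
    [HasCoproduct (fun i => (DCoh.Rpush f).obj (K i))] :
    IsIso (Sigma.desc (fun i => (DCoh.Rpush f).map (Sigma.ι K i))) := by
  change IsIso (sigmaComparison (DCoh.Rpush f) K)
  rw [DerivedCategory.isIso_iff]
  intro m
  haveI : HasExactColimitsOfShape (Discrete ι) S.Modules :=
    (IsGrothendieckAbelian.ab4OfSize.{u} (C := S.Modules)).ofShape ι
  haveI : PreservesColimitsOfShape (Discrete ι) (homologyFunctor S.Modules m) :=
    Groth.Agent.H6.AcySum.preservesColimitsOfShape_homologyFunctor m
  haveI := preservesColimit_Rpush_homology f K hK m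
  exact isIso_map_sigmaComparison (DCoh.Rpush f) (homologyFunctor S.Modules m) K

end Groth.Agent.H6.PushSum
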