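import Groth.Agent.Lib.Helper6.SymSum
import Groth.Prelude.Def_RelProj4

/-!
# Base change of relative spectra (helper6)
-/

set_option autoImplicit false
set_option linter.style.haveILetI false
universe u

open CategoryTheory CategoryTheory.Limits AlgebraicGeometry TopologicalSpace Opposite

noncomputable section

namespace Groth.Agent.H6.QCLoc

variable {S S' : Scheme.{u}}

/-- the relative spectrum of an inverse image algebra is the base change. -/
theorem isPullback_of_isQBaseChange (g : S' ⟶ S) (A : RelSpec.QCAlg S) (B : RelSpec.QCAlg S')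
    (u : RelSpec.QHom g A B) (hu : RelSpec.IsQBaseChange u) (h : B.spec ⟶ A.spec)
    (hh : RelSpec.IsSpecQMap u h) : IsPullback h B.π A.π g := by
  refine IsPullback.flip ?_
  let I := {p : S.affineOpens × S'.affineOpens // p.2.1 ≤ g ⁻¹ᵁ p.1.1}
  let 𝒰 : S'.OpenCover := Scheme.Cover.mkOfCovers I (fun i => Spec Γ(S', i.1.2.1))
    (fun i => i.1.2.2.fromSpec) (fun x => by
      obtain ⟨U, hU, hxU, -⟩ := exists_isAffineOpen_mem_and_subset (x := g.base x) (U := ⊤) trivial
      obtain ⟨U', hU', hxU', hle⟩ := exists_isAffineOpen_mem_and_subset (x := x) (U := g ⁻¹ᵁ U) hxU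
      have : x ∈ Set.range hU'.fromSpec.base := by rw [hU'.range_fromSpec]; exact hxU'
      obtain ⟨y, hy⟩ := this
      exact ⟨⟨(⟨U, hU⟩, ⟨U', hU'⟩), hle⟩, y, hy⟩)
  refine Scheme.isPullback_of_openCover B.π h g A.π 𝒰 fun i => ?_
  obtain ⟨⟨⟨U, hU⟩, ⟨U', hU'⟩⟩, hle⟩ := i
  have P1 : IsPullback (B.ι U' hU') (Spec.map (B.str.app (op U'))) B.π hU'.fromSpec :=
    isPullback_chart B U' hU'
  have Q : IsPullback (Spec.map (B.str.app (op U'))) (B.ι U' hU' ≫ h) (hU'.fromSpec ≫ g) A.π := by
    rw [hh U hU U' hU' hle, ← IsAffineOpen.SpecMap_appLE_fromSpec g hU hU' hle]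
    exact ((AlgebraicGeometry.isPullback_SpecMap_of_isPushout _ _ _ _
      (hu U hU U' hU' hle)).flip.paste_horiz (isPullback_chart A U hU)).flip
  refine IsPullback.of_iso Q P1.isoPullback (Iso.refl _) (Iso.refl _) (Iso.refl _) ?_ ?_ ?_ ?_
  · exact (Category.comp_id _).trans P1.isoPullback_hom_snd.symm
  · refine (Category.comp_id _).trans ?_
    rw [← Category.assoc]
    congr 1
    exact P1.isoPullback_hom_fst.symm
  · exact (Category.comp_id _).trans (Category.id_comp _).symm
  · simp

end Groth.Agent.H6.QCLoc
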