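import Groth.Agent.Lib.Helper6.PreAlg

/-!
# Pushouts of quasi-coherent algebras are detected on affine opens (helper6)
-/

set_option autoImplicit false
set_option linter.style.haveILetI false
universe u

open CategoryTheory CategoryTheory.Limits AlgebraicGeometry TopologicalSpace Opposite

noncomputable section

namespace Groth.Agent.H6.QCPush

open RelSpec

variable {S : Scheme.{u}}

/-- maps out of the structure sheaf into a sheaf agree if they agree on affine opens. -/
theorem presheaf_hom_ext_affine {P : TopCat.Presheaf CommRingCat.{u} S.carrier} (C : QCAlg S)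
    (a b : P ⟶ C.presheaf)
    (h : ∀ (U : S.Opens) (_ : IsAffineOpen U), a.app (op U) = b.app (op U)) : a = b := by
  apply (Functor.IsCoverDense.restrictHomEquivHom (G := Scheme.AffineZariskiSite.toOpensFunctor S)
    (K := Opens.grothendieckTopology S) (ℱ := P)
    (ℱ' := (⟨C.presheaf, C.isSheaf⟩ : TopCat.Sheaf CommRingCat.{u} S.carrier))).symm.injective
  ext U : 2
  exact h U.unop.1 U.unop.2

/-- construction of a map of presheaves of rings into a quasi-coherent algebra from compatible
maps over the affine opens (compatibility only for basic open inclusions). -/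
theorem exists_presheaf_hom {P : TopCat.Presheaf CommRingCat.{u} S.carrier} (C : QCAlg S)
    (c : ∀ (U : S.Opens) (_ : IsAffineOpen U), P.obj (op U) ⟶ C.presheaf.obj (op U))
    (hc : ∀ (U : S.Opens) (hU : IsAffineOpen U) (r : Γ(S, U)),
      P.map (homOfLE (S.basicOpen_le r)).op ≫ c (S.basicOpen r) (hU.basicOpen r) =
        c U hU ≫ C.presheaf.map (homOfLE (S.basicOpen_le r)).op) :
    ∃ γ : P ⟶ C.presheaf, ∀ (U : S.Opens) (hU : IsAffineOpen U), γ.app (op U) = c U hU := by
  let θ : (Scheme.AffineZariskiSite.toOpensFunctor S).op ⋙ P ⟶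
      (Scheme.AffineZariskiSite.toOpensFunctor S).op ⋙ C.presheaf :=
    { app := fun U => c U.unop.1 U.unop.2
      naturality := fun U V i => by
        obtain ⟨r, hr⟩ := i.unop.le
        have key : ∀ (W : S.Opens) (hW : IsAffineOpen W) (hWU : W ≤ U.unop.1)
            (e : S.basicOpen r = W),
            P.map (homOfLE hWU).op ≫ c W hW = c U.unop.1 U.unop.2 ≫
              C.presheaf.map (homOfLE hWU).op := by
          intro W hW hWU e
          subst e
          exact hc U.unop.1 U.unop.2 r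
        exact key V.unop.1 V.unop.2 _ hr }
  refine ⟨Functor.IsCoverDense.restrictHomEquivHom
    (G := Scheme.AffineZariskiSite.toOpensFunctor S)
    (K := Opens.grothendieckTopology S) (ℱ := P)
    (ℱ' := (⟨C.presheaf, C.isSheaf⟩ : TopCat.Sheaf CommRingCat.{u} S.carrier)) θ, fun U hU => ?_⟩
  have := (Functor.IsCoverDense.restrictHomEquivHom
    (G := Scheme.AffineZariskiSite.toOpensFunctor S)
    (K := Opens.grothendieckTopology S) (ℱ := P)
    (ℱ' := (⟨C.presheaf, C.isSheaf⟩ : TopCat.Sheaf CommRingCat.{u} S.carrier))).symm_apply_apply θ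
  exact NatTrans.congr_app this (op ⟨U, hU⟩)

/-- **pushouts of quasi-coherent algebras are detected on affine opens.** -/
theorem isPushout_of_forall_affine {A₀ A₁ A₂ A₃ : QCAlg S} (f₁ : A₀ ⟶ A₁) (f₂ : A₀ ⟶ A₂)
    (g₁ : A₁ ⟶ A₃) (g₂ : A₂ ⟶ A₃)
    (h : ∀ (U : S.Opens) (_ : IsAffineOpen U),
      IsPushout (f₁.hom.app (op U)) (f₂.hom.app (op U)) (g₁.hom.app (op U)) (g₂.hom.app (op U))) :
    IsPushout f₁ f₂ g₁ g₂ := by
  have hw : f₁ ≫ g₁ = f₂ ≫ g₂ := by
    apply PA.hom_ext_affine
    intro U hU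
    exact (h U hU).w
  have hdesc : ∀ s : PushoutCocone f₁ f₂, ∃ c : A₃ ⟶ s.pt, g₁ ≫ c = s.inl ∧ g₂ ≫ c = s.inr := by
    intro s
    have hcond : ∀ (U : S.Opens), f₁.hom.app (op U) ≫ s.inl.hom.app (op U) =
        f₂.hom.app (op U) ≫ s.inr.hom.app (op U) := fun U =>
      congrArg (fun k : A₀ ⟶ s.pt => k.hom.app (op U)) s.condition
    let c : ∀ (U : S.Opens) (hU : IsAffineOpen U), A₃.presheaf.obj (op U) ⟶ s.pt.presheaf.obj (op U) :=
      fun U hU => (h U hU).desc (s.inl.hom.app (op U)) (s.inr.hom.app (op U)) (hcond U)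
    have hc1 : ∀ U hU, g₁.hom.app (op U) ≫ c U hU = s.inl.hom.app (op U) :=
      fun U hU => (h U hU).inl_desc _ _ _
    have hc2 : ∀ U hU, g₂.hom.app (op U) ≫ c U hU = s.inr.hom.app (op U) :=
      fun U hU => (h U hU).inr_desc _ _ _
    obtain ⟨γ, hγ⟩ := exists_presheaf_hom s.pt c (fun U hU r => by
      apply (h U hU).hom_ext
      · rw [← Category.assoc, ← g₁.hom.naturality, Category.assoc, hc1 _ (hU.basicOpen r),
          ← Category.assoc, hc1 U hU, s.inl.hom.naturality]
      · rw [← Category.assoc, ← g₂.hom.naturality, Category.assoc, hc2 _ (hU.basicOpen r),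
          ← Category.assoc, hc2 U hU, s.inr.hom.naturality])
    have hstr : A₃.str ≫ γ = s.pt.str := by
      apply presheaf_hom_ext_affine
      intro U hU
      rw [NatTrans.comp_app, hγ U hU]
      have e1 : A₃.str.app (op U) = A₁.str.app (op U) ≫ g₁.hom.app (op U) :=
        (NatTrans.congr_app g₁.comm (op U)).symm
      rw [e1, Category.assoc, hc1 U hU]
      exact NatTrans.congr_app s.inl.comm (op U)
    refine ⟨⟨γ, hstr⟩, ?_, ?_⟩
    · apply PA.hom_ext_affine
      intro U hU
      change g₁.hom.app (op U) ≫ γ.app (op U) = _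
      rw [hγ U hU, hc1 U hU]
    · apply PA.hom_ext_affine
      intro U hU
      change g₂.hom.app (op U) ≫ γ.app (op U) = _
      rw [hγ U hU, hc2 U hU]
  choose c hc1 hc2 using hdesc
  refine ⟨⟨hw⟩, ⟨PushoutCocone.IsColimit.mk _ c hc1 hc2 ?_⟩⟩
  intro s m hm1 hm2
  apply PA.hom_ext_affine
  intro U hU
  apply (h U hU).hom_ext
  · change (g₁ ≫ m).hom.app (op U) = (g₁ ≫ c s).hom.app (op U)
    rw [hm1, hc1]
  · change (g₂ ≫ m).hom.app (op U) = (g₂ ≫ c s).hom.app (op U)
    rw [hm2, hc2]

end Groth.Agent.H6.QCPush
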