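import Mathlib
import Groth.Agent.Lib.Helper1.StalkGen
import Groth.Agent.Lib.Helper1.GenPts
import Groth.Agent.Lib.Helper1.DimLocC
import Groth.Agent.Lib.Helper1.JacobsonTrdeg
import Groth.Agent.Lib.Helper1.QSecA
import Groth.Agent.Lib.Helper1.AlgSpDim3

/-! Quasi-finiteness over points of codimension at most one (S1608). -/

universe u
set_option linter.style.haveILetI false
set_option autoImplicit false

open AlgebraicGeometry CategoryTheory IsLocalRing

namespace Groth.Agent.H6.QFCodim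

variable {X Y : Scheme.{u}}

theorem withBot_key : ∀ a : WithBot ℕ∞, a + 1 ≤ 1 → a ≤ 0 := by
  intro a ha
  induction a using WithBot.recBotCoe with
  | bot => exact bot_le
  | coe a =>
    induction a using ENat.recTopCoe with
    | top =>
      exfalso
      have h1 : (((⊤ : ℕ∞) + 1 : ℕ∞) : WithBot ℕ∞) ≤ ((1 : ℕ∞) : WithBot ℕ∞) := by
        exact_mod_cast ha
      rw [WithBot.coe_le_coe] at h1
      simp at h1
    | coe n =>
      have h1 : ((((n + 1 : ℕ) : ℕ∞)) : WithBot ℕ∞) ≤ (((1 : ℕ) : ℕ∞) : WithBot ℕ∞) := by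
        exact_mod_cast ha
      rw [WithBot.coe_le_coe, Nat.cast_le] at h1
      have h3 : n = 0 := by omega
      subst h3
      simp

/-- under the hypotheses of S1608, two points of the fibre over `y` one of which specializes to
the other are equal. -/
theorem eq_of_specializes_fibre (f : X ⟶ Y) [LocallyOfFiniteType f] (y : Y)
    [IsNoetherianRing (Y.presheaf.stalk y)] (hy : ringKrullDim (Y.presheaf.stalk y) ≤ 1)
    (hgen : ∀ Z ∈ irreducibleComponents (X : Type u), ∀ η : X, IsGenericPoint η Z →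
      f.QuasiFiniteAt η)
    (x₁ x₂ : X) (h₁ : f x₁ = y) (h₂ : f x₂ = y) (hs : x₁ ⤳ x₂) : x₁ = x₂ := by
  by_contra hne
  have hqf0 : ∀ ξ : X, ringKrullDim (X.presheaf.stalk ξ) = 0 → f.QuasiFiniteAt ξ := fun ξ hξ =>
    hgen _ (Groth.Agent.H1.GenPts.closure_mem_irreducibleComponents_of_stalk_dim_eq_zero ξ hξ) ξ
      (isGenericPoint_def.mpr rfl)
  have hlt : (Groth.Agent.H1.StalkGen.primeOf hs).asIdeal < maximalIdeal (X.presheaf.stalk x₂) := by
    refine lt_of_le_of_ne
      (IsLocalRing.le_maximalIdeal (Groth.Agent.H1.StalkGen.primeOf hs).2.ne_top) (fun heq => hne ?_)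
    have h1 := Groth.Agent.H1.StalkGen.fromSpecStalk_primeOf hs
    have h2 : Groth.Agent.H1.StalkGen.primeOf hs = IsLocalRing.closedPoint (X.presheaf.stalk x₂) :=
      PrimeSpectrum.ext heq
    rw [h2, Scheme.fromSpecStalk_closedPoint] at h1
    exact h1.symm
  have hdim1 : ringKrullDim (X.presheaf.stalk x₁) + 1 ≤ ringKrullDim (X.presheaf.stalk x₂) := by
    rw [Groth.Agent.H1.StalkGen.ringKrullDim_stalk_eq_height hs,
      ← IsLocalRing.maximalIdeal_height_eq_ringKrullDim]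
    haveI := (Groth.Agent.H1.StalkGen.primeOf hs).2
    exact_mod_cast Ideal.height_add_one_le_of_lt_of_isPrime hlt
  have hN : IsNoetherianRing (Y.presheaf.stalk (f x₂)) := by rw [h₂]; infer_instance
  have hineq := Groth.Agent.H1.DimLoc.stalk_dim_add_resTrdeg_le' f x₂ hN 0 (fun ξ _ hξ =>
    (Groth.Agent.H1.JacobsonTrdeg.resTrdeg_eq_zero_of_finite f ξ (hqf0 ξ hξ)).le)
  have hle1 : ringKrullDim (X.presheaf.stalk x₂) ≤ 1 := by
    have h3 : ringKrullDim (Y.presheaf.stalk (f x₂)) ≤ 1 := by rw [h₂]; exact hy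
    have h4 : (0 : WithBot ℕ∞) ≤
        ((Cardinal.toENat (Dual3.resTrdeg f x₂) : ℕ∞) : WithBot ℕ∞) := by
      rw [← WithBot.coe_zero, WithBot.coe_le_coe]; exact zero_le
    calc ringKrullDim (X.presheaf.stalk x₂)
        ≤ ringKrullDim (X.presheaf.stalk x₂) +
          ((Cardinal.toENat (Dual3.resTrdeg f x₂) : ℕ∞) : WithBot ℕ∞) := le_add_of_nonneg_right h4
      _ ≤ ringKrullDim (Y.presheaf.stalk (f x₂)) +
          ((Cardinal.toENat (0 : Cardinal.{u}) : ℕ∞) : WithBot ℕ∞) := hineq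
      _ = ringKrullDim (Y.presheaf.stalk (f x₂)) := by simp
      _ ≤ 1 := h3
  have h0 : ringKrullDim (X.presheaf.stalk x₁) = 0 :=
    le_antisymm (withBot_key _ (hdim1.trans hle1)) ringKrullDim_nonneg_of_nontrivial
  have hq := hqf0 x₁ h0
  have hclosed : IsClosed ({f.asFiber x₁} : Set (f.fiber (f x₁))) := hq.isClopen_singleton_asFiber.1
  have hfib : x₂ ∈ f ⁻¹' {f x₁} := by
    show f x₂ = f x₁
    rw [h₁, h₂]
  set z₂ := (f.fiberHomeo (f x₁)).symm ⟨x₂, hfib⟩ with hz₂
  have hz₂' : f.fiberι (f x₁) z₂ = x₂ := f.fiberι_fiberHomeo_symm (f x₁) ⟨x₂, hfib⟩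
  have hs' : f.asFiber x₁ ⤳ z₂ := by
    rw [← (f.fiberι (f x₁)).isEmbedding.isInducing.specializes_iff, hz₂', f.fiberι_asFiber]
    exact hs
  have hmem : z₂ ∈ ({f.asFiber x₁} : Set (f.fiber (f x₁))) :=
    hs'.mem_closed hclosed (Set.mem_singleton _)
  have heq : z₂ = f.asFiber x₁ := hmem
  apply hne
  rw [← hz₂', heq, f.fiberι_asFiber]

theorem main (f : X ⟶ Y) [LocallyOfFiniteType f]
    (y : Y) [IsNoetherianRing (Y.presheaf.stalk y)] (hy : ringKrullDim (Y.presheaf.stalk y) ≤ 1)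
    (hgen : ∀ Z ∈ irreducibleComponents (X : Type u), ∀ η : X, IsGenericPoint η Z →
      f.QuasiFiniteAt η)
    (x : X) (hx : f.base x = y) : f.QuasiFiniteAt x := by
  rw [← Groth.Agent.H1.QFDim.fibreDimAt_eq_zero_iff]
  apply Groth.Agent.H1.QSec.fibreDimAt_eq_zero_of_closed_of_maxPt
  · intro x' hx' hs
    exact (eq_of_specializes_fibre f y hy hgen x x' hx (hx'.trans hx) hs).symm
  · intro x' hx' hs
    exact eq_of_specializes_fibre f y hy hgen x' x (hx'.trans hx) hx hs

end Groth.Agent.H6.QFCodim
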