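import Mathlib
import Groth.Agent.Lib.Helper9.Misc.PFD2
import Groth.Agent.Lib.Helper9.Misc.GDH

set_option autoImplicit false
universe u v
open IsLocalRing

set_option linter.unusedSectionVars false
set_option linter.unusedSimpArgs false
set_option linter.style.haveILetI false
namespace Groth.Agent.H6.QFPur

section HeightOne

variable {A : Type*} [CommRing A] [IsNoetherianRing A]

theorem map_mk_lt {p₀ I J : Ideal A} (h0 : p₀ ≤ I) (hIJ : I < J) :
    I.map (Ideal.Quotient.mk p₀) < J.map (Ideal.Quotient.mk p₀) := by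
  refine lt_of_le_of_ne (Ideal.map_mono hIJ.le) ?_
  intro heq
  have h1 := congrArg (Ideal.comap (Ideal.Quotient.mk p₀)) heq
  rw [Ideal.comap_map_of_surjective _ Ideal.Quotient.mk_surjective,
    Ideal.comap_map_of_surjective _ Ideal.Quotient.mk_surjective,
    ← RingHom.ker_eq_comap_bot, Ideal.mk_ker, sup_eq_left.mpr h0,
    sup_eq_left.mpr (h0.trans hIJ.le)] at h1
  exact hIJ.ne h1

theorem step (d : A) (q : Ideal A) [hq : q.IsPrime] (hd : d ∈ q) (h2 : 2 ≤ q.height) :
    ∃ q'' : Ideal A, q''.IsPrime ∧ q'' < q ∧ d ∈ q'' ∧ 1 ≤ q''.height := by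
  -- a prime `p₁ < q` of height at least one
  obtain ⟨p₁, hp₁, hp₁q, hp₁h⟩ : ∃ p₁ : Ideal A, p₁.IsPrime ∧ p₁ < q ∧ 1 ≤ p₁.height := by
    by_contra hcon
    push Not at hcon
    have : q.height ≤ ((1 : ℕ) : ℕ∞) := by
      rw [Ideal.height_le_iff]
      intro p' hp' hlt
      have := hcon p' hp' hlt
      exact_mod_cast this
    have h3 : (2 : ℕ∞) ≤ 1 := h2.trans (by exact_mod_cast this)
    exact absurd h3 (by decide)
  by_cases hdp : d ∈ p₁
  · exact ⟨p₁, hp₁, hp₁q, hdp, hp₁h⟩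
  -- a prime `p₀ < p₁`
  obtain ⟨p₀, hp₀, hp₀p₁⟩ : ∃ p₀ : Ideal A, p₀.IsPrime ∧ p₀ < p₁ := by
    by_contra hcon
    push Not at hcon
    have : p₁.height ≤ ((0 : ℕ) : ℕ∞) := by
      rw [Ideal.height_le_iff]
      intro p' hp' hlt
      exact absurd hlt (hcon p' hp')
    have h3 : (1 : ℕ∞) ≤ 0 := hp₁h.trans (by exact_mod_cast this)
    exact absurd h3 (by decide)
  have hle : p₀ ⊔ Ideal.span {d} ≤ q := by
    rw [sup_le_iff, Ideal.span_le, Set.singleton_subset_iff]
    exact ⟨(hp₀p₁.le.trans hp₁q.le), hd⟩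
  obtain ⟨q'', hq''min, hq''q⟩ := Ideal.exists_minimalPrimes_le hle
  haveI hq''p : q''.IsPrime := hq''min.1.1
  have hp₀q'' : p₀ ≤ q'' := le_sup_left.trans hq''min.1.2
  have hdq'' : d ∈ q'' := hq''min.1.2 (Ideal.mem_sup_right (Ideal.mem_span_singleton_self d))
  have hne : p₀ ≠ q'' := by
    intro heq
    apply hdp
    apply hp₀p₁.le
    rw [heq]
    exact hdq''
  have hlt0 : p₀ < q'' := lt_of_le_of_ne hp₀q'' hne
  refine ⟨q'', hq''p, lt_of_le_of_ne hq''q ?_, hdq'', ?_⟩
  · intro heq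
    subst heq
    have h1 : (q''.map (Ideal.Quotient.mk p₀)).height ≤ 1 :=
      Ideal.map_height_le_one_of_mem_minimalPrimes hq''min
    haveI : (p₁.map (Ideal.Quotient.mk p₀)).IsPrime :=
      Ideal.map_isPrime_of_surjective Ideal.Quotient.mk_surjective
        (by rw [Ideal.mk_ker]; exact hp₀p₁.le)
    haveI : (q''.map (Ideal.Quotient.mk p₀)).IsPrime :=
      Ideal.map_isPrime_of_surjective Ideal.Quotient.mk_surjective
        (by rw [Ideal.mk_ker]; exact hp₀q'')
    haveI : (p₀.map (Ideal.Quotient.mk p₀)).IsPrime :=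
      Ideal.map_isPrime_of_surjective Ideal.Quotient.mk_surjective
        (by rw [Ideal.mk_ker])
    have h2' := Ideal.height_add_one_le_of_lt_of_isPrime (map_mk_lt le_rfl hp₀p₁)
    have h3' := Ideal.height_add_one_le_of_lt_of_isPrime (map_mk_lt hp₀p₁.le hp₁q)
    have h4 : (2 : ℕ∞) ≤ (q''.map (Ideal.Quotient.mk p₀)).height := by
      calc (2 : ℕ∞) = 0 + 1 + 1 := by norm_num
        _ ≤ (p₀.map (Ideal.Quotient.mk p₀)).height + 1 + 1 := by gcongr; exact zero_le
        _ ≤ (p₁.map (Ideal.Quotient.mk p₀)).height + 1 := by gcongr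
        _ ≤ _ := h3'
    exact absurd (h4.trans h1) (by decide)
  · have := Ideal.height_add_one_le_of_lt_of_isPrime hlt0
    exact le_trans (by simp) this

theorem exists_height_one_le (d : A) : ∀ (n : ℕ) (q : Ideal A) [q.IsPrime], d ∈ q → 1 ≤ q.height →
    q.height = n → ∃ q' : Ideal A, q'.IsPrime ∧ q' ≤ q ∧ d ∈ q' ∧ q'.height = 1 := by
  intro n
  induction n using Nat.strong_induction_on with
  | _ n ih =>
    intro q hq hd h1 hn
    by_cases h2 : 2 ≤ q.height
    · obtain ⟨q'', hq''p, hq''q, hdq'', hq''h⟩ := step d q hd h2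
      haveI := hq''p
      have hfin : q''.height ≠ ⊤ := Ideal.height_ne_top_of_isPrime
      obtain ⟨m, hm⟩ := ENat.ne_top_iff_exists.mp hfin
      have hlt : q''.height < q.height := Ideal.height_strict_mono_of_isPrime_of_isPrime hq''q
      have hmn : m < n := by
        rw [← hm, hn] at hlt
        exact_mod_cast hlt
      obtain ⟨q', hq'p, hq'q'', hdq', hq'h⟩ := ih m hmn q'' hdq'' hq''h hm.symm
      exact ⟨q', hq'p, hq'q''.trans hq''q.le, hdq', hq'h⟩
    · refine ⟨q, hq, le_rfl, hd, le_antisymm ?_ h1⟩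
      rw [not_le] at h2
      have h3 : q.height < 1 + 1 := by
        have : (2 : ℕ∞) = 1 + 1 := by norm_num
        rwa [this] at h2
      exact Order.le_of_lt_add_one h3

end HeightOne

end Groth.Agent.H6.QFPur
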