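import Mathlib
import Groth.Agent.Lib.Helper6.QFPur1

set_option autoImplicit false
universe u v
open IsLocalRing

set_option linter.unusedSectionVars false
set_option linter.unusedSimpArgs false
set_option linter.style.haveILetI false
namespace Groth.Agent.H6.QFPur

/-- the discriminant does not vanish at a prime over which the algebra is unramified. -/
theorem discr_not_mem {A : Type u} {B : Type v} [CommRing A] [CommRing B] [Algebra A B]
    [Module.Finite A B]
    {ι : Type*} [Fintype ι] [DecidableEq ι] (b : Module.Basis ι A B) (p : Ideal A) [hp : p.IsPrime]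
    (h : ∀ Q : PrimeSpectrum B, Q.asIdeal.comap (algebraMap A B) = p →
      Q ∈ Algebra.unramifiedLocus A B) :
    Algebra.discr A b ∉ p := by
  have hopen : IsOpen (Algebra.unramifiedLocus A B) := Algebra.isOpen_unramifiedLocus
  have hcl : IsClosed ((PrimeSpectrum.comap (algebraMap A B)) '' (Algebra.unramifiedLocus A B)ᶜ) :=
    PrimeSpectrum.isClosedMap_comap_of_isIntegral (algebraMap A B)
      (algebraMap_isIntegral_iff.mpr inferInstance) _ hopen.isClosed_compl
  have hp' : (⟨p, hp⟩ : PrimeSpectrum A) ∈
      ((PrimeSpectrum.comap (algebraMap A B)) '' (Algebra.unramifiedLocus A B)ᶜ)ᶜ := by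
    rintro ⟨Q, hQ, hQp⟩
    apply hQ
    apply h Q
    exact congrArg PrimeSpectrum.asIdeal hQp
  obtain ⟨_, ⟨_, ⟨t, rfl⟩, rfl⟩, hpt, hsub⟩ :=
    PrimeSpectrum.isBasis_basic_opens.exists_subset_of_mem_open hp' hcl.isOpen_compl
  have htp : t ∉ p := hpt
  have hu := Groth.Agent.H9.PFD.isUnit_discr_away b t (by
    intro Q hQ
    by_contra hcon
    have h1 : PrimeSpectrum.comap (algebraMap A B) Q ∈
        (PrimeSpectrum.basicOpen t : Set (PrimeSpectrum A)) := hQ
    exact hsub h1 ⟨Q, hcon, rfl⟩)
  intro hd
  have hdisj : Disjoint (Submonoid.powers t : Set A) (p : Set A) := by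
    rw [Ideal.disjoint_powers_iff_notMem_of_isPrime]
    exact htp
  have hprime : (p.map (algebraMap A (Localization (Submonoid.powers t)))).IsPrime :=
    IsLocalization.isPrime_of_isPrime_disjoint (Submonoid.powers t) _ p hp hdisj
  exact hprime.ne_top (Ideal.eq_top_of_isUnit_mem _ (Ideal.mem_map_of_mem _ hd) hu)

/-- a finite flat algebra over a Noetherian local ring of positive dimension which is
unramified at all primes of height one is étale. -/
theorem etale_of_unramified_height_one (A : Type u) (B : Type v) [CommRing A] [CommRing B]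
    [Algebra A B] [IsNoetherianRing A] [IsLocalRing A] (hdim : (1 : WithBot ℕ∞) ≤ ringKrullDim A)
    [Module.Finite A B] [Module.Flat A B]
    (h : ∀ Q : PrimeSpectrum B, Q.asIdeal.height = 1 → Algebra.IsUnramifiedAt A Q.asIdeal) :
    Algebra.Etale A B := by
  classical
  haveI : Module.Free A B := Module.free_of_flat_of_isLocalRing
  let b := Module.Free.chooseBasis A B
  rw [H5QFDual.etale_iff_isUnit_discr b]
  by_contra hd
  have hdm : Algebra.discr A b ∈ maximalIdeal A := (mem_maximalIdeal _).mpr hd
  have hht : 1 ≤ (maximalIdeal A).height := by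
    have h1 := IsLocalRing.maximalIdeal_height_eq_ringKrullDim (R := A)
    rw [← h1] at hdim
    exact_mod_cast hdim
  have hfin : (maximalIdeal A).height ≠ ⊤ := Ideal.height_ne_top_of_isPrime
  obtain ⟨m, hm⟩ := ENat.ne_top_iff_exists.mp hfin
  obtain ⟨p, hpp, -, hdp, hph⟩ := exists_height_one_le (Algebra.discr A b) m (maximalIdeal A)
    hdm hht hm.symm
  haveI := hpp
  apply discr_not_mem b p _ hdp
  intro Q hQ
  apply h Q
  haveI : Algebra.IsIntegral A B := inferInstance
  have h1 := Groth.Agent.H9.GDH.height_le_height_under (R := A) Q.asIdeal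
  have h2 := Groth.Agent.H9.GDH.height_under_le_height (R := A) Q.asIdeal
  have h3 : Q.asIdeal.under A = p := hQ
  rw [h3, hph] at h1 h2
  exact le_antisymm h1 h2

end Groth.Agent.H6.QFPur
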