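import Mathlib
import Groth.Agent.Lib.Helper6.QFPur2

set_option autoImplicit false
universe u v
open IsLocalRing

set_option linter.unusedSectionVars false
set_option linter.unusedSimpArgs false
set_option linter.style.haveILetI false
namespace Groth.Agent.H6.QFPur

open Groth.Agent.H9.PFD

section Loc

variable (A : Type u) (B : Type v) [CommRing A] [CommRing B] [Algebra A B] [IsNoetherianRing A]
    [Module.Finite A B] [Module.Flat A B] (p : Ideal A) [hpp : p.IsPrime]

local notation "Ap" => Localization.AtPrime p
local notation "Bp" => Localization (Algebra.algebraMapSubmonoid B p.primeCompl)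

theorem local_etale' (hp1 : 1 ≤ p.height)
    (hlow : ∀ (q' : Ideal B) [q'.IsPrime], q'.comap (algebraMap A B) ≤ p → q'.height = 1 →
      Algebra.FormallyUnramified A (Localization.AtPrime q')) :
    Algebra.Etale Ap Bp := by
  have hdim : (1 : WithBot ℕ∞) ≤ ringKrullDim Ap := by
    rw [IsLocalization.AtPrime.ringKrullDim_eq_height p Ap]
    exact_mod_cast hp1
  refine etale_of_unramified_height_one Ap Bp hdim (fun Q hQ => ?_)
  set q' : Ideal B := Q.asIdeal.comap (algebraMap B Bp) with hq'
  haveI : q'.IsPrime := Ideal.comap_isPrime _ _
  set p' : Ideal A := q'.comap (algebraMap A B) with hp'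
  haveI : p'.IsPrime := Ideal.comap_isPrime _ _
  have hp'2 : p' = (Q.asIdeal.comap (algebraMap Ap Bp)).comap (algebraMap A Ap) := by
    rw [hp', hq', Ideal.comap_comap, Ideal.comap_comap,
      ← IsScalarTower.algebraMap_eq A B Bp, ← IsScalarTower.algebraMap_eq A Ap Bp]
  have hle : p' ≤ p := by
    rw [hp'2]
    intro a ha
    by_contra hap
    have hu : IsUnit (algebraMap A Ap a) := IsLocalization.map_units Ap (⟨a, hap⟩ : p.primeCompl)
    have hprime : (Q.asIdeal.comap (algebraMap Ap Bp)).IsPrime := Ideal.comap_isPrime _ _
    exact hprime.ne_top (Ideal.eq_top_of_isUnit_mem _ ha hu)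
  have hht : q'.height = 1 := by
    rw [← hQ]
    exact IsLocalization.height_under (Algebra.algebraMapSubmonoid B p.primeCompl) Q.asIdeal
  have hunr' : Algebra.FormallyUnramified A (Localization.AtPrime q') := hlow q' hle hht
  haveI : IsLocalization.AtPrime (Localization.AtPrime Q.asIdeal) q' :=
    IsLocalization.isLocalization_isLocalization_atPrime_isLocalization
      (Algebra.algebraMapSubmonoid B p.primeCompl) (Localization.AtPrime Q.asIdeal) Q.asIdeal
  have h3 : Algebra.FormallyUnramified A (Localization.AtPrime Q.asIdeal) :=
    unram_transfer q' (Localization.AtPrime q') (Localization.AtPrime Q.asIdeal) hunr'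
  show Algebra.FormallyUnramified Ap (Localization.AtPrime Q.asIdeal)
  exact Algebra.FormallyUnramified.of_restrictScalars (R := A) (A := Ap)
    (B := Localization.AtPrime Q.asIdeal)

/-- global form: a finite flat algebra over a Noetherian ring is unramified at a prime `q` over
a prime `p` of positive height as soon as it is unramified at all primes of height one whose
contraction lies in `p`. -/
theorem unramified_of_height_one (hp1 : 1 ≤ p.height)
    (hlow : ∀ (q' : Ideal B) [q'.IsPrime], q'.comap (algebraMap A B) ≤ p → q'.height = 1 →
      Algebra.FormallyUnramified A (Localization.AtPrime q'))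
    (q : Ideal B) [hq : q.IsPrime] (hqp : q.comap (algebraMap A B) = p) :
    Algebra.FormallyUnramified A (Localization.AtPrime q) := by
  haveI := local_etale' A B p hp1 hlow
  exact unram_of_local A B p q hqp inferInstance

end Loc

end Groth.Agent.H6.QFPur
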