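import Mathlib
import Groth.Prelude
import Groth.Agent.Lib.Helper6.ZN12

set_option autoImplicit false
universe u v
open IsLocalRing TensorProduct RingTheory.Sequence

set_option linter.unusedSectionVars false
set_option linter.unusedSimpArgs false
set_option linter.style.haveILetI false
namespace Groth.Agent.H6.ZN

theorem isEtaleAt_congr {A B : Type*} [CommRing A] [CommRing B] [Algebra A B]
    {q q' : Ideal B} [q.IsPrime] [q'.IsPrime] (h : q = q')
    (hu : Algebra.IsEtaleAt A q) : Algebra.IsEtaleAt A q' := by
  subst h
  exact hu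

/-- Étaleness at a prime of a localization of `B` is the same as at its contraction. -/
theorem isEtaleAt_comap_iff {A B B' : Type*} [CommRing A] [CommRing B] [CommRing B']
    [Algebra A B] [Algebra A B'] [Algebra B B'] [IsScalarTower A B B']
    (M : Submonoid B) [IsLocalization M B'] (Q' : Ideal B') [Q'.IsPrime] :
    Algebra.IsEtaleAt A (Q'.comap (algebraMap B B')) ↔ Algebra.IsEtaleAt A Q' := by
  haveI : IsLocalization.AtPrime (Localization.AtPrime Q') (Q'.comap (algebraMap B B')) :=
    IsLocalization.isLocalization_isLocalization_atPrime_isLocalization M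
      (Localization.AtPrime Q') Q'
  let e : Localization.AtPrime (Q'.comap (algebraMap B B')) ≃ₐ[B] Localization.AtPrime Q' :=
    IsLocalization.algEquiv (Q'.comap (algebraMap B B')).primeCompl _ _
  exact Algebra.FormallyEtale.iff_of_equiv (e.restrictScalars A)

theorem isEtaleAt_of_comap {A B A' B' : Type*} [CommRing A] [CommRing B] [CommRing A']
    [CommRing B'] [Algebra A B] [Algebra A A'] [Algebra A B'] [Algebra B B'] [Algebra A' B']
    [IsScalarTower A B B'] [IsScalarTower A A' B']
    (P : Submonoid A) [IsLocalization P A']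
    (M : Submonoid B) [IsLocalization M B'] (Q' : Ideal B') [Q'.IsPrime]
    (h : Algebra.IsEtaleAt A (Q'.comap (algebraMap B B'))) :
    Algebra.IsEtaleAt A' Q' := by
  haveI : Algebra.FormallyEtale A (Localization.AtPrime Q') :=
    (isEtaleAt_comap_iff M Q').mp h
  exact Algebra.FormallyEtale.localization_base P


/-- The local step for étaleness. -/
theorem local_step_et {A B A' B' : Type u} [CommRing A] [CommRing B] [CommRing A'] [CommRing B']
    [Algebra A B] [Algebra A A'] [Algebra A B'] [Algebra B B'] [Algebra A' B']
    [IsScalarTower A B B'] [IsScalarTower A A' B']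
    (p : Ideal A) [hp : p.IsPrime] [IsLocalization.AtPrime A' p]
    [IsLocalization (Algebra.algebraMapSubmonoid B p.primeCompl) B']
    [Module.Finite A' B'] [IsRegularLocalRing A'] (hdim : (2 : WithBot ℕ∞) ≤ ringKrullDim A')
    (het : ∀ Q : PrimeSpectrum B, Q.asIdeal.comap (algebraMap A B) < p →
      Algebra.IsEtaleAt A Q.asIdeal)
    (x y : A) (hx : x ∈ p) (hy : y ∈ p) (hpair : RegPair B x y)
    (q : Ideal B) [hq : q.IsPrime] (hqp : q.comap (algebraMap A B) = p) :
    Algebra.IsEtaleAt A q := by
  have hunder : (IsLocalRing.maximalIdeal A').comap (algebraMap A A') = p :=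
    IsLocalization.AtPrime.under_maximalIdeal A' p
  have hmax : p.map (algebraMap A A') = IsLocalRing.maximalIdeal A' := by
    have h1 := IsLocalization.map_under p.primeCompl A' (IsLocalRing.maximalIdeal A')
    have hunder' : (IsLocalRing.maximalIdeal A').under A = p := hunder
    rw [hunder'] at h1
    exact h1
  -- the regular pair localizes
  haveI : IsLocalizedModule p.primeCompl (IsScalarTower.toAlgHom A B B').toLinearMap :=
    isLocalizedModule_iff_isLocalization.mpr inferInstance
  have hw : IsWeaklyRegular B' [algebraMap A A' x, algebraMap A A' y] :=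
    (isWeaklyRegular_of_regPair hpair).of_isLocalizedModule A' p.primeCompl
      (IsScalarTower.toAlgHom A B B').toLinearMap
  have hpair' : RegPair B' (algebraMap A A' x) (algebraMap A A' y) :=
    regPair_of_isWeaklyRegular hw
  have hxm : algebraMap A A' x ∈ maximalIdeal A' :=
    (IsLocalization.AtPrime.to_map_mem_maximal_iff A' p x).mpr hx
  have hym : algebraMap A A' y ∈ maximalIdeal A' :=
    (IsLocalization.AtPrime.to_map_mem_maximal_iff A' p y).mpr hy
  obtain ⟨d, hd⟩ : ∃ d : ℕ, ringKrullDim A' = d :=
    ⟨(maximalIdeal A').spanFinrank, (IsRegularLocalRing.spanFinrank_maximalIdeal).symm⟩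
  have hd2 : 2 ≤ d := by
    rw [hd] at hdim
    exact_mod_cast hdim
  obtain ⟨n, rfl⟩ : ∃ n, d = n + 2 := ⟨d - 2, by omega⟩
  haveI : Algebra.FinitePresentation A' B' :=
    Algebra.FinitePresentation.of_finiteType.mp inferInstance
  haveI : Algebra.Etale A' B' := by
    refine purity_aux n A' hd B' _ hxm hpair'.1 (sat_of_regPair _ hym hpair') ?_
    intro t ht
    rw [← Algebra.basicOpen_subset_etaleLocus_iff_etale]
    intro Q' hQ'
    rw [Algebra.mem_etaleLocus_iff]
    apply isEtaleAt_of_comap (A := A) (B := B) p.primeCompl
      (Algebra.algebraMapSubmonoid B p.primeCompl)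
    refine het ⟨Q'.asIdeal.comap (algebraMap B B'), inferInstance⟩ ?_
    show (Q'.asIdeal.comap (algebraMap B B')).comap (algebraMap A B) < p
    have hcc : (Q'.asIdeal.comap (algebraMap B B')).comap (algebraMap A B) =
        (Q'.asIdeal.comap (algebraMap A' B')).comap (algebraMap A A') := by
      rw [Ideal.comap_comap, Ideal.comap_comap, ← IsScalarTower.algebraMap_eq,
        ← IsScalarTower.algebraMap_eq]
    rw [hcc]
    have hP'prime : (Q'.asIdeal.comap (algebraMap A' B')).IsPrime := inferInstance
    have hle : Q'.asIdeal.comap (algebraMap A' B') ≤ IsLocalRing.maximalIdeal A' :=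
      IsLocalRing.le_maximalIdeal hP'prime.ne_top
    have htP' : t ∉ Q'.asIdeal.comap (algebraMap A' B') := hQ'
    refine lt_of_le_of_ne ?_ ?_
    · calc (Q'.asIdeal.comap (algebraMap A' B')).comap (algebraMap A A')
          ≤ (IsLocalRing.maximalIdeal A').comap (algebraMap A A') := Ideal.comap_mono hle
        _ = p := hunder
    · intro heq
      apply htP'
      have h3 := IsLocalization.map_under p.primeCompl A'
        (Q'.asIdeal.comap (algebraMap A' B'))
      have heq' : (Q'.asIdeal.comap (algebraMap A' B')).under A = p := heq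
      rw [heq', hmax] at h3
      rw [← h3]
      exact ht
  haveI : Algebra.FormallyEtale A' B' := inferInstance
  haveI : Algebra.FormallyEtale A A' := Algebra.FormallyEtale.of_isLocalization p.primeCompl
  haveI hAB' : Algebra.FormallyEtale A B' := Algebra.FormallyEtale.comp A A' B'
  have hdisj : Disjoint (Algebra.algebraMapSubmonoid B p.primeCompl : Set B) (q : Set B) := by
    rw [Set.disjoint_left]
    rintro _ ⟨s, hs, rfl⟩ hsq
    have hs' : s ∉ p := hs
    apply hs'
    rw [← hqp]
    exact hsq
  have hQ'prime : (q.map (algebraMap B B')).IsPrime :=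
    IsLocalization.isPrime_of_isPrime_disjoint (Algebra.algebraMapSubmonoid B p.primeCompl) B' q
      hq hdisj
  have hcomap : (q.map (algebraMap B B')).comap (algebraMap B B') = q :=
    IsLocalization.under_map_of_isPrime_disjoint (Algebra.algebraMapSubmonoid B p.primeCompl) B'
      hq hdisj
  have h5 : Algebra.IsEtaleAt A (q.map (algebraMap B B')) := by
    show Algebra.FormallyEtale A (Localization.AtPrime (q.map (algebraMap B B')))
    infer_instance
  have h6 : Algebra.IsEtaleAt A ((q.map (algebraMap B B')).comap (algebraMap B B')) :=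
    (isEtaleAt_comap_iff (Algebra.algebraMapSubmonoid B p.primeCompl) _).mpr h5
  exact isEtaleAt_congr hcomap h6


attribute [local instance] Algebra.TensorProduct.rightAlgebra in
/-- Zariski–Nagata purity, global ring form: a finite algebra `B` over a Noetherian ring `A`,
étale over the complement of `V(I)`, of depth `≥ 2` along `V(I)`, such that the local rings of `A`
at the primes containing `I` are regular of dimension `≥ 2`, is étale. -/
theorem etale_of_regular_of_depth {A B : Type u} [CommRing A] [CommRing B] [Algebra A B]
    [IsNoetherianRing A] [Module.Finite A B] (I : Ideal A)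
    (hreg : ∀ (p : Ideal A) [hp : p.IsPrime], I ≤ p →
      ∃ (R : Type u) (_ : CommRing R) (_ : Algebra A R) (_ : IsLocalization.AtPrime R p),
        IsRegularLocalRing R ∧ (2 : WithBot ℕ∞) ≤ ringKrullDim R)
    (het : ∀ (q : Ideal B) [q.IsPrime], ¬ I ≤ q.comap (algebraMap A B) → Algebra.IsEtaleAt A q)
    (x y : A) (hx : x ∈ I) (hy : y ∈ I) (hpair : RegPair B x y) : Algebra.Etale A B := by
  haveI : Algebra.FinitePresentation A B :=
    Algebra.FinitePresentation.of_finiteType.mp inferInstance
  rw [← Algebra.etaleLocus_eq_univ_iff_etale]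
  have key : ∀ (n : ℕ) (q : Ideal B) [hq : q.IsPrime],
      (q.comap (algebraMap A B)).height = (n : ℕ∞) → Algebra.IsEtaleAt A q := by
    intro n
    induction n using Nat.strong_induction_on with
    | _ n ih =>
      intro q hq hn
      by_cases hmem : I ≤ q.comap (algebraMap A B)
      · obtain ⟨R, _, _, _, hR, hRdim⟩ := hreg (q.comap (algebraMap A B)) hmem
        haveI := hR
        refine local_step_et (A' := R) (B' := R ⊗[A] B) (q.comap (algebraMap A B)) hRdim ?_ x y
          (hmem hx) (hmem hy) hpair q rfl
        intro Q hQ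
        have h1 : (Q.asIdeal.comap (algebraMap A B)).height <
            (q.comap (algebraMap A B)).height :=
          Ideal.height_strict_mono_of_isPrime_of_isPrime hQ
        rw [hn] at h1
        obtain ⟨m, hm⟩ := ENat.ne_top_iff_exists.mp (ne_top_of_lt h1)
        rw [← hm] at h1
        exact ih m (by exact_mod_cast h1) Q.asIdeal hm.symm
      · exact het q hmem
  refine Set.eq_univ_of_forall fun q => ?_
  obtain ⟨n, hn⟩ := ENat.ne_top_iff_exists.mp
    (Ideal.height_ne_top_of_isPrime (I := q.asIdeal.comap (algebraMap A B)))
  exact key n q.asIdeal hn.symm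

end Groth.Agent.H6.ZN
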