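import Mathlib
import Groth.Agent.Lib.Helper6.ZN14
import Groth.Agent.Lib.Helper6.QFPur3
import Groth.Agent.Lib.Helper1.RegLoc
import Groth.Agent.Lib.Helper9.Misc.GDH

set_option autoImplicit false
universe u v
open IsLocalRing

set_option linter.unusedSectionVars false
set_option linter.unusedSimpArgs false
set_option linter.style.haveILetI false
namespace Groth.Agent.H6.QFNorm

open Groth.Agent.H9.PFD Groth.Agent.H6.QFPur Groth.Agent.H6.ZN

/-- transfer of étaleness from the localization at a prime of the base. -/
theorem isEtaleAt_of_local {A B A' B' : Type u} [CommRing A] [CommRing B] [CommRing A']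
    [CommRing B'] [Algebra A B] [Algebra A A'] [Algebra A B'] [Algebra B B'] [Algebra A' B']
    [IsScalarTower A B B'] [IsScalarTower A A' B']
    (p : Ideal A) [hp : p.IsPrime] [IsLocalization.AtPrime A' p]
    [IsLocalization (Algebra.algebraMapSubmonoid B p.primeCompl) B']
    [Algebra.FormallyEtale A' B']
    (q : Ideal B) [hq : q.IsPrime] (hqp : q.comap (algebraMap A B) ≤ p) :
    Algebra.IsEtaleAt A q := by
  haveI : Algebra.FormallyEtale A A' := Algebra.FormallyEtale.of_isLocalization p.primeCompl
  haveI hAB' : Algebra.FormallyEtale A B' := Algebra.FormallyEtale.comp A A' B'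
  have hdisj : Disjoint (Algebra.algebraMapSubmonoid B p.primeCompl : Set B) (q : Set B) := by
    rw [Set.disjoint_left]
    rintro _ ⟨s, hs, rfl⟩ hsq
    have hs' : s ∉ p := hs
    apply hs'
    exact hqp hsq
  have hQ'prime : (q.map (algebraMap B B')).IsPrime :=
    IsLocalization.isPrime_of_isPrime_disjoint (Algebra.algebraMapSubmonoid B p.primeCompl) B' q
      hq hdisj
  have hcomap : (q.map (algebraMap B B')).comap (algebraMap B B') = q :=
    IsLocalization.under_map_of_isPrime_disjoint (Algebra.algebraMapSubmonoid B p.primeCompl) B'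
      hq hdisj
  have h5 : Algebra.IsEtaleAt A (q.map (algebraMap B B')) := by
    show Algebra.FormallyEtale A (Localization.AtPrime (q.map (algebraMap B B')))
    infer_instance
  have h6 : Algebra.IsEtaleAt A ((q.map (algebraMap B B')).comap (algebraMap B B')) :=
    (isEtaleAt_comap_iff (Algebra.algebraMapSubmonoid B p.primeCompl) _).mpr h5
  exact isEtaleAt_congr hcomap h6

/-- the one-dimensional case. -/
theorem etale_dim_one (A B : Type u) [CommRing A] [IsRegularLocalRing A]
    (hA : ringKrullDim A = 1) [CommRing B] [IsDomain B] [Algebra A B] [Module.Finite A B]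
    (hinj : Function.Injective (algebraMap A B))
    (h : ∀ (Q : Ideal B) [Q.IsPrime], Q.height = 1 → Algebra.IsUnramifiedAt A Q) :
    Algebra.Etale A B := by
  haveI : IsDomain A := Groth.Agent.H7.Reg.isDomain A
  have h1 : Module.finrank (ResidueField A) (CotangentSpace A) = 1 := by
    have h2 := (IsRegularLocalRing.iff_finrank_cotangentSpace A).mp inferInstance
    rw [hA] at h2
    exact_mod_cast h2
  haveI : IsDiscreteValuationRing A := IsLocalRing.finrank_CotangentSpace_eq_one_iff.mp h1
  haveI : Module.IsTorsionFree A B := Module.isTorsionFree_iff_algebraMap_injective.mpr hinj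
  haveI : Module.Flat A B := inferInstance
  refine etale_of_unramified_height_one A B (by rw [hA]) (fun Q hQ => h Q.asIdeal hQ)

end Groth.Agent.H6.QFNorm
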