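import Mathlib
import Groth.Agent.Lib.Helper6.QFNorm1
import Groth.Agent.Lib.Helper6.ZN11

set_option autoImplicit false
universe u v
open IsLocalRing

set_option linter.unusedSectionVars false
set_option linter.unusedSimpArgs false
set_option linter.style.haveILetI false
namespace Groth.Agent.H6.QFNorm

open Groth.Agent.H9.PFD Groth.Agent.H6.QFPur Groth.Agent.H6.ZN

/-- the localization step: data at a prime `p` of `A`. -/
theorem local_data (A B : Type u) [CommRing A] [IsRegularLocalRing A]
    [CommRing B] [IsDomain B] [IsIntegrallyClosed B] [Algebra A B] [Module.Finite A B]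
    (hinj : Function.Injective (algebraMap A B))
    (h : ∀ (Q : Ideal B) [Q.IsPrime], Q.height = 1 → Algebra.IsUnramifiedAt A Q)
    (p : Ideal A) [hp : p.IsPrime] :
    IsRegularLocalRing (Localization.AtPrime p) ∧
    IsDomain (Localization (Algebra.algebraMapSubmonoid B p.primeCompl)) ∧
    IsIntegrallyClosed (Localization (Algebra.algebraMapSubmonoid B p.primeCompl)) ∧
    Module.Finite (Localization.AtPrime p)
      (Localization (Algebra.algebraMapSubmonoid B p.primeCompl)) ∧
    Function.Injective (algebraMap (Localization.AtPrime p)
      (Localization (Algebra.algebraMapSubmonoid B p.primeCompl))) ∧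
    (∀ (Q : Ideal (Localization (Algebra.algebraMapSubmonoid B p.primeCompl))) [Q.IsPrime],
      Q.height = 1 → Algebra.IsUnramifiedAt (Localization.AtPrime p) Q) := by
  haveI : IsDomain A := Groth.Agent.H7.Reg.isDomain A
  have hle : Algebra.algebraMapSubmonoid B p.primeCompl ≤ nonZeroDivisors B := by
    rintro _ ⟨a, ha, rfl⟩
    have ha0 : a ≠ 0 := fun h0 => ha (h0 ▸ p.zero_mem)
    have : algebraMap A B a ≠ 0 := fun h0 => ha0 (hinj (h0.trans (map_zero _).symm))
    exact mem_nonZeroDivisors_of_ne_zero this
  refine ⟨Groth.Agent.H1.Reg.isRegularLocalRing_localization A p,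
    IsLocalization.isDomain_localization hle,
    isIntegrallyClosed_of_isLocalization _ (Algebra.algebraMapSubmonoid B p.primeCompl) hle,
    Module.Finite.of_isLocalization A B p.primeCompl,
    localizationAlgebra_injective (Rₘ := Localization.AtPrime p) (Sₘ := Localization (Algebra.algebraMapSubmonoid B p.primeCompl)) hinj, ?_⟩
  intro Q hQp hQ
  set q' : Ideal B := Q.comap (algebraMap B _) with hq'
  haveI : q'.IsPrime := Ideal.comap_isPrime _ _
  have hht : q'.height = 1 := by
    rw [← hQ]
    exact IsLocalization.height_under (Algebra.algebraMapSubmonoid B p.primeCompl) Q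
  have hunr' : Algebra.FormallyUnramified A (Localization.AtPrime q') := h q' hht
  haveI : IsLocalization.AtPrime (Localization.AtPrime Q) q' :=
    IsLocalization.isLocalization_isLocalization_atPrime_isLocalization
      (Algebra.algebraMapSubmonoid B p.primeCompl) (Localization.AtPrime Q) Q
  have h3 : Algebra.FormallyUnramified A (Localization.AtPrime Q) :=
    unram_transfer q' (Localization.AtPrime q') (Localization.AtPrime Q) hunr'
  show Algebra.FormallyUnramified (Localization.AtPrime p) (Localization.AtPrime Q)
  exact Algebra.FormallyUnramified.of_restrictScalars (R := A) (A := Localization.AtPrime p)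
    (B := Localization.AtPrime Q)


theorem one_le_height_of_ne_bot {A : Type*} [CommRing A] [IsDomain A] (p : Ideal A) [p.IsPrime]
    (hp : p ≠ ⊥) : 1 ≤ p.height := by
  rw [Order.one_le_iff_pos, pos_iff_ne_zero, Ne, Ideal.height_eq_zero_iff,
    IsDomain.minimalPrimes_eq_singleton_bot]
  exact hp

theorem etale_of_normal_aux : ∀ (d : ℕ) (A B : Type u) [CommRing A] [IsRegularLocalRing A]
    [CommRing B] [IsDomain B] [IsIntegrallyClosed B] [Algebra A B] [Module.Finite A B],
    ringKrullDim A = d → 1 ≤ d → Function.Injective (algebraMap A B) →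
    (∀ (Q : Ideal B) [Q.IsPrime], Q.height = 1 → Algebra.IsUnramifiedAt A Q) →
    Algebra.Etale A B := by
  intro d
  induction d using Nat.strong_induction_on with
  | _ d ih =>
    intro A B _ _ _ _ _ _ _ hd hd1 hinj h
    by_cases hd2 : d = 1
    · subst hd2
      exact etale_dim_one A B (by rw [hd]; rfl) hinj h
    have hd2' : 2 ≤ d := by omega
    haveI : IsDomain A := Groth.Agent.H7.Reg.isDomain A
    haveI : IsIntegrallyClosed A := Groth.Agent.H1.Reg.isIntegrallyClosed A
    haveI : FaithfulSMul A B := (faithfulSMul_iff_algebraMap_injective A B).mpr hinj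
    have hA2 : (2 : WithBot ℕ∞) ≤ ringKrullDim A := by rw [hd]; exact_mod_cast hd2'
    haveI : IsNoetherianRing B := Algebra.FiniteType.isNoetherianRing A B
    have hmh : (maximalIdeal A).height = d := by
      have h1 := IsLocalRing.maximalIdeal_height_eq_ringKrullDim (R := A)
      rw [hd] at h1
      exact_mod_cast h1
    -- the case of primes with nonzero contraction
    have key : ∀ (q : Ideal B) [q.IsPrime], q.comap (algebraMap A B) ≠ maximalIdeal A →
        q.comap (algebraMap A B) ≠ ⊥ → Algebra.IsEtaleAt A q := by
      intro q hq hqm hq0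
      set p := q.comap (algebraMap A B) with hp
      haveI hpp : p.IsPrime := Ideal.comap_isPrime _ _
      obtain ⟨hreg, hdom, hic, hfin, hinj', hunr'⟩ := local_data A B hinj h p
      have hpm : p < maximalIdeal A :=
        lt_of_le_of_ne (le_maximalIdeal hpp.ne_top) hqm
      have hht : p.height < (maximalIdeal A).height :=
        Ideal.height_strict_mono_of_isPrime_of_isPrime hpm
      obtain ⟨d₁, hd₁⟩ := ENat.ne_top_iff_exists.mp (Ideal.height_ne_top_of_isPrime (I := p))
      have hd₁lt : d₁ < d := by
        rw [hmh, ← hd₁] at hht
        exact_mod_cast hht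
      have hd₁pos : 1 ≤ d₁ := by
        have h1 := one_le_height_of_ne_bot p hq0
        rw [← hd₁] at h1
        exact_mod_cast h1
      have hdimp : ringKrullDim (Localization.AtPrime p) = d₁ := by
        rw [IsLocalization.AtPrime.ringKrullDim_eq_height p, ← hd₁]
        rfl
      haveI := ih d₁ hd₁lt (Localization.AtPrime p)
        (Localization (Algebra.algebraMapSubmonoid B p.primeCompl)) hdimp hd₁pos hinj' hunr'
      exact isEtaleAt_of_local (A' := Localization.AtPrime p)
        (B' := Localization (Algebra.algebraMapSubmonoid B p.primeCompl)) p q le_rfl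
    apply s0248 A B hA2 hinj
    intro q hq hqm
    by_cases hq0 : q.comap (algebraMap A B) = ⊥
    · have hqbot : q = ⊥ := Ideal.eq_bot_of_comap_eq_bot hq0
      -- a height one prime of `B`
      obtain ⟨Qm, hQmp, hQm⟩ := Ideal.exists_ideal_over_maximal_of_isIntegral (S := B)
        (maximalIdeal A) (by
          rw [(RingHom.injective_iff_ker_eq_bot _).mp hinj]
          exact bot_le)
      haveI := hQmp.isPrime
      have hQmh : (d : ℕ∞) ≤ Qm.height := by
        have h1 := Groth.Agent.H9.GDH.height_under_le_height (R := A) Qm
        have h2 : Qm.under A = maximalIdeal A := hQm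
        rw [h2, hmh] at h1
        exact h1
      obtain ⟨m, hm⟩ := ENat.ne_top_iff_exists.mp (Ideal.height_ne_top_of_isPrime (I := Qm))
      obtain ⟨Q, hQp, hQle, -, hQh⟩ := exists_height_one_le (0 : B) m Qm Qm.zero_mem
        (le_trans (by exact_mod_cast hd1) hQmh) hm.symm
      haveI := hQp
      have hQu : (Q.under A).height = 1 := by
        have h1 := Groth.Agent.H9.GDH.height_le_height_under (R := A) Q
        have h2 := Groth.Agent.H9.GDH.height_under_le_height (R := A) Q
        rw [hQh] at h1 h2
        exact le_antisymm h2 h1
      have hQet : Algebra.IsEtaleAt A Q := by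
        apply key Q
        · intro heq
          have heq' : Q.under A = maximalIdeal A := heq
          rw [heq', hmh] at hQu
          have : d = 1 := by exact_mod_cast hQu
          exact hd2 this
        · intro heq
          have heq' : Q.under A = ⊥ := heq
          rw [heq'] at hQu
          simp at hQu
      haveI : Algebra.FinitePresentation A B :=
        Algebra.FinitePresentation.of_finiteType.mp inferInstance
      have hopen := Algebra.isOpen_etaleLocus (R := A) (A := B)
      have hspec : (⟨q, hq⟩ : PrimeSpectrum B) ⤳ ⟨Q, hQp⟩ := by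
        rw [← PrimeSpectrum.le_iff_specializes]
        show q ≤ Q
        rw [hqbot]
        exact bot_le
      exact hspec.mem_open hopen hQet
    · exact key q hqm hq0

/-- **Theorem E**: a finite normal domain over a regular local ring of positive dimension,
unramified in codimension one, is étale. -/
theorem etale_of_normal (A B : Type u) [CommRing A] [IsRegularLocalRing A]
    (hA : (1 : WithBot ℕ∞) ≤ ringKrullDim A)
    [CommRing B] [IsDomain B] [IsIntegrallyClosed B] [Algebra A B] [Module.Finite A B]
    (hinj : Function.Injective (algebraMap A B))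
    (h : ∀ (Q : Ideal B) [Q.IsPrime], Q.height = 1 → Algebra.IsUnramifiedAt A Q) :
    Algebra.Etale A B := by
  obtain ⟨d, hd⟩ : ∃ d : ℕ, ringKrullDim A = d :=
    ⟨(maximalIdeal A).spanFinrank, (IsRegularLocalRing.spanFinrank_maximalIdeal).symm⟩
  refine etale_of_normal_aux d A B hd ?_ hinj h
  rw [hd] at hA
  exact_mod_cast hA

end Groth.Agent.H6.QFNorm
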