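import Mathlib
import Groth.Agent.Lib.Helper6.QFNorm2
import Groth.Agent.Lib.Helper7.ND1

set_option autoImplicit false
universe u v
open IsLocalRing

set_option linter.unusedSectionVars false
set_option linter.unusedSimpArgs false
set_option linter.style.haveILetI false
namespace Groth.Agent.H6.QFNorm

open Groth.Agent.H9.PFD Groth.Agent.H6.QFPur Groth.Agent.H6.ZN

/-- if `PT` is the only prime of the integral `A`-algebra `T` over `P`, then `T_P = T_{PT}`. -/
theorem isLocalization_atPrime_of_unique (A T : Type*) [CommRing A] [CommRing T] [Algebra A T]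
    [Algebra.IsIntegral A T] (P : Ideal A) [P.IsPrime] (PT : Ideal T) [PT.IsPrime]
    (hPT : PT.comap (algebraMap A T) = P)
    (huniq : ∀ (Q : Ideal T) [Q.IsPrime], Q.comap (algebraMap A T) = P → Q = PT)
    (B' : Type*) [CommRing B'] [Algebra T B']
    [IsLocalization (Algebra.algebraMapSubmonoid T P.primeCompl) B'] :
    IsLocalization.AtPrime B' PT := by
  refine IsLocalization.of_le (Algebra.algebraMapSubmonoid T P.primeCompl) PT.primeCompl ?_ ?_
  · rintro _ ⟨a, ha, rfl⟩ hmem
    apply ha
    rw [← hPT]
    exact hmem
  · intro t ht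
    by_contra hnu
    rw [IsLocalization.algebraMap_isUnit_iff (Algebra.algebraMapSubmonoid T P.primeCompl)] at hnu
    have hle : (Ideal.span {t}).comap (algebraMap A T) ≤ P := by
      intro a ha
      by_contra haP
      apply hnu
      refine ⟨algebraMap A T a, ⟨a, haP, rfl⟩, ?_⟩
      exact Ideal.mem_span_singleton.mp ha
    obtain ⟨Q, hQge, hQp, hQP⟩ := Ideal.exists_ideal_over_prime_of_isIntegral P _ hle
    haveI := hQp
    have hQ := huniq Q hQP
    apply ht
    rw [← hQ]
    exact hQge (Ideal.mem_span_singleton_self t)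

set_option maxHeartbeats 1600000 in
/-- **Theorem F**. -/
theorem isEtaleAt_of_unique_prime (A T : Type u) [CommRing A] [CommRing T] [Algebra A T]
    [IsNoetherianRing A] [Module.Finite A T] (P : Ideal A) [hPp : P.IsPrime] (PT : Ideal T)
    [hPTp : PT.IsPrime]
    (hPT : PT.comap (algebraMap A T) = P)
    (huniq : ∀ (Q : Ideal T) [Q.IsPrime], Q.comap (algebraMap A T) = P → Q = PT)
    [hreg : IsRegularLocalRing (Localization.AtPrime P)]
    (hP1 : 1 ≤ P.height) (hht : PT.height = P.height)
    [hdom : IsDomain (Localization.AtPrime PT)] [hic : IsIntegrallyClosed (Localization.AtPrime PT)]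
    (hlow : ∀ (Q : Ideal T) [Q.IsPrime], Q ≤ PT → Q.height = 1 → Algebra.IsUnramifiedAt A Q) :
    Algebra.IsEtaleAt A PT := by
  haveI : Algebra.IsIntegral A T := inferInstance
  haveI : IsNoetherianRing T := Algebra.FiniteType.isNoetherianRing A T
  set A' := Localization.AtPrime P with hA'
  set B' := Localization (Algebra.algebraMapSubmonoid T P.primeCompl) with hB'
  haveI hloc : IsLocalization.AtPrime B' PT :=
    isLocalization_atPrime_of_unique A T P PT hPT huniq B'
  let e : B' ≃ₐ[T] Localization.AtPrime PT := IsLocalization.algEquiv PT.primeCompl B' _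
  haveI : IsDomain B' := e.toRingEquiv.toMulEquiv.isDomain (Localization.AtPrime PT)
  haveI : IsIntegrallyClosed B' := IsIntegrallyClosed.of_equiv e.symm.toRingEquiv
  haveI : Module.Finite A' B' := Module.Finite.of_isLocalization A T P.primeCompl
  haveI : IsDomain A' := Groth.Agent.H7.Reg.isDomain A'
  have hdimA : ringKrullDim A' = P.height := IsLocalization.AtPrime.ringKrullDim_eq_height P A'
  have hdimB : ringKrullDim B' = PT.height := IsLocalization.AtPrime.ringKrullDim_eq_height PT B'
  have hA1 : (1 : WithBot ℕ∞) ≤ ringKrullDim A' := by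
    rw [hdimA]
    exact_mod_cast hP1
  -- injectivity
  have hinj : Function.Injective (algebraMap A' B') := by
    rw [injective_iff_map_eq_zero]
    intro a ha
    by_contra ha0
    set K := RingHom.ker (algebraMap A' B') with hK
    letI alg : Algebra (A' ⧸ K) B' :=
      (Ideal.Quotient.lift K (algebraMap A' B') (fun x hx => hx)).toAlgebra
    have hinj' : Function.Injective (algebraMap (A' ⧸ K) B') :=
      RingHom.lift_injective_of_ker_le_ideal K _ le_rfl
    haveI : Algebra.IsIntegral (A' ⧸ K) B' := by
      refine ⟨fun b => ?_⟩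
      obtain ⟨p, hmonic, hp⟩ := Algebra.IsIntegral.isIntegral (R := A') b
      refine ⟨p.map (Ideal.Quotient.mk K), hmonic.map _, ?_⟩
      rw [Polynomial.eval₂_map]
      exact hp
    have h1 := Groth.Agent.H7.ND.dim_eq_of_integral_injective (A' ⧸ K) B' hinj'
    have h2 := ringKrullDim_succ_le_of_surjective (Ideal.Quotient.mk K) Ideal.Quotient.mk_surjective
      (mem_nonZeroDivisors_of_ne_zero ha0) (Ideal.Quotient.eq_zero_iff_mem.mpr ha)
    rw [← h1, hdimA, hdimB, hht] at h2
    obtain ⟨m, hm⟩ := ENat.ne_top_iff_exists.mp (Ideal.height_ne_top_of_isPrime (I := P))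
    rw [← hm] at h2
    have h3 : ((m + 1 : ℕ) : WithBot ℕ∞) ≤ (m : ℕ) := by
      exact_mod_cast h2
    have h4 : m + 1 ≤ m := by exact_mod_cast h3
    omega
  -- unramified in codimension one
  have hunr : ∀ (Q : Ideal B') [Q.IsPrime], Q.height = 1 → Algebra.IsUnramifiedAt A' Q := by
    intro Q hQp hQ
    set q' : Ideal T := Q.comap (algebraMap T B') with hq'
    haveI : q'.IsPrime := Ideal.comap_isPrime _ _
    have hq'h : q'.height = 1 := by
      rw [← hQ]
      exact IsLocalization.height_under (Algebra.algebraMapSubmonoid T P.primeCompl) Q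
    have hq'le : q' ≤ PT := by
      haveI : IsLocalRing B' := IsLocalization.AtPrime.isLocalRing B' PT
      have h1 : Q ≤ maximalIdeal B' := le_maximalIdeal hQp.ne_top
      have h2 := Ideal.comap_mono (f := algebraMap T B') h1
      have h3 : (maximalIdeal B').under T = PT := IsLocalization.AtPrime.under_maximalIdeal B' PT
      rw [← h3]
      exact h2
    have hunr' : Algebra.FormallyUnramified A (Localization.AtPrime q') := hlow q' hq'le hq'h
    haveI : IsLocalization.AtPrime (Localization.AtPrime Q) q' :=
      IsLocalization.isLocalization_isLocalization_atPrime_isLocalization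
        (Algebra.algebraMapSubmonoid T P.primeCompl) (Localization.AtPrime Q) Q
    have h3 : Algebra.FormallyUnramified A (Localization.AtPrime Q) :=
      unram_transfer q' (Localization.AtPrime q') (Localization.AtPrime Q) hunr'
    show Algebra.FormallyUnramified A' (Localization.AtPrime Q)
    exact Algebra.FormallyUnramified.of_restrictScalars (R := A) (A := A')
      (B := Localization.AtPrime Q)
  haveI : Algebra.Etale A' B' := etale_of_normal A' B' hA1 hinj hunr
  exact isEtaleAt_of_local (A' := A') (B' := B') P PT hPT.le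

end Groth.Agent.H6.QFNorm
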