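import Mathlib
import Groth.Agent.Lib.Helper3.AlgSpMor.EtaleDim

set_option autoImplicit false
universe u v
open IsLocalRing AlgebraicGeometry CategoryTheory

set_option linter.unusedSectionVars false
set_option linter.unusedSimpArgs false
set_option linter.style.haveILetI false
namespace Groth.Agent.H6.QFPur

theorem ringKrullDim_stalk_Spec (B : Type u) [CommRing B] (x : Spec (CommRingCat.of B)) :
    ringKrullDim ((Spec (CommRingCat.of B)).presheaf.stalk x) = x.asIdeal.height := by
  letI : Algebra B ((Spec (CommRingCat.of B)).presheaf.stalk x) := StructureSheaf.stalkAlgebra B x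
  haveI : IsLocalization.AtPrime ((Spec (CommRingCat.of B)).presheaf.stalk x) x.asIdeal :=
    StructureSheaf.IsLocalization.to_stalk B x
  exact IsLocalization.AtPrime.ringKrullDim_eq_height x.asIdeal _

/-- étale ring maps preserve the height of primes. -/
theorem height_comap_of_etale (S S' : Type u) [CommRing S] [CommRing S'] [Algebra S S']
    [Algebra.Etale S S'] (Q : Ideal S') [hQ : Q.IsPrime] :
    (Q.comap (algebraMap S S')).height = Q.height := by
  let g : Spec (CommRingCat.of S') ⟶ Spec (CommRingCat.of S) :=
    Spec.map (CommRingCat.ofHom (algebraMap S S'))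
  haveI : Etale g := by
    rw [HasRingHomProperty.Spec_iff (P := @Etale)]
    change (algebraMap S S').Etale
    rw [RingHom.etale_algebraMap]
    infer_instance
  let z : Spec (CommRingCat.of S') := ⟨Q, hQ⟩
  have h1 := Groth.Agent.H3.EtaleDim.ringKrullDim_stalk_eq_of_etale g z
  rw [ringKrullDim_stalk_Spec, ringKrullDim_stalk_Spec] at h1
  have h2 : (g z).asIdeal = Q.comap (algebraMap S S') := rfl
  rw [h2] at h1
  exact (WithBot.coe_injective h1).symm

end Groth.Agent.H6.QFPur
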