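import Mathlib
import Groth.Agent.Lib.Helper6.QFPur3
import Groth.Agent.Lib.Helper6.QFPur4
import Groth.Agent.Lib.Helper5.DF.DF9

set_option autoImplicit false
universe u v
open IsLocalRing TensorProduct

set_option linter.unusedSectionVars false
set_option linter.unusedSimpArgs false
set_option linter.style.haveILetI false
namespace Groth.Agent.H6.QFPur

open Groth.Agent.H9.PFD

attribute [local instance] Algebra.TensorProduct.rightAlgebra

theorem etale_right (R R' S : Type u) [CommRing R] [CommRing R'] [CommRing S] [Algebra R R']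
    [Algebra R S] [Algebra.Etale R R'] : Algebra.Etale S (R' ⊗[R] S) :=
  Algebra.Etale.of_equiv (Algebra.TensorProduct.commRight R S R')

set_option maxHeartbeats 1600000 in
theorem isUnramifiedAt_of_height_one (R S : Type u) [CommRing R] [CommRing S] [Algebra R S]
    [IsNoetherianRing R] [Algebra.FiniteType R S] [Module.Flat R S] (q : Ideal S) [hq : q.IsPrime]
    [Algebra.QuasiFiniteAt R q] (h1 : 1 ≤ q.height)
    (hunr : ∀ (q₁ : Ideal S) [q₁.IsPrime], q₁ ≤ q → q₁.height = 1 →
      Algebra.IsUnramifiedAt R q₁) :
    Algebra.IsUnramifiedAt R q := by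
  obtain ⟨R', _, _, hEt, P, hPp, hPl, e, he, P', hP'p, hP'l, hP'q, heP', -, hfin, huniq⟩ :=
    Algebra.exists_etale_isIdempotentElem_forall_liesOver_eq (q.under R) q
  haveI : IsNoetherianRing R' := Algebra.FiniteType.isNoetherianRing R R'
  haveI hEtS : Algebra.Etale S (R' ⊗[R] S) := etale_right R R' S
  haveI : Module.Flat R' (R' ⊗[R] S) := inferInstance
  haveI : Module.Flat (R' ⊗[R] S) (Localization.Away e) := IsLocalization.flat _ (Submonoid.powers e)
  haveI : Module.Flat R' (Localization.Away e) := Module.Flat.trans R' (R' ⊗[R] S) _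
  have hdisj : Disjoint (Submonoid.powers e : Set (R' ⊗[R] S)) (P' : Set (R' ⊗[R] S)) := by
    rw [Ideal.disjoint_powers_iff_notMem_of_isPrime]
    exact heP'
  set PT : Ideal (Localization.Away e) := P'.map (algebraMap (R' ⊗[R] S) (Localization.Away e))
    with hPT
  haveI hPTp : PT.IsPrime :=
    IsLocalization.isPrime_of_isPrime_disjoint (Submonoid.powers e) _ P' hP'p hdisj
  have hPTc : PT.comap (algebraMap (R' ⊗[R] S) (Localization.Away e)) = P' :=
    IsLocalization.under_map_of_isPrime_disjoint (Submonoid.powers e) _ hP'p hdisj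
  have hPTP : PT.comap (algebraMap R' (Localization.Away e)) = P := by
    rw [IsScalarTower.algebraMap_eq R' (R' ⊗[R] S) (Localization.Away e), ← Ideal.comap_comap,
      hPTc]
    exact (hP'l.over).symm
  have hqP' : P'.comap (algebraMap S (R' ⊗[R] S)) = q := hP'q
  -- heights
  have hht1 : P'.height = q.height := by
    rw [← hqP']
    exact (height_comap_of_etale S (R' ⊗[R] S) P').symm
  have hht2 : PT.height = P'.height := by
    rw [← hPTc]
    exact (IsLocalization.height_under (Submonoid.powers e) PT).symm
  have hht3 : P.height = PT.height := by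
    haveI : Algebra.IsIntegral R' (Localization.Away e) := inferInstance
    have h1 := Groth.Agent.H9.GDH.height_le_height_under (R := R') PT
    have h2 := Groth.Agent.H9.GDH.height_under_le_height (R := R') PT
    have h3 : PT.under R' = P := hPTP
    rw [h3] at h1 h2
    exact le_antisymm h2 h1
  have hP1 : 1 ≤ P.height := by rw [hht3, hht2, hht1]; exact h1
  -- the hypothesis at primes of height one
  have hlow : ∀ (QT : Ideal (Localization.Away e)) [QT.IsPrime],
      QT.comap (algebraMap R' (Localization.Away e)) ≤ P → QT.height = 1 →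
      Algebra.FormallyUnramified R' (Localization.AtPrime QT) := by
    intro QT hQTp hQTle hQTh
    set Q : Ideal (R' ⊗[R] S) := QT.comap (algebraMap (R' ⊗[R] S) (Localization.Away e)) with hQ
    haveI hQp : Q.IsPrime := Ideal.comap_isPrime _ _
    have hQh : Q.height = 1 := by
      rw [← hQTh]
      exact IsLocalization.height_under (Submonoid.powers e) QT
    set q₁ : Ideal S := Q.comap (algebraMap S (R' ⊗[R] S)) with hq₁
    haveI hq₁p : q₁.IsPrime := Ideal.comap_isPrime _ _
    have hq₁h : q₁.height = 1 := by
      rw [← hQh]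
      exact height_comap_of_etale S (R' ⊗[R] S) Q
    -- going up
    haveI : Algebra.IsIntegral R' (Localization.Away e) := inferInstance
    obtain ⟨QT', hQT'ge, hQT'p, hQT'P⟩ :=
      Ideal.exists_ideal_over_prime_of_isIntegral_of_isPrime P QT hQTle
    haveI := hQT'p
    set Q' : Ideal (R' ⊗[R] S) := QT'.comap (algebraMap (R' ⊗[R] S) (Localization.Away e))
      with hQ'
    haveI hQ'p : Q'.IsPrime := Ideal.comap_isPrime _ _
    have hQ'l : Q'.LiesOver P := by
      constructor
      rw [Ideal.under, hQ', Ideal.comap_comap,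
        ← IsScalarTower.algebraMap_eq R' (R' ⊗[R] S) (Localization.Away e)]
      exact hQT'P.symm
    have heQ' : e ∉ Q' := by
      intro hmem
      have hu : IsUnit (algebraMap (R' ⊗[R] S) (Localization.Away e) e) :=
        IsLocalization.Away.algebraMap_isUnit e
      exact hQT'p.ne_top (Ideal.eq_top_of_isUnit_mem _ hmem hu)
    have hQ'eq : Q' = P' := huniq Q' hQ'p hQ'l heQ'
    have hQle : Q ≤ P' := by
      rw [← hQ'eq]
      exact Ideal.comap_mono hQT'ge
    have hq₁le : q₁ ≤ q := by
      rw [← hqP']
      exact Ideal.comap_mono hQle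
    have hun1 : Algebra.IsUnramifiedAt R q₁ := hunr q₁ hq₁le hq₁h
    have hun2 : (⟨Q, hQp⟩ : PrimeSpectrum (R' ⊗[R] S)) ∈
        Algebra.unramifiedLocus R' (R' ⊗[R] S) := by
      rw [H5.DF.mem_unramifiedLocus_isPushout_iff R S R' (R' ⊗[R] S)]
      exact hun1
    have hun3 : Algebra.FormallyUnramified R' (Localization.AtPrime Q) := hun2
    haveI : IsLocalization.AtPrime (Localization.AtPrime QT) Q :=
      IsLocalization.isLocalization_isLocalization_atPrime_isLocalization
        (Submonoid.powers e) (Localization.AtPrime QT) QT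
    exact unram_transfer Q (Localization.AtPrime Q) (Localization.AtPrime QT) hun3
  have hmain : Algebra.FormallyUnramified R' (Localization.AtPrime PT) :=
    unramified_of_height_one R' (Localization.Away e) P hP1 hlow PT hPTP
  haveI hloc' : IsLocalization.AtPrime (Localization.AtPrime PT)
      (PT.comap (algebraMap (R' ⊗[R] S) (Localization.Away e))) :=
    IsLocalization.isLocalization_isLocalization_atPrime_isLocalization
      (Submonoid.powers e) (Localization.AtPrime PT) PT
  haveI hloc'' : IsLocalization.AtPrime (Localization.AtPrime PT) P' := by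
    have := hloc'
    simp only [hPTc] at this
    exact this
  have hun4 : Algebra.FormallyUnramified R' (Localization.AtPrime P') :=
    unram_transfer P' (Localization.AtPrime PT) (Localization.AtPrime P') hmain
  have hun5 : (⟨P', hP'p⟩ : PrimeSpectrum (R' ⊗[R] S)) ∈
      Algebra.unramifiedLocus R' (R' ⊗[R] S) := hun4
  rw [H5.DF.mem_unramifiedLocus_isPushout_iff R S R' (R' ⊗[R] S)] at hun5
  have hun6 : PrimeSpectrum.comap (algebraMap S (R' ⊗[R] S)) ⟨P', hP'p⟩ = ⟨q, hq⟩ :=
    PrimeSpectrum.ext hqP'
  rw [hun6] at hun5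
  exact hun5

end Groth.Agent.H6.QFPur
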