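import Mathlib
import Groth.Agent.Lib.Helper6.QFNorm3
import Groth.Agent.Lib.Helper6.QFPur5
import Groth.Agent.Lib.Helper5.DF.DF4
import Groth.Agent.Lib.Helper5.SM.SM1
import Groth.Agent.Lib.Helper1.EtStalk

set_option autoImplicit false
universe u v
open IsLocalRing TensorProduct

set_option linter.unusedSectionVars false
set_option linter.unusedSimpArgs false
set_option linter.style.haveILetI false
namespace Groth.Agent.H6.QFNorm

open Groth.Agent.H9.PFD Groth.Agent.H6.QFPur Groth.Agent.H6.ZN

attribute [local instance] Algebra.TensorProduct.rightAlgebra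

theorem regular_of_etale (R R' : Type u) [CommRing R] [CommRing R'] [Algebra R R']
    [IsNoetherianRing R] [Algebra.Etale R R'] (p : Ideal R) [p.IsPrime] (P : Ideal R')
    [P.IsPrime] [P.LiesOver p] [IsRegularLocalRing (Localization.AtPrime p)] :
    IsRegularLocalRing (Localization.AtPrime P) := by
  haveI : IsNoetherianRing R' := Algebra.FiniteType.isNoetherianRing R R'
  letI := Localization.AtPrime.algebraOfLiesOver p P
  haveI : IsScalarTower R (Localization.AtPrime p) (Localization.AtPrime P) :=
    inferInstance
  haveI : Algebra.FormallyEtale R' (Localization.AtPrime P) :=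
    Algebra.FormallyEtale.of_isLocalization P.primeCompl
  haveI : Algebra.FormallyEtale R (Localization.AtPrime P) :=
    Algebra.FormallyEtale.comp R R' (Localization.AtPrime P)
  haveI : Algebra.FormallyEtale (Localization.AtPrime p) (Localization.AtPrime P) :=
    Algebra.FormallyEtale.localization_base p.primeCompl
  haveI : IsLocalHom (algebraMap (Localization.AtPrime p) (Localization.AtPrime P)) :=
    Localization.isLocalHom_localRingHom _ _ _ _
  haveI : IsNoetherianRing (Localization.AtPrime P) :=
    IsLocalization.isNoetherianRing P.primeCompl _ inferInstance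
  haveI : IsNoetherianRing (Localization.AtPrime p) :=
    IsLocalization.isNoetherianRing p.primeCompl _ inferInstance
  haveI : Algebra.FormallySmooth (Localization.AtPrime p) (Localization.AtPrime P) :=
    (Algebra.FormallyEtale.iff_formallyUnramified_and_formallySmooth.1 inferInstance).2
  have h := H5.SM.isRegularLocalRing_iff (Localization.AtPrime p) (Localization.AtPrime P)
  exact h.mpr ‹_›

set_option maxHeartbeats 3200000 in
/-- **Theorem R**: ring form of S0255. -/
theorem isEtaleAt_of_normal (R S : Type u) [CommRing R] [CommRing S] [Algebra R S]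
    [IsNoetherianRing R] [Algebra.FiniteType R S] (q : Ideal S) [hq : q.IsPrime]
    [Algebra.QuasiFiniteAt R q]
    [hreg : IsRegularLocalRing (Localization.AtPrime (q.under R))]
    [hdom : IsDomain (Localization.AtPrime q)] [hic : IsIntegrallyClosed (Localization.AtPrime q)]
    (h1 : 1 ≤ q.height) (hdim : q.height = (q.under R).height)
    (hunr : ∀ (q₁ : Ideal S) [q₁.IsPrime], q₁ ≤ q → q₁.height = 1 →
      Algebra.IsUnramifiedAt R q₁) :
    Algebra.IsEtaleAt R q := by
  obtain ⟨R', _, _, hEt, P, hPp, hPl, e, he, P', hP'p, hP'l, hP'q, heP', -, hfin, huniq⟩ :=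
    Algebra.exists_etale_isIdempotentElem_forall_liesOver_eq (q.under R) q
  haveI : IsNoetherianRing R' := Algebra.FiniteType.isNoetherianRing R R'
  haveI : IsNoetherianRing S := Algebra.FiniteType.isNoetherianRing R S
  haveI : Algebra.FinitePresentation R S := Algebra.FinitePresentation.of_finiteType.mp inferInstance
  haveI hEtS : Algebra.Etale S (R' ⊗[R] S) := etale_right R R' S
  have hdisj : Disjoint (Submonoid.powers e : Set (R' ⊗[R] S)) (P' : Set (R' ⊗[R] S)) := by
    rw [Ideal.disjoint_powers_iff_notMem_of_isPrime]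
    exact heP'
  set PT : Ideal (Localization.Away e) := P'.map (algebraMap (R' ⊗[R] S) (Localization.Away e))
    with hPT
  haveI hPTp : PT.IsPrime :=
    IsLocalization.isPrime_of_isPrime_disjoint (Submonoid.powers e) _ P' hP'p hdisj
  have hPTc : PT.comap (algebraMap (R' ⊗[R] S) (Localization.Away e)) = P' :=
    IsLocalization.under_map_of_isPrime_disjoint (Submonoid.powers e) _ hP'p hdisj
  have hPTP : PT.comap (algebraMap R' (Localization.Away e)) = P := by
    rw [IsScalarTower.algebraMap_eq R' (R' ⊗[R] S) (Localization.Away e), ← Ideal.comap_comap,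
      hPTc]
    exact (hP'l.over).symm
  have hqP' : P'.comap (algebraMap S (R' ⊗[R] S)) = q := hP'q
  -- heights
  have hht1 : P'.height = q.height := by
    rw [← hqP']
    exact (height_comap_of_etale S (R' ⊗[R] S) P').symm
  have hht2 : PT.height = P'.height := by
    rw [← hPTc]
    exact (IsLocalization.height_under (Submonoid.powers e) PT).symm
  have hht3 : P.height = PT.height := by
    have h4 : (P.comap (algebraMap R R')).height = P.height := height_comap_of_etale R R' P
    have h5 : P.comap (algebraMap R R') = q.under R := (hPl.over).symm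
    rw [h5] at h4
    rw [← h4, ← hdim, ← hht1, hht2]
  have hP1 : 1 ≤ P.height := by rw [hht3, hht2, hht1]; exact h1
  -- regularity of `R'_P`
  haveI hregP : IsRegularLocalRing (Localization.AtPrime P) :=
    regular_of_etale R R' (q.under R) P
  -- normality of `T_{PT}`
  haveI hloc' : IsLocalization.AtPrime (Localization.AtPrime PT)
      (PT.comap (algebraMap (R' ⊗[R] S) (Localization.Away e))) :=
    IsLocalization.isLocalization_isLocalization_atPrime_isLocalization
      (Submonoid.powers e) (Localization.AtPrime PT) PT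
  haveI hloc'' : IsLocalization.AtPrime (Localization.AtPrime PT) P' := by
    have := hloc'
    simp only [hPTc] at this
    exact this
  obtain ⟨hdomT, hicT⟩ := Groth.Agent.H1.EtStalk.normal_atPrime_of_etale (A := S)
    (B := R' ⊗[R] S) P' q hqP'.symm (Localization.AtPrime q) (Localization.AtPrime PT)
  -- uniqueness of `PT`
  have huniqT : ∀ (Q : Ideal (Localization.Away e)) [Q.IsPrime],
      Q.comap (algebraMap R' (Localization.Away e)) = P → Q = PT := by
    intro Q hQp hQP
    set Q' : Ideal (R' ⊗[R] S) := Q.comap (algebraMap (R' ⊗[R] S) (Localization.Away e))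
      with hQ'
    haveI hQ'p : Q'.IsPrime := Ideal.comap_isPrime _ _
    have hQ'l : Q'.LiesOver P := by
      constructor
      rw [Ideal.under, hQ', Ideal.comap_comap,
        ← IsScalarTower.algebraMap_eq R' (R' ⊗[R] S) (Localization.Away e)]
      exact hQP.symm
    have heQ' : e ∉ Q' := by
      intro hmem
      have hu : IsUnit (algebraMap (R' ⊗[R] S) (Localization.Away e) e) :=
        IsLocalization.Away.algebraMap_isUnit e
      exact hQp.ne_top (Ideal.eq_top_of_isUnit_mem _ hmem hu)
    have hQ'eq : Q' = P' := huniq Q' hQ'p hQ'l heQ'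
    have h2 := IsLocalization.map_under (Submonoid.powers e) (Localization.Away e) Q
    rw [← h2]
    show Q'.map _ = PT
    rw [hQ'eq]
  -- the hypothesis at primes of height one
  have hlow : ∀ (QT : Ideal (Localization.Away e)) [QT.IsPrime], QT ≤ PT → QT.height = 1 →
      Algebra.IsUnramifiedAt R' QT := by
    intro QT hQTp hQTle hQTh
    set Q : Ideal (R' ⊗[R] S) := QT.comap (algebraMap (R' ⊗[R] S) (Localization.Away e)) with hQ
    haveI hQp : Q.IsPrime := Ideal.comap_isPrime _ _
    have hQh : Q.height = 1 := by
      rw [← hQTh]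
      exact IsLocalization.height_under (Submonoid.powers e) QT
    set q₁ : Ideal S := Q.comap (algebraMap S (R' ⊗[R] S)) with hq₁
    haveI hq₁p : q₁.IsPrime := Ideal.comap_isPrime _ _
    have hq₁h : q₁.height = 1 := by
      rw [← hQh]
      exact height_comap_of_etale S (R' ⊗[R] S) Q
    have hQle : Q ≤ P' := by
      rw [← hPTc]
      exact Ideal.comap_mono hQTle
    have hq₁le : q₁ ≤ q := by
      rw [← hqP']
      exact Ideal.comap_mono hQle
    have hun1 : Algebra.IsUnramifiedAt R q₁ := hunr q₁ hq₁le hq₁h
    have hun2 : (⟨Q, hQp⟩ : PrimeSpectrum (R' ⊗[R] S)) ∈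
        Algebra.unramifiedLocus R' (R' ⊗[R] S) := by
      rw [H5.DF.mem_unramifiedLocus_isPushout_iff R S R' (R' ⊗[R] S)]
      exact hun1
    have hun3 : Algebra.FormallyUnramified R' (Localization.AtPrime Q) := hun2
    haveI : IsLocalization.AtPrime (Localization.AtPrime QT) Q :=
      IsLocalization.isLocalization_isLocalization_atPrime_isLocalization
        (Submonoid.powers e) (Localization.AtPrime QT) QT
    exact unram_transfer Q (Localization.AtPrime Q) (Localization.AtPrime QT) hun3
  have hmain : Algebra.IsEtaleAt R' PT :=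
    isEtaleAt_of_unique_prime R' (Localization.Away e) P PT hPTP huniqT hP1
      (by rw [← hht3]) hlow
  -- transfer to `P'`
  have het4 : Algebra.FormallyEtale R' (Localization.AtPrime P') := by
    let e₁ : Localization.AtPrime PT ≃ₐ[R' ⊗[R] S] Localization.AtPrime P' :=
      IsLocalization.algEquiv P'.primeCompl _ _
    have hm : Algebra.FormallyEtale R' (Localization.AtPrime PT) := hmain
    exact Algebra.FormallyEtale.of_equiv (e₁.restrictScalars R')
  have het5 : (⟨P', hP'p⟩ : PrimeSpectrum (R' ⊗[R] S)) ∈
      Algebra.etaleLocus R' (R' ⊗[R] S) := het4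
  rw [Algebra.etaleLocus_eq_unramfiedLocus_inter_smoothLocus] at het5
  have hun6 : PrimeSpectrum.comap (algebraMap S (R' ⊗[R] S)) ⟨P', hP'p⟩ = ⟨q, hq⟩ :=
    PrimeSpectrum.ext hqP'
  have h7 := H5.DF.mem_unramifiedLocus_of_isPushout_flat R S R' (R' ⊗[R] S) _ het5.1
  have h8 := H5.DF.mem_smoothLocus_of_isPushout_flat R S R' (R' ⊗[R] S) _ het5.2
  rw [hun6] at h7 h8
  have h9 : (⟨q, hq⟩ : PrimeSpectrum S) ∈ Algebra.etaleLocus R S := by
    rw [Algebra.etaleLocus_eq_unramfiedLocus_inter_smoothLocus]
    exact ⟨h7, h8⟩
  exact h9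

end Groth.Agent.H6.QFNorm
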