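import Mathlib
import Groth.Agent.Lib.Helper6.QFPur5
import Groth.Agent.Lib.Helper9.Misc.PFD3
import Groth.Agent.Lib.Helper6.FibSm
import Groth.Agent.Lib.Helper6.FlatHartogs

set_option autoImplicit false
universe u v
open IsLocalRing AlgebraicGeometry CategoryTheory

set_option linter.unusedSectionVars false
set_option linter.unusedSimpArgs false
set_option linter.style.haveILetI false
namespace Groth.Agent.H6.QFPur

theorem primeIdealOf_fromSpec {X : Scheme.{u}} {V : X.Opens} (hV : IsAffineOpen V)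
    (p : PrimeSpectrum Γ(X, V)) (hp : hV.fromSpec p ∈ V) :
    hV.primeIdealOf ⟨hV.fromSpec p, hp⟩ = p := by
  apply hV.fromSpec.isOpenEmbedding.injective
  exact hV.fromSpec_primeIdealOf ⟨hV.fromSpec p, hp⟩

theorem s0257 {X Y : Scheme.{u}} (f : X ⟶ Y) [LocallyOfFiniteType f] [Flat f]
    [IsLocallyNoetherian X] [IsLocallyNoetherian Y] (x : X) (hq : f.QuasiFiniteAt x)
    (hdim1 : (1 : WithBot ℕ∞) ≤ ringKrullDim (X.presheaf.stalk x))
    (hunr : ∀ x' : X, x' ⤳ x → ringKrullDim (X.presheaf.stalk x') = 1 →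
      (f.stalkMap x').hom.FormallyUnramified) :
    ∃ U : X.Opens, x ∈ U ∧ Etale (U.ι ≫ f) := by
  haveI : LocallyOfFinitePresentation f := Groth.Agent.H9.PFD.lofp f
  rw [Groth.Agent.H6.FibSm.exists_etale_nhd_iff]
  refine ⟨Flat.stalkMap f x, ?_⟩
  obtain ⟨_, ⟨U, hU, rfl⟩, hxU, -⟩ :=
    Y.isBasis_affineOpens.exists_subset_of_mem_open (Set.mem_univ (f x)) isOpen_univ
  obtain ⟨_, ⟨V, hV, rfl⟩, hxV, hVU⟩ :=
    X.isBasis_affineOpens.exists_subset_of_mem_open hxU (U.2.preimage f.continuous)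
  rw [H5.AL.formallyUnramified_stalkMap_iff U hU V hV hVU hxV]
  letI alg : Algebra Γ(Y, U) Γ(X, V) := (f.appLE U V hVU).hom.toAlgebra
  haveI : IsNoetherianRing Γ(Y, U) := IsLocallyNoetherian.component_noetherian ⟨U, hU⟩
  haveI : Algebra.FiniteType Γ(Y, U) Γ(X, V) := f.finiteType_appLE hU hV hVU
  haveI : Module.Flat Γ(Y, U) Γ(X, V) := f.flat_appLE hU hV hVU
  set q : PrimeSpectrum Γ(X, V) := hV.primeIdealOf ⟨x, hxV⟩ with hqdef
  haveI : Algebra.QuasiFiniteAt Γ(Y, U) q.asIdeal := hq.quasiFiniteAt hV hU hVU hxV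
  have hxq : hV.fromSpec q = x := hV.fromSpec_primeIdealOf ⟨x, hxV⟩
  have hh : (1 : ℕ∞) ≤ q.asIdeal.height := by
    have h1 := (FlatHartogs.ringKrullDim_stalk_fromSpec hV q).2
    rw [hxq] at h1
    rw [h1] at hdim1
    exact_mod_cast hdim1
  change Algebra.IsUnramifiedAt Γ(Y, U) q.asIdeal
  apply isUnramifiedAt_of_height_one Γ(Y, U) Γ(X, V) q.asIdeal hh
  intro q₁ hq₁p hq₁le hq₁h
  obtain ⟨hmem, hd⟩ := FlatHartogs.ringKrullDim_stalk_fromSpec hV ⟨q₁, hq₁p⟩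
  have hspec : hV.fromSpec ⟨q₁, hq₁p⟩ ⤳ x := by
    rw [← hxq]
    apply Specializes.map _ hV.fromSpec.continuous
    exact (PrimeSpectrum.le_iff_specializes (⟨q₁, hq₁p⟩ : PrimeSpectrum Γ(X, V)) q).mp hq₁le
  have h2 := hunr (hV.fromSpec ⟨q₁, hq₁p⟩) hspec (by rw [hd, hq₁h]; rfl)
  rw [H5.AL.formallyUnramified_stalkMap_iff U hU V hV hVU hmem, primeIdealOf_fromSpec] at h2
  exact h2

end Groth.Agent.H6.QFPur
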