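import Mathlib
import Groth.Agent.Lib.Helper6.QFNorm4
import Groth.Agent.Lib.Helper6.QFPur6
import Groth.Agent.Lib.Helper5.AL.AL9

set_option autoImplicit false
universe u v
open IsLocalRing AlgebraicGeometry CategoryTheory

set_option linter.unusedSectionVars false
set_option linter.unusedSimpArgs false
set_option linter.style.haveILetI false
namespace Groth.Agent.H6.QFNorm

open Groth.Agent.H6.QFPur

set_option maxHeartbeats 1600000 in
theorem s0255 {X Y : Scheme.{u}} (f : X ⟶ Y) [LocallyOfFiniteType f] [IsLocallyNoetherian X]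
    [IsLocallyNoetherian Y] (x : X)
    (hx : IsDomain (X.presheaf.stalk x) ∧ IsIntegrallyClosed (X.presheaf.stalk x))
    (hy : IsRegularLocalRing (Y.presheaf.stalk (f.base x)))
    (hq : f.QuasiFiniteAt x)
    (hdim : ringKrullDim (X.presheaf.stalk x) = ringKrullDim (Y.presheaf.stalk (f.base x)))
    (hdim1 : (1 : WithBot ℕ∞) ≤ ringKrullDim (X.presheaf.stalk x))
    (hunr : ∀ x' : X, x' ⤳ x → ringKrullDim (X.presheaf.stalk x') = 1 →
      (f.stalkMap x').hom.FormallyUnramified) :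
    ∃ U : X.Opens, x ∈ U ∧ Etale (U.ι ≫ f) := by
  rw [H5.AL.exists_etale_nhd_iff]
  obtain ⟨_, ⟨U, hU, rfl⟩, hxU, -⟩ :=
    Y.isBasis_affineOpens.exists_subset_of_mem_open (Set.mem_univ (f x)) isOpen_univ
  obtain ⟨_, ⟨V, hV, rfl⟩, hxV, hVU⟩ :=
    X.isBasis_affineOpens.exists_subset_of_mem_open hxU (U.2.preimage f.continuous)
  rw [formallySmooth_stalkMap_iff U hU V hV hVU hxV,
    H5.AL.formallyUnramified_stalkMap_iff U hU V hV hVU hxV]
  letI alg : Algebra Γ(Y, U) Γ(X, V) := (f.appLE U V hVU).hom.toAlgebra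
  haveI : IsNoetherianRing Γ(Y, U) := IsLocallyNoetherian.component_noetherian ⟨U, hU⟩
  haveI : Algebra.FiniteType Γ(Y, U) Γ(X, V) := f.finiteType_appLE hU hV hVU
  set q : PrimeSpectrum Γ(X, V) := hV.primeIdealOf ⟨x, hxV⟩ with hqdef
  set p : PrimeSpectrum Γ(Y, U) := hU.primeIdealOf ⟨f x, hVU hxV⟩ with hpdef
  haveI : Algebra.QuasiFiniteAt Γ(Y, U) q.asIdeal := hq.quasiFiniteAt hV hU hVU hxV
  have hxq : hV.fromSpec q = x := hV.fromSpec_primeIdealOf ⟨x, hxV⟩
  have hyp : hU.fromSpec p = f x := hU.fromSpec_primeIdealOf ⟨f x, hVU hxV⟩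
  have hunder : q.asIdeal.under Γ(Y, U) = p.asIdeal :=
    congr($(IsAffineOpen.comap_primeIdealOf_appLE U hU V hV hVU hxV).1)
  -- heights
  have hqh : ringKrullDim (X.presheaf.stalk x) = q.asIdeal.height := by
    have h1 := (FlatHartogs.ringKrullDim_stalk_fromSpec hV q).2
    rw [hxq] at h1
    exact h1
  have hph : ringKrullDim (Y.presheaf.stalk (f x)) = p.asIdeal.height := by
    have h1 := (FlatHartogs.ringKrullDim_stalk_fromSpec hU p).2
    rw [hyp] at h1
    exact h1
  have hh : (1 : ℕ∞) ≤ q.asIdeal.height := by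
    rw [hqh] at hdim1
    exact_mod_cast hdim1
  have hdim' : q.asIdeal.height = (q.asIdeal.under Γ(Y, U)).height := by
    rw [hunder]
    have h2 : ringKrullDim (Y.presheaf.stalk (f x)) = p.asIdeal.height := hph
    have h3 : ringKrullDim (X.presheaf.stalk x) = ringKrullDim (Y.presheaf.stalk (f x)) := hdim
    rw [hqh, h2] at h3
    exact_mod_cast h3
  -- the local rings
  letI ax : Algebra Γ(X, V) (X.presheaf.stalk x) :=
    TopCat.Presheaf.algebra_section_stalk X.presheaf ⟨x, hxV⟩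
  haveI hlx : IsLocalization.AtPrime (X.presheaf.stalk x) q.asIdeal :=
    hV.isLocalization_stalk ⟨x, hxV⟩
  letI ay : Algebra Γ(Y, U) (Y.presheaf.stalk (f x)) :=
    TopCat.Presheaf.algebra_section_stalk Y.presheaf ⟨f x, hVU hxV⟩
  haveI hly : IsLocalization.AtPrime (Y.presheaf.stalk (f x)) p.asIdeal :=
    hU.isLocalization_stalk ⟨f x, hVU hxV⟩
  haveI hregp : IsRegularLocalRing (Localization.AtPrime p.asIdeal) :=
    @IsRegularLocalRing.of_ringEquiv _ _ hy _ _
      (IsLocalization.algEquiv p.asIdeal.primeCompl (Y.presheaf.stalk (f x))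
        (Localization.AtPrime p.asIdeal)).toRingEquiv
  haveI hregp' : IsRegularLocalRing (Localization.AtPrime (q.asIdeal.under Γ(Y, U))) := by
    have : ∀ (p' : Ideal Γ(Y, U)) [p'.IsPrime], p' = p.asIdeal →
        IsRegularLocalRing (Localization.AtPrime p') := by
      intro p' _ hp'
      subst hp'
      exact hregp
    exact this _ hunder
  let eq : X.presheaf.stalk x ≃ₐ[Γ(X, V)] Localization.AtPrime q.asIdeal :=
    IsLocalization.algEquiv q.asIdeal.primeCompl (X.presheaf.stalk x)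
      (Localization.AtPrime q.asIdeal)
  haveI := hx.1
  haveI := hx.2
  haveI : IsDomain (Localization.AtPrime q.asIdeal) :=
    eq.symm.toRingEquiv.toMulEquiv.isDomain (X.presheaf.stalk x)
  haveI : IsIntegrallyClosed (Localization.AtPrime q.asIdeal) :=
    IsIntegrallyClosed.of_equiv eq.toRingEquiv
  have hmain : Algebra.IsEtaleAt Γ(Y, U) q.asIdeal := by
    apply isEtaleAt_of_normal Γ(Y, U) Γ(X, V) q.asIdeal hh hdim'
    intro q₁ hq₁p hq₁le hq₁h
    obtain ⟨hmem, hd⟩ := FlatHartogs.ringKrullDim_stalk_fromSpec hV ⟨q₁, hq₁p⟩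
    have hspec : hV.fromSpec ⟨q₁, hq₁p⟩ ⤳ x := by
      rw [← hxq]
      apply Specializes.map _ hV.fromSpec.continuous
      exact (PrimeSpectrum.le_iff_specializes (⟨q₁, hq₁p⟩ : PrimeSpectrum Γ(X, V)) q).mp hq₁le
    have h2 := hunr (hV.fromSpec ⟨q₁, hq₁p⟩) hspec (by rw [hd, hq₁h]; rfl)
    rw [H5.AL.formallyUnramified_stalkMap_iff U hU V hV hVU hmem, primeIdealOf_fromSpec] at h2
    exact h2
  have h3 := Algebra.FormallyEtale.iff_formallyUnramified_and_formallySmooth.1 hmain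
  exact ⟨h3.2, h3.1⟩

end Groth.Agent.H6.QFNorm
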