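import Groth.Agent.Lib.Helper6.MDw8
import Groth.Agent.Lib.Helper6.DLim13

/-! # Surjectivity of `beta : Hom(j_{U!}O_U[0], L) → H⁰(L)(U)` -/

universe w u
open CategoryTheory Limits Opposite Pretriangulated

namespace Groth.Agent.H6.QcCons

open Groth.Agent.H6.MD Groth.Agent.H6.MDw Groth.Agent.H6.DLim
open Groth.Agent.LD.SC Groth.Agent.LD.HDSh DerivedCategory Groth.Agent.H2.DTrunc

variable {C : Type u} [SmallCategory C] {J : GrothendieckTopology C} {O : Sheaf J CommRingCat.{u}}
  [HasDerivedCategory.{w} (ModSite.Mod O)]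

/-- the canonical isomorphism `A ≅ H⁰(A[0])`. -/
noncomputable def iA (A : ModSite.Mod O) : A ⟶ H0.obj (Q.obj (S₀ A)) :=
  (HomologicalComplex.singleObjHomologySelfIso (ComplexShape.up ℤ) 0 A).inv ≫ ffInv _

instance (A : ModSite.Mod O) : IsIso (iA A) := by
  unfold iA
  haveI : IsIso (ffInv (S₀ A)) := ⟨ffHom _, ffInv_ffHom _, ffHom_ffInv _⟩
  infer_instance

lemma iA_naturality (U : C) {A : ModSite.Mod O} (ψ : FO O U ⟶ A) :
    ψ ≫ iA A = MDw.i0 U ≫ MDw.H0.map (Q.map ((HomologicalComplex.single _ (ComplexShape.up ℤ) 0).map ψ)) := by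
  rw [MDw.i0, iA, Category.assoc, MDw.ffInv_naturality,
    ← HomologicalComplex.singleObjHomologySelfIso_inv_naturality_assoc]

lemma section_hom_inv {F G : ModSite.Mod O} (e : F ≅ G) (W : C)
    (z : ((τ O).obj G).obj.obj (op W)) :
    ((τ O).map e.hom).hom.app (op W) (((τ O).map e.inv).hom.app (op W) z) = z :=
  congrArg (fun g : G ⟶ G => ((τ O).map g).hom.app (op W) z) e.inv_hom_id

theorem beta_surjective_single (A : ModSite.Mod O) (U : C) :
    Function.Surjective (MDw.beta (Q.obj (S₀ A)) U) := by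
  intro σ
  let θ : FO O U ⟶ H0.obj (Q.obj (S₀ A)) := (hE U _).symm σ
  let ψ : FO O U ⟶ A := θ ≫ inv (iA A)
  refine ⟨Q.map ((HomologicalComplex.single _ (ComplexShape.up ℤ) 0).map ψ), ?_⟩
  rw [MDw.beta, ← iA_naturality]
  have : ψ ≫ iA A = θ := by
    simp only [ψ, Category.assoc, IsIso.inv_hom_id, Category.comp_id]
  rw [this]
  exact (hE U _).apply_symm_apply σ

theorem beta_surjective_of_iso {L L' : DerivedCategory (ModSite.Mod O)} (e : L ≅ L') (U : C)
    (h : Function.Surjective (MDw.beta L' U)) : Function.Surjective (MDw.beta L U) := by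
  intro σ
  obtain ⟨φ', hφ'⟩ := h (((τ O).map (H0.map e.hom)).hom.app (op U) σ)
  refine ⟨φ' ≫ e.inv, ?_⟩
  rw [MDw.beta_comp, hφ']
  exact section_hom_inv (H0.mapIso e).symm U σ

/-- surjectivity of `beta` transfers along a map inducing an isomorphism on `H⁰`. -/
theorem beta_surjective_of_isIso_H0 {L L' : DerivedCategory (ModSite.Mod O)} (f : L ⟶ L')
    [IsIso (H0.map f)] (U : C)
    (h : Function.Surjective (MDw.beta L U)) : Function.Surjective (MDw.beta L' U) := by
  intro σ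
  obtain ⟨φ, hφ⟩ := h (((τ O).map (inv (H0.map f))).hom.app (op U) σ)
  refine ⟨φ ≫ f, ?_⟩
  rw [MDw.beta_comp, hφ]
  exact section_hom_inv (asIso (H0.map f)) U σ

theorem beta_surjective_truncGE (E : DerivedCategory (ModSite.Mod O)) (q : ℤ) (U : C) :
    Function.Surjective (MDw.beta (((tt.truncGE q).obj E)⟦q⟧) U) := by
  obtain ⟨F, f, δ, hT, ⟨e⟩⟩ := exists_fiber_iso_single E q (q + 1) rfl
  let SF := DerivedCategory.singleFunctors (ModSite.Mod O)
  let iso : F⟦q⟧ ≅ (singleFunctor (ModSite.Mod O) 0).obj ((homologyFunctor _ q).obj E) :=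
    (shiftFunctor _ q).mapIso e ≪≫ (SF.shiftIso q 0 q (add_zero q)).app _
  have h1 : Function.Surjective (MDw.beta (F⟦q⟧) U) :=
    beta_surjective_of_iso iso U (beta_surjective_single _ U)
  set T := Triangle.mk f ((tt.natTransTruncGEOfLE q (q + 1) (by omega)).app E) δ with hTdef
  have z3 : ∀ j, j < q + 1 → IsZero ((homologyFunctor (ModSite.Mod O) j).obj T.obj₃) :=
    fun j hj => isZero_of_isGE ((tt.truncGE (q + 1)).obj E) (q + 1) j hj
  haveI : Mono ((homologyFunctor (ModSite.Mod O) q).map T.mor₁) :=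
    (HomologySequence.mono_homologyMap_mor₁_iff T hT (q - 1) q (by omega)).2
      ((z3 (q - 1) (by omega)).eq_of_src _ _)
  haveI : Epi ((homologyFunctor (ModSite.Mod O) q).map T.mor₁) :=
    (HomologySequence.epi_homologyMap_mor₁_iff T hT q).2 ((z3 q (by omega)).eq_of_tgt _ _)
  haveI : IsIso ((homologyFunctor (ModSite.Mod O) q).map f) :=
    isIso_of_mono_of_epi ((homologyFunctor (ModSite.Mod O) q).map T.mor₁)
  haveI : IsIso (H0.map (f⟦q⟧')) := (isIso_H0_shift_iff f q).2 inferInstance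
  exact beta_surjective_of_isIso_H0 (f⟦q⟧') U h1

end Groth.Agent.H6.QcCons
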