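import Groth.Agent.Lib.Helper6.QcCons1
import Groth.Agent.Lib.Helper6.MDw5

/-! # Surjectivity of `beta` for unbounded complexes which are derived limits of their
truncations and whose cohomology sheaves are acyclic over `U` -/

universe w u
open CategoryTheory Limits Opposite Pretriangulated

namespace Groth.Agent.H6.QcCons

open Groth.Agent.H6.MD Groth.Agent.H6.MDw Groth.Agent.H6.DLim
open Groth.Agent.LD.SC Groth.Agent.LD.HDSh DerivedCategory Groth.Agent.H2.DTrunc

variable {C : Type u} [SmallCategory C] {J : GrothendieckTopology C} {O : Sheaf J CommRingCat.{u}}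
  [HasDerivedCategory.{w} (ModSite.Mod O)]

theorem surjective_comp_truncGEπ (E : DerivedCategory (ModSite.Mod O))
    [HasProduct (CohCx.truncTower E)]
    (hL : CohCx.IsRlimVia (CohCx.truncTower E) (CohCx.truncTowerMap E) E (CohCx.toTruncTower E))
    (U : C)
    (hvan : ∀ (q : ℤ) (k : ℕ), 0 < k →
      Subsingleton (ModSite.HU O ((homologyFunctor (ModSite.Mod O) q).obj E) k U))
    (m : ℤ) :
    Function.Surjective (fun y : MDw.DZ O U ⟶ E⟦m⟧ => y ≫ ((tt.truncGEπ m).app E)⟦m⟧') := by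
  have hvU : ∀ (m' : ℤ) (k : ℕ), (fun _ : ℤ => (0 : ℤ)) m' < k → Subsingleton
      (ModSite.HU O ((homologyFunctor (ModSite.Mod O) (m' - k)).obj E) k U) :=
    fun m' k hk => hvan _ k (by
      have hk' : (0 : ℤ) < k := hk
      exact_mod_cast hk')
  obtain ⟨n₀, hn₀⟩ : ∃ n₀ : ℕ, 1 - m ≤ n₀ := ⟨(1 - m).toNat, Int.self_le_toNat _⟩
  have hb1 := bijective_comp_a hL (MDw.DZ O U) m n₀
    (fun n hn => (MDw.bijective_truncTower_step E U (fun _ => 0) hvU (m - 1) n
      (by have : (n₀ : ℤ) ≤ n := by exact_mod_cast hn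
          omega)
      (by have : (n₀ : ℤ) ≤ n := by exact_mod_cast hn
          omega)).2)
    (fun n hn => MDw.bijective_truncTower_step E U (fun _ => 0) hvU m n
      (by have : (n₀ : ℤ) ≤ n := by exact_mod_cast hn
          omega)
      (by have : (n₀ : ℤ) ≤ n := by exact_mod_cast hn
          omega))
  have key : ∀ (d : ℕ) (a : ℤ), a = -(n₀ : ℤ) + d → a ≤ m →
      Function.Surjective (fun y : MDw.DZ O U ⟶ E⟦m⟧ => y ≫ ((tt.truncGEπ a).app E)⟦m⟧') := by
    intro d
    induction d with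
    | zero =>
      intro a ha _
      have : a = -(n₀ : ℤ) := by simpa using ha
      subst this
      exact hb1.2
    | succ d ih =>
      intro a ha ham
      have hs := ih (a - 1) (by push_cast at ha; omega) (by omega)
      have hb := MDw.bijective_truncGE_step E (a - 1) a (by omega) (by omega) U m
        (fun k hk => hvan _ k (by omega)) (fun k hk => hvan _ k (by omega))
      intro w
      obtain ⟨w', hw'⟩ := hb.2 w
      obtain ⟨y, hy⟩ := hs w'
      refine ⟨y, ?_⟩
      have h1 : (tt.truncGEπ (a - 1)).app E ≫ (tt.natTransTruncGEOfLE (a - 1) a (by omega)).app E =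
          (tt.truncGEπ a).app E := tt.π_natTransTruncGEOfLE_app _ _ _ E
      change y ≫ ((tt.truncGEπ a).app E)⟦m⟧' = w
      rw [← h1, Functor.map_comp, ← Category.assoc]
      have hy' : y ≫ ((tt.truncGEπ (a - 1)).app E)⟦m⟧' = w' := hy
      rw [hy']
      exact hw'
  obtain ⟨d, hd⟩ : ∃ d : ℕ, m = -(n₀ : ℤ) + d := ⟨(m + n₀).toNat, by
    have := Int.toNat_of_nonneg (show 0 ≤ m + n₀ by omega)
    omega⟩
  exact key d m hd le_rfl

theorem beta_surjective_of_isRlimVia (E : DerivedCategory (ModSite.Mod O))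
    [HasProduct (CohCx.truncTower E)]
    (hL : CohCx.IsRlimVia (CohCx.truncTower E) (CohCx.truncTowerMap E) E (CohCx.toTruncTower E))
    (U : C)
    (hvan : ∀ (q : ℤ) (k : ℕ), 0 < k →
      Subsingleton (ModSite.HU O ((homologyFunctor (ModSite.Mod O) q).obj E) k U))
    (m : ℤ) :
    Function.Surjective (MDw.beta (E⟦m⟧) U) := by
  intro σ
  haveI : IsIso ((homologyFunctor (ModSite.Mod O) m).map ((tt.truncGEπ m).app E)) :=
    isIso_homology_truncGEπ E m m le_rfl
  haveI : IsIso (MDw.H0.map (((tt.truncGEπ m).app E)⟦m⟧')) :=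
    (isIso_H0_shift_iff _ m).2 inferInstance
  obtain ⟨w₁, hw₁⟩ := beta_surjective_truncGE E m U
    (((τ O).map (MDw.H0.map (((tt.truncGEπ m).app E)⟦m⟧'))).hom.app (op U) σ)
  obtain ⟨y, hy⟩ := surjective_comp_truncGEπ E hL U hvan m w₁
  have hy' : y ≫ ((tt.truncGEπ m).app E)⟦m⟧' = w₁ := hy
  refine ⟨y, ?_⟩
  apply MDw.modHom_injective_of_isIso (MDw.H0.map (((tt.truncGEπ m).app E)⟦m⟧')) U
  have h2 := MDw.beta_comp U y (((tt.truncGEπ m).app E)⟦m⟧')
  rw [hy', hw₁] at h2
  exact h2.symm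

end Groth.Agent.H6.QcCons
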