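import Groth.Agent.Lib.Helper6.QcCons2
import Groth.Agent.Lib.Helper6.KI2
import Groth.Agent.Lib.Helper6.RFTri9
import Groth.Agent.Lib.Helper6.RpRes1
import Groth.Agent.Lib.Helper6.MDw9
import Groth.Agent.Lib.Lead.QC.BiprodSec
import Groth.Agent.Lib.Lead.QC.Iso

/-! # Classes `j_!O_{f⁻¹V}[0] ⟶ I` have vanishing `beta` when `f_*I` is exact in degree zero -/

universe u
open CategoryTheory Limits Opposite Pretriangulated AlgebraicGeometry TopologicalSpace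

namespace Groth.Agent.H6.QcCons

open DerivedCategory Groth.Agent.H6.KI Groth.Agent.H6.MD Groth.Agent.H6.MVTri
open Groth.Agent.LD.HDSh

attribute [local instance] HasDerivedCategory.standard

/-- `j_{U!}O_U` as an `O_X`-module. -/
noncomputable abbrev FOX (X : Scheme.{u}) (U : X.Opens) : X.Modules :=
  FO (J := Opens.grothendieckTopology X) X.sheaf U

theorem beta_eq_zero_of_exactAt {X S : Scheme.{u}} (f : X ⟶ S)
    (I : CochainComplex X.Modules ℤ) [I.IsKInjective]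
    (hex : (((Scheme.Modules.pushforward f).mapHomologicalComplex (ComplexShape.up ℤ)).obj
      I).ExactAt 0)
    (V : S.Opens) (y : Q.obj (S₀ (FOX X (f ⁻¹ᵁ V))) ⟶ Q.obj I) :
    MDw.beta (O := X.sheaf) (Q.obj I) (f ⁻¹ᵁ V) y = 0 := by
  obtain ⟨ψ, rfl⟩ := exists_Q_map_eq_of_isKInjective (A := X.Modules) _ I y
  obtain ⟨ζ, hζdef⟩ : ∃ ζ : FOX X (f ⁻¹ᵁ V) ⟶ I.X 0,
      ζ = (HomologicalComplex.singleObjXSelf (ComplexShape.up ℤ) 0 _).inv ≫ ψ.f 0 := ⟨_, rfl⟩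
  have hζ : ζ ≫ I.d 0 1 = 0 := by
    rw [hζdef]
    exact comp_d_eq_zero_of_hom (𝒞 := X.Modules) ψ
  have hψ : fromMap (𝒞 := X.Modules) ζ hζ = ψ := by
    subst hζdef
    exact fromMap_eq_self (𝒞 := X.Modules) ψ hζ
  obtain ⟨t, htdef⟩ : ∃ t : Γ(I.X 0, f ⁻¹ᵁ V), t = hE (O := X.sheaf) (f ⁻¹ᵁ V) (I.X 0) ζ :=
    ⟨_, rfl⟩
  have ht : (I.d 0 1).app (f ⁻¹ᵁ V) t = 0 := by
    have h1 := hE_comp (O := X.sheaf) (f ⁻¹ᵁ V) ζ (I.d 0 1)
    have h1' : hE (O := X.sheaf) (f ⁻¹ᵁ V) (I.X 1) (ζ ≫ I.d 0 1) = 0 :=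
      (congrArg (hE (O := X.sheaf) (f ⁻¹ᵁ V) (I.X 1)) hζ).trans (hE_zero (O := X.sheaf) _ _)
    rw [htdef]
    exact h1.symm.trans h1'
  rw [HomologicalComplex.exactAt_iff' _ (-1) 0 1 (by simp) (by simp)] at hex
  apply Groth.Agent.LD.QC.section_eq_zero_of_germ (X := X)
  intro x hx
  obtain ⟨W, hWV, hxW, s, hs⟩ := Groth.Agent.LD.QC.local_of_exact hex V t ht (f.base x) hx
  let g : f ⁻¹ᵁ W ⟶ f ⁻¹ᵁ V := homOfLE (f.preimage_mono hWV)
  obtain ⟨η, hηdef⟩ : ∃ η : FOX X (f ⁻¹ᵁ W) ⟶ I.X (-1),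
      η = (hE (O := X.sheaf) (f ⁻¹ᵁ W) (I.X (-1))).symm s := ⟨_, rfl⟩
  have h2 : FOmap (O := X.sheaf) g ≫ ζ = η ≫ I.d (-1) 0 := by
    apply (hE (O := X.sheaf) (f ⁻¹ᵁ W) (I.X 0)).injective
    have e1 := hE_map (O := X.sheaf) g ζ
    have e2 := hE_comp (O := X.sheaf) (f ⁻¹ᵁ W) η (I.d (-1) 0)
    have e3 : hE (O := X.sheaf) (f ⁻¹ᵁ W) (I.X (-1)) η = s := by
      rw [hηdef]
      exact Equiv.apply_symm_apply _ _
    rw [e3] at e2
    rw [← htdef] at e1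
    exact e1.trans (hs.symm.trans e2.symm)
  have h3 : MDw.DZmap (O := X.sheaf) g ≫ Q.map ψ = 0 := by
    have h31 : (HomologicalComplex.single X.Modules (ComplexShape.up ℤ) 0).map
        (FOmap (O := X.sheaf) g) ≫ ψ =
        fromMap (𝒞 := X.Modules) (η ≫ I.d (-1) 0)
          (by rw [Category.assoc, I.d_comp_d, comp_zero]) := by
      rw [← hψ, single_map_comp_fromMap (𝒞 := X.Modules) (FOmap (O := X.sheaf) g) ζ hζ
        (by rw [Category.assoc, hζ, comp_zero])]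
      exact fromMap_congr (𝒞 := X.Modules) h2 _ _
    have h32 : MDw.DZmap (O := X.sheaf) g ≫ Q.map ψ =
        Q.map ((HomologicalComplex.single X.Modules (ComplexShape.up ℤ) 0).map
          (FOmap (O := X.sheaf) g) ≫ ψ) := (Q.map_comp _ _).symm
    rw [h32, h31]
    exact Q_map_fromMap_boundary (𝒞 := X.Modules) _ _
  have h4 := MDw.beta_map (O := X.sheaf) (Q.obj I) g (Q.map ψ)
  rw [h3, MDw.beta_zero] at h4
  have h5 := TopCat.Presheaf.germ_res_apply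
    (Scheme.Modules.presheaf (X := X) (MDw.H0.obj (Q.obj I))) g x hxW
    (MDw.beta (O := X.sheaf) (Q.obj I) (f ⁻¹ᵁ V) (Q.map ψ))
  have h6 : (Scheme.Modules.presheaf (X := X) (MDw.H0.obj (Q.obj I))).map g.op
      (MDw.beta (O := X.sheaf) (Q.obj I) (f ⁻¹ᵁ V) (Q.map ψ)) = 0 := h4.symm
  exact h5.symm.trans ((congrArg _ h6).trans (map_zero _))

end Groth.Agent.H6.QcCons
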