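import Groth.Agent.Lib.Helper6.RFTri1
import Groth.Agent.Lib.Helper2.RDer5

/-! # Cohomology of `RF` of a single object in terms of the classical right derived functors -/

open CategoryTheory Limits DerivedCategory Pretriangulated

namespace Groth.Agent.H6.RFTri

open Groth.Agent.H6.MVTri Groth.Agent.H6.KI Groth.Agent.H2.RDer

variable {B : Type*} [Category B] [Abelian B] [HasDerivedCategory B] [KInjDS.HasKInjRes B]
  {𝒞 : Type*} [Category 𝒞] [Abelian 𝒞] [HasDerivedCategory 𝒞]
  (F : B ⥤ 𝒞) [F.Additive] [HasInjectiveResolutions B]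

section Shift

variable {A : Type*} [Category A] [Abelian A]

lemma exactAt_shift_iff (K : CochainComplex A ℤ) (n a a' : ℤ) (h : n + a = a') :
    (K⟦n⟧).ExactAt a ↔ K.ExactAt a' := by
  rw [HomologicalComplex.exactAt_iff_isZero_homology,
    HomologicalComplex.exactAt_iff_isZero_homology]
  exact Iso.isZero_iff ((CochainComplex.ShiftSequence.shiftIso A n a a' h).app K)

end Shift

lemma exactAt_map_cochainComplex {X : B} (R : InjectiveResolution X) (j : ℤ)
    (h : ∀ p : ℕ, (p : ℤ) = j → IsZero ((F.rightDerived p).obj X)) :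
    ((F.mapHomologicalComplex (ComplexShape.up ℤ)).obj R.cochainComplex).ExactAt j := by
  by_cases hj : j < 0
  · exact ShortComplex.exact_of_isZero_X₂ _ (isZero_map_cochainComplex_X F R j hj)
  · obtain ⟨p, rfl⟩ : ∃ p : ℕ, (p : ℤ) = j := ⟨j.toNat, Int.toNat_of_nonneg (by omega)⟩
    have hz := h p rfl
    have hz' : ((F.mapHomologicalComplex (ComplexShape.up ℕ)).obj R.cocomplex).ExactAt p := by
      rw [HomologicalComplex.exactAt_iff_isZero_homology]
      exact hz.of_iso (R.isoRightDerivedObj F p).symm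
    cases p with
    | zero =>
      rw [HomologicalComplex.exactAt_iff' _ 0 0 1 (by simp) (by simp)] at hz'
      rw [HomologicalComplex.exactAt_iff' _ (-1) ((0 : ℕ) : ℤ) 1 (by simp) (by simp)]
      have hm : Mono (F.map (R.cocomplex.d 0 1)) := by
        refine (ShortComplex.exact_iff_mono _ ?_).1 hz'
        change F.map (R.cocomplex.d 0 0) = 0
        rw [R.cocomplex.shape 0 0 (by simp), F.map_zero]
      refine (ShortComplex.exact_iff_mono _ ?_).2 ?_
      · exact (isZero_map_cochainComplex_X F R (-1) (by omega)).eq_of_src _ _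
      · change Mono (F.map (R.cochainComplex.d ((0 : ℕ) : ℤ) 1))
        have e := map_d_eIso F R ((0 : ℕ) : ℤ) 1 0 1 rfl rfl
        have : F.map (R.cochainComplex.d ((0 : ℕ) : ℤ) 1) =
            (eIso F R ((0 : ℕ) : ℤ) 0 rfl).hom ≫ F.map (R.cocomplex.d 0 1) ≫
              (eIso F R 1 1 rfl).inv := by
          rw [← Category.assoc, ← e, Category.assoc, Iso.hom_inv_id, Category.comp_id]
        rw [this]
        infer_instance
    | succ k => exact (exactAt_iff_nat F R k).2 hz'

variable [(F.mapHomotopyCategory (ComplexShape.up ℤ) ⋙ Qh).HasRightDerivedFunctor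
    (HomotopyCategory.quasiIso B (ComplexShape.up ℤ))]

/-- `Hⁱ(RF(X[-q])) = 0` when `R^{i-q}F(X) = 0` (in particular for `i < q`). -/
theorem isZero_homology_RF_single (X : B) (q i : ℤ)
    (h : ∀ p : ℕ, (p : ℤ) = i - q → IsZero ((F.rightDerived p).obj X)) :
    IsZero ((homologyFunctor 𝒞 i).obj ((RF F).obj ((singleFunctor B q).obj X))) := by
  let R := injectiveResolution X
  let J : CochainComplex B ℤ := R.cochainComplex⟦-q⟧
  haveI : J.IsKInjective := inferInstanceAs ((R.cochainComplex⟦-q⟧).IsKInjective)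
  have e : (singleFunctor B q).obj X ≅ Q.obj J := by
    let e1 : (CochainComplex.singleFunctor B q).obj X ≅
        ((CochainComplex.singleFunctor B 0).obj X)⟦-q⟧ :=
      (((CochainComplex.singleFunctors B).shiftIso (-q) q 0 (by omega)).app X).symm
    haveI : QuasiIso (R.ι'⟦-q⟧') := inferInstance
    haveI : IsIso (Q.map (R.ι'⟦-q⟧')) := (isIso_Q_map_iff_quasiIso (C := B) (R.ι'⟦-q⟧')).2 inferInstance
    exact (singleFunctorIsoCompQ B q).app X ≪≫ Q.mapIso e1 ≪≫ asIso (Q.map (R.ι'⟦-q⟧'))
  refine IsZero.of_iso ?_ ((homologyFunctor 𝒞 i).mapIso ((RF F).mapIso e))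
  rw [isZero_homology_RF_iff F J i]
  have e2 : (F.mapHomologicalComplex (ComplexShape.up ℤ)).obj J ≅
      ((F.mapHomologicalComplex (ComplexShape.up ℤ)).obj R.cochainComplex)⟦-q⟧ :=
    ((F.mapHomologicalComplex (ComplexShape.up ℤ)).commShiftIso (-q)).app R.cochainComplex
  rw [HomologicalComplex.exactAt_iff_isZero_homology]
  refine IsZero.of_iso ?_ ((HomologicalComplex.homologyFunctor 𝒞 _ i).mapIso e2)
  change IsZero ((((F.mapHomologicalComplex (ComplexShape.up ℤ)).obj
    R.cochainComplex)⟦-q⟧).homology i)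
  rw [← HomologicalComplex.exactAt_iff_isZero_homology,
    exactAt_shift_iff _ (-q) i (i - q) (by omega)]
  exact exactAt_map_cochainComplex F R (i - q) h

end Groth.Agent.H6.RFTri
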