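import Groth.Agent.Lib.Helper6.QcCons3
import Groth.Agent.Lib.Helper6.QcVan5
import Groth.Agent.Lib.Helper6.RFTri2
import Groth.Agent.Lib.Helper7.DRec1

/-! # `Rf_*` reflects isomorphisms on `D_QCoh` for affine `f` -/

universe u
open CategoryTheory Limits Opposite Pretriangulated AlgebraicGeometry TopologicalSpace

namespace Groth.Agent.H6.QcCons

open DerivedCategory Groth.Agent.H6.KI Groth.Agent.H6.MD Groth.Agent.H6.MVTri
open Groth.Agent.LD.HDSh Groth.Agent.H6.RFTri

attribute [local instance] HasDerivedCategory.standard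

theorem isZero_homology_of_exactAt {X S : Scheme.{u}} (f : X ⟶ S) [IsAffineHom f]
    (I : CochainComplex X.Modules ℤ) [I.IsKInjective]
    (hq : ∀ j : ℤ, Coh.IsQCoh ((homologyFunctor X.Modules j).obj (Q.obj I))) (m : ℤ)
    (hex : (((Scheme.Modules.pushforward f).mapHomologicalComplex (ComplexShape.up ℤ)).obj
      I).ExactAt m) :
    IsZero ((homologyFunctor X.Modules m).obj (Q.obj I)) := by
  have hex' : (((Scheme.Modules.pushforward f).mapHomologicalComplex (ComplexShape.up ℤ)).obj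
      (I⟦m⟧)).ExactAt 0 := by
    have e0 := ((Scheme.Modules.pushforward f).mapCochainComplexShiftIso m).app I
    have h1 : ((((Scheme.Modules.pushforward f).mapHomologicalComplex
        (ComplexShape.up ℤ)).obj I)⟦m⟧).ExactAt 0 :=
      (exactAt_shift_iff _ m 0 m (add_zero m)).2 hex
    rw [HomologicalComplex.exactAt_iff_isZero_homology] at h1 ⊢
    exact h1.of_iso ((HomologicalComplex.homologyFunctor _ _ 0).mapIso e0)
  let e' : (Q.obj I)⟦m⟧ ≅ Q.obj (I⟦m⟧) := ((Q.commShiftIso m).app I).symm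
  let eH : (homologyFunctor X.Modules 0).obj ((Q.obj I)⟦m⟧) ≅
      (homologyFunctor X.Modules m).obj (Q.obj I) :=
    ((homologyFunctor X.Modules 0).shiftIso m 0 m (add_zero m)).app (Q.obj I)
  refine IsZero.of_iso ?_ eH.symm
  haveI : ((homologyFunctor X.Modules 0).obj ((Q.obj I)⟦m⟧)).IsQuasicoherent :=
    Groth.Agent.LD.QC.qc_of_iso eH.symm (hq m)
  apply Groth.Agent.LD.QC.isZero_of_affine_cover
  intro x
  obtain ⟨V, hV, hxV, -⟩ := exists_isAffineOpen_mem_and_subset (x := f.base x) (U := (⊤ : S.Opens))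
    trivial
  have hU : IsAffineOpen (f ⁻¹ᵁ V) := hV.preimage f
  refine ⟨f ⁻¹ᵁ V, hU, hxV, fun s => ?_⟩
  -- surjectivity of `beta`
  let E' : DerivedCategory (ModSite.Mod (J := Opens.grothendieckTopology X) X.sheaf) := Q.obj I
  haveI : IsGrothendieckAbelian.{u} (ModSite.Mod (J := Opens.grothendieckTopology X) X.sheaf) :=
    Groth.Agent.H1.sheafOfModules_isGrothendieckAbelian _ _
  haveI : HasProduct (CohCx.truncTower E') :=
    Groth.Agent.H2.DProd.hasProduct_of_isGE _ (fun n => ⟨-(n : ℤ), inferInstance⟩)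
  have hL := Groth.Agent.H6.MDw.main1007 X E' hq
  have hvan : ∀ (q : ℤ) (k : ℕ), 0 < k → Subsingleton (ModSite.HU X.sheaf
      ((homologyFunctor (ModSite.Mod (J := Opens.grothendieckTopology X) X.sheaf) q).obj E') k
        (f ⁻¹ᵁ V)) := by
    intro q k hk
    obtain ⟨p, rfl⟩ : ∃ p, k = p + 1 := ⟨k - 1, by omega⟩
    haveI : SheafOfModules.IsQuasicoherent (R := X.ringCatSheaf)
      ((homologyFunctor (ModSite.Mod (J := Opens.grothendieckTopology X) X.sheaf) q).obj E') :=
      hq q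
    exact Groth.Agent.LD.SC.subsingleton_ext_of_isAffineOpen (X := X) _ p (f ⁻¹ᵁ V) hU
  obtain ⟨y, hy⟩ := beta_surjective_of_isRlimVia (O := X.sheaf) E' hL (f ⁻¹ᵁ V) hvan m s
  have h0 := beta_eq_zero_of_exactAt f (I⟦m⟧) hex' V (y ≫ e'.hom)
  have h1 := MDw.beta_comp (O := X.sheaf) (f ⁻¹ᵁ V) y e'.hom
  have h2 : ((τ X.sheaf).map ((MDw.H0 (O := X.sheaf)).map e'.hom)).hom.app (op (f ⁻¹ᵁ V)) s = 0 := by
    have h3 := h0.symm.trans h1
    rw [hy] at h3
    exact h3.symm
  haveI : IsIso ((MDw.H0 (O := X.sheaf)).map e'.hom) := inferInstance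
  apply MDw.modHom_injective_of_isIso (O := X.sheaf) ((MDw.H0 (O := X.sheaf)).map e'.hom) (f ⁻¹ᵁ V)
  exact h2.trans (map_zero _).symm

end Groth.Agent.H6.QcCons
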