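import Groth.Agent.Lib.Helper6.MDw5
import Groth.Agent.Lib.Helper6.MDw6

/-! # Vanishing of `Hom(j_{Y!}O_Y, E[m])` for unbounded `E` bounded above, under a cohomological
dimension bound for the cohomology sheaves -/

universe w u
open CategoryTheory Limits Opposite Pretriangulated

namespace Groth.Agent.H6.QcVan

open Groth.Agent.H6.MD Groth.Agent.H6.MDw
open Groth.Agent.LD.SC Groth.Agent.LD.HDSh DerivedCategory Groth.Agent.H2.DTrunc
open Groth.Agent.H6.DLim

variable {C : Type u} [SmallCategory C] {J : GrothendieckTopology C} {O : Sheaf J CommRingCat.{u}}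

variable [HasDerivedCategory.{w} (ModSite.Mod O)]

/-- if `E ≤ b` is the derived limit of its truncations, all its cohomology sheaves lie in a class
`A` whose members have vanishing cohomology over `Y` above degree `d`, then
`Hom(j_{Y!}O_Y, E[m]) = 0` for `m > b + d`. -/
theorem hom_eq_zero_of_isRlimVia (E : DerivedCategory (ModSite.Mod O))
    [HasProduct (CohCx.truncTower E)]
    (hL : CohCx.IsRlimVia (CohCx.truncTower E) (CohCx.truncTowerMap E) E (CohCx.toTruncTower E))
    (A : ObjectProperty (ModSite.Mod O)) [A.IsClosedUnderIsomorphisms]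
    (hA : ∀ q : ℤ, A ((homologyFunctor (ModSite.Mod O) q).obj E))
    (Y : C) (d : ℕ)
    (hY : ∀ F : ModSite.Mod O, A F → ∀ k : ℕ, d < k → Subsingleton (ModSite.HU O F k Y))
    (b : ℤ) (hb : ∀ q : ℤ, b < q → IsZero ((homologyFunctor (ModSite.Mod O) q).obj E))
    (m : ℤ) (hm : b + d < m) (φ : DZ O Y ⟶ E⟦m⟧) : φ = 0 := by
  have hvan : ∀ (m' : ℤ) (k : ℕ), (fun _ : ℤ => (d : ℤ)) m' < k → Subsingleton
      (ModSite.HU O ((homologyFunctor (ModSite.Mod O) (m' - k)).obj E) k Y) :=
    fun m' k hk => hY _ (hA _) k (by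
      have hk' : (d : ℤ) < k := hk
      exact_mod_cast hk')
  obtain ⟨nV, hnV⟩ : ∃ nV : ℕ, -(nV : ℤ) ≤ b ∧ -b ≤ nV := ⟨(-b).toNat, by omega, by omega⟩
  refine eq_zero_of_comp_eq_zero hL m nV ?_ ?_ φ ?_
  · exact limOneIsZero_of_eventually_surjective nV
      (fun n => DZ O Y ⟶ (CohCx.truncTower E n)⟦m - 1⟧)
      (fun n => Preadditive.rightComp _ ((CohCx.truncTowerMap E n)⟦m - 1⟧'))
      (fun n hn => (bijective_truncTower_step E Y (fun _ => (d : ℤ)) hvan (m - 1) n
        (by have : (nV : ℤ) ≤ n := by exact_mod_cast hn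
            omega)
        (by have : (nV : ℤ) ≤ n := by exact_mod_cast hn
            omega)).2)
  · exact injective_transition (DZ O Y) m nV
      (fun n hn => (bijective_truncTower_step E Y (fun _ => (d : ℤ)) hvan m n
        (by have : (nV : ℤ) ≤ n := by exact_mod_cast hn
            omega)
        (by have : (nV : ℤ) ≤ n := by exact_mod_cast hn
            omega)).1)
  · apply hom_shift_eq_zero_of_vanishing (CohCx.truncTower E nV) (-(nV : ℤ)) inferInstance Y m
    intro a ha k hk
    by_cases h1 : a < -(nV : ℤ)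
    · exact subsingleton_HU_of_isZero _
        (isZero_of_isGE (CohCx.truncTower E nV) (-(nV : ℤ)) a h1) k Y
    · haveI : IsIso ((homologyFunctor (ModSite.Mod O) a).map (CohCx.toTruncTower E nV)) :=
        isIso_homology_truncGEπ E (-(nV : ℤ)) a (by omega)
      have e := asIso ((homologyFunctor (ModSite.Mod O) a).map (CohCx.toTruncTower E nV))
      by_cases h2 : b < a
      · exact subsingleton_HU_of_isZero _ ((hb a h2).of_iso e.symm) k Y
      · exact hY _ (A.prop_of_iso e (hA a)) k (by omega)

end Groth.Agent.H6.QcVan
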