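import Groth.Agent.Lib.Helper6.KI1
import Groth.Agent.Lib.Helper6.MDw2

/-! # Cocycles of a K-injective complex are coboundaries when the corresponding `Hom` group in the
derived category vanishes -/

universe w u
open CategoryTheory Limits Opposite Pretriangulated

namespace Groth.Agent.H6.QcVan

open DerivedCategory Groth.Agent.H6.KI

section Abstract

variable {A : Type*} [Category A] [Abelian A] [HasDerivedCategory.{w} A]

/-- the chain map `G[-m] ⟶ I` attached to `ζ : G ⟶ Iᵐ` with `dζ = 0`. -/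
noncomputable def fromMapAt {G : A} {I : CochainComplex A ℤ} (m : ℤ) (ζ : G ⟶ I.X m)
    (hζ : ζ ≫ I.d m (m + 1) = 0) :
    (HomologicalComplex.single A (ComplexShape.up ℤ) m).obj G ⟶ I :=
  HomologicalComplex.mkHomFromSingle ζ (by
    intro k hk
    obtain rfl : m + 1 = k := hk
    exact hζ)

lemma fromMapAt_f {G : A} {I : CochainComplex A ℤ} (m : ℤ) (ζ : G ⟶ I.X m)
    (hζ : ζ ≫ I.d m (m + 1) = 0) :
    (fromMapAt m ζ hζ).f m =
      (HomologicalComplex.singleObjXSelf (ComplexShape.up ℤ) m G).hom ≫ ζ :=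
  HomologicalComplex.mkHomFromSingle_f _ _

lemma exists_of_homotopyAt {G : A} {I : CochainComplex A ℤ} (m : ℤ) (ζ : G ⟶ I.X m)
    (hζ : ζ ≫ I.d m (m + 1) = 0) (H : Homotopy (fromMapAt m ζ hζ) 0) :
    ∃ η : G ⟶ I.X (m - 1), η ≫ I.d (m - 1) m = ζ := by
  refine ⟨(HomologicalComplex.singleObjXSelf (ComplexShape.up ℤ) m G).inv ≫ H.hom m (m - 1), ?_⟩
  have h := H.comm m
  rw [fromMapAt_f, HomologicalComplex.zero_f, add_zero,
    dNext_eq H.hom (show (ComplexShape.up ℤ).Rel m (m + 1) by simp),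
    prevD_eq H.hom (show (ComplexShape.up ℤ).Rel (m - 1) m by simp),
    HomologicalComplex.single_obj_d, zero_comp, zero_add] at h
  rw [Category.assoc, ← h, Iso.inv_hom_id_assoc]

/-- vanishing of `Hom(G[0], I[m])` in the derived category forces cocycles `G ⟶ Iᵐ` to be
coboundaries, for `I` K-injective. -/
theorem exists_of_forall_hom_eq_zero (G : A) (I : CochainComplex A ℤ) [I.IsKInjective] (m : ℤ)
    (h0 : ∀ ψ : (singleFunctor A 0).obj G ⟶ (Q.obj I)⟦m⟧, ψ = 0)
    (ζ : G ⟶ I.X m) (hζ : ζ ≫ I.d m (m + 1) = 0) :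
    ∃ η : G ⟶ I.X (m - 1), η ≫ I.d (m - 1) m = ζ := by
  let Φ := fromMapAt m ζ hζ
  let ψ' : (singleFunctor A m).obj G ⟶ Q.obj I := Q.map Φ
  let iso : ((singleFunctor A m).obj G)⟦m⟧ ≅ (singleFunctor A 0).obj G :=
    ((DerivedCategory.singleFunctors A).shiftIso m 0 m (by omega)).app G
  have h1 : iso.inv ≫ ψ'⟦m⟧' = 0 := h0 _
  have h2 : ψ'⟦m⟧' = 0 := by
    rw [← cancel_epi iso.inv, h1, comp_zero]
  have h3 : ψ' = 0 := by
    apply (shiftFunctor (DerivedCategory A) m).map_injective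
    rw [h2, Functor.map_zero]
  obtain ⟨H⟩ := nonempty_homotopy_of_Q_map_eq_zero Φ h3
  exact exists_of_homotopyAt m ζ hζ H

end Abstract

end Groth.Agent.H6.QcVan
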