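import Mathlib
import Groth.Prelude.Def_DCoh2
import Groth.Agent.Lib.Helper6.DProdG
import Groth.Agent.Lib.Helper6.DerAdj1
import Groth.Agent.Lib.Helper6.DProdAB

/-!
# Total right derived functors commute with derived limits
-/

set_option autoImplicit false

namespace Groth.Agent.H6.RlimDer

open CategoryTheory Limits DerivedCategory CochainComplex Pretriangulated

universe w w' v v' u u'

section KInj

variable {A : Type u} [Category.{v} A] [Abelian A]

lemma isKInjective_mappingCone {X Y : CochainComplex A ℤ} (f : X ⟶ Y) [X.IsKInjective]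
    [Y.IsKInjective] : (mappingCone f).IsKInjective := by
  rw [isKInjective_iff_rightOrthogonal]
  exact ObjectProperty.ext_of_isTriangulatedClosed₃ _ (mappingCone.triangleh f)
    (HomotopyCategory.mappingCone_triangleh_distinguished f)
    (IsKInjective.rightOrthogonal X) (IsKInjective.rightOrthogonal Y)

lemma isKInjective_mappingCocone {X Y : CochainComplex A ℤ} (f : X ⟶ Y) [X.IsKInjective]
    [Y.IsKInjective] : (mappingCocone f).IsKInjective := by
  haveI := isKInjective_mappingCone f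
  change ((mappingCone f)⟦(-1 : ℤ)⟧).IsKInjective
  infer_instance

end KInj

section General

variable {T : Type u} [Category.{v} T] [Preadditive T] [HasZeroObject T] [HasShift T ℤ]
  [∀ n : ℤ, (CategoryTheory.shiftFunctor T n).Additive] [Pretriangulated T]

lemma isRlim_of_iso (K : ℕ → T) (t : ∀ n, K (n + 1) ⟶ K n) [HasProduct K] (L : T)
    (Tr : Triangle T) (hTr : Tr ∈ distTriang T) (ξ : L ≅ Tr.obj₁) (E : ∏ᶜ K ≅ Tr.obj₂)
    (E' : ∏ᶜ K ≅ Tr.obj₃)
    (comm : (Pi.lift fun n => Pi.π K n - Pi.π K (n + 1) ≫ t n) ≫ E'.hom = E.hom ≫ Tr.mor₂) :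
    DCoh.IsRlim K t L := by
  refine ⟨ξ.hom ≫ Tr.mor₁ ≫ E.inv, E'.hom ≫ Tr.mor₃ ≫ ξ.inv⟦(1 : ℤ)⟧', ?_⟩
  refine isomorphic_distinguished _ hTr _ (Triangle.isoMk _ _ ξ E E' ?_ ?_ ?_)
  · change (ξ.hom ≫ Tr.mor₁ ≫ E.inv) ≫ E.hom = ξ.hom ≫ Tr.mor₁
    rw [Category.assoc, Category.assoc, Iso.inv_hom_id, Category.comp_id]
  · exact comm
  · change (E'.hom ≫ Tr.mor₃ ≫ (CategoryTheory.shiftFunctor T (1 : ℤ)).map ξ.inv) ≫
      (CategoryTheory.shiftFunctor T (1 : ℤ)).map ξ.hom = E'.hom ≫ Tr.mor₃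
    rw [Category.assoc, Category.assoc, ← Functor.map_comp, Iso.inv_hom_id,
      CategoryTheory.Functor.map_id, Category.comp_id]

end General

lemma hasExactLimitsOfShape_of_preservesEpi {B : Type u} [Category.{v} B] [Abelian B]
    {J : Type w} [HasLimitsOfShape (Discrete J) B]
    [(lim : (Discrete J ⥤ B) ⥤ B).PreservesEpimorphisms] :
    HasExactLimitsOfShape (Discrete J) B := by
  haveI : (lim : (Discrete J ⥤ B) ⥤ B).IsRightAdjoint := constLimAdj.isRightAdjoint
  haveI : (lim : (Discrete J ⥤ B) ⥤ B).Additive :=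
    Functor.additive_of_preserves_binary_products _
  have h := ((Functor.preservesFiniteColimits_tfae (lim : (Discrete J ⥤ B) ⥤ B)).out 0 3).1 ?_
  · exact ⟨h⟩
  · intro S hS
    refine ⟨?_, ?_⟩
    · have h1 : PreservesFiniteLimits (lim : (Discrete J ⥤ B) ⥤ B) →
          ∀ S : ShortComplex (Discrete J ⥤ B), S.ShortExact →
            (S.map (lim : (Discrete J ⥤ B) ⥤ B)).Exact ∧
              Mono ((lim : (Discrete J ⥤ B) ⥤ B).map S.f) :=
        ((Functor.preservesFiniteLimits_tfae (lim : (Discrete J ⥤ B) ⥤ B)).out 3 0).1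
      exact (h1 inferInstance S hS).1
    · haveI := hS.epi_g
      infer_instance

section Main

variable {A : Type u} [Category.{v} A] [Abelian A] [IsGrothendieckAbelian.{v} A]
  [HasDerivedCategory.{w} A] [HasLimitsOfShape (Discrete ℕ) A]

variable (I : ℕ → CochainComplex A ℤ) [∀ n, (I n).IsKInjective] (τ : ∀ n, I (n + 1) ⟶ I n)

/-- "identity minus shift" on the product of complexes -/
noncomputable def φ : ∏ᶜ I ⟶ ∏ᶜ I := Pi.lift (fun n => Pi.π I n - Pi.π I (n + 1) ≫ τ n)

lemma φ_π (n : ℕ) : φ I τ ≫ Pi.π I n = Pi.π I n - Pi.π I (n + 1) ≫ τ n := by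
  simp [φ]

instance : (∏ᶜ I).IsKInjective := H2.KInjProd.isKInjective_pi I inferInstance

instance : (mappingCocone (φ I τ)).IsKInjective := isKInjective_mappingCocone _

lemma exists_iso_cocone (K : ℕ → DerivedCategory A) (t : ∀ n, K (n + 1) ⟶ K n) [HasProduct K]
    (L : DerivedCategory A) (hL : DCoh.IsRlim K t L)
    (e : ∀ n, Q.obj (I n) ≅ K n)
    (hτ : ∀ n, Q.map (τ n) = (e (n + 1)).hom ≫ t n ≫ (e n).inv) :
    Nonempty (L ≅ Q.obj (mappingCocone (φ I τ))) := by
  obtain ⟨a, c, hT⟩ := hL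
  let wA : Discrete.functor K ≅ Discrete.functor (fun n => Q.obj (I n)) :=
    Discrete.natIso (fun j => (e j.as).symm)
  let E : ∏ᶜ K ≅ Q.obj (∏ᶜ I) :=
    IsLimit.conePointsIsoOfNatIso (limit.isLimit _) (H2.DProd.isLimitFan I) wA
  have hE : ∀ n, E.hom ≫ Q.map (Pi.π I n) = Pi.π K n ≫ (e n).inv := fun n =>
    IsLimit.conePointsIsoOfNatIso_hom_comp (limit.isLimit _) (H2.DProd.isLimitFan I) wA ⟨n⟩
  have comm : (Pi.lift fun n => Pi.π K n - Pi.π K (n + 1) ≫ t n) ≫ E.hom =
      E.hom ≫ Q.map (φ I τ) := by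
    apply Fan.IsLimit.hom_ext (H2.DProd.isLimitFan I)
    intro n
    change _ ≫ Q.map (Pi.π I n) = _ ≫ Q.map (Pi.π I n)
    rw [Category.assoc, Category.assoc, hE, ← Q.map_comp, φ_π, Functor.map_sub, Q.map_comp,
      Preadditive.comp_sub, hE, reassoc_of% (hE (n + 1)), hτ, Iso.inv_hom_id_assoc,
      Limits.Pi.lift_π_assoc, Preadditive.sub_comp, Category.assoc]
  have hT₂ : Q.mapTriangle.obj (mappingCocone.triangle (φ I τ)) ∈ distTriang _ :=
    mappingCocone_triangle_distinguished _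
  obtain ⟨a', ha1, ha2⟩ := complete_distinguished_triangle_morphism₁ _ _ hT hT₂ E.hom E.hom comm
  let ψ : Triangle.mk a (Pi.lift fun n => Pi.π K n - Pi.π K (n + 1) ≫ t n) c ⟶
      Q.mapTriangle.obj (mappingCocone.triangle (φ I τ)) :=
    { hom₁ := a'
      hom₂ := E.hom
      hom₃ := E.hom
      comm₁ := ha1
      comm₂ := comm
      comm₃ := ha2 }
  have hiso : IsIso a' := isIso₁_of_isIso₂₃ ψ hT hT₂ (by dsimp [ψ]; infer_instance)
    (by dsimp [ψ]; infer_instance)
  exact ⟨@asIso _ _ _ _ a' hiso⟩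

variable {B : Type u'} [Category.{v'} B] [Abelian B] [HasDerivedCategory.{w'} B]
  [HasLimitsOfShape (Discrete ℕ) B] [HasExactLimitsOfShape (Discrete ℕ) B]
  (F : A ⥤ B) [F.Additive] [PreservesLimitsOfShape (Discrete ℕ) F]
  (RF : DerivedCategory A ⥤ DerivedCategory B)
  (α : F.mapHomologicalComplex (ComplexShape.up ℤ) ⋙ Q ⟶ Q ⋙ RF)
  [RF.IsRightDerivedFunctor α (HomologicalComplex.quasiIso A (ComplexShape.up ℤ))]

instance : PreservesLimitsOfShape (Discrete ℕ) (F.mapHomologicalComplex (ComplexShape.up ℤ)) :=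
  HomologicalComplex.preservesLimitsOfShape_of_eval _ (fun i => by
    change PreservesLimitsOfShape (Discrete ℕ)
      (HomologicalComplex.eval A (ComplexShape.up ℤ) i ⋙ F)
    infer_instance)

/-- the comparison of mapping cocones -/
noncomputable def coconeIso {X Y : CochainComplex A ℤ} (f : X ⟶ Y) :
    (F.mapHomologicalComplex (ComplexShape.up ℤ)).obj (mappingCocone f) ≅
      mappingCocone ((F.mapHomologicalComplex (ComplexShape.up ℤ)).map f) :=
  (F.mapCochainComplexShiftIso (-1 : ℤ)).app (mappingCone f) ≪≫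
    (CategoryTheory.shiftFunctor (CochainComplex B ℤ) (-1 : ℤ)).mapIso
      (mappingCone.mapHomologicalComplexIso f F)

include α in
theorem main_cx (K : ℕ → DerivedCategory A) (t : ∀ n, K (n + 1) ⟶ K n) [HasProduct K]
    [HasProduct fun n => RF.obj (K n)]
    (L : DerivedCategory A) (hL : DCoh.IsRlim K t L) :
    DCoh.IsRlim (fun n => RF.obj (K n)) (fun n => RF.map (t n)) (RF.obj L) := by
  have h : ∀ n, ∃ (I : CochainComplex A ℤ), I.IsKInjective ∧ Nonempty (Q.obj I ≅ K n) := by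
    intro n
    obtain ⟨I, hI, -, e⟩ := DProdG.exists_kInjective_iso (K n)
    exact ⟨I, hI, e⟩
  choose I hI e using h
  replace e := fun n => (e n).some
  have hτ : ∀ n, ∃ τ : I (n + 1) ⟶ I n, Q.map τ = (e (n + 1)).hom ≫ t n ≫ (e n).inv :=
    fun n => H2.DProd.exists_Q_map_eq _
  choose τ hτ using hτ
  obtain ⟨i1⟩ := exists_iso_cocone I τ K t L hL e hτ
  let Fc := F.mapHomologicalComplex (ComplexShape.up ℤ)
  have hα : ∀ (M : CochainComplex A ℤ) [M.IsKInjective], IsIso (α.app M) :=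
    fun M _ => DerAdj.isIso_unit_app RF α M
  haveI := fun n => hα (I n)
  haveI := hα (mappingCocone (φ I τ))
  have hc : IsLimit (Fan.mk (Fc.obj (∏ᶜ I)) (fun n => Fc.map (Pi.π I n))) :=
    isLimitOfHasProductOfPreservesLimit Fc I
  have hQ := DProdAB.isLimitMapFan hc
  let ρ : ∀ n, RF.obj (K n) ≅ Q.obj (Fc.obj (I n)) := fun n =>
    RF.mapIso (e n).symm ≪≫ (asIso (α.app (I n))).symm
  let wB : Discrete.functor (fun n => RF.obj (K n)) ≅
      Discrete.functor (fun n => Q.obj (Fc.obj (I n))) :=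
    Discrete.natIso (fun j => ρ j.as)
  let EB : (∏ᶜ fun n => RF.obj (K n)) ≅ Q.obj (Fc.obj (∏ᶜ I)) :=
    IsLimit.conePointsIsoOfNatIso (limit.isLimit _) hQ wB
  have hEB : ∀ n, EB.hom ≫ Q.map (Fc.map (Pi.π I n)) =
      Pi.π (fun n => RF.obj (K n)) n ≫ (ρ n).hom := fun n =>
    IsLimit.conePointsIsoOfNatIso_hom_comp (limit.isLimit _) hQ wB ⟨n⟩
  have hρ : ∀ n, (ρ (n + 1)).hom ≫ Q.map (Fc.map (τ n)) = RF.map (t n) ≫ (ρ n).hom := by
    intro n
    have nat := α.naturality (τ n)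
    dsimp at nat
    have key : inv (α.app (I (n + 1))) ≫ Q.map (Fc.map (τ n)) =
        RF.map (Q.map (τ n)) ≫ inv (α.app (I n)) := by
      rw [IsIso.inv_comp_eq, ← Category.assoc, IsIso.eq_comp_inv]
      exact nat
    dsimp [ρ]
    rw [Category.assoc, key, hτ]
    simp only [Functor.map_comp, Category.assoc, Iso.map_inv_hom_id_assoc]
  refine isRlim_of_iso _ _ _ (Q.mapTriangle.obj (mappingCocone.triangle (Fc.map (φ I τ))))
    (mappingCocone_triangle_distinguished _)
    (RF.mapIso i1 ≪≫ (asIso (α.app (mappingCocone (φ I τ)))).symm ≪≫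
      Q.mapIso (coconeIso F (φ I τ))) EB EB ?_
  apply Fan.IsLimit.hom_ext hQ
  intro n
  change (_ ≫ EB.hom) ≫ Q.map (Fc.map (Pi.π I n)) =
    (EB.hom ≫ Q.map (Fc.map (φ I τ))) ≫ Q.map (Fc.map (Pi.π I n))
  rw [Category.assoc, Category.assoc, hEB, ← Q.map_comp, ← Fc.map_comp, φ_π, Functor.map_sub,
    Functor.map_sub, Functor.map_comp, Functor.map_comp, Preadditive.comp_sub, hEB,
    reassoc_of% (hEB (n + 1)), hρ, Limits.Pi.lift_π_assoc, Preadditive.sub_comp, Category.assoc]

end Main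

/-- the total right derived functor (with respect to the homotopy category) commutes with
derived limits -/
theorem main {A : Type u} [Category.{v} A] [Abelian A] [IsGrothendieckAbelian.{v} A]
    [HasDerivedCategory.{w} A] {B : Type u'} [Category.{v'} B] [Abelian B]
    [HasDerivedCategory.{w'} B]
    [HasProductsOfShape ℕ B] [(lim : (Discrete ℕ ⥤ B) ⥤ B).PreservesEpimorphisms]
    (F : A ⥤ B) [F.Additive] [PreservesLimitsOfShape (Discrete ℕ) F]
    [(F.mapHomotopyCategory (ComplexShape.up ℤ) ⋙ DerivedCategory.Qh).HasRightDerivedFunctor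
      (HomotopyCategory.quasiIso A (ComplexShape.up ℤ))]
    (K : ℕ → DerivedCategory A) (t : ∀ n, K (n + 1) ⟶ K n) (L : DerivedCategory A) [HasProduct K]
    [HasProduct fun n => ((F.mapHomotopyCategory (ComplexShape.up ℤ) ⋙
      DerivedCategory.Qh).totalRightDerived
      DerivedCategory.Qh (HomotopyCategory.quasiIso A (ComplexShape.up ℤ))).obj (K n)]
    (hL : DCoh.IsRlim K t L) :
    DCoh.IsRlim
      (fun n => ((F.mapHomotopyCategory (ComplexShape.up ℤ) ⋙
        DerivedCategory.Qh).totalRightDerived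
        DerivedCategory.Qh (HomotopyCategory.quasiIso A (ComplexShape.up ℤ))).obj (K n))
      (fun n => ((F.mapHomotopyCategory (ComplexShape.up ℤ) ⋙
        DerivedCategory.Qh).totalRightDerived
        DerivedCategory.Qh (HomotopyCategory.quasiIso A (ComplexShape.up ℤ))).map (t n))
      (((F.mapHomotopyCategory (ComplexShape.up ℤ) ⋙ DerivedCategory.Qh).totalRightDerived
        DerivedCategory.Qh (HomotopyCategory.quasiIso A (ComplexShape.up ℤ))).obj L) := by
  haveI : HasLimitsOfShape (Discrete ℕ) A := inferInstance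
  haveI := hasExactLimitsOfShape_of_preservesEpi (B := B) (J := ℕ)
  haveI := DerAdj.isRightDerivedFunctor_cx_of_h (DerAdj.Gh F)
    ((DerAdj.Gh F).totalRightDerived Qh (HomotopyCategory.quasiIso A (ComplexShape.up ℤ))) _
    (DerAdj.eG F)
    ((DerAdj.Gh F).totalRightDerivedUnit Qh (HomotopyCategory.quasiIso A (ComplexShape.up ℤ)))
  exact main_cx F _ ((DerAdj.eG F).hom ≫ DerAdj.unitCx (DerAdj.Gh F) _
    ((DerAdj.Gh F).totalRightDerivedUnit Qh (HomotopyCategory.quasiIso A (ComplexShape.up ℤ))))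
    K t L hL

end Groth.Agent.H6.RlimDer
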