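import Groth.Agent.Lib.Helper6.MVTri1
import Groth.Agent.Lib.Helper6.RlimDer1
import Groth.Agent.Lib.Helper6.KI1

/-! # Total right derived functors and distinguished triangles: vanishing of cohomology -/

open CategoryTheory Limits DerivedCategory Pretriangulated

namespace Groth.Agent.H6.RFTri

open Groth.Agent.H6.MVTri Groth.Agent.H6.KI

variable {B : Type*} [Category B] [Abelian B] [HasDerivedCategory B] [KInjDS.HasKInjRes B]
  {𝒞 : Type*} [Category 𝒞] [Abelian 𝒞] [HasDerivedCategory 𝒞]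
  (F : B ⥤ 𝒞) [F.Additive]
  [(F.mapHomotopyCategory (ComplexShape.up ℤ) ⋙ Qh).HasRightDerivedFunctor
    (HomotopyCategory.quasiIso B (ComplexShape.up ℤ))]

omit [KInjDS.HasKInjRes B] in
lemma exists_kinj [KInjDS.HasKInjRes B] (E : DerivedCategory B) :
    ∃ I : CochainComplex B ℤ, I.IsKInjective ∧ Nonempty (E ≅ Q.obj I) := by
  obtain ⟨I, f, hI, hf⟩ := KInjDS.HasKInjRes.exists_res (Q.objPreimage E)
  haveI : IsIso (Q.map f) := (isIso_Q_map_iff_quasiIso _ f).2 hf
  exact ⟨I, hI, ⟨(Q.objObjPreimageIso E).symm ≪≫ asIso (Q.map f)⟩⟩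

/-- `Hⁱ(RF(Q I)) = 0` iff `F(I)` is exact at `i`, for `I` K-injective -/
lemma isZero_homology_RF_iff (I : CochainComplex B ℤ) [I.IsKInjective] (i : ℤ) :
    IsZero ((homologyFunctor 𝒞 i).obj ((RF F).obj (Q.obj I))) ↔
      ((F.mapHomologicalComplex (ComplexShape.up ℤ)).obj I).ExactAt i := by
  obtain ⟨e⟩ := nonempty_iso_RF F I
  rw [HomologicalComplex.exactAt_iff_isZero_homology]
  have e' := (homologyFunctor 𝒞 i).mapIso e
  have e'' := (homologyFunctorFactors 𝒞 i).app ((F.mapHomologicalComplex _).obj I)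
  exact ⟨fun h => (h.of_iso e').of_iso e''.symm, fun h => (h.of_iso e'').of_iso e'.symm⟩

/-- vanishing of `Hⁱ(RF(-))` at the middle vertex of a distinguished triangle. -/
theorem isZero_homology_RF_obj₂ (T : Triangle (DerivedCategory B)) (hT : T ∈ distTriang _) (i : ℤ)
    (h₁ : IsZero ((homologyFunctor 𝒞 i).obj ((RF F).obj T.obj₁)))
    (h₃ : IsZero ((homologyFunctor 𝒞 i).obj ((RF F).obj T.obj₃))) :
    IsZero ((homologyFunctor 𝒞 i).obj ((RF F).obj T.obj₂)) := by
  obtain ⟨I, hI, ⟨e₁⟩⟩ := exists_kinj T.obj₁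
  obtain ⟨J, hJ, ⟨e₂⟩⟩ := exists_kinj T.obj₂
  obtain ⟨g, hg⟩ := exists_Q_map_eq_of_isKInjective I J (e₁.inv ≫ T.mor₁ ≫ e₂.hom)
  let T' := Q.mapTriangle.obj (CochainComplex.mappingCone.triangle g)
  have hT' : T' ∈ distTriang _ := by
    rw [mem_distTriang_iff]
    exact ⟨_, _, g, ⟨Iso.refl _⟩⟩
  have e := isoTriangleOfIso₁₂ T T' hT hT' e₁ e₂ (by
    change T.mor₁ ≫ e₂.hom = e₁.hom ≫ Q.map g
    rw [hg, Iso.hom_inv_id_assoc])
  have e₃ : T.obj₃ ≅ Q.obj (CochainComplex.mappingCone g) := Triangle.π₃.mapIso e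
  haveI : (CochainComplex.mappingCone g).IsKInjective := RlimDer.isKInjective_mappingCone g
  have h₁' := (isZero_homology_RF_iff F I i).1
    (h₁.of_iso ((homologyFunctor 𝒞 i).mapIso ((RF F).mapIso e₁.symm)))
  have h₃' := (isZero_homology_RF_iff F (CochainComplex.mappingCone g) i).1
    (h₃.of_iso ((homologyFunctor 𝒞 i).mapIso ((RF F).mapIso e₃.symm)))
  refine IsZero.of_iso ?_ ((homologyFunctor 𝒞 i).mapIso ((RF F).mapIso e₂))
  rw [isZero_homology_RF_iff F J i]
  -- the triangle of `F g`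
  let Fg := (F.mapHomologicalComplex (ComplexShape.up ℤ)).map g
  let T'' := Q.mapTriangle.obj (CochainComplex.mappingCone.triangle Fg)
  have hT'' : T'' ∈ distTriang _ := by
    rw [mem_distTriang_iff]
    exact ⟨_, _, Fg, ⟨Iso.refl _⟩⟩
  have hex := (homologyFunctor 𝒞 i).map_distinguished_exact T'' hT''
  have z₁ : IsZero ((homologyFunctor 𝒞 i).obj T''.obj₁) := by
    rw [HomologicalComplex.exactAt_iff_isZero_homology] at h₁'
    exact h₁'.of_iso ((homologyFunctorFactors 𝒞 i).app _)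
  have z₃ : IsZero ((homologyFunctor 𝒞 i).obj T''.obj₃) := by
    rw [HomologicalComplex.exactAt_iff_isZero_homology] at h₃'
    refine (h₃'.of_iso ?_).of_iso ((homologyFunctorFactors 𝒞 i).app _)
    exact (HomologicalComplex.homologyFunctor 𝒞 _ i).mapIso
      (CochainComplex.mappingCone.mapHomologicalComplexIso g F).symm
  rw [HomologicalComplex.exactAt_iff_isZero_homology]
  refine IsZero.of_iso ?_ ((homologyFunctorFactors 𝒞 i).app _).symm
  exact hex.isZero_X₂ (z₁.eq_of_src _ _) (z₃.eq_of_tgt _ _)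

end Groth.Agent.H6.RFTri
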