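import Groth.Agent.Lib.Helper6.QcVan1
import Groth.Agent.Lib.Helper6.QcVan2
import Groth.Agent.Lib.Helper6.RFTri1
import Groth.Agent.Lib.Helper6.RpRes1
import Groth.Agent.Lib.Helper6.MDw9
import Groth.Agent.Lib.Lead.QC.BiprodSec

/-! # Vanishing of `Hᵐ(Rf_*E)` from vanishing of `Hom(j_!O_{f⁻¹V}, E[m])` on a basis -/

universe u
open CategoryTheory Limits Opposite Pretriangulated AlgebraicGeometry TopologicalSpace

namespace Groth.Agent.H6.QcVan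

open DerivedCategory Groth.Agent.H6.KI Groth.Agent.H6.MD Groth.Agent.H6.MDw Groth.Agent.H6.MVTri

attribute [local instance] HasDerivedCategory.standard

lemma eq_zero_of_comp_iso_inv {D : Type*} [Category D] [Preadditive D] {X Y Z : D} (e : Y ≅ Z)
    (ψ : X ⟶ Z) (h : ψ ≫ e.inv = 0) : ψ = 0 := by
  rw [← cancel_mono e.inv, h, zero_comp]

/-- cocycles of a K-injective complex of modules over an open `Y` are coboundaries when
`Hom(j_{Y!}O_Y, I[m]) = 0`. -/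
theorem exists_section_of_forall_hom_eq_zero (X : Scheme.{u})
    (I : CochainComplex X.Modules ℤ) [I.IsKInjective] (Y : X.Opens) (m : ℤ)
    (h0 : ∀ ψ : DZ (J := Opens.grothendieckTopology X) X.sheaf Y ⟶ (Q.obj I)⟦m⟧, ψ = 0)
    (t : Γ(I.X m, Y)) (ht : (I.d m (m + 1)).app Y t = 0) :
    ∃ s : Γ(I.X (m - 1), Y), (I.d (m - 1) m).app Y s = t := by
  let ζ : FO (J := Opens.grothendieckTopology X) X.sheaf Y ⟶ I.X m := (hE Y (I.X m)).symm t
  have hζ : ζ ≫ I.d m (m + 1) = 0 := by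
    apply (hE Y (I.X (m + 1))).injective
    rw [hE_comp, hE_zero, Equiv.apply_symm_apply]
    exact ht
  obtain ⟨η, hη⟩ := exists_of_forall_hom_eq_zero (A := X.Modules) (FO (J := Opens.grothendieckTopology X) X.sheaf Y) I m (fun ψ => h0 ψ) ζ hζ
  refine ⟨hE Y (I.X (m - 1)) η, ?_⟩
  have h1 := hE_comp Y η (I.d (m - 1) m)
  exact h1.symm.trans ((congrArg (hE Y (I.X m)) hη).trans (Equiv.apply_symm_apply _ t))

theorem isZero_HD_Rpush_of_basis {X S : Scheme.{u}} (f : X ⟶ S) [DCoh.HasRpush f]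
    (E : DCoh.D X) (m : ℤ) (𝔅 : Set S.Opens) (h𝔅 : Opens.IsBasis 𝔅)
    (h0 : ∀ V ∈ 𝔅, ∀ φ : DZ (J := Opens.grothendieckTopology X) X.sheaf (f ⁻¹ᵁ V) ⟶ E⟦m⟧, φ = 0) :
    IsZero (DCoh.HD ((DCoh.Rpush f).obj E) m) := by
  haveI := Groth.Agent.H6.RpRes.hasKInjRes_modules X
  obtain ⟨I, hI, ⟨e⟩⟩ := Groth.Agent.H6.RFTri.exists_kinj E
  haveI := hI
  refine IsZero.of_iso ?_ ((homologyFunctor _ m).mapIso ((DCoh.Rpush f).mapIso e))
  refine (Groth.Agent.H6.RFTri.isZero_homology_RF_iff (Scheme.Modules.pushforward f) I m).2 ?_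
  rw [HomologicalComplex.exactAt_iff' _ (m - 1) m (m + 1) (by simp) (by simp)]
  apply Groth.Agent.LD.QC.exact_of_local
  intro U t ht x hx
  obtain ⟨V, hV, hxV, hVU⟩ := (Opens.isBasis_iff_nbhd.mp h𝔅) hx
  have h0' : ∀ ψ : DZ (J := Opens.grothendieckTopology X) X.sheaf (f ⁻¹ᵁ V) ⟶ (Q.obj I)⟦m⟧, ψ = 0 := by
    intro ψ
    let e' := (shiftFunctor (DerivedCategory X.Modules) m).mapIso e
    exact eq_zero_of_comp_iso_inv e' ψ (h0 V hV _)
  let t' : Γ(I.X m, f ⁻¹ᵁ V) := (I.X m).presheaf.map (homOfLE (f.preimage_mono hVU)).op t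
  have ht' : (I.d m (m + 1)).app (f ⁻¹ᵁ V) t' = 0 := by
    rw [Groth.Agent.LD.QC.app_res]
    have : (I.d m (m + 1)).app (f ⁻¹ᵁ U) t = 0 := ht
    rw [this, map_zero]
  obtain ⟨s, hs⟩ := exists_section_of_forall_hom_eq_zero X I (f ⁻¹ᵁ V) m h0' t' ht'
  exact ⟨V, hVU, hxV, s, hs⟩

end Groth.Agent.H6.QcVan
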