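import Groth.Agent.Lib.Helper6.QcVan3
import Groth.Agent.Lib.Lead.SC.RPushQC
import Groth.Agent.Lib.Lead.QC.Closure
import Groth.Agent.Lib.Helper2.DProd1

/-! # Uniform vanishing bound for `Rf_*` on `D_QCoh^{≤ 0}` -/

universe u
open CategoryTheory Limits Opposite Pretriangulated AlgebraicGeometry TopologicalSpace

namespace Groth.Agent.H6.QcVan

open DerivedCategory Groth.Agent.H6.KI Groth.Agent.H6.MD Groth.Agent.H6.MDw Groth.Agent.H6.MVTri
open Groth.Agent.LD.SC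

attribute [local instance] HasDerivedCategory.standard

/-- a finite family of affine opens covering a quasi-compact base, the basis of their basic opens
and a uniform cohomological dimension bound for quasi-coherent modules over the preimages. -/
theorem exists_basis_cohDim {X S : Scheme.{u}} (f : X ⟶ S) [QuasiCompact f] [QuasiSeparated f]
    [CompactSpace ↥S] :
    ∃ (𝔅 : Set S.Opens) (D : ℕ), Opens.IsBasis 𝔅 ∧ ∀ V ∈ 𝔅, ∀ (M : X.Modules),
      M.IsQuasicoherent → ∀ p : ℕ, D ≤ p →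
      Subsingleton (Abelian.Ext (ZU (JX X) (f ⁻¹ᵁ V)) (Coh.toAb M) (p + 1)) := by
  classical
  obtain ⟨c, hc, hcsup⟩ := exists_finset_affine_sup_eq (⊤ : S.Opens) isCompact_univ
  have hd : ∀ W : S.Opens, ∃ d : ℕ, W ∈ c → ∀ (g : Γ(S, W)) (M : X.Modules),
      M.IsQuasicoherent → ∀ p : ℕ, d ≤ p →
      Subsingleton (Abelian.Ext (ZU (JX X) (f ⁻¹ᵁ S.basicOpen g)) (Coh.toAb M) (p + 1)) := by
    intro W
    by_cases hW : W ∈ c
    · obtain ⟨d, hd⟩ := exists_cohDim_preimage_basicOpen f W (hc W hW)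
      exact ⟨d, fun _ => hd⟩
    · exact ⟨0, fun h => absurd h hW⟩
  choose d hd using hd
  let 𝔅 : Set S.Opens := {V | ∃ W ∈ c, ∃ g : Γ(S, W), V = S.basicOpen g}
  have h𝔅 : Opens.IsBasis 𝔅 := by
    rw [Opens.isBasis_iff_nbhd]
    intro O x hx
    have hx' : x ∈ c.sup id := by rw [hcsup]; trivial
    obtain ⟨W, hW, hxW⟩ : ∃ W ∈ c, x ∈ W := by
      have : (x : S) ∈ ((c.sup id : S.Opens) : Set S) := hx'
      rw [Opens.coe_finset_sup, Finset.sup_set_eq_biUnion] at this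
      obtain ⟨W, hW, hxW⟩ := Set.mem_iUnion₂.mp this
      exact ⟨W, hW, hxW⟩
    obtain ⟨g, hg, hxg⟩ := (hc W hW).exists_basicOpen_le (V := O) ⟨x, hx⟩ hxW
    exact ⟨S.basicOpen g, ⟨W, hW, g, rfl⟩, hxg, hg⟩
  refine ⟨𝔅, c.sup d, h𝔅, ?_⟩
  rintro V ⟨W, hW, g, rfl⟩ M hM p hp
  exact hd W hW g M hM p ((Finset.le_sup (f := d) hW).trans hp)

theorem s0999 {X S : Scheme.{u}} (f : X ⟶ S) [QuasiCompact f] [QuasiSeparated f]
    [CompactSpace ↥S] [DCoh.HasRpush f] :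
    ∃ N : ℤ, ∀ (E : DCoh.D X), DCoh.IsQCohD E → E.IsLE 0 → ∀ m : ℤ, N ≤ m →
      IsZero (DCoh.HD ((DCoh.Rpush f).obj E) m) := by
  obtain ⟨𝔅, D, h𝔅, hD⟩ := exists_basis_cohDim f
  refine ⟨(D : ℤ) + 1, fun E hE hLE m hm => ?_⟩
  let E' : DerivedCategory (ModSite.Mod (J := Opens.grothendieckTopology X) X.sheaf) := E
  haveI : IsGrothendieckAbelian.{u} (ModSite.Mod (J := Opens.grothendieckTopology X) X.sheaf) :=
    Groth.Agent.H1.sheafOfModules_isGrothendieckAbelian _ _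
  haveI : HasProduct (CohCx.truncTower E') :=
    Groth.Agent.H2.DProd.hasProduct_of_isGE _ (fun n => ⟨-(n : ℤ), inferInstance⟩)
  have hL := main1007 X E' hE
  let A : ObjectProperty (ModSite.Mod (J := Opens.grothendieckTopology X) X.sheaf) :=
    fun F => Coh.IsQCoh (X := X) F
  haveI : A.IsClosedUnderIsomorphisms :=
    ⟨fun e h => Groth.Agent.LD.QC.qc_of_iso (X := X) e h⟩
  apply isZero_HD_Rpush_of_basis f E m 𝔅 h𝔅
  intro V hV φ
  haveI := hLE
  refine hom_eq_zero_of_isRlimVia (O := X.sheaf) E' hL A hE (f ⁻¹ᵁ V) D ?_ 0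
    (fun q hq => isZero_of_isLE E 0 q hq) m (by omega) φ
  intro F hF k hk
  obtain ⟨p, rfl⟩ : ∃ p, k = p + 1 := ⟨k - 1, by omega⟩
  exact hD V hV F hF p (by omega)

end Groth.Agent.H6.QcVan
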