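import Mathlib

/-!
# Points of a quasi-finite geometric fibre are geometric points (helper6)
-/

set_option autoImplicit false
universe u
open CategoryTheory CategoryTheory.Limits AlgebraicGeometry TopologicalSpace Opposite

namespace Groth.Agent.H6.QfDeg

/-- The number of points of the fibre of a locally quasi-finite morphism over a geometric point
is the number of lifts of the geometric point. -/
theorem card_pullback_eq_card_lifts {X Y : Scheme.{u}} (f : X ⟶ Y) [LocallyQuasiFinite f]
    [LocallyOfFiniteType f] (Ω : Type u) [Field Ω] [IsAlgClosed Ω]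
    (ξ : Spec (CommRingCat.of Ω) ⟶ Y) :
    Nat.card ↥(pullback f ξ) =
      Nat.card {ζ : Spec (CommRingCat.of Ω) ⟶ X // ζ ≫ f = ξ} := by
  let c := pullback.snd f ξ
  haveI : LocallyQuasiFinite c := MorphismProperty.pullback_snd (P := @LocallyQuasiFinite) _ _
    inferInstance
  haveI : LocallyOfFiniteType c := MorphismProperty.pullback_snd (P := @LocallyOfFiniteType) _ _
    inferInstance
  let pt : Spec (CommRingCat.of Ω) := IsLocalRing.closedPoint Ω
  haveI : DiscreteTopology ↥(pullback f ξ) := by
    have h1 := c.isDiscrete_preimage_singleton pt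
    have h2 : c ⁻¹' {pt} = Set.univ := by
      ext z
      simp only [Set.mem_preimage, Set.mem_singleton_iff, Set.mem_univ, iff_true]
      exact Subsingleton.elim _ _
    rw [h2] at h1
    exact isDiscrete_univ_iff.mp h1
  have hcl : closedPoints ↥(pullback f ξ) = Set.univ := by
    ext z
    simp only [Set.mem_univ, iff_true]
    exact isClosed_discrete _
  have e1 : {p : Spec (CommRingCat.of Ω) ⟶ pullback f ξ // p ≫ c = 𝟙 _} ≃ ↥(pullback f ξ) :=
    (pointEquivClosedPoint c).trans ((Equiv.setCongr hcl).trans (Equiv.Set.univ _))
  rw [← Nat.card_congr e1]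
  refine Nat.card_congr ?_
  exact
    { toFun := fun s => ⟨s.1 ≫ pullback.fst f ξ, by
        rw [Category.assoc, pullback.condition, ← Category.assoc]
        have := s.2
        change s.1 ≫ pullback.snd f ξ = 𝟙 _ at this
        rw [this, Category.id_comp]⟩
      invFun := fun η => ⟨pullback.lift η.1 (𝟙 _) (by rw [η.2, Category.id_comp]),
        pullback.lift_snd _ _ _⟩
      left_inv := fun s => Subtype.ext (by
        apply pullback.hom_ext
        · exact pullback.lift_fst _ _ _
        · exact (pullback.lift_snd _ _ _).trans s.2.symm)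
      right_inv := fun η => Subtype.ext (pullback.lift_fst _ _ _) }

end Groth.Agent.H6.QfDeg
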