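import Mathlib

/-!
# Finite étale restriction of a morphism factoring through an open immersion (helper6)
-/

set_option autoImplicit false
universe u
open CategoryTheory CategoryTheory.Limits AlgebraicGeometry TopologicalSpace Opposite

namespace Groth.Agent.H6.QfDeg

theorem etale_isFinite_morphismRestrict_of_app {X Y : Scheme.{u}} (ν : Y ⟶ X) [IsAffineHom ν]
    (U : X.Opens) (hU : IsAffineOpen U) (h1 : (ν.app U).hom.Finite) (h2 : (ν.app U).hom.Etale) :
    Etale (ν ∣_ U) ∧ IsFinite (ν ∣_ U) := by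
  haveI : IsAffine U.toScheme := hU
  haveI : IsAffine (ν ⁻¹ᵁ U).toScheme := hU.preimage ν
  have hiso := arrowResLEAppIso ν U (ν ⁻¹ᵁ U) le_rfl
  rw [Scheme.Hom.resLE_eq_morphismRestrict] at hiso
  haveI : (RingHom.toMorphismProperty RingHom.Etale).RespectsIso :=
    RingHom.toMorphismProperty_respectsIso_iff.mp RingHom.Etale.respectsIso
  haveI : (RingHom.toMorphismProperty RingHom.Finite).RespectsIso :=
    RingHom.toMorphismProperty_respectsIso_iff.mp RingHom.finite_respectsIso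
  have hE : Etale (ν ∣_ U) := by
    rw [HasRingHomProperty.iff_of_isAffine (P := @Etale)]
    have := (MorphismProperty.arrow_mk_iso_iff (RingHom.toMorphismProperty RingHom.Etale)
      hiso).mpr (by
        rw [← Scheme.Hom.app_eq_appLE]
        exact h2)
    exact this
  have hF : IsFinite (ν ∣_ U) := by
    rw [HasAffineProperty.iff_of_isAffine (P := @IsFinite)]
    refine ⟨inferInstance, ?_⟩
    have := (MorphismProperty.arrow_mk_iso_iff (RingHom.toMorphismProperty RingHom.Finite)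
      hiso).mpr (by
        rw [← Scheme.Hom.app_eq_appLE]
        exact h1)
    exact this
  exact ⟨hE, hF⟩

theorem isIso_morphismRestrict_of_le_opensRange {X X' : Scheme.{u}} (j : X ⟶ X')
    [IsOpenImmersion j] (W : X'.Opens) (hle : W ≤ j.opensRange) : IsIso (j ∣_ W) := by
  rw [isIso_iff_isOpenImmersion_and_surjective]
  refine ⟨inferInstance, ⟨?_⟩⟩
  rintro ⟨w, hw⟩
  obtain ⟨x, rfl⟩ := hle hw
  refine ⟨⟨x, hw⟩, ?_⟩
  apply Subtype.ext
  rw [morphismRestrict_base_coe]

theorem finite_etale_restrict_of_factor {X X' Y : Scheme.{u}} (f : X ⟶ Y) (j : X ⟶ X')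
    [IsOpenImmersion j] (ν : X' ⟶ Y) [IsAffineHom ν] (hf : j ≫ ν = f) (U : Y.Opens)
    (hU : IsAffineOpen U) (hle : ν ⁻¹ᵁ U ≤ j.opensRange) (h1 : (ν.app U).hom.Finite)
    (h2 : (ν.app U).hom.Etale) : IsFinite (f ∣_ U) ∧ Etale (f ∣_ U) := by
  subst hf
  obtain ⟨hE, hF⟩ := etale_isFinite_morphismRestrict_of_app ν U hU h1 h2
  haveI := isIso_morphismRestrict_of_le_opensRange j (ν ⁻¹ᵁ U) hle
  rw [morphismRestrict_comp]
  exact ⟨(MorphismProperty.cancel_left_of_respectsIso @IsFinite (j ∣_ ν ⁻¹ᵁ U) (ν ∣_ U)).mpr hF,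
    (MorphismProperty.cancel_left_of_respectsIso @Etale (j ∣_ ν ⁻¹ᵁ U) (ν ∣_ U)).mpr hE⟩

end Groth.Agent.H6.QfDeg
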