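import Mathlib
import Groth.Agent.Lib.Helper6.FibCount9

/-!
# Field-valued points of an affine open as ring homomorphisms (helper6)
-/

set_option autoImplicit false
universe u
open CategoryTheory CategoryTheory.Limits AlgebraicGeometry TopologicalSpace Opposite

namespace Groth.Agent.H6.QfDeg

section

variable {Y : Scheme.{u}} {V : Y.Opens} (hV : IsAffineOpen V) (Ω : Type u) [Field Ω]

/-- The ring homomorphism associated with a field-valued point landing in an affine open. -/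
noncomputable def ptHom (ξ : Spec (CommRingCat.of Ω) ⟶ Y) (h : ⊤ ≤ ξ ⁻¹ᵁ V) : Γ(Y, V) →+* Ω :=
  (ξ.appLE V ⊤ h ≫ (Scheme.ΓSpecIso (CommRingCat.of Ω)).hom).hom

include hV in
theorem ptHom_spec (ξ : Spec (CommRingCat.of Ω) ⟶ Y) (h : ⊤ ≤ ξ ⁻¹ᵁ V) :
    Spec.map (CommRingCat.ofHom (ptHom Ω ξ h)) ≫ hV.fromSpec = ξ := by
  have h1 := IsAffineOpen.SpecMap_appLE_fromSpec ξ hV
    (isAffineOpen_top (Spec (CommRingCat.of Ω))) h
  rw [IsAffineOpen.fromSpec_top, Scheme.isoSpec_Spec_inv] at h1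
  have h2 : CommRingCat.ofHom (ptHom Ω ξ h) =
      ξ.appLE V ⊤ h ≫ (Scheme.ΓSpecIso (CommRingCat.of Ω)).hom := rfl
  rw [h2, Spec.map_comp, Category.assoc, h1, ← Category.assoc, ← Spec.map_comp,
    Iso.inv_hom_id, Spec.map_id, Category.id_comp]

include hV in
theorem ptHom_injective (ξ₁ ξ₂ : Spec (CommRingCat.of Ω) ⟶ Y) (h₁ : ⊤ ≤ ξ₁ ⁻¹ᵁ V)
    (h₂ : ⊤ ≤ ξ₂ ⁻¹ᵁ V) (h : ptHom Ω ξ₁ h₁ = ptHom Ω ξ₂ h₂) : ξ₁ = ξ₂ := by
  rw [← ptHom_spec hV Ω ξ₁ h₁, ← ptHom_spec hV Ω ξ₂ h₂, h]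

include hV in
theorem le_preimage_of_fromSpec (φ : Γ(Y, V) →+* Ω) :
    (⊤ : (Spec (CommRingCat.of Ω)).Opens) ≤
      (Spec.map (CommRingCat.ofHom φ) ≫ hV.fromSpec) ⁻¹ᵁ V := by
  intro z _
  change (Spec.map (CommRingCat.ofHom φ) ≫ hV.fromSpec).base z ∈ V
  rw [Scheme.Hom.comp_base, TopCat.comp_app]
  have : hV.fromSpec.base ((Spec.map (CommRingCat.ofHom φ)).base z) ∈
      Set.range hV.fromSpec.base := ⟨_, rfl⟩
  rw [hV.range_fromSpec] at this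
  exact this

include hV in
theorem ptHom_fromSpec (φ : Γ(Y, V) →+* Ω) :
    ptHom Ω (Spec.map (CommRingCat.ofHom φ) ≫ hV.fromSpec) (le_preimage_of_fromSpec hV Ω φ) =
      φ := by
  have h1 := ptHom_spec hV Ω (Spec.map (CommRingCat.ofHom φ) ≫ hV.fromSpec)
    (le_preimage_of_fromSpec hV Ω φ)
  have h2 := (cancel_mono hV.fromSpec).mp h1
  have h3 := Spec.map_injective h2
  exact congrArg CommRingCat.Hom.hom h3

theorem ptHom_comp {X' : Scheme.{u}} (ν : X' ⟶ Y) (ζ : Spec (CommRingCat.of Ω) ⟶ X')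
    (h : ⊤ ≤ ζ ⁻¹ᵁ (ν ⁻¹ᵁ V)) :
    ptHom Ω (ζ ≫ ν) (by rw [Scheme.Hom.comp_preimage]; exact h) =
      (ptHom Ω ζ h).comp (ν.app V).hom := by
  unfold ptHom
  rw [Scheme.Hom.comp_appLE]
  rfl

include hV in
theorem ker_ptHom (ξ : Spec (CommRingCat.of Ω) ⟶ Y) (h : ⊤ ≤ ξ ⁻¹ᵁ V) :
    RingHom.ker (ptHom Ω ξ h) =
      (hV.primeIdealOf ⟨ξ.base (IsLocalRing.closedPoint Ω), h trivial⟩).asIdeal := by
  have h1 := IsAffineOpen.comap_primeIdealOf_appLE V hV ⊤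
    (isAffineOpen_top (Spec (CommRingCat.of Ω))) h
    (x := IsLocalRing.closedPoint Ω) trivial
  have h2 := congrArg PrimeSpectrum.asIdeal h1
  rw [← h2]
  ext a
  simp only [RingHom.mem_ker, PrimeSpectrum.comap_asIdeal, Ideal.mem_comap]
  have h3 : ∀ t : Γ(Spec (CommRingCat.of Ω), ⊤),
      t ∈ ((isAffineOpen_top (Spec (CommRingCat.of Ω))).primeIdealOf
        ⟨IsLocalRing.closedPoint Ω, trivial⟩).asIdeal ↔
      (Scheme.ΓSpecIso (CommRingCat.of Ω)).hom.hom t = 0 := by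
    intro t
    let e : Γ(Spec (CommRingCat.of Ω), ⊤) ≃+* Ω :=
      (Scheme.ΓSpecIso (CommRingCat.of Ω)).commRingCatIsoToRingEquiv
    have hf : IsField Γ(Spec (CommRingCat.of Ω), ⊤) := e.toMulEquiv.isField
      (Field.toIsField Ω)
    letI := hf.toField
    have hbot : ((isAffineOpen_top (Spec (CommRingCat.of Ω))).primeIdealOf
        ⟨IsLocalRing.closedPoint Ω, trivial⟩).asIdeal = ⊥ :=
      (Ideal.eq_bot_or_top _).resolve_right (Ideal.IsPrime.ne_top inferInstance)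
    rw [hbot, Ideal.mem_bot]
    constructor
    · intro ht; rw [ht, map_zero]
    · intro ht
      exact e.injective (by rw [map_zero]; exact ht)
  exact (h3 _).symm

end

end Groth.Agent.H6.QfDeg
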