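import Mathlib

/-!
# The residue field at the generic point as a fraction field (helper6)
-/

set_option autoImplicit false
universe u
open CategoryTheory CategoryTheory.Limits AlgebraicGeometry TopologicalSpace Opposite

namespace Groth.Agent.H6.QfDeg

theorem eq_zero_of_evaluation_genericPoint {Y : Scheme.{u}} [IrreducibleSpace Y] {V : Y.Opens}
    (hV : IsAffineOpen V) [IsDomain Γ(Y, V)] (hη : genericPoint Y ∈ V) (a : Γ(Y, V))
    (ha : (Y.evaluation V (genericPoint Y) hη).hom a = 0) : a = 0 := by
  have h1 : genericPoint Y ∉ Y.basicOpen a :=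
    (Y.evaluation_eq_zero_iff_notMem_basicOpen (genericPoint Y) hη a).mp ha
  have h2 : Y.basicOpen a = ⊥ := by
    by_contra hne
    have hne' : ((Y.basicOpen a : Y.Opens) : Set Y).Nonempty := by
      rw [Set.nonempty_iff_ne_empty]
      intro h
      exact hne (TopologicalSpace.Opens.ext h)
    exact h1 (((genericPoint_spec Y).mem_open_set_iff (Y.basicOpen a).2).mpr
      (by simpa using hne'))
  have h3 := hV.fromSpec_preimage_basicOpen a
  rw [h2] at h3
  have h4 : PrimeSpectrum.basicOpen a = ⊥ := by
    rw [← h3]; rfl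
  have h5 := (PrimeSpectrum.basicOpen_eq_bot_iff a).mp h4
  exact IsReduced.eq_zero a h5

theorem isFractionRing_residueField_genericPoint {Y : Scheme.{u}} [IrreducibleSpace Y]
    {V : Y.Opens} (hV : IsAffineOpen V) [IsDomain Γ(Y, V)] (hη : genericPoint Y ∈ V) :
    @IsFractionRing Γ(Y, V) _ (Y.residueField (genericPoint Y)) _
      (Y.evaluation V (genericPoint Y) hη).hom.toAlgebra := by
  letI : Algebra Γ(Y, V) (Y.residueField (genericPoint Y)) :=
    (Y.evaluation V (genericPoint Y) hη).hom.toAlgebra
  have halg : ∀ a : Γ(Y, V), algebraMap Γ(Y, V) (Y.residueField (genericPoint Y)) a =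
      (Y.evaluation V (genericPoint Y) hη).hom a := fun a => rfl
  haveI : FaithfulSMul Γ(Y, V) (Y.residueField (genericPoint Y)) := by
    rw [faithfulSMul_iff_algebraMap_injective, injective_iff_map_eq_zero]
    intro a ha
    exact eq_zero_of_evaluation_genericPoint hV hη a ha
  apply IsFractionRing.of_field
  intro z
  obtain ⟨s, rfl⟩ := Y.residue_surjective (genericPoint Y) z
  letI := TopCat.Presheaf.algebra_section_stalk Y.presheaf (⟨genericPoint Y, hη⟩ : V)
  haveI := hV.isLocalization_stalk ⟨genericPoint Y, hη⟩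
  obtain ⟨⟨a, b⟩, hab⟩ := IsLocalization.surj
    (hV.primeIdealOf ⟨genericPoint Y, hη⟩).asIdeal.primeCompl s
  have hunit : IsUnit ((Y.presheaf.germ V (genericPoint Y) hη).hom b.1) :=
    IsLocalization.map_units (Y.presheaf.stalk (genericPoint Y)) b
  have hab' : s * (Y.presheaf.germ V (genericPoint Y) hη).hom b.1 =
      (Y.presheaf.germ V (genericPoint Y) hη).hom a := hab
  refine ⟨a, b.1, ?_⟩
  have hb0 : algebraMap Γ(Y, V) (Y.residueField (genericPoint Y)) b.1 ≠ 0 := by
    rw [halg]
    exact (hunit.map (Y.residue (genericPoint Y)).hom).ne_zero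
  rw [eq_div_iff hb0, halg, halg]
  change (Y.residue (genericPoint Y)).hom s * (Y.residue (genericPoint Y)).hom _ =
    (Y.residue (genericPoint Y)).hom _
  rw [← map_mul]
  exact congrArg (Y.residue (genericPoint Y)).hom hab'

end Groth.Agent.H6.QfDeg
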