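import Mathlib
import Groth.Agent.Lib.Helper6.QfDeg2

/-!
# Sections over the fibre at a point (helper6)
-/

set_option autoImplicit false
universe u
open CategoryTheory CategoryTheory.Limits AlgebraicGeometry TopologicalSpace Opposite

namespace Groth.Agent.H6.QfDeg

theorem le_preimage_fromSpecResidueField {Y : Scheme.{u}} {V : Y.Opens} (x : Y) (hx : x ∈ V) :
    (⊤ : (Spec (Y.residueField x)).Opens) ≤ (Y.fromSpecResidueField x) ⁻¹ᵁ V := by
  intro z _
  change (Y.fromSpecResidueField x).base z ∈ V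
  rw [Scheme.fromSpecResidueField_apply]
  exact hx

theorem ptHom_fromSpecResidueField {Y : Scheme.{u}} {V : Y.Opens} (hV : IsAffineOpen V) (x : Y)
    (hx : x ∈ V) :
    ptHom (Y.residueField x) (Y.fromSpecResidueField x) (le_preimage_fromSpecResidueField x hx) =
      (Y.evaluation V x hx).hom := by
  have h1 : Spec.map (CommRingCat.ofHom (Y.evaluation V x hx).hom) ≫ hV.fromSpec =
      Y.fromSpecResidueField x := by
    have h2 : CommRingCat.ofHom (Y.evaluation V x hx).hom =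
        Y.presheaf.germ V x hx ≫ Y.residue x := rfl
    rw [h2, Spec.map_comp, Category.assoc]
    change _ ≫ hV.fromSpecStalk hx = _
    rw [hV.fromSpecStalk_eq_fromSpecStalk hx]
    rfl
  have h3 := ptHom_fromSpec hV (Y.residueField x) (Y.evaluation V x hx).hom
  have key : ∀ (ξ : Spec (Y.residueField x) ⟶ Y)
      (hξ : ξ = Spec.map (CommRingCat.ofHom (Y.evaluation V x hx).hom) ≫ hV.fromSpec)
      (h : ⊤ ≤ ξ ⁻¹ᵁ V), ptHom (Y.residueField x) ξ h = (Y.evaluation V x hx).hom := by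
    intro ξ hξ h
    subst hξ
    exact h3
  exact key _ h1.symm _

/-- Compatibility of the restriction to the fibre with the structure maps. -/
theorem appLE_fibre_app {X X' Y : Scheme.{u}} (f : X ⟶ Y) (x : Y) {V : Y.Opens}
    (hV : IsAffineOpen V) (hx : x ∈ V) (ν : X' ⟶ Y)
    (ρ : pullback f (Y.fromSpecResidueField x) ⟶ X')
    (hρ : ρ ≫ ν = pullback.snd f (Y.fromSpecResidueField x) ≫ Y.fromSpecResidueField x)
    (h : ⊤ ≤ ρ ⁻¹ᵁ (ν ⁻¹ᵁ V)) (a : Γ(Y, V)) :
    (ρ.appLE (ν ⁻¹ᵁ V) ⊤ h).hom ((ν.app V).hom a) =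
      (pullback.snd f (Y.fromSpecResidueField x)).appTop.hom
        ((Scheme.ΓSpecIso (Y.residueField x)).inv.hom ((Y.evaluation V x hx).hom a)) := by
  have hgV := le_preimage_fromSpecResidueField (V := V) x hx
  have h1 : (ρ ≫ ν).appLE V ⊤ (by rw [Scheme.Hom.comp_preimage]; exact h) =
      ν.app V ≫ ρ.appLE (ν ⁻¹ᵁ V) ⊤ h := Scheme.Hom.comp_appLE _ _ _ _ _
  have hcg : (⊤ : (pullback f (Y.fromSpecResidueField x)).Opens) ≤
      (pullback.snd f (Y.fromSpecResidueField x) ≫ Y.fromSpecResidueField x) ⁻¹ᵁ V := by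
    rw [← hρ, Scheme.Hom.comp_preimage]; exact h
  have h2 : (ρ ≫ ν).appLE V ⊤ (by rw [Scheme.Hom.comp_preimage]; exact h) =
      (pullback.snd f (Y.fromSpecResidueField x) ≫ Y.fromSpecResidueField x).appLE V ⊤ hcg :=
    FibCount.appLE_eq_of_eq _ _ hρ _ _ _ _
  have h3 : (Y.fromSpecResidueField x).appLE V ⊤ hgV ≫
      (pullback.snd f (Y.fromSpecResidueField x)).appLE ⊤ ⊤ le_top =
      (pullback.snd f (Y.fromSpecResidueField x) ≫ Y.fromSpecResidueField x).appLE V ⊤ hcg :=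
    Scheme.Hom.appLE_comp_appLE _ _ _ _ _ _ _
  have h4 : (pullback.snd f (Y.fromSpecResidueField x)).appLE ⊤ ⊤ le_top =
      (pullback.snd f (Y.fromSpecResidueField x)).appTop := by
    rw [Scheme.Hom.appLE]
    simp
  have h5 := ptHom_fromSpecResidueField hV x hx
  have h6 : (Scheme.ΓSpecIso (Y.residueField x)).inv.hom ((Y.evaluation V x hx).hom a) =
      ((Y.fromSpecResidueField x).appLE V ⊤ hgV).hom a := by
    rw [← h5]
    change (((Y.fromSpecResidueField x).appLE V ⊤ hgV ≫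
      (Scheme.ΓSpecIso (Y.residueField x)).hom) ≫
      (Scheme.ΓSpecIso (Y.residueField x)).inv).hom a = _
    rw [Category.assoc, Iso.hom_inv_id, Category.comp_id]
  rw [h6]
  change (ν.app V ≫ ρ.appLE (ν ⁻¹ᵁ V) ⊤ h).hom a =
    ((Y.fromSpecResidueField x).appLE V ⊤ hgV ≫
      (pullback.snd f (Y.fromSpecResidueField x)).appTop).hom a
  rw [← h1, h2, ← h3, h4]

end Groth.Agent.H6.QfDeg
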