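import Mathlib

/-!
# Sections of a reduced scheme are detected on the generic fibre (helper6)
-/

set_option autoImplicit false
universe u
open CategoryTheory CategoryTheory.Limits AlgebraicGeometry TopologicalSpace Opposite

namespace Groth.Agent.H6.QfDeg

/-- Every point of a quasi-sober T0 space has a generization which is a maximal point. -/
theorem exists_maximal_generization {X : Type*} [TopologicalSpace X] [QuasiSober X] [T0Space X]
    (x : X) : ∃ x₀ : X, x₀ ⤳ x ∧ ∀ x' : X, x' ⤳ x₀ → x' = x₀ := by
  obtain ⟨x₀, hx₀⟩ := QuasiSober.sober (isIrreducible_irreducibleComponent (x := x))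
    isClosed_irreducibleComponent
  refine ⟨x₀, hx₀.specializes mem_irreducibleComponent, ?_⟩
  intro x' hx'
  have h1 : irreducibleComponent x ⊆ closure {x'} := by
    have : closure {x₀} ⊆ closure {x'} := specializes_iff_closure_subset.mp hx'
    rwa [hx₀.def] at this
  have h2 : closure {x'} = irreducibleComponent x :=
    eq_irreducibleComponent isIrreducible_singleton.closure.isPreirreducible h1
  have h3 : x₀ ⤳ x' := by
    rw [specializes_iff_mem_closure, hx₀.def, ← h2]
    exact subset_closure rfl
  exact (hx'.antisymm h3).eq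

/-- A section of a reduced scheme all of whose maximal points lie over `y` vanishes as soon as
its restriction to the fibre over `y` does. -/
theorem eq_zero_of_appLE_fibre_eq_zero {X Y : Scheme.{u}} (f : X ⟶ Y) [IsReduced X] (y : Y)
    (hdom : ∀ x : X, (∀ x' : X, x' ⤳ x → x' = x) → f.base x = y)
    (W : X.Opens) (h : ⊤ ≤ (pullback.fst f (Y.fromSpecResidueField y)) ⁻¹ᵁ W) (s : Γ(X, W))
    (hs : ((pullback.fst f (Y.fromSpecResidueField y)).appLE W ⊤ h).hom s = 0) : s = 0 := by
  rw [← AlgebraicGeometry.basicOpen_eq_bot_iff]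
  by_contra hne
  have hne' : ((X.basicOpen s : X.Opens) : Set X).Nonempty := by
    rw [Set.nonempty_iff_ne_empty]
    intro h0
    exact hne (TopologicalSpace.Opens.ext h0)
  obtain ⟨x, hx⟩ := hne'
  obtain ⟨x₀, hx₀x, hx₀max⟩ := exists_maximal_generization x
  have hx₀ : x₀ ∈ X.basicOpen s := hx₀x.mem_open (X.basicOpen s).2 hx
  have hfx₀ : f.base x₀ = y := hdom x₀ hx₀max
  obtain ⟨pt⟩ : Nonempty (Spec (Y.residueField y)) := inferInstance
  obtain ⟨z, hz, -⟩ := Scheme.Pullback.exists_preimage_pullback (f := f)
    (g := Y.fromSpecResidueField y) x₀ pt (by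
      rw [Scheme.fromSpecResidueField_apply]; exact hfx₀)
  have hz' : z ∈ (pullback.fst f (Y.fromSpecResidueField y)) ⁻¹ᵁ X.basicOpen s := by
    change (pullback.fst f (Y.fromSpecResidueField y)).base z ∈ X.basicOpen s
    rw [hz]; exact hx₀
  rw [Scheme.preimage_basicOpen] at hz'
  have h1 : (pullback f (Y.fromSpecResidueField y)).basicOpen
      (((pullback.fst f (Y.fromSpecResidueField y)).appLE W ⊤ h).hom s) = ⊥ := by
    rw [hs]; simp
  rw [Scheme.Hom.appLE, CommRingCat.comp_apply, Scheme.basicOpen_res] at h1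
  have h2 : z ∈ (⊤ : (pullback f (Y.fromSpecResidueField y)).Opens) ⊓
      (pullback f (Y.fromSpecResidueField y)).basicOpen
        ((pullback.fst f (Y.fromSpecResidueField y)).app W s) := ⟨trivial, hz'⟩
  rw [h1] at h2
  exact h2

end Groth.Agent.H6.QfDeg
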