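import Mathlib

/-!
# From the localized algebra to the sections over a basic open (helper6)
-/

set_option autoImplicit false
universe u
open CategoryTheory CategoryTheory.Limits AlgebraicGeometry TopologicalSpace Opposite

namespace Groth.Agent.H6.QfDeg

theorem finite_etale_app_basicOpen {X' Y : Scheme.{u}} (ν : X' ⟶ Y) {V : Y.Opens}
    (hV : IsAffineOpen V) (hV' : IsAffineOpen (ν ⁻¹ᵁ V)) (a : Γ(Y, V))
    (key : letI := (ν.app V).hom.toAlgebra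
      ∀ (A' B' : Type u) [CommRing A'] [CommRing B'] [Algebra Γ(Y, V) A']
      [Algebra Γ(Y, V) B'] [Algebra A' B'] [Algebra Γ(X', ν ⁻¹ᵁ V) B']
      [IsScalarTower Γ(Y, V) A' B'] [IsScalarTower Γ(Y, V) Γ(X', ν ⁻¹ᵁ V) B']
      [IsLocalization.Away a A']
      [IsLocalization.Away (algebraMap Γ(Y, V) Γ(X', ν ⁻¹ᵁ V) a) B'],
      Module.Finite A' B' ∧ Algebra.Etale A' B') :
    (ν.app (Y.basicOpen a)).hom.Finite ∧ (ν.app (Y.basicOpen a)).hom.Etale := by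
  letI algAB : Algebra Γ(Y, V) Γ(X', ν ⁻¹ᵁ V) := (ν.app V).hom.toAlgebra
  have hUW : Y.basicOpen a ≤ V := Y.basicOpen_le a
  have hVU : ν ⁻¹ᵁ Y.basicOpen a ≤ ν ⁻¹ᵁ V := ν.preimage_mono hUW
  letI algAA' : Algebra Γ(Y, V) Γ(Y, Y.basicOpen a) :=
    (Y.presheaf.map (homOfLE hUW).op).hom.toAlgebra
  letI algA'B' : Algebra Γ(Y, Y.basicOpen a) Γ(X', ν ⁻¹ᵁ Y.basicOpen a) :=
    (ν.app (Y.basicOpen a)).hom.toAlgebra
  letI algBB' : Algebra Γ(X', ν ⁻¹ᵁ V) Γ(X', ν ⁻¹ᵁ Y.basicOpen a) :=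
    (X'.presheaf.map (homOfLE hVU).op).hom.toAlgebra
  letI algAB' : Algebra Γ(Y, V) Γ(X', ν ⁻¹ᵁ Y.basicOpen a) :=
    ((ν.app (Y.basicOpen a)).hom.comp (Y.presheaf.map (homOfLE hUW).op).hom).toAlgebra
  haveI : IsScalarTower Γ(Y, V) Γ(Y, Y.basicOpen a) Γ(X', ν ⁻¹ᵁ Y.basicOpen a) :=
    IsScalarTower.of_algebraMap_eq (fun a => rfl)
  haveI : IsScalarTower Γ(Y, V) Γ(X', ν ⁻¹ᵁ V) Γ(X', ν ⁻¹ᵁ Y.basicOpen a) :=
    IsScalarTower.of_algebraMap_eq (fun a => by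
      have := ν.naturality (homOfLE hUW).op
      exact congrArg (fun q => q.hom a) this)
  haveI : IsLocalization.Away a Γ(Y, Y.basicOpen a) :=
    hV.isLocalization_of_eq_basicOpen a (homOfLE hUW) rfl
  haveI : IsLocalization.Away (algebraMap Γ(Y, V) Γ(X', ν ⁻¹ᵁ V) a)
      Γ(X', ν ⁻¹ᵁ Y.basicOpen a) :=
    hV'.isLocalization_of_eq_basicOpen _ (homOfLE hVU) (Scheme.preimage_basicOpen ν a)
  obtain ⟨h1, h2⟩ := key Γ(Y, Y.basicOpen a) Γ(X', ν ⁻¹ᵁ Y.basicOpen a)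
  exact ⟨RingHom.finite_algebraMap.mpr h1, RingHom.etale_algebraMap.mpr h2⟩

theorem mem_basicOpen_of_notMem_primeIdealOf {Y : Scheme.{u}} {V : Y.Opens} (hV : IsAffineOpen V)
    (y : Y) (hy : y ∈ V) (a : Γ(Y, V)) (ha : a ∉ (hV.primeIdealOf ⟨y, hy⟩).asIdeal) :
    y ∈ Y.basicOpen a := by
  have h1 := hV.fromSpec_primeIdealOf ⟨y, hy⟩
  have h2 : hV.primeIdealOf ⟨y, hy⟩ ∈ hV.fromSpec ⁻¹ᵁ Y.basicOpen a := by
    rw [hV.fromSpec_preimage_basicOpen]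
    exact ha
  have h3 : hV.fromSpec.base (hV.primeIdealOf ⟨y, hy⟩) ∈ Y.basicOpen a := h2
  rwa [h1] at h3

end Groth.Agent.H6.QfDeg
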