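import Mathlib
import Groth.Agent.Lib.Helper6.FibCount1

/-!
# Ring homomorphisms from a finite product to a domain (helper6)
-/

set_option autoImplicit false
universe u

namespace Groth.Agent.H6.RedCount

open Groth.Agent.H6.FibCount

section

variable {I : Type*} [Finite I] (C : I → Type*) [∀ i, CommRing (C i)] {Ω : Type*} [CommRing Ω]
  [IsDomain Ω]

/-- A ring homomorphism from a finite product to a domain factors through a projection. -/
theorem exists_factor_pi (φ : (∀ i, C i) →+* Ω) :
    ∃ (i : I) (φi : C i →+* Ω), φ = φi.comp (Pi.evalRingHom C i) := by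
  classical
  haveI := Fintype.ofFinite I
  have hsum : ∑ i, φ (Pi.single i 1) = 1 := by
    rw [← map_sum, Finset.univ_sum_single]
    exact map_one φ
  have hex : ∃ i, φ (Pi.single i 1) ≠ 0 := by
    by_contra hcon
    push Not at hcon
    rw [Finset.sum_eq_zero (fun i _ => hcon i)] at hsum
    exact zero_ne_one hsum
  obtain ⟨i, hi⟩ := hex
  have hidem : φ (Pi.single i 1) * φ (Pi.single i 1) = φ (Pi.single i 1) := by
    rw [← map_mul, ← Pi.single_mul, one_mul]
  have hone : φ (Pi.single i 1) = 1 := by
    have : φ (Pi.single i 1) * (φ (Pi.single i 1) - 1) = 0 := by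
      rw [mul_sub, hidem, mul_one, sub_self]
    rcases mul_eq_zero.mp this with h | h
    · exact absurd h hi
    · exact sub_eq_zero.mp h
  have hkey : ∀ c : ∀ j, C j, φ c = φ (Pi.single i (c i)) := by
    intro c
    have h1 : Pi.single i (c i) = c * Pi.single i 1 := by
      ext j
      by_cases hj : j = i
      · subst hj; simp
      · simp [Pi.single_eq_of_ne hj]
    rw [h1, map_mul, hone, mul_one]
  refine ⟨i, { toFun := fun c => φ (Pi.single i c)
               map_one' := hone
               map_mul' := fun a b => by rw [← map_mul, ← Pi.single_mul]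
               map_zero' := by rw [Pi.single_zero, map_zero]
               map_add' := fun a b => by rw [← map_add, ← Pi.single_add] }, ?_⟩
  apply RingHom.ext
  intro c
  exact hkey c

end

section

variable {R : Type*} [CommRing R] {I : Type*} [Finite I] (C : I → Type*) [∀ i, CommRing (C i)]
  [∀ i, Algebra R (C i)] {Ω : Type*} [CommRing Ω] [IsDomain Ω] (φ₀ : R →+* Ω)

/-- The fibre of a finite product injects into the disjoint union of the fibres. -/
theorem exists_injective_homOver_pi :
    ∃ r : HomOver R (∀ i, C i) φ₀ → Σ i, HomOver R (C i) φ₀, Function.Injective r := by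
  have key : ∀ φ : HomOver R (∀ i, C i) φ₀, ∃ (i : I) (φi : HomOver R (C i) φ₀),
      φ.1 = φi.1.comp (Pi.evalRingHom C i) := by
    intro φ
    obtain ⟨i, φi, hφi⟩ := exists_factor_pi C φ.1
    refine ⟨i, ⟨φi, ?_⟩, hφi⟩
    have h := φ.2
    rw [hφi] at h
    ext a
    have := congrArg (fun g : R →+* Ω => g a) h
    simpa using this
  choose idx f hf using key
  refine ⟨fun φ => ⟨idx φ, f φ⟩, ?_⟩
  intro φ ψ h
  apply Subtype.ext
  rw [hf φ, hf ψ]
  have h1 : idx φ = idx ψ := congrArg Sigma.fst h
  have h2 : HEq (f φ) (f ψ) := (Sigma.mk.inj_iff.mp h).2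
  revert h2
  generalize f φ = a
  generalize f ψ = b
  revert a b
  rw [h1]
  intro a b hab
  rw [eq_of_heq hab]

end

end Groth.Agent.H6.RedCount
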