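import Mathlib

/-!
# Residue fields of a finite algebra over a field (helper6)
-/

set_option autoImplicit false
universe u

namespace Groth.Agent.H6.RedCount

section

variable (K E : Type u) [Field K] [CommRing E] [Algebra K E] [Module.Finite K E]

/-- The sum of the degrees of the residue fields of a finite algebra is at most its dimension. -/
theorem sum_finrank_quotient_le [Fintype (MaximalSpectrum E)] :
    ∑ m : MaximalSpectrum E, Module.finrank K (E ⧸ m.asIdeal) ≤ Module.finrank K E := by
  let π : E →ₗ[K] (∀ m : MaximalSpectrum E, E ⧸ m.asIdeal) :=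
    LinearMap.pi (fun m => (Ideal.Quotient.mkₐ K m.asIdeal).toLinearMap)
  have hsurj : Function.Surjective π := by
    intro x
    obtain ⟨r, hr⟩ := Ideal.pi_quotient_surjective
      (I := fun m : MaximalSpectrum E => m.asIdeal) (fun m m' h => m.isCoprime_of_ne h) x
    exact ⟨r, funext fun m => hr m⟩
  have h1 := LinearMap.finrank_le_finrank_of_surjective hsurj
  rwa [Module.finrank_pi_fintype] at h1

/-- An element lying in all maximal ideals of a finite algebra over a field is nilpotent. -/
theorem isNilpotent_of_forall_mem (K E : Type u) [Field K] [CommRing E] [Algebra K E]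
    [Module.Finite K E] (x : E) (h : ∀ m : MaximalSpectrum E, x ∈ m.asIdeal) :
    IsNilpotent x := by
  haveI : IsArtinianRing E := IsArtinianRing.of_finite K E
  have h1 : x ∈ (⊥ : Ideal E).jacobson := by
    rw [Ideal.jacobson, Ideal.mem_sInf]
    intro J hJ
    exact h ⟨J, hJ.2⟩
  rw [IsArtinianRing.jacobson_eq_radical] at h1
  exact (mem_nilradical).mp h1

end

end Groth.Agent.H6.RedCount
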