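import Mathlib
import Groth.Agent.Lib.Helper6.FibCount7
import Groth.Agent.Lib.Helper6.RedCount1
import Groth.Agent.Lib.Helper6.RedCount2

/-!
# Counting geometric points of a reduced integral algebra over a normal domain (helper6)
-/

set_option autoImplicit false
universe u

namespace Groth.Agent.H6.RedCount

open Groth.Agent.H6.FibCount

/-- A finite product of integral algebras is integral. -/
theorem isIntegral_pi {R : Type*} [CommRing R] {I : Type*} [Finite I] (C : I → Type*)
    [∀ i, CommRing (C i)] [∀ i, Algebra R (C i)] [∀ i, Algebra.IsIntegral R (C i)] :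
    Algebra.IsIntegral R (∀ i, C i) := by
  classical
  haveI := Fintype.ofFinite I
  refine ⟨fun c => ?_⟩
  choose p hp using fun i => Algebra.IsIntegral.isIntegral (R := R) (c i)
  refine ⟨∏ i, p i, Polynomial.monic_prod_of_monic _ _ (fun i _ => (hp i).1), ?_⟩
  change Polynomial.aeval c (∏ i, p i) = 0
  funext j
  have h1 : (Polynomial.aeval c (∏ i, p i)) j = Polynomial.aeval (c j) (∏ i, p i) := by
    have := Polynomial.aeval_algHom_apply (Pi.evalAlgHom R C j) c (∏ i, p i)
    exact this.symm
  rw [h1, map_prod]
  exact Finset.prod_eq_zero (Finset.mem_univ j) (hp j).2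

/-- The field structure on the residue fields of a ring at the points of its maximal
spectrum. -/
@[instance_reducible, local instance] noncomputable def fieldQuot {E : Type*} [CommRing E] (m : MaximalSpectrum E) :
    Field (E ⧸ m.asIdeal) :=
  haveI := m.isMaximal
  Ideal.Quotient.field m.asIdeal

section

variable (R K : Type u) [CommRing R] [IsDomain R] [IsIntegrallyClosed R] [Field K] [Algebra R K]
  [IsFractionRing R K]
  (B : Type u) [CommRing B] [Algebra R B] [Algebra.IsIntegral R B] [IsReduced B]
  (E : Type u) [CommRing E] [Algebra K E] [Algebra R E] [IsScalarTower R K E] [Module.Finite K E]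
  (ι : B →ₐ[R] E)

/-- The integral closure of `R` in the residue field of `E` at a maximal ideal. -/
abbrev Cm (m : MaximalSpectrum E) : Type u := integralClosure R (E ⧸ m.asIdeal)

/-- The comparison map to the product of the integral closures. -/
noncomputable def Psi : B →ₐ[R] (∀ m : MaximalSpectrum E, Cm R E m) :=
  AlgHom.pi (fun m => AlgHom.codRestrict ((Ideal.Quotient.mkₐ R m.asIdeal).comp ι)
    (integralClosure R (E ⧸ m.asIdeal))
    (fun b => (Algebra.IsIntegral.isIntegral (R := R) b).map _))

theorem Psi_apply (b : B) (m : MaximalSpectrum E) :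
    ((Psi R B E ι b m : Cm R E m) : E ⧸ m.asIdeal) = Ideal.Quotient.mk m.asIdeal (ι b) := rfl

include K in
theorem Psi_injective (hι : Function.Injective ι) : Function.Injective (Psi R B E ι) := by
  rw [injective_iff_map_eq_zero]
  intro b hb
  have h1 : ∀ m : MaximalSpectrum E, ι b ∈ m.asIdeal := by
    intro m
    have := congrArg (fun c : ∀ m : MaximalSpectrum E, Cm R E m => ((c m : Cm R E m) :
      E ⧸ m.asIdeal)) hb
    simp only [Psi_apply] at this
    exact Ideal.Quotient.eq_zero_iff_mem.mp this
  obtain ⟨k, hk⟩ := isNilpotent_of_forall_mem K E (ι b) h1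
  have h2 : b ^ k = 0 := hι (by rw [map_pow, hk, map_zero])
  exact IsReduced.eq_zero b ⟨k, h2⟩

end

end Groth.Agent.H6.RedCount
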