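import Mathlib
import Groth.Agent.Lib.Helper6.RedCount3

/-!
# Counting geometric points of a reduced integral algebra over a normal domain, II (helper6)
-/

set_option autoImplicit false
universe u

namespace Groth.Agent.H6.RedCount

open Groth.Agent.H6.FibCount

attribute [local instance] fieldQuot

section

variable (R K : Type u) [CommRing R] [IsDomain R] [IsIntegrallyClosed R] [Field K] [Algebra R K]
  [IsFractionRing R K]
  (B : Type u) [CommRing B] [Algebra R B] [Algebra.IsIntegral R B] [IsReduced B]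
  (E : Type u) [CommRing E] [Algebra K E] [Algebra R E] [IsScalarTower R K E] [Module.Finite K E]
  (ι : B →ₐ[R] E) {Ω : Type*} [Field Ω] [IsAlgClosed Ω] (φ₀ : R →+* Ω)

theorem card_homOver_Cm_le (m : MaximalSpectrum E) :
    Finite (HomOver R (Cm R E m) φ₀) ∧
      Nat.card (HomOver R (Cm R E m) φ₀) ≤ Module.finrank K (E ⧸ m.asIdeal) :=
  card_homOver_le_finrank R K (E ⧸ m.asIdeal) (Cm R E m) φ₀

/-- Restriction of points along the comparison map. -/
noncomputable def restr (ψ : HomOver R (∀ m : MaximalSpectrum E, Cm R E m) φ₀) :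
    HomOver R B φ₀ :=
  ⟨ψ.1.comp (Psi R B E ι).toRingHom, by
    have h := ψ.2
    ext a
    have := congrArg (fun g : R →+* Ω => g a) h
    simpa using this⟩

include K in
theorem restr_surjective (hι : Function.Injective ι) :
    Function.Surjective (restr R B E ι φ₀) := by
  haveI : IsArtinianRing E := IsArtinianRing.of_finite K E
  intro φ
  letI : Algebra B (∀ m : MaximalSpectrum E, Cm R E m) := (Psi R B E ι).toRingHom.toAlgebra
  haveI : IsScalarTower R B (∀ m : MaximalSpectrum E, Cm R E m) :=
    IsScalarTower.of_algebraMap_eq (fun a => ((Psi R B E ι).commutes a).symm)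
  haveI : Algebra.IsIntegral R (∀ m : MaximalSpectrum E, Cm R E m) := isIntegral_pi _
  haveI : Algebra.IsIntegral B (∀ m : MaximalSpectrum E, Cm R E m) :=
    Algebra.IsIntegral.tower_top (R := R)
  obtain ⟨ψ, hψ⟩ := HomExt.exists_ringHom_extension
    (R := B) (S := ∀ m : MaximalSpectrum E, Cm R E m) (Psi_injective R K B E ι hι) φ.1
  refine ⟨⟨ψ, ?_⟩, Subtype.ext hψ⟩
  rw [← φ.2, ← hψ, RingHom.comp_assoc]
  congr 1
  apply RingHom.ext
  intro a
  exact ((Psi R B E ι).commutes a).symm

include K in
theorem finite_homOver_pi :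
    Finite (HomOver R (∀ m : MaximalSpectrum E, Cm R E m) φ₀) := by
  haveI : IsArtinianRing E := IsArtinianRing.of_finite K E
  obtain ⟨r, hr⟩ := exists_injective_homOver_pi (fun m : MaximalSpectrum E => Cm R E m) φ₀
  haveI : ∀ m : MaximalSpectrum E, Finite (HomOver R (Cm R E m) φ₀) :=
    fun m => (card_homOver_Cm_le R K E φ₀ m).1
  exact Finite.of_injective r hr

include K in
theorem card_homOver_pi_le [Fintype (MaximalSpectrum E)] :
    Nat.card (HomOver R (∀ m : MaximalSpectrum E, Cm R E m) φ₀) ≤
      ∑ m : MaximalSpectrum E, Nat.card (HomOver R (Cm R E m) φ₀) := by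
  obtain ⟨r, hr⟩ := exists_injective_homOver_pi (fun m : MaximalSpectrum E => Cm R E m) φ₀
  haveI : ∀ m : MaximalSpectrum E, Finite (HomOver R (Cm R E m) φ₀) :=
    fun m => (card_homOver_Cm_le R K E φ₀ m).1
  have h1 := Nat.card_le_card_of_injective r hr
  rwa [Nat.card_sigma] at h1

theorem card_homOver_le (hι : Function.Injective ι) :
    Finite (HomOver R B φ₀) ∧ Nat.card (HomOver R B φ₀) ≤ Module.finrank K E := by
  haveI : IsArtinianRing E := IsArtinianRing.of_finite K E
  haveI := Fintype.ofFinite (MaximalSpectrum E)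
  haveI := finite_homOver_pi R K E φ₀
  have hs := restr_surjective R K B E ι φ₀ hι
  refine ⟨Finite.of_surjective _ hs, ?_⟩
  have h1 := Nat.card_le_card_of_surjective _ hs
  have h2 := card_homOver_pi_le R K E φ₀
  have h3 : ∑ m : MaximalSpectrum E, Nat.card (HomOver R (Cm R E m) φ₀) ≤
      ∑ m : MaximalSpectrum E, Module.finrank K (E ⧸ m.asIdeal) :=
    Finset.sum_le_sum (fun m _ => (card_homOver_Cm_le R K E φ₀ m).2)
  have h4 := sum_finrank_quotient_le K E
  omega

theorem eq_of_finrank_le (hι : Function.Injective ι)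
    (h : Module.finrank K E ≤ Nat.card (HomOver R B φ₀)) :
    (∀ m : MaximalSpectrum E, Module.finrank K (E ⧸ m.asIdeal) ≤
      Nat.card (HomOver R (Cm R E m) φ₀)) ∧ Function.Injective (restr R B E ι φ₀) := by
  haveI : IsArtinianRing E := IsArtinianRing.of_finite K E
  haveI := Fintype.ofFinite (MaximalSpectrum E)
  haveI := finite_homOver_pi R K E φ₀
  have hs := restr_surjective R K B E ι φ₀ hι
  haveI : Finite (HomOver R B φ₀) := Finite.of_surjective _ hs
  have h1 := Nat.card_le_card_of_surjective _ hs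
  have h2 := card_homOver_pi_le R K E φ₀
  have h3 : ∑ m : MaximalSpectrum E, Nat.card (HomOver R (Cm R E m) φ₀) ≤
      ∑ m : MaximalSpectrum E, Module.finrank K (E ⧸ m.asIdeal) :=
    Finset.sum_le_sum (fun m _ => (card_homOver_Cm_le R K E φ₀ m).2)
  have h4 := sum_finrank_quotient_le K E
  constructor
  · have h5 : ∑ m : MaximalSpectrum E, Nat.card (HomOver R (Cm R E m) φ₀) =
        ∑ m : MaximalSpectrum E, Module.finrank K (E ⧸ m.asIdeal) := by omega
    have h6 := (Finset.sum_eq_sum_iff_of_le
      (fun m _ => (card_homOver_Cm_le R K E φ₀ m).2)).mp h5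
    intro m
    exact (h6 m (Finset.mem_univ m)).ge
  · have h5 : Nat.card (HomOver R (∀ m : MaximalSpectrum E, Cm R E m) φ₀) ≤
        Nat.card (HomOver R B φ₀) := by omega
    exact (Function.Surjective.bijective_of_nat_card_le hs h5).1

end

end Groth.Agent.H6.RedCount
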