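import Mathlib

/-!
# A subalgebra of a finite étale algebra over a local ring separating geometric points
is everything (helper6)
-/

set_option autoImplicit false
universe u

namespace Groth.Agent.H6.RedCount

open TensorProduct

theorem surjective_of_restr_injective (R : Type u) [CommRing R] [IsLocalRing R]
    (B C : Type u) [CommRing B] [CommRing C] [Algebra R B] [Algebra R C] [Module.Finite R C]
    [Algebra.Etale R C] (Ψ : B →ₐ[R] C) {Ω : Type u} [Field Ω] [IsAlgClosed Ω] (φ₀ : R →+* Ω)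
    [IsLocalHom φ₀]
    (hinj : ∀ ψ₁ ψ₂ : C →+* Ω, ψ₁.comp (algebraMap R C) = φ₀ → ψ₂.comp (algebraMap R C) = φ₀ →
      ψ₁.comp Ψ.toRingHom = ψ₂.comp Ψ.toRingHom → ψ₁ = ψ₂) :
    Function.Surjective Ψ := by
  classical
  letI algRΩ : Algebra R Ω := φ₀.toAlgebra
  have halg : ∀ r : R, algebraMap R Ω r = φ₀ r := fun r => rfl
  let ιk : IsLocalRing.ResidueField R →+* Ω := IsLocalRing.ResidueField.lift φ₀
  have hιk : ∀ r, ιk (IsLocalRing.residue R r) = φ₀ r :=
    fun r => IsLocalRing.ResidueField.lift_residue_apply φ₀ r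
  -- the split algebra
  obtain ⟨N, ⟨ε⟩⟩ := Algebra.IsFiniteSplit.nonempty_algEquiv_fun Ω (Ω ⊗[R] C)
  let χ : Fin N → (C →+* Ω) := fun j =>
    { toFun := fun c => ε ((1 : Ω) ⊗ₜ[R] c) j
      map_one' := by
        change ε (1 : Ω ⊗[R] C) j = 1
        rw [map_one]; rfl
      map_mul' := fun a b => by
        have : ((1 : Ω) ⊗ₜ[R] (a * b) : Ω ⊗[R] C) = (1 ⊗ₜ a) * (1 ⊗ₜ b) := by
          rw [Algebra.TensorProduct.tmul_mul_tmul, one_mul]
        rw [this, map_mul]; rfl
      map_zero' := by rw [tmul_zero, map_zero]; rfl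
      map_add' := fun a b => by rw [tmul_add, map_add]; rfl }
  have hχ : ∀ j c, χ j c = ε ((1 : Ω) ⊗ₜ[R] c) j := fun j c => rfl
  have hχ0 : ∀ j, (χ j).comp (algebraMap R C) = φ₀ := by
    intro j
    ext r
    change ε ((1 : Ω) ⊗ₜ[R] (algebraMap R C r)) j = φ₀ r
    have h1 : ((1 : Ω) ⊗ₜ[R] (algebraMap R C r) : Ω ⊗[R] C) = algebraMap Ω (Ω ⊗[R] C) (φ₀ r) := by
      rw [Algebra.TensorProduct.algebraMap_apply, Algebra.algebraMap_eq_smul_one r,
        tmul_smul, smul_tmul', Algebra.smul_def, halg]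
      simp
    rw [h1, ε.commutes]
    rfl
  have hχinj : ∀ i j, (χ i).comp Ψ.toRingHom = (χ j).comp Ψ.toRingHom → i = j := by
    intro i j h
    have h1 := hinj _ _ (hχ0 i) (hχ0 j) h
    by_contra hij
    have key : ∀ t : Ω ⊗[R] C, ε t i = ε t j := by
      intro t
      induction t using TensorProduct.induction_on with
      | zero => simp
      | tmul a c =>
        have h2 : (a ⊗ₜ[R] c : Ω ⊗[R] C) = a • ((1 : Ω) ⊗ₜ[R] c) := by
          rw [smul_tmul', smul_eq_mul, mul_one]
        rw [h2, map_smul, Pi.smul_apply, Pi.smul_apply]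
        congr 1
        exact congrArg (fun f : C →+* Ω => f c) h1
      | add x y hx hy => rw [map_add, Pi.add_apply, Pi.add_apply, hx, hy]
    have h3 := key (ε.symm (Pi.single i 1))
    rw [ε.apply_symm_apply, Pi.single_eq_same, Pi.single_eq_of_ne (Ne.symm hij)] at h3
    exact one_ne_zero h3
  -- Nakayama
  rw [← AlgHom.range_eq_top]
  apply Subalgebra.toSubmodule_injective
  rw [Algebra.top_toSubmodule, ← IsLocalRing.map_tensorProduct_mk_eq_top]
  let W : Submodule (IsLocalRing.ResidueField R) (IsLocalRing.ResidueField R ⊗[R] C) :=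
    Submodule.span (IsLocalRing.ResidueField R)
      ((TensorProduct.mk R (IsLocalRing.ResidueField R) C 1) '' (Ψ.range : Set C))
  have h1 : (Subalgebra.toSubmodule Ψ.range).map
      (TensorProduct.mk R (IsLocalRing.ResidueField R) C 1) = W.restrictScalars R := by
    rw [Submodule.restrictScalars_span R (IsLocalRing.ResidueField R) Ideal.Quotient.mk_surjective,
      ← Submodule.map_span]
    congr 1
    exact (Submodule.span_eq _).symm
  rw [h1, Submodule.restrictScalars_eq_top_iff]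
  by_contra hW
  obtain ⟨lam, hlam0, hlamW⟩ := Submodule.exists_le_ker_of_lt_top W (lt_top_iff_ne_top.mpr hW)
  let Λ : C →ₗ[R] Ω :=
    { toFun := fun c => ιk (lam ((1 : IsLocalRing.ResidueField R) ⊗ₜ[R] c))
      map_add' := fun a b => by rw [tmul_add, map_add, map_add]
      map_smul' := fun r c => by
        have h2 : ((1 : IsLocalRing.ResidueField R) ⊗ₜ[R] (r • c) :
            IsLocalRing.ResidueField R ⊗[R] C) =
            (IsLocalRing.residue R r) • ((1 : IsLocalRing.ResidueField R) ⊗ₜ[R] c) := by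
          rw [tmul_smul, smul_tmul', smul_tmul', smul_eq_mul, mul_one, Algebra.smul_def, mul_one]
          rfl
        rw [h2, map_smul, smul_eq_mul, map_mul, hιk, RingHom.id_apply, Algebra.smul_def, halg] }
  have hΛ : ∀ c, Λ c = ιk (lam ((1 : IsLocalRing.ResidueField R) ⊗ₜ[R] c)) := fun c => rfl
  let g : (Fin N → Ω) →ₗ[Ω] Ω := (Λ.liftBaseChange Ω).comp ε.symm.toLinearMap
  have hg : ∀ c, Λ c = ∑ j, χ j c • g (fun j' => if j = j' then 1 else 0) := by
    intro c
    have h2 := LinearMap.pi_apply_eq_sum_univ g (ε ((1 : Ω) ⊗ₜ[R] c))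
    have h3 : g (ε ((1 : Ω) ⊗ₜ[R] c)) = Λ c := by
      change (Λ.liftBaseChange Ω) (ε.symm (ε ((1 : Ω) ⊗ₜ[R] c))) = Λ c
      rw [ε.symm_apply_apply, LinearMap.liftBaseChange_one_tmul]
    rw [← h3, h2]
    exact Finset.sum_congr rfl (fun j _ => rfl)
  -- Dedekind
  let ρ : Fin N → (B →* Ω) := fun j => ((χ j).comp Ψ.toRingHom : B →+* Ω)
  have hρinj : Function.Injective ρ := by
    intro i j hij
    apply hχinj
    ext b
    exact congrArg (fun f : B →* Ω => f b) hij
  have hli := (linearIndependent_monoidHom B Ω).comp ρ hρinj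
  have hzero : ∑ j, g (fun j' => if j = j' then 1 else 0) • ((fun f : B →* Ω => (f : B → Ω)) ∘ ρ) j
      = 0 := by
    funext b
    simp only [Finset.sum_apply, Pi.smul_apply, Function.comp_apply, Pi.zero_apply]
    have h4 : Λ (Ψ b) = 0 := by
      rw [hΛ]
      have : ((1 : IsLocalRing.ResidueField R) ⊗ₜ[R] (Ψ b)) ∈ W :=
        Submodule.subset_span ⟨Ψ b, ⟨b, rfl⟩, rfl⟩
      have h5 := hlamW this
      rw [LinearMap.mem_ker] at h5
      rw [h5, map_zero]
    rw [hg] at h4
    refine Eq.trans ?_ h4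
    refine Finset.sum_congr rfl (fun j _ => ?_)
    rw [smul_eq_mul, smul_eq_mul, mul_comm]
    rfl
  have ha := Fintype.linearIndependent_iff.mp hli _ hzero
  apply hlam0
  apply LinearMap.ext
  intro v
  obtain ⟨c, rfl⟩ := TensorProduct.mk_surjective R C (IsLocalRing.ResidueField R)
    Ideal.Quotient.mk_surjective v
  have h6 : Λ c = 0 := by
    rw [hg]
    exact Finset.sum_eq_zero (fun j _ => by rw [ha j, smul_zero])
  rw [hΛ] at h6
  have h7 := (map_eq_zero_iff ιk ιk.injective).mp h6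
  simpa using h7

end Groth.Agent.H6.RedCount
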