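import Mathlib
import Groth.Agent.Lib.Helper6.RedCount4
import Groth.Agent.Lib.Helper6.RedCount5

/-!
# The local criterion: a reduced integral algebra over a normal local domain with the maximal
number of geometric points is finite étale (helper6)
-/

set_option autoImplicit false
universe u

namespace Groth.Agent.H6.RedCount

open Groth.Agent.H6.FibCount

attribute [local instance] fieldQuot

section

variable (R K : Type u) [CommRing R] [IsDomain R] [IsIntegrallyClosed R] [IsLocalRing R]
  [Field K] [Algebra R K] [IsFractionRing R K]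
  (B : Type u) [CommRing B] [Algebra R B] [Algebra.IsIntegral R B] [IsReduced B]
  (E : Type u) [CommRing E] [Algebra K E] [Algebra R E] [IsScalarTower R K E] [Module.Finite K E]
  (ι : B →ₐ[R] E) {Ω : Type u} [Field Ω] [IsAlgClosed Ω] (φ₀ : R →+* Ω) [IsLocalHom φ₀]

theorem finite_etale_of_finrank_le (hι : Function.Injective ι)
    (h : Module.finrank K E ≤ Nat.card (HomOver R B φ₀)) :
    Module.Finite R B ∧ Algebra.Etale R B := by
  haveI : IsArtinianRing E := IsArtinianRing.of_finite K E
  obtain ⟨hm, hrinj⟩ := eq_of_finrank_le R K B E ι φ₀ hι h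
  have hC : ∀ m : MaximalSpectrum E, Module.Finite R (Cm R E m) ∧ Algebra.Etale R (Cm R E m) := by
    intro m
    obtain ⟨f, hf, key⟩ := exists_away_of_finrank_le R K (E ⧸ m.asIdeal) (Cm R E m) φ₀ (hm m)
    have hu : IsUnit f := isUnit_of_map_unit φ₀ f (IsUnit.mk0 _ hf)
    haveI : IsLocalization.Away f R := IsLocalization.of_le_isUnit (by
      rintro _ ⟨n, rfl⟩
      exact hu.pow n)
    haveI : IsLocalization.Away (algebraMap R (Cm R E m) f) (Cm R E m) :=
      IsLocalization.of_le_isUnit (by
        rintro _ ⟨n, rfl⟩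
        exact (hu.map _).pow n)
    exact key R (Cm R E m)
  haveI : ∀ m : MaximalSpectrum E, Module.Finite R (Cm R E m) := fun m => (hC m).1
  haveI : ∀ m : MaximalSpectrum E, Algebra.Etale R (Cm R E m) := fun m => (hC m).2
  have hsurj := surjective_of_restr_injective R B (∀ m : MaximalSpectrum E, Cm R E m)
    (Psi R B E ι) φ₀ (fun ψ₁ ψ₂ h1 h2 h12 => by
      have := hrinj (a₁ := ⟨ψ₁, h1⟩) (a₂ := ⟨ψ₂, h2⟩) (Subtype.ext h12)
      exact congrArg Subtype.val this)
  let e : B ≃ₐ[R] (∀ m : MaximalSpectrum E, Cm R E m) :=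
    AlgEquiv.ofBijective (Psi R B E ι) ⟨Psi_injective R K B E ι hι, hsurj⟩
  exact ⟨Module.Finite.equiv e.symm.toLinearEquiv, Algebra.Etale.of_equiv e.symm⟩

end

end Groth.Agent.H6.RedCount
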