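import Mathlib
import Groth.Agent.Lib.Helper6.RedCount6

/-!
# The criterion over a domain which is normal at a prime: localization (helper6)
-/

set_option autoImplicit false
universe u

namespace Groth.Agent.H6.RedCount

open Groth.Agent.H6.FibCount

section

variable (A K : Type u) [CommRing A] [IsDomain A] (p : Ideal A) [p.IsPrime]
  [IsIntegrallyClosed (Localization.AtPrime p)] [Field K] [Algebra A K] [IsFractionRing A K]
  (B : Type u) [CommRing B] [Algebra A B] [Algebra.IsIntegral A B] [IsReduced B]
  (E : Type u) [CommRing E] [Algebra K E] [Algebra A E] [IsScalarTower A K E] [Module.Finite K E]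
  (ι : B →ₐ[A] E) {Ω : Type u} [Field Ω] [IsAlgClosed Ω] (φ₀ : A →+* Ω)

theorem local_main (hι : Function.Injective ι) (hker : RingHom.ker φ₀ = p) :
    (Finite (HomOver A B φ₀) ∧ Nat.card (HomOver A B φ₀) ≤ Module.finrank K E) ∧
    (Module.finrank K E ≤ Nat.card (HomOver A B φ₀) →
      Module.Finite (Localization.AtPrime p)
        (Localization (Algebra.algebraMapSubmonoid B p.primeCompl)) ∧
      Algebra.Etale (Localization.AtPrime p)
        (Localization (Algebra.algebraMapSubmonoid B p.primeCompl))) := by
  have hM : p.primeCompl ≤ nonZeroDivisors A := p.primeCompl_le_nonZeroDivisors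
  haveI : IsDomain (Localization.AtPrime p) :=
    IsLocalization.isDomain_localization hM
  -- `R → K`
  letI algRK : Algebra (Localization.AtPrime p) K :=
    IsLocalization.localizationAlgebraOfSubmonoidLe (Localization.AtPrime p) K p.primeCompl
      (nonZeroDivisors A) hM
  haveI towARK : IsScalarTower A (Localization.AtPrime p) K :=
    IsLocalization.localization_isScalarTower_of_submonoid_le (Localization.AtPrime p) K
      p.primeCompl (nonZeroDivisors A) hM
  haveI : IsFractionRing (Localization.AtPrime p) K :=
    IsFractionRing.isFractionRing_of_isDomain_of_isLocalization p.primeCompl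
      (Localization.AtPrime p) K
  -- `R → E`
  letI algRE : Algebra (Localization.AtPrime p) E :=
    ((algebraMap K E).comp (algebraMap (Localization.AtPrime p) K)).toAlgebra
  haveI towRKE : IsScalarTower (Localization.AtPrime p) K E :=
    IsScalarTower.of_algebraMap_eq (fun r => rfl)
  haveI towARE : IsScalarTower A (Localization.AtPrime p) E :=
    IsScalarTower.of_algebraMap_eq (fun a => by
      rw [IsScalarTower.algebraMap_apply A K E, IsScalarTower.algebraMap_apply A
        (Localization.AtPrime p) K]
      rfl)
  -- `B'`
  haveI : Algebra.IsIntegral (Localization.AtPrime p)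
      (Localization (Algebra.algebraMapSubmonoid B p.primeCompl)) := by
    have h1 := isIntegral_localization (R := A) (S := B) (Rₘ := Localization.AtPrime p)
      (Sₘ := Localization (Algebra.algebraMapSubmonoid B p.primeCompl)) (M := p.primeCompl)
    exact ⟨h1⟩
  -- `ι'`
  have hunit : ∀ y : Algebra.algebraMapSubmonoid B p.primeCompl, IsUnit (ι.toRingHom y) := by
    rintro ⟨_, s, hs, rfl⟩
    change IsUnit (ι (algebraMap A B s))
    rw [ι.commutes, IsScalarTower.algebraMap_apply A K E]
    apply IsUnit.map
    apply IsUnit.mk0
    intro h0
    have : s = 0 := IsFractionRing.injective A K (by rw [h0, map_zero])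
    exact hs (this ▸ p.zero_mem)
  let ι'r : Localization (Algebra.algebraMapSubmonoid B p.primeCompl) →+* E :=
    IsLocalization.lift hunit
  have hι'r : ∀ b : B, ι'r (algebraMap B _ b) = ι b := fun b => IsLocalization.lift_eq hunit b
  let ι' : Localization (Algebra.algebraMapSubmonoid B p.primeCompl) →ₐ[Localization.AtPrime p] E :=
    { ι'r with
      commutes' := fun r => by
        have h1 : (ι'r.comp (algebraMap (Localization.AtPrime p)
            (Localization (Algebra.algebraMapSubmonoid B p.primeCompl)))) =
            algebraMap (Localization.AtPrime p) E := by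
          apply IsLocalization.ringHom_ext p.primeCompl
          ext a
          simp only [RingHom.coe_comp, Function.comp_apply]
          rw [← IsScalarTower.algebraMap_apply A (Localization.AtPrime p)
            (Localization (Algebra.algebraMapSubmonoid B p.primeCompl)),
            IsScalarTower.algebraMap_apply A B
            (Localization (Algebra.algebraMapSubmonoid B p.primeCompl)), hι'r, ι.commutes,
            ← IsScalarTower.algebraMap_apply A (Localization.AtPrime p) E]
        exact congrArg (fun f => f r) h1 }
  have hι' : Function.Injective ι' := by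
    change Function.Injective ι'r
    rw [IsLocalization.lift_injective_iff]
    intro x y
    constructor
    · intro h; exact congrArg ι'r h |> fun h' => by rwa [hι'r, hι'r] at h'
    · intro h; rw [hι h]
  -- `φ₀'`
  have hunit0 : ∀ y : p.primeCompl, IsUnit (φ₀ y) := by
    intro y
    apply IsUnit.mk0
    intro h0
    have : (y : A) ∈ RingHom.ker φ₀ := h0
    rw [hker] at this
    exact y.2 this
  let φ₀' : Localization.AtPrime p →+* Ω := IsLocalization.lift hunit0
  have hφ₀' : ∀ a : A, φ₀' (algebraMap A _ a) = φ₀ a := fun a => IsLocalization.lift_eq hunit0 a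
  haveI : IsLocalHom φ₀' := by
    constructor
    intro r hr
    obtain ⟨a, s, rfl⟩ := IsLocalization.exists_mk'_eq p.primeCompl r
    have h1 : φ₀' (IsLocalization.mk' (Localization.AtPrime p) a s) * φ₀ s = φ₀ a := by
      rw [← hφ₀' s, ← map_mul, IsLocalization.mk'_spec, hφ₀']
    have h2 : φ₀ a ≠ 0 := by
      rw [← h1]
      exact mul_ne_zero hr.ne_zero (hunit0 s).ne_zero
    have h3 : a ∈ p.primeCompl := by
      intro ha
      rw [← hker] at ha
      exact h2 ha
    exact (IsLocalization.AtPrime.isUnit_mk'_iff (Localization.AtPrime p) p a s).mpr h3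
  -- the injection of fibres
  have hinjfib : ∃ r : HomOver A B φ₀ → HomOver (Localization.AtPrime p)
      (Localization (Algebra.algebraMapSubmonoid B p.primeCompl)) φ₀', Function.Injective r := by
    have hu : ∀ (φ : HomOver A B φ₀) (y : Algebra.algebraMapSubmonoid B p.primeCompl),
        IsUnit (φ.1 y) := by
      rintro φ ⟨_, s, hs, rfl⟩
      have : φ.1 (algebraMap A B s) = φ₀ s := congrArg (fun f : A →+* Ω => f s) φ.2
      change IsUnit (φ.1 (algebraMap A B s))
      rw [this]
      exact hunit0 ⟨s, hs⟩
    refine ⟨fun φ => ⟨IsLocalization.lift (hu φ), ?_⟩, ?_⟩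
    · apply IsLocalization.ringHom_ext p.primeCompl
      ext a
      simp only [RingHom.coe_comp, Function.comp_apply]
      rw [← IsScalarTower.algebraMap_apply A (Localization.AtPrime p)
        (Localization (Algebra.algebraMapSubmonoid B p.primeCompl)),
        IsScalarTower.algebraMap_apply A B
        (Localization (Algebra.algebraMapSubmonoid B p.primeCompl)), IsLocalization.lift_eq, hφ₀']
      exact congrArg (fun f : A →+* Ω => f a) φ.2
    · intro φ ψ h
      apply Subtype.ext
      ext b
      have h1 := congrArg (fun f : HomOver (Localization.AtPrime p)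
        (Localization (Algebra.algebraMapSubmonoid B p.primeCompl)) φ₀' =>
          f.1 (algebraMap B _ b)) h
      simpa [IsLocalization.lift_eq] using h1
  obtain ⟨r, hr⟩ := hinjfib
  obtain ⟨hfin, hle⟩ := card_homOver_le (Localization.AtPrime p) K
    (Localization (Algebra.algebraMapSubmonoid B p.primeCompl)) E ι' φ₀' hι'
  have hrle := Nat.card_le_card_of_injective r hr
  refine ⟨⟨Finite.of_injective r hr, hrle.trans hle⟩, fun h => ?_⟩
  exact finite_etale_of_finrank_le (Localization.AtPrime p) K
    (Localization (Algebra.algebraMapSubmonoid B p.primeCompl)) E ι' φ₀' hι' (h.trans hrle)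

end

end Groth.Agent.H6.RedCount
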