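import Mathlib
import Groth.Agent.Lib.Helper6.RedCount7
import Groth.Agent.Lib.Helper6.FibCount2

/-!
# The criterion over a domain which is normal at a prime: spreading out (helper6)
-/

set_option autoImplicit false
universe u

namespace Groth.Agent.H6.RedCount

open Groth.Agent.H6.FibCount

/-- A finite algebra over a Noetherian ring whose localization at `p` is étale is étale at all
primes over `p`. -/
theorem exists_etale_away_of_localization (A B : Type u) [CommRing A] [CommRing B] [Algebra A B]
    [IsNoetherianRing A] [Module.Finite A B] (p : Ideal A) [p.IsPrime]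
    (het : Algebra.Etale (Localization.AtPrime p)
      (Localization (Algebra.algebraMapSubmonoid B p.primeCompl)))
    (Q : Ideal B) [Q.IsPrime] (hQ : Q.comap (algebraMap A B) = p) :
    ∃ g : B, g ∉ Q ∧ Algebra.Etale A (Localization.Away g) := by
  haveI : Algebra.FinitePresentation A B :=
    Algebra.FinitePresentation.of_finiteType.mp inferInstance
  have hle : Algebra.algebraMapSubmonoid B p.primeCompl ≤ Q.primeCompl := by
    rintro _ ⟨s, hs, rfl⟩
    intro hmem
    apply hs
    rw [← hQ]
    exact hmem
  letI algB'BQ : Algebra (Localization (Algebra.algebraMapSubmonoid B p.primeCompl))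
      (Localization.AtPrime Q) :=
    IsLocalization.localizationAlgebraOfSubmonoidLe _ _ (Algebra.algebraMapSubmonoid B p.primeCompl)
      Q.primeCompl hle
  haveI towBB'BQ : IsScalarTower B (Localization (Algebra.algebraMapSubmonoid B p.primeCompl))
      (Localization.AtPrime Q) :=
    IsLocalization.localization_isScalarTower_of_submonoid_le _ _
      (Algebra.algebraMapSubmonoid B p.primeCompl) Q.primeCompl hle
  haveI : IsLocalization (Q.primeCompl.map (algebraMap B
      (Localization (Algebra.algebraMapSubmonoid B p.primeCompl)))) (Localization.AtPrime Q) :=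
    IsLocalization.isLocalization_of_submonoid_le _ _
      (Algebra.algebraMapSubmonoid B p.primeCompl) Q.primeCompl hle
  haveI : Algebra.FormallyEtale (Localization (Algebra.algebraMapSubmonoid B p.primeCompl))
      (Localization.AtPrime Q) :=
    Algebra.FormallyEtale.of_isLocalization (Q.primeCompl.map (algebraMap B
      (Localization (Algebra.algebraMapSubmonoid B p.primeCompl))))
  haveI : Algebra.FormallyEtale A (Localization.AtPrime p) :=
    Algebra.FormallyEtale.of_isLocalization p.primeCompl
  haveI : Algebra.FormallyEtale A (Localization (Algebra.algebraMapSubmonoid B p.primeCompl)) :=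
    Algebra.FormallyEtale.comp A (Localization.AtPrime p) _
  haveI : IsScalarTower A (Localization (Algebra.algebraMapSubmonoid B p.primeCompl))
      (Localization.AtPrime Q) := IsScalarTower.of_algebraMap_eq (fun a => by
    rw [IsScalarTower.algebraMap_apply A B (Localization.AtPrime Q),
      IsScalarTower.algebraMap_apply B (Localization (Algebra.algebraMapSubmonoid B p.primeCompl))
        (Localization.AtPrime Q),
      ← IsScalarTower.algebraMap_apply A B
        (Localization (Algebra.algebraMapSubmonoid B p.primeCompl))])
  haveI : Algebra.IsEtaleAt A Q :=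
    Algebra.FormallyEtale.comp A (Localization (Algebra.algebraMapSubmonoid B p.primeCompl)) _
  obtain ⟨g, hg, hge⟩ := Algebra.exists_etale_of_isEtaleAt (R := A) Q
  exact ⟨g, hg, hge⟩

section

variable (A K : Type u) [CommRing A] [IsDomain A] [IsNoetherianRing A] (p : Ideal A) [p.IsPrime]
  [IsIntegrallyClosed (Localization.AtPrime p)] [Field K] [Algebra A K] [IsFractionRing A K]
  (B : Type u) [CommRing B] [Algebra A B] [Module.Finite A B] [IsReduced B]
  (E : Type u) [CommRing E] [Algebra K E] [Algebra A E] [IsScalarTower A K E] [Module.Finite K E]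
  (ι : B →ₐ[A] E) {Ω : Type u} [Field Ω] [IsAlgClosed Ω] (φ₀ : A →+* Ω)

theorem exists_away_finite_etale_of_finrank_le (hι : Function.Injective ι)
    (hker : RingHom.ker φ₀ = p) (h : Module.finrank K E ≤ Nat.card (HomOver A B φ₀)) :
    ∃ f : A, f ∉ p ∧ ∀ (A' B' : Type u) [CommRing A'] [CommRing B'] [Algebra A A'] [Algebra A B']
      [Algebra A' B'] [Algebra B B'] [IsScalarTower A A' B'] [IsScalarTower A B B']
      [IsLocalization.Away f A'] [IsLocalization.Away (algebraMap A B f) B'],
      Module.Finite A' B' ∧ Algebra.Etale A' B' := by
  haveI : Algebra.IsIntegral A B := Algebra.IsIntegral.of_finite A B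
  obtain ⟨-, het⟩ := ((local_main A K p B E ι φ₀ hι hker).2 h)
  exact exists_away_finite_etale p (fun Q hQ hQp => by
    haveI := hQ
    exact exists_etale_away_of_localization A B p het Q hQp)

end

end Groth.Agent.H6.RedCount
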