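import Mathlib
import Groth.Agent.Lib.Helper6.RedCount8
import Groth.Agent.Lib.Helper6.QfDeg2
import Groth.Agent.Lib.Helper6.QfDeg6
import Groth.Agent.Lib.Helper6.QfDeg7
import Groth.Agent.Lib.Helper6.QfDeg8
import Groth.Agent.Lib.Helper6.QfDeg9

/-!
# The ring-level data of a quasi-finite morphism over an affine open (helper6)
-/

set_option autoImplicit false
universe u
open CategoryTheory CategoryTheory.Limits AlgebraicGeometry TopologicalSpace Opposite

namespace Groth.Agent.H6.QfDeg

open Groth.Agent.H6.FibCount Groth.Agent.H6.RedCount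

section

variable {X Y : Scheme.{u}} (f : X ⟶ Y) [IsSeparated f] [LocallyQuasiFinite f]
  [LocallyOfFiniteType f] [QuasiCompact f] [IrreducibleSpace Y] [IsLocallyNoetherian Y]
  [IsReduced X]

theorem finite_generic_fibre :
    ((pullback.snd f (Y.fromSpecResidueField (genericPoint Y))).appTop.hom.comp
      (Scheme.ΓSpecIso (Y.residueField (genericPoint Y))).inv.hom).Finite := by
  haveI : LocallyQuasiFinite (pullback.snd f (Y.fromSpecResidueField (genericPoint Y))) :=
    MorphismProperty.pullback_snd (P := @LocallyQuasiFinite) _ _ inferInstance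
  haveI : QuasiCompact (pullback.snd f (Y.fromSpecResidueField (genericPoint Y))) :=
    MorphismProperty.pullback_snd (P := @QuasiCompact) _ _ inferInstance
  haveI : IsFinite (pullback.snd f (Y.fromSpecResidueField (genericPoint Y))) :=
    IsFinite.of_locallyQuasiFinite _
  exact RingHom.Finite.comp
    (Scheme.Hom.finite_appTop (pullback.snd f (Y.fromSpecResidueField (genericPoint Y))))
    (RingHom.Finite.of_surjective _ (ConcreteCategory.bijective_of_isIso
      (Scheme.ΓSpecIso (Y.residueField (genericPoint Y))).inv).2)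

theorem lemmaP (hdom : ∀ x : X, (∀ x' : X, x' ⤳ x → x' = x) → f.base x = genericPoint Y)
    (y : Y) (hy : IsIntegrallyClosed (Y.presheaf.stalk y))
    {V : Y.Opens} (hV : IsAffineOpen V) (hyV : y ∈ V) [IsDomain Γ(Y, V)]
    (Ω : Type u) [Field Ω] [IsAlgClosed Ω] (ξ : Spec (CommRingCat.of Ω) ⟶ Y)
    (hξ : ξ.base (IsLocalRing.closedPoint Ω) = y) (hξV : ⊤ ≤ ξ ⁻¹ᵁ V) :
    letI := (((pullback.snd f (Y.fromSpecResidueField (genericPoint Y))).appTop).hom.comp
      (Scheme.ΓSpecIso (Y.residueField (genericPoint Y))).inv.hom).toAlgebra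
    letI n := Module.finrank (Y.residueField (genericPoint Y))
      Γ(pullback f (Y.fromSpecResidueField (genericPoint Y)), ⊤)
    letI := (f.fromNormalization.app V).hom.toAlgebra
    (Finite (HomOver Γ(Y, V) Γ(f.normalization, f.fromNormalization ⁻¹ᵁ V) (ptHom Ω ξ hξV)) ∧
      Nat.card (HomOver Γ(Y, V) Γ(f.normalization, f.fromNormalization ⁻¹ᵁ V)
        (ptHom Ω ξ hξV)) ≤ n) ∧
    (Module.Finite Γ(Y, V) Γ(f.normalization, f.fromNormalization ⁻¹ᵁ V) →
      n ≤ Nat.card (HomOver Γ(Y, V) Γ(f.normalization, f.fromNormalization ⁻¹ᵁ V)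
        (ptHom Ω ξ hξV)) →
      ∃ a : Γ(Y, V), y ∈ Y.basicOpen a ∧
        (f.fromNormalization.app (Y.basicOpen a)).hom.Finite ∧
        (f.fromNormalization.app (Y.basicOpen a)).hom.Etale) := by
  have hη : genericPoint Y ∈ V :=
    ((genericPoint_spec Y).mem_open_set_iff V.isOpen).mpr ⟨y, trivial, hyV⟩
  haveI : IsNoetherianRing Γ(Y, V) := IsLocallyNoetherian.component_noetherian ⟨V, hV⟩
  have hV' : IsAffineOpen (f.fromNormalization ⁻¹ᵁ V) := hV.preimage f.fromNormalization
  -- `A → K`
  letI algAK : Algebra Γ(Y, V) (Y.residueField (genericPoint Y)) :=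
    (Y.evaluation V (genericPoint Y) hη).hom.toAlgebra
  haveI := isFractionRing_residueField_genericPoint hV hη
  -- `K → E`
  letI algKE : Algebra (Y.residueField (genericPoint Y))
      Γ(pullback f (Y.fromSpecResidueField (genericPoint Y)), ⊤) :=
    (((pullback.snd f (Y.fromSpecResidueField (genericPoint Y))).appTop).hom.comp
      (Scheme.ΓSpecIso (Y.residueField (genericPoint Y))).inv.hom).toAlgebra
  letI algAE : Algebra Γ(Y, V) Γ(pullback f (Y.fromSpecResidueField (genericPoint Y)), ⊤) :=
    ((algebraMap (Y.residueField (genericPoint Y))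
      Γ(pullback f (Y.fromSpecResidueField (genericPoint Y)), ⊤)).comp
      (algebraMap Γ(Y, V) (Y.residueField (genericPoint Y)))).toAlgebra
  haveI : IsScalarTower Γ(Y, V) (Y.residueField (genericPoint Y))
      Γ(pullback f (Y.fromSpecResidueField (genericPoint Y)), ⊤) :=
    IsScalarTower.of_algebraMap_eq (fun _ => rfl)
  haveI : Module.Finite (Y.residueField (genericPoint Y))
      Γ(pullback f (Y.fromSpecResidueField (genericPoint Y)), ⊤) := finite_generic_fibre f
  -- `A → B`
  letI algAB : Algebra Γ(Y, V) Γ(f.normalization, f.fromNormalization ⁻¹ᵁ V) :=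
    (f.fromNormalization.app V).hom.toAlgebra
  haveI : Algebra.IsIntegral Γ(Y, V) Γ(f.normalization, f.fromNormalization ⁻¹ᵁ V) :=
    ⟨IsIntegralHom.isIntegral_app f.fromNormalization V hV⟩
  -- `ι`
  have hρ : (pullback.fst f (Y.fromSpecResidueField (genericPoint Y)) ≫ f.toNormalization) ≫
      f.fromNormalization = pullback.snd f (Y.fromSpecResidueField (genericPoint Y)) ≫
        Y.fromSpecResidueField (genericPoint Y) := by
    rw [Category.assoc, f.toNormalization_fromNormalization, pullback.condition]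
  have hρV : (⊤ : (pullback f (Y.fromSpecResidueField (genericPoint Y))).Opens) ≤
      (pullback.fst f (Y.fromSpecResidueField (genericPoint Y)) ≫ f.toNormalization) ⁻¹ᵁ
        (f.fromNormalization ⁻¹ᵁ V) := by
    rw [← Scheme.Hom.comp_preimage, hρ]
    intro z _
    change (pullback.snd f (Y.fromSpecResidueField (genericPoint Y)) ≫
      Y.fromSpecResidueField (genericPoint Y)).base z ∈ V
    rw [Scheme.Hom.comp_base, TopCat.comp_app, Scheme.fromSpecResidueField_apply]
    exact hη
  let ι : Γ(f.normalization, f.fromNormalization ⁻¹ᵁ V) →ₐ[Γ(Y, V)]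
      Γ(pullback f (Y.fromSpecResidueField (genericPoint Y)), ⊤) :=
    { ((pullback.fst f (Y.fromSpecResidueField (genericPoint Y)) ≫ f.toNormalization).appLE
        (f.fromNormalization ⁻¹ᵁ V) ⊤ hρV).hom with
      commutes' := fun a => appLE_fibre_app f (genericPoint Y) hV hη f.fromNormalization _ hρ hρV a }
  have hι : Function.Injective ι := by
    have he1 : f ⁻¹ᵁ V ≤ f.toNormalization ⁻¹ᵁ (f.fromNormalization ⁻¹ᵁ V) := by
      rw [← Scheme.Hom.comp_preimage, f.toNormalization_fromNormalization]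
    have he2 : (⊤ : (pullback f (Y.fromSpecResidueField (genericPoint Y))).Opens) ≤
        (pullback.fst f (Y.fromSpecResidueField (genericPoint Y))) ⁻¹ᵁ (f ⁻¹ᵁ V) := by
      rw [← Scheme.Hom.comp_preimage, pullback.condition]
      intro z _
      change (pullback.snd f (Y.fromSpecResidueField (genericPoint Y)) ≫
        Y.fromSpecResidueField (genericPoint Y)).base z ∈ V
      rw [Scheme.Hom.comp_base, TopCat.comp_app, Scheme.fromSpecResidueField_apply]
      exact hη
    have hcomp : f.toNormalization.appLE (f.fromNormalization ⁻¹ᵁ V) (f ⁻¹ᵁ V) he1 ≫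
        (pullback.fst f (Y.fromSpecResidueField (genericPoint Y))).appLE (f ⁻¹ᵁ V) ⊤ he2 =
        (pullback.fst f (Y.fromSpecResidueField (genericPoint Y)) ≫ f.toNormalization).appLE
        (f.fromNormalization ⁻¹ᵁ V) ⊤ hρV := Scheme.Hom.appLE_comp_appLE _ _ _ _ _ _ _
    have hinj1 : Function.Injective
        (f.toNormalization.appLE (f.fromNormalization ⁻¹ᵁ V) (f ⁻¹ᵁ V) he1).hom := by
      letI := (f.app V).hom.toAlgebra
      have h1 := f.normalizationObjIso_hom_val hV
      have h2 : Function.Injective ((f.normalizationObjIso hV).hom ≫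
          CommRingCat.ofHom (Subalgebra.val _).toRingHom).hom := by
        rw [CommRingCat.hom_comp, RingHom.coe_comp]
        exact Subtype.val_injective.comp
          (ConcreteCategory.bijective_of_isIso (f.normalizationObjIso hV).hom).1
      rw [h1] at h2
      exact h2
    have hinj2 : Function.Injective
        ((pullback.fst f (Y.fromSpecResidueField (genericPoint Y))).appLE (f ⁻¹ᵁ V) ⊤ he2).hom := by
      rw [injective_iff_map_eq_zero]
      intro s hs
      exact eq_zero_of_appLE_fibre_eq_zero f (genericPoint Y) hdom (f ⁻¹ᵁ V) he2 s hs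
    change Function.Injective ((pullback.fst f (Y.fromSpecResidueField (genericPoint Y)) ≫
      f.toNormalization).appLE (f.fromNormalization ⁻¹ᵁ V) ⊤ hρV).hom
    rw [← hcomp, CommRingCat.hom_comp, RingHom.coe_comp]
    exact hinj2.comp hinj1
  -- the prime
  haveI : IsIntegrallyClosed (Localization.AtPrime (hV.primeIdealOf ⟨y, hyV⟩).asIdeal) := by
    letI := TopCat.Presheaf.algebra_section_stalk Y.presheaf (⟨y, hyV⟩ : V)
    haveI := hV.isLocalization_stalk ⟨y, hyV⟩
    haveI := hy
    exact IsIntegrallyClosed.of_equiv (IsLocalization.algEquiv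
      (hV.primeIdealOf ⟨y, hyV⟩).asIdeal.primeCompl (Y.presheaf.stalk y)
      (Localization.AtPrime (hV.primeIdealOf ⟨y, hyV⟩).asIdeal)).toRingEquiv
  have hker : RingHom.ker (ptHom Ω ξ hξV) = (hV.primeIdealOf ⟨y, hyV⟩).asIdeal := by
    rw [ker_ptHom hV Ω ξ hξV]
    congr 2
    exact Subtype.ext hξ
  obtain ⟨hP1, -⟩ := local_main Γ(Y, V) (Y.residueField (genericPoint Y))
    (hV.primeIdealOf ⟨y, hyV⟩).asIdeal Γ(f.normalization, f.fromNormalization ⁻¹ᵁ V)
    Γ(pullback f (Y.fromSpecResidueField (genericPoint Y)), ⊤) ι (ptHom Ω ξ hξV) hι hker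
  refine ⟨hP1, fun hfin hn => ?_⟩
  haveI := hfin
  obtain ⟨a, hap, key⟩ := exists_away_finite_etale_of_finrank_le Γ(Y, V)
    (Y.residueField (genericPoint Y))
    (hV.primeIdealOf ⟨y, hyV⟩).asIdeal Γ(f.normalization, f.fromNormalization ⁻¹ᵁ V)
    Γ(pullback f (Y.fromSpecResidueField (genericPoint Y)), ⊤) ι (ptHom Ω ξ hξV) hι hker hn
  exact ⟨a, mem_basicOpen_of_notMem_primeIdealOf hV y hyV a hap,
    finite_etale_app_basicOpen f.fromNormalization hV hV' a key⟩

end

end Groth.Agent.H6.QfDeg
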