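import Mathlib
import Groth.Agent.Lib.Helper6.QfDeg2
import Groth.Agent.Lib.Helper6.QfDeg3

/-!
# Geometric points of an integral morphism through a given point of the fibre (helper6)
-/

set_option autoImplicit false
universe u
open CategoryTheory CategoryTheory.Limits AlgebraicGeometry TopologicalSpace Opposite

namespace Groth.Agent.H6.QfDeg

open Groth.Agent.H6.FibCount

/-- The bijection between the lifts of a geometric point to `X'` and the ring homomorphisms out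
of the sections over the preimage of an affine open: surjectivity. -/
theorem exists_lift_of_homOver {X' Y : Scheme.{u}} (ν : X' ⟶ Y) (Ω : Type u) [Field Ω]
    (ξ : Spec (CommRingCat.of Ω) ⟶ Y) {V : Y.Opens} (hV : IsAffineOpen V)
    (hV' : IsAffineOpen (ν ⁻¹ᵁ V)) (hξV : ⊤ ≤ ξ ⁻¹ᵁ V)
    (φ : Γ(X', ν ⁻¹ᵁ V) →+* Ω) (hφ : φ.comp (ν.app V).hom = ptHom Ω ξ hξV) :
    ∃ (ζ : Spec (CommRingCat.of Ω) ⟶ X') (h : ⊤ ≤ ζ ⁻¹ᵁ (ν ⁻¹ᵁ V)),
      ζ ≫ ν = ξ ∧ ptHom Ω ζ h = φ := by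
  refine ⟨Spec.map (CommRingCat.ofHom φ) ≫ hV'.fromSpec, le_preimage_of_fromSpec hV' Ω φ, ?_,
    ptHom_fromSpec hV' Ω φ⟩
  apply ptHom_injective hV Ω _ ξ
    (by rw [Scheme.Hom.comp_preimage]; exact le_preimage_of_fromSpec hV' Ω φ) hξV
  rw [ptHom_comp Ω ν _ (le_preimage_of_fromSpec hV' Ω φ), ptHom_fromSpec hV' Ω φ, hφ]

theorem exists_lift_of_point {X' Y : Scheme.{u}} (ν : X' ⟶ Y) [IsIntegralHom ν] (Ω : Type u)
    [Field Ω] [IsAlgClosed Ω] (ξ : Spec (CommRingCat.of Ω) ⟶ Y) (x' : X')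
    (hx' : ν.base x' = ξ.base (IsLocalRing.closedPoint Ω)) :
    ∃ ζ : Spec (CommRingCat.of Ω) ⟶ X', ζ ≫ ν = ξ ∧ ζ.base (IsLocalRing.closedPoint Ω) = x' := by
  obtain ⟨_, ⟨V, hV, rfl⟩, hxV, -⟩ := Y.isBasis_affineOpens.exists_subset_of_mem_open
    (Set.mem_univ (ξ.base (IsLocalRing.closedPoint Ω))) isOpen_univ
  have hξV : (⊤ : (Spec (CommRingCat.of Ω)).Opens) ≤ ξ ⁻¹ᵁ V := by
    intro z _
    have : z = IsLocalRing.closedPoint Ω := Subsingleton.elim _ _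
    rw [this]
    exact hxV
  have hV' : IsAffineOpen (ν ⁻¹ᵁ V) := hV.preimage ν
  have hx'V : x' ∈ ν ⁻¹ᵁ V := by
    change ν.base x' ∈ V
    rw [hx']; exact hxV
  letI : Algebra Γ(Y, V) Γ(X', ν ⁻¹ᵁ V) := (ν.app V).hom.toAlgebra
  haveI : Algebra.IsIntegral Γ(Y, V) Γ(X', ν ⁻¹ᵁ V) := ⟨IsIntegralHom.isIntegral_app ν V hV⟩
  have hQ : (hV'.primeIdealOf ⟨x', hx'V⟩).asIdeal.comap (algebraMap Γ(Y, V) Γ(X', ν ⁻¹ᵁ V)) =
      RingHom.ker (ptHom Ω ξ hξV) := by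
    rw [ker_ptHom hV Ω ξ hξV]
    have h1 := IsAffineOpen.comap_primeIdealOf_appLE V hV (ν ⁻¹ᵁ V) hV' le_rfl (x := x') hx'V
    have h2 := congrArg PrimeSpectrum.asIdeal h1
    rw [PrimeSpectrum.comap_asIdeal] at h2
    have h3 : ν.appLE V (ν ⁻¹ᵁ V) le_rfl = ν.app V := ν.appLE_eq_app
    rw [h3] at h2
    change Ideal.comap (ν.app V).hom _ = _
    rw [h2]
    congr 2
    exact Subtype.ext hx'
  obtain ⟨φ, hφ⟩ := exists_homOver_ker_eq (ptHom Ω ξ hξV)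
    (hV'.primeIdealOf ⟨x', hx'V⟩).asIdeal hQ
  obtain ⟨ζ, hζV, hζ, hζφ⟩ := exists_lift_of_homOver ν Ω ξ hV hV' hξV φ.1 φ.2
  refine ⟨ζ, hζ, ?_⟩
  have h4 := ker_ptHom hV' Ω ζ hζV
  rw [hζφ, hφ] at h4
  have h5 : hV'.primeIdealOf ⟨x', hx'V⟩ =
      hV'.primeIdealOf ⟨ζ.base (IsLocalRing.closedPoint Ω), hζV trivial⟩ := PrimeSpectrum.ext h4
  have h6 := hV'.fromSpec_primeIdealOf ⟨x', hx'V⟩
  have h7 := hV'.fromSpec_primeIdealOf ⟨ζ.base (IsLocalRing.closedPoint Ω), hζV trivial⟩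
  rw [← h5, h6] at h7
  exact h7.symm

end Groth.Agent.H6.QfDeg
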