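import Mathlib
import Groth.Agent.Lib.Helper6.QfDeg4

set_option autoImplicit false
universe u
open CategoryTheory CategoryTheory.Limits AlgebraicGeometry TopologicalSpace Opposite

namespace Groth.Agent.H6.QfDeg

/-- If all geometric points of `X'` over `ξ` come from the open subscheme `X`, then `X = X'` over
a neighbourhood of the image of `ξ`. -/
theorem exists_nhd_le_opensRange {X X' Y : Scheme.{u}} (j : X ⟶ X') [IsOpenImmersion j]
    (ν : X' ⟶ Y) [IsIntegralHom ν] (Ω : Type u) [Field Ω] [IsAlgClosed Ω]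
    (ξ : Spec (CommRingCat.of Ω) ⟶ Y)
    (hsurj : ∀ ζ' : Spec (CommRingCat.of Ω) ⟶ X', ζ' ≫ ν = ξ →
      ∃ ζ : Spec (CommRingCat.of Ω) ⟶ X, ζ ≫ j = ζ') :
    ∃ W : Y.Opens, ξ.base (IsLocalRing.closedPoint Ω) ∈ W ∧ ν ⁻¹ᵁ W ≤ j.opensRange := by
  have hclosed : IsClosed (ν.base '' (Set.range j.base)ᶜ) :=
    ν.isClosedMap _ j.isOpenEmbedding.isOpen_range.isClosed_compl
  refine ⟨⟨(ν.base '' (Set.range j.base)ᶜ)ᶜ, hclosed.isOpen_compl⟩, ?_, ?_⟩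
  · rintro ⟨x', hx', hx'y⟩
    obtain ⟨ζ', hζ', hζ'x⟩ := exists_lift_of_point ν Ω ξ x' hx'y
    obtain ⟨ζ, rfl⟩ := hsurj ζ' hζ'
    apply hx'
    rw [← hζ'x]
    exact ⟨ζ.base (IsLocalRing.closedPoint Ω), rfl⟩
  · intro x' hx'
    by_contra hcon
    exact hx' ⟨x', hcon, rfl⟩

end Groth.Agent.H6.QfDeg
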