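import Mathlib
import Groth.Agent.Lib.Helper6.NormExt1
import Groth.Agent.Lib.Helper6.QfDeg5
import Groth.Agent.Lib.Helper6.QfDeg10
import Groth.Agent.Lib.Helper6.QfDeg11

/-!
# The degree criterion for quasi-finite morphisms: inequality and forward direction (helper6)
-/

set_option autoImplicit false
universe u
open CategoryTheory CategoryTheory.Limits AlgebraicGeometry TopologicalSpace Opposite

namespace Groth.Agent.H6.QfDeg

open Groth.Agent.H6.FibCount Groth.Agent.H6.RedCount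

section

variable {X Y : Scheme.{u}} (f : X ⟶ Y) [IsSeparated f] [LocallyQuasiFinite f]
  [LocallyOfFiniteType f] [QuasiCompact f]

/-- Lifts to `X` inject into lifts to the normalization. -/
theorem exists_injective_lifts (Ω : Type u) [Field Ω] (ξ : Spec (CommRingCat.of Ω) ⟶ Y) :
    ∃ r : {ζ : Spec (CommRingCat.of Ω) ⟶ X // ζ ≫ f = ξ} →
        {ζ' : Spec (CommRingCat.of Ω) ⟶ f.normalization // ζ' ≫ f.fromNormalization = ξ},
      Function.Injective r ∧ ∀ ζ, (r ζ).1 = ζ.1 ≫ f.toNormalization := by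
  refine ⟨fun ζ => ⟨ζ.1 ≫ f.toNormalization, by
    rw [Category.assoc, f.toNormalization_fromNormalization]; exact ζ.2⟩, ?_, fun ζ => rfl⟩
  intro ζ₁ ζ₂ h
  apply Subtype.ext
  have h1 : ζ₁.1 ≫ f.toNormalization = ζ₂.1 ≫ f.toNormalization := congrArg Subtype.val h
  exact (cancel_mono f.toNormalization).mp h1

theorem card_lifts_le (Ω : Type u) [Field Ω] (ξ : Spec (CommRingCat.of Ω) ⟶ Y) {V : Y.Opens}
    (hV : IsAffineOpen V) (hξV : ⊤ ≤ ξ ⁻¹ᵁ V) :
    letI := (f.fromNormalization.app V).hom.toAlgebra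
    Finite (HomOver Γ(Y, V) Γ(f.normalization, f.fromNormalization ⁻¹ᵁ V) (ptHom Ω ξ hξV)) →
    Finite {ζ' : Spec (CommRingCat.of Ω) ⟶ f.normalization // ζ' ≫ f.fromNormalization = ξ} ∧
    Nat.card {ζ : Spec (CommRingCat.of Ω) ⟶ X // ζ ≫ f = ξ} ≤
      Nat.card {ζ' : Spec (CommRingCat.of Ω) ⟶ f.normalization //
        ζ' ≫ f.fromNormalization = ξ} ∧
    Nat.card {ζ' : Spec (CommRingCat.of Ω) ⟶ f.normalization // ζ' ≫ f.fromNormalization = ξ} ≤
      Nat.card (HomOver Γ(Y, V) Γ(f.normalization, f.fromNormalization ⁻¹ᵁ V)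
        (ptHom Ω ξ hξV)) := by
  letI := (f.fromNormalization.app V).hom.toAlgebra
  intro hfin
  obtain ⟨r₁, hr₁, -⟩ := exists_injective_lifts f Ω ξ
  obtain ⟨r₂, hr₂⟩ := exists_injective_points f.fromNormalization Ω ξ V
    (hV.preimage f.fromNormalization) hξV
  haveI : Finite (HomOver Γ(Y, V) Γ(f.normalization, f.fromNormalization ⁻¹ᵁ V)
      (ξ.appLE V ⊤ hξV ≫ (Scheme.ΓSpecIso (CommRingCat.of Ω)).hom).hom) := hfin
  haveI : Finite {ζ' : Spec (CommRingCat.of Ω) ⟶ f.normalization //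
      ζ' ≫ f.fromNormalization = ξ} := Finite.of_injective r₂ hr₂
  exact ⟨inferInstance, Nat.card_le_card_of_injective r₁ hr₁,
    Nat.card_le_card_of_injective r₂ hr₂⟩

end

end Groth.Agent.H6.QfDeg
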