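import Mathlib
import Groth.Agent.Lib.Helper6.QfDeg12

/-!
# The degree criterion for quasi-finite morphisms: inequality and forward direction, II (helper6)
-/

set_option autoImplicit false
universe u
open CategoryTheory CategoryTheory.Limits AlgebraicGeometry TopologicalSpace Opposite

namespace Groth.Agent.H6.QfDeg

open Groth.Agent.H6.FibCount Groth.Agent.H6.RedCount

section

variable {X Y : Scheme.{u}} (f : X ⟶ Y) [IsSeparated f] [LocallyQuasiFinite f]
  [LocallyOfFiniteType f] [QuasiCompact f]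

theorem finite_app_fromNormalization {V : Y.Opens} (hV : IsAffineOpen V)
    (hle : f.fromNormalization ⁻¹ᵁ V ≤ f.toNormalization.opensRange) :
    (f.fromNormalization.app V).hom.Finite := by
  have hV' : IsAffineOpen (f.fromNormalization ⁻¹ᵁ V) := hV.preimage f.fromNormalization
  have hW : IsAffineOpen (f.toNormalization ⁻¹ᵁ (f.fromNormalization ⁻¹ᵁ V)) :=
    hV'.preimage_of_isOpenImmersion f.toNormalization hle
  haveI : IsIso (f.toNormalization.app (f.fromNormalization ⁻¹ᵁ V)) :=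
    f.toNormalization.isIso_app _ hle
  have e : f.toNormalization ⁻¹ᵁ (f.fromNormalization ⁻¹ᵁ V) ≤ f ⁻¹ᵁ V := by
    rw [← Scheme.Hom.comp_preimage, f.toNormalization_fromNormalization]
  have h1 : (f.appLE V (f.toNormalization ⁻¹ᵁ (f.fromNormalization ⁻¹ᵁ V)) e).hom.FiniteType :=
    f.finiteType_appLE hV hW e
  have h2 : f.appLE V (f.toNormalization ⁻¹ᵁ (f.fromNormalization ⁻¹ᵁ V)) e =
      f.fromNormalization.app V ≫ f.toNormalization.app (f.fromNormalization ⁻¹ᵁ V) := by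
    have h3 : (f.toNormalization ≫ f.fromNormalization).appLE V
        (f.toNormalization ⁻¹ᵁ (f.fromNormalization ⁻¹ᵁ V))
        (by rw [Scheme.Hom.comp_preimage]) =
        f.appLE V (f.toNormalization ⁻¹ᵁ (f.fromNormalization ⁻¹ᵁ V)) e :=
      appLE_eq_of_eq _ _ f.toNormalization_fromNormalization _ _ _ _
    rw [← h3, Scheme.Hom.comp_appLE, Scheme.Hom.appLE_eq_app]
  rw [h2] at h1
  have h4 : (f.fromNormalization.app V).hom.FiniteType := by
    have h5 : f.fromNormalization.app V =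
        (f.fromNormalization.app V ≫ f.toNormalization.app (f.fromNormalization ⁻¹ᵁ V)) ≫
          inv (f.toNormalization.app (f.fromNormalization ⁻¹ᵁ V)) := by
      rw [Category.assoc, IsIso.hom_inv_id, Category.comp_id]
    rw [h5, CommRingCat.hom_comp]
    exact RingHom.FiniteType.comp_surjective h1
      (ConcreteCategory.bijective_of_isIso
        (inv (f.toNormalization.app (f.fromNormalization ⁻¹ᵁ V)))).2
  exact RingHom.finite_iff_isIntegral_and_finiteType.mpr
    ⟨IsIntegralHom.isIntegral_app f.fromNormalization V hV, h4⟩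

variable [IrreducibleSpace Y] [IsLocallyNoetherian Y] [IsReduced X]

theorem forward (hdom : ∀ x : X, (∀ x' : X, x' ⤳ x → x' = x) → f.base x = genericPoint Y)
    (y : Y) [IsDomain (Y.presheaf.stalk y)] (hy : IsIntegrallyClosed (Y.presheaf.stalk y))
    (Ω : Type u) [Field Ω] [IsAlgClosed Ω] (ξ : Spec (CommRingCat.of Ω) ⟶ Y)
    (hξ : ξ.base (IsLocalRing.closedPoint Ω) = y) :
    letI := (((pullback.snd f (Y.fromSpecResidueField (genericPoint Y))).appTop).hom.comp
      (Scheme.ΓSpecIso (Y.residueField (genericPoint Y))).inv.hom).toAlgebra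
    letI n := Module.finrank (Y.residueField (genericPoint Y))
      Γ(pullback f (Y.fromSpecResidueField (genericPoint Y)), ⊤)
    Nat.card {ζ : Spec (CommRingCat.of Ω) ⟶ X // ζ ≫ f = ξ} ≤ n ∧
    (n ≤ Nat.card {ζ : Spec (CommRingCat.of Ω) ⟶ X // ζ ≫ f = ξ} →
      ∃ U : Y.Opens, y ∈ U ∧ IsFinite (f ∣_ U) ∧ Etale (f ∣_ U)) := by
  have hpre : ∀ V : Y.Opens, y ∈ V → (⊤ : (Spec (CommRingCat.of Ω)).Opens) ≤ ξ ⁻¹ᵁ V := by
    intro V hyV z _
    have : z = IsLocalRing.closedPoint Ω := Subsingleton.elim _ _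
    change ξ.base z ∈ V
    rw [this, hξ]
    exact hyV
  obtain ⟨V, hV, hyV, -, hVdom⟩ := NormExt.exists_affine_domain_nhd y inferInstance ⊤ trivial
  haveI := hVdom
  obtain ⟨⟨hfin, hle⟩, -⟩ := lemmaP f hdom y hy hV hyV Ω ξ hξ (hpre V hyV)
  obtain ⟨hfin', hc1, hc2⟩ := card_lifts_le f Ω ξ hV (hpre V hyV) hfin
  refine ⟨hc1.trans (hc2.trans hle), fun hn => ?_⟩
  -- all geometric points of the normalization come from `X`
  obtain ⟨r₁, hr₁, hr₁'⟩ := exists_injective_lifts f Ω ξ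
  haveI := hfin'
  have hbij : Function.Bijective r₁ :=
    Function.Injective.bijective_of_nat_card_le hr₁ ((hc2.trans hle).trans hn)
  have hsurj : ∀ ζ' : Spec (CommRingCat.of Ω) ⟶ f.normalization, ζ' ≫ f.fromNormalization = ξ →
      ∃ ζ : Spec (CommRingCat.of Ω) ⟶ X, ζ ≫ f.toNormalization = ζ' := by
    intro ζ' hζ'
    obtain ⟨ζ, hζ⟩ := hbij.2 ⟨ζ', hζ'⟩
    refine ⟨ζ.1, ?_⟩
    rw [← hr₁' ζ, hζ]
  obtain ⟨W, hyW, hWle⟩ := exists_nhd_le_opensRange f.toNormalization f.fromNormalization Ω ξ hsurj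
  rw [hξ] at hyW
  obtain ⟨V₂, hV₂, hyV₂, hV₂W, hV₂dom⟩ :=
    NormExt.exists_affine_domain_nhd y inferInstance W hyW
  haveI := hV₂dom
  have hle₂ : f.fromNormalization ⁻¹ᵁ V₂ ≤ f.toNormalization.opensRange :=
    (f.fromNormalization.preimage_mono hV₂W).trans hWle
  obtain ⟨⟨hfin₂, hle₂'⟩, hP2⟩ := lemmaP f hdom y hy hV₂ hyV₂ Ω ξ hξ (hpre V₂ hyV₂)
  obtain ⟨-, hc1₂, hc2₂⟩ := card_lifts_le f Ω ξ hV₂ (hpre V₂ hyV₂) hfin₂
  obtain ⟨a, hya, h1, h2⟩ := hP2 (finite_app_fromNormalization f hV₂ hle₂)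
    (hn.trans (hc1₂.trans hc2₂))
  refine ⟨Y.basicOpen a, hya, ?_⟩
  exact finite_etale_restrict_of_factor f f.toNormalization f.fromNormalization
    f.toNormalization_fromNormalization (Y.basicOpen a) (hV₂.basicOpen a)
    ((f.fromNormalization.preimage_mono (Y.basicOpen_le a)).trans hle₂) h1 h2

end

end Groth.Agent.H6.QfDeg
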