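import Mathlib
import Groth.Agent.Lib.Helper6.FibCard1

/-!
# Fibres of a restriction and the rank of a finite flat scheme over a field (helper6)
-/

set_option autoImplicit false
universe u
open CategoryTheory CategoryTheory.Limits AlgebraicGeometry TopologicalSpace Opposite

namespace Groth.Agent.H6.QfDeg

/-- The fibre of `f` over a morphism factoring through an open `U` is the fibre of `f ∣_ U`. -/
theorem exists_iso_pullback_morphismRestrict {X Y T : Scheme.{u}} (f : X ⟶ Y) (U : Y.Opens)
    (g : T ⟶ Y) (gU : T ⟶ U.toScheme) (hg : gU ≫ U.ι = g) :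
    ∃ e : pullback (f ∣_ U) gU ≅ pullback f g,
      e.hom ≫ pullback.snd f g = pullback.snd (f ∣_ U) gU := by
  subst hg
  have h1 : IsPullback (pullback.fst (f ∣_ U) gU) (pullback.snd (f ∣_ U) gU) (f ∣_ U) gU :=
    IsPullback.of_hasPullback _ _
  have h2 : IsPullback (f ⁻¹ᵁ U).ι (f ∣_ U) f U.ι := (isPullback_morphismRestrict f U).flip
  have h3 := h1.paste_horiz h2
  exact ⟨h3.isoPullback, h3.isoPullback_hom_snd⟩

/-- The rank of a finite flat scheme over a field is the dimension of its ring of global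
sections. -/
theorem finrank_eq_finrank_appTop (K : Type u) [Field K] {P : Scheme.{u}}
    (c : P ⟶ Spec (CommRingCat.of K)) [IsFinite c] [Flat c] (x : Spec (CommRingCat.of K)) :
    letI := (c.appTop.hom.comp (Scheme.ΓSpecIso (CommRingCat.of K)).inv.hom).toAlgebra
    c.finrank x = Module.finrank K Γ(P, ⊤) := by
  haveI : IsAffine P := isAffine_of_isAffineHom c
  let φ : CommRingCat.of K ⟶ Γ(P, ⊤) := (Scheme.ΓSpecIso (CommRingCat.of K)).inv ≫ c.appTop
  have hc : c = P.isoSpec.hom ≫ Spec.map φ := by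
    have h1 := Scheme.isoSpec_hom_naturality c
    rw [Scheme.isoSpec_Spec_hom] at h1
    rw [Spec.map_comp, ← Category.assoc, h1, Category.assoc, ← Spec.map_comp,
      Iso.inv_hom_id, Spec.map_id, Category.comp_id]
  have hφ : Spec.map φ = P.isoSpec.inv ≫ c := by rw [hc, Iso.inv_hom_id_assoc]
  haveI : IsFinite (Spec.map φ) := by rw [hφ]; infer_instance
  haveI : Flat (Spec.map φ) := by rw [hφ]; infer_instance
  have hfin : φ.hom.Finite := (IsFinite.SpecMap_iff (f := φ)).mp inferInstance
  have hflat : φ.hom.Flat := (Flat.SpecMap_iff (f := φ)).mp inferInstance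
  letI : Algebra K Γ(P, ⊤) := (c.appTop.hom.comp (Scheme.ΓSpecIso (CommRingCat.of K)).inv.hom).toAlgebra
  haveI : Module.Finite K Γ(P, ⊤) := hfin
  have h2 : c.finrank x = (Spec.map φ).finrank x := by
    conv_lhs => rw [hc]
    rw [Scheme.Hom.finrank_comp_left_of_isIso]
  rw [h2]
  have h3 : φ = CommRingCat.ofHom (algebraMap K Γ(P, ⊤)) := rfl
  rw [h3, Scheme.Hom.finrank_SpecMap_algebraMap, Module.rankAtStalk_eq_finrank_of_free]
  rfl

end Groth.Agent.H6.QfDeg
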