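import Mathlib
import Groth.Agent.Lib.Helper6.QfDeg14

/-!
# The degree criterion for quasi-finite morphisms: converse (helper6)
-/

set_option autoImplicit false
universe u
open CategoryTheory CategoryTheory.Limits AlgebraicGeometry TopologicalSpace Opposite

namespace Groth.Agent.H6.QfDeg

theorem card_pullback_eq_finrank {X Y : Scheme.{u}} (f : X ⟶ Y) (U : Y.Opens)
    [IsFinite (f ∣_ U)] [Etale (f ∣_ U)] (Ω : Type u) [Field Ω] [IsAlgClosed Ω]
    (ξ : Spec (CommRingCat.of Ω) ⟶ Y) (ξU : Spec (CommRingCat.of Ω) ⟶ U.toScheme)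
    (hξ : ξU ≫ U.ι = ξ) :
    Nat.card ↥(pullback f ξ) = (f ∣_ U).finrank (ξU.base (IsLocalRing.closedPoint Ω)) := by
  obtain ⟨e, he⟩ := exists_iso_pullback_morphismRestrict f U ξ ξU hξ
  haveI : IsFinite (pullback.snd (f ∣_ U) ξU) :=
    MorphismProperty.pullback_snd (P := @IsFinite) _ _ inferInstance
  haveI : Etale (pullback.snd (f ∣_ U) ξU) :=
    MorphismProperty.pullback_snd (P := @Etale) _ _ inferInstance
  rw [← Nat.card_congr (Scheme.homeoOfIso e).toEquiv,
    FibCard.card_eq_finrank_of_sepClosed Ω (pullback.snd (f ∣_ U) ξU) (IsLocalRing.closedPoint Ω),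
    Scheme.Hom.finrank_pullback_snd]

theorem finrank_generic_eq_finrank {X Y : Scheme.{u}} (f : X ⟶ Y) (U : Y.Opens)
    [IsFinite (f ∣_ U)] [Etale (f ∣_ U)] (y : Y)
    (gU : Spec (Y.residueField y) ⟶ U.toScheme) (hg : gU ≫ U.ι = Y.fromSpecResidueField y)
    (pt : Spec (Y.residueField y)) :
    letI := (((pullback.snd f (Y.fromSpecResidueField y)).appTop).hom.comp
      (Scheme.ΓSpecIso (Y.residueField y)).inv.hom).toAlgebra
    Module.finrank (Y.residueField y) Γ(pullback f (Y.fromSpecResidueField y), ⊤) =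
      (f ∣_ U).finrank (gU.base pt) := by
  obtain ⟨e, he⟩ := exists_iso_pullback_morphismRestrict f U (Y.fromSpecResidueField y) gU hg
  haveI : IsFinite (pullback.snd (f ∣_ U) gU) :=
    MorphismProperty.pullback_snd (P := @IsFinite) _ _ inferInstance
  haveI : Flat (pullback.snd (f ∣_ U) gU) :=
    MorphismProperty.pullback_snd (P := @Flat) _ _ inferInstance
  have h1 := finrank_eq_finrank_appTop (Y.residueField y) (pullback.snd (f ∣_ U) gU) pt
  rw [Scheme.Hom.finrank_pullback_snd] at h1
  rw [h1]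
  letI alg1 : Algebra (Y.residueField y) Γ(pullback f (Y.fromSpecResidueField y), ⊤) :=
    (((pullback.snd f (Y.fromSpecResidueField y)).appTop).hom.comp
      (Scheme.ΓSpecIso (Y.residueField y)).inv.hom).toAlgebra
  letI alg2 : Algebra (Y.residueField y) Γ(pullback (f ∣_ U) gU, ⊤) :=
    (((pullback.snd (f ∣_ U) gU).appTop).hom.comp
      (Scheme.ΓSpecIso (Y.residueField y)).inv.hom).toAlgebra
  haveI : IsIso e.hom.appTop := by
    have : IsIso (Scheme.Γ.map e.hom.op) := inferInstance
    exact this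
  let ε : Γ(pullback f (Y.fromSpecResidueField y), ⊤) ≃ₐ[Y.residueField y]
      Γ(pullback (f ∣_ U) gU, ⊤) :=
    { (asIso e.hom.appTop).commRingCatIsoToRingEquiv with
      commutes' := fun r => by
        have h2 : (pullback.snd f (Y.fromSpecResidueField y)).appTop ≫ e.hom.appTop =
            (pullback.snd (f ∣_ U) gU).appTop := by
          rw [← Scheme.Hom.comp_appTop, he]
        exact congrArg (fun q => q.hom ((Scheme.ΓSpecIso (Y.residueField y)).inv.hom r)) h2 }
  exact ε.toLinearEquiv.finrank_eq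

end Groth.Agent.H6.QfDeg
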