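import Mathlib
import Groth.Agent.Lib.Helper6.QfDeg1
import Groth.Agent.Lib.Helper6.QfDeg13
import Groth.Agent.Lib.Helper6.QfDeg15

/-!
# The degree criterion for quasi-finite morphisms (helper6)
-/

set_option autoImplicit false
universe u
open CategoryTheory CategoryTheory.Limits AlgebraicGeometry TopologicalSpace Opposite

namespace Groth.Agent.H6.QfDeg

theorem main_S3699 {X Y : Scheme.{u}} (f : X ⟶ Y) [IsSeparated f] [LocallyQuasiFinite f]
    [LocallyOfFiniteType f] [QuasiCompact f] [IrreducibleSpace Y] [IsLocallyNoetherian Y] [IsReduced X]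
    (hdom : ∀ x : X, (∀ x' : X, x' ⤳ x → x' = x) → f.base x = genericPoint Y)
    (y : Y) [IsDomain (Y.presheaf.stalk y)] (hy : IsIntegrallyClosed (Y.presheaf.stalk y)) :
    letI := (((pullback.snd f (Y.fromSpecResidueField (genericPoint Y))).appTop).hom.comp
      (Scheme.ΓSpecIso (Y.residueField (genericPoint Y))).inv.hom).toAlgebra
    letI n := Module.finrank (Y.residueField (genericPoint Y)) Γ(pullback f (Y.fromSpecResidueField (genericPoint Y)), ⊤)
    letI ny := Nat.card ↥(pullback f (Spec.map (CommRingCat.ofHom (algebraMap (Y.residueField y)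
      (AlgebraicClosure (Y.residueField y)))) ≫ Y.fromSpecResidueField y))
    ny ≤ n ∧ (ny = n ↔ ∃ U : Y.Opens, y ∈ U ∧ IsFinite (f ∣_ U) ∧ Etale (f ∣_ U)) := by
  have hξ : ∀ z, (Spec.map (CommRingCat.ofHom (algebraMap (Y.residueField y)
      (AlgebraicClosure (Y.residueField y)))) ≫ Y.fromSpecResidueField y).base z = y := by
    intro z
    rw [Scheme.Hom.comp_base, TopCat.comp_app, Scheme.fromSpecResidueField_apply]
  have hcard := card_pullback_eq_card_lifts f (AlgebraicClosure (Y.residueField y))
    (Spec.map (CommRingCat.ofHom (algebraMap (Y.residueField y)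
      (AlgebraicClosure (Y.residueField y)))) ≫ Y.fromSpecResidueField y)
  obtain ⟨h1, h2⟩ := forward f hdom y hy (AlgebraicClosure (Y.residueField y))
    (Spec.map (CommRingCat.ofHom (algebraMap (Y.residueField y)
      (AlgebraicClosure (Y.residueField y)))) ≫ Y.fromSpecResidueField y) (hξ _)
  refine ⟨by rw [hcard]; exact h1, ⟨fun heq => h2 (by rw [← hcard, heq]), ?_⟩⟩
  rintro ⟨U, hyU, hfin, het⟩
  haveI := hfin
  haveI := het
  have hηU : genericPoint Y ∈ U :=
    ((genericPoint_spec Y).mem_open_set_iff U.isOpen).mpr ⟨y, trivial, hyU⟩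
  have hr1 : Set.range (Spec.map (CommRingCat.ofHom (algebraMap (Y.residueField y)
      (AlgebraicClosure (Y.residueField y)))) ≫ Y.fromSpecResidueField y).base ⊆
      Set.range U.ι.base := by
    rw [Scheme.Opens.range_ι]
    rintro _ ⟨z, rfl⟩
    rw [hξ z]
    exact hyU
  have hr2 : Set.range (Y.fromSpecResidueField (genericPoint Y)).base ⊆ Set.range U.ι.base := by
    rw [Scheme.Opens.range_ι]
    rintro _ ⟨z, rfl⟩
    rw [Scheme.fromSpecResidueField_apply]
    exact hηU
  obtain ⟨pt⟩ : Nonempty (Spec (Y.residueField (genericPoint Y))) := inferInstance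
  rw [card_pullback_eq_finrank f U (AlgebraicClosure (Y.residueField y)) _
    (IsOpenImmersion.lift U.ι _ hr1) (IsOpenImmersion.lift_fac _ _ _),
    finrank_generic_eq_finrank f U (genericPoint Y) (IsOpenImmersion.lift U.ι _ hr2)
      (IsOpenImmersion.lift_fac _ _ _) pt]
  haveI : PreconnectedSpace ↥U.toScheme := by
    have hU : IsPreirreducible (U : Set Y) :=
      (IrreducibleSpace.isIrreducible_univ Y).2.open_subset U.isOpen (Set.subset_univ _)
    haveI : PreirreducibleSpace ↥(U : Set Y) := Subtype.preirreducibleSpace hU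
    exact inferInstanceAs (PreconnectedSpace ↥(U : Set Y))
  exact (Scheme.Hom.isLocallyConstant_finrank (f ∣_ U)).apply_eq_of_preconnectedSpace _ _

end Groth.Agent.H6.QfDeg
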