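import Mathlib

set_option autoImplicit false

namespace Groth.Agent.H6

open Function Set

/-- Sharp form of the "a vector space is not a small union of proper subspaces" lemma:
`s.card ≤ #K` proper subspaces never cover (Mathlib has `<`). -/
theorem exists_forall_notMem_of_card_le {ι K M : Type*} [Field K] [AddCommGroup M] [Module K M]
    [DecidableEq ι] (s : Finset ι) (p : ι → Submodule K M)
    (h₁ : ∀ i ∈ s, p i ≠ ⊤) (h₂ : (s.card : ℕ∞) ≤ ENat.card K) :
    ∃ x : M, ∀ i ∈ s, x ∉ p i := by
  rcases s.eq_empty_or_nonempty with rfl | ⟨j, hj⟩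
  · exact ⟨0, by simp⟩
  -- remove j
  set s' := s.erase j with hs'
  have hcard : s'.card + 1 = s.card := Finset.card_erase_add_one hj
  have hlt : (s'.card : ℕ∞) < ENat.card K := by
    refine lt_of_lt_of_le ?_ h₂
    rw [← hcard]
    exact_mod_cast Nat.lt_succ_self _
  -- modify p outside s' to be ⊥ so that all are proper
  by_cases hnt : Nontrivial M
  swap
  · -- M is trivial: then every submodule is ⊤, contradiction
    rw [not_nontrivial_iff_subsingleton] at hnt
    exfalso
    apply h₁ j hj
    exact Subsingleton.elim _ _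
  let p' : ι → Submodule K M := fun i => if i ∈ s' then p i else ⊥
  have hp' : ∀ i, p' i ≠ ⊤ := by
    intro i
    simp only [p']
    split_ifs with hi
    · exact h₁ i (Finset.mem_of_mem_erase hi)
    · exact bot_ne_top
  have hss := Submodule.iUnion_ssubset_of_forall_ne_top_of_card_lt s' p' hp' hlt
  rw [ssubset_univ_iff, Ne, eq_univ_iff_forall, not_forall] at hss
  obtain ⟨x, hx⟩ := hss
  have hx' : ∀ i ∈ s', x ∉ p i := by
    intro i hi hxi
    apply hx
    simp only [mem_iUnion, SetLike.mem_coe]
    exact ⟨i, hi, by simpa [p', hi] using hxi⟩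
  by_cases hxj : x ∉ p j
  · refine ⟨x, fun i hi => ?_⟩
    by_cases hij : i = j
    · rw [hij]; exact hxj
    · exact hx' i (Finset.mem_erase.2 ⟨hij, hi⟩)
  rw [not_not] at hxj
  obtain ⟨y, hy⟩ : ∃ y, y ∉ p j := by
    by_contra hcon
    push Not at hcon
    exact h₁ j hj (by ext z; simp [hcon z])
  -- the points y + t • x
  have hnotj : ∀ t : K, y + t • x ∉ p j := by
    intro t ht
    apply hy
    have := (p j).sub_mem ht ((p j).smul_mem t hxj)
    simpa using this
  by_contra hcon
  push Not at hcon
  -- each t is bad for some i ∈ s'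
  have hbad : ∀ t : K, ∃ i ∈ s', y + t • x ∈ p i := by
    intro t
    obtain ⟨i, hi, hmem⟩ := hcon (y + t • x)
    refine ⟨i, Finset.mem_erase.2 ⟨?_, hi⟩, hmem⟩
    rintro rfl
    exact hnotj t hmem
  choose f hf using hbad
  let F : K → s' := fun t => ⟨f t, (hf t).1⟩
  have hFinj : Injective F := by
    intro t t' htt
    by_contra hne
    have h1 := (hf t).2
    have h2 := (hf t').2
    have hff : f t = f t' := congrArg Subtype.val htt
    rw [← hff] at h2
    have h3 := (p (f t)).sub_mem h1 h2
    have h4 : (t - t') • x ∈ p (f t) := by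
      convert h3 using 1
      module
    have h5 : x ∈ p (f t) := ((p (f t)).smul_mem_iff (sub_ne_zero.2 hne)).1 h4
    exact hx' _ (hf t).1 h5
  have := ENat.card_le_card_of_injective hFinj
  rw [ENat.card_eq_coe_fintype_card (α := ↥s'), Fintype.card_coe] at this
  exact absurd (lt_of_lt_of_le hlt this) (lt_irrefl _)

end Groth.Agent.H6
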