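import Mathlib
import Groth.Agent.Lib.Helper6.SubspaceUnion
import Groth.Agent.Lib.Helper6.SemiLocalDim
set_option autoImplicit false
universe u

namespace Groth.Agent.H6.QuasiReg
open MvPolynomial

variable (k : Type u) [Field k] (r : ℕ)

local notation "S" => MvPolynomial (Fin (r + 1)) k

lemma idealOfVars_isMaximal : (idealOfVars (Fin (r + 1)) k).IsMaximal := by
  have h : idealOfVars (Fin (r + 1)) k = RingHom.ker (constantCoeff (R := k) (σ := Fin (r + 1))) := by
    ext p
    have := mem_pow_idealOfVars_iff' (σ := Fin (r + 1)) (R := k) 1 p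
    rw [pow_one] at this
    rw [this, RingHom.mem_ker]
    constructor
    · intro h
      exact h 0 (by simp)
    · intro h x hx
      have : x = 0 := by
        rw [Nat.lt_one_iff] at hx
        exact (Finsupp.degree_eq_zero_iff x).mp hx
      rw [this]; exact h
  rw [h]
  exact RingHom.ker_isMaximal_of_surjective _ (fun c => ⟨C c, constantCoeff_C _ c⟩)

/-- a prime containing all `d`-th powers of the variables is maximal -/
lemma isMaximal_of_forall_X_pow_mem (d : ℕ) (P : Ideal S) [hP : P.IsPrime]
    (h : ∀ i, (X i : S) ^ d ∈ P) : P.IsMaximal := by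
  have hle : idealOfVars (Fin (r + 1)) k ≤ P := by
    rw [idealOfVars, Ideal.span_le]
    rintro _ ⟨i, rfl⟩
    exact hP.mem_of_pow_mem d (h i)
  have := (idealOfVars_isMaximal k r).eq_of_le hP.ne_top hle
  rw [← this]
  exact idealOfVars_isMaximal k r


theorem main [Infinite k] (d : ℕ)
    (M : Type u) [AddCommGroup M] [Module S M] [Module.Finite S M] :
    ∃ f : S, f.IsHomogeneous d ∧ f ≠ 0 ∧
      IsFiniteLength S ↥(Submodule.torsionBy S M f) := by
  classical
  set V : Submodule k S := homogeneousSubmodule (Fin (r + 1)) k d with hV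
  have hfin : (associatedPrimes S M).Finite := associatedPrimes.finite S M
  set s : Finset (Ideal S) := insert ⊥ (hfin.toFinset.filter (fun P => ¬ P.IsMaximal)) with hs
  have hsP : ∀ I ∈ s, I.IsPrime ∧ ¬ I.IsMaximal := by
    intro I hI
    rw [hs, Finset.mem_insert] at hI
    rcases hI with rfl | hI
    · refine ⟨Ideal.isPrime_bot, fun hmax => ?_⟩
      obtain ⟨y, i, hi, hyi⟩ := hmax.exists_inv (x := (X 0 : S)) (by
        rw [Ideal.mem_bot]; exact X_ne_zero 0)
      rw [Ideal.mem_bot] at hi
      rw [hi, add_zero] at hyi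
      have hu : IsUnit (X 0 : S) := IsUnit.of_mul_eq_one y (by rw [mul_comm]; exact hyi)
      have := MvPolynomial.isUnit_iff_eq_C_of_isReduced.mp hu
      obtain ⟨c, _, hc⟩ := this
      have h1 := congrArg (totalDegree) hc
      simp at h1
    · rw [Finset.mem_filter, Set.Finite.mem_toFinset] at hI
      exact ⟨hI.1.isPrime, hI.2⟩
  set p : Ideal S → Submodule k V := fun I => Submodule.comap V.subtype (I.restrictScalars k) with hp
  have hp_ne : ∀ I ∈ s, p I ≠ ⊤ := by
    intro I hI htop
    obtain ⟨hprime, hnmax⟩ := hsP I hI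
    apply hnmax
    have := hprime
    apply isMaximal_of_forall_X_pow_mem k r d I
    intro i
    have hmem : (X i : S) ^ d ∈ V := by
      rw [hV, mem_homogeneousSubmodule]
      simpa using (isHomogeneous_X k i).pow d
    have : (⟨(X i : S) ^ d, hmem⟩ : V) ∈ p I := by rw [htop]; trivial
    exact this
  obtain ⟨x, hx⟩ := Groth.Agent.H6.exists_forall_notMem_of_card_le s p hp_ne (by
    rw [ENat.card_eq_top_of_infinite]; exact le_top)
  refine ⟨(x : S), (mem_homogeneousSubmodule _ _).mp x.2, ?_, ?_⟩
  · intro h0
    apply hx ⊥ (by rw [hs]; exact Finset.mem_insert_self _ _)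
    show (x : S) ∈ (⊥ : Ideal S)
    rw [h0]; exact zero_mem _
  · set f : S := (x : S) with hf
    set N := Submodule.torsionBy S M f with hN
    have : Module.Finite S N := Module.Finite.of_injective N.subtype N.injective_subtype
    rw [Groth.Agent.H6.SLD.isFiniteLength_iff_supportDim_le_zero S N, Module.supportDim,
      Order.krullDim_nonpos_iff_forall_isMax]
    rintro ⟨P, hPsupp⟩
    have hann : Module.annihilator S N ≤ P.asIdeal := Module.mem_support_iff_of_finite.mp hPsupp
    obtain ⟨q, hqmin, hqP⟩ := Ideal.exists_minimalPrimes_le hann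
    have hqass : q ∈ associatedPrimes S N :=
      Module.associatedPrimes.minimalPrimes_annihilator_subset_associatedPrimes S N hqmin
    have hqassM : q ∈ associatedPrimes S M :=
      associatedPrimes.subset_of_injective N.injective_subtype hqass
    have hfq : f ∈ q := by
      apply hqmin.1.2
      rw [Module.mem_annihilator]
      intro n
      exact Subtype.ext (by simp)
    have hqmax : q.IsMaximal := by
      by_contra hnmax
      have hqs : q ∈ s := by
        rw [hs, Finset.mem_insert]
        right
        rw [Finset.mem_filter, Set.Finite.mem_toFinset]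
        exact ⟨hqassM, hnmax⟩
      exact hx q hqs hfq
    have hqeq : q = P.asIdeal := hqmax.eq_of_le P.2.ne_top hqP
    intro Q hPQ
    have hle : P.asIdeal ≤ Q.1.asIdeal := hPQ
    have : P.asIdeal = Q.1.asIdeal := (hqeq ▸ hqmax).eq_of_le Q.1.2.ne_top hle
    exact (le_of_eq this.symm : Q.1.asIdeal ≤ P.asIdeal)

end Groth.Agent.H6.QuasiReg
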