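import Groth.Agent.Lib.Helper6.RFTri3

/-! # Total right derived functors send distinguished triangles to distinguished triangles
(up to isomorphism of the vertices) -/

open CategoryTheory Limits DerivedCategory Pretriangulated ZeroObject

namespace Groth.Agent.H6.RFTri

open Groth.Agent.H6.MVTri Groth.Agent.H6.KI Groth.Agent.H2.RDer

variable {B : Type*} [Category B] [Abelian B] [HasDerivedCategory B] [KInjDS.HasKInjRes B]
  {𝒞 : Type*} [Category 𝒞] [Abelian 𝒞] [HasDerivedCategory 𝒞]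
  (F : B ⥤ 𝒞) [F.Additive]
  [(F.mapHomotopyCategory (ComplexShape.up ℤ) ⋙ Qh).HasRightDerivedFunctor
    (HomotopyCategory.quasiIso B (ComplexShape.up ℤ))]

/-- the image under `RF` of a distinguished triangle is, up to isomorphisms of the vertices, a
distinguished triangle. -/
theorem exists_distTriang_RF (T : Triangle (DerivedCategory B)) (hT : T ∈ distTriang _) :
    ∃ (T' : Triangle (DerivedCategory 𝒞)), T' ∈ distTriang _ ∧
      Nonempty (T'.obj₁ ≅ (RF F).obj T.obj₁) ∧ Nonempty (T'.obj₂ ≅ (RF F).obj T.obj₂) ∧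
      Nonempty (T'.obj₃ ≅ (RF F).obj T.obj₃) := by
  obtain ⟨I, hI, ⟨e₁⟩⟩ := exists_kinj T.obj₁
  obtain ⟨J, hJ, ⟨e₂⟩⟩ := exists_kinj T.obj₂
  obtain ⟨g, hg⟩ := exists_Q_map_eq_of_isKInjective I J (e₁.inv ≫ T.mor₁ ≫ e₂.hom)
  let T₀ := Q.mapTriangle.obj (CochainComplex.mappingCone.triangle g)
  have hT₀ : T₀ ∈ distTriang _ := by
    rw [mem_distTriang_iff]
    exact ⟨_, _, g, ⟨Iso.refl _⟩⟩
  have e := isoTriangleOfIso₁₂ T T₀ hT hT₀ e₁ e₂ (by
    change T.mor₁ ≫ e₂.hom = e₁.hom ≫ Q.map g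
    rw [hg, Iso.hom_inv_id_assoc])
  have e₃ : T.obj₃ ≅ Q.obj (CochainComplex.mappingCone g) := Triangle.π₃.mapIso e
  haveI : (CochainComplex.mappingCone g).IsKInjective := RlimDer.isKInjective_mappingCone g
  let Fg := (F.mapHomologicalComplex (ComplexShape.up ℤ)).map g
  let T' := Q.mapTriangle.obj (CochainComplex.mappingCone.triangle Fg)
  have hT' : T' ∈ distTriang _ := by
    rw [mem_distTriang_iff]
    exact ⟨_, _, Fg, ⟨Iso.refl _⟩⟩
  obtain ⟨u₁⟩ := nonempty_iso_RF F I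
  obtain ⟨u₂⟩ := nonempty_iso_RF F J
  obtain ⟨u₃⟩ := nonempty_iso_RF F (CochainComplex.mappingCone g)
  refine ⟨T', hT', ⟨u₁ ≪≫ (RF F).mapIso e₁.symm⟩, ⟨u₂ ≪≫ (RF F).mapIso e₂.symm⟩, ⟨?_⟩⟩
  exact Q.mapIso (CochainComplex.mappingCone.mapHomologicalComplexIso g F).symm ≪≫ u₃ ≪≫
    (RF F).mapIso e₃.symm

end Groth.Agent.H6.RFTri
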