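import Groth.Agent.Lib.Helper6.RFTri5
import Groth.Agent.Lib.Helper7.WayOut3

/-! # Cohomology of `RF` in a weak Serre class -/

open CategoryTheory Limits DerivedCategory Pretriangulated ZeroObject

namespace Groth.Agent.H6.RFTri

open Groth.Agent.H6.MVTri Groth.Agent.H6.KI Groth.Agent.H2.RDer

variable {B : Type*} [Category B] [Abelian B] [HasDerivedCategory B] [KInjDS.HasKInjRes B]
  {𝒞 : Type*} [Category 𝒞] [Abelian 𝒞] [HasDerivedCategory 𝒞]
  (F : B ⥤ 𝒞) [F.Additive] [HasInjectiveResolutions B]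
  [(F.mapHomotopyCategory (ComplexShape.up ℤ) ⋙ Qh).HasRightDerivedFunctor
    (HomotopyCategory.quasiIso B (ComplexShape.up ℤ))]

omit [HasDerivedCategory B] [KInjDS.HasKInjRes B] [HasInjectiveResolutions B] in
lemma prop_homology_obj₂ (A' : ObjectProperty 𝒞) [WSerre.IsWeakSerre A']
    (T' : Triangle (DerivedCategory 𝒞)) (hT' : T' ∈ distTriang _) (i : ℤ)
    (h₁ : A' ((homologyFunctor 𝒞 i).obj T'.obj₁))
    (h₁' : A' ((homologyFunctor 𝒞 (i + 1)).obj T'.obj₁))
    (h₃ : A' ((homologyFunctor 𝒞 (i - 1)).obj T'.obj₃))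
    (h₃' : A' ((homologyFunctor 𝒞 i).obj T'.obj₃)) :
    A' ((homologyFunctor 𝒞 i).obj T'.obj₂) :=
  Groth.Agent.H7.WayOut.prop_of_five A' (HomologySequence.δ T' (i - 1) i (by omega))
    ((homologyFunctor 𝒞 i).map T'.mor₁) ((homologyFunctor 𝒞 i).map T'.mor₂)
    (HomologySequence.δ T' i (i + 1) rfl) _ _ _
    (HomologySequence.exact₁ T' hT' (i - 1) i (by omega)) (HomologySequence.exact₂ T' hT' i)
    (HomologySequence.exact₃ T' hT' i (i + 1) rfl) h₃ h₁ h₃' h₁'

/-- transfer along `exists_distTriang_RF`. -/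
lemma prop_homology_RF_obj₂ (A' : ObjectProperty 𝒞) [WSerre.IsWeakSerre A']
    (T : Triangle (DerivedCategory B)) (hT : T ∈ distTriang _) (i : ℤ)
    (h₁ : A' ((homologyFunctor 𝒞 i).obj ((RF F).obj T.obj₁)))
    (h₁' : A' ((homologyFunctor 𝒞 (i + 1)).obj ((RF F).obj T.obj₁)))
    (h₃ : A' ((homologyFunctor 𝒞 (i - 1)).obj ((RF F).obj T.obj₃)))
    (h₃' : A' ((homologyFunctor 𝒞 i).obj ((RF F).obj T.obj₃))) :
    A' ((homologyFunctor 𝒞 i).obj ((RF F).obj T.obj₂)) := by
  obtain ⟨T', hT', ⟨e₁⟩, ⟨e₂⟩, ⟨e₃⟩⟩ := exists_distTriang_RF F T hT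
  refine A'.prop_of_iso ((homologyFunctor 𝒞 i).mapIso e₂) ?_
  exact prop_homology_obj₂ A' T' hT' i
    (A'.prop_of_iso ((homologyFunctor 𝒞 i).mapIso e₁.symm) h₁)
    (A'.prop_of_iso ((homologyFunctor 𝒞 (i + 1)).mapIso e₁.symm) h₁')
    (A'.prop_of_iso ((homologyFunctor 𝒞 (i - 1)).mapIso e₃.symm) h₃)
    (A'.prop_of_iso ((homologyFunctor 𝒞 i).mapIso e₃.symm) h₃')

omit [KInjDS.HasKInjRes B] [HasInjectiveResolutions B] in
/-- the truncation triangle `τ_{<b}E → E → τ_{≥b}E` with its basic cohomological properties. -/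
lemma exists_trunc_triangle (E : DerivedCategory B) (b : ℤ) :
    ∃ (T : Triangle (DerivedCategory B)), T ∈ distTriang _ ∧ T.obj₂ = E ∧
      (∀ j, b ≤ j → IsZero ((homologyFunctor B j).obj T.obj₁)) ∧
      (∀ j, j < b → IsZero ((homologyFunctor B j).obj T.obj₃)) ∧
      (∀ j, j < b → Nonempty ((homologyFunctor B j).obj T.obj₁ ≅ (homologyFunctor B j).obj E)) ∧
      (∀ j, b ≤ j → Nonempty ((homologyFunctor B j).obj E ≅ (homologyFunctor B j).obj T.obj₃)) := by
  let T := (TStructure.t.triangleLTGE b).obj E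
  have hT : T ∈ distTriang _ := TStructure.t.triangleLTGE_distinguished b E
  haveI i1 : T.obj₁.IsLE (b - 1) :=
    inferInstanceAs (TStructure.t.IsLE ((TStructure.t.triangleLTGE b).obj E).obj₁ (b - 1))
  haveI i3 : T.obj₃.IsGE b :=
    inferInstanceAs (TStructure.t.IsGE ((TStructure.t.triangleLTGE b).obj E).obj₃ b)
  have z1 : ∀ j, b ≤ j → IsZero ((homologyFunctor B j).obj T.obj₁) :=
    fun j hj => isZero_of_isLE T.obj₁ (b - 1) j (by omega)
  have z3 : ∀ j, j < b → IsZero ((homologyFunctor B j).obj T.obj₃) :=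
    fun j hj => isZero_of_isGE T.obj₃ b j hj
  refine ⟨T, hT, rfl, z1, z3, fun j hj => ?_, fun j hj => ?_⟩
  · haveI : Mono ((homologyFunctor B j).map T.mor₁) :=
      (HomologySequence.mono_homologyMap_mor₁_iff T hT (j - 1) j (by omega)).2
        ((z3 (j - 1) (by omega)).eq_of_src _ _)
    haveI : Epi ((homologyFunctor B j).map T.mor₁) :=
      (HomologySequence.epi_homologyMap_mor₁_iff T hT j).2 ((z3 j hj).eq_of_tgt _ _)
    haveI : IsIso ((homologyFunctor B j).map T.mor₁) := isIso_of_mono_of_epi _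
    have e := asIso ((homologyFunctor B j).map T.mor₁)
    exact ⟨e⟩
  · haveI : Mono ((homologyFunctor B j).map T.mor₂) :=
      (HomologySequence.mono_homologyMap_mor₂_iff T hT j).2 ((z1 j hj).eq_of_src _ _)
    haveI : Epi ((homologyFunctor B j).map T.mor₂) :=
      (HomologySequence.epi_homologyMap_mor₂_iff T hT j (j + 1) rfl).2
        ((z1 (j + 1) (by omega)).eq_of_tgt _ _)
    haveI : IsIso ((homologyFunctor B j).map T.mor₂) := isIso_of_mono_of_epi _
    have e := asIso ((homologyFunctor B j).map T.mor₂)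
    exact ⟨e⟩

theorem prop_homology_RF_of_bounded (P : ObjectProperty B) [P.IsClosedUnderIsomorphisms]
    (A' : ObjectProperty 𝒞) [WSerre.IsWeakSerre A']
    (hF : ∀ G : B, P G → ∀ p : ℕ, A' ((F.rightDerived p).obj G)) :
    ∀ (n : ℕ) (E : DerivedCategory B) (a b : ℤ), b - a < n →
      (∀ j, a ≤ j → j ≤ b → P ((homologyFunctor B j).obj E)) →
      (∀ i : ℤ, i < a ∨ b < i → IsZero ((homologyFunctor B i).obj E)) →
      ∀ i : ℤ, A' ((homologyFunctor 𝒞 i).obj ((RF F).obj E)) := by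
  intro n
  induction n with
  | zero =>
    intro E a b hn hP hab i
    have hE : IsZero E := isZero_of_homology_bounds E a b (by omega) hab
    exact A'.prop_of_isZero (isZero_homology_RF_of_isZero F E hE i)
  | succ n ih =>
    intro E a b hn hP hab i
    by_cases hba : b < a
    · have hE : IsZero E := isZero_of_homology_bounds E a b hba hab
      exact A'.prop_of_isZero (isZero_homology_RF_of_isZero F E hE i)
    obtain ⟨T, hT, rfl, z1, z3, h1iso, h3iso⟩ := exists_trunc_triangle E b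
    have hA₁ : ∀ k, A' ((homologyFunctor 𝒞 k).obj ((RF F).obj T.obj₁)) := by
      refine ih T.obj₁ a (b - 1) (by omega) ?_ ?_
      · intro j hj1 hj2
        obtain ⟨e⟩ := h1iso j (by omega)
        exact P.prop_of_iso e.symm (hP j hj1 (by omega))
      · intro j hj
        by_cases hjb : j < b
        · obtain ⟨e⟩ := h1iso j hjb
          have hja : j < a := by omega
          exact (hab j (Or.inl hja)).of_iso e
        · exact z1 j (by omega)
    have hA₃ : ∀ k, A' ((homologyFunctor 𝒞 k).obj ((RF F).obj T.obj₃)) := by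
      haveI : T.obj₃.IsGE b := (isGE_iff T.obj₃ b).2 (fun j hj => z3 j hj)
      haveI : T.obj₃.IsLE b := (isLE_iff T.obj₃ b).2 (fun j hj => by
        obtain ⟨e⟩ := h3iso j (by omega)
        exact (hab j (Or.inr hj)).of_iso e.symm)
      obtain ⟨Y, ⟨e⟩⟩ := exists_iso_singleFunctor_obj_of_isGE_of_isLE T.obj₃ b
      obtain ⟨eb⟩ := h3iso b le_rfl
      have hPY : P Y := P.prop_of_iso
        (eb ≪≫ (homologyFunctor B b).mapIso e ≪≫ homologySingleIso Y b) (hP b (by omega) le_rfl)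
      intro k
      refine A'.prop_of_iso ((homologyFunctor 𝒞 k).mapIso ((RF F).mapIso e.symm)) ?_
      by_cases hk : k < b
      · exact A'.prop_of_isZero (isZero_homology_RF_single F Y b k (fun p hp => by omega))
      · obtain ⟨p, hp⟩ : ∃ p : ℕ, b + p = k := ⟨(k - b).toNat, by omega⟩
        obtain ⟨e'⟩ := nonempty_homology_RF_single_iso F Y b p k hp
        exact A'.prop_of_iso e'.symm (hF Y hPY p)
    exact prop_homology_RF_obj₂ F A' T hT i (hA₁ i) (hA₁ (i + 1)) (hA₃ (i - 1)) (hA₃ i)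

end Groth.Agent.H6.RFTri
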