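import Groth.Agent.Lib.Helper6.RFTri7
import Groth.Agent.Lib.Lead.PS.Support
import Groth.Agent.Lib.Lead.SC.RPushQC
import Groth.Agent.Lib.Lead.RP.Compare2

/-! # `Rf_*` of bounded complexes with coherent cohomology of proper support is bounded -/

universe u
open CategoryTheory Limits DerivedCategory Pretriangulated ZeroObject AlgebraicGeometry

namespace Groth.Agent.H6.RFTri

open Groth.Agent.H6.MVTri Groth.Agent.H6.KI Groth.Agent.H2.RDer

/-- uniform vanishing of the higher direct images of a coherent module with proper support. -/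
theorem exists_isZero_Rpush_of_properSupport {X S : Scheme.{u}} [IsNoetherian S] (f : X ⟶ S)
    [LocallyOfFiniteType f] [HasInjectiveResolutions X.Modules]
    (G : X.Modules) (hG : Coh.IsCoh G) (hs : ClSub.IsProperOver f (CohB1.support G)) :
    ∃ N : ℕ, ∀ p : ℕ, N ≤ p → IsZero ((Coh.Rpush f p).obj G) := by
  obtain ⟨Z, i, hi, hp, G', hG', hGft, ⟨e⟩⟩ :=
    (Groth.Agent.LD.PS.isProperOver_support_iff f G hG.1 hG.2).mp hs
  haveI : IsGrothendieckAbelian.{u} Z.Modules :=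
    Groth.Agent.LD.QCGroth.isGrothendieckAbelian_modules Z
  haveI : HasInjectiveResolutions Z.Modules := inferInstance
  obtain ⟨N₀, hN₀⟩ := Groth.Agent.LD.SC.exists_isZero_RpushAb (i ≫ f)
  refine ⟨N₀, fun p hp' => ?_⟩
  have h0 := hN₀ G' hG' p hp'
  obtain ⟨e1⟩ := Groth.Agent.LD.RP.nonempty_toAb_Rpush_iso (i ≫ f) G' p
  have h1 : IsZero ((Coh.Rpush (i ≫ f) p).obj G') :=
    Groth.Agent.LD.RP.isZero_of_isZero_τ _ (h0.of_iso e1)
  obtain ⟨e2⟩ := Groth.Agent.LD.PS.nonempty_Rpush_closedImmersion_iso i f G' p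
  exact h1.of_iso ((Coh.Rpush f p).mapIso e.symm ≪≫ e2)

attribute [local instance] HasDerivedCategory.standard in
theorem s1001 {X S : Scheme.{u}} [IsNoetherian S] (f : X ⟶ S) [LocallyOfFiniteType f]
    [DCoh.HasRpush f] (E : DCoh.D X) (a b : ℤ) [E.IsGE a] [E.IsLE b] (hE : DCoh.IsCohD E)
    (hsupp : ∀ i : ℤ, ClSub.IsProperOver f (CohB1.support (DCoh.HD E i))) :
    DCoh.IsCohD ((DCoh.Rpush f).obj E) ∧ ((DCoh.Rpush f).obj E).IsGE a ∧
      ∃ b' : ℤ, ((DCoh.Rpush f).obj E).IsLE b' := by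
  obtain ⟨h1, h2⟩ := s1107 f E a hE hsupp
  refine ⟨h1, h2, ?_⟩
  haveI := Groth.Agent.H6.RpRes.hasKInjRes_modules X
  haveI : IsGrothendieckAbelian.{u} X.Modules :=
    Groth.Agent.LD.QCGroth.isGrothendieckAbelian_modules X
  haveI : HasInjectiveResolutions X.Modules := inferInstance
  have hv : ∀ j : ℤ, ∃ N : ℕ, ∀ p : ℕ, N ≤ p →
      IsZero ((Coh.Rpush f p).obj (DCoh.HD E j)) :=
    fun j => exists_isZero_Rpush_of_properSupport f _ (hE j) (hsupp j)
  choose N hN using hv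
  let M : ℕ := (Finset.Icc a b).sup N
  let P : ObjectProperty X.Modules :=
    fun G => ∃ j : ℤ, a ≤ j ∧ j ≤ b ∧ Nonempty (G ≅ DCoh.HD E j)
  haveI : P.IsClosedUnderIsomorphisms :=
    ⟨fun e h => by
      obtain ⟨j, hj1, hj2, ⟨e'⟩⟩ := h
      exact ⟨j, hj1, hj2, ⟨e.symm ≪≫ e'⟩⟩⟩
  have hF : ∀ G : X.Modules, P G → ∀ p : ℕ, M ≤ p →
      IsZero (((Scheme.Modules.pushforward f).rightDerived p).obj G) := by
    rintro G ⟨j, hj1, hj2, ⟨e⟩⟩ p hp
    have hle : N j ≤ M := Finset.le_sup (f := N) (Finset.mem_Icc.2 ⟨hj1, hj2⟩)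
    exact (hN j p (hle.trans hp)).of_iso ((Coh.Rpush f p).mapIso e)
  have key := isZero_homology_RF_of_bounded (Scheme.Modules.pushforward f) P M hF
    (b - a + 1).toNat E a b (by omega)
    (fun j hj1 hj2 => ⟨j, hj1, hj2, ⟨Iso.refl _⟩⟩)
    (fun i hi => by
      rcases hi with hi | hi
      · exact isZero_of_isGE E a i hi
      · exact isZero_of_isLE E b i hi)
  refine ⟨b + M - 1, ?_⟩
  exact (isLE_iff _ (b + M - 1)).2 (fun i hi => key i (Or.inr hi))

end Groth.Agent.H6.RFTri
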