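import Mathlib
import Groth.Prelude
import Groth.Agent.Lib.Helper1.FEtFull

/-! Pseudo-functoriality of restriction of finite étale covers. -/

set_option autoImplicit false
universe u
open CategoryTheory CategoryTheory.Limits AlgebraicGeometry TopologicalSpace Opposite

namespace Groth.Agent.H6.RatFEt

open Groth.Agent.Lib.Helper1.FEtFull

/-- restriction along a composite. -/
noncomputable def restrictComp {A B C : Scheme.{u}} (a : A ⟶ B) (b : B ⟶ C) :
    FEt.restrict (a ≫ b) ≅ FEt.restrict b ⋙ FEt.restrict a :=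
  MorphismProperty.Over.pullbackComp (P := FEt.prop) (Q := ⊤) a b

/-- restriction along equal morphisms. -/
noncomputable def restrictCongr {A B : Scheme.{u}} {a a' : A ⟶ B} (h : a = a') :
    FEt.restrict a ≅ FEt.restrict a' :=
  MorphismProperty.Over.pullbackCongr h

/-- restriction along a commutative square. -/
noncomputable def restrictSq {A B C D : Scheme.{u}} (a : A ⟶ B) (b : B ⟶ D) (c : A ⟶ C)
    (d : C ⟶ D) (h : a ≫ b = c ≫ d) :
    FEt.restrict b ⋙ FEt.restrict a ≅ FEt.restrict d ⋙ FEt.restrict c :=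
  (restrictComp a b).symm ≪≫ restrictCongr h ≪≫ restrictComp c d

/-- restriction along the identity. -/
noncomputable def restrictId (X : Scheme.{u}) : FEt.restrict (𝟙 X) ≅ 𝟭 (FEt.Cat X) :=
  NatIso.ofComponents
    (fun Z => MorphismProperty.Over.isoMk (@asIso _ _ _ _ (pullback.fst Z.hom (𝟙 X))
        (pullback_fst_iso_of_right_iso _ _)) (by
      change pullback.fst Z.hom (𝟙 X) ≫ Z.hom = pullback.snd Z.hom (𝟙 X)
      rw [pullback.condition, Category.comp_id]))
    (fun {Z Z'} φ => by
      apply MorphismProperty.Over.Hom.ext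
      change mapLeft (𝟙 X) φ ≫ pullback.fst Z'.hom (𝟙 X) = pullback.fst Z.hom (𝟙 X) ≫ φ.left
      exact mapLeft_fst (𝟙 X) φ)

/-- restriction along an isomorphism is an equivalence. -/
noncomputable def restrictEquiv {X Y : Scheme.{u}} (e : X ≅ Y) : FEt.Cat Y ≌ FEt.Cat X :=
  CategoryTheory.Equivalence.mk (FEt.restrict e.hom) (FEt.restrict e.inv)
    ((restrictId Y).symm ≪≫ restrictCongr (e.inv_hom_id).symm ≪≫ restrictComp e.inv e.hom)
    ((restrictComp e.hom e.inv).symm ≪≫ restrictCongr (e.hom_inv_id) ≪≫ restrictId X)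

instance isEquivalence_restrict_of_isIso {X Y : Scheme.{u}} (f : X ⟶ Y) [IsIso f] :
    (FEt.restrict f).IsEquivalence :=
  (restrictEquiv (asIso f)).isEquivalence_functor

end Groth.Agent.H6.RatFEt
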