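import Mathlib
import Groth.Prelude
import Groth.Agent.Lib.Helper6.RatFEt1
import Groth.Agent.Lib.Helper6.PurGl8

/-! Finite étale covers pulled back along a rational map to a proper scheme are unramified in
codimension one, hence extend over regular schemes. -/

set_option autoImplicit false
universe u
set_option linter.style.haveILetI false
open CategoryTheory CategoryTheory.Limits AlgebraicGeometry TopologicalSpace Opposite IsLocalRing

namespace Groth.Agent.H6.RatFEt

section V

variable {T S P : Scheme.{u}} [IsLocallyNoetherian T] (t : T ⟶ S) (p : P ⟶ S) [IsProper p]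
  (U : T.Opens) (hU : Dense (U : Set T)) (φ : (U : Scheme.{u}) ⟶ P) (hφ : φ ≫ p = U.ι ≫ t)

include hU hφ in
/-- valuative criterion at a regular point of codimension one. -/
theorem exists_lift_stalk (ξ : T) (hξ : ξ ∉ U) [IsRegularLocalRing (T.presheaf.stalk ξ)]
    (hdim : ringKrullDim (T.presheaf.stalk ξ) = 1) :
    ∃ l : Spec (T.presheaf.stalk ξ) ⟶ P, l ≫ p = T.fromSpecStalk ξ ≫ t ∧
      pullback.snd U.ι (T.fromSpecStalk ξ) ≫ l = pullback.fst U.ι (T.fromSpecStalk ξ) ≫ φ := by
  haveI : IsDomain (T.presheaf.stalk ξ) := Groth.Agent.H7.Reg.isDomain _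
  have h1 : Module.finrank (ResidueField (T.presheaf.stalk ξ))
      (CotangentSpace (T.presheaf.stalk ξ)) = 1 := by
    have h2 := (IsRegularLocalRing.iff_finrank_cotangentSpace (T.presheaf.stalk ξ)).mp
      inferInstance
    rw [hdim] at h2
    exact_mod_cast h2
  haveI : IsDiscreteValuationRing (T.presheaf.stalk ξ) :=
    IsLocalRing.finrank_CotangentSpace_eq_one_iff.mp h1
  let K := FractionRing (T.presheaf.stalk ξ)
  let j : Spec (CommRingCat.of K) ⟶ Spec (T.presheaf.stalk ξ) :=
    Spec.map (CommRingCat.ofHom (algebraMap (T.presheaf.stalk ξ) K))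
  have hj : ∀ z : Spec (CommRingCat.of K), (j z).asIdeal = ⊥ := by
    intro z
    have hz : z.asIdeal = ⊥ := Ideal.eq_bot_of_prime z.asIdeal
    change z.asIdeal.comap (algebraMap (T.presheaf.stalk ξ) K) = ⊥
    rw [hz]
    exact Ideal.comap_bot_of_injective _ (IsFractionRing.injective _ _)
  have hmax : maximalIdeal (T.presheaf.stalk ξ) ≠ ⊥ :=
    IsDiscreteValuationRing.not_a_field _
  have hjne : ∀ z : Spec (CommRingCat.of K), j z ≠ closedPoint (T.presheaf.stalk ξ) := by
    intro z h
    apply hmax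
    rw [← hj z, h]
    rfl
  let c : Spec (CommRingCat.of K) ⟶ T := j ≫ T.fromSpecStalk ξ
  have hrange : Set.range c ⊆ Set.range U.ι := by
    rintro _ ⟨z, rfl⟩
    rw [Scheme.Opens.range_ι]
    have hs : c z ⤳ ξ := by
      have : c z ∈ Set.range (T.fromSpecStalk ξ) := ⟨j z, rfl⟩
      rw [Scheme.range_fromSpecStalk] at this
      exact this
    have hne : c z ≠ ξ := by
      intro h
      have h2 : (T.fromSpecStalk ξ) (j z) =
          (T.fromSpecStalk ξ) (closedPoint (T.presheaf.stalk ξ)) := by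
        rw [Scheme.fromSpecStalk_closedPoint]
        exact h
      exact hjne z ((T.fromSpecStalk ξ).isEmbedding.injective h2)
    exact Groth.Agent.H6.PurGl.mem_of_specializes_of_dim_le_one U hU ξ (le_of_eq hdim) _ hs hne
  let a : Spec (CommRingCat.of K) ⟶ (U : Scheme.{u}) := IsOpenImmersion.lift U.ι c hrange
  have ha : a ≫ U.ι = j ≫ T.fromSpecStalk ξ := IsOpenImmersion.lift_fac _ _ _
  have hex : ValuativeCriterion.Existence p :=
    ((UniversallyClosed.eq_valuativeCriterion ▸ (inferInstance : UniversallyClosed p)) :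
      (ValuativeCriterion.Existence ⊓ @QuasiCompact) p).1
  have hcomm : (a ≫ φ) ≫ p = j ≫ T.fromSpecStalk ξ ≫ t := by
    rw [Category.assoc, hφ, reassoc_of% ha]
  let sq : ValuativeCommSq p :=
    { R := T.presheaf.stalk ξ
      commRing := inferInstance
      domain := inferInstance
      valuationRing := inferInstance
      K := K
      field := inferInstance
      algebra := inferInstance
      isFractionRing := inferInstance
      i₁ := a ≫ φ
      i₂ := T.fromSpecStalk ξ ≫ t
      commSq := ⟨hcomm⟩ }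
  obtain ⟨⟨l₀, hl1, hl2⟩⟩ := hex sq
  let l : Spec (T.presheaf.stalk ξ) ⟶ P := l₀
  have hl1' : j ≫ l = a ≫ φ := hl1
  have hl2' : l ≫ p = T.fromSpecStalk ξ ≫ t := hl2
  refine ⟨l, hl2', ?_⟩
  -- the punctured spectrum is a point
  let b : Spec (CommRingCat.of K) ⟶ pullback U.ι (T.fromSpecStalk ξ) := pullback.lift a j ha
  have hb1 : b ≫ pullback.fst U.ι (T.fromSpecStalk ξ) = a := pullback.lift_fst _ _ _
  have hb2 : b ≫ pullback.snd U.ι (T.fromSpecStalk ξ) = j := pullback.lift_snd _ _ _
  haveI : Nonempty (Spec (CommRingCat.of K)) := ⟨⟨⊥, Ideal.isPrime_bot⟩⟩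
  haveI : Surjective b := by
    refine ⟨fun w => ?_⟩
    let z₀ : Spec (CommRingCat.of K) := Classical.arbitrary _
    refine ⟨z₀, ?_⟩
    apply (pullback.snd U.ι (T.fromSpecStalk ξ)).isOpenEmbedding.injective
    rw [← Scheme.Hom.comp_apply, hb2]
    have hw : (pullback.snd U.ι (T.fromSpecStalk ξ) w).asIdeal = ⊥ := by
      by_contra hne
      have hmx : (pullback.snd U.ι (T.fromSpecStalk ξ) w).asIdeal.IsMaximal :=
        (pullback.snd U.ι (T.fromSpecStalk ξ) w).2.isMaximal hne
      have heq : pullback.snd U.ι (T.fromSpecStalk ξ) w = closedPoint (T.presheaf.stalk ξ) :=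
        PrimeSpectrum.ext (IsLocalRing.eq_maximalIdeal hmx)
      apply hξ
      have h3 : (T.fromSpecStalk ξ) (pullback.snd U.ι (T.fromSpecStalk ξ) w) = ξ := by
        rw [heq, Scheme.fromSpecStalk_closedPoint]
      rw [← h3, ← Scheme.Hom.comp_apply, ← pullback.condition, Scheme.Hom.comp_apply]
      exact (pullback.fst U.ι (T.fromSpecStalk ξ) w).2
    exact PrimeSpectrum.ext ((hj z₀).trans hw.symm)
  haveI : IsReduced (pullback U.ι (T.fromSpecStalk ξ)) :=
    isReduced_of_isOpenImmersion (pullback.snd U.ι (T.fromSpecStalk ξ))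
  refine ext_of_isDominant_of_isSeparated p ?_ b ?_
  · rw [Category.assoc, Category.assoc, hl2', hφ, pullback.condition_assoc]
  · rw [reassoc_of% hb2, reassoc_of% hb1, hl1']

include hU hφ in
theorem exists_unramified (Z : FEt.Cat P) (ξ : T) (hξ : ξ ∉ U)
    [IsRegularLocalRing (T.presheaf.stalk ξ)] (hdim : ringKrullDim (T.presheaf.stalk ξ) = 1) :
    ∃ Yξ : FEt.Cat (Spec (T.presheaf.stalk ξ)),
      Nonempty ((FEt.restrict (pullback.snd U.ι (T.fromSpecStalk ξ))).obj Yξ ≅
        (FEt.restrict (pullback.fst U.ι (T.fromSpecStalk ξ))).obj ((FEt.restrict φ).obj Z)) := by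
  obtain ⟨l, -, hl⟩ := exists_lift_stalk t p U hU φ hφ ξ hξ hdim
  exact ⟨(FEt.restrict l).obj Z, ⟨(restrictSq _ _ _ _ hl).app Z⟩⟩

include hU hφ in
/-- **Lemma E**: covers pulled back from a proper scheme along a rational map extend. -/
theorem essImage_restrict (hreg : ∀ x : T, x ∉ U → IsRegularLocalRing (T.presheaf.stalk x))
    (Z : FEt.Cat P) : (FEt.restrict U.ι).essImage ((FEt.restrict φ).obj Z) := by
  apply Groth.Agent.H6.PurGl.s0287 U hU ((FEt.restrict φ).obj Z) hreg
  intro ξ hξ hdim
  haveI := hreg ξ hξ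
  exact exists_unramified t p U hU φ hφ Z ξ hξ hdim

end V

end Groth.Agent.H6.RatFEt
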