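import Mathlib
import Groth.Prelude
import Groth.Agent.Lib.Helper6.RatFEt2
import Groth.Agent.Lib.Helper6.NormExt2

/-! Birational invariance of the category of finite étale covers (S2918, S18424). -/

set_option autoImplicit false
universe u
set_option linter.style.haveILetI false
open CategoryTheory CategoryTheory.Limits AlgebraicGeometry TopologicalSpace Opposite IsLocalRing

namespace Groth.Agent.H6.RatFEt

/-- restriction to a dense open of a regular locally Noetherian scheme is fully faithful. -/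
theorem fullyFaithful_restrict_of_regular {X : Scheme.{u}} [IsLocallyNoetherian X]
    (hX : ∀ x : X, IsRegularLocalRing (X.presheaf.stalk x)) (U : X.Opens)
    (hU : Dense (U : Set X)) : (FEt.restrict U.ι).Full ∧ (FEt.restrict U.ι).Faithful := by
  refine Groth.Agent.H6.NormExt.fullyFaithful_restrict U hU (fun x _ => ?_)
  haveI := hX x
  exact ⟨Groth.Agent.H7.Reg.isDomain _, Groth.Agent.H1.Reg.isIntegrallyClosed _⟩

/-- **S2918**. -/
theorem s2918 (k : Type u) [Field k] {X Y : Scheme.{u}}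
    (f : X ⟶ Spec (CommRingCat.of k)) (g : Y ⟶ Spec (CommRingCat.of k)) [IsProper f] [IsProper g]
    [IsLocallyNoetherian X] [IsLocallyNoetherian Y]
    (hX : ∀ x : X, IsRegularLocalRing (X.presheaf.stalk x))
    (hY : ∀ y : Y, IsRegularLocalRing (Y.presheaf.stalk y))
    (U : X.Opens) (V : Y.Opens) (hU : Dense (U : Set X)) (hV : Dense (V : Set Y))
    (e : (U : Scheme.{u}) ≅ (V : Scheme.{u})) (he : e.hom ≫ V.ι ≫ g = U.ι ≫ f) :
    ∃ Φ : FEt.Cat X ≌ FEt.Cat Y,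
      Nonempty (FEt.restrict U.ι ≅ Φ.functor ⋙ FEt.restrict V.ι ⋙ FEt.restrict e.hom) := by
  obtain ⟨hUfull, hUfaith⟩ := fullyFaithful_restrict_of_regular hX U hU
  obtain ⟨hVfull, hVfaith⟩ := fullyFaithful_restrict_of_regular hY V hV
  let φ : (U : Scheme.{u}) ⟶ Y := e.hom ≫ V.ι
  have hφ : φ ≫ g = U.ι ≫ f := by rw [Category.assoc]; exact he
  let φ' : (V : Scheme.{u}) ⟶ X := e.inv ≫ U.ι
  have hφ' : φ' ≫ f = V.ι ≫ g := by
    rw [Category.assoc, ← he, Iso.inv_hom_id_assoc]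
  have hF₁ : ∀ Z : FEt.Cat Y, (FEt.restrict U.ι).essImage ((FEt.restrict φ).obj Z) :=
    essImage_restrict f g U hU φ hφ (fun x _ => hX x)
  have hF₂ : ∀ Z : FEt.Cat X, (FEt.restrict V.ι).essImage ((FEt.restrict φ').obj Z) :=
    essImage_restrict g f V hV φ' hφ' (fun y _ => hY y)
  let Ψ' : FEt.Cat Y ⥤ FEt.Cat X :=
    Functor.essImage.liftFunctor (FEt.restrict φ) (FEt.restrict U.ι) hF₁
  let iΨ : Ψ' ⋙ FEt.restrict U.ι ≅ FEt.restrict φ :=
    Functor.essImage.liftFunctorCompIso (FEt.restrict φ) (FEt.restrict U.ι) hF₁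
  let Φ' : FEt.Cat X ⥤ FEt.Cat Y :=
    Functor.essImage.liftFunctor (FEt.restrict φ') (FEt.restrict V.ι) hF₂
  let iΦ : Φ' ⋙ FEt.restrict V.ι ≅ FEt.restrict φ' :=
    Functor.essImage.liftFunctorCompIso (FEt.restrict φ') (FEt.restrict V.ι) hF₂
  -- the compatibilities
  have h1 : e.hom ≫ φ' = U.ι := by
    change e.hom ≫ e.inv ≫ U.ι = U.ι
    rw [Iso.hom_inv_id_assoc]
  have h2 : e.inv ≫ φ = V.ι := by
    change e.inv ≫ e.hom ≫ V.ι = V.ι
    rw [Iso.inv_hom_id_assoc]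
  let c1 : Φ' ⋙ FEt.restrict V.ι ⋙ FEt.restrict e.hom ≅ FEt.restrict U.ι :=
    (Functor.associator _ _ _).symm ≪≫ Functor.isoWhiskerRight iΦ (FEt.restrict e.hom) ≪≫
      (restrictComp e.hom φ').symm ≪≫ restrictCongr h1
  let c2 : Ψ' ⋙ FEt.restrict U.ι ⋙ FEt.restrict e.inv ≅ FEt.restrict V.ι :=
    (Functor.associator _ _ _).symm ≪≫ Functor.isoWhiskerRight iΨ (FEt.restrict e.inv) ≪≫
      (restrictComp e.inv φ).symm ≪≫ restrictCongr h2
  -- `Φ' ⋙ Ψ' ≅ 𝟭`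
  let d1 : (Φ' ⋙ Ψ') ⋙ FEt.restrict U.ι ≅ 𝟭 _ ⋙ FEt.restrict U.ι :=
    Functor.associator _ _ _ ≪≫ Functor.isoWhiskerLeft Φ' iΨ ≪≫
      Functor.isoWhiskerLeft Φ' (restrictComp e.hom V.ι) ≪≫ c1 ≪≫
      (Functor.leftUnitor _).symm
  let d2 : (Ψ' ⋙ Φ') ⋙ FEt.restrict V.ι ≅ 𝟭 _ ⋙ FEt.restrict V.ι :=
    Functor.associator _ _ _ ≪≫ Functor.isoWhiskerLeft Ψ' iΦ ≪≫
      Functor.isoWhiskerLeft Ψ' (restrictComp e.inv U.ι) ≪≫ c2 ≪≫
      (Functor.leftUnitor _).symm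
  let η : 𝟭 (FEt.Cat X) ≅ Φ' ⋙ Ψ' :=
    (Functor.fullyFaithfulCancelRight (FEt.restrict U.ι) d1).symm
  let ε : Ψ' ⋙ Φ' ≅ 𝟭 (FEt.Cat Y) := Functor.fullyFaithfulCancelRight (FEt.restrict V.ι) d2
  exact ⟨CategoryTheory.Equivalence.mk Φ' Ψ' η ε, ⟨c1.symm⟩⟩

/-- **S18424**. -/
theorem s18424 (k : Type u) [Field k]
    {X Y : Scheme.{u}} (f : X ⟶ Y) (g : Y ⟶ Spec (CommRingCat.of k))
    [IsSeparated g] [LocallyOfFiniteType g] [QuasiCompact g]
    [IsSeparated (f ≫ g)] [LocallyOfFiniteType (f ≫ g)] [QuasiCompact (f ≫ g)]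
    [IsIntegral X] [IsIntegral Y] (hX : Pi1.IsNormalScheme X)
    (hY : ∀ y : Y, IsRegularLocalRing (Y.presheaf.stalk y)) [IsProper f]
    (V : Y.Opens) (hV : (V : Set Y).Nonempty) (hf : IsIso (f ∣_ V)) :
    (FEt.restrict f).IsEquivalence := by
  haveI : IsLocallyNoetherian Y := LocallyOfFiniteType.isLocallyNoetherian g
  haveI : IsLocallyNoetherian X := LocallyOfFiniteType.isLocallyNoetherian (f ≫ g)
  have hVd : Dense (V : Set Y) := V.2.dense hV
  let W : X.Opens := f ⁻¹ᵁ V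
  have hWne : (W : Set X).Nonempty := by
    obtain ⟨y, hy⟩ := hV
    exact ⟨(inv (f ∣_ V) ⟨y, hy⟩).1, (inv (f ∣_ V) ⟨y, hy⟩).2⟩
  have hWd : Dense (W : Set X) := W.2.dense hWne
  let h : (V : Scheme.{u}) ⟶ (W : Scheme.{u}) := inv (f ∣_ V)
  let φ : (V : Scheme.{u}) ⟶ X := h ≫ W.ι
  have hφf : φ ≫ f = V.ι := by
    change (inv (f ∣_ V) ≫ (f ⁻¹ᵁ V).ι) ≫ f = V.ι
    rw [Category.assoc, ← morphismRestrict_ι, IsIso.inv_hom_id_assoc]
  obtain ⟨hVfull, hVfaith⟩ := fullyFaithful_restrict_of_regular hY V hVd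
  obtain ⟨hWfull, hWfaith⟩ := Groth.Agent.H6.NormExt.fullyFaithful_restrict W hWd (fun x _ => hX x)
  haveI : (FEt.restrict h).IsEquivalence := inferInstance
  -- restriction along `φ` is fully faithful
  let iφ : FEt.restrict φ ≅ FEt.restrict W.ι ⋙ FEt.restrict h := restrictComp h W.ι
  haveI : (FEt.restrict φ).Full := Functor.Full.of_iso iφ.symm
  haveI : (FEt.restrict φ).Faithful := Functor.Faithful.of_iso iφ.symm
  -- the composite is restriction to `V`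
  let ic : FEt.restrict f ⋙ FEt.restrict φ ≅ FEt.restrict V.ι :=
    (restrictComp φ f).symm ≪≫ restrictCongr hφf
  haveI : (FEt.restrict f ⋙ FEt.restrict φ).Full := Functor.Full.of_iso ic.symm
  haveI : (FEt.restrict f ⋙ FEt.restrict φ).Faithful := Functor.Faithful.of_iso ic.symm
  haveI : (FEt.restrict f).Faithful := Functor.Faithful.of_comp (FEt.restrict f) (FEt.restrict φ)
  haveI : (FEt.restrict f).Full := Functor.Full.of_comp_faithful (FEt.restrict f) (FEt.restrict φ)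
  have hφ1 : φ ≫ f = V.ι ≫ 𝟙 Y := by rw [hφf, Category.comp_id]
  haveI : (FEt.restrict f).EssSurj := by
    refine ⟨fun Z => ?_⟩
    obtain ⟨Y', ⟨i⟩⟩ := essImage_restrict (𝟙 Y) f V hVd φ hφ1 (fun y _ => hY y) Z
    exact ⟨Y', ⟨(FEt.restrict φ).preimageIso (ic.app Y' ≪≫ i)⟩⟩
  exact { }

end Groth.Agent.H6.RatFEt
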