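import Mathlib
import Groth.Agent.Lib.Helper8.ZMTSection

/-!
# Domains of definition of rational maps at normal points (EGA IV 20.3-style, via Zariski's main
theorem)

* `extends_of_isolated` (S3836): a rational `S`-map from a locally integral scheme `X` to a separated
  `S`-scheme locally of finite type is defined at a normal point `x` as soon as the fibre over `x`
  of the closure of its graph has an isolated point.
* `extends_iff` (S3837): descent of the domain of definition along a universally open morphism.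
-/

set_option autoImplicit false
universe u
open CategoryTheory CategoryTheory.Limits AlgebraicGeometry IsLocalRing TopologicalSpace

namespace Groth.Agent.H6.RatMap

open Groth.Agent.H8

/-- a field-valued point whose image lies in a closed subscheme factors through it
(copy of helper3's lemma, to keep imports light). -/
theorem exists_lift_of_range_subset {K : Type u} [Field K] {E Y : Scheme.{u}} (e : E ⟶ Y)
    [IsClosedImmersion e] (y : Spec (CommRingCat.of K) ⟶ Y) (h : Set.range y ⊆ Set.range e) :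
    ∃ w : Spec (CommRingCat.of K) ⟶ E, w ≫ e = y := by
  have hs : Surjective (pullback.fst y e) := by
    constructor
    intro p
    obtain ⟨q, hq⟩ := h ⟨p, rfl⟩
    obtain ⟨z, hz, -⟩ := Scheme.Pullback.exists_preimage_pullback p q hq.symm
    exact ⟨z, hz⟩
  have : IsIso (pullback.fst y e) := isIso_of_isClosedImmersion_of_surjective _
  exact ⟨inv (pullback.fst y e) ≫ pullback.snd y e, by
    rw [Category.assoc, ← pullback.condition, IsIso.inv_hom_id_assoc]⟩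

theorem mem_closure_inter_of_isOpen {α : Type*} [TopologicalSpace α] {A N : Set α}
    (hN : IsOpen N) {z : α} (hzN : z ∈ N) (hz : z ∈ closure A) : z ∈ closure (A ∩ N) := by
  rw [mem_closure_iff] at hz ⊢
  intro O hO hzO
  obtain ⟨w, ⟨hwO, hwN⟩, hwA⟩ := hz (O ∩ N) (hO.inter hN) ⟨hzO, hzN⟩
  exact ⟨w, hwO, hwA, hwN⟩

set_option maxHeartbeats 1600000 in
/-- **S3836**. -/
theorem extends_of_isolated {X Y S : Scheme.{u}} (pX : X ⟶ S) (pY : Y ⟶ S)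
    [LocallyOfFiniteType pY] [IsSeparated pY]
    (hX : ∀ y : ↥X, ∃ W : X.Opens, y ∈ W ∧ IsIntegral (W : Scheme.{u}))
    (U : X.Opens) (hU : Dense (U : Set ↥X)) (h : (U : Scheme.{u}) ⟶ Y) (hh : U.ι ≫ pX = h ≫ pY)
    (x : ↥X) (hx : IsIntegrallyClosed (X.presheaf.stalk x))
    (z : ↥(pullback pX pY)) (hz : pullback.fst pX pY z = x)
    (hzΓ : z ∈ closure (Set.range (pullback.lift U.ι h hh)))
    (hiso : ∃ W : (pullback pX pY).Opens,
      (W : Set ↥(pullback pX pY)) ∩ closure (Set.range (pullback.lift U.ι h hh)) ∩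
      (pullback.fst pX pY) ⁻¹' {x} = {z}) :
    ∃ (V : X.Opens) (v : (V : Scheme.{u}) ⟶ Y), x ∈ V ∧ v ≫ pY = V.ι ≫ pX ∧
      X.homOfLE (inf_le_right : U ⊓ V ≤ V) ≫ v = X.homOfLE (inf_le_left : U ⊓ V ≤ U) ≫ h := by
  classical
  obtain ⟨p₁, hp₁⟩ : ∃ p₁ : pullback pX pY ⟶ X, p₁ = pullback.fst pX pY := ⟨_, rfl⟩
  obtain ⟨p₂, hp₂⟩ : ∃ p₂ : pullback pX pY ⟶ Y, p₂ = pullback.snd pX pY := ⟨_, rfl⟩
  obtain ⟨γ, hγ⟩ : ∃ γ : (U : Scheme.{u}) ⟶ pullback pX pY, γ = pullback.lift U.ι h hh :=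
    ⟨_, rfl⟩
  rw [← hp₁] at hz hiso
  rw [← hγ] at hzΓ hiso
  haveI : LocallyOfFiniteType p₁ := by rw [hp₁]; infer_instance
  have hγ1 : γ ≫ p₁ = U.ι := by rw [hγ, hp₁]; exact pullback.lift_fst _ _ _
  have hγ2 : γ ≫ p₂ = h := by rw [hγ, hp₂]; exact pullback.lift_snd _ _ _
  have hcond : p₁ ≫ pX = p₂ ≫ pY := by rw [hp₁, hp₂]; exact pullback.condition
  -- the reduced closed subscheme on the closure of the graph
  obtain ⟨I, hI⟩ : ∃ I : (pullback pX pY).IdealSheafData,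
      I = Scheme.IdealSheafData.vanishingIdeal ⟨closure (Set.range γ), isClosed_closure⟩ :=
    ⟨_, rfl⟩
  obtain ⟨i, hi⟩ : ∃ i : I.subscheme ⟶ pullback pX pY, i = I.subschemeι := ⟨_, rfl⟩
  haveI : IsClosedImmersion i := by rw [hi]; infer_instance
  have hir : Set.range i = closure (Set.range γ) := by
    rw [hi, Scheme.IdealSheafData.range_subschemeι, hI,
      Scheme.IdealSheafData.coe_support_vanishingIdeal]
    rfl
  obtain ⟨z₀, rfl⟩ : ∃ z₀, i z₀ = z := by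
    have : z ∈ Set.range i := hir ▸ hzΓ
    exact this
  obtain ⟨q, hq⟩ : ∃ q : I.subscheme ⟶ X, q = i ≫ p₁ := ⟨_, rfl⟩
  haveI : LocallyOfFiniteType q := by rw [hq]; infer_instance
  have hqa : ∀ w, q w = p₁ (i w) := fun w => by rw [hq, Scheme.Hom.comp_apply]
  have hqz : q z₀ = x := by rw [hqa]; exact hz
  subst hqz
  -- an integral neighbourhood
  obtain ⟨W₀, hxW₀, hW₀⟩ := hX (q z₀)
  haveI := hW₀
  haveI : IsDomain (X.presheaf.stalk (q z₀)) := by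
    have e := (asIso (W₀.ι.stalkMap ⟨q z₀, hxW₀⟩)).commRingCatIsoToRingEquiv
    exact e.toMulEquiv.isDomain _
  haveI := hx
  haveI : X.IsGermInjectiveAt (q z₀) :=
    inferInstanceAs (X.IsGermInjectiveAt (W₀.ι ⟨q z₀, hxW₀⟩))
  obtain ⟨hηW₀, hW₀cl⟩ := Extend.genPt_mem_and_subset_closure (q z₀) W₀ hxW₀
  have hηU : Extend.genPt (q z₀) ∈ U := by
    obtain ⟨u, huW, huU⟩ := hU.inter_open_nonempty W₀ W₀.isOpen ⟨q z₀, hxW₀⟩
    have : Extend.genPt (q z₀) ⤳ u := specializes_iff_mem_closure.2 (hW₀cl huW)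
    exact this.mem_open U.isOpen huU
  -- quasi-finiteness at `z₀`
  have hqf : q.QuasiFiniteAt z₀ := by
    rw [Scheme.Hom.quasiFiniteAt_iff_isOpen_singleton_asFiber,
      ← (q.fiberHomeo (q z₀)).isOpen_image]
    simp only [Set.image_singleton, Scheme.Hom.asFiber, Homeomorph.apply_symm_apply]
    obtain ⟨W, hW⟩ := hiso
    have key : ({⟨z₀, rfl⟩} : Set (q ⁻¹' {q z₀})) = Subtype.val ⁻¹' (i ⁻¹' (W : Set _)) := by
      ext ⟨w, hw⟩
      simp only [Set.mem_singleton_iff, Subtype.mk.injEq, Set.mem_preimage]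
      constructor
      · rintro rfl
        have h1 : i w ∈ ({i w} : Set _) := rfl
        rw [← hW] at h1
        exact h1.1.1
      · intro hwW
        have h1 : i w ∈ ({i z₀} : Set _) := by
          rw [← hW]
          refine ⟨⟨hwW, hir ▸ ⟨w, rfl⟩⟩, ?_⟩
          exact (hqa w).symm.trans hw
        exact i.isEmbedding.injective h1
    rw [key]
    exact (W.isOpen.preimage i.continuous).preimage continuous_subtype_val
  -- the generic point as a point with values in the fraction field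
  obtain ⟨ι, hι⟩ : ∃ ι : Spec (CommRingCat.of (FractionRing (X.presheaf.stalk (q z₀)))) ⟶
      Spec (X.presheaf.stalk (q z₀)),
      ι = Spec.map (CommRingCat.ofHom (algebraMap (X.presheaf.stalk (q z₀))
        (FractionRing (X.presheaf.stalk (q z₀))))) := ⟨_, rfl⟩
  obtain ⟨tK, htKdef⟩ : ∃ tK : Spec (CommRingCat.of (FractionRing (X.presheaf.stalk (q z₀)))) ⟶ X,
      tK = ι ≫ X.fromSpecStalk (q z₀) := ⟨_, rfl⟩
  have htK : ∀ pt, tK pt = Extend.genPt (q z₀) := by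
    intro pt
    rw [htKdef, Scheme.Hom.comp_apply, hι]
    congr 1
    exact MonoVal.specMap_apply_of_injective (algebraMap (X.presheaf.stalk (q z₀))
      (FractionRing (X.presheaf.stalk (q z₀))))
      (IsFractionRing.injective (X.presheaf.stalk (q z₀))
        (FractionRing (X.presheaf.stalk (q z₀)))) pt
  have hrange : ∀ (W : X.Opens), Extend.genPt (q z₀) ∈ W → Set.range tK ⊆ Set.range W.ι := by
    rintro W hW _ ⟨pt, rfl⟩
    rw [htK, Scheme.Opens.range_ι]; exact hW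
  obtain ⟨t, ht⟩ : ∃ t : Spec (CommRingCat.of (FractionRing (X.presheaf.stalk (q z₀)))) ⟶
      (U : Scheme.{u}), t ≫ U.ι = tK :=
    ⟨IsOpenImmersion.lift U.ι tK (hrange U hηU), IsOpenImmersion.lift_fac _ _ _⟩
  have htpt : ∀ pt, t pt = ⟨Extend.genPt (q z₀), hηU⟩ := by
    intro pt
    apply Subtype.ext
    change (t ≫ U.ι) _ = _
    rw [ht, htK]
  obtain ⟨yK, hyK⟩ := exists_lift_of_range_subset i (t ≫ γ) (by
    rintro _ ⟨pt, rfl⟩
    rw [hir]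
    exact subset_closure ⟨t pt, by rw [Scheme.Hom.comp_apply]⟩)
  have hyKq : yK ≫ q = ι ≫ X.fromSpecStalk (q z₀) := by
    have h0 : yK ≫ q = yK ≫ i ≫ p₁ := congrArg (fun m => yK ≫ m) hq
    rw [h0, ← Category.assoc, hyK, Category.assoc, hγ1, ht, htKdef]
  have hsp : yK (closedPoint (FractionRing (X.presheaf.stalk (q z₀)))) ⤳ z₀ := by
    apply (i.isEmbedding.isInducing.specializes_iff).1
    have h1 : i (yK (closedPoint (FractionRing (X.presheaf.stalk (q z₀))))) =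
        γ ⟨Extend.genPt (q z₀), hηU⟩ := by
      rw [← Scheme.Hom.comp_apply, hyK, Scheme.Hom.comp_apply, htpt]
    rw [h1, specializes_iff_mem_closure]
    have hN : IsOpen (p₁ ⁻¹' (W₀ : Set X)) := W₀.isOpen.preimage p₁.continuous
    have hzN : i z₀ ∈ p₁ ⁻¹' (W₀ : Set X) := by
      change p₁ (i z₀) ∈ W₀
      rw [hz]; exact hxW₀
    have h2 := mem_closure_inter_of_isOpen hN hzN hzΓ
    refine closure_minimal ?_ isClosed_closure h2
    rintro _ ⟨⟨u, rfl⟩, huN⟩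
    have hu : U.ι u ∈ W₀ := by
      have h3 : p₁ (γ u) = U.ι u := by rw [← Scheme.Hom.comp_apply, hγ1]
      rw [← h3]; exact huN
    have h3 : Extend.genPt (q z₀) ⤳ U.ι u := specializes_iff_mem_closure.2 (hW₀cl hu)
    have h4 : (⟨Extend.genPt (q z₀), hηU⟩ : (U : Scheme.{u})) ⤳ u :=
      (U.ι.isEmbedding.isInducing.specializes_iff).1 h3
    exact (h4.map γ.continuous).mem_closure
  -- the stalk section
  obtain ⟨l, hlq, hlcl, hlK⟩ :=
    ZMTSection.exists_stalk_section_of_quasiFinite q z₀ hqf yK (by rw [hyKq, hι]) hsp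
  rw [← hι] at hlK
  -- spread out
  obtain ⟨V₂, hxV₂, fV₂, hfV₂, hfV₂q⟩ := spread_out_of_isGermInjective' pX pY (l ≫ i ≫ p₂) (by
    rw [Category.assoc, Category.assoc, ← hcond, ← Category.assoc i, ← hq, ← Category.assoc, hlq])
  obtain ⟨V, hV⟩ : ∃ V : X.Opens, V = V₂ ⊓ W₀ := ⟨_, rfl⟩
  have hVV₂ : V ≤ V₂ := hV ▸ inf_le_left
  have hVW₀ : V ≤ W₀ := hV ▸ inf_le_right
  have hxV : q z₀ ∈ V := hV ▸ ⟨hxV₂, hxW₀⟩
  obtain ⟨fV, hfV⟩ : ∃ fV : (V : Scheme.{u}) ⟶ Y, fV = X.homOfLE hVV₂ ≫ fV₂ := ⟨_, rfl⟩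
  have hfVq : fV ≫ pY = V.ι ≫ pX := by
    rw [hfV, Category.assoc, hfV₂q, ← Category.assoc, Scheme.homOfLE_ι]
  refine ⟨V, fV, hxV, hfVq, ?_⟩
  -- agreement on the overlap
  have hηV : Extend.genPt (q z₀) ∈ V :=
    (Extend.genPt_specializes (q z₀)).mem_open V.isOpen hxV
  have hηW : Extend.genPt (q z₀) ∈ U ⊓ V := ⟨hηU, hηV⟩
  have hWW₀ : U ⊓ V ≤ W₀ := inf_le_right.trans hVW₀
  haveI : Nonempty ((U ⊓ V : X.Opens) : Scheme.{u}) := ⟨⟨_, hηW⟩⟩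
  haveI : IsIntegral ((U ⊓ V : X.Opens) : Scheme.{u}) :=
    isIntegral_of_isOpenImmersion (X.homOfLE hWW₀)
  obtain ⟨tW, htW⟩ : ∃ tW : Spec (CommRingCat.of (FractionRing (X.presheaf.stalk (q z₀)))) ⟶
      ((U ⊓ V : X.Opens) : Scheme.{u}), tW ≫ (U ⊓ V).ι = tK :=
    ⟨IsOpenImmersion.lift (U ⊓ V).ι tK (hrange (U ⊓ V) hηW), IsOpenImmersion.lift_fac _ _ _⟩
  haveI hdom : IsDominant tW := RatExt.isDominant_of_genPt (q z₀) W₀ hW₀cl (U ⊓ V) hWW₀ tW (by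
    rw [← Scheme.Hom.comp_apply, htW, htK])
  refine ext_of_isDominant_of_isSeparated pY ?_ tW ?_
  · rw [Category.assoc, Category.assoc, hfVq, ← hh, ← Category.assoc, ← Category.assoc,
      Scheme.homOfLE_ι, Scheme.homOfLE_ι]
  · have h1 : tW ≫ X.homOfLE (inf_le_left : U ⊓ V ≤ U) = t := by
      rw [← cancel_mono U.ι, Category.assoc, Scheme.homOfLE_ι, htW, ht]
    have h2 : tW ≫ X.homOfLE (inf_le_right : U ⊓ V ≤ V) ≫ X.homOfLE hVV₂ =
        ι ≫ V₂.fromSpecStalkOfMem (q z₀) hxV₂ := by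
      rw [← cancel_mono V₂.ι]
      simp only [Category.assoc, Scheme.homOfLE_ι, Scheme.Opens.fromSpecStalkOfMem_ι]
      rw [htW, htKdef]
    have hR : tW ≫ X.homOfLE (inf_le_left : U ⊓ V ≤ U) ≫ h = t ≫ h := by
      rw [← Category.assoc, h1]
    have hL : tW ≫ X.homOfLE (inf_le_right : U ⊓ V ≤ V) ≫ fV = t ≫ h := by
      rw [hfV]
      calc tW ≫ X.homOfLE (inf_le_right : U ⊓ V ≤ V) ≫ X.homOfLE hVV₂ ≫ fV₂
          = (tW ≫ X.homOfLE (inf_le_right : U ⊓ V ≤ V) ≫ X.homOfLE hVV₂) ≫ fV₂ := by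
            simp only [Category.assoc]
        _ = (ι ≫ V₂.fromSpecStalkOfMem (q z₀) hxV₂) ≫ fV₂ := by rw [h2]
        _ = ι ≫ (l ≫ i ≫ p₂) := by rw [Category.assoc, ← hfV₂]
        _ = (ι ≫ l) ≫ i ≫ p₂ := by rw [Category.assoc]
        _ = yK ≫ i ≫ p₂ := by rw [hlK]
        _ = (t ≫ γ) ≫ p₂ := by rw [← Category.assoc, hyK]
        _ = t ≫ h := by rw [Category.assoc, hγ2]
    exact hL.trans hR.symm

section Descent

variable {X X' Y S : Scheme.{u}} (pX : X ⟶ S) (pY : Y ⟶ S) (f : X' ⟶ X)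

local notation "𝔭₁" => pullback.fst pX pY
local notation "𝔉" => pullback.snd f (pullback.fst pX pY)
local notation "𝔭₁'" => pullback.fst f (pullback.fst pX pY)

set_option maxHeartbeats 1600000 in
/-- **S3837**. -/
theorem extends_iff [LocallyOfFiniteType pY] [IsSeparated pY]
    (hX : ∀ y : ↥X, ∃ W : X.Opens, y ∈ W ∧ IsIntegral (W : Scheme.{u}))
    (hXn : ∀ y : ↥X, IsIntegrallyClosed (X.presheaf.stalk y))
    (U : X.Opens) (hU : Dense (U : Set ↥X)) (h : (U : Scheme.{u}) ⟶ Y) (hh : h ≫ pY = U.ι ≫ pX)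
    [UniversallyOpen f] (x' : ↥X') :
    (∃ (V : X.Opens) (v : (V : Scheme.{u}) ⟶ Y), f x' ∈ V ∧ v ≫ pY = V.ι ≫ pX ∧
        X.homOfLE (inf_le_right : U ⊓ V ≤ V) ≫ v = X.homOfLE (inf_le_left : U ⊓ V ≤ U) ≫ h) ↔
      ∃ (V' : X'.Opens) (v' : (V' : Scheme.{u}) ⟶ Y), x' ∈ V' ∧ v' ≫ pY = V'.ι ≫ f ≫ pX ∧
        X'.homOfLE (inf_le_right : f ⁻¹ᵁ U ⊓ V' ≤ V') ≫ v' =
          X'.homOfLE (inf_le_left : f ⁻¹ᵁ U ⊓ V' ≤ f ⁻¹ᵁ U) ≫ (f ∣_ U) ≫ h := by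
  constructor
  · rintro ⟨V, v, hxV, hv, hag⟩
    refine ⟨f ⁻¹ᵁ V, (f ∣_ V) ≫ v, hxV, ?_, ?_⟩
    · rw [Category.assoc, hv, ← Category.assoc, morphismRestrict_ι, Category.assoc]
    · have e : f ⁻¹ᵁ U ⊓ f ⁻¹ᵁ V ≤ f ⁻¹ᵁ (U ⊓ V) := fun _ hw => hw
      have hV1 : X'.homOfLE (inf_le_right : f ⁻¹ᵁ U ⊓ f ⁻¹ᵁ V ≤ f ⁻¹ᵁ V) ≫ (f ∣_ V) =
          f.resLE (U ⊓ V) (f ⁻¹ᵁ U ⊓ f ⁻¹ᵁ V) e ≫ X.homOfLE (inf_le_right : U ⊓ V ≤ V) := by
        rw [← cancel_mono V.ι]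
        simp only [Category.assoc, morphismRestrict_ι, Scheme.homOfLE_ι, Scheme.homOfLE_ι_assoc,
          Scheme.Hom.resLE_comp_ι]
      have hU1 : X'.homOfLE (inf_le_left : f ⁻¹ᵁ U ⊓ f ⁻¹ᵁ V ≤ f ⁻¹ᵁ U) ≫ (f ∣_ U) =
          f.resLE (U ⊓ V) (f ⁻¹ᵁ U ⊓ f ⁻¹ᵁ V) e ≫ X.homOfLE (inf_le_left : U ⊓ V ≤ U) := by
        rw [← cancel_mono U.ι]
        simp only [Category.assoc, morphismRestrict_ι, Scheme.homOfLE_ι, Scheme.homOfLE_ι_assoc,
          Scheme.Hom.resLE_comp_ι]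
      calc X'.homOfLE (inf_le_right : f ⁻¹ᵁ U ⊓ f ⁻¹ᵁ V ≤ f ⁻¹ᵁ V) ≫ (f ∣_ V) ≫ v
          = (X'.homOfLE (inf_le_right : f ⁻¹ᵁ U ⊓ f ⁻¹ᵁ V ≤ f ⁻¹ᵁ V) ≫ (f ∣_ V)) ≫ v := by
            rw [Category.assoc]
        _ = f.resLE (U ⊓ V) (f ⁻¹ᵁ U ⊓ f ⁻¹ᵁ V) e ≫ X.homOfLE (inf_le_right : U ⊓ V ≤ V) ≫ v := by
            rw [hV1, Category.assoc]
        _ = f.resLE (U ⊓ V) (f ⁻¹ᵁ U ⊓ f ⁻¹ᵁ V) e ≫ X.homOfLE (inf_le_left : U ⊓ V ≤ U) ≫ h := by
            rw [hag]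
        _ = (X'.homOfLE (inf_le_left : f ⁻¹ᵁ U ⊓ f ⁻¹ᵁ V ≤ f ⁻¹ᵁ U) ≫ (f ∣_ U)) ≫ h := by
            rw [hU1, Category.assoc]
        _ = _ := by rw [Category.assoc]
  · rintro ⟨V', v', hxV', hv', hag'⟩
    obtain ⟨γ, hγ⟩ : ∃ γ : (U : Scheme.{u}) ⟶ pullback pX pY,
        γ = pullback.lift U.ι h hh.symm := ⟨_, rfl⟩
    have hγ1 : γ ≫ 𝔭₁ = U.ι := by rw [hγ]; exact pullback.lift_fst _ _ _
    have hγ2 : γ ≫ pullback.snd pX pY = h := by rw [hγ]; exact pullback.lift_snd _ _ _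
    haveI : UniversallyOpen 𝔉 := inferInstance
    have hcond : 𝔭₁' ≫ f = 𝔉 ≫ 𝔭₁ := pullback.condition
    -- the graph of `(f ∣_ U) ≫ h`
    obtain ⟨γ', hγ'1, hγ'F⟩ : ∃ γ' : ((f ⁻¹ᵁ U : X'.Opens) : Scheme.{u}) ⟶ pullback f 𝔭₁,
        γ' ≫ 𝔭₁' = (f ⁻¹ᵁ U).ι ∧ γ' ≫ 𝔉 = (f ∣_ U) ≫ γ :=
      ⟨pullback.lift (f ⁻¹ᵁ U).ι ((f ∣_ U) ≫ γ)
        (by rw [Category.assoc, hγ1, morphismRestrict_ι]),
        pullback.lift_fst _ _ _, pullback.lift_snd _ _ _⟩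
    -- the preimage of the graph is the graph
    have hpre : 𝔉 ⁻¹' (Set.range γ) ⊆ Set.range γ' := by
      rintro w ⟨u, hu⟩
      obtain ⟨t, ht1, ht2⟩ :=
        Scheme.Pullback.exists_preimage_pullback (f := 𝔉) (g := γ) w u hu.symm
      obtain ⟨a, ha0⟩ : ∃ a : pullback 𝔉 γ ⟶ X', a = pullback.fst 𝔉 γ ≫ 𝔭₁' := ⟨_, rfl⟩
      have ha : a ≫ f = pullback.snd 𝔉 γ ≫ U.ι := by
        rw [ha0, Category.assoc, hcond, ← Category.assoc, pullback.condition, Category.assoc, hγ1]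
      obtain ⟨ā, hā⟩ : ∃ ā : pullback 𝔉 γ ⟶ ((f ⁻¹ᵁ U : X'.Opens) : Scheme.{u}),
          ā ≫ (f ⁻¹ᵁ U).ι = a := by
        refine ⟨IsOpenImmersion.lift (f ⁻¹ᵁ U).ι a ?_, IsOpenImmersion.lift_fac _ _ _⟩
        rintro _ ⟨s, rfl⟩
        rw [Scheme.Opens.range_ι]
        change f (a s) ∈ U
        rw [← Scheme.Hom.comp_apply, ha, Scheme.Hom.comp_apply]
        exact (pullback.snd 𝔉 γ s).2
      have hāf : ā ≫ (f ∣_ U) = pullback.snd 𝔉 γ := by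
        rw [← cancel_mono U.ι, Category.assoc, morphismRestrict_ι, ← Category.assoc, hā, ha]
      have key : ā ≫ γ' = pullback.fst 𝔉 γ := by
        apply pullback.hom_ext
        · rw [Category.assoc, hγ'1, hā, ha0]
        · rw [Category.assoc, hγ'F, ← Category.assoc, hāf, pullback.condition]
      exact ⟨ā t, by rw [← Scheme.Hom.comp_apply, key, ht1]⟩
    -- the graph of `v'`
    obtain ⟨m, hm1, hm2⟩ : ∃ m : (V' : Scheme.{u}) ⟶ pullback pX pY,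
        m ≫ 𝔭₁ = V'.ι ≫ f ∧ m ≫ pullback.snd pX pY = v' :=
      ⟨pullback.lift (V'.ι ≫ f) v' (by rw [Category.assoc, hv']),
        pullback.lift_fst _ _ _, pullback.lift_snd _ _ _⟩
    obtain ⟨σ, hσ1, hσF⟩ : ∃ σ : (V' : Scheme.{u}) ⟶ pullback f 𝔭₁,
        σ ≫ 𝔭₁' = V'.ι ∧ σ ≫ 𝔉 = m :=
      ⟨pullback.lift V'.ι m hm1.symm, pullback.lift_fst _ _ _, pullback.lift_snd _ _ _⟩
    have hA : X'.homOfLE (inf_le_right : f ⁻¹ᵁ U ⊓ V' ≤ V') ≫ σ =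
        X'.homOfLE (inf_le_left : f ⁻¹ᵁ U ⊓ V' ≤ f ⁻¹ᵁ U) ≫ γ' := by
      apply pullback.hom_ext
      · simp only [Category.assoc, hσ1, hγ'1, Scheme.homOfLE_ι]
      · simp only [Category.assoc, hσF, hγ'F]
        apply pullback.hom_ext
        · simp only [Category.assoc, hm1, hγ1, morphismRestrict_ι, Scheme.homOfLE_ι_assoc]
        · simp only [Category.assoc, hm2, hγ2]
          exact hag'
    have hσpt : ∀ v : (V' : Scheme.{u}), 𝔭₁' (σ v) = V'.ι v := fun v => by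
      rw [← Scheme.Hom.comp_apply, hσ1]
    -- the closure of the graph is the graph of `v'` over `V'`
    have hB : ∀ w ∈ closure (Set.range γ'), 𝔭₁' w ∈ V' → w ∈ Set.range σ := by
      intro w hw hwV
      obtain ⟨σN, hσN⟩ : ∃ σN : (V' : Scheme.{u}) ⟶ ((𝔭₁' ⁻¹ᵁ V' : (pullback f 𝔭₁).Opens) : Scheme.{u}),
          σN ≫ (𝔭₁' ⁻¹ᵁ V').ι = σ := by
        refine ⟨IsOpenImmersion.lift (𝔭₁' ⁻¹ᵁ V').ι σ ?_, IsOpenImmersion.lift_fac _ _ _⟩
        rintro _ ⟨v, rfl⟩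
        rw [Scheme.Opens.range_ι]
        change 𝔭₁' (σ v) ∈ V'
        rw [hσpt]
        exact v.2
      have hid : σN ≫ (𝔭₁' ∣_ V') = 𝟙 _ := by
        rw [← cancel_mono V'.ι, Category.assoc, morphismRestrict_ι, ← Category.assoc, hσN, hσ1,
          Category.id_comp]
      haveI : IsSeparated 𝔭₁' := inferInstance
      haveI : IsSeparated (𝔭₁' ∣_ V') := inferInstance
      haveI : IsClosedImmersion (σN ≫ (𝔭₁' ∣_ V')) := by rw [hid]; infer_instance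
      haveI : IsClosedImmersion σN := IsClosedImmersion.of_comp σN (𝔭₁' ∣_ V')
      have hcl : IsClosed (Set.range σN) := σN.isClosedEmbedding.isClosed_range
      have h1 : w ∈ closure (Set.range γ' ∩ ((𝔭₁' ⁻¹ᵁ V' : (pullback f 𝔭₁).Opens) : Set _)) :=
        mem_closure_inter_of_isOpen (𝔭₁' ⁻¹ᵁ V').isOpen hwV hw
      have h2 : Set.range γ' ∩ ((𝔭₁' ⁻¹ᵁ V' : (pullback f 𝔭₁).Opens) : Set _) ⊆
          (𝔭₁' ⁻¹ᵁ V').ι '' (Set.range σN) := by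
        rintro _ ⟨⟨u, rfl⟩, huN⟩
        have hu' : (f ⁻¹ᵁ U).ι u ∈ V' := by
          have h3 : 𝔭₁' (γ' u) = (f ⁻¹ᵁ U).ι u := by rw [← Scheme.Hom.comp_apply, hγ'1]
          rw [← h3]; exact huN
        obtain ⟨pt, hpt⟩ : ∃ pt : ((f ⁻¹ᵁ U ⊓ V' : X'.Opens) : Scheme.{u}), pt.1 = u.1 :=
          ⟨⟨u.1, u.2, hu'⟩, rfl⟩
        have e1 : X'.homOfLE (inf_le_left : f ⁻¹ᵁ U ⊓ V' ≤ f ⁻¹ᵁ U) pt = u :=
          Subtype.ext ((Scheme.homOfLE_apply _ pt).trans hpt)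
        have e2 : γ' u = σ (X'.homOfLE (inf_le_right : f ⁻¹ᵁ U ⊓ V' ≤ V') pt) := by
          rw [← e1, ← Scheme.Hom.comp_apply, ← hA, Scheme.Hom.comp_apply]
        refine ⟨σN (X'.homOfLE (inf_le_right : f ⁻¹ᵁ U ⊓ V' ≤ V') pt), ⟨_, rfl⟩, ?_⟩
        rw [← Scheme.Hom.comp_apply, hσN, e2]
      have h3 : w ∈ closure ((𝔭₁' ⁻¹ᵁ V').ι '' Set.range σN) := closure_mono h2 h1
      have h4 : (⟨w, hwV⟩ : ((𝔭₁' ⁻¹ᵁ V' : (pullback f 𝔭₁).Opens) : Scheme.{u})) ∈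
          closure (Set.range σN) := by
        rw [(𝔭₁' ⁻¹ᵁ V').ι.isEmbedding.isInducing.closure_eq_preimage_closure_image]
        exact h3
      rw [hcl.closure_eq] at h4
      obtain ⟨v, hv⟩ := h4
      exact ⟨v, by rw [← hσN, Scheme.Hom.comp_apply, hv]; rfl⟩
    -- the point
    have hdense : Dense ((f ⁻¹ᵁ U : X'.Opens) : Set X') := hU.preimage f.isOpenMap
    have hσcl : ∀ v : (V' : Scheme.{u}), σ v ∈ closure (Set.range γ') := by
      intro v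
      have hd : Dense (V'.ι ⁻¹' ((f ⁻¹ᵁ U : X'.Opens) : Set X')) :=
        hdense.preimage V'.ι.isOpenEmbedding.isOpenMap
      have h1 : σ v ∈ σ '' closure (V'.ι ⁻¹' ((f ⁻¹ᵁ U : X'.Opens) : Set X')) :=
        ⟨v, hd v, rfl⟩
      refine closure_mono ?_ (image_closure_subset_closure_image σ.continuous h1)
      rintro _ ⟨v₁, hv₁, rfl⟩
      obtain ⟨pt, hpt⟩ : ∃ pt : ((f ⁻¹ᵁ U ⊓ V' : X'.Opens) : Scheme.{u}), pt.1 = v₁.1 :=
        ⟨⟨v₁.1, hv₁, v₁.2⟩, rfl⟩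
      have e1 : X'.homOfLE (inf_le_right : f ⁻¹ᵁ U ⊓ V' ≤ V') pt = v₁ :=
        Subtype.ext ((Scheme.homOfLE_apply _ pt).trans hpt)
      exact ⟨X'.homOfLE (inf_le_left : f ⁻¹ᵁ U ⊓ V' ≤ f ⁻¹ᵁ U) pt, by
        rw [← e1, ← Scheme.Hom.comp_apply, ← hA, Scheme.Hom.comp_apply]⟩
    have hFcl : ∀ w ∈ closure (Set.range γ'), 𝔉 w ∈ closure (Set.range γ) := by
      intro w hw
      have h1 : 𝔉 w ∈ 𝔉 '' closure (Set.range γ') := ⟨w, hw, rfl⟩
      refine closure_mono ?_ (image_closure_subset_closure_image (Scheme.Hom.continuous 𝔉) h1)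
      rintro _ ⟨_, ⟨u, rfl⟩, rfl⟩
      exact ⟨(f ∣_ U) u, by
        rw [← Scheme.Hom.comp_apply, ← Scheme.Hom.comp_apply, hγ'F]⟩
    obtain ⟨xV, hxVdef⟩ : ∃ xV : (V' : Scheme.{u}), xV = ⟨x', hxV'⟩ := ⟨_, rfl⟩
    have hxV1 : V'.ι xV = x' := by rw [hxVdef]; rfl
    have hz : 𝔭₁ (𝔉 (σ xV)) = f x' := by
      rw [← Scheme.Hom.comp_apply, ← hcond, Scheme.Hom.comp_apply, hσpt, hxV1]
    have hzΓ : 𝔉 (σ xV) ∈ closure (Set.range γ) := hFcl _ (hσcl xV)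
    rw [hγ] at hzΓ
    refine extends_of_isolated pX pY hX U hU h hh.symm (f x') (hXn _) (𝔉 (σ xV)) hz hzΓ
      ⟨⊤, ?_⟩
    rw [← hγ]
    ext z₁
    constructor
    · rintro ⟨⟨-, hz₁T⟩, hz₁x⟩
      have hz₁x' : f x' = 𝔭₁ z₁ := hz₁x.symm
      obtain ⟨w₁, hw₁1, hw₁2⟩ :=
        Scheme.Pullback.exists_preimage_pullback (f := f) (g := 𝔭₁) x' z₁ hz₁x'
      have h1 : w₁ ∈ closure (Set.range γ') := by
        have h2 : w₁ ∈ 𝔉 ⁻¹' closure (Set.range γ) :=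
          Set.mem_preimage.mpr (by rw [hw₁2]; exact hz₁T)
        rw [(Scheme.Hom.isOpenMap 𝔉).preimage_closure_eq_closure_preimage
          (Scheme.Hom.continuous 𝔉)] at h2
        exact closure_mono hpre h2
      obtain ⟨v, hv⟩ := hB w₁ h1 (by rw [hw₁1]; exact hxV')
      have h3 : v = xV := by
        apply V'.ι.isEmbedding.injective
        rw [hxV1, ← hσpt, hv, hw₁1]
      rw [Set.mem_singleton_iff, ← hw₁2, ← hv, h3]
    · intro hz₁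
      rw [Set.mem_singleton_iff] at hz₁
      rw [hz₁]
      exact ⟨⟨trivial, hγ ▸ hzΓ⟩, hz⟩

end Descent

end Groth.Agent.H6.RatMap
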