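import Mathlib
import Groth.Agent.Lib.Helper1.DimEqB
import Groth.Agent.Lib.Helper1.DimSel
import Groth.Agent.Lib.Helper6.UCat
import Groth.Agent.Lib.Helper6.Cat5

/-! # Dimension formula from catenarity of localizations of finitely generated subalgebras of
`S[T]` (Ratliff-type statement, S12126). -/

set_option autoImplicit false
set_option linter.style.haveILetI false
universe u
open Polynomial

namespace Groth.Agent.H6.Ratliff

open Groth.Agent.H5 Groth.Agent.H1.DimIneq Groth.Agent.H1.DimEq

theorem height_map_mk_bot {A : Type*} [CommRing A] (I : Ideal A) :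
    (I.map (Ideal.Quotient.mk (⊥ : Ideal A))).height = I.height := by
  have he : ((RingEquiv.quotientBot A).symm : A →+* A ⧸ (⊥ : Ideal A)) = Ideal.Quotient.mk ⊥ := by
    ext x; simp
  rw [← he]
  exact (RingEquiv.quotientBot A).symm.height_map I

/-- local version of helper1's `height_ker_add_height_eq`: only catenarity of the localization
at `φ⁻¹ q` is needed. -/
theorem height_ker_add_height_eq_local {A B : Type u} [CommRing A] [IsDomain A]
    [IsNoetherianRing A] [CommRing B] [IsDomain B] (φ : A →+* B) (hφ : Function.Surjective φ)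
    (q : Ideal B) [q.IsPrime]
    (hcat : CAlg.IsCatenary (Localization.AtPrime (q.comap φ))) :
    (RingHom.ker φ).height + q.height = (q.comap φ).height := by
  haveI : (RingHom.ker φ).IsPrime := RingHom.ker_isPrime φ
  have hle : RingHom.ker φ ≤ q.comap φ := Ideal.comap_mono bot_le
  have hN : IsNoetherianRing (Localization.AtPrime (q.comap φ)) :=
    IsLocalization.isNoetherianRing (q.comap φ).primeCompl _ inferInstance
  have h1 := UCat.height_map_mk_add (⊥ : Ideal A) (RingHom.ker φ) (q.comap φ) bot_le hle hN hcat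
  rw [height_map_mk_bot, height_map_mk_bot] at h1
  have h2 := Groth.Agent.H1.DimSel.height_map_mk_of_surjective φ hφ (⊥ : Ideal B) q bot_le
  rw [height_map_mk_bot] at h2
  rw [h1]
  exact congrArg (fun t => (RingHom.ker φ).height + t) h2.symm

section OneGen

variable (R : Type u) [CommRing R] [IsDomain R] [IsNoetherianRing R]
  (S : Type u) [CommRing S] [IsDomain S] [Algebra R S] [FaithfulSMul R S]
  (p : Ideal R) [p.IsPrime] (q : Ideal S) [q.IsPrime] [q.LiesOver p]

/-- The dimension formula for an extension generated by one element, assuming only that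
`R[X]` localized at the preimage of `q` is catenary (adapted from helper1's
`dimEq_of_adjoin_singleton`). -/
theorem dimEq_of_adjoin_singleton' (x : S) (hx : Algebra.adjoin R {x} = ⊤)
    (hcat : CAlg.IsCatenary
      (Localization.AtPrime (q.comap (Polynomial.aeval x : R[X] →ₐ[R] S).toRingHom))) :
    (q.height : Cardinal.{u}) + Algebra.trdeg (R ⧸ p) (S ⧸ q) =
      (p.height : Cardinal.{u}) + Algebra.trdeg R S := by
  let φ : R[X] →ₐ[R] S := Polynomial.aeval x
  have hφ : Function.Surjective φ := by
    rw [← AlgHom.range_eq_top, ← Algebra.adjoin_singleton_eq_range_aeval]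
    exact hx
  haveI hQ : (RingHom.ker φ.toRingHom).IsPrime := RingHom.ker_isPrime φ.toRingHom
  have hQ0 : (RingHom.ker φ.toRingHom).comap (C : R →+* R[X]) = ⊥ := by
    rw [eq_bot_iff]
    intro r hr
    rw [Ideal.mem_comap, RingHom.mem_ker] at hr
    have : algebraMap R S r = 0 := by
      have h2 : φ (C r) = algebraMap R S r := Polynomial.aeval_C x r
      rw [← h2]; exact hr
    rw [Ideal.mem_bot]
    exact (FaithfulSMul.algebraMap_injective R S) (by rw [this, map_zero])
  have hii := height_add_trdeg_of_comap_C_eq_bot R (RingHom.ker φ.toRingHom) hQ0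
  have hES : Algebra.trdeg R (R[X] ⧸ RingHom.ker φ.toRingHom) = Algebra.trdeg R S :=
    AlgEquiv.trdeg_eq (Ideal.quotientKerAlgEquivOfSurjective hφ)
  rw [hES] at hii
  set qs : Ideal R[X] := q.comap φ with hqs
  haveI : qs.IsPrime := Ideal.comap_isPrime φ q
  haveI : qs.LiesOver p := Ideal.comap_liesOver q p φ
  have hi := height_add_trdeg_polynomial R p qs
  let θ : R[X] ⧸ qs →+* S ⧸ q := Ideal.quotientMap q φ.toRingHom le_rfl
  have hθinj : Function.Injective θ := Ideal.quotientMap_injective
  have hθsurj : Function.Surjective θ := Ideal.quotientMap_surjective hφ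
  let E : (R[X] ⧸ qs) ≃ₐ[R ⧸ p] (S ⧸ q) :=
    AlgEquiv.ofRingEquiv (f := RingEquiv.ofBijective θ ⟨hθinj, hθsurj⟩) (by
      intro d
      obtain ⟨r, rfl⟩ := Ideal.Quotient.mk_surjective d
      change θ (Ideal.Quotient.mk qs (C r)) = Ideal.Quotient.mk q (algebraMap R S r)
      rw [Ideal.quotientMap_mk]
      congr 1
      exact Polynomial.aeval_C x r)
  have hE : Algebra.trdeg (R ⧸ p) (R[X] ⧸ qs) = Algebra.trdeg (R ⧸ p) (S ⧸ q) :=
    AlgEquiv.trdeg_eq E
  rw [hE] at hi
  have hiii := height_ker_add_height_eq_local φ.toRingHom hφ q hcat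
  have hiii' : ((RingHom.ker φ.toRingHom).height : Cardinal.{u}) + (q.height : Cardinal.{u}) =
      (qs.height : Cardinal.{u}) := by
    rw [← Cardinal.ofENat_add]
    exact congrArg _ hiii
  have hfin : ((RingHom.ker φ.toRingHom).height : Cardinal.{u}) < Cardinal.aleph0 := by
    have h1 : ((RingHom.ker φ.toRingHom).height : Cardinal.{u}) ≤ 1 := by
      rw [← hii]; exact le_self_add
    exact lt_of_le_of_lt h1 Cardinal.one_lt_aleph0
  have key : ((RingHom.ker φ.toRingHom).height : Cardinal.{u}) +
      ((q.height : Cardinal.{u}) + Algebra.trdeg (R ⧸ p) (S ⧸ q)) =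
      ((RingHom.ker φ.toRingHom).height : Cardinal.{u}) +
      ((p.height : Cardinal.{u}) + Algebra.trdeg R S) := by
    calc _ = (((RingHom.ker φ.toRingHom).height : Cardinal.{u}) + (q.height : Cardinal.{u})) +
            Algebra.trdeg (R ⧸ p) (S ⧸ q) := by rw [add_assoc]
      _ = (qs.height : Cardinal.{u}) + Algebra.trdeg (R ⧸ p) (S ⧸ q) := by rw [hiii']
      _ = (p.height : Cardinal.{u}) + 1 := hi
      _ = (p.height : Cardinal.{u}) + (((RingHom.ker φ.toRingHom).height : Cardinal.{u}) +
            Algebra.trdeg R S) := by rw [hii]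
      _ = _ := by rw [← add_assoc, add_comm (p.height : Cardinal.{u}), add_assoc]
  refine le_antisymm ?_ ?_
  · exact (Cardinal.add_le_add_iff_of_lt_aleph0 hfin).1 (by
      rw [add_comm _ ((RingHom.ker φ.toRingHom).height : Cardinal.{u}),
        add_comm _ ((RingHom.ker φ.toRingHom).height : Cardinal.{u})]
      exact key.le)
  · exact (Cardinal.add_le_add_iff_of_lt_aleph0 hfin).1 (by
      rw [add_comm _ ((RingHom.ker φ.toRingHom).height : Cardinal.{u}),
        add_comm _ ((RingHom.ker φ.toRingHom).height : Cardinal.{u})]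
      exact key.ge)

end OneGen

/-- from catenarity at the maximal ideals over `𝔪` of f.g. subalgebras of `T` to catenarity at
all primes over `𝔪` of f.g. algebras embedded in `T`. -/
theorem hyp_of_hcat (R : Type u) [CommRing R] [IsLocalRing R] (T : Type u) [CommRing T]
    [Algebra R T]
    (hcat : ∀ A' : Subalgebra R T, A'.FG →
      ∀ (m' : Ideal A') [m'.IsMaximal], m'.LiesOver (IsLocalRing.maximalIdeal R) →
        CAlg.IsCatenary (Localization.AtPrime m'))
    (B : Type u) [CommRing B] [Algebra R B] [Algebra.FiniteType R B] (f : B →ₐ[R] T)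
    (hf : Function.Injective f) (Q : Ideal B) [Q.IsPrime]
    (hQ : Q.comap (algebraMap R B) = IsLocalRing.maximalIdeal R) :
    CAlg.IsCatenary (Localization.AtPrime Q) := by
  obtain ⟨M, hM, hQM⟩ := Ideal.exists_le_maximal Q (Ideal.IsPrime.ne_top inferInstance)
  haveI := hM
  have hMR : M.comap (algebraMap R B) = IsLocalRing.maximalIdeal R := by
    refine le_antisymm (IsLocalRing.le_maximalIdeal ?_) (hQ ▸ Ideal.comap_mono hQM)
    exact Ideal.comap_ne_top _ hM.ne_top
  let e : B ≃ₐ[R] f.range := AlgEquiv.ofInjective f hf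
  have hFG : (f.range).FG := by
    rw [← Algebra.map_top]; exact Subalgebra.FG.map f Algebra.FiniteType.out
  let m' : Ideal f.range := M.comap (e.symm : f.range →+* B)
  haveI : m'.IsMaximal := Ideal.comap_isMaximal_of_surjective _ e.symm.surjective
  have hover : m'.LiesOver (IsLocalRing.maximalIdeal R) := ⟨by
    rw [Ideal.under_def, ← hMR, Ideal.comap_comap]
    congr 1
    ext a
    simp⟩
  have h1 := hcat f.range hFG m' hover
  have H : M.primeCompl.map e.toRingEquiv.toMonoidHom = m'.primeCompl := by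
    ext y
    constructor
    · rintro ⟨x, hx, rfl⟩
      show ¬ (e.toRingEquiv.toMonoidHom x ∈ m')
      rw [Ideal.mem_comap]
      simpa using hx
    · intro hy
      refine ⟨e.symm y, ?_, by simp⟩
      exact hy
  have h2 : CAlg.IsCatenary (Localization.AtPrime M) :=
    Cat5.isCatenary_of_ringEquiv
      (IsLocalization.ringEquivOfRingEquiv (Localization.AtPrime M) (Localization.AtPrime m')
        e.toRingEquiv H).symm h1
  have hle : M.primeCompl ≤ Q.primeCompl := fun x hx hxQ => hx (hQM hxQ)
  letI : Algebra (Localization.AtPrime M) (Localization.AtPrime Q) :=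
    IsLocalization.localizationAlgebraOfSubmonoidLe _ _ M.primeCompl Q.primeCompl hle
  haveI : IsScalarTower B (Localization.AtPrime M) (Localization.AtPrime Q) :=
    IsLocalization.localization_isScalarTower_of_submonoid_le _ _ _ _ hle
  haveI := IsLocalization.isLocalization_of_submonoid_le (Localization.AtPrime M)
    (Localization.AtPrime Q) M.primeCompl Q.primeCompl hle
  exact isCatenary_of_isLocalization (Localization.AtPrime M)
    (Q.primeCompl.map (algebraMap B (Localization.AtPrime M))) (Localization.AtPrime Q) h2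

section Induct

variable (R₀ : Type u) [CommRing R₀] [IsNoetherianRing R₀] (S : Type u) [CommRing S] [IsDomain S]
  [Algebra R₀ S] (q : Ideal S) [q.IsPrime]

theorem hcat_of_hyp
    (Hyp : ∀ (B : Type u) [CommRing B] [Algebra R₀ B] [Algebra.FiniteType R₀ B]
      (f : B →ₐ[R₀] S[X]), Function.Injective f → ∀ (Q : Ideal B) [Q.IsPrime],
      Q.comap (algebraMap R₀ B) = q.comap (algebraMap R₀ S) →
        CAlg.IsCatenary (Localization.AtPrime Q))
    (R₁ : Type u) [CommRing R₁] [Algebra R₀ R₁] [Algebra.FiniteType R₀ R₁]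
    [Algebra R₁ S] [IsScalarTower R₀ R₁ S] [FaithfulSMul R₁ S]
    (R' : Type u) [CommRing R'] [Algebra R₁ R'] [Algebra R' S] [IsScalarTower R₁ R' S]
    (x : R') (p' : Ideal R') [p'.IsPrime] (hp' : p' = q.comap (algebraMap R' S)) :
    CAlg.IsCatenary
      (Localization.AtPrime (p'.comap (Polynomial.aeval x : R₁[X] →ₐ[R₁] R').toRingHom)) := by
  haveI : Algebra.FiniteType R₀ R₁[X] :=
    Algebra.FiniteType.trans (S := R₁) inferInstance inferInstance
  refine Hyp R₁[X] (Polynomial.mapAlgHom (IsScalarTower.toAlgHom R₀ R₁ S)) ?_ _ ?_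
  · rw [Polynomial.coe_mapAlgHom]
    exact Polynomial.map_injective _ (FaithfulSMul.algebraMap_injective R₁ S)
  · ext a
    rw [Ideal.mem_comap, Ideal.mem_comap, Ideal.mem_comap, hp', Ideal.mem_comap]
    have h : algebraMap R' S ((Polynomial.aeval x : R₁[X] →ₐ[R₁] R').toRingHom
        (algebraMap R₀ R₁[X] a)) = algebraMap R₀ S a := by
      show algebraMap R' S (Polynomial.aeval x (algebraMap R₀ R₁[X] a)) = _
      rw [IsScalarTower.algebraMap_apply R₀ R₁ R₁[X], AlgHom.commutes,
        ← IsScalarTower.algebraMap_apply R₁ R' S, ← IsScalarTower.algebraMap_apply R₀ R₁ S]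
    rw [h]

theorem dimEq_of_adjoin_range'
    (Hyp : ∀ (B : Type u) [CommRing B] [Algebra R₀ B] [Algebra.FiniteType R₀ B]
      (f : B →ₐ[R₀] S[X]), Function.Injective f → ∀ (Q : Ideal B) [Q.IsPrime],
      Q.comap (algebraMap R₀ B) = q.comap (algebraMap R₀ S) →
        CAlg.IsCatenary (Localization.AtPrime Q))
    (n : ℕ) : ∀ (R₁ : Type u) [CommRing R₁] [IsDomain R₁] [Algebra R₀ R₁]
    [Algebra.FiniteType R₀ R₁] [Algebra R₁ S] [IsScalarTower R₀ R₁ S] [FaithfulSMul R₁ S]
    (s : Fin n → S) (_ : Algebra.adjoin R₁ (Set.range s) = ⊤)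
    (p : Ideal R₁) [p.IsPrime] [q.LiesOver p],
    (q.height : Cardinal.{u}) + Algebra.trdeg (R₁ ⧸ p) (S ⧸ q) =
      (p.height : Cardinal.{u}) + Algebra.trdeg R₁ S := by
  induction n with
  | zero =>
    intro R₁ _ _ _ _ _ _ _ s hs p _ _
    haveI : IsNoetherianRing R₁ := Algebra.FiniteType.isNoetherianRing R₀ R₁
    refine dimEq_of_adjoin_singleton' R₁ S p q 0 ?_ ?_
    · rw [eq_top_iff, ← hs]
      exact Algebra.adjoin_mono (by rintro _ ⟨i, _⟩; exact i.elim0)
    · exact hcat_of_hyp R₀ S q Hyp R₁ S 0 q (Ideal.ext fun y => Iff.rfl)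
  | succ n ih =>
    intro R₁ _ _ _ _ _ _ _ s hs p _ _
    haveI : IsNoetherianRing R₁ := Algebra.FiniteType.isNoetherianRing R₀ R₁
    let R' : Subalgebra R₁ S := Algebra.adjoin R₁ {s 0}
    haveI : FaithfulSMul R₁ R' := by
      rw [faithfulSMul_iff_algebraMap_injective]
      intro a b hab
      apply FaithfulSMul.algebraMap_injective R₁ S
      have := congrArg (algebraMap R' S) hab
      rwa [← IsScalarTower.algebraMap_apply, ← IsScalarTower.algebraMap_apply] at this
    haveI : FaithfulSMul R' S := by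
      rw [faithfulSMul_iff_algebraMap_injective]
      exact Subtype.val_injective
    haveI : Algebra.FiniteType R₁ R' :=
      (Subalgebra.fg_iff_finiteType R').1 (by
        have := Subalgebra.fg_adjoin_finset (R := R₁) ({s 0} : Finset S)
        simpa using this)
    haveI : IsScalarTower R₀ R₁ R' := inferInstance
    haveI : IsScalarTower R₀ R' S := IsScalarTower.of_algebraMap_eq (fun x => rfl)
    haveI : Algebra.FiniteType R₀ R' :=
      Algebra.FiniteType.trans (S := R₁) inferInstance inferInstance
    let p' : Ideal R' := q.under R'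
    haveI : p'.IsPrime := inferInstance
    haveI : q.LiesOver p' := inferInstance
    haveI : p'.LiesOver p := Ideal.under_liesOver_of_liesOver R' q p
    have h1 : (p'.height : Cardinal.{u}) + Algebra.trdeg (R₁ ⧸ p) (R' ⧸ p') =
        (p.height : Cardinal.{u}) + Algebra.trdeg R₁ R' := by
      refine dimEq_of_adjoin_singleton' R₁ R' p p' ⟨s 0, Algebra.subset_adjoin rfl⟩ ?_ ?_
      · have hpre : ((↑) ⁻¹' ({s 0} : Set S) : Set (Algebra.adjoin R₁ ({s 0} : Set S))) =
            {⟨s 0, Algebra.subset_adjoin rfl⟩} := by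
          ext ⟨y, hy⟩
          simp [Subtype.ext_iff]
        have := Algebra.adjoin_adjoin_coe_preimage (R := R₁) (s := ({s 0} : Set S))
        rw [hpre] at this
        exact this
      · exact hcat_of_hyp R₀ S q Hyp R₁ R' ⟨s 0, Algebra.subset_adjoin rfl⟩ p' rfl
    have h2 : (q.height : Cardinal.{u}) + Algebra.trdeg (R' ⧸ p') (S ⧸ q) =
        (p'.height : Cardinal.{u}) + Algebra.trdeg R' S := by
      refine ih R' (fun i => s i.succ) ?_ p'
      have hunion : Set.range s = {s 0} ∪ Set.range (fun i : Fin n => s i.succ) := by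
        ext y
        constructor
        · rintro ⟨i, rfl⟩
          refine Fin.cases ?_ (fun j => ?_) i
          · exact Or.inl rfl
          · exact Or.inr ⟨j, rfl⟩
        · rintro (h | ⟨j, rfl⟩)
          · exact ⟨0, h.symm⟩
          · exact ⟨j.succ, rfl⟩
      rw [hunion, Algebra.adjoin_union_eq_adjoin_adjoin] at hs
      apply Subalgebra.restrictScalars_injective R₁
      rw [hs, Subalgebra.restrictScalars_top]
    exact dimEq_trans R₁ R' S p p' q h1 h2

end Induct

theorem main (R : Type u) [CommRing R] [IsDomain R]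
    [IsNoetherianRing R] [IsLocalRing R] (S : Type u) [CommRing S] [IsDomain S] [Algebra R S]
    [FaithfulSMul R S] [Algebra.FiniteType R S] (q : Ideal S) [q.IsPrime]
    [q.LiesOver (IsLocalRing.maximalIdeal R)]
    (hcat : ∀ A' : Subalgebra R (Polynomial S), A'.FG →
      ∀ (m' : Ideal A') [m'.IsMaximal], m'.LiesOver (IsLocalRing.maximalIdeal R) →
        CAlg.IsCatenary (Localization.AtPrime m')) :
    (q.height : Cardinal.{u}) + Algebra.trdeg (R ⧸ IsLocalRing.maximalIdeal R) (S ⧸ q) =
      ((IsLocalRing.maximalIdeal R).height : Cardinal.{u}) + Algebra.trdeg R S := by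
  obtain ⟨t, ht⟩ := (Algebra.FiniteType.out : (⊤ : Subalgebra R S).FG)
  have Hyp : ∀ (B : Type u) [CommRing B] [Algebra R B] [Algebra.FiniteType R B]
      (f : B →ₐ[R] S[X]), Function.Injective f → ∀ (Q : Ideal B) [Q.IsPrime],
      Q.comap (algebraMap R B) = q.comap (algebraMap R S) →
        CAlg.IsCatenary (Localization.AtPrime Q) := by
    intro B _ _ _ f hf Q _ hQ
    refine hyp_of_hcat R S[X] hcat B f hf Q ?_
    rw [hQ]; exact (Ideal.over_def q (IsLocalRing.maximalIdeal R)).symm
  refine dimEq_of_adjoin_range' R S q Hyp t.card R (fun i => (t.equivFin.symm i : S)) ?_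
    (IsLocalRing.maximalIdeal R)
  convert ht using 2
  ext y
  constructor
  · rintro ⟨i, rfl⟩
    exact (t.equivFin.symm i).2
  · intro hy
    exact ⟨t.equivFin ⟨y, hy⟩, by simp⟩

end Groth.Agent.H6.Ratliff
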