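import Mathlib
import Groth.Agent.Lib.Helper1.AusBuch
import Groth.Agent.Lib.Helper1.RegGlobal
import Groth.Agent.Lib.Helper1.CMFlat
import Groth.Agent.Lib.Helper9.Misc.RLRChain
import Groth.Agent.Lib.Lead.RS.StalkFF
import Groth.Prelude.Def_CohB1

/-!
# Rectified depth on regular biequidimensional schemes (EGA IV 10.8 / 14): `prof + dim cl + pd = dim`
-/

set_option autoImplicit false
universe u

open AlgebraicGeometry CategoryTheory TopologicalSpace

namespace Groth.Agent.H6.RectDepth

/-- when the local ring at `x` is a domain, every generization of `x` lies in every irreducible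
component through `x`. -/
theorem mem_of_specializes {X : Scheme.{u}} (x : X) [IsDomain (X.presheaf.stalk x)] (T : Set X)
    (hT : T ∈ irreducibleComponents X) (hx : x ∈ T) (t : X) (ht : t ⤳ x) : t ∈ T := by
  have hTirr : IsIrreducible T := hT.1
  have hTcl : IsClosed T := isClosed_of_mem_irreducibleComponents T hT
  obtain ⟨η, hη⟩ := QuasiSober.sober hTirr hTcl
  have hηx : η ⤳ x := hη.specializes hx
  have hrange := X.range_fromSpecStalk (x := x)
  obtain ⟨pt, rfl⟩ : t ∈ Set.range (X.fromSpecStalk x) := by rw [hrange]; exact ht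
  obtain ⟨pη, hpη⟩ : η ∈ Set.range (X.fromSpecStalk x) := by rw [hrange]; exact hηx
  let z : PrimeSpectrum (X.presheaf.stalk x) := ⟨⊥, Ideal.isPrime_bot⟩
  have hz1 : z ⤳ pt := (PrimeSpectrum.le_iff_specializes z pt).mp bot_le
  have hz2 : z ⤳ pη := (PrimeSpectrum.le_iff_specializes z pη).mp bot_le
  have hζt : (X.fromSpecStalk x) z ⤳ (X.fromSpecStalk x) pt :=
    hz1.map (X.fromSpecStalk x).continuous
  have hζη : (X.fromSpecStalk x) z ⤳ η := hpη ▸ hz2.map (X.fromSpecStalk x).continuous
  have hirr : IsIrreducible (closure ({(X.fromSpecStalk x) z} : Set X)) :=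
    isIrreducible_singleton.closure
  have hsub : T ⊆ closure {(X.fromSpecStalk x) z} := by
    rw [← hη.def]
    exact closure_minimal (Set.singleton_subset_iff.mpr hζη.mem_closure) isClosed_closure
  have heq : closure {(X.fromSpecStalk x) z} ⊆ T := hT.2 hirr hsub
  exact heq hζt.mem_closure

/-- the generizations of a point form a space of dimension the dimension of the local ring. -/
theorem topologicalKrullDim_generizations {X : Scheme.{u}} (x : X) :
    topologicalKrullDim ↥{t : X | t ⤳ x} = ringKrullDim (X.presheaf.stalk x) := by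
  have hemb : Topology.IsEmbedding (X.fromSpecStalk x) := (X.fromSpecStalk x).isEmbedding
  have hrange := X.range_fromSpecStalk (x := x)
  let e : Spec (X.presheaf.stalk x) ≃ₜ Set.range (X.fromSpecStalk x) := hemb.toHomeomorph
  rw [← PrimeSpectrum.topologicalKrullDim_eq_ringKrullDim, ← hrange]
  exact (IsHomeomorph.topologicalKrullDim_eq e e.isHomeomorph).symm

theorem main4906 (X : Scheme.{u}) [IsNoetherian X]
    (hreg : ∀ x : X, IsRegularLocalRing ↑(X.presheaf.stalk x))
    (hcomp : ∀ C ∈ irreducibleComponents (X : Type u),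
      topologicalKrullDim ↥C = topologicalKrullDim X)
    (hchain : ∀ (y : X) (T : Set X), IsClosed T → IsIrreducible T → y ∈ T →
      topologicalKrullDim ↥T = topologicalKrullDim ↥(closure ({y} : Set X)) +
        topologicalKrullDim ↥{t : X | t ∈ T ∧ t ⤳ y})
    (F : X.Modules) (hF : Coh.IsCoh F) (x : X) (hx : x ∈ CohB1.support F) :
    ((LocCoh.depth ↑(X.presheaf.stalk x) ↑(F.presheaf.stalk x) : ℕ∞) : WithBot ℕ∞) +
        topologicalKrullDim ↥(closure ({x} : Set X)) +
        projectiveDimension (ModuleCat.of ↑(X.presheaf.stalk x) ↑(F.presheaf.stalk x)) =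
      topologicalKrullDim X := by
  haveI : IsRegularLocalRing (X.presheaf.stalk x) := hreg x
  haveI : IsDomain (X.presheaf.stalk x) := Groth.Agent.H7.Reg.isDomain _
  haveI : Module.Finite (X.presheaf.stalk x) (F.presheaf.stalk x) :=
    Groth.Agent.LD.RS.finite_stalk F hF x
  haveI : Nontrivial (F.presheaf.stalk x) := not_subsingleton_iff_nontrivial.mp hx
  obtain ⟨d, hd⟩ := Groth.Agent.H9.RLRChain.exists_dim (X.presheaf.stalk x)
  have hpd := Groth.Agent.H1.Reg.hasProjectiveDimensionLT_of_isRegularLocalRing
    (X.presheaf.stalk x) d hd (ModuleCat.of (X.presheaf.stalk x) (F.presheaf.stalk x))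
  -- the projective dimension is a natural number
  obtain ⟨e, he⟩ : ∃ e : ℕ,
      projectiveDimension (ModuleCat.of (X.presheaf.stalk x) (F.presheaf.stalk x)) = e := by
    have h1 := projectiveDimension_lt_iff.mpr hpd
    generalize hq : projectiveDimension
      (ModuleCat.of (X.presheaf.stalk x) (F.presheaf.stalk x)) = q at h1
    induction q with
    | bot =>
      exfalso
      rw [projectiveDimension_eq_bot_iff] at hq
      have : Subsingleton (F.presheaf.stalk x) := ModuleCat.subsingleton_of_isZero hq
      exact not_subsingleton _ this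
    | coe q =>
      induction q with
      | top => exact absurd h1 (by simp)
      | coe q => exact ⟨q, rfl⟩
  have hAB := Groth.Agent.H1.AB.auslander_buchsbaum' (F.presheaf.stalk x) e he
  have hdepth : LocCoh.depth (X.presheaf.stalk x) (X.presheaf.stalk x) = d :=
    Groth.Agent.H1.AB.depth_eq_of_isRegularLocalRing d hd
  -- the topological part
  have hTmem := irreducibleComponent_mem_irreducibleComponents x
  have hxT : x ∈ irreducibleComponent x := mem_irreducibleComponent
  have h1 := hcomp _ hTmem
  have h2 := hchain x (irreducibleComponent x)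
    (isClosed_of_mem_irreducibleComponents _ hTmem) hTmem.1 hxT
  have hset : {t : X | t ∈ irreducibleComponent x ∧ t ⤳ x} = {t : X | t ⤳ x} := by
    ext t
    constructor
    · rintro ⟨-, h⟩; exact h
    · intro h; exact ⟨mem_of_specializes x _ hTmem hxT t h, h⟩
  rw [hset, topologicalKrullDim_generizations, hd] at h2
  rw [← h1, h2, he]
  have h3 : ((LocCoh.depth (X.presheaf.stalk x) (F.presheaf.stalk x) : ℕ∞) : WithBot ℕ∞) +
      ((e : ℕ) : WithBot ℕ∞) = (d : WithBot ℕ∞) := by
    have h4 : (LocCoh.depth (X.presheaf.stalk x) (F.presheaf.stalk x) : ℕ∞) + (e : ℕ∞) = d := by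
      rw [add_comm, ← hAB, hdepth]
    exact_mod_cast congrArg (fun z : ℕ∞ => (z : WithBot ℕ∞)) h4
  rw [add_right_comm, h3, add_comm]

end Groth.Agent.H6.RectDepth
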