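import Mathlib
import Groth.Agent.Lib.Helper6.RectDepth
import Groth.Agent.Lib.Helper2.ProjDimOpen
import Groth.Agent.Lib.Lead.QC.Stalk
import Groth.Agent.Lib.Lead.QC.FinType
import Groth.Prelude.Def_CohB1

/-!
# Lower semicontinuity of the rectified depth on regular biequidimensional schemes (S4907)
-/

set_option autoImplicit false
universe u

open AlgebraicGeometry CategoryTheory TopologicalSpace

namespace Groth.Agent.H6.RectDepth

section Loc

variable {R : Type u} [CommRing R] (S : Submonoid R)
  {T₁ T₂ : Type u} [CommRing T₁] [CommRing T₂] [Algebra R T₁] [Algebra R T₂]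
  [IsLocalization S T₁] [IsLocalization S T₂]
  {M M₁ M₂ : Type u} [AddCommGroup M] [AddCommGroup M₁] [AddCommGroup M₂] [Module R M]
  [Module R M₁] [Module R M₂] [Module T₁ M₁] [Module T₂ M₂] [IsScalarTower R T₁ M₁]
  [IsScalarTower R T₂ M₂]

attribute [local instance] RingHomInvPair.of_ringEquiv in
/-- two localizations of the same module have the same projective dimension -/
theorem projectiveDimension_eq_of_isLocalizedModule (f₁ : M →ₗ[R] M₁) (f₂ : M →ₗ[R] M₂)
    [IsLocalizedModule S f₁] [IsLocalizedModule S f₂] :
    projectiveDimension (ModuleCat.of T₁ M₁) = projectiveDimension (ModuleCat.of T₂ M₂) := by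
  let σ : T₁ ≃ₐ[R] T₂ := IsLocalization.algEquiv S T₁ T₂
  let τ : M₁ ≃ₗ[R] M₂ := IsLocalizedModule.linearEquiv S f₁ f₂
  have hτ : ∀ (t : T₁) (m : M₁), τ (t • m) = σ t • τ m := by
    intro t m
    letI : Module T₁ M₂ := Module.compHom M₂ σ.toRingEquiv.toRingHom
    haveI : IsScalarTower R T₁ M₂ := IsScalarTower.of_algebraMap_smul fun r x => by
      change σ (algebraMap R T₁ r) • x = r • x
      rw [σ.commutes, algebraMap_smul]
    exact (LinearEquiv.extendScalarsOfIsLocalization S T₁ τ).map_smul t m
  let e' : (ModuleCat.of T₁ M₁) ≃ₛₗ[RingHomClass.toRingHom σ.toRingEquiv] (ModuleCat.of T₂ M₂) :=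
    { toFun := τ
      map_add' := τ.map_add
      map_smul' := hτ
      invFun := τ.symm
      left_inv := τ.left_inv
      right_inv := τ.right_inv }
  exact ModuleCat.projectiveDimension_eq_of_semiLinearEquiv σ.toRingEquiv e'

end Loc

/-- the locus where the localization of a finite module over a Noetherian ring has projective
dimension at most `m` is open, for every `m : WithBot ℕ∞`. -/
theorem isOpen_pd_le (A : Type u) [CommRing A] [IsNoetherianRing A] (M : Type u)
    [AddCommGroup M] [Module A M] [Module.Finite A M] (m : WithBot ℕ∞) :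
    IsOpen {p : PrimeSpectrum A |
      projectiveDimension (ModuleCat.of (Localization.AtPrime p.asIdeal)
        (LocalizedModule p.asIdeal.primeCompl M)) ≤ m} := by
  induction m with
  | bot =>
    have h : {p : PrimeSpectrum A |
        projectiveDimension (ModuleCat.of (Localization.AtPrime p.asIdeal)
          (LocalizedModule p.asIdeal.primeCompl M)) ≤ ⊥} = (Module.support A M)ᶜ := by
      ext p
      rw [Set.mem_ofPred_eq, le_bot_iff, projectiveDimension_eq_bot_iff,
        ModuleCat.isZero_iff_subsingleton, Set.mem_compl_iff, Module.notMem_support_iff]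
    rw [h]
    exact (Module.isClosed_support (R := A) (M := M)).isOpen_compl
  | coe m =>
    induction m with
    | top =>
      convert isOpen_univ
      ext p
      simp only [Set.mem_ofPred_eq, Set.mem_univ, iff_true]
      exact le_top
    | coe k => exact Groth.Agent.H2.isOpen_projectiveDimension_le A k M

open Groth.Agent.LD.QC in
/-- the projective dimension of the stalk of a quasi-coherent module at a point of an affine
open is that of the localization of the module of sections. -/
theorem pd_stalk_eq {X : Scheme.{u}} (F : X.Modules) [F.IsQuasicoherent] {V : X.Opens}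
    (hV : IsAffineOpen V) (y : X) (hy : y ∈ V) :
    projectiveDimension (ModuleCat.of ↑(X.presheaf.stalk y) ↑(F.presheaf.stalk y)) =
      projectiveDimension (ModuleCat.of
        (Localization.AtPrime (hV.primeIdealOf ⟨y, hy⟩).asIdeal)
        (LocalizedModule (hV.primeIdealOf ⟨y, hy⟩).asIdeal.primeCompl Γ(F, V))) := by
  letI := stalkΓModule F y V hy
  letI : Algebra Γ(X, V) (X.presheaf.stalk y) :=
    TopCat.Presheaf.algebra_section_stalk X.presheaf ⟨y, hy⟩
  haveI : IsLocalization.AtPrime (X.presheaf.stalk y) (hV.primeIdealOf ⟨y, hy⟩).asIdeal :=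
    hV.isLocalization_stalk ⟨y, hy⟩
  haveI : IsScalarTower Γ(X, V) (X.presheaf.stalk y) (F.presheaf.stalk y) :=
    ⟨fun r s m => by
      change (r • s) • m = X.presheaf.germ V y hy r • (s • m)
      rw [Algebra.smul_def, mul_smul]
      rfl⟩
  haveI := isLocalizedModule_germ F hV y hy
  exact projectiveDimension_eq_of_isLocalizedModule
    (hV.primeIdealOf ⟨y, hy⟩).asIdeal.primeCompl
    (T₁ := X.presheaf.stalk y) (T₂ := Localization.AtPrime (hV.primeIdealOf ⟨y, hy⟩).asIdeal)
    (germLinear F y V hy)
    (LocalizedModule.mkLinearMap (hV.primeIdealOf ⟨y, hy⟩).asIdeal.primeCompl Γ(F, V))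

theorem topologicalKrullDim_nonneg (Y : Type*) [TopologicalSpace Y] [Nonempty Y] :
    0 ≤ topologicalKrullDim Y := by
  obtain ⟨y⟩ := ‹Nonempty Y›
  haveI : Nonempty (IrreducibleCloseds Y) :=
    ⟨⟨closure {y}, isIrreducible_singleton.closure, isClosed_closure⟩⟩
  exact Order.krullDim_nonneg

theorem main4907 (X : Scheme.{u}) [IsNoetherian X]
    (hreg : ∀ x : X, IsRegularLocalRing ↑(X.presheaf.stalk x))
    (hfin : topologicalKrullDim X < ⊤)
    (hcomp : ∀ C ∈ irreducibleComponents (X : Type u),
      topologicalKrullDim ↥C = topologicalKrullDim X)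
    (hchain : ∀ (y : X) (T : Set X), IsClosed T → IsIrreducible T → y ∈ T →
      topologicalKrullDim ↥T = topologicalKrullDim ↥(closure ({y} : Set X)) +
        topologicalKrullDim ↥{t : X | t ∈ T ∧ t ⤳ y})
    (F : X.Modules) (hF : Coh.IsCoh F) (n : ℕ) :
    IsOpen {x : X | (n : WithBot ℕ∞) ≤
      ((LocCoh.depth ↑(X.presheaf.stalk x) ↑(F.presheaf.stalk x) : ℕ∞) : WithBot ℕ∞) +
        topologicalKrullDim ↥(closure ({x} : Set X))} := by
  classical
  haveI : F.IsQuasicoherent := hF.1
  rcases isEmpty_or_nonempty X with hE | hNE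
  · convert isOpen_empty
    ext x
    exact (hE.false x).elim
  -- the dimension is a natural number
  obtain ⟨d, hd⟩ : ∃ d : ℕ, topologicalKrullDim X = (d : WithBot ℕ∞) := by
    have h0 := topologicalKrullDim_nonneg X
    generalize topologicalKrullDim X = D at hfin h0
    induction D with
    | bot => exact absurd h0 (by simp)
    | coe D =>
      induction D with
      | top => exact absurd hfin (lt_irrefl _)
      | coe D => exact ⟨D, rfl⟩
  let m : WithBot ℕ∞ := if n ≤ d then ((d - n : ℕ) : WithBot ℕ∞) else ⊥
  have key : ∀ x : X, ((n : WithBot ℕ∞) ≤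
      ((LocCoh.depth ↑(X.presheaf.stalk x) ↑(F.presheaf.stalk x) : ℕ∞) : WithBot ℕ∞) +
        topologicalKrullDim ↥(closure ({x} : Set X))) ↔
      projectiveDimension (ModuleCat.of ↑(X.presheaf.stalk x) ↑(F.presheaf.stalk x)) ≤ m := by
    intro x
    haveI : IsRegularLocalRing (X.presheaf.stalk x) := hreg x
    haveI : Nonempty ↥(closure ({x} : Set X)) := ⟨⟨x, subset_closure rfl⟩⟩
    have hc0 := topologicalKrullDim_nonneg ↥(closure ({x} : Set X))
    by_cases hsub : Subsingleton (F.presheaf.stalk x)
    · have h1 : LocCoh.depth ↑(X.presheaf.stalk x) ↑(F.presheaf.stalk x) = ⊤ := by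
        unfold LocCoh.depth LocCoh.idealDepth
        rw [if_pos (Subsingleton.elim _ _)]
      have h2 : projectiveDimension
          (ModuleCat.of ↑(X.presheaf.stalk x) ↑(F.presheaf.stalk x)) = ⊥ := by
        rw [projectiveDimension_eq_bot_iff, ModuleCat.isZero_iff_subsingleton]
        exact hsub
      rw [h1, h2]
      refine ⟨fun _ => bot_le, fun _ => ?_⟩
      generalize topologicalKrullDim ↥(closure ({x} : Set X)) = c at hc0
      induction c with
      | bot => exact absurd hc0 (by simp)
      | coe c =>
        rw [← WithBot.coe_add, top_add]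
        exact le_top
    · have hx : x ∈ CohB1.support F := hsub
      have h4906 := main4906 X hreg hcomp hchain F hF x hx
      rw [hd] at h4906
      haveI : Module.Finite (X.presheaf.stalk x) (F.presheaf.stalk x) :=
        Groth.Agent.LD.RS.finite_stalk F hF x
      haveI : Nontrivial (F.presheaf.stalk x) := not_subsingleton_iff_nontrivial.mp hsub
      obtain ⟨d', hd'⟩ := Groth.Agent.H9.RLRChain.exists_dim (X.presheaf.stalk x)
      have hpd := Groth.Agent.H1.Reg.hasProjectiveDimensionLT_of_isRegularLocalRing
        (X.presheaf.stalk x) d' hd' (ModuleCat.of (X.presheaf.stalk x) (F.presheaf.stalk x))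
      obtain ⟨e, he⟩ : ∃ e : ℕ,
          projectiveDimension (ModuleCat.of (X.presheaf.stalk x) (F.presheaf.stalk x)) = e := by
        have h1 := projectiveDimension_lt_iff.mpr hpd
        generalize hq : projectiveDimension
          (ModuleCat.of (X.presheaf.stalk x) (F.presheaf.stalk x)) = q at h1
        induction q with
        | bot =>
          exfalso
          rw [projectiveDimension_eq_bot_iff] at hq
          have : Subsingleton (F.presheaf.stalk x) := ModuleCat.subsingleton_of_isZero hq
          exact not_subsingleton _ this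
        | coe q =>
          induction q with
          | top => exact absurd h1 (by simp)
          | coe q => exact ⟨q, rfl⟩
      rw [he] at h4906 ⊢
      generalize LocCoh.depth ↑(X.presheaf.stalk x) ↑(F.presheaf.stalk x) = a at h4906 ⊢
      generalize topologicalKrullDim ↥(closure ({x} : Set X)) = c at hc0 h4906 ⊢
      induction c with
      | bot => exact absurd hc0 (by simp)
      | coe c =>
        have h5 : a + c + (e : ℕ∞) = (d : ℕ∞) := by
          have : (((a + c + (e : ℕ∞) : ℕ∞)) : WithBot ℕ∞) = (((d : ℕ∞)) : WithBot ℕ∞) := by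
            push_cast
            exact h4906
          exact WithBot.coe_injective this
        have ha : a ≠ ⊤ := by
          rintro rfl
          simp at h5
        have hc : c ≠ ⊤ := by
          rintro rfl
          simp at h5
        obtain ⟨a', rfl⟩ := ENat.ne_top_iff_exists.mp ha
        obtain ⟨c', rfl⟩ := ENat.ne_top_iff_exists.mp hc
        have h6 : a' + c' + e = d := by exact_mod_cast h5
        have h7 : ((n : WithBot ℕ∞) ≤ (((a' : ℕ∞)) : WithBot ℕ∞) + (((c' : ℕ∞)) : WithBot ℕ∞)) ↔
            n ≤ a' + c' := by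
          constructor
          · intro h; exact_mod_cast h
          · intro h; exact_mod_cast h
        rw [h7]
        by_cases hnd : n ≤ d
        · have hm : m = ((d - n : ℕ) : WithBot ℕ∞) := if_pos hnd
          rw [hm]
          have h8 : (((e : ℕ) : WithBot ℕ∞) ≤ ((d - n : ℕ) : WithBot ℕ∞)) ↔ e ≤ d - n := by
            constructor
            · intro h; exact_mod_cast h
            · intro h; exact_mod_cast h
          rw [h8]
          omega
        · have hm : m = ⊥ := if_neg hnd
          rw [hm]
          constructor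
          · intro h; omega
          · intro h
            exact absurd h (by simp)
  rw [isOpen_iff_forall_mem_open]
  intro x hx
  obtain ⟨V, hV, hxV⟩ : ∃ V : X.Opens, IsAffineOpen V ∧ x ∈ V := by
    obtain ⟨_, ⟨V, hV, rfl⟩, hy, -⟩ :=
      X.isBasis_affineOpens.exists_subset_of_mem_open (Set.mem_univ x) isOpen_univ
    exact ⟨V, hV, hy⟩
  haveI : IsNoetherianRing Γ(X, V) := IsLocallyNoetherian.component_noetherian ⟨V, hV⟩
  haveI : Module.Finite Γ(X, V) Γ(F, V) :=
    Groth.Agent.LD.QC.finite_sections_of_isFiniteType F hF.2 hV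
  have hopen := isOpen_pd_le Γ(X, V) Γ(F, V) m
  have hcont : Continuous (fun y' : V => hV.primeIdealOf y') := hV.isoSpec.hom.continuous
  have hpre := hopen.preimage hcont
  refine ⟨Subtype.val '' ((fun y' : V => hV.primeIdealOf y') ⁻¹' {p : PrimeSpectrum Γ(X, V) |
      projectiveDimension (ModuleCat.of (Localization.AtPrime p.asIdeal)
        (LocalizedModule p.asIdeal.primeCompl Γ(F, V))) ≤ m}), ?_, ?_, ?_⟩
  · rintro _ ⟨⟨y, hy⟩, hy', rfl⟩
    rw [Set.mem_ofPred_eq, key, pd_stalk_eq F hV y hy]
    exact hy'
  · exact V.2.isOpenMap_subtype_val _ hpre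
  · refine ⟨⟨x, hxV⟩, ?_, rfl⟩
    show projectiveDimension (ModuleCat.of
        (Localization.AtPrime (hV.primeIdealOf ⟨x, hxV⟩).asIdeal)
        (LocalizedModule (hV.primeIdealOf ⟨x, hxV⟩).asIdeal.primeCompl Γ(F, V))) ≤ m
    rw [← pd_stalk_eq F hV x hxV, ← key]
    exact hx

end Groth.Agent.H6.RectDepth
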