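import Mathlib

/-!
# helper6: tensor product of finite reduced algebras over an algebraically closed field is reduced
-/

set_option linter.style.haveILetI false

open TensorProduct

universe u v w

namespace Groth.Agent.H6

theorem red_tensor (k : Type u) [Field k] [IsAlgClosed k] (A : Type v) [CommRing A] [Algebra k A]
    [Module.Finite k A] [IsReduced A] (B : Type w) [CommRing B] [Algebra k B] [IsReduced B] :
    IsReduced (A ⊗[k] B) := by
  classical
  haveI : IsArtinianRing A := IsArtinianRing.of_finite k A
  constructor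
  intro x hx
  let 𝒞 := Module.Free.chooseBasis k B
  set c := TensorProduct.equivFinsuppOfBasisRight (M := A) 𝒞 x with hc
  have hxc : x = c.sum fun i a => a ⊗ₜ[k] 𝒞 i := by
    rw [← TensorProduct.equivFinsuppOfBasisRight_symm_apply, hc, LinearEquiv.symm_apply_apply]
  suffices hc0 : c = 0 by
    rw [hxc, hc0]; simp
  ext i
  rw [Finsupp.zero_apply]
  -- c i lies in every maximal ideal
  have hmem : ∀ m : Ideal A, m.IsMaximal → c i ∈ m := by
    intro m hm
    letI : Field (A ⧸ m) := Ideal.Quotient.field m
    have hbij : Function.Bijective (algebraMap k (A ⧸ m)) :=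
      IsAlgClosed.algebraMap_bijective_of_isIntegral
    let e : k ≃ₐ[k] (A ⧸ m) := AlgEquiv.ofBijective (Algebra.ofId k (A ⧸ m)) hbij
    let ε : A →ₐ[k] k := (e.symm : (A ⧸ m) →ₐ[k] k).comp (Ideal.Quotient.mkₐ k m)
    have hε : ∀ a, ε a = 0 → a ∈ m := by
      intro a ha
      have : e.symm (Ideal.Quotient.mkₐ k m a) = 0 := ha
      rw [map_eq_zero_iff _ e.symm.injective] at this
      exact Ideal.Quotient.eq_zero_iff_mem.1 this
    let ψ : A ⊗[k] B →ₐ[k] B :=
      (Algebra.TensorProduct.lid k B : k ⊗[k] B →ₐ[k] B).comp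
        (Algebra.TensorProduct.map ε (AlgHom.id k B))
    have hψ0 : ψ x = 0 := by
      have : IsNilpotent (ψ x) := hx.map ψ
      exact this.eq_zero
    have hψx : ψ x = c.sum fun i a => ε a • 𝒞 i := by
      rw [hxc, map_finsuppSum]
      apply Finsupp.sum_congr
      intro j _
      simp [ψ]
    rw [hψ0] at hψx
    have h2 : (c.mapRange ε (map_zero ε)) = 0 := by
      apply 𝒞.repr.symm.injective
      rw [map_zero, 𝒞.repr_symm_apply, Finsupp.linearCombination_apply,
        Finsupp.sum_mapRange_index (by intro j; simp)]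
      exact hψx.symm
    apply hε
    have := DFunLike.congr_fun h2 i
    simpa using this
  have hjac : c i ∈ Ideal.jacobson (⊥ : Ideal A) := by
    rw [Ideal.jacobson, Ideal.mem_sInf]
    intro m hm
    exact hmem m hm.2
  have hnil : IsNilpotent (c i) := by
    obtain ⟨n, hn⟩ := IsArtinianRing.isNilpotent_jacobson_bot (R := A)
    refine ⟨n, ?_⟩
    have : c i ^ n ∈ Ideal.jacobson (⊥ : Ideal A) ^ n := Ideal.pow_mem_pow hjac n
    rw [hn] at this
    exact this
  exact hnil.eq_zero

end Groth.Agent.H6
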