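import Mathlib
import Groth.Prelude.Def_Wider
import Groth.Agent.Lib.Helper6.ReflLoc
import Groth.Agent.Lib.Helper6.HomKer
import Groth.Agent.Lib.Helper6.DepthMax
import Groth.Agent.H4.TFDual2
import Groth.Agent.H4.Reflexive4

/-! Reflexivity over Noetherian domains: local criterion via depth. -/

universe u
set_option linter.style.haveILetI false
open CategoryTheory CategoryTheory.Limits Opposite CategoryTheory.Abelian
open scoped Pointwise

namespace Groth.Agent.H6

namespace Refl

section Ideal

variable (R : Type u) [CommRing R] (M : Type u) [AddCommGroup M] [Module R M]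

/-- the ideal of elements killing kernel and cokernel of the evaluation map `M → M**` -/
def reflIdeal : Ideal R where
  carrier := {s | (∀ x : M, Module.Dual.eval R M x = 0 → s • x = 0) ∧
    ∀ ξ : Module.Dual R (Module.Dual R M), s • ξ ∈ LinearMap.range (Module.Dual.eval R M)}
  add_mem' := by
    rintro a b ⟨ha1, ha2⟩ ⟨hb1, hb2⟩
    refine ⟨fun x hx => ?_, fun ξ => ?_⟩
    · rw [add_smul, ha1 x hx, hb1 x hx, add_zero]
    · rw [add_smul]
      exact Submodule.add_mem _ (ha2 ξ) (hb2 ξ)
  zero_mem' := by
    refine ⟨fun x _ => zero_smul _ _, fun ξ => ?_⟩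
    rw [zero_smul]
    exact Submodule.zero_mem _
  smul_mem' := by
    rintro c a ⟨ha1, ha2⟩
    refine ⟨fun x hx => ?_, fun ξ => ?_⟩
    · rw [smul_eq_mul, mul_smul, ha1 x hx, smul_zero]
    · rw [smul_eq_mul, mul_smul]
      exact Submodule.smul_mem _ _ (ha2 ξ)

variable {R M}

theorem mem_reflIdeal_iff (s : R) : s ∈ reflIdeal R M ↔
    (∀ x : M, Module.Dual.eval R M x = 0 → s • x = 0) ∧
    ∀ ξ : Module.Dual R (Module.Dual R M), s • ξ ∈ LinearMap.range (Module.Dual.eval R M) :=
  Iff.rfl

end Ideal

section Loc

variable {R : Type u} [CommRing R] [IsNoetherianRing R] (M : Type u) [AddCommGroup M] [Module R M]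
  [Module.Finite R M]

/-- localizations at multiplicative sets meeting the ideal `reflIdeal` are reflexive -/
theorem isReflexive_localization_of_mem (S : Submonoid R) (s : R) (hsS : s ∈ S)
    (hs : s ∈ reflIdeal R M) :
    Module.IsReflexive (Localization S) (LocalizedModule S M) := by
  haveI : Module.FinitePresentation R M := Module.finitePresentation_of_finite R M
  haveI : IsNoetherian R (Module.Dual R M) := isNoetherian_linearMap R R M
  haveI : Module.Finite R (Module.Dual R M) := Module.IsNoetherian.finite R _
  haveI : Module.FinitePresentation R (Module.Dual R M) := Module.finitePresentation_of_finite R _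
  set φ := LocalizedModule.mkLinearMap S M with hφ
  have hmap := H4.Reflexive.map_eval_eq S (Localization S) φ
  set ψ := H4.Reflexive.ddualLoc S (Localization S) φ with hψ
  set f' := IsLocalizedModule.map S φ ψ (Module.Dual.eval R M) with hf'
  have hf'φ : ∀ x : M, f' (φ x) = ψ (Module.Dual.eval R M x) := fun x =>
    IsLocalizedModule.map_apply S φ ψ _ x
  have hbij : Function.Bijective f' := by
    constructor
    · rw [← LinearMap.ker_eq_bot, eq_bot_iff]
      intro y hy
      rw [LinearMap.mem_ker] at hy
      obtain ⟨⟨x, t⟩, ht⟩ := IsLocalizedModule.surj S φ y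
      simp only at ht
      have h1 : ψ (Module.Dual.eval R M x) = 0 := by
        rw [← hf'φ, ← ht, Submonoid.smul_def, map_smul, hy, smul_zero]
      have h2 : ψ (Module.Dual.eval R M x) = ψ 0 := by rw [h1, map_zero]
      obtain ⟨c, hc⟩ := IsLocalizedModule.exists_of_eq (S := S) h2
      rw [smul_zero] at hc
      have h3 : Module.Dual.eval R M (c.1 • x) = 0 := by
        rw [map_smul]
        exact hc
      have h4 := hs.1 _ h3
      have h5 : (s * c.1) • φ x = 0 := by
        rw [← map_smul, mul_smul, h4, map_zero]
      have h6 : φ x = 0 := by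
        have hu : (⟨s * c.1, Submonoid.mul_mem _ hsS c.2⟩ : S) • φ x = 0 := h5
        exact (IsLocalizedModule.smul_inj φ _ _ _).mp (hu.trans (smul_zero _).symm)
      rw [h6] at ht
      rw [Submodule.mem_bot]
      exact (IsLocalizedModule.smul_inj φ t _ _).mp (ht.trans (smul_zero _).symm)
    · intro Ψ
      obtain ⟨⟨ξ, t⟩, ht⟩ := IsLocalizedModule.surj S ψ Ψ
      simp only at ht
      obtain ⟨x, hx⟩ := hs.2 ξ
      refine ⟨IsLocalizedModule.mk' φ x (⟨s, hsS⟩ * t), ?_⟩
      rw [hf', IsLocalizedModule.map_mk', IsLocalizedModule.mk'_eq_iff, hx, map_smul, ← ht,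
        mul_smul]
      rfl
  rw [hmap] at hbij
  exact ⟨hbij⟩

/-- a reflexive localization at a prime is witnessed by an element of `reflIdeal` outside the
prime -/
theorem exists_mem_reflIdeal_of_isReflexive (p : Ideal R) [p.IsPrime]
    (h : Module.IsReflexive (Localization.AtPrime p) (LocalizedModule p.primeCompl M)) :
    ∃ s ∈ reflIdeal R M, s ∉ p := by
  classical
  haveI : IsNoetherian R (Module.Dual R M) := isNoetherian_linearMap R R M
  haveI : IsNoetherian R (Module.Dual R (Module.Dual R M)) :=
    isNoetherian_linearMap R R (Module.Dual R M)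
  haveI : Module.Finite R (Module.Dual R (Module.Dual R M)) := Module.IsNoetherian.finite R _
  haveI : IsNoetherian R M := isNoetherian_of_isNoetherianRing_of_finite R M
  -- kernel
  have hK : ∃ a ∈ p.primeCompl, ∀ x : M, Module.Dual.eval R M x = 0 → a • x = 0 := by
    haveI : Module.Finite R (LinearMap.ker (Module.Dual.eval R M)) :=
      Module.Finite.of_fg (IsNoetherian.noetherian _)
    obtain ⟨r, g, hg⟩ := Module.Finite.exists_fin (R := R)
      (M := LinearMap.ker (Module.Dual.eval R M))
    choose c hcS hc using fun j : Fin r =>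
      exists_smul_eq_zero_of_mem_ker M p.primeCompl (g j).1 (g j).2
    refine ⟨∏ j, c j, Submonoid.prod_mem _ (fun j _ => hcS j), ?_⟩
    intro x hx
    have hx' : (⟨x, hx⟩ : LinearMap.ker (Module.Dual.eval R M)) ∈ Submodule.span R (Set.range g) := by
      rw [hg]; trivial
    have key : ∀ y ∈ Submodule.span R (Set.range g), (∏ j, c j) • y = 0 := by
      intro y hy
      induction hy using Submodule.span_induction with
      | mem y hy =>
        obtain ⟨j, rfl⟩ := hy
        apply Subtype.ext
        rw [Submodule.coe_smul, Submodule.coe_zero,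
          ← Finset.mul_prod_erase Finset.univ c (Finset.mem_univ j), mul_comm, mul_smul, hc j,
          smul_zero]
      | zero => exact smul_zero _
      | add a b _ _ ha hb => rw [smul_add, ha, hb, add_zero]
      | smul t a _ ha => rw [smul_comm, ha, smul_zero]
    have := congrArg Subtype.val (key _ hx')
    simpa using this
  -- cokernel
  have hC : ∃ a ∈ p.primeCompl, ∀ ξ : Module.Dual R (Module.Dual R M),
      a • ξ ∈ LinearMap.range (Module.Dual.eval R M) := by
    obtain ⟨r, g, hg⟩ := Module.Finite.exists_fin (R := R)
      (M := Module.Dual R (Module.Dual R M))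
    choose c hcS hc using fun j : Fin r => exists_smul_mem_range M p.primeCompl (g j)
    refine ⟨∏ j, c j, Submonoid.prod_mem _ (fun j _ => hcS j), ?_⟩
    intro ξ
    have hξ : ξ ∈ Submodule.span R (Set.range g) := by rw [hg]; trivial
    induction hξ using Submodule.span_induction with
    | mem y hy =>
      obtain ⟨j, rfl⟩ := hy
      rw [← Finset.mul_prod_erase Finset.univ c (Finset.mem_univ j), mul_comm, mul_smul]
      exact Submodule.smul_mem _ _ (hc j)
    | zero => rw [smul_zero]; exact Submodule.zero_mem _
    | add a b _ _ ha hb => rw [smul_add]; exact Submodule.add_mem _ ha hb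
    | smul t a _ ha => rw [smul_comm]; exact Submodule.smul_mem _ _ ha
  obtain ⟨a, ha, haK⟩ := hK
  obtain ⟨b, hb, hbC⟩ := hC
  refine ⟨a * b, ⟨fun x hx => ?_, fun ξ => ?_⟩, ?_⟩
  · rw [mul_comm, mul_smul, haK x hx, smul_zero]
  · rw [mul_smul]
    exact Submodule.smul_mem _ _ (hbC ξ)
  · exact (Submonoid.mul_mem _ ha hb)

end Loc

section Domain

variable {R : Type u} [CommRing R] [IsDomain R] [IsNoetherianRing R] (M : Type u) [AddCommGroup M]
  [Module R M] [Module.Finite R M]

omit [IsNoetherianRing R] in
/-- over a domain the ideal `reflIdeal` is nonzero -/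
theorem exists_ne_zero_mem_reflIdeal : ∃ c : R, c ≠ 0 ∧ c ∈ reflIdeal R M := by
  classical
  obtain ⟨ι, _, m, l, c, hc0, -, -, hc⟩ := H4.TFDual2.exists_dual_frame' R M
  refine ⟨c, hc0, fun x hx => ?_, fun ξ => ?_⟩
  · rw [hc x]
    apply Finset.sum_eq_zero
    intro i _
    have : l i x = 0 := LinearMap.congr_fun hx (l i)
    rw [this, zero_smul]
  · refine ⟨∑ i, ξ (l i) • m i, ?_⟩
    apply LinearMap.ext
    intro φ
    rw [Module.Dual.eval_apply, LinearMap.smul_apply, map_sum]
    have h1 : c • φ = ∑ i, φ (m i) • l i := by
      apply LinearMap.ext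
      intro x
      rw [LinearMap.smul_apply, smul_eq_mul, LinearMap.sum_apply]
      have := congrArg φ (hc x)
      rw [map_smul, map_sum, smul_eq_mul] at this
      rw [this]
      apply Finset.sum_congr rfl
      intro i _
      rw [map_smul, LinearMap.smul_apply, smul_eq_mul, smul_eq_mul, mul_comm]
    have h2 : c • ξ φ = ξ (c • φ) := (map_smul ξ c φ).symm
    rw [h2, h1, map_sum]
    apply Finset.sum_congr rfl
    intro i _
    rw [map_smul, map_smul, smul_eq_mul, smul_eq_mul, mul_comm]

/-- **local criterion for reflexivity over a Noetherian domain** -/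
theorem isReflexive_iff_forall_prime :
    Module.IsReflexive R M ↔ ∀ (p : Ideal R) [p.IsPrime],
      Module.IsReflexive (Localization.AtPrime p) (LocalizedModule p.primeCompl M) ∨
        2 ≤ LocCoh.depth (Localization.AtPrime p) (LocalizedModule p.primeCompl M) := by
  constructor
  · intro h p hp
    left
    haveI : Module.FinitePresentation R M := Module.finitePresentation_of_finite R M
    haveI : IsNoetherian R (Module.Dual R M) := isNoetherian_linearMap R R M
    haveI : Module.Finite R (Module.Dual R M) := Module.IsNoetherian.finite R _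
    haveI : Module.FinitePresentation R (Module.Dual R M) :=
      Module.finitePresentation_of_finite R _
    exact H4.Reflexive.isReflexive_localization p.primeCompl (Localization.AtPrime p)
      (LocalizedModule.mkLinearMap p.primeCompl M)
  · intro h
    obtain ⟨c, hc0, hcI⟩ := exists_ne_zero_mem_reflIdeal (R := R) M
    apply isReflexive_of_depth (reflIdeal R M)
    · by_cases hIR : reflIdeal R M • (⊤ : Submodule R R) = ⊤
      · unfold LocCoh.idealDepth
        rw [if_pos hIR]
        exact le_top
      · have h1 := Depth.length_le_idealDepth (reflIdeal R M) R hIR [c]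
          ((RingTheory.Sequence.isWeaklyRegular_singleton_iff R c).mpr (by
            intro x y hxy
            exact mul_left_cancel₀ hc0 hxy))
          (by
            intro r hr
            rw [List.mem_singleton] at hr
            rw [hr]
            exact hcI)
        simpa using h1
    · intro p hp
      obtain ⟨s, hsI, hsp⟩ := SetLike.not_le_iff_exists.mp hp
      exact isReflexive_localization_of_mem M p.asIdeal.primeCompl s hsp hsI
    · rw [Depth.idealDepth_eq_iInf]
      apply le_iInf₂
      intro p hp
      rcases h p.asIdeal with hr | hd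
      · exfalso
        obtain ⟨s, hsI, hsp⟩ := exists_mem_reflIdeal_of_isReflexive M p.asIdeal hr
        exact hsp (hp hsI)
      · exact hd

end Domain

end Refl

end Groth.Agent.H6
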