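import Mathlib
import Groth.Prelude.Def_EGA4b
import Groth.Agent.Lib.Helper6.SerreNormal
import Groth.Agent.Lib.Helper6.SkSurj
import Groth.Agent.Lib.Helper1.CMFlat

/-! Hypersurfaces in regular rings are `(S_k)`; normality of hypersurfaces. -/

universe u
set_option linter.style.haveILetI false
open scoped Pointwise
open IsLocalRing

namespace Groth.Agent.H6

namespace RegHyper

variable {A : Type u} [CommRing A] [IsNoetherianRing A]

omit [IsNoetherianRing A] in
/-- a module which is Cohen–Macaulay at `p` satisfies every Serre inequality at `p` -/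
theorem skIneq_of_cm (M : Type u) [AddCommGroup M] [Module A M] (k : ℕ) (p : Ideal A) [p.IsPrime]
    (h : LocCoh.IsCohenMacaulayModule (Localization.AtPrime p)
      (LocalizedModule p.primeCompl M)) : SkLoc.SkIneq M k p := by
  unfold SkLoc.SkIneq
  unfold LocCoh.IsCohenMacaulayModule at h
  rw [h]
  exact min_le_right _ _

/-- the localization of `A/(f)` at a prime `p ∋ f` with `A_p` regular is Cohen–Macaulay -/
theorem cm_localized_quotient (f : A) (p : Ideal A) [p.IsPrime]
    [hreg : IsRegularLocalRing (Localization.AtPrime p)] (hfp : f ∈ p) :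
    LocCoh.IsCohenMacaulayModule (Localization.AtPrime p)
      (LocalizedModule p.primeCompl (A ⧸ Ideal.span {f})) := by
  haveI : IsNoetherianRing (Localization.AtPrime p) :=
    IsLocalization.isNoetherianRing p.primeCompl _ inferInstance
  haveI : IsDomain (Localization.AtPrime p) := H7.Reg.isDomain _
  have hcm : LocCoh.IsCohenMacaulayModule (Localization.AtPrime p) (Localization.AtPrime p) :=
    (H1.CMFlat.isCohenMacaulayLocalRing_of_isRegularLocalRing
      (Localization.AtPrime p)).supportDim_eq_depth
  haveI : Module.Finite (Localization.AtPrime p)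
      (LocalizedModule p.primeCompl (A ⧸ Ideal.span {f})) :=
    Module.Finite.of_isLocalizedModule p.primeCompl
      (LocalizedModule.mkLinearMap p.primeCompl (A ⧸ Ideal.span {f}))
  -- the quotient description
  have e1 : LocalizedModule p.primeCompl (A ⧸ Ideal.span {f}) ≃ₗ[Localization.AtPrime p]
      (Localization.AtPrime p ⧸ (Ideal.span {f}).localized' (Localization.AtPrime p) p.primeCompl
        (Algebra.linearMap A (Localization.AtPrime p))) :=
    (IsLocalizedModule.iso p.primeCompl
      ((Ideal.span {f}).toLocalizedQuotient' (Localization.AtPrime p) p.primeCompl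
        (Algebra.linearMap A (Localization.AtPrime p)))).extendScalarsOfIsLocalization
          p.primeCompl (Localization.AtPrime p)
  have hspan : (Ideal.span {f}).localized' (Localization.AtPrime p) p.primeCompl
      (Algebra.linearMap A (Localization.AtPrime p)) =
      (algebraMap A (Localization.AtPrime p) f) • (⊤ : Submodule (Localization.AtPrime p)
        (Localization.AtPrime p)) := by
    have h1 : (Ideal.span {f} : Ideal A) = Submodule.span A {f} := rfl
    rw [h1, Submodule.localized'_span, Set.image_singleton]
    change Ideal.span {algebraMap A (Localization.AtPrime p) f} = _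
    simp [← Submodule.ideal_span_singleton_smul]
  have e2 : (Localization.AtPrime p ⧸ (Ideal.span {f}).localized' (Localization.AtPrime p)
      p.primeCompl (Algebra.linearMap A (Localization.AtPrime p))) ≃ₗ[Localization.AtPrime p]
      QuotSMulTop (algebraMap A (Localization.AtPrime p) f) (Localization.AtPrime p) :=
    Submodule.quotEquivOfEq _ _ hspan
  refine CM.cm_of_linearEquiv (e1.trans e2).symm ?_
  by_cases hf0 : algebraMap A (Localization.AtPrime p) f = 0
  · rw [hf0]
    have hbot : (0 : Localization.AtPrime p) • (⊤ : Submodule (Localization.AtPrime p)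
        (Localization.AtPrime p)) = ⊥ := by
      rw [eq_bot_iff]
      rintro x ⟨y, -, rfl⟩
      simp
    exact CM.cm_of_linearEquiv (Submodule.quotEquivOfEqBot _ hbot).symm hcm
  · apply CM.cm_quotSMulTop _ hcm
    · exact (IsLocalization.AtPrime.to_map_mem_maximal_iff (Localization.AtPrime p) p f).mpr hfp
    · intro x y hxy
      exact mul_left_cancel₀ hf0 hxy

/-- hypersurfaces in regular rings satisfy all `(S_k)` -/
theorem hasSk_quotient (hreg : ∀ (p : Ideal A) (_ : p.IsPrime),
      IsRegularLocalRing (Localization.AtPrime p)) (f : A) (k : ℕ) :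
    LocCoh.HasSk k (A ⧸ Ideal.span {f}) (A ⧸ Ideal.span {f}) := by
  rw [SkSurj.hasSk_iff (A := A) Ideal.Quotient.mk_surjective]
  rw [SkLoc.hasSk_iff_skIneq]
  intro p hp
  by_cases hfp : f ∈ p
  · haveI := hreg p hp
    exact skIneq_of_cm _ k p (cm_localized_quotient f p hfp)
  · unfold SkLoc.SkIneq
    haveI : Subsingleton (LocalizedModule p.primeCompl (A ⧸ Ideal.span {f})) := by
      rw [LocalizedModule.subsingleton_iff]
      intro m
      refine ⟨f, hfp, ?_⟩
      obtain ⟨a, rfl⟩ := Ideal.Quotient.mk_surjective m
      rw [Algebra.smul_def, Ideal.Quotient.algebraMap_eq, ← map_mul,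
        Ideal.Quotient.eq_zero_iff_mem]
      exact Ideal.mul_mem_right _ _ (Ideal.mem_span_singleton_self f)
    rw [Module.supportDim_eq_bot_of_subsingleton, min_bot_right]
    exact bot_le

end RegHyper

end Groth.Agent.H6
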