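import Mathlib
import Groth.Prelude.Def_CAlg

/-! Regular sequences on the kernel of a surjection. -/

set_option autoImplicit false
set_option linter.style.haveILetI false
universe u

open RingTheory.Sequence Function

namespace Groth.Agent.H6.RegSES

theorem isWeaklyRegular_of_ses {R : Type u} [CommRing R] : ∀ (rs : List R)
    {M' M M'' : Type u} [AddCommGroup M'] [Module R M'] [AddCommGroup M] [Module R M]
    [AddCommGroup M''] [Module R M''] (i : M' →ₗ[R] M) (p : M →ₗ[R] M'')
    (_ : Injective i) (_ : Surjective p) (_ : Exact i p),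
    IsWeaklyRegular M rs → IsWeaklyRegular M'' (rs.take (rs.length - 1)) →
    IsWeaklyRegular M' rs := by
  intro rs
  induction rs with
  | nil => intro M' M M'' _ _ _ _ _ _ i p _ _ _ _ _; exact IsWeaklyRegular.nil R M'
  | cons r rs ih =>
    intro M' M M'' _ _ _ _ _ _ i p hi hp hex hM hM''
    rw [isWeaklyRegular_cons_iff] at hM ⊢
    refine ⟨hM.1.of_injective i hi, ?_⟩
    cases rs with
    | nil => exact IsWeaklyRegular.nil R _
    | cons s t =>
      have htake : (r :: s :: t).take ((r :: s :: t).length - 1) =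
          r :: (s :: t).take ((s :: t).length - 1) := by
        simp
      rw [htake, isWeaklyRegular_cons_iff] at hM''
      have hinj : Injective (QuotSMulTop.map r i) := by
        have h1 : Exact (0 : M' →ₗ[R] M') i := (LinearMap.exact_zero_iff_injective M' i).mpr hi
        have h2 := QuotSMulTop.map_first_exact_on_four_term_exact_of_isSMulRegular_last h1 hex hM''.1
        have h3 : QuotSMulTop.map r (0 : M' →ₗ[R] M') = 0 := by
          ext x
          simp
        rw [h3] at h2
        exact (LinearMap.exact_zero_iff_injective _ _).mp h2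
      exact ih (QuotSMulTop.map r i) (QuotSMulTop.map r p) hinj (QuotSMulTop.map_surjective r hp)
        (QuotSMulTop.map_exact r hex hp) hM.2 hM''.2


theorem isWeaklyRegular_of_ses_mid {R : Type u} [CommRing R] : ∀ (rs : List R)
    {M' M M'' : Type u} [AddCommGroup M'] [Module R M'] [AddCommGroup M] [Module R M]
    [AddCommGroup M''] [Module R M''] (i : M' →ₗ[R] M) (p : M →ₗ[R] M'')
    (_ : Injective i) (_ : Surjective p) (_ : Exact i p),
    IsWeaklyRegular M' rs → IsWeaklyRegular M'' rs → IsWeaklyRegular M rs := by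
  intro rs
  induction rs with
  | nil => intro M' M M'' _ _ _ _ _ _ i p _ _ _ _ _; exact IsWeaklyRegular.nil R M
  | cons r rs ih =>
    intro M' M M'' _ _ _ _ _ _ i p hi hp hex hM' hM''
    rw [isWeaklyRegular_cons_iff] at hM' hM'' ⊢
    refine ⟨?_, ?_⟩
    · rw [isSMulRegular_iff_right_eq_zero_of_smul]
      intro x hx
      have h1 : p x = 0 := by
        apply isSMulRegular_iff_right_eq_zero_of_smul.mp hM''.1
        rw [← map_smul, hx, map_zero]
      obtain ⟨y, rfl⟩ := (hex x).mp h1
      have h2 : y = 0 := by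
        apply isSMulRegular_iff_right_eq_zero_of_smul.mp hM'.1
        apply hi
        rw [map_smul, hx, map_zero]
      rw [h2, map_zero]
    · have hinj : Injective (QuotSMulTop.map r i) := by
        have h1 : Exact (0 : M' →ₗ[R] M') i := (LinearMap.exact_zero_iff_injective M' i).mpr hi
        have h2 := QuotSMulTop.map_first_exact_on_four_term_exact_of_isSMulRegular_last h1 hex hM''.1
        have h3 : QuotSMulTop.map r (0 : M' →ₗ[R] M') = 0 := by
          ext x
          simp
        rw [h3] at h2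
        exact (LinearMap.exact_zero_iff_injective _ _).mp h2
      exact ih (QuotSMulTop.map r i) (QuotSMulTop.map r p) hinj (QuotSMulTop.map_surjective r hp)
        (QuotSMulTop.map_exact r hex hp) hM'.2 hM''.2

theorem isWeaklyRegular_prod {R : Type u} [CommRing R] (rs : List R) {M₁ M₂ : Type u}
    [AddCommGroup M₁] [Module R M₁] [AddCommGroup M₂] [Module R M₂]
    (h₁ : IsWeaklyRegular M₁ rs) (h₂ : IsWeaklyRegular M₂ rs) : IsWeaklyRegular (M₁ × M₂) rs := by
  refine isWeaklyRegular_of_ses_mid rs (LinearMap.inl R M₁ M₂) (LinearMap.snd R M₁ M₂)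
    LinearMap.inl_injective LinearMap.snd_surjective ?_ h₁ h₂
  intro x
  constructor
  · intro hx
    exact ⟨x.1, Prod.ext rfl hx.symm⟩
  · rintro ⟨y, rfl⟩
    rfl

theorem main (A : Type u) [CommRing A] [IsNoetherianRing A] [IsLocalRing A] (I J : Ideal A)
    (rs : List A) (hf : ∀ r ∈ rs, r ∈ IsLocalRing.maximalIdeal A)
    (hI : IsRegular (A ⧸ I) rs) (hJ : IsRegular (A ⧸ J) rs)
    (hIJ : IsWeaklyRegular (A ⧸ (I ⊔ J)) (rs.take (rs.length - 1))) :
    IsRegular (A ⧸ (I ⊓ J)) rs := by
  haveI : Nontrivial (A ⧸ I) := hI.nontrivial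
  haveI : Nontrivial (A ⧸ (I ⊓ J)) := by
    apply Ideal.Quotient.nontrivial_iff.mpr
    intro h
    have hI' : I ≠ ⊤ := Ideal.Quotient.nontrivial_iff.mp inferInstance
    exact hI' (top_le_iff.mp (h ▸ inf_le_left))
  refine IsRegular.of_isWeaklyRegular_of_mem_maximalIdeal (A ⧸ (I ⊓ J)) hf ?_
  let i₁ : A ⧸ (I ⊓ J) →ₗ[A] A ⧸ I := Submodule.mapQ (I ⊓ J) I LinearMap.id inf_le_left
  let i₂ : A ⧸ (I ⊓ J) →ₗ[A] A ⧸ J := Submodule.mapQ (I ⊓ J) J LinearMap.id inf_le_right
  let p₁ : A ⧸ I →ₗ[A] A ⧸ (I ⊔ J) := Submodule.mapQ I (I ⊔ J) LinearMap.id le_sup_left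
  let p₂ : A ⧸ J →ₗ[A] A ⧸ (I ⊔ J) := Submodule.mapQ J (I ⊔ J) LinearMap.id le_sup_right
  refine isWeaklyRegular_of_ses rs (i₁.prod i₂)
    (p₁.comp (LinearMap.fst A _ _) - p₂.comp (LinearMap.snd A _ _)) ?_ ?_ ?_
    (isWeaklyRegular_prod rs hI.toIsWeaklyRegular hJ.toIsWeaklyRegular) hIJ
  · rw [injective_iff_map_eq_zero]
    intro x hx
    obtain ⟨x, rfl⟩ := Submodule.Quotient.mk_surjective _ x
    have h1 : i₁ (Submodule.Quotient.mk x) = 0 := congrArg Prod.fst hx
    have h2 : i₂ (Submodule.Quotient.mk x) = 0 := congrArg Prod.snd hx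
    rw [Submodule.Quotient.mk_eq_zero]
    exact ⟨(Submodule.Quotient.mk_eq_zero I).mp h1, (Submodule.Quotient.mk_eq_zero J).mp h2⟩
  · intro z
    obtain ⟨z, rfl⟩ := Submodule.Quotient.mk_surjective _ z
    exact ⟨(Submodule.Quotient.mk z, 0), by simp [p₁]⟩
  · rintro ⟨y, z⟩
    obtain ⟨y, rfl⟩ := Submodule.Quotient.mk_surjective _ y
    obtain ⟨z, rfl⟩ := Submodule.Quotient.mk_surjective _ z
    constructor
    · intro h
      have h' : (Submodule.Quotient.mk (y - z) : A ⧸ (I ⊔ J)) = 0 := by
        simpa [p₁, p₂, sub_eq_zero] using h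
      rw [Submodule.Quotient.mk_eq_zero] at h'
      obtain ⟨a, ha, b, hb, hab⟩ := Submodule.mem_sup.mp h'
      refine ⟨Submodule.Quotient.mk (y - a), ?_⟩
      refine Prod.ext ?_ ?_
      · change (Submodule.Quotient.mk (y - a) : A ⧸ I) = Submodule.Quotient.mk y
        rw [Submodule.Quotient.eq]
        simpa using I.neg_mem ha
      · change (Submodule.Quotient.mk (y - a) : A ⧸ J) = Submodule.Quotient.mk z
        rw [Submodule.Quotient.eq]
        have : y - a - z = b := by linear_combination -hab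
        rw [this]
        exact hb
    · rintro ⟨x, hx⟩
      obtain ⟨x, rfl⟩ := Submodule.Quotient.mk_surjective _ x
      have h1 : (Submodule.Quotient.mk x : A ⧸ I) = Submodule.Quotient.mk y := congrArg Prod.fst hx
      have h2 : (Submodule.Quotient.mk x : A ⧸ J) = Submodule.Quotient.mk z := congrArg Prod.snd hx
      change p₁ (Submodule.Quotient.mk y) - p₂ (Submodule.Quotient.mk z) = 0
      rw [← h1, ← h2]
      simp [p₁, p₂]

end Groth.Agent.H6.RegSES
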