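import Mathlib
import Groth.Prelude
import Groth.Agent.Lib.Helper1.FibLocDim
import Groth.Agent.Lib.Helper1.DimFormula3
import Groth.Agent.Lib.Helper8.RGCI.C2
import Groth.Agent.Lib.Helper8.RGCI.Main2237
import Groth.Agent.Lib.Helper8.RGCI.Main9147
import Groth.Agent.Lib.Helper8.GCI.Loc

set_option autoImplicit false
universe u

namespace Groth.Agent.H6.RelGCIDim

open AlgebraicGeometry CategoryTheory TensorProduct

/-- a global complete intersection `B = k[x_1..x_n]/(r_1..r_c)` of dimension `n - c` over a field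
has local dimension `n - c` at every prime. -/
theorem localDim_of_pres {k : Type u} [Field k] {n c : ℕ} {B : Type u} [CommRing B] [Algebra k B]
    (φ : MvPolynomial (Fin n) k →ₐ[k] B) (r : Fin c → MvPolynomial (Fin n) k) (hcn : c ≤ n)
    (hsurj : Function.Surjective φ) (hker : RingHom.ker φ.toRingHom = Ideal.span (Set.range r))
    (hdim : ringKrullDim B = ((n - c : ℕ) : WithBot ℕ∞)) (Q : Ideal B) [hQ : Q.IsPrime] :
    FlatMor.localDim (PrimeSpectrum B) ⟨Q, hQ⟩ = ((n - c : ℕ) : WithBot ℕ∞) := by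
  have hht := Groth.Agent.H8.GCI.height_add_eq_of_pres φ r hcn hsurj hker hdim Q
  have hquot := Groth.Agent.H8.RGCI.height_comap_add_quotDim k
    (MvPolynomial (Fin n) k) B φ.toRingHom hsurj Q
  rw [Groth.Agent.H2.DimFG.ringKrullDim_mvPolynomial_fin] at hquot
  haveI : Algebra.FiniteType k B := Algebra.FiniteType.of_surjective φ hsurj
  haveI : IsNoetherianRing B := isNoetherianRing_of_surjective _ _ φ.toRingHom hsurj
  obtain ⟨t, -, ht, hloc⟩ := Groth.Agent.H1.DimFormula.localDim_primeSpectrum (k := k) Q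
  refine hloc.trans ?_
  rw [IsLocalization.AtPrime.ringKrullDim_eq_height Q (Localization.AtPrime Q)]
  unfold Groth.Agent.H8.RGCI.quotDim at hquot
  rw [ht, ← hht] at hquot
  obtain ⟨b, hb⟩ : ∃ b : ℕ, Q.height = b :=
    ⟨Q.height.toNat, (ENat.natCast_toNat (Ideal.height_ne_top_of_isPrime)).symm⟩
  rw [hb] at hquot ⊢
  have h1 : (((b + c + t : ℕ) : ℕ∞) : WithBot ℕ∞) = (((n : ℕ) : ℕ∞) : WithBot ℕ∞) := by
    exact_mod_cast hquot
  rw [WithBot.coe_inj, ENat.natCast_inj] at h1
  have h2 : b + t = n - c := by omega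
  norm_cast
  rw [h2]

/-- ring level: in every fibre ring of a relative global complete intersection, the local
dimension at every prime is `n - c`. -/
theorem localDim_fiber (R : Type u) [CommRing R] (n c : ℕ) (F : Fin c → MvPolynomial (Fin n) R)
    (hF : Synt.IsRelGCI R n c F) (p : Ideal R) [p.IsPrime]
    (Q : Ideal (p.Fiber (Synt.RelGCIRing R n c F))) [hQ : Q.IsPrime] :
    FlatMor.localDim (PrimeSpectrum (p.Fiber (Synt.RelGCIRing R n c F))) ⟨Q, hQ⟩ =
      ((n - c : ℕ) : WithBot ℕ∞) := by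
  haveI hnt : Nontrivial (p.Fiber (Synt.RelGCIRing R n c F)) :=
    ⟨⟨0, 1, fun h => hQ.ne_top (by rw [Ideal.eq_top_iff_one, ← h]; exact Q.zero_mem)⟩⟩
  obtain ⟨hcn, hdim⟩ := hF ⟨p, inferInstance⟩ hnt
  let e := Groth.Agent.H8.RGCI.fibQuotAlgEquiv F p
  let φ : MvPolynomial (Fin n) p.ResidueField →ₐ[p.ResidueField]
      p.Fiber (Synt.RelGCIRing R n c F) :=
    (e.symm : _ →ₐ[p.ResidueField] _).comp
      (Ideal.Quotient.mkₐ p.ResidueField
        (Groth.Agent.H8.GCI.JJ (Groth.Agent.H8.RGCI.Fbar F p)))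
  have hφ : ∀ y, φ y = e.symm (Ideal.Quotient.mk _ y) := fun y => rfl
  have hsurj : Function.Surjective φ := by
    intro b
    obtain ⟨y, hy⟩ := Ideal.Quotient.mk_surjective (e b)
    exact ⟨y, by rw [hφ, hy]; exact e.symm_apply_apply b⟩
  have hker : RingHom.ker φ.toRingHom =
      Ideal.span (Set.range (Groth.Agent.H8.RGCI.Fbar F p)) := by
    ext y
    rw [RingHom.mem_ker]
    show φ y = 0 ↔ _
    rw [hφ, EmbeddingLike.map_eq_zero_iff]
    exact Ideal.Quotient.eq_zero_iff_mem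
  exact localDim_of_pres (B := p.Fiber (Synt.RelGCIRing R n c F)) φ
    (Groth.Agent.H8.RGCI.Fbar F p) hcn hsurj hker hdim Q

/-- **S9366**: the local fibre dimension of a relative global complete intersection is
constant with value `n - c`. -/
theorem main (R : Type u) [CommRing R] (n c : ℕ) (F : Fin c → MvPolynomial (Fin n) R)
    (hF : Synt.IsRelGCI R n c F) (x : ↑(Spec (CommRingCat.of (Synt.RelGCIRing R n c F)))) :
    FlatMor.fibreDimAt (Spec.map (CommRingCat.ofHom (algebraMap R (Synt.RelGCIRing R n c F)))) x =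
      ((n - c : ℕ) : WithBot ℕ∞) := by
  let q : PrimeSpectrum (Synt.RelGCIRing R n c F) := x
  obtain ⟨Q, hQp, hQ⟩ := Groth.Agent.H8.RGCI.exists_fiber_prime (R := R) q.asIdeal
  have h1 := Groth.Agent.H1.FibLocDim.localDim_fiber_eq_fibreDimAt_Spec R
    (Synt.RelGCIRing R n c F) q ⟨Q, hQp⟩ hQ
  refine h1.symm.trans ?_
  exact localDim_fiber R n c F hF (q.asIdeal.under R) Q

end Groth.Agent.H6.RelGCIDim
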