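import Groth.Agent.Lib.Helper6.ArtFunSurj
import Groth.Agent.H4.MvPSVars

set_option autoImplicit false

universe u

namespace Groth.Agent.H6.ResAug

open IsLocalRing

variable {k : Type u} [Field k]

section Aug

variable {R : Type u} [CommRing R] [IsLocalRing R] [Algebra k R]

/-- augmentation of a local `k`-algebra with residue field `k`. -/
noncomputable def aug (hR : Function.Surjective ((IsLocalRing.residue R).comp (algebraMap k R))) :
    R →ₐ[k] k :=
  { toRingHom := (RingEquiv.ofBijective ((IsLocalRing.residue R).comp (algebraMap k R))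
        ⟨RingHom.injective _, hR⟩).symm.toRingHom.comp (IsLocalRing.residue R)
    commutes' := fun c => by
      exact (RingEquiv.ofBijective ((IsLocalRing.residue R).comp (algebraMap k R))
        ⟨RingHom.injective _, hR⟩).symm_apply_apply c }

omit [IsLocalRing R] in
theorem algHom_surjective (χ : R →ₐ[k] k) : Function.Surjective χ :=
  fun c => ⟨algebraMap k R c, χ.commutes c⟩

theorem mem_maximalIdeal_iff (χ : R →ₐ[k] k) (a : R) : a ∈ maximalIdeal R ↔ χ a = 0 :=
  Groth.Agent.H6.mem_maximalIdeal_iff_res (Λ := k) χ (algHom_surjective χ) a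

theorem algHom_unique (χ₁ χ₂ : R →ₐ[k] k) : χ₁ = χ₂ := by
  ext r
  have h1 : r - algebraMap k R (χ₁ r) ∈ maximalIdeal R := by
    rw [mem_maximalIdeal_iff χ₁, map_sub, AlgHom.commutes]
    exact sub_self _
  rw [mem_maximalIdeal_iff χ₂, map_sub, AlgHom.commutes, sub_eq_zero] at h1
  exact h1.symm

theorem map_maximalIdeal_le {S : Type u} [CommRing S] [IsLocalRing S] [Algebra k S]
    (χS : S →ₐ[k] k) (φ : R →ₐ[k] S) :
    (maximalIdeal R).map φ ≤ maximalIdeal S := by
  rw [Ideal.map_le_iff_le_comap]
  intro r hr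
  rw [Ideal.mem_comap, mem_maximalIdeal_iff χS]
  rw [mem_maximalIdeal_iff (χS.comp φ)] at hr
  exact hr

theorem surjective_iff {S : Type u} [CommRing S] [IsLocalRing S] [Algebra k S]
    [IsNoetherianRing S] [IsPrecomplete (maximalIdeal R) R] [IsHausdorff (maximalIdeal S) S]
    (χR : R →ₐ[k] k) (χS : S →ₐ[k] k) (φ : R →ₐ[k] S) :
    Function.Surjective φ ↔
      maximalIdeal S ≤ (maximalIdeal R).map φ ⊔ maximalIdeal S ^ 2 := by
  have h := (Groth.Agent.H6.surjective_tfae (Λ := k) χR χS (algHom_surjective χR)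
    (algHom_surjective χS) φ (algHom_unique _ _)).out 0 1
  rw [h]
  constructor
  · intro h'
    exact h'.ge
  · intro h'
    refine le_antisymm (sup_le (map_maximalIdeal_le χS φ) (Ideal.pow_le_self two_ne_zero)) h'

end Aug

end Groth.Agent.H6.ResAug
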