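import Groth.Agent.Lib.Helper6.QcVan7
import Groth.Agent.Lib.Helper6.RFTri9
import Groth.Agent.Lib.Helper7.LR4

/-! # `D_QCoh(O_X) ⥤ D_QCoh(O_U)` is essentially surjective for a quasi-compact open immersion -/

universe u
open CategoryTheory Limits Opposite Pretriangulated AlgebraicGeometry TopologicalSpace

namespace Groth.Agent.H6.RestrEss

open DerivedCategory Groth.Agent.H6.MVTri Groth.Agent.H6.RFTri Groth.Agent.H6.QcVan

attribute [local instance] HasDerivedCategory.standard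

theorem s1015 (X : Scheme.{u}) (U : X.Opens) [QuasiCompact U.ι]
    (F : DCoh.D (U : Scheme.{u})) (hF : DCoh.IsQCohD F) :
    ∃ G : CochainComplex X.Modules ℤ, DCoh.IsQCohD (DCoh.toD X G) ∧
      Nonempty (DerivedCategory.Q.obj ((DCoh.restrictCx U).obj G) ≅ F) := by
  haveI := Groth.Agent.H6.RpRes.hasKInjRes_modules (U : Scheme.{u})
  obtain ⟨I, hI, ⟨e⟩⟩ := exists_kinj F
  haveI := hI
  haveI : DCoh.HasRpush U.ι := Groth.Agent.Helper7.LR4.hasRpush _
  refine ⟨((Scheme.Modules.pushforward U.ι).mapHomologicalComplex (ComplexShape.up ℤ)).obj I,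
    ?_, ?_⟩
  · obtain ⟨e'⟩ := nonempty_iso_RF (Scheme.Modules.pushforward U.ι) I
    have hQI : DCoh.IsQCohD (Q.obj I) := fun i =>
      Groth.Agent.LD.QC.qc_of_iso ((homologyFunctor _ i).mapIso e) (hF i)
    have h1 : DCoh.IsQCohD ((DCoh.Rpush U.ι).obj (Q.obj I)) := s0998 U.ι _ hQI
    exact fun i => Groth.Agent.LD.QC.qc_of_iso ((homologyFunctor _ i).mapIso e'.symm) (h1 i)
  · let c := NatIso.mapHomologicalComplex
      (asIso (Scheme.Modules.restrictAdjunction U.ι).counit) (ComplexShape.up ℤ)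
    exact ⟨Q.mapIso (c.app I ≪≫ (Functor.mapHomologicalComplexIdIso _ _).app I) ≪≫ e.symm⟩

end Groth.Agent.H6.RestrEss
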