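import Mathlib
import Groth.Agent.Lib.Helper6.CotTBC1

set_option autoImplicit false

noncomputable section

open TensorProduct Algebra Algebra.Extension

namespace Groth.Agent.H6.RigidChase

open Groth.Agent.H6.CotTBC

section Core

variable {k A B B₀ Λ B' : Type*} [CommRing k] [CommRing A] [CommRing B] [CommRing B₀] [CommRing Λ]
  [CommRing B']
variable [Algebra k B₀] [Algebra A B] [Algebra Λ B']
variable [Algebra k Λ] [Algebra B₀ B'] [Algebra k B'] [IsScalarTower k Λ B'] [IsScalarTower k B₀ B']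
variable [Algebra A Λ] [Algebra B B'] [Algebra A B'] [IsScalarTower A Λ B'] [IsScalarTower A B B']
variable {E_B : Extension A B} {E' E₀' : Extension Λ B'} {E₀ : Extension k B₀}
variable {M : Type*} [AddCommGroup M] [Module B' M] [Module B M] [IsScalarTower B B' M]
  [Module B₀ M] [IsScalarTower B₀ B' M]
variable {M₀ : Type*} [AddCommGroup M₀] [Module B₀ M₀]

theorem chase_core (f₁ : E_B.Hom E') (g : E'.Hom E₀') (h : E₀.Hom E') (f₂ : E₀.Hom E₀') (η : M₀ →ₗ[B₀] M) (lam : M →ₗ[B₀] M₀) (s : B)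
    (hlam : ∀ m₀, lam (s • η m₀) = m₀)
    (φ₀ : E₀.Cotangent →ₗ[B₀] M₀)
    (bc2 : ∃ φ₁ : E₀'.Cotangent →ₗ[B'] M, ∀ x, φ₁ (Cotangent.map f₂ x) = η (φ₀ x))
    (bc1 : ∀ (φ' : E'.Cotangent →ₗ[B'] M) (ψ : E_B.CotangentSpace →ₗ[B] M),
      pullCo f₁ φ' = ψ ∘ₗ E_B.cotangentComplex →
        ∃ ψ' : E'.CotangentSpace →ₗ[B'] M, φ' = ψ' ∘ₗ E'.cotangentComplex)
    (H : ∀ φ : E_B.Cotangent →ₗ[B] M, ∃ ψ : E_B.CotangentSpace →ₗ[B] M,
      s • φ = ψ ∘ₗ E_B.cotangentComplex) :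
    ∃ ψ₀ : E₀.CotangentSpace →ₗ[B₀] M₀, φ₀ = ψ₀ ∘ₗ E₀.cotangentComplex := by
  obtain ⟨φ₁, hφ₁⟩ := bc2
  let φ₂ : E'.Cotangent →ₗ[B'] M := pullCo g φ₁
  let φ₃ : E_B.Cotangent →ₗ[B] M := pullCo f₁ φ₂
  obtain ⟨ψ, hψ⟩ := H φ₃
  have h5 : pullCo f₁ (algebraMap B B' s • φ₂) = s • φ₃ := by
    ext x
    rw [pullCo_apply, LinearMap.smul_apply, LinearMap.smul_apply, algebraMap_smul]
    rfl
  obtain ⟨ψ', hψ'⟩ := bc1 (algebraMap B B' s • φ₂) ψ (h5.trans hψ)
  -- pull back along `h`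
  have h6 : pullCo h (algebraMap B B' s • φ₂) =
      ((ψ'.restrictScalars B₀) ∘ₗ CotangentSpace.map h) ∘ₗ E₀.cotangentComplex := by
    rw [hψ', pullCo_coboundary]
  have h7 : pullCo h φ₂ = pullCo (g.comp h) φ₁ := by
    ext x
    show φ₁ (Cotangent.map g (Cotangent.map h x)) = φ₁ (Cotangent.map (g.comp h) x)
    rw [Cotangent.map_comp]
    rfl
  have h8 := pullCo_sub (g.comp h) f₂ φ₁
  have h9 : pullCo f₂ φ₁ = η ∘ₗ φ₀ := by
    ext x
    rw [pullCo_apply, hφ₁]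
    rfl
  -- multiplication by `s` on `M` as a `B₀`-linear map
  let μ : M →ₗ[B₀] M :=
    { toFun := fun m => s • m
      map_add' := fun m m' => smul_add _ _ _
      map_smul' := fun b m => by
        show s • b • m = b • s • m
        rw [← algebraMap_smul B' s (b • m), ← algebraMap_smul B' b m, ← algebraMap_smul B' s m,
          ← algebraMap_smul B' b (_ : M), smul_smul, smul_smul, mul_comm] }
  have h10 : pullCo h (algebraMap B B' s • φ₂) = μ ∘ₗ pullCo h φ₂ := by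
    ext x
    rw [pullCo_apply, LinearMap.smul_apply, LinearMap.comp_apply, pullCo_apply, algebraMap_smul]
    rfl
  refine ⟨lam ∘ₗ ((ψ'.restrictScalars B₀) ∘ₗ CotangentSpace.map h) -
    lam ∘ₗ μ ∘ₗ ((φ₁.restrictScalars B₀) ∘ₗ (g.comp h).sub f₂), ?_⟩
  ext x
  have e1 : μ (pullCo h φ₂ x) =
      (ψ'.restrictScalars B₀) (CotangentSpace.map h (E₀.cotangentComplex x)) := by
    have := LinearMap.congr_fun h6 x
    rw [h10] at this
    exact this
  have e3 : pullCo (g.comp h) φ₁ x =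
      η (φ₀ x) + (φ₁.restrictScalars B₀) ((g.comp h).sub f₂ (E₀.cotangentComplex x)) := by
    have := LinearMap.congr_fun h8 x
    rw [LinearMap.sub_apply, h9, sub_eq_iff_eq_add'] at this
    exact this
  rw [h7, e3, map_add] at e1
  have e4 : lam (μ (η (φ₀ x))) = φ₀ x := hlam (φ₀ x)
  show φ₀ x = lam ((ψ'.restrictScalars B₀) (CotangentSpace.map h (E₀.cotangentComplex x))) -
    lam (μ ((φ₁.restrictScalars B₀) ((g.comp h).sub f₂ (E₀.cotangentComplex x))))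
  rw [← e1, map_add, e4, add_sub_cancel_right]

end Core

end Groth.Agent.H6.RigidChase
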