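import Mathlib

set_option autoImplicit false

universe u

namespace Groth.Agent.H6.RigidFacts

variable {k A : Type u} [Field k] [IsAlgClosed k] [CommRing A] [Algebra k A] [Algebra.FiniteType k A]

/-- `A = k + tA` when `(t)` is maximal -/
theorem exists_decomp (t : A) (ht : (Ideal.span {t}).IsMaximal) (a : A) :
    ∃ (c : k) (a' : A), a = algebraMap k A c + t * a' := by
  letI : Field (A ⧸ Ideal.span {t}) := Ideal.Quotient.field _
  haveI : Algebra.FiniteType k (A ⧸ Ideal.span {t}) :=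
    Algebra.FiniteType.of_surjective (Ideal.Quotient.mkₐ k (Ideal.span {t}))
      (Ideal.Quotient.mkₐ_surjective k _)
  haveI : Module.Finite k (A ⧸ Ideal.span {t}) :=
    finite_of_finite_type_of_isJacobsonRing k (A ⧸ Ideal.span {t})
  haveI : Algebra.IsIntegral k (A ⧸ Ideal.span {t}) := Algebra.IsIntegral.of_finite k _
  obtain ⟨c, hc⟩ := (IsAlgClosed.algebraMap_bijective_of_isIntegral (k := k)
    (K := A ⧸ Ideal.span {t})).2 (Ideal.Quotient.mk _ a)
  have h1 : Ideal.Quotient.mk (Ideal.span {t}) (a - algebraMap k A c) = 0 := by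
    rw [map_sub, ← hc, sub_eq_zero]
    rfl
  rw [Ideal.Quotient.eq_zero_iff_mem, Ideal.mem_span_singleton'] at h1
  obtain ⟨a', ha'⟩ := h1
  refine ⟨c, a', ?_⟩
  rw [mul_comm, ha']
  ring

omit [IsAlgClosed k] [Algebra.FiniteType k A] in
/-- a functional with `ℓ(t^n) = 1` -/
theorem exists_functional [IsDomain A] (t : A) (ht0 : t ≠ 0) (htu : ¬ IsUnit t) (n : ℕ) :
    ∃ ℓ : (A ⧸ Ideal.span {t ^ (n + 1)}) →ₗ[k] k, ℓ (algebraMap A _ (t ^ n)) = 1 := by
  have hne : (algebraMap A (A ⧸ Ideal.span {t ^ (n + 1)}) (t ^ n)) ≠ 0 := by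
    intro h
    rw [Ideal.Quotient.algebraMap_eq, Ideal.Quotient.eq_zero_iff_mem, Ideal.mem_span_singleton'] at h
    obtain ⟨a, ha⟩ := h
    have h2 : t ^ n * (a * t - 1) = 0 := by
      have : t ^ n * (a * t - 1) = a * t ^ (n + 1) - t ^ n := by ring
      rw [this, ha, sub_self]
    rcases mul_eq_zero.mp h2 with h3 | h3
    · exact pow_ne_zero n ht0 h3
    · exact htu (IsUnit.of_mul_eq_one a (by rw [mul_comm]; exact sub_eq_zero.mp h3))
  exact Module.Projective.exists_dual_eq_one k hne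

end Groth.Agent.H6.RigidFacts
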