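import Mathlib
import Groth.Agent.Lib.Helper6.CotTBC1

set_option autoImplicit false

noncomputable section

open TensorProduct Algebra Algebra.Extension

namespace Groth.Agent.H6.RigidChase

section Lam

variable {k Λ B₀ M₀ : Type*} [CommRing k] [CommRing Λ] [CommRing B₀] [Algebra k Λ] [Algebra k B₀]
  [AddCommGroup M₀] [Module B₀ M₀]

attribute [local instance] Algebra.TensorProduct.rightAlgebra

/-- `a ⊗ b ↦ ℓ(a) b` -/
def ellB (ℓ : Λ →ₗ[k] k) : (Λ ⊗[k] B₀) →ₗ[B₀] B₀ where
  toFun := TensorProduct.lift ((LinearMap.lsmul k B₀).comp ℓ)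
  map_add' := map_add _
  map_smul' := fun b x => by
    rw [RingHom.id_apply]
    induction x using TensorProduct.induction_on with
    | zero => simp
    | add x y hx hy => rw [smul_add, map_add, hx, hy, map_add, smul_add]
    | tmul a b' =>
      rw [Algebra.smul_def, Algebra.TensorProduct.right_algebraMap_apply,
        Algebra.TensorProduct.tmul_mul_tmul, one_mul, TensorProduct.lift.tmul, TensorProduct.lift.tmul]
      simp only [LinearMap.comp_apply, LinearMap.lsmul_apply]
      rw [smul_eq_mul, mul_smul_comm]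

lemma ellB_tmul (ℓ : Λ →ₗ[k] k) (a : Λ) (b : B₀) : ellB ℓ (a ⊗ₜ b) = ℓ a • b := by
  show TensorProduct.lift ((LinearMap.lsmul k B₀).comp ℓ) (a ⊗ₜ b) = _
  rw [TensorProduct.lift.tmul]
  rfl

/-- `x ⊗ m ↦ ellB(x) m` -/
def lam (ℓ : Λ →ₗ[k] k) : ((Λ ⊗[k] B₀) ⊗[B₀] M₀) →ₗ[B₀] M₀ :=
  TensorProduct.lift ((LinearMap.lsmul B₀ M₀).comp (ellB ℓ))

lemma lam_tmul (ℓ : Λ →ₗ[k] k) (x : Λ ⊗[k] B₀) (m : M₀) :
    lam ℓ (x ⊗ₜ[B₀] m) = ellB ℓ x • m := by
  rw [lam, TensorProduct.lift.tmul]
  rfl

end Lam

section Homs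

universe u

variable {k A B B₀ Λ : Type u} [CommRing k] [CommRing A] [CommRing B] [CommRing B₀] [CommRing Λ]
  [Algebra k A] [Algebra A B] [Algebra k B] [IsScalarTower k A B] [Algebra k B₀] [Algebra k Λ]
  [Algebra A Λ] [IsScalarTower k A Λ]

attribute [local instance] Algebra.TensorProduct.rightAlgebra

variable [Algebra B (Λ ⊗[k] B₀)] [IsScalarTower A B (Λ ⊗[k] B₀)]

variable (k B₀ Λ) in
/-- generators of `Λ ⊗ B₀` over `Λ` indexed by `B` -/
def G' (hs : Function.Surjective (algebraMap B (Λ ⊗[k] B₀))) : Generators Λ (Λ ⊗[k] B₀) B :=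
  Generators.ofSurjective (fun b => algebraMap B (Λ ⊗[k] B₀) b) (by
    intro y
    obtain ⟨b, rfl⟩ := hs y
    exact ⟨MvPolynomial.X b, by rw [MvPolynomial.aeval_X]⟩)

variable (k A B₀ Λ) in
/-- the base change hom -/
def f₁ (hs : Function.Surjective (algebraMap B (Λ ⊗[k] B₀))) :
    (Generators.self A B).toExtension.Hom (G' k B₀ Λ hs).toExtension where
  toRingHom := MvPolynomial.map (algebraMap A Λ)
  toRingHom_algebraMap := fun a => by
    show MvPolynomial.map (algebraMap A Λ) (MvPolynomial.C a) = MvPolynomial.C (algebraMap A Λ a)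
    rw [MvPolynomial.map_C]
  algebraMap_toRingHom := fun x => by
    show MvPolynomial.aeval (R := Λ) (fun b : B => algebraMap B (Λ ⊗[k] B₀) b)
      (MvPolynomial.map (algebraMap A Λ) x) =
      algebraMap B (Λ ⊗[k] B₀) (MvPolynomial.aeval (R := A) (fun b : B => b) x)
    rw [MvPolynomial.aeval_map_algebraMap]
    exact (MvPolynomial.aeval_algebraMap_apply (Λ ⊗[k] B₀) (fun b : B => b) x)

lemma f₁_apply (hs : Function.Surjective (algebraMap B (Λ ⊗[k] B₀))) (x : MvPolynomial B A) :
    (f₁ k A B₀ Λ hs).toRingHom x = MvPolynomial.map (algebraMap A Λ) x := rfl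

variable (k A B₀ Λ) in
/-- comparison with the base change of the standard extension of `B₀` -/
def gHom (hs : Function.Surjective (algebraMap B (Λ ⊗[k] B₀))) :
    (G' k B₀ Λ hs).toExtension.Hom ((Generators.self k B₀).toExtension.baseChange (T := Λ)) where
  toRingHom := (MvPolynomial.aeval (R := Λ)
    (fun b : B => ((Generators.self k B₀).toExtension.baseChange (T := Λ)).σ
      (algebraMap B (Λ ⊗[k] B₀) b))).toRingHom
  toRingHom_algebraMap := fun a => by
    show MvPolynomial.aeval (R := Λ) _ (MvPolynomial.C a) = _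
    rw [MvPolynomial.aeval_C]
    rfl
  algebraMap_toRingHom := fun x => by
    show algebraMap ((Generators.self k B₀).toExtension.baseChange (T := Λ)).Ring (Λ ⊗[k] B₀)
      (MvPolynomial.aeval (R := Λ) _ x) =
      MvPolynomial.aeval (R := Λ) (fun b : B => algebraMap B (Λ ⊗[k] B₀) b) x
    induction x using MvPolynomial.induction_on with
    | C a =>
      rw [MvPolynomial.aeval_C, MvPolynomial.aeval_C, ← IsScalarTower.algebraMap_apply]
    | add p q hp hq => rw [map_add, map_add, hp, hq, map_add]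
    | mul_X p b hp =>
      rw [map_mul, map_mul, hp, map_mul, MvPolynomial.aeval_X, MvPolynomial.aeval_X,
        Algebra.Extension.algebraMap_σ]

variable (k A B₀ Λ) in
/-- the standard extension of `B₀` maps to the extension of `Λ ⊗ B₀` indexed by `B` -/
def hHom (hs : Function.Surjective (algebraMap B (Λ ⊗[k] B₀))) :
    (Generators.self k B₀).toExtension.Hom (G' k B₀ Λ hs).toExtension where
  toRingHom := (MvPolynomial.aeval (R := k)
    (fun c : B₀ => (MvPolynomial.X (hs ((1 : Λ) ⊗ₜ[k] c)).choose : MvPolynomial B Λ))).toRingHom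
  toRingHom_algebraMap := fun a => by
    show MvPolynomial.aeval (R := k) _ (MvPolynomial.C a) = MvPolynomial.C (algebraMap k Λ a)
    rw [MvPolynomial.aeval_C, IsScalarTower.algebraMap_apply k Λ (MvPolynomial B Λ),
      MvPolynomial.algebraMap_eq]
  algebraMap_toRingHom := fun x => by
    show MvPolynomial.aeval (R := Λ) (fun b : B => algebraMap B (Λ ⊗[k] B₀) b)
      (MvPolynomial.aeval (R := k) _ x) =
      algebraMap B₀ (Λ ⊗[k] B₀) (MvPolynomial.aeval (R := k) (fun c : B₀ => c) x)
    induction x using MvPolynomial.induction_on with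
    | C a =>
      rw [MvPolynomial.aeval_C, MvPolynomial.aeval_C, ← IsScalarTower.algebraMap_apply,
        IsScalarTower.algebraMap_apply k Λ (MvPolynomial B Λ), MvPolynomial.algebraMap_eq,
        MvPolynomial.aeval_C, ← IsScalarTower.algebraMap_apply]
    | add p q hp hq => rw [map_add, map_add, hp, map_add, map_add, hq]
    | mul_X p c hp =>
      rw [map_mul, map_mul, hp, map_mul, map_mul, MvPolynomial.aeval_X, MvPolynomial.aeval_X,
        MvPolynomial.aeval_X, (hs ((1 : Λ) ⊗ₜ[k] c)).choose_spec]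
      simp only [Algebra.TensorProduct.right_algebraMap_apply]

end Homs

end Groth.Agent.H6.RigidChase
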