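import Mathlib
import Groth.Agent.Lib.Helper6.CotTBC1
import Groth.Agent.Lib.Helper6.CotTBC2
import Groth.Agent.Lib.Helper6.RigidChase
import Groth.Agent.Lib.Helper6.RigidInst1

set_option autoImplicit false

noncomputable section

open TensorProduct Algebra Algebra.Extension

namespace Groth.Agent.H6.RigidChase

open Groth.Agent.H6.CotTBC

section Inst

universe u

variable {k A B B₀ Λ : Type u} [Field k] [CommRing A] [CommRing B] [CommRing B₀] [CommRing Λ]
  [Algebra k A] [Algebra A B] [Algebra k B] [IsScalarTower k A B] [Algebra k B₀] [Algebra k Λ]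
  [Algebra A Λ] [IsScalarTower k A Λ]

attribute [local instance] Algebra.TensorProduct.rightAlgebra

variable [Algebra B (Λ ⊗[k] B₀)] [IsScalarTower A B (Λ ⊗[k] B₀)]

theorem chase_inst
    (hs : Function.Surjective (algebraMap B (Λ ⊗[k] B₀)))
    (hΛ : Function.Surjective (algebraMap A Λ))
    (hker : ∀ b : B, algebraMap B (Λ ⊗[k] B₀) b = 0 →
      ∃ (a : A) (c : B), algebraMap A Λ a = 0 ∧ b = algebraMap A B a * c)
    (s : A) (ℓ : Λ →ₗ[k] k) (hℓ : ℓ (algebraMap A Λ s) = 1)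
    (M₀ : Type u) [AddCommGroup M₀] [Module B₀ M₀] [Module.Finite B₀ M₀]
    (φ₀ : (Generators.self k B₀).toExtension.Cotangent →ₗ[B₀] M₀)
    (H : ∀ (M : Type u) [AddCommGroup M] [Module B M] [Module.Finite B M]
      (φ : (Generators.self A B).toExtension.Cotangent →ₗ[B] M),
      ∃ ψ : (Generators.self A B).toExtension.CotangentSpace →ₗ[B] M,
        (algebraMap A B s) • φ = ψ ∘ₗ (Generators.self A B).toExtension.cotangentComplex) :
    ∃ ψ₀ : (Generators.self k B₀).toExtension.CotangentSpace →ₗ[B₀] M₀,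
      φ₀ = ψ₀ ∘ₗ (Generators.self k B₀).toExtension.cotangentComplex := by
  haveI : Module.Finite B (Λ ⊗[k] B₀) :=
    Module.Finite.of_surjective (Algebra.linearMap B (Λ ⊗[k] B₀)) hs
  haveI : Module.Finite B ((Λ ⊗[k] B₀) ⊗[B₀] M₀) :=
    Module.Finite.trans (Λ ⊗[k] B₀) ((Λ ⊗[k] B₀) ⊗[B₀] M₀)
  refine chase_core (f₁ k A B₀ Λ hs) (gHom k B₀ Λ hs) (hHom k B₀ Λ hs)
    ((Generators.self k B₀).toExtension.toBaseChange Λ)
    (TensorProduct.mk B₀ (Λ ⊗[k] B₀) M₀ 1) (lam ℓ) (algebraMap A B s) ?_ φ₀ ?_ ?_ ?_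
  · intro m₀
    show lam ℓ ((algebraMap A B s) • ((1 : Λ ⊗[k] B₀) ⊗ₜ[B₀] m₀)) = m₀
    rw [TensorProduct.smul_tmul', lam_tmul]
    have h1 : (algebraMap A B s) • (1 : Λ ⊗[k] B₀) = (algebraMap A Λ s) ⊗ₜ[k] (1 : B₀) := by
      rw [Algebra.smul_def, mul_one, ← IsScalarTower.algebraMap_apply A B (Λ ⊗[k] B₀),
        Algebra.TensorProduct.algebraMap_apply]
    rw [h1, ellB_tmul, hℓ, one_smul, one_smul]
  · exact bc2_surjective (Generators.self k B₀).toExtension Λ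
      ((TensorProduct.mk B₀ (Λ ⊗[k] B₀) M₀ 1) ∘ₗ φ₀)
  · intro φ' ψ h
    exact bc1_injective (Generators.self A B) (G' k B₀ Λ hs) (f₁ k A B₀ Λ hs) (f₁_apply hs) hΛ hker φ' ψ h
  · intro φ
    exact H _ φ

end Inst

end Groth.Agent.H6.RigidChase
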