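import Mathlib
import Groth.Prelude.Def_CotT
import Groth.Agent.Lib.Helper6.ExalT1c

set_option autoImplicit false

universe u

noncomputable section

open TensorProduct Exal

namespace Groth.Agent.H6.RigidLift

attribute [local instance] Exal.opModule Exal.isCentralScalar_opModule

variable {k B₀ : Type u} [CommRing k] [CommRing B₀] [Algebra k B₀]

/-- if `T¹(B₀/k, M) = 0` then every extension of `B₀` by `M` has a section -/
theorem exists_section_of_subsingleton {M : Type u} [AddCommGroup M] [Module B₀ M]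
    (h : Subsingleton (CotT.T1 (CotT.canon k B₀) M)) (X : Ext k B₀ M) :
    ∃ s : B₀ →ₐ[k] X.E, ∀ b, X.proj (s b) = b := by
  let P := (CotT.canon k B₀).toGenerators
  have h1 : Subsingleton (CotTHom.T1E P.toExtension M) :=
    (CotTHom.T1equivT1E (CotT.canon k B₀) M).symm.toEquiv.subsingleton
  obtain ⟨c, hc⟩ := ExalT1.clsMap_surjective (P := P) (M := M) X.cl
  have h0 : X.cl = (Ext.trivial k B₀ M).cl := by
    rw [← hc, Subsingleton.elim c 0]
    exact ExalT1.clsMap_zero (P := P) (M := M)
  obtain ⟨e⟩ := Quotient.exact h0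
  let inlAlg : B₀ →ₐ[k] Ext.TrivCarrier k B₀ M :=
    { (TrivSqZeroExt.inlHom B₀ M : B₀ →+* TrivSqZeroExt B₀ M) with commutes' := fun _ => rfl }
  refine ⟨(e.symm.toAlgEquiv.toAlgHom : (Ext.trivial k B₀ M).E →ₐ[k] X.E).comp inlAlg, fun b => ?_⟩
  show X.proj (e.symm.toAlgEquiv (inlAlg b)) = b
  rw [e.symm.proj_apply]
  rfl

/-- lifting along a square-zero thickening whose kernel is `L`, when `T¹(B₀/k, L) = 0` -/
theorem exists_lift {L : Type u} [AddCommGroup L] [Module B₀ L]
    (h : Subsingleton (CotT.T1 (CotT.canon k B₀) L))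
    {C D : Type u} [CommRing C] [Algebra k C] [CommRing D] [Algebra k D]
    (π : C →ₐ[k] D) (hπ : Function.Surjective π) (g : B₀ →ₐ[k] D)
    (w : L →+ C) (hwJ : ∀ l, π (w l) = 0) (hw_inj : Function.Injective w)
    (hw_surj : ∀ x, π x = 0 → ∃ l, w l = x)
    (hw : ∀ (c : C) (b : B₀) (l : L), π c = g b → w (b • l) = c * w l) :
    ∃ g' : B₀ →ₐ[k] C, ∀ b, π (g' b) = g b := by
  let φ₁ : (C × B₀) →ₐ[k] D := π.comp (AlgHom.fst k C B₀)
  let φ₂ : (C × B₀) →ₐ[k] D := g.comp (AlgHom.snd k C B₀)
  let E : Subalgebra k (C × B₀) := AlgHom.equalizer φ₁ φ₂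
  have hE : ∀ x : C × B₀, x ∈ E ↔ π x.1 = g x.2 := fun x => Iff.rfl
  let proj : E →ₐ[k] B₀ := (AlgHom.snd k C B₀).comp E.val
  let incl : L →+ E :=
    { toFun := fun l => ⟨(w l, 0), by
        rw [hE]
        show π (w l) = g 0
        rw [map_zero]
        exact hwJ l⟩
      map_zero' := by
        apply Subtype.ext
        show (w 0, (0 : B₀)) = 0
        rw [map_zero]
        rfl
      map_add' := fun l l' => by
        apply Subtype.ext
        show (w (l + l'), (0 : B₀)) = (w l, 0) + (w l', 0)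
        rw [map_add, Prod.mk_add_mk, add_zero] }
  have hext : IsExtension proj incl := by
    refine ⟨?_, ?_, ?_, ?_⟩
    · intro b
      obtain ⟨c, hc⟩ := hπ (g b)
      exact ⟨⟨(c, b), (hE _).mpr hc⟩, rfl⟩
    · intro l l' hll
      have h1 := congrArg (fun x : E => (x : C × B₀).1) hll
      exact hw_inj h1
    · intro x
      constructor
      · intro hx
        have hx2 : (x : C × B₀).2 = 0 := hx
        have h1 := (hE _).mp x.2
        rw [hx2, map_zero] at h1
        obtain ⟨l, hl⟩ := hw_surj _ h1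
        refine ⟨l, Subtype.ext ?_⟩
        show (w l, (0 : B₀)) = (x : C × B₀)
        rw [hl, ← hx2]
      · rintro ⟨l, rfl⟩
        rfl
    · intro x l
      apply Subtype.ext
      show (x : C × B₀) * (w l, (0 : B₀)) = (w ((x : C × B₀).2 • l), (0 : B₀))
      rw [hw (x : C × B₀).1 (x : C × B₀).2 l ((hE _).mp x.2)]
      ext
      · rfl
      · show (x : C × B₀).2 * 0 = 0
        rw [mul_zero]
  let X : Ext k B₀ L := { E := E, proj := proj, incl := incl, isExtension := hext }
  obtain ⟨s, hs⟩ := exists_section_of_subsingleton h X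
  refine ⟨(AlgHom.fst k C B₀).comp (E.val.comp s), fun b => ?_⟩
  have h1 := (hE _).mp (s b).2
  have h2 : ((s b : E) : C × B₀).2 = b := hs b
  rw [h2] at h1
  exact h1

end Groth.Agent.H6.RigidLift
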