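import Mathlib
import Groth.Prelude.Def_CotT
import Groth.Agent.Lib.Helper6.RigidLift

set_option autoImplicit false

universe u

noncomputable section

namespace Groth.Agent.H6.RigidSec

variable {k B B₀ : Type u} [CommRing k] [CommRing B] [CommRing B₀] [Algebra k B] [Algebra k B₀]
variable (τ : B) (e : (B ⧸ Ideal.span {τ}) ≃ₐ[k] B₀)

/-- compatibility of a section with the identification of the closed fibre -/
def Compat (n : ℕ) (σ : B₀ →ₐ[k] B ⧸ Ideal.span {τ ^ (n + 1)}) : Prop :=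
  ∀ b : B, ∃ c : B, σ (e (Ideal.Quotient.mk _ b)) = Ideal.Quotient.mk _ (b + τ * c)

variable {τ}

lemma pow_regular (hreg : ∀ b : B, τ * b = 0 → b = 0) (n : ℕ) (b : B) (h : τ ^ n * b = 0) : b = 0 := by
  induction n with
  | zero => simpa using h
  | succ n ih =>
    apply ih
    apply hreg
    rw [← mul_assoc, ← pow_succ']
    exact h

variable {e}

lemma exists_rep (b₀ : B₀) : ∃ b : B, e (Ideal.Quotient.mk _ b) = b₀ := by
  obtain ⟨q, rfl⟩ := e.surjective b₀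
  obtain ⟨b, rfl⟩ := Ideal.Quotient.mk_surjective q
  exact ⟨b, rfl⟩

theorem exists_section_succ (hreg : ∀ b : B, τ * b = 0 → b = 0)
    (hrigid : Subsingleton (CotT.T1 (CotT.canon k B₀) B₀)) (n : ℕ)
    (σ : B₀ →ₐ[k] B ⧸ Ideal.span {τ ^ (n + 1)}) (hσ : Compat τ e n σ) :
    ∃ σ' : B₀ →ₐ[k] B ⧸ Ideal.span {τ ^ (n + 1 + 1)}, Compat τ e (n + 1) σ' := by
  have hle : Ideal.span {τ ^ (n + 1 + 1)} ≤ Ideal.span {τ ^ (n + 1)} := by
    rw [Ideal.span_singleton_le_span_singleton]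
    exact ⟨τ, pow_succ τ (n + 1)⟩
  let π : (B ⧸ Ideal.span {τ ^ (n + 1 + 1)}) →ₐ[k] (B ⧸ Ideal.span {τ ^ (n + 1)}) :=
    Ideal.Quotient.factorₐ k hle
  have hπ : ∀ b : B, π (Ideal.Quotient.mk _ b) = Ideal.Quotient.mk _ b := fun b => rfl
  have hπs : Function.Surjective π := by
    intro q
    obtain ⟨b, rfl⟩ := Ideal.Quotient.mk_surjective q
    exact ⟨Ideal.Quotient.mk _ b, rfl⟩
  let f : B →ₗ[B] (B ⧸ Ideal.span {τ ^ (n + 1 + 1)}) :=
    (τ ^ (n + 1)) • Submodule.mkQ (Ideal.span {τ ^ (n + 1 + 1)})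
  have hf : ∀ b : B, f b = Ideal.Quotient.mk _ (τ ^ (n + 1) * b) := fun b => rfl
  have hfk : Ideal.span {τ} ≤ LinearMap.ker f := by
    rw [Ideal.span_le, Set.singleton_subset_iff]
    show f τ = 0
    rw [hf, ← pow_succ, Ideal.Quotient.eq_zero_iff_mem]
    exact Ideal.mem_span_singleton_self _
  let m : (B ⧸ Ideal.span {τ}) →ₗ[B] (B ⧸ Ideal.span {τ ^ (n + 1 + 1)}) :=
    Submodule.liftQ (Ideal.span {τ}) f hfk
  have hm : ∀ b : B, m (Ideal.Quotient.mk _ b) = Ideal.Quotient.mk _ (τ ^ (n + 1) * b) := fun b => rfl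
  let w : B₀ →+ (B ⧸ Ideal.span {τ ^ (n + 1 + 1)}) :=
    m.toAddMonoidHom.comp e.symm.toAddMonoidHom
  have hw : ∀ b : B, w (e (Ideal.Quotient.mk _ b)) = Ideal.Quotient.mk _ (τ ^ (n + 1) * b) := by
    intro b
    show m (e.symm (e (Ideal.Quotient.mk _ b))) = _
    rw [AlgEquiv.symm_apply_apply, hm]
  have hw0 : ∀ x : B₀, w x = 0 → x = 0 := by
    intro x hx
    obtain ⟨b, rfl⟩ := exists_rep (e := e) x
    rw [hw, Ideal.Quotient.eq_zero_iff_mem, Ideal.mem_span_singleton'] at hx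
    obtain ⟨d, hd⟩ := hx
    have h1 : τ ^ (n + 1) * (b - τ * d) = 0 := by
      rw [mul_sub, ← hd]
      ring
    have h2 := pow_regular hreg _ _ h1
    have h3 : b = τ * d := sub_eq_zero.mp h2
    have h4 : (Ideal.Quotient.mk (Ideal.span {τ})) b = 0 := by
      rw [Ideal.Quotient.eq_zero_iff_mem, h3]
      exact Ideal.mul_mem_right _ _ (Ideal.mem_span_singleton_self _)
    rw [h4, map_zero]
  have H1 : ∀ l, π (w l) = 0 := by
    intro l
    obtain ⟨b, rfl⟩ := exists_rep (e := e) l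
    rw [hw, hπ, Ideal.Quotient.eq_zero_iff_mem]
    exact Ideal.mul_mem_right _ _ (Ideal.mem_span_singleton_self _)
  have H2 : Function.Injective w := by
    intro x y hxy
    have : w (x - y) = 0 := by rw [map_sub, hxy, sub_self]
    exact sub_eq_zero.mp (hw0 _ this)
  have H3 : ∀ x, π x = 0 → ∃ l, w l = x := by
    intro x hx
    obtain ⟨b', rfl⟩ := Ideal.Quotient.mk_surjective x
    rw [hπ, Ideal.Quotient.eq_zero_iff_mem, Ideal.mem_span_singleton'] at hx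
    obtain ⟨d, hd⟩ := hx
    refine ⟨e (Ideal.Quotient.mk _ d), ?_⟩
    rw [hw, ← hd, mul_comm]
  have H4 : ∀ (c : B ⧸ Ideal.span {τ ^ (n + 1 + 1)}) (b : B₀) (l : B₀), π c = σ b → w (b • l) = c * w l := by
    intro c b₀ l hc
    obtain ⟨c', rfl⟩ := Ideal.Quotient.mk_surjective c
    obtain ⟨b, rfl⟩ := exists_rep (e := e) b₀
    obtain ⟨b', rfl⟩ := exists_rep (e := e) l
    obtain ⟨d, hd⟩ := hσ b
    rw [hπ, hd, Ideal.Quotient.eq, Ideal.mem_span_singleton'] at hc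
    obtain ⟨d', hd'⟩ := hc
    rw [smul_eq_mul, ← map_mul, ← map_mul, hw, hw, ← map_mul, Ideal.Quotient.eq,
      Ideal.mem_span_singleton']
    refine ⟨- b' * (d + τ ^ n * d'), ?_⟩
    have : c' = b + τ * d + d' * τ ^ (n + 1) := by rw [hd']; ring
    rw [this]
    ring
  obtain ⟨σ', hσ'⟩ := RigidLift.exists_lift (k := k) (B₀ := B₀) (L := B₀) hrigid π hπs σ w H1 H2 H3 H4
  refine ⟨σ', fun b => ?_⟩
  obtain ⟨c, hc⟩ := Ideal.Quotient.mk_surjective (σ' (e (Ideal.Quotient.mk _ b)))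
  obtain ⟨d, hd⟩ := hσ b
  have h1 := hσ' (e (Ideal.Quotient.mk _ b))
  rw [← hc, hπ, hd, Ideal.Quotient.eq, Ideal.mem_span_singleton'] at h1
  obtain ⟨d', hd'⟩ := h1
  refine ⟨d + τ ^ n * d', ?_⟩
  rw [← hc]
  congr 1
  have : c = b + τ * d + d' * τ ^ (n + 1) := by rw [hd']; ring
  rw [this]
  ring

theorem exists_section (hreg : ∀ b : B, τ * b = 0 → b = 0)
    (hrigid : Subsingleton (CotT.T1 (CotT.canon k B₀) B₀)) (n : ℕ) :
    ∃ σ : B₀ →ₐ[k] B ⧸ Ideal.span {τ ^ (n + 1)}, Compat τ e n σ := by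
  induction n with
  | zero =>
    have h0 : Ideal.span {τ} = Ideal.span {τ ^ (0 + 1)} := by rw [zero_add, pow_one]
    refine ⟨(Ideal.quotientEquivAlgOfEq k h0).toAlgHom.comp e.symm.toAlgHom, fun b => ⟨0, ?_⟩⟩
    show Ideal.quotientEquivAlgOfEq k h0 (e.symm (e (Ideal.Quotient.mk _ b))) = _
    rw [AlgEquiv.symm_apply_apply, Ideal.quotientEquivAlgOfEq_mk, mul_zero, add_zero]
  | succ n ih =>
    obtain ⟨σ, hσ⟩ := ih
    exact exists_section_succ hreg hrigid n σ hσ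

end Groth.Agent.H6.RigidSec
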